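import Groth.Statements.S2485
import Mathlib

set_option autoImplicit false
universe u
open EGA41

namespace Groth.Agent.S2485

open TensorProduct in
/-- `s = 1`: if `Ω[B⁄A] = 0`, `B` of finite type over `A`, char `p`, all `p`-th powers in the image
of `A`, then `A → B` is surjective (finite + epimorphism). -/
theorem surjective_of_pow_one (p : ℕ) [Fact p.Prime] {A B : Type u} [CommRing A] [CommRing B]
    [Algebra A B] [CharP B p] [Algebra.FiniteType A B]
    (hpow : ∀ b : B, b ^ p ∈ Set.range (algebraMap A B)) [Subsingleton (Ω[B⁄A])] :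
    Function.Surjective (algebraMap A B) := by
  have hpr : p.Prime := Fact.out
  haveI : Algebra.IsIntegral A B := ⟨fun b => by
    obtain ⟨a, ha⟩ := hpow b
    exact IsIntegral.of_pow hpr.pos (ha ▸ isIntegral_algebraMap)⟩
  haveI : Module.Finite A B := Algebra.IsIntegral.finite
  rw [← Algebra.isEpi_iff_surjective_algebraMap_of_finite, Algebra.isEpi_iff_forall_one_tmul_eq]
  intro b
  rcases subsingleton_or_nontrivial (B ⊗[A] B) with hs | hn
  · exact Subsingleton.elim _ _
  have hp0 : ((p : ℕ) : B ⊗[A] B) = 0 := by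
    have : ((p : ℕ) : B ⊗[A] B) = algebraMap B (B ⊗[A] B) (p : B) := by
      rw [map_natCast]
    rw [this, CharP.cast_eq_zero B p, map_zero]
  haveI : CharP (B ⊗[A] B) p := (CharP.charP_iff_prime_eq_zero hpr).mpr hp0
  let I := KaehlerDifferential.ideal A B
  have hI : IsIdempotentElem I :=
    (Ideal.cotangent_subsingleton_iff I).mp (inferInstanceAs (Subsingleton (Ω[B⁄A])))
  obtain ⟨e, he, hIe⟩ := (Ideal.isIdempotentElem_iff_of_fg I (KaehlerDifferential.ideal_fg A B)).mp hI
  have hnil : I ≤ nilradical (B ⊗[A] B) := by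
    rw [show I = KaehlerDifferential.ideal A B from rfl,
      ← KaehlerDifferential.span_range_eq_ideal, Ideal.span_le]
    rintro _ ⟨s, rfl⟩
    rw [SetLike.mem_coe, mem_nilradical]
    refine ⟨p, ?_⟩
    obtain ⟨a, ha⟩ := hpow s
    rw [sub_pow_char, Algebra.TensorProduct.tmul_pow, Algebra.TensorProduct.tmul_pow, one_pow, ← ha,
      Algebra.algebraMap_eq_smul_one, TensorProduct.smul_tmul, sub_self]
  have he0 : e = 0 := he.eq_zero_of_isNilpotent
    (hnil (hIe ▸ Ideal.mem_span_singleton_self e))
  have hI0 : I = ⊥ := by rw [hIe, he0]; simp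
  have := KaehlerDifferential.one_smul_sub_smul_one_mem_ideal A b
  rw [show KaehlerDifferential.ideal A B = I from rfl, hI0, Ideal.mem_bot, sub_eq_zero] at this
  exact this


/-- Let p be a prime and A → B a ring homomorphism making B an A-algebra of finite type, with B of
characteristic p, such that for some s ≥ 0 every p^s-th power of an element of B lies in the image
of A. If Ω_{B/A} = 0 then A → B is surjective. -/
theorem result (p : ℕ) [Fact p.Prime] {A B : Type u} [CommRing A] [CommRing B] [Algebra A B] [CharP B p]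
    [Algebra.FiniteType A B] (s : ℕ) (hpow : ∀ b : B, b ^ p ^ s ∈ Set.range (algebraMap A B)) [Subsingleton (Ω[B⁄A])] :
    Function.Surjective (algebraMap A B) := by
  classical
  have hpr : p.Prime := Fact.out
  -- Step 1: `A[B^p] = ⊤`
  have h1 : EGA41.pPowerSubalgebra p A B = ⊤ := by
    haveI : Algebra.FiniteType (EGA41.pPowerSubalgebra p A B) B :=
      Algebra.FiniteType.of_restrictScalars_finiteType A _ B
    haveI : Subsingleton (Ω[B⁄(EGA41.pPowerSubalgebra p A B)]) :=
      (KaehlerDifferential.map_surjective A (EGA41.pPowerSubalgebra p A B) B).subsingleton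
    have hs := surjective_of_pow_one p (A := EGA41.pPowerSubalgebra p A B) (B := B)
      (fun b => ⟨⟨b ^ p, Algebra.subset_adjoin ⟨b, rfl⟩⟩, rfl⟩)
    refine eq_top_iff.mpr fun b _ => ?_
    obtain ⟨c, rfl⟩ := hs b
    exact c.2
  -- Step 2: `A[B^(p^n)] = ⊤` for all `n`
  have h2 : ∀ n : ℕ, Algebra.adjoin A (Set.range fun b : B => b ^ p ^ n) = ⊤ := by
    intro n
    induction n with
    | zero =>
      refine eq_top_iff.mpr fun b _ => Algebra.subset_adjoin ⟨b, by simp⟩
    | succ n ih =>
      have hF : ∀ y : B, y ^ p ∈ Algebra.adjoin A (Set.range fun b : B => b ^ p ^ (n + 1)) := by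
        intro y
        have hy : y ∈ Algebra.adjoin A (Set.range fun b : B => b ^ p ^ n) := by rw [ih]; trivial
        induction hy using Algebra.adjoin_induction with
        | mem z hz =>
          obtain ⟨b, rfl⟩ := hz
          refine Algebra.subset_adjoin ⟨b, ?_⟩
          simp only [pow_succ, pow_mul]
        | algebraMap a => rw [← map_pow]; exact Subalgebra.algebraMap_mem _ _
        | add y z _ _ hy hz => rw [add_pow_char]; exact add_mem hy hz
        | mul y z _ _ hy hz => rw [mul_pow]; exact mul_mem hy hz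
      rw [eq_top_iff, ← h1]
      unfold EGA41.pPowerSubalgebra
      refine Algebra.adjoin_le ?_
      rintro _ ⟨b, rfl⟩
      exact hF b
  intro b
  have hb : b ∈ Algebra.adjoin A (Set.range fun b : B => b ^ p ^ s) := by rw [h2 s]; trivial
  have hle : Algebra.adjoin A (Set.range fun b : B => b ^ p ^ s) ≤ (Algebra.ofId A B).range := by
    refine Algebra.adjoin_le ?_
    rintro _ ⟨b, rfl⟩
    obtain ⟨a, ha⟩ := hpow b
    exact ⟨a, ha⟩
  obtain ⟨a, ha⟩ := hle hb
  exact ⟨a, ha⟩

end Groth.Agent.S2485
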