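import Groth.Statements.S2486
import Groth.Agent.Lib.Helper13.PBasis
import Groth.Agent.S2485
open Groth.Agent.Lib.Helper13.PBasis

set_option autoImplicit false
universe u
open EGA41

namespace Groth.Agent.S2486

/-- Let p be a prime, B an A-algebra of characteristic p and (x_α) a family of elements of B. Then (a) B
is generated as an A[B^p]-algebra by the x_α if and only if (b) (x_α) is a system of p-generators of
B over A; these imply (c) Ω_{B/A} is generated by the d x_α; and if B is an A[B^p]-algebra of finite
type, (c) implies (a). -/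
theorem result (p : ℕ) [Fact p.Prime] {A B : Type u} [CommRing A] [CommRing B] [Algebra A B] [CharP B p]
    {ι : Type u} (x : ι → B) :
    (Algebra.adjoin (EGA41.pPowerSubalgebra p A B) (Set.range x) = ⊤ ↔ EGA41.IsPGenerating p A x) ∧
    (EGA41.IsPGenerating p A x → Submodule.span B (Set.range fun i => KaehlerDifferential.D A B (x i)) = ⊤) ∧
    (Algebra.FiniteType (EGA41.pPowerSubalgebra p A B) B →
      Submodule.span B (Set.range fun i => KaehlerDifferential.D A B (x i)) = ⊤ → EGA41.IsPGenerating p A x) := by
  classical
  refine ⟨adjoin_eq_top_iff_pGenerating p x, span_D_eq_top_of_pGenerating p x, ?_⟩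
  intro hft hspan
  rw [← adjoin_eq_top_iff_pGenerating p x]
  set C := EGA41.pPowerSubalgebra p A B with hC
  set B' : Subalgebra C B := Algebra.adjoin C (Set.range x) with hB'
  haveI : Algebra.FiniteType B' B := Algebra.FiniteType.of_restrictScalars_finiteType C B' B
  have hzero : ∀ η : Ω[B⁄A], KaehlerDifferential.map A B' B B η = 0 := by
    intro η
    have hη : η ∈ Submodule.span B (Set.range fun i => KaehlerDifferential.D A B (x i)) := by
      rw [hspan]; trivial
    induction hη using Submodule.span_induction with
    | mem y hy =>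
      obtain ⟨i, rfl⟩ := hy
      rw [KaehlerDifferential.map_D]
      have : x i = algebraMap B' B ⟨x i, Algebra.subset_adjoin ⟨i, rfl⟩⟩ := rfl
      rw [Algebra.algebraMap_self, RingHom.id_apply, this, Derivation.map_algebraMap]
    | zero => exact map_zero _
    | add y z _ _ hy hz => rw [map_add, hy, hz, add_zero]
    | smul b y _ hy => rw [map_smul, hy, smul_zero]
  haveI : Subsingleton (Ω[B⁄B']) := by
    refine ⟨fun a b => ?_⟩
    obtain ⟨a', rfl⟩ := KaehlerDifferential.map_surjective A B' B a
    obtain ⟨b', rfl⟩ := KaehlerDifferential.map_surjective A B' B b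
    rw [hzero, hzero]
  have hs := Groth.Agent.S2485.surjective_of_pow_one p (A := B') (B := B)
    (fun b => ⟨⟨b ^ p, Subalgebra.algebraMap_mem B'
      (⟨b ^ p, Algebra.subset_adjoin ⟨b, rfl⟩⟩ : C)⟩, rfl⟩)
  refine eq_top_iff.mpr fun b _ => ?_
  obtain ⟨c, rfl⟩ := hs b
  exact c.2

end Groth.Agent.S2486
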