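import Groth.Statements.S5133
import Groth.Agent.S2121
-- import your own Groth.Agent.* helpers here

set_option autoImplicit false
open CategoryTheory CategoryTheory.Limits AlgebraicGeometry
universe u
open SGA1

namespace Groth.Agent.S5133

/-- For a quasi-compact morphism f : X ⟶ Y and a flat surjective base change g : Y' ⟶ Y, with no
quasi-compactness asked of g, if the base change of f along g is a homeomorphism onto its image then
f is a homeomorphism onto its image. -/
theorem result {X Y Y' : Scheme.{u}} (f : X ⟶ Y)
    (g : Y' ⟶ Y) [QuasiCompact f] [Flat g] [Surjective g]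
    (h : Topology.IsEmbedding (pullback.snd f g).base) : Topology.IsEmbedding f.base := by
  -- key: specializations are reflected
  have key : ∀ (x z : X), f z ⤳ f x → z ⤳ x := by
    intro x z hzx
    obtain ⟨y', hy'⟩ := g.surjective (f x)
    obtain ⟨y'', hy''1, hy''2⟩ := (Flat.generalizingMap g) (a := y') (b := f z) (hy' ▸ hzx)
    obtain ⟨x', hx'1, hx'2⟩ :=
      Scheme.Pullback.exists_preimage_pullback (f := f) (g := g) x y' hy'.symm
    obtain ⟨z', hz'1, hz'2⟩ :=
      Scheme.Pullback.exists_preimage_pullback (f := f) (g := g) z y'' hy''2.symm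
    have h1 : (pullback.snd f g) z' ⤳ (pullback.snd f g) x' := by
      rw [hz'2, hx'2]; exact hy''1
    have h2 : z' ⤳ x' := h.isInducing.specializes_iff.mp h1
    have h3 := h2.map (pullback.fst f g).continuous
    rwa [hz'1, hx'1] at h3
  have hinj : Function.Injective f.base := by
    intro x₁ x₂ h12
    have h1 : x₁ ⤳ x₂ := key x₂ x₁ (h12 ▸ specializes_rfl)
    have h2 : x₂ ⤳ x₁ := key x₁ x₂ (h12 ▸ specializes_rfl)
    exact (h1.antisymm h2).eq
  refine ⟨⟨?_⟩, hinj⟩
  -- the topology is induced
  apply le_antisymm
  · exact f.continuous.le_induced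
  · intro s hs
    rw [isOpen_induced_iff]
    -- `Z = sᶜ` closed
    let Z : TopologicalSpace.Closeds X := ⟨sᶜ, hs.isClosed_compl⟩
    let I := Scheme.IdealSheafData.vanishingIdeal Z
    have hrange : Set.range (I.subschemeι ≫ f) = f '' sᶜ := by
      rw [Scheme.Hom.comp_base, TopCat.coe_comp, Set.range_comp,
        Scheme.IdealSheafData.range_subschemeι]
      simp [I, Z]
    refine ⟨(closure (f '' sᶜ))ᶜ, isClosed_closure.isOpen_compl, ?_⟩
    ext x
    simp only [Set.mem_preimage, Set.mem_compl_iff]
    constructor
    · intro hx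
      by_contra hxs
      exact hx (subset_closure ⟨x, hxs, rfl⟩)
    · intro hxs hx
      rw [← hrange] at hx
      obtain ⟨w, hw⟩ :=
        Groth.Agent.S2121.exists_specializes_of_mem_closure_range (I.subschemeι ≫ f) (f x) hx
      have hw' : f (I.subschemeι w) ⤳ f x := hw
      have h1 : I.subschemeι w ⤳ x := key x _ hw'
      have h2 : I.subschemeι w ∈ sᶜ := by
        have : I.subschemeι w ∈ Set.range I.subschemeι := ⟨w, rfl⟩
        rw [Scheme.IdealSheafData.range_subschemeι] at this
        simpa [I, Z] using this
      have h3 : x ∈ sᶜ := h1.mem_closed hs.isClosed_compl h2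
      exact h3 hxs

end Groth.Agent.S5133
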