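import Groth.Statements.S4639
import Groth.Agent.S5133
-- import your own Groth.Agent.* helpers here

set_option autoImplicit false
open CategoryTheory AlgebraicGeometry
universe u
open FDesc

namespace Groth.Agent.S4639

open CategoryTheory.Limits

lemma quasiCompact_of_surjective_of_pullback_fst {X Y Z : Scheme.{u}} (f : X ⟶ Z) (g : Y ⟶ Z)
    [Surjective f] [QuasiCompact f] (h : QuasiCompact (pullback.fst f g)) : QuasiCompact g := by
  refine ⟨fun U hU hU' => ?_⟩
  have h1 : IsCompact (f ⁻¹' U) := QuasiCompact.isCompact_preimage U hU hU'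
  have h2 : IsCompact ((pullback.fst f g) ⁻¹' (f ⁻¹' U)) :=
    QuasiCompact.isCompact_preimage _ (hU.preimage f.continuous) h1
  have h3 : g ⁻¹' U = (pullback.snd f g) '' ((pullback.fst f g) ⁻¹' (f ⁻¹' U)) := by
    ext y
    constructor
    · intro hy
      obtain ⟨x, hx⟩ := f.surjective (g y)
      obtain ⟨a, ha1, ha2⟩ := Scheme.Pullback.exists_preimage_pullback (f := f) (g := g) x y hx
      refine ⟨a, ?_, ha2⟩
      change f ((pullback.fst f g) a) ∈ U
      rw [ha1, hx]
      exact hy
    · rintro ⟨a, ha, rfl⟩
      change g ((pullback.snd f g) a) ∈ U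
      rw [← Scheme.Hom.comp_apply, ← pullback.condition, Scheme.Hom.comp_apply]
      exact ha
  rw [h3]
  exact h2.image (pullback.snd f g).continuous

/-- The property of being quasi-compact and universally bicontinuous (every base change is a
homeomorphism onto its image) descends along a surjective, flat and quasi-compact base change. -/
theorem result :
    MorphismProperty.DescendsAlong
      (MorphismProperty.universally (topologically (fun f => Topology.IsEmbedding f)) ⊓ @QuasiCompact : MorphismProperty Scheme.{u})
      (@Surjective ⊓ @Flat ⊓ @QuasiCompact : MorphismProperty Scheme.{u}) := by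
  apply MorphismProperty.DescendsAlong.mk'
  intro X Y Z f g _ hf hfst
  obtain ⟨⟨hf1, hf2⟩, hf3⟩ := hf
  haveI : Surjective f := hf1
  haveI : Flat f := hf2
  haveI : QuasiCompact f := hf3
  have hqc : QuasiCompact g := quasiCompact_of_surjective_of_pullback_fst f g hfst.2
  refine ⟨?_, hqc⟩
  intro T' T i₁ i₂ g' hpb
  haveI : QuasiCompact g' := MorphismProperty.of_isPullback (P := @QuasiCompact) hpb.flip hqc
  haveI : Flat (pullback.fst i₂ f) := MorphismProperty.pullback_fst (P := @Flat) i₂ f hf2
  haveI : Surjective (pullback.fst i₂ f) :=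
    MorphismProperty.pullback_fst (P := @Surjective) i₂ f hf1
  have a := IsPullback.of_hasPullback g' (pullback.fst i₂ f)
  have c := IsPullback.of_hasPullback i₂ f
  have big := a.paste_horiz hpb.flip
  rw [c.w] at big
  have sq := IsPullback.of_bot' big.flip (IsPullback.of_hasPullback f g)
  have hemb : Topology.IsEmbedding (pullback.snd g' (pullback.fst i₂ f)).base :=
    hfst.1 _ _ _ sq
  exact Groth.Agent.S5133.result g' (pullback.fst i₂ f) hemb

end Groth.Agent.S4639
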