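import Groth.Statements.S4630
import Mathlib
import Groth.Agent.Lib.Helper62.CommonPoint
import Groth.Agent.Lib.Helper62.TowerLoc

set_option autoImplicit false
set_option linter.style.haveILetI false
open CategoryTheory AlgebraicGeometry
universe u
open FBase

namespace Groth.Agent.S4630

open TensorProduct IsLocalRing Groth.Agent.Lib.Helper62

theorem descent {k K : Type u} [Field k] [Field K] [Algebra k K]
    {X : Scheme.{u}} (f : X ⟶ Spec (CommRingCat.of k)) (x' : ↥(FBase.bc f K))
    (h : FBase.IsGeomPtIntegralAt (FBase.bcStr f K) x') :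
    FBase.IsGeomPtIntegralAt f ((FBase.bcπ f K) x') := by
  letI : X.Over (Spec (CommRingCat.of k)) := ⟨f⟩
  intro K₂ _ _ y hy
  obtain ⟨L, _, _, z, -, hz, θ, hθflat, hθloc⟩ :=
    CommonPoint.exists_common_point k X K K₂ x' y hy
  haveI hdom : IsDomain ((BCStalk.bc (Curv2.bcSnd k X K) L).presheaf.stalk z) := h L z hz
  letI := θ.toAlgebra
  haveI : IsLocalHom (algebraMap ((Curv2.bc k X K₂).presheaf.stalk y)
      ((BCStalk.bc (Curv2.bcSnd k X K) L).presheaf.stalk z)) := hθloc
  haveI : Module.Flat ((Curv2.bc k X K₂).presheaf.stalk y)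
      ((BCStalk.bc (Curv2.bcSnd k X K) L).presheaf.stalk z) := hθflat
  haveI : Module.FaithfullyFlat ((Curv2.bc k X K₂).presheaf.stalk y)
      ((BCStalk.bc (Curv2.bcSnd k X K) L).presheaf.stalk z) :=
    Module.FaithfullyFlat.of_flat_of_isLocalHom
  have hinj : Function.Injective θ :=
    FaithfulSMul.algebraMap_injective ((Curv2.bc k X K₂).presheaf.stalk y)
      ((BCStalk.bc (Curv2.bcSnd k X K) L).presheaf.stalk z)
  exact Function.Injective.isDomain θ hinj

theorem ascent {k K : Type u} [Field k] [Field K] [Algebra k K]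
    {X : Scheme.{u}} (f : X ⟶ Spec (CommRingCat.of k)) (x' : ↥(FBase.bc f K))
    (h : FBase.IsGeomPtIntegralAt f ((FBase.bcπ f K) x')) :
    FBase.IsGeomPtIntegralAt (FBase.bcStr f K) x' := by
  intro L _ _ z hz
  letI algO : Algebra k (X.presheaf.stalk ((BCStalk.bcπ f K).base x')) :=
    (BCStalk.stalkStr f ((BCStalk.bcπ f K).base x')).toAlgebra
  letI algS : Algebra K ((BCStalk.bc f K).presheaf.stalk x') :=
    (BCStalk.stalkStr (BCStalk.bcσ f K) x').toAlgebra
  obtain ⟨M', hM'prime, hM', ⟨e'⟩⟩ := BCStalk.exists_prime_of_point_algEquiv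
    f K x' _ rfl rfl rfl
  obtain ⟨P', hP'prime, hP', ⟨ez⟩⟩ := BCStalk.exists_prime_of_point (BCStalk.bcσ f K) L z x' hz rfl
  let E : L ⊗[K] ((BCStalk.bc f K).presheaf.stalk x') ≃ₐ[L] L ⊗[K] Localization.AtPrime M' :=
    Algebra.TensorProduct.congr AlgEquiv.refl e'
  let P : Ideal (L ⊗[K] Localization.AtPrime M') := P'.comap (E.symm.toRingEquiv : _ →+* _)
  haveI : P.IsPrime := Ideal.comap_isPrime _ _
  obtain ⟨eP⟩ := TowerLoc.nonempty_ringEquiv_localization_comap E.symm.toRingEquiv P'
  have hP : P.comap (Algebra.TensorProduct.includeRight (R := K) (A := L)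
      (B := Localization.AtPrime M')).toRingHom = maximalIdeal (Localization.AtPrime M') := by
    ext b
    simp only [Ideal.mem_comap, P]
    change E.symm (1 ⊗ₜ b) ∈ P' ↔ _
    have : E.symm (1 ⊗ₜ b) = (Algebra.TensorProduct.includeRight (R := K) (A := L)
        (B := (BCStalk.bc f K).presheaf.stalk x')).toRingHom (e'.symm b) := by
      simp [E]
    rw [this, ← Ideal.mem_comap, hP', mem_maximalIdeal, mem_maximalIdeal, mem_nonunits_iff,
      mem_nonunits_iff, not_iff_not]
    exact ⟨fun h => by simpa using h.map e', fun h => h.map e'.symm⟩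
  letI : Algebra k L := ((algebraMap K L).comp (algebraMap k K)).toAlgebra
  haveI : IsScalarTower k K L := .of_algebraMap_eq' rfl
  obtain ⟨P₀, hP₀prime, hP₀, ⟨e₀⟩⟩ := TowerLoc.exists_prime_tower M' hM' P hP
  obtain ⟨w, hw, ⟨ew⟩⟩ := BCStalk.exists_point_of_prime f L _ rfl P₀ hP₀
  haveI : IsDomain ((BCStalk.bc f L).presheaf.stalk w) := h L w hw
  -- chain of isomorphisms
  let e : (BCStalk.bc (BCStalk.bcσ f K) L).presheaf.stalk z ≃+* (BCStalk.bc f L).presheaf.stalk w :=
    ez.trans (eP.symm.trans (e₀.symm.trans ew.symm))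
  exact e.toMulEquiv.isDomain _

theorem main {k K : Type u} [Field k] [Field K] [Algebra k K]
    {X : Scheme.{u}} (f : X ⟶ Spec (CommRingCat.of k)) (x' : ↥(FBase.bc f K)) :
    FBase.IsGeomPtIntegralAt f ((FBase.bcπ f K) x') ↔
      FBase.IsGeomPtIntegralAt (FBase.bcStr f K) x' :=
  ⟨ascent f x', descent f x'⟩


/-- Let X be a scheme over a field k, k' an extension field of k, and x' a point of X' = X ⊗_k k' lying
over the point x of X. Then X is geometrically pointwise integral at x over k if and only if X' is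
geometrically pointwise integral at x' over k'. -/
theorem result {k K : Type u} [Field k] [Field K] [Algebra k K]
    {X : Scheme.{u}} (f : X ⟶ Spec (CommRingCat.of k)) (x' : ↥(FBase.bc f K)) :
    FBase.IsGeomPtIntegralAt f ((FBase.bcπ f K) x') ↔ FBase.IsGeomPtIntegralAt (FBase.bcStr f K) x' := by
  exact main f x'

end Groth.Agent.S4630
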