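import Groth.Statements.S4631
import Mathlib
import Groth.Agent.Lib.Helper62.BCStalk
import Groth.Agent.Lib.Helper21.PrimaryGeom
import Groth.Agent.S2535
import Groth.Agent.S2536

set_option autoImplicit false
set_option linter.style.haveILetI false
open CategoryTheory AlgebraicGeometry
universe u
open FBase

namespace Groth.Agent.S4631

open TensorProduct Groth.Agent.Lib.Helper62 CategoryTheory.Limits

/-- over an algebraically closed field, the tensor product of two field extensions is a domain. -/
theorem isDomain_tensor_field (k : Type u) [Field k] [IsAlgClosed k] (F K : Type u) [Field F]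
    [Field K] [Algebra k F] [Algebra k K] : IsDomain (F ⊗[k] K) := by
  have hsep : separableClosure k F = ⊥ := by
    rw [eq_bot_iff]
    intro x hx
    have hxs : IsSeparable k x := (mem_separableClosure_iff).mp hx
    have hint : IsIntegral k x := hxs.isIntegral
    have h1 : (minpoly k x).degree = 1 :=
      IsAlgClosed.degree_eq_one_of_irreducible k (minpoly.irreducible hint)
    obtain ⟨y, hy⟩ := minpoly.mem_range_of_degree_eq_one k x h1
    exact IntermediateField.mem_bot.mpr ⟨y, hy⟩
  have hGI := Groth.Agent.Lib.Helper21.geometricallyIrreducible_SpecMap_of_separableClosure_eq_bot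
    k F hsep
  have h1 : IrreducibleSpace ↥(pullback (Spec.map (CommRingCat.ofHom (algebraMap k F)))
      (Spec.map (CommRingCat.ofHom (algebraMap k K)))) :=
    pullback_of_geometrically hGI.1 K _
  have e := pullbackSpecIso k F K
  haveI : IrreducibleSpace ↥(Spec (CommRingCat.of (F ⊗[k] K))) :=
    ObjectProperty.prop_of_iso (P := fun X : Scheme.{u} => IrreducibleSpace X) e h1
  haveI : Algebra.IsGeometricallyReduced k F :=
    Groth.Agent.S2535.isGeometricallyReduced_of_perfectField k F
  haveI h2 : _root_.IsReduced (K ⊗[k] F) := Groth.Agent.S2536.isReduced_tensorProduct_field k F K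
  haveI : _root_.IsReduced (F ⊗[k] K) :=
    isReduced_of_injective (Algebra.TensorProduct.comm k F K).toRingHom
      (Algebra.TensorProduct.comm k F K).injective
  haveI : AlgebraicGeometry.IsReduced (Spec (CommRingCat.of (F ⊗[k] K))) := inferInstance
  haveI : IsIntegral (Spec (CommRingCat.of (F ⊗[k] K))) :=
    isIntegral_of_irreducibleSpace_of_isReduced _
  exact (affine_isIntegral_iff (CommRingCat.of (F ⊗[k] K))).mp this

/-- over an algebraically closed field, the base change of a domain to a field is a domain. -/
theorem isDomain_tensor (k : Type u) [Field k] [IsAlgClosed k] (K O : Type u) [Field K]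
    [CommRing O] [IsDomain O] [Algebra k K] [Algebra k O] : IsDomain (K ⊗[k] O) := by
  haveI := isDomain_tensor_field k (FractionRing O) K
  let φ : K ⊗[k] O →ₐ[k] FractionRing O ⊗[k] K :=
    ((Algebra.TensorProduct.comm k K (FractionRing O)).toAlgHom).comp
      (Algebra.TensorProduct.map (AlgHom.id k K) (IsScalarTower.toAlgHom k O (FractionRing O)))
  have hφ : Function.Injective φ := by
    refine (Algebra.TensorProduct.comm k K (FractionRing O)).injective.comp ?_
    exact Module.Flat.lTensor_preserves_injective_linearMap
      (IsScalarTower.toAlgHom k O (FractionRing O)).toLinearMap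
      (IsFractionRing.injective O (FractionRing O))
  exact hφ.isDomain φ.toRingHom

/-- a local ring embeds in the localization of `k ⊗ O` at the prime corresponding to the maximal
ideal. -/
theorem exists_prime_lid (k : Type u) [Field k] (O : Type u) [CommRing O] [IsLocalRing O]
    [Algebra k O] :
    ∃ (M : Ideal (k ⊗[k] O)) (_ : M.IsPrime),
      M.comap (Algebra.TensorProduct.includeRight (R := k) (A := k) (B := O)).toRingHom =
        IsLocalRing.maximalIdeal O ∧
      ∃ ψ : O →+* Localization.AtPrime M, Function.Injective ψ := by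
  let e0 : k ⊗[k] O ≃ₐ[k] O := Algebra.TensorProduct.lid k O
  let M : Ideal (k ⊗[k] O) := (IsLocalRing.maximalIdeal O).comap e0.toRingHom
  haveI : M.IsPrime := Ideal.comap_isPrime _ _
  have hM : M.comap (Algebra.TensorProduct.includeRight (R := k) (A := k) (B := O)).toRingHom =
      IsLocalRing.maximalIdeal O := by
    ext a
    simp only [Ideal.mem_comap, M]
    change e0 (1 ⊗ₜ a) ∈ _ ↔ _
    simp [e0]
  refine ⟨M, inferInstance, hM, (algebraMap (k ⊗[k] O) (Localization.AtPrime M)).comp
    e0.symm.toRingHom, ?_⟩
  rw [injective_iff_map_eq_zero]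
  intro a ha
  have h1 : algebraMap (k ⊗[k] O) (Localization.AtPrime M) (e0.symm a) = 0 := ha
  rw [IsLocalization.map_eq_zero_iff M.primeCompl] at h1
  obtain ⟨s, hs⟩ := h1
  have hs1 : e0 (s : k ⊗[k] O) ∉ IsLocalRing.maximalIdeal O := s.2
  have hunit : IsUnit (e0 (s : k ⊗[k] O)) := by
    by_contra hne
    exact hs1 ((IsLocalRing.mem_maximalIdeal _).mpr hne)
  have h2 : e0 (s : k ⊗[k] O) * a = 0 := by
    have := congr(e0 $hs)
    simpa using this
  exact (hunit.mul_right_eq_zero).mp h2

theorem forward {k : Type u} [Field k] {X : Scheme.{u}}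
    (f : X ⟶ Spec (CommRingCat.of k)) (x : X) (h : FBase.IsGeomPtIntegralAt f x) :
    IsDomain ↑(X.presheaf.stalk x) := by
  letI : Algebra k (X.presheaf.stalk x) := (BCStalk.stalkStr f x).toAlgebra
  obtain ⟨M, hMp, hM, ψ, hψ⟩ := exists_prime_lid k (X.presheaf.stalk x)
  obtain ⟨x', hx', ⟨e⟩⟩ := BCStalk.exists_point_of_prime f k x rfl M hM
  haveI : IsDomain ((BCStalk.bc f k).presheaf.stalk x') := h k x' hx'
  haveI : IsDomain (Localization.AtPrime M) := e.symm.injective.isDomain e.symm.toRingHom
  exact hψ.isDomain ψ

theorem backward {k : Type u} [Field k] [IsAlgClosed k] {X : Scheme.{u}}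
    (f : X ⟶ Spec (CommRingCat.of k)) (x : X) [IsDomain ↑(X.presheaf.stalk x)] :
    FBase.IsGeomPtIntegralAt f x := by
  intro K _ _ x' hx'
  letI : Algebra k (X.presheaf.stalk x) := (BCStalk.stalkStr f x).toAlgebra
  obtain ⟨M, hM, -, ⟨e⟩⟩ := BCStalk.exists_prime_of_point f K x' x hx' rfl
  haveI : IsDomain (K ⊗[k] X.presheaf.stalk x) := isDomain_tensor k K (X.presheaf.stalk x)
  haveI : IsDomain (Localization.AtPrime M) :=
    IsLocalization.isDomain_localization M.primeCompl_le_nonZeroDivisors
  exact e.injective.isDomain e.toRingHom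


/-- Let X be a scheme over an algebraically closed field k and x a point of X. Then X is geometrically
pointwise integral at x over k if and only if the local ring of X at x is a domain. -/
theorem result {k : Type u} [Field k] [IsAlgClosed k] {X : Scheme.{u}}
    (f : X ⟶ Spec (CommRingCat.of k)) (x : X) :
    FBase.IsGeomPtIntegralAt f x ↔ IsDomain ↑(X.presheaf.stalk x) := by
  exact ⟨forward f x, fun h => backward f x⟩

end Groth.Agent.S4631
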