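import Groth.Statements.S4618
import Groth.Agent.Lib.Helper21.AlgClosedGeom

set_option autoImplicit false
open CategoryTheory AlgebraicGeometry
universe u
open FBase

namespace Groth.Agent.S4618

/-- Let X be a scheme over a field k, K any extension field of k and Ω an algebraically closed extension
field of k. Then the set of connected components of X ⊗_k K has cardinality at most that of the set
of connected components of X ⊗_k Ω. In particular the cardinality of the set of connected components
of X ⊗_k Ω does not depend on the algebraically closed extension Ω. -/
theorem result {k K Ω : Type u} [Field k] [Field K] [Algebra k K]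
    [Field Ω] [Algebra k Ω] [IsAlgClosed Ω] {X : Scheme.{u}} (f : X ⟶ Spec (CommRingCat.of k)) :
    Cardinal.mk (_root_.ConnectedComponents ↥(FBase.bc f K)) ≤ Cardinal.mk (_root_.ConnectedComponents ↥(FBase.bc f Ω)) := by
  obtain ⟨W, q, p, hq, hqo, hp⟩ := Groth.Agent.Lib.Helper21.exists_dominating (K := K) (Ω := Ω) f
  have hqc : GeometricallyConnected q :=
    Groth.Agent.Lib.Helper21.geometricallyConnected_of_geometricallyIrreducible q
  have e := @Scheme.Hom.connectedComponentsHomeomorph _ _ q hqc hqo
  have h1 : Cardinal.mk (_root_.ConnectedComponents ↥W) =
      Cardinal.mk (_root_.ConnectedComponents ↥(FBase.bc f Ω)) :=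
    Cardinal.mk_congr e.toEquiv
  rw [← h1]
  exact Groth.Agent.Lib.Helper21.mk_connectedComponents_le_of_surjective p.continuous p.surjective

end Groth.Agent.S4618
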