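import Groth.Statements.S2556
import Mathlib
import Groth.Agent.Lib.Helper82.ChevalleyOpen
-- import your own Groth.Agent.* helpers here

set_option autoImplicit false
open CategoryTheory AlgebraicGeometry
universe u
open EGA43

namespace Groth.Agent.S2556
set_option linter.style.haveILetI false
open Groth.Agent.Lib.Helper82.ChevalleyPt Groth.Agent.Lib.Helper82.ChevalleyComp
open Groth.Agent.Lib.Helper82.ChevalleyOpen

/-- Suppose Y is a locally Noetherian scheme whose local rings are all geometrically unibranch, and f :
X ⟶ Y is locally of finite type. Then f is universally open exactly when its underlying map of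
spaces is open. -/
theorem result {X Y : Scheme.{u}} [IsLocallyNoetherian Y]
    (hY : ∀ y : Y, CAlg2.IsGeomUnibranch (Y.presheaf.stalk y)) (f : X ⟶ Y) [LocallyOfFiniteType f] :
    UniversallyOpen f ↔ IsOpenMap f.base := by
  constructor
  · intro h
    exact f.isOpenMap
  · intro h
    apply universallyOpen_of_forall_isUnivOpenAt
    intro x
    apply isUnivOpenAt_of_forall_isOpenAt f x (hY _)
    intro ζ _ _ U hU
    obtain ⟨U', hU'U, hU'o, hζU'⟩ := mem_nhds_iff.mp hU
    exact Filter.mem_of_superset ((h U' hU'o).mem_nhds ⟨ζ, hζU', rfl⟩) (Set.image_mono hU'U)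

end Groth.Agent.S2556
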