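import Groth.Statements.S2558
import Groth.Agent.Lib.Helper24.UnivOpenAffineSpace
-- import your own Groth.Agent.* helpers here

set_option autoImplicit false
open CategoryTheory AlgebraicGeometry
universe u
open EGA43

namespace Groth.Agent.S2558

open CategoryTheory.Limits in
/-- Let f : X ⟶ Y be locally of finite presentation. Suppose that for every irreducible scheme Y' and
every morphism of finite type g : Y' ⟶ Y, each irreducible component of X ×_Y Y' has dense image in
Y'. Then f is universally open. -/
theorem result {X Y : Scheme.{u}} (f : X ⟶ Y) [LocallyOfFinitePresentation f]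
    (h : ∀ (Y' : Scheme.{u}) (g : Y' ⟶ Y) [IrreducibleSpace Y'] [LocallyOfFiniteType g] [QuasiCompact g],
      ∀ Z ∈ irreducibleComponents (↥(pullback f g) : Type u), Dense ((pullback.snd f g).base '' Z)) :
    UniversallyOpen f := by
  refine Groth.Agent.Lib.Helper24.UnivOpenAffineSpace.universallyOpen_of_isOpenMap_map f
    fun n _ ↦ ?_
  set σ := ULift.{u} (Fin n) with hσ
  have hpb := AffineSpace.isPullback_map (n := σ) f
  have : LocallyOfFinitePresentation (AffineSpace.map σ f) :=
    MorphismProperty.of_isPullback hpb.flip inferInstance
  refine isOpenMap_of_generalizingMap _ ?_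
  intro x y' hy'
  -- the reduced closed subscheme on the closure of `y'`
  let W : TopologicalSpace.Closeds (AffineSpace σ Y) := ⟨closure {y'}, isClosed_closure⟩
  let I := Scheme.IdealSheafData.vanishingIdeal W
  let ι : I.subscheme ⟶ AffineSpace σ Y := I.subschemeι
  have hrange : Set.range ι = closure {y'} := by
    rw [Scheme.IdealSheafData.range_subschemeι, Scheme.IdealSheafData.coe_support_vanishingIdeal]
    rfl
  have hirr : IrreducibleSpace I.subscheme := by
    have h1 : IrreducibleSpace ↥(Set.range ι) := by
      rw [hrange]
      exact Subtype.irreducibleSpace isIrreducible_singleton.closure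
    exact ι.isEmbedding.toHomeomorph.irreducibleSpace_iff.mpr h1
  let g : I.subscheme ⟶ Y := ι ≫ (AffineSpace σ Y ↘ Y)
  have hfin : Finite σ := inferInstanceAs (Finite (ULift.{u} (Fin n)))
  have : LocallyOfFiniteType g := inferInstance
  have : QuasiCompact g := inferInstance
  -- the comparison map to the affine space over `X`
  let q : Limits.pullback f g ⟶ AffineSpace σ X :=
    hpb.lift (Limits.pullback.snd f g ≫ ι) (Limits.pullback.fst f g)
      (by rw [Category.assoc]; exact Limits.pullback.condition.symm)
  have hq1 : q ≫ AffineSpace.map σ f = Limits.pullback.snd f g ≫ ι := hpb.lift_fst _ _ _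
  have hq2 : q ≫ (AffineSpace σ X ↘ X) = Limits.pullback.fst f g := hpb.lift_snd _ _ _
  have hsq : IsPullback q (Limits.pullback.snd f g) (AffineSpace.map σ f) ι := by
    refine IsPullback.of_right ?_ hq1 hpb.flip
    rw [hq2]
    exact (IsPullback.of_hasPullback f g)
  -- a point of the fibre product over `x`
  obtain ⟨y₀, hy₀⟩ : (AffineSpace.map σ f) x ∈ Set.range ι := by
    rw [hrange]
    exact hy'.mem_closed isClosed_closure (subset_closure rfl)
  obtain ⟨p, hp1, hp2⟩ := Scheme.exists_preimage_of_isPullback hsq x y₀ hy₀.symm
  -- the irreducible component through `p` and its generic point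
  have hZ := h I.subscheme g (irreducibleComponent p) (irreducibleComponent_mem_irreducibleComponents p)
  have hZirr : IsIrreducible (irreducibleComponent p) := isIrreducible_irreducibleComponent
  have hZcl : IsClosed (irreducibleComponent p) := isClosed_irreducibleComponent
  obtain ⟨ζ, hζ⟩ := QuasiSober.sober hZirr hZcl
  have hζp : ζ ⤳ p := by
    rw [specializes_iff_mem_closure, hζ.def]
    exact mem_irreducibleComponent
  -- the image of `ζ` is the generic point
  have hgen : closure {(Limits.pullback.snd f g) ζ} = Set.univ := by
    have h1 : (Limits.pullback.snd f g) '' (irreducibleComponent p) ⊆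
        closure {(Limits.pullback.snd f g) ζ} := by
      rw [← hζ.def]
      exact (image_closure_subset_closure_image (Limits.pullback.snd f g).continuous).trans
        (by rw [Set.image_singleton])
    exact Set.eq_univ_of_univ_subset (hZ.closure_eq ▸ closure_minimal h1 isClosed_closure)
  have hιζ : ι ((Limits.pullback.snd f g) ζ) = y' := by
    have h1 : IsGenericPoint (ι ((Limits.pullback.snd f g) ζ)) (closure {y'}) := by
      have := (show IsGenericPoint ((Limits.pullback.snd f g) ζ) Set.univ from hgen).image
        ι.continuous
      rwa [Set.image_univ, hrange, closure_closure] at this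
    exact h1.eq (show IsGenericPoint y' (closure {y'}) from rfl)
  refine ⟨q ζ, hζp.map q.continuous |>.trans (by rw [hp1]), ?_⟩
  rw [← Scheme.Hom.comp_apply, hq1, Scheme.Hom.comp_apply, hιζ]

end Groth.Agent.S2558
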