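import Groth.Statements.S2563
import Mathlib

set_option autoImplicit false
open TensorProduct
universe u
open EGA43

namespace Groth.Agent.S2563


/-- Nilpotent Nakayama: `N ⊔ J • ⊤ = ⊤` with `J` nilpotent forces `N = ⊤`. -/
theorem eq_top_of_sup_smul_top {R : Type*} [CommRing R] {J : Ideal R} (hJ : IsNilpotent J)
    {M : Type*} [AddCommGroup M] [Module R M] (N : Submodule R M)
    (h : (⊤ : Submodule R M) ≤ N ⊔ J • ⊤) : N = ⊤ := by
  obtain ⟨n, hn⟩ := hJ
  have key : ∀ k : ℕ, (⊤ : Submodule R M) ≤ N ⊔ J ^ k • ⊤ := by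
    intro k
    induction k with
    | zero => simp
    | succ k ih =>
      calc (⊤ : Submodule R M) ≤ N ⊔ J • ⊤ := h
        _ ≤ N ⊔ J • (N ⊔ J ^ k • ⊤) := sup_le_sup_left (Submodule.smul_mono le_rfl ih) _
        _ = N ⊔ (J • N ⊔ J • (J ^ k • ⊤)) := by rw [Submodule.smul_sup]
        _ ≤ N ⊔ J ^ (k + 1) • ⊤ := by
          refine sup_le le_sup_left (sup_le ?_ ?_)
          · exact le_sup_of_le_left Submodule.smul_le_right
          · rw [← Submodule.mul_smul, ← pow_succ']
            exact le_sup_right
  have := key n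
  rw [hn, Ideal.zero_eq_bot, Submodule.bot_smul, sup_bot_eq] at this
  exact top_le_iff.1 this

/-- A surjection onto a projective module which is injective modulo a nilpotent ideal is
injective. -/
theorem injective_of_surjective_of_projective {R : Type*} [CommRing R] {I : Ideal R}
    (hI : IsNilpotent I) {P P' : Type*} [AddCommGroup P] [Module R P] [AddCommGroup P'] [Module R P']
    [Module.Projective R P'] (f : P →ₗ[R] P') (hf : Function.Surjective f)
    (hker : ∀ p : P, f p ∈ I • (⊤ : Submodule R P') → p ∈ I • (⊤ : Submodule R P)) :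
    Function.Injective f := by
  obtain ⟨s, hs⟩ := Module.projective_lifting_property f LinearMap.id hf
  let π : P →ₗ[R] P := LinearMap.id - s ∘ₗ f
  have hπK : ∀ p, π p ∈ LinearMap.ker f := by
    intro p
    have : f (s (f p)) = f p := LinearMap.congr_fun hs (f p)
    simp [π, this]
  have hπid : ∀ k ∈ LinearMap.ker f, π k = k := by
    intro k hk
    have : f k = 0 := hk
    simp [π, this]
  have hK : LinearMap.ker f ≤ I • LinearMap.ker f := by
    intro k hk
    have h1 : k ∈ I • (⊤ : Submodule R P) := hker k (by rw [LinearMap.mem_ker.1 hk]; exact zero_mem _)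
    have h2 : π k ∈ (I • (⊤ : Submodule R P)).map π := Submodule.mem_map_of_mem h1
    rw [Submodule.map_smul'', hπid k hk] at h2
    refine Submodule.smul_mono le_rfl ?_ h2
    rintro _ ⟨p, _, rfl⟩
    exact hπK p
  obtain ⟨n, hn⟩ := hI
  have key : ∀ k : ℕ, LinearMap.ker f ≤ I ^ k • LinearMap.ker f := by
    intro k
    induction k with
    | zero => simp
    | succ k ih =>
      calc LinearMap.ker f ≤ I • LinearMap.ker f := hK
        _ ≤ I • (I ^ k • LinearMap.ker f) := Submodule.smul_mono le_rfl ih
        _ = I ^ (k + 1) • LinearMap.ker f := by rw [← Submodule.mul_smul, ← pow_succ']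
  have := key n
  rw [hn, Ideal.zero_eq_bot, Submodule.bot_smul, le_bot_iff] at this
  exact LinearMap.ker_eq_bot.1 this

/-- Let A be a commutative ring, J a nilpotent ideal of A, and (B_i) a family of commutative A-algebras
such that an element of A vanishing in every B_i is zero. Let M be an A-module such that each B_i
⊗_A M is a free B_i-module and (A/J) ⊗_A M is a free (A/J)-module. Then M is a free A-module. -/
theorem result {A : Type u} [CommRing A] (J : Ideal A) (hJ : IsNilpotent J)
    {ι : Type u} (B : ι → Type u) [∀ i, CommRing (B i)] [∀ i, Algebra A (B i)]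
    (hB : ∀ a : A, (∀ i, algebraMap A (B i) a = 0) → a = 0)
    (M : Type u) [AddCommGroup M] [Module A M]
    (hfree : ∀ i, Module.Free (B i) (B i ⊗[A] M)) (hfreeJ : Module.Free (A ⧸ J) ((A ⧸ J) ⊗[A] M)) :
    Module.Free A M := by
  classical
  -- basis of `M/JM` and lifts
  let b := Module.Free.chooseBasis (A ⧸ J) ((A ⧸ J) ⊗[A] M)
  set Λ := Module.Free.ChooseBasisIndex (A ⧸ J) ((A ⧸ J) ⊗[A] M)
  have hmk : ∀ y : (A ⧸ J) ⊗[A] M, ∃ m : M, (1 : A ⧸ J) ⊗ₜ[A] m = y := by
    intro y
    induction y using TensorProduct.induction_on with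
    | zero => exact ⟨0, by simp⟩
    | tmul a m =>
      obtain ⟨a, rfl⟩ := Ideal.Quotient.mk_surjective a
      refine ⟨a • m, ?_⟩
      rw [TensorProduct.tmul_smul, TensorProduct.smul_tmul', Algebra.smul_def, mul_one]
      rfl
    | add x y hx hy =>
      obtain ⟨m, rfl⟩ := hx
      obtain ⟨m', rfl⟩ := hy
      exact ⟨m + m', by rw [TensorProduct.tmul_add]⟩
  choose e he using fun l : Λ => hmk (b l)
  let φ : (Λ →₀ A) →ₗ[A] M := Finsupp.linearCombination A e
  -- the coordinate functionals `M → A/J`
  let c : Λ → M →ₗ[A] (A ⧸ J) := fun l =>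
    ((b.coord l).restrictScalars A).comp ((TensorProduct.mk A (A ⧸ J) M) 1)
  have hc : ∀ l l', c l (e l') = if l' = l then 1 else 0 := by
    intro l l'
    simp only [c, LinearMap.comp_apply, TensorProduct.mk_apply, LinearMap.restrictScalars_apply, he,
      Module.Basis.coord_apply, Module.Basis.repr_self, Finsupp.single_apply]
  have hJ0 : ∀ (m : M), (1 : A ⧸ J) ⊗ₜ[A] m = 0 → m ∈ J • (⊤ : Submodule A M) := by
    intro m h0
    have := (TensorProduct.quotTensorEquivQuotSMul M J).map_zero
    rw [← h0, TensorProduct.quotTensorEquivQuotSMul_mk_one_tmul] at this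
    simpa using this
  -- surjectivity
  have hq : ∀ y : (A ⧸ J) ⊗[A] M, ∃ x : Λ →₀ A, (1 : A ⧸ J) ⊗ₜ[A] φ x = y := by
    intro y
    have hy : y ∈ Submodule.span (A ⧸ J) (Set.range b) := by rw [b.span_eq]; trivial
    induction hy using Submodule.span_induction with
    | mem y hy =>
      obtain ⟨l, rfl⟩ := hy
      exact ⟨Finsupp.single l 1, by simp [φ, he]⟩
    | zero => exact ⟨0, by simp⟩
    | add y z _ _ hy hz =>
      obtain ⟨x, rfl⟩ := hy
      obtain ⟨x', rfl⟩ := hz
      exact ⟨x + x', by rw [map_add, TensorProduct.tmul_add]⟩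
    | smul a y _ hy =>
      obtain ⟨x, rfl⟩ := hy
      obtain ⟨a, rfl⟩ := Ideal.Quotient.mk_surjective a
      refine ⟨a • x, ?_⟩
      rw [map_smul, TensorProduct.tmul_smul]
      rfl
  have hsurj : Function.Surjective φ := by
    rw [← LinearMap.range_eq_top]
    apply eq_top_of_sup_smul_top hJ
    intro m _
    obtain ⟨x, hx⟩ := hq ((1 : A ⧸ J) ⊗ₜ[A] m)
    have h1 : m - φ x ∈ J • (⊤ : Submodule A M) := by
      apply hJ0
      rw [TensorProduct.tmul_sub, hx, sub_self]
    have : m = φ x + (m - φ x) := by abel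
    rw [this]
    exact Submodule.add_mem_sup (LinearMap.mem_range_self _ _) h1
  -- injectivity
  have hinj : Function.Injective φ := by
    rw [← LinearMap.ker_eq_bot, eq_bot_iff]
    intro x hx
    rw [Submodule.mem_bot]
    ext l
    apply hB
    intro i
    -- notation
    let I : Ideal (B i) := J.map (algebraMap A (B i))
    have hI : IsNilpotent I := by
      obtain ⟨n, hn⟩ := hJ
      refine ⟨n, ?_⟩
      rw [← Ideal.map_pow, hn, Ideal.zero_eq_bot, Ideal.map_bot]
      rfl
    let ψ : (Λ →₀ B i) →ₗ[B i] B i ⊗[A] M :=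
      Finsupp.linearCombination (B i) (fun l => (1 : B i) ⊗ₜ[A] e l)
    have h1 : ∀ m : M, m ∈ Submodule.span A (Set.range e) → (1 : B i) ⊗ₜ[A] m ∈ Submodule.span (B i)
        (Set.range fun l => (1 : B i) ⊗ₜ[A] e l) := by
      intro m hm
      induction hm using Submodule.span_induction with
      | mem y hy =>
        obtain ⟨l, rfl⟩ := hy
        exact Submodule.subset_span ⟨l, rfl⟩
      | zero => simp
      | add y z _ _ hy hz =>
        rw [TensorProduct.tmul_add]
        exact add_mem hy hz
      | smul a y _ hy =>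
        rw [TensorProduct.tmul_smul, ← algebraMap_smul (B i) a]
        exact Submodule.smul_mem _ _ hy
    have h2 : ∀ z : B i ⊗[A] M, z ∈ Submodule.span (B i)
        (Set.range fun l => (1 : B i) ⊗ₜ[A] e l) := by
      intro z
      induction z using TensorProduct.induction_on with
      | zero => exact zero_mem _
      | add z w hz hw => exact add_mem hz hw
      | tmul r m =>
        have hm : m ∈ Submodule.span A (Set.range e) := by
          obtain ⟨x, rfl⟩ := hsurj m
          rw [← Finsupp.range_linearCombination]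
          exact LinearMap.mem_range_self _ _
        have : r ⊗ₜ[A] m = r • ((1 : B i) ⊗ₜ[A] m) := by
          rw [TensorProduct.smul_tmul', smul_eq_mul, mul_one]
        rw [this]
        exact Submodule.smul_mem _ _ (h1 m hm)
    have hψsurj : Function.Surjective ψ := by
      rw [← LinearMap.range_eq_top, Finsupp.range_linearCombination, eq_top_iff]
      intro z _
      exact h2 z
    haveI : Module.Free (B i) (B i ⊗[A] M) := hfree i
    let qm : (A ⧸ J) →ₐ[A] (B i ⧸ I) :=
      Ideal.quotientMapₐ I (Algebra.ofId A (B i)) Ideal.le_comap_map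
    let χ : Λ → (B i ⊗[A] M →ₗ[B i] (B i ⧸ I)) := fun l =>
      LinearMap.liftBaseChange (B i) (qm.toLinearMap.comp (c l))
    have hχ : ∀ l l', χ l ((1 : B i) ⊗ₜ[A] e l') = if l' = l then 1 else 0 := by
      intro l l'
      simp only [χ, LinearMap.liftBaseChange_tmul, LinearMap.comp_apply, hc, one_smul]
      split_ifs <;> simp
    have hχI : ∀ l, ∀ z ∈ I • (⊤ : Submodule (B i) (B i ⊗[A] M)), χ l z = 0 := by
      intro l z hz
      refine Submodule.smul_induction_on hz ?_ ?_
      · intro a ha w _
        rw [map_smul, Algebra.smul_def]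
        have : algebraMap (B i) (B i ⧸ I) a = 0 := Ideal.Quotient.eq_zero_iff_mem.2 ha
        rw [this, zero_mul]
      · intro y z hy hz
        rw [map_add, hy, hz, add_zero]
    have hψχ : ∀ l (y : Λ →₀ B i), χ l (ψ y) = Ideal.Quotient.mk I (y l) := by
      intro l y
      simp only [ψ, Finsupp.linearCombination_apply, Finsupp.sum, map_sum, map_smul, hχ]
      rw [Finset.sum_eq_single l]
      · simp [Algebra.smul_def]
      · intro l' _ hne
        simp [hne]
      · intro hl
        simp [Finsupp.notMem_support_iff.1 hl]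
    have hker : ∀ y : Λ →₀ B i, ψ y ∈ I • (⊤ : Submodule (B i) (B i ⊗[A] M)) →
        y ∈ I • (⊤ : Submodule (B i) (Λ →₀ B i)) := by
      intro y hy
      have hyl : ∀ l, y l ∈ I := by
        intro l
        rw [← Ideal.Quotient.eq_zero_iff_mem, ← hψχ, hχI l _ hy]
      rw [← Finsupp.sum_single y]
      refine Submodule.sum_mem _ fun l _ => ?_
      have : Finsupp.single l (y l) = (y l) • Finsupp.single l (1 : B i) := by
        rw [Finsupp.smul_single, smul_eq_mul, mul_one]
      rw [this]
      exact Submodule.smul_mem_smul (hyl l) trivial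
    have hψinj := injective_of_surjective_of_projective hI ψ hψsurj hker
    have hx0 : ψ (x.mapRange (algebraMap A (B i)) (map_zero _)) = 0 := by
      have h1 : ψ (x.mapRange (algebraMap A (B i)) (map_zero _)) = (1 : B i) ⊗ₜ[A] φ x := by
        simp only [ψ, φ, Finsupp.linearCombination_apply]
        rw [Finsupp.sum_mapRange_index (by intro l; simp)]
        simp only [Finsupp.sum, TensorProduct.tmul_sum, TensorProduct.tmul_smul]
        refine Finset.sum_congr rfl fun l _ => ?_
        rw [algebraMap_smul]
      rw [h1, LinearMap.mem_ker.1 hx, TensorProduct.tmul_zero]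
    have := hψinj (hx0.trans (map_zero ψ).symm)
    have := DFunLike.congr_fun this l
    simpa using this
  exact Module.Free.of_equiv (LinearEquiv.ofBijective φ ⟨hinj, hsurj⟩)

end Groth.Agent.S2563
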