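import Groth.Statements.S2572
import Mathlib
import Groth.Agent.Lib.Helper82.UnivOpenDedekind
import Groth.Agent.S0558
-- import your own Groth.Agent.* helpers here

set_option autoImplicit false
open CategoryTheory AlgebraicGeometry
universe u
open EGA43

namespace Groth.Agent.S2572

set_option linter.style.haveILetI false
open Groth.Agent.Lib.Helper82.UnivOpenDedekind

/-- Let Y be an irreducible locally Noetherian scheme whose local rings are regular of dimension at most
one, f : X ⟶ Y locally of finite type, and y a point of Y. If every irreducible component of X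
meeting the fibre over y has dense image in Y, then there is an open subset U of X containing that
fibre such that the restriction of f to U is universally open. -/
theorem result {X Y : Scheme.{u}} [IsLocallyNoetherian Y]
    [IrreducibleSpace Y]
    (hY : ∀ y : Y, IsRegularLocalRing (Y.presheaf.stalk y) ∧ ringKrullDim (Y.presheaf.stalk y) ≤ 1)
    (f : X ⟶ Y) [LocallyOfFiniteType f] (y : Y)
    (h : ∀ Z ∈ irreducibleComponents (X : Type u), (Z ∩ f.base ⁻¹' {y}).Nonempty → Dense (f.base '' Z)) :
    ∃ U : X.Opens, f.base ⁻¹' {y} ⊆ (U : Set X) ∧ UniversallyOpen (U.ι ≫ f) := by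
  haveI : ∀ y : Y, _root_.IsReduced (Y.presheaf.stalk y) := fun y => by
    haveI := (hY y).1
    haveI : IsDomain (Y.presheaf.stalk y) := Groth.Agent.S0558.result _
    infer_instance
  haveI : IsReduced Y := isReduced_of_isReduced_stalk Y
  haveI : IsIntegral Y := isIntegral_of_irreducibleSpace_of_isReduced Y
  haveI : IsLocallyNoetherian X := LocallyOfFiniteType.isLocallyNoetherian f
  obtain ⟨S, hS⟩ : ∃ S : Set (Set X),
      S = {Z | Z ∈ irreducibleComponents X ∧ ¬ (Z ∩ f.base ⁻¹' {y}).Nonempty} := ⟨_, rfl⟩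
  have hmemS : ∀ Z : Set X, Z ∈ S ↔
      (Z ∈ irreducibleComponents X ∧ ¬ (Z ∩ f.base ⁻¹' {y}).Nonempty) := by
    intro Z
    rw [hS]
    exact Iff.rfl
  have hC : IsClosed (⋃₀ S) :=
    isClosed_sUnion_irreducibleComponents S (fun Z hZ => ((hmemS Z).1 hZ).1)
  obtain ⟨U, hU⟩ : ∃ U : X.Opens, (U : Set X) = (⋃₀ S)ᶜ := ⟨⟨(⋃₀ S)ᶜ, hC.isOpen_compl⟩, rfl⟩
  refine ⟨U, ?_, ?_⟩
  · intro x hx
    rw [hU]
    rintro ⟨Z, hZ, hxZ⟩
    exact ((hmemS Z).1 hZ).2 ⟨x, hxZ, hx⟩
  · refine universallyOpen_of_dense (fun y => (hY y).1) (fun y => (hY y).2) (U.ι ≫ f)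
      (fun u hu => ?_)
    have hx : ∀ x' : X, x' ⤳ U.ι u → x' = U.ι u := by
      intro x' hx'
      have hx'U : x' ∈ U := hx'.mem_open U.2 u.2
      obtain ⟨u', rfl⟩ : x' ∈ Set.range U.ι := by
        rw [Scheme.Opens.range_ι]
        exact hx'U
      rw [U.ι.isEmbedding.specializes_iff] at hx'
      rw [hu u' hx']
    have hZ := closure_singleton_mem_irreducibleComponents (U.ι u) hx
    have hne : (closure {U.ι u} ∩ f.base ⁻¹' {y}).Nonempty := by
      by_contra hne
      have hu2 : U.ι u ∈ (U : Set X) := u.2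
      rw [hU] at hu2
      exact hu2 ⟨_, (hmemS _).2 ⟨hZ, hne⟩, subset_closure rfl⟩
    have hd := h _ hZ hne
    rw [Scheme.Hom.comp_apply]
    have hsub : f.base '' closure {U.ι u} ⊆ closure {f.base (U.ι u)} := by
      have := image_closure_subset_closure_image (s := {U.ι u}) f.continuous
      rwa [Set.image_singleton] at this
    have hcl : closure {f.base (U.ι u)} = Set.univ := by
      rw [Set.eq_univ_iff_forall]
      intro z
      have : z ∈ closure (f.base '' closure {U.ι u}) := hd z
      exact (closure_minimal hsub isClosed_closure) this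
    have hgen : IsGenericPoint (f.base (U.ι u)) (Set.univ : Set Y) := hcl
    exact hgen.eq (genericPoint_spec Y)

end Groth.Agent.S2572
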