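import Groth.Statements.S2574
import Groth.Agent.Lib.Helper54.LocalFlat4
import Mathlib.RingTheory.Ideal.AssociatedPrime.Finiteness
import Mathlib.RingTheory.Flat.Localization

set_option autoImplicit false
open TensorProduct
universe u
open EGA43

namespace Groth.Agent.S2574

/-- Let A be a Noetherian ring, J a nilpotent ideal of A and M an A-module. Then M is flat over A if and
only if (A/J) ⊗_A M is flat over A/J and, for every associated prime p of A, the localization M_p is
flat over A_p. -/
theorem result {A : Type u} [CommRing A] [IsNoetherianRing A]
    (J : Ideal A) (hJ : IsNilpotent J) (M : Type u) [AddCommGroup M] [Module A M] :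
    Module.Flat A M ↔
      Module.Flat (A ⧸ J) ((A ⧸ J) ⊗[A] M) ∧
        ∀ p : associatedPrimes A A,
          haveI : p.1.IsPrime := IsAssociatedPrime.isPrime p.2
          Module.Flat (Localization.AtPrime p.1) (LocalizedModule p.1.primeCompl M) := by
  constructor
  · intro h
    refine ⟨inferInstance, fun p => ?_⟩
    haveI : p.1.IsPrime := IsAssociatedPrime.isPrime p.2
    exact inferInstance
  · rintro ⟨h1, h2⟩
    haveI : Finite (associatedPrimes A A) := (associatedPrimes.finite A A).to_subtype
    haveI hprime : ∀ p : associatedPrimes A A, p.1.IsPrime :=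
      fun p => IsAssociatedPrime.isPrime p.2
    haveI hflat : ∀ p : associatedPrimes A A, Module.Flat (Localization.AtPrime p.1)
        (Localization.AtPrime p.1 ⊗[A] M) := by
      intro p
      have hbc : IsBaseChange (Localization.AtPrime p.1)
          (LocalizedModule.mkLinearMap p.1.primeCompl M) :=
        (isLocalizedModule_iff_isBaseChange p.1.primeCompl (Localization.AtPrime p.1) _).1
          inferInstance
      haveI := h2 p
      exact Module.Flat.of_linearEquiv hbc.equiv
    refine Groth.Agent.Lib.Helper54.LocalFlat.flat_of_jointly_injective J M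
      (fun p : associatedPrimes A A => Localization.AtPrime p.1) ?_ hJ
    intro a ha
    by_contra hne
    obtain ⟨P, hP, hle⟩ := exists_le_isAssociatedPrime_of_isNoetherianRing A a hne
    have h0 := ha ⟨P, hP⟩
    haveI : P.IsPrime := hP.isPrime
    rw [IsLocalization.map_eq_zero_iff P.primeCompl] at h0
    obtain ⟨s, hs⟩ := h0
    apply s.2
    apply hle
    rw [Submodule.mem_colon_singleton, Submodule.mem_bot, smul_eq_mul]
    exact hs

end Groth.Agent.S2574
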