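import Groth.Statements.S2587
import Groth.Agent.Lib.Helper25.UnivOpenAt

set_option autoImplicit false
open CategoryTheory AlgebraicGeometry
universe u
open EGA43

namespace Groth.Agent.S2587

open CategoryTheory.Limits in
/-- Let Y be locally Noetherian, f : X ⟶ Y a morphism locally of finite type, and x ∈ X. The morphism f
is universally open at x exactly when: for every discrete valuation ring A and every morphism g :
Spec A ⟶ Y sending the closed point to f x, every point x' of X ×_Y Spec A lying over x and over the
closed point of Spec A is a specialization of some point of X ×_Y Spec A lying over the generic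
point of Spec A. -/
theorem result {X Y : Scheme.{u}} [IsLocallyNoetherian Y] (f : X ⟶ Y)
    [LocallyOfFiniteType f] (x : X) :
    EGA43.IsUnivOpenAt f x ↔
      ∀ (A : Type u) [CommRing A] [IsDomain A] [IsDiscreteValuationRing A]
        (g : Spec (CommRingCat.of A) ⟶ Y), g.base (IsLocalRing.closedPoint A) = f.base x →
        ∀ x' : ↥(pullback f g), (pullback.fst f g).base x' = x →
          (pullback.snd f g).base x' = IsLocalRing.closedPoint A →
          ∃ z' : ↥(pullback f g), z' ⤳ x' ∧ (pullback.snd f g).base z' ≠ IsLocalRing.closedPoint A := by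
  constructor
  · -- universally open at `x` implies the criterion
    intro H A _ _ _ g hg x' hx'1 hx'2
    have hopen := H (Spec (CommRingCat.of A)) g x' hx'1
    have : IsLocallyNoetherian (pullback f g) :=
      LocallyOfFiniteType.isLocallyNoetherian (pullback.snd f g)
    -- the complement of the closed point
    let Uη : (Spec (CommRingCat.of A)).Opens :=
      ⟨({IsLocalRing.closedPoint A} : Set (PrimeSpectrum A))ᶜ,
        (IsLocalRing.isClosed_singleton_closedPoint A).isOpen_compl⟩
    let D : (pullback f g).Opens := (pullback.snd f g) ⁻¹ᵁ Uη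
    have hcl : x' ∈ closure (Set.range D.ι.base) := by
      rw [Scheme.Opens.range_ι, mem_closure_iff_nhds]
      intro W hW
      have h1 := hopen W hW
      rw [hx'2] at h1
      obtain ⟨O, hOsub, hOopen, hOmem⟩ := mem_nhds_iff.mp h1
      have hOtop : (⟨O, hOopen⟩ : TopologicalSpace.Opens (PrimeSpectrum A)) = ⊤ :=
        (IsLocalRing.closedPoint_mem_iff _).mp hOmem
      let η : PrimeSpectrum A := ⟨⊥, Ideal.isPrime_bot⟩
      have hηO : η ∈ O := by
        have : η ∈ (⟨O, hOopen⟩ : TopologicalSpace.Opens (PrimeSpectrum A)) := by
          rw [hOtop]; trivial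
        exact this
      obtain ⟨w, hwW, hwη⟩ := hOsub hηO
      refine ⟨w, hwW, ?_⟩
      show (pullback.snd f g).base w ∈ ({IsLocalRing.closedPoint A} : Set (PrimeSpectrum A))ᶜ
      rw [hwη]
      intro hη
      have : (⊥ : Ideal A) = IsLocalRing.maximalIdeal A := congrArg PrimeSpectrum.asIdeal hη
      exact IsDiscreteValuationRing.not_a_field A this.symm
    obtain ⟨u, hu⟩ :=
      Groth.Agent.Lib.Helper39.KA.exists_specializes_of_mem_closure_range D.ι x' hcl
    refine ⟨D.ι u, hu, ?_⟩
    have : D.ι u ∈ D := u.2
    exact this
  · intro H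
    have : LocallyOfFinitePresentation f :=
      LocallyOfFinitePresentation.iff_locallyOfFiniteType.mpr inferInstance
    exact Groth.Agent.Lib.Helper25.UnivOpenAt.isUnivOpenAt_of_noetherian f x
      fun Y₁ _ g₁ x₁ hx₁ =>
        Groth.Agent.Lib.Helper25.UnivOpenAt.isOpenAt_of_generizations_lift _ x₁
          (fun y₁ hy₁ => Groth.Agent.Lib.Helper25.UnivOpenAt.exists_generization_of_dvrCrit
            f x H g₁ x₁ hx₁ y₁ hy₁)

end Groth.Agent.S2587
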