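import Groth.Statements.S2596
import Groth.Agent.Lib.Helper25.ValCenterLoc

set_option autoImplicit false
open CategoryTheory AlgebraicGeometry
universe u
open EGA43
open Groth.Agent.Lib.Helper25.ValCenter

namespace Groth.Agent.S2596

section Helpers

set_option linter.style.haveILetI false

open Groth.Agent.Lib.Helper25.ValCenter IsLocalRing CategoryTheory.Limits

theorem dvrLiftAtOn_of_sections {X Y : Scheme.{u}} (f : X ⟶ Y) (y : Y)
    (h : ∀ (A : Type u) [CommRing A] [IsDomain A] [IsDiscreteValuationRing A]
      (g : Spec (CommRingCat.of A) ⟶ Y), g.base (IsLocalRing.closedPoint A) = y →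
      ∀ σ : Spec (CommRingCat.of (FractionRing A)) ⟶ pullback f g,
        σ ≫ pullback.snd f g = Spec.map (CommRingCat.ofHom (algebraMap A (FractionRing A))) →
        ∃ s : Spec (CommRingCat.of A) ⟶ pullback f g, s ≫ pullback.snd f g = 𝟙 _ ∧
          Spec.map (CommRingCat.ofHom (algebraMap A (FractionRing A))) ≫ s = σ) (η : X) :
    DVRLiftAtOn {y} (𝟙 X) f η := by
  intro A hA yA hyAcl hyA
  let e : FractionRing A ≃ₐ[A] X.residueField η := FractionRing.algEquiv A (X.residueField η)
  have he : (algebraMap A (FractionRing A)) =
      (e.symm : X.residueField η →+* FractionRing A).comp A.subtype := by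
    ext a
    exact (e.symm.commutes a).symm
  have he' : A.subtype = (e : FractionRing A →+* X.residueField η).comp
      (algebraMap A (FractionRing A)) := by
    ext a
    exact (e.commutes a).symm
  have hfac : Spec.map (CommRingCat.ofHom (algebraMap A (FractionRing A))) =
      Spec.map (CommRingCat.ofHom (e.symm : X.residueField η →+* FractionRing A)) ≫
        Spec.map (CommRingCat.ofHom A.subtype) := by
    rw [← Spec.map_comp, ← CommRingCat.ofHom_comp, ← he]
  have hfac' : Spec.map (CommRingCat.ofHom A.subtype) =
      Spec.map (CommRingCat.ofHom (e : FractionRing A →+* X.residueField η)) ≫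
        Spec.map (CommRingCat.ofHom (algebraMap A (FractionRing A))) := by
    rw [← Spec.map_comp, ← CommRingCat.ofHom_comp, ← he']
  have hid : Spec.map (CommRingCat.ofHom (e : FractionRing A →+* X.residueField η)) ≫
      Spec.map (CommRingCat.ofHom (e.symm : X.residueField η →+* FractionRing A)) = 𝟙 _ := by
    rw [← Spec.map_comp, ← CommRingCat.ofHom_comp]
    have : (e : FractionRing A →+* X.residueField η).comp
        (e.symm : X.residueField η →+* FractionRing A) = RingHom.id _ := by
      ext a
      exact e.apply_symm_apply a
    rw [this]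
    exact Spec.map_id _
  let u : Spec (CommRingCat.of (FractionRing A)) ⟶ X :=
    Spec.map (CommRingCat.ofHom (e.symm : X.residueField η →+* FractionRing A)) ≫
      X.fromSpecResidueField η
  have hu : u ≫ f = Spec.map (CommRingCat.ofHom (algebraMap A (FractionRing A))) ≫ yA := by
    rw [hfac, Category.assoc, Category.assoc, hyA, Category.id_comp]
  obtain ⟨s, hs1, hs2⟩ := h A yA hyAcl (pullback.lift u _ hu) (pullback.lift_snd _ _ _)
  refine ⟨s ≫ pullback.fst f yA, ?_, ?_⟩
  · rw [Category.assoc, pullback.condition, ← Category.assoc, hs1, Category.id_comp]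
  · rw [hfac', Category.assoc, ← Category.assoc _ s, hs2, pullback.lift_fst, ← Category.assoc,
      hid, Category.id_comp, Category.comp_id]

end Helpers

open CategoryTheory.Limits in
/-- Let Y be locally Noetherian, f : X ⟶ Y separated and of finite type, and y a point of Y. Suppose
that for every discrete valuation ring A with fraction field K and every morphism g : Spec A ⟶ Y
sending the closed point to y, every K-point σ of X ×_Y Spec A lying over the generic point Spec K ⟶
Spec A extends to a section of X ×_Y Spec A ⟶ Spec A. Then f is proper over some open neighbourhood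
of y. -/
theorem result {X Y : Scheme.{u}} [IsLocallyNoetherian Y]
    (f : X ⟶ Y) [IsSeparated f] [LocallyOfFiniteType f] [QuasiCompact f] (y : Y)
    (h : ∀ (A : Type u) [CommRing A] [IsDomain A] [IsDiscreteValuationRing A]
      (g : Spec (CommRingCat.of A) ⟶ Y), g.base (IsLocalRing.closedPoint A) = y →
      ∀ σ : Spec (CommRingCat.of (FractionRing A)) ⟶ pullback f g,
        σ ≫ pullback.snd f g = Spec.map (CommRingCat.ofHom (algebraMap A (FractionRing A))) →
        ∃ s : Spec (CommRingCat.of A) ⟶ pullback f g, s ≫ pullback.snd f g = 𝟙 _ ∧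
          Spec.map (CommRingCat.ofHom (algebraMap A (FractionRing A))) ≫ s = σ) :
    ∃ U : Y.Opens, y ∈ U ∧ IsProper (f ∣_ U) := by
  exact exists_isProper_morphismRestrict f y (fun η _ => dvrLiftAtOn_of_sections f y h η)

end Groth.Agent.S2596
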