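import Groth.Statements.S9244
import Groth.Agent.Lib.Helper49.BranchIso
import Groth.Agent.Lib.Helper49.NormHyp
import Groth.Agent.Lib.Helper49.RedCompl
import Groth.Agent.Lib.Helper49.HenselFormal
import Groth.Agent.S4754
import Groth.Agent.Lib.Helper88.FormalFibre
import Groth.Agent.Lib.Helper88.AnUnram
-- import your own Groth.Agent.* helpers here

set_option autoImplicit false
universe u
open Brnch

namespace Groth.Agent.S9244


open Groth.Agent.Lib.Helper49 Groth.Agent.Lib.Helper97.GeomUni IsLocalRing TensorProduct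

set_option linter.style.haveILetI false

/-- Every element of the completion is congruent to an element of `A` modulo the maximal ideal. -/
theorem exists_sub_mem_cpl (A : Type u) [CommRing A] [IsLocalRing A] [IsNoetherianRing A]
    (y : EGA4.Cpl A) : ∃ x : A, y - algebraMap A (EGA4.Cpl A) x ∈ maximalIdeal (EGA4.Cpl A) := by
  obtain ⟨x, hx⟩ := HenselFormal.surjective_residueField_cpl A (residue _ y)
  refine ⟨x, ?_⟩
  rw [← residue_eq_zero_iff, map_sub, sub_eq_zero, ← hx]
  exact (IsScalarTower.algebraMap_apply A (EGA4.Cpl A) (ResidueField (EGA4.Cpl A)) x)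

theorem main (A : Type u) [CommRing A]
    [IsLocalRing A] [IsNoetherianRing A] (hA : EGA4.HasGeomNormalFormalFibres A) :
    ∃ θ : CAlg2.normRed A →+* CAlg2.normRed (EGA4.Cpl A),
      BranchIso.Hyp (algebraMap A (EGA4.Cpl A)) θ := by
  haveI : IsNoetherianRing (EGA4.Cpl A) := HenselFormal.isNoetherianRing_cpl A
  have hn : EGA4.IsNormalHom A (EGA4.Cpl A) := ⟨inferInstance, hA⟩
  letI := RedCompl.redAlgebra A (EGA4.Cpl A)
  have hRS : EGA4.IsNormalHom (CAlg2.red A) (CAlg2.red (EGA4.Cpl A)) :=
    RedCompl.isNormalHom_red A (EGA4.Cpl A) hn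
  -- local rings
  haveI : Nontrivial (CAlg2.red A) := Ideal.Quotient.nontrivial_iff.mpr (by
    intro h
    have : (1 : A) ∈ nilradical A := by rw [h]; trivial
    obtain ⟨n, hn⟩ := mem_nilradical.mp this
    rw [one_pow] at hn
    exact one_ne_zero hn)
  haveI : Nontrivial (CAlg2.red (EGA4.Cpl A)) := Ideal.Quotient.nontrivial_iff.mpr (by
    intro h
    have : (1 : EGA4.Cpl A) ∈ nilradical (EGA4.Cpl A) := by rw [h]; trivial
    obtain ⟨n, hn⟩ := mem_nilradical.mp this
    rw [one_pow] at hn
    exact one_ne_zero hn)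
  haveI : IsLocalRing (CAlg2.red A) :=
    IsLocalRing.of_surjective' (Ideal.Quotient.mk _) Ideal.Quotient.mk_surjective
  haveI : IsLocalRing (CAlg2.red (EGA4.Cpl A)) :=
    IsLocalRing.of_surjective' (Ideal.Quotient.mk _) Ideal.Quotient.mk_surjective
  haveI := RedCompl.isReduced_red A
  haveI := RedCompl.isReduced_red (EGA4.Cpl A)
  -- finiteness of the normalization
  have hRgn : EGA4.HasGeomNormalFormalFibres (CAlg2.red A) :=
    Groth.Agent.S4754.result A hA (nilradical A)
  have hNag : CAlg.IsNagata (CAlg2.red A) :=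
    Groth.Agent.Lib.Helper88.FormalFibre.isNagata_of_geomReducedFormalFibres (CAlg2.red A)
      (fun p _ => Groth.Agent.S2729.isGeometricallyReduced_of_isGeomNormal _ _ (hRgn p))
  haveI : IsArtinianRing (FractionRing (CAlg2.red A)) :=
    Groth.Agent.Lib.Helper88.AnUnram.isArtinianRing_of_isFractionRing (CAlg2.red A) _
  haveI hfin : Module.Finite (CAlg2.red A) (CAlg2.normRed A) :=
    Groth.Agent.Lib.Helper88.AnUnram.finite_integralClosure_of_artinian (CAlg2.red A) hNag
      (nonZeroDivisors (CAlg2.red A)) (FractionRing (CAlg2.red A)) (FractionRing (CAlg2.red A))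
  -- faithful flatness
  haveI : Module.Flat (CAlg2.red A) (CAlg2.red (EGA4.Cpl A)) := hRS.1
  haveI hmkA : IsLocalHom (Ideal.Quotient.mk (nilradical A)) :=
    IsLocalHom.of_surjective _ Ideal.Quotient.mk_surjective
  haveI hmkC : IsLocalHom (Ideal.Quotient.mk (nilradical (EGA4.Cpl A))) :=
    IsLocalHom.of_surjective _ Ideal.Quotient.mk_surjective
  haveI : IsLocalHom (algebraMap (CAlg2.red A) (CAlg2.red (EGA4.Cpl A))) := by
    constructor
    intro r hr
    obtain ⟨a, rfl⟩ := Ideal.Quotient.mk_surjective r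
    have h1 : IsUnit (Ideal.Quotient.mk (nilradical (EGA4.Cpl A)) (algebraMap A (EGA4.Cpl A) a)) :=
      hr
    have h2 : IsUnit (algebraMap A (EGA4.Cpl A) a) := hmkC.map_nonunit _ h1
    have h3 : IsUnit a := (inferInstance : IsLocalHom (algebraMap A (EGA4.Cpl A))).map_nonunit _ h2
    exact h3.map _
  haveI : Module.FaithfullyFlat (CAlg2.red A) (CAlg2.red (EGA4.Cpl A)) :=
    Module.FaithfullyFlat.of_flat_of_isLocalHom
  have hres : ∀ y : CAlg2.red (EGA4.Cpl A), ∃ x : CAlg2.red A,
      y - algebraMap (CAlg2.red A) (CAlg2.red (EGA4.Cpl A)) x ∈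
        maximalIdeal (CAlg2.red (EGA4.Cpl A)) := by
    intro y
    obtain ⟨c, rfl⟩ := Ideal.Quotient.mk_surjective y
    obtain ⟨a, ha⟩ := exists_sub_mem_cpl A c
    refine ⟨Ideal.Quotient.mk _ a, ?_⟩
    have h1 : Ideal.Quotient.mk (nilradical (EGA4.Cpl A)) c -
        algebraMap (CAlg2.red A) (CAlg2.red (EGA4.Cpl A)) (Ideal.Quotient.mk _ a) =
        Ideal.Quotient.mk (nilradical (EGA4.Cpl A)) (c - algebraMap A (EGA4.Cpl A) a) := by
      rw [map_sub]; rfl
    rw [h1, mem_maximalIdeal, mem_nonunits_iff]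
    intro hu
    exact ha (hmkC.map_nonunit _ hu)
  -- the map θ
  refine ⟨NormHyp.theta (CAlg2.red A) (CAlg2.red (EGA4.Cpl A)) hRS, ?_, exists_sub_mem_cpl A,
    NormHyp.theta_surj (CAlg2.red A) (CAlg2.red (EGA4.Cpl A)) hRS hres,
    NormHyp.theta_bij (CAlg2.red A) (CAlg2.red (EGA4.Cpl A)) hRS hres⟩
  refine RingHom.ext fun a => ?_
  exact NormHyp.theta_algebraMap (CAlg2.red A) (CAlg2.red (EGA4.Cpl A)) hRS
    (Ideal.Quotient.mk (nilradical A) a)


/-- Let A be a Noetherian local ring all of whose formal fibres are geometrically normal (for example a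
quasi-excellent local ring). Then A and its completion A^ have the same number of branches and the
same number of geometric branches. (The published statement also concludes that A is Nagata; this
row omits that conclusion.) -/
theorem result (A : Type u) [CommRing A]
    [IsLocalRing A] [IsNoetherianRing A] (hA : EGA4.HasGeomNormalFormalFibres A) :
    Brnch.numBranches (AdicCompletion (IsLocalRing.maximalIdeal A) A) = Brnch.numBranches A ∧
      Brnch.numGeomBranches (AdicCompletion (IsLocalRing.maximalIdeal A) A) =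
        Brnch.numGeomBranches A := by
  obtain ⟨θ, hθ⟩ := main A hA
  haveI : IsNoetherianRing (EGA4.Cpl A) := HenselFormal.isNoetherianRing_cpl A
  have h₁ := minimalPrimes.finite_of_isNoetherianRing A
  have h₂ := minimalPrimes.finite_of_isNoetherianRing (EGA4.Cpl A)
  exact ⟨hθ.numBranches_eq h₁ h₂, hθ.numGeomBranches_eq h₁ h₂⟩

end Groth.Agent.S9244
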