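import Groth.Statements.S2906
import Mathlib
import Groth.Agent.S1134
import Groth.Agent.S0081
import Groth.Agent.S0079
import Groth.Agent.Lib.Helper51.EtaleQF
-- import your own Groth.Agent.* helpers here

set_option autoImplicit false
open CategoryTheory CategoryTheory.Limits AlgebraicGeometry Opposite
universe u
open SGA1

namespace Groth.Agent.S2906
open Desc


/-- Zariski's main theorem: separated quasi-finite morphisms are quasi-affine -/
lemma isQuasiAffine_of_zmt {X Y : Scheme.{u}} (f : X ⟶ Y) [LocallyQuasiFinite f]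
    [LocallyOfFiniteType f] [IsSeparated f] [QuasiCompact f] : Mor2.IsQuasiAffine f := by
  refine ⟨inferInstance, fun V hV => ?_⟩
  have hV' : IsAffineOpen (f.fromNormalization ⁻¹ᵁ V) := hV.preimage f.fromNormalization
  have e : f ⁻¹ᵁ V = f.toNormalization ⁻¹ᵁ (f.fromNormalization ⁻¹ᵁ V) := by
    rw [← Scheme.Hom.comp_preimage, Scheme.Hom.toNormalization_fromNormalization]
  have hc : IsCompact ((f ⁻¹ᵁ V : X.Opens) : Set X) := f.isCompact_preimage hV.isCompact
  rw [e] at hc ⊢
  haveI : CompactSpace ↥((f.toNormalization ⁻¹ᵁ (f.fromNormalization ⁻¹ᵁ V) : X.Opens) : Scheme.{u}) :=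
    isCompact_iff_compactSpace.mp hc
  haveI : IsAffine ((f.fromNormalization ⁻¹ᵁ V : f.normalization.Opens) : Scheme.{u}) := hV'
  exact Scheme.IsQuasiAffine.of_isImmersion (f.toNormalization ∣_ (f.fromNormalization ⁻¹ᵁ V))


/-- Let g : S' ⟶ S be flat, surjective and quasi-compact. Then every descent datum relative to g whose
underlying scheme is etale, separated and quasi-compact over S' is isomorphic to the canonical
descent datum of a scheme etale, separated and quasi-compact over S. (Descent data relative to g are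
taken in functor-of-points form.) -/
theorem result {S' S : Scheme.{u}} (g : S' ⟶ S) [Flat g] [Surjective g] [QuasiCompact g]
    (D : Desc.SchDD g) [QuasiCompact D.obj.hom] [IsSeparated D.obj.hom] [Etale D.obj.hom] :
    ∃ U : Over S, QuasiCompact U.hom ∧ IsSeparated U.hom ∧ Etale U.hom ∧ Nonempty ((Desc.toDD g).obj U ≅ D) := by
  have hqa : Mor2.IsQuasiAffine D.obj.hom := isQuasiAffine_of_zmt D.obj.hom
  obtain ⟨U, ⟨ε⟩⟩ := Groth.Agent.S1134.result g D hqa
  have h1 : ε.hom.hom.left ≫ ε.inv.hom.left = 𝟙 _ := by
    have := congrArg (fun a => a.hom.left) ε.hom_inv_id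
    exact this
  have h2 : ε.inv.hom.left ≫ ε.hom.hom.left = 𝟙 _ := by
    have := congrArg (fun a => a.hom.left) ε.inv_hom_id
    exact this
  let e : pullback g U.hom ≅ D.obj.left := ⟨ε.hom.hom.left, ε.inv.hom.left, h1, h2⟩
  have hfac : e.hom ≫ D.obj.hom = pullback.fst g U.hom := Over.w ε.hom.hom
  have hP : ∀ (P : MorphismProperty Scheme.{u}) [P.RespectsIso], P D.obj.hom →
      P (pullback.fst g U.hom) := by
    intro P _ h
    rw [← hfac]
    haveI : IsIso e.hom := Iso.isIso_hom e
    exact (P.cancel_left_of_respectsIso e.hom D.obj.hom).mpr h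
  have hQ : (@Surjective ⊓ @Flat ⊓ @QuasiCompact : MorphismProperty Scheme.{u}) g :=
    ⟨⟨inferInstance, inferInstance⟩, inferInstance⟩
  have i1 := Groth.Agent.S0081.result.{u}
  have i2 := Groth.Agent.S0079.result.{u}
  refine ⟨U, ?_, ?_, ?_, ⟨ε⟩⟩
  · exact MorphismProperty.of_isPullback_of_descendsAlong (P := @QuasiCompact)
      (IsPullback.of_hasPullback g U.hom) hQ (hP @QuasiCompact inferInstance)
  · exact MorphismProperty.of_isPullback_of_descendsAlong (P := @IsSeparated)
      (IsPullback.of_hasPullback g U.hom) hQ (hP @IsSeparated inferInstance)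
  · exact MorphismProperty.of_isPullback_of_descendsAlong (P := @Etale)
      (IsPullback.of_hasPullback g U.hom) hQ (hP @Etale inferInstance)

end Groth.Agent.S2906
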