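import Groth.Statements.S2909
import Groth.Agent.Lib.Helper67.QuotAffine
import Mathlib
-- import your own Groth.Agent.* helpers here

set_option autoImplicit false
open CategoryTheory CategoryTheory.Limits AlgebraicGeometry
universe u
open SGA1

namespace Groth.Agent.S2909

open Groth.Agent.Lib.Helper67.QuotAffine

/-- If `p ≫ q` is separated with `p` surjective and universally closed, then `q` is separated. -/
theorem isSeparated_of_comp_surjective {X Y Z : Scheme.{u}} (p : X ⟶ Y) (q : Y ⟶ Z)
    (hsurj : Function.Surjective p.base) [UniversallyClosed p] [IsSeparated (p ≫ q)] :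
    IsSeparated q := by
  have hpp : UniversallyClosed (pullback.map (p ≫ q) (p ≫ q) q q p p (𝟙 Z)
      ((Category.comp_id _).trans rfl) ((Category.comp_id _).trans rfl)) :=
    MorphismProperty.pullbackMap (P := @UniversallyClosed) inferInstance inferInstance rfl rfl
  have hcomm : p ≫ pullback.diagonal q = pullback.diagonal (p ≫ q) ≫
      pullback.map (p ≫ q) (p ≫ q) q q p p (𝟙 Z) ((Category.comp_id _).trans rfl)
        ((Category.comp_id _).trans rfl) := pullback.comp_diagonal p q
  have hrange : Set.range (pullback.diagonal q).base =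
      (pullback.map (p ≫ q) (p ≫ q) q q p p (𝟙 Z) ((Category.comp_id _).trans rfl)
        ((Category.comp_id _).trans rfl)).base '' Set.range (pullback.diagonal (p ≫ q)).base := by
    rw [← Set.range_comp, ← TopCat.coe_comp, ← Scheme.Hom.comp_base, ← hcomm,
      Scheme.Hom.comp_base, TopCat.coe_comp, Set.range_comp, Set.range_eq_univ.2 hsurj,
      Set.image_univ]
  have hclosed : IsClosed (Set.range (pullback.diagonal q).base) := by
    rw [hrange]
    exact Scheme.Hom.isClosedMap _ _ (pullback.diagonal (p ≫ q)).isClosedEmbedding.isClosed_range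
  constructor
  exact IsClosedImmersion.of_isPreimmersion _ hclosed

/-- Let a finite group G act on a scheme X by automorphisms over a scheme Z (structure morphism f), and
let p : X ⟶ Y be a quotient of X by G with Y ⟶ Z the induced morphism q (so p ≫ q = f). Then X is
affine over Z iff Y is, X is separated over Z iff Y is; if f is locally of finite type then p is
finite; and if moreover Z is locally Noetherian and f quasi-compact then q is of finite type
(locally of finite type and quasi-compact). -/
theorem result {X Y Z : Scheme.{u}} {G : Type u} [Group G] [Finite G] (ρ : G →* Aut X)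
    (p : X ⟶ Y) (hp : SGA1.IsQuot ρ p) (f : X ⟶ Z) (q : Y ⟶ Z) (hq : p ≫ q = f) (hρ : ∀ g : G, (ρ g).hom ≫ f = f) :
    (IsAffineHom f ↔ IsAffineHom q) ∧ (IsSeparated f ↔ IsSeparated q) ∧
    (LocallyOfFiniteType f → IsFinite p) ∧
    (IsLocallyNoetherian Z → LocallyOfFiniteType f → QuasiCompact f → LocallyOfFiniteType q ∧ QuasiCompact q) := by
  have haff : IsAffineHom p := hp.affine
  have hint : IsIntegralHom p := Groth.Agent.S13596.result ρ p hp
  obtain ⟨hsurj, -, -⟩ := Groth.Agent.S2908.result ρ p hp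
  subst hq
  refine ⟨⟨fun h => ⟨fun U hU => ?_⟩, fun h => inferInstance⟩,
    ⟨fun h => isSeparated_of_comp_surjective p q hsurj, fun h => inferInstance⟩, ?_, ?_⟩
  · -- q affine
    apply isAffineOpen_of_preimage ρ p hp
    exact hU.preimage (p ≫ q)
  · intro hlft
    have : LocallyOfFiniteType p := locallyOfFiniteType_of_comp p q
    exact (IsFinite.iff_isIntegralHom_and_locallyOfFiniteType p).2 ⟨hint, this⟩
  · intro hZ hlft hqc
    have hlftp : LocallyOfFiniteType p := locallyOfFiniteType_of_comp p q
    refine ⟨⟨fun {U} hU {V} hV e => ?_⟩, ?_⟩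
    · -- Artin–Tate
      have hV' : IsAffineOpen (p ⁻¹ᵁ V) := hV.preimage p
      have e' : p ⁻¹ᵁ V ≤ (p ≫ q) ⁻¹ᵁ U := fun x hx => e hx
      have h1 : ((p ≫ q).appLE U (p ⁻¹ᵁ V) e').hom.FiniteType :=
        hlft.finiteType_appLE hU hV' e'
      have h2 : (p ≫ q).appLE U (p ⁻¹ᵁ V) e' = q.appLE U V e ≫ p.app V := by
        rw [Scheme.Hom.app_eq_appLE, Scheme.Hom.appLE_comp_appLE]
      have h3 : ((p.app V).hom.comp (q.appLE U V e).hom).FiniteType := by
        rw [h2] at h1; exact h1
      have h4 : (p.app V).hom.Finite := by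
        rw [RingHom.finite_iff_isIntegral_and_finiteType]
        refine ⟨hint.isIntegral_app V hV, ?_⟩
        have := hlftp.finiteType_appLE hV hV' le_rfl
        rwa [← Scheme.Hom.app_eq_appLE] at this
      have hR : IsNoetherianRing Γ(Z, U) := IsLocallyNoetherian.component_noetherian ⟨U, hU⟩
      letI algRB : Algebra Γ(Z, U) Γ(Y, V) := (q.appLE U V e).hom.toAlgebra
      letI algBA : Algebra Γ(Y, V) Γ(X, p ⁻¹ᵁ V) := (p.app V).hom.toAlgebra
      letI algRA : Algebra Γ(Z, U) Γ(X, p ⁻¹ᵁ V) :=
        ((p.app V).hom.comp (q.appLE U V e).hom).toAlgebra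
      haveI : IsScalarTower Γ(Z, U) Γ(Y, V) Γ(X, p ⁻¹ᵁ V) :=
        IsScalarTower.of_algebraMap_eq (fun r => rfl)
      have hAC : (⊤ : Subalgebra Γ(Z, U) Γ(X, p ⁻¹ᵁ V)).FG := h3.out
      have hBC : (⊤ : Submodule Γ(Y, V) Γ(X, p ⁻¹ᵁ V)).FG := h4.fg_top
      have := fg_of_fg_of_fg Γ(Z, U) Γ(Y, V) Γ(X, p ⁻¹ᵁ V) hAC hBC (hp.injective V)
      exact ⟨this⟩
    · rw [quasiCompact_iff]
      intro K hK hKc
      have h1 : IsCompact ((p ≫ q).base ⁻¹' K) := (quasiCompact_iff _).1 hqc K hK hKc
      have h2 : q.base ⁻¹' K = p.base '' ((p ≫ q).base ⁻¹' K) := by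
        rw [Scheme.Hom.comp_base, TopCat.coe_comp, Set.preimage_comp,
          Set.image_preimage_eq _ hsurj]
      rw [h2]
      exact h1.image p.continuous

end Groth.Agent.S2909
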