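import Groth.Statements.S2911
import Groth.Agent.Lib.Helper79.Inertia
import Groth.Agent.Lib.Helper79.EtaleSrcDescent
import Groth.Agent.S2909
import Mathlib

set_option autoImplicit false
open CategoryTheory CategoryTheory.Limits AlgebraicGeometry
universe u
open SGA1

namespace Groth.Agent.S2911

/-- With the existence of the quotient taken as a hypothesis: Let Y be locally Noetherian, f : X ⟶ Y
etale, separated and quasi-compact, G a finite group acting on X by Y-automorphisms, p : X ⟶ X' a
quotient of X by G and q : X' ⟶ Y the induced morphism. Then p and q are etale, and if f is finite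
then q is finite. -/
theorem result {X X' Y : Scheme.{u}} {G : Type u} [Group G] [Finite G] (ρ : G →* Aut X)
    [IsLocallyNoetherian Y] (f : X ⟶ Y) [Etale f] [IsSeparated f] [QuasiCompact f] (hρ : ∀ g : G, (ρ g).hom ≫ f = f)
    (p : X ⟶ X') (hp : SGA1.IsQuot ρ p) (q : X' ⟶ Y) (hq : p ≫ q = f) :
    Etale p ∧ Etale q ∧ (IsFinite f → IsFinite q) := by
  obtain ⟨haff_iff, hsep_iff, hfin, hft⟩ := Groth.Agent.S2909.result ρ p hp f q hq hρ
  have hlft_f : LocallyOfFiniteType f := inferInstance
  have hpfin : IsFinite p := hfin hlft_f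
  obtain ⟨hq_lft, hq_qc⟩ := hft inferInstance hlft_f inferInstance
  have hX'noeth : IsLocallyNoetherian X' := LocallyOfFiniteType.isLocallyNoetherian q
  have hunr_f : FormallyUnramified f := inferInstance
  -- `p` is flat: the inertia groups are locally constant
  have hflat : Flat p :=
    Groth.Agent.Lib.Helper79.Inertia.flat_quotient_of_unramified ρ p hp f hρ
  have hunr_p : FormallyUnramified p := by
    have : FormallyUnramified (p ≫ q) := by rw [hq]; exact hunr_f
    exact FormallyUnramified.of_comp p q
  have hlfp_p : LocallyOfFinitePresentation p := by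
    rw [LocallyOfFinitePresentation.iff_locallyOfFiniteType]
    infer_instance
  have hEp : Etale p := Etale.iff_flat_and_formallyUnramified.mpr ⟨hflat, hunr_p, hlfp_p⟩
  -- `q` is etale by descent along `p`
  have haffp := hp.affine
  have hE : Etale (p ≫ q) := by rw [hq]; infer_instance
  obtain ⟨hfq, huq⟩ :=
    Groth.Agent.Lib.Helper79.EtaleSrcDescent.flat_and_unramified_of_comp_etale p q hp.injective
      (Groth.Agent.Lib.Helper67.QuotAffine.isIntegral_app ρ p hp)
  have hlfp_q : LocallyOfFinitePresentation q :=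
    LocallyOfFinitePresentation.iff_locallyOfFiniteType.mpr hq_lft
  have hEq : Etale q := Etale.iff_flat_and_formallyUnramified.mpr ⟨hfq, huq, hlfp_q⟩
  refine ⟨hEp, hEq, fun hf => ?_⟩
  have hqaff : IsAffineHom q := haff_iff.mp inferInstance
  rw [IsFinite.iff_isIntegralHom_and_locallyOfFiniteType]
  refine ⟨⟨fun U hU => ?_⟩, hq_lft⟩
  have hfint : ((p ≫ q).app U).hom.IsIntegral := by
    have : IsFinite (p ≫ q) := by rw [hq]; exact hf
    exact Scheme.Hom.isIntegral_app (p ≫ q) U hU
  have hcomp : ((p ≫ q).app U).hom = (p.app (q ⁻¹ᵁ U)).hom.comp (q.app U).hom := by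
    rw [Scheme.Hom.comp_app]
    rfl
  rw [hcomp] at hfint
  exact RingHom.IsIntegral.tower_bot _ _ (hp.injective (q ⁻¹ᵁ U)) hfint

end Groth.Agent.S2911
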