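import Groth.Statements.S2914
import Mathlib
-- import your own Groth.Agent.* helpers here

set_option autoImplicit false
open CategoryTheory CategoryTheory.Limits AlgebraicGeometry Opposite
universe u
open SGA1

namespace Groth.Agent.S2914

/-- Lift of a ring hom through an injective ring hom. -/
theorem exists_lift_of_injective {A B C : CommRingCat.{u}} (ι : A ⟶ B)
    (hι : Function.Injective ι.hom) (φ : C ⟶ B) (h : ∀ c, φ.hom c ∈ Set.range ι.hom) :
    ∃ ψ : C ⟶ A, ψ ≫ ι = φ := by
  choose f hf using h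
  refine ⟨CommRingCat.ofHom
    { toFun := f
      map_one' := hι (by rw [hf, map_one, map_one])
      map_mul' := fun a b => hι (by rw [hf, map_mul, map_mul, hf, hf])
      map_zero' := hι (by rw [hf, map_zero, map_zero])
      map_add' := fun a b => hι (by rw [hf, map_add, map_add, hf, hf]) }, ?_⟩
  ext c
  exact hf c

theorem base_eq_of_coequalizes {S' S W : Scheme.{u}} (g : S' ⟶ S) (e : S' ⟶ W)
    (h : pullback.fst g g ≫ e = pullback.snd g g ≫ e) (x x' : S')
    (hx : g.base x = g.base x') : e.base x = e.base x' := by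
  obtain ⟨z, hz1, hz2⟩ := Scheme.Pullback.exists_preimage_pullback (f := g) (g := g) x x' hx
  rw [← hz1, ← hz2, ← Scheme.Hom.comp_apply, ← Scheme.Hom.comp_apply, h]

theorem appLE_congr_hom {X Y : Scheme.{u}} {f f' : X ⟶ Y} (h : f = f') (U : Y.Opens)
    (V : X.Opens) (e : V ≤ f ⁻¹ᵁ U) : f.appLE U V e = f'.appLE U V (h ▸ e) := by
  subst h; rfl

theorem isLocalHom_stalkMap_congr {X Y : PresheafedSpace CommRingCat.{u}} {α β : X ⟶ Y}
    (h : α = β) (x : X) (hβ : IsLocalHom (β.stalkMap x).hom) : IsLocalHom (α.stalkMap x).hom := by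
  subst h; exact hβ

theorem exists_desc {S' S W : Scheme.{u}} (g : S' ⟶ S) (hq : Topology.IsQuotientMap g.base)
    (hinj : ∀ U : S.Opens, Function.Injective (g.app U).hom)
    (heq : ∀ (U : S.Opens) (s' : Γ(S', g ⁻¹ᵁ U)),
      (SGA1.overlapFstApp g U).hom s' = (SGA1.overlapSndApp g U).hom s' →
      s' ∈ Set.range (g.app U).hom)
    (e : S' ⟶ W) (h : pullback.fst g g ≫ e = pullback.snd g g ≫ e) :
    ∃ m : S ⟶ W, g ≫ m = e := by
  -- base map
  let m₀ : (S : TopCat) ⟶ (W : TopCat) := TopCat.ofHom (hq.lift e.base.hom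
    (fun x x' hx => base_eq_of_coequalizes g e h x x' hx))
  have hm₀ : g.base ≫ m₀ = e.base := by
    ext x
    exact congrFun (congrArg DFunLike.coe (hq.lift_comp e.base.hom
      (fun x x' hx => base_eq_of_coequalizes g e h x x' hx))) x
  have hpre : ∀ V : W.Opens, g ⁻¹ᵁ ((TopologicalSpace.Opens.map m₀).obj V) = e ⁻¹ᵁ V := by
    intro V
    ext x
    show m₀ (g.base x) ∈ V ↔ e.base x ∈ V
    rw [← hm₀]
    rfl
  have hc : ∀ V : W.Opens, ∃ ψ : Γ(W, V) ⟶ Γ(S, (TopologicalSpace.Opens.map m₀).obj V),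
      ψ ≫ g.app _ = e.appLE V (g ⁻¹ᵁ ((TopologicalSpace.Opens.map m₀).obj V)) (hpre V).le := by
    intro V
    apply exists_lift_of_injective _ (hinj _)
    intro a
    apply heq
    have key : e.appLE V (g ⁻¹ᵁ ((TopologicalSpace.Opens.map m₀).obj V)) (hpre V).le ≫
        SGA1.overlapFstApp g ((TopologicalSpace.Opens.map m₀).obj V) =
        e.appLE V (g ⁻¹ᵁ ((TopologicalSpace.Opens.map m₀).obj V)) (hpre V).le ≫
        SGA1.overlapSndApp g ((TopologicalSpace.Opens.map m₀).obj V) := by
      unfold SGA1.overlapFstApp SGA1.overlapSndApp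
      rw [Scheme.Hom.app_eq_appLE, Scheme.Hom.appLE_comp_appLE, Scheme.Hom.appLE_comp_appLE]
      exact appLE_congr_hom h _ _ _
    exact congrArg (fun φ => φ.hom a) key
  choose c hc using hc
  have hmono : ∀ U : S.Opens, Mono (g.app U) := fun U =>
    ConcreteCategory.mono_of_injective _ (hinj U)
  have hnat : ∀ (V V' : (TopologicalSpace.Opens W)ᵒᵖ) (i : V ⟶ V'),
      W.presheaf.map i ≫ c V'.unop =
        c V.unop ≫ S.presheaf.map ((TopologicalSpace.Opens.map m₀).map i.unop).op := by
    intro V V' i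
    rw [← cancel_mono (g.app _), Category.assoc, Category.assoc, hc, Scheme.Hom.map_appLE,
      Scheme.Hom.naturality, ← Category.assoc, hc, Scheme.Hom.appLE_map]
  let mP : S.toPresheafedSpace ⟶ W.toPresheafedSpace :=
    { base := m₀
      c := { app := fun V => c V.unop
             naturality := fun V V' i => hnat V V' i } }
  have hcomp : g.toPshHom ≫ mP = e.toPshHom := by
    refine PresheafedSpace.ext _ _ hm₀ ?_
    apply NatTrans.ext
    funext V
    obtain ⟨V⟩ := V
    rw [NatTrans.comp_app, PresheafedSpace.comp_c_app, Functor.whiskerRight_app]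
    show (c V ≫ g.app _) ≫ S'.presheaf.map _ = e.app V
    rw [hc, Scheme.Hom.appLE, Category.assoc]
    refine (congrArg (e.app V ≫ ·) ?_).trans (Category.comp_id _)
    erw [← Functor.map_comp]
    exact (congrArg S'.presheaf.map (Subsingleton.elim _ (𝟙 _))).trans (S'.presheaf.map_id _)
  have hloc : ∀ x : S, IsLocalHom (mP.stalkMap x).hom := by
    intro x
    obtain ⟨x', rfl⟩ := hq.surjective x
    have h1 : (g.toPshHom ≫ mP).stalkMap x' =
        mP.stalkMap (g.base x') ≫ g.toPshHom.stalkMap x' :=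
      PresheafedSpace.stalkMap.comp _ _ _
    have h2 : IsLocalHom ((g.toPshHom ≫ mP).stalkMap x').hom :=
      isLocalHom_stalkMap_congr hcomp x' (e.toLRSHom.prop x')
    rw [h1] at h2
    have h3 : IsLocalHom ((g.toPshHom.stalkMap x').hom.comp (mP.stalkMap (g.base x')).hom) := h2
    exact isLocalHom_of_comp (mP.stalkMap (g.base x')).hom (g.toPshHom.stalkMap x').hom
  let m : S ⟶ W := ⟨⟨mP, hloc⟩⟩
  refine ⟨m, ?_⟩
  apply Scheme.Hom.ext'
  apply LocallyRingedSpace.Hom.ext'
  exact hcomp

theorem eq_of_comp_eq {S' S W : Scheme.{u}} (g : S' ⟶ S) (hsurj : Function.Surjective g.base)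
    (hinj : ∀ U : S.Opens, Function.Injective (g.app U).hom) (a b : S ⟶ W)
    (hab : g ≫ a = g ≫ b) : a = b := by
  have hmono : ∀ U : S.Opens, Mono (g.app U) := fun U =>
    ConcreteCategory.mono_of_injective _ (hinj U)
  have hbase : a.base = b.base := by
    ext x
    obtain ⟨x', rfl⟩ := hsurj x
    exact congrArg (fun f : S' ⟶ W => f.base x') hab
  refine Scheme.Hom.ext hbase ?_
  intro U
  rw [← cancel_mono (g.app _), Category.assoc, Scheme.Hom.naturality, ← Category.assoc,
    ← Scheme.Hom.comp_app, ← Scheme.Hom.comp_app, Scheme.Hom.congr_app hab U]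
  erw [Category.assoc, ← Functor.map_comp]
  refine (congrArg ((g ≫ b).app U ≫ ·) ?_).trans (Category.comp_id _)
  exact (congrArg S'.presheaf.map (Subsingleton.elim _ (𝟙 _))).trans (S'.presheaf.map_id _)

/-- Let g : S' ⟶ S be a morphism of schemes whose underlying map is a quotient map, and such that for
every open U of S the sequence O_S(U) → O_{S'}(g⁻¹U) ⇉ O_{S''}(h⁻¹U) is an equalizer, where S'' = S'
×_S S' with structure map h and the two arrows are restriction along the projections. Then g is an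
effective epimorphism in the category of schemes. -/
theorem result {S' S : Scheme.{u}} (g : S' ⟶ S) (hq : Topology.IsQuotientMap g.base)
    (hinj : ∀ U : S.Opens, Function.Injective (g.app U).hom)
    (heq : ∀ (U : S.Opens) (s' : Γ(S', g ⁻¹ᵁ U)), (SGA1.overlapFstApp g U).hom s' = (SGA1.overlapSndApp g U).hom s' →
      s' ∈ Set.range (g.app U).hom) :
    EffectiveEpi g := by
  have hex : ∀ {W : Scheme.{u}} (e : S' ⟶ W),
      (∀ {Z : Scheme.{u}} (g₁ g₂ : Z ⟶ S'), g₁ ≫ g = g₂ ≫ g → g₁ ≫ e = g₂ ≫ e) →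
      ∃ m : S ⟶ W, g ≫ m = e := fun e he =>
    exists_desc g hq hinj heq e (he _ _ pullback.condition)
  refine ⟨⟨{ desc := fun e he => (hex e he).choose
             fac := fun e he => (hex e he).choose_spec
             uniq := fun e he m hm => ?_ }⟩⟩
  exact eq_of_comp_eq g hq.surjective hinj _ _ (hm.trans (hex e he).choose_spec.symm)

end Groth.Agent.S2914
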