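import Groth.Statements.S2916
import Groth.Agent.Lib.Helper89.EtaleDescent3

set_option autoImplicit false
open CategoryTheory CategoryTheory.Limits AlgebraicGeometry Opposite
universe u
open SGA1

namespace Groth.Agent.S2916

/-- Let g : S' ⟶ S be universally submersive with geometrically connected fibres (the base change of S'
to any algebraically closed field valued point of S is connected). Then S' is connected whenever S
is, and for schemes X, Y etale over S every S'-morphism between their base changes comes from
exactly one S-morphism X ⟶ Y. -/
theorem result {S' S : Scheme.{u}} (g : S' ⟶ S)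
    (hg : SGA1.UnivSubmersive g)
    (hconn : ∀ (K : Type u) [Field K] [IsAlgClosed K] (ξ : Spec (CommRingCat.of K) ⟶ S), ConnectedSpace ↑(pullback g ξ)) :
    (ConnectedSpace S → ConnectedSpace S') ∧
    ∀ (X Y : Over S) [Etale X.hom] [Etale Y.hom], Function.Bijective ((Over.pullback g).map : (X ⟶ Y) → _) := by
  refine ⟨fun hS => ?_, ?_⟩
  · have hq : Topology.IsQuotientMap g.base := by
      have h1 := hg _ _ _ (IsPullback.of_id_snd (f := g))
      exact h1
    have hfib : ∀ s : S, _root_.IsConnected (g.base ⁻¹' {s}) := by
      intro s
      obtain ⟨K, _, _, ξ, hξ⟩ :=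
        Groth.Agent.Lib.Helper89.EtaleDescent.exists_geometric_point_of_point s
      have := hconn K ξ
      rw [← hξ, ← Scheme.Pullback.range_fst]
      exact isConnected_range (pullback.fst g ξ).continuous
    have := hq.isCoinducing.isConnected_preimage_of_isClosed hfib isClosed_univ isConnected_univ
    rw [Set.preimage_univ] at this
    exact connectedSpace_iff_univ.mpr this
  · intro X Y _ _
    constructor
    · intro φ₁ φ₂ h
      have h' := congrArg (fun k => k.left ≫ pullback.fst Y.hom g) h
      simp only [Over.pullback_map_left, pullback.lift_fst] at h'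
      apply Over.OverMorphism.ext
      exact Groth.Agent.Lib.Helper89.EtaleDescent.eq_of_comp_eq_of_unramified Y.hom φ₁.left φ₂.left
        ((Over.w φ₁).trans (Over.w φ₂).symm) (pullback.fst X.hom g)
        (hg _ _ _ (IsPullback.of_hasPullback X.hom g)).surjective h'
    · intro ψ
      obtain ⟨φ, hφ1, hφ2⟩ := Groth.Agent.Lib.Helper89.EtaleDescent.exists_hom_descent_geomConn g hg
        hconn Y.hom X.hom ψ.left (Over.w ψ)
      refine ⟨Over.homMk φ hφ1, ?_⟩
      apply Over.OverMorphism.ext
      simp only [Over.pullback_map_left, Over.homMk_left]
      apply pullback.hom_ext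
      · rw [pullback.lift_fst]; exact hφ2
      · rw [pullback.lift_snd]; exact (Over.w ψ).symm

end Groth.Agent.S2916
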