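import Groth.Statements.S2917
import Mathlib
-- import your own Groth.Agent.* helpers here

set_option autoImplicit false
open CategoryTheory CategoryTheory.Limits AlgebraicGeometry Opposite
universe u
open SGA1

namespace Groth.Agent.S2917

open MorphismProperty

section General

variable {C : Type*} [Category C] [HasPullbacks C]

/-- If `P` descends along `Q` (and `Q` is stable under base change) then so does
`universally P`. -/
theorem universally_descendsAlong (P Q : MorphismProperty C) [P.DescendsAlong Q]
    [Q.IsStableUnderBaseChange] : (P.universally).DescendsAlong Q := by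
  constructor
  intro A X Y Z fst snd f g h hf hfst Y₁ Z₁ i₁ i₂ g₁ hg₁
  -- hg₁ : IsPullback g₁ i₁ i₂ g
  have hX₁ : IsPullback (pullback.fst f i₂) (pullback.snd f i₂) f i₂ := .of_hasPullback f i₂
  have hQf₁ : Q (pullback.snd f i₂) := Q.of_isPullback hX₁ hf
  have hA₁ : IsPullback (pullback.fst (pullback.snd f i₂) g₁) (pullback.snd (pullback.snd f i₂) g₁)
      (pullback.snd f i₂) g₁ := .of_hasPullback _ _
  refine DescendsAlong.of_isPullback (P := P) (Q := Q) hA₁ hQf₁ ?_
  -- the map A₁ ⟶ A
  let u : pullback (pullback.snd f i₂) g₁ ⟶ A :=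
    h.lift (pullback.fst _ _ ≫ pullback.fst f i₂) (pullback.snd _ _ ≫ i₁) (by
      rw [Category.assoc, Category.assoc, hX₁.w, ← hg₁.w, ← Category.assoc, ← Category.assoc,
        hA₁.w])
  have hu1 : u ≫ fst = pullback.fst _ _ ≫ pullback.fst f i₂ := h.lift_fst _ _ _
  have hu2 : u ≫ snd = pullback.snd _ _ ≫ i₁ := h.lift_snd _ _ _
  apply hfst u (pullback.fst f i₂) (pullback.fst (pullback.snd f i₂) g₁)
  -- IsPullback fst₁ u a fst
  have houter : IsPullback (pullback.snd (pullback.snd f i₂) g₁ ≫ i₁)
      (pullback.fst (pullback.snd f i₂) g₁) g (pullback.snd f i₂ ≫ i₂) :=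
    hA₁.flip.paste_horiz hg₁.flip
  have houter' : IsPullback (u ≫ snd) (pullback.fst (pullback.snd f i₂) g₁) g
      (pullback.fst f i₂ ≫ f) := by
    rw [hu2, hX₁.w]
    exact houter
  exact (IsPullback.of_right houter' hu1 h.flip).flip

end General

instance univSubmersive_stable : (SGA1.UnivSubmersive.{u}).IsStableUnderBaseChange :=
  universally_isStableUnderBaseChange _

theorem isQuotientMap_of_univSubmersive {X Y : Scheme.{u}} (f : X ⟶ Y)
    (hf : SGA1.UnivSubmersive f) : Topology.IsQuotientMap f.base :=
  hf (𝟙 _) (𝟙 _) f IsPullback.of_id_snd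

instance openMap_descends :
    (topologically @IsOpenMap).DescendsAlong SGA1.UnivSubmersive.{u} := by
  constructor
  intro A X Y Z fst snd f g h hf hfst
  intro U hU
  have hq := isQuotientMap_of_univSubmersive f hf
  rw [← hq.isOpen_preimage, ← Scheme.image_preimage_eq_of_isPullback h.flip]
  exact hfst _ (hU.preimage snd.continuous)

instance closedMap_descends :
    (topologically @IsClosedMap).DescendsAlong SGA1.UnivSubmersive.{u} := by
  constructor
  intro A X Y Z fst snd f g h hf hfst
  intro U hU
  have hq := isQuotientMap_of_univSubmersive f hf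
  rw [← hq.isClosed_preimage, ← Scheme.image_preimage_eq_of_isPullback h.flip]
  exact hfst _ (hU.preimage snd.continuous)

instance universallyOpen_descends :
    DescendsAlong (@UniversallyOpen) SGA1.UnivSubmersive.{u} := by
  rw [UniversallyOpen.eq]
  exact universally_descendsAlong _ _

instance universallyClosed_descends :
    DescendsAlong (@UniversallyClosed) SGA1.UnivSubmersive.{u} := by
  rw [universallyClosed_eq]
  exact universally_descendsAlong _ _

instance isSeparated_descends :
    DescendsAlong (@IsSeparated) SGA1.UnivSubmersive.{u} := by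
  constructor
  intro A X Y Z fst snd f g h hf hfst
  have h1 : (topologically @IsClosedMap).diagonal fst := by
    show IsClosedMap (pullback.diagonal fst).base
    exact (pullback.diagonal fst).isClosedEmbedding.isClosedMap
  have h2 : (topologically @IsClosedMap).diagonal g :=
    DescendsAlong.of_isPullback (P := diagonal _) (Q := SGA1.UnivSubmersive) h hf h1
  have h3 : IsClosed (Set.range (pullback.diagonal g).base) :=
    (show IsClosedMap (pullback.diagonal g).base from h2).isClosed_range
  constructor
  exact IsClosedImmersion.of_isPreimmersion _ h3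

theorem quasiCompact_descends {A X Y Z : Scheme.{u}} {fst : A ⟶ X} {snd : A ⟶ Y} {f : X ⟶ Z}
    {g : Y ⟶ Z} (h : IsPullback fst snd f g) [Surjective f] [QuasiCompact f]
    [QuasiCompact fst] : QuasiCompact g := by
  have hs : Surjective snd := MorphismProperty.of_isPullback (P := @Surjective) h inferInstance
  rw [quasiCompact_iff]
  intro U hU hUc
  have h1 : IsCompact (f.base ⁻¹' U) := (quasiCompact_iff f).1 inferInstance U hU hUc
  have h2 : IsCompact (fst.base ⁻¹' (f.base ⁻¹' U)) :=
    (quasiCompact_iff fst).1 inferInstance _ (hU.preimage f.continuous) h1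
  have h3 : fst.base ⁻¹' (f.base ⁻¹' U) = snd.base ⁻¹' (g.base ⁻¹' U) := by
    rw [← Set.preimage_comp, ← Set.preimage_comp, ← TopCat.coe_comp, ← TopCat.coe_comp,
      ← Scheme.Hom.comp_base, ← Scheme.Hom.comp_base, h.w]
  rw [h3] at h2
  have h4 : g.base ⁻¹' U = snd.base '' (snd.base ⁻¹' (g.base ⁻¹' U)) :=
    (Set.image_preimage_eq _ hs.surj).symm
  rw [h4]
  exact h2.image snd.continuous

/-- Let g : S' ⟶ S be universally submersive, f : X ⟶ Y a morphism of S-schemes (Y ⟶ S the structure
map) and f' its base change along S' ⟶ S, realised as X ×_S S' ⟶ Y ×_S S'. If f' is open (resp.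
closed) then so is f; if f' is universally open (resp. universally closed, resp. separated) then so
is f; and if moreover g is quasi-compact and f locally of finite type, then f is proper as soon as
f' is. -/
theorem result {S' S X Y : Scheme.{u}} (g : S' ⟶ S) (hg : SGA1.UnivSubmersive g)
    (f : X ⟶ Y) (q : Y ⟶ S) :
    (IsOpenMap (pullback.map (f ≫ q) g q g f (𝟙 S') (𝟙 S) (Category.comp_id _) ((Category.comp_id _).trans (Category.id_comp _).symm)).base → IsOpenMap f.base) ∧
    (IsClosedMap (pullback.map (f ≫ q) g q g f (𝟙 S') (𝟙 S) (Category.comp_id _) ((Category.comp_id _).trans (Category.id_comp _).symm)).base → IsClosedMap f.base) ∧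
    (UniversallyOpen (pullback.map (f ≫ q) g q g f (𝟙 S') (𝟙 S) (Category.comp_id _) ((Category.comp_id _).trans (Category.id_comp _).symm)) → UniversallyOpen f) ∧
    (UniversallyClosed (pullback.map (f ≫ q) g q g f (𝟙 S') (𝟙 S) (Category.comp_id _) ((Category.comp_id _).trans (Category.id_comp _).symm)) → UniversallyClosed f) ∧
    (IsSeparated (pullback.map (f ≫ q) g q g f (𝟙 S') (𝟙 S) (Category.comp_id _) ((Category.comp_id _).trans (Category.id_comp _).symm)) → IsSeparated f) ∧
    (QuasiCompact g → LocallyOfFiniteType f →
      IsProper (pullback.map (f ≫ q) g q g f (𝟙 S') (𝟙 S) (Category.comp_id _) ((Category.comp_id _).trans (Category.id_comp _).symm)) → IsProper f) := by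
  have hpb : IsPullback (pullback.map (f ≫ q) g q g f (𝟙 S') (𝟙 S) (Category.comp_id _)
      ((Category.comp_id _).trans (Category.id_comp _).symm)) (pullback.fst (f ≫ q) g)
      (pullback.fst q g) f := by
    refine IsPullback.of_right ?_ (pullback.lift_fst _ _ _) (IsPullback.of_hasPullback q g).flip
    have : pullback.map (f ≫ q) g q g f (𝟙 S') (𝟙 S) (Category.comp_id _)
      ((Category.comp_id _).trans (Category.id_comp _).symm) ≫ pullback.snd q g =
        pullback.snd (f ≫ q) g := by
      rw [pullback.lift_snd, Category.comp_id]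
    rw [this]
    exact (IsPullback.of_hasPullback (f ≫ q) g).flip
  have hQ : SGA1.UnivSubmersive (pullback.fst q g) :=
    MorphismProperty.pullback_fst (P := SGA1.UnivSubmersive) q g hg
  refine ⟨fun h => DescendsAlong.of_isPullback (P := topologically @IsOpenMap) hpb hQ h,
    fun h => DescendsAlong.of_isPullback (P := topologically @IsClosedMap) hpb hQ h,
    fun h => DescendsAlong.of_isPullback (P := @UniversallyOpen) hpb hQ h,
    fun h => DescendsAlong.of_isPullback (P := @UniversallyClosed) hpb hQ h,
    fun h => DescendsAlong.of_isPullback (P := @IsSeparated) hpb hQ h, ?_⟩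
  intro hgqc hflft hprop
  have hsep : IsSeparated f :=
    DescendsAlong.of_isPullback (P := @IsSeparated) hpb hQ inferInstance
  have huc : UniversallyClosed f :=
    DescendsAlong.of_isPullback (P := @UniversallyClosed) hpb hQ inferInstance
  have hsurj : Surjective (pullback.fst q g) :=
    ⟨(isQuotientMap_of_univSubmersive _ hQ).surjective⟩
  have hqc : QuasiCompact f := quasiCompact_descends hpb
  exact { }

end Groth.Agent.S2917
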