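import Groth.Statements.S2919
import Groth.Agent.Lib.Helper79.QuotCoset2
import Groth.Agent.S2910
import Mathlib

set_option autoImplicit false
open CategoryTheory CategoryTheory.Limits AlgebraicGeometry
universe u
open SGA1

namespace Groth.Agent.S2919

/-- Let a finite group G act on X, p : X ⟶ Y a quotient with Y locally Noetherian and p finite, G acting
freely on geometric points, and suppose p has a section. Then the morphism from the disjoint union
of copies of Y indexed by G to X which is s followed by the action of g on the g-th copy is an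
isomorphism. -/
theorem result {X Y : Scheme.{u}} {G : Type u} [Group G] [Finite G] (ρ : G →* Aut X)
    (p : X ⟶ Y) (hp : SGA1.IsQuot ρ p) [IsLocallyNoetherian Y] [IsFinite p]
    (hfree : (∀ (K : Type u) [Field K] [IsAlgClosed K] (ξ : Spec (CommRingCat.of K) ⟶ X) (g : G), ξ ≫ (ρ g).hom = ξ → g = 1)) (s : Y ⟶ X) (hs : s ≫ p = 𝟙 Y) :
    IsIso (Sigma.desc (fun g : G => s ≫ (ρ g).hom) : (∐ fun _ : G => Y) ⟶ X) := by
  classical
  cases nonempty_fintype G
  obtain ⟨-, hfib, -⟩ := Groth.Agent.S2908.result ρ p hp
  have hsep : IsSeparated p := inferInstance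
  have hci : IsClosedImmersion s := by
    have : IsClosedImmersion (s ≫ p) := by rw [hs]; infer_instance
    exact IsClosedImmersion.of_comp s p
  have hps : ∀ y : Y, p.base (s.base y) = y := fun y => congrArg (fun k => k.base y) hs
  have hpinv : ∀ (g : G) (x : X), p.base ((ρ g).hom.base x) = p.base x := fun g x =>
    congrArg (fun k => k.base x) (hp.inv g)
  have hmul : ∀ (a g : G) (x : X), (ρ (g * a)).hom.base x = (ρ g).hom.base ((ρ a).hom.base x) :=
    fun a g x => congrArg (fun k => k.base x) (Groth.Agent.S2910.hom_mul' ρ a g)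
  have hone : ∀ x : X, (ρ 1).hom.base x = x := by
    intro x
    have : (ρ 1).hom = 𝟙 X := by rw [map_one]; rfl
    rw [this]; rfl
  -- a group element fixing a point of the section is trivial
  have hfix : ∀ (h : G) (y : Y), (ρ h).hom.base (s.base y) = s.base y → h = 1 := by
    intro h y e
    -- `p` induces an isomorphism on the residue field at `s y`
    have hsurj : Function.Surjective (p.residueFieldMap (s.base y)).hom := by
      have h2 : p.residueFieldMap (s.base y) ≫ s.residueFieldMap y =
          (Y.residueFieldCongr (hps y)).hom :=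
        ((Scheme.residueFieldMap_comp s p y).symm.trans
          (Scheme.Hom.residueFieldMap_congr hs y)).trans
          (by rw [Scheme.residueFieldMap_id]; exact Category.comp_id _)
      -- `p# ≫ s#` is an isomorphism, so `s#` is surjective, hence bijective, hence `p#` surjective
      have h3 : Function.Bijective (p.residueFieldMap (s.base y) ≫ s.residueFieldMap y).hom := by
        rw [h2]
        exact (ConcreteCategory.bijective_of_isIso (Y.residueFieldCongr _).hom)
      rw [CommRingCat.hom_comp, RingHom.coe_comp] at h3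
      have h4 : Function.Injective (s.residueFieldMap y).hom := (s.residueFieldMap y).hom.injective
      intro z
      obtain ⟨w, hw⟩ := h3.2 ((s.residueFieldMap y).hom z)
      exact ⟨w, h4 hw⟩
    have hτ : Groth.Agent.S13082.tauOf (ρ h).hom (s.base y) e = 𝟙 _ := by
      have h1 := Groth.Agent.S13082.residueFieldMap_tauOf p (ρ h).hom (hp.inv h) (s.base y) e
      apply CommRingCat.hom_ext
      apply RingHom.ext
      intro z
      obtain ⟨w, rfl⟩ := hsurj z
      exact congrArg (fun k => k.hom w) h1
    let K := AlgebraicClosure (X.residueField (s.base y))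
    let ξ : Spec (CommRingCat.of K) ⟶ X :=
      Spec.map (CommRingCat.ofHom (algebraMap (X.residueField (s.base y)) K)) ≫
        X.fromSpecResidueField (s.base y)
    apply hfree K ξ h
    show (Spec.map _ ≫ X.fromSpecResidueField (s.base y)) ≫ (ρ h).hom = _
    rw [Category.assoc, Groth.Agent.S2910.fromSpecResidueField_comp _ _ e, hτ, Spec.map_id,
      Category.id_comp]
  -- the translates of the range of `s`
  have hcover : ∀ x : X, ∃ g : G, x ∈ (ρ g).hom.base '' Set.range s.base := by
    intro x
    have h1 : p.base (s.base (p.base x)) = p.base x := hps _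
    obtain ⟨g, hg⟩ := (hfib _ _).mp h1
    exact ⟨g, s.base (p.base x), ⟨_, rfl⟩, hg⟩
  have hdisj : ∀ g g' : G, g ≠ g' →
      Disjoint ((ρ g).hom.base '' Set.range s.base) ((ρ g').hom.base '' Set.range s.base) := by
    intro g g' hne
    rw [Set.disjoint_left]
    rintro _ ⟨_, ⟨y, rfl⟩, rfl⟩ ⟨_, ⟨y', rfl⟩, h2⟩
    have hy : y' = y := by
      have := congrArg p.base h2
      rw [hpinv, hpinv, hps, hps] at this
      exact this
    subst hy
    have h3 : (ρ (g⁻¹ * g')).hom.base (s.base y') = s.base y' := by
      rw [hmul, h2, ← hmul, inv_mul_cancel, hone]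
    have h4 := hfix _ _ h3
    exact hne (by rw [inv_mul_eq_one] at h4; exact h4)
  have hclosedT : ∀ g : G, IsClosed ((ρ g).hom.base '' Set.range s.base) := by
    intro g
    have : IsIso (ρ g).hom := Iso.isIso_hom (ρ g)
    exact (ρ g).hom.homeomorph.isClosedMap _ s.isClosedEmbedding.isClosed_range
  have hopenS : IsOpen (Set.range s.base) := by
    rw [← isClosed_compl_iff]
    have : (Set.range s.base)ᶜ = ⋃ g ∈ (Finset.univ.filter fun g : G => g ≠ 1),
        (ρ g).hom.base '' Set.range s.base := by
      ext x
      simp only [Set.mem_compl_iff, Set.mem_iUnion, Finset.mem_filter, Finset.mem_univ, true_and,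
        exists_prop]
      constructor
      · intro hx
        obtain ⟨g, hg⟩ := hcover x
        refine ⟨g, ?_, hg⟩
        rintro rfl
        obtain ⟨z, hz, rfl⟩ := hg
        exact hx (by rw [hone]; exact hz)
      · rintro ⟨g, hg1, hg⟩ hx
        have hx' : x ∈ (ρ 1).hom.base '' Set.range s.base := ⟨x, hx, hone x⟩
        exact Set.disjoint_left.mp (hdisj g 1 hg1) hg hx'
    rw [this]
    exact Set.Finite.isClosed_biUnion (Finset.finite_toSet _) fun g _ => hclosedT g
  let U : X.Opens := ⟨Set.range s.base, hopenS⟩
  -- `U ⟶ Y` is a quotient by the trivial group, hence an isomorphism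
  let ρU : (⊥ : Subgroup G) →* Aut (U : Scheme.{u}) := 1
  have hQ : SGA1.IsQuot ρU (U.ι ≫ p) := by
    refine Groth.Agent.Lib.Helper79.QuotCoset.isQuot_of_coset ρ p hp ⊥ U hcover ?_ ρU ?_
    · intro g hg
      have hg1 : g ≠ 1 := fun h => hg (by rw [h]; exact Subgroup.one_mem _)
      have := hdisj g 1 hg1
      rw [Set.disjoint_left] at this ⊢
      intro x hx hxU
      exact this hx ⟨x, hxU, hone x⟩
    · intro h
      have h1 : (h : G) = 1 := Subgroup.mem_bot.mp h.2
      have h2 : (ρ (h : G)).hom = 𝟙 X := by rw [h1, map_one]; rfl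
      rw [h2, Category.comp_id]
      exact Category.id_comp _
  have hiso : IsIso (U.ι ≫ p) :=
    Groth.Agent.Lib.Helper79.QuotCoset.isIso_of_isQuot_of_subsingleton ρU _ hQ
  -- `s` is an open immersion
  have hsU : Set.range s.base ⊆ Set.range U.ι.base := by
    rw [Scheme.Opens.range_ι]
    exact fun x hx => hx
  let s' : Y ⟶ U := IsOpenImmersion.lift U.ι s hsU
  have hs' : s' ≫ U.ι = s := IsOpenImmersion.lift_fac _ _ _
  have hs'iso : IsIso s' := by
    have h1 : s' ≫ (U.ι ≫ p) = 𝟙 Y := by rw [← Category.assoc, hs', hs]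
    have : s' = inv (U.ι ≫ p) := by
      rw [← cancel_mono (U.ι ≫ p), h1, IsIso.inv_hom_id]
    rw [this]
    infer_instance
  have hsopen : IsOpenImmersion s := by
    rw [← hs']
    infer_instance
  have hopen : ∀ g : G, IsOpenImmersion (s ≫ (ρ g).hom) := by
    intro g
    have : IsIso (ρ g).hom := Iso.isIso_hom (ρ g)
    infer_instance
  have hrange : ∀ g : G, Set.range (s ≫ (ρ g).hom).base = (ρ g).hom.base '' Set.range s.base := by
    intro g
    ext x
    constructor
    · rintro ⟨y, rfl⟩
      exact ⟨s.base y, ⟨y, rfl⟩, rfl⟩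
    · rintro ⟨_, ⟨y, rfl⟩, rfl⟩
      exact ⟨y, rfl⟩
  have hOI : IsOpenImmersion (Sigma.desc (fun g : G => s ≫ (ρ g).hom)) := by
    apply isOpenImmersion_sigmaDesc
    intro g g' hne
    show Disjoint (Set.range (s ≫ (ρ g).hom).base) (Set.range (s ≫ (ρ g').hom).base)
    rw [hrange, hrange]
    exact hdisj g g' hne
  have hsurj : Surjective (Sigma.desc (fun g : G => s ≫ (ρ g).hom)) := by
    constructor
    intro x
    obtain ⟨g, _, ⟨y, rfl⟩, rfl⟩ := hcover x
    refine ⟨(Sigma.ι (fun _ : G => Y) g).base y, ?_⟩
    have := congrArg (fun k => k.base y) (Sigma.ι_desc (fun g : G => s ≫ (ρ g).hom) g)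
    exact this
  exact (isIso_iff_isOpenImmersion_and_surjective _).mpr ⟨hOI, hsurj⟩

end Groth.Agent.S2919
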