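import Groth.Statements.S2920
import Groth.Agent.Lib.Helper79.FreeQuot
import Mathlib

set_option autoImplicit false
open CategoryTheory CategoryTheory.Limits AlgebraicGeometry
universe u
open SGA1

namespace Groth.Agent.S2920

/-- (i) ⇒ (iii): Let a finite group G act on X, p : X ⟶ Y a quotient with Y locally Noetherian and p
finite, G acting freely on geometric points. Then the morphism from the disjoint union of copies of
X indexed by G to X ×_Y X given on the g-th copy by (id, g) is an isomorphism, and p is flat and
surjective. -/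
theorem result {X Y : Scheme.{u}} {G : Type u} [Group G] [Finite G] (ρ : G →* Aut X)
    (p : X ⟶ Y) (hp : SGA1.IsQuot ρ p) [IsLocallyNoetherian Y] [IsFinite p] (hfree : (∀ (K : Type u) [Field K] [IsAlgClosed K] (ξ : Spec (CommRingCat.of K) ⟶ X) (g : G), ξ ≫ (ρ g).hom = ξ → g = 1)) :
    IsIso (Sigma.desc (fun g : G => pullback.lift (𝟙 X) (ρ g).hom ((Category.id_comp p).trans (hp.inv g).symm)) :
      (∐ fun _ : G => X) ⟶ pullback p p) ∧ Flat p ∧ Surjective p := by
  classical
  cases nonempty_fintype G
  obtain ⟨hsurj, -, -⟩ := Groth.Agent.S2908.result ρ p hp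
  have hflat : Flat p := Groth.Agent.Lib.Helper79.FreeQuot.flat_of_free ρ p hp hfree
  have hunr : FormallyUnramified p :=
    Groth.Agent.Lib.Helper79.FreeQuot.formallyUnramified_of_free ρ p hp hfree
  have hlft : LocallyOfFiniteType p := inferInstance
  refine ⟨?_, hflat, ⟨hsurj⟩⟩
  have hΔ : IsOpenImmersion (pullback.diagonal p) := inferInstance
  have hγ : ∀ g : G, pullback.lift (𝟙 X) (ρ g).hom ((Category.id_comp p).trans (hp.inv g).symm) =
      pullback.diagonal p ≫ pullback.map p p p p (𝟙 X) (ρ g).hom (𝟙 Y)
        (by rw [Category.comp_id, Category.id_comp])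
        (by rw [hp.inv, Category.comp_id]) := by
    intro g
    apply pullback.hom_ext
    · rw [pullback.lift_fst, Category.assoc, pullback.lift_fst, ← Category.assoc,
        pullback.diagonal_fst, Category.id_comp]
    · rw [pullback.lift_snd, Category.assoc, pullback.lift_snd, ← Category.assoc,
        pullback.diagonal_snd, Category.id_comp]
  have hγopen : ∀ g : G, IsOpenImmersion
      (pullback.lift (𝟙 X) (ρ g).hom ((Category.id_comp p).trans (hp.inv g).symm)) := by
    intro g
    rw [hγ]
    have : IsIso (ρ g).hom := Iso.isIso_hom (ρ g)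
    infer_instance
  have hOI : IsOpenImmersion (Sigma.desc (fun g : G =>
      pullback.lift (𝟙 X) (ρ g).hom ((Category.id_comp p).trans (hp.inv g).symm))) := by
    apply isOpenImmersion_sigmaDesc
    intro g g' hne
    show Disjoint (Set.range (pullback.lift (𝟙 X) (ρ g).hom _).base)
      (Set.range (pullback.lift (𝟙 X) (ρ g').hom _).base)
    rw [Set.disjoint_left]
    rintro z ⟨x, hx⟩ ⟨x', hx'⟩
    apply hne
    -- a geometric point over `z`
    let K := AlgebraicClosure ((pullback p p).residueField z)
    obtain ⟨ζ, hζ⟩ : ∃ ζ : Spec (CommRingCat.of K) ⟶ pullback p p, ∀ w, ζ.base w = z :=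
      ⟨Spec.map (CommRingCat.ofHom (algebraMap ((pullback p p).residueField z) K)) ≫
        (pullback p p).fromSpecResidueField z, fun w => by
          show ((pullback p p).fromSpecResidueField z).base _ = z
          exact Scheme.fromSpecResidueField_apply _ _⟩
    have hr : Set.range ζ.base ⊆
        Set.range (pullback.lift (𝟙 X) (ρ g).hom
          ((Category.id_comp p).trans (hp.inv g).symm)).base := by
      rintro _ ⟨w, rfl⟩
      exact ⟨x, hx.trans (hζ w).symm⟩
    have hr' : Set.range ζ.base ⊆
        Set.range (pullback.lift (𝟙 X) (ρ g').hom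
          ((Category.id_comp p).trans (hp.inv g').symm)).base := by
      rintro _ ⟨w, rfl⟩
      exact ⟨x', hx'.trans (hζ w).symm⟩
    have := hγopen g
    have := hγopen g'
    let ξ := IsOpenImmersion.lift _ ζ hr
    let ξ' := IsOpenImmersion.lift _ ζ hr'
    have hξ : ξ ≫ pullback.lift (𝟙 X) (ρ g).hom ((Category.id_comp p).trans (hp.inv g).symm) = ζ :=
      IsOpenImmersion.lift_fac _ _ _
    have hξ' : ξ' ≫ pullback.lift (𝟙 X) (ρ g').hom
        ((Category.id_comp p).trans (hp.inv g').symm) = ζ :=
      IsOpenImmersion.lift_fac _ _ _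
    have e1 : ξ = ξ' := by
      have h1 := congrArg (fun k => k ≫ pullback.fst p p) hξ
      have h2 := congrArg (fun k => k ≫ pullback.fst p p) hξ'
      simp only [Category.assoc, pullback.lift_fst, Category.comp_id] at h1 h2
      rw [h1, h2]
    have e2 : ξ ≫ (ρ g).hom = ξ ≫ (ρ g').hom := by
      have h1 := congrArg (fun k => k ≫ pullback.snd p p) hξ
      have h2 := congrArg (fun k => k ≫ pullback.snd p p) hξ'
      simp only [Category.assoc, pullback.lift_snd] at h1 h2
      rw [h1, e1, h2]
    have e3 : ξ ≫ (ρ (g'⁻¹ * g)).hom = ξ := by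
      rw [Groth.Agent.S2910.hom_mul', ← Category.assoc, e2, Category.assoc,
        ← Groth.Agent.S2910.hom_mul', inv_mul_cancel, map_one]
      exact Category.comp_id _
    have := hfree K ξ _ e3
    rw [inv_mul_eq_one] at this
    exact this.symm
  have hS : Surjective (Sigma.desc (fun g : G =>
      pullback.lift (𝟙 X) (ρ g).hom ((Category.id_comp p).trans (hp.inv g).symm))) := by
    constructor
    intro z
    let K := AlgebraicClosure ((pullback p p).residueField z)
    obtain ⟨ζ, hζ⟩ : ∃ ζ : Spec (CommRingCat.of K) ⟶ pullback p p, ∀ w, ζ.base w = z :=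
      ⟨Spec.map (CommRingCat.ofHom (algebraMap ((pullback p p).residueField z) K)) ≫
        (pullback p p).fromSpecResidueField z, fun w => by
          show ((pullback p p).fromSpecResidueField z).base _ = z
          exact Scheme.fromSpecResidueField_apply _ _⟩
    obtain ⟨g, hg⟩ := Groth.Agent.Lib.Helper79.FreeQuot.exists_conj_of_geometric ρ p hp K
      (ζ ≫ pullback.fst p p) (ζ ≫ pullback.snd p p)
      (by rw [Category.assoc, Category.assoc, pullback.condition])
    have hfac : ζ = (ζ ≫ pullback.fst p p) ≫
        pullback.lift (𝟙 X) (ρ g).hom ((Category.id_comp p).trans (hp.inv g).symm) := by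
      apply pullback.hom_ext
      · rw [Category.assoc, Category.assoc, pullback.lift_fst, Category.comp_id]
      · rw [Category.assoc, Category.assoc, pullback.lift_snd, hg, Category.assoc]
    let w : Spec (CommRingCat.of K) := IsLocalRing.closedPoint K
    refine ⟨(Sigma.ι (fun _ : G => X) g).base ((ζ ≫ pullback.fst p p).base w), ?_⟩
    have h1 := congrArg (fun k => k.base ((ζ ≫ pullback.fst p p).base w))
      (Sigma.ι_desc (fun g : G =>
        pullback.lift (𝟙 X) (ρ g).hom ((Category.id_comp p).trans (hp.inv g).symm)) g)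
    refine Eq.trans h1 ?_
    have h2 := congrArg (fun k => k.base w) hfac
    exact h2.symm.trans (hζ w)
  exact (isIso_iff_isOpenImmersion_and_surjective _).mpr ⟨hOI, hS⟩

end Groth.Agent.S2920
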