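import Groth.Statements.S2921
import Groth.Agent.Lib.Helper84.Kummer4

set_option autoImplicit false
universe u
open IsLocalRing
open SGA1

namespace Groth.Agent.S2921

/-- Regularity and etaleness; the tameness assertion is not stated: Let A be a regular local ring, f_1,
…, f_r elements of the maximal ideal whose images in the cotangent space are linearly independent
(part of a regular system of parameters), and n_1, …, n_r ≥ 1. Then A' = A[T_1, …, T_r]/(T_i^{n_i} −
f_i) is a regular local ring; and if each n_i is invertible in the residue field of A, then A'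
becomes etale over A after inverting f_1 ⋯ f_r. -/
theorem result (A : Type u) [CommRing A] [IsRegularLocalRing A] (r : ℕ) (f : Fin r → A)
    (hm : ∀ i, f i ∈ maximalIdeal A)
    (hf : LinearIndependent (ResidueField A) (fun i => (maximalIdeal A).toCotangent ⟨f i, hm i⟩))
    (n : Fin r → ℕ) (hn : ∀ i, 1 ≤ n i) :
    IsRegularLocalRing (SGA1.kummerAlg A f n) ∧
    ((∀ i, IsUnit ((n i : ℕ) : ResidueField A)) →
      letI := (Localization.awayMap (algebraMap A (SGA1.kummerAlg A f n)) (∏ i, f i)).toAlgebra
      Algebra.Etale (Localization.Away (∏ i, f i)) (Localization.Away (algebraMap A (SGA1.kummerAlg A f n) (∏ i, f i)))) := by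
  classical
  refine ⟨Groth.Agent.Lib.Helper84.Kummer.regular_kummer A r f hm hf n hn, fun hu => ?_⟩
  have hn0 : ∀ i, n i ≠ 0 := fun i => Nat.one_le_iff_ne_zero.1 (hn i)
  have hnA : ∀ i, IsUnit ((n i : ℕ) : A) := by
    intro i
    have h := hu i
    rw [← map_natCast (IsLocalRing.residue A)] at h
    exact isUnit_of_map_unit (IsLocalRing.residue A) _ h
  have hfu : ∀ i, IsUnit (algebraMap A (Localization.Away (∏ i, f i)) (f i)) := by
    intro i
    have hF : IsUnit (algebraMap A (Localization.Away (∏ i, f i)) (∏ i, f i)) :=
      IsLocalization.Away.algebraMap_isUnit _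
    have h1 : algebraMap A (Localization.Away (∏ i, f i)) (∏ i, f i) =
        algebraMap A (Localization.Away (∏ i, f i)) (f i) *
          algebraMap A (Localization.Away (∏ i, f i)) (∏ j ∈ Finset.univ.erase i, f j) := by
      rw [← map_mul, Finset.mul_prod_erase _ _ (Finset.mem_univ i)]
    rw [h1] at hF
    exact isUnit_of_mul_isUnit_left hF
  have hE : Algebra.Etale (Localization.Away (∏ i, f i))
      (Groth.Agent.Lib.Helper84.Kummer.KA (Groth.Agent.Lib.Helper84.Kummer.fB f (∏ i, f i)) n) := by
    have h := Groth.Agent.Lib.Helper84.Kummer.etale_MQ r (Localization.Away (∏ i, f i))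
      (Groth.Agent.Lib.Helper84.Kummer.fB f (∏ i, f i)) hfu n hn0 (fun i => by
        have := (hnA i).map (algebraMap A (Localization.Away (∏ i, f i)))
        rwa [map_natCast] at this)
    exact Algebra.Etale.of_equiv (Ideal.quotientEquivAlgOfEq _
      (Groth.Agent.Lib.Helper84.Kummer.mIdeal_gK _ n))
  exact Groth.Agent.Lib.Helper84.Kummer.etale_away f n (∏ i, f i) hE

end Groth.Agent.S2921
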