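import Groth.Statements.S2924
import Groth.Agent.Lib.Helper84.Kummer5
import Groth.Agent.Lib.Helper84.Kummer7

set_option autoImplicit false
universe u
open IsLocalRing
open SGA1

namespace Groth.Agent.S2924

open Groth.Agent.Lib.Helper84.Kummer Groth.Agent.Lib.Helper84.Kummer7

theorem exists_frac_residueField {B : Type*} [CommRing B] (q : Ideal B) [q.IsPrime]
    (x : q.ResidueField) :
    ∃ a s : B, s ∉ q ∧ x * algebraMap B q.ResidueField s = algebraMap B q.ResidueField a := by
  obtain ⟨y, rfl⟩ := IsLocalRing.residue_surjective x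
  obtain ⟨a, s, rfl⟩ := IsLocalization.exists_mk'_eq q.primeCompl y
  refine ⟨a, s, s.2, ?_⟩
  change residue _ _ * residue _ (algebraMap B (Localization.AtPrime q) s) =
    residue _ (algebraMap B (Localization.AtPrime q) a)
  rw [← map_mul, IsLocalization.mk'_spec]

theorem gen_KA {A : Type u} [CommRing A] {r : ℕ} (f : Fin r → A) (n : Fin r → ℕ)
    (S : Subring (KA f n)) (hA : ∀ a, algebraMap A (KA f n) a ∈ S) (hT : ∀ j, T f n j ∈ S)
    (b : KA f n) : b ∈ S := by
  obtain ⟨p, rfl⟩ := Ideal.Quotient.mk_surjective b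
  induction p using MvPolynomial.induction_on with
  | C a => exact hA a
  | add p q hp hq => rw [map_add]; exact S.add_mem hp hq
  | mul_X p i hp => rw [map_mul]; exact S.mul_mem hp (hT i)

section
variable {A : Type u} [CommRing A] [IsRegularLocalRing A] {r : ℕ} (f : Fin r → A)
    (hm : ∀ i, f i ∈ maximalIdeal A)
    (hf : LinearIndependent (ResidueField A) (fun i => (maximalIdeal A).toCotangent ⟨f i, hm i⟩))

include hf

theorem f_ne_zero (i : Fin r) : f i ≠ 0 := by
  intro h0
  apply hf.ne_zero i
  have : (⟨f i, hm i⟩ : maximalIdeal A) = 0 := Subtype.ext h0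
  rw [this, map_zero]

theorem f_notMem_span (i j : Fin r) (hij : j ≠ i) : f j ∉ Ideal.span {f i} := by
  intro hmem
  obtain ⟨a, ha⟩ := Ideal.mem_span_singleton'.mp hmem
  have h1 : (maximalIdeal A).toCotangent ⟨f j, hm j⟩ =
      residue A a • (maximalIdeal A).toCotangent ⟨f i, hm i⟩ := by
    have : (⟨f j, hm j⟩ : maximalIdeal A) = a • ⟨f i, hm i⟩ := Subtype.ext ha.symm
    rw [this, map_smul]
    rfl
  have h2 := linearIndependent_iff.mp hf (Finsupp.single j 1 - Finsupp.single i (residue A a))
    (by
      rw [map_sub, Finsupp.linearCombination_single, Finsupp.linearCombination_single, one_smul,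
        h1, sub_self])
  have h3 := DFunLike.congr_fun h2 j
  rw [Finsupp.sub_apply, Finsupp.single_eq_same, Finsupp.single_eq_of_ne hij] at h3
  simp at h3

end

/-- Let A be a regular local ring, f_1, …, f_r part of a regular system of parameters and n_i ≥ 1
invertible in the residue field. Then the Kummer algebra A[T_1, …, T_r]/(T_i^{n_i} − f_i) is tamely
ramified along each f_i (at every point of its generic fibre, with respect to the discrete valuation
rings A_{(f_i)}). -/
theorem result (A : Type u) [CommRing A] [IsRegularLocalRing A] [IsDomain A] (r : ℕ) (f : Fin r → A)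
    (hm : ∀ i, f i ∈ maximalIdeal A)
    (hf : LinearIndependent (ResidueField A) (fun i => (maximalIdeal A).toCotangent ⟨f i, hm i⟩))
    [∀ i, (Ideal.span {f i}).IsPrime] (n : Fin r → ℕ) (hn : ∀ i, 1 ≤ n i) (hu : ∀ i, IsUnit ((n i : ℕ) : ResidueField A)) :
    SGA1.IsTameAlong f (algebraMap A (SGA1.kummerAlg A f n)) := by
  intro i q _ hq V h _
  have hreg : IsRegularLocalRing (KA f n) := regular_KA f hm hf n hn
  have hdom : IsDomain (KA f n) := Groth.Agent.S0558.result _
  obtain ⟨hfree, hfin⟩ := free_KA f n hn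
  have hint : Algebra.IsIntegral A (KA f n) := inferInstance
  have hφinj := algebraMap_injective_KA f hm hf n hn
  have hq0 : q = ⊥ := Ideal.eq_bot_of_comap_eq_bot hq
  set φ : A →+* KA f n := algebraMap A (KA f n) with hφ
  set P : Ideal A := Ideal.span {f i} with hP
  set g := genericResidueMap φ P q hq with hg
  set ι : KA f n →+* q.ResidueField := algebraMap (KA f n) q.ResidueField with hιdef
  have hgι : ∀ a, g (algebraMap A (Localization.AtPrime P) a) = ι (φ a) := fun a =>
    IsLocalization.lift_eq _ a
  have hι : Function.Injective ι := by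
    rw [RingHom.injective_iff_ker_eq_bot, hιdef, Ideal.ker_algebraMap_residueField, hq0]
  have hfrac : ∀ x : q.ResidueField, ∃ a s : KA f n, s ≠ 0 ∧ x * ι s = ι a := by
    intro x
    obtain ⟨a, s, hs, hx⟩ := exists_frac_residueField q x
    exact ⟨a, s, fun h0 => hs (h0 ▸ q.zero_mem), hx⟩
  have hT_pow : ∀ j, ι (T f n j) ^ n j = g (algebraMap A (Localization.AtPrime P) (f j)) := by
    intro j
    rw [hgι, ← map_pow, T_pow]
  have hAV : ∀ a, ι (φ a) ∈ V := fun a => hgι a ▸ h.1 _
  have hTV : ∀ j, ι (T f n j) ∈ V := by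
    intro j
    rw [← V.valuation_le_one_iff]
    by_contra hlt
    rw [not_le] at hlt
    have h1 : 1 < V.valuation (ι (T f n j)) ^ n j :=
      one_lt_pow₀ hlt (by have := hn j; omega)
    rw [← map_pow, hT_pow, hgι] at h1
    exact absurd ((V.valuation_le_one_iff _).mpr (hAV (f j))) (not_le.mpr h1)
  have h1 : ∀ b : KA f n, V.valuation (ι b) ≤ 1 := fun b =>
    (V.valuation_le_one_iff _).mpr (gen_KA f n (V.toSubring.comap ι) hAV hTV b)
  set τ : KA f n := T f n i with hτdef
  have hτP : (Ideal.span {τ}).IsPrime := T_prime f hm hf n hn i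
  have hfi0 : f i ≠ 0 := f_ne_zero f hm hf i
  have hτpow : τ ^ n i = φ (f i) := T_pow f n i
  have hτ0 : τ ≠ 0 := by
    intro h0
    rw [h0, zero_pow (by have := hn i; omega)] at hτpow
    exact hfi0 (hφinj (hτpow.symm.trans (map_zero _).symm))
  have hτ : Prime τ := (Ideal.span_singleton_prime hτ0).mp hτP
  let ιV : KA f n →+* V := RingHom.codRestrict ι V (fun b => (V.valuation_le_one_iff _).mp (h1 b))
  let P' : Ideal (KA f n) := (maximalIdeal V).comap ιV
  have hP'mem : ∀ b, b ∈ P' ↔ V.valuation (ι b) < 1 := fun b => V.valuation_lt_one_iff (ιV b)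
  have hP'prime : P'.IsPrime := Ideal.comap_isPrime ιV _
  have hfi_mem : algebraMap A (Localization.AtPrime P) (f i) ∈
      maximalIdeal (Localization.AtPrime P) :=
    (IsLocalization.AtPrime.to_map_mem_maximal_iff (Localization.AtPrime P) P (f i)).mpr
      (Ideal.subset_span rfl)
  have hτP' : τ ∈ P' := by
    rw [hP'mem]
    by_contra hge
    rw [not_lt] at hge
    have h2 : 1 ≤ V.valuation (ι τ) ^ n i := one_le_pow₀ hge
    rw [← map_pow, hT_pow] at h2
    exact absurd (h.2 _ hfi_mem) (not_lt.mpr h2)
  have hle : Ideal.span {τ} ≤ P' := (Ideal.span_singleton_le_iff_mem _).mpr hτP'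
  have hcomapP' : P'.comap φ ≤ P := by
    intro a ha
    by_contra hnot
    have hu1 : IsUnit (algebraMap A (Localization.AtPrime P) a) :=
      (IsLocalization.AtPrime.isUnit_to_map_iff (Localization.AtPrime P) P a).mpr hnot
    have hu2 := hu1.map (RingHom.codRestrict g V h.1)
    have hv1 := (V.valuation_eq_one_iff _).mp hu2
    have ha' : V.valuation (ι (φ a)) < 1 := (hP'mem _).mp ha
    rw [← hgι] at ha'
    exact absurd hv1 (ne_of_lt ha')
  have heq : Ideal.span {τ} = P' := by
    by_contra hne
    have hlt : Ideal.span {τ} < P' := lt_of_le_of_ne hle hne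
    have hlt' := Ideal.IsIntegral.comap_lt_comap (R := A) hlt
    have hfiτ : f i ∈ (Ideal.span {τ}).comap φ := by
      rw [Ideal.mem_comap, ← hτpow, Ideal.mem_span_singleton]
      exact dvd_pow_self τ (by have := hn i; omega)
    have hPle : P ≤ (Ideal.span {τ}).comap φ := (Ideal.span_singleton_le_iff_mem _).mpr hfiτ
    exact absurd (hcomapP'.trans hPle) (not_le_of_gt hlt')
  have h2 : ∀ b : KA f n, V.valuation (ι b) < 1 ↔ τ ∣ b := fun b => by
    rw [← hP'mem, ← heq, Ideal.mem_span_singleton]
  have hnunit : ∀ j, IsUnit ((n j : ℕ) : Localization.AtPrime P) := by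
    intro j
    have hA : IsUnit ((n j : ℕ) : A) := by
      have : IsUnit (residue A ((n j : ℕ) : A)) := by rw [map_natCast]; exact hu j
      exact isUnit_of_map_unit (residue A) _ this
    have := hA.map (algebraMap A (Localization.AtPrime P))
    rwa [map_natCast] at this
  have hsep : ∀ j, τ ∣ T f n j ∨ ∃ c : Localization.AtPrime P,
      IsUnit c ∧ IsUnit ((n j : ℕ) : Localization.AtPrime P) ∧ g c = ι (T f n j) ^ n j := by
    intro j
    by_cases hji : j = i
    · left; rw [hji]
    · right
      refine ⟨algebraMap A (Localization.AtPrime P) (f j), ?_, hnunit j, (hT_pow j).symm⟩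
      exact (IsLocalization.AtPrime.isUnit_to_map_iff (Localization.AtPrime P) P (f j)).mpr
        (f_notMem_span f hm hf i j hji)
  refine ⟨isSeparable_residue g V h ι hι hfrac τ hτ h1 h2 φ (algebraMap A (Localization.AtPrime P))
    hgι (T f n) n (gen_KA f n) hsep, ?_⟩
  intro p hp hchar hdvd
  have hπ : maximalIdeal (Localization.AtPrime P) =
      Ideal.span {algebraMap A (Localization.AtPrime P) (f i)} := by
    rw [← IsLocalization.AtPrime.map_eq_maximalIdeal P (Localization.AtPrime P)]
    change Ideal.map _ (Ideal.span {f i}) = _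
    rw [Ideal.map_span, Set.image_singleton]
  have he := ramificationIdx_eq g V h ι hι hfrac τ hτ h1 h2
    (algebraMap A (Localization.AtPrime P) (f i)) hπ (n i) (hT_pow i).symm
  rw [he] at hdvd
  have hzero : ((n i : ℕ) : ResidueField (Localization.AtPrime P)) = 0 :=
    (CharP.cast_eq_zero_iff _ p _).mpr hdvd
  have hne : residue (Localization.AtPrime P) ((n i : ℕ) : Localization.AtPrime P) ≠ 0 := by
    rw [residue_ne_zero_iff_isUnit]; exact hnunit i
  rw [map_natCast] at hne
  exact hne hzero

end Groth.Agent.S2924
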