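import Groth.Statements.S5172
-- import your own Groth.Agent.* helpers here
import Groth.Agent.Lib.Helper41.RelCodim
import Groth.Agent.Lib.Helper29.DepthLoc

set_option autoImplicit false
universe u
open LocCoh

namespace Groth.Agent.S5172

/-- Let A be a Noetherian ring which is a quotient of a regular ring, I an ideal, M a finite A-module
and n ≥ 0; c(p) = codim(V(p) ∩ V(I), V(p)). Then depth M_p > n − c(p) for all primes p ⊉ I if and
only if depth M_p ≥ n for all primes p ⊉ I with c(p) = 1. -/
theorem result (R : Type u) [CommRing R] [IsRegularRing R] (A : Type u) [CommRing A] [IsNoetherianRing A] (π : R →+* A) (hπ : Function.Surjective π) (I : Ideal A) (M : Type u) [AddCommGroup M] [Module A M] [Module.Finite A M] (n : ℕ) : (∀ p : PrimeSpectrum A, ¬ I ≤ p.asIdeal → (n : ℕ∞) < LocCoh.depth (Localization.AtPrime p.asIdeal) (LocalizedModule p.asIdeal.primeCompl M) + SGA2.relCodim I p) ↔ (∀ p : PrimeSpectrum A, ¬ I ≤ p.asIdeal → SGA2.relCodim I p = 1 → (n : ℕ∞) ≤ LocCoh.depth (Localization.AtPrime p.asIdeal) (LocalizedModule p.asIdeal.primeCompl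 M)) := by
  constructor
  · intro h p hp hc
    have h1 := h p hp
    rw [hc] at h1
    by_cases htop : LocCoh.depth (Localization.AtPrime p.asIdeal)
        (LocalizedModule p.asIdeal.primeCompl M) = ⊤
    · rw [htop]; exact le_top
    · exact (ENat.lt_add_one_iff htop).mp h1
  · intro h p hp
    by_cases hctop : SGA2.relCodim I p = ⊤
    · rw [hctop, add_top]; exact ENat.natCast_lt_top n
    · obtain ⟨c, hc⟩ := ENat.ne_top_iff_exists.mp hctop
      have hc1 : 1 ≤ c := by
        have := Groth.Agent.Lib.Helper41.RelCodim.one_le_relCodim I p hp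
        rw [← hc] at this
        exact_mod_cast this
      obtain ⟨k, rfl⟩ : ∃ k, c = k + 1 := ⟨c - 1, by omega⟩
      obtain ⟨p', q, hpp', -, -, hnI, hrel, hht⟩ :=
        Groth.Agent.Lib.Helper41.RelCodim.exists_covBy_of_relCodim_eq I p k hc.symm
      have h1 := h p' hnI hrel
      have h2 := Groth.Agent.Lib.Helper29.DepthLoc.depth_localization_le (R := A) M p.asIdeal p'.asIdeal hpp'
      rw [← Groth.Agent.Lib.Helper41.RelCodim.height_Ici_eq p p' hpp', hht] at h2
      rw [← hc]
      by_cases htop : LocCoh.depth (Localization.AtPrime p.asIdeal)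
          (LocalizedModule p.asIdeal.primeCompl M) = ⊤
      · rw [htop, top_add]; exact ENat.natCast_lt_top n
      · obtain ⟨d, hd⟩ := ENat.ne_top_iff_exists.mp htop
        rw [← hd] at h2 ⊢
        have h3 := h1.trans h2
        have h4 : n ≤ d + k := by exact_mod_cast h3
        have : n < d + (k + 1) := by omega
        exact_mod_cast this

end Groth.Agent.S5172
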