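import Groth.Statements.S2931
-- import your own Groth.Agent.* helpers here
import Groth.Agent.Lib.Helper41.CMFin

set_option autoImplicit false
universe u
open LocCoh

namespace Groth.Agent.S2931

/-- Affine form (coherence of R^p i_*(F) for p < n being finiteness of H^i_I for i ≤ n). Let A be a
Noetherian ring which is a quotient of a regular ring, I an ideal and M a finite A-module such that
M_p is zero or Cohen–Macaulay for every prime p not containing I. Then H^i_I(M) is a finite A-module
for every i ≤ n if and only if for every prime p not containing I which is minimal in the support of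
M, the codimension of V(p) ∩ V(I) in V(p) is greater than n. -/
theorem result (R : Type u) [CommRing R] [IsRegularRing R] (A : Type u) [CommRing A] [IsNoetherianRing A] (π : R →+* A) (hπ : Function.Surjective π) (I : Ideal A) (M : Type u) [AddCommGroup M] [Module A M] [Module.Finite A M] (hCM : ∀ p : PrimeSpectrum A, ¬ I ≤ p.asIdeal → Subsingleton (LocalizedModule p.asIdeal.primeCompl M) ∨ LocCoh.IsCohenMacaulayModule (Localization.AtPrime p.asIdeal) (LocalizedModule p.asIdeal.primeCompl M)) (n : ℕ) : (∀ i : ℕ, i ≤ n → Module.Finite A (LocCoh.H I i M)) ↔ ∀ p : PrimeSpectrum A, ¬ I ≤ p.asIdeal → p.asIdeal ∈ (Module.annihilator A M).minimalPrimes → (n : ℕ∞) < SGA2.relCodim I p := by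
  rw [Groth.Agent.Lib.Helper41.FinCrit.finite_iff_depth_relCodim R π hπ I M n]
  constructor
  · intro h p hp hmin
    have h1 := h p hp
    haveI := p.isPrime
    rw [Groth.Agent.Lib.Helper41.CMFin.depth_eq_zero_of_mem_minimalPrimes M p.asIdeal hmin,
      zero_add] at h1
    exact h1
  · intro h p hp
    rcases hCM p hp with hsub | hcm
    · haveI := hsub
      rw [Groth.Agent.Lib.Helper41.CMFin.depth_eq_top_of_subsingleton, top_add]
      exact ENat.natCast_lt_top n
    · -- `M_p ≠ 0`
      have hnt : ¬ Subsingleton (LocalizedModule p.asIdeal.primeCompl M) := by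
        intro hsub
        unfold LocCoh.IsCohenMacaulayModule at hcm
        rw [Module.supportDim_eq_bot_of_subsingleton] at hcm
        exact WithBot.bot_ne_coe hcm
      have hsupp : p ∈ Module.support A M := by
        rw [Module.mem_support_iff]
        exact not_subsingleton_iff_nontrivial.mp hnt
      rw [Module.mem_support_iff_of_finite] at hsupp
      obtain ⟨p₀', hmin, hle⟩ := Ideal.exists_minimalPrimes_le hsupp
      let p₀ : PrimeSpectrum A := ⟨p₀', hmin.1.1⟩
      have hle' : p₀ ≤ p := hle
      have hIp₀ : ¬ I ≤ p₀.asIdeal := fun hI => hp (hI.trans hle)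
      have h1 := h p₀ hIp₀ hmin
      have h2 := Groth.Agent.Lib.Helper41.CMFin.relCodim_le_add π hπ I p₀ p hle'
      have h3 := Groth.Agent.Lib.Helper41.CMFin.height_le_supportDim M p₀ p hmin.1.2 hle'
      unfold LocCoh.IsCohenMacaulayModule at hcm
      rw [hcm] at h3
      have h4 : Order.height (⟨p, hle'⟩ : Set.Ici p₀) ≤
          LocCoh.depth (Localization.AtPrime p.asIdeal)
            (LocalizedModule p.asIdeal.primeCompl M) := by
        exact_mod_cast h3
      calc (n : ℕ∞) < SGA2.relCodim I p₀ := h1
        _ ≤ SGA2.relCodim I p + Order.height (⟨p, hle'⟩ : Set.Ici p₀) := h2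
        _ ≤ SGA2.relCodim I p + LocCoh.depth (Localization.AtPrime p.asIdeal)
            (LocalizedModule p.asIdeal.primeCompl M) := by gcongr
        _ = _ := add_comm _ _

end Groth.Agent.S2931
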