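import Groth.Statements.S2933
import Groth.Agent.Lib.Helper48.Hartshorne
import Groth.Agent.S2663
-- import your own Groth.Agent.* helpers here

set_option autoImplicit false
universe u
open LocCoh

namespace Groth.Agent.S2933

/-- Let A be a Noetherian ring with connected spectrum and d ≥ 1 an integer such that every prime p with
dim A_p ≥ d has depth A_p ≥ 2. Then for any two minimal primes p', p'' of A there is a finite
sequence of minimal primes starting at p' and ending at p'' such that any two consecutive members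
are both contained in some prime of height at most d − 1 (Spec A is connected in codimension d − 1). -/
theorem result (A : Type u) [CommRing A] [IsNoetherianRing A] [ConnectedSpace (PrimeSpectrum A)] (d : ℕ) (hd : 1 ≤ d) (h : ∀ p : PrimeSpectrum A, (d : ℕ∞) ≤ p.asIdeal.height → (2 : ℕ∞) ≤ LocCoh.depth (Localization.AtPrime p.asIdeal) (Localization.AtPrime p.asIdeal)) (p' p'' : PrimeSpectrum A) (hp' : p'.asIdeal ∈ minimalPrimes A) (hp'' : p''.asIdeal ∈ minimalPrimes A) : ∃ l : List (PrimeSpectrum A), l.head? = some p' ∧ l.getLast? = some p'' ∧ (∀ p ∈ l, p.asIdeal ∈ minimalPrimes A) ∧ List.IsChain (fun p q => ∃ r : PrimeSpectrum A, p ≤ r ∧ q ≤ r ∧ r.asIdeal.height ≤ (d - 1 : ℕ)) l := by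
  classical
  let Adj : PrimeSpectrum A → PrimeSpectrum A → Prop := fun p q =>
    ∃ r : PrimeSpectrum A, p ≤ r ∧ q ≤ r ∧ r.asIdeal.height ≤ (d - 1 : ℕ)
  let Reach : PrimeSpectrum A → Prop := fun q => ∃ l : List (PrimeSpectrum A),
    l.head? = some p' ∧ l.getLast? = some q ∧ (∀ p ∈ l, p.asIdeal ∈ minimalPrimes A) ∧
    List.IsChain Adj l
  have hreach0 : Reach p' := ⟨[p'], rfl, rfl, fun p hp => by
    rw [List.mem_singleton] at hp; rw [hp]; exact hp', List.isChain_singleton _⟩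
  have hstep : ∀ q1 q2 : PrimeSpectrum A, Reach q1 → q2.asIdeal ∈ minimalPrimes A →
      Adj q1 q2 → Reach q2 := by
    rintro q1 q2 ⟨l, h0, hl, hmin, hch⟩ hq2 hadj
    refine ⟨l ++ [q2], ?_, List.getLast?_concat, ?_, ?_⟩
    · rw [List.head?_append, h0]; rfl
    · intro p hp
      rw [List.mem_append, List.mem_singleton] at hp
      rcases hp with hp | hp
      · exact hmin p hp
      · rw [hp]; exact hq2
    · refine hch.append (List.isChain_singleton _) ?_
      intro x hx y hy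
      rw [hl] at hx
      have hx' : q1 = x := by simpa using hx
      have hy' : q2 = y := by simpa using hy
      rw [← hx', ← hy']; exact hadj
  by_contra hcon
  have hnot : ¬ Reach p'' := fun hr => hcon hr
  set P1 : Set (Ideal A) :=
    {q | ∃ hq : q ∈ minimalPrimes A, Reach (⟨q, hq.1.1⟩ : PrimeSpectrum A)} with hP1def
  set P2 : Set (Ideal A) :=
    {q | ∃ hq : q ∈ minimalPrimes A, ¬ Reach (⟨q, hq.1.1⟩ : PrimeSpectrum A)} with hP2def
  have hP : P1 ∪ P2 = minimalPrimes A := by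
    ext q; constructor
    · rintro (⟨hq, -⟩ | ⟨hq, -⟩) <;> exact hq
    · intro hq
      by_cases hr : Reach (⟨q, hq.1.1⟩ : PrimeSpectrum A)
      · exact Or.inl ⟨hq, hr⟩
      · exact Or.inr ⟨hq, hr⟩
  have hdisj : Disjoint P1 P2 := Set.disjoint_left.mpr (fun q h1 h2 => h2.2 h1.2)
  have hfin : (minimalPrimes A).Finite := minimalPrimes.finite_of_isNoetherianRing A
  have hP1fin : P1.Finite := hfin.subset (fun q h => h.1)
  have hP2fin : P2.Finite := hfin.subset (fun q h => h.1)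
  have hp'1 : p'.asIdeal ∈ P1 := ⟨hp', hreach0⟩
  have hp''2 : p''.asIdeal ∈ P2 := ⟨hp'', hnot⟩
  have hne_top := Groth.Agent.S2663.sup_sInf_ne_top A P1 P2 hP p'.asIdeal p''.asIdeal hp'1 hp''2
  obtain ⟨⟨P, hPmin⟩⟩ := Ideal.nonempty_minimalPrimes hne_top
  haveI hPprime : P.IsPrime := hPmin.1.1
  have hHC := Groth.Agent.Lib.Helper48.Hartshorne.not_two_le_depth A P1 P2 hP hdisj P hPmin
  have hlt : P.height ≤ ((d - 1 : ℕ) : ℕ∞) := by
    have hlt' : P.height < (d : ℕ∞) := by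
      by_contra hcon2
      exact hHC (h ⟨P, hPprime⟩ (not_lt.mp hcon2))
    obtain ⟨n, hn⟩ := ENat.ne_top_iff_exists.mp (ne_top_of_lt hlt')
    rw [← hn] at hlt' ⊢
    have hnd : n < d := by exact_mod_cast hlt'
    exact_mod_cast (by omega : n ≤ d - 1)
  obtain ⟨p1, hp1, hp1P⟩ := Groth.Agent.Lib.Helper48.Hartshorne.exists_mem_le_of_sInf_le P1
    hP1fin P (le_sup_left.trans hPmin.1.2)
  obtain ⟨p2, hp2, hp2P⟩ := Groth.Agent.Lib.Helper48.Hartshorne.exists_mem_le_of_sInf_le P2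
    hP2fin P (le_sup_right.trans hPmin.1.2)
  obtain ⟨hq1, hr1⟩ := hp1
  obtain ⟨hq2, hr2⟩ := hp2
  exact hr2 (hstep ⟨p1, hq1.1.1⟩ ⟨p2, hq2.1.1⟩ hr1 hq2
    ⟨⟨P, hPprime⟩, (show (⟨p1, hq1.1.1⟩ : PrimeSpectrum A) ≤ ⟨P, hPprime⟩ from hp1P),
      (show (⟨p2, hq2.1.1⟩ : PrimeSpectrum A) ≤ ⟨P, hPprime⟩ from hp2P), hlt⟩)

end Groth.Agent.S2933
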