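import Groth.Statements.S2934
-- import your own Groth.Agent.* helpers here
import Groth.Agent.Lib.Helper41.GorAnn2
import Groth.Agent.Lib.Helper41.ArtinianFL

set_option autoImplicit false
universe u
open LocCoh

namespace Groth.Agent.S2934

/-- Let A be a Noetherian local ring which is a quotient of a regular local ring, m its maximal ideal, M
a finite A-module and i ≥ 0. Then H^i_m(M) is an A-module of finite length if and only if for every
prime p ≠ m, writing e = dim A/p, the local cohomology H^{i−e} of M_p with support in the maximal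
ideal of A_p vanishes (no condition when e > i). -/
theorem result (R : Type u) [CommRing R] [IsRegularLocalRing R] (A : Type u) [CommRing A] [IsLocalRing A] [IsNoetherianRing A] (π : R →+* A) (hπ : Function.Surjective π) (M : Type u) [AddCommGroup M] [Module A M] [Module.Finite A M] (i : ℕ) : IsFiniteLength A (LocCoh.H (IsLocalRing.maximalIdeal A) i M) ↔ ∀ p : PrimeSpectrum A, p.asIdeal ≠ IsLocalRing.maximalIdeal A → ∀ (e j : ℕ), ringKrullDim (A ⧸ p.asIdeal) = e → j + e = i → Subsingleton (LocCoh.H (IsLocalRing.maximalIdeal (Localization.AtPrime p.asIdeal)) j (LocalizedModule p.asIdeal.primeCompl M)) := by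
  haveI : LocCoh.IsGorensteinLocalRing R := Groth.Agent.S0342.result R
  letI : Algebra R A := π.toAlgebra
  letI : Module R M := Module.compHom M π
  haveI : IsScalarTower R A M := IsScalarTower.of_algebraMap_smul fun _ _ => rfl
  obtain ⟨d, hd⟩ : ∃ d : ℕ, ringKrullDim R = d := by
    have h1 : ringKrullDim R ≠ ⊥ := ringKrullDim_ne_bot
    have h2 : ringKrullDim R ≠ ⊤ := ringKrullDim_ne_top
    induction h : ringKrullDim R using WithBot.recBotCoe with
    | bot => exact absurd h h1
    | coe x =>
      induction x using ENat.recTopCoe with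
      | top => exact absurd h h2
      | coe n => exact ⟨n, rfl⟩
  rw [Groth.Agent.Lib.Helper41.ArtinianFL.isFiniteLength_H_iff,
    Groth.Agent.Lib.Helper41.GorAnn.le_radical_annihilator_H_iff R d hd A hπ M
      (IsLocalRing.maximalIdeal A) i]
  constructor
  · intro h p hp e j he hj
    refine h p.asIdeal (fun hle => hp ?_) j (by rw [he]; exact_mod_cast hj)
    exact ((IsLocalRing.maximalIdeal.isMaximal A).eq_of_le p.2.ne_top hle).symm
  · intro h p _ hp j hj
    obtain ⟨e, -, he, -, -⟩ := Groth.Agent.Lib.Helper41.GorAnn.dim_data R d hd A hπ p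
    refine h ⟨p, inferInstance⟩ (fun hpm => hp (le_of_eq hpm.symm)) e j he ?_
    rw [he] at hj
    exact_mod_cast hj

end Groth.Agent.S2934
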