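import Groth.Statements.S5160
import Groth.Agent.Lib.Helper2.LCHull
import Groth.Agent.Lib.Helper41.LC0
import Groth.Agent.Lib.Helper49.Serre
import Groth.Agent.S0558
import Groth.Agent.S5671
import Groth.Agent.S0318
-- import your own Groth.Agent.* helpers here

set_option autoImplicit false
universe u
open Dual

namespace Groth.Agent.S5160

open IsLocalRing in
/-- Over a local ring with zero maximal ideal (a field) every module is injective. -/
theorem injective_of_maximalIdeal_eq_bot {A : Type u} [CommRing A] [IsLocalRing A]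
    (hm : maximalIdeal A = ⊥) (Q : Type u) [AddCommGroup Q] [Module A Q] : Module.Injective A Q := by
  apply Module.Baer.injective
  intro J g
  by_cases hJ : J = ⊤
  · subst hJ
    exact ⟨g ∘ₗ (LinearMap.codRestrict ⊤ LinearMap.id (fun _ => trivial)), fun x hx => rfl⟩
  · have hJ' : J = ⊥ := le_bot_iff.mp (hm ▸ IsLocalRing.le_maximalIdeal hJ)
    subst hJ'
    refine ⟨0, fun x hx => ?_⟩
    have : (⟨x, hx⟩ : (⊥ : Ideal A)) = 0 := Subtype.ext ((Submodule.mem_bot A).mp hx)
    rw [this, map_zero]
    rfl

open IsLocalRing Groth.Agent.Lib.Helper41.LC Groth.Agent.Lib.Helper2 in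
/-- Base case: dimension zero. -/
theorem base {A : Type u} [CommRing A] [IsLocalRing A] (hm : maximalIdeal A = ⊥) :
    ∃ f : ResidueField A →ₗ[A] LocCoh.H (maximalIdeal A) 0 A, InjHull.IsInjectiveHull f := by
  have hbij : Function.Bijective (toMod (maximalIdeal A) (ModuleCat.of A A)) := by
    refine ⟨toMod_injective _ _, fun a => ?_⟩
    have := (mem_range_toMod_iff (maximalIdeal A) (ModuleCat.of A A) a).mpr ⟨1, fun r hr => by
      rw [pow_one, hm] at hr
      rw [(Submodule.mem_bot A).mp hr, zero_smul]⟩
    exact this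
  let e : LocCoh.H (maximalIdeal A) 0 A ≃ₗ[A] A := LinearEquiv.ofBijective _ hbij
  have hρ : Function.Bijective (Algebra.linearMap A (ResidueField A)) := by
    constructor
    · rw [← LinearMap.ker_eq_bot]
      ext a
      rw [LinearMap.mem_ker, Algebra.linearMap_apply, ResidueField.algebraMap_eq,
        residue_eq_zero_iff, hm]
    · exact residue_surjective
  let ρ : A ≃ₗ[A] ResidueField A := LinearEquiv.ofBijective _ hρ
  let f : ResidueField A →ₗ[A] LocCoh.H (maximalIdeal A) 0 A := (ρ.symm.trans e.symm).toLinearMap
  exact ⟨f, isInjectiveHull_mk (ρ.symm.trans e.symm).injective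
    (essElt_of_surjective (ρ.symm.trans e.symm).surjective)
    (injective_of_maximalIdeal_eq_bot hm _)⟩

open IsLocalRing Groth.Agent.Lib.Helper2 in
theorem main : ∀ (n : ℕ) (A : Type u) [CommRing A] [IsRegularLocalRing A], ringKrullDim A = n →
    ∃ f : ResidueField A →ₗ[A] LocCoh.H (maximalIdeal A) n A, InjHull.IsInjectiveHull f := by
  intro n
  induction n with
  | zero =>
    intro A _ _ hn
    exact base (Groth.Agent.Lib.Helper49.Serre.maximalIdeal_eq_bot_of_isRegularLocalRing (R := A)
      (by exact_mod_cast hn))
  | succ n ih =>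
    intro A _ _ hn
    have h1 : ((maximalIdeal A).spanFinrank : WithBot ℕ∞) = ringKrullDim A :=
      IsRegularLocalRing.spanFinrank_maximalIdeal
    have h2 : (maximalIdeal A).spanFinrank = n + 1 := by
      rw [hn] at h1; exact_mod_cast h1
    have hne : ¬ ((maximalIdeal A : Ideal A) : Set A) ⊆ ((maximalIdeal A ^ 2 : Ideal A) : Set A) := by
      intro hle
      have hbot : maximalIdeal A = ⊥ := by
        apply Submodule.eq_bot_of_le_smul_of_le_jacobson_bot (maximalIdeal A) _
          (IsNoetherian.noetherian _) _ (IsLocalRing.maximalIdeal_le_jacobson _)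
        rw [smul_eq_mul, ← pow_two]; exact hle
      have h3 := (Submodule.spanFinrank_eq_zero_iff_eq_bot
        (IsNoetherian.noetherian (maximalIdeal A))).mpr hbot
      omega
    obtain ⟨x, hx, hx2⟩ := Set.not_subset.mp hne
    obtain ⟨hB, hspan⟩ := Groth.Agent.S0558.isRegularLocalRing_quot A x hx hx2
    haveI := hB
    have hdimB : ringKrullDim (A ⧸ Ideal.span {x}) = n := by
      have h3 : ((maximalIdeal (A ⧸ Ideal.span {x})).spanFinrank : WithBot ℕ∞) =
          ringKrullDim (A ⧸ Ideal.span {x}) := IsRegularLocalRing.spanFinrank_maximalIdeal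
      have h4 : (maximalIdeal (A ⧸ Ideal.span {x})).spanFinrank = n := by omega
      rw [← h3, h4]
    haveI : IsDomain A := Groth.Agent.S0558.result A
    have hx0 : x ≠ 0 := fun h => hx2 (h ▸ Ideal.zero_mem _)
    have hreg : IsSMulRegular A x := fun a b h => mul_left_cancel₀ hx0 h
    have hvan1 : Subsingleton (LocCoh.H (maximalIdeal A) n A) := by
      have hCM := Groth.Agent.S5671.isCM_of_regular A
      unfold LocCoh.IsCohenMacaulayModule at hCM
      rw [Module.supportDim_self_eq_ringKrullDim, hn] at hCM
      have hdepth : LocCoh.idealDepth (maximalIdeal A) A = ((n + 1 : ℕ) : ℕ∞) := by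
        unfold LocCoh.depth at hCM
        exact_mod_cast hCM.symm
      have hIM : maximalIdeal A • (⊤ : Submodule A A) ≠ ⊤ := by
        rw [smul_eq_mul, Ideal.mul_top]
        exact (maximalIdeal.isMaximal A).ne_top
      exact ((Groth.Agent.S0318.result A (maximalIdeal A) A hIM (n + 1)).mp hdepth).1 n
        (Nat.lt_succ_self n)
    have hvan2 : Subsingleton (LocCoh.H (maximalIdeal A) (n + 1) (A ⧸ Ideal.span {x})) := by
      apply Groth.Agent.Lib.Helper41.LC.subsingleton_of_supportDim_lt
      rw [Module.supportDim_quotient_eq_ringKrullDim, hdimB]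
      exact_mod_cast Nat.lt_succ_self n
    exact exists_isInjectiveHull_localCohomology_succ A x hx hreg n hvan1 hvan2
      (ih (A ⧸ Ideal.span {x}) hdimB)

/-- Let A be a regular local ring of dimension n with maximal ideal m. Then the local cohomology module
H^n_m(A), the direct limit of the Ext^n_A(A/m^r, A), is an injective hull of the residue field (it
is the dualizing module of A). -/
theorem result (A : Type u) [CommRing A] [IsRegularLocalRing A] (n : ℕ) (hn : ringKrullDim A = n) : ∃ f : IsLocalRing.ResidueField A →ₗ[A] LocCoh.H (IsLocalRing.maximalIdeal A) n A, InjHull.IsInjectiveHull f := by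
  exact main n A hn

end Groth.Agent.S5160
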