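import Groth.Statements.S2943
import Groth.Agent.Lib.Helper2.LDCM
import Groth.Agent.Lib.Helper2.InjHull
import Groth.Agent.S5160
import Groth.Agent.S5671

set_option autoImplicit false
universe u
open CategoryTheory Opposite
open Dual

namespace Groth.Agent.S2943

/-- Local duality for a regular local ring: let A be a regular local ring of dimension r with maximal
ideal m, κ → E an injective hull of the residue field (a dualizing module for A), and M a finite
A-module. For every i ≤ r the local cohomology module H^i_m(M) is isomorphic to Hom_A(Ext^{r−i}_A(M,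
A), E). (The published statement gives the isomorphism as the map induced by the Yoneda pairing;
here only the existence of an A-linear isomorphism is asserted.) -/
theorem result (A : Type u) [CommRing A] [IsRegularLocalRing A] (r : ℕ) (hr : ringKrullDim A = r) (E : Type u) [AddCommGroup E] [Module A E] (f : IsLocalRing.ResidueField A →ₗ[A] E) (hf : InjHull.IsInjectiveHull f) (M : Type u) [AddCommGroup M] [Module A M] [Module.Finite A M] (i : ℕ) (hi : i ≤ r) : Nonempty (LocCoh.H (IsLocalRing.maximalIdeal A) i M ≃ₗ[A] ((((Ext A (ModuleCat.{u} A) (r - i)).obj (op (ModuleCat.of A M))).obj (ModuleCat.of A A)) →ₗ[A] E)) := by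
  haveI : IsNoetherianRing A := inferInstance
  have hdim : Module.supportDim A A = r := by
    rw [Module.supportDim_self_eq_ringKrullDim, hr]
  have hdepth : (r : ℕ∞) ≤ LocCoh.depth A A := by
    have h1 : Module.supportDim A A = ((LocCoh.depth A A : ℕ∞) : WithBot ℕ∞) :=
      Groth.Agent.S5671.isCM_of_regular A
    rw [hdim] at h1
    have h2 : ((r : ℕ∞) : WithBot ℕ∞) = ((LocCoh.depth A A : ℕ∞) : WithBot ℕ∞) := by
      exact_mod_cast h1
    exact le_of_eq (WithBot.coe_injective h2)
  obtain ⟨g, hg⟩ := Groth.Agent.S5160.result A r hr
  obtain ⟨e, -⟩ := Groth.Agent.Lib.Helper2.injectiveHull_unique f hf g hg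
  let eK : (A →ₗ[A] E) ≃ₗ[A] LocCoh.H (IsLocalRing.maximalIdeal A) r A :=
    (LinearMap.ringLmapEquivSelf A A E).trans e
  have key := Groth.Agent.Lib.Helper2.LD.duality_oldExt r hr.le hdepth hf.isInjective eK (r - i)
    (Nat.sub_le r i) M
  have hri : r - (r - i) = i := by omega
  rw [hri] at key
  exact key

end Groth.Agent.S2943
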