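import Groth.Statements.S2952
import Groth.Agent.Lib.Helper27.Weyl

set_option autoImplicit false
open RootPairing
open scoped Pointwise
universe u
open RootD

namespace Groth.Agent.S2952

/-- For a finite crystallographic reduced root pairing over a characteristic-zero domain with a base b:
(1) the Weyl group is generated by the reflections in the simple roots; (2) every root is the image
of a simple root under an element of the Weyl group (acting on the indexing type). (The published
statement also covers the non-reduced case.) -/
theorem result {ι R M N : Type*} [CommRing R] [CharZero R] [IsDomain R] [AddCommGroup M] [Module R M]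
    [AddCommGroup N] [Module R N] (P : RootPairing ι R M N) [Finite ι] [P.IsCrystallographic] [P.IsReduced]
    (b : P.Base) :
    Subgroup.closure ((fun i : ι => Equiv.reflection P i) '' (b.support : Set ι)) = P.weylGroup ∧
    ∀ i : ι, ∃ g : P.Aut, g ∈ P.weylGroup ∧ ∃ j ∈ b.support, g • j = i := by
  refine ⟨Groth.Agent.Lib.Helper27.Weyl.simpleSubgroup_eq b, fun i => ?_⟩
  obtain ⟨g, hg, j, hj, h⟩ := Groth.Agent.Lib.Helper27.Weyl.exists_smul_simple b i
  exact ⟨g, Groth.Agent.Lib.Helper27.Weyl.simpleSubgroup_le b hg, j, hj, h⟩

end Groth.Agent.S2952
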