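import Groth.Statements.S2954
import Groth.Agent.Lib.Helper27.WeylBase

set_option autoImplicit false
open RootPairing
open scoped Pointwise
universe u
open RootD

namespace Groth.Agent.S2954

/-- For a finite crystallographic reduced root pairing (over a domain of characteristic zero), the Weyl
group acts freely and transitively on bases: for two bases b, b' there is exactly one element of the
Weyl group carrying the set of simple roots of b onto that of b'. -/
theorem result {ι R M N : Type*} [CommRing R] [CharZero R] [IsDomain R] [AddCommGroup M] [Module R M]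
    [AddCommGroup N] [Module R N] (P : RootPairing ι R M N) [Finite ι] [P.IsCrystallographic] [P.IsReduced]
    (b b' : P.Base) :
    ∃! g : P.weylGroup, (fun i : ι => (g : P.Aut) • i) '' (b.support : Set ι) = (b'.support : Set ι) := by
  have himg : ∀ (b₁ b₂ : P.Base) (g : P.Aut),
      ((fun i : ι => g • i) '' (b₁.support : Set ι) = (b₂.support : Set ι)) ↔
        ∀ i, g • i ∈ b₂.support ↔ i ∈ b₁.support := by
    intro b₁ b₂ g
    constructor
    · intro h i
      constructor
      · intro hi
        have : g • i ∈ (b₂.support : Set ι) := hi
        rw [← h] at this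
        obtain ⟨k, hk, hk'⟩ := this
        have : k = i := by
          have := congrArg (fun x => g⁻¹ • x) hk'
          simpa using this
        rw [← this]; exact hk
      · intro hi
        have : g • i ∈ (fun i : ι => g • i) '' (b₁.support : Set ι) := ⟨i, hi, rfl⟩
        rw [h] at this
        exact this
    · intro h
      ext k
      constructor
      · rintro ⟨i, hi, rfl⟩
        exact (h i).mpr hi
      · intro hk
        refine ⟨g⁻¹ • k, ?_, smul_inv_smul g k⟩
        have hk' : k ∈ b₂.support := hk
        rw [← smul_inv_smul g k] at hk'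
        exact (h _).mp hk'
  obtain ⟨g, hg, hg'⟩ := Groth.Agent.Lib.Helper27.Weyl.exists_weyl_smul_support' b b'
  refine ⟨⟨g, hg⟩, (himg b b' g).mpr hg', ?_⟩
  rintro ⟨g₂, hg₂⟩ h₂
  have h₂' := (himg b b' g₂).mp h₂
  have : g⁻¹ * g₂ = 1 := by
    apply Groth.Agent.Lib.Helper27.Weyl.eq_one_of_smul_support b (mul_mem (inv_mem hg) hg₂)
    intro i
    rw [← h₂' i, ← hg' ((g⁻¹ * g₂) • i), ← mul_smul, mul_inv_cancel_left]
  apply Subtype.ext
  change g₂ = g
  rw [inv_mul_eq_one] at this
  exact this.symm

end Groth.Agent.S2954
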