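import Groth.Statements.S2955
-- import your own Groth.Agent.* helpers here

set_option autoImplicit false
open RootPairing
open scoped Pointwise Classical
universe u
open RootD

namespace Groth.Agent.S2955

/-- Let P be a finite crystallographic reduced root pairing over a domain of characteristic zero, with a
base b, and write 2ρ for the sum of the positive roots with respect to b. Then for every simple root
β (an index in the support of b) the reflection in β sends 2ρ to 2ρ − 2β (equivalently, the coroot
of β pairs to 1 with ρ; only the reflection identity is asserted). -/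
theorem result {ι R M N : Type*} [CommRing R] [CharZero R] [IsDomain R] [AddCommGroup M] [Module R M]
    [AddCommGroup N] [Module R N] (P : RootPairing ι R M N) [Finite ι] [P.IsCrystallographic] [P.IsReduced]
    [Fintype ι] (b : P.Base) (j : ι) (hj : j ∈ b.support) :
    P.reflection j (∑ i, if b.IsPos i then P.root i else 0) =
      (∑ i, if b.IsPos i then P.root i else 0) - (2 : R) • P.root j := by
  have hσ : ∀ i, i ≠ j → i ≠ P.reflectionPerm j j →
      (b.IsPos (P.reflectionPerm j i) ↔ b.IsPos i) := by
    intro i h1 h2
    constructor
    · intro h
      have h3 : P.reflectionPerm j i ≠ j := by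
        intro h4
        apply h2
        calc i = P.reflectionPerm j (P.reflectionPerm j i) := (P.reflectionPerm_self j i).symm
          _ = P.reflectionPerm j j := by rw [h4]
      have := h.reflectionPerm hj h3
      rwa [P.reflectionPerm_self] at this
    · intro h
      exact h.reflectionPerm hj h1
  have hjpos : b.IsPos j := RootPairing.Base.isPos_of_mem_support hj
  have hnegj : ¬ b.IsPos (P.reflectionPerm j j) := by
    have := RootPairing.Base.IsPos.neg_iff_not b j
    simp only [RootPairing.indexNeg_neg] at this
    intro h
    exact (this.mp h) hjpos
  have hne : j ≠ P.reflectionPerm j j := by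
    intro h
    rw [← h] at hnegj
    exact hnegj hjpos
  rw [map_sum]
  have h1 : ∀ i, P.reflection j (if b.IsPos i then P.root i else 0) =
      if b.IsPos i then P.root (P.reflectionPerm j i) else 0 := by
    intro i
    split_ifs <;> simp
  simp_rw [h1]
  rw [← Equiv.sum_comp (P.reflectionPerm j)]
  simp_rw [P.reflectionPerm_self]
  rw [eq_sub_iff_add_eq, ← eq_sub_iff_add_eq', ← Finset.sum_sub_distrib]
  rw [Finset.sum_eq_add j (P.reflectionPerm j j) hne]
  · rw [if_pos hjpos, if_neg hnegj, P.reflectionPerm_self, if_pos hjpos, if_neg hnegj]
    simp [two_smul]
  · intro c _ hc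
    have := hσ c hc.1 hc.2
    by_cases h : b.IsPos c
    · rw [if_pos h, if_pos (this.mpr h), sub_self]
    · rw [if_neg h, if_neg (fun h' => h (this.mp h')), sub_self]
  · intro h; exact absurd (Finset.mem_univ _) h
  · intro h; exact absurd (Finset.mem_univ _) h

end Groth.Agent.S2955
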