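import Groth.Statements.S2965
-- import your own Groth.Agent.* helpers here

set_option autoImplicit false
universe u
open SGA3t2b

namespace Groth.Agent.S2965

open Polynomial in
/-- Implication (iv) ⇒ (i) (global form, finite free module): let u be an endomorphism of a finite free
module M over a commutative ring A whose characteristic polynomial is X^r · Q with Q(0) invertible.
Then M is the direct sum of two u-stable submodules M', M'' such that u is nilpotent on M' and
bijective on M''. -/
theorem result {A : Type u} [CommRing A] {M : Type u} [AddCommGroup M] [Module A M]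
    [Module.Free A M] [Module.Finite A M] (u : M →ₗ[A] M) (r : ℕ) (Q : A[X]) (hQ : IsUnit (Q.coeff 0))
    (h : u.charpoly = X ^ r * Q) :
    ∃ M' M'' : Submodule A M, IsCompl M' M'' ∧ (∀ x ∈ M', u x ∈ M') ∧ (∀ x ∈ M'', u x ∈ M'') ∧
      (∃ n : ℕ, ∀ x ∈ M', (u ^ n) x = 0) ∧ Set.BijOn u M'' M'' := by
  obtain ⟨c, hc⟩ := hQ.exists_left_inv
  set P : A[X] := -(C c * Q.divX) with hP
  have hid : P * X + C c * Q = 1 := by
    have h1 := Polynomial.divX_mul_X_add Q
    calc P * X + C c * Q = C c * (Q - Q.divX * X) := by rw [hP]; ring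
      _ = C c * C (Q.coeff 0) := by
        congr 1
        nth_rewrite 1 [← h1]
        ring
      _ = 1 := by rw [← C_mul, hc, C_1]
  have hcopX : IsCoprime (X : A[X]) Q := ⟨P, C c, hid⟩
  have hcop : IsCoprime (X ^ r : A[X]) Q := hcopX.pow_left
  have hmul : ∀ (p q : A[X]) (x : M), aeval u (p * q) x = aeval u p (aeval u q x) := by
    intro p q x
    rw [aeval_mul, Module.End.mul_apply]
  have hcomm : ∀ (p q : A[X]) (x : M), aeval u p (aeval u q x) = aeval u q (aeval u p x) := by
    intro p q x
    rw [← hmul, ← hmul, mul_comm]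
  have hX : ∀ x : M, aeval u (X : A[X]) x = u x := by
    intro x
    rw [aeval_X]
  have hstab : ∀ (p q : A[X]) (x : M), x ∈ LinearMap.ker (aeval u p) →
      aeval u q x ∈ LinearMap.ker (aeval u p) := by
    intro p q x hx
    rw [LinearMap.mem_ker] at hx ⊢
    rw [hcomm, hx, map_zero]
  -- on `ker Q(u)`, `P(u)` is a two-sided inverse of `u`
  have hinv1 : ∀ x ∈ LinearMap.ker (aeval u Q), aeval u P (u x) = x := by
    intro x hx
    rw [LinearMap.mem_ker] at hx
    have h2 := congrArg (fun p : A[X] => aeval u p x) hid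
    simp only [map_add, LinearMap.add_apply, hmul, hX, hx, map_zero, add_zero, aeval_one,
      Module.End.one_apply] at h2
    exact h2
  have hinv2 : ∀ x ∈ LinearMap.ker (aeval u Q), u (aeval u P x) = x := by
    intro x hx
    have h3 := hcomm X P x
    rw [hX, hX] at h3
    rw [h3]
    exact hinv1 x hx
  refine ⟨LinearMap.ker (aeval u (X ^ r)), LinearMap.ker (aeval u Q),
    ⟨disjoint_ker_aeval_of_isCoprime u hcop, ?_⟩, ?_, ?_, ⟨r, ?_⟩, ?_, ?_, ?_⟩
  · rw [codisjoint_iff, sup_ker_aeval_eq_ker_aeval_mul_of_coprime u hcop, ← h,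
      LinearMap.aeval_self_charpoly, LinearMap.ker_zero]
  · intro x hx
    have := hstab (X ^ r) X x hx
    rwa [hX] at this
  · intro x hx
    have := hstab Q X x hx
    rwa [hX] at this
  · intro x hx
    rw [LinearMap.mem_ker, aeval_X_pow] at hx
    exact hx
  · intro x hx
    have := hstab Q X x hx
    rwa [hX] at this
  · intro x hx y hy hxy
    rw [← hinv1 x hx, ← hinv1 y hy, hxy]
  · intro y hy
    exact ⟨aeval u P y, hstab Q P y hy, hinv2 y hy⟩

end Groth.Agent.S2965
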