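import Groth.Statements.S2966
import Groth.Agent.Lib.Helper75.UnipTrivial
import Groth.Agent.Lib.Helper75.UnipGroupLike
import Groth.Agent.Lib.Helper75.HopfDiagIntegral

set_option autoImplicit false
universe u
open scoped TensorProduct
open SGA3t2b

namespace Groth.Agent.S2966

/-- In Hopf-algebra form (with unipotent taken in the representation-theoretic sense: affine and every
non-zero finite-dimensional representation has a non-zero fixed vector): let k be a field, A_M the
coordinate Hopf algebra of an affine k-group M of finite type which is of multiplicative type in the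
sense that it becomes diagonalisable over an algebraic closure of k, and A_U that of a unipotent
affine k-group U of finite type. Then (i) every homomorphism M -> U and (ii) every homomorphism U ->
M is trivial: every bialgebra map A_U -> A_M, resp. A_M -> A_U, factors through the counit. -/
theorem result {k : Type u} [Field k] {AM AU : Type u} [CommRing AM] [CommRing AU]
    [HopfAlgebra k AM] [HopfAlgebra k AU] [Algebra.FiniteType k AM] [Algebra.FiniteType k AU]
    (hM : HopfRep.IsDiagonalizable (AlgebraicClosure k) (AlgebraicClosure k ⊗[k] AM)) (hU : HopfRep.IsUnipotent k AU) :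
    (∀ φ : AU →ₐc[k] AM, SGA3t2b.IsTrivialBialgHom φ) ∧ (∀ ψ : AM →ₐc[k] AU, SGA3t2b.IsTrivialBialgHom ψ) := by
  classical
  constructor
  · intro φ
    obtain ⟨β0, hβ0, h10⟩ := Groth.Agent.Lib.Helper75.exists_total_integral_of_isDiagonalizable hM
    obtain ⟨α, hα, h1⟩ := Groth.Agent.Lib.Helper75.exists_total_integral_of_baseChange β0 hβ0 h10
    have hprim := Groth.Agent.Lib.Helper75.eq_zero_of_primitive_of_integral α hα h1
    intro a
    refine Groth.Agent.Lib.Helper75.apply_eq_counit_of_isUnipotent (R := k) (H := AM) hU hprim
      (φ : AU →ₗ[k] AM) (map_one φ)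
      (TensorProduct.map (φ : AU →ₗ[k] AM) (φ : AU →ₗ[k] AM)).toAddMonoidHom ?_ ?_ a
    · intro a b
      rfl
    · intro a
      have := CoalgHomClass.map_comp_comul (R := k) φ
      have h2 := LinearMap.congr_fun this a
      simp only [LinearMap.coe_comp, Function.comp_apply] at h2
      exact h2.symm
  · intro ψ
    let K := AlgebraicClosure k
    let ψK : K ⊗[k] AM →ₐc[K] K ⊗[k] AU := Bialgebra.TensorProduct.map (BialgHom.id K K) ψ
    have hall : ∀ x : K ⊗[k] AM, ψK x = algebraMap K (K ⊗[k] AU) (CoalgebraStruct.counit (R := K) x) := by
      intro x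
      have hx : x ∈ Submodule.span K {a : K ⊗[k] AM | IsGroupLikeElem K a} := by
        rw [show Submodule.span K {a : K ⊗[k] AM | IsGroupLikeElem K a} = ⊤ from hM]
        trivial
      induction hx using Submodule.span_induction with
      | mem χ hχ =>
        have hg : IsGroupLikeElem K (ψK χ) := IsGroupLikeElem.map ψK hχ
        rw [Groth.Agent.Lib.Helper75.eq_one_of_isGroupLikeElem_of_isUnipotent hU _ hg,
          hχ.counit_eq_one, map_one]
      | zero => simp
      | add x y _ _ hx hy => rw [map_add, map_add, map_add, hx, hy]
      | smul c x _ hx => rw [map_smul, map_smul, hx, smul_eq_mul, map_mul, Algebra.smul_def]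
    intro a
    have h1 := hall ((1 : K) ⊗ₜ[k] a)
    have h2 : ψK ((1 : K) ⊗ₜ[k] a) = (1 : K) ⊗ₜ[k] ψ a := rfl
    rw [h2, TensorProduct.counit_tmul, CommSemiring.counit_apply, Algebra.TensorProduct.algebraMap_apply,
      Algebra.algebraMap_self_apply, ← Algebra.algebraMap_eq_smul_one, Algebra.TensorProduct.tmul_one_eq_one_tmul] at h1
    have hinj : Function.Injective (Algebra.TensorProduct.includeRight : AU →ₐ[k] K ⊗[k] AU) :=
      Algebra.TensorProduct.includeRight_injective (algebraMap k K).injective
    exact hinj h1

end Groth.Agent.S2966
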