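import Groth.Statements.S2967
import Mathlib.LinearAlgebra.Dimension.OrzechProperty
-- import your own Groth.Agent.* helpers here

set_option autoImplicit false
universe u
open SGA3t2b

namespace Groth.Agent.S2967

/-- A commutative p-Lie algebra over a field k of characteristic p is recorded as a k-vector space g
together with its p-th power map φ, which is additive and Frobenius-semilinear. Let g be
finite-dimensional and non-zero, and assume every element of g is killed by some iterate of φ (g is
unipotent). Then the k-subspace of g spanned by the image φ(g) is a proper subspace. -/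
theorem result {k : Type u} [Field k] (p : ℕ) [Fact p.Prime] [CharP k p]
    {V : Type u} [AddCommGroup V] [Module k V] [FiniteDimensional k V] [Nontrivial V]
    (φ : V →ₛₗ[frobenius k p] V) (hφ : ∀ x : V, ∃ n : ℕ, φ^[n] x = 0) :
    Submodule.span k (Set.range φ) ≠ ⊤ := by
  intro htop
  classical
  let b := Module.finBasis k V
  -- `φ x` in terms of the `φ (b i)`
  have hφrepr : ∀ x : V, φ x = ∑ i, (b.repr x i) ^ p • φ (b i) := by
    intro x
    conv_lhs => rw [← b.sum_repr x]
    rw [map_sum]
    refine Finset.sum_congr rfl fun i _ => ?_
    rw [LinearMap.map_smulₛₗ, frobenius_def]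
  have hspan : ⊤ ≤ Submodule.span k (Set.range fun i => φ (b i)) := by
    rw [← htop]
    refine Submodule.span_le.mpr ?_
    rintro _ ⟨x, rfl⟩
    rw [hφrepr x]
    exact Submodule.sum_mem _ fun i _ =>
      Submodule.smul_mem _ _ (Submodule.subset_span ⟨i, rfl⟩)
  have hli : LinearIndependent k fun i => φ (b i) :=
    linearIndependent_of_top_le_span_of_card_eq_finrank hspan (by simp)
  have hinj : Function.Injective φ := by
    rw [injective_iff_map_eq_zero]
    intro x hx
    rw [hφrepr x] at hx
    have h0 := Fintype.linearIndependent_iff.mp hli _ hx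
    have : b.repr x = 0 := by
      ext i
      exact pow_eq_zero_iff (Fact.out : p.Prime).ne_zero |>.mp (h0 i)
    exact b.repr.map_eq_zero_iff.mp this
  obtain ⟨x, hx⟩ := exists_ne (0 : V)
  obtain ⟨n, hn⟩ := hφ x
  have hinjn : Function.Injective φ^[n] := hinj.iterate n
  have hzero : ∀ m : ℕ, φ^[m] 0 = 0 := by
    intro m
    induction m with
    | zero => rfl
    | succ m ih => rw [Function.iterate_succ_apply', ih, map_zero]
  apply hx
  apply hinjn
  rw [hn, hzero]

end Groth.Agent.S2967
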