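import Groth.Statements.S2968
import Groth.Agent.Lib.Helper75.ComodModule
import Groth.Agent.S3267
import Groth.Agent.S7960
import Groth.Prelude.Def_ComodSub
import Groth.Prelude.Def_LieHopf
import Mathlib

set_option autoImplicit false
universe u
open SGA3t2b

namespace Groth.Agent.S2968

section aux

open Groth.Agent.Lib.Helper75 TensorProduct

theorem add_pow_of_choose_zero {R : Type*} [Ring R] (x y : R) (h : Commute x y) (q : ℕ)
    (hq : 0 < q) (hc : ∀ i, 0 < i → i < q → ((q.choose i : ℕ) : R) = 0) :
    (x + y) ^ q = x ^ q + y ^ q := by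
  rw [h.add_pow, Finset.sum_range_succ]
  have h1 : ∑ m ∈ Finset.range q, x ^ m * y ^ (q - m) * (q.choose m : R) = y ^ q := by
    rw [Finset.sum_eq_single 0]
    · simp
    · intro i hi hi0
      rw [hc i (Nat.pos_of_ne_zero hi0) (Finset.mem_range.1 hi), mul_zero]
    · intro h0
      exact absurd (Finset.mem_range.2 hq) h0
  rw [h1]
  simp [add_comm]

theorem add_pow_char {k : Type*} [Field k] (p : ℕ) [Fact p.Prime] [CharP k p] {R : Type*} [Ring R]
    [Algebra k R] (x y : R) (h : Commute x y) (n : ℕ) :
    (x + y) ^ (p ^ n) = x ^ (p ^ n) + y ^ (p ^ n) := by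
  have hp : p.Prime := Fact.out
  apply add_pow_of_choose_zero x y h (p ^ n) (pow_pos hp.pos n)
  intro i hi0 hiq
  have hdvd : p ∣ (p ^ n).choose i := hp.dvd_choose_pow (Nat.pos_iff_ne_zero.1 hi0) (ne_of_lt hiq)
  have h1 : (((p ^ n).choose i : ℕ) : k) = 0 := (CharP.cast_eq_zero_iff k p _).2 hdvd
  rw [← map_natCast (algebraMap k R), h1, map_zero]

variable {k : Type u} [Field k] {A : Type u} [CommRing A] [HopfAlgebra k A]

theorem contractR_mul (D : LieHopf.Lie k A) (x y : A ⊗[k] A) :
    contractR A (LieHopf.dlin D) (x * y) =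
      contractR A (LieHopf.dlin D) x * contractR A (CoalgebraStruct.counit (R := k) (A := A)) y +
      contractR A (CoalgebraStruct.counit (R := k) (A := A)) x *
        contractR A (LieHopf.dlin D) y := by
  induction x using TensorProduct.induction_on with
  | zero => simp
  | tmul a a' =>
    induction y using TensorProduct.induction_on with
    | zero => simp
    | tmul b b' =>
      rw [Algebra.TensorProduct.tmul_mul_tmul, contractR_tmul, contractR_tmul, contractR_tmul,
        contractR_tmul, contractR_tmul, LieHopf.dlin_mul, smul_mul_smul_comm,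
        smul_mul_smul_comm, ← add_smul]
      congr 1
      simp only [Bialgebra.counitAlgHom_apply]
      ring
    | add y z hy hz =>
      rw [mul_add, map_add, hy, hz, map_add, map_add]
      ring
  | add x z hx hz =>
    rw [add_mul, map_add, hx, hz, map_add, map_add]
    ring

theorem L_mul (D : LieHopf.Lie k A) (a b : A) :
    hitR (LieHopf.dlin D) (a * b) =
      hitR (LieHopf.dlin D) a * b + a * hitR (LieHopf.dlin D) b := by
  have h1 : hitR (LieHopf.dlin D) (a * b) =
      contractR A (LieHopf.dlin D) (CoalgebraStruct.comul (R := k) (a * b)) := rfl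
  rw [h1, Bialgebra.comul_mul, contractR_mul]
  have h2 : ∀ c : A, contractR A (CoalgebraStruct.counit (R := k) (A := A))
      (CoalgebraStruct.comul (R := k) c) = c := fun c => act_counit (k := k) (A := A) (V := A) c
  rw [h2, h2]
  rfl

theorem convPow_eq (D : LieHopf.Lie k A) (m : ℕ) :
    LieHopf.convPow (LieHopf.dlin D) m =
      (CoalgebraStruct.counit (R := k) (A := A)) ∘ₗ
        ((hitR (LieHopf.dlin D) : Module.End k A) ^ m) := by
  induction m with
  | zero =>
    rw [pow_zero]
    rfl
  | succ m ih =>
    have h1 : LieHopf.convPow (LieHopf.dlin D) (m + 1) =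
        LieHopf.conv (LieHopf.convPow (LieHopf.dlin D) m) (LieHopf.dlin D) := rfl
    rw [h1, ih, pow_succ]
    have h2 := comp_hitR (CoalgebraStruct.counit (R := k) (A := A) ∘ₗ
      ((hitR (LieHopf.dlin D) : Module.End k A) ^ m)) (LieHopf.dlin D)
    exact h2.symm

theorem mul_comp_pow (D : LieHopf.Lie k A) (m : ℕ) (w : A ⊗[k] A) :
    LinearMap.mul' k A (((LinearMap.rTensor A (hitR (LieHopf.dlin D)) +
      LinearMap.lTensor A (hitR (LieHopf.dlin D)) : Module.End k (A ⊗[k] A)) ^ m) w) =
    ((hitR (LieHopf.dlin D) : Module.End k A) ^ m) (LinearMap.mul' k A w) := by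
  induction m generalizing w with
  | zero => simp
  | succ m ih =>
    rw [pow_succ, pow_succ, Module.End.mul_apply, Module.End.mul_apply, ih]
    congr 1
    induction w using TensorProduct.induction_on with
    | zero => simp
    | tmul a b => simp [L_mul]
    | add w1 w2 h1 h2 => simp only [map_add, h1, h2]

theorem Lpow_mul (D : LieHopf.Lie k A) (p : ℕ) [Fact p.Prime] [CharP k p] (n : ℕ) (a b : A) :
    ((hitR (LieHopf.dlin D) : Module.End k A) ^ (p ^ n)) (a * b) =
      ((hitR (LieHopf.dlin D) : Module.End k A) ^ (p ^ n)) a * b +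
      a * ((hitR (LieHopf.dlin D) : Module.End k A) ^ (p ^ n)) b := by
  have hcomm : Commute (LinearMap.rTensor A (hitR (LieHopf.dlin D)) : Module.End k (A ⊗[k] A))
      (LinearMap.lTensor A (hitR (LieHopf.dlin D))) := by
    change _ * _ = _ * _
    rw [Module.End.mul_eq_comp, Module.End.mul_eq_comp, LinearMap.rTensor_comp_lTensor,
      LinearMap.lTensor_comp_rTensor]
  have h := mul_comp_pow D (p ^ n) (a ⊗ₜ[k] b)
  rw [add_pow_char (k := k) p _ _ hcomm n] at h
  simp only [LinearMap.add_apply, LinearMap.rTensor_pow, LinearMap.lTensor_pow,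
    LinearMap.rTensor_tmul, LinearMap.lTensor_tmul, LinearMap.mul'_apply, map_add] at h
  exact h.symm

end aux

/-- In characteristic p, in Hopf-algebra form (with unipotent in the representation-theoretic sense
`HopfRep.IsUnipotent`): let k be a field of characteristic p > 0 and A a finite-type commutative
Hopf algebra over k (the coordinate Hopf algebra of an affine algebraic k-group) which is unipotent.
Then the Lie algebra of the group is a unipotent p-Lie algebra: for every ε-derivation D : A -> k
there is n > 0 such that the iterated p-operation of D, computed here as the p^n-fold convolution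
power of D (this is how the p-operation is rendered in this statement; its axioms are not proved
here), vanishes. -/
theorem result {k : Type u} [Field k] (p : ℕ) [Fact p.Prime] [CharP k p] {A : Type u} [CommRing A]
    [HopfAlgebra k A] [Algebra.FiniteType k A] (hU : HopfRep.IsUnipotent k A) (D : LieHopf.Lie k A) :
    ∃ n : ℕ, 0 < n ∧ LieHopf.convPow (D.toLinearMap.restrictScalars k ∘ₗ LinearMap.id) (p ^ n) = 0 := by
  classical
  open Groth.Agent.Lib.Helper75 TensorProduct in
  have hp : p.Prime := Fact.out
  change ∃ n : ℕ, 0 < n ∧ LieHopf.convPow (LieHopf.dlin D) (p ^ n) = 0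
  obtain ⟨d, hd⟩ : ∃ d : A →ₗ[k] k, d = LieHopf.dlin D := ⟨_, rfl⟩
  obtain ⟨L, hL⟩ : ∃ L : Module.End k A, L = hitR (LieHopf.dlin D) := ⟨_, rfl⟩
  obtain ⟨s, hs⟩ := (Algebra.FiniteType.out : (⊤ : Subalgebra k A).FG)
  obtain ⟨V, hV, hVf, hsV⟩ := Groth.Agent.S3267.exists_finite_subcomod_subset (k := k) s
  let cV : HopfRep.Comod k A V := ComodSub.Comod.restr (HopfRep.Comod.regular k A) V hV
  obtain ⟨m, F, hFmono, hF0, hFm, hFsub, hFtriv⟩ := (Groth.Agent.S7960.result k A).1 hU V hVf
  have hsub : ∀ (f : A →ₗ[k] k) (v : V), ((act f v : V) : A) = act (V := A) f (v : A) := by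
    intro f v
    exact (isComodHom_iff (A := A) (V.subtype)).1
      (ComodSub.isComodHom_subtype (HopfRep.Comod.regular k A) V hV) f v
  have hd1 : d 1 = 0 := by rw [hd]; exact LieHopf.dlin_one D
  have hstep : ∀ i, ∀ v ∈ F (i + 1), act d v ∈ F i := by
    intro i v hv
    obtain ⟨y, hy⟩ := hFtriv i v hv
    have h1 : act d v = contractR V d (HopfRep.Comod.coact (k := k) (A := A) v) := rfl
    have h2 : HopfRep.Comod.coact (k := k) (A := A) v =
        v ⊗ₜ[k] (1 : A) + LinearMap.rTensor A (F i).subtype y := by
      rw [hy]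
      abel
    have h3 : ∀ y : ↥(F i) ⊗[k] A,
        contractR V d (LinearMap.rTensor A (F i).subtype y) ∈ F i := by
      intro y
      induction y using TensorProduct.induction_on with
      | zero => simp
      | tmul w a =>
        rw [LinearMap.rTensor_tmul, contractR_tmul]
        exact Submodule.smul_mem _ _ w.2
      | add y z hy hz =>
        rw [map_add, map_add]
        exact Submodule.add_mem _ hy hz
    rw [h1, h2, map_add, contractR_tmul, hd1, zero_smul, zero_add]
    exact h3 y
  have hnil : ∀ i, ∀ v ∈ F i, ((act d : Module.End k V) ^ i) v = 0 := by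
    intro i
    induction i with
    | zero =>
      intro v hv
      rw [hF0] at hv
      simpa using hv
    | succ i ih =>
      intro v hv
      rw [pow_succ, Module.End.mul_apply]
      exact ih _ (hstep i v hv)
  have hcoe : ∀ (j : ℕ) (v : V),
      ((((act d : Module.End k V) ^ j) v : V) : A) = (L ^ j) (v : A) := by
    intro j
    induction j with
    | zero =>
      intro v
      simp
    | succ j ih =>
      intro v
      rw [pow_succ, Module.End.mul_apply, ih, hsub, pow_succ, Module.End.mul_apply, hL, hd]
      rfl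
  refine ⟨m + 1, Nat.succ_pos m, ?_⟩
  obtain ⟨q, hq⟩ : ∃ q, q = p ^ (m + 1) := ⟨_, rfl⟩
  have hmq : m ≤ q := by
    have h1 : m < p ^ m := Nat.lt_pow_self hp.one_lt
    have h2 : p ^ m ≤ p ^ (m + 1) := Nat.pow_le_pow_right hp.pos (Nat.le_succ m)
    omega
  have hLV : ∀ v ∈ V, (L ^ q) v = 0 := by
    intro v hv
    have h1 := hnil m ⟨v, hv⟩ (by rw [hFm]; trivial)
    have h2 : ((act d : Module.End k V) ^ q) ⟨v, hv⟩ = 0 := by
      obtain ⟨r, hr⟩ : ∃ r, q = r + m := ⟨q - m, by omega⟩
      rw [hr, pow_add, Module.End.mul_apply, h1, map_zero]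
    have h3 := hcoe q ⟨v, hv⟩
    rw [h2] at h3
    simpa using h3.symm
  have hder : ∀ a b : A, (L ^ q) (a * b) = (L ^ q) a * b + a * (L ^ q) b := by
    intro a b
    rw [hL, hq]
    exact Lpow_mul D p (m + 1) a b
  have hL1 : (L ^ q) 1 = 0 := by
    have h := hder 1 1
    rw [mul_one, mul_one, one_mul] at h
    have h' : (L ^ q) 1 + (L ^ q) 1 = (L ^ q) 1 + 0 := by
      rw [add_zero]
      exact h.symm
    exact add_left_cancel h'
  let Z : Subalgebra k A :=
    { carrier := {a | (L ^ q) a = 0}
      mul_mem' := by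
        intro a b ha hb
        simp only [Set.mem_ofPred_eq] at ha hb ⊢
        rw [hder, ha, hb, zero_mul, mul_zero, add_zero]
      one_mem' := hL1
      add_mem' := by
        intro a b ha hb
        simp only [Set.mem_ofPred_eq] at ha hb ⊢
        rw [map_add, ha, hb, add_zero]
      zero_mem' := map_zero _
      algebraMap_mem' := by
        intro c
        simp only [Set.mem_ofPred_eq]
        rw [Algebra.algebraMap_eq_smul_one, map_smul, hL1, smul_zero] }
  have hZ : Algebra.adjoin k (s : Set A) ≤ Z :=
    Algebra.adjoin_le (fun a ha => hLV a (hsV a (Finset.mem_coe.1 ha)))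
  rw [hs] at hZ
  have hLq : L ^ q = 0 := by
    apply LinearMap.ext
    intro a
    exact hZ (Algebra.mem_top)
  rw [convPow_eq, ← hL, ← hq, hLq, LinearMap.comp_zero]

end Groth.Agent.S2968
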