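import Groth.Statements.S2969
import Groth.Agent.Lib.Helper16.MTDescend

set_option autoImplicit false
universe u
open TensorProduct SGA3b
open SGA3b

namespace Groth.Agent.S2969

/-- Let k be a field and H = Spec A a k-group of multiplicative type and of finite type. Then H is
isotrivial: there is a finite separable extension k' of k over which H becomes diagonalisable (of
finite type). (Affine group schemes over an affine base are taken in Hopf-algebra form; base change
is the tensor product.) -/
theorem result (k : Type u) [Field k] (A : Type u) [CommRing A] [HopfAlgebra k A]
    (hft : Algebra.FiniteType k A) (h : IsMultType k A) :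
    ∃ (k' : Type u) (_ : Field k') (_ : Algebra k k'), Module.Finite k k' ∧ Algebra.IsSeparable k k' ∧ IsDiagFT k' (k' ⊗[k] A) := by
  haveI := hft
  have hc := Lib.Helper16.MT.isMultTypeConst_of_isMultType h
  have h1 := Lib.Helper16.MT.span_groupLike_algClosure hc
  have h2 : Submodule.span (separableClosure k (AlgebraicClosure k))
      {y : (separableClosure k (AlgebraicClosure k)) ⊗[k] A |
        IsGroupLikeElem (separableClosure k (AlgebraicClosure k)) y} = ⊤ :=
    Lib.Helper16.MT.span_groupLike_of_purelyInseparable_tower
      (K' := separableClosure k (AlgebraicClosure k)) (L := AlgebraicClosure k) h1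
  obtain ⟨k', hfd, h3⟩ := Lib.Helper16.MT.exists_finite_subextension h2
  exact ⟨k', inferInstance, inferInstance, hfd,
    Algebra.isSeparable_tower_bot_of_isSeparable k k' (separableClosure k (AlgebraicClosure k)),
    Lib.Helper16.MT.isDiagFT_of_span h3⟩

end Groth.Agent.S2969
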