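import Groth.Statements.S2971
import Groth.Agent.S2970
import Groth.Agent.Lib.Helper17.MultBC
import Groth.Agent.Lib.Helper90.EtLiftQuot

set_option autoImplicit false
universe u
open TensorProduct SGA3b
open SGA3b

namespace Groth.Agent.S2971

section aux

open Groth.Agent.Lib.Helper17.MultLift Groth.Agent.Lib.Helper17.MultBC

/-- core lemma: lifting an etale diagonalising cover along a surjection with nil kernel -/
theorem exists_etale_diag {k K C R₀ : Type u} [CommRing k] [CommRing K] [Algebra k K] [CommRing C]
    [HopfAlgebra k C] (hsurj : Function.Surjective (algebraMap k K))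
    (hnil : ∀ x ∈ RingHom.ker (algebraMap k K), IsNilpotent x) (hMT : IsMultType k C)
    [CommRing R₀] [Algebra K R₀] [Algebra.Etale K R₀] [Module.FaithfullyFlat K R₀]
    (hD : IsDiag R₀ (R₀ ⊗[K] (K ⊗[k] C))) :
    ∃ (R' : Type u) (_ : CommRing R') (_ : Algebra k R'), Algebra.Etale k R' ∧
      Module.FaithfullyFlat k R' ∧ (Module.Finite K R₀ → Module.Finite k R') ∧
      IsDiag R' (R' ⊗[k] C) := by
  obtain ⟨R', _, _, hEt, ⟨ē⟩⟩ :=
    Groth.Agent.Lib.Helper90.EtLiftQuot.exists_etale_lift_of_surjective (A₀ := k) (A := K)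
      (C := R₀) hsurj
  haveI := hEt
  haveI : Module.FaithfullyFlat K (K ⊗[k] R') :=
    Module.FaithfullyFlat.of_linearEquiv _ _ ē.toLinearEquiv
  have hFF : Module.FaithfullyFlat k R' := faithfullyFlat_of_tensor hsurj hnil
  refine ⟨R', inferInstance, inferInstance, hEt, hFF, fun hfin => ?_, ?_⟩
  · haveI : Module.Finite K (K ⊗[k] R') := Module.Finite.equiv ē.symm.toLinearEquiv
    exact finite_of_tensor hsurj hnil
  · obtain ⟨M, _, ⟨e₀⟩⟩ := hD
    set J := RingHom.ker (algebraMap k K) with hJ
    set I' := J.map (algebraMap k R') with hI'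
    have hI'nil : ∀ x ∈ I', IsNilpotent x := nil_map _ _ hnil
    have hMT' : IsMultType R' (R' ⊗[k] C) := isMultType_baseChange C hMT
    refine Groth.Agent.S2970.result R' (R' ⊗[k] C) I' hI'nil hMT' ?_
    have hσ : ∀ a ∈ J, ((Ideal.Quotient.mk I').comp (algebraMap k R')) a = 0 := fun a ha =>
      Ideal.Quotient.eq_zero_iff_mem.2 (Ideal.mem_map_of_mem _ ha)
    let σ : K →+* R' ⧸ I' :=
      (Ideal.Quotient.lift J ((Ideal.Quotient.mk I').comp (algebraMap k R')) hσ).comp
        (RingHom.quotientKerEquivOfSurjective hsurj).symm.toRingHom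
    letI : Algebra K (R' ⧸ I') := σ.toAlgebra
    haveI : IsScalarTower k K (R' ⧸ I') := IsScalarTower.of_algebraMap_eq (fun a => by
      have h1 : (RingHom.quotientKerEquivOfSurjective hsurj).symm (algebraMap k K a) =
          Ideal.Quotient.mk J a := by
        rw [RingEquiv.symm_apply_eq]; rfl
      show _ = Ideal.Quotient.lift J _ hσ
        ((RingHom.quotientKerEquivOfSurjective hsurj).symm (algebraMap k K a))
      rw [h1, Ideal.Quotient.lift_mk]
      rfl)
    let ρ : R₀ →ₐ[K] R' ⧸ I' :=
      (Algebra.TensorProduct.lift (Algebra.ofId K (R' ⧸ I'))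
        (IsScalarTower.toAlgHom k R' (R' ⧸ I')) (fun _ _ => Commute.all _ _)).comp
        ē.symm.toAlgHom
    letI : Algebra R₀ (R' ⧸ I') := ρ.toRingHom.toAlgebra
    haveI : IsScalarTower K R₀ (R' ⧸ I') :=
      IsScalarTower.of_algebraMap_eq (fun x => (ρ.commutes x).symm)
    obtain ⟨d3⟩ := nonempty_bialgEquiv_of_tower (k := K) (P := R₀) (S' := R' ⧸ I')
      (C := K ⊗[k] C) e₀
    exact ⟨M, inferInstance, ⟨(cancelBaseChangeBialg k R' (R' ⧸ I') C).trans
      ((cancelBaseChangeBialg k K (R' ⧸ I') C).symm.trans d3)⟩⟩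

theorem part1 (R : Type u) [CommRing R] (A : Type u) [CommRing A] [HopfAlgebra R A] (I : Ideal R)
    (hI : ∀ x ∈ I, IsNilpotent x) (h : IsMultType R A) :
    IsIsotrivial (R ⧸ I) ((R ⧸ I) ⊗[R] A) → IsIsotrivial R A := by
  rintro ⟨R₀, _, _, hEt, hFin, hFF, hD⟩
  haveI := hEt
  haveI := hFF
  have hsurj : Function.Surjective (algebraMap R (R ⧸ I)) := Ideal.Quotient.mk_surjective
  have hnil : ∀ x ∈ RingHom.ker (algebraMap R (R ⧸ I)), IsNilpotent x := fun x hx => hI x (by
    rwa [Ideal.Quotient.algebraMap_eq, Ideal.mk_ker] at hx)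
  obtain ⟨R', _, _, h1, h2, h3, h4⟩ := exists_etale_diag hsurj hnil h hD
  exact ⟨R', inferInstance, inferInstance, h1, h3 hFin, h2, h4⟩

set_option maxSynthPendingDepth 6 in
theorem part2 (R : Type u) [CommRing R] (A : Type u) [CommRing A] [HopfAlgebra R A] (I : Ideal R)
    (hI : ∀ x ∈ I, IsNilpotent x) (h : IsMultType R A) :
    IsQuasiIsotrivial (R ⧸ I) ((R ⧸ I) ⊗[R] A) → IsQuasiIsotrivial R A := by
  rintro ⟨sb, hsb, hloc⟩
  refine ⟨{f : R | Ideal.Quotient.mk I f ∈ sb}, ?_, ?_⟩
  · set s := {f : R | Ideal.Quotient.mk I f ∈ sb} with hs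
    have himg : Ideal.Quotient.mk I '' s = sb := by
      ext y
      constructor
      · rintro ⟨f, hf, rfl⟩
        exact hf
      · intro hy
        obtain ⟨f, rfl⟩ := Ideal.Quotient.mk_surjective y
        exact ⟨f, hy, rfl⟩
    have h1 : (Ideal.span s).map (Ideal.Quotient.mk I) = ⊤ := by
      rw [Ideal.map_span, himg, hsb]
    have h2 := Ideal.comap_map_of_surjective (Ideal.Quotient.mk I) Ideal.Quotient.mk_surjective
      (Ideal.span s)
    rw [h1, Ideal.comap_top, ← RingHom.ker_eq_comap_bot, Ideal.mk_ker] at h2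
    have h3 : (1 : R) ∈ Ideal.span s ⊔ I := by rw [← h2]; exact Submodule.mem_top
    obtain ⟨a, ha, i, hi, hai⟩ := Submodule.mem_sup.1 h3
    have hu : IsUnit a := by
      have : a = 1 - i := by rw [← hai]; ring
      rw [this]
      exact (hI i hi).isUnit_one_sub
    exact Ideal.eq_top_of_isUnit_mem _ ha hu
  · intro f hf
    obtain ⟨R₀, _, _, hEt, hFF, hD⟩ := hloc (Ideal.Quotient.mk I f) hf
    haveI := hEt
    haveI := hFF
    letI : Algebra (Localization.Away f) (Localization.Away (Ideal.Quotient.mk I f)) :=
      (Localization.awayMap (Ideal.Quotient.mk I) f).toAlgebra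
    have hcomp : ∀ x : R, algebraMap (Localization.Away f)
        (Localization.Away (Ideal.Quotient.mk I f)) (algebraMap R (Localization.Away f) x) =
        algebraMap (R ⧸ I) (Localization.Away (Ideal.Quotient.mk I f)) (Ideal.Quotient.mk I x) :=
      fun x => by
        rw [RingHom.algebraMap_toAlgebra]
        exact IsLocalization.map_eq (M := Submonoid.powers f) (S := Localization.Away f)
          (T := Submonoid.powers (Ideal.Quotient.mk I f))
          (Q := Localization.Away (Ideal.Quotient.mk I f)) _ x
    have hsurj : Function.Surjective (algebraMap (Localization.Away f)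
        (Localization.Away (Ideal.Quotient.mk I f))) := by
      show Function.Surjective (Localization.awayMap (Ideal.Quotient.mk I) f)
      rw [Localization.awayMap_surjective_iff]
      intro a
      obtain ⟨a₀, rfl⟩ := Ideal.Quotient.mk_surjective a
      exact ⟨a₀, 0, by rw [pow_zero, one_mul]⟩
    have hnil : ∀ x ∈ RingHom.ker (algebraMap (Localization.Away f)
        (Localization.Away (Ideal.Quotient.mk I f))), IsNilpotent x := by
      intro x hx
      rw [RingHom.mem_ker] at hx
      obtain ⟨n, a, hna⟩ := IsLocalization.Away.surj f x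
      have hu : IsUnit (algebraMap R (Localization.Away f) f) :=
        IsLocalization.Away.algebraMap_isUnit f
      have h1 : algebraMap (R ⧸ I) (Localization.Away (Ideal.Quotient.mk I f))
          (Ideal.Quotient.mk I a) = 0 := by
        rw [← hcomp, ← hna, map_mul, hx, zero_mul]
      obtain ⟨⟨_, m, rfl⟩, hm⟩ := (IsLocalization.map_eq_zero_iff
        (Submonoid.powers (Ideal.Quotient.mk I f)) _ _).1 h1
      have h2 : f ^ m * a ∈ I := by
        rw [← Ideal.Quotient.eq_zero_iff_mem, map_mul, map_pow]
        exact hm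
      obtain ⟨N, hN⟩ := hI _ h2
      refine ⟨N, ?_⟩
      have h3 : (algebraMap R (Localization.Away f) f ^ (m + n)) ^ N * x ^ N = 0 := by
        have h4 : algebraMap R (Localization.Away f) f ^ (m + n) * x =
            algebraMap R (Localization.Away f) (f ^ m * a) := by
          rw [map_mul, map_pow, ← hna, pow_add]
          ring
        rw [← mul_pow, h4, ← map_pow, hN, map_zero]
      exact (((hu.pow (m + n)).pow N).mul_right_eq_zero).1 h3
    have hMT : IsMultType (Localization.Away f) (Localization.Away f ⊗[R] A) :=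
      isMultType_baseChange A h
    have hD' : IsDiag R₀ (R₀ ⊗[Localization.Away (Ideal.Quotient.mk I f)]
        (Localization.Away (Ideal.Quotient.mk I f) ⊗[Localization.Away f]
          (Localization.Away f ⊗[R] A))) := by
      letI : Algebra (R ⧸ I) R₀ :=
        ((algebraMap (Localization.Away (Ideal.Quotient.mk I f)) R₀).comp
          (algebraMap (R ⧸ I) (Localization.Away (Ideal.Quotient.mk I f)))).toAlgebra
      haveI : IsScalarTower (R ⧸ I) (Localization.Away (Ideal.Quotient.mk I f)) R₀ :=
        IsScalarTower.of_algebraMap_eq (fun _ => rfl)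
      letI : Algebra (Localization.Away f) R₀ :=
        ((algebraMap (Localization.Away (Ideal.Quotient.mk I f)) R₀).comp
          (algebraMap (Localization.Away f) (Localization.Away (Ideal.Quotient.mk I f)))).toAlgebra
      haveI : IsScalarTower (Localization.Away f) (Localization.Away (Ideal.Quotient.mk I f)) R₀ :=
        IsScalarTower.of_algebraMap_eq (fun _ => rfl)
      letI : Algebra R R₀ := ((algebraMap (R ⧸ I) R₀).comp (algebraMap R (R ⧸ I))).toAlgebra
      haveI : IsScalarTower R (R ⧸ I) R₀ := IsScalarTower.of_algebraMap_eq (fun _ => rfl)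
      haveI : IsScalarTower R (Localization.Away f) R₀ :=
        IsScalarTower.of_algebraMap_eq (fun x => by
          show algebraMap (Localization.Away (Ideal.Quotient.mk I f)) R₀
              (algebraMap (R ⧸ I) (Localization.Away (Ideal.Quotient.mk I f))
                (algebraMap R (R ⧸ I) x)) =
            algebraMap (Localization.Away (Ideal.Quotient.mk I f)) R₀
              (algebraMap (Localization.Away f) (Localization.Away (Ideal.Quotient.mk I f))
                (algebraMap R (Localization.Away f) x))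
          rw [hcomp]
          rfl)
      exact isDiag_of_bialgEquiv
        ((cancelBaseChangeBialg (Localization.Away f) (Localization.Away (Ideal.Quotient.mk I f))
            R₀ (Localization.Away f ⊗[R] A)).trans
          ((cancelBaseChangeBialg R (Localization.Away f) R₀ A).trans
            ((cancelBaseChangeBialg R (R ⧸ I) R₀ A).symm.trans
              (cancelBaseChangeBialg (R ⧸ I) (Localization.Away (Ideal.Quotient.mk I f)) R₀
                ((R ⧸ I) ⊗[R] A)).symm))) hD
    obtain ⟨R', _, _, h1, h2, -, h4⟩ := exists_etale_diag hsurj hnil hMT hD'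
    exact ⟨R', inferInstance, inferInstance, h1, h2, h4⟩

end aux

/-- Let R be a ring, I an ideal consisting of nilpotent elements and H = Spec A an R-group of
multiplicative type. If the base change of H to R/I is isotrivial (resp. quasi-isotrivial), so is H.
(Affine group schemes over an affine base are taken in Hopf-algebra form; base change is the tensor
product.) -/
theorem result (R : Type u) [CommRing R] (A : Type u) [CommRing A] [HopfAlgebra R A] (I : Ideal R) (hI : ∀ x ∈ I, IsNilpotent x) (h : IsMultType R A) :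
    (IsIsotrivial (R ⧸ I) ((R ⧸ I) ⊗[R] A) → IsIsotrivial R A) ∧
    (IsQuasiIsotrivial (R ⧸ I) ((R ⧸ I) ⊗[R] A) → IsQuasiIsotrivial R A) := by
  exact ⟨part1 R A I hI h, part2 R A I hI h⟩

end Groth.Agent.S2971
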