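import Groth.Statements.S2978
-- import your own Groth.Agent.* helpers here

set_option autoImplicit false
universe u
open SGA3b

namespace Groth.Agent.S2978

/-- Let A be a Noetherian ring, M a set and a : M × M → A a family vanishing off the diagonal which is a
finite sum of decomposable families: a(m, m') = Σ_i b_i(m) c_i(m') for finitely many b_i, c_i : M →
A. Then a has finite support. -/
theorem result (A : Type u) [CommRing A] [IsNoetherianRing A] (M : Type u)
    (a : M × M → A) (hdiag : ∀ m m', m ≠ m' → a (m, m') = 0)
    (ι : Type u) [Fintype ι] (b c : ι → M → A) (hdec : ∀ m m', a (m, m') = ∑ i, b i m * c i m') :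
    Set.Finite {p : M × M | a p ≠ 0} := by
  classical
  rcases isEmpty_or_nonempty M with hM | hM
  · exact Set.toFinite _
  let cv : M → (ι → A) := fun m' i => c i m'
  have hfg : (Submodule.span A (Set.range cv)).FG := IsNoetherian.noetherian _
  obtain ⟨t, htsub, hspan⟩ := (Submodule.fg_span_iff_fg_span_finset_subset _).mp hfg
  have hch : ∀ v ∈ t, ∃ m' : M, cv m' = v := fun v hv => htsub hv
  choose! g hg using hch
  let S : Set M := g '' (t : Set (ι → A))
  have hS : S.Finite := (Finset.finite_toSet t).image g
  refine (hS.image (fun m => (m, m))).subset ?_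
  rintro ⟨m, m'⟩ hp
  simp only [Set.mem_ofPred_eq] at hp
  have hmm : m = m' := by
    by_contra hne
    exact hp (hdiag m m' hne)
  subst hmm
  by_contra hnot
  have hmS : m ∉ S := fun h => hnot ⟨m, h, rfl⟩
  let B : (ι → A) →ₗ[A] A := ∑ i, b i m • LinearMap.proj i
  have hB : ∀ m', B (cv m') = a (m, m') := by
    intro m'
    simp [B, cv, hdec]
  have hBt : ∀ v ∈ (t : Set (ι → A)), B v = 0 := by
    intro v hv
    rw [← hg v hv, hB]
    apply hdiag
    rintro rfl
    exact hmS ⟨v, hv, rfl⟩
  have hle : Submodule.span A (t : Set (ι → A)) ≤ LinearMap.ker B :=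
    Submodule.span_le.mpr fun v hv => hBt v hv
  have hmem : cv m ∈ Submodule.span A (t : Set (ι → A)) := by
    rw [← hspan]
    exact Submodule.subset_span ⟨m, rfl⟩
  have := hle hmem
  rw [LinearMap.mem_ker, hB] at this
  exact hp this

end Groth.Agent.S2978
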