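import Groth.Statements.S2981
import Groth.Agent.Lib.Helper17.TorsionDense

set_option autoImplicit false
universe u
open TensorProduct SGA3b
open SGA3b

namespace Groth.Agent.S2981

/-- Let G = Spec A be an R-group of multiplicative type and of finite type. Then the kernels ₙG of the
n-th power maps, n > 0, form a schematically dense family: over every basic open D(a) of G, the
intersection of the (extended) ideals of the ₙG is zero. (Affine group schemes over an affine base
are taken in Hopf-algebra form; base change is the tensor product.) -/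
theorem result (R : Type u) [CommRing R] (A : Type u) [CommRing A] [HopfAlgebra R A] (hft : Algebra.FiniteType R A) (h : IsMultType R A) :
    ∀ a : A, ⨅ n : {n : ℕ // 0 < n}, Ideal.map (algebraMap A (Localization.Away a)) (torsionIdeal R A n.1) = ⊥ := by
  intro a
  rw [eq_bot_iff]
  intro x hx
  rw [Ideal.mem_bot]
  rw [Ideal.mem_iInf] at hx
  obtain ⟨y, ⟨_, j, rfl⟩, rfl⟩ := IsLocalization.exists_mk'_eq (Submonoid.powers a) x
  -- membership in the torsion ideals after multiplying by a power of `a`
  have hy : ∀ n : ℕ, 0 < n → ∃ k : ℕ, a ^ k * y ∈ torsionIdeal R A n := by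
    intro n hn
    have h1 := hx ⟨n, hn⟩
    have h2 : algebraMap A (Localization.Away a) y ∈
        Ideal.map (algebraMap A (Localization.Away a)) (torsionIdeal R A n) := by
      have h3 := Ideal.mul_mem_right (algebraMap A (Localization.Away a) (a ^ j)) _ h1
      rwa [IsLocalization.mk'_spec] at h3
    rw [IsLocalization.mem_map_algebraMap_iff (Submonoid.powers a)] at h2
    obtain ⟨⟨⟨i, hi⟩, ⟨_, t, rfl⟩⟩, hit⟩ := h2
    simp only at hit
    rw [← map_mul, IsLocalization.eq_iff_exists (Submonoid.powers a)] at hit
    obtain ⟨⟨_, u, rfl⟩, hu⟩ := hit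
    simp only at hu
    refine ⟨u + t, ?_⟩
    have h4 : a ^ (u + t) * y = a ^ u * i := by
      rw [pow_add, mul_assoc, mul_comm (a ^ t) y, hu]
    rw [h4]
    exact Ideal.mul_mem_left _ _ hi
  obtain ⟨k, hk⟩ := Groth.Agent.Lib.Helper17.TorsionDense.dense_elementwise A hft h a y hy
  rw [IsLocalization.mk'_eq_zero_iff]
  exact ⟨⟨a ^ k, k, rfl⟩, hk⟩

end Groth.Agent.S2981
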