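import Groth.Statements.S2983
import Groth.Agent.Lib.Helper17.MultLocal
import Mathlib.RingTheory.HopfAlgebra.Quotient
import Mathlib.GroupTheory.QuotientGroup.Basic
import Mathlib.RingTheory.Finiteness.Basic

set_option autoImplicit false
universe u
open TensorProduct SGA3b
open SGA3b

namespace Groth.Agent.S2983

section aux

open Groth.Agent.Lib.Helper27.MultRigid Groth.Agent.Lib.Helper17.MultLocal

/-- per-member finiteness and idempotence of the annihilator -/
theorem local_L1 (R Q : Type u) [CommRing R] [CommRing Q] [HopfAlgebra R Q]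
    (Rf : Type u) [CommRing Rf] [Algebra R Rf] [Module.Flat R Rf]
    (h : SGA3b.IsMultTypeConst Rf (Rf ⊗[R] Q)) {q : Q} (hq : IsGroupLikeElem R q) :
    (∃ I₀ : Ideal R, I₀.FG ∧ I₀ ≤ ann R (q - 1) ∧
      (ann R (q - 1)).map (algebraMap R Rf) ≤ I₀.map (algebraMap R Rf)) ∧
    (ann R (q - 1)).map (algebraMap R Rf) ≤
      (ann R (q - 1) * ann R (q - 1)).map (algebraMap R Rf) := by
  classical
  obtain ⟨P, _, _, N, _, θ, hflat, hc, hu, hinj, hJF⟩ := exists_local2 R Q Rf h
  obtain ⟨hmap, hidem⟩ := map_ann_eq_span θ hc hu hinj hq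
  set ε := (θ q).coeff 1 with hε
  set 𝔞 := ann R (q - 1) with h𝔞
  constructor
  · have hmem : ε ∈ Ideal.map (algebraMap R P) 𝔞 := by
      rw [hmap]; exact Ideal.subset_span rfl
    rw [Ideal.map] at hmem
    obtain ⟨T, hT, hεT⟩ := Submodule.mem_span_finite_of_mem_span hmem
    obtain ⟨T₀, hT₀, rfl⟩ := Finset.subset_set_image_iff.mp hT
    refine ⟨Ideal.span (T₀ : Set R), ⟨T₀, rfl⟩, Ideal.span_le.mpr hT₀, ?_⟩
    apply hJF
    rw [hmap, Ideal.span_le, Set.singleton_subset_iff]
    have h1 : Ideal.span ((T₀.image (algebraMap R P) : Finset P) : Set P) ≤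
        Ideal.map (algebraMap R P) (Ideal.span (T₀ : Set R)) := by
      rw [Ideal.span_le]
      intro x hx
      rw [Finset.coe_image] at hx
      obtain ⟨t, ht, rfl⟩ := hx
      exact Ideal.mem_map_of_mem _ (Ideal.subset_span ht)
    exact h1 hεT
  · apply hJF
    rw [Ideal.map_mul, hmap, Ideal.span_singleton_mul_span_singleton, hidem.eq]

/-- over a connected base the annihilator of `q - 1` is trivial -/
theorem ann_eq_bot_or_top (R : Type u) [CommRing R]
    (hconn : ∀ e : R, IsIdempotentElem e → e = 0 ∨ e = 1)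
    (Q : Type u) [CommRing Q] [HopfAlgebra R Q] (s : Set R) (hs : Ideal.span s = ⊤)
    (hloc : ∀ f ∈ s, SGA3b.IsMultTypeConst (Localization.Away f) (Localization.Away f ⊗[R] Q))
    {q : Q} (hq : IsGroupLikeElem R q) : ann R (q - 1) = ⊥ ∨ ann R (q - 1) = ⊤ := by
  classical
  set 𝔞 := ann R (q - 1) with h𝔞
  obtain ⟨s₀, hs₀, hs₀top⟩ := (Ideal.span_eq_top_iff_finite s).mp hs
  have hL1 : ∀ f ∈ s, (∃ I₀ : Ideal R, I₀.FG ∧ I₀ ≤ 𝔞 ∧
      𝔞.map (algebraMap R (Localization.Away f)) ≤ I₀.map (algebraMap R (Localization.Away f))) ∧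
      𝔞.map (algebraMap R (Localization.Away f)) ≤
        (𝔞 * 𝔞).map (algebraMap R (Localization.Away f)) :=
    fun f hf => local_L1 R Q (Localization.Away f) (hloc f hf) hq
  have hex : ∀ f : R, ∃ I₀ : Ideal R, f ∈ s → (I₀.FG ∧ I₀ ≤ 𝔞 ∧
      𝔞.map (algebraMap R (Localization.Away f)) ≤
        I₀.map (algebraMap R (Localization.Away f))) := by
    intro f
    by_cases hf : f ∈ s
    · obtain ⟨I₀, h1⟩ := (hL1 f hf).1
      exact ⟨I₀, fun _ => h1⟩
    · exact ⟨⊥, fun h => absurd h hf⟩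
  choose I hI using hex
  set I₀ : Ideal R := ⨆ f ∈ s₀, I f with hI₀
  have hI₀fg : I₀.FG := Submodule.fg_biSup s₀ I (fun f hf => (hI f (hs₀ hf)).1)
  have hI₀le : I₀ ≤ 𝔞 := iSup₂_le (fun f hf => (hI f (hs₀ hf)).2.1)
  have hle : 𝔞 ≤ I₀ := by
    apply ideal_le_of_away (s₀ : Set R) hs₀top
    intro f hf
    refine le_trans (hI f (hs₀ hf)).2.2 (Ideal.map_mono ?_)
    exact le_biSup I hf
  have hfg : 𝔞.FG := by rw [le_antisymm hle hI₀le]; exact hI₀fg
  have hidem : IsIdempotentElem 𝔞 := by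
    apply le_antisymm Ideal.mul_le_right
    apply ideal_le_of_away s hs
    intro f hf
    exact (hL1 f hf).2
  obtain ⟨e, he, hae⟩ := (Ideal.isIdempotentElem_iff_of_fg 𝔞 hfg).mp hidem
  rcases hconn e he with h0 | h1
  · left
    rw [hae, h0, Ideal.span_singleton_eq_bot]
  · right
    rw [hae, h1]
    exact Ideal.span_singleton_one

/-- per-member vanishing of a coefficient -/
theorem local_L2 (R Q : Type u) [CommRing R] [CommRing Q] [HopfAlgebra R Q]
    (Rf : Type u) [CommRing Rf] [Algebra R Rf] [Module.Flat R Rf]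
    (h : SGA3b.IsMultTypeConst Rf (Rf ⊗[R] Q)) {ι : Type u} (t : Finset ι) (q : ι → Q)
    (hq : ∀ i ∈ t, IsGroupLikeElem R (q i)) (c : ι → R) (i₀ : ι) (hi₀ : i₀ ∈ t)
    (hq0 : q i₀ = 1) (hann : ∀ i ∈ t, i ≠ i₀ → ann R (q i - 1) = ⊥)
    (hsum : ∑ i ∈ t, c i • q i = 0) :
    (Ideal.span {c i₀}).map (algebraMap R Rf) ≤ (⊥ : Ideal R).map (algebraMap R Rf) := by
  classical
  obtain ⟨P, _, _, N, _, θ, hflat, hc, hu, hinj, hJF⟩ := exists_local2 R Q Rf h
  apply hJF
  have h1 : θ (∑ i ∈ t, c i • q i) = 0 := by rw [hsum, map_zero]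
  rw [map_sum] at h1
  have h2 : ∑ i ∈ t, c i • (θ (q i)).coeff 1 = 0 := by
    have h3 := congrArg (coeffL (R' := P) (1 : N)) h1
    rw [map_sum, map_zero] at h3
    rw [← h3]
    refine Finset.sum_congr rfl (fun i _ => ?_)
    rw [map_smul θ, coeffL_apply, MonoidAlgebra.coeff_smul_apply]
  rw [Finset.sum_eq_single i₀] at h2
  · rw [hq0, map_one θ, MonoidAlgebra.coeff_one_one, Algebra.smul_def, mul_one] at h2
    rw [Ideal.map_span, Set.image_singleton, h2, Ideal.span_singleton_eq_bot.mpr rfl]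
    exact bot_le
  · intro i hi hne
    obtain ⟨hmap, _⟩ := map_ann_eq_span θ hc hu hinj (hq i hi)
    rw [hann i hi hne, Ideal.map_bot] at hmap
    have h3 : (θ (q i)).coeff 1 = 0 := by
      have : (θ (q i)).coeff 1 ∈ (⊥ : Ideal P) := by
        rw [hmap]; exact Ideal.subset_span rfl
      exact this
    rw [h3, smul_zero]
  · intro hni
    exact absurd hi₀ hni

theorem core (R : Type u) [CommRing R] [Nontrivial R]
    (hconn : ∀ e : R, IsIdempotentElem e → e = 0 ∨ e = 1)
    (M : Type u) [CommGroup M] (Q : Type u) [CommRing Q] [HopfAlgebra R Q]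
    (π : MonoidAlgebra R M →ₐc[R] Q) (hπ : Function.Surjective π) (hQ : SGA3b.IsMultType R Q) :
    SGA3b.IsDiag R Q := by
  classical
  obtain ⟨s, hs, hloc⟩ := hQ
  -- the character map
  set χ₀ : M →* GroupLike R Q :=
    { toFun := fun m => ⟨π (MonoidAlgebra.of R M m), (MonoidAlgebra.isGroupLikeElem_of m).map π⟩
      map_one' := GroupLike.val_injective (by
        change π (MonoidAlgebra.of R M 1) = 1
        rw [map_one, map_one])
      map_mul' := fun a b => GroupLike.val_injective (by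
        change π (MonoidAlgebra.of R M (a * b)) =
          π (MonoidAlgebra.of R M a) * π (MonoidAlgebra.of R M b)
        rw [map_mul, map_mul]) } with hχ₀
  set χ : M ⧸ χ₀.ker →* GroupLike R Q := QuotientGroup.kerLift χ₀ with hχ
  have hχinj : Function.Injective χ := QuotientGroup.kerLift_injective χ₀
  set σ : MonoidAlgebra R (M ⧸ χ₀.ker) →ₐc[R] Q :=
    (MonoidAlgebra.liftGroupLikeBialgHom (R := R) (A := Q)).comp
      (MonoidAlgebra.mapDomainBialgHom R χ) with hσ
  have hσsingle : ∀ (n : M ⧸ χ₀.ker) (r : R), σ (MonoidAlgebra.single n r) = r • (χ n : Q) := by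
    intro n r
    rw [hσ, BialgHom.comp_apply, MonoidAlgebra.mapDomainBialgHom_single]
    simp [MonoidAlgebra.liftGroupLikeBialgHom]
  have hσx : ∀ x : MonoidAlgebra R (M ⧸ χ₀.ker),
      σ x = ∑ n ∈ x.coeff.support, x.coeff n • (χ n : Q) := by
    intro x
    conv_lhs => rw [← MonoidAlgebra.sum_coeff_single x]
    rw [Finsupp.sum, map_sum]
    exact Finset.sum_congr rfl (fun n _ => hσsingle n _)
  -- surjectivity
  have hsurj : Function.Surjective σ := by
    intro y
    obtain ⟨x, rfl⟩ := hπ y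
    induction x using MonoidAlgebra.induction_on with
    | of m =>
      refine ⟨MonoidAlgebra.single (QuotientGroup.mk m) 1, ?_⟩
      rw [hσsingle, one_smul]
      rfl
    | add x y hx hy =>
      obtain ⟨u, hu⟩ := hx
      obtain ⟨v, hv⟩ := hy
      exact ⟨u + v, by rw [map_add, map_add, hu, hv]⟩
    | smul r x hx =>
      obtain ⟨u, hu⟩ := hx
      exact ⟨r • u, by rw [map_smul, map_smul, hu]⟩
  -- annihilators
  have hannbot : ∀ n : M ⧸ χ₀.ker, n ≠ 1 → ann R ((χ n : Q) - 1) = ⊥ := by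
    intro n hn
    rcases ann_eq_bot_or_top R hconn Q s hs hloc (χ n).isGroupLikeElem_val with h0 | h1
    · exact h0
    · exfalso
      have h2 : (1 : R) ∈ ann R ((χ n : Q) - 1) := by rw [h1]; trivial
      rw [mem_ann, one_smul, sub_eq_zero] at h2
      have h3 : χ n = 1 := GroupLike.val_injective (by rw [h2]; rfl)
      exact hn (hχinj (by rw [h3, map_one]))
  -- coefficient at 1 vanishes
  have hcoef1 : ∀ x : MonoidAlgebra R (M ⧸ χ₀.ker), σ x = 0 → x.coeff 1 = 0 := by
    intro x hx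
    rw [hσx] at hx
    have hsum : ∑ n ∈ insert 1 x.coeff.support, x.coeff n • (χ n : Q) = 0 := by
      rw [← hx]
      symm
      apply Finset.sum_subset (Finset.subset_insert _ _)
      intro n _ hn
      rw [Finsupp.notMem_support_iff.mp hn, zero_smul]
    have hle : Ideal.span {x.coeff 1} ≤ (⊥ : Ideal R) := by
      apply ideal_le_of_away s hs
      intro f hf
      exact local_L2 R Q (Localization.Away f) (hloc f hf) (insert 1 x.coeff.support)
        (fun n => (χ n : Q)) (fun n _ => (χ n).isGroupLikeElem_val) (fun n => x.coeff n) 1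
        (Finset.mem_insert_self _ _) (by rw [map_one]; rfl)
        (fun n _ hn => hannbot n hn) hsum
    exact Ideal.mem_bot.mp (hle (Ideal.subset_span rfl))
  -- injectivity
  have hinj : Function.Injective σ := by
    rw [injective_iff_map_eq_zero]
    intro x hx
    rw [← MonoidAlgebra.coeff_inj]
    ext n₀
    have h1 : σ (MonoidAlgebra.single n₀⁻¹ (1 : R) * x) = 0 := by rw [map_mul, hx, mul_zero]
    have h2 := hcoef1 _ h1
    rw [MonoidAlgebra.coeff_single_mul_apply, one_mul, inv_inv, mul_one] at h2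
    rw [h2, MonoidAlgebra.coeff_zero, Finsupp.zero_apply]
  exact ⟨M ⧸ χ₀.ker, inferInstance, ⟨(BialgEquiv.ofBijective σ ⟨hinj, hsurj⟩).symm⟩⟩

end aux

/-- Let R be a ring with connected spectrum (no idempotents other than 0 and 1), G = Spec A a
diagonalisable R-group of finite type, and H = Spec (A/J) a closed subgroup (J a Hopf ideal) which
is of multiplicative type. Then H is diagonalisable. (Affine group schemes over an affine base are
taken in Hopf-algebra form; base change is the tensor product.) -/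
theorem result (R : Type u) [CommRing R] (A : Type u) [CommRing A] [HopfAlgebra R A] [Nontrivial R] (hconn : ∀ e : R, IsIdempotentElem e → e = 0 ∨ e = 1)
    (hG : IsDiagFT R A) (J : Ideal A) [J.IsHopfIdeal R] (hH : IsMultType R (A ⧸ J)) : IsDiag R (A ⧸ J) := by
  obtain ⟨M, _, _, ⟨e⟩⟩ := hG
  refine core R hconn M (A ⧸ J)
    ((Bialgebra.Quotient.mkBialgHom (R := R) J).comp (e.symm : MonoidAlgebra R M →ₐc[R] A)) ?_ hH
  intro y
  obtain ⟨a, rfl⟩ := Ideal.Quotient.mk_surjective y
  exact ⟨e a, by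
    rw [BialgHom.comp_apply]
    change Bialgebra.Quotient.mkBialgHom (R := R) J (e.symm (e a)) = _
    rw [BialgEquiv.symm_apply_apply]
    rfl⟩

end Groth.Agent.S2983
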