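import Groth.Statements.S2984
import Groth.Agent.Lib.Helper17.TorsionMA
import Mathlib.RingTheory.FiniteStability
import Mathlib.RingTheory.Finiteness.Descent
import Mathlib.RingTheory.Localization.Finiteness
import Mathlib.RingTheory.Finiteness.Cardinality
import Mathlib.LinearAlgebra.FreeModule.Finite.Basic
import Mathlib.GroupTheory.Torsion

set_option autoImplicit false
universe u
open TensorProduct SGA3b
open SGA3b

namespace Groth.Agent.S2984

section aux

open Groth.Agent.Lib.Helper27.MultRigid Groth.Agent.Lib.Helper17.TorsionMA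

/-- local data attached to one member of the covering -/
theorem exists_local (R A : Type u) [CommRing R] [CommRing A] [HopfAlgebra R A]
    (Rf : Type u) [CommRing Rf] [Algebra R Rf]
    (h : SGA3b.IsMultTypeConst Rf (Rf ⊗[R] A)) :
    ∃ (R' : Type u) (_ : CommRing R') (_ : Algebra R R') (M : Type u) (_ : CommGroup M)
      (θ : A →ₐ[R] MonoidAlgebra R' M),
      IsSemiComul (R := R) (R' := R') θ.toLinearMap ∧
      IsSemiCounit (R := R) (R' := R') θ.toLinearMap ∧
      (∀ x y : A, θ x = θ y → (1 : Rf) ⊗ₜ[R] x = (1 : Rf) ⊗ₜ[R] y) ∧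
      Submodule.span R' (Set.range θ) = ⊤ ∧
      (Module.Finite R' (MonoidAlgebra R' M) → Module.Finite Rf (Rf ⊗[R] A)) ∧
      (Module.Finite R A → Module.Finite R' (MonoidAlgebra R' M)) ∧
      (Algebra.FiniteType R A → Algebra.FiniteType R' (MonoidAlgebra R' M)) := by
  classical
  obtain ⟨R', _, _, hff, M, _, ⟨e⟩⟩ := h
  letI : Algebra R R' := ((algebraMap Rf R').comp (algebraMap R Rf)).toAlgebra
  haveI : IsScalarTower R Rf R' := IsScalarTower.of_algebraMap_eq (fun _ => rfl)
  have hθ1 : IsSemiComul (R := R) (R' := Rf) (bcMap Rf A) := isSemiComul_bcMap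
  have hθ2 : IsSemiComul (R := Rf) (R' := R') (bcMap R' (Rf ⊗[R] A)) := isSemiComul_bcMap
  have hθ3 : IsSemiComul (R := R') (R' := R')
      (e : (R' ⊗[Rf] (Rf ⊗[R] A)) →ₗc[R'] MonoidAlgebra R' M).toLinearMap :=
    isSemiComul_coalgHom _
  have h12 := IsSemiComul.comp hθ1 hθ2
  have h123 := IsSemiComul.comp h12 hθ3
  set θl : A →ₗ[R] MonoidAlgebra R' M :=
    ((e : (R' ⊗[Rf] (Rf ⊗[R] A)) →ₗc[R'] MonoidAlgebra R' M).toLinearMap.restrictScalars R) ∘ₗ
      (((bcMap R' (Rf ⊗[R] A)).restrictScalars R) ∘ₗ (bcMap Rf A)) with hθl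
  have hθapp : ∀ a : A, θl a = e ((1 : R') ⊗ₜ[Rf] ((1 : Rf) ⊗ₜ[R] a)) := fun a => rfl
  have hone : θl 1 = 1 := by
    rw [hθapp]
    have : ((1 : R') ⊗ₜ[Rf] ((1 : Rf) ⊗ₜ[R] (1 : A))) = 1 := rfl
    rw [this]
    exact map_one e
  have hmul : ∀ a b : A, θl (a * b) = θl a * θl b := by
    intro a b
    rw [hθapp, hθapp, hθapp, ← map_mul, Algebra.TensorProduct.tmul_mul_tmul,
      Algebra.TensorProduct.tmul_mul_tmul, mul_one, mul_one]
  set θ : A →ₐ[R] MonoidAlgebra R' M := AlgHom.ofLinearMap θl hone hmul with hθ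
  have hθθl : θ.toLinearMap = θl := AlgHom.toLinearMap_ofLinearMap _ _ _
  have hθapp' : ∀ a : A, θ a = e ((1 : R') ⊗ₜ[Rf] ((1 : Rf) ⊗ₜ[R] a)) := fun a => rfl
  refine ⟨R', inferInstance, inferInstance, M, inferInstance, θ, ?_, ?_, ?_, ?_, ?_, ?_, ?_⟩
  · rw [hθθl]; exact h123
  · rw [hθθl]
    intro a
    rw [hθapp]
    have hc1 : Coalgebra.counit (R := R') (e ((1 : R') ⊗ₜ[Rf] ((1 : Rf) ⊗ₜ[R] a))) =
        Coalgebra.counit (R := R') ((1 : R') ⊗ₜ[Rf] ((1 : Rf) ⊗ₜ[R] a)) :=
      CoalgHomClass.counit_comp_apply e _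
    rw [hc1, TensorProduct.counit_tmul, TensorProduct.counit_tmul]
    change (Coalgebra.counit (R := R) a • (1 : Rf)) • (1 : R') = algebraMap R R' (Coalgebra.counit a)
    rw [Algebra.algebraMap_eq_smul_one, smul_assoc, one_smul]
  · intro x y hxy
    rw [hθapp', hθapp'] at hxy
    have h2 := e.injective hxy
    exact Module.FaithfullyFlat.tensorProduct_mk_injective (A := Rf) (B := R') (Rf ⊗[R] A) h2
  · rw [eq_top_iff]
    intro z _
    have key : ∀ w : R' ⊗[Rf] (Rf ⊗[R] A), e w ∈ Submodule.span R' (Set.range θ) := by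
      intro w
      induction w using TensorProduct.induction_on with
      | zero => rw [map_zero]; exact Submodule.zero_mem _
      | tmul r y =>
        induction y using TensorProduct.induction_on with
        | zero => rw [TensorProduct.tmul_zero, map_zero]; exact Submodule.zero_mem _
        | tmul c a =>
          have h1 : r ⊗ₜ[Rf] (c ⊗ₜ[R] a) =
              (r * algebraMap Rf R' c) • ((1 : R') ⊗ₜ[Rf] ((1 : Rf) ⊗ₜ[R] a)) := by
            rw [TensorProduct.smul_tmul', smul_eq_mul, mul_one]
            have h2 : c ⊗ₜ[R] a = c • ((1 : Rf) ⊗ₜ[R] a) := by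
              rw [TensorProduct.smul_tmul', smul_eq_mul, mul_one]
            rw [h2, ← TensorProduct.smul_tmul, Algebra.smul_def, mul_comm]
          rw [h1, map_smul]
          exact Submodule.smul_mem _ _ (Submodule.subset_span ⟨a, (hθapp' a)⟩)
        | add y₁ y₂ h₁ h₂ =>
          rw [TensorProduct.tmul_add, map_add]
          exact Submodule.add_mem _ h₁ h₂
      | add w₁ w₂ h₁ h₂ => rw [map_add]; exact Submodule.add_mem _ h₁ h₂
    have := key (e.symm z)
    rwa [BialgEquiv.apply_symm_apply] at this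
  · intro hfin
    haveI : Module.Finite R' (R' ⊗[Rf] (Rf ⊗[R] A)) :=
      Module.Finite.equiv (e : (R' ⊗[Rf] (Rf ⊗[R] A)) ≃ₐ[R'] MonoidAlgebra R' M).toLinearEquiv.symm
    exact Module.Finite.of_finite_tensorProduct_of_faithfullyFlat R' (R := Rf) (M := Rf ⊗[R] A)
  · intro hfin
    have h1 : Module.Finite Rf (Rf ⊗[R] A) := inferInstance
    have h2 : Module.Finite R' (R' ⊗[Rf] (Rf ⊗[R] A)) := inferInstance
    exact Module.Finite.equiv (e : (R' ⊗[Rf] (Rf ⊗[R] A)) ≃ₐ[R'] MonoidAlgebra R' M).toLinearEquiv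
  · intro hfin
    have h1 : Algebra.FiniteType Rf (Rf ⊗[R] A) := inferInstance
    have h2 : Algebra.FiniteType R' (R' ⊗[Rf] (Rf ⊗[R] A)) := inferInstance
    exact h2.equiv (e : (R' ⊗[Rf] (Rf ⊗[R] A)) ≃ₐ[R'] MonoidAlgebra R' M)

/-- if all elements of `M` have exponent `N`, the `N`-torsion ideal of `R'[M]` vanishes -/
theorem torsionIdeal_eq_bot_of_pow (R' M : Type u) [CommRing R'] [CommGroup M] (N : ℕ)
    (hN : ∀ m : M, m ^ N = 1) : SGA3b.torsionIdeal R' (MonoidAlgebra R' M) N = ⊥ := by
  have key : ∀ y : MonoidAlgebra R' M, SGA3b.powConv R' (MonoidAlgebra R' M) N y =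
      algebraMap R' _ (Coalgebra.counit (R := R') y) := by
    intro y
    induction y using MonoidAlgebra.induction_on with
    | of m =>
      rw [powConv_groupLike (MonoidAlgebra.isGroupLikeElem_of m) N, ← map_pow, hN, map_one,
        (MonoidAlgebra.isGroupLikeElem_of (R := R') (A := R') m).counit_eq_one, map_one]
    | add x y hx hy => rw [map_add, map_add, map_add, hx, hy]
    | smul r x hx => rw [map_smul, map_smul, hx, smul_eq_mul, map_mul, ← Algebra.smul_def]
  unfold SGA3b.torsionIdeal
  rw [eq_bot_iff, Ideal.map_le_iff_le_comap]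
  intro y hy
  have hy' : Coalgebra.counit (R := R') y = 0 := hy
  rw [Ideal.mem_comap, Ideal.mem_bot]
  change SGA3b.powConv R' (MonoidAlgebra R' M) N y = 0
  rw [key, hy', map_zero]

/-- (⇒), one member of the covering -/
theorem exists_exponent (R A : Type u) [CommRing R] [CommRing A] [HopfAlgebra R A]
    (Rf : Type u) [CommRing Rf] [Algebra R Rf]
    (h : SGA3b.IsMultTypeConst Rf (Rf ⊗[R] A)) (hfin : Module.Finite R A) :
    ∃ n : ℕ, 0 < n ∧ ∀ N : ℕ, n ∣ N → ∀ x ∈ SGA3b.torsionIdeal R A N,
      (1 : Rf) ⊗ₜ[R] x = (1 : Rf) ⊗ₜ[R] (0 : A) := by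
  classical
  obtain ⟨R', _, _, M, _, θ, h1, h2, hdet, hspan, hdesc, hasc, hftasc⟩ := exists_local R A Rf h
  rcases subsingleton_or_nontrivial R' with hsub | hnt
  · refine ⟨1, Nat.one_pos, fun N _ x _ => ?_⟩
    apply hdet
    haveI : Subsingleton (MonoidAlgebra R' M) := Module.subsingleton R' _
    exact Subsingleton.elim _ _
  · haveI := hasc hfin
    haveI : Finite M := Module.Finite.finite_basis (MonoidAlgebra.basis M R')
    refine ⟨Nat.card M, Nat.card_pos, fun N hN x hx => ?_⟩
    apply hdet
    have hpow : ∀ m : M, m ^ N = 1 := by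
      intro m
      obtain ⟨c, rfl⟩ := hN
      rw [pow_mul, pow_card_eq_one', one_pow]
    have hx' := map_torsionIdeal θ h1 h2 N x hx
    rw [torsionIdeal_eq_bot_of_pow R' M N hpow, Ideal.mem_bot] at hx'
    rw [hx', map_zero]

/-- (⇐), one member of the covering -/
theorem finite_local (R A : Type u) [CommRing R] [CommRing A] [HopfAlgebra R A]
    (hft : Algebra.FiniteType R A)
    (Rf : Type u) [CommRing Rf] [Algebra R Rf]
    (h : SGA3b.IsMultTypeConst Rf (Rf ⊗[R] A)) (n : ℕ) (hn0 : 0 < n)
    (hn : SGA3b.torsionIdeal R A n = ⊥) : Module.Finite Rf (Rf ⊗[R] A) := by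
  classical
  obtain ⟨R', _, _, M, _, θ, h1, h2, hdet, hspan, hdesc, hasc, hftasc⟩ := exists_local R A Rf h
  apply hdesc
  rcases subsingleton_or_nontrivial R' with hsub | hnt
  · haveI : Subsingleton (MonoidAlgebra R' M) := Module.subsingleton R' _
    infer_instance
  · have hA : ∀ a : A, SGA3b.powConv R A n a = algebraMap R A (Coalgebra.counit (R := R) a) := by
      intro a
      have hmem : SGA3b.powConv R A n (a - algebraMap R A (Coalgebra.counit (R := R) a)) ∈
          SGA3b.torsionIdeal R A n := by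
        unfold SGA3b.torsionIdeal
        apply Ideal.mem_map_of_mem
        rw [RingHom.mem_ker]
        change Coalgebra.counit (R := R) (a - algebraMap R A (Coalgebra.counit (R := R) a)) = 0
        rw [map_sub, Bialgebra.counit_algebraMap, sub_self]
      rw [hn, Ideal.mem_bot, map_sub, AlgHom.commutes, sub_eq_zero] at hmem
      exact hmem
    have hB : ∀ z : MonoidAlgebra R' M, SGA3b.powConv R' (MonoidAlgebra R' M) n z =
        algebraMap R' _ (Coalgebra.counit (R := R') z) := by
      intro z
      have hz : z ∈ Submodule.span R' (Set.range θ) := by rw [hspan]; trivial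
      induction hz using Submodule.span_induction with
      | mem z hz =>
        obtain ⟨a, rfl⟩ := hz
        rw [← semi_powConv θ h1 h2 n a, hA, AlgHom.commutes]
        have h3 := h2 a
        change Coalgebra.counit (R := R') (θ a) = _ at h3
        rw [h3, ← IsScalarTower.algebraMap_apply]
      | zero => rw [map_zero, map_zero, map_zero]
      | add x y _ _ hx hy => rw [map_add, map_add, map_add, hx, hy]
      | smul r x _ hx => rw [map_smul, map_smul, hx, smul_eq_mul, map_mul, ← Algebra.smul_def]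
    have hpow : ∀ m : M, m ^ n = 1 := by
      intro m
      have h3 := hB (MonoidAlgebra.of R' M m)
      rw [powConv_groupLike (MonoidAlgebra.isGroupLikeElem_of m) n, ← map_pow,
        (MonoidAlgebra.isGroupLikeElem_of (R := R') (A := R') m).counit_eq_one, map_one,
        ← map_one (MonoidAlgebra.of R' M)] at h3
      exact MonoidAlgebra.of_injective h3
    haveI : Algebra.FiniteType R' (MonoidAlgebra R' M) := hftasc hft
    haveI : Group.FG M := (MonoidAlgebra.finiteType_iff_group_fg (R := R')).mp inferInstance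
    have htors : IsMulTorsion M := fun m => isOfFinOrder_iff_pow_eq_one.mpr ⟨n, hn0, hpow m⟩
    haveI : Finite M := CommGroup.finite_of_fg_isMulTorsion M htors
    exact Module.Finite.of_basis (MonoidAlgebra.basis M R')

end aux

/-- Let R be a ring and G = Spec A an R-group scheme of multiplicative type and of finite type, with A a
Hopf algebra over R. Then A is finite over R if and only if the n-th power map of G is trivial for
some n > 0 (the kernel ₙG is all of G). (Affine group schemes over an affine base are taken in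
Hopf-algebra form; base change is the tensor product.) -/
theorem result (R : Type u) [CommRing R] (A : Type u) [CommRing A] [HopfAlgebra R A] (hft : Algebra.FiniteType R A) (h : IsMultType R A) :
    Module.Finite R A ↔ ∃ n : ℕ, 0 < n ∧ torsionIdeal R A n = ⊥ := by
  classical
  obtain ⟨s, hs, hs'⟩ := h
  constructor
  · intro hfin
    obtain ⟨s', hsub, hs''⟩ := (Ideal.span_eq_top_iff_finite s).mp hs
    have hex : ∀ f : R, ∃ n : ℕ, 0 < n ∧ (f ∈ s' → ∀ N : ℕ, n ∣ N → ∀ x ∈ torsionIdeal R A N,
        (1 : Localization.Away f) ⊗ₜ[R] x = (1 : Localization.Away f) ⊗ₜ[R] (0 : A)) := by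
      intro f
      by_cases hf : f ∈ s'
      · obtain ⟨n, hn0, hn⟩ := exists_exponent R A (Localization.Away f) (hs' f (hsub hf)) hfin
        exact ⟨n, hn0, fun _ => hn⟩
      · exact ⟨1, Nat.one_pos, fun h => absurd h hf⟩
    choose nf hnf0 hnf using hex
    refine ⟨∏ f ∈ s', nf f, Finset.prod_pos (fun f _ => hnf0 f), ?_⟩
    rw [eq_bot_iff]
    intro x hx
    rw [Ideal.mem_bot]
    apply Groth.Agent.Lib.Helper27.MultRigid.eq_of_locally_eq (s' : Set R) hs''
    intro f hf
    exact hnf f hf _ (Finset.dvd_prod_of_mem nf hf) x hx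
  · rintro ⟨n, hn0, hn⟩
    haveI : ∀ g : s, IsLocalizedModule.Away g.val
        (TensorProduct.mk R (Localization.Away g.val) A 1) := fun g =>
      (isLocalizedModule_iff_isBaseChange (Submonoid.powers g.val) (Localization.Away g.val) _).mpr
        (TensorProduct.isBaseChange R A (Localization.Away g.val))
    exact Module.Finite.of_localizationSpan' s hs
      (Rₚ := fun g => Localization.Away g.val)
      (Mₚ := fun g => Localization.Away g.val ⊗[R] A)
      (fun g => TensorProduct.mk R (Localization.Away g.val) A 1)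
      (fun g => finite_local R A hft (Localization.Away g.val) (hs' g.val g.property) n hn0 hn)

end Groth.Agent.S2984
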