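import Groth.Statements.S2987
import Groth.Agent.Lib.Helper27.HopfNilLiftC

set_option autoImplicit false
universe u
open TensorProduct SGA3b
open SGA3b

namespace Groth.Agent.S2987

section aux

open Groth.Agent.Lib.Helper17.MultLift Groth.Agent.Lib.Helper17.MultBC
  Groth.Agent.Lib.Helper27.HopfNilLift

set_option maxSynthPendingDepth 6 in
theorem main (R : Type u) [CommRing R] (A : Type u) [CommRing A] [HopfAlgebra R A]
    [Module.Flat R A] (I : Ideal R) (hIn : IsNilpotent I) :
    IsQuasiIsotrivial (R ⧸ I) ((R ⧸ I) ⊗[R] A) → IsQuasiIsotrivial R A := by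
  have hI : ∀ x ∈ I, IsNilpotent x := nil_of_isNilpotent I hIn
  rintro ⟨sb, hsb, hloc⟩
  refine ⟨{f : R | Ideal.Quotient.mk I f ∈ sb}, ?_, ?_⟩
  · set s := {f : R | Ideal.Quotient.mk I f ∈ sb} with hs
    have himg : Ideal.Quotient.mk I '' s = sb := by
      ext y
      constructor
      · rintro ⟨f, hf, rfl⟩
        exact hf
      · intro hy
        obtain ⟨f, rfl⟩ := Ideal.Quotient.mk_surjective y
        exact ⟨f, hy, rfl⟩
    have h1 : (Ideal.span s).map (Ideal.Quotient.mk I) = ⊤ := by
      rw [Ideal.map_span, himg, hsb]
    have h2 := Ideal.comap_map_of_surjective (Ideal.Quotient.mk I) Ideal.Quotient.mk_surjective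
      (Ideal.span s)
    rw [h1, Ideal.comap_top, ← RingHom.ker_eq_comap_bot, Ideal.mk_ker] at h2
    have h3 : (1 : R) ∈ Ideal.span s ⊔ I := by rw [← h2]; exact Submodule.mem_top
    obtain ⟨a, ha, i, hi, hai⟩ := Submodule.mem_sup.1 h3
    have hu : IsUnit a := by
      have : a = 1 - i := by rw [← hai]; ring
      rw [this]
      exact (hI i hi).isUnit_one_sub
    exact Ideal.eq_top_of_isUnit_mem _ ha hu
  · intro f hf
    obtain ⟨R₀, _, _, hEt, hFF, hD⟩ := hloc (Ideal.Quotient.mk I f) hf
    haveI := hEt
    haveI := hFF
    letI : Algebra (Localization.Away f) (Localization.Away (Ideal.Quotient.mk I f)) :=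
      (Localization.awayMap (Ideal.Quotient.mk I) f).toAlgebra
    have hcomp : ∀ x : R, algebraMap (Localization.Away f)
        (Localization.Away (Ideal.Quotient.mk I f)) (algebraMap R (Localization.Away f) x) =
        algebraMap (R ⧸ I) (Localization.Away (Ideal.Quotient.mk I f)) (Ideal.Quotient.mk I x) :=
      fun x => by
        rw [RingHom.algebraMap_toAlgebra]
        exact IsLocalization.map_eq (M := Submonoid.powers f) (S := Localization.Away f)
          (T := Submonoid.powers (Ideal.Quotient.mk I f))
          (Q := Localization.Away (Ideal.Quotient.mk I f)) _ x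
    have hsurj : Function.Surjective (algebraMap (Localization.Away f)
        (Localization.Away (Ideal.Quotient.mk I f))) := by
      show Function.Surjective (Localization.awayMap (Ideal.Quotient.mk I) f)
      rw [Localization.awayMap_surjective_iff]
      intro a
      obtain ⟨a₀, rfl⟩ := Ideal.Quotient.mk_surjective a
      exact ⟨a₀, 0, by rw [pow_zero, one_mul]⟩
    have hkerle : RingHom.ker (algebraMap (Localization.Away f)
        (Localization.Away (Ideal.Quotient.mk I f))) ≤
        I.map (algebraMap R (Localization.Away f)) := by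
      intro x hx
      rw [RingHom.mem_ker] at hx
      obtain ⟨n, a, hna⟩ := IsLocalization.Away.surj f x
      have hu : IsUnit (algebraMap R (Localization.Away f) f) :=
        IsLocalization.Away.algebraMap_isUnit f
      have h1 : algebraMap (R ⧸ I) (Localization.Away (Ideal.Quotient.mk I f))
          (Ideal.Quotient.mk I a) = 0 := by
        rw [← hcomp, ← hna, map_mul, hx, zero_mul]
      obtain ⟨⟨_, m, rfl⟩, hm⟩ := (IsLocalization.map_eq_zero_iff
        (Submonoid.powers (Ideal.Quotient.mk I f)) _ _).1 h1
      have h2 : f ^ m * a ∈ I := by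
        rw [← Ideal.Quotient.eq_zero_iff_mem, map_mul, map_pow]
        exact hm
      have h4 : algebraMap R (Localization.Away f) f ^ (m + n) * x =
          algebraMap R (Localization.Away f) (f ^ m * a) := by
        rw [map_mul, map_pow, ← hna, pow_add]
        ring
      obtain ⟨v, hv⟩ := hu.pow (m + n)
      have h5 : x = (v⁻¹ : (Localization.Away f)ˣ) *
          algebraMap R (Localization.Away f) (f ^ m * a) := by
        rw [← h4, ← hv, ← mul_assoc, Units.inv_mul, one_mul]
      rw [h5]
      exact Ideal.mul_mem_left _ _ (Ideal.mem_map_of_mem _ h2)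
    have hnilK : IsNilpotent (RingHom.ker (algebraMap (Localization.Away f)
        (Localization.Away (Ideal.Quotient.mk I f)))) := by
      obtain ⟨N, hN⟩ := isNilpotent_map (algebraMap R (Localization.Away f)) I hIn
      exact ⟨N, le_bot_iff.1 (le_trans (Ideal.pow_right_mono hkerle N) (le_of_eq hN))⟩
    have hD' : IsDiag R₀ (R₀ ⊗[Localization.Away (Ideal.Quotient.mk I f)]
        (Localization.Away (Ideal.Quotient.mk I f) ⊗[Localization.Away f]
          (Localization.Away f ⊗[R] A))) := by
      letI : Algebra (R ⧸ I) R₀ :=
        ((algebraMap (Localization.Away (Ideal.Quotient.mk I f)) R₀).comp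
          (algebraMap (R ⧸ I) (Localization.Away (Ideal.Quotient.mk I f)))).toAlgebra
      haveI : IsScalarTower (R ⧸ I) (Localization.Away (Ideal.Quotient.mk I f)) R₀ :=
        IsScalarTower.of_algebraMap_eq (fun _ => rfl)
      letI : Algebra (Localization.Away f) R₀ :=
        ((algebraMap (Localization.Away (Ideal.Quotient.mk I f)) R₀).comp
          (algebraMap (Localization.Away f) (Localization.Away (Ideal.Quotient.mk I f)))).toAlgebra
      haveI : IsScalarTower (Localization.Away f) (Localization.Away (Ideal.Quotient.mk I f)) R₀ :=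
        IsScalarTower.of_algebraMap_eq (fun _ => rfl)
      letI : Algebra R R₀ := ((algebraMap (R ⧸ I) R₀).comp (algebraMap R (R ⧸ I))).toAlgebra
      haveI : IsScalarTower R (R ⧸ I) R₀ := IsScalarTower.of_algebraMap_eq (fun _ => rfl)
      haveI : IsScalarTower R (Localization.Away f) R₀ :=
        IsScalarTower.of_algebraMap_eq (fun x => by
          show algebraMap (Localization.Away (Ideal.Quotient.mk I f)) R₀
              (algebraMap (R ⧸ I) (Localization.Away (Ideal.Quotient.mk I f))
                (algebraMap R (R ⧸ I) x)) =
            algebraMap (Localization.Away (Ideal.Quotient.mk I f)) R₀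
              (algebraMap (Localization.Away f) (Localization.Away (Ideal.Quotient.mk I f))
                (algebraMap R (Localization.Away f) x))
          rw [hcomp]
          rfl)
      exact isDiag_of_bialgEquiv
        ((cancelBaseChangeBialg (Localization.Away f) (Localization.Away (Ideal.Quotient.mk I f))
            R₀ (Localization.Away f ⊗[R] A)).trans
          ((cancelBaseChangeBialg R (Localization.Away f) R₀ A).trans
            ((cancelBaseChangeBialg R (R ⧸ I) R₀ A).symm.trans
              (cancelBaseChangeBialg (R ⧸ I) (Localization.Away (Ideal.Quotient.mk I f)) R₀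
                ((R ⧸ I) ⊗[R] A)).symm))) hD
    obtain ⟨R', _, _, h1, h2, -, h4⟩ := exists_etale_diag hsurj hnilK hD'
    exact ⟨R', inferInstance, inferInstance, h1, h2, h4⟩

end aux

/-- Let R be a ring, I a nilpotent ideal, and H = Spec A an affine R-group with A flat over R. If the
base change of H to R/I is a quasi-isotrivial group of multiplicative type, then so is H. (Affine
group schemes over an affine base are taken in Hopf-algebra form; base change is the tensor
product.) -/
theorem result (R : Type u) [CommRing R] (A : Type u) [CommRing A] [HopfAlgebra R A] [Module.Flat R A] (I : Ideal R) (hI : IsNilpotent I)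
    (h0 : IsQuasiIsotrivial (R ⧸ I) ((R ⧸ I) ⊗[R] A)) : IsQuasiIsotrivial R A := by
  exact main R A I hI h0

end Groth.Agent.S2987
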