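import Groth.Statements.S3015
-- import your own Groth.Agent.* helpers here
import Groth.Agent.Lib.Helper40.DenseMul
import Mathlib

set_option autoImplicit false
universe u
open CategoryTheory MonoidalCategory CartesianMonoidalCategory MonObj GrpObj AlgebraicGeometry TensorProduct
open SGA3

namespace Groth.Agent.S3015

/-- Let A be a local artinian ring, G a group scheme over A, and U, V dense open subsets of G. Then U ·
V, the image of U ×_A V under the multiplication, is the whole underlying space of G: every point of
G is the product of a point of G ×_A G whose two projections lie in U and V. -/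
theorem result (A : Type u) [CommRing A] [IsArtinianRing A] [IsLocalRing A]
    (G : Over (Spec (CommRingCat.of A))) [GrpObj G] (U V : G.left.Opens)
    (hU : Dense (U : Set G.left)) (hV : Dense (V : Set G.left)) (g : G.left) :
    ∃ z : ↥(G ⊗ G).left, (fst G G).left.base z ∈ U ∧ (snd G G).left.base z ∈ V ∧ μ[G].left.base z = g := by
  classical
  -- `Spec A` is a point
  have hsub : Subsingleton (PrimeSpectrum A) := by
    refine ⟨fun p q => ?_⟩
    ext1
    have hp : p.asIdeal.IsMaximal := IsArtinianRing.isMaximal_of_isPrime p.asIdeal
    have hq : q.asIdeal.IsMaximal := IsArtinianRing.isMaximal_of_isPrime q.asIdeal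
    rw [IsLocalRing.eq_maximalIdeal hp, IsLocalRing.eq_maximalIdeal hq]
  have hsubS : Subsingleton ↥(Spec (CommRingCat.of A)) := hsub
  let K' : Over (Spec (CommRingCat.of A)) := Over.mk (G.left.fromSpecResidueField g ≫ G.hom)
  let gK : K' ⟶ G := Over.homMk (G.left.fromSpecResidueField g) rfl
  have hpt : ∀ t : K'.left, gK.left.base t = g := by
    intro t
    exact Scheme.fromSpecResidueField_apply g t
  have hne : Nonempty K'.left := by
    show Nonempty (Spec (G.left.residueField g))
    infer_instance
  have hsurjK : Surjective K'.hom := by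
    refine ⟨fun y => ?_⟩
    obtain ⟨t⟩ := hne
    exact ⟨t, Subsingleton.elim _ _⟩
  -- factor `A → κ(g)` through the residue field of `A`
  let φ : CommRingCat.of A ⟶ G.left.residueField g := Spec.preimage K'.hom
  have hφ : Spec.map φ = K'.hom := Spec.map_preimage _
  have hkill : ∀ x ∈ IsLocalRing.maximalIdeal A, φ.hom x = 0 := by
    intro x hx
    obtain ⟨n, hn⟩ := IsArtinianRing.isNilpotent_jacobson_bot (R := A)
    rw [IsLocalRing.jacobson_eq_maximalIdeal ⊥ bot_ne_top] at hn
    have h1 : x ^ n ∈ (IsLocalRing.maximalIdeal A) ^ n := Ideal.pow_mem_pow hx n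
    rw [hn] at h1
    have h2 : x ^ n = 0 := h1
    have h3 : (φ.hom x) ^ n = 0 := by rw [← map_pow, h2, map_zero]
    exact isNilpotent_iff_eq_zero.mp ⟨n, h3⟩
  let φbar : IsLocalRing.ResidueField A →+* G.left.residueField g :=
    Ideal.Quotient.lift (IsLocalRing.maximalIdeal A) φ.hom hkill
  have hfac : φ = CommRingCat.ofHom (IsLocalRing.residue A) ≫ CommRingCat.ofHom φbar := by
    ext x
    rfl
  have hci : IsClosedImmersion (Spec.map (CommRingCat.ofHom (IsLocalRing.residue A))) :=
    IsClosedImmersion.spec_of_surjective _ Ideal.Quotient.mk_surjective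
  have hsj : Surjective (Spec.map (CommRingCat.ofHom (IsLocalRing.residue A))) := by
    refine ⟨fun y => ?_⟩
    have : Nonempty ↥(Spec (CommRingCat.of (IsLocalRing.ResidueField A))) := inferInstance
    obtain ⟨t⟩ := this
    exact ⟨t, Subsingleton.elim _ _⟩
  have huo1 : UniversallyOpen (Spec.map (CommRingCat.ofHom (IsLocalRing.residue A))) := by
    rw [UniversallyOpen.eq]
    intro X' Y' i₁ i₂ f' hf
    have hf' : IsClosedImmersion f' := MorphismProperty.of_isPullback hf.flip hci
    have hs : Surjective f' := MorphismProperty.of_isPullback hf.flip hsj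
    exact (f'.isClosedEmbedding.isEmbedding.toHomeomorphOfSurjective f'.surjective).isOpenMap
  have huo2 : UniversallyOpen (Spec.map (CommRingCat.ofHom φbar)) := inferInstance
  have huo : UniversallyOpen K'.hom := by
    rw [← hφ, hfac, Spec.map_comp]
    infer_instance
  have hfst : (fst G K').left = Limits.pullback.fst G.hom K'.hom := rfl
  have hopen : IsOpenMap (fst G K').left.base := by
    rw [hfst]
    exact (Limits.pullback.fst G.hom K'.hom).isOpenMap
  have hsurj : Function.Surjective (fst G K').left.base := by
    rw [hfst]
    exact (Limits.pullback.fst G.hom K'.hom).surjective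
  exact Groth.Agent.Lib.Helper40.DenseMul.exists_mul_of_dense G U V hU hV g K' gK hpt hopen hsurj

end Groth.Agent.S3015
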