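import Groth.Statements.S3019
import Groth.Agent.Lib.Helper75.Chevalley

set_option autoImplicit false
universe u
open CategoryTheory MonoidalCategory CartesianMonoidalCategory MonObj GrpObj AlgebraicGeometry TensorProduct
open SGA3

namespace Groth.Agent.S3019

/-- Let A be a finitely generated commutative Hopf algebra over a field k (an affine algebraic k-group
G) and I a Hopf ideal (a closed subgroup scheme H). Then there are a finite-dimensional A-comodule V
and a nonzero vector v ∈ V such that, for every k-algebra R, an R-point of G kills I exactly when it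
carries v to an R-multiple of v: H is the stabilizer of the line through v. -/
theorem result (k : Type u) [Field k] (A : Type u) [CommRing A] [HopfAlgebra k A]
    [Algebra.FiniteType k A] (I : Ideal A) [I.IsHopfIdeal k] :
    ∃ (V : Type u) (_ : AddCommGroup V) (_ : Module k V) (_ : HopfRep.Comod k A V) (_ : Module.Finite k V) (v : V),
      v ≠ 0 ∧ Dyn.Represents k A I (fun R _ _ g => SGA3.StabilizesLine k A v R g) := by
  classical
  obtain ⟨d, e, a, ha, hI⟩ := Groth.Agent.Lib.Helper75.Chevalley.exists_corep_block (k := k) I
  have hemb : Function.Injective (Fin.castAdd e : Fin d → Fin (d + e)) := Fin.castAdd_injective d e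
  refine ⟨(Fin d → Fin (d + e)) → k, inferInstance, inferInstance,
    Groth.Agent.Lib.Helper75.LineStab.matComod (Groth.Agent.Lib.Helper75.LineStab.tupMat a)
      (Groth.Agent.Lib.Helper75.LineStab.isCorep_tupMat a ha), inferInstance,
    Groth.Agent.Lib.Helper75.LineStab.omega k (Fin.castAdd e),
    Groth.Agent.Lib.Helper75.LineStab.omega_ne_zero _ hemb, ?_⟩
  have h := Groth.Agent.Lib.Helper75.LineStab.represents_block a ha (Fin.castAdd e) hemb
  rw [hI] at h
  exact h

end Groth.Agent.S3019
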