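import Groth.Statements.S3028
import Mathlib
import Groth.Agent.Lib.Helper49.WordClosure
import Groth.Agent.S6076
import Groth.Agent.S8056
-- import your own Groth.Agent.* helpers here

set_option autoImplicit false
universe u
open CategoryTheory MonoidalCategory CartesianMonoidalCategory MonObj GrpObj AlgebraicGeometry TensorProduct
open SGA3

namespace Groth.Agent.S3028

open Groth.Agent.S6076 (pw pr tup tup_pr comp_list_prod)
open Groth.Agent.Lib.Helper49

variable {k : Type u} [Field k]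

/-- a signed `T`-point of `G` through `f` -/
noncomputable def sg {G X T : Over (Spec (CommRingCat.of k))} [GrpObj G] (f : X ⟶ G)
    (p : (T ⟶ X) × Bool) : T ⟶ G :=
  if p.2 then p.1 ≫ f else (p.1 ≫ f)⁻¹

/-- the set of points under signed words in `f` -/
def Wpm {G X : Over (Spec (CommRingCat.of k))} [GrpObj G] (f : X ⟶ G) : Set ↥G.left :=
  {p | ∃ (T : Over (Spec (CommRingCat.of k))) (l : List ((T ⟶ X) × Bool)) (t : ↥T.left),
    ((l.map (sg f)).prod).left.base t = p}

/-- the universal signed word -/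
noncomputable def sw {G X : Over (Spec (CommRingCat.of k))} [GrpObj G] (f : X ⟶ G)
    (a : Σ n : ℕ, (Fin n → Bool)) : pw X a.1 ⟶ G :=
  ((List.ofFn fun j => ((pr X a.1 j, a.2 j) : (pw X a.1 ⟶ X) × Bool)).map (sg f)).prod

lemma comp_sg {G X T T' : Over (Spec (CommRingCat.of k))} [GrpObj G] (f : X ⟶ G) (t : T' ⟶ T)
    (p : (T ⟶ X) × Bool) : t ≫ sg f p = sg f (t ≫ p.1, p.2) := by
  obtain ⟨x, b⟩ := p
  unfold sg
  cases b
  · simp only [Bool.false_eq_true, if_false]
    rw [GrpObj.comp_inv, Category.assoc]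
  · simp only [if_true]
    rw [Category.assoc]

lemma comp_sprod {G X T T' : Over (Spec (CommRingCat.of k))} [GrpObj G] (f : X ⟶ G) (t : T' ⟶ T)
    (l : List ((T ⟶ X) × Bool)) :
    t ≫ (l.map (sg f)).prod = ((l.map (fun p => ((t ≫ p.1, p.2) : (T' ⟶ X) × Bool))).map (sg f)).prod := by
  rw [comp_list_prod, List.map_map, List.map_map]
  refine congrArg List.prod (List.map_congr_left fun p _ => ?_)
  simp only [Function.comp_apply]
  exact comp_sg f t p

lemma inv_sg {G X T : Over (Spec (CommRingCat.of k))} [GrpObj G] (f : X ⟶ G)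
    (p : (T ⟶ X) × Bool) : (sg f p)⁻¹ = sg f (p.1, !p.2) := by
  obtain ⟨x, b⟩ := p
  unfold sg
  cases b
  · simp only [Bool.false_eq_true, if_false, Bool.not_false, if_true, _root_.inv_inv]
  · simp only [if_true, Bool.not_true, Bool.false_eq_true, if_false]

lemma inv_sprod {G X T : Over (Spec (CommRingCat.of k))} [GrpObj G] (f : X ⟶ G)
    (l : List ((T ⟶ X) × Bool)) :
    ((l.map (sg f)).prod)⁻¹ =
      (((l.map (fun p => ((p.1, !p.2) : (T ⟶ X) × Bool))).reverse).map (sg f)).prod := by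
  rw [List.prod_inv_reverse, List.map_map, List.map_reverse, List.map_map]
  refine congrArg List.prod (congrArg List.reverse (List.map_congr_left fun p _ => ?_))
  simp only [Function.comp_apply]
  exact inv_sg f p

lemma sg_comp_hom {G G' X T : Over (Spec (CommRingCat.of k))} [GrpObj G] [GrpObj G'] (f : X ⟶ G')
    (i : G' ⟶ G) [IsMonHom i] (p : (T ⟶ X) × Bool) : sg (f ≫ i) p = sg f p ≫ i := by
  obtain ⟨x, b⟩ := p
  unfold sg
  cases b
  · simp only [Bool.false_eq_true, if_false]
    have h := map_inv (IsMonHom.monoidHom i T) (x ≫ f)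
    rw [IsMonHom.monoidHom_apply, IsMonHom.monoidHom_apply, Category.assoc] at h
    exact h.symm
  · simp only [if_true]
    rw [Category.assoc]

lemma sprod_comp_hom {G G' X T : Over (Spec (CommRingCat.of k))} [GrpObj G] [GrpObj G']
    (f : X ⟶ G') (i : G' ⟶ G) [IsMonHom i] (l : List ((T ⟶ X) × Bool)) :
    (l.map (sg (f ≫ i))).prod = (l.map (sg f)).prod ≫ i := by
  have h1 := map_list_prod (IsMonHom.monoidHom i T) (l.map (sg f))
  rw [IsMonHom.monoidHom_apply] at h1
  rw [h1, List.map_map]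
  refine congrArg List.prod (List.map_congr_left fun p _ => ?_)
  simp only [Function.comp_apply, IsMonHom.monoidHom_apply]
  exact sg_comp_hom f i p

lemma Wpm_eq {G X : Over (Spec (CommRingCat.of k))} [GrpObj G] (f : X ⟶ G) :
    Wpm f = ⋃ a, Set.range (sw f a).left := by
  ext p
  constructor
  · rintro ⟨T, l, t, rfl⟩
    refine Set.mem_iUnion.mpr ⟨⟨l.length, fun j => (l.get j).2⟩,
      (tup X l.length (fun j => (l.get j).1)).left t, ?_⟩
    have e : tup X l.length (fun j => (l.get j).1) ≫ sw f ⟨l.length, fun j => (l.get j).2⟩ =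
        (l.map (sg f)).prod := by
      unfold sw
      rw [comp_sprod, List.map_ofFn]
      have h2 : ((fun p : (pw X l.length ⟶ X) × Bool =>
            ((tup X l.length (fun j => (l.get j).1) ≫ p.1, p.2) : (T ⟶ X) × Bool)) ∘
          fun j => ((pr X l.length j, (l.get j).2) : (pw X l.length ⟶ X) × Bool)) =
          fun j => l.get j := by
        funext j
        simp only [Function.comp_apply]
        rw [tup_pr]
      rw [h2, List.ofFn_get]
    rw [← e]
    rfl
  · intro hp
    obtain ⟨a, t, rfl⟩ := Set.mem_iUnion.mp hp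
    exact ⟨pw X a.1, _, t, rfl⟩


/-- Let G be a group scheme over a field k, X a geometrically reduced k-scheme and f : X → G a
k-morphism. Then among the closed subgroup schemes of G through which f factors there is a smallest
one, and it is geometrically reduced over k. -/
theorem result (k : Type u) [Field k] (G X : Over (Spec (CommRingCat.of k))) [GrpObj G]
    [GeometricallyReduced X.hom] (f : X ⟶ G) :
    ∃ (Γ : Over (Spec (CommRingCat.of k))) (_ : GrpObj Γ) (i : Γ ⟶ G), IsMonHom i ∧ IsClosedImmersion i.left ∧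
      (∃ f' : X ⟶ Γ, f' ≫ i = f) ∧ GeometricallyReduced Γ.hom ∧
      ∀ (Γ' : Over (Spec (CommRingCat.of k))) (_ : GrpObj Γ') (i' : Γ' ⟶ G), IsMonHom i' → IsClosedImmersion i'.left →
        (∃ f'' : X ⟶ Γ', f'' ≫ i' = f) → ∃ j : Γ ⟶ Γ', j ≫ i' = i := by
  classical
  haveI : Subsingleton ↥(Spec (CommRingCat.of k)) :=
    inferInstanceAs (Subsingleton (PrimeSpectrum k))
  have hone : Set.range η[G].left ⊆ Wpm f := by
    rintro _ ⟨y, rfl⟩
    refine ⟨𝟙_ _, [], y, ?_⟩
    have hη : η[G] = (1 : 𝟙_ (Over (Spec (CommRingCat.of k))) ⟶ G) := by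
      rw [Hom.one_def, toUnit_unique (toUnit (𝟙_ (Over (Spec (CommRingCat.of k))))) (𝟙 _),
        Category.id_comp]
    rw [List.map_nil, List.prod_nil, ← hη]
  have hmul : ∀ a b, Set.range ((sw f a ⊗ₘ sw f b) ≫ μ[G]).left ⊆ Wpm f := by
    intro a b
    rintro _ ⟨y, rfl⟩
    refine ⟨pw X a.1 ⊗ pw X b.1,
      (List.ofFn fun j => ((pr X a.1 j, a.2 j) : (pw X a.1 ⟶ X) × Bool)).map
          (fun p => ((fst (pw X a.1) (pw X b.1) ≫ p.1, p.2) : (pw X a.1 ⊗ pw X b.1 ⟶ X) × Bool)) ++
        (List.ofFn fun j => ((pr X b.1 j, b.2 j) : (pw X b.1 ⟶ X) × Bool)).map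
          (fun p => ((snd (pw X a.1) (pw X b.1) ≫ p.1, p.2) : (pw X a.1 ⊗ pw X b.1 ⟶ X) × Bool)),
      y, ?_⟩
    have h1 : (sw f a ⊗ₘ sw f b) ≫ μ[G] =
        (fst (pw X a.1) (pw X b.1) ≫ sw f a) * (snd (pw X a.1) (pw X b.1) ≫ sw f b) := by
      rw [Hom.mul_def, ← lift_fst_comp_snd_comp]
    rw [h1, List.map_append, List.prod_append]
    unfold sw
    rw [comp_sprod, comp_sprod]
  have hinv : ∀ a, Set.range (sw f a ≫ ι[G]).left ⊆ Wpm f := by
    intro a
    rintro _ ⟨y, rfl⟩
    have e : sw f a ≫ ι[G] = (sw f a)⁻¹ := rfl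
    rw [e]
    unfold sw
    rw [inv_sprod]
    exact ⟨pw X a.1, _, y, rfl⟩
  obtain ⟨H', instH', incl, hMon, hcl, hgrH', hredH', hrange, hlift⟩ :=
    WordClosure.exists_closedSubgroup G (fun a : (Σ n : ℕ, (Fin n → Bool)) => pw X a.1) (sw f)
      (fun a => Groth.Agent.S8056.geomRed_pw X a.1) (Wpm f) (Wpm_eq f) hone hmul hinv
  haveI := hMon
  haveI := hcl
  -- `f` factors through `H'`
  haveI : Flat X.hom := inferInstance
  haveI : IsReduced X.left := GeometricallyReduced.isReduced_of_flat_of_isLocallyNoetherian X.hom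
  have hfW : ∀ a : X.left, f.left a ∈ Wpm f := by
    intro a
    refine ⟨X, [(𝟙 X, true)], a, ?_⟩
    rw [List.map_singleton, List.prod_singleton]
    unfold sg
    simp only [if_true, Category.id_comp]
  obtain ⟨f₁, hf₁⟩ := Groth.Agent.Lib.Helper60.AbGen.exists_lift_of_isReduced f.left incl.left (by
    rintro _ ⟨a, rfl⟩
    rw [hrange]
    exact subset_closure (hfW a))
  refine ⟨H', instH', incl, hMon, hcl, ⟨Over.homMk f₁ ?_, ?_⟩, hgrH', ?_⟩
  · rw [← Over.w incl, ← Category.assoc, hf₁, Over.w f]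
  · ext1
    exact hf₁
  · intro Γ' instΓ' i' hMon' hcl' hf''
    obtain ⟨f'', hf''⟩ := hf''
    haveI := hMon'
    haveI := hcl'
    have hWi : Wpm f ⊆ Set.range i'.left := by
      rintro _ ⟨T, l, t, rfl⟩
      rw [← hf'', sprod_comp_hom]
      exact ⟨((l.map (sg f'')).prod).left t, rfl⟩
    have hicl : IsClosed (Set.range i'.left) := i'.left.isClosedEmbedding.isClosed_range
    obtain ⟨j₁, hj₁⟩ := Groth.Agent.Lib.Helper60.AbGen.exists_lift_of_isReduced incl.left i'.left (by
      rw [hrange]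
      exact hicl.closure_subset_iff.mpr hWi)
    refine ⟨Over.homMk j₁ ?_, ?_⟩
    · rw [← Over.w i', ← Category.assoc, hj₁, Over.w incl]
    · ext1
      exact hj₁

end Groth.Agent.S3028
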