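import Groth.Statements.S3029
import Mathlib
import Groth.Agent.Lib.Helper33.CMLocusFT
import Groth.Agent.Lib.Helper33.FibreBC4
import Groth.Agent.Lib.Helper23.GrpSmoothLocus

set_option maxHeartbeats 800000
set_option backward.isDefEq.respectTransparency.types false

set_option autoImplicit false
universe u
open CategoryTheory MonoidalCategory CartesianMonoidalCategory MonObj GrpObj AlgebraicGeometry TensorProduct
open SGA3

namespace Groth.Agent.S3029

open Limits Groth.Agent.Lib.Helper23.CartierSmooth in
theorem cm_of_isAlgClosed {K : Type u} [Field K] [IsAlgClosed K]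
    (G : Over (Spec (CommRingCat.of K))) [GrpObj G] [LocallyOfFiniteType G.hom] (x : G.left) :
    LocCoh.IsCohenMacaulayLocalRing (G.left.presheaf.stalk x) := by
  have hJ := LocallyOfFiniteType.jacobsonSpace G.hom
  haveI : IsLocallyNoetherian G.left := LocallyOfFiniteType.isLocallyNoetherian G.hom
  haveI : Nonempty G.left := ⟨x⟩
  have hopen := Groth.Agent.Lib.Helper33.CMLocusFT.isOpen_cmLocus G.hom
  have hne : {x : G.left | LocCoh.IsCohenMacaulayLocalRing (G.left.presheaf.stalk x)}.Nonempty :=
    Groth.Agent.Lib.Helper33.CMLocusFT.exists_cm_stalk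
  by_contra hx
  have H : ({x : G.left | LocCoh.IsCohenMacaulayLocalRing (G.left.presheaf.stalk x)}ᶜ).Nonempty :=
    ⟨x, hx⟩
  obtain ⟨z, hz, hzc⟩ := nonempty_inter_closedPoints H hopen.isClosed_compl.isLocallyClosed
  obtain ⟨y, hy, hyc⟩ := nonempty_inter_closedPoints hne hopen.isLocallyClosed
  obtain ⟨e⟩ := nonempty_stalk_ringEquiv G z y hzc hyc
  exact hz ((Groth.Agent.Lib.Helper33.CMComp.cm_ringEquiv_iff e).2 hy)

/-- Let G be a group scheme locally of finite type over a field k and x a point of G. Then the local
ring of G at x is Cohen–Macaulay. (This is the case of a base field; the published statement treats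
flat groups over a local Artinian ring.) -/
theorem result (k : Type u) [Field k] (G : Over (Spec (CommRingCat.of k))) [GrpObj G]
    [LocallyOfFiniteType G.hom] (x : G.left) :
    LocCoh.IsCohenMacaulayLocalRing (G.left.presheaf.stalk x) := by
  let Ω : Type u := AlgebraicClosure k
  let g : Spec (.of Ω) ⟶ Spec (.of k) := Spec.map (CommRingCat.ofHom <| algebraMap k Ω)
  let i0 : GrpObj (Over.mk G.hom) := (inferInstance : GrpObj G)
  let i1 : GrpObj (Over.mk (Limits.pullback.snd G.hom g)) := Over.grpObjMkPullbackSnd
  have i2 : LocallyOfFiniteType (Over.mk (Limits.pullback.snd G.hom g)).hom :=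
    (inferInstance : LocallyOfFiniteType (Limits.pullback.snd G.hom g))
  have hsurj : Function.Surjective (Limits.pullback.fst G.hom g).base :=
    (inferInstance : Surjective (Limits.pullback.fst G.hom g)).surj
  obtain ⟨x', rfl⟩ := hsurj x
  have hCM := cm_of_isAlgClosed (K := Ω) (Over.mk (Limits.pullback.snd G.hom g)) x'
  have hsq : IsPullback (Limits.pullback.fst G.hom g) (Limits.pullback.snd G.hom g) G.hom
      (Spec.map (CommRingCat.ofHom (algebraMap k Ω))) := IsPullback.of_hasPullback _ _
  haveI : IsLocallyNoetherian G.left := LocallyOfFiniteType.isLocallyNoetherian G.hom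
  haveI : IsLocallyNoetherian (Limits.pullback G.hom g) :=
    LocallyOfFiniteType.isLocallyNoetherian (Limits.pullback.snd G.hom g)
  letI : Algebra k (G.left.residueField ((Limits.pullback.fst G.hom g).base x')) :=
    (Groth.Agent.Lib.Helper33.PullbackStalk.gl G.hom
      ((Limits.pullback.fst G.hom g).base x') ≫
        G.left.residue ((Limits.pullback.fst G.hom g).base x')).hom.toAlgebra
  have hfg := Groth.Agent.Lib.Helper33.FibreBC.fg_of_essFiniteType
    (Groth.Agent.Lib.Helper33.FibreBC.essFiniteType_gl_residue G.hom
      ((Limits.pullback.fst G.hom g).base x'))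
  have key := (Groth.Agent.Lib.Helper33.FibreBC.gor_cm_stalk_iff (k := k) (K := Ω)
    G.hom (Limits.pullback.snd G.hom g) (Limits.pullback.fst G.hom g)
    (CommRingCat.ofHom (algebraMap k Ω)) hsq x' rfl rfl (Or.inr hfg)).2
  exact key.1 hCM

end Groth.Agent.S3029
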