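import Groth.Statements.S3031
import Mathlib
import Groth.Agent.Lib.Helper79.IdComp

set_option autoImplicit false
set_option linter.style.haveILetI false
universe u
open CategoryTheory MonoidalCategory CartesianMonoidalCategory MonObj GrpObj AlgebraicGeometry TensorProduct
open SGA3

namespace Groth.Agent.S3031
open Groth.Agent.Lib.Helper79.IdComp

theorem main (k : Type u) [Field k] (G X : Over (Spec (CommRingCat.of k))) [GrpObj G]
    [GeometricallyReduced X.hom] [ConnectedSpace X.left] (x : 𝟙_ (Over (Spec (CommRingCat.of k))) ⟶ X) (f : X ⟶ G)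
    (hx : x ≫ f = η[G])
    (Γ : Over (Spec (CommRingCat.of k))) [GrpObj Γ] (i : Γ ⟶ G) [IsMonHom i] [IsClosedImmersion i.left]
    (hf : ∃ f' : X ⟶ Γ, f' ≫ i = f)
    (hmin : ∀ (Γ' : Over (Spec (CommRingCat.of k))) (_ : GrpObj Γ') (i' : Γ' ⟶ G), IsMonHom i' → IsClosedImmersion i'.left →
        (∃ f'' : X ⟶ Γ', f'' ≫ i' = f) → ∃ j : Γ ⟶ Γ', j ≫ i' = i) :
    ConnectedSpace Γ.left := by
  obtain ⟨f', hf'⟩ := hf
  haveI hmono : Mono i := by
    haveI : Mono ((Over.forget _).map i) := by
      show Mono i.left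
      infer_instance
    exact (Over.forget _).mono_of_mono_map inferInstance
  have hxf' : x ≫ f' = 1 := by
    rw [← cancel_mono i, Category.assoc, hf', hx, MonObj.one_comp, MonObj.one_eq_one]
  have hrange : Set.range f'.left ⊆ connectedComponent (e0 Γ) :=
    range_subset_of_connected Γ f' x hxf'
  obtain ⟨f'', hf''⟩ := exists_over_lift Γ f' hrange
  obtain ⟨j, hj⟩ : ∃ j : Γ ⟶ G0 Γ, j ≫ (iG Γ ≫ i) = i := by
    letI := grpObjG0 Γ
    haveI := isMonHom_iG Γ
    haveI := isClosedImmersion_iG Γ
    refine hmin (G0 Γ) (grpObjG0 Γ) (iG Γ ≫ i) inferInstance ?_ ⟨f'', ?_⟩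
    · show IsClosedImmersion ((iG Γ).left ≫ i.left)
      infer_instance
    · rw [← Category.assoc, hf'', hf']
  have hj' : j ≫ iG Γ = 𝟙 Γ := by
    rw [← cancel_mono i, Category.assoc, hj, Category.id_comp]
  have huniv : connectedComponent (e0 Γ) = Set.univ := by
    rw [← range_iG Γ]
    apply Set.eq_univ_of_forall
    intro y
    refine ⟨j.left y, ?_⟩
    have h := congrArg (fun φ => φ.left y) hj'
    simpa using h
  haveI : PreconnectedSpace Γ.left :=
    ⟨by rw [← huniv]; exact isPreconnected_connectedComponent⟩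
  exact { toNonempty := ⟨e0 Γ⟩ }


/-- With X connected and possessing a rational point over the identity, a case of 'geometrically
connected with e ∈ f(X)': let G be a group scheme over a field k, X a connected, geometrically
reduced k-scheme, x a k-point of X and f : X → G a k-morphism with f(x) the identity. Then the
smallest closed subgroup scheme of G through which f factors is connected. -/
theorem result (k : Type u) [Field k] (G X : Over (Spec (CommRingCat.of k))) [GrpObj G]
    [GeometricallyReduced X.hom] [ConnectedSpace X.left] (x : 𝟙_ (Over (Spec (CommRingCat.of k))) ⟶ X) (f : X ⟶ G)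
    (hx : x ≫ f = η[G])
    (Γ : Over (Spec (CommRingCat.of k))) [GrpObj Γ] (i : Γ ⟶ G) [IsMonHom i] [IsClosedImmersion i.left]
    (hf : ∃ f' : X ⟶ Γ, f' ≫ i = f)
    (hmin : ∀ (Γ' : Over (Spec (CommRingCat.of k))) (_ : GrpObj Γ') (i' : Γ' ⟶ G), IsMonHom i' → IsClosedImmersion i'.left →
        (∃ f'' : X ⟶ Γ', f'' ≫ i' = f) → ∃ j : Γ ⟶ Γ', j ≫ i' = i) :
    ConnectedSpace Γ.left := by
  exact main k G X x f hx Γ i hf hmin

end Groth.Agent.S3031
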