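import Groth.Statements.S3032
-- import your own Groth.Agent.* helpers here

set_option autoImplicit false
universe u
open CategoryTheory MonoidalCategory CartesianMonoidalCategory MonObj GrpObj AlgebraicGeometry TensorProduct
open SGA3

namespace Groth.Agent.S3032

/-- Let R be a Noetherian commutative ring, C an R-coalgebra which is flat as an R-module, V a
C-comodule and M a finitely generated R-submodule of V. Then M is contained in a subcomodule of V
which is finitely generated over R. -/
theorem result (R : Type u) [CommRing R] [IsNoetherianRing R] (C : Type u) [AddCommGroup C]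
    [Module R C] [Coalgebra R C] [Module.Flat R C] (V : Type u) [AddCommGroup V] [Module R V] [HopfRep.Comod R C V]
    (M : Submodule R V) (hM : M.FG) :
    ∃ W : Submodule R V, HopfRep.IsSubcomod (k := R) (A := C) W ∧ M ≤ W ∧ W.FG := by
  classical
  let ρ : V →ₗ[R] V ⊗[R] C := HopfRep.Comod.coact (k := R) (A := C)
  -- Step 1: a finitely generated `N` with `ρ M ⊆ N ⊗ C`
  obtain ⟨S, hS⟩ := hM
  obtain ⟨N, hNfg, hN⟩ := Submodule.exists_fg_le_subset_range_rTensor_subtype (R := R) (M := C)
    (ρ '' (S : Set V)) (S.finite_toSet.image _)
  -- Step 2: W = ρ⁻¹ (N ⊗ C)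
  let W : Submodule R V := (LinearMap.range (N.subtype.rTensor C)).comap ρ
  have hMW : M ≤ W := by
    rw [← hS, Submodule.span_le]
    intro s hs
    exact hN ⟨s, hs, rfl⟩
  -- Step 3: W ≤ N via the counit
  have hWN : W ≤ N := by
    intro v hv
    obtain ⟨t, ht⟩ := hv
    have hcounit : (TensorProduct.rid R V) ((CoalgebraStruct.counit (R := R) (A := C)).lTensor V (ρ v)) = v := by
      have := LinearMap.congr_fun (HopfRep.Comod.counit_comp (k := R) (A := C) (V := V)) v
      simp only [LinearMap.comp_apply] at this
      rw [this]
      simp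
    rw [← hcounit, ← ht]
    have key : ∀ t : N ⊗[R] C, (TensorProduct.rid R V) ((CoalgebraStruct.counit (R := R) (A := C)).lTensor V
        ((N.subtype.rTensor C) t)) =
        N.subtype ((TensorProduct.rid R N) ((CoalgebraStruct.counit (R := R) (A := C)).lTensor N t)) := by
      intro t
      induction t with
      | zero => simp
      | tmul n c => simp
      | add x y hx hy => simp only [map_add, hx, hy]
    rw [key]
    exact Submodule.coe_mem _
  have hWfg : W.FG := by
    have : IsNoetherian R N := isNoetherian_of_fg_of_noetherian N hNfg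
    have := isNoetherian_submodule.mp this W hWN  
    exact this
  refine ⟨W, ?_, hMW, hWfg⟩
  -- Step 4: W is a subcomodule (uses flatness)
  let q : V →ₗ[R] V ⧸ N := N.mkQ
  let φ : V →ₗ[R] (V ⧸ N) ⊗[R] C := (q.rTensor C) ∘ₗ ρ
  have hWker : W = LinearMap.ker φ := by
    change (LinearMap.range (N.subtype.rTensor C)).comap ρ = _
    rw [← rTensor_mkQ, LinearMap.ker_comp]
  have hex : Function.Exact W.subtype φ := by
    rw [LinearMap.exact_iff, Submodule.range_subtype, hWker]
  have hex' : Function.Exact (W.subtype.rTensor C) (φ.rTensor C) :=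
    Module.Flat.rTensor_exact C hex
  intro w hw
  change ρ w ∈ _
  rw [← LinearMap.exact_iff.mp hex', LinearMap.mem_ker]
  obtain ⟨t, ht⟩ := hw
  -- coassociativity
  have hco : (ρ.rTensor C) (ρ w) =
      (TensorProduct.assoc R V C C).symm ((CoalgebraStruct.comul (R := R) (A := C)).lTensor V (ρ w)) := by
    have := LinearMap.congr_fun (HopfRep.Comod.coassoc (k := R) (A := C) (V := V)) w
    simp only [LinearMap.comp_apply, LinearEquiv.coe_coe] at this
    rw [← this, LinearEquiv.symm_apply_apply]
  have hφ : (φ.rTensor C) (ρ w) = ((q.rTensor C).rTensor C) ((ρ.rTensor C) (ρ w)) := by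
    rw [LinearMap.rTensor_comp]; rfl
  rw [hφ, hco, ← ht]
  have key : ∀ t : N ⊗[R] C, ((q.rTensor C).rTensor C) ((TensorProduct.assoc R V C C).symm
      ((CoalgebraStruct.comul (R := R) (A := C)).lTensor V ((N.subtype.rTensor C) t))) = 0 := by
    intro t
    induction t with
    | zero => simp
    | add x y hx hy => simp only [map_add, hx, hy, add_zero]
    | tmul n c =>
      simp only [LinearMap.rTensor_tmul, LinearMap.lTensor_tmul, Submodule.subtype_apply]
      generalize (CoalgebraStruct.comul (R := R) (A := C)) c = d
      induction d with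
      | zero => simp
      | add x y hx hy => simp only [TensorProduct.tmul_add, map_add, hx, hy, add_zero]
      | tmul c₁ c₂ =>
        simp only [TensorProduct.assoc_symm_tmul, LinearMap.rTensor_tmul]
        have : q (n : V) = 0 := by
          simp [q]
        rw [this, TensorProduct.zero_tmul, TensorProduct.zero_tmul]
  exact key t

end Groth.Agent.S3032
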