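import Groth.Statements.S5345
import Mathlib
import Groth.Agent.S1864
import Groth.Agent.Lib.Helper62.GrpComp

set_option autoImplicit false
set_option linter.style.haveILetI false
universe u
open CategoryTheory CategoryTheory.Limits MonoidalCategory CartesianMonoidalCategory MonObj GrpObj AlgebraicGeometry
open SGA3

namespace Groth.Agent.S5345
open CategoryTheory MonoidalCategory CartesianMonoidalCategory MonObj GrpObj AlgebraicGeometry Limits
open TopologicalSpace

/-- a surjective closed immersion is universally open (being a universal homeomorphism). -/
theorem universallyOpen_of_isClosedImmersion_of_surjective {X Y : Scheme.{u}} (f : X ⟶ Y)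
    [IsClosedImmersion f] [Surjective f] : UniversallyOpen f := by
  refine ⟨fun X' Y' i₁ i₂ f' hf => ?_⟩
  have h1 : IsClosedImmersion f' := MorphismProperty.of_isPullback hf.flip inferInstance
  have h2 : Surjective f' := MorphismProperty.of_isPullback hf.flip inferInstance
  have hemb : Topology.IsClosedEmbedding f' := f'.isClosedEmbedding
  exact (hemb.isEmbedding.toHomeomorphOfSurjective f'.surjective).isOpenMap

/-- in a locally noetherian scheme where each point lies on a unique irreducible component,
irreducible components are open. -/
theorem isOpen_of_mem_irreducibleComponents {X : Scheme.{u}} [IsLocallyNoetherian X]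
    (hUC : ∀ x : X, S0350.UniqueComp x) {C : Set X} (hC : C ∈ irreducibleComponents X) :
    IsOpen C := by
  have hcl := Groth.Agent.Lib.Helper82.UnivOpenDedekind.isClosed_sUnion_irreducibleComponents
    (X := X) (irreducibleComponents X \ {C}) Set.sdiff_subset
  have : C = (⋃₀ (irreducibleComponents X \ {C}))ᶜ := by
    ext x
    simp only [Set.mem_compl_iff, Set.mem_sUnion, Set.mem_sdiff, Set.mem_singleton_iff, not_exists,
      not_and]
    constructor
    · intro hx C' hC' hxC'
      exact hC'.2 (hUC x C' hC'.1 C hC hxC' hx)
    · intro hx
      by_contra hxC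
      refine hx (irreducibleComponent x) ⟨irreducibleComponent_mem_irreducibleComponents x, ?_⟩
        mem_irreducibleComponent
      intro heq
      exact hxC (heq ▸ mem_irreducibleComponent)
  rw [this]
  exact hcl.isOpen_compl

theorem main (A : Type u) [CommRing A] [IsArtinianRing A] [IsLocalRing A]
    (G : Over (Spec (CommRingCat.of A))) [GrpObj G] [LocallyOfFiniteType G.hom]
    (g : G.left) : IsCompact (connectedComponent g) := by
  let k := IsLocalRing.ResidueField A
  let K := AlgebraicClosure k
  let φ : A →+* K := (algebraMap k K).comp (IsLocalRing.residue A)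
  let gg : Spec (CommRingCat.of K) ⟶ Spec (CommRingCat.of A) := Spec.map (CommRingCat.ofHom φ)
  let i1 : GrpObj (Over.mk G.hom) := ‹GrpObj G›
  let i2 : GrpObj (Over.mk (pullback.snd G.hom gg)) := Over.grpObjMkPullbackSnd
  let H : Over (Spec (CommRingCat.of K)) := Over.mk (pullback.snd G.hom gg)
  let π : H.left ⟶ G.left := pullback.fst G.hom gg
  have hHlft : LocallyOfFiniteType H.hom :=
    inferInstanceAs (LocallyOfFiniteType (pullback.snd G.hom gg))
  -- properties of gg
  have hφint : φ.IsIntegral :=
    RingHom.IsIntegral.trans _ _ (RingHom.isIntegral_of_surjective _ IsLocalRing.residue_surjective)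
      (algebraMap_isIntegral_iff.mpr inferInstance)
  have hgint : IsIntegralHom gg := IsIntegralHom.SpecMap_iff.mpr hφint
  have hsub : Subsingleton (Spec (CommRingCat.of A)) := by
    refine ⟨fun p q => ?_⟩
    have hp : p.asIdeal = IsLocalRing.maximalIdeal A :=
      IsLocalRing.eq_maximalIdeal (IsArtinianRing.isMaximal_of_isPrime p.asIdeal)
    have hq : q.asIdeal = IsLocalRing.maximalIdeal A :=
      IsLocalRing.eq_maximalIdeal (IsArtinianRing.isMaximal_of_isPrime q.asIdeal)
    exact PrimeSpectrum.ext (hp.trans hq.symm)
  have hgsurj : Surjective gg := ⟨fun x => ⟨IsLocalRing.closedPoint K, Subsingleton.elim _ _⟩⟩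
  have hguo : UniversallyOpen gg := by
    have h1 : gg = Spec.map (CommRingCat.ofHom (algebraMap k K)) ≫
        Spec.map (CommRingCat.ofHom (IsLocalRing.residue A)) := by
      rw [← Spec.map_comp]; rfl
    have h2 : IsClosedImmersion (Spec.map (CommRingCat.ofHom (IsLocalRing.residue A))) :=
      IsClosedImmersion.spec_of_surjective _ IsLocalRing.residue_surjective
    have h3 : Surjective (Spec.map (CommRingCat.ofHom (IsLocalRing.residue A))) :=
      ⟨fun x => ⟨IsLocalRing.closedPoint k, Subsingleton.elim _ _⟩⟩
    have h4 := universallyOpen_of_isClosedImmersion_of_surjective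
      (Spec.map (CommRingCat.ofHom (IsLocalRing.residue A)))
    rw [h1]
    infer_instance
  have hπo : IsOpenMap π := (pullback.fst G.hom gg).isOpenMap
  have hπc : IsClosedMap π := (pullback.fst G.hom gg).isClosedMap
  have hπs : Function.Surjective π := (pullback.fst G.hom gg).surjective
  -- the identity component of H
  obtain ⟨h1, h2, -⟩ := Groth.Agent.Lib.Helper62.GrpComp.main_algClosed H
  have hLN : IsLocallyNoetherian H.left := LocallyOfFiniteType.isLocallyNoetherian H.hom
  have hJ : JacobsonSpace H.left := LocallyOfFiniteType.jacobsonSpace H.hom
  have hopen : IsOpen (connectedComponent (S1864.e₀ H)) := by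
    show IsOpen (connectedComponent (η[H].left (IsLocalRing.closedPoint K)))
    rw [h1]
    exact isOpen_of_mem_irreducibleComponents (S0350.uniqueComp_all H)
      (irreducibleComponent_mem_irreducibleComponents _)
  have hcomp : IsCompact (connectedComponent (S1864.e₀ H)) := by
    show IsCompact (connectedComponent (η[H].left (IsLocalRing.closedPoint K)))
    rw [h1]
    exact h2
  -- closed point over the component of g
  have hne : (π ⁻¹' connectedComponent g).Nonempty := by
    obtain ⟨y, hy⟩ := hπs g
    exact ⟨y, by rw [Set.mem_preimage, hy]; exact mem_connectedComponent⟩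
  have hcl : IsClosed (π ⁻¹' connectedComponent g) :=
    isClosed_connectedComponent.preimage π.continuous
  obtain ⟨y, hyC, hycl⟩ := nonempty_inter_closedPoints hne hcl.isLocallyClosed
  have hycl' : IsClosed ({y} : Set H.left) := hycl
  let τ := S1864.Lh H y hycl'
  let D : Set G.left := π '' (τ.hom '' connectedComponent (S1864.e₀ H))
  have hτhomeo : IsHomeomorph τ.hom := (Scheme.homeoOfIso τ).isHomeomorph
  have hDcomp : IsCompact D :=
    (hcomp.image τ.hom.continuous).image π.continuous
  have hDclopen : IsClopen D :=
    ⟨hπc _ (hτhomeo.isClosedMap _ isClosed_connectedComponent),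
      hπo _ (hτhomeo.isOpenMap _ hopen)⟩
  have hyD : π y ∈ D := ⟨y, ⟨S1864.e₀ H, mem_connectedComponent, S1864.Lh_unit H y hycl'⟩, rfl⟩
  have hsub : connectedComponent g ⊆ D := by
    rw [connectedComponent_eq (show π y ∈ connectedComponent g from hyC)]
    exact hDclopen.connectedComponent_subset hyD
  exact hDcomp.of_isClosed_subset isClosed_connectedComponent hsub


/-- Let A be a local artinian ring and G an A-group scheme locally of finite type. Then every connected
component of G, in particular the connected component of the unit, is quasi-compact (so the open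
subscheme it carries is of finite type over A). (The published statement also asserts that the
components are irreducible and of equal dimension; this row states only their quasi-compactness.) -/
theorem result (A : Type u) [CommRing A] [IsArtinianRing A] [IsLocalRing A] (G : Over (Spec (CommRingCat.of A))) [GrpObj G] [LocallyOfFiniteType G.hom]
    (g : G.left) : IsCompact (connectedComponent g) := by
  exact main A G g

end Groth.Agent.S5345
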