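import Groth.Statements.S5335
import Mathlib
import Groth.Agent.S5345

set_option autoImplicit false
set_option linter.style.haveILetI false
universe u
open CategoryTheory CategoryTheory.Limits MonoidalCategory CartesianMonoidalCategory MonObj GrpObj AlgebraicGeometry
open SGA3

namespace Groth.Agent.S5335
open CategoryTheory CategoryTheory.Limits MonoidalCategory CartesianMonoidalCategory MonObj GrpObj AlgebraicGeometry
open TopologicalSpace

/-- base change of a dominant morphism along an open map is dominant. -/
theorem denseRange_of_isPullback {P X' X Z : Scheme.{u}} {fst' : P ⟶ X'} {snd' : P ⟶ Z}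
    {f : X' ⟶ X} {p : Z ⟶ X} (h : IsPullback fst' snd' f p) (hp : IsOpenMap p)
    (hf : DenseRange f) : DenseRange snd' := by
  rw [DenseRange, dense_iff_inter_open]
  intro W hW hWne
  obtain ⟨x', w', hw'W, hw'⟩ := hf.exists_mem_open (hp W hW) (hWne.image _)
  obtain ⟨z, hz1, hz2⟩ := Scheme.Pullback.exists_preimage_pullback x' w' hw'.symm
  refine ⟨w', hw'W, h.isoPullback.inv z, ?_⟩
  rw [← Scheme.Hom.comp_apply, IsPullback.isoPullback_inv_snd, hz2]

/-- every scheme over a local artinian ring is universally open over it. -/
theorem universallyOpen_over_artinian (A : Type u) [CommRing A] [IsArtinianRing A] [IsLocalRing A]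
    {Y : Scheme.{u}} (h : Y ⟶ Spec (CommRingCat.of A)) : UniversallyOpen h := by
  let k := IsLocalRing.ResidueField A
  let r : Spec (CommRingCat.of k) ⟶ Spec (CommRingCat.of A) :=
    Spec.map (CommRingCat.ofHom (IsLocalRing.residue A))
  have hsub : Subsingleton (Spec (CommRingCat.of A)) := by
    refine ⟨fun p q => ?_⟩
    have hp : p.asIdeal = IsLocalRing.maximalIdeal A :=
      IsLocalRing.eq_maximalIdeal (IsArtinianRing.isMaximal_of_isPrime p.asIdeal)
    have hq : q.asIdeal = IsLocalRing.maximalIdeal A :=
      IsLocalRing.eq_maximalIdeal (IsArtinianRing.isMaximal_of_isPrime q.asIdeal)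
    exact PrimeSpectrum.ext (hp.trans hq.symm)
  have h2 : IsClosedImmersion r :=
    IsClosedImmersion.spec_of_surjective _ IsLocalRing.residue_surjective
  have h3 : Surjective r := ⟨fun x => ⟨IsLocalRing.closedPoint k, Subsingleton.elim _ _⟩⟩
  have h4 : UniversallyOpen r := S5345.universallyOpen_of_isClosedImmersion_of_surjective r
  have h5 : UniversallyOpen (pullback.fst h r ≫ h) := by
    rw [pullback.condition]
    infer_instance
  exact Groth.Agent.Lib.Helper82.UnivOpenDedekind.UniversallyOpen.of_comp_surjective
    (pullback.fst h r) h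

theorem main (A : Type u) [CommRing A] [IsArtinianRing A] [IsLocalRing A]
    (X X' Y Y' : Over (Spec (CommRingCat.of A)))
    (f : X' ⟶ X) (g : Y' ⟶ Y) [QuasiCompact f.left] [QuasiCompact g.left]
    (hf : DenseRange f.left.base) (hg : DenseRange g.left.base) :
    DenseRange (f ⊗ₘ g).left.base ∧ QuasiCompact (f ⊗ₘ g).left := by
  constructor
  · have hUOX : UniversallyOpen X.hom := universallyOpen_over_artinian A X.hom
    have hUOY' : UniversallyOpen Y'.hom := universallyOpen_over_artinian A Y'.hom
    -- step A
    have sqA : IsPullback (f ▷ Y').left (pullback.fst X'.hom Y'.hom) (pullback.fst X.hom Y'.hom)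
        f.left := by
      refine IsPullback.of_right (h₁₂ := pullback.snd X.hom Y'.hom) (v₁₃ := Y'.hom)
        (h₂₂ := X.hom) ?_ (Over.whiskerRight_left_fst f) (IsPullback.of_hasPullback X.hom Y'.hom).flip
      rw [Over.whiskerRight_left_snd, Over.w f]
      exact (IsPullback.of_hasPullback X'.hom Y'.hom).flip
    have hA : DenseRange (f ▷ Y').left :=
      denseRange_of_isPullback sqA.flip (pullback.fst X.hom Y'.hom).isOpenMap hf
    -- step B
    have sqB : IsPullback (X ◁ g).left (pullback.snd X.hom Y'.hom) (pullback.snd X.hom Y.hom)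
        g.left := by
      refine IsPullback.of_right (h₁₂ := pullback.fst X.hom Y.hom) (v₁₃ := X.hom)
        (h₂₂ := Y.hom) ?_ (Over.whiskerLeft_left_snd g) (IsPullback.of_hasPullback X.hom Y.hom)
      rw [Over.whiskerLeft_left_fst, Over.w g]
      exact IsPullback.of_hasPullback X.hom Y'.hom
    have hB : DenseRange (X ◁ g).left :=
      denseRange_of_isPullback sqB.flip (pullback.snd X.hom Y.hom).isOpenMap hg
    have heq : (f ⊗ₘ g).left = (f ▷ Y').left ≫ (X ◁ g).left := by
      rw [← Over.comp_left, ← MonoidalCategory.tensorHom_def]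
    rw [heq]
    exact hB.comp hA (X ◁ g).left.continuous
  · rw [Over.tensorHom_left]
    exact MorphismProperty.pullbackMap (P := @QuasiCompact) inferInstance inferInstance
      (Over.w f).symm (Over.w g).symm


/-- Let A be a local artinian ring and f : X' → X, g : Y' → Y two quasi-compact dominant morphisms of
schemes over A. Then the product morphism f ×_A g : X' ×_A Y' → X ×_A Y is dominant (and
quasi-compact). -/
theorem result (A : Type u) [CommRing A] [IsArtinianRing A] [IsLocalRing A] (X X' Y Y' : Over (Spec (CommRingCat.of A)))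
    (f : X' ⟶ X) (g : Y' ⟶ Y) [QuasiCompact f.left] [QuasiCompact g.left]
    (hf : DenseRange f.left.base) (hg : DenseRange g.left.base) :
    DenseRange (f ⊗ₘ g).left.base ∧ QuasiCompact (f ⊗ₘ g).left := by
  exact main A X X' Y Y' f g hf hg

end Groth.Agent.S5335
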