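import Groth.Statements.S3038
import Groth.Agent.Lib.Helper23.GrpOpenFlat
import Groth.Agent.Lib.Helper23.FibreHomFlat
import Groth.Agent.S5335

set_option autoImplicit false
universe u
open CategoryTheory MonoidalCategory CartesianMonoidalCategory MonObj GrpObj AlgebraicGeometry TensorProduct
open SGA3

namespace Groth.Agent.S3038

open Groth.Agent.Lib.Helper23.GrpOpenFlat in
/-- over a perfect field: a homomorphism with open image between group schemes locally of finite
type is universally open. -/
theorem aux (K : Type u) [Field K] [PerfectField K]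
    (G H : Over (Spec (CommRingCat.of K))) [GrpObj G] [GrpObj H]
    [LocallyOfFiniteType G.hom] [LocallyOfFiniteType H.hom]
    (u : G ⟶ H) [IsMonHom u] (hu : IsOpen (Set.range u.left.base)) : UniversallyOpen u.left := by
  obtain ⟨iG, hjG⟩ := exists_grpObj_red G
  obtain ⟨iH, hjH⟩ := exists_grpObj_red H
  let jG := redOverι G
  let jH := redOverι H
  haveI : IsClosedImmersion jH.left := inferInstanceAs (IsClosedImmersion (redι H.left))
  haveI : Surjective jH.left := inferInstanceAs (Surjective (redι H.left))
  haveI : IsClosedImmersion jG.left := inferInstanceAs (IsClosedImmersion (redι G.left))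
  haveI : Surjective jG.left := inferInstanceAs (Surjective (redι G.left))
  haveI : IsReduced (redOver G).left := inferInstanceAs (IsReduced (red G.left))
  haveI : IsReduced (redOver H).left := inferInstanceAs (IsReduced (red H.left))
  let φ : (redOver G).left ⟶ H.left := jG.left ≫ u.left
  haveI : Surjective (Limits.pullback.fst φ jH.left) := inferInstance
  haveI : IsIso (Limits.pullback.fst φ jH.left) :=
    isIso_of_isClosedImmersion_of_surjective (Limits.pullback.fst φ jH.left)
  let w₀ : (redOver G).left ⟶ (redOver H).left :=
    inv (Limits.pullback.fst φ jH.left) ≫ Limits.pullback.snd φ jH.left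
  have hw₀ : w₀ ≫ jH.left = φ := by
    simp only [w₀, Category.assoc, ← Limits.pullback.condition, IsIso.inv_hom_id_assoc]
  let w : redOver G ⟶ redOver H := Over.homMk w₀ (by
    show w₀ ≫ (jH.left ≫ H.hom) = jG.left ≫ G.hom
    rw [reassoc_of% hw₀]
    show (jG.left ≫ u.left) ≫ H.hom = jG.left ≫ G.hom
    rw [Category.assoc, Over.w u])
  have hwj : w ≫ jH = jG ≫ u := by
    ext
    exact hw₀
  haveI : Mono jH := Over.mono_of_mono_left _
  haveI : IsMonHom w := by
    constructor
    · rw [← cancel_mono jH, Category.assoc, hwj, ← Category.assoc, IsMonHom.one_hom,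
        IsMonHom.one_hom, IsMonHom.one_hom]
    · rw [← cancel_mono jH, Category.assoc, hwj, ← Category.assoc, IsMonHom.mul_hom,
        Category.assoc, IsMonHom.mul_hom, Category.assoc, IsMonHom.mul_hom,
        tensorHom_comp_tensorHom_assoc, tensorHom_comp_tensorHom_assoc, hwj]
  have hwo : IsOpen (Set.range w.left.base) := by
    have : Set.range w.left.base = jH.left.base ⁻¹' Set.range u.left.base := by
      ext x
      constructor
      · rintro ⟨g, rfl⟩
        refine ⟨jG.left.base g, ?_⟩
        have := congrArg (fun t => t.left.base g) hwj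
        exact this.symm
      · rintro ⟨g, hg⟩
        obtain ⟨g', rfl⟩ := jG.left.surjective g
        refine ⟨g', ?_⟩
        apply jH.left.isClosedEmbedding.injective
        have := congrArg (fun t => t.left.base g') hwj
        exact this.trans hg
    rw [this]
    exact hu.preimage jH.left.continuous
  have hflat : Flat w.left := flat_of_isOpen_range w hwo
  haveI : LocallyOfFiniteType (redOver G).hom :=
    (inferInstance : LocallyOfFiniteType (redι G.left ≫ G.hom))
  haveI : LocallyOfFiniteType (redOver H).hom :=
    (inferInstance : LocallyOfFiniteType (redι H.left ≫ H.hom))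
  haveI : LocallyOfFiniteType (w.left ≫ (redOver H).hom) := by
    rw [Over.w w]; infer_instance
  haveI : LocallyOfFiniteType w.left := locallyOfFiniteType_of_comp w.left (redOver H).hom
  haveI : IsLocallyNoetherian (redOver H).left :=
    LocallyOfFiniteType.isLocallyNoetherian (redOver H).hom
  haveI : LocallyOfFinitePresentation w.left := inferInstance
  haveI : UniversallyOpen w.left := inferInstance
  haveI : UniversallyOpen jH.left :=
    Groth.Agent.S5345.universallyOpen_of_isClosedImmersion_of_surjective jH.left
  haveI : UniversallyOpen (jG.left ≫ u.left) := by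
    have : jG.left ≫ u.left = w.left ≫ jH.left := (congrArg (fun t => t.left) hwj).symm
    rw [this]; infer_instance
  exact Groth.Agent.Lib.Helper82.UnivOpenDedekind.UniversallyOpen.of_comp_surjective jG.left u.left

/-- (ii) ⇒ (i): let A be a local artinian ring and u : G → H a homomorphism between group schemes
locally of finite type over A. If the underlying map of u is open, then u is universally open. -/
theorem result (A : Type u) [CommRing A] [IsArtinianRing A] [IsLocalRing A]
    (G H : Over (Spec (CommRingCat.of A))) [GrpObj G] [GrpObj H] [LocallyOfFiniteType G.hom] [LocallyOfFiniteType H.hom]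
    (u : G ⟶ H) [IsMonHom u] (hu : IsOpenMap u.left.base) : UniversallyOpen u.left := by
  let k := IsLocalRing.ResidueField A
  let K := AlgebraicClosure k
  let t : Spec (CommRingCat.of K) ⟶ Spec (CommRingCat.of A) :=
    Spec.map (CommRingCat.ofHom ((algebraMap k K).comp (IsLocalRing.residue A)))
  let G₁ : Over (Spec (CommRingCat.of K)) := Red.bc t G
  let H₁ : Over (Spec (CommRingCat.of K)) := Red.bc t H
  let u₁ : G₁ ⟶ H₁ := (Over.pullback t).map u
  haveI : IsMonHom u₁ := inferInstance
  have sq := Groth.Agent.Lib.Helper23.FibreHomFlat.isPullback_bc_map t u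
  haveI : LocallyOfFiniteType G₁.hom :=
    (inferInstance : LocallyOfFiniteType (Limits.pullback.snd G.hom t))
  haveI : LocallyOfFiniteType H₁.hom :=
    (inferInstance : LocallyOfFiniteType (Limits.pullback.snd H.hom t))
  have hrange : Set.range u₁.left.base =
      (Limits.pullback.fst H.hom t).base ⁻¹' Set.range u.left.base := by
    ext z
    constructor
    · rintro ⟨w, rfl⟩
      refine ⟨(Limits.pullback.fst G.hom t).base w, ?_⟩
      have := congrArg (fun f => f.base w) sq.w
      exact this
    · rintro ⟨g, hg⟩
      obtain ⟨w, hw1, hw2⟩ :=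
        Groth.Agent.Lib.Helper23.GrpDominant.exists_preimage_of_isPullback sq.flip z g hg.symm
      exact ⟨w, hw1⟩
  have hopen : IsOpen (Set.range u₁.left.base) := by
    rw [hrange]
    exact hu.isOpen_range.preimage (Limits.pullback.fst H.hom t).continuous
  have h1 : UniversallyOpen u₁.left := aux K G₁ H₁ u₁ hopen
  haveI : UniversallyOpen t := Groth.Agent.S5335.universallyOpen_over_artinian A t
  have hsub : Subsingleton (Spec (CommRingCat.of A)) := by
    refine ⟨fun (p q : PrimeSpectrum A) => ?_⟩
    haveI := p.isPrime
    haveI := q.isPrime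
    have hp : p.asIdeal = IsLocalRing.maximalIdeal A :=
      IsLocalRing.eq_maximalIdeal (IsArtinianRing.isMaximal_of_isPrime p.asIdeal)
    have hq : q.asIdeal = IsLocalRing.maximalIdeal A :=
      IsLocalRing.eq_maximalIdeal (IsArtinianRing.isMaximal_of_isPrime q.asIdeal)
    exact PrimeSpectrum.ext (hp.trans hq.symm)
  haveI : Surjective t := ⟨fun x => ⟨IsLocalRing.closedPoint K, Subsingleton.elim _ _⟩⟩
  haveI : Surjective (Limits.pullback.fst G.hom t) := inferInstance
  haveI : UniversallyOpen (Limits.pullback.fst H.hom t) := inferInstance
  haveI : UniversallyOpen (Limits.pullback.fst G.hom t ≫ u.left) := by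
    rw [sq.w]; infer_instance
  exact Groth.Agent.Lib.Helper82.UnivOpenDedekind.UniversallyOpen.of_comp_surjective
    (Limits.pullback.fst G.hom t) u.left

end Groth.Agent.S3038
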