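import Groth.Statements.S3039
import Mathlib
import Groth.Agent.Lib.Helper62.HomogComp

set_option autoImplicit false
set_option linter.style.haveILetI false
universe u
open CategoryTheory MonoidalCategory CartesianMonoidalCategory MonObj GrpObj AlgebraicGeometry TensorProduct
open SGA3

namespace Groth.Agent.S3039
open TopologicalSpace
open Groth.Agent.S0350 Groth.Agent.S5348 Groth.Agent.Lib.Helper62.HomogComp

theorem connectedComponent_eq (k : Type u) [Field k] (G X : Over (Spec (CommRingCat.of k))) [GrpObj G]
    [QuasiSeparatedSpace X.left] (a : AlgGrp.Action G X) (hΦ : Surjective (lift a.act (snd G X)).left) (x : X.left) :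
    connectedComponent x = irreducibleComponent x := by
  obtain ⟨C0, hC0def⟩ : ∃ C0, C0 = irreducibleComponent (η[G].left (IsLocalRing.closedPoint k)) :=
    ⟨_, rfl⟩
  have hC0 : C0 ∈ irreducibleComponents G.left :=
    hC0def ▸ irreducibleComponent_mem_irreducibleComponents _
  have he : ∀ s, η[G].left s ∈ C0 := fun s => by
    have : s = IsLocalRing.closedPoint k := Subsingleton.elim (α := ↥(Spec (CommRingCat.of k))) _ _
    rw [this, hC0def]; exact mem_irreducibleComponent
  apply Set.Subset.antisymm
  · intro y hy
    by_contra hyZ
    have hirr := isIrreducible_irreducibleComponent (x := x)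
    have hgen : IsGenericPoint hirr.genericPoint (irreducibleComponent x) :=
      hirr.isGenericPoint_genericPoint isClosed_irreducibleComponent
    obtain ⟨ξ, hξdef⟩ : ∃ ξ, ξ = hirr.genericPoint := ⟨_, rfl⟩
    rw [← hξdef] at hgen
    have hξZ' : ξ ∉ irreducibleComponent y := by
      intro h
      have hx' : x ∈ irreducibleComponent y :=
        (hgen.specializes mem_irreducibleComponent).mem_closed isClosed_irreducibleComponent h
      have := uniqueComp_X a hΦ x _ (irreducibleComponent_mem_irreducibleComponents x) _
        (irreducibleComponent_mem_irreducibleComponents y) mem_irreducibleComponent hx'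
      exact hyZ (this ▸ mem_irreducibleComponent)
    obtain ⟨U, hU, hξU, hUsub⟩ := Opens.isBasis_iff_nbhd.mp X.left.isBasis_affineOpens
      (U := ⟨(irreducibleComponent y)ᶜ, isClosed_irreducibleComponent.isOpen_compl⟩) hξZ'
    have hretro : IsRetrocompact (U : Set X.left) := fun V hV hVo =>
      QuasiSeparatedSpace.inter_isCompact _ _ U.isOpen hU.isCompact hVo hV
    have hclosed : IsClosed (sat (U : Set X.left)) := by
      have := Set.Subset.antisymm (sat_subset_closure U.isOpen)
        (closure_subset_sat a hΦ C0 hC0 he U hretro)
      rw [this]; exact isClosed_closure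
    have hclopen : IsClopen (sat (U : Set X.left)) := ⟨hclosed, isOpen_sat a hΦ C0 hC0 he U⟩
    have hxsat : x ∈ sat (U : Set X.left) := ⟨ξ, hgen.mem, hξU⟩
    obtain ⟨s, hs, hsU⟩ := hclopen.connectedComponent_subset hxsat hy
    exact hUsub hsU hs
  · exact isIrreducible_irreducibleComponent.isConnected.isPreconnected.subset_connectedComponent
      mem_irreducibleComponent

theorem main (k : Type u) [Field k] (G X : Over (Spec (CommRingCat.of k))) [GrpObj G]
    [QuasiSeparatedSpace X.left] (a : AlgGrp.Action G X) (hΦ : Surjective (lift a.act (snd G X)).left) (x : X.left) :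
    IsPreirreducible (connectedComponent x) := by
  rw [connectedComponent_eq k G X a hΦ x]
  exact isIrreducible_irreducibleComponent.isPreirreducible


/-- Let G be a group scheme over a field k acting on a quasi-separated k-scheme X in such a way that the
morphism G ×_k X → X ×_k X, (g, x) ↦ (g·x, x) is surjective. Then every connected component of X is
irreducible. -/
theorem result (k : Type u) [Field k] (G X : Over (Spec (CommRingCat.of k))) [GrpObj G]
    [QuasiSeparatedSpace X.left] (a : AlgGrp.Action G X) (hΦ : Surjective (lift a.act (snd G X)).left) (x : X.left) :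
    IsPreirreducible (connectedComponent x) := by
  exact main k G X a hΦ x

end Groth.Agent.S3039
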