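import Groth.Statements.S3042
import Mathlib
-- import your own Groth.Agent.* helpers here

set_option autoImplicit false
universe u
open CategoryTheory MonoidalCategory CartesianMonoidalCategory MonObj GrpObj AlgebraicGeometry TensorProduct
open SGA3

namespace Groth.Agent.S3042
open CategoryTheory.Limits


attribute [local instance] Algebra.TensorProduct.rightAlgebra in
open TensorProduct in
lemma formallyUnramified_of_fibers (A B : Type u) [CommRing A] [CommRing B] [Algebra A B]
    [Algebra.FiniteType A B]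
    (h : ∀ (q : Ideal A) [q.IsPrime],
      Algebra.FormallyUnramified q.ResidueField (q.ResidueField ⊗[A] B)) :
    Algebra.FormallyUnramified A B := by
  constructor
  have hfin : Module.Finite B Ω[B⁄A] := inferInstance
  rw [← Module.support_eq_empty_iff (R := B)]
  ext P
  simp only [Set.mem_empty_iff_false, iff_false]
  rw [Module.mem_support_iff_nontrivial_residueField_tensorProduct, not_nontrivial_iff_subsingleton]
  let q : Ideal A := P.asIdeal.comap (algebraMap A B)
  have := h q
  have e := KaehlerDifferential.tensorKaehlerEquivBase A q.ResidueField B (q.ResidueField ⊗[A] B)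
  have hsub : Subsingleton (q.ResidueField ⊗[A] Ω[B⁄A]) := e.toEquiv.subsingleton
  let j0 : q.ResidueField →ₐ[A] P.asIdeal.ResidueField :=
    Ideal.ResidueField.mapₐ q P.asIdeal (Algebra.ofId A B) rfl
  let Ψ : q.ResidueField ⊗[A] Ω[B⁄A] →ₗ[A] P.asIdeal.ResidueField ⊗[B] Ω[B⁄A] :=
    TensorProduct.lift (LinearMap.mk₂ A (fun c ω => j0 c ⊗ₜ[B] ω)
      (fun c c' ω => by rw [map_add, TensorProduct.add_tmul])
      (fun a c ω => by rw [map_smul, TensorProduct.smul_tmul'])
      (fun c ω ω' => by rw [TensorProduct.tmul_add])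
      (fun a c ω => by rw [TensorProduct.tmul_smul]))
  have h1 : ∀ ω : Ω[B⁄A], (1 : P.asIdeal.ResidueField) ⊗ₜ[B] ω = 0 := by
    intro ω
    have : Ψ ((1 : q.ResidueField) ⊗ₜ[A] ω) = 1 ⊗ₜ[B] ω := by
      simp only [Ψ, TensorProduct.lift.tmul, LinearMap.mk₂_apply, map_one]
    rw [← this, Subsingleton.elim ((1 : q.ResidueField) ⊗ₜ[A] ω) 0, map_zero]
  refine ⟨fun x y => ?_⟩
  have hz : ∀ z : P.asIdeal.ResidueField ⊗[B] Ω[B⁄A], z = 0 := by
    intro z
    induction z using TensorProduct.induction_on with
    | zero => rfl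
    | tmul x ω =>
      have : x ⊗ₜ[B] ω = x • ((1 : P.asIdeal.ResidueField) ⊗ₜ[B] ω) := by
        rw [TensorProduct.smul_tmul', smul_eq_mul, _root_.mul_one]
      rw [this, h1, smul_zero]
    | add a b ha hb => rw [ha, hb, add_zero]
  rw [hz x, hz y]


lemma eq_of_fiber_mono {X Y : Scheme.{u}} (f : X ⟶ Y) (y : Y)
    [Mono (f.fiberToSpecResidueField y)]
    {T : Scheme.{u}} (a b : T ⟶ X) (t : T ⟶ Spec (Y.residueField y))
    (ha : a ≫ f = t ≫ Y.fromSpecResidueField y) (hb : b ≫ f = t ≫ Y.fromSpecResidueField y) :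
    a = b := by
  have e1 : pullback.lift a t ha ≫ f.fiberToSpecResidueField y = t := by
    unfold Scheme.Hom.fiberToSpecResidueField
    exact pullback.lift_snd _ _ _
  have e2 : pullback.lift b t hb ≫ f.fiberToSpecResidueField y = t := by
    unfold Scheme.Hom.fiberToSpecResidueField
    exact pullback.lift_snd _ _ _
  have h2 : pullback.lift a t ha = pullback.lift b t hb :=
    (cancel_mono (f.fiberToSpecResidueField y)).mp (e1.trans e2.symm)
  have h3 := congr($h2 ≫ pullback.fst _ _)
  rwa [pullback.lift_fst, pullback.lift_fst] at h3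

lemma eq_of_fiber_mono' {X Y : Scheme.{u}} (f : X ⟶ Y)
    (hf : ∀ y : Y, Mono (f.fiberToSpecResidueField y))
    {K : Type u} [Field K] {T : Scheme.{u}} (a b : T ⟶ X) (s : T ⟶ Spec (.of K))
    (g : Spec (.of K) ⟶ Y) (ha : a ≫ f = s ≫ g) (hb : b ≫ f = s ≫ g) : a = b := by
  have hg : Spec.map (Y.descResidueField (Scheme.stalkClosedPointTo g)) ≫
      Y.fromSpecResidueField (g (IsLocalRing.closedPoint K)) = g :=
    Scheme.descResidueField_stalkClosedPointTo_fromSpecResidueField K Y g
  have := hf (g (IsLocalRing.closedPoint K))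
  exact eq_of_fiber_mono f _ a b
    (s ≫ Spec.map (Y.descResidueField (Scheme.stalkClosedPointTo g)))
    (by rw [Category.assoc, hg, ha]) (by rw [Category.assoc, hg, hb])

lemma univInj_of_fiber_mono {X Y : Scheme.{u}} (f : X ⟶ Y)
    (hf : ∀ y : Y, Mono (f.fiberToSpecResidueField y)) : UniversallyInjective f := by
  have := (tfae_universallyInjective (f := f)).out 0 1
  rw [this]
  intro K _ g₁ g₂ hg
  exact eq_of_fiber_mono' f hf g₁ g₂ (𝟙 _) (g₁ ≫ f) (by simp) (by simpa using hg.symm)

lemma formallyUnramified_of_fiber_mono {X Y : Scheme.{u}} (f : X ⟶ Y) [LocallyOfFiniteType f]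
    (hf : ∀ y : Y, Mono (f.fiberToSpecResidueField y)) : FormallyUnramified f := by
  refine ⟨fun {U} hU {V} hV hVU => ?_⟩
  have hft : (f.appLE U V hVU).hom.FiniteType := f.finiteType_appLE hU hV hVU
  algebraize [(f.appLE U V hVU).hom]
  rw [← RingHom.algebraMap_toAlgebra (f.appLE U V hVU).hom, RingHom.formallyUnramified_algebraMap]
  apply formallyUnramified_of_fibers
  intro q _
  have hmono : Mono (Spec.map (CommRingCat.ofHom
      (algebraMap q.ResidueField (q.ResidueField ⊗[Γ(Y, U)] Γ(X, V))))) := by
    constructor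
    intro T a b hab
    have hpb := isPullback_SpecMap_of_isPushout _ _ _ _
      (CommRingCat.isPushout_tensorProduct Γ(Y, U) q.ResidueField Γ(X, V))
    refine hpb.hom_ext hab ?_
    rw [← cancel_mono hV.fromSpec]
    simp only [Category.assoc]
    refine eq_of_fiber_mono' f hf _ _
      (a ≫ Spec.map (CommRingCat.ofHom
        (algebraMap q.ResidueField (q.ResidueField ⊗[Γ(Y, U)] Γ(X, V)))))
      (Spec.map (CommRingCat.ofHom (algebraMap Γ(Y, U) q.ResidueField)) ≫ hU.fromSpec) ?_ ?_
    · have hw := hpb.w
      have e1 : hV.fromSpec ≫ f = Spec.map (f.appLE U V hVU) ≫ hU.fromSpec :=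
        (hU.SpecMap_appLE_fromSpec f hV hVU).symm
      have e2 : CommRingCat.ofHom (algebraMap Γ(Y, U) Γ(X, V)) = f.appLE U V hVU := rfl
      rw [e2] at hw
      simp only [Category.assoc]
      rw [e1, reassoc_of% hw]
    · have hw := hpb.w
      have e1 : hV.fromSpec ≫ f = Spec.map (f.appLE U V hVU) ≫ hU.fromSpec :=
        (hU.SpecMap_appLE_fromSpec f hV hVU).symm
      have e2 : CommRingCat.ofHom (algebraMap Γ(Y, U) Γ(X, V)) = f.appLE U V hVU := rfl
      rw [e2] at hw
      simp only [Category.assoc]
      rw [e1, ← reassoc_of% hw, reassoc_of% hab]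
  have h2 : FormallyUnramified (Spec.map (CommRingCat.ofHom
      (algebraMap q.ResidueField (q.ResidueField ⊗[Γ(Y, U)] Γ(X, V))))) := inferInstance
  rw [HasRingHomProperty.Spec_iff (P := @FormallyUnramified)] at h2
  exact (RingHom.formallyUnramified_algebraMap).mp h2


/-- Let f : X → Y be a morphism of schemes locally of finite type. Then f is a monomorphism if and only
if, for every point y of Y, the fibre X_y → Spec κ(y) is a monomorphism. -/
theorem result (X Y : Scheme.{u}) (f : X ⟶ Y) [LocallyOfFiniteType f] :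
    Mono f ↔ ∀ y : Y, Mono (f.fiberToSpecResidueField y) := by
  constructor
  · intro h y
    unfold Scheme.Hom.fiberToSpecResidueField
    exact pullback.snd_of_mono
  · intro hf
    have h1 := univInj_of_fiber_mono f hf
    have h2 := formallyUnramified_of_fiber_mono f hf
    have h3 : Surjective (pullback.diagonal f) := (UniversallyInjective.iff_diagonal f).mp h1
    have h4 : IsOpenImmersion (pullback.diagonal f) := inferInstance
    have h5 : IsIso (pullback.diagonal f) :=
      (isIso_iff_isOpenImmersion_and_surjective _).mpr ⟨h4, h3⟩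
    exact (pullback.isIso_diagonal_iff f).mp h5

end Groth.Agent.S3042
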