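import Groth.Statements.S3043
-- import your own Groth.Agent.* helpers here

set_option autoImplicit false
universe u
open CategoryTheory MonoidalCategory CartesianMonoidalCategory MonObj GrpObj AlgebraicGeometry TensorProduct
open SGA3

namespace Groth.Agent.S3043

/-- Let π : X → S be a morphism of schemes admitting a section ε (ε followed by π is the identity). If π
is injective on underlying points, then π is an integral morphism. -/
theorem result (X S : Scheme.{u}) (π : X ⟶ S) (ε : S ⟶ X) (hε : ε ≫ π = 𝟙 S)
    (hinj : Function.Injective π.base) : IsIntegralHom π := by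
  have h1 : ∀ s : S, π.base (ε.base s) = s := fun s => by
    have := congrArg (fun f : S ⟶ S => f.base s) hε
    simpa using this
  have h2 : ∀ x : X, ε.base (π.base x) = x := fun x => hinj (h1 _)
  have hsurj : Function.Surjective π.base := fun s => ⟨ε.base s, h1 s⟩
  have hind : Topology.IsInducing π.base := by
    refine Topology.IsInducing.of_comp π.base.hom.continuous ε.base.hom.continuous ?_
    have : (ε.base ∘ π.base : X → X) = id := funext h2
    rw [this]
    exact Topology.IsInducing.id
  have haff : IsAffineHom π :=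
    isAffineHom_of_isInducing π hind (by rw [hsurj.range_eq]; exact isClosed_univ)
  refine ⟨fun U hU => ?_⟩
  set V : X.Opens := π ⁻¹ᵁ U with hV
  intro b
  have e : U ≤ ε ⁻¹ᵁ V := by
    intro s hs
    change π.base (ε.base s) ∈ U
    rw [h1]; exact hs
  -- the retraction on sections
  let ρ : Γ(X, V) ⟶ Γ(S, U) := ε.appLE V U e
  have hρ : π.app U ≫ ρ = 𝟙 _ := by
    have : π.app U = π.appLE U V le_rfl := Scheme.Hom.app_eq_appLE π
    rw [this, Scheme.Hom.appLE_comp_appLE]
    have key : ∀ (g : S ⟶ S) (hg : g = 𝟙 S) (h : U ≤ g ⁻¹ᵁ U), g.appLE U U h = 𝟙 _ := by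
      intro g hg h
      subst hg
      simp only [Scheme.Hom.appLE, Scheme.Hom.id_app]
      exact S.presheaf.map_id _
    exact key _ hε _
  -- decompose b
  set n : Γ(X, V) := b - π.app U (ρ b) with hn
  have hρn : ρ n = 0 := by
    have := congrArg (fun f => f (ρ b)) hρ
    simp only [CommRingCat.comp_apply, CommRingCat.id_apply] at this
    rw [hn, map_sub, this, sub_self]
  have hnil : IsNilpotent n := by
    rw [Scheme.isNilpotent_iff_basicOpen_eq_bot_of_isCompact (hU.preimage π).isCompact]
    have hb : ε ⁻¹ᵁ (X.basicOpen n) = ⊥ := by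
      have h3 := Scheme.basicOpen_appLE ε U V e n
      rw [show ε.appLE V U e n = 0 from hρn, Scheme.basicOpen_zero] at h3
      -- ε ⁻¹ᵁ X.basicOpen n ≤ ε ⁻¹ᵁ V = U
      apply le_antisymm _ bot_le
      intro s hs
      have hsU : s ∈ U := by
        have : ε.base s ∈ V := (X.basicOpen_le n) hs
        change π.base (ε.base s) ∈ U at this
        rwa [h1] at this
      have : s ∈ U ⊓ ε ⁻¹ᵁ X.basicOpen n := ⟨hsU, hs⟩
      rw [← h3] at this
      exact this
    apply le_antisymm _ bot_le
    intro x hx
    have : π.base x ∈ ε ⁻¹ᵁ (X.basicOpen n) := by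
      change ε.base (π.base x) ∈ X.basicOpen n
      rw [h2]; exact hx
    rw [hb] at this
    exact this
  have hb : b = π.app U (ρ b) + n := by rw [hn]; ring
  rw [hb]
  refine RingHom.IsIntegralElem.add _ (RingHom.isIntegralElem_map _) ?_
  obtain ⟨m, hm⟩ := hnil
  refine ⟨Polynomial.X ^ m, Polynomial.monic_X_pow m, ?_⟩
  simp [Polynomial.eval₂_pow, hm]

end Groth.Agent.S3043
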