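import Groth.Statements.S3044
import Groth.Agent.Lib.Helper16.FinHopfAlgClosed
import Groth.Agent.Lib.Helper16.FinHopfBaseChange
import Mathlib.FieldTheory.IsAlgClosed.AlgebraicClosure

set_option autoImplicit false
universe u
open CategoryTheory MonoidalCategory CartesianMonoidalCategory MonObj GrpObj AlgebraicGeometry TensorProduct
open SGA3

namespace Groth.Agent.S3044

/-- Let A be a commutative Hopf algebra over a field k which is finite-dimensional, of dimension n (a
finite algebraic k-group G of rank n, not assumed commutative). Then the morphism g ↦ gⁿ of G is the
trivial morphism: in the convolution group of algebra endomorphisms of A, the n-th power of the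
identity is the neutral element (the counit followed by the unit). -/
theorem result (k : Type u) [Field k] (A : Type u) [CommRing A] [HopfAlgebra k A]
    [Module.Finite k A] :
    (WithConv.toConv (AlgHom.id k A)) ^ (Module.finrank k A) = 1 := by
  open Groth.Agent.Lib.Helper16.FinHopf in
  have hinj : Function.Injective
      (incR (k := k) (K := AlgebraicClosure k) (A := A)) :=
    Algebra.TensorProduct.includeRight_injective (algebraMap k (AlgebraicClosure k)).injective
  refine Groth.Agent.Lib.Helper16.FinHopf.convPow_id_eq_one_of_baseChange
    (K := AlgebraicClosure k) _ hinj ?_
  have h := Groth.Agent.Lib.Helper16.FinHopf.convPow_id_finrank_eq_one_of_isAlgClosed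
    (k := AlgebraicClosure k) (A := AlgebraicClosure k ⊗[k] A)
  rwa [Module.finrank_baseChange] at h

end Groth.Agent.S3044
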