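import Groth.Statements.S3045
-- import your own Groth.Agent.* helpers here

set_option autoImplicit false
universe u
open TensorProduct
open SGA3

namespace Groth.Agent.S3045

/-- Let A be a commutative Hopf algebra over a commutative ring k (the coordinate ring of an affine
group G = Spec A) and φ, ψ two k[ε]-valued points of G reducing to the unit point modulo ε (tangent
vectors at the identity). Then for every a ∈ A the ε-component of the product point φ · ψ at a — the
product of points being convolution, formed here as the triple convolution of φ, ψ and the unit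
point — is the sum of the ε-components of φ(a) and ψ(a): on tangent vectors at the identity the
group law of G induces addition. -/
theorem result (k : Type u) [CommRing k] (A : Type u) [CommRing A] [HopfAlgebra k A]
    (φ ψ : LieHopf.LiePts k A) (a : A) :
    TrivSqZeroExt.snd (Dyn.conv3 k A φ.1 ψ.1 ((Algebra.ofId k (DualNumber k)).comp (Bialgebra.counitAlgHom k A)) a) =
      LieHopf.LiePts.tangent k A φ a + LieHopf.LiePts.tangent k A ψ a := by
  classical
  set ε' : A →ₐ[k] DualNumber k :=
    (Algebra.ofId k (DualNumber k)).comp (Bialgebra.counitAlgHom k A) with hε'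
  obtain ⟨φ, hφ⟩ := φ
  obtain ⟨ψ, hψ⟩ := ψ
  simp only [LieHopf.LiePts.tangent]
  let ℛ := Coalgebra.Repr.arbitrary k a
  have hΔ : CoalgebraStruct.comul (R := k) a = ∑ i ∈ ℛ.index, ℛ.left i ⊗ₜ[k] ℛ.right i := ℛ.eq.symm
  -- the convolution of φ and ψ as a linear map
  let convL : A →ₗ[k] DualNumber k :=
    (Algebra.TensorProduct.lmul' (S := DualNumber k) k).toLinearMap ∘ₗ
      (Algebra.TensorProduct.map φ ψ).toLinearMap ∘ₗ CoalgebraStruct.comul
  have hright : ∑ i ∈ ℛ.index, (CoalgebraStruct.counit (R := k) (ℛ.right i)) • ℛ.left i = a := by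
    have := congrArg (TensorProduct.rid k A) (Coalgebra.sum_tmul_counit_eq ℛ)
    simpa only [map_sum, TensorProduct.rid_tmul, one_smul] using this
  have hleft : ∑ i ∈ ℛ.index, (CoalgebraStruct.counit (R := k) (ℛ.left i)) • ℛ.right i = a :=
    Coalgebra.sum_counit_smul ℛ
  -- step 1: compute conv3
  have h1 : Dyn.conv3 k A φ ψ ε' a = convL a := by
    have : Dyn.conv3 k A φ ψ ε' a =
        ∑ i ∈ ℛ.index, convL (ℛ.left i) * ε' (ℛ.right i) := by
      simp only [Dyn.conv3, AlgHom.comp_apply, Bialgebra.comulAlgHom_apply, hΔ, map_sum,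
        Algebra.TensorProduct.map_tmul, Algebra.TensorProduct.lmul'_apply_tmul, AlgHom.id_apply]
      rfl
    rw [this]
    conv_rhs => rw [← hright]
    rw [map_sum]
    refine Finset.sum_congr rfl fun i _ => ?_
    rw [map_smul, hε']
    simp [Algebra.ofId_apply, Algebra.smul_def, mul_comm]
  have h2 : convL a = ∑ i ∈ ℛ.index, φ (ℛ.left i) * ψ (ℛ.right i) := by
    simp [convL, hΔ, map_sum]
  rw [h1, h2]
  let sφ : A →ₗ[k] k := (TrivSqZeroExt.sndHom k k) ∘ₗ φ.toLinearMap
  let sψ : A →ₗ[k] k := (TrivSqZeroExt.sndHom k k) ∘ₗ ψ.toLinearMap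
  have e1 : TrivSqZeroExt.snd (φ a) =
      ∑ i ∈ ℛ.index, CoalgebraStruct.counit (R := k) (ℛ.right i) • sφ (ℛ.left i) := by
    have := congrArg sφ hright
    rw [map_sum] at this
    simp only [map_smul] at this
    exact this.symm
  have e2 : TrivSqZeroExt.snd (ψ a) =
      ∑ i ∈ ℛ.index, CoalgebraStruct.counit (R := k) (ℛ.left i) • sψ (ℛ.right i) := by
    have := congrArg sψ hleft
    rw [map_sum] at this
    simp only [map_smul] at this
    exact this.symm
  rw [e1, e2, ← Finset.sum_add_distrib]
  have : TrivSqZeroExt.snd (∑ i ∈ ℛ.index, φ (ℛ.left i) * ψ (ℛ.right i)) =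
      ∑ i ∈ ℛ.index, TrivSqZeroExt.snd (φ (ℛ.left i) * ψ (ℛ.right i)) :=
    map_sum (TrivSqZeroExt.sndHom k k) _ _
  rw [this]
  refine Finset.sum_congr rfl fun i _ => ?_
  rw [TrivSqZeroExt.snd_mul, hφ, hψ]
  simp [sφ, sψ, add_comm, mul_comm]

end Groth.Agent.S3045
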