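import Groth.Statements.S3046
import Mathlib

set_option autoImplicit false
universe u
open TensorProduct
open SGA3

namespace Groth.Agent.S3046


section aux

open WithConv

variable {k : Type u} [CommRing k] {A : Type u} [CommRing A] [HopfAlgebra k A]
  {R : Type u} [CommRing R] [Algebra k R]

theorem conv3_eq (f g h : A →ₐ[k] R) :
    (Dyn.conv3 k A f g h).toLinearMap =
      (toConv f.toLinearMap * toConv g.toLinearMap * toConv h.toLinearMap).ofConv := by
  ext a
  simp only [Dyn.conv3, AlgHom.toLinearMap_apply, AlgHom.comp_apply, Bialgebra.comulAlgHom_apply,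
    LinearMap.convMul_def, WithConv.ofConv_toConv, LinearMap.comp_apply]
  induction (Coalgebra.comul (R := k) a) using TensorProduct.induction_on with
  | zero => simp
  | tmul u v =>
    simp only [Algebra.TensorProduct.map_tmul, Bialgebra.comulAlgHom_apply, AlgHom.id_apply,
      AlgHom.comp_apply, Algebra.TensorProduct.lmul'_apply_tmul, TensorProduct.map_tmul,
      LinearMap.comp_apply, LinearMap.mul'_apply, AlgHom.toLinearMap_apply]
    congr 1
  | add p q hp hq => simp only [map_add, hp, hq]

theorem conv_antipode (f : A →ₐ[k] R) :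
    toConv f.toLinearMap * toConv (f.comp (HopfAlgebra.antipodeAlgHom k A)).toLinearMap =
      (1 : WithConv (A →ₗ[k] R)) := by
  have h := LinearMap.algHom_comp_convMul_distrib (R := k) f
    (toConv (LinearMap.id : A →ₗ[k] A)) (toConv (HopfAlgebra.antipode k (A := A)))
  rw [LinearMap.id_mul_antipode] at h
  have e1 : f.toLinearMap ∘ₗ (toConv (LinearMap.id : A →ₗ[k] A)).ofConv = f.toLinearMap := rfl
  have e2 : f.toLinearMap ∘ₗ (toConv (HopfAlgebra.antipode k (A := A))).ofConv =
      (f.comp (HopfAlgebra.antipodeAlgHom k A)).toLinearMap := rfl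
  rw [e1, e2] at h
  apply WithConv.ofConv_injective
  rw [← h]
  ext a
  simp [LinearMap.convOne_def]

end aux

/-- Let A be a commutative Hopf algebra over a commutative ring k, D and E two ε-derivations A → k
(tangent vectors at the identity of G = Spec A), R a commutative k-algebra and t, t' ∈ R with t² = 0
= t'². Let x = e + tD and y = e + t'E be the corresponding R-points of G. Then the commutator x y
x⁻¹ y⁻¹ (product of points; the inverse of a point is its composite with the antipode) is the point
a ↦ ε(a) + [D, E](a) · t t', where [D, E] = D ⋆ E − E ⋆ D is the convolution commutator. -/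
theorem result (k : Type u) [CommRing k] (A : Type u) [CommRing A] [HopfAlgebra k A]
    (D E : LieHopf.Lie k A) (R : Type u) [CommRing R] [Algebra k R] (t t' : R) (ht : t * t = 0) (ht' : t' * t' = 0)
    (a : A) :
    Dyn.conv3 k A
        (Dyn.conv3 k A (LieHopf.ptOfLie D R t ht) (LieHopf.ptOfLie E R t' ht')
          ((LieHopf.ptOfLie D R t ht).comp (HopfAlgebra.antipodeAlgHom k A)))
        ((LieHopf.ptOfLie E R t' ht').comp (HopfAlgebra.antipodeAlgHom k A))
        ((Algebra.ofId k R).comp (Bialgebra.counitAlgHom k A)) a =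
      algebraMap k R (Bialgebra.counitAlgHom k A a) + algebraMap k R (LieHopf.bracketLin D E a) * (t * t') := by
  classical
  -- the convolution algebra
  set d : WithConv (A →ₗ[k] R) := WithConv.toConv ((Algebra.linearMap k R) ∘ₗ LieHopf.dlin D) with hd
  set e : WithConv (A →ₗ[k] R) := WithConv.toConv ((Algebra.linearMap k R) ∘ₗ LieHopf.dlin E) with he
  have hx : ∀ (F : LieHopf.Lie k A) (s : R) (hs : s * s = 0),
      WithConv.toConv (LieHopf.ptOfLie F R s hs).toLinearMap =
        1 + s • WithConv.toConv ((Algebra.linearMap k R) ∘ₗ LieHopf.dlin F) := by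
    intro F s hs
    apply WithConv.ofConv_injective
    ext a
    simp only [WithConv.ofConv_toConv, AlgHom.toLinearMap_apply, LieHopf.ptOfLie, AlgHom.coe_mk,
      RingHom.coe_mk, MonoidHom.coe_mk, OneHom.coe_mk, WithConv.ofConv_add, LinearMap.add_apply,
      WithConv.ofConv_smul, LinearMap.smul_apply, LinearMap.comp_apply, Algebra.linearMap_apply,
      smul_eq_mul]
    rw [mul_comm]
    rfl
  have hsq : ∀ (s : R) (hs : s * s = 0) (c : WithConv (A →ₗ[k] R)),
      (1 - s • c) * (1 + s • c) = 1 := by
    intro s hs c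
    rw [sub_mul, one_mul, mul_add, mul_one, smul_mul_smul_comm, hs, zero_smul]
    abel
  have hx' : ∀ (F : LieHopf.Lie k A) (s : R) (hs : s * s = 0),
      WithConv.toConv ((LieHopf.ptOfLie F R s hs).comp
        (HopfAlgebra.antipodeAlgHom k A)).toLinearMap =
        1 - s • WithConv.toConv ((Algebra.linearMap k R) ∘ₗ LieHopf.dlin F) := by
    intro F s hs
    have h1 := conv_antipode (LieHopf.ptOfLie F R s hs)
    rw [hx F s hs] at h1
    have h2 := hsq s hs (WithConv.toConv ((Algebra.linearMap k R) ∘ₗ LieHopf.dlin F))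
    set c := WithConv.toConv ((Algebra.linearMap k R) ∘ₗ LieHopf.dlin F) with hc
    set x' := WithConv.toConv ((LieHopf.ptOfLie F R s hs).comp
            (HopfAlgebra.antipodeAlgHom k A)).toLinearMap with hx'def
    calc x' = 1 * x' := (one_mul _).symm
      _ = ((1 - s • c) * (1 + s • c)) * x' := by rw [h2]
      _ = (1 - s • c) * ((1 + s • c) * x') := mul_assoc _ _ _
      _ = 1 - s • c := by rw [h1, mul_one]
  have hone : WithConv.toConv ((Algebra.ofId k R).comp (Bialgebra.counitAlgHom k A)).toLinearMap =
      (1 : WithConv (A →ₗ[k] R)) := by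
    apply WithConv.ofConv_injective
    ext a
    simp [LinearMap.convOne_def]
  -- the value as a convolution product
  have hmain : (Dyn.conv3 k A
        (Dyn.conv3 k A (LieHopf.ptOfLie D R t ht) (LieHopf.ptOfLie E R t' ht')
          ((LieHopf.ptOfLie D R t ht).comp (HopfAlgebra.antipodeAlgHom k A)))
        ((LieHopf.ptOfLie E R t' ht').comp (HopfAlgebra.antipodeAlgHom k A))
        ((Algebra.ofId k R).comp (Bialgebra.counitAlgHom k A))).toLinearMap =
      ((1 + t • d) * (1 + t' • e) * (1 - t • d) * (1 - t' • e) * 1).ofConv := by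
    rw [conv3_eq, conv3_eq, WithConv.toConv_ofConv, hx D t ht, hx E t' ht', hx' D t ht,
      hx' E t' ht', hone]
  have hX2 : (t • d) * (t • d) = 0 := by rw [smul_mul_smul_comm, ht, zero_smul]
  have hY2 : (t' • e) * (t' • e) = 0 := by rw [smul_mul_smul_comm, ht', zero_smul]
  have hXYX : (t • d) * (t' • e) * (t • d) = 0 := by
    rw [smul_mul_smul_comm, smul_mul_smul_comm]
    have : t * t' * t = 0 := by rw [mul_comm t t', mul_assoc, ht, mul_zero]
    rw [this, zero_smul]
  have hYXY : (t' • e) * (t • d) * (t' • e) = 0 := by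
    rw [smul_mul_smul_comm, smul_mul_smul_comm]
    have : t' * t * t' = 0 := by rw [mul_comm t' t, mul_assoc, ht', mul_zero]
    rw [this, zero_smul]
  have hcalc : (1 + t • d) * (1 + t' • e) * (1 - t • d) * (1 - t' • e) * 1 =
      1 + (t * t') • (d * e - e * d) := by
    set X := t • d with hX
    set Y := t' • e with hY
    have h1 : (1 + X) * (1 + Y) * (1 - X) = 1 + Y + X * Y - Y * X := by
      have : (1 + X) * (1 + Y) * (1 - X) =
          1 + Y + X * Y - Y * X - X * X - X * Y * X := by noncomm_ring
      rw [this, hX2, hXYX, sub_zero, sub_zero]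
    rw [mul_one, h1]
    have h2 : (1 + Y + X * Y - Y * X) * (1 - Y) =
        1 + X * Y - Y * X - Y * Y - X * (Y * Y) + Y * X * Y := by noncomm_ring
    rw [h2, hY2, hYXY, mul_zero, sub_zero, sub_zero, add_zero]
    rw [hX, hY, smul_mul_smul_comm, smul_mul_smul_comm, mul_comm t' t, smul_sub]
    abel
  have hval := congrArg (fun φ : A →ₗ[k] R => φ a) hmain
  simp only [AlgHom.toLinearMap_apply] at hval
  rw [hval, hcalc]
  -- evaluate
  have hde : ∀ (F G : LieHopf.Lie k A),
      WithConv.toConv ((Algebra.linearMap k R) ∘ₗ LieHopf.dlin F) *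
        WithConv.toConv ((Algebra.linearMap k R) ∘ₗ LieHopf.dlin G) =
      WithConv.toConv ((Algebra.linearMap k R) ∘ₗ LieHopf.conv (LieHopf.dlin F) (LieHopf.dlin G)) := by
    intro F G
    have h := LinearMap.algHom_comp_convMul_distrib (R := k) (Algebra.ofId k R)
      (WithConv.toConv (LieHopf.dlin F)) (WithConv.toConv (LieHopf.dlin G))
    apply WithConv.ofConv_injective
    rw [WithConv.ofConv_toConv]
    exact h.symm
  rw [hd, he, hde, hde]
  simp only [WithConv.ofConv_add, LinearMap.add_apply, WithConv.ofConv_smul, LinearMap.smul_apply,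
    WithConv.ofConv_sub, LinearMap.sub_apply, WithConv.ofConv_toConv, LinearMap.comp_apply,
    Algebra.linearMap_apply, smul_eq_mul, LieHopf.bracketLin, map_sub]
  rw [mul_comm (t * t')]
  rfl

end Groth.Agent.S3046
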