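import Groth.Statements.S3058
import Groth.Agent.Lib.Helper53.ToposFin

set_option autoImplicit false
open CategoryTheory CategoryTheory.Limits Opposite
universe u
open ToposFin

namespace Groth.Agent.S3058

open Groth.Agent.Helper53.TF

/-- For a topos of sheaves of sets on a small site: the coproduct of a small family of objects is
quasi-compact if and only if every member is quasi-compact and all but finitely many members are
initial (empty) objects. -/
theorem result {C : Type u} [SmallCategory C] {J : GrothendieckTopology C} {ι : Type u}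
    (F : ι → ToposFin.Sh J) :
    ToposFin.IsQC (∐ F) ↔ (∀ i, ToposFin.IsQC (F i)) ∧ {i | IsEmpty (F i ≅ ⊥_ (ToposFin.Sh J))}.Finite := by
  classical
  constructor
  · intro hX
    refine ⟨fun i => isQC_of_isQCHom (Sigma.ι F i)
      (isQCHom_cofan_inj _ (coproductIsCoproduct F) i) hX, ?_⟩
    obtain ⟨s, hs⟩ := isQC_exists_finset hX (Sigma.ι F)
      (JE_cofan_inj _ (coproductIsCoproduct F))
    refine s.finite_toSet.subset ?_
    intro j hj
    by_contra hjs
    have hJE := hs.pullback_snd (Sigma.ι F j)
    have hepi : Epi (initial.to (F j)) := by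
      constructor
      intro Z a b _
      apply hJE
      intro i
      have hij : (i : ι) ≠ j := fun h => hjs (h ▸ i.2)
      exact (isInitial_pullback_of_ne _ (coproductIsCoproduct F) hij).hom_ext _ _
    have hiso : IsIso (initial.to (F j)) := isIso_of_mono_of_epi _
    exact hj.false (asIso (initial.to (F j))).symm
  · rintro ⟨hF, hfin⟩
    have : Finite {i | IsEmpty (F i ≅ ⊥_ (ToposFin.Sh J))} := hfin.to_subtype
    refine isQC_of_finite_JE (fun k : {i | IsEmpty (F i ≅ ⊥_ (ToposFin.Sh J))} => F k.1)
      (fun k => Sigma.ι F k.1) ?_ (fun k => hF k.1)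
    intro Z a b hab
    apply Sigma.hom_ext
    intro i
    by_cases hi : IsEmpty (F i ≅ ⊥_ (ToposFin.Sh J))
    · exact hab ⟨i, hi⟩
    · rw [not_isEmpty_iff] at hi
      obtain ⟨e⟩ := hi
      exact (initialIsInitial.ofIso e.symm).hom_ext _ _

end Groth.Agent.S3058
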