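import Groth.Statements.S3080
import Groth.Agent.Lib.Helper68.ToposAdjoint

set_option autoImplicit false
universe v u
open CategoryTheory
open SGA4

namespace Groth.Agent.S3080

open CategoryTheory.Limits in
/-- Let (C, J) and (D, K) be small sites and f a functor from sheaves of sets on (C, J) to sheaves of
sets on (D, K) which preserves finite limits and sends u-small jointly epimorphic families to
jointly epimorphic families. Then f is a left adjoint (so it is the inverse-image functor of a
morphism of topoi) and f preserves all u-small colimits. -/
theorem result {C D : Type u} [SmallCategory C] [SmallCategory D]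
    (J : GrothendieckTopology C) (K : GrothendieckTopology D) (f : Sheaf J (Type u) ⥤ Sheaf K (Type u))
    [PreservesFiniteLimits f] (hf : SGA4.PreservesEpiFamilies.{u + 1, u + 1, u} f) :
    f.IsLeftAdjoint ∧ PreservesColimitsOfSize.{u, u} f := by
  have hc := Groth.Agent.Lib.Helper68.isContinuous_canonical_of_preservesEpiFamilies f hf
  have hcolim : Limits.PreservesColimitsOfSize.{u, u} f := (Groth.Agent.S6159.result J K f).2 hc
  exact ⟨Groth.Agent.Lib.Helper68.isLeftAdjoint_of_preservesColimits f, hcolim⟩

end Groth.Agent.S3080
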