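import Groth.Statements.S3082
import Groth.Agent.Lib.Helper53.ToposFinSite

set_option autoImplicit false
universe u
open CategoryTheory
open SGA4

namespace Groth.Agent.S3082

open Groth.Agent.Helper53.TF Opposite

/-- Let (C, J) be a small site and G a set of objects of C such that each object of C has a covering
family whose members all lie in G. Then the sheafifications of the presheaves represented by the
members of G form a detecting family in the category Sh(C, J) of set-valued sheaves on (C, J): any
morphism of sheaves that is bijective on sections over each member of G is an isomorphism. -/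
theorem result {C : Type u} [SmallCategory C] (J : GrothendieckTopology C) (G : Set C)
    (hG : ∀ X : C, ∃ (ι : Type u) (Y : ι → C) (f : ∀ i, Y i ⟶ X), Sieve.ofArrows Y f ∈ J X ∧ ∀ i, Y i ∈ G) :
    (ObjectProperty.ofObj fun X : G => (presheafToSheaf J (Type u)).obj (yoneda.obj (X : C))).IsDetecting := by
  intro F F' f hf
  -- bijectivity on sections over members of `G`
  have hinj : ∀ X : C, X ∈ G → Function.Injective (f.hom.app (op X)) := by
    intro X hX s t hst
    obtain ⟨h', -, huniq⟩ := hf _ (ObjectProperty.ofObj_apply _ (⟨X, hX⟩ : G))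
      ((epsEquiv X F).symm s ≫ f)
    have h1 := huniq ((epsEquiv X F).symm s) rfl
    have h2 := huniq ((epsEquiv X F).symm t) (by
      change (epsEquiv X F).symm t ≫ f = (epsEquiv X F).symm s ≫ f
      rw [epsEquiv_symm_comp, epsEquiv_symm_comp, hst])
    exact (epsEquiv X F).symm.injective (h1.trans h2.symm)
  have hsurj : ∀ X : C, X ∈ G → Function.Surjective (f.hom.app (op X)) := by
    intro X hX y
    obtain ⟨h', hh', -⟩ := hf _ (ObjectProperty.ofObj_apply _ (⟨X, hX⟩ : G))
      ((epsEquiv X F').symm y)
    refine ⟨epsEquiv X F h', ?_⟩
    rw [← epsEquiv_naturality_right, hh', Equiv.apply_symm_apply]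
  have hmono : Mono f := by
    refine Sheaf.mono_of_injective f (fun U => ?_)
    induction U using Opposite.rec with | _ U => ?_
    intro s t hst
    obtain ⟨ι, Y, g, hcov, hY⟩ := hG U
    apply (((isSheaf_iff_isSheaf_of_type _ _).1 F.2).isSeparated _ hcov).ext
    rintro W h ⟨T, u, v, ⟨i⟩, rfl⟩
    have : F.obj.map (g i).op s = F.obj.map (g i).op t := by
      apply hinj _ (hY i)
      have h1 := NatTrans.naturality_apply f.hom (g i).op s
      have h2 := NatTrans.naturality_apply f.hom (g i).op t
      rw [h1, h2, hst]
    rw [op_comp, F.obj.map_comp]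
    exact congrArg (F.obj.map u.op) this
  have hepi : Epi f := by
    have : JE (fun _ : Unit => f) := by
      rw [JE_iff_coverSieve]
      intro U y
      obtain ⟨ι, Y, g, hcov, hY⟩ := hG U
      refine J.superset_covering ?_ hcov
      rintro W h ⟨T, u, v, ⟨i⟩, rfl⟩
      obtain ⟨x, hx⟩ := hsurj _ (hY i) (F'.obj.map (g i).op y)
      refine ⟨(), F.obj.map u.op x, ?_⟩
      have h1 := NatTrans.naturality_apply f.hom u.op x
      rw [h1, hx, op_comp, F'.obj.map_comp]
      rfl
    constructor
    intro Z a b hab
    exact this a b (fun _ => hab)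
  exact isIso_of_mono_of_epi f

end Groth.Agent.S3082
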