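import Groth.Statements.S3083
import Groth.Agent.Lib.Helper43.ClosedSub

set_option autoImplicit false
universe u
open CategoryTheory
open SGA4

namespace Groth.Agent.S3083

open CategoryTheory.Limits in
/-- For the topos of sheaves of sets on a small site: let U be an open (a subterminal sheaf) and F the
strictly full subcategory of sheaves X for which the projection U × X -> U is an isomorphism (the
closed complement of U). Then the inclusion of F admits a left adjoint i^* which preserves finite
limits, and i^* X is (the image in E of) the pushout U ⨿_{U × X} X for every X. -/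
theorem result {C : Type u} [SmallCategory C] (J : GrothendieckTopology C)
    (U : Sheaf J (Type u)) (hU : SGA4.IsOpen U) :
    ∃ (L : Sheaf J (Type u) ⥤ (SGA4.closedCompl U).FullSubcategory) (_ : L ⊣ (SGA4.closedCompl U).ι),
      PreservesFiniteLimits L ∧
      ∀ X : Sheaf J (Type u), Nonempty (((SGA4.closedCompl U).ι).obj (L.obj X) ≅
        pushout (prod.fst : U ⨯ X ⟶ U) (prod.snd : U ⨯ X ⟶ X)) := by
  have adj0 : MonoidalCategory.tensorLeft U ⊣ ihom U := ihom.adjunction U
  have iso : MonoidalCategory.tensorLeft U ≅ prod.functor.obj U :=
    CartesianMonoidalCategory.tensorLeftIsoProd U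
  have adj : prod.functor.obj U ⊣ ihom U := adj0.ofNatIsoLeft iso
  have : PreservesColimitsOfShape WalkingSpan (prod.functor.obj U) :=
    adj.leftAdjoint_preservesColimits.preservesColimitsOfShape
  exact ⟨Groth.Agent.Lib.Helper43.ClosedSub.reflector U,
    Groth.Agent.Lib.Helper43.ClosedSub.reflectorAdj U, inferInstance,
    fun X => Groth.Agent.Lib.Helper43.ClosedSub.nonempty_reflector_iso_pushout U hU _
      (Groth.Agent.Lib.Helper43.ClosedSub.reflectorAdj U) X⟩

end Groth.Agent.S3083
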