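import Groth.Statements.S3086
import Groth.Agent.S3078
import Groth.Agent.Lib.Helper53.ToposGlue
import Groth.Agent.Lib.Helper53.ToposPresentable
import Groth.Agent.Lib.Helper53.ToposCanonical

set_option autoImplicit false
universe u
open CategoryTheory
open SGA4

namespace Groth.Agent.S3086

open CategoryTheory.Limits in
/-- For sheaf topoi on small sites): let ρ be a functor from sheaves of sets on (C, J) to sheaves of
sets on (D, K) which preserves finite limits and is accessible. Then the glued category of triples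
(Y, X, Y -> ρ X) is a topos. -/
theorem result {C D : Type u} [SmallCategory C] [SmallCategory D] (J : GrothendieckTopology C)
    (K : GrothendieckTopology D) (ρ : Sheaf J (Type u) ⥤ Sheaf K (Type u)) [PreservesFiniteLimits ρ]
    [ρ.IsAccessible.{u}] :
    SGA4.IsTopos.{u + 1, u} (Comma (𝟭 (Sheaf K (Type u))) ρ) := by
  obtain ⟨P, hPs, hP⟩ := Groth.Agent.Helper53.TF.exists_small_solutionSet J K ρ
  have hb := Groth.Agent.Helper53.Glue.hasDisjointUniversalCoproducts ρ
    (Groth.Agent.Helper53.TF.hasDisjointUniversalCoproducts (J := J))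
    (Groth.Agent.Helper53.TF.hasDisjointUniversalCoproducts (J := K))
  have hc : ∀ (R A : Comma (𝟭 (Sheaf K (Type u))) ρ) (p₁ p₂ : R ⟶ A), SGA4.IsEquivRel p₁ p₂ →
      SGA4.IsEffectiveUniversalEquivRel p₁ p₂ := fun R A p₁ p₂ h =>
    Groth.Agent.Helper53.Glue.isEffectiveUniversalEquivRel ρ
      (fun _ _ _ _ h => Groth.Agent.Helper53.TF.isEffectiveUniversalEquivRel h)
      (fun _ _ _ _ h => Groth.Agent.Helper53.TF.isEffectiveUniversalEquivRel h) h
  refine Groth.Agent.S3078.result hb hc
    ⟨ObjectProperty.ofObj (Groth.Agent.Helper53.Glue.genObj ρ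
      (ToposFin.eps J) (ToposFin.eps K) P), inferInstance,
      Groth.Agent.Helper53.Glue.isDetecting_genObj ρ _ _ _
        Groth.Agent.Helper53.TF.isDetecting_eps Groth.Agent.Helper53.TF.isDetecting_eps
        (fun X V z => hP X V z)⟩

end Groth.Agent.S3086
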