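import Groth.Statements.S3104
import Groth.Agent.Lib.Helper4.ConstLCRestr
import Groth.Agent.Lib.Helper70.OpenRecoll

set_option autoImplicit false
universe u
open CategoryTheory CategoryTheory.Limits AlgebraicGeometry Opposite
open EtPBC

namespace Groth.Agent.S3104

/-- Let X be a normal scheme, j : U → X a quasi-compact open immersion with dense image, and M an
abelian group. Then the natural map from the constant sheaf M_X on X_ét to j_* j^* M_X (the unit of
the adjunction) is an isomorphism. The published statement is more general, allowing X geometrically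
unibranch and sheaves of sets; stated here for X normal, j an open immersion and constant abelian
sheaves. -/
theorem result (X U : Scheme.{u}) (hX : Pi1.IsNormalScheme X)
    (j : U ⟶ X) [IsOpenImmersion j] [QuasiCompact j] (hj : Dense (Set.range j)) [EtCoh.BCCont j]
    (M : Type) [AddCommGroup M] :
    IsIso ((EtCoh.pullPushAdj j).unit.app (EtCoh.const X M)) := by
  have h1 : IsIso (Groth.Agent.Lib.Helper4.ConstLC.restrLC j M) :=
    Groth.Agent.Lib.Helper4.ConstLC.isIso_restrLC j M (fun V =>
      ⟨Groth.Agent.Lib.Helper4.ConstLC.injective_restrLC j M hj V,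
        Groth.Agent.Lib.Helper4.ConstLC.surjective_restrLC j M hj hX V⟩)
  let φ : EtCoh.const X M ≅ (EtCoh.push j).obj (Groth.Agent.Lib.Helper4.ConstLC.lcSheaf U M) :=
    Groth.Agent.Lib.Helper4.ConstLC.constIso X M ≪≫
      asIso (Groth.Agent.Lib.Helper4.ConstLC.restrLC j M)
  have : IsIso ((EtCoh.pullPushAdj j).counit.app (Groth.Agent.Lib.Helper4.ConstLC.lcSheaf U M)) :=
    Groth.Agent.Lib.Helper70.OpenRecoll.isIso_counit_pullPushAdj j _
  exact Groth.Agent.Lib.Helper4.ConstLC.isIso_unit_app_of_iso (EtCoh.pullPushAdj j) _ _ φ

end Groth.Agent.S3104
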