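import Groth.Statements.S3105
import Groth.Agent.Lib.Helper4.ConstUnit
import Groth.Agent.Lib.Helper4.GenericLC

set_option autoImplicit false
universe u
open CategoryTheory CategoryTheory.Limits AlgebraicGeometry Opposite
open EtPBC

namespace Groth.Agent.S3105

/-- Let X be a normal integral scheme with generic point η, g : Spec κ(η) → X the canonical morphism and
M an abelian group. Then the unit map from the constant sheaf M_X on X_ét to g_*g^*M_X is an
isomorphism. (The published statement is more general, allowing X geometrically unibranch and
sheaves of sets. Continuity of the functor of étale sites along g is carried as an instance binder.) -/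
theorem result (X : Scheme.{u}) [IsIntegral X] (hX : Pi1.IsNormalScheme X)
    [EtCoh.BCCont (X.fromSpecResidueField (genericPoint X))] (M : Type) [AddCommGroup M] :
    IsIso ((EtCoh.pullPushAdj (X.fromSpecResidueField (genericPoint X))).unit.app (EtCoh.const X M)) := by
  let g := X.fromSpecResidueField (genericPoint X)
  have hr : Set.range g = {genericPoint X} := Scheme.range_fromSpecResidueField _
  have hsub : ∀ a b, a = b := fun a b => g.isEmbedding.injective (by
    have ha : g a ∈ Set.range g := ⟨a, rfl⟩
    have hb : g b ∈ Set.range g := ⟨b, rfl⟩
    rw [hr] at ha hb
    exact ha.trans hb.symm)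
  have hsub' := Subsingleton.intro hsub
  have hqc : QuasiCompact g := Groth.Agent.Lib.Helper4.ConstLC.quasiCompact_of_finite g
  have hst : StableUnderGeneralization (Set.range g) := by
    rw [hr]
    intro x y hyx hx
    rw [Set.mem_singleton_iff] at hx ⊢
    subst hx
    exact (hyx.antisymm ((genericPoint_spec X).specializes (by trivial))).eq
  have hd : Dense (Set.range g) := by
    rw [hr]
    exact dense_iff_closure_eq.2 (genericPoint_spec X)
  have hiso := Groth.Agent.Lib.Helper4.ConstLC.isIso_restrLC_of_preimmersion g M hd hst hX
  exact Groth.Agent.Lib.Helper4.ConstLC.isIso_unit_const_of_isIso_restrLC g M hiso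

end Groth.Agent.S3105
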