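import Groth.Statements.S3116
import Groth.Agent.Lib.Cohomology.Helper3_CardConstr
-- import your own Groth.Agent.* helpers here

set_option autoImplicit false
universe u
open CategoryTheory CategoryTheory.Limits AlgebraicGeometry Opposite
open EtPBC

namespace Groth.Agent.S3116

/-- For abelian sheaves: let X be locally noetherian and F an abelian sheaf on the small etale site of X
whose geometric stalks (at all geometric points with separably closed residue field) are finite.
Then F is constructible if and only if for every natural number n the set of points x of X such that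
the stalk of F at some geometric point over x has exactly n elements is locally constructible. -/
theorem result (X : Scheme.{u}) [IsLocallyNoetherian X] (F : EtCoh.Ab X)
    (hfin : ∀ (Ω : Type u) [Field Ω] [IsSepClosed Ω] (ξ : Spec (CommRingCat.of Ω) ⟶ X),
      Finite ((EtCoh.stalk ξ).obj F)) :
    EtPBC.IsConstructible F ↔ ∀ n : ℕ, Topology.IsLocallyConstructible
      {x : X | ∃ (Ω : Type u) (_ : Field Ω) (_ : IsSepClosed Ω) (ξ : Spec (CommRingCat.of Ω) ⟶ X),
        Set.range ξ = {x} ∧ Nat.card ((EtCoh.stalk ξ).obj F) = n} := by
  have hP : ∀ n : ℕ, ∀ ⦃A B : AddCommGrpCat.{u + 1}⦄, (A ≅ B) → Nat.card A = n → Nat.card B = n :=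
    fun n A B e h => by
      rw [← h]
      exact (Nat.card_congr e.addCommGroupIsoToAddEquiv.toEquiv).symm
  constructor
  · intro hF n
    exact Groth.Agent.Lib.Cohomology.StalkProp.isLocallyConstructible_locus
      (fun A : AddCommGrpCat.{u + 1} => Nat.card A = n) (hP n) F hF
  · intro hE
    exact Groth.Agent.Lib.Cohomology.CardConstr.isConstructible_of_card F hfin hE

end Groth.Agent.S3116
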