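import Groth.Statements.S3129
import Mathlib
-- import your own Groth.Agent.* helpers here

set_option autoImplicit false
open BigOperators
open SGA4h

namespace Groth.Agent.S3129

section helpers

variable {F : Type} [Field F] [Fintype F] [DecidableEq F] {R : Type} [CommRing R] [IsDomain R]

lemma addChar_sum {ι : Type} (Ψ : AddChar F R) (s : Finset ι) (f : ι → F) :
    Ψ (∑ i ∈ s, f i) = ∏ i ∈ s, Ψ (f i) := by
  classical
  induction s using Finset.induction_on with
  | empty => simp [AddChar.map_zero_eq_one]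
  | insert i s hi ih =>
    rw [Finset.sum_insert hi, Finset.prod_insert hi, AddChar.map_add_eq_mul, ih]

lemma mulChar_prod {ι : Type} (s : Finset ι) (f : ι → MulChar F R) (a : Fˣ) :
    (∏ i ∈ s, f i) (a : F) = ∏ i ∈ s, f i (a : F) := by
  classical
  induction s using Finset.induction_on with
  | empty => simp [MulChar.one_apply_coe]
  | insert i s hi ih =>
    rw [Finset.prod_insert hi, Finset.prod_insert hi, MulChar.mul_apply, ih]

lemma sum_units_eq (h : F → R) (h0 : h 0 = 0) : ∑ u : Fˣ, h (u : F) = ∑ y : F, h y := by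
  classical
  have e1 : ∑ u : Fˣ, h (u : F) = ∑ z : {a : F // a ≠ 0}, h (z : F) :=
    Fintype.sum_equiv unitsEquivNeZero _ _ (fun u => rfl)
  rw [e1, ← Finset.sum_subtype (Finset.univ.filter (fun a : F => a ≠ 0)) (by simp) h]
  exact Finset.sum_subset (Finset.subset_univ _) (fun y _ hy => by
    have : y = 0 := by simpa using hy
    rw [this, h0])

end helpers


/-- Let F be a finite field with q elements, N ≥ 1, χ₀, …, χ_N multiplicative characters of F with
values in a domain, not all trivial and with product 1, and Ψ a nontrivial additive character of F.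
Put τ(χ, Ψ) = −Σ_{x ∈ F} Ψ(x) χ⁻¹(x) and J(χ) = (−1)^{N−1} Σ χ₁⁻¹(x₁) ⋯ χ_N⁻¹(x_N), the sum over x₁,
…, x_N ∈ F^* with x₁ + ⋯ + x_N = −1. Then q · J(χ) = τ(χ₀, Ψ) ⋯ τ(χ_N, Ψ). -/
theorem result (F : Type) [Field F] [Fintype F] [DecidableEq F] (R : Type) [CommRing R] [IsDomain R]
    (N : ℕ) (hN : 1 ≤ N) (χ : Fin (N + 1) → MulChar F R) (hprod : ∏ i, χ i = 1) (hnt : ∃ i, χ i ≠ 1)
    (Ψ : AddChar F R) (hΨ : Ψ ≠ 1) :
    (Fintype.card F : R) * ((-1) ^ (N - 1) *
        ∑ x ∈ (Finset.univ : Finset (Fin N → Fˣ)).filter (fun x => ∑ i, ((x i : Fˣ) : F) = -1),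
          ∏ i : Fin N, (χ i.succ)⁻¹ ((x i : Fˣ) : F)) =
      ∏ i : Fin (N + 1), (-(∑ y : F, Ψ y * (χ i)⁻¹ y)) := by
  have hprim : AddChar.IsPrimitive Ψ := AddChar.IsPrimitive.of_ne_one hΨ
  obtain ⟨g, hg⟩ : ∃ g : Fin (N + 1) → R, ∀ i, g i = ∑ y : F, Ψ y * (χ i)⁻¹ y :=
    ⟨_, fun _ => rfl⟩
  have hg' : ∀ i, g i = gaussSum (χ i)⁻¹ Ψ := fun i => by
    rw [hg i, gaussSum]
    exact Finset.sum_congr rfl (fun y _ => mul_comm _ _)
  have hT : ∀ (i : Fin (N + 1)) (v : Fˣ),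
      ∑ u : Fˣ, (χ i)⁻¹ (u : F) * Ψ ((v : F) * (u : F)) = χ i (v : F) * g i := by
    intro i v
    have e1 : ∑ u : Fˣ, (χ i)⁻¹ (u : F) * Ψ ((v : F) * (u : F))
        = ∑ y : F, (χ i)⁻¹ y * Ψ ((v : F) * y) :=
      sum_units_eq (fun y => (χ i)⁻¹ y * Ψ ((v : F) * y)) (by simp [MulChar.map_zero])
    have e2 := gaussSum_mulShift_eq (χ i)⁻¹ Ψ v
    rw [inv_inv] at e2
    rw [e1, hg' i, ← e2]
    simp only [gaussSum, AddChar.mulShift_apply]
  have hex : ∃ j : Fin N, χ j.succ ≠ 1 := by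
    by_contra hcon
    push Not at hcon
    have h0 : χ 0 = 1 := by
      have := hprod
      rw [Fin.prod_univ_succ, Finset.prod_congr rfl (fun j _ => hcon j), Finset.prod_const_one,
        mul_one] at this
      exact this
    obtain ⟨i, hi⟩ := hnt
    exact hi (Fin.cases (motive := fun i => χ i = 1) h0 hcon i)
  have hprodsucc : ∏ i : Fin N, χ i.succ = (χ 0)⁻¹ := by
    have := hprod
    rw [Fin.prod_univ_succ] at this
    exact eq_inv_of_mul_eq_one_right this
  have hmain : (Fintype.card F : R) *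
      ∑ x ∈ (Finset.univ : Finset (Fin N → Fˣ)).filter (fun x => ∑ i, ((x i : Fˣ) : F) = -1),
          ∏ i : Fin N, (χ i.succ)⁻¹ ((x i : Fˣ) : F) = ∏ i, g i := by
    rw [Finset.sum_filter, Finset.mul_sum]
    have step1 : ∀ x : Fin N → Fˣ, (Fintype.card F : R) *
        (if ∑ i, ((x i : Fˣ) : F) = -1 then ∏ i : Fin N, (χ i.succ)⁻¹ ((x i : Fˣ) : F) else 0)
        = ∑ a : F, Ψ a * ∏ i : Fin N,
            ((χ i.succ)⁻¹ ((x i : Fˣ) : F) * Ψ (a * ((x i : Fˣ) : F))) := by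
      intro x
      have h1 := AddChar.sum_mulShift (∑ i, ((x i : Fˣ) : F) + 1) hprim
      have h2 : ∀ a : F, Ψ (a * (∑ i, ((x i : Fˣ) : F) + 1))
          = Ψ a * ∏ i : Fin N, Ψ (a * ((x i : Fˣ) : F)) := by
        intro a
        rw [mul_add, mul_one, Finset.mul_sum, AddChar.map_add_eq_mul, addChar_sum]
        exact mul_comm _ _
      simp only [h2] at h1
      simp only [Finset.prod_mul_distrib]
      have h3 : ∑ a : F, Ψ a * ((∏ i : Fin N, (χ i.succ)⁻¹ ((x i : Fˣ) : F)) *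
            ∏ i : Fin N, Ψ (a * ((x i : Fˣ) : F)))
          = (∏ i : Fin N, (χ i.succ)⁻¹ ((x i : Fˣ) : F)) *
            ∑ a : F, Ψ a * ∏ i : Fin N, Ψ (a * ((x i : Fˣ) : F)) := by
        rw [Finset.mul_sum]
        exact Finset.sum_congr rfl (fun a _ => by ring)
      rw [h3, h1]
      by_cases hx : ∑ i, ((x i : Fˣ) : F) = -1
      · rw [if_pos hx, if_pos (by rw [hx]; ring)]; ring
      · rw [if_neg hx, if_neg (fun h => hx (eq_neg_of_add_eq_zero_left h))]; ring
    rw [Finset.sum_congr rfl (fun x _ => step1 x), Finset.sum_comm]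
    have step2 : ∀ a : F, ∑ x : Fin N → Fˣ, Ψ a * ∏ i : Fin N,
          ((χ i.succ)⁻¹ ((x i : Fˣ) : F) * Ψ (a * ((x i : Fˣ) : F)))
        = (∏ i : Fin N, g i.succ) * (Ψ a * (χ 0)⁻¹ a) := by
      intro a
      rw [← Finset.mul_sum]
      have hps : ∑ x : Fin N → Fˣ, ∏ i : Fin N,
            ((χ i.succ)⁻¹ ((x i : Fˣ) : F) * Ψ (a * ((x i : Fˣ) : F)))
          = ∏ i : Fin N, ∑ u : Fˣ, ((χ i.succ)⁻¹ (u : F) * Ψ (a * (u : F))) := by
        rw [Finset.prod_univ_sum, Fintype.piFinset_univ]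
      rw [hps]
      by_cases ha : a = 0
      · subst ha
        obtain ⟨j, hj⟩ := hex
        have hz : ∏ i : Fin N, ∑ u : Fˣ, (χ i.succ)⁻¹ (u : F) * Ψ (0 * (u : F)) = 0 := by
          apply Finset.prod_eq_zero (Finset.mem_univ j)
          have : ∑ u : Fˣ, (χ j.succ)⁻¹ (u : F) * Ψ (0 * (u : F)) = ∑ y : F, (χ j.succ)⁻¹ y :=
            (Finset.sum_congr rfl (fun u _ => by
              rw [zero_mul, AddChar.map_zero_eq_one, mul_one])).trans
              (sum_units_eq (fun y => (χ j.succ)⁻¹ y) (MulChar.map_zero _))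
          rw [this]
          exact MulChar.sum_eq_zero_of_ne_one (inv_ne_one.mpr hj)
        rw [hz, MulChar.map_zero]; ring
      · obtain ⟨v, rfl⟩ : ∃ v : Fˣ, (v : F) = a := ⟨Units.mk0 a ha, rfl⟩
        have hmp : (∏ i : Fin N, χ i.succ) (v : F) = ∏ i : Fin N, χ i.succ (v : F) :=
          mulChar_prod Finset.univ (fun i : Fin N => χ i.succ) v
        rw [Finset.prod_congr rfl (fun i _ => hT i.succ v), Finset.prod_mul_distrib, ← hmp,
          hprodsucc]
        ring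
    rw [Finset.sum_congr rfl (fun a _ => step2 a), ← Finset.mul_sum, Fin.prod_univ_succ, ← hg 0]
    exact mul_comm _ _
  have hsign : (-1 : R) ^ (N + 1) = (-1) ^ (N - 1) := by
    have : N + 1 = (N - 1) + 2 := by omega
    rw [this, pow_add]; norm_num
  simp only [← hg]
  rw [Finset.prod_neg, Finset.card_univ, Fintype.card_fin, ← hmain, hsign]
  ring

end Groth.Agent.S3129
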