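import Groth.Statements.S3133
import Mathlib

set_option autoImplicit false
open Polynomial
open SGA4h

namespace Groth.Agent.S3133

open Polynomial Matrix

namespace CP

variable {R : Type} [CommRing R] {m : Type} [Fintype m] [DecidableEq m]

/-- the block companion matrix -/
def Bm (A : Matrix m m R) (n : ℕ) : Matrix (Fin n × m) (Fin n × m) R :=
  Matrix.of fun (p q : Fin n × m) =>
        if p.1.val = 0 then (if q.1.val = n - 1 then A p.2 q.2 else 0)
        else (if q.1.val + 1 = p.1.val ∧ p.2 = q.2 then 1 else 0)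

/-- the unitriangular matrix `L` -/
noncomputable def L (n : ℕ) : Matrix (Fin n × m) (Fin n × m) R[X] :=
  Matrix.of fun (p q : Fin n × m) =>
    if q.1 ≤ p.1 ∧ p.2 = q.2 then (X : R[X]) ^ (p.1.val - q.1.val) else 0

lemma det_L (n : ℕ) : (L (R := R) (m := m) n).det = 1 := by
  have hbt : (L (R := R) (m := m) n).BlockTriangular (fun p => OrderDual.toDual p.1) := by
    intro p q hpq
    have : p.1 < q.1 := hpq
    simp only [L, Matrix.of_apply]
    rw [if_neg]
    rintro ⟨h1, _⟩
    exact absurd h1 (not_le.mpr this)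
  rw [hbt.det_fintype]
  apply Finset.prod_eq_one
  intro k _
  have : (L (R := R) (m := m) n).toSquareBlock (fun p => OrderDual.toDual p.1) k = 1 := by
    ext ⟨p, hp⟩ ⟨q, hq⟩
    simp only [Matrix.toSquareBlock_def, Matrix.of_apply, L, Matrix.one_apply]
    have hpq : p.1 = q.1 := by
      have h1 : OrderDual.toDual p.1 = OrderDual.toDual q.1 := hp.trans hq.symm
      exact h1
    by_cases h : p = q
    · subst h
      simp
    · have : p.2 ≠ q.2 := fun h2 => h (Prod.ext hpq h2)
      simp [this, h]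
  rw [this, det_one]


/-- `Cx = 1 - X • B` -/
noncomputable def Cx (A : Matrix m m R) (n : ℕ) : Matrix (Fin n × m) (Fin n × m) R[X] :=
  1 - (X : R[X]) • (Bm A n).map C

lemma BL_zero (A : Matrix m m R) (n : ℕ) (hn : 1 ≤ n) (p q : Fin n × m) (hp : p.1.val = 0) :
    (((Bm A n).map C * L n : Matrix (Fin n × m) (Fin n × m) R[X])) p q = C (A p.2 q.2) * X ^ (n - 1 - q.1.val) := by
  rw [Matrix.mul_apply, Fintype.sum_prod_type]
  have hlast : n - 1 < n := by omega
  rw [Finset.sum_eq_single (⟨n - 1, hlast⟩ : Fin n)]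
  · rw [Finset.sum_eq_single q.2]
    · simp only [Matrix.map_apply, Bm, Matrix.of_apply, L, hp, if_true]
      have : q.1 ≤ (⟨n - 1, hlast⟩ : Fin n) := by
        rw [Fin.le_def]; simp; omega
      simp [this]
    · intro r2 _ hr2
      simp only [L, Matrix.of_apply]
      rw [if_neg, mul_zero]
      rintro ⟨_, h⟩
      exact hr2 h
    · intro h; exact absurd (Finset.mem_univ _) h
  · intro r1 _ hr1
    apply Finset.sum_eq_zero
    intro r2 _
    simp only [Matrix.map_apply, Bm, Matrix.of_apply, hp, if_true]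
    have : ¬ (r1.val = n - 1) := by
      intro h; apply hr1; ext; exact h
    simp [this]
  · intro h; exact absurd (Finset.mem_univ _) h

lemma BL_succ (A : Matrix m m R) (n : ℕ) (p q : Fin n × m) (hp : p.1.val ≠ 0) :
    (((Bm A n).map C * L n : Matrix (Fin n × m) (Fin n × m) R[X])) p q =
      L (R := R) n ((⟨p.1.val - 1, by omega⟩ : Fin n), p.2) q := by
  rw [Matrix.mul_apply]
  rw [Finset.sum_eq_single (((⟨p.1.val - 1, by omega⟩ : Fin n), p.2) : Fin n × m)]
  · simp only [Matrix.map_apply, Bm, Matrix.of_apply, hp, if_false]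
    have : p.1.val - 1 + 1 = p.1.val := by omega
    simp [this]
  · intro r _ hr
    simp only [Matrix.map_apply, Bm, Matrix.of_apply, hp, if_false]
    rw [if_neg, map_zero, zero_mul]
    rintro ⟨h1, h2⟩
    apply hr
    ext
    · simp; omega
    · exact h2.symm
  · intro h; exact absurd (Finset.mem_univ _) h


lemma P_zero (A : Matrix m m R) (n : ℕ) (hn : 1 ≤ n) (p q : Fin n × m) (hp : p.1.val = 0) :
    ((Cx A n * L n : Matrix (Fin n × m) (Fin n × m) R[X])) p q =
      (if q.1.val = 0 ∧ p.2 = q.2 then 1 else 0) - X ^ (n - q.1.val) * C (A p.2 q.2) := by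
  unfold Cx
  rw [Matrix.sub_mul, Matrix.one_mul, Matrix.smul_mul, Matrix.sub_apply, Matrix.smul_apply,
    BL_zero A n hn p q hp, smul_eq_mul]
  congr 1
  · simp only [L, Matrix.of_apply]
    have h1 : (q.1 ≤ p.1) ↔ q.1.val = 0 := by
      rw [Fin.le_def, hp]; omega
    by_cases h : q.1.val = 0 ∧ p.2 = q.2
    · rw [if_pos h, if_pos ⟨h1.mpr h.1, h.2⟩, hp, h.1]
      simp
    · rw [if_neg h, if_neg]
      rintro ⟨h2, h3⟩
      exact h ⟨h1.mp h2, h3⟩
  · have : n - q.1.val = (n - 1 - q.1.val) + 1 := by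
      have := q.1.isLt
      omega
    rw [this, pow_succ]
    ring

lemma P_succ (A : Matrix m m R) (n : ℕ) (p q : Fin n × m) (hp : p.1.val ≠ 0) :
    ((Cx A n * L n : Matrix (Fin n × m) (Fin n × m) R[X])) p q = if p = q then 1 else 0 := by
  unfold Cx
  rw [Matrix.sub_mul, Matrix.one_mul, Matrix.smul_mul, Matrix.sub_apply, Matrix.smul_apply,
    BL_succ A n p q hp, smul_eq_mul]
  simp only [L, Matrix.of_apply]
  by_cases h2 : p.2 = q.2
  · rcases lt_trichotomy q.1.val p.1.val with h | h | h
    · have e1 : q.1 ≤ p.1 := by rw [Fin.le_def]; omega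
      have e2 : q.1 ≤ (⟨p.1.val - 1, by omega⟩ : Fin n) := by rw [Fin.le_def]; simp; omega
      have e3 : p ≠ q := by
        intro e; rw [e] at h; exact lt_irrefl _ h
      rw [if_pos ⟨e1, h2⟩, if_pos ⟨e2, h2⟩, if_neg e3]
      have : p.1.val - q.1.val = (p.1.val - 1 - q.1.val) + 1 := by omega
      rw [this, pow_succ]
      ring
    · have e1 : q.1 ≤ p.1 := by rw [Fin.le_def]; omega
      have e2 : ¬ (q.1 ≤ (⟨p.1.val - 1, by omega⟩ : Fin n)) := by rw [Fin.le_def]; simp; omega
      have e3 : p = q := Prod.ext (Fin.ext h.symm) h2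
      rw [if_pos ⟨e1, h2⟩, if_neg (fun hh => e2 hh.1), if_pos e3, h]
      simp
    · have e1 : ¬ (q.1 ≤ p.1) := by rw [Fin.le_def]; omega
      have e2 : ¬ (q.1 ≤ (⟨p.1.val - 1, by omega⟩ : Fin n)) := by rw [Fin.le_def]; simp; omega
      have e3 : p ≠ q := by
        intro e; rw [e] at h; exact lt_irrefl _ h
      rw [if_neg (fun hh => e1 hh.1), if_neg (fun hh => e2 hh.1), if_neg e3]
      simp
  · have e3 : p ≠ q := fun e => h2 (by rw [e])
    rw [if_neg (fun hh => h2 hh.2), if_neg (fun hh => h2 hh.2), if_neg e3]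
    simp

lemma det_P (A : Matrix m m R) (n : ℕ) (hn : 1 ≤ n) :
    ((Cx A n * L n : Matrix (Fin n × m) (Fin n × m) R[X])).det =
      (1 - (X : R[X]) ^ n • A.map C).det := by
  have hbt : ((Cx A n * L n : Matrix (Fin n × m) (Fin n × m) R[X])).BlockTriangular
      (fun p => p.1) := by
    intro p q hpq
    have hlt : q.1.val < p.1.val := hpq
    have hp : p.1.val ≠ 0 := by omega
    rw [P_succ A n p q hp, if_neg]
    intro e
    rw [e] at hlt
    exact lt_irrefl _ hlt
  rw [hbt.det_fintype]
  have h0 : 0 < n := hn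
  rw [Finset.prod_eq_single (⟨0, h0⟩ : Fin n)]
  · -- block 0
    let e : {p : Fin n × m // p.1 = (⟨0, h0⟩ : Fin n)} ≃ m :=
      { toFun := fun p => p.1.2
        invFun := fun i => ⟨(⟨0, h0⟩, i), rfl⟩
        left_inv := by
          rintro ⟨⟨p1, p2⟩, hp⟩
          simp only at hp
          subst hp
          rfl
        right_inv := fun i => rfl }
    have : ((Cx A n * L n : Matrix (Fin n × m) (Fin n × m) R[X])).toSquareBlock (fun p => p.1)
        (⟨0, h0⟩ : Fin n) = (1 - (X : R[X]) ^ n • A.map C).submatrix e e := by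
      ext ⟨p, hp⟩ ⟨q, hq⟩
      simp only [Matrix.toSquareBlock_def, Matrix.of_apply, Matrix.submatrix_apply]
      have hp0 : p.1.val = 0 := by rw [hp]
      have hq0 : q.1.val = 0 := by rw [hq]
      rw [P_zero A n hn p q hp0, hq0]
      simp only [Matrix.sub_apply, Matrix.smul_apply, Matrix.map_apply, Matrix.one_apply, e,
        Equiv.coe_fn_mk, smul_eq_mul, Nat.sub_zero, true_and]
    rw [this, Matrix.det_submatrix_equiv_self]
  · intro k _ hk
    have hk0 : k.val ≠ 0 := by
      intro h; apply hk; ext; exact h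
    have : ((Cx A n * L n : Matrix (Fin n × m) (Fin n × m) R[X])).toSquareBlock (fun p => p.1) k
        = 1 := by
      ext ⟨p, hp⟩ ⟨q, hq⟩
      simp only [Matrix.toSquareBlock_def, Matrix.of_apply, Matrix.one_apply]
      have hp0 : p.1.val ≠ 0 := by rw [hp]; exact hk0
      rw [P_succ A n p q hp0]
      simp [Subtype.ext_iff]
    rw [this, det_one]
  · intro h; exact absurd (Finset.mem_univ _) h

theorem main (A : Matrix m m R) (n : ℕ) (hn : 1 ≤ n) :
    (Bm A n).charpolyRev = Polynomial.expand R n A.charpolyRev := by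
  have h1 : (Bm A n).charpolyRev = (Cx A n).det := rfl
  rw [h1]
  have h2 : (Cx A n).det = ((Cx A n * L n : Matrix (Fin n × m) (Fin n × m) R[X])).det := by
    rw [Matrix.det_mul, det_L, mul_one]
  rw [h2, det_P A n hn]
  unfold Matrix.charpolyRev
  rw [← AlgHom.coe_toRingHom, RingHom.map_det]
  congr 1
  ext i j
  simp only [Matrix.sub_apply, Matrix.smul_apply, Matrix.map_apply, Matrix.one_apply,
    RingHom.mapMatrix_apply, AlgHom.coe_toRingHom, smul_eq_mul]
  by_cases h : i = j
  · simp [h]
  · simp [h]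

end CP


/-- Let A be a square matrix over a commutative ring and n ≥ 1, and let B be the matrix on n blocks of
the endomorphism (x_1, …, x_n) ↦ (A x_n, x_1, …, x_{n-1}). Then det(1 − B·T) = det(1 − A·Tⁿ), i.e.
the reverse characteristic polynomial of B is that of A expanded by n. -/
theorem result (R : Type) [CommRing R] (m : Type) [Fintype m] [DecidableEq m]
    (A : Matrix m m R) (n : ℕ) (hn : 1 ≤ n) :
    (Matrix.of fun (p q : Fin n × m) =>
        if p.1.val = 0 then (if q.1.val = n - 1 then A p.2 q.2 else 0)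
        else (if q.1.val + 1 = p.1.val ∧ p.2 = q.2 then 1 else 0)).charpolyRev =
      Polynomial.expand R n A.charpolyRev :=
  CP.main A n hn

end Groth.Agent.S3133
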