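import Groth.Statements.S3134
import Mathlib

set_option autoImplicit false
open Polynomial
open SGA4h

namespace Groth.Agent.S3134


section Helpers

/- The Jacobi-formula argument below is adapted from helper39's proof of S13056 (there over a field);
it works verbatim over any commutative ring. -/

variable {K : Type} [CommRing K] {n : Type} [Fintype n] [DecidableEq n] (M : Matrix n n K)

local notation "RR" => PowerSeries K

/-- M with constant power series entries -/
noncomputable def Mr : Matrix n n RR := M.map (PowerSeries.C : K →+* RR)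

/-- 1 - tM -/
noncomputable def Amat : Matrix n n RR := 1 - (PowerSeries.X : RR) • Mr M

/-- sum of M^m t^m -/
noncomputable def Nmat : Matrix n n RR := Matrix.of fun i j => PowerSeries.mk (fun m => (M ^ m) i j)

theorem Amat_mul_Nmat : Amat M * Nmat M = 1 := by
  unfold Amat
  rw [Matrix.sub_mul, Matrix.one_mul, Matrix.smul_mul]
  ext i j m
  rw [Matrix.sub_apply, map_sub, Matrix.smul_apply, smul_eq_mul]
  cases m with
  | zero =>
    simp [Nmat, Matrix.one_apply]
  | succ m =>
    rw [PowerSeries.coeff_succ_X_mul, Matrix.mul_apply, map_sum]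
    simp only [Mr, Nmat, Matrix.map_apply, Matrix.of_apply, PowerSeries.coeff_C_mul, PowerSeries.coeff_mk]
    rw [pow_succ', Matrix.mul_apply, sub_self]
    simp [Matrix.one_apply]
    split_ifs <;> simp

theorem coe_charpolyRev : ((M.charpolyRev : Polynomial K) : RR) = (Amat M).det := by
  unfold Matrix.charpolyRev
  have h := RingHom.map_det (Polynomial.coeToPowerSeries.ringHom : Polynomial K →+* PowerSeries K) (1 - (Polynomial.X : Polynomial K) • M.map Polynomial.C)
  rw [Polynomial.coeToPowerSeries.ringHom_apply] at h
  rw [h]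
  congr 1
  ext i j
  simp only [RingHom.mapMatrix_apply, Matrix.map_apply, Matrix.sub_apply, Matrix.smul_apply, Amat, Mr,
    Polynomial.coeToPowerSeries.ringHom_apply, smul_eq_mul, Matrix.one_apply]
  split_ifs <;> simp <;> exact mul_comm _ _

theorem trace_Nmat_mul : Matrix.trace (Nmat M * Mr M) = PowerSeries.mk (fun m => Matrix.trace (M ^ (m + 1))) := by
  ext m
  rw [PowerSeries.coeff_mk, Matrix.trace, map_sum, pow_succ, Matrix.trace]
  apply Finset.sum_congr rfl
  intro i _
  rw [Matrix.diag_apply, Matrix.diag_apply, Matrix.mul_apply, Matrix.mul_apply, map_sum]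
  apply Finset.sum_congr rfl
  intro l _
  simp only [Mr, Nmat, Matrix.map_apply, Matrix.of_apply]
  rw [mul_comm, PowerSeries.coeff_C_mul, PowerSeries.coeff_mk, mul_comm]

open Polynomial in
/-- the shift hom K[X] → K⟦t⟧[X], X ↦ X + t -/
noncomputable def psi : Polynomial K →+* Polynomial RR :=
  (Polynomial.compRingHom (Polynomial.X + Polynomial.C (PowerSeries.X : RR))).comp
    (Polynomial.mapRingHom (PowerSeries.C : K →+* RR))

theorem psi_coeff_one (p : Polynomial K) : (psi p).coeff 1 = PowerSeries.derivative K (p : RR) := by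
  have h1 : psi p = Polynomial.taylor (PowerSeries.X : RR) (p.map (PowerSeries.C : K →+* RR)) := rfl
  rw [h1, Polynomial.taylor_coeff_one, Polynomial.derivative_map, Polynomial.eval_map,
    Polynomial.eval₂_C_X_eq_coe, PowerSeries.derivative_coe]

theorem psi_charpolyRev : psi M.charpolyRev =
    ((Amat M).map Polynomial.C - (Polynomial.X : Polynomial RR) • (Mr M).map Polynomial.C).det := by
  unfold Matrix.charpolyRev
  rw [RingHom.map_det]
  congr 1
  ext1 i j
  simp only [RingHom.mapMatrix_apply, Matrix.map_apply, Matrix.sub_apply, Matrix.smul_apply, Amat, Mr,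
    smul_eq_mul, Matrix.one_apply, psi, RingHom.comp_apply, Polynomial.coe_mapRingHom,
    Polynomial.coe_compRingHom_apply]
  split_ifs <;> simp <;> ring

theorem det_factor : ((Amat M).map Polynomial.C - (Polynomial.X : Polynomial RR) • (Mr M).map Polynomial.C).det =
    Polynomial.C (Amat M).det *
      (1 + (Polynomial.X : Polynomial RR) • (-(Nmat M * Mr M)).map Polynomial.C).det := by
  have h1 : (Polynomial.C (Amat M).det : Polynomial RR) = ((Amat M).map Polynomial.C).det := by
    exact RingHom.map_det (Polynomial.C : RR →+* Polynomial RR) (Amat M)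
  rw [h1, ← Matrix.det_mul]
  congr 1
  rw [Matrix.mul_add, Matrix.mul_one, Matrix.mul_smul]
  have h2 : (Amat M).map Polynomial.C * (-(Nmat M * Mr M)).map (Polynomial.C : RR →+* Polynomial RR) =
      -((Mr M).map Polynomial.C) := by
    rw [← Matrix.map_mul, Matrix.mul_neg, ← Matrix.mul_assoc, Amat_mul_Nmat, Matrix.one_mul]
    ext i j
    simp
  rw [h2, smul_neg, sub_eq_add_neg]

theorem jacobi : PowerSeries.derivative K ((Amat M).det) =
    (Amat M).det * (-(Matrix.trace (Nmat M * Mr M))) := by
  rw [← coe_charpolyRev, ← psi_coeff_one, psi_charpolyRev, det_factor, Polynomial.coeff_C_mul,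
    Matrix.coeff_det_one_add_X_smul_one, Matrix.trace_neg, coe_charpolyRev]

end Helpers

/-- For a square matrix A over a commutative ring, with P(T) = det(1 − A·T), one has −T·P′(T) = P(T) ·
Σ_{n ≥ 1} Tr(Aⁿ) Tⁿ as formal power series (equivalently T d/dT log P(T)⁻¹ = Σ_{n≥1} Tr(Aⁿ) Tⁿ). -/
theorem result (R : Type) [CommRing R] (m : Type) [Fintype m] [DecidableEq m]
    (A : Matrix m m R) :
    ((-(X * Polynomial.derivative A.charpolyRev) : R[X]) : PowerSeries R) =
      (A.charpolyRev : PowerSeries R) * PowerSeries.mk (fun n => if n = 0 then 0 else (A ^ n).trace) := by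
  have hj := jacobi A
  rw [← coe_charpolyRev, trace_Nmat_mul] at hj
  have h1 : ((-(X * Polynomial.derivative A.charpolyRev) : R[X]) : PowerSeries R) =
      -(PowerSeries.X * PowerSeries.derivative R ((A.charpolyRev : R[X]) : PowerSeries R)) := by
    rw [PowerSeries.derivative_coe]
    simp
  rw [h1, hj]
  have h2 : (PowerSeries.X : PowerSeries R) * PowerSeries.mk (fun m => Matrix.trace (A ^ (m + 1))) =
      PowerSeries.mk (fun n => if n = 0 then 0 else (A ^ n).trace) := by
    ext m
    cases m with
    | zero => simp
    | succ m => rw [PowerSeries.coeff_succ_X_mul, PowerSeries.coeff_mk, PowerSeries.coeff_mk,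
        if_neg (Nat.succ_ne_zero m)]
  rw [← h2]
  ring

end Groth.Agent.S3134
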