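import Groth.Statements.S3139
import Groth.Agent.Lib.Helper68.DetCone

set_option autoImplicit false
universe u
open CategoryTheory
attribute [local instance] HasDerivedCategory.standard
open SGA4h

namespace Groth.Agent.S3139

/-- Let A be a commutative ring, K and K' bounded cochain complexes of finite free A-modules with
endomorphisms u and u', and suppose (K, u) and (K', u') are isomorphic in the derived category D(A):
there is an isomorphism K ≅ K' in D(A) intertwining the images of u and u'. Then det(1 - u t, K) =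
det(1 - u' t, K'), where det(1 - u t, K) = ∏ᵢ det(1 - u t, Kⁱ)^{(-1)^i}; the equality is stated
cross-multiplied, as ∏_{i even} det(1 - u t, Kⁱ) · ∏_{i odd} det(1 - u' t, K'ⁱ) = ∏_{i odd} det(1 -
u t, Kⁱ) · ∏_{i even} det(1 - u' t, K'ⁱ) in A[t]. (The source works with finite projective modules;
finite free is the special case stated here.) -/
theorem result (A : Type u) [CommRing A]
    (K K' : CochainComplex (ModuleCat.{u} A) ℤ) (a b : ℤ) [K.IsStrictlyGE a] [K.IsStrictlyLE b] [K'.IsStrictlyGE a] [K'.IsStrictlyLE b]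
    (hK : ∀ i : ℤ, Module.Finite A (K.X i) ∧ Module.Free A (K.X i)) (hK' : ∀ i : ℤ, Module.Finite A (K'.X i) ∧ Module.Free A (K'.X i))
    (u : K ⟶ K) (u' : K' ⟶ K') (φ : DerivedCategory.Q.obj K ≅ DerivedCategory.Q.obj K')
    (hφ : DerivedCategory.Q.map u ≫ φ.hom = φ.hom ≫ DerivedCategory.Q.map u') :
    SGA4h.detEven K u * SGA4h.detOdd K' u' = SGA4h.detOdd K u * SGA4h.detEven K' u' := by
  classical
  -- K-projectivity of `K`
  have hKv : DRing.VanishesAbove K b := fun i hi => K.isZero_of_isStrictlyLE b i hi
  have hK'v : DRing.VanishesAbove K' b := fun i hi => K'.isZero_of_isStrictlyLE b i hi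
  have hKp : K.IsKProjective :=
    Groth.Agent.Lib.Helper12.isKProjective_of_vanishesAbove K b hKv (fun i => by
      have := (hK i).2
      infer_instance)
  -- lift `φ` to a chain map
  obtain ⟨f, hf⟩ := Groth.Agent.Lib.Helper12.exists_map_of_isKProjective K K' φ.hom
  -- the homotopy `f ≫ u' ∼ u ≫ f`
  have hQ : DerivedCategory.Q.map (f ≫ u') = DerivedCategory.Q.map (u ≫ f) := by
    rw [Functor.map_comp, Functor.map_comp, hf, hφ]
  have hq : (HomotopyCategory.quotient _ _).map (f ≫ u') =
      (HomotopyCategory.quotient _ _).map (u ≫ f) := by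
    apply (CochainComplex.IsKProjective.Qh_map_bijective K _).injective
    have h1 := DerivedCategory.quotientCompQhIso_hom_naturality (f ≫ u')
    have h2 := DerivedCategory.quotientCompQhIso_hom_naturality (u ≫ f)
    rw [hQ, ← h2] at h1
    exact (cancel_mono _).1 h1
  have ho : Homotopy (f ≫ u') (u ≫ f) := HomotopyCategory.homotopyOfEq _ _ hq
  -- the cone
  set C := CochainComplex.mappingCone f with hC_def
  set w := Groth.Agent.Lib.Helper68.DetCone.coneEndo f u u' ho with hw_def
  have hCff : ∀ i : ℤ, Module.Finite A (C.X i) ∧ Module.Free A (C.X i) :=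
    Groth.Agent.Lib.Helper12.termwise_cone (Groth.Agent.Lib.Helper12.finiteFree A) f hK hK'
  have hCv : DRing.VanishesAbove C (max (b - 1) b) :=
    Groth.Agent.Lib.Helper12.vanishesAbove_cone f hKv hK'v
  have hCp : C.IsKProjective :=
    Groth.Agent.Lib.Helper12.isKProjective_of_vanishesAbove C _ hCv (fun i => by
      have := (hCff i).2
      infer_instance)
  -- the cone is acyclic
  have hfiso : IsIso (DerivedCategory.Q.map f) := by rw [hf]; infer_instance
  have hCz : Limits.IsZero (DerivedCategory.Q.obj C) :=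
    (Pretriangulated.Triangle.isZero₃_iff_isIso₁ _
      (DerivedCategory.mappingCone_triangle_distinguished f)).2 hfiso
  have hCac : C.Acyclic := by
    intro n
    rw [HomologicalComplex.exactAt_iff_isZero_homology]
    exact ((DerivedCategory.homologyFunctorFactors (ModuleCat.{u} A) n).app C).isZero_iff.1
      ((DerivedCategory.homologyFunctor (ModuleCat.{u} A) n).map_isZero hCz)
  have h : Homotopy (𝟙 C) 0 := CochainComplex.IsKProjective.homotopyZero (𝟙 C) hCac
  -- supports
  have hsK : (Function.mulSupport fun i : ℤ => SGA4h.detOneSub (K.X i) (u.f i)).Finite :=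
    Groth.Agent.Lib.Helper68.DetCone.finite_mulSupport_detOneSub K (fun i => u.f i) a b
      (fun i hi => hi.elim (fun h1 => K.isZero_of_isStrictlyGE a i h1)
        (fun h1 => K.isZero_of_isStrictlyLE b i h1))
  have hsK' : (Function.mulSupport fun i : ℤ => SGA4h.detOneSub (K'.X i) (u'.f i)).Finite :=
    Groth.Agent.Lib.Helper68.DetCone.finite_mulSupport_detOneSub K' (fun i => u'.f i) a b
      (fun i hi => hi.elim (fun h1 => K'.isZero_of_isStrictlyGE a i h1)
        (fun h1 => K'.isZero_of_isStrictlyLE b i h1))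
  have hsa : (Function.mulSupport (Groth.Agent.Lib.Helper68.DetCone.aa C w h)).Finite :=
    Groth.Agent.Lib.Helper68.DetCone.finite_mulSupport_detOneSub C _ (a - 1) b
      (fun i hi => Groth.Agent.Lib.Helper12.isZero_cone_X f i
        (hi.elim (fun h1 => K.isZero_of_isStrictlyGE a _ (by lia))
          (fun h1 => K.isZero_of_isStrictlyLE b _ (by lia)))
        (hi.elim (fun h1 => K'.isZero_of_isStrictlyGE a _ (by lia))
          (fun h1 => K'.isZero_of_isStrictlyLE b _ (by lia))))
  -- the two computations of the characteristic series of the cone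
  have e1 : ∀ i : ℤ, SGA4h.detOneSub (C.X i) (w.f i) =
      SGA4h.detOneSub (K.X (i + 1)) (u.f (i + 1)) * SGA4h.detOneSub (K'.X i) (u'.f i) :=
    Groth.Agent.Lib.Helper68.DetCone.detOneSub_cone f u u' ho hK hK'
  have e2 : ∀ i : ℤ, SGA4h.detOneSub (C.X i) (w.f i) =
      Groth.Agent.Lib.Helper68.DetCone.aa C w h i *
        Groth.Agent.Lib.Helper68.DetCone.aa C w h (i + 1) :=
    Groth.Agent.Lib.Helper68.DetCone.detOneSub_eq_aa_mul_aa C w h hCff
  have key := Groth.Agent.Lib.Helper68.DetCone.finprod_even_mul_succ_eq_odd _ hsa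
  simp only [← e2, e1] at key
  rw [finprod_mul_distrib
      (Groth.Agent.Lib.Helper68.DetCone.finite_mulSupport_subtype_succ _ hsK _)
      (Groth.Agent.Lib.Helper68.DetCone.finite_mulSupport_subtype _ hsK' _),
    finprod_mul_distrib
      (Groth.Agent.Lib.Helper68.DetCone.finite_mulSupport_subtype_succ _ hsK _)
      (Groth.Agent.Lib.Helper68.DetCone.finite_mulSupport_subtype _ hsK' _),
    Groth.Agent.Lib.Helper68.DetCone.finprod_even_succ
      (fun i : ℤ => SGA4h.detOneSub (K.X i) (u.f i)),
    Groth.Agent.Lib.Helper68.DetCone.finprod_odd_succ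
      (fun i : ℤ => SGA4h.detOneSub (K.X i) (u.f i))] at key
  exact key.symm


end Groth.Agent.S3139
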