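import Groth.Statements.S3140
import Mathlib
-- import your own Groth.Agent.* helpers here

set_option autoImplicit false
universe u
open RingTheory.Sequence
open SGA4h

namespace Groth.Agent.S3140

open RingTheory.Sequence Ideal

section
variable {A : Type u} [CommRing A]

theorem smul_quot_eq_zero (J : Ideal A) {j : A} (hj : j ∈ J)
    (m : A ⧸ (J • ⊤ : Submodule A A)) : j • m = 0 := by
  obtain ⟨y, rfl⟩ := Submodule.Quotient.mk_surjective _ m
  rw [← Submodule.Quotient.mk_smul, Submodule.Quotient.mk_eq_zero]
  exact Submodule.smul_mem_smul hj Submodule.mem_top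

theorem isSMulRegular_change (J : Ideal A) (a b : A)
    (ha : IsSMulRegular (A ⧸ (J • ⊤ : Submodule A A)) a)
    (hab : a ∈ J ⊔ Ideal.span {b}) (hba : b ∈ J ⊔ Ideal.span {a}) :
    IsSMulRegular (A ⧸ (J • ⊤ : Submodule A A)) b := by
  rw [isSMulRegular_iff_right_eq_zero_of_smul] at ha ⊢
  obtain ⟨j, hj, z, hz, hjz⟩ := Submodule.mem_sup.mp hab
  obtain ⟨c, rfl⟩ := Ideal.mem_span_singleton'.mp hz
  obtain ⟨j', hj', z', hz', hjz'⟩ := Submodule.mem_sup.mp hba
  obtain ⟨d, rfl⟩ := Ideal.mem_span_singleton'.mp hz'
  intro m hm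
  have h1 : d • m = 0 := by
    apply ha
    have e : b • m = j' • m + a • (d • m) := by
      conv_lhs => rw [← hjz']
      rw [add_smul, mul_comm, mul_smul]
    rw [smul_quot_eq_zero J hj', zero_add] at e
    rw [← e]
    exact hm
  have h2 : (1 - c * d) • m = 0 := by
    apply ha
    rw [smul_smul]
    have : a * (1 - c * d) = j + c * j' := by
      linear_combination (-1 : A) * hjz + (-c) * hjz'
    rw [this]
    exact smul_quot_eq_zero J (J.add_mem hj (J.mul_mem_left c hj')) m
  have h3 : m = (1 - c * d) • m + c • (d • m) := by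
    rw [← mul_smul, ← add_smul]
    simp
  rw [h3, h2, h1, smul_zero, add_zero]

theorem isRegular_change_last (p : List A) (a b : A) (h : IsRegular A (p ++ [a]))
    (hI : Ideal.ofList (p ++ [b]) = Ideal.ofList (p ++ [a])) :
    IsRegular A (p ++ [b]) := by
  obtain ⟨hw, htop⟩ := h
  rw [isWeaklyRegular_append_iff, isWeaklyRegular_singleton_iff] at hw
  refine ⟨?_, ?_⟩
  · rw [isWeaklyRegular_append_iff, isWeaklyRegular_singleton_iff]
    refine ⟨hw.1, isSMulRegular_change _ a b hw.2 ?_ ?_⟩
    · have h1 : a ∈ Ideal.ofList (p ++ [a]) := Ideal.subset_span (by simp)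
      rw [← hI, Ideal.ofList_append, Ideal.ofList_singleton] at h1
      exact h1
    · have h1 : b ∈ Ideal.ofList (p ++ [b]) := Ideal.subset_span (by simp)
      rw [hI, Ideal.ofList_append, Ideal.ofList_singleton] at h1
      exact h1
  · rw [hI]
    exact htop

theorem not_mem_of_isRegular_concat (p : List A) (a : A) (h : IsRegular A (p ++ [a])) :
    a ∉ Ideal.ofList p := by
  intro ha
  obtain ⟨hw, htop⟩ := h
  rw [isWeaklyRegular_append_iff, isWeaklyRegular_singleton_iff] at hw
  apply htop
  have h0 : ∀ m : A ⧸ (Ideal.ofList p • ⊤ : Submodule A A), m = 0 := fun m => by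
    have h5 := hw.2
    rw [isSMulRegular_iff_right_eq_zero_of_smul] at h5
    exact h5 m (smul_quot_eq_zero _ ha m)
  have h1 : (Ideal.ofList p • ⊤ : Submodule A A) = ⊤ := by
    rw [eq_top_iff]
    intro x _
    have h6 := h0 (Submodule.Quotient.mk x)
    rwa [Submodule.Quotient.mk_eq_zero] at h6
  have h2 : (Ideal.ofList p • ⊤ : Submodule A A) ≤ Ideal.ofList (p ++ [a]) • ⊤ :=
    Submodule.smul_mono_left (Ideal.span_mono (fun r hr => List.mem_append_left _ hr))
  have h3 : (⊤ : Submodule A A) ≤ Ideal.ofList (p ++ [a]) • ⊤ := le_of_eq_of_le h1.symm h2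
  exact (top_le_iff.mp h3).symm

theorem exchange [IsLocalRing A] (J : Ideal A) : ∀ (s : List A) (x : A), x ∈ J ⊔ Ideal.ofList s →
    x ∈ J ⊔ IsLocalRing.maximalIdeal A • Ideal.ofList s ∨
    ∃ s1 a s2, s = s1 ++ a :: s2 ∧ a ∈ J ⊔ Ideal.ofList (s1 ++ s2) ⊔ Ideal.span {x} := by
  intro s
  induction s with
  | nil =>
    intro x hx
    left
    rw [Ideal.ofList_nil] at hx ⊢
    simpa using hx
  | cons y s ih =>
    intro x hx
    rw [Ideal.ofList_cons] at hx
    obtain ⟨j, hj, z, hz, hx0⟩ := Submodule.mem_sup.mp hx
    obtain ⟨z1, hz1, σ, hσ, hz0⟩ := Submodule.mem_sup.mp hz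
    obtain ⟨β, hβ0⟩ := Ideal.mem_span_singleton'.mp hz1
    by_cases hβ : IsUnit β
    · right
      refine ⟨[], y, s, rfl, ?_⟩
      obtain ⟨γ, hγ⟩ := hβ.exists_left_inv
      have e : y = γ * x - γ * j - γ * σ := by
        linear_combination (-y) * hγ + γ * hx0 + γ * hz0 + γ * hβ0
      rw [e]
      simp only [List.nil_append]
      refine Ideal.sub_mem _ (Ideal.sub_mem _ ?_ ?_) ?_
      · exact Ideal.mem_sup_right (Ideal.mul_mem_left _ _ (Ideal.subset_span rfl))
      · exact Ideal.mem_sup_left (Ideal.mem_sup_left (J.mul_mem_left _ hj))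
      · exact Ideal.mem_sup_left (Ideal.mem_sup_right (Ideal.mul_mem_left _ _ hσ))
    · have hβm : β ∈ IsLocalRing.maximalIdeal A := (IsLocalRing.mem_maximalIdeal β).mpr hβ
      have hx' : j + σ ∈ J ⊔ Ideal.ofList s := Submodule.add_mem_sup hj hσ
      rcases ih (j + σ) hx' with h1 | ⟨s1, a, s2, hs, ha⟩
      · left
        have e : x = (j + σ) + β * y := by linear_combination -hx0 - hz0 - hβ0
        rw [e]
        have hle1 : Ideal.ofList s ≤ Ideal.ofList (y :: s) :=
          Ideal.span_mono (fun r hr => List.mem_cons_of_mem _ hr)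
        have hle2 : J ⊔ IsLocalRing.maximalIdeal A • Ideal.ofList s ≤
            J ⊔ IsLocalRing.maximalIdeal A • Ideal.ofList (y :: s) :=
          sup_le_sup_left (Submodule.smul_mono le_rfl hle1) J
        refine Ideal.add_mem _ (hle2 h1) ?_
        exact Ideal.mem_sup_right
          (Submodule.smul_mem_smul hβm (Ideal.subset_span (List.mem_cons_self)))
      · right
        refine ⟨y :: s1, a, s2, by rw [hs]; rfl, ?_⟩
        have hle : J ⊔ Ideal.ofList (s1 ++ s2) ⊔ Ideal.span {j + σ} ≤
            J ⊔ Ideal.ofList ((y :: s1) ++ s2) ⊔ Ideal.span {x} := by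
          refine sup_le (sup_le ?_ ?_) ?_
          · exact le_sup_of_le_left le_sup_left
          · refine le_sup_of_le_left (le_sup_of_le_right ?_)
            refine Ideal.span_mono (fun r hr => ?_)
            show r ∈ y :: (s1 ++ s2)
            exact List.mem_cons_of_mem _ hr
          · rw [Ideal.span_singleton_le_iff_mem]
            have e : j + σ = x - β * y := by linear_combination hx0 + hz0 + hβ0
            rw [e]
            refine Ideal.sub_mem _ (Ideal.mem_sup_right (Ideal.subset_span rfl)) ?_
            refine Ideal.mem_sup_left (Ideal.mem_sup_right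
              (Ideal.mul_mem_left _ _ (Ideal.subset_span ?_)))
            show y ∈ y :: (s1 ++ s2)
            exact List.mem_cons_self
        exact hle ha

theorem not_mem_sup_smul [IsLocalRing A] [IsNoetherianRing A] (p : List A) (b : A) (t : List A)
    (hv : IsRegular A (p ++ b :: t)) :
    b ∉ Ideal.ofList p ⊔ IsLocalRing.maximalIdeal A • Ideal.ofList (p ++ b :: t) := by
  intro hb
  have hperm : (p ++ b :: t).Perm ((p ++ t) ++ [b]) :=
    List.perm_middle.trans (List.perm_append_singleton b (p ++ t)).symm
  have hreg : IsRegular A ((p ++ t) ++ [b]) := IsLocalRing.isRegular_of_perm hv hperm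
  apply not_mem_of_isRegular_concat _ _ hreg
  have hle : Ideal.ofList (p ++ b :: t) ≤ Ideal.ofList (p ++ t) := by
    apply Submodule.le_of_le_smul_of_le_jacobson_bot (I := IsLocalRing.maximalIdeal A)
    · exact (isNoetherianRing_iff_ideal_fg A).mp inferInstance _
    · exact IsLocalRing.maximalIdeal_le_jacobson ⊥
    · refine Ideal.span_le.mpr ?_
      intro r hr
      rcases List.mem_append.mp hr with h1 | h1
      · exact Ideal.mem_sup_left (Ideal.subset_span (List.mem_append_left _ h1))
      · rcases List.mem_cons.mp h1 with h2 | h2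
        · rw [h2]
          have hle1 : Ideal.ofList p ≤ Ideal.ofList (p ++ t) :=
            Ideal.span_mono fun r hr => List.mem_append_left _ hr
          have hle2 : Ideal.ofList p ⊔
              IsLocalRing.maximalIdeal A • Ideal.ofList (p ++ b :: t) ≤ Ideal.ofList (p ++ t) ⊔
              IsLocalRing.maximalIdeal A • Ideal.ofList (p ++ b :: t) :=
            sup_le_sup_right hle1 _
          exact hle2 hb
        · exact Ideal.mem_sup_left (Ideal.subset_span (List.mem_append_right _ h2))
  exact hle (Ideal.subset_span (by simp))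

/-- one elementary step between good sequences -/
def Rg (v : List A) (w w' : List A) : Prop :=
  (IsRegular A w ∧ Ideal.ofList w = Ideal.ofList v) ∧
  (IsRegular A w' ∧ Ideal.ofList w' = Ideal.ofList v) ∧
  (w.Perm w' ∨ (w.length = w'.length ∧ w.dropLast = w'.dropLast))

theorem ofList_perm {w w' : List A} (h : w.Perm w') : Ideal.ofList w = Ideal.ofList w' :=
  congrArg Ideal.span (Set.ext fun _ => h.mem_iff)

theorem main_chain [IsLocalRing A] [IsNoetherianRing A] (v : List A) (hv : IsRegular A v) :
    ∀ (t p s : List A), v = p ++ t → IsRegular A (p ++ s) →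
      Ideal.ofList (p ++ s) = Ideal.ofList v →
      Relation.ReflTransGen (Rg v) (p ++ s) v := by
  intro t
  induction t with
  | nil =>
    intro p s hvp hreg hI
    rw [List.append_nil] at hvp
    subst hvp
    cases s with
    | nil => rw [List.append_nil]
    | cons a s' =>
      exfalso
      have hperm : (v ++ a :: s').Perm ((v ++ s') ++ [a]) :=
        List.perm_middle.trans (List.perm_append_singleton a (v ++ s')).symm
      have hreg' := IsLocalRing.isRegular_of_perm hreg hperm
      apply not_mem_of_isRegular_concat _ _ hreg'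
      have h1 : a ∈ Ideal.ofList (v ++ a :: s') := Ideal.subset_span (by simp)
      rw [hI] at h1
      rw [Ideal.ofList_append]
      exact Ideal.mem_sup_left h1
  | cons b t' ih =>
    intro p s hvp hreg hI
    have hb1 : b ∉ Ideal.ofList p ⊔ IsLocalRing.maximalIdeal A • Ideal.ofList v := by
      have h5 := not_mem_sup_smul p b t' (hvp ▸ hv)
      rwa [← hvp] at h5
    have hbv : b ∈ Ideal.ofList v := by
      rw [hvp]
      exact Ideal.subset_span (by simp)
    have hb2 : b ∈ Ideal.ofList p ⊔ Ideal.ofList s := by
      rw [← Ideal.ofList_append, hI]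
      exact hbv
    rcases exchange (Ideal.ofList p) s b hb2 with h1 | ⟨s1, a, s2, hs, ha⟩
    · exfalso
      apply hb1
      have hle1 : Ideal.ofList s ≤ Ideal.ofList v := by
        rw [← hI, Ideal.ofList_append]
        exact le_sup_right
      have hle2 : Ideal.ofList p ⊔ IsLocalRing.maximalIdeal A • Ideal.ofList s ≤
          Ideal.ofList p ⊔ IsLocalRing.maximalIdeal A • Ideal.ofList v :=
        sup_le_sup_left (Submodule.smul_mono le_rfl hle1) _
      exact hle2 h1
    · subst hs
      have hperm1 : (p ++ (s1 ++ a :: s2)).Perm ((p ++ (s1 ++ s2)) ++ [a]) :=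
        ((List.Perm.append_left p List.perm_middle).trans List.perm_middle).trans
          (List.perm_append_singleton a (p ++ (s1 ++ s2))).symm
      have hreg1 : IsRegular A ((p ++ (s1 ++ s2)) ++ [a]) :=
        IsLocalRing.isRegular_of_perm hreg hperm1
      have hI1 : Ideal.ofList ((p ++ (s1 ++ s2)) ++ [a]) = Ideal.ofList v := by
        rw [← hI]
        exact (ofList_perm hperm1).symm
      have hI2 : Ideal.ofList ((p ++ (s1 ++ s2)) ++ [b]) =
          Ideal.ofList ((p ++ (s1 ++ s2)) ++ [a]) := by
        apply le_antisymm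
        · rw [hI1, Ideal.ofList_append, Ideal.ofList_singleton]
          refine sup_le ?_ ?_
          · rw [← hI1]
            exact Ideal.span_mono (fun r hr => List.mem_append_left _ hr)
          · rw [Ideal.span_singleton_le_iff_mem]
            exact hbv
        · rw [Ideal.ofList_append _ [a], Ideal.ofList_singleton]
          refine sup_le ?_ ?_
          · exact Ideal.span_mono (fun r hr => List.mem_append_left _ hr)
          · rw [Ideal.span_singleton_le_iff_mem, Ideal.ofList_append _ [b], Ideal.ofList_singleton,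
              Ideal.ofList_append p]
            exact ha
      have hreg2 : IsRegular A ((p ++ (s1 ++ s2)) ++ [b]) :=
        isRegular_change_last _ a b hreg1 hI2
      have hperm3 : ((p ++ (s1 ++ s2)) ++ [b]).Perm ((p ++ [b]) ++ (s1 ++ s2)) := by
        have h7 : ((p ++ [b]) ++ (s1 ++ s2)).Perm ((p ++ (s1 ++ s2)) ++ [b]) := by
          rw [List.append_assoc, List.singleton_append]
          exact List.perm_middle.trans (List.perm_append_singleton b (p ++ (s1 ++ s2))).symm
        exact h7.symm
      have hreg3 := IsLocalRing.isRegular_of_perm hreg2 hperm3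
      have hI3 : Ideal.ofList ((p ++ [b]) ++ (s1 ++ s2)) = Ideal.ofList v := by
        rw [← ofList_perm hperm3, hI2, hI1]
      have hrest := ih (p ++ [b]) (s1 ++ s2) (by rw [hvp]; simp) hreg3 hI3
      exact Relation.ReflTransGen.head ⟨⟨hreg, hI⟩, ⟨hreg1, hI1⟩, Or.inl hperm1⟩
        (Relation.ReflTransGen.head
          ⟨⟨hreg1, hI1⟩, ⟨hreg2, hI2.trans hI1⟩, Or.inr ⟨by simp, by simp⟩⟩
          (Relation.ReflTransGen.head ⟨⟨hreg2, hI2.trans hI1⟩, ⟨hreg3, hI3⟩, Or.inl hperm3⟩ hrest))

theorem chain_of_rtg (v : List A) (hgv : IsRegular A v) : ∀ w, Relation.ReflTransGen (Rg v) w v →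
    ∃ ws : List (List A), ws.head? = some w ∧ ws.getLast? = some v ∧
      (∀ x ∈ ws, IsRegular A x ∧ Ideal.ofList x = Ideal.ofList v) ∧
      List.IsChain (fun w w' : List A => w.Perm w' ∨
        (w.length = w'.length ∧ w.dropLast = w'.dropLast)) ws := by
  intro w h
  induction h using Relation.ReflTransGen.head_induction_on with
  | refl =>
    refine ⟨[v], rfl, rfl, ?_, List.isChain_singleton _⟩
    intro x hx
    rw [List.mem_singleton] at hx
    rw [hx]
    exact ⟨hgv, rfl⟩
  | head hab hbc ih =>
    obtain ⟨ws, h1, h2, h3, h4⟩ := ih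
    cases ws with
    | nil => simp at h1
    | cons c l =>
      simp only [List.head?_cons, Option.some.injEq] at h1
      subst h1
      refine ⟨_ :: c :: l, rfl, ?_, ?_, ?_⟩
      · rw [List.getLast?_cons_cons]
        exact h2
      · intro x hx
        rcases List.mem_cons.mp hx with hx | hx
        · rw [hx]
          exact hab.1
        · exact h3 x hx
      · rw [List.isChain_cons_cons]
        exact ⟨hab.2.2, h4⟩

end

/-- Let A be a Noetherian local ring and u, v two regular sequences of elements of A generating the same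
ideal. Then there is a finite chain of regular sequences generating that same ideal, starting at u
and ending at v, in which each sequence is obtained from the previous one either by a permutation or
by changing only its last element. -/
theorem result (A : Type u) [CommRing A] [IsLocalRing A] [IsNoetherianRing A]
    (u v : List A) (hu : IsRegular A u) (hv : IsRegular A v) (huv : Ideal.span {x | x ∈ u} = Ideal.span {x | x ∈ v}) :
    ∃ ws : List (List A), ws.head? = some u ∧ ws.getLast? = some v ∧
      (∀ w ∈ ws, IsRegular A w ∧ Ideal.span {x | x ∈ w} = Ideal.span {x | x ∈ u}) ∧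
      List.IsChain (fun w w' : List A => w.Perm w' ∨ (w.length = w'.length ∧ w.dropLast = w'.dropLast)) ws := by
  have hmain := main_chain v hv v [] u rfl hu huv
  obtain ⟨ws, h1, h2, h3, h4⟩ := chain_of_rtg v hv u hmain
  refine ⟨ws, h1, h2, ?_, h4⟩
  intro w hw
  exact ⟨(h3 w hw).1, (h3 w hw).2.trans huv.symm⟩

end Groth.Agent.S3140
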