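import Groth.Statements.S3142
import Groth.Agent.Lib.Cohomology.Helper3_TateLoc
import Groth.Agent.Lib.Cohomology.Helper3_EtDepthExt
-- import your own Groth.Agent.* helpers here

set_option autoImplicit false
universe u
open CategoryTheory CategoryTheory.Limits AlgebraicGeometry Opposite
open EtDual

namespace Groth.Agent.S3142

/-- Let X be a Noetherian separated scheme, n an integer invertible on X, j : U ⟶ X an open immersion
with closed complement Y, and c a natural number. If the local cohomology sheaves H^p_Y(X, ℤ/n)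
vanish for all p < 2c, then the local cohomology group H^{2c}_Y(X, ℤ/n(c)) is isomorphic to the
group of global sections of the local cohomology sheaf H^{2c}_Y(X, ℤ/n(c)). (The source's
isomorphism is the edge map of the spectral sequence H^p(Y, R^q i^!) ⇒ H^{p+q}_Y; here only the
existence of an isomorphism is asserted.) -/
theorem result {X U : Scheme.{u}} [IsNoetherian X] [X.IsSeparated] (j : U ⟶ X) [IsOpenImmersion j] [EtCoh.BCCont j]
    (n : ℕ) (hn : IsUnit (n : Γ(X, ⊤))) (c : ℕ) (h : ∀ p : ℕ, p < 2 * c → IsZero ((EtDual.locCoh j p).obj (EtCoh.const X (ZMod n)))) :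
    Nonempty ((EtDual.HY j (2 * c)).obj (EtDual.tate X n c) ≅
      ((EtDual.locCoh j (2 * c)).obj (EtDual.tate X n c)).obj.obj (op (EtCoh.top X))) := by
  classical
  have hbelow : ∀ m : ℕ, m < 2 * c → IsZero ((EtDual.locCoh j m).obj (EtDual.tate X n c)) := by
    intro m hm
    apply Groth.Agent.Lib.Cohomology.EtDepthLoc.isZero_of_locally
    intro x
    obtain ⟨hn0, W, g, hg, hx, ⟨e⟩⟩ :=
      Groth.Agent.Lib.Cohomology.TateLoc.exists_etale_mu_triv X n hn x
    haveI : NeZero n := ⟨hn0⟩
    refine ⟨W, g, hg, hx, ?_⟩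
    obtain ⟨ψ⟩ := Groth.Agent.Lib.Cohomology.TateLoc.nonempty_restr_tate_iso g n e c
    obtain ⟨θ⟩ := Groth.Agent.Lib.Cohomology.EtDepthLoc.nonempty_locCoh_restr_iso j g m
    have hz : IsZero ((EtShriek.restrAlong g).obj
        ((EtDual.locCoh j m).obj (EtCoh.const X (ZMod n)))) :=
      (EtShriek.restrAlong g).map_isZero (h m hm)
    exact hz.of_iso (θ.app _ ≪≫ (EtDual.locCoh (pullback.snd j g) m).mapIso ψ ≪≫
      (θ.app _).symm)
  obtain ⟨e⟩ := Groth.Agent.Lib.Cohomology.EtDepthExt.nonempty_sec_locCoh_iso_HY j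
    (EtDual.tate X n c) (2 * c) hbelow
  exact ⟨e.symm⟩

end Groth.Agent.S3142
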