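import Groth.Statements.S3206
import Groth.Agent.Lib.Helper76.PSMorse2

set_option autoImplicit false
open SGA7

open Groth.Agent.Lib.Helper76.PSInv Groth.Agent.Lib.Helper76.LT

namespace Groth.Agent.S3206

/-- Let k be a field and f a formal power series in n variables over k without constant term whose
partial derivatives ∂f/∂x_1, …, ∂f/∂x_n generate the maximal ideal of k[[x_1, …, x_n]]. Then there
are power series ε_1, …, ε_n with no terms of degree < 2 and a quadratic form q such that f = q(x_1
+ ε_1, …, x_n + ε_n). -/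
theorem result (k : Type) [Field k] (n : ℕ) (f : MvPowerSeries (Fin n) k)
    (hf0 : MvPowerSeries.constantCoeff f = 0)
    (hJ : Ideal.span (Set.range fun i : Fin n => MvPowerSeries.pderiv k i f) = IsLocalRing.maximalIdeal (MvPowerSeries (Fin n) k)) :
    ∃ (ε : Fin n → MvPowerSeries (Fin n) k) (_ : ∀ i (m : Fin n →₀ ℕ), m.degree < 2 → MvPowerSeries.coeff m (ε i) = 0)
      (q : MvPolynomial (Fin n) k) (_ : q.IsHomogeneous 2)
      (_ : MvPowerSeries.HasSubst (fun i : Fin n => MvPowerSeries.X i + ε i)),
      f = MvPowerSeries.subst (fun i : Fin n => MvPowerSeries.X i + ε i) (q : MvPowerSeries (Fin n) k) := by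
  classical
  have hmem : ∀ g : MvPowerSeries (Fin n) k, g ∈ IsLocalRing.maximalIdeal (MvPowerSeries (Fin n) k) ↔
      MvPowerSeries.constantCoeff g = 0 := by
    intro g
    rw [IsLocalRing.mem_maximalIdeal, mem_nonunits_iff, MvPowerSeries.isUnit_iff_constantCoeff,
      isUnit_iff_ne_zero, not_not]
  set y : Fin n → MvPowerSeries (Fin n) k := fun i => MvPowerSeries.pderiv k i f with hydef
  have hy0 : ∀ i, MvPowerSeries.constantCoeff (y i) = 0 := by
    intro i
    rw [← hmem, ← hJ]
    exact Ideal.subset_span ⟨i, rfl⟩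
  have hf2 : Ord 2 f := by
    rw [ord_two_iff]
    refine ⟨hf0, fun s => ?_⟩
    rw [coeff_single_eq_constantCoeff_pderiv]
    exact hy0 s
  obtain ⟨c, hc⟩ := exists_qev_of_ord_two hf2
  have hjac : jac y = c + c.transpose := jac_pderiv hc
  have hB : IsUnit (c + c.transpose).det := by
    rw [← hjac]
    have hX : ∀ j : Fin n, ∃ a : Fin n → MvPowerSeries (Fin n) k,
        ∑ i, a i * y i = MvPowerSeries.X j := by
      intro j
      have : (MvPowerSeries.X j : MvPowerSeries (Fin n) k) ∈ Ideal.span (Set.range y) := by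
        rw [hJ, hmem, MvPowerSeries.constantCoeff_X]
      exact Ideal.mem_span_range_iff_exists_fun.mp this
    choose a ha using hX
    refine isUnit_det_jac_of_relation (RingHom.id k)
      (Matrix.of fun j i => MvPowerSeries.constantCoeff (a j i)) ?_
    intro j t
    have := sum_constantCoeff_mul_jac hy0 (a j) t
    rw [ha j, MvPowerSeries.coeff_index_single_X] at this
    simp only [RingHom.id_apply, Matrix.of_apply]
    rw [← this]
    by_cases h : j = t
    · simp [h]
    · rw [if_neg h, if_neg (fun h' => h h'.symm)]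
  obtain ⟨ε, hε, hfε⟩ := morse_A hB (le_refl 2) hc
  let q : MvPolynomial (Fin n) k :=
    ∑ i, ∑ j, MvPolynomial.C (c i j) * MvPolynomial.X i * MvPolynomial.X j
  have hq : (q : MvPowerSeries (Fin n) k) = qev c XX := by
    simp only [q]
    unfold qev
    rw [← MvPolynomial.coeToMvPowerSeries.ringHom_apply, map_sum]
    refine Finset.sum_congr rfl fun i _ => ?_
    rw [map_sum]
    refine Finset.sum_congr rfl fun j _ => ?_
    simp [MvPolynomial.coeToMvPowerSeries.ringHom_apply, XX]
  have hqhom : q.IsHomogeneous 2 := by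
    refine MvPolynomial.IsHomogeneous.sum _ _ _ fun i _ => ?_
    refine MvPolynomial.IsHomogeneous.sum _ _ _ fun j _ => ?_
    exact ((MvPolynomial.isHomogeneous_C _ _).mul (MvPolynomial.isHomogeneous_X _ i)).mul
      (MvPolynomial.isHomogeneous_X _ j)
  have hc0 : ∀ i, MvPowerSeries.constantCoeff ((fun i => MvPowerSeries.X i + ε i) i) = 0 := by
    intro i
    simp only [map_add, MvPowerSeries.constantCoeff_X, zero_add]
    exact (hε i).constantCoeff_eq_zero (by omega)
  have hs : MvPowerSeries.HasSubst (fun i => MvPowerSeries.X i + ε i) :=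
    MvPowerSeries.hasSubst_of_constantCoeff_zero hc0
  refine ⟨ε, fun i m hm => hε i m hm, q, hqhom, hs, ?_⟩
  rw [hq, subst_qev_XX hs]
  exact hfε

end Groth.Agent.S3206
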