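import Groth.Statements.S3207
import Mathlib.AlgebraicGeometry.Morphisms.FlatRank
import Mathlib.AlgebraicGeometry.Morphisms.FlatMono
import Mathlib.AlgebraicGeometry.ZariskisMainTheorem
import Mathlib.AlgebraicGeometry.Morphisms.UniversallyOpen

set_option autoImplicit false
universe u
open CategoryTheory CategoryTheory.Limits AlgebraicGeometry
open SGA7

namespace Groth.Agent.S3207

section Helpers
set_option linter.style.haveILetI false
set_option maxHeartbeats 400000

theorem exists_maximal_generization (X : Scheme.{u}) (x : X) :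
    ∃ x₀ : X, x₀ ⤳ x ∧ ∀ y : X, y ⤳ x₀ → y = x₀ := by
  obtain ⟨R, i, _, y', rfl⟩ := X.exists_Spec_apply_eq x
  have hy'p : (PrimeSpectrum.asIdeal (R := R) y').IsPrime := PrimeSpectrum.isPrime (R := R) y'
  obtain ⟨p, hp, hpy⟩ := Ideal.exists_minimalPrimes_le (I := ⊥)
    (J := PrimeSpectrum.asIdeal (R := R) y') bot_le
  have hpp : p.IsPrime := hp.1.1
  let p₀ : ↥(Spec R) := (⟨p, hpp⟩ : PrimeSpectrum R)
  refine ⟨i p₀, ?_, ?_⟩
  · apply Specializes.map _ i.continuous
    exact (PrimeSpectrum.le_iff_specializes (R := R) ⟨p, hpp⟩ y').mp hpy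
  · intro y hy
    have hyr : y ∈ Set.range i := hy.mem_open i.isOpenEmbedding.isOpen_range ⟨p₀, rfl⟩
    obtain ⟨q, rfl⟩ := hyr
    have h1 : q ⤳ p₀ := i.isOpenEmbedding.isInducing.specializes_iff.mp hy
    replace h1 := (PrimeSpectrum.le_iff_specializes (R := R) q ⟨p, hpp⟩).mpr h1
    congr 1
    apply PrimeSpectrum.ext
    exact le_antisymm h1 (hp.2 ⟨PrimeSpectrum.isPrime (R := R) q, bot_le⟩ h1)

theorem maximal_of_flat {X Y : Scheme.{u}} (f : X ⟶ Y) [Flat f] (x : X)
    (hx : ∀ y : X, y ⤳ x → y = x) : ∀ z : Y, z ⤳ f x → z = f x := by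
  intro z hz
  obtain ⟨x', hx', rfl⟩ := Flat.generalizingMap f hz
  rw [hx x' hx']

theorem isIso_snd_fst {T S : Scheme.{u}} (g : T ⟶ S) (t' : T)
    (hiso : IsIso (pullback.snd g (S.fromSpecResidueField (g t')))) :
    IsIso (pullback.snd (pullback.fst g g) (T.fromSpecResidueField t')) := by
  have hjc : T.fromSpecResidueField t' ≫ g =
      Spec.map (g.residueFieldMap t') ≫ S.fromSpecResidueField (g t') :=
    (Scheme.Hom.SpecMap_residueFieldMap_fromSpecResidueField g t').symm
  have big : IsPullback (pullback.snd (pullback.fst g g) (T.fromSpecResidueField t'))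
      (pullback.fst (pullback.fst g g) (T.fromSpecResidueField t') ≫ pullback.snd g g)
      (T.fromSpecResidueField t' ≫ g) g :=
    (IsPullback.of_hasPullback (pullback.fst g g) (T.fromSpecResidueField t')).flip.paste_vert
      (IsPullback.of_hasPullback g g)
  rw [hjc] at big
  have top := IsPullback.of_bot' big
    (IsPullback.of_hasPullback g (S.fromSpecResidueField (g t'))).flip
  exact MorphismProperty.of_isPullback (P := MorphismProperty.isomorphisms Scheme.{u})
    top.flip hiso

theorem aux {T S : Scheme.{u}} (g : T ⟶ S) [LocallyQuasiFinite g]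
    [LocallyOfFinitePresentation g] [QuasiCompact g] [IsSeparated g] [Flat g]
    (h : ∀ s : S, (∀ t : S, t ⤳ s → t = s) →
      IsEmpty ↑(pullback g (S.fromSpecResidueField s)) ∨
        IsIso (pullback.snd g (S.fromSpecResidueField s))) :
    IsOpenImmersion g := by
  have key : ∀ t' : T, (∀ y : T, y ⤳ t' → y = t') →
      IsIso (pullback.snd (pullback.fst g g) (T.fromSpecResidueField t')) := by
    intro t' ht'
    apply isIso_snd_fst
    rcases h (g t') (maximal_of_flat g t' ht') with he | hi
    · exfalso
      obtain ⟨pt⟩ : Nonempty ↥(Spec (S.residueField (g t'))) :=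
        ⟨(default : PrimeSpectrum (S.residueField (g t')))⟩
      obtain ⟨z, -, -⟩ := Scheme.Pullback.exists_preimage_pullback (f := g)
        (g := S.fromSpecResidueField (g t')) t' pt
        (Scheme.fromSpecResidueField_apply _ _).symm
      exact he.false z
    · exact hi
  obtain ⟨p₁, hp₁⟩ : ∃ p : pullback g g ⟶ T, p = pullback.fst g g := ⟨_, rfl⟩
  have hσ : pullback.diagonal g ≫ p₁ = 𝟙 T := by rw [hp₁]; exact pullback.diagonal_fst g
  have : Flat p₁ := by rw [hp₁]; infer_instance
  have : LocallyOfFinitePresentation p₁ := by rw [hp₁]; infer_instance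
  have : LocallyQuasiFinite p₁ := by rw [hp₁]; infer_instance
  have : QuasiCompact p₁ := by rw [hp₁]; infer_instance
  have : IsSeparated p₁ := by rw [hp₁]; infer_instance
  have hsub : ∀ t' : T, Subsingleton ↥(Spec (T.residueField t')) :=
    fun t' => (inferInstance : Subsingleton (PrimeSpectrum (T.residueField t')))
  have hsurj : Surjective (pullback.diagonal g) := by
    constructor
    intro z
    obtain ⟨z', hz'z, hz'max⟩ := exists_maximal_generization _ z
    have ht'max := maximal_of_flat p₁ z' hz'max
    have hk := key (p₁ z') ht'max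
    rw [← hp₁] at hk
    have hz' : z' = pullback.diagonal g (p₁ z') := by
      obtain ⟨pt⟩ : Nonempty ↥(Spec (T.residueField (p₁ z'))) :=
        ⟨(default : PrimeSpectrum (T.residueField (p₁ z')))⟩
      obtain ⟨a, ha1, ha2⟩ := Scheme.Pullback.exists_preimage_pullback (f := p₁)
        (g := T.fromSpecResidueField (p₁ z')) z' pt
        (Scheme.fromSpecResidueField_apply _ _).symm
      obtain ⟨b, hb1, hb2⟩ := Scheme.Pullback.exists_preimage_pullback (f := p₁)
        (g := T.fromSpecResidueField (p₁ z')) (pullback.diagonal g (p₁ z')) pt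
        (by
          rw [Scheme.fromSpecResidueField_apply]
          show (pullback.diagonal g ≫ p₁) (p₁ z') = _
          rw [hσ]; rfl)
      have hab : a = b := by
        have hinj : Function.Injective (pullback.snd p₁ (T.fromSpecResidueField (p₁ z'))) :=
          (Scheme.homeoOfIso (asIso (pullback.snd p₁ (T.fromSpecResidueField (p₁ z'))))).injective
        apply hinj
        haveI := hsub (p₁ z')
        exact Subsingleton.elim _ _
      exact ha1.symm.trans ((congrArg _ hab).trans hb1)
    have hcl : IsClosed (Set.range (pullback.diagonal g)) :=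
      (pullback.diagonal g).isClosedEmbedding.isClosed_range
    exact hz'z.mem_closed hcl ⟨_, hz'.symm⟩
  have : UniversallyClosed p₁ := by
    have : UniversallyClosed (pullback.diagonal g ≫ p₁) := by rw [hσ]; infer_instance
    exact UniversallyClosed.of_comp_surjective (pullback.diagonal g) p₁
  have : IsProper p₁ := ⟨⟩
  have : IsFinite p₁ := .of_isProper_of_locallyQuasiFinite p₁
  have hrank : Scheme.Hom.finrank p₁ = 1 := by
    ext t
    obtain ⟨t', ht't, ht'max⟩ := exists_maximal_generization T t
    have hlc := Scheme.Hom.isLocallyConstant_finrank p₁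
    have h1 : Scheme.Hom.finrank p₁ t' = Scheme.Hom.finrank p₁ t := by
      have hopen := hlc.isOpen_fiber (Scheme.Hom.finrank p₁ t)
      exact ht't.mem_open hopen rfl
    have hk := key t' ht'max
    rw [← hp₁] at hk
    obtain ⟨pt⟩ : Nonempty ↥(Spec (T.residueField t')) :=
      ⟨(default : PrimeSpectrum (T.residueField t'))⟩
    have h2 := Scheme.Hom.finrank_pullback_snd p₁ (T.fromSpecResidueField t') pt
    rw [Scheme.Hom.finrank_eq_one_of_isIso, Scheme.fromSpecResidueField_apply] at h2
    rw [← h1, ← h2]; rfl
  have : IsIso p₁ := (Scheme.Hom.isIso_iff_finrank_eq p₁).mpr hrank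
  have : Mono g := by
    have hkp : IsKernelPair g p₁ (pullback.snd g g) := by
      rw [hp₁]; exact IsPullback.of_hasPullback g g
    exact hkp.mono_of_isIso_fst
  exact IsOpenImmersion.of_flat_of_mono g

end Helpers

/-- Let g : T -> S be locally quasi-finite, of finite presentation, separated and flat. If for every
maximal point s of S (a point with no proper generization) the fibre of g over s is either empty or
mapped isomorphically onto Spec κ(s) (rank at most 1), then g is an open immersion. -/
theorem result {T S : Scheme.{u}} (g : T ⟶ S) [LocallyQuasiFinite g]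
    [LocallyOfFinitePresentation g] [QuasiCompact g] [IsSeparated g] [Flat g]
    (h : ∀ s : S, (∀ t : S, t ⤳ s → t = s) →
      IsEmpty ↑(pullback g (S.fromSpecResidueField s)) ∨ IsIso (pullback.snd g (S.fromSpecResidueField s))) :
    IsOpenImmersion g := by
  exact aux g h

end Groth.Agent.S3207
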