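import Groth.Statements.S3208
import Mathlib

set_option autoImplicit false
open SGA7

namespace Groth.Agent.S3208

theorem pow_expand {E : Type*} [CommRing E] (w : E) (i : ℕ) :
    ∃ t : E, (1 + w) ^ i = 1 + (i : E) * w + (i.choose 2 : E) * w ^ 2 + w ^ 3 * t := by
  induction i with
  | zero => exact ⟨0, by simp⟩
  | succ i ih =>
    obtain ⟨t, ht⟩ := ih
    refine ⟨(i.choose 2 : E) + t + w * t, ?_⟩
    rw [pow_succ, ht, Nat.choose_succ_succ' i 1]
    simp only [Nat.choose_one_right]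
    push_cast
    ring

theorem max_pow {E : Type*} [CommRing E] [NoZeroSMulDivisors ℤ E] [Module.Finite ℤ E]
    (q : ℕ) (hq : 2 ≤ q) (w : E) (hw : w ≠ 0) :
    ∃ r : ℕ, ((q : E) ^ r ∣ w) ∧ ¬ ((q : E) ^ (r + 1) ∣ w) := by
  classical
  have hfree : Module.Free ℤ E := inferInstance
  let b := Module.Free.chooseBasis ℤ E
  have hne : b.repr w ≠ 0 := by simpa using hw
  obtain ⟨i, hi⟩ : ∃ i, b.repr w i ≠ 0 := by
    by_contra h
    push Not at h
    exact hne (Finsupp.ext h)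
  have hdiv : ∀ k, (q : E) ^ k ∣ w → ((q : ℤ) ^ k ∣ b.repr w i) := by
    rintro k ⟨z, rfl⟩
    refine ⟨b.repr z i, ?_⟩
    have h1 : (q : E) ^ k * z = ((q : ℤ) ^ k) • z := by
      rw [zsmul_eq_mul]
      push_cast
      rfl
    rw [h1, map_smul, Finsupp.smul_apply, smul_eq_mul]
  have hex : ∃ k, ¬ ((q : E) ^ (k + 1) ∣ w) := by
    by_contra h
    push Not at h
    have h1 := hdiv ((b.repr w i).natAbs + 1) (h _)
    have h2 : (q : ℤ) ^ ((b.repr w i).natAbs + 1) ≤ |b.repr w i| :=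
      Int.le_of_dvd (abs_pos.mpr hi) ((dvd_abs _ _).mpr h1)
    have h3 : (b.repr w i).natAbs + 1 < q ^ ((b.repr w i).natAbs + 1) := Nat.lt_pow_self hq
    have h4 : ((q ^ ((b.repr w i).natAbs + 1) : ℕ) : ℤ) ≤ ((b.repr w i).natAbs : ℤ) := by
      rw [Int.natCast_natAbs]
      push_cast
      exact h2
    have h5 : q ^ ((b.repr w i).natAbs + 1) ≤ (b.repr w i).natAbs := by exact_mod_cast h4
    omega
  refine ⟨Nat.find hex, ?_, Nat.find_spec hex⟩
  rcases Nat.eq_zero_or_pos (Nat.find hex) with h0 | hpos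
  · rw [h0, pow_zero]
    exact one_dvd _
  · have hmin := Nat.find_min hex (m := Nat.find hex - 1) (by omega)
    push Not at hmin
    rwa [Nat.sub_add_cancel hpos] at hmin

theorem prime_case {E : Type*} [CommRing E] [NoZeroSMulDivisors ℤ E] [Module.Finite ℤ E]
    (u : E) (ℓ : ℕ) (hℓ : ℓ.Prime) (hu : u ^ ℓ = 1) (q : ℕ) (hq : q.Prime) (k : ℕ) (hk : 1 ≤ k)
    (hqk : q ≠ 2 ∨ 2 ≤ k) (hdvd : (q : E) ^ k ∣ u - 1) : u = 1 := by
  by_contra hne
  have hw0 : u - 1 ≠ 0 := sub_ne_zero.mpr hne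
  obtain ⟨r, hr, hr'⟩ := max_pow q hq.two_le (u - 1) hw0
  have hkr : k ≤ r := by
    by_contra h
    push Not at h
    exact hr' ((pow_dvd_pow _ (by omega)).trans hdvd)
  obtain ⟨w', hw'⟩ := hr
  obtain ⟨t, ht⟩ := pow_expand (u - 1) ℓ
  have hu' : 1 + (u - 1) = u := by ring
  rw [hu', hu] at ht
  have hmain : (ℓ : E) * (u - 1) = -((ℓ.choose 2 : E) * (u - 1) ^ 2 + (u - 1) ^ 3 * t) := by
    linear_combination -ht
  by_cases hlq : ℓ = q
  · subst hlq
    have h2 : (ℓ : E) ^ (r + 2) ∣ (ℓ : E) * (u - 1) := by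
      rw [hmain, dvd_neg]
      apply dvd_add
      · rcases hqk with hodd | hk2
        · have hdc : ℓ ∣ ℓ.choose 2 :=
            hℓ.dvd_choose_self (by norm_num) (by have := hℓ.two_le; omega)
          obtain ⟨c, hc⟩ := hdc
          obtain ⟨r', rfl⟩ : ∃ r', r = r' + 1 := ⟨r - 1, by omega⟩
          rw [hc, hw']
          push_cast
          exact ⟨(c : E) * (ℓ : E) ^ r' * w' ^ 2, by ring⟩
        · obtain ⟨r', rfl⟩ : ∃ r', r = r' + 2 := ⟨r - 2, by omega⟩
          rw [hw']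
          exact ⟨(ℓ.choose 2 : E) * (ℓ : E) ^ r' * w' ^ 2, by ring⟩
      · obtain ⟨r', rfl⟩ : ∃ r', r = r' + 1 := ⟨r - 1, by omega⟩
        rw [hw']
        exact ⟨(ℓ : E) ^ (2 * r') * w' ^ 3 * t, by ring⟩
    obtain ⟨z, hz⟩ := h2
    apply hr'
    refine ⟨z, ?_⟩
    have h3 : (ℓ : ℤ) • (u - 1) = (ℓ : ℤ) • ((ℓ : E) ^ (r + 1) * z) := by
      rw [zsmul_eq_mul, zsmul_eq_mul]
      push_cast
      rw [hz]
      ring
    exact smul_right_injective E (Int.natCast_ne_zero.mpr hℓ.ne_zero) h3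
  · have hcop : Nat.Coprime ℓ q := (Nat.coprime_primes hℓ hq).mpr hlq
    have hbez : IsCoprime (ℓ : ℤ) (q : ℤ) := Nat.isCoprime_iff_coprime.mpr hcop
    obtain ⟨a, b, hab⟩ := hbez
    have h2 : (q : E) ^ (r + 1) ∣ (ℓ : E) * (u - 1) := by
      rw [hmain, hw']
      obtain ⟨r', rfl⟩ : ∃ r', r = r' + 1 := ⟨r - 1, by omega⟩
      exact ⟨-((ℓ.choose 2 : E) * (q : E) ^ r' * w' ^ 2 + (q : E) ^ (2 * r' + 1) * w' ^ 3 * t),
        by ring⟩
    apply hr'
    have hcast : ((a * ℓ + b * q : ℤ) : E) = 1 := by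
      rw [hab]
      simp
    push_cast at hcast
    have hsplit : u - 1 = (a : E) * ((ℓ : E) * (u - 1)) + (b : E) * (q : E) * (u - 1) := by
      linear_combination (-(u - 1)) * hcast
    rw [hsplit]
    apply dvd_add
    · exact Dvd.dvd.mul_left h2 _
    · rw [hw']
      exact ⟨(b : E) * w', by ring⟩

theorem main {E : Type*} [CommRing E] [NoZeroSMulDivisors ℤ E] [Module.Finite ℤ E]
    (n : ℕ) (hn : 3 ≤ n) :
    ∀ (m : ℕ), 0 < m → ∀ u : E, u ^ m = 1 → (n : E) ∣ u - 1 → u = 1 := by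
  obtain ⟨q, hq, k, hk, hqk, hqn⟩ :
      ∃ q : ℕ, q.Prime ∧ ∃ k, 1 ≤ k ∧ (q ≠ 2 ∨ 2 ≤ k) ∧ q ^ k ∣ n := by
    obtain ⟨j, n', hodd, hnn⟩ := Nat.exists_eq_two_pow_mul_odd (by omega : n ≠ 0)
    by_cases h1 : n' = 1
    · subst h1
      have hj : 2 ≤ j := by
        by_contra h
        push Not at h
        interval_cases j <;> omega
      exact ⟨2, Nat.prime_two, j, by omega, Or.inr hj, by rw [hnn]; simp⟩
    · obtain ⟨q, hq, hqn'⟩ := Nat.exists_prime_and_dvd h1
      refine ⟨q, hq, 1, le_rfl, Or.inl ?_, ?_⟩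
      · rintro rfl
        exact (Nat.not_even_iff_odd.mpr hodd) (even_iff_two_dvd.mpr hqn')
      · rw [pow_one, hnn]
        exact hqn'.mul_left _
  intro m
  induction m using Nat.strong_induction_on with
  | _ m ih =>
    intro hm u hu hdvd
    by_cases hm1 : m = 1
    · subst hm1
      simpa using hu
    obtain ⟨ℓ, hℓ, hℓm⟩ := Nat.exists_prime_and_dvd hm1
    obtain ⟨m', rfl⟩ := hℓm
    have hm'pos : 0 < m' := by
      rcases Nat.eq_zero_or_pos m' with h | h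
      · subst h
        simp at hm
      · exact h
    have h1 : (u ^ m') ^ ℓ = 1 := by
      rw [← pow_mul, mul_comm]
      exact hu
    have h2 : (q : E) ^ k ∣ u ^ m' - 1 := by
      have ha : (n : E) ∣ u ^ m' - 1 :=
        hdvd.trans (by simpa using sub_dvd_pow_sub_pow u 1 m')
      have hb : ((q ^ k : ℕ) : E) ∣ (n : E) := Nat.cast_dvd_cast hqn
      push_cast at hb
      exact hb.trans ha
    have h3 := prime_case (u ^ m') ℓ hℓ h1 q hq k hk hqk h2
    exact ih m' (by nlinarith [hℓ.two_le]) hm'pos u h3 hdvd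

/-- Let E be a commutative ring which is finitely generated and torsion-free as an additive group, u an
element of E of finite multiplicative order (u^m = 1 for some m > 0), and n ≥ 2 an integer with u ≡
1 modulo nE (i.e. 1 - u = n·v for some v ∈ E). Then u² = 1, and if n ≥ 3 then u = 1. -/
theorem result (E : Type) [CommRing E] [NoZeroSMulDivisors ℤ E] [Module.Finite ℤ E] (u : E) (m : ℕ) (hm : 0 < m)
    (hu : u ^ m = 1) (n : ℕ) (hn : 2 ≤ n) (hcong : ∃ v : E, 1 - u = (n : E) * v) :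
    u ^ 2 = 1 ∧ (3 ≤ n → u = 1) := by
  obtain ⟨v, hv⟩ := hcong
  have key : 3 ≤ n → u = 1 := fun h3 =>
    main n h3 m hm u hu ⟨-v, by linear_combination -hv⟩
  by_cases h3 : 3 ≤ n
  · have h1 := key h3
    exact ⟨by rw [h1]; simp, key⟩
  · have hn2 : n = 2 := by omega
    subst hn2
    refine ⟨?_, fun h => absurd h h3⟩
    refine main 4 (by norm_num) m hm (u ^ 2)
      (by rw [← pow_mul, mul_comm, pow_mul, hu, one_pow]) ⟨v ^ 2 - v, ?_⟩
    push_cast at hv
    have hu2 : u = 1 - 2 * v := by linear_combination -hv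
    rw [hu2]
    push_cast
    ring

end Groth.Agent.S3208
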