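import Groth.Statements.S3209
import Mathlib
-- import your own Groth.Agent.* helpers here

set_option autoImplicit false
universe u
open TensorProduct
open SGA7

namespace Groth.Agent.S3209

open TensorProduct in
theorem map_id_eq_lTensor {R S X Y : Type*} [CommRing R] [CommRing S] [CommRing X] [CommRing Y]
    [Algebra R S] [Algebra R X] [Algebra R Y] (h : X →ₐ[R] Y) (z : S ⊗[R] X) :
    Algebra.TensorProduct.map (AlgHom.id R S) h z = LinearMap.lTensor S h.toLinearMap z := by
  induction z using TensorProduct.induction_on with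
  | zero => simp
  | tmul s x => simp
  | add a b ha hb => rw [map_add, map_add, ha, hb]

/-- Let f : B' → B be a surjective map of R-algebras with kernel J, g : C → B a map of R-algebras, P =
B' ×_B C their fibre product (the equalizer of f ∘ pr₁ and g ∘ pr₂ in B' × C) and S an R-algebra
such that S ⊗_R J → S ⊗_R B' is injective (this holds when Tor_1^R(B, S) = 0, the published
hypothesis, and in particular when S is flat). Then the canonical map S ⊗_R P → (S ⊗_R B') ×_{S ⊗_R
B} (S ⊗_R C) is bijective: it is injective, and every pair with the same image in S ⊗_R B comes from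
S ⊗_R P. -/
theorem result (R B' B C S : Type u) [CommRing R] [CommRing B'] [CommRing B] [CommRing C]
    [CommRing S] [Algebra R B'] [Algebra R B] [Algebra R C] [Algebra R S]
    (f : B' →ₐ[R] B) (hf : Function.Surjective f) (g : C →ₐ[R] B)
    (hJ : Function.Injective (LinearMap.lTensor S (LinearMap.ker f.toLinearMap).subtype)) :
    letI P := AlgHom.equalizer (f.comp (AlgHom.fst R B' C)) (g.comp (AlgHom.snd R B' C))
    letI φ₁ := Algebra.TensorProduct.map (AlgHom.id R S) ((AlgHom.fst R B' C).comp P.val)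
    letI φ₂ := Algebra.TensorProduct.map (AlgHom.id R S) ((AlgHom.snd R B' C).comp P.val)
    Function.Injective (fun z : S ⊗[R] ↥P => (φ₁ z, φ₂ z)) ∧
    ∀ (x : S ⊗[R] B') (y : S ⊗[R] C),
      Algebra.TensorProduct.map (AlgHom.id R S) f x = Algebra.TensorProduct.map (AlgHom.id R S) g y →
        ∃ z : S ⊗[R] ↥P, φ₁ z = x ∧ φ₂ z = y := by
  set P := AlgHom.equalizer (f.comp (AlgHom.fst R B' C)) (g.comp (AlgHom.snd R B' C)) with hP
  set φ₁ := Algebra.TensorProduct.map (AlgHom.id R S) ((AlgHom.fst R B' C).comp P.val)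
    with hφ₁def
  set φ₂ := Algebra.TensorProduct.map (AlgHom.id R S) ((AlgHom.snd R B' C).comp P.val)
    with hφ₂def
  set J := LinearMap.ker f.toLinearMap with hJdef
  let p1 : P →ₗ[R] B' := ((AlgHom.fst R B' C).comp P.val).toLinearMap
  let p2 : P →ₗ[R] C := ((AlgHom.snd R B' C).comp P.val).toLinearMap
  have hmemP : ∀ (b' : B') (c : C), f b' = g c → ((b', c) : B' × C) ∈ P := by
    intro b' c h
    rw [AlgHom.mem_equalizer]
    exact h
  let ι : J →ₗ[R] P :=
    { toFun := fun j => ⟨((j : B'), (0 : C)), hmemP _ _ (by rw [map_zero]; exact j.2)⟩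
      map_add' := fun x y => by
        apply Subtype.ext
        simp
      map_smul' := fun r x => by
        apply Subtype.ext
        simp }
  have hp2surj : Function.Surjective p2 := by
    intro c
    obtain ⟨b', hb'⟩ := hf (g c)
    exact ⟨⟨(b', c), hmemP _ _ hb'⟩, rfl⟩
  have hex : Function.Exact ι p2 := by
    intro x
    constructor
    · intro hx
      obtain ⟨⟨b', c⟩, hbc⟩ := x
      have hc : c = 0 := hx
      subst hc
      have hbc' : f b' = g 0 := (AlgHom.mem_equalizer _ _ _).1 hbc
      rw [map_zero] at hbc'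
      exact ⟨⟨b', hbc'⟩, rfl⟩
    · rintro ⟨j, rfl⟩
      rfl
  have hι1 : p1 ∘ₗ ι = J.subtype := by
    ext j; rfl
  have hfp : f.toLinearMap ∘ₗ p1 = g.toLinearMap ∘ₗ p2 := by
    ext x
    exact (AlgHom.mem_equalizer _ _ _).1 x.2
  have hφ₁ : ∀ z, φ₁ z = LinearMap.lTensor S p1 z := fun z => map_id_eq_lTensor _ z
  have hφ₂ : ∀ z, φ₂ z = LinearMap.lTensor S p2 z := fun z => map_id_eq_lTensor _ z
  have hexS := lTensor_exact S hex hp2surj
  have hexJ : Function.Exact (LinearMap.lTensor S J.subtype) (LinearMap.lTensor S f.toLinearMap) :=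
    lTensor_exact S (LinearMap.exact_subtype_ker_map f.toLinearMap) hf
  constructor
  · -- injectivity
    intro z1 z2 h
    simp only [Prod.mk.injEq] at h
    obtain ⟨h1, h2⟩ := h
    rw [hφ₁, hφ₁] at h1
    rw [hφ₂, hφ₂] at h2
    have h1' : LinearMap.lTensor S p1 (z1 - z2) = 0 := by rw [map_sub, h1, sub_self]
    have h2' : LinearMap.lTensor S p2 (z1 - z2) = 0 := by rw [map_sub, h2, sub_self]
    obtain ⟨w, hw⟩ := (hexS _).1 h2'
    rw [← hw, ← LinearMap.comp_apply, ← LinearMap.lTensor_comp, hι1] at h1'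
    have hw0 : w = 0 := hJ (by rw [h1', map_zero])
    rw [hw0, map_zero] at hw
    exact sub_eq_zero.1 hw.symm
  · intro x y hxy
    rw [map_id_eq_lTensor, map_id_eq_lTensor] at hxy
    obtain ⟨z0, hz0⟩ := LinearMap.lTensor_surjective S hp2surj y
    have hker : LinearMap.lTensor S f.toLinearMap (x - LinearMap.lTensor S p1 z0) = 0 := by
      rw [map_sub, ← LinearMap.comp_apply, ← LinearMap.lTensor_comp, hfp, LinearMap.lTensor_comp,
        LinearMap.comp_apply, hz0, hxy, sub_self]
    obtain ⟨w, hw⟩ := (hexJ _).1 hker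
    refine ⟨z0 + LinearMap.lTensor S ι w, ?_, ?_⟩
    · rw [hφ₁, map_add, ← LinearMap.comp_apply, ← LinearMap.lTensor_comp, hι1, hw]
      abel
    · rw [hφ₂, map_add, hz0]
      have : LinearMap.lTensor S p2 (LinearMap.lTensor S ι w) = 0 := (hexS _).2 ⟨w, rfl⟩
      rw [this, add_zero]

end Groth.Agent.S3209
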