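import Groth.Statements.S3214
-- import your own Groth.Agent.* helpers here
import Mathlib

set_option autoImplicit false
open Polynomial
universe u
open SGA7II

namespace Groth.Agent.S3214

/-- In the recursive form established in its proof: let A = Z[X_1, ..., X_a] (a >= 1), P = prod_i (T -
X_i) in A[T] and S_i the i-th elementary symmetric function. Writing a_j for the coefficient of
T^{a-1} in the remainder of T^{a-1+j} modulo P, one has a_0 = 1 and sum_{i=0}^{a} (-1)^i S_i a_{j-i}
= 0 for every j > 0 (with a_m = 0 for m < 0); equivalently sum_j (-1)^j a_j is the inverse of sum_i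
S_i. (The source works in formal power series; the identity involves only polynomials.) -/
theorem result (a : ℕ) (ha : 0 < a) :
    let P : (MvPolynomial (Fin a) ℤ)[X] := ∏ i : Fin a, (X - C (MvPolynomial.X i))
    let coef : ℤ → MvPolynomial (Fin a) ℤ := fun j =>
      if j < 0 then 0 else ((X : (MvPolynomial (Fin a) ℤ)[X]) ^ (a - 1 + j.toNat) %ₘ P).coeff (a - 1)
    coef 0 = 1 ∧ ∀ j : ℕ, 0 < j →
      (∑ i ∈ Finset.range (a + 1), (-1 : MvPolynomial (Fin a) ℤ) ^ i * MvPolynomial.esymm (Fin a) ℤ i *
        coef ((j : ℤ) - i)) = 0 := by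
  classical
  intro P coef
  have hPdef : P = ∏ i : Fin a, (X - C (MvPolynomial.X i)) := rfl
  have hcoefdef : ∀ j : ℤ, coef j =
      if j < 0 then 0 else ((X : (MvPolynomial (Fin a) ℤ)[X]) ^ (a - 1 + j.toNat) %ₘ P).coeff (a - 1) :=
    fun j => rfl
  have hP : P = ∑ j ∈ Finset.range (a + 1),
      (-1) ^ j * (C (MvPolynomial.esymm (Fin a) ℤ j) * X ^ (a - j)) := by
    have h := Multiset.prod_X_sub_X_eq_sum_esymm
      (Finset.univ.val.map fun i : Fin a => (MvPolynomial.X i : MvPolynomial (Fin a) ℤ))
    rw [Multiset.card_map, Multiset.map_map] at h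
    have hc : Multiset.card (Finset.univ : Finset (Fin a)).val = a := by
      rw [Finset.card_val, Finset.card_univ, Fintype.card_fin]
    rw [hc] at h
    rw [hPdef, Finset.prod_eq_multiset_prod]
    rw [show (Multiset.map (fun i : Fin a => (X - C (MvPolynomial.X i) : (MvPolynomial (Fin a) ℤ)[X]))
        Finset.univ.val) = Multiset.map ((fun t => X - C t) ∘ fun i : Fin a =>
          (MvPolynomial.X i : MvPolynomial (Fin a) ℤ)) Finset.univ.val from rfl, h]
    refine Finset.sum_congr rfl fun j _ => ?_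
    rw [MvPolynomial.esymm_eq_multiset_esymm]
  have hmonic : P.Monic := monic_prod_of_monic _ _ (fun i _ => monic_X_sub_C _)
  have hdeg : P.natDegree = a := by
    rw [hPdef, natDegree_prod_of_monic _ _ (fun i _ => monic_X_sub_C _)]
    simp
  have hnt : Nontrivial (MvPolynomial (Fin a) ℤ) := inferInstance
  have hself : ∀ n : ℕ, n < a → (X : (MvPolynomial (Fin a) ℤ)[X]) ^ n %ₘ P = X ^ n := by
    intro n hn
    rw [modByMonic_eq_self_iff hmonic, degree_X_pow, degree_eq_natDegree hmonic.ne_zero, hdeg]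
    exact_mod_cast hn
  have hcoef : ∀ n : ℕ, coef (n : ℤ) =
      ((X : (MvPolynomial (Fin a) ℤ)[X]) ^ (a - 1 + n) %ₘ P).coeff (a - 1) := by
    intro n
    rw [hcoefdef, if_neg (by omega), Int.toNat_natCast]
  constructor
  · have := hcoef 0
    rw [Nat.cast_zero] at this
    rw [this, add_zero, hself (a - 1) (by omega), coeff_X_pow, if_pos rfl]
  · intro j hj
    have hterm : ∀ i ∈ Finset.range (a + 1), coef ((j : ℤ) - i) =
        ((X : (MvPolynomial (Fin a) ℤ)[X]) ^ (a - 1 + j - i) %ₘ P).coeff (a - 1) := by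
      intro i hi
      rw [Finset.mem_range] at hi
      by_cases hij : i ≤ j
      · have h1 : ((j : ℤ) - i) = ((j - i : ℕ) : ℤ) := by omega
        rw [h1, hcoef]
        congr 3
        omega
      · have h1 : ((j : ℤ) - i) < 0 := by omega
        rw [hcoefdef, if_pos h1, hself (a - 1 + j - i) (by omega), coeff_X_pow, if_neg (by omega)]
    rw [Finset.sum_congr rfl (fun i hi => by rw [hterm i hi])]
    have h0 : (X ^ (j - 1) * P) %ₘ P = 0 :=
      (modByMonic_eq_zero_iff_dvd hmonic).2 (dvd_mul_left _ _)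
    have h1 : X ^ (j - 1) * P = ∑ i ∈ Finset.range (a + 1),
        ((-1 : MvPolynomial (Fin a) ℤ) ^ i * MvPolynomial.esymm (Fin a) ℤ i) •
          (X : (MvPolynomial (Fin a) ℤ)[X]) ^ (a - 1 + j - i) := by
      rw [hP, Finset.mul_sum]
      refine Finset.sum_congr rfl fun i hi => ?_
      rw [Finset.mem_range] at hi
      have he : a - 1 + j - i = (j - 1) + (a - i) := by omega
      rw [he, pow_add, smul_eq_C_mul, map_mul, map_pow, map_neg, map_one]
      ring
    have h2 := congrArg (fun p => (modByMonicHom P p).coeff (a - 1)) h1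
    simp only [map_sum, map_smul, finsetSum_coeff, coeff_smul, smul_eq_mul] at h2
    have h3 : ((X ^ (j - 1) * P) %ₘ P).coeff (a - 1) =
        ∑ i ∈ Finset.range (a + 1), (-1 : MvPolynomial (Fin a) ℤ) ^ i * MvPolynomial.esymm (Fin a) ℤ i *
          ((X : (MvPolynomial (Fin a) ℤ)[X]) ^ (a - 1 + j - i) %ₘ P).coeff (a - 1) := h2
    rw [← h3, h0, coeff_zero]

end Groth.Agent.S3214
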