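import Groth.Statements.S3243
import Groth.Agent.Lib.Helper47.PushH1
import Groth.Agent.Lib.Helper47.GalConstH1
import Groth.Agent.Lib.Helper47.EtRestr
-- import your own Groth.Agent.* helpers here

set_option autoImplicit false
universe u
open CategoryTheory AlgebraicGeometry
open Dix

namespace Groth.Agent.S3243

open CategoryTheory.Abelian Groth.Agent.Lib.Helper47


/-- Let X be quasi-compact and quasi-separated, x a point of X and M a torsion-free abelian group, M_x
the constant sheaf on Spec κ(x). Then H¹(X_ét, i_{x*} M_x) = 0. -/
theorem result (X : Scheme.{u}) [CompactSpace X] [QuasiSeparatedSpace X] (x : X) (M : Type) [AddCommGroup M] [IsAddTorsionFree M] : Subsingleton (EtCoh.H X ((Dix.skyPush X x).obj (EtCoh.const (Spec (X.residueField x)) M)) 1) := by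
  have h : ∀ ξ : EtCoh.H X ((Dix.skyPush X x).obj (EtCoh.const (Spec (X.residueField x)) M)) 1,
      ξ = 0 := by
    intro ξ
    have : (EtCoh.push (X.fromSpecResidueField x)).Additive :=
      (EtCoh.pullPushAdj (X.fromSpecResidueField x)).right_adjoint_additive
    refine PushH1.ext_one_push_eq_zero (EtCoh.pullPushAdj (X.fromSpecResidueField x))
      (fun I hI => EtRestr.injective_push (X.fromSpecResidueField x) I)
      (EtCoh.const X ℤ) (EtCoh.const (Spec (X.residueField x)) ℤ)
      (EtCore.pullConst (X.fromSpecResidueField x) ℤ)
      (EtCoh.const (Spec (X.residueField x)) M) ?_ ξ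
    intro η
    exact GalEfface.H1_const_eq_zero (X.residueField x) M η
  exact ⟨fun a b => by rw [h a, h b]⟩

end Groth.Agent.S3243
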