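import Groth.Statements.S3244
import Groth.Agent.Lib.Helper47.ExtLocalize2
import Groth.Agent.S0108
-- import your own Groth.Agent.* helpers here

set_option autoImplicit false
universe u
open CategoryTheory AlgebraicGeometry
open Dix

namespace Groth.Agent.S3244

open Groth.Agent.Lib.Helper47 CategoryTheory.Limits Opposite

lemma isUnit_natCast_of_invertibleOn (X : Scheme.{u}) (n : ℕ) (h : Dix.InvertibleOn X n) :
    IsUnit ((n : ℕ) : Γ(X, ⊤)) := by
  apply RingedSpace.isUnit_of_isUnit_germ X.toRingedSpace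
  intro x hx
  rw [← Scheme.mem_basicOpen X _ x hx, ← Scheme.evaluation_ne_zero_iff_mem_basicOpen X x hx]
  rw [map_natCast]
  exact h x



/-- Kummer theory at finite level: let n > 0 be an integer invertible on the scheme X (nonzero in every
residue field). Then for every i ≥ 1 the image of H^i(X_ét, μ_n) → H^i(X_ét, G_m), induced by the
inclusion μ_n → G_m, is exactly the subgroup of elements of H^i(X_ét, G_m) killed by n; in
particular H²(X_ét, μ_n) maps onto the n-torsion of the cohomological Brauer group H²(X_ét, G_m).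
(The published statement gives exact sequences obtained as the colimit of these over the powers n =
ℓ^m of a prime ℓ.) -/
theorem result (X : Scheme.{u}) (n : ℕ) (hn : 0 < n) (hX : Dix.InvertibleOn X n) (i : ℕ) (hi : 1 ≤ i) : Set.range ⇑((EtCoh.HF X i).map (EtCoh.muι X n)) = {ξ : (EtCoh.HF X i).obj (EtCoh.Gm X) | n • ξ = 0} := by
  have hepi : Epi (EtCoh.powMap X n) :=
    Groth.Agent.S0108.result X n (isUnit_natCast_of_invertibleOn X n hX)
  have hSE : (ShortComplex.mk (EtCoh.muι X n) (EtCoh.powMap X n) (kernel.condition _)).ShortExact :=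
    { exact := ShortComplex.exact_of_f_is_kernel _ (kernelIsKernel _)
      mono_f := inferInstanceAs (Mono (kernel.ι (EtCoh.powMap X n)))
      epi_g := hepi }
  have hpow : ∀ ξ : EtCoh.H X (EtCoh.Gm X) i,
      ξ.comp (Abelian.Ext.mk₀ (EtCoh.powMap X n)) (add_zero i) = n • ξ := fun ξ =>
    ExtLocalize.comp_mk₀_nsmul_id n ξ
  ext ξ
  simp only [Set.mem_range, Set.mem_ofPred_eq]
  constructor
  · rintro ⟨y, rfl⟩
    let y₀ : EtCoh.H X (EtCoh.mu X n) i := y
    change n • y₀.comp (Abelian.Ext.mk₀ (EtCoh.muι X n)) (add_zero i) = 0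
    rw [← hpow]
    refine (Abelian.Ext.comp_assoc_of_third_deg_zero _ _ _ _).trans ?_
    rw [Abelian.Ext.mk₀_comp_mk₀]
    have h0 : EtCoh.muι X n ≫ EtCoh.powMap X n = 0 := kernel.condition _
    rw [h0, Abelian.Ext.mk₀_zero, Abelian.Ext.comp_zero]
  · intro hξ
    let ξ₀ : EtCoh.H X (EtCoh.Gm X) i := ξ
    have h1 : ξ₀.comp (Abelian.Ext.mk₀ (EtCoh.powMap X n)) (add_zero i) = 0 :=
      (hpow ξ₀).trans hξ
    obtain ⟨y, hy⟩ := Abelian.Ext.covariant_sequence_exact₂ _ hSE ξ₀ h1
    exact ⟨y, hy⟩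

end Groth.Agent.S3244
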