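import Groth.Statements.S3246
import Groth.Agent.Lib.Helper47.ExtLocalize2
import Groth.Agent.S0108
-- import your own Groth.Agent.* helpers here

set_option autoImplicit false
universe u
open CategoryTheory AlgebraicGeometry
open Dix

namespace Groth.Agent.S3246

open Groth.Agent.Lib.Helper47 CategoryTheory.Limits Opposite

lemma isUnit_natCast_of_invertibleOn (X : Scheme.{u}) (ℓ : ℕ) (h : Dix.InvertibleOn X ℓ) (k : ℕ) :
    IsUnit (((ℓ ^ k : ℕ)) : Γ(X, ⊤)) := by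
  apply RingedSpace.isUnit_of_isUnit_germ X.toRingedSpace
  intro x hx
  rw [← Scheme.mem_basicOpen X _ x hx, ← Scheme.evaluation_ne_zero_iff_mem_basicOpen X x hx]
  rw [map_natCast, Nat.cast_pow]
  exact pow_ne_zero _ (h x)

lemma nsmul_section_eq_zero {X : Scheme.{u}} (K : EtCoh.Ab X) (N : ℕ) (h : N • 𝟙 K = 0)
    (U : X.Etale) (s : K.obj.obj (op U)) : N • s = 0 := by
  have h2 : ((N • 𝟙 K : K ⟶ K)).hom.app (op U) = N • 𝟙 (K.obj.obj (op U)) := by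
    have := (sheafToPresheaf X.smallEtaleTopology AddCommGrpCat.{u + 1} ⋙
      (evaluation _ _).obj (op U)).map_nsmul (f := 𝟙 K) (n := N)
    simpa using this
  rw [h] at h2
  have h3 := congrArg (fun ψ : K.obj.obj (op U) ⟶ K.obj.obj (op U) => ψ s) h2
  simpa using h3.symm

lemma isPrimaryTorsion_of_nsmul_id {X : Scheme.{u}} (K : EtCoh.Ab X) (ℓ k : ℕ)
    (h : (ℓ ^ k) • 𝟙 K = 0) : Dix.IsPrimaryTorsion ℓ K := by
  intro U s x
  exact ⟨U, 𝟙 U, ⟨x, rfl⟩, k, nsmul_section_eq_zero K _ h U _⟩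

lemma ext_eq_zero_of_isZero {X : Scheme.{u}} (K : EtCoh.Ab X) (hK : IsZero K) (j : ℕ)
    (x : EtCoh.H X K j) : x = 0 := by
  have h1 : (1 : ℕ) • 𝟙 K = 0 := hK.eq_of_src _ _
  have := ExtLocalize.nsmul_ext_eq_zero 1 h1 x
  rwa [one_smul] at this



/-- Let X be a scheme, ℓ a prime and n an integer with cd_ℓ(X) ≤ n (étale cohomology of ℓ-primary
torsion sheaves vanishes above degree n). Then the ℓ-primary torsion of H^i(X_ét, G_m) is zero for i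
> n + 1; if moreover ℓ is invertible on X, it is zero for i > n. -/
theorem result (X : Scheme.{u}) (ℓ : ℕ) (hℓ : ℓ.Prime) (n : ℕ) (hcd : Dix.CohDimLEAt X ℓ n) : (∀ i : ℕ, n + 1 < i → ∀ ξ : EtCoh.H X (EtCoh.Gm X) i, (∃ k : ℕ, ℓ ^ k • ξ = 0) → ξ = 0) ∧ (Dix.InvertibleOn X ℓ → ∀ i : ℕ, n < i → ∀ ξ : EtCoh.H X (EtCoh.Gm X) i, (∃ k : ℕ, ℓ ^ k • ξ = 0) → ξ = 0) := by
  have hKer : ∀ (k q : ℕ), n < q → ∀ y : EtCoh.H X (kernel ((ℓ ^ k) • 𝟙 (EtCoh.Gm X))) q, y = 0 := by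
    intro k q hq y
    have := hcd (kernel ((ℓ ^ k) • 𝟙 (EtCoh.Gm X))) (isPrimaryTorsion_of_nsmul_id _ ℓ k
      (ExtLocalize.nsmul_id_kernel _ _)) q hq
    exact Subsingleton.elim _ _
  have hCoker : ∀ (k q : ℕ), n < q →
      ∀ y : EtCoh.H X (cokernel ((ℓ ^ k) • 𝟙 (EtCoh.Gm X))) q, y = 0 := by
    intro k q hq y
    have := hcd (cokernel ((ℓ ^ k) • 𝟙 (EtCoh.Gm X))) (isPrimaryTorsion_of_nsmul_id _ ℓ k
      (ExtLocalize.nsmul_id_cokernel _ _)) q hq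
    exact Subsingleton.elim _ _
  refine ⟨?_, ?_⟩
  · rintro i hi ξ ⟨k, hk⟩
    refine ExtLocalize.eq_zero_of_nsmul_eq_zero _ (EtCoh.Gm X) (ℓ ^ k) i ?_ ?_ ξ hk
    · intro y _
      exact hKer k i (by omega) y
    · intro j hj y _
      exact hCoker k j (by omega) y
  · rintro hinv i hi ξ ⟨k, hk⟩
    have hepi : Epi ((ℓ ^ k) • 𝟙 (EtCoh.Gm X)) :=
      Groth.Agent.S0108.result X (ℓ ^ k) (isUnit_natCast_of_invertibleOn X ℓ hinv k)
    have hz : IsZero (cokernel ((ℓ ^ k) • 𝟙 (EtCoh.Gm X))) := isZero_cokernel_of_epi _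
    refine ExtLocalize.eq_zero_of_nsmul_eq_zero _ (EtCoh.Gm X) (ℓ ^ k) i ?_ ?_ ξ hk
    · intro y _
      exact hKer k i hi y
    · intro j hj y _
      exact ext_eq_zero_of_isZero _ hz j y

end Groth.Agent.S3246
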