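import Groth.Statements.S3248
import Groth.Agent.S3245
import Mathlib.LinearAlgebra.TensorProduct.Basis
import Mathlib.LinearAlgebra.Dimension.Constructions
import Mathlib.LinearAlgebra.Dimension.Free
import Mathlib.LinearAlgebra.FiniteDimensional.Lemmas
import Mathlib.RingTheory.TensorProduct.Maps

set_option autoImplicit false
universe u
open TensorProduct
open Dix

namespace Groth.Agent.S3248

open Groth.Agent.S3245

section aux

variable {k : Type u} [Field k] {A : Type u} [Ring A] [Algebra k A] {L : Type u} [CommRing L]
  [Algebra k L]

/-- `id ⊗ g` for a sandwich map `g` is a sum of conjugations in `L ⊗ A`. -/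
lemma lTensor_sandwich (g : A →ₗ[k] A) (l : List (A × A)) (hl : ∀ y, g y = sandwich l y)
    (x : L ⊗[k] A) :
    g.lTensor L x = (l.map fun p => ((1 : L) ⊗ₜ[k] p.1) * x * ((1 : L) ⊗ₜ[k] p.2)).sum := by
  induction x using TensorProduct.induction_on with
  | zero => simp
  | tmul c a =>
    rw [LinearMap.lTensor_tmul, hl]
    clear hl
    induction l with
    | nil => simp [sandwich]
    | cons p l ih =>
      rw [sandwich_cons, TensorProduct.tmul_add, ih, List.map_cons, List.sum_cons]
      congr 1
      rw [Algebra.TensorProduct.tmul_mul_tmul, Algebra.TensorProduct.tmul_mul_tmul, one_mul,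
        mul_one]
  | add x y hx hy =>
    rw [map_add, hx, hy]
    clear hx hy hl
    induction l with
    | nil => simp
    | cons p l ih =>
      simp only [List.map_cons, List.sum_cons, mul_add, add_mul] at ih ⊢
      rw [← ih]
      abel

lemma lTensor_smulRight_one (φ : Module.Dual k A) (x : L ⊗[k] A) :
    (φ.smulRight (1 : A)).lTensor L x =
      (TensorProduct.rid k L (φ.lTensor L x)) ⊗ₜ[k] (1 : A) := by
  induction x using TensorProduct.induction_on with
  | zero => simp
  | tmul c a =>
    simp only [LinearMap.lTensor_tmul, LinearMap.smulRight_apply, TensorProduct.rid_tmul]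
    rw [TensorProduct.tmul_smul, TensorProduct.smul_tmul']
  | add x y hx hy => rw [map_add, hx, hy, map_add, map_add, TensorProduct.add_tmul]

lemma eq_zero_of_forall_dual [FiniteDimensional k A] (x : L ⊗[k] A)
    (h : ∀ φ : Module.Dual k A, TensorProduct.rid k L (φ.lTensor L x) = 0) : x = 0 := by
  classical
  let b := Module.finBasis k A
  apply (TensorProduct.equivFinsuppOfBasisRight (M := L) b).injective
  rw [map_zero]
  ext i
  rw [TensorProduct.equivFinsuppOfBasisRight_apply]
  exact h (b.coord i)

end aux

/-- Stated for a commutative subalgebra: let A be a central simple algebra of dimension r² over a field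
k and L a commutative k-algebra embedded in A by an injective k-algebra homomorphism ι, such that A
is free of rank r for the right L-module structure a · l = a ι(l) (given here as a module structure
together with that compatibility). Then L ⊗_k A is isomorphic as an L-algebra to the matrix algebra
M_r(L). (Only the existence of an isomorphism is stated; the text names the map a ⊗ l ↦ (y ↦ a y
l).) -/
theorem result (k : Type u) [Field k] (A : Type u) [Ring A] [Algebra k A] [Algebra.IsCentral k A] [IsSimpleRing A] [FiniteDimensional k A] (L : Type u) [CommRing L] [Algebra k L] (ι : L →ₐ[k] A) (hι : Function.Injective ι) [Module L A] (hmod : ∀ (l : L) (a : A), l • a = a * ι l) [Module.Free L A] (r : ℕ) (hr : 0 < r) (hA : Module.finrank k A = r ^ 2) (hrank : Module.finrank L A = r) : Nonempty ((L ⊗[k] A) ≃ₐ[L] Matrix (Fin r) (Fin r) L) := by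
  classical
  haveI : SMulCommClass L k A := ⟨fun l c a => by rw [hmod, hmod, smul_mul_assoc]⟩
  haveI : IsScalarTower k L A := ⟨fun c l a => by rw [hmod, hmod, map_smul, mul_smul_comm]⟩
  haveI : Nontrivial A := inferInstance
  haveI : Nontrivial L := by
    refine ⟨⟨1, 0, fun h => ?_⟩⟩
    have := congrArg ι h
    rw [map_one, map_zero] at this
    exact one_ne_zero this
  haveI : Module.Finite L A := Module.finite_of_finrank_pos (by rw [hrank]; exact hr)
  haveI : FiniteDimensional k L := FiniteDimensional.of_injective ι.toLinearMap hι
  -- left multiplication as an L-linear endomorphism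
  let g : A →ₐ[k] Module.End L A :=
    { toFun := fun a =>
        { toFun := fun y => a * y
          map_add' := fun y z => mul_add a y z
          map_smul' := fun l y => by
            simp only [RingHom.id_apply, hmod, mul_assoc] }
      map_one' := by ext y; simp
      map_mul' := fun a b => by ext y; simp [mul_assoc]
      map_zero' := by ext y; simp
      map_add' := fun a b => by ext y; simp [add_mul]
      commutes' := fun c => by
        ext y
        simp [Algebra.smul_def] }
  let f : L →ₐ[L] Module.End L A := Algebra.ofId L _
  have hfg : ∀ x y, Commute (f x) (g y) := by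
    intro l a
    apply LinearMap.ext
    intro y
    simp only [f, g, Module.End.mul_apply, Algebra.ofId_apply, Module.algebraMap_end_apply,
      AlgHom.coe_mk, RingHom.coe_mk, MonoidHom.coe_mk, OneHom.coe_mk, LinearMap.coe_mk,
      AddHom.coe_mk]
    rw [hmod, hmod, mul_assoc]
  let Φ : L ⊗[k] A →ₐ[L] Module.End L A := Algebra.TensorProduct.lift f g hfg
  have hΦ : ∀ (l : L) (a : A) (y : A), Φ (l ⊗ₜ[k] a) y = a * y * ι l := by
    intro l a y
    simp only [Φ, Algebra.TensorProduct.lift_tmul, f, g, Module.End.mul_apply, Algebra.ofId_apply,
      Module.algebraMap_end_apply, AlgHom.coe_mk, RingHom.coe_mk, MonoidHom.coe_mk, OneHom.coe_mk,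
      LinearMap.coe_mk, AddHom.coe_mk]
    rw [hmod]
  -- injectivity of Φ
  have hsurjA := surjective_mulLeftRight_of_csa (k := k) (B := A)
  have hΦinj : Function.Injective Φ := by
    rw [injective_iff_map_eq_zero]
    intro x hx
    apply eq_zero_of_forall_dual
    intro φ
    obtain ⟨t, ht⟩ := hsurjA (φ.smulRight (1 : A))
    obtain ⟨l, hl⟩ := mulLeftRight_eq_sandwich (S := k) t
    have hl' : ∀ y, (φ.smulRight (1 : A)) y = sandwich l y := fun y => by rw [← ht, hl]
    have h1 : Φ ((φ.smulRight (1 : A)).lTensor L x) = 0 := by
      rw [lTensor_sandwich _ l hl', map_list_sum, List.map_map]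
      apply List.sum_eq_zero
      intro z hz
      obtain ⟨p, _, rfl⟩ := List.mem_map.mp hz
      simp only [Function.comp_apply, map_mul, hx, mul_zero, zero_mul]
    rw [lTensor_smulRight_one] at h1
    have h2 := LinearMap.congr_fun h1 1
    rw [hΦ] at h2
    simp only [mul_one, one_mul, LinearMap.zero_apply] at h2
    exact (injective_iff_map_eq_zero ι).mp hι _ h2
  -- pass to matrices
  let b : Module.Basis (Fin r) L A := Module.finBasisOfFinrankEq L A hrank
  let Ψ : L ⊗[k] A →ₐ[L] Matrix (Fin r) (Fin r) L :=
    (LinearMap.toMatrixAlgEquiv b).toAlgHom.comp Φ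
  have hΨinj : Function.Injective Ψ := by
    intro x y hxy
    apply hΦinj
    exact (LinearMap.toMatrixAlgEquiv b).injective hxy
  have hdim : Module.finrank k (L ⊗[k] A) = Module.finrank k (Matrix (Fin r) (Fin r) L) := by
    rw [Module.finrank_tensorProduct, Module.finrank_matrix, hA]
    simp only [Fintype.card_fin]
    ring
  have hΨsurj : Function.Surjective Ψ := by
    have := (LinearMap.injective_iff_surjective_of_finrank_eq_finrank hdim
      (f := Ψ.toLinearMap.restrictScalars k)).mp hΨinj
    exact this
  exact ⟨AlgEquiv.ofBijective Ψ ⟨hΨinj, hΨsurj⟩⟩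

end Groth.Agent.S3248
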