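import Groth.Statements.S3287
-- import your own Groth.Agent.* helpers here

set_option autoImplicit false
universe u
open Finset
open LambdaRing

namespace Groth.Agent.S3287

/-- For a line element u (positive of augmentation one) of a λ-ring with positive structure, ψ^j(u) =
u^j for every j. -/
theorem result (K : Type u) [CommRing K] [LambdaRing.LambdaOps K] (P : LambdaRing.PosStructure K) (u : K) (hu : P.IsLine u) (j : ℕ) :
    LambdaRing.adams P j u = u ^ j := by
  obtain ⟨hpos, haug⟩ := hu
  -- the lambda series of a line element
  have hlam : lamSeries u = 1 + PowerSeries.C u * PowerSeries.X := by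
    ext i
    rcases i with _ | _ | i
    · simp [lamSeries, LambdaOps.lam_zero]
    · simp [lamSeries, LambdaOps.lam_one]
    · have h0 : LambdaOps.lam (i + 2) u = 0 := by
        apply P.lam_eq_zero u hpos
        rw [haug]
        push_cast
        omega
      have h1 : PowerSeries.coeff (i + 2) (1 : PowerSeries K) = 0 := by
        rw [PowerSeries.coeff_one]; simp
      have h2 : PowerSeries.coeff (i + 1 + 1) (PowerSeries.C u * PowerSeries.X) = 0 := by
        rw [PowerSeries.coeff_succ_mul_X, PowerSeries.coeff_C]; simp
      simp only [lamSeries, PowerSeries.coeff_mk, map_add, h0]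
      rw [h1, h2]; simp
  have hresc : PowerSeries.rescale (-1 : K) (lamSeries u) = 1 - PowerSeries.C u * PowerSeries.X := by
    rw [hlam, map_add, map_one, map_mul, PowerSeries.rescale_X]
    have : PowerSeries.rescale (-1 : K) (PowerSeries.C u) = PowerSeries.C u := by
      ext n
      rw [PowerSeries.coeff_rescale, PowerSeries.coeff_C]
      split_ifs with h
      · subst h; simp
      · simp
    rw [this]
    simp only [map_neg, map_one]
    ring
  have hder : PowerSeries.derivative K (1 - PowerSeries.C u * PowerSeries.X) = - PowerSeries.C u := by
    rw [map_sub, Derivation.leibniz]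
    simp
  set f : PowerSeries K := PowerSeries.mk fun j => u ^ j with hf
  have hmul : (1 - PowerSeries.C u * PowerSeries.X) * f = 1 := by
    ext n
    rw [sub_mul, one_mul, mul_assoc, map_sub, PowerSeries.coeff_C_mul]
    rcases n with _ | n
    · simp [hf]
    · rw [PowerSeries.coeff_succ_X_mul]
      simp only [hf, PowerSeries.coeff_mk, PowerSeries.coeff_one]
      simp [pow_succ']
  have hinv : (1 - PowerSeries.C u * PowerSeries.X).invOfUnit 1 = f := by
    have h1 : (1 - PowerSeries.C u * PowerSeries.X) *
        (1 - PowerSeries.C u * PowerSeries.X).invOfUnit 1 = 1 := by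
      apply PowerSeries.mul_invOfUnit
      simp
    calc (1 - PowerSeries.C u * PowerSeries.X).invOfUnit 1
        = ((1 - PowerSeries.C u * PowerSeries.X) * f) *
            (1 - PowerSeries.C u * PowerSeries.X).invOfUnit 1 := by rw [hmul, one_mul]
      _ = f * ((1 - PowerSeries.C u * PowerSeries.X) *
            (1 - PowerSeries.C u * PowerSeries.X).invOfUnit 1) := by ring
      _ = f := by rw [h1, mul_one]
  have hseries : adamsSeries P u = 1 + PowerSeries.C u * (PowerSeries.X * f) := by
    unfold adamsSeries
    rw [hresc, hder, hinv, haug]
    simp only [Int.cast_one, map_one]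
    ring
  unfold adams
  rw [hseries, map_add, PowerSeries.coeff_C_mul]
  rcases j with _ | j
  · simp
  · rw [PowerSeries.coeff_succ_X_mul]
    simp only [hf, PowerSeries.coeff_mk, PowerSeries.coeff_one]
    simp [pow_succ']

end Groth.Agent.S3287
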