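import Groth.Statements.S3290
import Groth.Agent.Lib.Helper17.LambdaGammaSeries
import Groth.Agent.Lib.Helper17.LambdaInv

set_option autoImplicit false
universe u
open Finset
open LambdaRing

namespace Groth.Agent.S3290

open Groth.Agent.Lib.Helper17.Lam LambdaRing

section poly

open Polynomial

variable {R : Type*} [CommRing R]

lemma reflect_eq_sum (m : ℕ) (A : R[X]) (hA : A.natDegree ≤ m) :
    reflect m A = ∑ k ∈ Finset.range (m + 1), C (A.coeff k) * X ^ (m - k) := by
  ext j
  rw [coeff_reflect, finset_sum_coeff]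
  simp only [coeff_C_mul_X_pow]
  by_cases hj : j ≤ m
  · rw [revAt_le hj, Finset.sum_eq_single (m - j)]
    · rw [if_pos (by omega)]
    · intro b hb hbne
      have := Finset.mem_range.mp hb
      rw [if_neg (by omega)]
    · intro h
      exact absurd (Finset.mem_range.mpr (by omega)) h
  · push Not at hj
    have hrev : revAt m j = j := by
      simp [revAt, Nat.not_le.mpr hj]
    rw [hrev, coeff_eq_zero_of_natDegree_lt (lt_of_le_of_lt hA hj)]
    symm
    apply Finset.sum_eq_zero
    intro b hb
    have := Finset.mem_range.mp hb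
    rw [if_neg (by omega)]

lemma natDegree_one_sub_X_pow_le (n : ℕ) : ((1 - X : R[X]) ^ n).natDegree ≤ n := by
  refine natDegree_pow_le.trans ?_
  have : (1 - X : R[X]).natDegree ≤ 1 := by
    refine (natDegree_sub_le _ _).trans ?_
    rw [natDegree_one]
    exact max_le (Nat.zero_le _) natDegree_X_le
  calc n * (1 - X : R[X]).natDegree ≤ n * 1 := Nat.mul_le_mul_left n this
    _ = n := mul_one n

lemma reflect_one_sub_X : reflect 1 (1 - X : R[X]) = X - 1 := by
  have h := reflect_lin (-1 : R)
  have e1 : (1 + C (-1 : R) * X : R[X]) = 1 - X := by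
    rw [C_neg, C_1]; ring
  have e2 : (X + C (-1 : R) : R[X]) = X - 1 := by
    rw [C_neg, C_1]; ring
  rw [e1, e2] at h
  exact h

lemma reflect_one_sub_X_pow (n : ℕ) : reflect n ((1 - X : R[X]) ^ n) = (X - 1) ^ n := by
  induction n with
  | zero => simp
  | succ n ih =>
    have h1 : ((1 - X : R[X])).natDegree ≤ 1 := by
      simpa using natDegree_one_sub_X_pow_le (R := R) 1
    rw [pow_succ, reflect_mul _ _ (natDegree_one_sub_X_pow_le n) h1, ih, reflect_one_sub_X,
      ← pow_succ]

/-- reversal of `Σ aᵢ Xⁱ (1 - X)^{m-i}` -/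
lemma reflect_sum (m : ℕ) (a : ℕ → R) :
    reflect m (∑ i ∈ Finset.range (m + 1), C (a i) * (X ^ i * (1 - X) ^ (m - i))) =
      ∑ i ∈ Finset.range (m + 1), C (a i) * (X - 1) ^ (m - i) := by
  have hadd : ∀ (s : Finset ℕ) (g : ℕ → R[X]), reflect m (∑ i ∈ s, g i) = ∑ i ∈ s, reflect m (g i) := by
    intro s g
    induction s using Finset.induction_on with
    | empty => simp
    | insert b s hb ih => rw [Finset.sum_insert hb, Finset.sum_insert hb, reflect_add, ih]
  rw [hadd]
  apply Finset.sum_congr rfl
  intro i hi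
  have him : i ≤ m := by
    have := Finset.mem_range.mp hi; omega
  rw [reflect_C_mul]
  congr 1
  have h1 : (X ^ i : R[X]).natDegree ≤ i := natDegree_X_pow_le i
  obtain ⟨n, rfl⟩ : ∃ n, m = i + n := ⟨m - i, by omega⟩
  rw [Nat.add_sub_cancel_left, reflect_mul _ _ h1 (natDegree_one_sub_X_pow_le n),
    reflect_monomial, revAt_le le_rfl, Nat.sub_self, pow_zero, one_mul, reflect_one_sub_X_pow]

lemma natDegree_sum_le (m : ℕ) (a : ℕ → R) :
    (∑ i ∈ Finset.range (m + 1), C (a i) * (X ^ i * (1 - X) ^ (m - i))).natDegree ≤ m := by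
  apply natDegree_sum_le_of_forall_le
  intro i hi
  have him : i ≤ m := by
    have := Finset.mem_range.mp hi; omega
  refine (natDegree_C_mul_le _ _).trans ?_
  refine natDegree_mul_le.trans ?_
  have h1 : (X ^ i : R[X]).natDegree ≤ i := natDegree_X_pow_le i
  have h2 := natDegree_one_sub_X_pow_le (R := R) (m - i)
  omega

end poly

section series

open PowerSeries

variable {K : Type u} [CommRing K] [LambdaOps K]

lemma mk_one_mul (R : Type*) [CommRing R] : (mk 1 : PowerSeries R) * (1 - X) = 1 :=
  mk_one_mul_one_sub_eq_one R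

lemma phi_mul (R : Type*) [CommRing R] : phi R * (1 - X) = X := by
  unfold phi
  rw [mul_assoc, mk_one_mul, mul_one]

lemma one_add_phi_mul (R : Type*) [CommRing R] : (1 + phi R) * (1 - X) = 1 := by
  rw [add_mul, one_mul, phi_mul]
  ring

lemma lamSeries_natCast (P : PosStructure K) (n : ℕ) :
    lamSeries (n : K) = (1 + X) ^ n := by
  induction n with
  | zero => rw [Nat.cast_zero, lamSeries_zero, pow_zero]
  | succ n ih =>
    rw [Nat.cast_succ, lamSeries_add, ih, lamSeries_of_isLine P (isLine_one P), map_one, one_mul,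
      pow_succ]

/-- `γ_t(e - m)` is the polynomial `Σ λ^i(e) t^i (1-t)^{m-i}` -/
lemma subst_lamSeries_sub (P : PosStructure K) {e : K} (he : e ∈ P.pos) :
    (lamSeries (e - ((P.aug e).toNat : K))).subst (phi K) =
      ∑ i ∈ Finset.range ((P.aug e).toNat + 1),
        C (LambdaOps.lam i e) * (X ^ i * (1 - X) ^ ((P.aug e).toNat - i)) := by
  set m := (P.aug e).toNat with hm
  have hphi := hasSubst_phi K
  -- λ_t(e) as a polynomial
  have hpe : lamSeries e = ((∑ i ∈ Finset.range (m + 1),
      Polynomial.C (LambdaOps.lam i e) * Polynomial.X ^ i : Polynomial K) : PowerSeries K) := by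
    ext n
    rw [coeff_lamSeries, Polynomial.coeff_coe, Polynomial.finset_sum_coeff]
    simp only [Polynomial.coeff_C_mul_X_pow]
    by_cases hn : n ≤ m
    · rw [Finset.sum_eq_single n]
      · rw [if_pos rfl]
      · intro b _ hbn
        rw [if_neg (fun h => hbn h.symm)]
      · intro h
        exact absurd (Finset.mem_range.mpr (by omega)) h
    · push Not at hn
      rw [P.lam_eq_zero e he n (by rw [← aug_toNat he]; exact_mod_cast hn)]
      symm
      apply Finset.sum_eq_zero
      intro b hb
      have := Finset.mem_range.mp hb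
      rw [if_neg (by omega)]
  have hSe : (lamSeries e).subst (phi K) =
      ∑ i ∈ Finset.range (m + 1), C (LambdaOps.lam i e) * (phi K) ^ i := by
    rw [hpe, subst_coe hphi, map_sum]
    apply Finset.sum_congr rfl
    intro i _
    rw [map_mul, Polynomial.aeval_C, map_pow, Polynomial.aeval_X]
    rfl
  have h1 : (lamSeries (e - (m : K))).subst (phi K) * (1 + phi K) ^ m =
      (lamSeries e).subst (phi K) := by
    have h := lamSeries_add (e - (m : K)) (m : K)
    rw [sub_add_cancel, lamSeries_natCast P] at h
    rw [h, subst_mul hphi, subst_pow hphi, subst_add hphi, subst_X hphi]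
    congr 3
    rw [← coe_substAlgHom hphi, map_one]
  have h2 : (lamSeries (e - (m : K))).subst (phi K) =
      (lamSeries e).subst (phi K) * (1 - X) ^ m := by
    rw [← h1, mul_assoc, ← mul_pow, one_add_phi_mul, one_pow, mul_one]
  rw [h2, hSe, Finset.sum_mul]
  apply Finset.sum_congr rfl
  intro i hi
  have him : i ≤ m := by
    have := Finset.mem_range.mp hi; omega
  have : (1 - X : PowerSeries K) ^ m = (1 - X) ^ i * (1 - X) ^ (m - i) := by
    rw [← pow_add]; congr 1; omega
  rw [this, mul_assoc, ← mul_assoc ((phi K) ^ i), ← mul_pow, phi_mul]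

end series

/-- For a positive element e of augmentation m in a λ-ring with positive structure, the polynomials
Σ_{i=0}^{m} γ^i(e − m) t^(m−i) and Σ_{i=0}^{m} λ^i(e) (t − 1)^(m−i) are equal. -/
theorem result (K : Type u) [CommRing K] [LambdaRing.LambdaOps K] (P : LambdaRing.PosStructure K) (e : K) (he : e ∈ P.pos) :
    (∑ i ∈ range ((P.aug e).toNat + 1),
        Polynomial.C (LambdaRing.gamma i (e - ((P.aug e).toNat : K))) * Polynomial.X ^ ((P.aug e).toNat - i)) =
      ∑ i ∈ range ((P.aug e).toNat + 1),
        Polynomial.C (LambdaRing.LambdaOps.lam i e) * (Polynomial.X - 1) ^ ((P.aug e).toNat - i) := by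
  set m := (P.aug e).toNat with hm
  set A : Polynomial K := ∑ i ∈ range (m + 1),
    Polynomial.C (LambdaRing.LambdaOps.lam i e) * (Polynomial.X ^ i * (1 - Polynomial.X) ^ (m - i))
    with hA
  have hcoe : (A : PowerSeries K) = (lamSeries (e - (m : K))).subst (phi K) := by
    rw [subst_lamSeries_sub P he, hA, ← Polynomial.coeToPowerSeries.ringHom_apply, map_sum]
    apply Finset.sum_congr rfl
    intro i _
    simp [hm]
  have hgam : ∀ i, LambdaRing.gamma i (e - (m : K)) = A.coeff i := by
    intro i
    rw [gamma_eq_coeff, ← hcoe, Polynomial.coeff_coe]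
  simp only [hgam]
  rw [← reflect_eq_sum m A (natDegree_sum_le m _), hA, reflect_sum]

end Groth.Agent.S3290
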