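import Groth.Statements.S3296
import Groth.Agent.Lib.Helper17.LambdaEigen

set_option autoImplicit false
universe u
open Finset
open TensorProduct
open LambdaRing

namespace Groth.Agent.S3296

open Groth.Agent.Lib.Helper17.Lam

/-- the eigenspace of `Ψ_j` for `j^m` is contained in that of `Ψ_l` for `l^m` -/
lemma eigen_le {K : Type u} [CommRing K] [LambdaRing.LambdaOps K] {P : LambdaRing.PosStructure K}
    (hK : LambdaRing.HasSplitting K P) {d : ℕ} (hd : LambdaRing.gammaFiltration P (d + 1) = ⊥)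
    {j l : ℕ} (hj : 2 ≤ j)
    {Ψj Ψl : ℚ ⊗[ℤ] K →ₗ[ℚ] ℚ ⊗[ℤ] K}
    (hΨj : ∀ x : K, Ψj (1 ⊗ₜ[ℤ] x) = 1 ⊗ₜ[ℤ] LambdaRing.adams P j x)
    (hΨl : ∀ x : K, Ψl (1 ⊗ₜ[ℤ] x) = 1 ⊗ₜ[ℤ] LambdaRing.adams P l x) (m : ℕ) :
    Module.End.eigenspace Ψj ((j : ℚ) ^ m) ≤ Module.End.eigenspace Ψl ((l : ℚ) ^ m) := by
  have hcomm : ∀ v, Ψj (Ψl v) = Ψl (Ψj v) := by
    intro v
    induction v using TensorProduct.induction_on with
    | zero => simp
    | tmul q x =>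
      have h : q ⊗ₜ[ℤ] x = q • ((1 : ℚ) ⊗ₜ[ℤ] x) := by
        rw [TensorProduct.smul_tmul', smul_eq_mul, mul_one]
      rw [h, map_smul, map_smul, map_smul, map_smul, hΨl, hΨj, hΨj, hΨl, adams_adams hK,
        adams_adams hK, mul_comm]
    | add v w hv hw => rw [map_add, map_add, map_add, map_add, hv, hw]
  intro v hv
  have hvQ := eigen_le_QF hK hΨj hj m hv
  have hv' := Module.End.mem_eigenspace_iff.mp hv
  have hw1 := Psi_sub_mem hK hΨl m hvQ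
  have hw2 : Ψl v - ((l : ℚ) ^ m) • v ∈ Module.End.eigenspace Ψj ((j : ℚ) ^ m) := by
    rw [Module.End.mem_eigenspace_iff, map_sub, map_smul, hcomm, hv', map_smul, smul_sub,
      smul_comm]
  have h0 : Ψl v - ((l : ℚ) ^ m) • v ∈
      Module.End.eigenspace Ψj ((j : ℚ) ^ m) ⊓ QF P (m + 1) := ⟨hw2, hw1⟩
  rw [eigen_inf_QF hK hΨj hj hd m, Submodule.mem_bot] at h0
  rw [Module.End.mem_eigenspace_iff]
  exact sub_eq_zero.mp h0

/-- Let K be a λ-ring with positive structure having the splitting property, whose γ-filtration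
satisfies F^(d+1) K = 0. For j ≥ 2 let Ψ_j be the ℚ-linear endomorphism of ℚ ⊗ K induced by ψ^j.
Then ℚ ⊗ K is the sum of the eigenspaces of Ψ_j for the eigenvalues j^m, 0 ≤ m ≤ d, and the
eigenspace for j^m does not depend on j. -/
theorem result (K : Type u) [CommRing K] [LambdaRing.LambdaOps K] (P : LambdaRing.PosStructure K) (hK : LambdaRing.HasSplitting K P) (d : ℕ)
    (hd : LambdaRing.gammaFiltration P (d + 1) = ⊥)
    (j l : ℕ) (hj : 2 ≤ j) (hl : 2 ≤ l)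
    (Ψj Ψl : ℚ ⊗[ℤ] K →ₗ[ℚ] ℚ ⊗[ℤ] K)
    (hΨj : ∀ x : K, Ψj (1 ⊗ₜ[ℤ] x) = 1 ⊗ₜ[ℤ] LambdaRing.adams P j x)
    (hΨl : ∀ x : K, Ψl (1 ⊗ₜ[ℤ] x) = 1 ⊗ₜ[ℤ] LambdaRing.adams P l x) :
    (⨆ m ∈ range (d + 1), Module.End.eigenspace Ψj ((j : ℚ) ^ m)) = ⊤ ∧
    ∀ m : ℕ, Module.End.eigenspace Ψj ((j : ℚ) ^ m) = Module.End.eigenspace Ψl ((l : ℚ) ^ m) := by
  refine ⟨iSup_eigen_eq_top hK hΨj hj hd, fun m => le_antisymm ?_ ?_⟩
  · exact eigen_le hK hd hj hΨj hΨl m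
  · exact eigen_le hK hd hl hΨl hΨj m

end Groth.Agent.S3296
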