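import Groth.Statements.S3350
-- import your own Groth.Agent.* helpers here

set_option autoImplicit false
open Finset
open Models Models.NumericalType

namespace Groth.Agent.S3350

/-- Classification of proper subgraphs with two vertices: Let T be a numerical type on n > 2 indices and
i ≠ j two (-2)-indices (g = 0 and a_ii = -2 w_i, a_jj = -2 w_j) with a_ij > 0. Then, after possibly
exchanging i and j, one of the following holds with w = w_i: (A2) w_j = w, a_ij = w, 2 m_i ≥ m_j and
2 m_j ≥ m_i; (B2) w_j = 2w, a_ij = 2w, m_i ≥ m_j and 2 m_j ≥ m_i; (G2) w_j = 3w, a_ij = 3w, 2 m_i ≥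
3 m_j and 2 m_j ≥ m_i. -/
theorem result {n : ℕ} (T : Models.NumericalType n) (hn : 2 < n) (i j : Fin n)
    (hij : i ≠ j) (hi : T.IsMinusTwo i) (hj : T.IsMinusTwo j) (hpos : 0 < T.a i j) :
    ∃ i' j' : Fin n, ((i' = i ∧ j' = j) ∨ (i' = j ∧ j' = i)) ∧
      ((T.w j' = T.w i' ∧ T.a i' j' = T.w i' ∧ T.m j' ≤ 2 * T.m i' ∧ T.m i' ≤ 2 * T.m j') ∨
        (T.w j' = 2 * T.w i' ∧ T.a i' j' = 2 * T.w i' ∧ T.m j' ≤ T.m i' ∧ T.m i' ≤ 2 * T.m j') ∨
        (T.w j' = 3 * T.w i' ∧ T.a i' j' = 3 * T.w i' ∧ 3 * T.m j' ≤ 2 * T.m i' ∧ T.m i' ≤ 2 * T.m j')) := by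
  classical
  obtain ⟨hgi, haii⟩ := hi
  obtain ⟨hgj, hajj⟩ := hj
  have hmi := T.m_pos i
  have hmj := T.m_pos j
  have hwi := T.w_pos i
  have hwj := T.w_pos j
  have hsymm : T.a j i = T.a i j := T.symm.apply i j
  -- split a row sum
  have split : ∀ (f : Fin n → ℤ), ∑ k, f k = f i + f j + ∑ k ∈ (univ.erase i).erase j, f k := by
    intro f
    have h1 : f i + ∑ k ∈ univ.erase i, f k = ∑ k, f k := Finset.add_sum_erase _ f (mem_univ i)
    have hjmem : j ∈ univ.erase i := by simp [Ne.symm hij]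
    have h2 : f j + ∑ k ∈ (univ.erase i).erase j, f k = ∑ k ∈ univ.erase i, f k :=
      Finset.add_sum_erase _ f hjmem
    linarith
  have hrow : ∀ l, ∑ k, T.a l k * T.m k = 0 := by
    intro l
    have h := congrFun T.mulVec_m l
    simpa [Matrix.mulVec, dotProduct] using h
  set ri := ∑ k ∈ (univ.erase i).erase j, T.a i k * T.m k with hri
  set rj := ∑ k ∈ (univ.erase i).erase j, T.a j k * T.m k with hrj
  have hri_nonneg : 0 ≤ ri := by
    apply Finset.sum_nonneg
    intro k hk
    simp only [mem_erase, mem_univ, and_true] at hk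
    exact mul_nonneg (T.offDiag_nonneg i k (Ne.symm hk.2)) (T.m_pos k).le
  have hrj_nonneg : 0 ≤ rj := by
    apply Finset.sum_nonneg
    intro k hk
    simp only [mem_erase, mem_univ, and_true] at hk
    exact mul_nonneg (T.offDiag_nonneg j k (Ne.symm hk.1)) (T.m_pos k).le
  have hrowi : T.a i i * T.m i + T.a i j * T.m j + ri = 0 := by
    have := hrow i
    rw [split] at this
    exact this
  have hrowj : T.a j i * T.m i + T.a j j * T.m j + rj = 0 := by
    have := hrow j
    rw [split] at this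
    exact this
  obtain ⟨p, hp⟩ := T.w_dvd i j
  obtain ⟨q, hq⟩ := T.w_dvd j i
  rw [hsymm] at hq
  rw [hsymm] at hrowj
  have hppos : 0 < p := by
    by_contra h
    push Not at h
    have : T.w i * p ≤ 0 := mul_nonpos_of_nonneg_of_nonpos hwi.le h
    omega
  have hqpos : 0 < q := by
    by_contra h
    push Not at h
    have : T.w j * q ≤ 0 := mul_nonpos_of_nonneg_of_nonpos hwj.le h
    omega
  -- the key equalities
  have hri_eq : ri = T.w i * (2 * T.m i - p * T.m j) := by
    rw [haii, hp] at hrowi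
    linarith
  have hrj_eq : rj = T.w j * (2 * T.m j - q * T.m i) := by
    rw [hajj, hq] at hrowj
    linarith
  have hI : 0 ≤ 2 * T.m i - p * T.m j := by
    by_contra h
    push Not at h
    have : T.w i * (2 * T.m i - p * T.m j) < 0 := mul_neg_of_pos_of_neg hwi h
    omega
  have hJ : 0 ≤ 2 * T.m j - q * T.m i := by
    by_contra h
    push Not at h
    have : T.w j * (2 * T.m j - q * T.m i) < 0 := mul_neg_of_pos_of_neg hwj h
    omega
  -- not both rests vanish, by connectedness
  have hnot : ¬ (ri = 0 ∧ rj = 0) := by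
    rintro ⟨h1, h2⟩
    have hIne : ({i, j} : Finset (Fin n)) ≠ univ := by
      intro h
      have hc := congrArg Finset.card h
      rw [Finset.card_univ, Fintype.card_fin, Finset.card_pair hij] at hc
      omega
    obtain ⟨i', hi', k, hk, hne⟩ := T.connected {i, j} ⟨i, by simp⟩ hIne
    have hkmem : k ∈ (univ.erase i).erase j := by
      simp only [mem_insert, mem_singleton, not_or] at hk
      simp [hk.1, hk.2]
    simp only [mem_insert, mem_singleton] at hi'
    have z1 := (Finset.sum_eq_zero_iff_of_nonneg (fun k hk => by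
      simp only [mem_erase, mem_univ, and_true] at hk
      exact mul_nonneg (T.offDiag_nonneg i k (Ne.symm hk.2)) (T.m_pos k).le)).mp h1 k hkmem
    have z2 := (Finset.sum_eq_zero_iff_of_nonneg (fun k hk => by
      simp only [mem_erase, mem_univ, and_true] at hk
      exact mul_nonneg (T.offDiag_nonneg j k (Ne.symm hk.1)) (T.m_pos k).le)).mp h2 k hkmem
    have hmk := T.m_pos k
    rcases hi' with rfl | rfl
    · rcases mul_eq_zero.mp z1 with h | h
      · exact hne h
      · omega
    · rcases mul_eq_zero.mp z2 with h | h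
      · exact hne h
      · omega
  -- p * q ≤ 3
  have hpq : p * q ≤ 3 := by
    by_contra h
    push Not at h
    have h4 : 4 ≤ p * q := h
    have hmm : 0 < T.m i * T.m j := mul_pos hmi hmj
    -- (2 mi)(2 mj) ≥ (p mj)(q mi)
    have hprod : (p * T.m j) * (q * T.m i) ≤ (2 * T.m i) * (2 * T.m j) := by
      apply mul_le_mul (by linarith) (by linarith)
      · exact mul_nonneg hqpos.le hmi.le
      · linarith
    have h5 : p * q * (T.m i * T.m j) ≤ 4 * (T.m i * T.m j) := by nlinarith
    have h6 : p * q ≤ 4 := le_of_mul_le_mul_right h5 hmm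
    have h7 : p * q = 4 := le_antisymm h6 h4
    apply hnot
    have e1 : 2 * T.m i - p * T.m j = 0 := by
      by_contra hne
      have hlt : p * T.m j < 2 * T.m i := by omega
      have : (p * T.m j) * (q * T.m i) < (2 * T.m i) * (2 * T.m j) := by
        apply mul_lt_mul hlt (by linarith) (mul_pos hqpos hmi) (by linarith)
      nlinarith
    have e2 : 2 * T.m j - q * T.m i = 0 := by
      by_contra hne
      have hlt : q * T.m i < 2 * T.m j := by omega
      have : (p * T.m j) * (q * T.m i) < (2 * T.m i) * (2 * T.m j) := by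
        apply mul_lt_mul' (by linarith) hlt (mul_nonneg hqpos.le hmi.le) (by linarith)
      nlinarith
    rw [hri_eq, hrj_eq, e1, e2]
    simp
  have hp3 : p ≤ 3 := by nlinarith
  have hq3 : q ≤ 3 := by nlinarith
  have hp1 : 1 ≤ p := hppos
  have hq1 : 1 ≤ q := hqpos
  -- w i * p = w j * q
  have hpw : T.w i * p = T.w j * q := by rw [← hp, ← hq]
  interval_cases p <;> interval_cases q
  · -- (1,1)
    refine ⟨i, j, Or.inl ⟨rfl, rfl⟩, Or.inl ⟨?_, ?_, ?_, ?_⟩⟩ <;> omega
  · -- (1,2): swap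
    refine ⟨j, i, Or.inr ⟨rfl, rfl⟩, Or.inr (Or.inl ⟨?_, ?_, ?_, ?_⟩)⟩ <;> omega
  · -- (1,3): swap
    refine ⟨j, i, Or.inr ⟨rfl, rfl⟩, Or.inr (Or.inr ⟨?_, ?_, ?_, ?_⟩)⟩ <;> omega
  · -- (2,1)
    refine ⟨i, j, Or.inl ⟨rfl, rfl⟩, Or.inr (Or.inl ⟨?_, ?_, ?_, ?_⟩)⟩ <;> omega
  · exfalso; omega
  · exfalso; omega
  · -- (3,1)
    refine ⟨i, j, Or.inl ⟨rfl, rfl⟩, Or.inr (Or.inr ⟨?_, ?_, ?_, ?_⟩)⟩ <;> omega
  · exfalso; omega
  · exfalso; omega

end Groth.Agent.S3350
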