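import Groth.Statements.S3351
import Mathlib.LinearAlgebra.FreeModule.PID
import Mathlib.LinearAlgebra.Matrix.ToLinearEquiv
import Mathlib.LinearAlgebra.Matrix.Adjugate
import Mathlib.Algebra.Module.Projective
import Mathlib.Algebra.Module.Torsion.Free

set_option autoImplicit false
open Models

namespace Groth.Agent.S3351

section aux

variable {L : Type} [AddCommGroup L] [Module.Finite ℤ L] [Module.Free ℤ L]

/-- finite index: a nonzero multiple of every vector decomposes along `A` and its orthogonal. -/
lemma exists_smul_sub_mem_orthogonal (B : LinearMap.BilinForm ℤ L)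
    (hpos : ∀ x, x ≠ 0 → 0 < B x x) (A : Submodule ℤ L) (y : L) :
    ∃ c : ℤ, c ≠ 0 ∧ ∃ a ∈ A, c • y - a ∈ B.orthogonal A := by
  classical
  obtain ⟨n, v⟩ := Submodule.basisOfPid (Module.Free.chooseBasis ℤ L) A
  let u : Fin n → L := fun i => (v i : L)
  have hu_mem : ∀ i, u i ∈ A := fun i => (v i).2
  have hspan : Submodule.span ℤ (Set.range u) = A := by
    have : Set.range u = A.subtype '' Set.range v := by
      rw [← Set.range_comp]; rfl
    rw [this, ← Submodule.map_span, v.span_eq, Submodule.map_top, Submodule.range_subtype]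
  have hli : LinearIndependent ℤ u :=
    v.linearIndependent.map' A.subtype (Submodule.ker_subtype A)
  have horth : ∀ z : L, (∀ i, B (u i) z = 0) → z ∈ B.orthogonal A := by
    intro z hz
    rw [LinearMap.BilinForm.mem_orthogonal_iff]
    intro m hm
    rw [← hspan] at hm
    induction hm using Submodule.span_induction with
    | mem x hx =>
      obtain ⟨i, rfl⟩ := hx
      exact hz i
    | zero => simp
    | add x y _ _ hx hy => rw [LinearMap.map_add₂, hx, hy, add_zero]
    | smul c x _ hx => rw [LinearMap.map_smul₂, hx, smul_zero]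
  let G : Matrix (Fin n) (Fin n) ℤ := fun i j => B (u i) (u j)
  have hcomb : ∀ (t : Fin n → ℤ) (i : Fin n), B (u i) (∑ j, t j • u j) = (G.mulVec t) i := by
    intro t i
    simp only [map_sum, map_smul, smul_eq_mul, Matrix.mulVec, dotProduct, G]
    apply Finset.sum_congr rfl
    intro j _
    ring
  have hdet : G.det ≠ 0 := by
    intro h0
    obtain ⟨t, ht, hGt⟩ := Matrix.exists_mulVec_eq_zero_iff.mpr h0
    have ha : (∑ j, t j • u j) ≠ 0 := by
      intro h
      apply ht
      funext j
      exact Fintype.linearIndependent_iff.mp hli t h j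
    have hBa : ∀ i, B (u i) (∑ j, t j • u j) = 0 := by
      intro i
      rw [hcomb, hGt]; rfl
    have h1 : B (∑ j, t j • u j) (∑ j, t j • u j) = 0 := by
      have : B (∑ i, t i • u i) (∑ j, t j • u j) = ∑ i, t i * B (u i) (∑ j, t j • u j) := by
        rw [LinearMap.map_sum₂]
        apply Finset.sum_congr rfl
        intro i _
        rw [LinearMap.map_smul₂, smul_eq_mul]
      rw [this]
      apply Finset.sum_eq_zero
      intro i _
      rw [hBa i, mul_zero]
    exact absurd h1 (ne_of_gt (hpos _ ha))
  refine ⟨G.det, hdet, ∑ j, (G.adjugate.mulVec fun j => B (u j) y) j • u j, ?_, ?_⟩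
  · exact Submodule.sum_mem _ fun j _ => Submodule.smul_mem _ _ (hu_mem j)
  · apply horth
    intro i
    rw [map_sub, hcomb, Matrix.mulVec_mulVec, Matrix.mul_adjugate, Matrix.smul_mulVec,
      Matrix.one_mulVec, map_smul]
    simp

omit [Module.Free ℤ L] in
/-- functionals extend from a saturated submodule -/
lemma exists_extension (S : Submodule ℤ L)
    (hS : ∀ (c : ℤ) (x : L), c ≠ 0 → c • x ∈ S → x ∈ S) (ψ : Module.Dual ℤ ↥S) :
    ∃ φ : Module.Dual ℤ L, φ ∘ₗ S.subtype = ψ := by
  have : Module.IsTorsionFree ℤ (L ⧸ S) := by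
    apply Module.IsTorsionFree.of_smul_eq_zero
    intro c q hq
    by_cases hc : c = 0
    · exact Or.inl hc
    · right
      obtain ⟨x, rfl⟩ := Submodule.Quotient.mk_surjective S q
      rw [← Submodule.Quotient.mk_smul, Submodule.Quotient.mk_eq_zero] at hq
      rw [Submodule.Quotient.mk_eq_zero]
      exact hS c x hc hq
  have : Module.Free ℤ (L ⧸ S) := Module.free_of_finite_type_torsion_free'
  obtain ⟨g, hg⟩ := LinearMap.exists_rightInverse_of_surjective S.mkQ (Submodule.range_mkQ S)
  -- retraction onto S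
  have hmem : ∀ x : L, x - g (S.mkQ x) ∈ S := by
    intro x
    rw [← Submodule.Quotient.mk_eq_zero S, Submodule.Quotient.mk_sub]
    have := LinearMap.congr_fun hg (S.mkQ x)
    simp only [LinearMap.coe_comp, Function.comp_apply, LinearMap.id_coe, id_eq] at this
    rw [← Submodule.mkQ_apply, ← Submodule.mkQ_apply, this, sub_self]
  let r : L →ₗ[ℤ] ↥S := LinearMap.codRestrict S (LinearMap.id - g ∘ₗ S.mkQ) (by
    intro x
    simpa using hmem x)
  refine ⟨ψ ∘ₗ r, ?_⟩
  apply LinearMap.ext
  intro s
  have : r s = s := by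
    apply Subtype.ext
    simp only [r, LinearMap.codRestrict_apply, LinearMap.sub_apply, LinearMap.id_coe, id_eq,
      LinearMap.coe_comp, Function.comp_apply]
    have h0 : S.mkQ (s : L) = 0 := by
      rw [Submodule.mkQ_apply, Submodule.Quotient.mk_eq_zero]; exact s.2
    rw [h0, map_zero, sub_zero]
  simp [this]

end aux

/-- Let L be a finite free Z-module with a positive definite symmetric integral bilinear form, A ⊆ L a
submodule with L/A torsion free and B the orthogonal complement of A. Write M^# for the dual lattice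
of a sublattice M, identified here with the Z-dual Hom(M, Z) through the form. Then the natural maps
L/(A ⊕ B) → B^#/B and L/(A ⊕ B) → A^#/A are injective: an element x of L whose functional ⟨x, -⟩ on
B (resp. on A) is represented by an element of B (resp. of A) lies in A ⊕ B. Moreover the
restriction maps L^# → B^# and L^# → A^# are surjective, so that the cokernels of the two injections
are quotients of L^#/L. -/
theorem result {L : Type} [AddCommGroup L] [Module.Finite ℤ L] [Module.Free ℤ L]
    (B : LinearMap.BilinForm ℤ L) (hsymm : B.IsSymm) (hpos : ∀ x, x ≠ 0 → 0 < B x x)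
    (A : Submodule ℤ L) (htf : ∀ (c : ℤ) (x : L), c ≠ 0 → c • x ∈ A → x ∈ A) :
    (∀ x : L, (∃ b ∈ B.orthogonal A, ∀ b' ∈ B.orthogonal A, B x b' = B b b') → x ∈ A ⊔ B.orthogonal A) ∧
      (∀ x : L, (∃ a ∈ A, ∀ a' ∈ A, B x a' = B a a') → x ∈ A ⊔ B.orthogonal A) ∧
      (∀ ψ : Module.Dual ℤ ↥(B.orthogonal A), ∃ φ : Module.Dual ℤ L, φ ∘ₗ (B.orthogonal A).subtype = ψ) ∧
      (∀ ψ : Module.Dual ℤ ↥A, ∃ φ : Module.Dual ℤ L, φ ∘ₗ A.subtype = ψ) := by
  have hsat : ∀ (c : ℤ) (x : L), c ≠ 0 → c • x ∈ B.orthogonal A → x ∈ B.orthogonal A := by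
    intro c x hc hx
    rw [LinearMap.BilinForm.mem_orthogonal_iff] at hx ⊢
    intro n hn
    have := hx n hn
    rw [map_smul, smul_eq_mul] at this
    rcases mul_eq_zero.mp this with h | h
    · exact absurd h hc
    · exact h
  have hdouble : ∀ y : L, (∀ b' ∈ B.orthogonal A, B y b' = 0) → y ∈ A := by
    intro y hy
    obtain ⟨c, hc, a, ha, hb⟩ := exists_smul_sub_mem_orthogonal B hpos A y
    have h0 : B (c • y - a) (c • y - a) = 0 := by
      have h1 : B (c • y) (c • y - a) = 0 := by
        rw [LinearMap.map_smul₂, hy _ hb, smul_zero]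
      have h2 : B a (c • y - a) = 0 := (LinearMap.BilinForm.mem_orthogonal_iff.mp hb) a ha
      rw [LinearMap.map_sub₂, h1, h2, sub_zero]
    have h3 : c • y - a = 0 := by
      by_contra hne
      exact absurd h0 (ne_of_gt (hpos _ hne))
    have h4 : c • y = a := sub_eq_zero.mp h3
    exact htf c y hc (h4 ▸ ha)
  refine ⟨?_, ?_, ?_, ?_⟩
  · rintro x ⟨b, hb, hxb⟩
    have hy : x - b ∈ A := by
      apply hdouble
      intro b' hb'
      rw [LinearMap.map_sub₂, hxb b' hb', sub_self]
    have : x = (x - b) + b := by abel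
    rw [this]
    exact Submodule.add_mem_sup hy hb
  · rintro x ⟨a, ha, hxa⟩
    have hy : x - a ∈ B.orthogonal A := by
      rw [LinearMap.BilinForm.mem_orthogonal_iff]
      intro n hn
      rw [map_sub, hsymm.eq n x, hsymm.eq n a, hxa n hn, sub_self]
    have : x = a + (x - a) := by abel
    rw [this]
    exact Submodule.add_mem_sup ha hy
  · exact fun ψ => exists_extension _ hsat ψ
  · exact fun ψ => exists_extension _ htf ψ

end Groth.Agent.S3351
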