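import Groth.Statements.S3352
import Mathlib.LinearAlgebra.FreeModule.PID
import Mathlib.LinearAlgebra.Matrix.ToLinearEquiv
import Mathlib.LinearAlgebra.Matrix.Adjugate
import Mathlib.LinearAlgebra.Isomorphisms

set_option autoImplicit false
open Models

namespace Groth.Agent.S3352

section gram

variable {L : Type} [AddCommGroup L] [Module.Finite ℤ L] [Module.Free ℤ L]

/-- For a positive definite form, every functional on a submodule becomes, after multiplication by
a nonzero integer, the pairing with an element of the submodule. -/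
lemma exists_smul_eq_form (B : LinearMap.BilinForm ℤ L)
    (hpos : ∀ x, x ≠ 0 → 0 < B x x) (A : Submodule ℤ L) (ψ : Module.Dual ℤ ↥A) :
    ∃ c : ℤ, c ≠ 0 ∧ ∃ a ∈ A, ∀ a' : ↥A, B (a' : L) a = c * ψ a' := by
  classical
  obtain ⟨n, v⟩ := Submodule.basisOfPid (Module.Free.chooseBasis ℤ L) A
  let u : Fin n → L := fun i => (v i : L)
  have hu_mem : ∀ i, u i ∈ A := fun i => (v i).2
  have hli : LinearIndependent ℤ u :=
    v.linearIndependent.map' A.subtype (Submodule.ker_subtype A)
  let G : Matrix (Fin n) (Fin n) ℤ := fun i j => B (u i) (u j)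
  have hcomb : ∀ (t : Fin n → ℤ) (i : Fin n), B (u i) (∑ j, t j • u j) = (G.mulVec t) i := by
    intro t i
    simp only [map_sum, map_smul, smul_eq_mul, Matrix.mulVec, dotProduct, G]
    apply Finset.sum_congr rfl
    intro j _
    ring
  have hdet : G.det ≠ 0 := by
    intro h0
    obtain ⟨t, ht, hGt⟩ := Matrix.exists_mulVec_eq_zero_iff.mpr h0
    have ha : (∑ j, t j • u j) ≠ 0 := by
      intro h
      apply ht
      funext j
      exact Fintype.linearIndependent_iff.mp hli t h j
    have hBa : ∀ i, B (u i) (∑ j, t j • u j) = 0 := by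
      intro i
      rw [hcomb, hGt]; rfl
    have h1 : B (∑ j, t j • u j) (∑ j, t j • u j) = 0 := by
      have : B (∑ i, t i • u i) (∑ j, t j • u j) = ∑ i, t i * B (u i) (∑ j, t j • u j) := by
        rw [LinearMap.map_sum₂]
        apply Finset.sum_congr rfl
        intro i _
        rw [LinearMap.map_smul₂, smul_eq_mul]
      rw [this]
      apply Finset.sum_eq_zero
      intro i _
      rw [hBa i, mul_zero]
    exact absurd h1 (ne_of_gt (hpos _ ha))
  refine ⟨G.det, hdet, ∑ j, (G.adjugate.mulVec fun j => ψ (v j)) j • u j, ?_, ?_⟩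
  · exact Submodule.sum_mem _ fun j _ => Submodule.smul_mem _ _ (hu_mem j)
  · have key : (B.flip (∑ j, (G.adjugate.mulVec fun j => ψ (v j)) j • u j)) ∘ₗ A.subtype
        = G.det • ψ := by
      apply v.ext
      intro k
      simp only [LinearMap.coe_comp, Submodule.coe_subtype, Function.comp_apply,
        LinearMap.smul_apply, smul_eq_mul]
      change B (u k) _ = _
      rw [hcomb, Matrix.mulVec_mulVec, Matrix.mul_adjugate, Matrix.smul_mulVec,
        Matrix.one_mulVec]
      simp
    intro a'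
    have := LinearMap.congr_fun key a'
    simpa using this

end gram

/-- Let L₀, L₁ be finite free ℤ-modules with positive definite symmetric integral bilinear forms, the
form on L₀ unimodular (x ↦ ⟨x, −⟩ is a bijection L₀ → Hom(L₀, ℤ)), and let d : L₀ → L₁ and d* : L₁ →
L₀ be adjoint. Identify Im(d)^# (the dual lattice of Im(d)) with Hom(Im(d), ℤ) through the form on
L₁. Then there is an isomorphism Φ from the torsion subgroup of Coker(d* d) onto Im(d)^#/Im(d),
determined by: for x ∈ L₀ whose class is torsion, Φ[x] is the class of the functional d(y') ↦ ⟨x,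
y'⟩ (equivalently the class of (1/a)·d(y) when a·x = d* d(y)). -/
theorem result {L₀ L₁ : Type} [AddCommGroup L₀] [AddCommGroup L₁]
    [Module.Finite ℤ L₀] [Module.Free ℤ L₀] [Module.Finite ℤ L₁] [Module.Free ℤ L₁]
    (B₀ : LinearMap.BilinForm ℤ L₀) (B₁ : LinearMap.BilinForm ℤ L₁) (h₀s : B₀.IsSymm) (h₁s : B₁.IsSymm)
    (h₀p : ∀ x, x ≠ 0 → 0 < B₀ x x) (h₁p : ∀ x, x ≠ 0 → 0 < B₁ x x) (huni : Function.Bijective B₀)
    (d : L₀ →ₗ[ℤ] L₁) (ds : L₁ →ₗ[ℤ] L₀) (hadj : ∀ x y, B₁ (d x) y = B₀ x (ds y)) :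
    ∃ Φ : ↥(Submodule.torsion ℤ (L₀ ⧸ LinearMap.range (ds ∘ₗ d))) ≃ₗ[ℤ]
        (Module.Dual ℤ ↥(LinearMap.range d) ⧸
          LinearMap.range ((B₁.compl₂ (LinearMap.range d).subtype) ∘ₗ (LinearMap.range d).subtype)),
      ∀ (x : L₀) (hx : Submodule.Quotient.mk x ∈ Submodule.torsion ℤ (L₀ ⧸ LinearMap.range (ds ∘ₗ d)))
        (ψ : Module.Dual ℤ ↥(LinearMap.range d)),
        (∀ y' : L₀, ψ ⟨d y', LinearMap.mem_range_self d y'⟩ = B₀ x y') →
          Φ ⟨Submodule.Quotient.mk x, hx⟩ = Submodule.Quotient.mk ψ := by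
  classical
  -- notation
  set I : Submodule ℤ L₁ := LinearMap.range d with hI
  set R : Submodule ℤ L₀ := LinearMap.range (ds ∘ₗ d) with hR
  set ι : ↥I →ₗ[ℤ] Module.Dual ℤ ↥I := (B₁.compl₂ I.subtype) ∘ₗ I.subtype with hι
  -- unimodularity as an equivalence
  let e₀ : L₀ ≃ₗ[ℤ] Module.Dual ℤ L₀ := LinearEquiv.ofBijective B₀ huni
  let d' : L₀ →ₗ[ℤ] ↥I := d.rangeRestrict
  have hd'surj : Function.Surjective d' := d.surjective_rangeRestrict
  let θ : Module.Dual ℤ ↥I →ₗ[ℤ] L₀ := e₀.symm.toLinearMap ∘ₗ d'.dualMap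
  have hθ : ∀ (ψ : Module.Dual ℤ ↥I) (y' : L₀), B₀ (θ ψ) y' = ψ (d' y') := by
    intro ψ y'
    have : e₀ (θ ψ) = d'.dualMap ψ := by
      simp only [θ, LinearMap.coe_comp, LinearEquiv.coe_coe, Function.comp_apply,
        LinearEquiv.apply_symm_apply]
    have h2 := LinearMap.congr_fun this y'
    simpa [e₀] using h2
  have hθuniq : ∀ (ψ : Module.Dual ℤ ↥I) (x : L₀), (∀ y', B₀ x y' = ψ (d' y')) → θ ψ = x := by
    intro ψ x hx
    apply huni.1
    apply LinearMap.ext
    intro y'
    rw [hθ, hx]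
  -- the basic computation
  have hcomp : ∀ z y' : L₀, B₀ (ds (d z)) y' = B₁ (d z) (d y') := by
    intro z y'
    rw [h₀s.eq, ← hadj, h₁s.eq]
  let Θ : Module.Dual ℤ ↥I →ₗ[ℤ] L₀ ⧸ R := R.mkQ ∘ₗ θ
  -- kernel
  have hker : LinearMap.ker Θ = LinearMap.range ι := by
    ext ψ
    simp only [LinearMap.mem_ker, Θ, LinearMap.coe_comp, Function.comp_apply,
      Submodule.mkQ_apply, Submodule.Quotient.mk_eq_zero, LinearMap.mem_range]
    constructor
    · rintro ⟨z, hz⟩
      refine ⟨d' z, ?_⟩
      apply LinearMap.ext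
      intro i
      obtain ⟨y', rfl⟩ := hd'surj i
      have h1 := hθ ψ y'
      rw [← hz] at h1
      simp only [LinearMap.coe_comp, Function.comp_apply] at h1
      rw [hcomp] at h1
      rw [← h1]
      rfl
    · rintro ⟨i, rfl⟩
      obtain ⟨z, rfl⟩ := hd'surj i
      refine ⟨z, ?_⟩
      symm
      apply hθuniq
      intro y'
      simp only [LinearMap.coe_comp, Function.comp_apply]
      rw [hcomp]
      rfl
  -- range
  have hrange : LinearMap.range Θ = Submodule.torsion ℤ (L₀ ⧸ R) := by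
    apply le_antisymm
    · rintro _ ⟨ψ, rfl⟩
      obtain ⟨c, hc, a, ha, hca⟩ := exists_smul_eq_form B₁ h₁p I ψ
      rw [Submodule.mem_torsion_iff]
      refine ⟨⟨c, mem_nonZeroDivisors_of_ne_zero hc⟩, ?_⟩
      change c • Θ ψ = 0
      rw [← map_smul, ← LinearMap.mem_ker, hker]
      refine ⟨⟨a, ha⟩, ?_⟩
      apply LinearMap.ext
      intro i
      have := hca i
      rw [h₁s.eq] at this
      simpa [ι] using this
    · intro q hq
      obtain ⟨x, rfl⟩ := Submodule.Quotient.mk_surjective R q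
      rw [Submodule.mem_torsion_iff] at hq
      obtain ⟨⟨c, hc⟩, hcx⟩ := hq
      have hc0 : c ≠ 0 := nonZeroDivisors.ne_zero hc
      change c • Submodule.Quotient.mk x = (0 : L₀ ⧸ R) at hcx
      rw [← Submodule.Quotient.mk_smul, Submodule.Quotient.mk_eq_zero] at hcx
      obtain ⟨z, hz⟩ := hcx
      simp only [LinearMap.coe_comp, Function.comp_apply] at hz
      -- B₀ x vanishes on ker d'
      have hvan : LinearMap.ker d' ≤ LinearMap.ker (B₀ x) := by
        intro y' hy'
        rw [LinearMap.mem_ker] at hy' ⊢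
        have hy0 : d y' = 0 := by
          have := congrArg Subtype.val hy'
          simpa [d'] using this
        have h1 : c * B₀ x y' = 0 := by
          have : B₀ (c • x) y' = c * B₀ x y' := by
            rw [LinearMap.map_smul₂, smul_eq_mul]
          rw [← this, ← hz, hcomp, hy0, map_zero]
        rcases mul_eq_zero.mp h1 with h | h
        · exact absurd h hc0
        · exact h
      let ψ : Module.Dual ℤ ↥I :=
        (Submodule.liftQ (LinearMap.ker d') (B₀ x) hvan) ∘ₗ
          (d'.quotKerEquivOfSurjective hd'surj).symm.toLinearMap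
      have hψ : ∀ y', ψ (d' y') = B₀ x y' := by
        intro y'
        have : (d'.quotKerEquivOfSurjective hd'surj).symm (d' y') =
            Submodule.Quotient.mk y' := by
          rw [LinearEquiv.symm_apply_eq, LinearMap.quotKerEquivOfSurjective_apply_mk]
        simp only [ψ, LinearMap.coe_comp, LinearEquiv.coe_coe, Function.comp_apply, this]
        rfl
      refine ⟨ψ, ?_⟩
      have : θ ψ = x := hθuniq ψ x (fun y' => (hψ y').symm)
      simp only [Θ, LinearMap.coe_comp, Function.comp_apply, this]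
      rfl
  let e1 := Θ.quotKerEquivRange
  let e2 := Submodule.quotEquivOfEq _ _ hker
  let e3 := LinearEquiv.ofEq _ _ hrange
  refine ⟨e3.symm ≪≫ₗ e1.symm ≪≫ₗ e2, ?_⟩
  intro x hx ψ hψ
  have hΘ : Θ ψ = Submodule.Quotient.mk x := by
    have : θ ψ = x := hθuniq ψ x (fun y' => (hψ y').symm)
    simp only [Θ, LinearMap.coe_comp, Function.comp_apply, this]
    rfl
  have h1 : e3.symm ⟨Submodule.Quotient.mk x, hx⟩ = ⟨Θ ψ, LinearMap.mem_range_self Θ ψ⟩ := by
    apply Subtype.ext
    simp only [e3, LinearEquiv.ofEq_symm, LinearEquiv.coe_ofEq_apply]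
    exact hΘ.symm
  simp only [LinearEquiv.trans_apply]
  rw [h1]
  simp only [e1, LinearMap.quotKerEquivRange_symm_apply_image]
  simp only [e2, Submodule.mkQ_apply, Submodule.quotEquivOfEq_mk]

end Groth.Agent.S3352
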