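import Groth.Statements.S3389
import Groth.Agent.Lib.Helper73.FibreDimGen2
-- import your own Groth.Agent.* helpers here

set_option autoImplicit false
open CategoryTheory AlgebraicGeometry
universe u
open EGA43

namespace Groth.Agent.S3389
open Groth.Agent.Lib.Helper73.SchemeDim

/-- Let Y be a quasi-compact scheme and f : X ⟶ Y a morphism of finite type. Then there is a natural
number n bounding the dimension of every fibre of f. -/
theorem result {X Y : Scheme.{u}} [CompactSpace Y] (f : X ⟶ Y)
    [LocallyOfFiniteType f] [QuasiCompact f] :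
    ∃ n : ℕ, ∀ y : Y, topologicalKrullDim ↥(f.fiber y) ≤ n := by
  haveI : CompactSpace X := QuasiCompact.compactSpace_of_compactSpace f
  obtain ⟨t, ht⟩ := isCompact_univ.elim_finite_subcover
    (fun n : ℕ => {x : X | FlatMor.fibreDimAt f x ≤ n})
    (fun n => isOpen_setOf_fibreDimAt_le f n) (by
      intro x _
      obtain ⟨-, m, -, -, -, hm⟩ := exists_specializes_trdeg_eq_fibreDimAt f x
      exact Set.mem_iUnion.mpr ⟨m, le_of_eq hm⟩)
  refine ⟨t.sup id, fun y => ?_⟩
  by_contra hcon
  have h1 : ((t.sup id + 1 : ℕ) : WithBot ℕ∞) ≤ topologicalKrullDim ↥(f.fiber y) := by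
    rw [not_le] at hcon
    generalize topologicalKrullDim ↥(f.fiber y) = D at hcon ⊢
    cases D with
    | bot => exact absurd hcon (not_lt_bot)
    | coe c =>
      have h : ((t.sup id : ℕ) : ℕ∞) < c := by exact_mod_cast hcon
      have : ((t.sup id + 1 : ℕ) : ℕ∞) ≤ c := by
        push_cast
        exact Order.add_one_le_of_lt h
      exact_mod_cast this
  obtain ⟨x, -, hx⟩ := (natCast_le_topologicalKrullDim_fiber_iff f y _).mp h1
  have hxt : x ∈ ⋃ i ∈ t, {x : X | FlatMor.fibreDimAt f x ≤ i} := ht (Set.mem_univ x)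
  simp only [Set.mem_iUnion] at hxt
  obtain ⟨m, hmt, hxm⟩ := hxt
  have hxm' : FlatMor.fibreDimAt f x ≤ m := hxm
  have hm : m ≤ t.sup id := Finset.le_sup (f := id) hmt
  have : ((t.sup id + 1 : ℕ) : WithBot ℕ∞) ≤ (m : WithBot ℕ∞) := hx.trans hxm'
  have : t.sup id + 1 ≤ m := by exact_mod_cast this
  omega

end Groth.Agent.S3389
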