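import Groth.Statements.S3390
import Groth.Agent.Lib.Helper73.ChevalleyScheme
-- import your own Groth.Agent.* helpers here

set_option autoImplicit false
open CategoryTheory AlgebraicGeometry
universe u
open EGA43

namespace Groth.Agent.S3390
open Groth.Agent.Lib.Helper73.SchemeDim Groth.Agent.Lib.Helper73.RelHt

/-- Let Y be an irreducible locally Noetherian scheme with generic point η and X an irreducible scheme,
and let f : X ⟶ Y be dominant and locally of finite type. Take a point x of X and write y = f x.
Suppose dim O_{X,x} = dim O_{Y,y} + dim O_{X_y,x}. Then the local dimension of the fibre X_y at x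
(FlatMor.fibreDimAt f x) equals the dimension of the generic fibre X_η (i.e. f is equidimensional at
x). -/
theorem result {X Y : Scheme.{u}} [IrreducibleSpace X] [IrreducibleSpace Y]
    [IsLocallyNoetherian Y] (f : X ⟶ Y) [LocallyOfFiniteType f] [IsDominant f] (x : X)
    (h : ringKrullDim (X.presheaf.stalk x) =
        ringKrullDim (Y.presheaf.stalk (f.base x)) + ringKrullDim ((f.fiber (f.base x)).presheaf.stalk (f.asFiber x))) :
    FlatMor.fibreDimAt f x = topologicalKrullDim ↥(f.fiber (genericPoint Y)) := by
  have hξ : ∀ x : X, genericPoint X ⤳ x := genericPoint_specializes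
  have hfη : f.base (genericPoint X) = genericPoint Y := by
    have h1 := (genericPoint_spec X).image f.continuous
    rw [Set.image_univ, f.denseRange.closure_range] at h1
    exact h1.eq (genericPoint_spec Y)
  obtain ⟨nξ, hnξ⟩ := exists_trdeg_residueField_eq_nat f (genericPoint X)
  have hfib := topologicalKrullDim_fiber_eq_of_top f (genericPoint X) hξ nξ hnξ
  rw [hfη] at hfib
  rw [hfib]
  have hη : ∀ y : Y, f.base (genericPoint X) ⤳ y := by
    intro y
    rw [hfη]
    exact genericPoint_specializes y
  apply le_antisymm _ (trdeg_le_fibreDimAt f (hξ x) nξ hnξ)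
  obtain ⟨nx, hnx⟩ := exists_trdeg_residueField_eq_nat f x
  obtain ⟨m, c₁, hm, -, -, -, -⟩ := exists_ltSeries_fibre_stalk f x
  rw [fibreDimAt_eq f x nx hnx, hm]
  rw [hm, ringKrullDim_stalk_eq_relHt (genericPoint X) hξ x,
    ringKrullDim_stalk_eq_relHt (f.base (genericPoint X)) hη (f.base x)] at h
  have h1 := (relHt_add_trdeg_aux f (hξ x) nξ nx hnξ hnx).1
  have hfin : relHt (f.base x) (f.base (genericPoint X)) < ⊤ := relHt_lt_top (hη _)
  obtain ⟨e, he⟩ := ENat.ne_top_iff_exists.mp hfin.ne
  rw [← he] at h h1
  have h' : relHt x (genericPoint X) = ((e + m : ℕ) : ℕ∞) := by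
    have : ((relHt x (genericPoint X) : ℕ∞) : WithBot ℕ∞) = (((e + m : ℕ) : ℕ∞) : WithBot ℕ∞) := by
      rw [h]; push_cast; rfl
    exact WithBot.coe_injective this
  rw [h'] at h1
  have h2 : e + m + nx ≤ e + nξ := by exact_mod_cast h1
  have h3 : m + nx ≤ nξ := by omega
  exact_mod_cast h3

end Groth.Agent.S3390
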