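import Groth.Statements.S3391
import Groth.Agent.Lib.Helper73.LocalFibreDim
-- import your own Groth.Agent.* helpers here

set_option autoImplicit false
open CategoryTheory AlgebraicGeometry
universe u
open EGA43

namespace Groth.Agent.S3391
open Groth.Agent.Lib.Helper73.SchemeDim Groth.Agent.Lib.Helper73.RelHt

/-- With X, Y, f, x, y as in the first assertion, suppose O_{Y,y} is universally catenary and the local
dimension at x of the fibre through x equals the dimension of the generic fibre. Then dim O_{X,x} =
dim O_{Y,y} + dim O_{X_y,x}. -/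
theorem result {X Y : Scheme.{u}} [IrreducibleSpace X] [IrreducibleSpace Y]
    [IsLocallyNoetherian Y] (f : X ⟶ Y) [LocallyOfFiniteType f] [IsDominant f] (x : X)
    (hcat : CAlg.IsUniversallyCatenary (Y.presheaf.stalk (f.base x)))
    (h : FlatMor.fibreDimAt f x = topologicalKrullDim ↥(f.fiber (genericPoint Y))) :
    ringKrullDim (X.presheaf.stalk x) =
        ringKrullDim (Y.presheaf.stalk (f.base x)) + ringKrullDim ((f.fiber (f.base x)).presheaf.stalk (f.asFiber x)) := by
  have hξ : ∀ x : X, genericPoint X ⤳ x := genericPoint_specializes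
  have hfη : f.base (genericPoint X) = genericPoint Y := by
    have h1 := (genericPoint_spec X).image f.continuous
    rw [Set.image_univ, f.denseRange.closure_range] at h1
    exact h1.eq (genericPoint_spec Y)
  obtain ⟨nξ, hnξ⟩ := exists_trdeg_residueField_eq_nat f (genericPoint X)
  have hfib := topologicalKrullDim_fiber_eq_of_top f (genericPoint X) hξ nξ hnξ
  rw [hfη] at hfib
  have hη : ∀ y : Y, f.base (genericPoint X) ⤳ y := by
    intro y
    rw [hfη]
    exact genericPoint_specializes y
  obtain ⟨nx, hnx⟩ := exists_trdeg_residueField_eq_nat f x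
  have h1 := (relHt_add_trdeg_aux f (hξ x) nξ nx hnξ hnx).2 hcat
  have h2 := fibreDimAt_eq f x nx hnx
  rw [h, hfib] at h2
  rw [ringKrullDim_stalk_eq_relHt (genericPoint X) hξ x,
    ringKrullDim_stalk_eq_relHt (f.base (genericPoint X)) hη (f.base x)]
  apply add_natCast_cancel nx
  rw [add_assoc, ← h2]
  exact_mod_cast h1

end Groth.Agent.S3391
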