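import Groth.Statements.S3447
import Groth.Agent.Lib.Helper73.AffineChains
import Mathlib.RingTheory.Ideal.KrullsHeightTheorem

set_option autoImplicit false
open CategoryTheory AlgebraicGeometry
universe u
open EGA43

namespace Groth.Agent.S3447

open Groth.Agent.Lib.Helper73.SchemeDim Groth.Agent.Lib.Helper73.DimFormula

/-- Let Y be locally Noetherian, f : X ⟶ Y of finite type and x a point of X with y = f x. Then dim
O_{X,x} ≤ dim O_{Y,y} + dim O_{X_y,x}, where X_y is the fibre through x. -/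
theorem result {X Y : Scheme.{u}} [IsLocallyNoetherian Y] (f : X ⟶ Y)
    [LocallyOfFiniteType f] [QuasiCompact f] (x : X) :
    ringKrullDim (X.presheaf.stalk x) ≤
      ringKrullDim (Y.presheaf.stalk (f.base x)) + ringKrullDim ((f.fiber (f.base x)).presheaf.stalk (f.asFiber x)) := by
  obtain ⟨_, ⟨V, hV : IsAffineOpen V, rfl⟩, hfxV, -⟩ :=
    (Y.isBasis_affineOpens).exists_subset_of_mem_open (Set.mem_univ (f.base x)) isOpen_univ
  obtain ⟨_, ⟨U, hU : IsAffineOpen U, rfl⟩, hxU, hUV⟩ :=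
    (X.isBasis_affineOpens).exists_subset_of_mem_open
      (show x ∈ (f ⁻¹ᵁ V : Set X) from hfxV) (f ⁻¹ᵁ V).isOpen
  have e : U ≤ f ⁻¹ᵁ V := hUV
  letI : Algebra Γ(Y, V) Γ(X, U) := (f.appLE V U e).hom.toAlgebra
  have halg : algebraMap Γ(Y, V) Γ(X, U) = (f.appLE V U e).hom := rfl
  haveI : Algebra.FiniteType Γ(Y, V) Γ(X, U) := f.finiteType_appLE hV hU e
  haveI : IsNoetherianRing Γ(Y, V) := IsLocallyNoetherian.component_noetherian ⟨V, hV⟩
  haveI : IsNoetherianRing Γ(X, U) := Algebra.FiniteType.isNoetherianRing Γ(Y, V) Γ(X, U)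
  haveI hlo := liesOver_primeIdealOf f x hV hU e hxU halg
  have h1 := Ideal.height_le_height_add_of_liesOver (hV.primeIdealOf ⟨f.base x, e hxU⟩).asIdeal
    (hU.primeIdealOf ⟨x, hxU⟩).asIdeal
  obtain ⟨l, hlast, hlen, hl⟩ := exists_ltSeries_height_quotient_map
    (hV.primeIdealOf ⟨f.base x, e hxU⟩).asIdeal (hU.primeIdealOf ⟨x, hxU⟩).asIdeal
  obtain ⟨c, hclen, ⟨hch, hchead⟩, -, hc⟩ := exists_ltSeries_of_primes hU l
  have hcx : c.head = x := by
    apply primeIdealOf_injective hU hch hxU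
    rw [hchead, hlast]
  have hcf : ∀ i, f.base (c i) = f.base x := by
    intro i
    obtain ⟨hi, j, hj⟩ := hc i
    refine base_eq_of_comap_primeIdealOf_eq f hV hU e hi hxU ?_
    rw [hj]
    have h2 := hl j
    have h3 : (l.last).asIdeal.comap (algebraMap Γ(Y, V) Γ(X, U)) = _ := hl (Fin.last _)
    rw [hlast] at h3
    rw [halg] at h2 h3
    exact h2.trans h3.symm
  have h2 := le_ringKrullDim_stalk_fiber f x c hcx hcf
  rw [ringKrullDim_stalk_eq_height hU x hxU, ringKrullDim_stalk_eq_height hV (f.base x) (e hxU)]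
  have h3 : ((hU.primeIdealOf ⟨x, hxU⟩).asIdeal.height : WithBot ℕ∞) ≤
      ((hV.primeIdealOf ⟨f.base x, e hxU⟩).asIdeal.height : WithBot ℕ∞) + (c.length : WithBot ℕ∞) := by
    rw [hclen]
    have h4 : (l.length : WithBot ℕ∞) = (((l.length : ℕ∞)) : WithBot ℕ∞) := rfl
    rw [h4, hlen]
    exact_mod_cast h1
  refine h3.trans ?_
  gcongr

end Groth.Agent.S3447
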