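import Groth.Statements.S3393
import Groth.Agent.Lib.Helper73.ChevalleyScheme
import Groth.Agent.Lib.Helper73.FibreClosure
import Groth.Agent.S3447
import Groth.Agent.S9682
-- import your own Groth.Agent.* helpers here

set_option autoImplicit false
open CategoryTheory AlgebraicGeometry
universe u
open EGA43

namespace Groth.Agent.S3393
open Groth.Agent.Lib.Helper73.SchemeDim Groth.Agent.Lib.Helper73.RelHt

/-- Let Y be an irreducible locally Noetherian scheme with generic point η, f : X ⟶ Y a morphism of
finite type and y a point of Y. Condition (b): for every point z of the fibre over y at which the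
local ring of the fibre has dimension 0, dim O_{X,z} = dim O_{Y,y}. Condition (c): for every such z
there is an irreducible component X' of X containing z such that the dimension of X' ∩ f⁻¹(η)
(topology induced from X) equals the local dimension at z of the fibre over y (the dimension of the
irreducible component of the fibre with generic point z). Then (b) implies (c), and (c) implies (b)
if O_{Y,y} is universally catenary. -/
theorem result {X Y : Scheme.{u}} [IrreducibleSpace Y] [IsLocallyNoetherian Y]
    (f : X ⟶ Y) [LocallyOfFiniteType f] [QuasiCompact f] (y : Y) :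
    ((∀ z : X, f.base z = y → ringKrullDim ((f.fiber (f.base z)).presheaf.stalk (f.asFiber z)) = 0 →
        ringKrullDim (X.presheaf.stalk z) = ringKrullDim (Y.presheaf.stalk (f.base z))) →
      (∀ z : X, f.base z = y → ringKrullDim ((f.fiber (f.base z)).presheaf.stalk (f.asFiber z)) = 0 →
        ∃ X' ∈ irreducibleComponents (X : Type u), z ∈ X' ∧
          topologicalKrullDim ↥(X' ∩ f.base ⁻¹' {genericPoint Y}) = FlatMor.fibreDimAt f z)) ∧
    (CAlg.IsUniversallyCatenary (Y.presheaf.stalk y) →
      (∀ z : X, f.base z = y → ringKrullDim ((f.fiber (f.base z)).presheaf.stalk (f.asFiber z)) = 0 →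
        ∃ X' ∈ irreducibleComponents (X : Type u), z ∈ X' ∧
          topologicalKrullDim ↥(X' ∩ f.base ⁻¹' {genericPoint Y}) = FlatMor.fibreDimAt f z) →
      (∀ z : X, f.base z = y → ringKrullDim ((f.fiber (f.base z)).presheaf.stalk (f.asFiber z)) = 0 →
        ringKrullDim (X.presheaf.stalk z) = ringKrullDim (Y.presheaf.stalk (f.base z)))) := by
  have : IsLocallyNoetherian X := LocallyOfFiniteType.isLocallyNoetherian f
  have hη : ∀ y : Y, genericPoint Y ⤳ y := genericPoint_specializes
  -- maximality in the fibre from the vanishing of the dimension of the local ring of the fibre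
  have hmaxof : ∀ z : X, ringKrullDim ((f.fiber (f.base z)).presheaf.stalk (f.asFiber z)) = 0 →
      ∀ z' : X, z' ⤳ z → f.base z' = f.base z → z' = z := by
    intro z hz z' h1 h2
    by_contra hne
    have hlt : z < z' := by
      rw [lt_iff_le_not_ge]
      exact ⟨h1, fun h => hne (anti X _ _ h h1)⟩
    have h3 := le_ringKrullDim_stalk_fiber f z (pair hlt) (pair_head hlt) (fun i => by
      have := base_eq_of_head_last f (pair hlt) (by rw [pair_head, pair_last, h2]) i
      rw [this, pair_head])
    rw [hz] at h3
    rw [pair_length] at h3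
    have h4 : (1 : ℕ) ≤ 0 := by exact_mod_cast h3
    omega
  constructor
  · intro hb z hz hz0
    subst hz
    have hmax := hmaxof z hz0
    have hdfin : Order.coheight z < ⊤ := by
      have h1 : ringKrullDim (X.presheaf.stalk z) < ⊤ := ringKrullDim_lt_top
      rw [ringKrullDim_stalk_eq_coheight, ← WithBot.coe_top] at h1
      exact WithBot.coe_lt_coe.mp h1
    have hbz := hb z rfl hz0
    rw [ringKrullDim_stalk_eq_coheight, ringKrullDim_stalk_eq_coheight] at hbz
    have hbz' : Order.coheight z = Order.coheight (f.base z) := WithBot.coe_injective hbz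
    obtain ⟨ξ, hzξ, hξ⟩ := exists_relHt_eq_coheight z hdfin
    obtain ⟨D, hD⟩ := ENat.ne_top_iff_exists.mp hdfin.ne
    have hkey := relHt_le_relHt_base_of_maximal f hzξ (fun w' _ h2 h3 => hmax w' h2 h3)
    have hup : relHt (f.base z) (f.base ξ) ≤ Order.coheight (f.base z) := relHt_le_coheight _ _
    have hrel : relHt (f.base z) (f.base ξ) = (D : ℕ∞) := by
      apply le_antisymm
      · rw [hD, hbz']; exact hup
      · rw [hD, ← hξ]; exact hkey
    have hfξ : f.base ξ = genericPoint Y := by
      by_contra hne
      have hlt : f.base ξ < genericPoint Y := by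
        rw [lt_iff_le_not_ge]
        exact ⟨hη _, fun h => hne (anti Y _ _ (hη _) h)⟩
      have h1 := relHt_add_one_le (anti Y) (show f.base z ≤ f.base ξ from hzξ.map f.continuous) hlt
        (by rw [hrel]; exact ENat.natCast_lt_top D)
      have h2 : relHt (f.base z) (genericPoint Y) ≤ (D : ℕ∞) := by
        rw [hD, hbz']; exact relHt_le_coheight _ _
      rw [hrel] at h1
      have h3 := le_trans h1 h2
      have : D + 1 ≤ D := by exact_mod_cast h3
      omega
    obtain ⟨nξ, hnξ⟩ := exists_trdeg_residueField_eq_nat f ξ
    obtain ⟨nz, hnz⟩ := exists_trdeg_residueField_eq_nat f z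
    have hform := (relHt_add_trdeg_aux f hzξ nξ nz hnξ hnz).1
    rw [hrel, hξ, ← hD] at hform
    have hnum : D + nz ≤ D + nξ := by exact_mod_cast hform
    have hF := fibreDimAt_eq f z nz hnz
    rw [hz0, zero_add] at hF
    have hchev := trdeg_le_fibreDimAt f hzξ nξ hnξ
    rw [hF] at hchev
    have hnum2 : nξ ≤ nz := by exact_mod_cast hchev
    have hnum' : nξ = nz := by omega
    have hξmax : ∀ x' : X, x' ⤳ ξ → x' = ξ := by
      intro x' hx'
      by_contra hne
      have hlt : ξ < x' := by
        rw [lt_iff_le_not_ge]
        exact ⟨hx', fun h => hne (anti X _ _ h hx')⟩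
      have h1 := relHt_add_one_le (anti X) (show z ≤ ξ from hzξ) hlt
        (by rw [hξ, ← hD]; exact ENat.natCast_lt_top D)
      have h2 : relHt z x' ≤ (D : ℕ∞) := by rw [hD]; exact relHt_le_coheight _ _
      rw [hξ, ← hD] at h1
      have h3 := le_trans h1 h2
      have : D + 1 ≤ D := by exact_mod_cast h3
      omega
    refine ⟨closure {ξ}, ?_, specializes_iff_mem_closure.mp hzξ, ?_⟩
    · rw [Groth.Agent.S9682.closure_singleton_mem_irreducibleComponents_iff]
      exact hξmax
    · rw [hF, ← hfξ, topologicalKrullDim_closure_inter_fibre f ξ nξ hnξ, hnum']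
  · intro hcat hc z hz hz0
    subst hz
    have hmax := hmaxof z hz0
    obtain ⟨X', hX', hzX', hdim⟩ := hc z rfl hz0
    obtain ⟨nz, hnz⟩ := exists_trdeg_residueField_eq_nat f z
    have hF := fibreDimAt_eq f z nz hnz
    rw [hz0, zero_add] at hF
    rw [hF] at hdim
    obtain ⟨ξ, hξ⟩ := QuasiSober.sober hX'.1 (isClosed_of_mem_irreducibleComponents X' hX')
    have hX'eq : closure {ξ} = X' := hξ.def
    have hzξ : ξ ⤳ z := by rw [specializes_iff_mem_closure, hX'eq]; exact hzX'
    -- the fibre over the generic point meets X'
    have hne : (X' ∩ f.base ⁻¹' {genericPoint Y}).Nonempty := by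
      by_contra hemp
      rw [Set.not_nonempty_iff_eq_empty] at hemp
      have hbot : topologicalKrullDim ↥(X' ∩ f.base ⁻¹' {genericPoint Y}) = ⊥ := by
        rw [hemp]
        unfold topologicalKrullDim
        have : IsEmpty (TopologicalSpace.IrreducibleCloseds ↥(∅ : Set X)) :=
          ⟨fun C => by
            obtain ⟨⟨a, ha⟩, -⟩ := C.isIrreducible.nonempty
            exact ha⟩
        exact Order.krullDim_eq_bot
      rw [hbot] at hdim
      exact absurd hdim (by simp)
    obtain ⟨a, haX', hfa⟩ := hne
    have hfξ : f.base ξ = genericPoint Y := by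
      have h1 : ξ ⤳ a := by rw [specializes_iff_mem_closure, hX'eq]; exact haX'
      have h2 : f.base ξ ⤳ genericPoint Y := by
        have := h1.map f.continuous
        rwa [show f.base a = genericPoint Y from hfa] at this
      exact anti Y _ _ (hη _) h2
    obtain ⟨nξ, hnξ⟩ := exists_trdeg_residueField_eq_nat f ξ
    rw [← hX'eq, ← hfξ, topologicalKrullDim_closure_inter_fibre f ξ nξ hnξ] at hdim
    have hnum : nξ = nz := by exact_mod_cast hdim
    have hform := (relHt_add_trdeg_aux f hzξ nξ nz hnξ hnz).2 hcat
    have hfin1 : relHt z ξ < ⊤ := relHt_lt_top hzξ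
    have hfin2 : relHt (f.base z) (f.base ξ) < ⊤ := relHt_lt_top (hzξ.map f.continuous)
    obtain ⟨a1, ha1⟩ := ENat.ne_top_iff_exists.mp hfin1.ne
    obtain ⟨a2, ha2⟩ := ENat.ne_top_iff_exists.mp hfin2.ne
    rw [← ha1, ← ha2] at hform
    have hnum2 : a1 + nz = a2 + nξ := by exact_mod_cast hform
    have hnum3 : a1 = a2 := by omega
    apply le_antisymm
    · have := Groth.Agent.S3447.result f z
      rw [hz0, add_zero] at this
      exact this
    · rw [ringKrullDim_stalk_eq_relHt (f.base ξ) (by rw [hfξ]; exact hη) (f.base z),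
        ringKrullDim_stalk_eq_coheight, ← ha2, ← hnum3]
      have h1 := relHt_le_coheight z ξ
      rw [← ha1] at h1
      exact_mod_cast h1

end Groth.Agent.S3393
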