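import Groth.Statements.S3457
import Groth.Agent.Lib.Helper73.Equidim2
import Groth.Agent.Lib.Helper73.StalkQuot
-- import your own Groth.Agent.* helpers here

set_option autoImplicit false
open CategoryTheory AlgebraicGeometry
universe u
open EGA43

namespace Groth.Agent.S3457
open Groth.Agent.Lib.Helper73.SchemeDim Groth.Agent.Lib.Helper73.RelHt

/-- Let Y be locally Noetherian, f : X ⟶ Y locally of finite type, x a point of X with y = f x, and
suppose f is equidimensional at x and O_{Y,y} is universally catenary. Let e be the local dimension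
at x of the fibre X_y. Then for every minimal prime 𝔭 of O_{X,x} (that is, for every irreducible
component X_j of X through x, with O_{X_j,x} = O_{X,x}/𝔭 and O_{Y_j,y} = O_{Y,y}/(𝔭 ∩ O_{Y,y})) one
has dim(O_{X,x}/𝔭) + trdeg_{κ(y)} κ(x) = dim(O_{Y,y}/(𝔭 ∩ O_{Y,y})) + e. -/
theorem result {X Y : Scheme.{u}} [IsLocallyNoetherian Y] (f : X ⟶ Y)
    [LocallyOfFiniteType f] (x : X) (h : EGA43.IsEquidimAt f x)
    (hcat : CAlg.IsUniversallyCatenary (Y.presheaf.stalk (f.base x))) :
    letI : Algebra (Y.residueField (f.base x)) (X.residueField x) := (f.residueFieldMap x).hom.toAlgebra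
    ∀ 𝔭 ∈ minimalPrimes (X.presheaf.stalk x),
      ringKrullDim (X.presheaf.stalk x ⧸ 𝔭) +
          (Cardinal.toNat (Algebra.trdeg (Y.residueField (f.base x)) (X.residueField x)) : WithBot ℕ∞) =
        ringKrullDim (Y.presheaf.stalk (f.base x) ⧸ 𝔭.comap (f.stalkMap x).hom) + FlatMor.fibreDimAt f x := by
  intro 𝔭 h𝔭
  have hp : 𝔭.IsPrime := h𝔭.1.1
  obtain ⟨e, U, hxU, hA, hB⟩ := (isEquidimAt_iff f x).mp h
  set P : PrimeSpectrum (X.presheaf.stalk x) := ⟨𝔭, hp⟩ with hP
  set ξ : X := (X.fromSpecStalk x).base P with hξ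
  have hξx : ξ ⤳ x := by
    have : ξ ∈ Set.range (X.fromSpecStalk x).base := ⟨_, rfl⟩
    rw [Scheme.range_fromSpecStalk] at this
    exact this
  have hξU : ξ ∈ U := hξx.mem_open U.isOpen hxU
  have hind := (X.fromSpecStalk x).isEmbedding.toIsInducing
  have hξmax : ∀ ξ' : X, ξ' ⤳ ξ → ξ' = ξ := by
    intro ξ' hsp
    have : ∃ Q : PrimeSpectrum (X.presheaf.stalk x), (X.fromSpecStalk x).base Q = ξ' := by
      change ξ' ∈ Set.range (X.fromSpecStalk x).base
      rw [Scheme.range_fromSpecStalk]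
      exact hsp.trans hξx
    obtain ⟨Q, rfl⟩ := this
    have hQP : Q ≤ P := by
      rw [PrimeSpectrum.le_iff_specializes]
      exact hind.specializes_iff.mp hsp
    have : P ≤ Q := h𝔭.2 ⟨Q.2, bot_le⟩ hQP
    rw [le_antisymm hQP this]
  have hfξ : f.base ξ = (Y.fromSpecStalk (f.base x)).base
      (⟨𝔭.comap (f.stalkMap x).hom, inferInstance⟩ : PrimeSpectrum (Y.presheaf.stalk (f.base x))) := by
    have := Scheme.SpecMap_stalkMap_fromSpecStalk (f := f) (x := x)
    have h2 := congrArg (fun φ => φ.base P) this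
    exact h2.symm
  rw [ringKrullDim_stalk_quotient_eq_relHt, ringKrullDim_stalk_quotient_eq_relHt, ← hfξ]
  have hne : @Algebra.trdeg (Y.residueField (f.base ξ)) (X.residueField ξ) _ _
      (f.residueFieldMap ξ).hom.toAlgebra = e :=
    hB ξ hξU (fun z' hz' _ => hξmax z' hz')
  obtain ⟨ζ, n, hζx, hζf, hζmax, hnζ, hFD⟩ := exists_maximal_in_fibre_trdeg_eq_fibreDimAt f x
  have hζU : ζ ∈ U := hζx.mem_open U.isOpen hxU
  have hne' := hB ζ hζU hζmax
  have hn_e : n = e := by
    rw [hnζ] at hne'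
    exact_mod_cast hne'
  obtain ⟨nx, hnx⟩ := exists_trdeg_residueField_eq_nat' f x
  have key := (relHt_add_trdeg_aux f hξx e nx hne hnx).2 hcat
  rw [hFD, hn_e]
  have hnx' : Cardinal.toNat (@Algebra.trdeg (Y.residueField (f.base x)) (X.residueField x) _ _
      (f.residueFieldMap x).hom.toAlgebra) = nx := by
    rw [hnx]; simp
  rw [hnx']
  exact_mod_cast congrArg (fun a : ℕ∞ => (a : WithBot ℕ∞)) key

end Groth.Agent.S3457
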