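import Groth.Statements.S3396
import Groth.Agent.Lib.Helper73.Equidim2
import Groth.Agent.Lib.Helper73.StalkQuot2
import Groth.Agent.S3457
-- import your own Groth.Agent.* helpers here

set_option autoImplicit false
open CategoryTheory AlgebraicGeometry
universe u
open EGA43

namespace Groth.Agent.S3396
open Groth.Agent.Lib.Helper73.SchemeDim Groth.Agent.Lib.Helper73.RelHt

/-- Let Y be locally Noetherian, f : X ⟶ Y locally of finite type and equidimensional at the point x,
and suppose the local ring O_{Y,f x} is universally catenary. If O_{Y,f x} is equidimensional, then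
so is O_{X,x}. -/
theorem result {X Y : Scheme.{u}} [IsLocallyNoetherian Y] (f : X ⟶ Y)
    [LocallyOfFiniteType f] (x : X) (h : EGA43.IsEquidimAt f x)
    (hcat : CAlg.IsUniversallyCatenary (Y.presheaf.stalk (f.base x)))
    (hY : EGA4.IsEquidim (Y.presheaf.stalk (f.base x))) :
    EGA4.IsEquidim (X.presheaf.stalk x) := by
  obtain ⟨e, U, hxU, hA, hB⟩ := (isEquidimAt_iff f x).mp h
  obtain ⟨nx, hnx⟩ := exists_trdeg_residueField_eq_nat' f x
  have hnx' : Cardinal.toNat (@Algebra.trdeg (Y.residueField (f.base x)) (X.residueField x) _ _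
      (f.residueFieldMap x).hom.toAlgebra) = nx := by
    rw [hnx]; simp
  have key : ∀ 𝔭 ∈ minimalPrimes (X.presheaf.stalk x),
      ringKrullDim (X.presheaf.stalk x ⧸ 𝔭) + (nx : WithBot ℕ∞) =
        ringKrullDim (Y.presheaf.stalk (f.base x)) + FlatMor.fibreDimAt f x := by
    intro 𝔭 h𝔭
    have h1 := Groth.Agent.S3457.result f x h hcat 𝔭 h𝔭
    rw [hnx'] at h1
    rw [h1]
    congr 1
    apply hY
    have hp : 𝔭.IsPrime := h𝔭.1.1
    let P : PrimeSpectrum (X.presheaf.stalk x) := ⟨𝔭, hp⟩
    have hξmax := fromSpecStalk_maximal_of_mem_minimalPrimes x P h𝔭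
    have hξU : (X.fromSpecStalk x).base P ∈ U :=
      (fromSpecStalk_specializes x P).mem_open U.isOpen hxU
    obtain ⟨hmaxY, -⟩ := hA _ hξU hξmax
    rw [base_fromSpecStalk] at hmaxY
    exact mem_minimalPrimes_of_fromSpecStalk_maximal (f.base x) _ hmaxY
  intro 𝔭 h𝔭
  apply le_antisymm (ringKrullDim_quotient_le 𝔭)
  rw [ringKrullDim, Order.krullDim]
  apply iSup_le
  intro l
  obtain ⟨p₀, hp₀, hle⟩ := exists_minimalPrimes_length_le l
  refine hle.trans (le_of_eq ?_)
  apply add_natCast_cancel nx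
  rw [key p₀ hp₀, key 𝔭 h𝔭]

end Groth.Agent.S3396
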