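import Groth.Statements.S3397
import Groth.Agent.Lib.Helper73.Equidim2
import Groth.Agent.Lib.Helper73.StalkQuot2
import Groth.Agent.S3456
-- import your own Groth.Agent.* helpers here

set_option autoImplicit false
open CategoryTheory AlgebraicGeometry
universe u
open EGA43

namespace Groth.Agent.S3397
open Groth.Agent.Lib.Helper73.SchemeDim Groth.Agent.Lib.Helper73.RelHt

/-- Let Y be locally Noetherian, f : X ⟶ Y locally of finite type, x a point of X with y = f x, and
suppose O_{Y,y} is equidimensional. If O_{X,x} is equidimensional and dim O_{X,x} = dim O_{Y,y} +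
dim O_{X_y,x}, then f is equidimensional at x. -/
theorem result {X Y : Scheme.{u}} [IsLocallyNoetherian Y] (f : X ⟶ Y)
    [LocallyOfFiniteType f] (x : X) (hY : EGA4.IsEquidim (Y.presheaf.stalk (f.base x)))
    (hX : EGA4.IsEquidim (X.presheaf.stalk x))
    (h : ringKrullDim (X.presheaf.stalk x) =
        ringKrullDim (Y.presheaf.stalk (f.base x)) + ringKrullDim ((f.fiber (f.base x)).presheaf.stalk (f.asFiber x))) :
    EGA43.IsEquidimAt f x := by
  haveI : IsLocallyNoetherian X := LocallyOfFiniteType.isLocallyNoetherian f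
  rw [Groth.Agent.S3456.result]
  obtain ⟨nx, hnx⟩ := exists_trdeg_residueField_eq_nat' f x
  obtain ⟨m', -, hm', -⟩ := exists_ltSeries_fibre_stalk f x
  have hFx := fibreDimAt_eq f x nx hnx
  rw [hm'] at hFx
  -- `a = dim O_{Y,y}`
  have hcoY : ringKrullDim (Y.presheaf.stalk (f.base x)) = Order.coheight (f.base x) :=
    ringKrullDim_stalk_eq_coheight (f.base x)
  have hAfin : ringKrullDim (Y.presheaf.stalk (f.base x)) < ⊤ := ringKrullDim_lt_top
  have hne : Order.coheight (f.base x) ≠ ⊤ := by
    intro h'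
    rw [hcoY, h'] at hAfin
    exact lt_irrefl _ hAfin
  obtain ⟨a, ha⟩ := ENat.ne_top_iff_exists.mp hne
  have hA' : ringKrullDim (Y.presheaf.stalk (f.base x)) = (a : WithBot ℕ∞) := by
    rw [hcoY, ← ha]; rfl
  rw [hA', hm'] at h
  have himg : ∀ ξ : X, closure (f.base '' closure ({ξ} : Set X)) = closure {f.base ξ} := by
    intro ξ
    rw [closure_image_closure f.continuous, Set.image_singleton]
  refine ⟨m' + nx, fun Xj hXj hx => ?_⟩
  obtain ⟨ξ, hξmax, rfl⟩ := exists_maximal_closure_eq_of_mem_irreducibleComponents hXj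
  have hξx : ξ ⤳ x := specializes_iff_mem_closure.mpr hx
  obtain ⟨P, rfl⟩ := exists_fromSpecStalk_eq hξx
  have hPmin := mem_minimalPrimes_of_fromSpecStalk_maximal x P hξmax
  have h1 : ringKrullDim (X.presheaf.stalk x ⧸ P.asIdeal) = ringKrullDim (X.presheaf.stalk x) :=
    hX _ hPmin
  haveI := P.2
  rw [ringKrullDim_stalk_quotient_eq_relHt, h] at h1
  set ξ : X := (X.fromSpecStalk x).base P with hξ
  obtain ⟨nξ, hnξ⟩ := exists_trdeg_residueField_eq_nat' f ξ
  have hineq := (relHt_add_trdeg_aux f hξx nξ nx hnξ hnx).1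
  have hfξx : f.base ξ ⤳ f.base x := hξx.map f.continuous
  obtain ⟨r, hr⟩ := ENat.ne_top_iff_exists.mp (relHt_lt_top hξx).ne
  obtain ⟨r', hr'⟩ := ENat.ne_top_iff_exists.mp (relHt_lt_top hfξx).ne
  have hr'a : r' ≤ a := by
    have : relHt (f.base x) (f.base ξ) ≤ Order.coheight (f.base x) :=
      relHt_le fun c h1 _ => by rw [← h1]; exact Order.length_le_coheight_head
    rw [← hr', ← ha] at this
    exact_mod_cast this
  have hnξle : nξ ≤ m' + nx := by
    have := trdeg_le_fibreDimAt' f hξx nξ hnξ
    rw [hFx] at this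
    exact_mod_cast this
  have hr_eq : r = a + m' := by
    rw [← hr] at h1
    exact_mod_cast h1
  have hineq' : r + nx ≤ r' + nξ := by
    rw [← hr, ← hr'] at hineq
    exact_mod_cast hineq
  have hr'eq : r' = a := by omega
  have hnξeq : nξ = m' + nx := by omega
  -- `f ξ` is a maximal point of `Y`
  have hfξmax : ∀ η' : Y, η' ⤳ f.base ξ → η' = f.base ξ := by
    intro η' hsp
    by_contra hne'
    have hle : f.base ξ ≤ η' := hsp
    have hlt : f.base ξ < η' := lt_iff_le_not_ge.mpr ⟨hle, fun h' => hne' (anti Y η' (f.base ξ) h' hle)⟩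
    obtain ⟨c, hc1, hc2, hc3⟩ := exists_length_eq_relHt (show f.base x ≤ f.base ξ from hfξx)
      (anti Y _ _) (relHt_lt_top hfξx)
    let c2 := c.snoc η' (by rw [hc2]; exact hlt)
    have h2 : (c2.length : ℕ∞) ≤ Order.coheight c2.head := Order.length_le_coheight_head
    have h3 : c2.head = f.base x := by rw [RelSeries.head_snoc]; exact hc1
    have h4 : c2.length = c.length + 1 := RelSeries.snoc_length _ _ _
    have h5 : c.length = r' := by
      rw [← hr'] at hc3
      exact_mod_cast hc3
    rw [h3, h4, ← ha, h5] at h2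
    have : r' + 1 ≤ a := by exact_mod_cast h2
    omega
  have hnξ' : @Algebra.trdeg (Y.residueField (f.base ξ)) (X.residueField ξ) _ _
      (f.residueFieldMap ξ).hom.toAlgebra = ((m' + nx : ℕ) : Cardinal.{u}) := by
    rw [hnξ, hnξeq]
  refine ⟨?_, ?_, ?_⟩
  · rw [himg]
    exact closure_singleton_mem_irreducibleComponents_of_maximal _ hfξmax
  · intro η hη
    rw [himg] at hη
    have hηeq : η = f.base ξ := by
      have h1 : η ⤳ f.base ξ := by
        rw [specializes_iff_mem_closure, hη]; exact subset_closure rfl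
      have h2 : f.base ξ ⤳ η := by
        rw [specializes_iff_mem_closure, ← hη]; exact subset_closure rfl
      exact (h1.antisymm h2).eq
    rw [hηeq]
    exact topologicalKrullDim_closure_inter_fibre f ξ (m' + nx) hnξ'
  · obtain ⟨h1', ζ, n, hζT, hζsp, hζf, hnζ, hL⟩ :=
      localDim_closed_inter_fibre f (closure {ξ}) isClosed_closure x
        ⟨hx, Set.mem_singleton (f.base x)⟩
    rw [hL]
    have hlow : m' + nx ≤ n := by
      set ι := (Scheme.IdealSheafData.vanishingIdeal
        (⟨closure {ξ}, isClosed_closure⟩ : TopologicalSpace.Closeds X)).subschemeι with hι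
      have hrange : Set.range ι.base = closure {ξ} := by
        rw [hι, Scheme.IdealSheafData.range_subschemeι,
          Scheme.IdealSheafData.coe_support_vanishingIdeal]
        rfl
      obtain ⟨w, hw⟩ := hrange.superset hx
      obtain ⟨ω, hω⟩ := hrange.superset (subset_closure (Set.mem_singleton ξ))
      have hsp : ω ⤳ w := by
        rw [← ι.isEmbedding.isInducing.specializes_iff, hω, hw]; exact hξx
      have hnω : @Algebra.trdeg (Y.residueField ((ι ≫ f).base ω)) _ _ _
          ((ι ≫ f).residueFieldMap ω).hom.toAlgebra = ((m' + nx : ℕ) : Cardinal.{u}) := by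
        rw [trdeg_residueFieldMap_comp ι f ω, trdeg_residueFieldMap_congr_pt f hω]
        exact hnξ'
      have h2 := trdeg_le_fibreDimAt' (ι ≫ f) hsp (m' + nx) hnω
      have hmem : ι.base w ∈ closure {ξ} ∩ f.base ⁻¹' {f.base (ι.base w)} := by
        rw [hw]; exact ⟨hx, Set.mem_singleton _⟩
      rw [fibreDimAt_comp_preimm ι f w (closure {ξ}) hrange hmem] at h2
      have h3' : ∀ (x₁ : X) (_ : x₁ = x) (hmem₁ : x₁ ∈ closure {ξ} ∩ f.base ⁻¹' {f.base x₁}),
          FlatMor.localDim ↥(closure {ξ} ∩ f.base ⁻¹' {f.base x₁}) ⟨x₁, hmem₁⟩ = (n : WithBot ℕ∞) := by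
        intro x₁ hx₁
        subst hx₁
        intro _
        exact hL
      have h3 := h3' (ι.base w) hw hmem
      rw [h3] at h2
      exact_mod_cast h2
    have hup : n ≤ m' + nx := by
      have := trdeg_le_fibreDimAt_of_fibre' f hζsp hζf n hnζ
      rw [hFx] at this
      exact_mod_cast this
    have : n = m' + nx := le_antisymm hup hlow
    rw [this]

end Groth.Agent.S3397
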