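import Groth.Statements.S3399
import Groth.Agent.Lib.Helper17.ConstrTop

set_option autoImplicit false
open CategoryTheory AlgebraicGeometry
universe u
open EGA41

namespace Groth.Agent.S3399

/-- Let f : X' ⟶ X be a morphism locally of finite presentation and E' an ind-constructible subset of
X'. Then f(E') is ind-constructible in X; in particular f(X') is ind-constructible. -/
theorem result {X' X : Scheme.{u}} (f : X' ⟶ X)
    [LocallyOfFinitePresentation f] (E' : Set X') (hE' : ProCons.IsIndConstructible E') :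
    ProCons.IsIndConstructible (f.base '' E') := by
  intro y
  have hb : ∀ {U : TopologicalSpace.Opens ↥X} {x : ↥X}, x ∈ U →
      ∃ U' ∈ X.affineOpens, x ∈ U' ∧ U' ≤ U :=
    TopologicalSpace.Opens.isBasis_iff_nbhd.mp X.isBasis_affineOpens
  have hb' : ∀ {U : TopologicalSpace.Opens ↥X'} {x : ↥X'}, x ∈ U →
      ∃ U' ∈ X'.affineOpens, x ∈ U' ∧ U' ≤ U :=
    TopologicalSpace.Opens.isBasis_iff_nbhd.mp X'.isBasis_affineOpens
  obtain ⟨W, hW, hyW, -⟩ := @hb ⊤ y trivial
  have hWaff : IsAffineOpen W := hW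
  refine ⟨(W : Set X), W.2, hyW, ?_⟩
  let 𝒮 : Set (Set ↥W) := {T | ∃ (U : X'.Opens) (_ : IsAffineOpen U) (e : U ≤ f ⁻¹ᵁ W)
    (C : Set ↥U), Topology.IsConstructible C ∧ Subtype.val '' C ⊆ E' ∧
      T = (f.resLE W U e).base '' C}
  refine ⟨𝒮, ?_, ?_⟩
  · rintro T ⟨U, hU, e, C, hC, -, rfl⟩
    haveI : IsAffine W.toScheme := hWaff
    haveI : IsAffine U.toScheme := hU
    haveI : QuasiCompact (f.resLE W U e) :=
      HasAffineProperty.iff_of_isAffine.mpr (inferInstanceAs (CompactSpace U.toScheme))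
    exact (f.resLE W U e).isLocallyConstructible_image hC.isLocallyConstructible
  · ext ⟨z, hz⟩
    constructor
    · rintro ⟨x, hxE, hxz⟩
      obtain ⟨U1, hU1, hx1, S, hS, hES⟩ := hE' x
      have hxW : x ∈ f ⁻¹ᵁ W := by
        change f.base x ∈ W
        rw [hxz]; exact hz
      obtain ⟨U, hU, hxU, hUsub⟩ := @hb' (⟨U1, hU1⟩ ⊓ f ⁻¹ᵁ W) x ⟨hx1, hxW⟩
      have hUaff : IsAffineOpen U := hU
      have e : U ≤ f ⁻¹ᵁ W := hUsub.trans inf_le_right
      have h1 : Set.MapsTo id (U : Set X') U1 := fun a ha => (hUsub ha).1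
      have hi1 : Topology.IsOpenEmbedding (h1.restrict id U U1) :=
        Topology.IsOpenEmbedding.id.restrict h1 U.2
      have hxS : (⟨x, hx1⟩ : ↥U1) ∈ ⋃₀ S := by
        rw [← hES]; exact hxE
      obtain ⟨Sj, hSj, hxSj⟩ := hxS
      haveI : CompactSpace ↥U := isCompact_iff_compactSpace.mp hUaff.isCompact
      haveI : QuasiSeparatedSpace ↥U :=
        (isQuasiSeparated_iff_quasiSeparatedSpace _ U.2).mp hUaff.isQuasiSeparated
      haveI : PrespectralSpace ↥U := U.2.isOpenEmbedding_subtypeVal.prespectralSpace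
      let C : Set ↥U := (h1.restrict id U U1) ⁻¹' Sj
      have hC : Topology.IsConstructible C :=
        ((hS Sj hSj).preimage_of_isOpenEmbedding hi1).isConstructible
      have hCE : Subtype.val '' C ⊆ E' := by
        rintro _ ⟨c, hc, rfl⟩
        have : (h1.restrict id U U1 c) ∈ (Subtype.val ⁻¹' E' : Set ↥U1) := by
          rw [hES]; exact ⟨Sj, hSj, hc⟩
        exact this
      refine ⟨(f.resLE W U e).base '' C, ⟨U, hUaff, e, C, hC, hCE, rfl⟩, ⟨⟨x, hxU⟩, hxSj, ?_⟩⟩
      apply Subtype.ext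
      rw [← hxz]
      exact Scheme.Hom.coe_resLE_apply f e ⟨x, hxU⟩
    · rintro ⟨T, ⟨U, hU, e, C, hC, hsub, rfl⟩, ⟨c, hcC, hcz⟩⟩
      refine ⟨c.1, hsub ⟨c, hcC, rfl⟩, ?_⟩
      have := Scheme.Hom.coe_resLE_apply f e c
      rw [← this]
      exact congrArg Subtype.val hcz

end Groth.Agent.S3399
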