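import Groth.Statements.S3401
import Groth.Agent.Lib.Helper17.ConstrTop

set_option autoImplicit false
open CategoryTheory AlgebraicGeometry
universe u
open EGA41

namespace Groth.Agent.S3401

section top

variable {T : Type*} [TopologicalSpace T]

/-- For a constructible set `C` and a point `p`, either `C` or its complement contains a
neighbourhood of `p` in the closure of `p`. -/
lemma constructible_nhd_aux {C : Set T} (hC : Topology.IsConstructible C) :
    ∀ p : T, (p ∈ C → ∃ O, IsOpen O ∧ p ∈ O ∧ O ∩ closure {p} ⊆ C) ∧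
      (p ∉ C → ∃ O, IsOpen O ∧ p ∈ O ∧ O ∩ closure {p} ⊆ Cᶜ) := by
  induction hC using Topology.IsConstructible.empty_union_induction with
  | open_retrocompact U hUopen hUcomp =>
    intro p
    refine ⟨fun hp => ⟨U, hUopen, hp, Set.inter_subset_left⟩, fun hp => ⟨Set.univ, isOpen_univ,
      Set.mem_univ p, ?_⟩⟩
    rintro q ⟨-, hq⟩ hqU
    apply hp
    have : (U ∩ {p}).Nonempty := mem_closure_iff.mp hq U hUopen hqU
    obtain ⟨r, hrU, hr⟩ := this
    rw [Set.mem_singleton_iff] at hr
    rwa [hr] at hrU
  | union s hs t ht ihs iht =>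
    intro p
    constructor
    · rintro (hp | hp)
      · obtain ⟨O, hO, hpO, hsub⟩ := (ihs p).1 hp
        exact ⟨O, hO, hpO, hsub.trans Set.subset_union_left⟩
      · obtain ⟨O, hO, hpO, hsub⟩ := (iht p).1 hp
        exact ⟨O, hO, hpO, hsub.trans Set.subset_union_right⟩
    · intro hp
      rw [Set.mem_union, not_or] at hp
      obtain ⟨O1, hO1, hpO1, hsub1⟩ := (ihs p).2 hp.1
      obtain ⟨O2, hO2, hpO2, hsub2⟩ := (iht p).2 hp.2
      refine ⟨O1 ∩ O2, hO1.inter hO2, ⟨hpO1, hpO2⟩, ?_⟩
      rintro q ⟨⟨hq1, hq2⟩, hq⟩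
      rw [Set.compl_union]
      exact ⟨hsub1 ⟨hq1, hq⟩, hsub2 ⟨hq2, hq⟩⟩
  | compl s hs ih =>
    intro p
    refine ⟨fun hp => (ih p).2 hp, fun hp => ?_⟩
    rw [compl_compl]
    exact (ih p).1 (Set.notMem_compl_iff.mp hp)

lemma constructible_nhd {C : Set T} (hC : Topology.IsConstructible C) {p : T} (hp : p ∈ C) :
    ∃ O, IsOpen O ∧ p ∈ O ∧ O ∩ closure {p} ⊆ C :=
  (constructible_nhd_aux hC p).1 hp

/-- in a Noetherian space, locally closed sets are constructible -/
lemma isConstructible_inter_of_noetherian [TopologicalSpace.NoetherianSpace T] {u z : Set T}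
    (hu : IsOpen u) (hz : IsClosed z) : Topology.IsConstructible (u ∩ z) := by
  have h1 : ∀ {s : Set T}, IsOpen s → Topology.IsConstructible s := fun {s} hs =>
    IsRetrocompact.isConstructible hs
      (fun V _ _ => TopologicalSpace.NoetherianSpace.isCompact _)
  have h2 : Topology.IsConstructible z := by
    rw [← compl_compl z, Topology.isConstructible_compl]
    exact h1 hz.isOpen_compl
  exact (h1 hu).inter h2

end top

/-- Let X be a scheme and E a subset of X. If E is ind-constructible then for every point x of E the set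
E ∩ cl{x} is a neighbourhood of x in cl{x}; when X is locally Noetherian the converse holds. (As
published, the necessity clause quantifies over all points x of X; for x outside E the condition
cannot hold, and the argument uses x ∈ E, so it is stated here for x ∈ E.) Stated as an equivalence
for X locally Noetherian. -/
theorem result (X : Scheme.{u}) [IsLocallyNoetherian X]
    (E : Set X) :
    ProCons.IsIndConstructible E ↔
      ∀ x ∈ E, (Subtype.val ⁻¹' E : Set ↥(closure ({x} : Set X))) ∈ nhds (⟨x, subset_closure rfl⟩ : ↥(closure ({x} : Set X))) := by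
  constructor
  · intro hE x hxE
    obtain ⟨U1, hU1, hx1, S, hS, hES⟩ := hE x
    obtain ⟨U, hU, hxU, hUW, hc, hqs, hsob, hpre⟩ :=
      Groth.Agent.Lib.Helper17.exists_spectral_open_nhd X x U1 hU1 hx1
    have h1 : Set.MapsTo id U U1 := fun y hy => hUW hy
    have hi1 : Topology.IsOpenEmbedding (h1.restrict id U U1) :=
      Topology.IsOpenEmbedding.id.restrict h1 hU
    have hxS : (⟨x, hx1⟩ : ↥U1) ∈ ⋃₀ S := by
      rw [← hES]; exact hxE
    obtain ⟨Sj, hSj, hxSj⟩ := hxS
    let C : Set ↥U := (h1.restrict id U U1) ⁻¹' Sj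
    have hC : Topology.IsConstructible C :=
      ((hS Sj hSj).preimage_of_isOpenEmbedding hi1).isConstructible
    have hCE : ∀ c ∈ C, c.1 ∈ E := by
      intro c hc
      have : (h1.restrict id U U1 c) ∈ (Subtype.val ⁻¹' E : Set ↥U1) := by
        rw [hES]; exact ⟨Sj, hSj, hc⟩
      exact this
    let x0 : ↥U := ⟨x, hxU⟩
    obtain ⟨O, hO, hx0O, hsub⟩ := constructible_nhd hC (p := x0) hxSj
    rw [mem_nhds_subtype]
    refine ⟨Subtype.val '' O, (hU.isOpenEmbedding_subtypeVal.isOpenMap _ hO).mem_nhds
      ⟨x0, hx0O, rfl⟩, ?_⟩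
    rintro ⟨q, hq⟩ ⟨o, hoO, hoq⟩
    change q ∈ E
    have hoq' : o.1 = q := hoq
    have ho : o ∈ closure ({x0} : Set ↥U) := by
      rw [closure_subtype, Set.image_singleton, hoq']
      exact hq
    have := hCE o (hsub ⟨hoO, ho⟩)
    rwa [hoq'] at this
  · intro H
    have key : ∀ x ∈ E, ∃ u : Set X, IsOpen u ∧ x ∈ u ∧ u ∩ closure {x} ⊆ E := by
      intro x hx
      have := H x hx
      rw [mem_nhds_subtype] at this
      obtain ⟨u, hu, husub⟩ := this
      obtain ⟨v, hvu, hv, hxv⟩ := mem_nhds_iff.mp hu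
      refine ⟨v, hv, hxv, ?_⟩
      rintro q ⟨hqv, hq⟩
      exact husub (a := ⟨q, hq⟩) (hvu hqv)
    choose! u hu hxu husub using key
    -- locally closed sets are locally constructible
    have hlc : ∀ x ∈ E, Topology.IsLocallyConstructible (u x ∩ closure {x}) := by
      intro x hx
      refine Topology.IsLocallyConstructible.of_isOpenCover (iSup_affineOpens_eq_top X) ?_
      intro W
      haveI := IsLocallyNoetherian.component_noetherian W
      haveI : TopologicalSpace.NoetherianSpace ↥(W : X.Opens) :=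
        noetherianSpace_of_isAffineOpen W.1 W.2
      apply Topology.IsConstructible.isLocallyConstructible
      rw [Set.preimage_inter]
      exact isConstructible_inter_of_noetherian ((hu x hx).preimage continuous_subtype_val)
        (isClosed_closure.preimage continuous_subtype_val)
    intro y
    refine ⟨Set.univ, isOpen_univ, Set.mem_univ y,
      {T | ∃ x ∈ E, T = Subtype.val ⁻¹' (u x ∩ closure {x})}, ?_, ?_⟩
    · rintro T ⟨x, hx, rfl⟩
      exact (hlc x hx).preimage_of_isOpenEmbedding isOpen_univ.isOpenEmbedding_subtypeVal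
    · ext ⟨z, hz⟩
      constructor
      · intro hzE
        exact ⟨_, ⟨z, hzE, rfl⟩, ⟨hxu z hzE, subset_closure rfl⟩⟩
      · rintro ⟨T, ⟨x, hx, rfl⟩, hzT⟩
        exact husub x hx hzT

end Groth.Agent.S3401
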