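import Groth.Statements.S3402
import Groth.Agent.Lib.Helper17.ConstrTop

set_option autoImplicit false
open CategoryTheory AlgebraicGeometry
universe u
open EGA41

namespace Groth.Agent.S3402

/-- A subset E of a scheme X is locally constructible if and only if it is both ind-constructible and
pro-constructible. -/
theorem result (X : Scheme.{u}) (E : Set X) :
    Topology.IsLocallyConstructible E ↔ ProCons.IsIndConstructible E ∧ ProCons.IsProConstructible E := by
  constructor
  · intro hE
    constructor
    · intro x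
      refine ⟨Set.univ, isOpen_univ, Set.mem_univ x, {Subtype.val ⁻¹' E}, ?_, ?_⟩
      · intro T hT
        rw [Set.mem_singleton_iff] at hT
        subst hT
        exact hE.preimage_of_isOpenEmbedding isOpen_univ.isOpenEmbedding_subtypeVal
      · rw [Set.sUnion_singleton]
    · intro x
      refine ⟨Set.univ, isOpen_univ, Set.mem_univ x, {Subtype.val ⁻¹' E}, ?_, ?_⟩
      · intro T hT
        rw [Set.mem_singleton_iff] at hT
        subst hT
        exact hE.preimage_of_isOpenEmbedding isOpen_univ.isOpenEmbedding_subtypeVal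
      · rw [Set.sInter_singleton]
  · rintro ⟨hind, hpro⟩
    intro x
    obtain ⟨U1, hU1, hx1, S, hS, hES⟩ := hind x
    obtain ⟨U2, hU2, hx2, T, hT, hET⟩ := hpro x
    obtain ⟨U, hU, hxU, hUW, hc, hqs, hsob, hpre⟩ :=
      Groth.Agent.Lib.Helper17.exists_spectral_open_nhd X x (U1 ∩ U2) (hU1.inter hU2) ⟨hx1, hx2⟩
    have h1 : Set.MapsTo id U U1 := fun y hy => (hUW hy).1
    have h2 : Set.MapsTo id U U2 := fun y hy => (hUW hy).2
    have hi1 : Topology.IsOpenEmbedding (h1.restrict id U U1) :=
      Topology.IsOpenEmbedding.id.restrict h1 hU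
    have hi2 : Topology.IsOpenEmbedding (h2.restrict id U U2) :=
      Topology.IsOpenEmbedding.id.restrict h2 hU
    let S' : ↥S → Set ↥U := fun j => (h1.restrict id U U1) ⁻¹' j.1
    let T' : ↥T → Set ↥U := fun j => (h2.restrict id U U2) ⁻¹' j.1
    have hS' : ∀ j, Topology.IsConstructible (S' j) := fun j =>
      ((hS j.1 j.2).preimage_of_isOpenEmbedding hi1).isConstructible
    have hT' : ∀ j, Topology.IsConstructible (T' j) := fun j =>
      ((hT j.1 j.2).preimage_of_isOpenEmbedding hi2).isConstructible
    have hES' : (Subtype.val ⁻¹' E : Set ↥U) = ⋃ j, S' j := by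
      ext y
      have : y.1 ∈ E ↔ (h1.restrict id U U1 y) ∈ (Subtype.val ⁻¹' E : Set ↥U1) := Iff.rfl
      rw [Set.mem_preimage, this, hES, Set.mem_sUnion, Set.mem_iUnion]
      constructor
      · rintro ⟨s, hs, hys⟩
        exact ⟨⟨s, hs⟩, hys⟩
      · rintro ⟨⟨s, hs⟩, hys⟩
        exact ⟨s, hs, hys⟩
    have hET' : (Subtype.val ⁻¹' E : Set ↥U) = ⋂ j, T' j := by
      ext y
      have : y.1 ∈ E ↔ (h2.restrict id U U2 y) ∈ (Subtype.val ⁻¹' E : Set ↥U2) := Iff.rfl
      rw [Set.mem_preimage, this, hET, Set.mem_sInter, Set.mem_iInter]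
      constructor
      · intro h j
        exact h j.1 j.2
      · intro h t ht
        exact h ⟨t, ht⟩
    obtain ⟨s, t, hst⟩ := Groth.Agent.Lib.Helper17.exists_finset_iInter_subset_iUnion T' hT' S' hS'
      (by rw [← hET', ← hES'])
    have hfin : (Subtype.val ⁻¹' E : Set ↥U) = ⋃ j ∈ t, S' j := by
      apply Set.Subset.antisymm
      · refine Set.Subset.trans ?_ hst
        rw [hET']
        intro y hy
        rw [Set.mem_iInter] at hy
        rw [Set.mem_iInter₂]
        exact fun i _ => hy i
      · rw [hES']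
        exact Set.iUnion₂_subset fun j _ => Set.subset_iUnion S' j
    refine ⟨U, hU.mem_nhds hxU, hU, ?_⟩
    rw [hfin]
    exact Topology.IsConstructible.biUnion t.finite_toSet (fun j _ => hS' j)

end Groth.Agent.S3402
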