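import Groth.Statements.S3403
import Groth.Agent.Lib.Helper17.ConstrTop

set_option autoImplicit false
open CategoryTheory AlgebraicGeometry
universe u
open EGA41

namespace Groth.Agent.S3403

/-- Let X be a scheme, E an ind-constructible subset of X and x a point of X. Then x is an interior
point of E if and only if every generization of x belongs to E. -/
theorem result (X : Scheme.{u}) (E : Set X)
    (hE : ProCons.IsIndConstructible E) (x : X) :
    x ∈ interior E ↔ ∀ x' : X, x' ⤳ x → x' ∈ E := by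
  constructor
  · intro hx x' hx'
    exact interior_subset (hx'.mem_open isOpen_interior hx)
  · intro hgen
    obtain ⟨U1, hU1, hx1, S, hS, hES⟩ := hE x
    obtain ⟨U, hU, hxU, hUW, hc, hqs, hsob, hpre⟩ :=
      Groth.Agent.Lib.Helper17.exists_spectral_open_nhd X x U1 hU1 hx1
    have h1 : Set.MapsTo id U U1 := fun y hy => hUW hy
    have hi1 : Topology.IsOpenEmbedding (h1.restrict id U U1) :=
      Topology.IsOpenEmbedding.id.restrict h1 hU
    let S' : ↥S → Set ↥U := fun j => (h1.restrict id U U1) ⁻¹' j.1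
    have hS' : ∀ j, Topology.IsConstructible (S' j) := fun j =>
      ((hS j.1 j.2).preimage_of_isOpenEmbedding hi1).isConstructible
    have hES' : (Subtype.val ⁻¹' E : Set ↥U) = ⋃ j, S' j := by
      ext y
      have : y.1 ∈ E ↔ (h1.restrict id U U1 y) ∈ (Subtype.val ⁻¹' E : Set ↥U1) := Iff.rfl
      rw [Set.mem_preimage, this, hES, Set.mem_sUnion, Set.mem_iUnion]
      constructor
      · rintro ⟨s, hs, hys⟩
        exact ⟨⟨s, hs⟩, hys⟩
      · rintro ⟨⟨s, hs⟩, hys⟩
        exact ⟨s, hs, hys⟩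
    let x0 : ↥U := ⟨x, hxU⟩
    let C : {V : Set ↥U // IsOpen V ∧ IsCompact V ∧ x0 ∈ V} → Set ↥U := fun V => V.1
    have hC : ∀ V, Topology.IsConstructible (C V) := fun V => V.2.2.1.isConstructible V.2.1
    have hsub : ⋂ V, C V ⊆ ⋃ j, S' j := by
      intro y hy
      rw [Set.mem_iInter] at hy
      have hspec : y ⤳ x0 := by
        rw [specializes_iff_forall_open]
        intro s hs hx0s
        obtain ⟨V, ⟨hV1, hV2⟩, hx0V, hVs⟩ :=
          PrespectralSpace.isTopologicalBasis.mem_nhds_iff.mp (hs.mem_nhds hx0s)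
        exact hVs (hy ⟨V, hV1, hV2, hx0V⟩)
      have hspec' : y.1 ⤳ x := hspec.map continuous_subtype_val
      have : y ∈ (Subtype.val ⁻¹' E : Set ↥U) := hgen y.1 hspec'
      rwa [hES'] at this
    obtain ⟨s, t, hst⟩ := Groth.Agent.Lib.Helper17.exists_finset_iInter_subset_iUnion C hC S' hS' hsub
    let V0 : Set ↥U := ⋂ V ∈ s, C V
    have hV0open : IsOpen V0 := isOpen_biInter_finset fun V _ => V.2.1
    have hx0V0 : x0 ∈ V0 := Set.mem_iInter₂.mpr fun V _ => V.2.2.2
    have hV0E : V0 ⊆ (Subtype.val ⁻¹' E : Set ↥U) := by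
      refine Set.Subset.trans hst ?_
      rw [hES']
      exact Set.iUnion₂_subset fun j _ => Set.subset_iUnion S' j
    rw [mem_interior]
    refine ⟨Subtype.val '' V0, ?_, hU.isOpenEmbedding_subtypeVal.isOpenMap _ hV0open, ⟨x0, hx0V0, rfl⟩⟩
    rintro _ ⟨y, hy, rfl⟩
    exact hV0E hy

end Groth.Agent.S3403
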