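import Groth.Statements.S3404
import Groth.Agent.Lib.Helper17.ConstrTop
import Groth.Agent.S3402
import Groth.Agent.S3403

set_option autoImplicit false
open CategoryTheory AlgebraicGeometry
universe u
open EGA41

namespace Groth.Agent.S3404

open Groth.Agent.Lib.Helper17 in
/-- generizations lift along a map which is open at a point -/
theorem lift_gen {X Y : Scheme.{u}} (f : X ⟶ Y) (x : X) (hopen : EGA43.IsOpenAt f.base x)
    (y' : Y) (hy' : y' ⤳ f.base x) : ∃ x' : X, x' ⤳ x ∧ f.base x' = y' := by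
  classical
  have hb : ∀ {U : TopologicalSpace.Opens ↥Y} {x : ↥Y}, x ∈ U →
      ∃ U' ∈ Y.affineOpens, x ∈ U' ∧ U' ≤ U :=
    TopologicalSpace.Opens.isBasis_iff_nbhd.mp Y.isBasis_affineOpens
  have hb' : ∀ {U : TopologicalSpace.Opens ↥X} {x : ↥X}, x ∈ U →
      ∃ U' ∈ X.affineOpens, x ∈ U' ∧ U' ≤ U :=
    TopologicalSpace.Opens.isBasis_iff_nbhd.mp X.isBasis_affineOpens
  obtain ⟨W, hW, hfxW, -⟩ := @hb ⊤ (f.base x) trivial
  have hWaff : IsAffineOpen W := hW
  have hy'W : y' ∈ W := hy'.mem_open W.2 hfxW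
  obtain ⟨U, hU, hxU, e⟩ := @hb' (f ⁻¹ᵁ W) x hfxW
  have hUaff : IsAffineOpen U := hU
  haveI : CompactSpace ↥U := isCompact_iff_compactSpace.mp hUaff.isCompact
  haveI : QuasiSeparatedSpace ↥U :=
    (isQuasiSeparated_iff_quasiSeparatedSpace _ U.2).mp hUaff.isQuasiSeparated
  haveI : PrespectralSpace ↥U := U.2.isOpenEmbedding_subtypeVal.prespectralSpace
  haveI : QuasiSober ↥U := U.2.isOpenEmbedding_subtypeVal.quasiSober
  haveI : PrespectralSpace ↥W := W.2.isOpenEmbedding_subtypeVal.prespectralSpace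
  haveI : QuasiSeparatedSpace ↥W :=
    (isQuasiSeparated_iff_quasiSeparatedSpace _ W.2).mp hWaff.isQuasiSeparated
  let g := f.resLE W U e
  let x0 : ↥U := ⟨x, hxU⟩
  let y0 : ↥W := ⟨y', hy'W⟩
  have hg : ∀ z : ↥U, (g.base z).1 = f.base z.1 := fun z => Scheme.Hom.coe_resLE_apply f e z
  let F : ({V : Set ↥W // IsOpen V ∧ IsCompact V ∧ y0 ∈ V} ⊕
      ({V : Set ↥W // IsOpen V ∧ IsCompact V ∧ y0 ∉ V} ⊕
        {N : Set ↥U // IsOpen N ∧ IsCompact N ∧ x0 ∈ N})) → Set ↥U :=
    Sum.elim (fun V => g.base ⁻¹' V.1) (Sum.elim (fun V => (g.base ⁻¹' V.1)ᶜ) (fun N => N.1))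
  have hF : ∀ a, Topology.IsConstructible (F a) := by
    rintro (V | V | N)
    · exact Scheme.Hom.isConstructible_preimage g (V.2.2.1.isConstructible V.2.1)
    · exact (Scheme.Hom.isConstructible_preimage g (V.2.2.1.isConstructible V.2.1)).compl
    · exact N.2.2.1.isConstructible N.2.1
  have hne : (⋂ a, F a).Nonempty := by
    by_contra hempty
    rw [Set.not_nonempty_iff_eq_empty] at hempty
    obtain ⟨u, hu⟩ := exists_finset_iInter_eq_empty F hF hempty
    -- finite intersection of the neighbourhoods of x0 in u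
    let N0 : Set ↥U := ⋂ a ∈ u, Sum.elim (fun _ => Set.univ)
      (Sum.elim (fun _ => Set.univ) (fun N => N.1)) a
    have hN0open : IsOpen N0 := by
      apply isOpen_biInter_finset
      rintro (V | V | N) _
      · exact isOpen_univ
      · exact isOpen_univ
      · exact N.2.1
    have hx0N0 : x0 ∈ N0 := by
      rw [Set.mem_iInter₂]
      rintro (V | V | N) _
      · trivial
      · trivial
      · exact N.2.2.2
    have hnhd : Subtype.val '' N0 ∈ nhds x :=
      (U.2.isOpenEmbedding_subtypeVal.isOpenMap _ hN0open).mem_nhds ⟨x0, hx0N0, rfl⟩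
    have h2 : f.base '' (Subtype.val '' N0) ∈ nhds (f.base x) := hopen _ hnhd
    have h3 : y' ∈ f.base '' (Subtype.val '' N0) := mem_of_mem_nhds (hy' h2)
    obtain ⟨_, ⟨z, hzN0, rfl⟩, hfz⟩ := h3
    have hgz : g.base z = y0 := Subtype.ext ((hg z).trans hfz)
    have : z ∈ ⋂ a ∈ u, F a := by
      rw [Set.mem_iInter₂]
      rintro (V | V | N) ha
      · change g.base z ∈ V.1
        rw [hgz]; exact V.2.2.2
      · change g.base z ∉ V.1
        rw [hgz]; exact V.2.2.2
      · rw [Set.mem_iInter₂] at hzN0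
        exact hzN0 _ ha
    rw [hu] at this
    exact this
  obtain ⟨z, hz⟩ := hne
  rw [Set.mem_iInter] at hz
  have hspec : z ⤳ x0 := by
    rw [specializes_iff_forall_open]
    intro s hs hx0s
    obtain ⟨V, ⟨hV1, hV2⟩, hx0V, hVs⟩ :=
      PrespectralSpace.isTopologicalBasis.mem_nhds_iff.mp (hs.mem_nhds hx0s)
    exact hVs (hz (Sum.inr (Sum.inr ⟨V, hV1, hV2, hx0V⟩)))
  have hins : Inseparable (g.base z) y0 := by
    rw [inseparable_iff_forall_isOpen]
    intro s hs
    constructor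
    · intro hgzs
      obtain ⟨V, ⟨hV1, hV2⟩, hgzV, hVs⟩ :=
        PrespectralSpace.isTopologicalBasis.mem_nhds_iff.mp (hs.mem_nhds hgzs)
      by_contra hy0s
      have hy0V : y0 ∉ V := fun h => hy0s (hVs h)
      exact hz (Sum.inr (Sum.inl ⟨V, hV1, hV2, hy0V⟩)) hgzV
    · intro hy0s
      obtain ⟨V, ⟨hV1, hV2⟩, hy0V, hVs⟩ :=
        PrespectralSpace.isTopologicalBasis.mem_nhds_iff.mp (hs.mem_nhds hy0s)
      exact hVs (hz (Sum.inl ⟨V, hV1, hV2, hy0V⟩))
  have hgz : g.base z = y0 := hins.eq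
  refine ⟨z.1, hspec.map continuous_subtype_val, ?_⟩
  rw [← hg z, hgz]

/-- converse for morphisms locally of finite presentation -/
theorem isOpenAt_of_lift_gen {X Y : Scheme.{u}} (f : X ⟶ Y) [LocallyOfFinitePresentation f]
    (x : X) (H : ∀ y' : Y, y' ⤳ f.base x → ∃ x' : X, x' ⤳ x ∧ f.base x' = y') :
    EGA43.IsOpenAt f.base x := by
  intro N hN
  have hb : ∀ {U : TopologicalSpace.Opens ↥Y} {x : ↥Y}, x ∈ U →
      ∃ U' ∈ Y.affineOpens, x ∈ U' ∧ U' ≤ U :=
    TopologicalSpace.Opens.isBasis_iff_nbhd.mp Y.isBasis_affineOpens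
  have hb' : ∀ {U : TopologicalSpace.Opens ↥X} {x : ↥X}, x ∈ U →
      ∃ U' ∈ X.affineOpens, x ∈ U' ∧ U' ≤ U :=
    TopologicalSpace.Opens.isBasis_iff_nbhd.mp X.isBasis_affineOpens
  obtain ⟨W, hW, hfxW, -⟩ := @hb ⊤ (f.base x) trivial
  have hWaff : IsAffineOpen W := hW
  obtain ⟨U, hU, hxU, hUsub⟩ := @hb' (⟨interior N, isOpen_interior⟩ ⊓ f ⁻¹ᵁ W) x
    ⟨mem_interior_iff_mem_nhds.mpr hN, hfxW⟩
  have hUaff : IsAffineOpen U := hU
  have e : U ≤ f ⁻¹ᵁ W := hUsub.trans inf_le_right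
  have hUN : (U : Set X) ⊆ N := fun a ha => interior_subset (hUsub ha).1
  let g := f.resLE W U e
  have hg : ∀ z : ↥U, (g.base z).1 = f.base z.1 := fun z => Scheme.Hom.coe_resLE_apply f e z
  haveI : IsAffine W.toScheme := hWaff
  haveI : IsAffine U.toScheme := hUaff
  haveI : QuasiCompact g :=
    HasAffineProperty.iff_of_isAffine.mpr (inferInstanceAs (CompactSpace U.toScheme))
  have hlc : Topology.IsLocallyConstructible (Set.range g.base) := by
    rw [← Set.image_univ]
    exact g.isLocallyConstructible_image Topology.IsConstructible.univ.isLocallyConstructible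
  have hind : ProCons.IsIndConstructible (Set.range g.base) :=
    ((Groth.Agent.S3402.result W.toScheme (Set.range g.base)).mp hlc).1
  let y0 : ↥(W.toScheme) := ⟨f.base x, hfxW⟩
  have hint : y0 ∈ interior (Set.range g.base) := by
    refine (Groth.Agent.S3403.result W.toScheme (Set.range g.base) hind y0).mpr ?_
    intro y'' hy''
    have h1 : y''.1 ⤳ f.base x := hy''.map continuous_subtype_val
    obtain ⟨x', hx', hfx'⟩ := H y''.1 h1
    have hx'U : x' ∈ U := hx'.mem_open U.2 hxU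
    refine ⟨⟨x', hx'U⟩, ?_⟩
    apply Subtype.ext
    rw [hg]
    exact hfx'
  have hopen : IsOpen (Subtype.val '' interior (Set.range g.base) : Set Y) :=
    W.2.isOpenEmbedding_subtypeVal.isOpenMap _ isOpen_interior
  refine Filter.mem_of_superset (hopen.mem_nhds ⟨y0, hint, rfl⟩) ?_
  rintro _ ⟨w, hw, rfl⟩
  obtain ⟨z, rfl⟩ := interior_subset hw
  exact ⟨z.1, hUN z.2, (hg z).symm⟩

/-- Let f : X ⟶ Y be a morphism of schemes, x a point of X and y = f x. If f is open at x then every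
generization of y is the image of a generization of x; when f is locally of finite presentation the
converse holds. -/
theorem result {X Y : Scheme.{u}} (f : X ⟶ Y) (x : X) :
    (EGA43.IsOpenAt f.base x → ∀ y' : Y, y' ⤳ f.base x → ∃ x' : X, x' ⤳ x ∧ f.base x' = y') ∧
    (LocallyOfFinitePresentation f →
      ((EGA43.IsOpenAt f.base x) ↔ ∀ y' : Y, y' ⤳ f.base x → ∃ x' : X, x' ⤳ x ∧ f.base x' = y')) := by
  refine ⟨fun h y' hy' => lift_gen f x h y' hy', fun hlfp => ⟨fun h y' hy' => lift_gen f x h y' hy',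
    fun H => ?_⟩⟩
  haveI := hlfp
  exact isOpenAt_of_lift_gen f x H

end Groth.Agent.S3404
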