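import Groth.Statements.S3406
import Groth.Agent.Lib.Helper29.DimTheory

set_option autoImplicit false
universe u
open EGA41
open Groth.Agent.Lib.Helper29

namespace Groth.Agent.S3406

/-- The equality s(M) = dim(M): let A be a Noetherian ring with finitely many maximal ideals, r its
Jacobson radical and M a nonzero finitely generated A-module. Then the dimension of M (the Krull
dimension of its support) is the least n for which there are elements x_1, …, x_n of r such that
M/(x_1 M + ⋯ + x_n M) has finite length. -/
theorem result (A : Type u) [CommRing A] [IsNoetherianRing A]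
    [Finite (MaximalSpectrum A)] (M : Type u) [AddCommGroup M] [Module A M] [Module.Finite A M] [Nontrivial M] :
    Module.supportDim A M =
      sInf {k : WithBot ℕ∞ | ∃ (n : ℕ) (x : Fin n → A), k = n ∧ (∀ i, x i ∈ Ring.jacobson A) ∧
        IsFiniteLength A (M ⧸ (Ideal.span (Set.range x) • (⊤ : Submodule A M)))} := by
  apply le_antisymm
  · apply le_sInf
    rintro k ⟨n, x, rfl, hx, hfl⟩
    have hspan : Ideal.span (Set.range x) = Ideal.ofList (List.ofFn x) := by
      unfold Ideal.ofList
      congr 1
      ext a
      simp [List.mem_ofFn]
    rw [hspan] at hfl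
    have h1 := DimTheory.supportDim_le_quotient_add_length (List.ofFn x) M (by
      intro y hy
      rw [List.mem_ofFn] at hy
      obtain ⟨i, rfl⟩ := hy
      exact hx i)
    have h2 := DimTheory.supportDim_le_zero_of_isFiniteLength _ hfl
    rw [List.length_ofFn] at h1
    calc Module.supportDim A M ≤ _ := h1
      _ ≤ 0 + (n : WithBot ℕ∞) := by gcongr
      _ = n := zero_add _
  · obtain ⟨n, hn⟩ := DimTheory.exists_nat_supportDim A M
    obtain ⟨ys, hys, hlen, hle⟩ := DimTheory.exists_parameters n M hn
    apply sInf_le
    subst hlen
    refine ⟨ys.length, ys.get, hn, fun i => hys _ (List.get_mem ys i), ?_⟩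
    have hspan : Ideal.span (Set.range ys.get) = Ideal.ofList ys := by
      unfold Ideal.ofList
      rw [Set.range_list_get]
    rw [hspan]
    exact DimTheory.isFiniteLength_of_supportDim_le_zero _ hle

end Groth.Agent.S3406
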