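import Groth.Statements.S3413
import Groth.Agent.Lib.Helper7.IrrDisj2

set_option autoImplicit false
open CategoryTheory AlgebraicGeometry
universe u
open EGA43

namespace Groth.Agent.S3413

/-- Let Y be locally Noetherian with all local rings geometrically unibranch, f : X ⟶ Y separated,
quasi-finite and universally open, and n(z) the geometric number of points of the fibre over z. If n
is locally constant on Y, then the irreducible components of X are pairwise disjoint. -/
theorem result {X Y : Scheme.{u}} [IsLocallyNoetherian Y]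
    (hY : ∀ y : Y, CAlg2.IsGeomUnibranch (Y.presheaf.stalk y)) (f : X ⟶ Y)
    [IsSeparated f] [LocallyQuasiFinite f] [LocallyOfFiniteType f] [QuasiCompact f] [UniversallyOpen f]
    (hn : IsLocallyConstant (fun z : Y => MoreMor.nGeomConnComp f z)) :
    ∀ Z ∈ irreducibleComponents (X : Type u), ∀ Z' ∈ irreducibleComponents (X : Type u), Z ≠ Z' → Disjoint Z Z' := by
  classical
  intro Z hZ Z' hZ' hne
  rw [Set.disjoint_iff]
  rintro x ⟨hxZ, hxZ'⟩
  exfalso
  apply hne
  -- directedness of the generizations of `x`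
  have hdir : Groth.Agent.Lib.Helper7.IrrDisj.Dir x := by
    obtain ⟨Ω, _, _, yb, hyb⟩ :=
      Groth.Agent.Lib.Helper70.GeomPts.exists_geometric_point (f x)
    obtain ⟨n, hn1, hn2⟩ :=
      Groth.Agent.Lib.Helper70.GeomCount.nGeomConnComp_eq_fibreIntegral f (f x)
    refine Groth.Agent.Lib.Helper7.IrrDisj.dir_aux n f
      (fun v => f.finite_preimage_singleton v) hY Ω yb
      (fun x' _ => Groth.Agent.Lib.Helper70.UnivOpenAt.isUnivOpenAt_of_universallyOpen f x')
      (by rw [hyb]; exact hn2) ?_ x hyb.symm
    rw [hyb]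
    filter_upwards [hn.eventually_eq (f x)] with z hz
    obtain ⟨m, hm1, hm2⟩ :=
      Groth.Agent.Lib.Helper70.GeomCount.nGeomConnComp_eq_fibreIntegral f z
    rw [hn1, hm1] at hz
    have hmn : m = n := by exact_mod_cast hz
    rw [hm2, hmn]
  -- generic points of the two components
  obtain ⟨ζ, hζ⟩ := QuasiSober.sober hZ.1 (isClosed_of_mem_irreducibleComponents Z hZ)
  obtain ⟨ζ', hζ'⟩ := QuasiSober.sober hZ'.1 (isClosed_of_mem_irreducibleComponents Z' hZ')
  have h1 : ζ ⤳ x := hζ.specializes hxZ
  have h2 : ζ' ⤳ x := hζ'.specializes hxZ'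
  obtain ⟨μ, hμ1, hμ2⟩ := hdir ζ ζ' h1 h2
  have hirr : IsIrreducible (closure ({μ} : Set X)) := isIrreducible_singleton.closure
  have hZle : Z ≤ closure ({μ} : Set X) := by
    rw [← hζ.def]
    exact closure_minimal (Set.singleton_subset_iff.mpr (specializes_iff_mem_closure.mp hμ1))
      isClosed_closure
  have hZ'le : Z' ≤ closure ({μ} : Set X) := by
    rw [← hζ'.def]
    exact closure_minimal (Set.singleton_subset_iff.mpr (specializes_iff_mem_closure.mp hμ2))
      isClosed_closure
  have e1 : closure ({μ} : Set X) ≤ Z := hZ.2 hirr hZle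
  have e2 : closure ({μ} : Set X) ≤ Z' := hZ'.2 hirr hZ'le
  exact le_antisymm (hZle.trans e2) (hZ'le.trans e1)

end Groth.Agent.S3413
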