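import Groth.Statements.S3417
import Groth.Agent.Lib.Helper25.GenFibreConn2
import Groth.Agent.Lib.Helper25.UnivOpenAt

set_option autoImplicit false
open CategoryTheory AlgebraicGeometry
universe u
open EGA43

namespace Groth.Agent.S3417

/-- Let A be a discrete valuation ring, Y = Spec A with closed point a and generic point b, and f : X ⟶
Y a morphism locally of finite type which is open (as a map of spaces). If X is connected and the
fibre over a is a reduced scheme, then the fibre over b is connected. (Stated with 'preconnected',
which also covers the empty case; a is the closed point and b the point specialising to every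
point.) -/
theorem result (A : Type u) [CommRing A] [IsDomain A]
    [IsDiscreteValuationRing A] {X : Scheme.{u}} (f : X ⟶ Spec (CommRingCat.of A)) [LocallyOfFiniteType f]
    (hopen : IsOpenMap f.base) [PreconnectedSpace X]
    (a b : ↥(Spec (CommRingCat.of A))) (ha : IsClosed ({a} : Set ↥(Spec (CommRingCat.of A))))
    (hb : ∀ z : ↥(Spec (CommRingCat.of A)), b ⤳ z)
    (hred : AlgebraicGeometry.IsReduced (f.fiber a)) :
    PreconnectedSpace ↥(f.fiber b) := by
  -- `a` is the closed point
  have haeq : a = IsLocalRing.closedPoint A := by
    have hmax : a.asIdeal.IsMaximal := (PrimeSpectrum.isClosed_singleton_iff_isMaximal a).mp ha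
    exact PrimeSpectrum.ext (IsLocalRing.eq_maximalIdeal hmax)
  subst haeq
  -- `b` is the generic point
  have hb0 : b.asIdeal = ⊥ := by
    have h1 := hb (⟨⊥, Ideal.isPrime_bot⟩ : PrimeSpectrum A)
    have h2 : b.asIdeal ≤ ⊥ :=
      (PrimeSpectrum.le_iff_specializes (b : PrimeSpectrum A) ⟨⊥, Ideal.isPrime_bot⟩).mpr h1
    exact le_bot_iff.mp h2
  have hset : f.base ⁻¹' ({b} : Set ↥(Spec (CommRingCat.of A))) =
      f.base ⁻¹' ({IsLocalRing.closedPoint A} : Set (PrimeSpectrum A))ᶜ := by
    ext p
    show f.base p = b ↔ ¬ (f.base p = IsLocalRing.closedPoint A)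
    constructor
    · intro hpb hz
      have : (⊥ : Ideal A) = IsLocalRing.maximalIdeal A :=
        hb0.symm.trans (congrArg PrimeSpectrum.asIdeal (hpb.symm.trans hz))
      exact IsDiscreteValuationRing.not_a_field A this.symm
    · intro hz
      exact PrimeSpectrum.ext
        ((Groth.Agent.Lib.Helper25.UnivOpenAt.asIdeal_eq_bot_of_ne_closedPoint _ hz).trans
          hb0.symm)
  have hpre := Groth.Agent.Lib.Helper25.GenFibreConn.isPreconnected_generic_fibre A f hopen hred
  rw [← hset] at hpre
  have : PreconnectedSpace ↥(f.base ⁻¹' ({b} : Set ↥(Spec (CommRingCat.of A)))) :=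
    isPreconnected_iff_preconnectedSpace.mp hpre
  exact (f.fiberHomeo b).symm.surjective.denseRange.preconnectedSpace
    (f.fiberHomeo b).symm.continuous

end Groth.Agent.S3417
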