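import Groth.Statements.S3419
import Mathlib
import Groth.Agent.Lib.Helper21.FibreClosureDim
import Groth.Agent.Lib.Helper21.FibreTd
import Groth.Agent.Lib.Helper73.FibreDimGen
import Groth.Agent.S4954
import Groth.Agent.S4952
-- import your own Groth.Agent.* helpers here

set_option autoImplicit false
set_option linter.style.haveILetI false
set_option linter.unusedSectionVars false
set_option linter.unusedVariables false
open CategoryTheory AlgebraicGeometry
universe u
open EGA43

namespace Groth.Agent.S3419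

open Groth.Agent.Lib.Helper21.FieldDim Groth.Agent.Lib.Helper21.FibreClosureDim
open Groth.Agent.S4954 Groth.Agent.S4952

/-- Let Y be locally Noetherian, f : X ⟶ Y locally of finite type and g a section of f; for y in Y let
X⁰_y be the connected component of the fibre f⁻¹(y) containing g(y). Suppose every X⁰_y is
irreducible. Then y ↦ dim X⁰_y is upper semicontinuous on Y; and if this function is constant on a
neighbourhood of a point y, then X⁰_y is contained in the closure of X⁰_{y'} for every generization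
y' of y. -/
theorem result {X Y : Scheme.{u}} [IsLocallyNoetherian Y] (f : X ⟶ Y)
    [LocallyOfFiniteType f] (g : Y ⟶ X) (hg : g ≫ f = 𝟙 Y)
    (hirr : ∀ y : Y, IsIrreducible (connectedComponentIn (f.base ⁻¹' {y}) (g.base y))) :
    UpperSemicontinuous (fun y : Y => topologicalKrullDim ↥(connectedComponentIn (f.base ⁻¹' {y}) (g.base y))) ∧
      ∀ y : Y, (∃ V ∈ nhds y, ∀ z ∈ V, topologicalKrullDim ↥(connectedComponentIn (f.base ⁻¹' {z}) (g.base z)) = topologicalKrullDim ↥(connectedComponentIn (f.base ⁻¹' {y}) (g.base y))) →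
        ∀ y' : Y, y' ⤳ y → connectedComponentIn (f.base ⁻¹' {y}) (g.base y) ⊆ closure (connectedComponentIn (f.base ⁻¹' {y'}) (g.base y')) := by
  have hgy : ∀ t : Y, f.base (g.base t) = t := by
    intro t; rw [← Scheme.Hom.comp_apply, hg]; rfl
  have hgen : ∀ y : Y, ∃ ξ ∈ connectedComponentIn (f.base ⁻¹' {y}) (g.base y),
      ∀ x ∈ connectedComponentIn (f.base ⁻¹' {y}) (g.base y), ξ ⤳ x := fun y =>
    exists_generic_of_irreducible f y _ (connectedComponentIn_subset _ _) (hirr y)
      (inter_closure_eq (f.base ⁻¹' {y}) (g.base y))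
  refine ⟨?_, ?_⟩
  · have key : ∀ (y : Y) (d : WithBot ℕ∞),
        topologicalKrullDim ↥(connectedComponentIn (f.base ⁻¹' {y}) (g.base y)) ≤ d ↔
          FlatMor.fibreDimAt f (g.base y) ≤ d := by
      intro y d
      obtain ⟨ξ, hξC, hgen⟩ := hgen y
      exact dim_le_iff f g hg y ξ hξC hgen d
    have hnat : ∀ y : Y, ∃ m : ℕ,
        topologicalKrullDim ↥(connectedComponentIn (f.base ⁻¹' {y}) (g.base y)) = (m : WithBot ℕ∞) := by
      intro y
      obtain ⟨ξ, hξC, hgen⟩ := hgen y
      exact ⟨_, exists_nat f g hg y ξ hξC hgen⟩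
    intro y₀ d hd
    obtain ⟨m, hm⟩ := hnat y₀
    have hopen : IsOpen {y : Y | FlatMor.fibreDimAt f (g.base y) ≤ (m : WithBot ℕ∞)} :=
      (Groth.Agent.Lib.Helper73.SchemeDim.isOpen_setOf_fibreDimAt_le f m).preimage g.continuous
    have hmem : y₀ ∈ {y : Y | FlatMor.fibreDimAt f (g.base y) ≤ (m : WithBot ℕ∞)} :=
      (key y₀ m).mp hm.le
    filter_upwards [hopen.mem_nhds hmem] with y hy
    have h1 := (key y m).mpr hy
    have h2 : ((m : ℕ) : WithBot ℕ∞) < d := by rw [← hm]; exact hd
    exact lt_of_le_of_lt h1 h2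
  · intro y ⟨V, hV, hconst⟩ y' hy'
    have hy'V : y' ∈ V := by
      obtain ⟨W, hWV, hWo, hyW⟩ := mem_nhds_iff.mp hV
      exact hWV (hy'.mem_open hWo hyW)
    have hgF' : g.base y' ∈ f.base ⁻¹' {y'} := hgy y'
    have hS := Groth.Agent.S4952.result f g hg y y' hy'
      ⟨connectedComponentIn (f.base ⁻¹' {y'}) (g.base y'), connectedComponentIn_subset _ _,
        hirr y', ?_, mem_connectedComponentIn hgF', rfl⟩
    · exact hS.2 (hirr y) (hconst y' hy'V).symm
    · intro Z' hZ' hZ'F hsub
      apply subset_antisymm _ hsub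
      exact hZ'.isConnected.isPreconnected.subset_connectedComponentIn
        (hsub (mem_connectedComponentIn hgF')) hZ'F

end Groth.Agent.S3419
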