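import Groth.Statements.S3428
import Groth.Agent.Lib.Helper24.ConsSetLoci
-- import your own Groth.Agent.* helpers here

set_option autoImplicit false
open CategoryTheory AlgebraicGeometry
universe u
open EGA43

namespace Groth.Agent.S3428

open CategoryTheory.Limits in
/-- the homeomorphism between the scheme-theoretic fibre and the set-theoretic fibre. -/
noncomputable def fibreHomeo {X S : Scheme.{u}} (f : X ⟶ S) (s : S) :
    ↥(f.fiber s) ≃ₜ ↥(f.base ⁻¹' {s}) :=
  (f.fiberι s).isEmbedding.toHomeomorph.trans (Homeomorph.setCongr (Scheme.Hom.range_fiberι f s))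

lemma preimage_eq {X S : Scheme.{u}} (f : X ⟶ S) (s : S) (Z : Set X) :
    (f.fiberι s) ⁻¹' Z = (fibreHomeo f s) ⁻¹' (Subtype.val ⁻¹' Z) := rfl

/-- Let f : X ⟶ S be of finite presentation (locally of finite presentation, quasi-compact,
quasi-separated) and Z a locally constructible subset of X. Then the set of points s of S such that
Z ∩ f⁻¹(s) is closed in the fibre f⁻¹(s) (with the topology induced from X), the set of s such that
it is open in the fibre, and the set of s such that it is locally closed in the fibre, are locally
constructible in S. -/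
theorem result {X S : Scheme.{u}} (f : X ⟶ S)
    [LocallyOfFinitePresentation f] [QuasiCompact f] [QuasiSeparated f] (Z : Set X)
    (hZ : Topology.IsLocallyConstructible Z) :
    Topology.IsLocallyConstructible {s : S | IsClosed (Subtype.val ⁻¹' Z : Set ↥(f.base ⁻¹' {s}))} ∧
      Topology.IsLocallyConstructible {s : S | IsOpen (Subtype.val ⁻¹' Z : Set ↥(f.base ⁻¹' {s}))} ∧
      Topology.IsLocallyConstructible {s : S | IsLocallyClosed (Subtype.val ⁻¹' Z : Set ↥(f.base ⁻¹' {s}))} := by
  refine ⟨?_, ?_, ?_⟩
  · have := Groth.Agent.Lib.Helper24.ConsSetLoci.isLocallyConstructible_setOf_isClosed f hZ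
    convert this using 3 with s
    rw [preimage_eq, (fibreHomeo f s).isClosed_preimage]
  · have := Groth.Agent.Lib.Helper24.ConsSetLoci.isLocallyConstructible_setOf_isOpen f hZ
    convert this using 3 with s
    rw [preimage_eq, (fibreHomeo f s).isOpen_preimage]
  · have := Groth.Agent.Lib.Helper24.ConsSetLoci.isLocallyConstructible_setOf_isLocallyClosed f hZ
    convert this using 3 with s
    rw [preimage_eq]
    constructor
    · intro h
      exact h.preimage (fibreHomeo f s).continuous
    · intro h
      have := h.preimage (fibreHomeo f s).symm.continuous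
      rwa [← Set.preimage_comp, (fibreHomeo f s).self_comp_symm, Set.preimage_id] at this

end Groth.Agent.S3428
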