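import Groth.Statements.S3431
import Groth.Agent.S2113
import Mathlib

set_option autoImplicit false
universe u
open EGA43

namespace Groth.Agent.S3431

open Ideal

theorem dir1 (D : Type u) [CommRing D] [IsDomain D] [IsJacobsonRing D]
    (hfin : Finite (MaximalSpectrum D)) (hdim : ringKrullDim D = 1) : False := by
  classical
  haveI : Fintype (MaximalSpectrum D) := Fintype.ofFinite _
  have hne : ∀ m : MaximalSpectrum D, m.asIdeal ≠ ⊥ := by
    intro m hm
    have hfield : IsField D := by
      rw [Ring.isField_iff_maximal_bot]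
      exact hm ▸ m.isMaximal
    have := ringKrullDim_eq_zero_of_isField hfield
    rw [hdim] at this
    exact one_ne_zero this
  have hex : ∀ m : MaximalSpectrum D, ∃ x ∈ m.asIdeal, x ≠ 0 := by
    intro m
    exact Submodule.exists_mem_ne_zero_of_ne_bot (hne m)
  choose x hxm hx0 using hex
  have hprod : (∏ m, x m) ≠ 0 := Finset.prod_ne_zero_iff.mpr fun m _ => hx0 m
  have hjac : (∏ m, x m) ∈ (⊥ : Ideal D).jacobson := by
    rw [Ideal.jacobson, Ideal.mem_sInf]
    rintro J ⟨-, hJ⟩
    have h1 := hxm ⟨J, hJ⟩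
    exact Ideal.mem_of_dvd _ (Finset.dvd_prod_of_mem x (Finset.mem_univ (⟨J, hJ⟩ : MaximalSpectrum D))) h1
  rw [IsJacobsonRing.out inferInstance (Ideal.isPrime_bot (α := D)).isRadical] at hjac
  exact hprod (by simpa using hjac)

theorem dir2 {A : Type u} [CommRing A] [IsNoetherianRing A]
    (h : ∀ (p : Ideal A) [p.IsPrime],
      ¬ (Finite (MaximalSpectrum (A ⧸ p)) ∧ ringKrullDim (A ⧸ p) = 1)) : IsJacobsonRing A := by
  rw [isJacobsonRing_iff_prime_eq]
  intro P
  induction P using WellFoundedGT.induction with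
  | ind P ih =>
  intro hP
  by_contra hne
  have hlt : P < P.jacobson := lt_of_le_of_ne le_jacobson (Ne.symm hne)
  obtain ⟨f, hfJ, hfP⟩ := Set.exists_of_ssubset hlt
  have hfQ : ∀ Q : Ideal A, Q.IsPrime → P < Q → f ∈ Q := by
    intro Q hQ hPQ
    have := ih Q hPQ hQ
    rw [← this]
    exact jacobson_mono hPQ.le hfJ
  have hnotmax : ¬ P.IsMaximal := fun hmax => hne (jacobson_eq_self_of_isMaximal)
  have hf0 : Ideal.Quotient.mk P f ≠ 0 := by
    rwa [Ne, Ideal.Quotient.eq_zero_iff_mem]
  have hall : ∀ (q : Ideal (A ⧸ P)), q.IsPrime → q ≠ ⊥ → Ideal.Quotient.mk P f ∈ q := by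
    intro q hq hq0
    have hle : P ≤ q.comap (Ideal.Quotient.mk P) := by
      intro x hx
      rw [Ideal.mem_comap, Ideal.Quotient.eq_zero_iff_mem.mpr hx]
      exact zero_mem _
    have hne' : P ≠ q.comap (Ideal.Quotient.mk P) := by
      intro heq
      apply hq0
      rw [eq_bot_iff]
      intro y hy
      obtain ⟨x, rfl⟩ := Ideal.Quotient.mk_surjective y
      have : x ∈ P := by rw [heq]; exact hy
      rw [Ideal.Quotient.eq_zero_iff_mem.mpr this]; exact zero_mem _
    exact hfQ _ (Ideal.comap_isPrime _ _) (lt_of_le_of_ne hle hne')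
  have hfinP : Finite (PrimeSpectrum (A ⧸ P)) :=
    Groth.Agent.S2113.finite_primeSpectrum_of_forall _ hf0 hall
  apply h P
  refine ⟨Finite.of_injective _ MaximalSpectrum.toPrimeSpectrum_injective, le_antisymm ?_ ?_⟩
  · rw [ringKrullDim_le_iff_height_le]
    intro q hq
    by_cases hq0 : q = ⊥
    · subst hq0
      rw [Ideal.height_bot]; exact zero_le_one
    · have hmem := Groth.Agent.S2113.mem_minimalPrimes_of_forall _ hf0 hall q hq0
      have := Ideal.height_le_one_of_isPrincipal_of_mem_minimalPrimes _ q hmem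
      exact_mod_cast this
  · -- there is a nonzero maximal ideal
    obtain ⟨m, hm⟩ := Ideal.exists_maximal (A ⧸ P)
    have hm0 : m ≠ ⊥ := by
      rintro rfl
      exact hnotmax ((Ideal.bot_quotient_isMaximal_iff P).mp hm)
    have hmprime : m.IsPrime := hm.isPrime
    have h1 : (⊥ : Ideal (A ⧸ P)).height < m.height :=
      Ideal.height_strict_mono_of_isPrime_of_isPrime (bot_lt_iff_ne_bot.mpr hm0)
    have h2 : (1 : ℕ∞) ≤ m.height := Order.one_le_iff_pos.mpr (lt_of_le_of_lt zero_le h1)
    have h3 := Ideal.height_le_ringKrullDim_of_isPrime (I := m)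
    calc (1 : WithBot ℕ∞) ≤ (m.height : WithBot ℕ∞) := by exact_mod_cast h2
      _ ≤ _ := h3
/-- Let A be a Noetherian ring. Then A is a Jacobson ring if and only if there is no prime ideal p of A
such that A/p is semi-local (finitely many maximal ideals) of Krull dimension 1. -/
theorem result (A : Type u) [CommRing A] [IsNoetherianRing A] :
    IsJacobsonRing A ↔
      ∀ (p : Ideal A) [p.IsPrime], ¬ (Finite (MaximalSpectrum (A ⧸ p)) ∧ ringKrullDim (A ⧸ p) = 1) := by
  constructor
  · intro hJ p hp ⟨hfin, hdim⟩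
    haveI : IsJacobsonRing (A ⧸ p) :=
      isJacobsonRing_of_surjective ⟨Ideal.Quotient.mk p, Ideal.Quotient.mk_surjective⟩
    exact dir1 (A ⧸ p) hfin hdim
  · exact dir2

end Groth.Agent.S3431
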