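import Groth.Statements.S3432
import Mathlib
import Groth.Agent.Lib.Helper48.JacPunct
-- import your own Groth.Agent.* helpers here

set_option autoImplicit false
open CategoryTheory AlgebraicGeometry
universe u
open EGA43

namespace Groth.Agent.S3432

/-- Let X be a locally Noetherian scheme and Y a closed subset of X such that every nonempty closed
subset of X meets Y. Then the open subscheme X ∖ Y (equivalently, the subspace X ∖ Y) is a Jacobson
space. -/
theorem result (X : Scheme.{u}) [IsLocallyNoetherian X] (Y : Set X)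
    (hY : IsClosed Y) (hmeet : ∀ Z : Set X, IsClosed Z → Z.Nonempty → (Z ∩ Y).Nonempty) :
    JacobsonSpace ↥(Yᶜ) := by
  rw [jacobsonSpace_iff_locallyClosed]
  rintro T ⟨⟨p, hpU⟩, hpT⟩ hTlc
  obtain ⟨O, C, hOo, hCc, rfl⟩ := hTlc
  obtain ⟨hpO, hpC⟩ := hpT
  obtain ⟨O', hO'o, rfl⟩ := isOpen_induced_iff.mp hOo
  obtain ⟨W, hW, hpW, hWsub⟩ := exists_isAffineOpen_mem_and_subset (X := X) (x := p)
    (U := (⟨O' ∩ Yᶜ, hO'o.inter hY.isOpen_compl⟩ : X.Opens)) ⟨hpO, hpU⟩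
  have hemb : Topology.IsOpenEmbedding hW.fromSpec := hW.fromSpec.isOpenEmbedding
  obtain ⟨p0, rfl⟩ : p ∈ Set.range hW.fromSpec := by rw [hW.range_fromSpec]; exact hpW
  obtain ⟨m, hm, hpm⟩ := Ideal.exists_le_maximal (PrimeSpectrum.asIdeal p0)
    (PrimeSpectrum.isPrime p0).ne_top
  have hspec0 : p0 ⤳ (⟨m, hm.isPrime⟩ : PrimeSpectrum Γ(X, W)) :=
    (PrimeSpectrum.le_iff_specializes p0 ⟨m, hm.isPrime⟩).mp
      ((PrimeSpectrum.asIdeal_le_asIdeal p0 ⟨m, hm.isPrime⟩).mp hpm)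
  have hpmc : IsClosed ({(⟨m, hm.isPrime⟩ : PrimeSpectrum Γ(X, W))} :
      Set (PrimeSpectrum Γ(X, W))) :=
    (PrimeSpectrum.isClosed_singleton_iff_isMaximal _).mpr hm
  obtain ⟨q, hq⟩ : ∃ q : X, q = hW.fromSpec (⟨m, hm.isPrime⟩ : PrimeSpectrum Γ(X, W)) :=
    ⟨_, rfl⟩
  have hqW : q ∈ (W : Set X) := by
    rw [← hW.range_fromSpec, hq]
    exact ⟨_, rfl⟩
  have hqOU : q ∈ O' ∩ Yᶜ := hWsub hqW
  have hspec : hW.fromSpec p0 ⤳ q := by
    rw [hq]
    exact hspec0.map hemb.continuous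
  have hspec' : (⟨hW.fromSpec p0, hpU⟩ : ↥(Yᶜ)) ⤳ ⟨q, hqOU.2⟩ := by
    rw [subtype_specializes_iff]
    exact hspec
  refine ⟨⟨q, hqOU.2⟩, ⟨hqOU.1, hspec'.mem_closed hCc hpC⟩, ?_⟩
  show IsClosed ({⟨q, hqOU.2⟩} : Set ↥(Yᶜ))
  have hWq : ∀ y ∈ (W : Set X), q ⤳ y → y = q := by
    intro y hy hxy
    obtain ⟨py, rfl⟩ : y ∈ Set.range hW.fromSpec := by rw [hW.range_fromSpec]; exact hy
    rw [hq, hemb.isInducing.specializes_iff] at hxy
    have : py ∈ ({(⟨m, hm.isPrime⟩ : PrimeSpectrum Γ(X, W))} :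
        Set (PrimeSpectrum Γ(X, W))) := hxy.mem_closed hpmc rfl
    have h2 : py = (⟨m, hm.isPrime⟩ : PrimeSpectrum Γ(X, W)) := this
    rw [h2, hq]
  have hset : ({⟨q, hqOU.2⟩} : Set ↥(Yᶜ)) = Subtype.val ⁻¹' (closure ({q} : Set X)) := by
    ext ⟨y, hyU⟩
    simp only [Set.mem_singleton_iff, Set.mem_preimage, Subtype.mk.injEq]
    constructor
    · intro h
      rw [h]
      exact subset_closure rfl
    · intro hy
      rw [← specializes_iff_mem_closure] at hy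
      obtain ⟨z, hzy, hzY⟩ := hmeet (closure {y}) isClosed_closure ⟨y, subset_closure rfl⟩
      rw [← specializes_iff_mem_closure] at hzy
      rcases Groth.Agent.Lib.Helper48.JacPunct.scheme_no_chain X q y z hy hzy (W : Set X)
        W.isOpen hqW hWq with h | h
      · exact h
      · exfalso
        exact hyU (by rw [h]; exact hzY)
  rw [hset]
  exact isClosed_closure.preimage continuous_subtype_val

end Groth.Agent.S3432
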