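import Groth.Statements.S3433
import Mathlib
import Groth.Agent.Lib.Helper48.JacPunct
import Groth.Agent.S9832
-- import your own Groth.Agent.* helpers here

set_option autoImplicit false
universe u
open EGA43

namespace Groth.Agent.S3433

/-- Let A be a Noetherian local ring with maximal ideal m and let Y be the punctured spectrum Spec A ∖
{m}. Then Y is a Jacobson space, and a point p of Y is closed in Y if and only if dim A/p = 1. -/
theorem result (A : Type u) [CommRing A] [IsNoetherianRing A] [IsLocalRing A] :
    JacobsonSpace ↥({IsLocalRing.closedPoint A}ᶜ : Set (PrimeSpectrum A)) ∧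
      ∀ p : ↥({IsLocalRing.closedPoint A}ᶜ : Set (PrimeSpectrum A)),
        IsClosed ({p} : Set ↥({IsLocalRing.closedPoint A}ᶜ : Set (PrimeSpectrum A))) ↔
          ringKrullDim (A ⧸ p.1.asIdeal) = 1 := by
  have hset : ({IsLocalRing.closedPoint A}ᶜ : Set (PrimeSpectrum A)) =
      (PrimeSpectrum.zeroLocus ((IsLocalRing.maximalIdeal A : Ideal A) : Set A))ᶜ := by
    congr 1
    ext y
    rw [Set.mem_singleton_iff, PrimeSpectrum.mem_zeroLocus, SetLike.coe_subset_coe]
    constructor
    · intro h
      rw [h]
      exact le_rfl
    · intro h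
      exact PrimeSpectrum.ext (le_antisymm (IsLocalRing.le_maximalIdeal y.2.ne_top) h)
  refine ⟨?_, ?_⟩
  · have hI : IsLocalRing.maximalIdeal A ≤ (⊥ : Ideal A).jacobson :=
      (IsLocalRing.jacobson_eq_maximalIdeal ⊥ bot_ne_top).ge
    have := Groth.Agent.S9832.result A (IsLocalRing.maximalIdeal A) hI
    rw [← hset] at this
    exact this
  · rintro ⟨p, hp⟩
    have hpm : p ≠ IsLocalRing.closedPoint A := hp
    haveI := p.2
    have hcl : IsClosed ({⟨p, hp⟩} :
        Set ↥({IsLocalRing.closedPoint A}ᶜ : Set (PrimeSpectrum A))) ↔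
        ∀ q : PrimeSpectrum A, q ≠ IsLocalRing.closedPoint A →
          p.asIdeal ≤ q.asIdeal → q = p := by
      constructor
      · intro hc q hq hpq
        have hs : (⟨p, hp⟩ : ↥({IsLocalRing.closedPoint A}ᶜ : Set (PrimeSpectrum A))) ⤳
            ⟨q, hq⟩ := by
          rw [subtype_specializes_iff]
          exact (PrimeSpectrum.le_iff_specializes _ _).mp
            ((PrimeSpectrum.asIdeal_le_asIdeal p q).mp hpq)
        have := hs.mem_closed hc rfl
        rw [Set.mem_singleton_iff] at this
        exact congrArg Subtype.val this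
      · intro h
        have hset2 : ({⟨p, hp⟩} :
            Set ↥({IsLocalRing.closedPoint A}ᶜ : Set (PrimeSpectrum A))) =
            Subtype.val ⁻¹' (PrimeSpectrum.zeroLocus (p.asIdeal : Set A)) := by
          ext ⟨y, hy⟩
          simp only [Set.mem_singleton_iff, Set.mem_preimage, Subtype.mk.injEq,
            PrimeSpectrum.mem_zeroLocus, SetLike.coe_subset_coe]
          constructor
          · intro h'
            rw [h']
          · intro hpy
            exact h y hy hpy
        rw [hset2]
        exact (PrimeSpectrum.isClosed_zeroLocus _).preimage continuous_subtype_val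
    rw [hcl]
    show _ ↔ ringKrullDim (A ⧸ p.asIdeal) = 1
    haveI : (⊥ : Ideal (A ⧸ p.asIdeal)).IsPrime := Ideal.isPrime_bot
    constructor
    · intro h
      apply le_antisymm
      · have hK : Ring.KrullDimLE 1 (A ⧸ p.asIdeal) := by
          rw [Ring.krullDimLE_one_iff_of_isPrime_bot]
          intro J hJ0 hJ
          have hlt := Groth.Agent.Lib.Helper48.JacPunct.lt_comap_of_ne_bot p.asIdeal hJ0
          have hqm : (⟨J.comap (Ideal.Quotient.mk p.asIdeal), Ideal.comap_isPrime _ _⟩ :
              PrimeSpectrum A) = IsLocalRing.closedPoint A := by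
            by_contra hq
            have := h _ hq hlt.le
            exact hlt.ne (congrArg PrimeSpectrum.asIdeal this).symm
          have hqm' : J.comap (Ideal.Quotient.mk p.asIdeal) = IsLocalRing.maximalIdeal A :=
            congrArg PrimeSpectrum.asIdeal hqm
          have hJ' : J = (IsLocalRing.maximalIdeal A).map (Ideal.Quotient.mk p.asIdeal) := by
            rw [← hqm', Ideal.map_comap_of_surjective _ Ideal.Quotient.mk_surjective J]
          rcases Ideal.map_eq_top_or_isMaximal_of_surjective (Ideal.Quotient.mk p.asIdeal)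
            Ideal.Quotient.mk_surjective
            (IsLocalRing.maximalIdeal.isMaximal A) with h1 | h1
          · exfalso
            rw [← hJ'] at h1
            exact hJ.ne_top h1
          · rw [hJ']
            exact h1
        have := Ring.krullDimLE_iff.mp hK
        simpa using this
      · have hlt : p.asIdeal < IsLocalRing.maximalIdeal A :=
          lt_of_le_of_ne (IsLocalRing.le_maximalIdeal p.2.ne_top)
            (fun h => hpm (PrimeSpectrum.ext h))
        haveI hmm : ((IsLocalRing.maximalIdeal A).map (Ideal.Quotient.mk p.asIdeal)).IsPrime :=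
          Groth.Agent.Lib.Helper48.JacPunct.map_mk_isPrime _ hlt.le
        have hm0 := Groth.Agent.Lib.Helper48.JacPunct.map_mk_ne_bot _ hlt
        have h1 := Ideal.height_strict_mono_of_isPrime_of_isPrime (bot_lt_iff_ne_bot.mpr hm0)
        have h2 : (1 : ℕ∞) ≤
            ((IsLocalRing.maximalIdeal A).map (Ideal.Quotient.mk p.asIdeal)).height :=
          Order.one_le_iff_pos.mpr (lt_of_le_of_lt zero_le h1)
        have h3 := Ideal.height_le_ringKrullDim_of_isPrime
          (I := (IsLocalRing.maximalIdeal A).map (Ideal.Quotient.mk p.asIdeal))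
        calc (1 : WithBot ℕ∞) ≤
            (((IsLocalRing.maximalIdeal A).map (Ideal.Quotient.mk p.asIdeal)).height :
              WithBot ℕ∞) := by exact_mod_cast h2
          _ ≤ _ := h3
    · intro hdim q hq hpq
      by_contra hne
      have hlt : p.asIdeal < q.asIdeal :=
        lt_of_le_of_ne hpq (fun h => hne (PrimeSpectrum.ext h.symm))
      have hK : Ring.KrullDimLE 1 (A ⧸ p.asIdeal) :=
        Ring.krullDimLE_iff.mpr (by rw [hdim]; simp)
      haveI := q.2
      haveI hmax := (Ring.krullDimLE_one_iff_of_isPrime_bot.mp hK) _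
        (Groth.Agent.Lib.Helper48.JacPunct.map_mk_ne_bot _ hlt)
        (Groth.Agent.Lib.Helper48.JacPunct.map_mk_isPrime _ hlt.le)
      have hmax2 : ((q.asIdeal.map (Ideal.Quotient.mk p.asIdeal)).comap
          (Ideal.Quotient.mk p.asIdeal)).IsMaximal :=
        Ideal.comap_isMaximal_of_surjective _ Ideal.Quotient.mk_surjective
      rw [Groth.Agent.Lib.Helper48.JacPunct.comap_map_mk _ hlt.le] at hmax2
      exact hq (PrimeSpectrum.ext (IsLocalRing.eq_maximalIdeal hmax2))

end Groth.Agent.S3433
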