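import Groth.Statements.S3434
import Groth.Agent.Lib.Helper25.ValCenterLoc

set_option autoImplicit false
open CategoryTheory AlgebraicGeometry
universe u
open EGA43

namespace Groth.Agent.S3434

section Helpers

set_option linter.style.haveILetI false

open Groth.Agent.Lib.Helper25.ValCenter IsLocalRing CategoryTheory.Limits

/-- Two morphisms out of the spectrum of a valuation subring with the same closed point which
agree on the generic point are equal. -/
theorem eq_of_closedPoint_eq {Y : Scheme.{u}} {L : Type u} [Field L] (A : ValuationSubring L)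
    (a₁ a₂ : Spec (CommRingCat.of A) ⟶ Y) (hcl : a₁ (closedPoint A) = a₂ (closedPoint A))
    (h : Spec.map (CommRingCat.ofHom A.subtype) ≫ a₁ =
      Spec.map (CommRingCat.ofHom A.subtype) ≫ a₂) : a₁ = a₂ := by
  obtain ⟨_, ⟨S₀, hS₀', rfl⟩, h1, -⟩ := Y.isBasis_affineOpens.exists_subset_of_mem_open
    (Set.mem_univ (a₁ (closedPoint A))) isOpen_univ
  have hS₀ : IsAffineOpen S₀ := hS₀'
  obtain ⟨ρ₁, hρ₁⟩ := exists_rho a₁ hS₀ (range_subset_of_closedPoint_mem a₁ h1)
  obtain ⟨ρ₂, hρ₂⟩ := exists_rho a₂ hS₀ (range_subset_of_closedPoint_mem a₂ (hcl ▸ h1))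
  have key : ρ₁ ≫ CommRingCat.ofHom A.subtype = ρ₂ ≫ CommRingCat.ofHom A.subtype := by
    apply rho_unique hS₀
    rw [Spec.map_comp, Category.assoc, hρ₁, Spec.map_comp, Category.assoc, hρ₂, h]
  have : ρ₁ = ρ₂ := by
    ext r
    exact congr($(key).hom r)
  rw [← hρ₁, ← hρ₂, this]

theorem dvrLiftAtOn_generic {X Y : Scheme.{u}} [IsIntegral X] (f : X ⟶ Y) (y : Y)
    (hξ : f.base (genericPoint X) ⤳ y)
    (h : ∀ A : ValuationSubring X.functionField, IsDiscreteValuationRing A →
        (∀ r : Y.presheaf.stalk y, A.valuation ((Y.presheaf.stalkSpecializes hξ ≫ f.stalkMap (genericPoint X)) r) ≤ 1) →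
        (∀ r ∈ IsLocalRing.maximalIdeal (Y.presheaf.stalk y),
            A.valuation ((Y.presheaf.stalkSpecializes hξ ≫ f.stalkMap (genericPoint X)) r) < 1) →
        ∃ x : X, f.base x = y ∧
          (∀ r : X.presheaf.stalk x, A.valuation (X.presheaf.stalkSpecializes (genericPoint_specializes x) r) ≤ 1) ∧
          (∀ r ∈ IsLocalRing.maximalIdeal (X.presheaf.stalk x),
            A.valuation (X.presheaf.stalkSpecializes (genericPoint_specializes x) r) < 1)) :
    DVRLiftAtOn {y} (𝟙 X) f (genericPoint X) := by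
  intro A hA yA hyAcl hyA
  have hyAcl' : yA (closedPoint A) = y := hyAcl
  subst hyAcl'
  let ξ : X := genericPoint X
  let K : Type u := X.functionField
  let res : K →+* X.residueField ξ := (X.residue ξ).hom
  have hresinj : Function.Injective res := res.injective
  have hressurj : Function.Surjective res := Ideal.Quotient.mk_surjective
  let R : ValuationSubring K := A.comap res
  let e₀ : R →+* A := (res.comp R.subtype).codRestrict A.toSubring (fun r => r.2)
  have he₀ : Function.Bijective e₀ := by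
    constructor
    · intro a b hab
      have h1 : res a.1 = res b.1 := congrArg Subtype.val hab
      exact Subtype.ext (hresinj h1)
    · intro a
      obtain ⟨k, hk⟩ := hressurj a.1
      exact ⟨⟨k, by show res k ∈ A; rw [hk]; exact a.2⟩, Subtype.ext hk⟩
  let e : R ≃+* A := RingEquiv.ofBijective e₀ he₀
  have hRdvr : IsDiscreteValuationRing R :=
    IsDiscreteValuationRing.RingEquivClass.isDiscreteValuationRing e.symm
  let ψ : Y.presheaf.stalk (yA (closedPoint A)) ⟶ CommRingCat.of A := Scheme.stalkClosedPointTo yA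
  have hψ : Spec.map ψ ≫ Y.fromSpecStalk _ = yA := Scheme.Spec_stalkClosedPointTo_fromSpecStalk yA
  let φ : Y.presheaf.stalk (yA (closedPoint A)) ⟶ X.functionField :=
    Y.presheaf.stalkSpecializes hξ ≫ f.stalkMap ξ
  have key : φ ≫ X.residue ξ = ψ ≫ CommRingCat.ofHom A.subtype := by
    apply Spec.map_injective
    rw [← cancel_mono (Y.fromSpecStalk _)]
    have h1 : Spec.map (φ ≫ X.residue ξ) ≫ Y.fromSpecStalk _ = X.fromSpecResidueField ξ ≫ f := by
      rw [fromSpecResidueField_comp_eq f ξ _ hξ]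
      simp only [φ, Category.assoc]
    have h2 : Spec.map (ψ ≫ CommRingCat.ofHom A.subtype) ≫ Y.fromSpecStalk _ =
        X.fromSpecResidueField ξ ≫ f := by
      rw [Spec.map_comp, Category.assoc, hψ, hyA, Category.id_comp]
    rw [h1, h2]
  have key' : ∀ a, res (φ.hom a) = ((ψ.hom a : A) : X.residueField ξ) := fun a =>
    congr($(key).hom a)
  have hφR : ∀ a, φ.hom a ∈ R := by
    intro a
    show res (φ.hom a) ∈ A
    rw [key']
    exact (ψ.hom a).2
  have hφm : ∀ a ∈ IsLocalRing.maximalIdeal (Y.presheaf.stalk (yA (closedPoint A))),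
      R.valuation (φ.hom a) < 1 := by
    intro a ha
    have h1 : (⟨φ.hom a, hφR a⟩ : R) ∈ IsLocalRing.maximalIdeal R := by
      rw [IsLocalRing.mem_maximalIdeal, mem_nonunits_iff]
      intro hu
      have h2 : IsUnit (e ⟨φ.hom a, hφR a⟩) := hu.map e
      have h3 : e ⟨φ.hom a, hφR a⟩ = ψ.hom a := Subtype.ext (key' a)
      rw [h3] at h2
      exact ha ((isUnit_map_iff ψ.hom a).mp h2)
    exact (R.valuation_lt_one_iff ⟨φ.hom a, hφR a⟩).mp h1
  obtain ⟨x, hfx, hx1, hx2⟩ := h R hRdvr (fun r => (R.valuation_le_one_iff _).mpr (hφR r)) hφm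
  have hξx : ξ ⤳ x := genericPoint_specializes x
  let σ : X.presheaf.stalk x ⟶ X.functionField := X.presheaf.stalkSpecializes hξx
  have hσR : ∀ a, σ.hom a ∈ R := fun a => (R.valuation_le_one_iff _).mp (hx1 a)
  have hσ : ∀ a, res (σ.hom a) ∈ A := fun a => hσR a
  let θ : X.presheaf.stalk x ⟶ CommRingCat.of A :=
    CommRingCat.ofHom ((res.comp σ.hom).codRestrict A.toSubring hσ)
  have hθloc : IsLocalHom θ.hom := by
    constructor
    intro a ha
    by_contra hna
    have ham : a ∈ IsLocalRing.maximalIdeal (X.presheaf.stalk x) := hna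
    have h1 : (⟨σ.hom a, hσR a⟩ : R) ∈ IsLocalRing.maximalIdeal R :=
      (R.valuation_lt_one_iff ⟨σ.hom a, hσR a⟩).mpr (hx2 a ham)
    rw [IsLocalRing.mem_maximalIdeal, mem_nonunits_iff] at h1
    apply h1
    have h2 : e.symm (θ.hom a) = ⟨σ.hom a, hσR a⟩ := by
      rw [RingEquiv.symm_apply_eq]
      rfl
    rw [← h2]
    exact ha.map e.symm
  have hθ : θ ≫ CommRingCat.ofHom A.subtype = σ ≫ X.residue ξ := by
    ext a; rfl
  have hl1 : Spec.map (CommRingCat.ofHom A.subtype) ≫ Spec.map θ ≫ X.fromSpecStalk x =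
      X.fromSpecResidueField ξ := by
    rw [← Category.assoc, ← Spec.map_comp, hθ, Spec.map_comp, Category.assoc,
      Scheme.SpecMap_stalkSpecializes_fromSpecStalk hξx]
    rfl
  have hlcl : (Spec.map θ ≫ X.fromSpecStalk x) (closedPoint A) = x := by
    have : Spec.map θ (closedPoint A) = closedPoint (X.presheaf.stalk x) :=
      IsLocalRing.comap_closedPoint (S := A) θ.hom
    change (X.fromSpecStalk x) ((Spec.map θ) (closedPoint A)) = x
    rw [this, X.fromSpecStalk_closedPoint]
  refine ⟨Spec.map θ ≫ X.fromSpecStalk x, ?_, by rw [hl1, Category.comp_id]⟩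
  apply eq_of_closedPoint_eq A
  · show f ((Spec.map θ ≫ X.fromSpecStalk x) (closedPoint A)) = _
    rw [hlcl, hfx]
  · rw [hyA, Category.id_comp, ← Category.assoc, hl1]

theorem forward {X Y : Scheme.{u}} [IsIntegral X] (f : X ⟶ Y) (y : Y)
    (hξ : f.base (genericPoint X) ⤳ y) (U : Y.Opens) (hyU : y ∈ U) (hU : IsProper (f ∣_ U))
    (A : ValuationSubring X.functionField)
    (h1 : ∀ r : Y.presheaf.stalk y, A.valuation ((Y.presheaf.stalkSpecializes hξ ≫ f.stalkMap (genericPoint X)) r) ≤ 1)
    (h2 : ∀ r ∈ IsLocalRing.maximalIdeal (Y.presheaf.stalk y),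
      A.valuation ((Y.presheaf.stalkSpecializes hξ ≫ f.stalkMap (genericPoint X)) r) < 1) :
    ∃ x : X, f.base x = y ∧
      (∀ r : X.presheaf.stalk x, A.valuation (X.presheaf.stalkSpecializes (genericPoint_specializes x) r) ≤ 1) ∧
      (∀ r ∈ IsLocalRing.maximalIdeal (X.presheaf.stalk x),
        A.valuation (X.presheaf.stalkSpecializes (genericPoint_specializes x) r) < 1) := by
  let ξ : X := genericPoint X
  let K : Type u := X.functionField
  let φ : Y.presheaf.stalk y ⟶ X.functionField := Y.presheaf.stalkSpecializes hξ ≫ f.stalkMap ξ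
  have hφA : ∀ r, φ.hom r ∈ A.toSubring := fun r => (A.valuation_le_one_iff _).mp (h1 r)
  let ψ : Y.presheaf.stalk y ⟶ CommRingCat.of A :=
    CommRingCat.ofHom (φ.hom.codRestrict A.toSubring hφA)
  have hψloc : IsLocalHom ψ.hom := by
    constructor
    intro r hr
    by_contra hna
    have hrm : r ∈ IsLocalRing.maximalIdeal (Y.presheaf.stalk y) := hna
    have h3 : (⟨φ.hom r, hφA r⟩ : A) ∈ IsLocalRing.maximalIdeal A :=
      (A.valuation_lt_one_iff ⟨φ.hom r, hφA r⟩).mpr (h2 r hrm)
    rw [IsLocalRing.mem_maximalIdeal, mem_nonunits_iff] at h3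
    exact h3 hr
  let yA : Spec (CommRingCat.of A) ⟶ Y := Spec.map ψ ≫ Y.fromSpecStalk y
  have hyAcl : yA (closedPoint A) = y := by
    have : Spec.map ψ (closedPoint A) = closedPoint (Y.presheaf.stalk y) :=
      IsLocalRing.comap_closedPoint (S := A) ψ.hom
    change (Y.fromSpecStalk y) ((Spec.map ψ) (closedPoint A)) = y
    rw [this, Y.fromSpecStalk_closedPoint]
  let i₁' : Spec (CommRingCat.of K) ⟶ X := X.fromSpecStalk ξ
  have hψφ : ψ ≫ CommRingCat.ofHom A.subtype = φ := by
    ext r; rfl
  have hcomm : i₁' ≫ f = Spec.map (CommRingCat.ofHom A.subtype) ≫ yA := by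
    show X.fromSpecStalk ξ ≫ f = _
    rw [← Category.assoc, ← Spec.map_comp, hψφ]
    show _ = Spec.map (Y.presheaf.stalkSpecializes hξ ≫ f.stalkMap ξ) ≫ Y.fromSpecStalk y
    rw [Spec.map_comp, Category.assoc, Scheme.SpecMap_stalkSpecializes_fromSpecStalk hξ,
      Scheme.SpecMap_stalkMap_fromSpecStalk]
  have hξU : ξ ∈ f ⁻¹ᵁ U := hξ.mem_open U.isOpen hyU
  have hr1 : Set.range i₁' ⊆ Set.range (f ⁻¹ᵁ U).ι := by
    rw [Scheme.Opens.range_ι]
    apply range_subset_of_closedPoint_mem i₁'
    show X.fromSpecStalk ξ (closedPoint _) ∈ f ⁻¹ᵁ U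
    rw [X.fromSpecStalk_closedPoint]
    exact hξU
  have hr2 : Set.range yA ⊆ Set.range U.ι := by
    rw [Scheme.Opens.range_ι]
    apply range_subset_of_closedPoint_mem yA
    rw [hyAcl]
    exact hyU
  let i₁ : Spec (CommRingCat.of K) ⟶ (f ⁻¹ᵁ U : Scheme.{u}) :=
    IsOpenImmersion.lift (f ⁻¹ᵁ U).ι i₁' hr1
  let i₂ : Spec (CommRingCat.of A) ⟶ (U : Scheme.{u}) := IsOpenImmersion.lift U.ι yA hr2
  have hsq : i₁ ≫ (f ∣_ U) = Spec.map (CommRingCat.ofHom (algebraMap A K)) ≫ i₂ := by
    rw [← cancel_mono U.ι, Category.assoc, morphismRestrict_ι, ← Category.assoc,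
      IsOpenImmersion.lift_fac, Category.assoc, IsOpenImmersion.lift_fac]
    exact hcomm
  have hex : ValuativeCriterion.Existence (f ∣_ U) := by
    have := UniversallyClosed.eq_valuativeCriterion
    have huc : UniversallyClosed (f ∣_ U) := inferInstance
    have h2 : (ValuativeCriterion.Existence ⊓ @QuasiCompact) (f ∣_ U) := this ▸ huc
    exact h2.1
  let Sq : ValuativeCommSq (f ∣_ U) := ⟨A, K, i₁, i₂, ⟨hsq⟩⟩
  obtain ⟨⟨l'⟩⟩ := hex Sq
  let l : Spec (CommRingCat.of A) ⟶ X := l'.l ≫ (f ⁻¹ᵁ U).ι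
  have hl1 : Spec.map (CommRingCat.ofHom A.subtype) ≫ l = X.fromSpecStalk ξ := by
    have := l'.fac_left
    show Spec.map (CommRingCat.ofHom A.subtype) ≫ l'.l ≫ (f ⁻¹ᵁ U).ι = _
    rw [← Category.assoc]
    have h3 : Spec.map (CommRingCat.ofHom A.subtype) ≫ l'.l = i₁ := this
    rw [h3, IsOpenImmersion.lift_fac]
  have hl2 : l ≫ f = yA := by
    have := l'.fac_right
    show (l'.l ≫ (f ⁻¹ᵁ U).ι) ≫ f = yA
    rw [Category.assoc, ← morphismRestrict_ι, ← Category.assoc]
    have h3 : l'.l ≫ (f ∣_ U) = i₂ := this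
    rw [h3, IsOpenImmersion.lift_fac]
  let x : X := l (closedPoint A)
  have hfx : f x = y := by
    have : f x = yA (closedPoint A) := by
      rw [← hl2]; rfl
    rw [this, hyAcl]
  let ψx : X.presheaf.stalk x ⟶ CommRingCat.of A := Scheme.stalkClosedPointTo l
  have hψx : Spec.map ψx ≫ X.fromSpecStalk x = l := Scheme.Spec_stalkClosedPointTo_fromSpecStalk l
  have hψxloc : IsLocalHom ψx.hom := inferInstance
  have hkey : X.presheaf.stalkSpecializes (genericPoint_specializes x) =
      ψx ≫ CommRingCat.ofHom A.subtype := by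
    apply Spec.map_injective
    rw [← cancel_mono (X.fromSpecStalk x),
      Scheme.SpecMap_stalkSpecializes_fromSpecStalk (genericPoint_specializes x),
      Spec.map_comp, Category.assoc, hψx, hl1]
  refine ⟨x, hfx, ?_, ?_⟩
  · intro r
    rw [hkey]
    exact (A.valuation_le_one_iff _).mpr (ψx.hom r).2
  · intro r hr
    rw [hkey]
    have h3 : ψx.hom r ∈ IsLocalRing.maximalIdeal A := by
      rw [IsLocalRing.mem_maximalIdeal, mem_nonunits_iff]
      intro hu
      exact hr ((isUnit_map_iff ψx.hom r).mp hu)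
    exact (A.valuation_lt_one_iff (ψx.hom r)).mp h3

end Helpers

/-- Let Y be an integral locally Noetherian scheme, X an integral scheme, f : X ⟶ Y separated, dominant
and of finite type, and y a point of Y; write K for the function field of X (the local ring at its
generic point ξ), into which O_{Y,y} maps through O_{Y,f ξ}. Then f is proper over some open
neighbourhood of y if and only if every discrete valuation ring of K which dominates (the image of)
O_{Y,y} dominates (the image of) O_{X,x} for some point x of X; such an x lies over y. -/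
theorem result {X Y : Scheme.{u}} [IsIntegral X] [IsIntegral Y] [IsLocallyNoetherian Y]
    (f : X ⟶ Y) [IsSeparated f] [IsDominant f] [LocallyOfFiniteType f] [QuasiCompact f] (y : Y)
    (hξ : f.base (genericPoint X) ⤳ y) :
    (∃ U : Y.Opens, y ∈ U ∧ IsProper (f ∣_ U)) ↔
      ∀ A : ValuationSubring X.functionField, IsDiscreteValuationRing A →
        (∀ r : Y.presheaf.stalk y, A.valuation ((Y.presheaf.stalkSpecializes hξ ≫ f.stalkMap (genericPoint X)) r) ≤ 1) →
        (∀ r ∈ IsLocalRing.maximalIdeal (Y.presheaf.stalk y),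
            A.valuation ((Y.presheaf.stalkSpecializes hξ ≫ f.stalkMap (genericPoint X)) r) < 1) →
        ∃ x : X, f.base x = y ∧
          (∀ r : X.presheaf.stalk x, A.valuation (X.presheaf.stalkSpecializes (genericPoint_specializes x) r) ≤ 1) ∧
          (∀ r ∈ IsLocalRing.maximalIdeal (X.presheaf.stalk x),
            A.valuation (X.presheaf.stalkSpecializes (genericPoint_specializes x) r) < 1) := by
  constructor
  · rintro ⟨U, hyU, hU⟩ A _ h1 h2
    exact forward f y hξ U hyU hU A h1 h2
  · intro h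
    apply Groth.Agent.Lib.Helper25.ValCenter.exists_isProper_morphismRestrict f y
    intro η hη
    have hηgen : η = genericPoint X := by
      rw [irreducibleComponents_eq_singleton, Set.mem_singleton_iff] at hη
      have h1 : IsGenericPoint η (Set.univ : Set X) := hη
      exact h1.eq (genericPoint_spec X)
    subst hηgen
    exact dvrLiftAtOn_generic f y hξ h

end Groth.Agent.S3434
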