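import Groth.Statements.S4606
-- import your own Groth.Agent.* helpers here
import Groth.Agent.Lib.Helper31.JacDet
import Mathlib.RingTheory.Derivation.ToSquareZero

set_option autoImplicit false
universe u
open TensorProduct KaehlerDifferential IsLocalRing
open EGA41

namespace Groth.Agent.S4606

open IsLocalRing TensorProduct KaehlerDifferential

section Der

variable {A B E : Type u} [CommRing A] [CommRing B] [CommRing E] [Algebra A B] [Algebra A E]
  [Algebra B E] [IsScalarTower A B E]

/-- the derivation step -/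
theorem algebraMap_mul_mem_of_lift (N : Ideal E) (hN : N ^ 2 = ⊥) (f : B →ₐ[A] E)
    (e : (Ideal.Quotient.mkₐ A N).comp f = IsScalarTower.toAlgHom A B (E ⧸ N))
    (j₀ s : B) (hj₀ : f j₀ = 0) (𝔭 : Ideal B)
    (hs : s • KaehlerDifferential.D A B j₀ ∈ 𝔭 • (⊤ : Submodule B Ω[B⁄A])) :
    algebraMap B E (s * j₀) ∈ 𝔭.map (algebraMap B E) * N := by
  let D := derivationToSquareZeroOfLift N hN f e
  have h1 : s • D j₀ ∈ 𝔭 • (⊤ : Submodule B N) := by
    have : D.liftKaehlerDifferential (s • KaehlerDifferential.D A B j₀) ∈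
        Submodule.map D.liftKaehlerDifferential (𝔭 • ⊤) := Submodule.mem_map_of_mem hs
    rw [Submodule.map_smul''] at this
    rw [map_smul, Derivation.liftKaehlerDifferential_comp_D] at this
    exact Submodule.smul_mono le_rfl le_top this
  have h2 : ∀ n : N, n ∈ 𝔭 • (⊤ : Submodule B N) → (n : E) ∈ 𝔭.map (algebraMap B E) * N := by
    intro n hn
    refine Submodule.smul_induction_on hn ?_ ?_
    · intro a ha n _
      rw [Submodule.coe_smul_of_tower, Algebra.smul_def]
      exact Ideal.mul_mem_mul (Ideal.mem_map_of_mem _ ha) n.2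
    · intro x y hx hy
      rw [Submodule.coe_add]
      exact add_mem hx hy
  have h3 := h2 _ h1
  rw [Submodule.coe_smul_of_tower, derivationToSquareZeroOfLift_apply, hj₀, zero_sub, smul_neg,
    Algebra.smul_def, ← map_mul] at h3
  exact neg_mem_iff.mp h3

end Der

section Lift

variable {A B C : Type u} [CommRing A] [CommRing B] [CommRing C] [Algebra A B] [Algebra B C]
  [Algebra A C] [IsScalarTower A B C] (hsurj : Function.Surjective (algebraMap B C))
  (p : Ideal C) [p.IsPrime]
  {R₀ : Type u} [CommRing R₀] [Algebra A R₀] [Algebra R₀ (Localization.AtPrime p)]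
  [IsScalarTower A R₀ (Localization.AtPrime p)]
  [Algebra R₀ (Localization.AtPrime (p.comap (algebraMap B C)))]
  [IsScalarTower A R₀ (Localization.AtPrime (p.comap (algebraMap B C)))]
  (hepi : ∀ (E : Type u) [CommRing E] (f g : R₀ →+* E),
    f.comp (algebraMap A R₀) = g.comp (algebraMap A R₀) → f = g)

/-- the ideal `J'² + 𝔪^k` of `B_P` -/
noncomputable abbrev ak (k : ℕ) : Ideal (Localization.AtPrime (p.comap (algebraMap B C))) :=
  ((RingHom.ker (algebraMap B C)).map
    (algebraMap B (Localization.AtPrime (p.comap (algebraMap B C))))) ^ 2 ⊔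
  (maximalIdeal (Localization.AtPrime (p.comap (algebraMap B C)))) ^ k

/-- the square-zero ideal, image of `J'` -/
noncomputable abbrev Nk (k : ℕ) :
    Ideal (Localization.AtPrime (p.comap (algebraMap B C)) ⧸ ak (B := B) p k) :=
  ((RingHom.ker (algebraMap B C)).map
    (algebraMap B (Localization.AtPrime (p.comap (algebraMap B C))))).map
      (Ideal.Quotient.mk (ak (B := B) p k))

theorem Nk_sq (k : ℕ) : Nk (B := B) p k ^ 2 = ⊥ := by
  rw [Nk, ← Ideal.map_pow, Ideal.map_eq_bot_iff_le_ker, Ideal.mk_ker]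
  exact le_sup_left

include hsurj hepi in
theorem exists_lift (h : CAlgX.IsAdicFormallySmooth R₀ (Localization.AtPrime p)
      (maximalIdeal (Localization.AtPrime p))) (k : ℕ) :
    ∃ f : B →ₐ[A] (Localization.AtPrime (p.comap (algebraMap B C)) ⧸ ak (B := B) p k),
      (Ideal.Quotient.mkₐ A (Nk (B := B) p k)).comp f =
        IsScalarTower.toAlgHom A B
          ((Localization.AtPrime (p.comap (algebraMap B C)) ⧸ ak (B := B) p k) ⧸ Nk (B := B) p k) ∧
      ∀ j ∈ RingHom.ker (algebraMap B C), f j = 0 := by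
  set P := p.comap (algebraMap B C) with hP
  set B' := Localization.AtPrime P
  set Ek := B' ⧸ ak (B := B) p k
  set N := Nk (B := B) p k
  -- the map `ρ₀ : B → E_k / N`
  let ρ₀ : B →+* Ek ⧸ N := algebraMap B (Ek ⧸ N)
  have hρ₀ : ∀ b, ρ₀ b = Ideal.Quotient.mk N (Ideal.Quotient.mk _ (algebraMap B B' b)) := fun b => rfl
  have hker : RingHom.ker (algebraMap B C) ≤ RingHom.ker ρ₀ := by
    intro j hj
    rw [RingHom.mem_ker, hρ₀, Ideal.Quotient.eq_zero_iff_mem]
    exact Ideal.mem_map_of_mem _ (Ideal.mem_map_of_mem _ hj)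
  let ρ : C →+* Ek ⧸ N := RingHom.liftOfSurjective (algebraMap B C) hsurj ⟨ρ₀, hker⟩
  have hρ : ∀ b, ρ (algebraMap B C b) = ρ₀ b := fun b =>
    RingHom.liftOfRightInverse_comp_apply _ _ _ _ b
  have hunit : ∀ y : p.primeCompl, IsUnit (ρ y) := by
    intro y
    obtain ⟨b, hb⟩ := hsurj y.1
    have hbP : b ∈ P.primeCompl := by
      show b ∉ P
      rw [hP, Ideal.mem_comap, hb]
      exact y.2
    rw [← hb, hρ, hρ₀]
    exact ((IsLocalization.map_units B' ⟨b, hbP⟩).map _).map _
  let ψr := IsLocalization.lift (M := p.primeCompl) (S := Localization.AtPrime p) (P := Ek ⧸ N)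
    (g := ρ) hunit
  have hψr : ∀ c, ψr (algebraMap C _ c) = ρ c := fun c => IsLocalization.lift_eq _ _
  have hcomm : ∀ r : R₀, ψr (algebraMap R₀ (Localization.AtPrime p) r) =
      algebraMap R₀ (Ek ⧸ N) r := by
    have := hepi (Ek ⧸ N) (ψr.comp (algebraMap R₀ (Localization.AtPrime p)))
      (algebraMap R₀ (Ek ⧸ N)) (by
        ext a
        simp only [RingHom.comp_apply]
        rw [← IsScalarTower.algebraMap_apply A R₀ (Localization.AtPrime p),
          IsScalarTower.algebraMap_apply A C (Localization.AtPrime p), hψr,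
          IsScalarTower.algebraMap_apply A B C, hρ,
          ← IsScalarTower.algebraMap_apply A R₀ (Ek ⧸ N)]
        exact (IsScalarTower.algebraMap_apply A B (Ek ⧸ N) a).symm)
    exact fun r => congrArg (fun g => g r) this
  let ψ : Localization.AtPrime p →ₐ[R₀] Ek ⧸ N := { ψr with commutes' := hcomm }
  have hψ : ∀ x, ψ x = ψr x := fun x => rfl
  have hkill : ∀ x ∈ (maximalIdeal (Localization.AtPrime p)) ^ k, ψ x = 0 := by
    have hle : (maximalIdeal (Localization.AtPrime p)) ^ k ≤ RingHom.ker ψr := by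
      rw [← Localization.AtPrime.map_eq_maximalIdeal, ← Ideal.map_pow, Ideal.map_le_iff_le_comap]
      have hpP : p ^ k = (P ^ k).map (algebraMap B C) := by
        rw [Ideal.map_pow, hP, Ideal.map_comap_of_surjective _ hsurj]
      rw [hpP, Ideal.map_le_iff_le_comap]
      intro b hb
      rw [Ideal.mem_comap, Ideal.mem_comap, RingHom.mem_ker, hψr, hρ, hρ₀]
      have : Ideal.Quotient.mk (ak (B := B) p k) (algebraMap B B' b) = 0 := by
        rw [Ideal.Quotient.eq_zero_iff_mem]
        refine Ideal.mem_sup_right ?_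
        rw [← Localization.AtPrime.map_eq_maximalIdeal, ← Ideal.map_pow]
        exact Ideal.mem_map_of_mem _ hb
      rw [this, map_zero]
    exact fun x hx => hle hx
  obtain ⟨χ, hχ⟩ := h Ek N (Nk_sq p k) ψ ⟨k, hkill⟩
  refine ⟨(χ.restrictScalars A).comp (IsScalarTower.toAlgHom A B (Localization.AtPrime p)), ?_, ?_⟩
  · ext b
    have := congrArg (fun g => g (algebraMap B (Localization.AtPrime p) b)) hχ
    simp only [AlgHom.comp_apply] at this
    simp only [AlgHom.comp_apply, IsScalarTower.coe_toAlgHom', AlgHom.coe_restrictScalars']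
    rw [Ideal.Quotient.mkₐ_eq_mk] at this ⊢
    rw [this, hψ, IsScalarTower.algebraMap_apply B C (Localization.AtPrime p), hψr, hρ]
  · intro j hj
    simp only [AlgHom.comp_apply, IsScalarTower.coe_toAlgHom', AlgHom.coe_restrictScalars']
    rw [IsScalarTower.algebraMap_apply B C (Localization.AtPrime p), RingHom.mem_ker.mp hj,
      map_zero, map_zero]


include hsurj hepi in
/-- key step: `j₀/1 ∈ 𝔪 J'` when `d j₀` vanishes at `κ(p)` -/
theorem algebraMap_mem_mul_of_smul_D_mem [IsNoetherianRing B]
    (h : CAlgX.IsAdicFormallySmooth R₀ (Localization.AtPrime p)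
      (maximalIdeal (Localization.AtPrime p)))
    (j₀ : B) (hj₀ : j₀ ∈ RingHom.ker (algebraMap B C)) (s : B)
    (hsP : s ∉ p.comap (algebraMap B C))
    (hs : s • KaehlerDifferential.D A B j₀ ∈
      (p.comap (algebraMap B C)) • (⊤ : Submodule B Ω[B⁄A])) :
    algebraMap B (Localization.AtPrime (p.comap (algebraMap B C))) j₀ ∈
      maximalIdeal (Localization.AtPrime (p.comap (algebraMap B C))) *
        (RingHom.ker (algebraMap B C)).map
          (algebraMap B (Localization.AtPrime (p.comap (algebraMap B C)))) := by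
  set P := p.comap (algebraMap B C) with hP
  set B' := Localization.AtPrime P
  set I := maximalIdeal B' with hI
  set J' := (RingHom.ker (algebraMap B C)).map (algebraMap B B') with hJ'
  have hJ'I : J' ≤ I := by
    rw [hI, ← Localization.AtPrime.map_eq_maximalIdeal]
    exact Ideal.map_mono (Groth.Agent.Lib.Helper31.JacDet.ker_le_comap p)
  have hu : IsUnit (algebraMap B B' s) := IsLocalization.map_units B' (⟨s, hsP⟩ : P.primeCompl)
  -- for every `k`, `j₀/1 ∈ 𝔪 J' + 𝔪^k`
  have hk : ∀ k : ℕ, algebraMap B B' j₀ ∈ I * J' ⊔ I ^ k := by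
    intro k
    obtain ⟨f, hf, hfJ⟩ := exists_lift hsurj p hepi h k
    have h1 := algebraMap_mul_mem_of_lift (Nk (B := B) p k) (Nk_sq p k) f hf j₀ s
      (hfJ j₀ hj₀) P hs
    have h2 : P.map (algebraMap B (B' ⧸ ak (B := B) p k)) =
        I.map (Ideal.Quotient.mk (ak (B := B) p k)) := by
      rw [hI, ← Localization.AtPrime.map_eq_maximalIdeal, Ideal.map_map]
      rfl
    rw [h2, Nk, ← Ideal.map_mul] at h1
    have h3 : algebraMap B (B' ⧸ ak (B := B) p k) (s * j₀) =
        Ideal.Quotient.mk (ak (B := B) p k) (algebraMap B B' (s * j₀)) := rfl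
    rw [h3, Ideal.mem_quotient_iff_mem_sup] at h1
    have h4 : I * J' ⊔ ak (B := B) p k ≤ I * J' ⊔ I ^ k := by
      refine sup_le le_sup_left (sup_le ?_ le_sup_right)
      rw [pow_two]
      exact le_sup_of_le_left (Ideal.mul_mono_left hJ'I)
    have h5 := h4 h1
    rw [map_mul] at h5
    have := Ideal.mul_mem_left _ (hu.unit⁻¹ : B'ˣ).1 h5
    rwa [← mul_assoc, IsUnit.val_inv_mul, one_mul] at this
  -- Krull intersection theorem in `B' / 𝔪 J'`
  have hkrull := Ideal.iInf_pow_smul_eq_bot_of_isLocalRing (R := B') (M := B' ⧸ (I * J')) I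
    (Ideal.IsPrime.ne_top inferInstance)
  have hx : (Ideal.Quotient.mk (I * J') (algebraMap B B' j₀) : B' ⧸ (I * J')) ∈
      (⨅ i : ℕ, I ^ i • ⊤ : Submodule B' (B' ⧸ (I * J'))) := by
    rw [Submodule.mem_iInf]
    intro k
    obtain ⟨a, ha, b, hb, hab⟩ := Submodule.mem_sup.mp (hk k)
    rw [← hab, map_add, Ideal.Quotient.eq_zero_iff_mem.mpr ha, zero_add]
    have : (Ideal.Quotient.mk (I * J') b : B' ⧸ (I * J')) =
        b • (Ideal.Quotient.mk (I * J') 1 : B' ⧸ (I * J')) := by
      rw [Algebra.smul_def, Ideal.Quotient.algebraMap_eq, ← map_mul, mul_one]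
    rw [this]
    exact Submodule.smul_mem_smul hb Submodule.mem_top
  rw [hkrull, Submodule.mem_bot, Ideal.Quotient.eq_zero_iff_mem] at hx
  exact hx

end Lift


section Residue

variable {A B C : Type u} [CommRing A] [CommRing B] [CommRing C] [Algebra A B] [Algebra B C]
  [Algebra A C] [IsScalarTower A B C] (hsurj : Function.Surjective (algebraMap B C))
  (p : Ideal C) [p.IsPrime]

open Groth.Agent.Lib.Helper31.JacDet

include hsurj in
/-- (G0) vanishing of `1 ⊗ (1 ⊗ ω)` at `κ(p)` gives `s • ω ∈ P Ω`. -/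
theorem exists_smul_mem_of_tmul_tmul_eq_zero {Ω' : Type u} [AddCommGroup Ω'] [Module B Ω'] (ω : Ω')
    (h : (1 : p.ResidueField) ⊗ₜ[B] ((1 : C) ⊗ₜ[B] ω) = 0) :
    ∃ s : B, s ∉ p.comap (algebraMap B C) ∧
      s • ω ∈ (p.comap (algebraMap B C)) • (⊤ : Submodule B Ω') := by
  obtain ⟨s, hs0, hsm⟩ := exists_smul_mem_of_tmul_eq_zero hsurj p _ h
  rw [ker_algebraMap_residueField] at hsm
  refine ⟨s, fun h => hs0 ((algebraMap_residueField_eq_zero_iff p s).mpr h), ?_⟩
  set P := p.comap (algebraMap B C)
  let mk1 : Ω' →ₗ[B] C ⊗[B] Ω' := TensorProduct.mk B C Ω' 1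
  have hmk1 : LinearMap.range mk1 = ⊤ := by
    rw [eq_top_iff]
    rintro x -
    induction x using TensorProduct.induction_on with
    | zero => exact zero_mem _
    | add x y hx hy => exact add_mem hx hy
    | tmul c ω' =>
      obtain ⟨b, rfl⟩ := hsurj c
      refine ⟨b • ω', ?_⟩
      simp only [mk1, TensorProduct.mk_apply, TensorProduct.tmul_smul]
      rw [TensorProduct.smul_tmul', Algebra.smul_def, mul_one]
  have h1 : s • ((1 : C) ⊗ₜ[B] ω) ∈ Submodule.map mk1 (P • ⊤) := by
    rw [Submodule.map_smul'', Submodule.map_top, hmk1]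
    exact hsm
  obtain ⟨ω', hω', hωeq⟩ := h1
  have h2 : (1 : C) ⊗ₜ[B] (s • ω - ω') = 0 := by
    rw [TensorProduct.tmul_sub, TensorProduct.tmul_smul, sub_eq_zero]
    exact hωeq.symm
  have h3 := Groth.Agent.S4594.mem_smul_top_of_tmul_eq_zero hsurj _ h2
  have h4 : s • ω - ω' ∈ P • (⊤ : Submodule B Ω') :=
    Submodule.smul_mono (ker_le_comap p) le_rfl h3
  have : s • ω = (s • ω - ω') + ω' := by abel
  rw [this]
  exact add_mem h4 hω'

/-- `1 ⊗ m = 0` in `κ(p) ⊗ M` for `m ∈ P M`. -/
theorem tmul_eq_zero_of_mem_smul_top {M : Type u} [AddCommGroup M] [Module B M] (m : M)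
    (hm : m ∈ (p.comap (algebraMap B C)) • (⊤ : Submodule B M)) :
    (1 : p.ResidueField) ⊗ₜ[B] m = 0 := by
  refine Submodule.smul_induction_on hm ?_ ?_
  · intro a ha m' _
    rw [TensorProduct.tmul_smul, TensorProduct.smul_tmul', Algebra.smul_def, mul_one,
      (algebraMap_residueField_eq_zero_iff p a).mpr ha, TensorProduct.zero_tmul]
  · intro x y hx hy
    rw [TensorProduct.tmul_add, hx, hy, add_zero]

/-- elements of `P * J` have cotangent class in `P • ⊤` -/
theorem toCotangent_mem_smul_top {B : Type u} [CommRing B] (J P : Ideal B) (y : B)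
    (hy : y ∈ P * J) : ∃ hyJ : y ∈ J, J.toCotangent ⟨y, hyJ⟩ ∈ P • (⊤ : Submodule B J.Cotangent) := by
  refine Submodule.mul_induction_on hy ?_ ?_
  · intro a ha j hj
    refine ⟨J.mul_mem_left a hj, ?_⟩
    have : (⟨a * j, J.mul_mem_left a hj⟩ : J) = a • ⟨j, hj⟩ := rfl
    rw [this, map_smul]
    exact Submodule.smul_mem_smul ha Submodule.mem_top
  · rintro x y ⟨hx, hx'⟩ ⟨hy, hy'⟩
    refine ⟨add_mem hx hy, ?_⟩
    have : (⟨x + y, add_mem hx hy⟩ : J) = ⟨x, hx⟩ + ⟨y, hy⟩ := rfl
    rw [this, map_add]
    exact add_mem hx' hy'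

/-- (G8) -/
theorem tmul_toCotangent_eq_zero_of_mem (j₀ : RingHom.ker (algebraMap B C))
    (h : algebraMap B (Localization.AtPrime (p.comap (algebraMap B C))) j₀ ∈
      maximalIdeal (Localization.AtPrime (p.comap (algebraMap B C))) *
        (RingHom.ker (algebraMap B C)).map
          (algebraMap B (Localization.AtPrime (p.comap (algebraMap B C))))) :
    (1 : p.ResidueField) ⊗ₜ[B] (RingHom.ker (algebraMap B C)).toCotangent j₀ = 0 := by
  set P := p.comap (algebraMap B C) with hP
  set B' := Localization.AtPrime P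
  rw [← Localization.AtPrime.map_eq_maximalIdeal, ← Ideal.map_mul] at h
  obtain ⟨⟨⟨y, hy⟩, t⟩, hyt⟩ := (IsLocalization.mem_map_algebraMap_iff P.primeCompl B').mp h
  simp only at hyt
  rw [← map_mul] at hyt
  obtain ⟨t', ht'⟩ := (IsLocalization.eq_iff_exists P.primeCompl B').mp hyt
  set s : B := t' * t with hs
  have hsP : s ∉ P := fun h => (P.primeCompl.mul_mem t'.2 t.2) h
  have hs0 : algebraMap B p.ResidueField s ≠ 0 := fun h =>
    hsP ((algebraMap_residueField_eq_zero_iff p s).mp h)
  have hmem : (t' : B) * y ∈ P * RingHom.ker (algebraMap B C) := Ideal.mul_mem_left _ _ hy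
  obtain ⟨hyJ, hcot⟩ := toCotangent_mem_smul_top (RingHom.ker (algebraMap B C)) P _ hmem
  have heq : s • j₀ = (⟨(t' : B) * y, hyJ⟩ : RingHom.ker (algebraMap B C)) := by
    apply Subtype.ext
    change s * (j₀ : B) = (t' : B) * y
    rw [← ht', hs]
    ring
  have h1 : (algebraMap B p.ResidueField s) •
      ((1 : p.ResidueField) ⊗ₜ[B] (RingHom.ker (algebraMap B C)).toCotangent j₀) = 0 := by
    rw [algebraMap_smul, ← TensorProduct.tmul_smul, ← map_smul, heq]
    exact tmul_eq_zero_of_mem_smul_top p _ hcot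
  exact (smul_eq_zero.mp h1).resolve_left hs0

include hsurj in
/-- every scalar of `κ(p)` is a fraction of elements of `B` -/
theorem exists_mul_algebraMap_eq (c : p.ResidueField) :
    ∃ a s : B, algebraMap B p.ResidueField s ≠ 0 ∧
      algebraMap B p.ResidueField s * c = algebraMap B p.ResidueField a := by
  obtain ⟨z, rfl⟩ := IsLocalRing.residue_surjective c
  obtain ⟨⟨y, t⟩, rfl⟩ := IsLocalization.mk'_surjective p.primeCompl z
  obtain ⟨a, ha⟩ := hsurj y
  obtain ⟨s, hs⟩ := hsurj t.1
  have hmap : ∀ b : B, algebraMap B p.ResidueField b =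
      IsLocalRing.residue _ (algebraMap C (Localization.AtPrime p) (algebraMap B C b)) := by
    intro b
    rw [IsScalarTower.algebraMap_apply B C p.ResidueField,
      IsScalarTower.algebraMap_apply C (Localization.AtPrime p) p.ResidueField]
    rfl
  refine ⟨a, s, ?_, ?_⟩
  · intro h0
    have := (algebraMap_residueField_eq_zero_iff p s).mp h0
    rw [Ideal.mem_comap, hs] at this
    exact t.2 this
  · rw [hmap, hmap, hs, ha, ← map_mul, mul_comm, IsLocalization.mk'_spec]

include hsurj in
/-- (G9) every element of `κ(p) ⊗ J/J²` is a scalar multiple of some `1 ⊗ [j]` -/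
theorem exists_smul_eq_tmul (x : p.ResidueField ⊗[B] (RingHom.ker (algebraMap B C)).Cotangent) :
    ∃ s : B, algebraMap B p.ResidueField s ≠ 0 ∧ ∃ j : RingHom.ker (algebraMap B C),
      (algebraMap B p.ResidueField s) • x =
        (1 : p.ResidueField) ⊗ₜ[B] (RingHom.ker (algebraMap B C)).toCotangent j := by
  induction x using TensorProduct.induction_on with
  | zero => exact ⟨1, by simp, 0, by simp⟩
  | tmul c m =>
    obtain ⟨a, s, hs0, hsa⟩ := exists_mul_algebraMap_eq hsurj p c
    obtain ⟨j', rfl⟩ := Ideal.toCotangent_surjective _ m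
    refine ⟨s, hs0, a • j', ?_⟩
    rw [TensorProduct.smul_tmul', smul_eq_mul, hsa, map_smul, TensorProduct.tmul_smul,
      TensorProduct.smul_tmul', Algebra.smul_def, mul_one]
  | add x y hx hy =>
    obtain ⟨s₁, hs₁, j₁, h₁⟩ := hx
    obtain ⟨s₂, hs₂, j₂, h₂⟩ := hy
    refine ⟨s₁ * s₂, by rw [map_mul]; exact mul_ne_zero hs₁ hs₂, s₂ • j₁ + s₁ • j₂, ?_⟩
    rw [smul_add, map_mul]
    nth_rewrite 1 [mul_comm]
    rw [mul_smul, mul_smul, h₁, h₂, map_add, TensorProduct.tmul_add, map_smul, map_smul,
      algebraMap_smul, algebraMap_smul, TensorProduct.tmul_smul, TensorProduct.tmul_smul]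

end Residue



/-- Let B be a Noetherian A-algebra formally smooth for the discrete topologies, B → C a surjection with
kernel J, p a prime of C and q its contraction to A. Then C_p is formally smooth over A_q (A_q
discrete, C_p with the adic topology of its maximal ideal) if and only if κ(p) ⊗ J/J² → κ(p) ⊗ (C
⊗_B Ω_{B/A}) is injective. (The equivalent variant with the q-adic topology on A_q is not stated.) -/
theorem result {A B C : Type u} [CommRing A]
    [CommRing B] [CommRing C] [Algebra A B] [Algebra B C] [Algebra A C] [IsScalarTower A B C] [IsNoetherianRing B]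
    [Algebra.FormallySmooth A B] (hsurj : Function.Surjective (algebraMap B C)) (p : Ideal C) [p.IsPrime]
    [Algebra (Localization.AtPrime (p.comap (algebraMap A C))) (Localization.AtPrime p)]
    [IsScalarTower A (Localization.AtPrime (p.comap (algebraMap A C))) (Localization.AtPrime p)] :
    CAlgX.IsAdicFormallySmooth (Localization.AtPrime (p.comap (algebraMap A C))) (Localization.AtPrime p)
        (maximalIdeal (Localization.AtPrime p)) ↔
      Function.Injective ((kerCotangentToTensor A B C).lTensor p.ResidueField) := by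
  constructor
  · -- (⟹)
    intro h
    have hqP : p.comap (algebraMap A C) = (p.comap (algebraMap B C)).comap (algebraMap A B) := by
      rw [Ideal.comap_comap, ← IsScalarTower.algebraMap_eq]
    letI : Algebra (Localization.AtPrime (p.comap (algebraMap A C)))
        (Localization.AtPrime (p.comap (algebraMap B C))) :=
      (Localization.localRingHom (p.comap (algebraMap A C)) (p.comap (algebraMap B C))
        (algebraMap A B) hqP).toAlgebra
    haveI : IsScalarTower A (Localization.AtPrime (p.comap (algebraMap A C)))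
        (Localization.AtPrime (p.comap (algebraMap B C))) :=
      IsScalarTower.of_algebraMap_eq (fun a => by
        rw [RingHom.algebraMap_toAlgebra, Localization.localRingHom_to_map,
          ← IsScalarTower.algebraMap_apply])
    have hepi : ∀ (E : Type u) [CommRing E]
        (f g : Localization.AtPrime (p.comap (algebraMap A C)) →+* E),
        f.comp (algebraMap A _) = g.comp (algebraMap A _) → f = g :=
      fun E _ f g hfg => IsLocalization.ringHom_ext (p.comap (algebraMap A C)).primeCompl hfg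
    rw [injective_iff_map_eq_zero]
    intro x hx
    obtain ⟨s, hs0, j, hj⟩ := exists_smul_eq_tmul hsurj p x
    have hx' : ((kerCotangentToTensor A B C).lTensor p.ResidueField)
        ((1 : p.ResidueField) ⊗ₜ[B] (RingHom.ker (algebraMap B C)).toCotangent j) = 0 := by
      rw [← hj, algebraMap_smul, map_smul, hx, smul_zero]
    rw [LinearMap.lTensor_tmul, KaehlerDifferential.kerCotangentToTensor_toCotangent] at hx'
    obtain ⟨s', hs'P, hs'⟩ := exists_smul_mem_of_tmul_tmul_eq_zero hsurj p _ hx'
    have hmem := algebraMap_mem_mul_of_smul_D_mem (A := A) hsurj p hepi h j.1 j.2 s' hs'P hs'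
    have hzero := tmul_toCotangent_eq_zero_of_mem p j hmem
    rw [hzero] at hj
    exact (smul_eq_zero.mp hj).resolve_left hs0
  · -- (⟸)
    intro hinj
    haveI : Module.Finite B (RingHom.ker (algebraMap B C)).Cotangent :=
      Module.Finite.of_surjective (Ideal.toCotangent _) (Ideal.toCotangent_surjective _)
    have hFS : Algebra.FormallySmooth A (Localization.AtPrime p) :=
      ((Groth.Agent.S2463.result (A := A) hsurj p).out 0 1 rfl rfl).mpr hinj
    intro E _ _ N hN ψ _
    letI : Algebra A E := Algebra.compHom E (algebraMap A (Localization.AtPrime (p.comap (algebraMap A C))))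
    haveI : IsScalarTower A (Localization.AtPrime (p.comap (algebraMap A C))) E :=
      IsScalarTower.of_algebraMap_eq (fun _ => rfl)
    let ψ' : Localization.AtPrime p →ₐ[A] E ⧸ N := ψ.restrictScalars A
    let χ₀ : Localization.AtPrime p →ₐ[A] E := Algebra.FormallySmooth.lift N ⟨2, hN⟩ ψ'
    have hχ₀ : ∀ x, Ideal.Quotient.mk N (χ₀ x) = ψ x := fun x =>
      Algebra.FormallySmooth.mk_lift N ⟨2, hN⟩ ψ' x
    have hcomm : ∀ r : Localization.AtPrime (p.comap (algebraMap A C)),
        χ₀ (algebraMap _ (Localization.AtPrime p) r) = algebraMap _ E r := by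
      have := IsLocalization.ringHom_ext (p.comap (algebraMap A C)).primeCompl
        (j := (χ₀ : Localization.AtPrime p →+* E).comp
          (algebraMap (Localization.AtPrime (p.comap (algebraMap A C))) (Localization.AtPrime p)))
        (k := algebraMap (Localization.AtPrime (p.comap (algebraMap A C))) E) (by
          ext a
          simp only [RingHom.comp_apply, RingHom.coe_coe]
          rw [← IsScalarTower.algebraMap_apply A _ (Localization.AtPrime p), χ₀.commutes,
            ← IsScalarTower.algebraMap_apply A _ E])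
      exact fun r => congrArg (fun g => g r) this
    refine ⟨{ (χ₀ : Localization.AtPrime p →+* E) with commutes' := hcomm }, ?_⟩
    ext x
    exact hχ₀ x

end Groth.Agent.S4606
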