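import Groth.Statements.S9268
-- import your own Groth.Agent.* helpers here
import Groth.Agent.S4606

set_option autoImplicit false
universe u
open CAlg

namespace Groth.Agent.S9268

/-- Suppose A is a Noetherian ring and B is a finitely generated A-algebra, and consider a prime q of B
lying over p in A. Then A → B is smooth at q (meaning some g not in q makes A → B_g smooth) exactly
when the induced map A_p → B_q is formally smooth with respect to the adic topology defined by the
maximal ideal of B_q. -/
theorem result (A B : Type u) [CommRing A] [IsNoetherianRing A]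
    [CommRing B] [Algebra A B] [Algebra.FiniteType A B] (q : Ideal B) [q.IsPrime] :
    (∃ g : B, g ∉ q ∧ Algebra.Smooth A (Localization.Away g)) ↔
      letI := (Localization.localRingHom (Ideal.comap (algebraMap A B) q) q (algebraMap A B) rfl).toAlgebra
      CAlgX.IsAdicFormallySmooth (Localization.AtPrime (Ideal.comap (algebraMap A B) q))
        (Localization.AtPrime q) (IsLocalRing.maximalIdeal (Localization.AtPrime q)) := by
  letI alg : Algebra (Localization.AtPrime (Ideal.comap (algebraMap A B) q)) (Localization.AtPrime q) :=
    (Localization.localRingHom (Ideal.comap (algebraMap A B) q) q (algebraMap A B) rfl).toAlgebra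
  change (∃ g : B, g ∉ q ∧ Algebra.Smooth A (Localization.Away g)) ↔
    CAlgX.IsAdicFormallySmooth (Localization.AtPrime (Ideal.comap (algebraMap A B) q))
      (Localization.AtPrime q) (IsLocalRing.maximalIdeal (Localization.AtPrime q))
  haveI : IsScalarTower A (Localization.AtPrime (Ideal.comap (algebraMap A B) q))
      (Localization.AtPrime q) :=
    IsScalarTower.of_algebraMap_eq (fun a => by
      rw [RingHom.algebraMap_toAlgebra, Localization.localRingHom_to_map,
        ← IsScalarTower.algebraMap_apply])
  -- present `B` as a quotient of a polynomial ring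
  obtain ⟨n, π, hπ⟩ := Algebra.FiniteType.iff_quotient_mvPolynomial''.mp
    (inferInstance : Algebra.FiniteType A B)
  letI : Algebra (MvPolynomial (Fin n) A) B := π.toAlgebra
  haveI : IsScalarTower A (MvPolynomial (Fin n) A) B :=
    IsScalarTower.of_algebraMap_eq (fun a => (π.commutes a).symm)
  have hsurj : Function.Surjective (algebraMap (MvPolynomial (Fin n) A) B) := hπ
  haveI : Module.Finite (MvPolynomial (Fin n) A)
      (RingHom.ker (algebraMap (MvPolynomial (Fin n) A) B)).Cotangent :=
    Module.Finite.of_surjective (Ideal.toCotangent _) (Ideal.toCotangent_surjective _)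
  rw [Groth.Agent.S4606.result (A := A) (B := MvPolynomial (Fin n) A) hsurj q,
    ← ((Groth.Agent.S2463.result (A := A) (B := MvPolynomial (Fin n) A) hsurj q).out 2 1 rfl rfl)]
  constructor
  · rintro ⟨g, hg, hs⟩
    exact ⟨g, hg, hs.1⟩
  · rintro ⟨g, hg, hs⟩
    refine ⟨g, hg, hs, ?_⟩
    haveI : Algebra.FinitePresentation B (Localization.Away g) :=
      IsLocalization.Away.finitePresentation g
    haveI : Algebra.FiniteType B (Localization.Away g) := inferInstance
    haveI : Algebra.FiniteType A (Localization.Away g) := Algebra.FiniteType.trans (S := B) ‹_› ‹_›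
    exact Algebra.FinitePresentation.of_finiteType.mp inferInstance

end Groth.Agent.S9268
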