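import Groth.Statements.S3436
import Groth.Agent.S9268
import Mathlib.AlgebraicGeometry.Morphisms.Smooth

set_option autoImplicit false
open CategoryTheory AlgebraicGeometry
universe u
open EGA42

namespace Groth.Agent.S3436

theorem adic_of_formallySmooth {A B : Type u} [CommRing A] [CommRing B] [Algebra A B]
    [Algebra.FormallySmooth A B] (𝔞 : Ideal A) (𝔟 : Ideal B) :
    EGA41.IsFormallySmoothAdic A 𝔞 B 𝔟 := by
  intro C _ _ J hJ _ u _
  exact Algebra.FormallySmooth.exists_lift J hJ u

theorem calgx_of_ega {A B : Type u} [CommRing A] [CommRing B] [Algebra A B] (𝔞 : Ideal A)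
    (𝔟 : Ideal B) (hab : 𝔞.map (algebraMap A B) ≤ 𝔟)
    (h : EGA41.IsFormallySmoothAdic A 𝔞 B 𝔟) : CAlgX.IsAdicFormallySmooth A B 𝔟 := by
  intro C _ _ J hJ ψ hψ
  obtain ⟨k, hk⟩ := hψ
  refine h C J ⟨2, hJ⟩ ⟨k * 2, ?_⟩ ψ ⟨k, hk⟩
  rw [eq_bot_iff, pow_mul, Ideal.map_pow]
  have hle : (𝔞 ^ k).map (algebraMap A C) ≤ J := by
    rw [Ideal.map_le_iff_le_comap]
    intro a ha
    have h1 : algebraMap A B a ∈ 𝔟 ^ k := by
      apply Ideal.pow_right_mono hab k
      rw [← Ideal.map_pow]
      exact Ideal.mem_map_of_mem _ ha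
    have h2 := hk _ h1
    rw [ψ.commutes] at h2
    show algebraMap A C a ∈ J
    exact Ideal.Quotient.eq_zero_iff_mem.mp h2
  calc ((𝔞 ^ k).map (algebraMap A C)) ^ 2 ≤ J ^ 2 := Ideal.pow_right_mono hle 2
    _ = ⊥ := hJ

/-- transport of adic formal smoothness along an isomorphism of arrows -/
theorem calgx_of_iso {A B A' B' : Type u} [CommRing A] [CommRing B] [CommRing A'] [CommRing B']
    [Algebra A B] [Algebra A' B'] (e₁ : A ≃+* A') (e₂ : B ≃+* B')
    (hcomm : ∀ a, e₂ (algebraMap A B a) = algebraMap A' B' (e₁ a))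
    (𝔫 : Ideal B) (𝔫' : Ideal B') (h𝔫 : ∀ x ∈ 𝔫', e₂.symm x ∈ 𝔫)
    (h : CAlgX.IsAdicFormallySmooth A' B' 𝔫') : CAlgX.IsAdicFormallySmooth A B 𝔫 := by
  intro C _ _ J hJ ψ hψ
  obtain ⟨k, hk⟩ := hψ
  letI : Algebra A' C := ((algebraMap A C).comp e₁.symm.toRingHom).toAlgebra
  have halg : ∀ a', algebraMap A' C a' = algebraMap A C (e₁.symm a') := fun _ => rfl
  let ψ' : B' →ₐ[A'] C ⧸ J :=
    { toRingHom := ψ.toRingHom.comp e₂.symm.toRingHom
      commutes' := fun a' => by
        show ψ (e₂.symm (algebraMap A' B' a')) = Ideal.Quotient.mk J (algebraMap A' C a')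
        have : e₂.symm (algebraMap A' B' a') = algebraMap A B (e₁.symm a') := by
          rw [RingEquiv.symm_apply_eq, hcomm, RingEquiv.apply_symm_apply]
        rw [this, ψ.commutes, halg]
        rfl }
  have hk' : ∀ x ∈ 𝔫' ^ k, ψ' x = 0 := by
    intro x hx
    show ψ (e₂.symm x) = 0
    apply hk
    have h1 : 𝔫' ≤ 𝔫.comap (e₂.symm : B' →+* B) := fun y hy => h𝔫 y hy
    have h2 : 𝔫' ^ k ≤ (𝔫 ^ k).comap (e₂.symm : B' →+* B) :=
      (Ideal.pow_right_mono h1 k).trans (Ideal.le_comap_pow _ k)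
    exact h2 hx
  obtain ⟨χ', hχ'⟩ := h C J hJ ψ' ⟨k, hk'⟩
  refine ⟨{ toRingHom := χ'.toRingHom.comp e₂.toRingHom
            commutes' := fun a => by
              show χ' (e₂ (algebraMap A B a)) = algebraMap A C a
              rw [hcomm, χ'.commutes, halg, RingEquiv.symm_apply_apply] }, ?_⟩
  ext b
  have := congr($hχ' (e₂ b))
  simpa [ψ'] using this

/-- `S9268` with the prime of the base given up to equality. -/
theorem smooth_of_adic (A B : Type u) [CommRing A] [IsNoetherianRing A]
    [CommRing B] [Algebra A B] [Algebra.FiniteType A B] (q : Ideal B) [q.IsPrime]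
    (p : Ideal A) [p.IsPrime] (hp : p = Ideal.comap (algebraMap A B) q)
    (h : letI := (Localization.localRingHom p q (algebraMap A B) hp).toAlgebra
      CAlgX.IsAdicFormallySmooth (Localization.AtPrime p)
        (Localization.AtPrime q) (IsLocalRing.maximalIdeal (Localization.AtPrime q))) :
    ∃ g : B, g ∉ q ∧ Algebra.Smooth A (Localization.Away g) := by
  subst hp
  exact (Groth.Agent.S9268.result A B q).mpr h

open AlgebraicGeometry CategoryTheory in

/-- Let X and Y be locally Noetherian schemes, f : X ⟶ Y locally of finite type, x a point of X and y =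
f x; give O_{X,x} the O_{Y,y}-algebra structure coming from f. Then O_{X,x} is formally smooth over
O_{Y,y} for the adic topologies of the two local rings (topologies defined by the maximal ideals) if
and only if it is formally smooth for the discrete topologies. -/
theorem result {X Y : Scheme.{u}} [IsLocallyNoetherian X] [IsLocallyNoetherian Y]
    (f : X ⟶ Y) [LocallyOfFiniteType f] (x : X) :
    letI : Algebra (Y.presheaf.stalk (f.base x)) (X.presheaf.stalk x) := (f.stalkMap x).hom.toAlgebra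
    EGA41.IsFormallySmoothAdic (Y.presheaf.stalk (f.base x)) (IsLocalRing.maximalIdeal (Y.presheaf.stalk (f.base x)))
        (X.presheaf.stalk x) (IsLocalRing.maximalIdeal (X.presheaf.stalk x)) ↔
      Algebra.FormallySmooth (Y.presheaf.stalk (f.base x)) (X.presheaf.stalk x) := by
  letI inst : Algebra (Y.presheaf.stalk (f.base x)) (X.presheaf.stalk x) :=
    (f.stalkMap x).hom.toAlgebra
  constructor
  · intro h
    obtain ⟨_, ⟨U, hU, rfl⟩, hxU, -⟩ :=
      Y.isBasis_affineOpens.exists_subset_of_mem_open (Set.mem_univ (f x)) isOpen_univ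
    obtain ⟨_, ⟨V, hV, rfl⟩, hxV, hVU⟩ :=
      X.isBasis_affineOpens.exists_subset_of_mem_open hxU (U.2.preimage f.continuous)
    show (f.stalkMap x).hom.FormallySmooth
    rw [formallySmooth_stalkMap_iff U hU V hV hVU hxV]
    letI algAB := (f.appLE U V hVU).hom.toAlgebra
    haveI : IsNoetherianRing Γ(Y, U) := IsLocallyNoetherian.component_noetherian ⟨U, hU⟩
    haveI : Algebra.FiniteType Γ(Y, U) Γ(X, V) := f.finiteType_appLE hU hV hVU
    haveI : Algebra.FinitePresentation Γ(Y, U) Γ(X, V) :=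
      Algebra.FinitePresentation.of_finiteType.mp inferInstance
    -- the stalk map is local, so the EGA notion gives the CAlgX notion
    have h1 : CAlgX.IsAdicFormallySmooth (Y.presheaf.stalk (f.base x)) (X.presheaf.stalk x)
        (IsLocalRing.maximalIdeal (X.presheaf.stalk x)) := by
      refine calgx_of_ega _ _ ?_ h
      have hloc : IsLocalHom (f.stalkMap x).hom := inferInstance
      exact ((IsLocalRing.local_hom_TFAE (f.stalkMap x).hom).out 0 2).mp hloc
    have hpq : (hU.primeIdealOf ⟨f x, hVU hxV⟩).asIdeal =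
        Ideal.comap (algebraMap Γ(Y, U) Γ(X, V)) (hV.primeIdealOf ⟨x, hxV⟩).asIdeal :=
      congr($(IsAffineOpen.comap_primeIdealOf_appLE U hU V hV hVU hxV).1).symm
    let e := IsAffineOpen.arrowStalkMapIso f U hU V hV hVU hxV
    letI algLoc := (Localization.localRingHom (hU.primeIdealOf ⟨f x, hVU hxV⟩).asIdeal
      (hV.primeIdealOf ⟨x, hxV⟩).asIdeal (algebraMap Γ(Y, U) Γ(X, V)) hpq).toAlgebra
    have h2 : CAlgX.IsAdicFormallySmooth
        (Localization.AtPrime (hU.primeIdealOf ⟨f x, hVU hxV⟩).asIdeal)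
        (Localization.AtPrime (hV.primeIdealOf ⟨x, hxV⟩).asIdeal)
        (IsLocalRing.maximalIdeal _) := by
      let e₁ : Localization.AtPrime (hU.primeIdealOf ⟨f x, hVU hxV⟩).asIdeal ≃+*
          ↑(Y.presheaf.stalk (f.base x)) :=
        (Arrow.leftFunc.mapIso e).symm.commRingCatIsoToRingEquiv
      let e₂ : Localization.AtPrime (hV.primeIdealOf ⟨x, hxV⟩).asIdeal ≃+*
          ↑(X.presheaf.stalk x) :=
        (Arrow.rightFunc.mapIso e).symm.commRingCatIsoToRingEquiv
      refine calgx_of_iso e₁ e₂ ?_ _ _ ?_ h1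
      · intro a
        have := congr($(e.inv.w).hom a)
        exact this.symm
      · intro y hy
        rw [IsLocalRing.mem_maximalIdeal, mem_nonunits_iff] at hy ⊢
        intro hu
        apply hy
        have := hu.map e₂
        rwa [RingEquiv.apply_symm_apply] at this
    obtain ⟨g, hg, hsm⟩ := smooth_of_adic Γ(Y, U) Γ(X, V) _ _ hpq h2
    have hsub := (Algebra.basicOpen_subset_smoothLocus_iff (R := Γ(Y, U)) (f := g)).mpr
      hsm.formallySmooth
    exact hsub (show hV.primeIdealOf ⟨x, hxV⟩ ∈ PrimeSpectrum.basicOpen g from hg)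
  · intro h
    exact adic_of_formallySmooth _ _

end Groth.Agent.S3436
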