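import Groth.Statements.S3437
import Mathlib
import Groth.Agent.Lib.Helper21.CMFibCons
-- import your own Groth.Agent.* helpers here

set_option autoImplicit false
open CategoryTheory AlgebraicGeometry
universe u
open EGA43

namespace Groth.Agent.S3437

/-- Let f : X ⟶ S be of finite presentation (locally of finite presentation, quasi-compact and
quasi-separated). Then the set of points s of S such that every local ring of the fibre X_s is
Cohen–Macaulay is locally constructible in S. -/
theorem result {X S : Scheme.{u}} (f : X ⟶ S)
    [LocallyOfFinitePresentation f] [QuasiCompact f] [QuasiSeparated f] :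
    Topology.IsLocallyConstructible {s : S |
      ∀ z : ↥(f.fiber s), LocCoh.IsCohenMacaulayLocalRing ((f.fiber s).presheaf.stalk z)} := by
  have h1 := Groth.Agent.Lib.Helper21.CMFibLocus.isLocallyConstructible_cmFib f
  have hc : ∀ {T : Type u} [TopologicalSpace T] {s : Set T},
      Topology.IsLocallyConstructible s → Topology.IsLocallyConstructible sᶜ := by
    intro T _ s hs x
    obtain ⟨U, hU, hUo, hUc⟩ := hs x
    refine ⟨U, hU, hUo, ?_⟩
    have : (Subtype.val ⁻¹' sᶜ : Set U) = (Subtype.val ⁻¹' s : Set U)ᶜ := rfl
    rw [this]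
    exact hUc.compl
  have h3 := hc (f.isLocallyConstructible_image (hc h1))
  convert h3 using 1
  ext s
  constructor
  · intro h
    rintro ⟨x, hx, hxs⟩
    have hmem : x ∈ Set.range (f.fiberι s) := by
      rw [Scheme.Hom.range_fiberι]; exact hxs
    obtain ⟨z, hz⟩ := hmem
    have h2 := (Groth.Agent.Lib.Helper21.CMFibLocus.mem_cmFib_fiberι_iff f s z).2 (h z)
    rw [hz] at h2
    exact hx h2
  · intro h z
    by_contra hz
    apply h
    refine ⟨(f.fiberι s) z, ?_, Groth.Agent.Lib.Helper35.FiberStalk.fiberι_base_eq f s z⟩
    intro hmem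
    exact hz ((Groth.Agent.Lib.Helper21.CMFibLocus.mem_cmFib_fiberι_iff f s z).1 hmem)

end Groth.Agent.S3437
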