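import Groth.Statements.S3438
import Groth.Agent.Lib.Helper73.Equidim2
import Groth.Agent.Lib.Helper73.StalkQuot2
import Groth.Agent.Lib.Helper73.StalkQuot
-- import your own Groth.Agent.* helpers here

set_option autoImplicit false
open CategoryTheory AlgebraicGeometry
universe u
open EGA43

namespace Groth.Agent.S3438
open Groth.Agent.Lib.Helper73.SchemeDim Groth.Agent.Lib.Helper73.RelHt

/-- Let Y be locally Noetherian, f : X ⟶ Y locally of finite type, x a point of X with y = f x, and
suppose O_{Y,y} is equidimensional and universally catenary. If f is equidimensional at x, then dim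
O_{X,x} = dim O_{Y,y} + dim O_{X_y,x}. (That O_{X,x} is then also equidimensional is a separate
result, not asserted here.) -/
theorem result {X Y : Scheme.{u}} [IsLocallyNoetherian Y] (f : X ⟶ Y)
    [LocallyOfFiniteType f] (x : X) (hY : EGA4.IsEquidim (Y.presheaf.stalk (f.base x)))
    (hcat : CAlg.IsUniversallyCatenary (Y.presheaf.stalk (f.base x))) (h : EGA43.IsEquidimAt f x) :
    ringKrullDim (X.presheaf.stalk x) =
        ringKrullDim (Y.presheaf.stalk (f.base x)) + ringKrullDim ((f.fiber (f.base x)).presheaf.stalk (f.asFiber x)) := by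
  haveI : IsLocallyNoetherian X := LocallyOfFiniteType.isLocallyNoetherian f
  obtain ⟨e, U, hxU, hU1, hU2⟩ := (isEquidimAt_iff f x).mp h
  obtain ⟨m, hm⟩ := exists_trdeg_residueField_eq_nat' f x
  -- the fibre
  have hfd := fibreDimAt_eq f x m hm
  obtain ⟨ζ, n, hζx, hζf, hζmax, hn, hF⟩ := exists_maximal_in_fibre_trdeg_eq_fibreDimAt f x
  have hζU : ζ ∈ U := hζx.mem_open U.isOpen hxU
  have hne : n = e := by
    have := hU2 ζ hζU hζmax
    rw [hn] at this
    exact_mod_cast this
  have hfib : ringKrullDim ((f.fiber (f.base x)).presheaf.stalk (f.asFiber x)) + (m : WithBot ℕ∞) =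
      (e : WithBot ℕ∞) := by rw [← hfd, hF, hne]
  -- the minimal primes
  have key : ∀ P : Ideal (X.presheaf.stalk x), P ∈ minimalPrimes (X.presheaf.stalk x) →
      ringKrullDim (X.presheaf.stalk x ⧸ P) + (m : WithBot ℕ∞) =
        ringKrullDim (Y.presheaf.stalk (f.base x)) + (e : WithBot ℕ∞) := by
    intro P hP
    haveI hPp : P.IsPrime := hP.1.1
    have hξmax := fromSpecStalk_maximal_of_mem_minimalPrimes x ⟨P, hPp⟩ hP
    set ξ := (X.fromSpecStalk x).base (⟨P, hPp⟩ : PrimeSpectrum (X.presheaf.stalk x)) with hξdef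
    have hξx : ξ ⤳ x := fromSpecStalk_specializes x _
    have hξU : ξ ∈ U := hξx.mem_open U.isOpen hxU
    obtain ⟨hηmax, hηy⟩ := hU1 ξ hξU hξmax
    have hnξ := hU2 ξ hξU (fun t ht _ => hξmax t ht)
    have h1 := (relHt_add_trdeg_aux f hξx e m hnξ hm).2 hcat
    -- relHt y η = dim A
    obtain ⟨Q, hQ⟩ := exists_fromSpecStalk_eq hηy
    have hQmin : Q.asIdeal ∈ minimalPrimes (Y.presheaf.stalk (f.base x)) := by
      apply mem_minimalPrimes_of_fromSpecStalk_maximal
      rw [hQ]; exact hηmax
    have h2 := hY Q.asIdeal hQmin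
    haveI := Q.2
    rw [ringKrullDim_stalk_quotient_eq_relHt] at h2
    have hQ' : (⟨Q.asIdeal, Q.2⟩ : PrimeSpectrum (Y.presheaf.stalk (f.base x))) = Q := rfl
    rw [hQ', hQ] at h2
    rw [ringKrullDim_stalk_quotient_eq_relHt, ← h2]
    exact_mod_cast h1
  obtain ⟨P₀, hP₀⟩ := Ideal.exists_minimalPrimes_le (I := (⊥ : Ideal (X.presheaf.stalk x)))
    (J := IsLocalRing.maximalIdeal _) bot_le
  have hP₀' : P₀ ∈ minimalPrimes (X.presheaf.stalk x) := hP₀.1
  have hall : ∀ P : Ideal (X.presheaf.stalk x), P ∈ minimalPrimes (X.presheaf.stalk x) →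
      ringKrullDim (X.presheaf.stalk x ⧸ P) = ringKrullDim (X.presheaf.stalk x ⧸ P₀) := by
    intro P hP
    apply add_natCast_cancel m
    rw [key P hP, key P₀ hP₀']
  have hdim : ringKrullDim (X.presheaf.stalk x) = ringKrullDim (X.presheaf.stalk x ⧸ P₀) := by
    apply le_antisymm
    · rw [ringKrullDim, Order.krullDim]
      refine iSup_le fun l => ?_
      obtain ⟨p, hp, hle⟩ := exists_minimalPrimes_length_le l
      rw [hall p hp] at hle
      exact hle
    · exact ringKrullDim_quotient_le P₀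
  apply add_natCast_cancel m
  rw [hdim, key P₀ hP₀', add_assoc, hfib]

end Groth.Agent.S3438
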