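import Groth.Statements.S3440
import Mathlib
import Groth.Agent.Lib.Helper82.ChevalleyPt
import Groth.Agent.Lib.Helper33.CMFibre
import Groth.Agent.S0386
import Groth.Agent.S2082
-- import your own Groth.Agent.* helpers here

set_option autoImplicit false
open CategoryTheory AlgebraicGeometry
universe u
open EGA43

namespace Groth.Agent.S3440
set_option linter.style.haveILetI false
open Groth.Agent.Lib.Helper82.ChevalleyPt Limits

/-- flat at `x` ⟹ universally open on a neighbourhood. -/
private theorem exists_universallyOpen_of_flat {X Y : Scheme.{u}} [IsLocallyNoetherian Y] (f : X ⟶ Y) [LocallyOfFiniteType f]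
    (x : X) (h : (f.stalkMap x).hom.Flat) : ∃ U : X.Opens, x ∈ U ∧ UniversallyOpen (U.ι ≫ f) := by
  let U : X.Opens := ⟨{x : X | (f.stalkMap x).hom.Flat}, Groth.Agent.S0386.result f⟩
  refine ⟨U, h, ?_⟩
  haveI : Flat (U.ι ≫ f) := by
    rw [Flat.iff_flat_stalkMap]
    intro u
    rw [Scheme.Hom.stalkMap_comp]
    have h1 : (f.stalkMap (U.ι.base u)).hom.Flat := u.2
    have h2 : (U.ι.stalkMap u).hom.Flat := Flat.stalkMap U.ι u
    exact RingHom.Flat.comp h1 h2
  infer_instance

/-- miracle flatness at a point. -/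
private theorem flat_of_dim_eq {X Y : Scheme.{u}} [IsLocallyNoetherian Y] (f : X ⟶ Y) [LocallyOfFiniteType f] (x : X)
    (hreg : IsRegularLocalRing (Y.presheaf.stalk (f.base x)))
    (hCM : LocCoh.IsCohenMacaulayLocalRing (X.presheaf.stalk x))
    (hdim : ringKrullDim (X.presheaf.stalk x) =
        ringKrullDim (Y.presheaf.stalk (f.base x)) +
          ringKrullDim ((f.fiber (f.base x)).presheaf.stalk (f.asFiber x))) :
    (f.stalkMap x).hom.Flat := by
  letI : Algebra (Y.presheaf.stalk (f.base x)) (X.presheaf.stalk x) := (f.stalkMap x).hom.toAlgebra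
  haveI : IsLocalHom (algebraMap (Y.presheaf.stalk (f.base x)) (X.presheaf.stalk x)) :=
    inferInstanceAs (IsLocalHom (f.stalkMap x).hom)
  haveI := hreg
  haveI := hCM
  obtain ⟨π, hπ, hker⟩ := Groth.Agent.Lib.Helper33.GorComp.exists_fibre_proj f x
  let e : (f.fiber (f.base x)).presheaf.stalk (f.asFiber x) ≃+* (X.presheaf.stalk x ⧸
      (IsLocalRing.maximalIdeal (Y.presheaf.stalk (f.base x))).map
        (algebraMap (Y.presheaf.stalk (f.base x)) (X.presheaf.stalk x))) :=
    (RingHom.quotientKerEquivOfSurjective hπ).symm.trans (Ideal.quotEquivOfEq hker)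
  have h1 := ringKrullDim_eq_of_ringEquiv e
  rw [h1] at hdim
  exact Groth.Agent.S2082.result hdim


/-- Let Y be locally Noetherian, f : X ⟶ Y locally of finite type, x a point of X and y = f x; suppose
O_{Y,y} is regular and O_{X,x} is Cohen–Macaulay. The following are equivalent: a) O_{Y,y} ⟶ O_{X,x}
is flat and the local ring of X_y at x is Cohen–Macaulay; b) O_{Y,y} ⟶ O_{X,x} is flat; c) the
restriction of f to some open neighbourhood of x is universally open; d) f is open at the generic
point of every irreducible component of X_y through x; e') dim O_{X,x} = dim O_{Y,y} + dim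
O_{X_y,x}. -/
theorem result {X Y : Scheme.{u}} [IsLocallyNoetherian Y] (f : X ⟶ Y)
    [LocallyOfFiniteType f] (x : X) (hreg : IsRegularLocalRing (Y.presheaf.stalk (f.base x)))
    (hCM : LocCoh.IsCohenMacaulayLocalRing (X.presheaf.stalk x)) :
    List.TFAE [
      (f.stalkMap x).hom.Flat ∧ LocCoh.IsCohenMacaulayLocalRing ((f.fiber (f.base x)).presheaf.stalk (f.asFiber x)),
      (f.stalkMap x).hom.Flat,
      ∃ U : X.Opens, x ∈ U ∧ UniversallyOpen (U.ι ≫ f),
      (∀ z : ↥(f.fiber (f.base x)), f.asFiber x ∈ closure {z} →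
          (∀ z' : ↥(f.fiber (f.base x)), z ∈ closure {z'} → z' = z) →
          EGA43.IsOpenAt f.base ((f.fiberι (f.base x)).base z)),
      ringKrullDim (X.presheaf.stalk x) =
        ringKrullDim (Y.presheaf.stalk (f.base x)) + ringKrullDim ((f.fiber (f.base x)).presheaf.stalk (f.asFiber x)) ] := by
  haveI : IsLocallyNoetherian X := LocallyOfFiniteType.isLocallyNoetherian f
  tfae_have 1 → 2 := fun h => h.1
  tfae_have 2 → 1 := by
    intro h
    exact ⟨h, ((Groth.Agent.Lib.Helper33.CMFibre.cm_stalk_iff' f x h).1 hCM).2⟩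
  tfae_have 2 → 3 := exists_universallyOpen_of_flat f x
  tfae_have 3 → 4 := by
    rintro ⟨U, hxU, hU⟩ z hz _
    haveI := hU
    have hsp := fiberι_specializes f x z hz
    have hzU : (f.fiberι (f.base x)).base z ∈ U := hsp.mem_open U.isOpen hxU
    have h1 := Groth.Agent.Lib.Helper70.UnivOpenAt.isUnivOpenAt_of_universallyOpen (U.ι ≫ f)
      ⟨_, hzU⟩
    have h2 := Groth.Agent.S4926.result U.ι f ⟨_, hzU⟩ h1
    exact isOpenAt_of_isUnivOpenAt f _ h2
  tfae_have 4 → 5 := Groth.Agent.S2559.result f x
  tfae_have 5 → 2 := flat_of_dim_eq f x hreg hCM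
  tfae_finish

end Groth.Agent.S3440
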