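import Groth.Statements.S3448
import Groth.Agent.Lib.Helper73.FibreMax
import Groth.Agent.S3447
-- import your own Groth.Agent.* helpers here

set_option autoImplicit false
open CategoryTheory AlgebraicGeometry
universe u
open EGA43

namespace Groth.Agent.S3448
open Groth.Agent.Lib.Helper73.SchemeDim Groth.Agent.Lib.Helper73.RelHt

/-- Let Y be locally Noetherian, f : X ⟶ Y of finite type, x a point of X with y = f x, and suppose
O_{Y,y} is universally catenary. Then dim O_{X,x} = dim O_{Y,y} + dim O_{X_y,x} if and only if there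
is a point z of the fibre over y which is a generization of x, is maximal in the fibre (the generic
point of an irreducible component Z of X_y containing x), has local fibre dimension at z equal to
that at x (dim Z = dim_x X_y), and satisfies dim O_{X,z} = dim O_{Y,y}. -/
theorem result {X Y : Scheme.{u}} [IsLocallyNoetherian Y]
    (f : X ⟶ Y) [LocallyOfFiniteType f] [QuasiCompact f] (x : X)
    (hcat : CAlg.IsUniversallyCatenary (Y.presheaf.stalk (f.base x))) :
    ringKrullDim (X.presheaf.stalk x) =
        ringKrullDim (Y.presheaf.stalk (f.base x)) + ringKrullDim ((f.fiber (f.base x)).presheaf.stalk (f.asFiber x)) ↔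
      ∃ z : X, f.base z = f.base x ∧ z ⤳ x ∧ (∀ z' : X, f.base z' = f.base x → z' ⤳ z → z' = z) ∧
        FlatMor.fibreDimAt f z = FlatMor.fibreDimAt f x ∧
        ringKrullDim (X.presheaf.stalk z) = ringKrullDim (Y.presheaf.stalk (f.base z)) := by
  have : IsLocallyNoetherian X := LocallyOfFiniteType.isLocallyNoetherian f
  obtain ⟨nx, hnx⟩ := exists_trdeg_residueField_eq_nat f x
  obtain ⟨m, c₁, hm, hc₁len, hc₁head, hc₁f, -⟩ := exists_ltSeries_fibre_stalk f x
  have hFx := fibreDimAt_eq f x nx hnx
  rw [hm] at hFx ⊢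
  have hle := Groth.Agent.S3447.result f x
  rw [hm] at hle
  constructor
  · -- ⇒
    intro heq
    -- finiteness
    have hdfin : Order.coheight x < ⊤ := by
      have h1 : ringKrullDim (X.presheaf.stalk x) < ⊤ := ringKrullDim_lt_top
      rw [ringKrullDim_stalk_eq_coheight, ← WithBot.coe_top] at h1
      exact WithBot.coe_lt_coe.mp h1
    have hefin : Order.coheight (f.base x) < ⊤ := by
      have h1 : ringKrullDim (Y.presheaf.stalk (f.base x)) < ⊤ := ringKrullDim_lt_top
      rw [ringKrullDim_stalk_eq_coheight, ← WithBot.coe_top] at h1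
      exact WithBot.coe_lt_coe.mp h1
    obtain ⟨D, hD⟩ := ENat.ne_top_iff_exists.mp hdfin.ne
    obtain ⟨e, he⟩ := ENat.ne_top_iff_exists.mp hefin.ne
    rw [ringKrullDim_stalk_eq_coheight, ringKrullDim_stalk_eq_coheight, ← hD, ← he] at heq
    have hDem : D = e + m := by exact_mod_cast heq
    obtain ⟨ξ, hxξ, hξ⟩ := exists_relHt_eq_coheight x hdfin
    rw [← hD] at hξ
    obtain ⟨nξ, hnξ⟩ := exists_trdeg_residueField_eq_nat f ξ
    -- the set T
    let T : Set X := {w | ξ ⤳ w ∧ w ⤳ x ∧ f.base w = f.base x}
    have hxT : x ∈ T := ⟨hxξ, specializes_rfl, rfl⟩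
    have hbound : ∀ w ∈ T, relHt x w ≤ (m : ℕ∞) := by
      intro w hw
      have := relHt_le_ringKrullDim_stalk_fiber f x w hw.2.2
      rw [hm] at this
      exact_mod_cast this
    let g : X → ℕ := fun w => m - (relHt x w).toNat
    obtain ⟨w, hwT, hwmin⟩ := WellFounded.has_min (measure g).wf T ⟨x, hxT⟩
    have hstep : ∀ w' : X, w' ∈ T → w < w' → False := by
      intro w' hw'T hlt
      have h1 := relHt_add_one_le (anti X) (show x ≤ w from hwT.2.1) hlt
        (lt_of_le_of_lt (hbound w hwT) (ENat.natCast_lt_top m))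
      have h2 := hbound w' hw'T
      have h3 := hbound w hwT
      obtain ⟨a, ha⟩ := ENat.ne_top_iff_exists.mp (lt_of_le_of_lt h3 (ENat.natCast_lt_top m)).ne
      obtain ⟨b, hb⟩ := ENat.ne_top_iff_exists.mp (lt_of_le_of_lt h2 (ENat.natCast_lt_top m)).ne
      rw [← ha, ← hb] at h1
      rw [← hb] at h2
      have h1' : a + 1 ≤ b := by exact_mod_cast h1
      have h2' : b ≤ m := by exact_mod_cast h2
      apply hwmin w' hw'T
      change g w' < g w
      simp only [g]
      rw [← ha, ← hb]
      simp only [ENat.toNat_natCast]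
      omega
    have hfw : f.base w = f.base x := hwT.2.2
    have hξw : ξ ⤳ w := hwT.1
    have hwx : w ⤳ x := hwT.2.1
    have hmaxξ : ∀ w' : X, ξ ⤳ w' → w' ⤳ w → f.base w' = f.base w → w' = w := by
      intro w' h1 h2 h3
      by_contra hne
      refine hstep w' ⟨h1, h2.trans hwx, h3.trans hfw⟩ ?_
      rw [lt_iff_le_not_ge]
      exact ⟨h2, fun h => hne (anti X _ _ h h2)⟩
    have hkey := relHt_le_relHt_base_of_maximal f hξw hmaxξ
    rw [hfw] at hkey
    obtain ⟨nw, hnw⟩ := exists_trdeg_residueField_eq_nat f w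
    have hcatw : CAlg.IsUniversallyCatenary (Y.presheaf.stalk (f.base w)) := by
      rw [hfw]; exact hcat
    have hform1 := (relHt_add_trdeg_aux f hxξ nξ nx hnξ hnx).2 hcat
    have hform2 := (relHt_add_trdeg_aux f hξw nξ nw hnξ hnw).2 hcatw
    rw [hfw] at hform2
    have hform3 := relHt_add_trdeg_eq_of_fibre f hwx hfw nw nx hnw hnx
    have hbase : relHt (f.base x) (f.base ξ) ≤ (e : ℕ∞) := by
      rw [he]; exact relHt_le_coheight _ _
    have hbw := hbound w hwT
    -- numerics
    obtain ⟨a, ha⟩ := ENat.ne_top_iff_exists.mp (lt_of_le_of_lt hbw (ENat.natCast_lt_top m)).ne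
    obtain ⟨b, hb⟩ := ENat.ne_top_iff_exists.mp (lt_of_le_of_lt hbase (ENat.natCast_lt_top e)).ne
    have hcfin : relHt w ξ < ⊤ := relHt_lt_top hξw
    obtain ⟨c, hc⟩ := ENat.ne_top_iff_exists.mp hcfin.ne
    rw [← ha] at hbw hform3
    rw [← hb] at hbase hkey hform1 hform2
    rw [← hc] at hkey hform2
    rw [hξ] at hform1
    have n1 : a ≤ m := by exact_mod_cast hbw
    have n2 : b ≤ e := by exact_mod_cast hbase
    have n3 : c ≤ b := by exact_mod_cast hkey
    have n4 : D + nx = b + nξ := by exact_mod_cast hform1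
    have n5 : c + nw = b + nξ := by exact_mod_cast hform2
    have n6 : a + nx = nw := by exact_mod_cast hform3
    have n7 : a = m := by omega
    have n8 : c = e := by omega
    have hmaxw : ∀ z' : X, f.base z' = f.base x → z' ⤳ w → z' = w := by
      intro z' h1 h2
      by_contra hne
      have hlt : w < z' := by
        rw [lt_iff_le_not_ge]
        exact ⟨h2, fun h => hne (anti X _ _ h h2)⟩
      have h3 := relHt_add_one_le (anti X) (show x ≤ w from hwx) hlt
        (by rw [← ha]; exact ENat.natCast_lt_top a)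
      have h4 := relHt_le_ringKrullDim_stalk_fiber f x z' h1
      rw [hm] at h4
      have h4' : relHt x z' ≤ (m : ℕ∞) := by exact_mod_cast h4
      rw [← ha, n7] at h3
      have h5 := le_trans h3 h4'
      have : m + 1 ≤ m := by exact_mod_cast h5
      omega
    have hmaxw' : ∀ z' : X, f.base z' = f.base w → z' ⤳ w → z' = w := fun z' h1 h2 =>
      hmaxw z' (h1.trans hfw) h2
    have hzero := ringKrullDim_stalk_fiber_eq_zero_of_maximal f w hmaxw'
    refine ⟨w, hfw, hwx, hmaxw, ?_, ?_⟩
    · rw [fibreDimAt_eq f w nw hnw, hzero, hFx, zero_add, ← n6, n7]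
      push_cast
      rfl
    · apply le_antisymm
      · have := Groth.Agent.S3447.result f w
        rw [hzero, add_zero] at this
        exact this
      · rw [ringKrullDim_stalk_eq_coheight, ringKrullDim_stalk_eq_coheight, hfw, ← he]
        have h1 := relHt_le_coheight w ξ
        rw [← hc, n8] at h1
        exact_mod_cast h1
  · -- ⇐
    rintro ⟨z, hz1, hz2, hz3, hz4, hz5⟩
    refine le_antisymm hle ?_
    obtain ⟨nz, hnz⟩ := exists_trdeg_residueField_eq_nat f z
    have hz3' : ∀ z' : X, f.base z' = f.base z → z' ⤳ z → z' = z := fun z' h1 h2 =>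
      hz3 z' (h1.trans hz1) h2
    have hzero := ringKrullDim_stalk_fiber_eq_zero_of_maximal f z hz3'
    have hFz := fibreDimAt_eq f z nz hnz
    rw [hzero, zero_add, hz4, hFx] at hFz
    have hnum : m + nx = nz := by exact_mod_cast hFz
    have hform := relHt_add_trdeg_eq_of_fibre f hz2 hz1 nz nx hnz hnx
    have hrel : relHt x z = (m : ℕ∞) := by
      have hfin : relHt x z < ⊤ := relHt_lt_top hz2
      obtain ⟨a, ha⟩ := ENat.ne_top_iff_exists.mp hfin.ne
      rw [← ha] at hform ⊢
      have : a + nx = nz := by exact_mod_cast hform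
      have : a = m := by omega
      rw [this]
    obtain ⟨c, hc1, hc2, hc3⟩ := exists_length_eq_relHt (show x ≤ z from hz2) (anti X x z)
      (by rw [hrel]; exact ENat.natCast_lt_top m)
    have h1 := coheight_last_add_length_le c
    rw [hc1, hc2] at h1
    rw [hrel] at hc3
    have hc3' : c.length = m := by exact_mod_cast hc3
    rw [hc3'] at h1
    rw [hz1] at hz5
    rw [← hz5, ringKrullDim_stalk_eq_coheight, ringKrullDim_stalk_eq_coheight]
    exact_mod_cast h1

end Groth.Agent.S3448
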