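import Groth.Statements.S3449
import Groth.Agent.Lib.Helper73.JacobsonDim2

set_option autoImplicit false
open CategoryTheory AlgebraicGeometry
universe u
open EGA43

namespace Groth.Agent.S3449

open Groth.Agent.Lib.Helper73.SchemeDim Groth.Agent.Lib.Helper73.RelHt AlgebraicGeometry

/-- Let S be a locally Noetherian scheme which is Jacobson, whose local rings are universally catenary,
and whose irreducible components S' are equidimensional in the sense that for every closed point s
of S' the dimension of S' equals the dimension of S' at s (the Krull dimension of the set of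
generizations of s inside S'). Let X and Y be S-schemes, each locally of finite type over the base
S, and let f : X ⟶ Y be a morphism over S, with X irreducible and f dominant; let η be the generic
point of Y and e the dimension of the fibre over η. Then dim X = dim Y + e. -/
theorem result {X Y S : Scheme.{u}} [IsLocallyNoetherian S]
    [JacobsonSpace S] (h2 : ∀ s : S, CAlg.IsUniversallyCatenary (S.presheaf.stalk s))
    (h3 : ∀ S' ∈ irreducibleComponents (S : Type u), ∀ s ∈ S', IsClosed ({s} : Set S) →
      topologicalKrullDim (↥S' : Type u) = topologicalKrullDim ↥{t : S | t ∈ S' ∧ t ⤳ s})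
    (p : X ⟶ S) (q : Y ⟶ S) [LocallyOfFiniteType p] [LocallyOfFiniteType q] (f : X ⟶ Y) (hf : f ≫ q = p)
    [IrreducibleSpace X] [IrreducibleSpace Y] [IsDominant f] :
    topologicalKrullDim (X : Type u) =
      topologicalKrullDim (Y : Type u) + topologicalKrullDim ↥(f.fiber (genericPoint Y)) := by
  subst hf
  haveI : LocallyOfFiniteType f := locallyOfFiniteType_of_comp f q
  haveI : IsLocallyNoetherian Y := LocallyOfFiniteType.isLocallyNoetherian q
  haveI : JacobsonSpace Y := LocallyOfFiniteType.jacobsonSpace q
  haveI : JacobsonSpace X := LocallyOfFiniteType.jacobsonSpace f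
  -- the local rings of `Y` are universally catenary
  have hcatY : ∀ y : Y, CAlg.IsUniversallyCatenary (Y.presheaf.stalk y) := by
    intro y
    letI : Algebra (S.presheaf.stalk (q.base y)) (Y.presheaf.stalk y) :=
      (q.stalkMap y).hom.toAlgebra
    haveI : Algebra.EssFiniteType (S.presheaf.stalk (q.base y)) (Y.presheaf.stalk y) :=
      LocallyOfFiniteType.stalkMap q y
    exact Groth.Agent.S9126.result _ _ (h2 (q.base y))
  have hξ : ∀ x : X, genericPoint X ⤳ x := genericPoint_specializes
  have hfη : f.base (genericPoint X) = genericPoint Y := by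
    have h1 := (genericPoint_spec X).image f.continuous
    rw [Set.image_univ, f.denseRange.closure_range] at h1
    exact h1.eq (genericPoint_spec Y)
  have hη : ∀ y : Y, f.base (genericPoint X) ⤳ y := by
    intro y
    rw [hfη]
    exact genericPoint_specializes y
  obtain ⟨nξ, hnξ⟩ := exists_trdeg_residueField_eq_nat f (genericPoint X)
  have hfib := topologicalKrullDim_fiber_eq_of_top f (genericPoint X) hξ nξ hnξ
  rw [hfη] at hfib
  rw [hfib]
  -- a closed point of `X`
  obtain ⟨x, hx, -⟩ := exists_isClosed_specializes (genericPoint X)
  obtain ⟨hfx, htr⟩ := isClosed_base_of_isClosed f hx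
  have hDF := (relHt_add_trdeg_aux f (hξ x) nξ 0 hnξ (by exact_mod_cast htr)).2 (hcatY _)
  have hX := relHt_closedPoint_eq_topologicalKrullDim h2 h3 (f ≫ q) (genericPoint X) hξ x hx
  have hY := relHt_closedPoint_eq_topologicalKrullDim h2 h3 q (f.base (genericPoint X)) hη
    (f.base x) hfx
  rw [← hX, ← hY]
  have h5 : relHt x (genericPoint X) = relHt (f.base x) (f.base (genericPoint X)) + nξ := by
    simpa using hDF
  rw [h5]
  push_cast
  rfl

end Groth.Agent.S3449
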