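import Groth.Statements.S3450
-- import your own Groth.Agent.* helpers here
import Groth.Agent.Lib.Helper15.DvrFamily

set_option autoImplicit false
universe u
open EGA43

namespace Groth.Agent.S3450

open Groth.Agent.Lib.Helper15.DvrFamily

/-- Let A be a Noetherian local ring which is reduced, complete (for the topology defined by its maximal
ideal m) and not a field. Then for every n there are finitely many local homomorphisms φ_i : A → V_i
into discrete valuation rings, each making V_i a finite A-algebra, such that the intersection of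
their kernels is contained in mⁿ. (Equivalently: such finite intersections form a base of
neighbourhoods of 0 for the m-adic topology.) -/
theorem result (A : Type u) [CommRing A] [IsNoetherianRing A]
    [IsLocalRing A] [IsReduced A] [IsAdicComplete (IsLocalRing.maximalIdeal A) A] (hA : ¬ IsField A) (n : ℕ) :
    ∃ (k : ℕ) (V : Fin k → Type u) (_ : ∀ i, CommRing (V i)) (_ : ∀ i, IsDomain (V i))
      (_ : ∀ i, IsDiscreteValuationRing (V i)) (φ : ∀ i, A →+* V i),
      (∀ i, IsLocalHom (φ i) ∧ (φ i).Finite) ∧
        ⨅ i, RingHom.ker (φ i) ≤ IsLocalRing.maximalIdeal A ^ n := by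
  classical
  let Ps : Set (Ideal A) := {P | P.IsPrime ∧ ringKrullDim (A ⧸ P) = 1}
  obtain ⟨F, hF, hFn⟩ := exists_finset_inf_le (S := A) Ps
    (fun x hx => by
      obtain ⟨P, hP, hdim, hxP⟩ := exists_prime_dim_one_not_mem_of_isReduced A hA x hx
      exact ⟨P, ⟨hP, hdim⟩, hxP⟩) n
  let g : Fin F.card → Pr A := fun i => ⟨(F.equivFin.symm i).1, hF (F.equivFin.symm i).2⟩
  refine ⟨F.card, fun i => V A (g i), fun i => inferInstance, fun i => inferInstance,
    fun i => isDiscreteValuationRing_V A (g i), fun i => φ A (g i),
    fun i => ⟨isLocalHom_φ A (g i), finite_φ A (g i)⟩, ?_⟩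
  refine le_trans ?_ hFn
  intro x hx
  rw [Ideal.mem_iInf] at hx
  rw [Submodule.mem_finsetInf]
  intro P hP
  have h1 := hx (F.equivFin ⟨P, hP⟩)
  rw [ker_φ] at h1
  simpa [g] using h1

end Groth.Agent.S3450
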