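import Groth.Statements.S3458
import Mathlib
import Groth.Agent.Lib.Helper21.FibreClosureDim
import Groth.Agent.Lib.Helper21.FibreTd
import Groth.Agent.Lib.Helper21.FibreBaseChange
import Groth.Agent.Lib.Helper25.UnivOpenAt
import Groth.Agent.Lib.Helper73.FibreDimGen
import Groth.Agent.S4954
import Groth.Agent.S4952
import Groth.Agent.S3419
-- import your own Groth.Agent.* helpers here

set_option autoImplicit false
set_option linter.style.haveILetI false
set_option linter.unusedSectionVars false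
set_option linter.unusedVariables false
open CategoryTheory AlgebraicGeometry
universe u
open EGA43

namespace Groth.Agent.S3458

open Groth.Agent.Lib.Helper21.FieldDim Groth.Agent.Lib.Helper21.FibreClosureDim
open Groth.Agent.Lib.Helper21
open Groth.Agent.S4954 Groth.Agent.S4952
open CategoryTheory.Limits

section Helpers

variable {X Y : Scheme.{u}} (f : X ⟶ Y) [LocallyOfFiniteType f]

/-- geometric irreducibility gives irreducibility of the trace on fibres of a base change. -/
theorem irreducible_trace {Y₁ : Scheme.{u}} (g₁ : Y₁ ⟶ Y) (C : Set X) (t : Y₁)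
    (hgi : ∀ (K : Type u) [Field K] [Algebra (IsLocalRing.ResidueField (Y.presheaf.stalk (g₁.base t))) K],
      IsIrreducible ((FBase.bcπ (f.fiberToSpecResidueField (g₁.base t)) K ≫
        f.fiberι (g₁.base t)).base ⁻¹' C)) :
    IsIrreducible ((pullback.fst f g₁).base ⁻¹' C ∩ (pullback.snd f g₁).base ⁻¹' {t}) := by
  have sq : IsPullback (pullback.fst f g₁) (pullback.snd f g₁) f g₁ := IsPullback.of_hasPullback _ _
  have hpb := isPullback_fiberMapOfIsPullback sq t
  letI : Algebra (IsLocalRing.ResidueField (Y.presheaf.stalk (g₁.base t)))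
      (IsLocalRing.ResidueField (Y₁.presheaf.stalk t)) := (g₁.residueFieldMap t).hom.toAlgebra
  have hS := hgi (IsLocalRing.ResidueField (Y₁.presheaf.stalk t))
  let e := hpb.isoPullback
  have he : e.hom ≫ pullback.fst _ _ = fiberMapOfIsPullback sq t := hpb.isoPullback_hom_fst
  have hkey : e.hom ≫ FBase.bcπ (f.fiberToSpecResidueField (g₁.base t))
      (IsLocalRing.ResidueField (Y₁.presheaf.stalk t)) ≫ f.fiberι (g₁.base t) =
      (pullback.snd f g₁).fiberι t ≫ pullback.fst f g₁ := by
    rw [← fiberMapOfIsPullback_fiberι sq t, ← he, Category.assoc]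
    rfl
  have hcont : Continuous (e.inv ≫ (pullback.snd f g₁).fiberι t).base :=
    (e.inv ≫ (pullback.snd f g₁).fiberι t).continuous
  have himg := hS.image _ hcont.continuousOn
  convert himg using 1
  ext z
  simp only [Set.mem_inter_iff, Set.mem_preimage, Set.mem_singleton_iff, Set.mem_image]
  constructor
  · rintro ⟨hzC, hzt⟩
    have hzr : z ∈ Set.range ((pullback.snd f g₁).fiberι t).base := by
      rw [Scheme.Hom.range_fiberι]; exact hzt
    obtain ⟨w, rfl⟩ := hzr
    refine ⟨e.hom.base w, ?_, ?_⟩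
    · have h3 : (FBase.bcπ (f.fiberToSpecResidueField (g₁.base t))
          (IsLocalRing.ResidueField (Y₁.presheaf.stalk t)) ≫ f.fiberι (g₁.base t)).base (e.hom.base w) =
          (pullback.fst f g₁).base (((pullback.snd f g₁).fiberι t).base w) :=
        congr(($hkey).base w)
      have h4 : (FBase.bcπ (f.fiberToSpecResidueField (g₁.base t))
          (IsLocalRing.ResidueField (Y₁.presheaf.stalk t)) ≫ f.fiberι (g₁.base t)).base (e.hom.base w) ∈ C :=
        Set.mem_of_eq_of_mem h3 hzC
      exact h4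
    · rw [← Scheme.Hom.comp_apply, Iso.hom_inv_id_assoc]
  · rintro ⟨s, hs, rfl⟩
    refine ⟨?_, ?_⟩
    · have hs' : (FBase.bcπ _ _ ≫ f.fiberι (g₁.base t)).base s ∈ C := hs
      have h2 : (FBase.bcπ (f.fiberToSpecResidueField (g₁.base t))
          (IsLocalRing.ResidueField (Y₁.presheaf.stalk t)) ≫ f.fiberι (g₁.base t)) =
          e.inv ≫ (pullback.snd f g₁).fiberι t ≫ pullback.fst f g₁ := by
        exact (Iso.eq_inv_comp e).mpr hkey
      have h3 : (FBase.bcπ (f.fiberToSpecResidueField (g₁.base t))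
          (IsLocalRing.ResidueField (Y₁.presheaf.stalk t)) ≫ f.fiberι (g₁.base t)).base s =
          (pullback.fst f g₁).base ((e.inv ≫ (pullback.snd f g₁).fiberι t).base s) :=
        congr(($h2).base s)
      exact Set.mem_of_eq_of_mem h3.symm hs'
    · have : (e.inv ≫ (pullback.snd f g₁).fiberι t).base s ∈
          Set.range ((pullback.snd f g₁).fiberι t).base := ⟨e.inv.base s, rfl⟩
      rw [Scheme.Hom.range_fiberι] at this
      exact this

/-- the section of the base change. -/
noncomputable def sec {Y₁ : Scheme.{u}} (g₁ : Y₁ ⟶ Y) (g : Y ⟶ X) (hg : g ≫ f = 𝟙 Y) :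
    Y₁ ⟶ pullback f g₁ :=
  pullback.lift (g₁ ≫ g) (𝟙 Y₁) (by rw [Category.assoc, hg, Category.comp_id, Category.id_comp])

theorem sec_snd {Y₁ : Scheme.{u}} (g₁ : Y₁ ⟶ Y) (g : Y ⟶ X) (hg : g ≫ f = 𝟙 Y) :
    sec f g₁ g hg ≫ pullback.snd f g₁ = 𝟙 Y₁ := pullback.lift_snd _ _ _

theorem sec_fst {Y₁ : Scheme.{u}} (g₁ : Y₁ ⟶ Y) (g : Y ⟶ X) (hg : g ≫ f = 𝟙 Y) :
    sec f g₁ g hg ≫ pullback.fst f g₁ = g₁ ≫ g := pullback.lift_fst _ _ _

/-- the section component of the base change is the trace of the section component. -/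
theorem component_eq {Y₁ : Scheme.{u}} (g₁ : Y₁ ⟶ Y) (g : Y ⟶ X) (hg : g ≫ f = 𝟙 Y) (t : Y₁)
    (hirr : IsIrreducible ((pullback.fst f g₁).base ⁻¹'
      (connectedComponentIn (f.base ⁻¹' {g₁.base t}) (g.base (g₁.base t))) ∩
        (pullback.snd f g₁).base ⁻¹' {t})) :
    connectedComponentIn ((pullback.snd f g₁).base ⁻¹' {t}) ((sec f g₁ g hg).base t) =
      (pullback.fst f g₁).base ⁻¹'
        (connectedComponentIn (f.base ⁻¹' {g₁.base t}) (g.base (g₁.base t))) ∩
        (pullback.snd f g₁).base ⁻¹' {t} := by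
  have hgy : ∀ t : Y, f.base (g.base t) = t := by
    intro t; rw [← Scheme.Hom.comp_apply, hg]; rfl
  have h1 : (pullback.snd f g₁).base ((sec f g₁ g hg).base t) = t := by
    rw [← Scheme.Hom.comp_apply, sec_snd]; rfl
  have h2 : (pullback.fst f g₁).base ((sec f g₁ g hg).base t) = g.base (g₁.base t) := by
    rw [← Scheme.Hom.comp_apply, sec_fst]; rfl
  have hcomm : ∀ z, f.base ((pullback.fst f g₁).base z) = g₁.base ((pullback.snd f g₁).base z) := by
    intro z
    rw [← Scheme.Hom.comp_apply, ← Scheme.Hom.comp_apply, pullback.condition]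
  apply subset_antisymm
  · intro z hz
    have hzF' : z ∈ (pullback.snd f g₁).base ⁻¹' {t} := connectedComponentIn_subset _ _ hz
    have hzF : (pullback.snd f g₁).base z = t := hzF'
    refine ⟨?_, hzF⟩
    have hpre : _root_.IsPreconnected ((pullback.fst f g₁).base ''
        connectedComponentIn ((pullback.snd f g₁).base ⁻¹' {t}) ((sec f g₁ g hg).base t)) :=
      isPreconnected_connectedComponentIn.image _ (pullback.fst f g₁).continuous.continuousOn
    have hsub : (pullback.fst f g₁).base ''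
        connectedComponentIn ((pullback.snd f g₁).base ⁻¹' {t}) ((sec f g₁ g hg).base t) ⊆
        f.base ⁻¹' {g₁.base t} := by
      rintro _ ⟨w, hw, rfl⟩
      have hwF' : w ∈ (pullback.snd f g₁).base ⁻¹' {t} := connectedComponentIn_subset _ _ hw
      have hwF : (pullback.snd f g₁).base w = t := hwF'
      change f.base _ = _
      rw [hcomm, hwF]
    have hmem : g.base (g₁.base t) ∈ (pullback.fst f g₁).base ''
        connectedComponentIn ((pullback.snd f g₁).base ⁻¹' {t}) ((sec f g₁ g hg).base t) :=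
      ⟨_, mem_connectedComponentIn h1, h2⟩
    exact hpre.subset_connectedComponentIn hmem hsub ⟨z, hz, rfl⟩
  · apply hirr.isConnected.isPreconnected.subset_connectedComponentIn
    · refine ⟨?_, h1⟩
      rw [Set.mem_preimage, h2]
      exact mem_connectedComponentIn (hgy _)
    · exact Set.inter_subset_right

theorem dim_component_eq {Y₁ : Scheme.{u}} (g₁ : Y₁ ⟶ Y) (g : Y ⟶ X) (hg : g ≫ f = 𝟙 Y) (t : Y₁)
    (hirr : IsIrreducible ((pullback.fst f g₁).base ⁻¹'
      (connectedComponentIn (f.base ⁻¹' {g₁.base t}) (g.base (g₁.base t))) ∩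
        (pullback.snd f g₁).base ⁻¹' {t}))
    (ξ : X) (hξC : ξ ∈ connectedComponentIn (f.base ⁻¹' {g₁.base t}) (g.base (g₁.base t)))
    (hgen : ∀ x ∈ connectedComponentIn (f.base ⁻¹' {g₁.base t}) (g.base (g₁.base t)), ξ ⤳ x) :
    topologicalKrullDim ↥(connectedComponentIn ((pullback.snd f g₁).base ⁻¹' {t})
      ((sec f g₁ g hg).base t)) =
    topologicalKrullDim ↥(connectedComponentIn (f.base ⁻¹' {g₁.base t}) (g.base (g₁.base t))) := by
  rw [exists_nat f g hg (g₁.base t) ξ hξC hgen]
  have hce := component_eq f g₁ g hg t hirr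
  have heq₁ := inter_closure_eq ((pullback.snd f g₁).base ⁻¹' {t}) ((sec f g₁ g hg).base t)
  have hC1irr : IsIrreducible (connectedComponentIn ((pullback.snd f g₁).base ⁻¹' {t})
      ((sec f g₁ g hg).base t)) := by rw [hce]; exact hirr
  obtain ⟨ζ, hζC, hζgen⟩ := exists_generic_of_irreducible (pullback.snd f g₁) t _
    (connectedComponentIn_subset _ _) hC1irr heq₁
  rw [dim_eq_tdR (pullback.snd f g₁) t _ heq₁ ζ hζC hζgen]
  have hξF' : ξ ∈ f.base ⁻¹' {g₁.base t} := connectedComponentIn_subset _ _ hξC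
  have hξF : f.base ξ = g₁.base t := hξF'
  have hζD := hζC
  rw [hce] at hζD
  have hcomm : ∀ z, f.base ((pullback.fst f g₁).base z) = g₁.base ((pullback.snd f g₁).base z) := by
    intro z
    rw [← Scheme.Hom.comp_apply, ← Scheme.Hom.comp_apply, pullback.condition]
  have hle : tdR (pullback.snd f g₁) ζ ≤ tdR f ξ := by
    refine (tdR_snd_le f g₁ ζ).trans ?_
    refine tdR_le_of_specializes f (hgen _ hζD.1) ?_
    rw [hξF]
    have h5 : (pullback.snd f g₁).base ζ = t := hζD.2
    exact ((hcomm ζ).trans (by rw [h5])).symm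
  have hge : tdR f ξ ≤ tdR (pullback.snd f g₁) ζ := by
    obtain ⟨z, hz1, hz2, hz3⟩ := exists_tdR_snd_eq f g₁ ξ t hξF
    rw [← hz3]
    have hzC : z ∈ connectedComponentIn ((pullback.snd f g₁).base ⁻¹' {t})
        ((sec f g₁ g hg).base t) := by
      rw [hce]
      refine ⟨?_, hz2⟩
      rw [Set.mem_preimage]
      exact Set.mem_of_eq_of_mem hz1 hξC
    refine tdR_le_of_specializes (pullback.snd f g₁) (hζgen z hzC) ?_
    have h5 : (pullback.snd f g₁).base ζ = t := hζD.2
    exact h5.trans hz2.symm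
  have : tdR (pullback.snd f g₁) ζ = tdR f ξ := le_antisymm hle hge
  rw [this]

end Helpers

/-- Let Y be locally Noetherian, f : X ⟶ Y locally of finite type, g a section of f, and X⁰_y the
connected component of f⁻¹(y) containing g(y). Suppose that every X⁰_y is geometrically irreducible:
for every field extension K of κ(y), the preimage of X⁰_y in the base change of the fibre X_y to K
is irreducible. Then for every point y such that z ↦ dim X⁰_z is constant on a neighbourhood of y, f
is universally open at every point of X⁰_y. -/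
theorem result {X Y : Scheme.{u}} [IsLocallyNoetherian Y]
    (f : X ⟶ Y) [LocallyOfFiniteType f] (g : Y ⟶ X) (hg : g ≫ f = 𝟙 Y)
    (hgi : ∀ (y : Y) (K : Type u) [Field K] [Algebra (IsLocalRing.ResidueField (Y.presheaf.stalk y)) K],
      IsIrreducible ((FBase.bcπ (f.fiberToSpecResidueField y) K ≫ f.fiberι y).base ⁻¹' (connectedComponentIn (f.base ⁻¹' {y}) (g.base y))))
    (y : Y)
    (hc : ∃ V ∈ nhds y, ∀ z ∈ V, topologicalKrullDim ↥(connectedComponentIn (f.base ⁻¹' {z}) (g.base z)) = topologicalKrullDim ↥(connectedComponentIn (f.base ⁻¹' {y}) (g.base y))) :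
    ∀ x ∈ connectedComponentIn (f.base ⁻¹' {y}) (g.base y), EGA43.IsUnivOpenAt f x := by
  intro x hxC
  obtain ⟨V, hV, hconst⟩ := hc
  have hxF' : x ∈ f.base ⁻¹' {y} := connectedComponentIn_subset _ _ hxC
  have hxF : f.base x = y := hxF'
  apply Groth.Agent.Lib.Helper25.UnivOpenAt.isUnivOpenAt_of_noetherian
  intro Y₁ _ g₁ x₁ hx₁
  haveI : LocallyOfFinitePresentation (pullback.snd f g₁) := inferInstance
  -- data of the base change
  have hirrD : ∀ t : Y₁, IsIrreducible ((pullback.fst f g₁).base ⁻¹'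
      (connectedComponentIn (f.base ⁻¹' {g₁.base t}) (g.base (g₁.base t))) ∩
        (pullback.snd f g₁).base ⁻¹' {t}) := fun t =>
    irreducible_trace f g₁ _ t (fun K _ _ => hgi (g₁.base t) K)
  have hgenY : ∀ t : Y, ∃ ξ ∈ connectedComponentIn (f.base ⁻¹' {t}) (g.base t),
      ∀ x ∈ connectedComponentIn (f.base ⁻¹' {t}) (g.base t), ξ ⤳ x := fun t =>
    Groth.Agent.S4954.exists_generic f g hg t (hgi t _)
  have hdim : ∀ t : Y₁, topologicalKrullDim ↥(connectedComponentIn ((pullback.snd f g₁).base ⁻¹' {t})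
      ((sec f g₁ g hg).base t)) =
      topologicalKrullDim ↥(connectedComponentIn (f.base ⁻¹' {g₁.base t}) (g.base (g₁.base t))) := by
    intro t
    obtain ⟨ξ, hξC, hgen⟩ := hgenY (g₁.base t)
    exact dim_component_eq f g₁ g hg t (hirrD t) ξ hξC hgen
  have hirr1 : ∀ t : Y₁, IsIrreducible (connectedComponentIn ((pullback.snd f g₁).base ⁻¹' {t})
      ((sec f g₁ g hg).base t)) := by
    intro t
    rw [component_eq f g₁ g hg t (hirrD t)]; exact hirrD t
  have hcomm : ∀ z, f.base ((pullback.fst f g₁).base z) = g₁.base ((pullback.snd f g₁).base z) := by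
    intro z
    rw [← Scheme.Hom.comp_apply, ← Scheme.Hom.comp_apply, pullback.condition]
  set y₁ := (pullback.snd f g₁).base x₁ with hy₁
  have hg₁y₁ : g₁.base y₁ = y := by rw [hy₁, ← hcomm, hx₁, hxF]
  have hS := (Groth.Agent.S3419.result (pullback.snd f g₁) (sec f g₁ g hg) (sec_snd f g₁ g hg) hirr1).2
    y₁ ⟨g₁.base ⁻¹' V, ?_, ?_⟩
  · apply Groth.Agent.Lib.Helper25.UnivOpenAt.isOpenAt_of_generizations_lift
    intro y₂ hy₂
    have hsub := hS y₂ hy₂
    have hx₁mem : x₁ ∈ connectedComponentIn ((pullback.snd f g₁).base ⁻¹' {y₁})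
        ((sec f g₁ g hg).base y₁) := by
      rw [component_eq f g₁ g hg y₁ (hirrD y₁)]
      refine ⟨?_, rfl⟩
      rw [Set.mem_preimage, hx₁, hg₁y₁]
      exact hxC
    have hcl := hsub hx₁mem
    obtain ⟨ζ, hζC, hζgen⟩ := exists_generic_of_irreducible (pullback.snd f g₁) y₂ _
      (connectedComponentIn_subset _ _) (hirr1 y₂)
      (inter_closure_eq ((pullback.snd f g₁).base ⁻¹' {y₂}) ((sec f g₁ g hg).base y₂))
    refine ⟨ζ, ?_, ?_⟩
    · rw [specializes_iff_mem_closure]
      refine closure_minimal ?_ isClosed_closure hcl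
      intro w hw
      exact specializes_iff_mem_closure.mp (hζgen w hw)
    · have h6 : ζ ∈ (pullback.snd f g₁).base ⁻¹' {y₂} := connectedComponentIn_subset _ _ hζC
      exact h6
  · have : V ∈ nhds (g₁.base y₁) := by rw [hg₁y₁]; exact hV
    exact g₁.continuous.continuousAt this
  · intro z hz
    rw [hdim z, hdim y₁, hg₁y₁]
    exact hconst _ hz

end Groth.Agent.S3458
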