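import Groth.Statements.S3460
-- import your own Groth.Agent.* helpers here

set_option autoImplicit false
open CategoryTheory AlgebraicGeometry
universe u
open EGA43

namespace Groth.Agent.S3460

section Helpers

set_option linter.style.haveILetI false

set_option backward.defeqAttrib.useBackward true in
theorem isProper_lift_iSup {X Y : Scheme.{u}} (f : X ⟶ Y) {ι : Type*} (U : ι → Y.Opens)
    (H : Set.range f ⊆ (⨆ i, U i : Y.Opens)) (hf : ∀ i, IsProper (f ∣_ U i)) :
    IsProper (IsOpenImmersion.lift (Scheme.Opens.ι (⨆ i, U i)) f (by simpa using H)) := by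
  let g : X ⟶ (⨆ i, U i : Y.Opens) := IsOpenImmersion.lift (Scheme.Opens.ι _) f (by simpa using H)
  show IsProper g
  rw [IsZariskiLocalAtTarget.iff_of_iSup_eq_top (P := @IsProper)
    (U := fun i : ι ↦ (⨆ i, U i).ι ⁻¹ᵁ U i)]
  · intro i
    have heq : g ⁻¹ᵁ (⨆ i, U i).ι ⁻¹ᵁ U i = f ⁻¹ᵁ U i := by
      change (g ≫ (⨆ i, U i).ι) ⁻¹ᵁ U i = _
      simp [g]
    let e : Arrow.mk (g ∣_ (⨆ i, U i).ι ⁻¹ᵁ U i) ≅ Arrow.mk (f ∣_ U i) :=
        Arrow.isoMk (X.isoOfEq heq) (Scheme.Opens.isoOfLE (le_iSup U i)) <| by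
      simp [← CategoryTheory.cancel_mono (U i).ι, g]
    rw [MorphismProperty.arrow_mk_iso_iff @IsProper e]
    exact hf i
  apply (⨆ i, U i).ι.image_injective
  dsimp
  rw [Scheme.Hom.image_iSup, Scheme.Hom.image_top_eq_opensRange, Scheme.Opens.opensRange_ι]
  simp [Scheme.Hom.image_preimage_eq_opensRange_inf, le_iSup U]

theorem isProper_morphismRestrict_of_factor {X Y : Scheme.{u}} (f : X ⟶ Y) (V : Y.Opens)
    (f' : X ⟶ V) [IsProper f'] (hf : f' ≫ V.ι = f) : IsProper (f ∣_ V) := by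
  have h1 : f ∣_ V = (f ⁻¹ᵁ V).ι ≫ f' := by
    rw [← cancel_mono V.ι, morphismRestrict_ι, Category.assoc, hf]
  have htop : f ⁻¹ᵁ V = ⊤ := by
    rw [← hf]
    ext x
    simp
  have hiso : IsIso (f ⁻¹ᵁ V).ι := by
    rw [htop]
    exact (inferInstance : IsIso X.topIso.hom)
  rw [h1]
  infer_instance

end Helpers

/-- Let Y be locally Noetherian and f : X ⟶ Y of finite type. Then there exist a scheme Z, a proper
morphism g : X ⟶ Z and an immersion h : Z ⟶ Y with f = g ≫ h if and only if f is proper at every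
point of f(X), i.e. every point of f(X) has an open neighbourhood U in Y over which the restriction
of f is proper. -/
theorem result {X Y : Scheme.{u}} [IsLocallyNoetherian Y]
    (f : X ⟶ Y) [LocallyOfFiniteType f] [QuasiCompact f] :
    (∃ (Z : Scheme.{u}) (g : X ⟶ Z) (h : Z ⟶ Y), IsProper g ∧ IsImmersion h ∧ g ≫ h = f) ↔
      ∀ x : X, ∃ U : Y.Opens, f.base x ∈ U ∧ IsProper (f ∣_ U) := by
  constructor
  · rintro ⟨Z, g, h, hg, hh, rfl⟩ x
    refine ⟨h.coborderRange, ?_, ?_⟩
    · exact subset_coborder (s := Set.range h) ⟨g x, rfl⟩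
    · have : IsProper (g ≫ h.liftCoborder) := inferInstance
      exact isProper_morphismRestrict_of_factor (g ≫ h) h.coborderRange (g ≫ h.liftCoborder)
        (by rw [Category.assoc, Scheme.Hom.liftCoborder_ι])
  · intro H
    choose U hxU hU using H
    have hr : Set.range f ⊆ (⨆ i, U i : Y.Opens) := by
      rintro _ ⟨x, rfl⟩
      exact TopologicalSpace.Opens.mem_iSup.mpr ⟨x, hxU x⟩
    exact ⟨(⨆ i, U i : Y.Opens), IsOpenImmersion.lift (Scheme.Opens.ι (⨆ i, U i)) f (by simpa using hr),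
      (⨆ i, U i : Y.Opens).ι, isProper_lift_iSup f U hr hU, inferInstance,
      IsOpenImmersion.lift_fac _ _ _⟩

end Groth.Agent.S3460
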