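import Groth.Statements.S3473
import Groth.Agent.Lib.Helper70.QcImage
import Groth.Agent.Lib.Helper70.PtFunSheaf
import Groth.Agent.Lib.Helper43.UnitMonoSet
import Groth.Agent.Lib.Helper43.SecPull

set_option autoImplicit false
universe u
open CategoryTheory CategoryTheory.Limits AlgebraicGeometry Opposite
open EtAcyc

namespace Groth.Agent.S3473


open Groth.Agent.Lib.Helper70.ClosedImmStalk2 Groth.Agent.Lib.Helper70.StalkPull
  Groth.Agent.Lib.Helper70.StalkPullGerm Groth.Agent.Lib.Helper70.StalkCons
  Groth.Agent.Lib.Helper70.PtFunSheaf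

set_option backward.isDefEq.respectTransparency.types false in
/-- if no point of `T` maps into the closed set `Z`, the two constant sections of the sheaf of
Boolean functions on points over `Z` become equal after pullback. -/
theorem unit_const_eq {S T : Scheme.{u}} (f : T ⟶ S) (Z : Set S) (hZ : IsClosed Z)
    (hf : ∀ t : T, f.base t ∉ Z)
    (a b : EtDesc.sect (sheaf Z) (EtCoh.top S)) :
    ((EtDesc.adjSh f).unit.app (sheaf Z)).hom.app (op (EtCoh.top S)) a =
      ((EtDesc.adjSh f).unit.app (sheaf Z)).hom.app (op (EtCoh.top S)) b := by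
  have hmain : ∀ (Ω : Type u) [Field Ω] [IsSepClosed Ω] (ξ : Spec (CommRingCat.of Ω) ⟶ T)
      (v : (Scheme.pointSmallEtale (ξ ≫ f)).fiber.obj (EtCoh.top S)),
      ∃ (Y : S.Etale) (g : Y ⟶ EtCoh.top S) (y : (Scheme.pointSmallEtale (ξ ≫ f)).fiber.obj Y),
        (Scheme.pointSmallEtale (ξ ≫ f)).fiber.map g y = v ∧
          (sheaf Z).obj.map g.op a = (sheaf Z).obj.map g.op b := by
    intro Ω _ _ ξ v
    let O : S.Opens := ⟨Zᶜ, hZ.isOpen_compl⟩
    let W₀ : S.Etale := Scheme.Etale.mk O.ι
    let k : W₀ ⟶ EtCoh.top S := MorphismProperty.Over.homMk O.ι (Category.comp_id _) trivial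
    let vl : Spec (CommRingCat.of Ω) ⟶ S := v.left
    have hvl : vl ≫ 𝟙 S = ξ ≫ f := CategoryTheory.Over.w v
    have h3 : vl = ξ ≫ f := (Category.comp_id _).symm.trans hvl
    have hv : Set.range vl.base ⊆ Set.range O.ι.base := by
      rintro _ ⟨pt, rfl⟩
      rw [Scheme.Opens.range_ι]
      show _ ∈ Zᶜ
      rw [h3]
      exact hf (ξ.base pt)
    let lft : Spec (CommRingCat.of Ω) ⟶ O.toScheme := IsOpenImmersion.lift O.ι vl hv
    have hl : lft ≫ O.ι = vl := IsOpenImmersion.lift_fac O.ι vl hv
    let y' : (Scheme.pointSmallEtale (ξ ≫ f)).fiber.obj W₀ :=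
      Over.homMk lft (by
        show lft ≫ O.ι = ξ ≫ f
        rw [hl, h3])
    refine ⟨W₀, k, y', ?_, ?_⟩
    · apply Over.OverMorphism.ext
      show lft ≫ O.ι = vl
      exact hl
    · funext w
      exfalso
      have hw : W₀.hom.base w.1 ∈ Z := w.2
      have hw' : W₀.hom.base w.1 ∈ Zᶜ := (w.1 : O).2
      exact hw' hw
  apply Groth.Agent.Lib.Helper70.StalkConsSet.eq_of_germs ((EtDesc.pullSh f).obj (sheaf Z))
    ((EtCoh.bc f).obj (EtCoh.top S))
  intro Ω _ _ ξ x
  let v := (tilde f ξ (EtCoh.top S)).symm x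
  have hx : x = tilde f ξ (EtCoh.top S) v := (Equiv.apply_symm_apply _ _).symm
  rw [hx]
  have h1 := Groth.Agent.Lib.Helper43.UnitMonoSet.germ_pull (sheaf Z) f ξ (EtCoh.top S) v a
  have h2 := Groth.Agent.Lib.Helper43.UnitMonoSet.germ_pull (sheaf Z) f ξ (EtCoh.top S) v b
  have hkey : (Scheme.pointSmallEtale (ξ ≫ f)).toPresheafFiber (EtCoh.top S) v (sheaf Z).obj a =
      (Scheme.pointSmallEtale (ξ ≫ f)).toPresheafFiber (EtCoh.top S) v (sheaf Z).obj b := by
    rw [GrothendieckTopology.Point.toPresheafFiber_eq_iff']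
    exact hmain Ω ξ v
  exact h1.symm.trans ((congrArg
    ((stalkPullIso f ξ (Type (u + 1))).inv.app (sheaf Z)) hkey).trans h2)

set_option backward.isDefEq.respectTransparency.types false in

/-- Let g : X → Y be a morphism of schemes. If g is surjective then g is (-1)-acyclic (for every etale V
→ Y and every sheaf of sets F on V, F → g'_* g'^* F is a monomorphism, g' the projection X ×_Y V →
V); conversely, if g is quasi-compact, quasi-separated and (-1)-acyclic then g is surjective. -/
theorem result {X Y : Scheme.{u}} (g : X ⟶ Y) :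
    (Function.Surjective g.base → EtAcyc.IsMinusOneAcyclic g) ∧
      (∀ [QuasiCompact g] [QuasiSeparated g], EtAcyc.IsMinusOneAcyclic g → Function.Surjective g.base) := by
  constructor
  · intro hg V F
    haveI : Surjective g := ⟨hg⟩
    haveI : Surjective (EtAcyc.prj g V) := by
      dsimp only [EtAcyc.prj]
      infer_instance
    exact Groth.Agent.Lib.Helper43.UnitMonoSet.mono_unit_of_surjective F (EtAcyc.prj g V)
  · intro _ _ hacyc
    by_contra hns
    have hex : ∃ y : Y, y ∉ Set.range g.base := by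
      by_contra hcon
      push Not at hcon
      exact hns hcon
    obtain ⟨y, hy⟩ := hex
    obtain ⟨U, hyU, hU⟩ := Groth.Agent.Lib.Helper70.QcImage.exists_open_no_specialization g y hy
    let V : Y.Etale := Scheme.Etale.mk U.ι
    let Z : Set V.left := U.ι.base ⁻¹' (closure {y})
    have hZ : IsClosed Z := isClosed_closure.preimage U.ι.base.hom.continuous
    have hg' : ∀ t : ↥(pullback V.hom g), (EtAcyc.prj g V).base t ∉ Z := by
      intro t ht
      have h1 : (pullback.fst V.hom g ≫ V.hom).base t = (pullback.snd V.hom g ≫ g).base t := by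
        rw [pullback.condition]
      have h2 : U.ι.base ((pullback.fst V.hom g).base t) = g.base ((pullback.snd V.hom g).base t) := h1
      have h3 : g.base ((pullback.snd V.hom g).base t) ∈ U := by
        rw [← h2]
        exact ((pullback.fst V.hom g).base t).2
      apply hU _ h3
      rw [specializes_iff_mem_closure, ← h2]
      exact ht
    haveI := hacyc V (sheaf Z)
    have hinj := Groth.Agent.Lib.Helper43.SecPull.injective_of_mono
      ((EtDesc.adjSh (EtAcyc.prj g V)).unit.app (sheaf Z)) (op (EtCoh.top V.left))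
    let a : EtDesc.sect (sheaf Z) (EtCoh.top V.left) := fun _ => ⟨true⟩
    let b : EtDesc.sect (sheaf Z) (EtCoh.top V.left) := fun _ => ⟨false⟩
    have hab : a = b := hinj (unit_const_eq (EtAcyc.prj g V) Z hZ hg' a b)
    have hyZ : (EtCoh.top V.left).hom.base (⟨y, hyU⟩ : U) ∈ Z := by
      show U.ι.base ((EtCoh.top V.left).hom.base (⟨y, hyU⟩ : U)) ∈ closure {y}
      exact subset_closure rfl
    have h4 := congrFun hab (⟨(⟨y, hyU⟩ : U), hyZ⟩ : Pts Z (EtCoh.top V.left))
    exact absurd (congrArg ULift.down h4) (by decide)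

end Groth.Agent.S3473
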