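import Groth.Statements.S3525
import Groth.Agent.Lib.Helper46.TorFiltered

set_option backward.isDefEq.respectTransparency false
set_option backward.defeqAttrib.useBackward true

set_option autoImplicit false
universe u
open HTor

namespace Groth.Agent.S3525

open CategoryTheory CategoryTheory.Limits in
/-- For a commutative ring A, an A-module N and p ≥ 0, the functor M ↦ Tor_p^A(M, N) preserves filtered
colimits. (Tor is Mathlib's, left derived in the second variable; this is the case of single modules
rather than complexes.) -/
theorem result (A : Type u) [CommRing A] (p : ℕ) (N : ModuleCat.{u} A)
    (J : Type u) [SmallCategory J] [IsFiltered J] :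
    PreservesColimitsOfShape J ((CategoryTheory.Tor (ModuleCat.{u} A) p).flip.obj N) := by
  haveI := Groth.Agent.Lib.Helper46.TorFiltered.tor_obj_preservesColimitsOfShape J p N
  exact CategoryTheory.Limits.preservesColimitsOfShape_of_natIso
    (Groth.Agent.Lib.Helper46.TorPrime.torFlipIso N p).symm

end Groth.Agent.S3525
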