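import Groth.Statements.S3527
import Groth.Agent.Lib.Helper65.FlatKer
import Mathlib.RingTheory.Flat.CategoryTheory
import Mathlib.Algebra.Category.ModuleCat.Projective
import Mathlib.CategoryTheory.Abelian.LeftDerived

set_option autoImplicit false
universe u
open HTor

namespace Groth.Agent.S3527

open CategoryTheory CategoryTheory.Limits Groth.Agent.Lib.Helper65

section aux

variable {A : Type u} [CommRing A]

/-- first half: flat in the first variable. -/
theorem tor_first (M : Type u) [AddCommGroup M] [Module A M] [Module.Flat A M]
    (N : ModuleCat.{u} A) (n : ℕ) :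
    IsZero (((CategoryTheory.Tor (ModuleCat.{u} A) (n + 1)).obj (ModuleCat.of A M)).obj N) := by
  let P : ProjectiveResolution N := projectiveResolution N
  have e := (P.isoLeftDerivedObj
    ((MonoidalCategory.tensoringLeft (ModuleCat.{u} A)).obj (ModuleCat.of A M)) (n + 1))
  refine IsZero.of_iso ?_ e
  change IsZero (HomologicalComplex.homology _ (n+1))
  rw [← HomologicalComplex.exactAt_iff_isZero_homology]
  have h := P.complex_exactAt_succ n
  have h2 := Module.Flat.lTensor_shortComplex_exact (ModuleCat.of A M) _ h
  exact h2

/-- cokernels of the differentials of a projective resolution of a flat module are flat. -/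
theorem flat_coker (M : ModuleCat.{u} A) [Module.Flat A M] (P : ProjectiveResolution M) (n : ℕ) :
    Module.Flat A (P.complex.X n ⧸ LinearMap.range (P.complex.d (n+1) n).hom) := by
  have hproj : ∀ k, Module.Flat A (P.complex.X k) := by
    intro k
    have : Module.Projective A (P.complex.X k) := by
      have h := P.projective k
      exact (IsProjective.iff_projective (R := A) (P := P.complex.X k)).mpr h
    infer_instance
  induction n with
  | zero =>
    have hex := P.exact₀
    rw [ShortComplex.moduleCat_exact_iff_range_eq_ker] at hex
    have hsurj : Function.Surjective (P.π.f 0).hom := by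
      have : Epi (P.π.f 0) := inferInstance
      exact (ModuleCat.epi_iff_surjective _).mp this
    let e : (P.complex.X 0 ⧸ LinearMap.range (P.complex.d 1 0).hom) ≃ₗ[A] M :=
      (Submodule.quotEquivOfEq _ _ hex).trans ((P.π.f 0).hom.quotKerEquivOfSurjective hsurj)
    exact Module.Flat.of_linearEquiv e
  | succ n ih =>
    have hex := P.exact_succ n
    rw [ShortComplex.moduleCat_exact_iff_range_eq_ker] at hex
    let e : (P.complex.X (n+1) ⧸ LinearMap.range (P.complex.d (n+2) (n+1)).hom) ≃ₗ[A]
        LinearMap.range (P.complex.d (n+1) n).hom :=
      (Submodule.quotEquivOfEq _ _ hex).trans (P.complex.d (n+1) n).hom.quotKerEquivRange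
    have hflat : Module.Flat A (LinearMap.range (P.complex.d (n+1) n).hom) := by
      have := hproj n
      exact flat_of_exact_of_flat (LinearMap.range (P.complex.d (n+1) n).hom).subtype
        (LinearMap.range (P.complex.d (n+1) n).hom).mkQ (Submodule.subtype_injective _)
        (Submodule.mkQ_surjective _) (LinearMap.exact_subtype_mkQ _)
    exact Module.Flat.of_linearEquiv e

/-- second half: flat in the second variable. -/
theorem tor_second (N : ModuleCat.{u} A) (M : ModuleCat.{u} A) [Module.Flat A M] (n : ℕ) :
    IsZero (((CategoryTheory.Tor (ModuleCat.{u} A) (n + 1)).obj N).obj M) := by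
  let P : ProjectiveResolution M := projectiveResolution M
  have e := (P.isoLeftDerivedObj
    ((MonoidalCategory.tensoringLeft (ModuleCat.{u} A)).obj N) (n + 1))
  refine IsZero.of_iso ?_ e
  change IsZero (HomologicalComplex.homology _ (n+1))
  rw [← HomologicalComplex.exactAt_iff_isZero_homology]
  rw [HomologicalComplex.exactAt_iff' _ (n + 2) (n + 1) n (by simp only [ChainComplex.prev]; rfl)
    (by simp)]
  have hex := P.exact_succ n
  rw [ShortComplex.moduleCat_exact_iff_range_eq_ker] at hex
  have hex' : Function.Exact (P.complex.d (n+2) (n+1)).hom (P.complex.d (n+1) n).hom :=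
    LinearMap.exact_iff.mpr hex.symm
  have := flat_coker M P n
  have key := lTensor_exact_of_flat_coker _ _ hex' N
  rw [ShortComplex.moduleCat_exact_iff_range_eq_ker]
  exact (LinearMap.exact_iff.mp key).symm

end aux

/-- If A is a commutative ring and M is a flat A-module, then Tor_p^A(M, N) = 0 and Tor_p^A(N, M) = 0
for every A-module N and every p ≥ 1. (The published statement is about local hypertor sheaves over
general S, X, Y; in the affine case these are the sheaves attached to Tor_n^A, and only the
resulting statement about A-modules is given here. Tor is Mathlib's, left derived in the second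
variable; vanishing is stated as Subsingleton, and both orders are stated.) -/
theorem result (A : Type u) [CommRing A] (M N : Type u) [AddCommGroup M] [Module A M]
    [AddCommGroup N] [Module A N] [Module.Flat A M] (p : ℕ) (hp : 0 < p) :
    Subsingleton (DRing.Tor A p M N) ∧ Subsingleton (DRing.Tor A p N M) := by
  obtain ⟨n, rfl⟩ := Nat.exists_eq_succ_of_ne_zero (by omega : p ≠ 0)
  constructor
  · exact ModuleCat.subsingleton_of_isZero (tor_first M (ModuleCat.of A N) n)
  · exact ModuleCat.subsingleton_of_isZero (tor_second (ModuleCat.of A N) (ModuleCat.of A M) n)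

end Groth.Agent.S3527
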