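import Groth.Statements.S3534
import Groth.Agent.Lib.Helper46.TorBaseChange
import Groth.Agent.Lib.Helper46.TorShift
import Mathlib.RingTheory.Flat.Localization
import Mathlib.RingTheory.Localization.BaseChange

set_option backward.isDefEq.respectTransparency false
set_option backward.defeqAttrib.useBackward true

set_option autoImplicit false
universe u
open HTor

namespace Groth.Agent.S3534

/-- Let S be a multiplicative subset of a commutative ring A, A' = S⁻¹A, and P, Q two A'-modules, viewed
as A-modules by restriction of scalars. Then for every n there is a bijective map Tor_n^A(P, Q) →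
Tor_n^{A'}(P, Q) which is semilinear over A → A' (so that, in particular, every s ∈ S acts
bijectively on Tor_n^A(P, Q)). (Tor is taken as the left derived functor of the tensor product in
the second variable. The published statement gives a canonical isomorphism, for hyper-Tor of
complexes; this is the case of single modules.) -/
theorem result (A A' : Type u) [CommRing A] [CommRing A'] [Algebra A A']
    (S : Submonoid A) [IsLocalization S A'] (P Q : Type u) [AddCommGroup P] [Module A' P] [Module A P]
    [IsScalarTower A A' P] [AddCommGroup Q] [Module A' Q] [Module A Q] [IsScalarTower A A' Q] (n : ℕ) :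
    ∃ φ : DRing.Tor A n P Q →ₛₗ[algebraMap A A'] DRing.Tor A' n P Q, Function.Bijective φ := by
  haveI : Module.Flat A A' := IsLocalization.flat A' S
  have hM : ∀ q : ℕ, CategoryTheory.Limits.IsZero
      (((CategoryTheory.Tor (ModuleCat.{u} A) (q + 1)).obj (ModuleCat.of A P)).obj
        (ModuleCat.of A A')) := fun q =>
    Groth.Agent.Lib.Helper46.TorShift.isZero_of_flat_right P A' q
  haveI : IsLocalizedModule S (LinearMap.id : P →ₗ[A] P) := isLocalizedModule_id S P A'
  let e : TensorProduct A A' P ≃ₗ[A'] P :=
    (IsLocalizedModule.isBaseChange S A' (LinearMap.id : P →ₗ[A] P)).equiv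
  exact Groth.Agent.Lib.Helper46.TorBaseChange.exists_semilinear_bijective
    (Groth.Agent.Lib.Helper46.TorBaseChange.torBaseChangeIso A A' Q (ModuleCat.of A P) hM n ≪≫
      (Groth.Agent.Lib.Helper46.TorBaseChange.rs A A').mapIso
        (((CategoryTheory.Tor (ModuleCat.{u} A') n).mapIso e.toModuleIso).app (ModuleCat.of A' Q)))

end Groth.Agent.S3534
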