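import Groth.Statements.S3544
import Mathlib

set_option autoImplicit false
universe u
open HomAlg3

namespace Groth.Agent.S3544

open CategoryTheory CategoryTheory.Limits

section lin

variable {A : Type u} [Ring A]

/-- rank-nullity for length -/
theorem length_ker_add_range {M N : Type*} [AddCommGroup M] [Module A M] [AddCommGroup N]
    [Module A N] (f : M →ₗ[A] N) :
    Module.length A M = Module.length A (LinearMap.ker f) + Module.length A (LinearMap.range f) :=
  Module.length_eq_add_of_exact (LinearMap.ker f).subtype f.rangeRestrict
    (Submodule.subtype_injective _) f.surjective_rangeRestrict (by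
      intro y
      constructor
      · intro hy
        have hy' : f y = 0 := congrArg Subtype.val hy
        exact ⟨⟨y, hy'⟩, rfl⟩
      · rintro ⟨x, rfl⟩
        exact Subtype.ext x.2)

/-- homology length for a short complex of modules -/
theorem length_sc (S : ShortComplex (ModuleCat.{u} A)) :
    Module.length A (LinearMap.ker S.g.hom) =
      Module.length A (LinearMap.range S.f.hom) + Module.length A S.homology := by
  have e1 : Module.length A S.homology =
      Module.length A (LinearMap.ker S.g.hom ⧸ LinearMap.range S.moduleCatToCycles) :=
    (S.moduleCatHomologyIso.toLinearEquiv).length_eq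
  have e2 : Module.length A (LinearMap.range S.f.hom) =
      Module.length A (LinearMap.range S.moduleCatToCycles) := by
    -- both are images of X₁; use the equivalence induced by the inclusion of the kernel
    let ι := (LinearMap.ker S.g.hom).subtype
    have hmap : (LinearMap.range S.moduleCatToCycles).map ι = LinearMap.range S.f.hom := by
      ext y
      constructor
      · rintro ⟨_, ⟨x, rfl⟩, rfl⟩
        exact ⟨x, rfl⟩
      · rintro ⟨x, rfl⟩
        exact ⟨S.moduleCatToCycles x, ⟨x, rfl⟩, rfl⟩
    rw [← hmap]
    exact ((LinearMap.range S.moduleCatToCycles).equivMapOfInjective ι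
      (Submodule.subtype_injective _)).length_eq.symm
  rw [e1, e2]
  exact Module.length_eq_add_of_exact (LinearMap.range S.moduleCatToCycles).subtype
    (LinearMap.range S.moduleCatToCycles).mkQ (Submodule.subtype_injective _)
    (Submodule.mkQ_surjective _) (LinearMap.exact_subtype_mkQ _)

end lin

section cplx

variable {A : Type u} [Ring A] (a : ℤ × ℤ)
  (K : HomologicalComplex (ModuleCat.{u} A) (ComplexShape.up' a))

theorem len_X (j k : ℤ × ℤ) : Module.length A (K.X j) =
    Module.length A (LinearMap.ker (K.d j k).hom) +
      Module.length A (LinearMap.range (K.d j k).hom) :=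
  length_ker_add_range _

theorem len_Z (j : ℤ × ℤ) : Module.length A (LinearMap.ker (K.d j (j + a)).hom) =
    Module.length A (LinearMap.range (K.d (j - a) j).hom) + Module.length A (K.homology j) := by
  have hp : (ComplexShape.up' a).prev j = j - a :=
    (ComplexShape.up' a).prev_eq' (sub_add_cancel j a)
  have hn : (ComplexShape.up' a).next j = j + a := (ComplexShape.up' a).next_eq' rfl
  have e : Module.length A (K.homology j) =
      Module.length A (K.sc' (j - a) j (j + a)).homology :=
    ((K.homologyIsoSc' (j - a) j (j + a) hp hn).toLinearEquiv).length_eq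
  rw [e]
  exact length_sc (K.sc' (j - a) j (j + a))

/-- the sign `(-1)^(p+q)` -/
def eps (pq : ℤ × ℤ) : ℤ := (((pq.1 + pq.2).negOnePow : ℤˣ) : ℤ)

theorem eps_add (ha : a.1 + a.2 = 1) (j : ℤ × ℤ) : eps (j + a) = - eps j := by
  unfold eps
  have : (j + a).1 + (j + a).2 = (j.1 + j.2) + 1 := by
    rw [Prod.fst_add, Prod.snd_add]; omega
  rw [this, Int.negOnePow_succ]
  simp

theorem length_zero_of_isZero {X : ModuleCat.{u} A} (h : IsZero X) : Module.length A X = 0 := by
  have := ModuleCat.subsingleton_of_isZero h
  exact Module.length_eq_zero

theorem euler (ha : a.1 + a.2 = 1) (s : Finset (ℤ × ℤ)) (hs : ∀ pq ∉ s, IsZero (K.X pq))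
    (hfl : ∀ pq, IsFiniteLength A (K.X pq)) :
    (∀ pq ∉ s, IsZero (K.homology pq)) ∧ (∀ pq, IsFiniteLength A (K.homology pq)) ∧
    (s.sum fun pq => eps pq * ((Module.length A (K.homology pq)).toNat : ℤ)) =
      s.sum fun pq => eps pq * ((Module.length A (K.X pq)).toNat : ℤ) := by
  classical
  have key : ∀ x y : ℕ∞, x + y < ⊤ ↔ x < ⊤ ∧ y < ⊤ := fun x y => WithTop.add_lt_top
  have hX : ∀ j, Module.length A (K.X j) < ⊤ := fun j =>
    lt_top_iff_ne_top.mpr (Module.length_ne_top_iff.mpr (hfl j))
  have hZ : ∀ j k, Module.length A (LinearMap.ker (K.d j k).hom) < ⊤ := fun j k => by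
    have := hX j
    rw [len_X a K j k, key] at this
    exact this.1
  have hB : ∀ j k, Module.length A (LinearMap.range (K.d j k).hom) < ⊤ := fun j k => by
    have := hX j
    rw [len_X a K j k, key] at this
    exact this.2
  have hH : ∀ j, Module.length A (K.homology j) < ⊤ := fun j => by
    have := hZ j (j + a)
    rw [len_Z a K j, key] at this
    exact this.2
  have hHle : ∀ j, Module.length A (K.homology j) ≤ Module.length A (K.X j) := fun j => by
    calc Module.length A (K.homology j)
        ≤ Module.length A (LinearMap.range (K.d (j - a) j).hom) +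
          Module.length A (K.homology j) := le_add_self
      _ = Module.length A (LinearMap.ker (K.d j (j + a)).hom) := (len_Z a K j).symm
      _ ≤ Module.length A (LinearMap.ker (K.d j (j + a)).hom) +
          Module.length A (LinearMap.range (K.d j (j + a)).hom) := le_self_add
      _ = Module.length A (K.X j) := (len_X a K j (j + a)).symm
  refine ⟨?_, ?_, ?_⟩
  · intro pq hpq
    have h0 := length_zero_of_isZero (hs pq hpq)
    have h1 : Module.length A (K.homology pq) = 0 := le_antisymm (h0 ▸ hHle pq) zero_le
    have := Module.length_eq_zero_iff.mp h1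
    exact ModuleCat.isZero_of_subsingleton _
  · intro pq
    exact Module.length_ne_top_iff.mp (hH pq).ne
  · -- γ j = length of boundaries inside X j
    let γ : ℤ × ℤ → ℤ := fun j => ((Module.length A (LinearMap.range (K.d (j - a) j).hom)).toNat : ℤ)
    have hrel : ∀ j, ((Module.length A (K.X j)).toNat : ℤ) -
        ((Module.length A (K.homology j)).toNat : ℤ) = γ j + γ (j + a) := by
      intro j
      have e1 := len_X a K j (j + a)
      have e2 := len_Z a K j
      have hγ' : γ (j + a) =
          ((Module.length A (LinearMap.range (K.d j (j + a)).hom)).toNat : ℤ) := by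
        change ((Module.length A (LinearMap.range (K.d (j + a - a) (j + a)).hom)).toNat : ℤ) = _
        rw [add_sub_cancel_right]
      rw [hγ']
      change _ = ((Module.length A (LinearMap.range (K.d (j - a) j).hom)).toNat : ℤ) + _
      have f1 := hX j
      have f2 := hZ j (j + a)
      have f3 := hB j (j + a)
      have f4 := hB (j - a) j
      have f5 := hH j
      generalize Module.length A (K.X j) = x at *
      generalize Module.length A (LinearMap.ker (K.d j (j + a)).hom) = z at *
      generalize Module.length A (LinearMap.range (K.d j (j + a)).hom) = b at *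
      generalize Module.length A (LinearMap.range (K.d (j - a) j).hom) = b' at *
      generalize Module.length A (K.homology j) = h at *
      lift x to ℕ using f1.ne
      lift z to ℕ using f2.ne
      lift b to ℕ using f3.ne
      lift b' to ℕ using f4.ne
      lift h to ℕ using f5.ne
      simp only [ENat.toNat_natCast]
      have e1' : x = z + b := by exact_mod_cast e1
      have e2' : z = b' + h := by exact_mod_cast e2
      omega
    have hγ0 : ∀ j, j ∉ s → γ j = 0 := by
      intro j hj
      have h0 := length_zero_of_isZero (hs j hj)
      have : Module.length A (LinearMap.range (K.d (j - a) j).hom) = 0 := by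
        apply le_antisymm _ zero_le
        rw [← h0]
        exact Module.length_le_of_injective (Submodule.subtype _) (Submodule.subtype_injective _)
      change ((Module.length A (LinearMap.range (K.d (j - a) j).hom)).toNat : ℤ) = 0
      rw [this]; rfl
    have hγ1 : ∀ j, j - a ∉ s → γ j = 0 := by
      intro j hj
      have h0 := length_zero_of_isZero (hs (j - a) hj)
      have : Module.length A (LinearMap.range (K.d (j - a) j).hom) = 0 := by
        apply le_antisymm _ zero_le
        rw [← h0]
        exact Module.length_le_of_surjective (LinearMap.rangeRestrict _)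
          (LinearMap.surjective_rangeRestrict _)
      change ((Module.length A (LinearMap.range (K.d (j - a) j).hom)).toNat : ℤ) = 0
      rw [this]; rfl
    -- the main computation
    have hsum : (s.sum fun j => eps j * (γ j + γ (j + a))) = 0 := by
      simp only [mul_add, Finset.sum_add_distrib]
      let T : Finset (ℤ × ℤ) := s.map (addRightEmbedding a)
      have h2 : (s.sum fun j => eps j * γ (j + a)) = - T.sum fun j => eps j * γ j := by
        rw [Finset.sum_map, ← Finset.sum_neg_distrib]
        refine Finset.sum_congr rfl fun j _ => ?_
        rw [addRightEmbedding_apply, eps_add a ha]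
        ring
      have h3 : (s.sum fun j => eps j * γ j) = (s ∪ T).sum fun j => eps j * γ j := by
        refine Finset.sum_subset Finset.subset_union_left fun j _ hj => ?_
        rw [hγ0 j hj, mul_zero]
      have h4 : (T.sum fun j => eps j * γ j) = (s ∪ T).sum fun j => eps j * γ j := by
        refine Finset.sum_subset Finset.subset_union_right fun j _ hj => ?_
        have : j - a ∉ s := by
          intro hmem
          apply hj
          rw [Finset.mem_map]
          exact ⟨j - a, hmem, by rw [addRightEmbedding_apply, sub_add_cancel]⟩
        rw [hγ1 j this, mul_zero]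
      rw [h2, h3, h4, add_neg_cancel]
    have : (s.sum fun pq => eps pq * ((Module.length A (K.X pq)).toNat : ℤ)) -
        (s.sum fun pq => eps pq * ((Module.length A (K.homology pq)).toNat : ℤ)) = 0 := by
      rw [← Finset.sum_sub_distrib, ← hsum]
      refine Finset.sum_congr rfl fun j _ => ?_
      rw [← mul_sub, hrel]
    exact (sub_eq_zero.mp this).symm

end cplx

open CategoryTheory CategoryTheory.Limits in
/-- Let E be a cohomological spectral sequence of modules over a ring A, starting at page 2, such that
the E₂ terms have finite length and only finitely many of them (all inside the finite set s of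
bidegrees) are nonzero. Then for every r ≥ 2 the Euler–Poincaré characteristic of page r, the
alternating sum over s of (-1)^{p+q} times the length of E_r^{pq}, equals that of page 2. -/
theorem result {A : Type u} [Ring A]
    (E : E₂CohomologicalSpectralSequence (ModuleCat.{u} A)) (s : Finset (ℤ × ℤ))
    (hs : ∀ pq : ℤ × ℤ, pq ∉ s → IsZero ((E.page 2).X pq))
    (hfl : ∀ pq : ℤ × ℤ, IsFiniteLength A ((E.page 2).X pq)) (r : ℤ) (hr : 2 ≤ r) :
    (s.sum fun pq => (((pq.1 + pq.2).negOnePow : ℤˣ) : ℤ) * ((Module.length A ((E.page r hr).X pq)).toNat : ℤ)) =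
      s.sum fun pq => (((pq.1 + pq.2).negOnePow : ℤˣ) : ℤ) * ((Module.length A ((E.page 2).X pq)).toNat : ℤ) := by
  have Q : ∀ (n : ℕ) (r : ℤ) (hr : 2 ≤ r), r = 2 + (n : ℤ) →
      (∀ pq ∉ s, IsZero ((E.page r hr).X pq)) ∧ (∀ pq, IsFiniteLength A ((E.page r hr).X pq)) ∧
      (s.sum fun pq => eps pq * ((Module.length A ((E.page r hr).X pq)).toNat : ℤ)) =
        s.sum fun pq => eps pq * ((Module.length A ((E.page 2).X pq)).toNat : ℤ) := by
    intro n
    induction n with
    | zero =>
      intro r hr h
      have h2 : r = 2 := by simpa using h
      subst h2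
      exact ⟨hs, hfl, rfl⟩
    | succ n ih =>
      intro r hr h
      have hr₀ : 2 ≤ r - 1 := by rw [h]; push_cast; omega
      obtain ⟨i1, i2, i3⟩ := ih (r - 1) hr₀ (by rw [h]; push_cast; ring)
      obtain ⟨j1, j2, j3⟩ := euler (⟨r - 1, 1 - (r - 1)⟩ : ℤ × ℤ) (E.page (r - 1) hr₀)
        (by simp) s i1 i2
      have iso : ∀ pq, (E.page (r - 1) hr₀).homology pq ≅ (E.page r hr).X pq := fun pq =>
        E.iso (r - 1) r pq (by ring) hr₀
      have hlen : ∀ pq, Module.length A ((E.page r hr).X pq) =
          Module.length A ((E.page (r - 1) hr₀).homology pq) := fun pq =>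
        ((iso pq).toLinearEquiv).length_eq.symm
      refine ⟨?_, ?_, ?_⟩
      · intro pq hpq
        exact (j1 pq hpq).of_iso (iso pq).symm
      · intro pq
        rw [← Module.length_ne_top_iff, hlen, Module.length_ne_top_iff]
        exact j2 pq
      · rw [← i3, ← j3]
        refine Finset.sum_congr rfl fun pq _ => ?_
        rw [hlen]
  obtain ⟨n, hn⟩ := Int.le.dest hr
  exact (Q n r hr hn.symm).2.2

end Groth.Agent.S3544
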