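import Groth.Statements.S3547
import Mathlib
import Groth.Agent.Lib.Helper18.GrTildeBasic
-- import your own Groth.Agent.* helpers here

set_option autoImplicit false
universe u
open CategoryTheory CategoryTheory.Limits AlgebraicGeometry
open EGA2

namespace Groth.Agent.S3547

open TopologicalSpace Opposite in
/-- every element of `tildeAt` is a single homogeneous fraction -/
theorem exists_frac_of_mem {R A : Type u} [CommRing R] [CommRing A] [Algebra R A] (𝒜 : ℕ → Submodule R A)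
    [GradedAlgebra 𝒜] {M : Type u} [AddCommGroup M] [Module R M] [Module A M] [IsScalarTower R A M]
    (ℳ : ℕ → Submodule R M) [DirectSum.Decomposition ℳ] [SetLike.GradedSMul 𝒜 ℳ] (n : ℤ)
    (p : ProjectiveSpectrum 𝒜) (t : GrTilde.LocMod 𝒜 (M := M) p) (ht : t ∈ GrTilde.tildeAt 𝒜 ℳ n p) :
    ∃ (i j : ℕ) (m : ℳ i) (f : 𝒜 j) (hf : f.1 ∉ p.asHomogeneousIdeal), (i : ℤ) = j + n ∧
      t = LocalizedModule.mk m.1 ⟨f.1, hf⟩ := by
  classical
  refine Submodule.span_induction (p := fun t _ => ∃ (i j : ℕ) (m : ℳ i) (f : 𝒜 j)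
    (hf : f.1 ∉ p.asHomogeneousIdeal), (i : ℤ) = j + n ∧ t = LocalizedModule.mk m.1 ⟨f.1, hf⟩)
    ?_ ?_ ?_ ?_ ht
  · rintro _ ⟨i, j, m, f, hf, hij, rfl⟩
    exact ⟨i, j, m, f, hf, hij, rfl⟩
  · obtain ⟨e, he, g, hg, hpg⟩ :=
      Groth.Agent.Lib.Helper18.ProjBasic.exists_pos_homogeneous_mem_basicOpen 𝒜 p
    have hpg' : g ∉ p.asHomogeneousIdeal := hpg
    have hgp : g ^ (n.natAbs + 1) ∈ 𝒜 ((n.natAbs + 1) * e) := by
      have := SetLike.pow_mem_graded (n.natAbs + 1) hg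
      simpa [smul_eq_mul] using this
    refine ⟨(((n.natAbs + 1) * e : ℕ) + n).toNat, (n.natAbs + 1) * e, 0, ⟨_, hgp⟩,
      fun hh => hpg' (p.isPrime.mem_of_pow_mem _ hh), ?_, ?_⟩
    · rw [Int.toNat_of_nonneg]
      have h1 : n.natAbs + 1 ≤ (n.natAbs + 1) * e := Nat.le_mul_of_pos_right _ he
      generalize (n.natAbs + 1) * e = X at h1 ⊢
      omega
    · simp
  · rintro x y _ _ ⟨i, j, m, f, hf, hij, rfl⟩ ⟨i', j', m', f', hf', hij', rfl⟩
    have hdeg : j' + i = j + i' := by omega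
    refine ⟨j' + i, j + j', ⟨f'.1 • m.1 + f.1 • m'.1, add_mem
      (SetLike.GradedSMul.smul_mem f'.2 m.2) (hdeg ▸ SetLike.GradedSMul.smul_mem f.2 m'.2)⟩,
      ⟨f.1 * f'.1, SetLike.mul_mem_graded f.2 f'.2⟩,
      fun hh => (p.isPrime.mem_or_mem hh).elim hf hf', by push_cast; omega, ?_⟩
    rw [LocalizedModule.mk_add_mk]
    rfl
  · rintro c x _ ⟨i, j, m, f, hf, hij, rfl⟩
    refine ⟨c.deg + i, c.deg + j, ⟨c.num • m.1, SetLike.GradedSMul.smul_mem c.num_mem_deg m.2⟩,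
      ⟨c.den * f.1, SetLike.mul_mem_graded c.den_mem_deg f.2⟩,
      fun hh => (p.isPrime.mem_or_mem hh).elim c.den_mem hf, by push_cast; omega, ?_⟩
    rw [GrTilde.a0_smul_def, HomogeneousLocalization.eq_num_div_den, LocalizedModule.mk_smul_mk]
    rfl

/-- Let S be a graded ring, M a graded S-module, X = Proj S and p a point of X. The stalk of M(n)~ at p
is the module of fractions m/f in M_p with m, f homogeneous, f not in p and deg m = deg f + n:
precisely, evaluation at p is a bijection from the stalk at p of the sheaf of local sections of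
M(n)~ onto that module of fractions. -/
theorem result {R A : Type u} [CommRing R] [CommRing A] [Algebra R A] (𝒜 : ℕ → Submodule R A) [GradedAlgebra 𝒜]
    {M : Type u} [AddCommGroup M] [Module R M] [Module A M] [IsScalarTower R A M] (ℳ : ℕ → Submodule R M) [DirectSum.Decomposition ℳ] [SetLike.GradedSMul 𝒜 ℳ] (n : ℤ)
    (p : ProjectiveSpectrum 𝒜) :
    Function.Bijective (TopCat.stalkToFiber (GrTilde.isLocFrac 𝒜 ℳ n) p) := by
  classical
  refine ⟨?_, ?_⟩
  · -- injective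
    apply TopCat.stalkToFiber_injective
    intro U V fU hU fV hV e
    obtain ⟨U', mU, iU, i, j, ⟨m, hm⟩, ⟨s, hs⟩, s_nin, hdeg, wU⟩ := hU ⟨p, U.2⟩
    obtain ⟨V', mV, iV, i', j', ⟨m', hm'⟩, ⟨s', hs'⟩, s'_nin, hdeg', wV⟩ := hV ⟨p, V.2⟩
    have wUp := wU ⟨p, mU⟩
    have wVp := wV ⟨p, mV⟩
    have e' : (LocalizedModule.mk m ⟨s, s_nin ⟨p, mU⟩⟩ : GrTilde.LocMod 𝒜 (M := M) p) =
        LocalizedModule.mk m' ⟨s', s'_nin ⟨p, mV⟩⟩ := by
      rw [← wUp, ← wVp]
      exact congrArg Subtype.val e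
    rw [LocalizedModule.mk_eq] at e'
    obtain ⟨u, hu⟩ := e'
    simp only [Submonoid.smul_def] at hu
    -- the difference is homogeneous
    have hw : ∃ k, s' • m - s • m' ∈ ℳ k := by
      rcases hdeg with hdeg | hdeg
      · rcases hdeg' with hdeg' | hdeg'
        · refine ⟨j' + i, sub_mem (SetLike.GradedSMul.smul_mem hs' hm) ?_⟩
          have : j' + i = j + i' := by omega
          rw [this]
          exact SetLike.GradedSMul.smul_mem hs hm'
        · have : m' = 0 := hdeg'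
          rw [this, smul_zero, sub_zero]
          exact ⟨j' + i, SetLike.GradedSMul.smul_mem hs' hm⟩
      · have : m = 0 := hdeg
        rw [this, smul_zero, zero_sub]
        exact ⟨j + i', neg_mem (SetLike.GradedSMul.smul_mem hs hm')⟩
    obtain ⟨k, hk⟩ := hw
    have hu0 : u.1 • (s' • m - s • m') = 0 := by rw [smul_sub, sub_eq_zero]; exact hu
    -- a homogeneous component of `u` outside `p`
    obtain ⟨l, hl⟩ : ∃ l, (DirectSum.decompose 𝒜 u.1 l : A) ∉ p.asHomogeneousIdeal := by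
      by_contra hcon
      push Not at hcon
      apply u.2
      change u.1 ∈ p.asHomogeneousIdeal.toIdeal
      rw [← DirectSum.sum_support_decompose 𝒜 u.1]
      exact Ideal.sum_mem _ fun l _ => hcon l
    have hul := Groth.Agent.Lib.Helper18.GrTildeBasic.decompose_smul_eq_zero 𝒜 ℳ u.1 _ k hk hu0 l
    set ul : A := (DirectSum.decompose 𝒜 u.1 l : A) with hul_def
    refine ⟨⟨U' ⊓ V' ⊓ ProjectiveSpectrum.basicOpen 𝒜 ul, ⟨⟨mU, mV⟩, hl⟩⟩, ?_, ?_, ?_⟩
    · change U' ⊓ V' ⊓ ProjectiveSpectrum.basicOpen 𝒜 ul ⟶ U.val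
      exact homOfLE (fun y hy => iU.le hy.1.1)
    · change U' ⊓ V' ⊓ ProjectiveSpectrum.basicOpen 𝒜 ul ⟶ V.val
      exact homOfLE (fun y hy => iV.le hy.1.2)
    intro w
    apply Subtype.ext
    have h1 := wU ⟨w.1, w.2.1.1⟩
    have h2 := wV ⟨w.1, w.2.1.2⟩
    refine h1.trans (Eq.trans ?_ h2.symm)
    rw [LocalizedModule.mk_eq]
    refine ⟨⟨ul, w.2.2⟩, ?_⟩
    simp only [Submonoid.smul_def]
    rw [smul_sub, sub_eq_zero] at hul
    exact hul
  · -- surjective
    apply TopCat.stalkToFiber_surjective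
    intro t
    obtain ⟨i, j, m, f, hf, hij, ht⟩ := exists_frac_of_mem 𝒜 ℳ n p t.1 t.2
    refine ⟨⟨ProjectiveSpectrum.basicOpen 𝒜 f.1, hf⟩,
      (Groth.Agent.Lib.Helper18.GrTildeBasic.fracSect 𝒜 ℳ n m f hij).1,
      (Groth.Agent.Lib.Helper18.GrTildeBasic.fracSect 𝒜 ℳ n m f hij).2, ?_⟩
    apply Subtype.ext
    exact ht.symm

end Groth.Agent.S3547
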