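import Groth.Statements.S3553
import Groth.Agent.Lib.Helper18.ProjBasic

set_option autoImplicit false
universe u
open CategoryTheory CategoryTheory.Limits AlgebraicGeometry
open EGA2

namespace Groth.Agent.S3553

/-- In the case where the induced morphism is defined on all of Proj S: let φ : S' → S be a homomorphism
of graded rings such that S_+ is contained in the ideal generated by φ(S'_+), and suppose every
element of the kernel of φ is nilpotent. Then the induced morphism from Proj S to Proj S' has dense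
image. -/
theorem result {R A : Type u} [CommRing R] [CommRing A] [Algebra R A] (𝒜 : ℕ → Submodule R A) [GradedAlgebra 𝒜]
    {B : Type u} [CommRing B] [Algebra R B] (ℬ : ℕ → Submodule R B) [GradedAlgebra ℬ]
    (φ : 𝒜 →+*ᵍ ℬ) (hφ : HomogeneousIdeal.irrelevant ℬ ≤ (HomogeneousIdeal.irrelevant 𝒜).map φ)
    (hker : ∀ a : A, φ a = 0 → IsNilpotent a) :
    DenseRange (Proj.map φ hφ).base := by
  rw [DenseRange, dense_iff_inter_open]
  intro U hU ⟨x, hxU⟩
  obtain ⟨i, hi, a, ha, hxa, haU⟩ :=
    Groth.Agent.Lib.Helper18.ProjBasic.exists_pos_homogeneous_basicOpen_le 𝒜 x ⟨U, hU⟩ hxU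
  -- `a` is not nilpotent
  have hnil : ¬ IsNilpotent a := by
    intro h
    have := Groth.Agent.Lib.Helper18.ProjBasic.basicOpen_eq_bot_of_isNilpotent 𝒜 a h
    rw [this] at hxa
    exact hxa
  have hnil' : ¬ IsNilpotent (φ a) := by
    rintro ⟨n, hn⟩
    apply hnil
    have h1 : IsNilpotent (a ^ n) := hker _ (by rw [map_pow, hn])
    obtain ⟨m, hm⟩ := h1
    exact ⟨n * m, by rw [pow_mul, hm]⟩
  have hne : Proj.basicOpen ℬ (φ a) ≠ ⊥ := fun h =>
    hnil' (Groth.Agent.Lib.Helper18.ProjBasic.isNilpotent_of_basicOpen_eq_bot ℬ hi _ (φ.2 ha) h)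
  obtain ⟨y, hy⟩ : ∃ y, y ∈ Proj.basicOpen ℬ (φ a) := by
    by_contra hcon
    push Not at hcon
    apply hne
    rw [eq_bot_iff]
    intro y hy
    exact (hcon y hy).elim
  rw [← Proj.map_preimage_basicOpen φ hφ] at hy
  exact ⟨(Proj.map φ hφ).base y, haU hy, ⟨y, rfl⟩⟩

end Groth.Agent.S3553
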