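import Groth.Statements.S3554
import Groth.Agent.Lib.Proj.AwayBaseChange

set_option autoImplicit false
universe u
open CategoryTheory CategoryTheory.Limits AlgebraicGeometry
open EGA2

namespace Groth.Agent.S3554

open Groth.Agent.Lib.Proj.AwayBaseChange HomogeneousLocalization TensorProduct

attribute [local instance] algAway algAwayA

/-- the affine-local pushout square of rings -/
lemma isPushout_away {R R' A B : Type u} [CommRing R'] [CommRing R] [Algebra R' R]
    [CommRing B] [Algebra R' B] (ℬ : ℕ → Submodule R' B) [GradedAlgebra ℬ]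
    [CommRing A] [Algebra R A] [Algebra R' A] [IsScalarTower R' R A] (𝒜 : ℕ → Submodule R A)
    [GradedAlgebra 𝒜] [Algebra B A] [IsScalarTower R' B A] [Algebra.IsPushout R' R B A]
    (φ : ℬ →+*ᵍ 𝒜) (hφA : ∀ b : B, φ b = algebraMap B A b) {d : ℕ} {g : B} (hg : g ∈ ℬ d) :
    IsPushout (CommRingCat.ofHom (algebraMap R' (Away ℬ g))) (CommRingCat.ofHom (algebraMap R' R))
      (CommRingCat.ofHom (Away.map φ g)) (CommRingCat.ofHom (iR 𝒜 (φ g))) := by
  have h0 := (CommRingCat.isPushout_tensorProduct R' R (Away ℬ g)).flip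
  refine h0.of_iso (Iso.refl _) (Iso.refl _) (Iso.refl _)
    (ringEquiv ℬ 𝒜 φ hφA hg).toCommRingCatIso ?_ ?_ ?_ ?_
  · simp
  · simp
  · refine CommRingCat.hom_ext (RingHom.ext fun x => ?_)
    show ringEquiv ℬ 𝒜 φ hφA hg ((1 : R) ⊗ₜ[R'] x) = Away.map φ g x
    rw [ringEquiv_tmul, map_one, one_mul]
  · refine CommRingCat.hom_ext (RingHom.ext fun r => ?_)
    show ringEquiv ℬ 𝒜 φ hφA hg (r ⊗ₜ[R'] (1 : Away ℬ g)) = iR 𝒜 (φ g) r
    rw [ringEquiv_tmul, map_one, mul_one]

/-- Let A' → A be a ring homomorphism, S' a graded A'-algebra and S = S' ⊗_{A'} A with the induced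
grading (here: any graded A-algebra S with a graded homomorphism S' → S exhibiting S as the base
change of S'). Then the square formed by Proj S → Proj S', the structure morphisms to Spec A and
Spec A', and Spec A → Spec A' is cartesian. -/
theorem result {R R' A B : Type u} [CommRing R'] [CommRing R] [Algebra R' R]
    [CommRing B] [Algebra R' B] (ℬ : ℕ → Submodule R' B) [GradedAlgebra ℬ]
    [CommRing A] [Algebra R A] [Algebra R' A] [IsScalarTower R' R A] (𝒜 : ℕ → Submodule R A) [GradedAlgebra 𝒜]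
    [Algebra B A] [IsScalarTower R' B A] [Algebra.IsPushout R' R B A]
    (φ : ℬ →+*ᵍ 𝒜) (hφA : ∀ b : B, φ b = algebraMap B A b)
    (hφ : HomogeneousIdeal.irrelevant 𝒜 ≤ (HomogeneousIdeal.irrelevant ℬ).map φ) :
    IsPullback (Proj.map φ hφ)
      (Proj.toSpecZero 𝒜 ≫ Spec.map (CommRingCat.ofHom (algebraMap R (𝒜 0))))
      (Proj.toSpecZero ℬ ≫ Spec.map (CommRingCat.ofHom (algebraMap R' (ℬ 0))))
      (Spec.map (CommRingCat.ofHom (algebraMap R' R))) := by
  apply Scheme.isPullback_of_openCover (𝒰 := (Proj.affineOpenCover ℬ).openCover)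
  intro i
  have hd : 0 < (i.1 : ℕ) := i.1.2
  have hg : (i.2 : B) ∈ ℬ (i.1 : ℕ) := i.2.2
  -- the chart square
  have sqA : IsPullback (Proj.awayι 𝒜 (φ i.2) (φ.2 hg) hd)
      (Spec.map (CommRingCat.ofHom (Away.map φ (i.2 : B)))) (Proj.map φ hφ)
      (Proj.awayι ℬ (i.2 : B) hg hd) :=
    (IsOpenImmersion.isPullback _ _ _ _ (Proj.awayι_comp_map φ hφ hd (i.2 : B) hg) (by
      rw [Proj.opensRange_awayι, Proj.opensRange_awayι, Proj.map_preimage_basicOpen])).flip
  -- the affine pullback square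
  have sqB := isPullback_SpecMap_of_isPushout _ _ _ _ (isPushout_away ℬ 𝒜 φ hφA hg)
  refine sqB.of_iso sqA.isoPullback (Iso.refl _) (Iso.refl _) (Iso.refl _) ?_ ?_ ?_ ?_
  · simp only [Iso.refl_hom, Category.comp_id]
    exact sqA.isoPullback_hom_snd.symm
  · simp only [Iso.refl_hom, Category.comp_id]
    show _ = sqA.isoPullback.hom ≫ pullback.fst _ _ ≫ _
    rw [sqA.isoPullback_hom_fst_assoc, Proj.awayι_toSpecZero_assoc, ← Spec.map_comp]
    rfl
  · simp only [Iso.refl_hom, Category.comp_id]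
    refine Eq.trans ?_ (Category.id_comp _).symm
    show _ = Proj.awayι ℬ (i.2 : B) hg hd ≫ _
    rw [Proj.awayι_toSpecZero_assoc, ← Spec.map_comp]
    rfl
  · simp

end Groth.Agent.S3554
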