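import Groth.Statements.S3555
import Mathlib
import Groth.Agent.Lib.Proj.Helper66_Sections
-- import your own Groth.Agent.* helpers here

set_option autoImplicit false
universe u
open CategoryTheory CategoryTheory.Limits AlgebraicGeometry
open EGA2

namespace Groth.Agent.S3555

/-- Let S be a graded ring whose irrelevant ideal S_+ is generated by the degree-one elements, X = Proj
S, and f homogeneous of degree d > 0. Then D_+(f) is the set of points p of X at which the global
section f/1 of O_X(d) does not vanish, i.e. at which its value generates the module of degree-d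
fractions at p. -/
theorem result {R A : Type u} [CommRing R] [CommRing A] [Algebra R A] (𝒜 : ℕ → Submodule R A) [GradedAlgebra 𝒜]
    (hgen : (HomogeneousIdeal.irrelevant 𝒜).toIdeal = Ideal.span (𝒜 1 : Set A))
    {d : ℕ} (hd : 0 < d) (f : 𝒜 d) (p : ProjectiveSpectrum 𝒜) :
    p ∈ ProjectiveSpectrum.basicOpen 𝒜 (f : A) ↔
      Submodule.span (Twist.A0 𝒜 p) {(Twist.globalOf 𝒜 f).1 ⟨p, trivial⟩} = ⊤ := by
  classical
  have hone : (1 : A) ∉ p.asHomogeneousIdeal :=
    fun hh => p.isPrime.ne_top ((Ideal.eq_top_iff_one _).mpr hh)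
  have hval : (((Twist.globalOf 𝒜 f).1 ⟨p, trivial⟩ : Twist.twistAt 𝒜 (d : ℤ) p) : Twist.Loc 𝒜 p) =
      Localization.mk f.1 ⟨1, hone⟩ := rfl
  constructor
  · intro hfp
    have hfp' : f.1 ∉ p.asHomogeneousIdeal := hfp
    rw [eq_top_iff]
    rintro ⟨q, hq⟩ -
    -- every element of `twistAt` is `c • (f/1)`
    have key : ∀ t ∈ Twist.twistAt 𝒜 (d : ℤ) p, ∃ c : Twist.A0 𝒜 p,
        t = c.val * Localization.mk f.1 ⟨1, hone⟩ := by
      intro t ht
      refine Submodule.span_induction (p := fun t _ => ∃ c : Twist.A0 𝒜 p,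
        t = c.val * Localization.mk f.1 ⟨1, hone⟩) ?_ ?_ ?_ ?_ ht
      · rintro _ ⟨i, j, a, s, hs, hij, rfl⟩
        have hij' : i = j + d := by omega
        refine ⟨HomogeneousLocalization.mk ⟨i, a, ⟨s.1 * f.1, hij' ▸ SetLike.mul_mem_graded s.2 f.2⟩,
          fun hh => (p.isPrime.mem_or_mem hh).elim hs hfp'⟩, ?_⟩
        rw [HomogeneousLocalization.val_mk, Localization.mk_mul,
          Groth.Agent.Lib.Proj.Sections.mk_eq_mk_iff']
        refine ⟨1, hone, ?_⟩
        simp only [one_mul, Submonoid.coe_mul, mul_one]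
        ring
      · exact ⟨0, by simp⟩
      · rintro x y _ _ ⟨c, rfl⟩ ⟨c', rfl⟩
        exact ⟨c + c', by rw [HomogeneousLocalization.val_add, add_mul]⟩
      · rintro c' x _ ⟨c, rfl⟩
        refine ⟨c' * c, ?_⟩
        rw [HomogeneousLocalization.val_mul, Algebra.smul_def, mul_assoc]
        rfl
    obtain ⟨c, hc⟩ := key q hq
    rw [Submodule.mem_span_singleton]
    refine ⟨c, Subtype.ext ?_⟩
    rw [Twist.coe_smul_val, hval]
    exact hc.symm
  · intro hspan
    by_contra hfp
    have hfp' : f.1 ∈ p.asHomogeneousIdeal := by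
      by_contra h
      exact hfp h
    -- a degree one element outside `p`
    obtain ⟨t, ht, htp⟩ : ∃ t ∈ 𝒜 1, t ∉ p.asHomogeneousIdeal := by
      by_contra hcon
      push Not at hcon
      apply p.not_irrelevant_le
      change (HomogeneousIdeal.irrelevant 𝒜).toIdeal ≤ p.asHomogeneousIdeal.toIdeal
      rw [hgen, Ideal.span_le]
      exact fun t ht => hcon t ht
    have htd : t ^ d ∈ 𝒜 d := by
      have := SetLike.pow_mem_graded d ht
      simpa [smul_eq_mul] using this
    let τ : Twist.twistAt 𝒜 (d : ℤ) p := ⟨Localization.mk (t ^ d) ⟨1, hone⟩,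
      Submodule.subset_span ⟨d, 0, ⟨t ^ d, htd⟩, ⟨1, SetLike.GradedOne.one_mem⟩, hone, by simp, rfl⟩⟩
    have hτ : τ ∈ Submodule.span (Twist.A0 𝒜 p) {(Twist.globalOf 𝒜 f).1 ⟨p, trivial⟩} := by
      rw [hspan]; trivial
    rw [Submodule.mem_span_singleton] at hτ
    obtain ⟨c, hc⟩ := hτ
    have h1 := congrArg Subtype.val hc
    rw [Twist.coe_smul_val, hval, HomogeneousLocalization.eq_num_div_den, Localization.mk_mul] at h1
    change _ = (Localization.mk (t ^ d) ⟨1, hone⟩ : Twist.Loc 𝒜 p) at h1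
    rw [Groth.Agent.Lib.Proj.Sections.mk_eq_mk_iff'] at h1
    obtain ⟨u, hu, h2⟩ := h1
    simp only [one_mul, Submonoid.coe_mul, mul_one] at h2
    have h3 : u * (c.den * t ^ d) ∈ p.asHomogeneousIdeal.toIdeal := by
      have : u * (c.den * t ^ d) = u * (c.num * f.1) := by
        rw [mul_sub, sub_eq_zero] at h2
        exact h2.symm
      rw [this]
      exact Ideal.mul_mem_left _ _ (Ideal.mul_mem_left _ _ hfp')
    rcases p.isPrime.mem_or_mem h3 with h4 | h4
    · exact hu h4
    · rcases p.isPrime.mem_or_mem h4 with h5 | h5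
      · exact c.den_mem h5
      · exact htp (p.isPrime.mem_of_pow_mem _ h5)

end Groth.Agent.S3555
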