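import Groth.Statements.S3558
import Groth.Agent.Lib.Helper18.ProjBasic

set_option autoImplicit false
universe u
open CategoryTheory CategoryTheory.Limits AlgebraicGeometry
open EGA2

namespace Groth.Agent.S3558

/-- For a graded ring S, Proj S is empty if and only if every element of the irrelevant ideal S_+ is
nilpotent. -/
theorem result {R A : Type u} [CommRing R] [CommRing A] [Algebra R A] (𝒜 : ℕ → Submodule R A) [GradedAlgebra 𝒜] :
    IsEmpty (Proj 𝒜) ↔ ∀ f ∈ (HomogeneousIdeal.irrelevant 𝒜).toIdeal, IsNilpotent f := by
  constructor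
  · intro hE f hf
    classical
    rw [← DirectSum.sum_support_decompose 𝒜 f]
    apply isNilpotent_sum
    intro i hi
    by_cases hi0 : i = 0
    · subst hi0
      have : (DirectSum.decompose 𝒜 f 0 : A) = 0 := hf
      rw [this]; exact IsNilpotent.zero
    · apply Groth.Agent.Lib.Helper18.ProjBasic.isNilpotent_of_basicOpen_eq_bot 𝒜
        (Nat.pos_of_ne_zero hi0) _ (Subtype.prop _)
      rw [eq_bot_iff]; intro x; exact (hE.false x).elim
  · intro h
    constructor
    intro x
    apply x.not_irrelevant_le
    intro f hf
    obtain ⟨n, hn⟩ := h f hf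
    exact x.isPrime.mem_of_pow_mem n (by rw [hn]; exact zero_mem _)

end Groth.Agent.S3558
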