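import Groth.Statements.S3559
import Mathlib.RingTheory.GradedAlgebra.Radical

set_option autoImplicit false
universe u
open CategoryTheory CategoryTheory.Limits AlgebraicGeometry
open EGA2

namespace Groth.Agent.S3559

/-- Let S be a graded ring and (f_i) a family of homogeneous elements of positive degree. The opens
D_+(f_i) cover Proj S if and only if every element of S_+ has a power in the ideal generated by the
f_i. -/
theorem result {R A : Type u} [CommRing R] [CommRing A] [Algebra R A] (𝒜 : ℕ → Submodule R A) [GradedAlgebra 𝒜]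
    {ι : Type u} (f : ι → A) (hf : ∀ i, ∃ d : ℕ, 0 < d ∧ f i ∈ 𝒜 d) :
    (⨆ i, Proj.basicOpen 𝒜 (f i)) = ⊤ ↔
      (HomogeneousIdeal.irrelevant 𝒜).toIdeal ≤ (Ideal.span (Set.range f)).radical := by
  constructor
  · intro hcov g hg
    have hI : (Ideal.span (Set.range f)).IsHomogeneous 𝒜 := by
      apply Ideal.homogeneous_span
      rintro _ ⟨i, rfl⟩
      obtain ⟨d, _, hd⟩ := hf i
      exact ⟨d, hd⟩
    rw [hI.radical_eq, Ideal.mem_sInf]
    rintro P ⟨hPh, hIP, hPp⟩
    by_cases hirr : HomogeneousIdeal.irrelevant 𝒜 ≤ ⟨P, hPh⟩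
    · exact hirr hg
    · exfalso
      let x : Proj 𝒜 := (⟨⟨P, hPh⟩, hPp, hirr⟩ : ProjectiveSpectrum 𝒜)
      have hx : x ∈ (⨆ i, Proj.basicOpen 𝒜 (f i)) := by rw [hcov]; trivial
      obtain ⟨i, hi⟩ := TopologicalSpace.Opens.mem_iSup.mp hx
      rw [Proj.mem_basicOpen] at hi
      exact hi (hIP (Ideal.subset_span ⟨i, rfl⟩))
  · intro h
    rw [eq_top_iff]
    intro x _
    rw [TopologicalSpace.Opens.mem_iSup]
    by_contra hx
    push Not at hx
    apply x.not_irrelevant_le
    have hle : Ideal.span (Set.range f) ≤ x.asHomogeneousIdeal.toIdeal := by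
      rw [Ideal.span_le]
      rintro _ ⟨i, rfl⟩
      have := hx i
      rw [Proj.mem_basicOpen, not_not] at this
      exact this
    intro g hg
    have hg' : g ∈ (Ideal.span (Set.range f)).radical := h hg
    have : g ∈ x.asHomogeneousIdeal.toIdeal.radical := Ideal.radical_mono hle hg'
    rwa [x.isPrime.radical] at this

end Groth.Agent.S3559
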