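import Groth.Statements.S3560
import Groth.Agent.Lib.Helper18.ProjBasic

set_option autoImplicit false
universe u
open CategoryTheory CategoryTheory.Limits AlgebraicGeometry
open EGA2

namespace Groth.Agent.S3560

/-- Let S be a graded ring whose irrelevant ideal S_+ is finitely generated. Then Proj S is empty if and
only if there is n such that S_k = 0 for all k ≥ n. -/
theorem result {R A : Type u} [CommRing R] [CommRing A] [Algebra R A] (𝒜 : ℕ → Submodule R A) [GradedAlgebra 𝒜]
    (hfg : (HomogeneousIdeal.irrelevant 𝒜).toIdeal.FG) :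
    IsEmpty (Proj 𝒜) ↔ ∃ n : ℕ, ∀ k : ℕ, n ≤ k → 𝒜 k = ⊥ := by
  constructor
  · intro hE
    exact Groth.Agent.Lib.Helper18.ProjBasic.eventually_eq_bot_of_forall_isNilpotent 𝒜 hfg
      (Groth.Agent.Lib.Helper18.ProjBasic.forall_isNilpotent_of_isEmpty 𝒜 hE)
  · rintro ⟨n, hn⟩
    constructor
    intro x
    obtain ⟨i, hi, f, hf, hx⟩ :=
      Groth.Agent.Lib.Helper18.ProjBasic.exists_pos_homogeneous_mem_basicOpen 𝒜 x
    rw [Proj.mem_basicOpen] at hx
    apply hx
    have h1 : f ^ (n + 1) ∈ 𝒜 ((n + 1) • i) := SetLike.pow_mem_graded _ hf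
    have h2 : 𝒜 ((n + 1) • i) = ⊥ := by
      apply hn
      rw [smul_eq_mul]
      calc n ≤ n + 1 := Nat.le_succ n
        _ ≤ (n + 1) * i := Nat.le_mul_of_pos_right _ hi
    rw [h2, Submodule.mem_bot] at h1
    exact x.isPrime.mem_of_pow_mem (n + 1) (by rw [h1]; exact zero_mem _)

end Groth.Agent.S3560
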