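import Groth.Statements.S3567
import Mathlib
-- import your own Groth.Agent.* helpers here

set_option autoImplicit false
universe u
open CategoryTheory CategoryTheory.Limits AlgebraicGeometry
open EGA2

namespace Groth.Agent.S3567
open Limits TopologicalSpace Opposite


variable {X : Scheme.{u}}

/-- the morphism `T ⟶ X` landing in the affine open `V` attached to a ring map. -/
noncomputable def toV {V : X.Opens} (hV : IsAffineOpen V) {T : Scheme.{u}}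
    (φ : Γ(X, V) ⟶ Γ(T, ⊤)) : T ⟶ X :=
  T.toSpecΓ ≫ Spec.map φ ≫ hV.fromSpec

lemma toV_nat {V : X.Opens} (hV : IsAffineOpen V) {T T' : Scheme.{u}} (t : T' ⟶ T)
    (φ : Γ(X, V) ⟶ Γ(T, ⊤)) : t ≫ toV hV φ = toV hV (φ ≫ t.appTop) := by
  simp only [toV, Spec.map_comp, Category.assoc]
  rw [Scheme.toSpecΓ_naturality_assoc]

lemma toV_res {V V' : X.Opens} (hV : IsAffineOpen V) (hV' : IsAffineOpen V') (hle : V' ≤ V)
    {T : Scheme.{u}} (φ : Γ(X, V') ⟶ Γ(T, ⊤)) :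
    toV hV' φ = toV hV (X.presheaf.map (homOfLE hle).op ≫ φ) := by
  simp only [toV, Spec.map_comp, Category.assoc]
  rw [hV.map_fromSpec hV']

lemma toV_range {V : X.Opens} (hV : IsAffineOpen V) {T : Scheme.{u}}
    (φ : Γ(X, V) ⟶ Γ(T, ⊤)) : (toV hV φ) ⁻¹ᵁ V = ⊤ := by
  rw [eq_top_iff]
  intro t _
  show (toV hV φ) t ∈ V
  have : (toV hV φ) t ∈ hV.fromSpec.opensRange := by
    simp only [toV, Scheme.Hom.comp_apply]
    exact ⟨_, rfl⟩
  rwa [hV.opensRange_fromSpec] at this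

lemma toV_appLE {V : X.Opens} (hV : IsAffineOpen V) {T : Scheme.{u}}
    (φ : Γ(X, V) ⟶ Γ(T, ⊤)) :
    (toV hV φ).appLE V ⊤ (toV_range hV φ).ge = φ := by
  have h1 : toV hV φ = (T.toSpecΓ ≫ Spec.map φ ≫ hV.isoSpec.inv) ≫ V.ι := by
    simp [toV]
  have key : ∀ (h : T ⟶ X) (k : T ⟶ ↑V) (hk : h = k ≫ V.ι) (e : ⊤ ≤ h ⁻¹ᵁ V),
      h.appLE V ⊤ e = V.topIso.inv ≫ k.appTop := by
    rintro h k rfl e
    rw [← Scheme.Hom.appLE_comp_appLE k V.ι V ⊤ ⊤ (by simp) (by simp)]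
    congr 1
    · rw [Scheme.Opens.ι_appLE]; rfl
    · simp [Scheme.Hom.appLE]
  rw [key _ _ h1]
  simp only [Scheme.Hom.comp_appTop, IsAffineOpen.isoSpec_inv_appTop, Category.assoc,
    Scheme.toSpecΓ_appTop, Iso.inv_hom_id_assoc]
  rw [← Scheme.ΓSpecIso_inv_naturality_assoc]
  simp

lemma appLE_congr_hom {T X : Scheme.{u}} {a b : T ⟶ X} (h : a = b) (U : X.Opens) (W : T.Opens)
    (e : W ≤ a ⁻¹ᵁ U) : a.appLE U W e = b.appLE U W (h ▸ e) := by
  subst h; rfl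

lemma hom_ext_of_appLE {V : X.Opens} (hV : IsAffineOpen V) {T : Scheme.{u}} (a b : T ⟶ X)
    (ea : ⊤ ≤ a ⁻¹ᵁ V) (eb : ⊤ ≤ b ⁻¹ᵁ V) (h : a.appLE V ⊤ ea = b.appLE V ⊤ eb) : a = b := by
  have key : ∀ (h : T ⟶ X) (k : T ⟶ ↑V) (hk : h = k ≫ V.ι) (e : ⊤ ≤ h ⁻¹ᵁ V),
      h.appLE V ⊤ e = V.topIso.inv ≫ k.appTop := by
    rintro h k rfl e
    rw [← Scheme.Hom.appLE_comp_appLE k V.ι V ⊤ ⊤ (by simp) (by simp)]
    congr 1
    · rw [Scheme.Opens.ι_appLE]; rfl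
    · simp [Scheme.Hom.appLE]
  have ra : Set.range a ⊆ Set.range V.ι := by
    rintro _ ⟨t, rfl⟩
    simpa using ea (Set.mem_univ t)
  have rb : Set.range b ⊆ Set.range V.ι := by
    rintro _ ⟨t, rfl⟩
    simpa using eb (Set.mem_univ t)
  let a' := IsOpenImmersion.lift V.ι a ra
  let b' := IsOpenImmersion.lift V.ι b rb
  have ha : a = a' ≫ V.ι := (IsOpenImmersion.lift_fac _ _ _).symm
  have hb : b = b' ≫ V.ι := (IsOpenImmersion.lift_fac _ _ _).symm
  have h1 := key a a' ha ea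
  have h2 := key b b' hb eb
  haveI : IsAffine ↑V := hV
  have : a' = b' := by
    apply ext_of_isAffine
    have : V.topIso.inv ≫ a'.appTop = V.topIso.inv ≫ b'.appTop := by
      rw [← h1, ← h2, h]
    exact (cancel_epi _).mp this
  rw [ha, hb, this]


lemma appLE_ι_top {V : X.Opens} {T : Scheme.{u}} (k : T ⟶ ↑V) (e : ⊤ ≤ (k ≫ V.ι) ⁻¹ᵁ V) :
    (k ≫ V.ι).appLE V ⊤ e = V.topIso.inv ≫ k.appTop := by
  rw [← Scheme.Hom.appLE_comp_appLE k V.ι V ⊤ ⊤ (by simp) (by simp)]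
  congr 1
  · rw [Scheme.Opens.ι_appLE]; rfl
  · simp [Scheme.Hom.appLE]

/-- a surjective morphism whose maps on sections are injective is an epimorphism. -/
lemma epi_of_app_injective {U V : Scheme.{u}} (h : U ⟶ V) [Surjective h]
    (hinj : ∀ O : V.Opens, Function.Injective (h.app O).hom) : Epi h := by
  constructor
  intro W v₁ v₂ heq
  have hbase : ∀ x, v₁ x = v₂ x := by
    intro x
    obtain ⟨a, rfl⟩ := h.surjective x
    have := congrArg (fun φ => φ a) heq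
    simpa using this
  apply Scheme.hom_ext_of_forall
  intro x
  obtain ⟨_, ⟨W', hW' : IsAffineOpen W', rfl⟩, hxW', -⟩ :=
    W.isBasis_affineOpens.exists_subset_of_mem_open (Set.mem_univ (v₁ x)) isOpen_univ
  refine ⟨v₁ ⁻¹ᵁ W', hxW', ?_⟩
  have e1 : ⊤ ≤ ((v₁ ⁻¹ᵁ W').ι ≫ v₁) ⁻¹ᵁ W' := fun t _ => t.2
  have e2 : ⊤ ≤ ((v₁ ⁻¹ᵁ W').ι ≫ v₂) ⁻¹ᵁ W' := fun t _ => by
    show v₂ t.1 ∈ W'
    rw [← hbase]; exact t.2
  have e2' : v₁ ⁻¹ᵁ W' ≤ v₂ ⁻¹ᵁ W' := fun t ht => by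
    show v₂ t ∈ W'
    rw [← hbase]; exact ht
  refine hom_ext_of_appLE hW' _ _ e1 e2 ?_
  rw [← Scheme.Hom.appLE_comp_appLE _ _ W' (v₁ ⁻¹ᵁ W') ⊤ le_rfl (by simp),
    ← Scheme.Hom.appLE_comp_appLE _ _ W' (v₁ ⁻¹ᵁ W') ⊤ e2' (by simp)]
  congr 1
  -- use injectivity of h.app
  have hmono : Mono (h.app (v₁ ⁻¹ᵁ W')) :=
    ConcreteCategory.mono_of_injective _ (hinj _)
  rw [← cancel_mono (h.app (v₁ ⁻¹ᵁ W'))]
  have : h.app (v₁ ⁻¹ᵁ W') = h.appLE (v₁ ⁻¹ᵁ W') (h ⁻¹ᵁ (v₁ ⁻¹ᵁ W')) le_rfl := by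
    rw [Scheme.Hom.appLE_eq_app]
  rw [this, Scheme.Hom.appLE_comp_appLE, Scheme.Hom.appLE_comp_appLE]
  exact appLE_congr_hom heq _ _ _

section quot

variable {U V W : Scheme.{u}} (h : U ⟶ V) [Surjective h] [IsIso h.c]
  (hq : Topology.IsQuotientMap h.base) (u : U ⟶ W)
  (hu : ∀ x y : U, h.base x = h.base y → u.base x = u.base y)

instance isIso_app (O : V.Opens) : IsIso (h.app O) :=
  inferInstanceAs (IsIso (h.c.app (op O)))

lemma surjective_restrict (O : V.Opens) : Surjective (h ∣_ O) := by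
  constructor
  rintro ⟨x, hx⟩
  obtain ⟨a, rfl⟩ := h.surjective x
  refine ⟨⟨a, hx⟩, ?_⟩
  apply Subtype.ext
  have := congrArg (fun φ => φ (⟨a, hx⟩ : ↑(h ⁻¹ᵁ O))) (morphismRestrict_ι h O)
  simpa using this

lemma epi_restrict (O : V.Opens) : Epi (h ∣_ O) := by
  haveI := surjective_restrict h O
  apply epi_of_app_injective
  intro O'
  rw [morphismRestrict_app]
  have : IsIso (h.app (O.ι ''ᵁ O') ≫
      U.presheaf.map (eqToHom (image_morphismRestrict_preimage h O O')).op) := inferInstance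
  exact ((ConcreteCategory.isIso_iff_bijective _).mp this).1

include hu in
lemma factors : Function.FactorsThrough (⇑u.base.hom) (⇑h.base.hom) := fun a b hab => hu a b hab

noncomputable def v₀ : C(V, W) := hq.lift u.base.hom (factors h u hu)

lemma v₀_apply (a : U) : v₀ h hq u hu (h a) = u a := by
  have := congrArg (fun φ : C(U, W) => φ a) (hq.lift_comp u.base.hom (factors h u hu))
  exact this

noncomputable def V' (W' : W.Opens) : V.Opens :=
  ⟨v₀ h hq u hu ⁻¹' W', W'.2.preimage (v₀ h hq u hu).continuous⟩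

lemma preimage_V' (W' : W.Opens) : h ⁻¹ᵁ (V' h hq u hu W') = u ⁻¹ᵁ W' := by
  ext a
  show v₀ h hq u hu (h a) ∈ W' ↔ u a ∈ W'
  rw [v₀_apply]

noncomputable def psi (W' : W.Opens) : Γ(W, W') ⟶ Γ(↑(V' h hq u hu W'), ⊤) :=
  u.appLE W' (h ⁻¹ᵁ (V' h hq u hu W')) (preimage_V' h hq u hu W').le ≫
    inv (h.app (V' h hq u hu W')) ≫ (V' h hq u hu W').topIso.inv

noncomputable def uV {W' : W.Opens} (hW' : IsAffineOpen W') : ↑(V' h hq u hu W') ⟶ W :=
  toV hW' (psi h hq u hu W')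

lemma uV_fac {W' : W.Opens} (hW' : IsAffineOpen W') {T : Scheme.{u}} (t₁ : T ⟶ U)
    (t₂ : T ⟶ ↑(V' h hq u hu W')) (hcomm : t₁ ≫ h = t₂ ≫ (V' h hq u hu W').ι) :
    t₂ ≫ uV h hq u hu hW' = t₁ ≫ u := by
  have et : ⊤ ≤ t₁ ⁻¹ᵁ (h ⁻¹ᵁ (V' h hq u hu W')) := by
    intro t _
    show h (t₁ t) ∈ V' h hq u hu W'
    have := congrArg (fun φ => φ t) hcomm
    simp only [Scheme.Hom.comp_apply] at this
    rw [this]
    exact (t₂ t).2
  have e1 : ⊤ ≤ (t₂ ≫ uV h hq u hu hW') ⁻¹ᵁ W' := by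
    intro t _
    exact (toV_range hW' (psi h hq u hu W')).ge (Set.mem_univ (t₂ t))
  have e2 : ⊤ ≤ (t₁ ≫ u) ⁻¹ᵁ W' := by
    intro t _
    exact (preimage_V' h hq u hu W').le (et (Set.mem_univ t))
  refine hom_ext_of_appLE hW' _ _ e1 e2 ?_
  have eV : ⊤ ≤ (uV h hq u hu hW') ⁻¹ᵁ W' := (toV_range hW' (psi h hq u hu W')).ge
  have hA : (uV h hq u hu hW').appLE W' ⊤ eV = psi h hq u hu W' := toV_appLE _ _
  rw [← Scheme.Hom.appLE_comp_appLE _ _ W' ⊤ ⊤ eV (by simp), hA,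
    ← Scheme.Hom.appLE_comp_appLE _ _ W' (h ⁻¹ᵁ (V' h hq u hu W')) ⊤
      (preimage_V' h hq u hu W').le et, psi, Category.assoc, Category.assoc]
  congr 1
  rw [IsIso.inv_comp_eq]
  have h1 : h.app (V' h hq u hu W') =
      h.appLE (V' h hq u hu W') (h ⁻¹ᵁ (V' h hq u hu W')) le_rfl := by
    rw [Scheme.Hom.appLE_eq_app]
  have h2 : t₂.appLE ⊤ ⊤ (by simp) = t₂.appTop := by simp [Scheme.Hom.appLE]
  rw [h1, Scheme.Hom.appLE_comp_appLE, h2, ← appLE_ι_top t₂ (by simp)]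
  exact (appLE_congr_hom hcomm _ _ _).symm

end quot

section quot2

variable {U V W : Scheme.{u}} (h : U ⟶ V) [Surjective h] [IsIso h.c]
  (hq : Topology.IsQuotientMap h.base) (u : U ⟶ W)
  (hu : ∀ x y : U, h.base x = h.base y → u.base x = u.base y)

lemma cov_top : TopologicalSpace.IsOpenCover (fun W' : W.affineOpens => V' h hq u hu W'.1) := by
  rw [TopologicalSpace.IsOpenCover, eq_top_iff]
  intro x _
  obtain ⟨_, ⟨W', hW' : IsAffineOpen W', rfl⟩, hxW', -⟩ :=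
    W.isBasis_affineOpens.exists_subset_of_mem_open (Set.mem_univ (v₀ h hq u hu x)) isOpen_univ
  exact TopologicalSpace.Opens.mem_iSup.mpr ⟨⟨W', hW'⟩, hxW'⟩

noncomputable def cov' : V.OpenCover :=
  V.openCoverOfIsOpenCover (fun W' : W.affineOpens => V' h hq u hu W'.1) (cov_top h hq u hu)

lemma compat (i j : W.affineOpens) :
    pullback.fst (V' h hq u hu i.1).ι (V' h hq u hu j.1).ι ≫ uV h hq u hu i.2 =
      pullback.snd (V' h hq u hu i.1).ι (V' h hq u hu j.1).ι ≫ uV h hq u hu j.2 := by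
  set Oi := V' h hq u hu i.1
  set Oj := V' h hq u hu j.1
  have sq := isPullback_opens_inf Oi Oj
  rw [← cancel_epi sq.isoPullback.hom, ← Category.assoc, ← Category.assoc,
    sq.isoPullback_hom_fst, sq.isoPullback_hom_snd]
  haveI := epi_restrict h (Oi ⊓ Oj)
  rw [← cancel_epi (h ∣_ (Oi ⊓ Oj))]
  have h1 : (h ∣_ (Oi ⊓ Oj)) ≫ V.homOfLE inf_le_left ≫ uV h hq u hu i.2 =
      (h ⁻¹ᵁ (Oi ⊓ Oj)).ι ≫ u := by
    rw [← Category.assoc]
    apply uV_fac
    rw [Category.assoc, Scheme.homOfLE_ι, morphismRestrict_ι]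
  have h2 : (h ∣_ (Oi ⊓ Oj)) ≫ V.homOfLE inf_le_right ≫ uV h hq u hu j.2 =
      (h ⁻¹ᵁ (Oi ⊓ Oj)).ι ≫ u := by
    rw [← Category.assoc]
    apply uV_fac
    rw [Category.assoc, Scheme.homOfLE_ι, morphismRestrict_ι]
  rw [h1, h2]

noncomputable def vGlue : V ⟶ W :=
  (cov' h hq u hu).glueMorphisms (fun W' => uV h hq u hu W'.2) (fun i j => compat h hq u hu i j)

lemma ι_vGlue (i : W.affineOpens) :
    (V' h hq u hu i.1).ι ≫ vGlue h hq u hu = uV h hq u hu i.2 :=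
  (cov' h hq u hu).ι_glueMorphisms _ _ i

lemma h_vGlue : h ≫ vGlue h hq u hu = u := by
  apply ((cov' h hq u hu).pullback₁ h).hom_ext
  intro i
  show pullback.fst h (V' h hq u hu i.1).ι ≫ h ≫ vGlue h hq u hu =
    pullback.fst h (V' h hq u hu i.1).ι ≫ u
  rw [pullback.condition_assoc, ι_vGlue]
  exact uV_fac h hq u hu i.2 _ _ pullback.condition

end quot2


/-- Let h : U → V be a surjective morphism of schemes such that the map of sheaves of rings O_V → h_*O_U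
is an isomorphism and the underlying space of V carries the quotient topology of that of U. Then for
every scheme W, composition with h is a bijection from the morphisms V → W onto the morphisms U → W
whose underlying map is constant on each fibre of h. -/
theorem result {U V : Scheme.{u}} (h : U ⟶ V) [Surjective h]
    [IsIso h.c] (hq : Topology.IsQuotientMap h.base) (W : Scheme.{u}) :
    (∀ v₁ v₂ : V ⟶ W, h ≫ v₁ = h ≫ v₂ → v₁ = v₂) ∧
      ∀ u : U ⟶ W, (∀ x y : U, h.base x = h.base y → u.base x = u.base y) → ∃ v : V ⟶ W, h ≫ v = u := by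
  constructor
  · intro v₁ v₂ heq
    haveI : Epi h := by
      apply epi_of_app_injective
      intro O
      exact ((ConcreteCategory.isIso_iff_bijective _).mp (isIso_app h O)).1
    exact (cancel_epi h).mp heq
  · intro u hu
    exact ⟨vGlue h hq u hu, h_vGlue h hq u hu⟩

end Groth.Agent.S3567
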