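import Groth.Statements.S3568
import Groth.Agent.Lib.Helper7.BiratIso
import Groth.Agent.S0415

set_option autoImplicit false
universe u
open CategoryTheory CategoryTheory.Limits AlgebraicGeometry
open EGA2

namespace Groth.Agent.S3568

/-- The residue map out of a stalk which is a field is bijective. -/
theorem bijective_residue_of_isField {X : Scheme.{u}} (x : X)
    (hx : IsField (X.presheaf.stalk x)) : Function.Bijective (X.residue x).hom := by
  letI := hx.toField
  refine ⟨RingHom.injective _, ?_⟩
  exact Ideal.Quotient.mk_surjective

/-- Let U be an integral scheme, V a normal integral scheme (all local rings integrally closed domains)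
and h : U → V a morphism which is universally closed, radicial (universally injective) and
birational (it sends the generic point of U to that of V and induces an isomorphism of the residue
fields there). Then h is an isomorphism. (The source assumes only V normal; integrality of V, needed
here to speak of its generic point, follows from the other hypotheses.) -/
theorem result {U V : Scheme.{u}} [AlgebraicGeometry.IsIntegral U] [AlgebraicGeometry.IsIntegral V]
    (hN : Pi1.IsNormalScheme V) (h : U ⟶ V) [UniversallyClosed h]
    [UniversallyInjective h] (hgen : h.base (genericPoint U) = genericPoint V)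
    (hbir : Function.Bijective (h.residueFieldMap (genericPoint U)).hom) :
    IsIso h := by
  classical
  open Groth.Agent.Lib.Helper7 in
  have hsurj : Surjective h := by
    refine ⟨?_⟩
    have h1 : IsClosed (Set.range h) := h.isClosedMap.isClosed_range
    have h2 : Dense (Set.range h) := by
      have hd : Dense ({genericPoint V} : Set V) := by
        rw [dense_iff_closure_eq]
        exact (genericPoint_spec V)
      refine hd.mono ?_
      rintro _ rfl
      exact ⟨_, hgen⟩
    exact Set.range_eq_univ.mp (h1.closure_eq ▸ h2.closure_eq)
  have huh : FlatMor.IsUnivHomeo h := by
    intro X' Y' i₁ i₂ f' hf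
    have hs : Surjective f' := MorphismProperty.of_isPullback (P := @Surjective) hf.flip hsurj
    change IsHomeomorph f'
    rw [isHomeomorph_iff_continuous_isClosedMap_bijective]
    exact ⟨f'.continuous, UniversallyClosed.universally_isClosedMap i₁ i₂ f' hf,
      UniversallyInjective.universally_injective i₁ i₂ f' hf, hs.surj⟩
  haveI hint : IsIntegralHom h := ((Groth.Agent.S0415.result h).mp huh).1
  refine BiratIso.isIso_of_isIntegralHom_of_birational hN h hgen ?_
  have hU := bijective_residue_of_isField (genericPoint U)
    (BiratIso.isField_stalk_of_eq_genericPoint' _ rfl)
  have hV := bijective_residue_of_isField (h (genericPoint U))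
    (BiratIso.isField_stalk_of_eq_genericPoint' _ hgen)
  have hcomm : ∀ c, (U.residue (genericPoint U)).hom ((h.stalkMap (genericPoint U)).hom c) =
      (h.residueFieldMap (genericPoint U)).hom ((V.residue (h (genericPoint U))).hom c) := by
    intro c
    have := Scheme.residue_residueFieldMap h (genericPoint U)
    exact congr($(this).hom c).symm
  refine ⟨fun a b hab => ?_, fun c => ?_⟩
  · apply hV.1
    apply hbir.1
    rw [← hcomm, ← hcomm, hab]
  · obtain ⟨d, hd⟩ := hbir.2 ((U.residue (genericPoint U)).hom c)
    obtain ⟨e, rfl⟩ := hV.2 d
    refine ⟨e, hU.1 ?_⟩
    rw [hcomm, hd]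

end Groth.Agent.S3568
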