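import Groth.Statements.S3570
import Mathlib.AlgebraicGeometry.Morphisms.IsIso

set_option autoImplicit false
universe u
open CategoryTheory CategoryTheory.Limits AlgebraicGeometry
open EGA2

namespace Groth.Agent.S3570

/-- Let f : X → S and g : Y → S be affine morphisms and h : Y → X an S-morphism. Then h is an
isomorphism if and only if A(h) : f_*O_X → g_*O_Y is an isomorphism (of presheaves of rings on S). -/
theorem result {X Y S : Scheme.{u}} (f : X ⟶ S) [IsAffineHom f] (g : Y ⟶ S)
    [IsAffineHom g] (h : Y ⟶ X) (w : h ≫ f = g) :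
    IsIso h ↔ IsIso (AffAlg.algHom f g h w) := by
  subst w
  constructor
  · intro hiso
    have : IsIso h.c := PresheafedSpace.c_isIso_of_iso h.toPshHom
    simp only [AffAlg.algHom]
    infer_instance
  · intro hiso
    have happ : ∀ U : S.affineOpens, IsIso (h.app (f ⁻¹ᵁ U.1)) := by
      intro U
      have h1 : IsIso ((AffAlg.algHom f (h ≫ f) h rfl).app (Opposite.op U.1)) :=
        NatIso.isIso_app_of_isIso _ _
      simp only [AffAlg.algHom] at h1
      exact h1
    have hcov : ⨆ U : S.affineOpens, (f ⁻¹ᵁ U.1) = ⊤ := by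
      rw [← Scheme.Hom.preimage_iSup, iSup_affineOpens_eq_top]
      rfl
    rw [← MorphismProperty.isomorphisms.iff]
    refine (@HasAffineProperty.iff_of_iSup_eq_top (MorphismProperty.isomorphisms Scheme) _
      AlgebraicGeometry.instHasAffinePropertyIsomorphismsSchemeAndIsAffineIsIsoCommRingCatAppTop
      _ _ h _
      (fun U : S.affineOpens => ⟨f ⁻¹ᵁ U.1, (show IsAffineOpen U.1 from U.2).preimage f⟩) hcov).mpr ?_
    intro U
    constructor
    · exact (show IsAffineOpen U.1 from U.2).preimage (h ≫ f)
    · rw [morphismRestrict_appTop]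
      have key : ∀ W : X.Opens, W = f ⁻¹ᵁ U.1 → IsIso (h.app W) := by
        rintro _ rfl
        exact happ U
      have := key ((f ⁻¹ᵁ U.1).ι ''ᵁ ⊤) (by simp)
      refine IsIso.comp_isIso' this ?_
      exact Functor.map_isIso _ _

end Groth.Agent.S3570
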