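import Groth.Statements.S3575
import Groth.Agent.Lib.Proj.ConeRetract

set_option autoImplicit false
universe u
open CategoryTheory CategoryTheory.Limits AlgebraicGeometry
open EGA2

namespace Groth.Agent.S3575

open Groth.Agent.Lib.Proj.ConeRetract HomogeneousLocalization in
/-- key pointwise fact: on the chart `g`, `π x ∈ D₊(h)` iff `h ∉ x`. -/
lemma key {R A : Type u} [CommRing R] [CommRing A] [Algebra R A] (𝒜 : ℕ → Submodule R A)
    [GradedAlgebra 𝒜] (π : (Cone.pointed 𝒜 : Scheme.{u}) ⟶ Proj 𝒜)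
    (hπ : ∀ (d : ℕ) (f : A) (hd : 0 < d) (hf : f ∈ 𝒜 d),
        Cone.chart hf hd ≫ π =
          Spec.map (CommRingCat.ofHom (algebraMap (HomogeneousLocalization.Away 𝒜 f) (Localization.Away f))) ≫
            Proj.awayι 𝒜 f hf hd)
    {dg : ℕ} {g : A} (hdg : 0 < dg) (hg : g ∈ 𝒜 dg)
    (y : Spec (CommRingCat.of (Localization.Away g)))
    {e : ℕ} {h : A} (he : 0 < e) (hh : h ∈ 𝒜 e) :
    π.base ((Cone.chart hg hdg).base y) ∈ Proj.basicOpen 𝒜 h ↔
      h ∉ ((Cone.pointed 𝒜).ι.base ((Cone.chart hg hdg).base y)).asIdeal := by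
  have h1 : π.base ((Cone.chart hg hdg).base y) = (Proj.awayι 𝒜 g hg hdg).base
      ((Spec.map (CommRingCat.ofHom (algebraMap (Away 𝒜 g) (Localization.Away g)))).base y) :=
    congrArg (fun m => m.base y) (hπ dg g hdg hg)
  have h2 : (Cone.pointed 𝒜).ι.base ((Cone.chart hg hdg).base y) =
      (Spec.map (CommRingCat.ofHom (algebraMap A (Localization.Away g)))).base y :=
    congrArg (fun m => m.base y) (chart_ι hg hdg)
  rw [h1, h2]
  have h3 := Proj.awayι_preimage_basicOpen 𝒜 hg hdg hh he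
  have h4 : (Proj.awayι 𝒜 g hg hdg).base
      ((Spec.map (CommRingCat.ofHom (algebraMap (Away 𝒜 g) (Localization.Away g)))).base y) ∈
        Proj.basicOpen 𝒜 h ↔
      ((Spec.map (CommRingCat.ofHom (algebraMap (Away 𝒜 g) (Localization.Away g)))).base y) ∈
        (Proj.awayι 𝒜 g hg hdg ⁻¹ᵁ Proj.basicOpen 𝒜 h) := Iff.rfl
  rw [h4, h3]
  show algebraMap (Away 𝒜 g) (Localization.Away g) (Away.isLocalizationElem hg hh) ∉ y.asIdeal ↔
    algebraMap A (Localization.Away g) h ∉ y.asIdeal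
  rw [HomogeneousLocalization.algebraMap_apply, Away.val_mk, Localization.mk_eq_mk',
    IsLocalization.mk'_mem_iff, map_pow, y.isPrime.pow_mem_iff_mem _ hdg]

open Groth.Agent.Lib.Proj.ConeRetract in
lemma exists_not_mem {R A : Type u} [CommRing R] [CommRing A] [Algebra R A] (𝒜 : ℕ → Submodule R A)
    [GradedAlgebra 𝒜] (x : (Cone.pointed 𝒜 : Scheme.{u})) :
    ∃ (d : ℕ) (g : A), 0 < d ∧ g ∈ 𝒜 d ∧ g ∉ ((Cone.pointed 𝒜).ι.base x).asIdeal := by
  obtain ⟨d, g, hd, hg, y, rfl⟩ := exists_chart x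
  refine ⟨d, g, hd, hg, ?_⟩
  have h2 : (Cone.pointed 𝒜).ι.base ((Cone.chart hg hd).base y) =
      (Spec.map (CommRingCat.ofHom (algebraMap A (Localization.Away g)))).base y :=
    congrArg (fun m => m.base y) (chart_ι hg hd)
  rw [h2]
  intro hmem
  have h3 : algebraMap A (Localization.Away g) g ∈ y.asIdeal := hmem
  exact y.isPrime.ne_top (Ideal.eq_top_of_isUnit_mem _ h3 (IsLocalization.Away.algebraMap_isUnit g))

open Groth.Agent.Lib.Proj.ConeRetract in
lemma preimage_coneOpen_eq {R A : Type u} [CommRing R] [CommRing A] [Algebra R A]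
    (𝒜 : ℕ → Submodule R A) [GradedAlgebra 𝒜] {d : ℕ} {g : A} (hd : 0 < d) (hg : g ∈ 𝒜 d) :
    (Cone.pointed 𝒜).ι ⁻¹ᵁ Cone.coneOpen g = (Cone.chart hg hd).opensRange := by
  ext x
  constructor
  · intro hx
    have hx' : (Cone.pointed 𝒜).ι.base x ∈ (PrimeSpectrum.basicOpen g : Set (PrimeSpectrum A)) := hx
    rw [← PrimeSpectrum.localization_away_comap_range (Localization.Away g) g] at hx'
    obtain ⟨y, hy⟩ := hx'
    refine ⟨y, ?_⟩
    apply (Cone.pointed 𝒜).ι.isOpenEmbedding.injective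
    have h3 := congrArg (fun m => m.base y) (chart_ι (𝒜 := 𝒜) hg hd)
    exact h3.trans hy
  · rintro ⟨y, rfl⟩
    have h2 : (Cone.pointed 𝒜).ι.base ((Cone.chart hg hd).base y) =
        (Spec.map (CommRingCat.ofHom (algebraMap A (Localization.Away g)))).base y :=
      congrArg (fun m => m.base y) (chart_ι hg hd)
    show (Cone.pointed 𝒜).ι.base ((Cone.chart hg hd).base y) ∈
      (PrimeSpectrum.basicOpen g : Set (PrimeSpectrum A))
    rw [h2, ← PrimeSpectrum.localization_away_comap_range (Localization.Away g) g]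
    exact ⟨y, rfl⟩

/-- Let S be a commutative ℕ-graded R-algebra, E the pointed affine cone (the open complement of the
vertex V(S_+) in Spec S) and X = Proj S, and let π : E → X be the canonical retraction,
characterised (hypothesis hπ) by its agreement on each chart Spec S_f → E, f homogeneous of positive
degree, with Spec of S_(f) → S_f followed by the standard open immersion Spec S_(f) → X. Then π is
an affine and surjective morphism; the inverse image under π of D_+(f) is the open D(f) ∩ E = D(f)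
of E for every homogeneous f of positive degree; and π sends a point of E, a prime p of S not
containing S_+, to the homogeneous prime whose homogeneous elements are those of p. -/
theorem result {R A : Type u} [CommRing R] [CommRing A] [Algebra R A] (𝒜 : ℕ → Submodule R A) [GradedAlgebra 𝒜]
    (π : (Cone.pointed 𝒜 : Scheme.{u}) ⟶ Proj 𝒜)
    (hπ : ∀ (d : ℕ) (f : A) (hd : 0 < d) (hf : f ∈ 𝒜 d),
        Cone.chart hf hd ≫ π =
          Spec.map (CommRingCat.ofHom (algebraMap (HomogeneousLocalization.Away 𝒜 f) (Localization.Away f))) ≫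
            Proj.awayι 𝒜 f hf hd) :
    IsAffineHom π ∧ Surjective π ∧
      (∀ (d : ℕ) (f : A), 0 < d → f ∈ 𝒜 d →
        π ⁻¹ᵁ Proj.basicOpen 𝒜 f = (Cone.pointed 𝒜).ι ⁻¹ᵁ Cone.coneOpen f) ∧
      ∀ p : (Cone.pointed 𝒜 : Scheme.{u}),
        (π.base p).asHomogeneousIdeal = (((Cone.pointed 𝒜).ι.base p).asIdeal).homogeneousCore 𝒜 := by
  classical
  have c3 : ∀ (x : (Cone.pointed 𝒜 : Scheme.{u})) {e : ℕ} {h : A} (he : 0 < e) (hh : h ∈ 𝒜 e),
      π.base x ∈ Proj.basicOpen 𝒜 h ↔ h ∉ ((Cone.pointed 𝒜).ι.base x).asIdeal := by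
    intro x e h he hh
    obtain ⟨d, g, hd, hg, y, rfl⟩ := Groth.Agent.Lib.Proj.ConeRetract.exists_chart x
    exact key 𝒜 π hπ hd hg y he hh
  have c3' : ∀ (d : ℕ) (f : A), 0 < d → f ∈ 𝒜 d →
      π ⁻¹ᵁ Proj.basicOpen 𝒜 f = (Cone.pointed 𝒜).ι ⁻¹ᵁ Cone.coneOpen f := by
    intro d f hd hf
    ext x
    exact c3 x hd hf
  have c4 : ∀ p : (Cone.pointed 𝒜 : Scheme.{u}),
      (π.base p).asHomogeneousIdeal =
        (((Cone.pointed 𝒜).ι.base p).asIdeal).homogeneousCore 𝒜 := by
    intro p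
    have hom_mem : ∀ (e : ℕ) (h : A), h ∈ 𝒜 e →
        (h ∈ (π.base p).asHomogeneousIdeal ↔ h ∈ ((Cone.pointed 𝒜).ι.base p).asIdeal) := by
      intro e h hh
      have pos : ∀ (e : ℕ) (h : A), 0 < e → h ∈ 𝒜 e →
          (h ∈ (π.base p).asHomogeneousIdeal ↔ h ∈ ((Cone.pointed 𝒜).ι.base p).asIdeal) := by
        intro e h he hh
        have h1 := c3 p he hh
        rw [Proj.mem_basicOpen] at h1
        exact not_iff_not.1 h1
      rcases Nat.eq_zero_or_pos e with rfl | he
      · obtain ⟨d, g, hd, hg, hgp⟩ := exists_not_mem 𝒜 p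
        have hgπ : g ∉ (π.base p).asHomogeneousIdeal := fun hc => hgp ((pos d g hd hg).1 hc)
        have hmul : h * g ∈ 𝒜 (0 + d) := SetLike.mul_mem_graded hh hg
        rw [zero_add] at hmul
        have h2 := pos d (h * g) hd hmul
        constructor
        · intro hc
          have h3 := h2.1 (Ideal.mul_mem_right g _ hc)
          exact (((Cone.pointed 𝒜).ι.base p).isPrime.mem_or_mem h3).resolve_right hgp
        · intro hc
          have h3 := h2.2 (Ideal.mul_mem_right g _ hc)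
          exact ((π.base p).isPrime.mem_or_mem h3).resolve_right hgπ
      · exact pos e h he hh
    apply HomogeneousIdeal.toIdeal_injective
    ext a
    rw [(π.base p).asHomogeneousIdeal.isHomogeneous.mem_iff,
      ((((Cone.pointed 𝒜).ι.base p).asIdeal).homogeneousCore 𝒜).isHomogeneous.mem_iff]
    refine forall_congr' fun i => ?_
    have hi : (DirectSum.decompose 𝒜 a i : A) ∈ 𝒜 i := (DirectSum.decompose 𝒜 a i).2
    refine Iff.trans (hom_mem i _ hi) ?_
    constructor
    · intro hc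
      exact Ideal.mem_homogeneousCore_of_homogeneous_of_mem ⟨i, hi⟩ hc
    · intro hc
      exact Ideal.toIdeal_homogeneousCore_le 𝒜 _ hc
  have hsurj : Function.Surjective π.base := by
    intro z
    have hz : (⟨z.asHomogeneousIdeal.toIdeal, z.isPrime⟩ : PrimeSpectrum A) ∈ Cone.pointed 𝒜 := by
      intro hmem
      exact z.not_irrelevant_le ((PrimeSpectrum.mem_zeroLocus _ _).1 hmem)
    refine ⟨⟨_, hz⟩, ?_⟩
    apply ProjectiveSpectrum.ext
    exact (c4 _).trans (HomogeneousIdeal.toIdeal_homogeneousCore_eq_self z.asHomogeneousIdeal)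
  refine ⟨?_, ⟨hsurj⟩, c3', c4⟩
  apply isAffineHom_of_forall_exists_isAffineOpen
  intro z
  obtain ⟨x, rfl⟩ := hsurj z
  obtain ⟨d, g, hd, hg, hgp⟩ := exists_not_mem 𝒜 x
  refine ⟨Proj.basicOpen 𝒜 g, (c3 x hd hg).2 hgp, Proj.isAffineOpen_basicOpen 𝒜 g hg hd, ?_⟩
  rw [c3' d g hd hg, preimage_coneOpen_eq 𝒜 hd hg]
  exact isAffineOpen_opensRange _

end Groth.Agent.S3575
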