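import Groth.Statements.S3576
import Groth.Agent.S3575
import Groth.Agent.Lib.Proj.AwayLaurent

set_option autoImplicit false
universe u
open CategoryTheory CategoryTheory.Limits AlgebraicGeometry
open EGA2

namespace Groth.Agent.S3576

open Groth.Agent.Lib.Proj.ConeRetract Groth.Agent.Lib.Proj.AwayLaurent HomogeneousLocalization
open LaurentPolynomial TensorProduct

lemma finiteType_away {R A : Type u} [CommRing R] [CommRing A] [Algebra R A] (𝒜 : ℕ → Submodule R A)
    [GradedAlgebra 𝒜] {f : A} (hf : f ∈ 𝒜 1) :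
    Algebra.FiniteType (Away 𝒜 f) (Localization.Away f) :=
  Algebra.FiniteType.equiv inferInstance (algEquiv 𝒜 hf)

lemma exists_deg_one_not_mem {R A : Type u} [CommRing R] [CommRing A] [Algebra R A]
    (𝒜 : ℕ → Submodule R A) [GradedAlgebra 𝒜]
    (hgen : (HomogeneousIdeal.irrelevant 𝒜).toIdeal = Ideal.span (𝒜 1 : Set A))
    (I : Ideal A) (hI : ¬ (HomogeneousIdeal.irrelevant 𝒜).toIdeal ≤ I) : ∃ f ∈ 𝒜 1, f ∉ I := by
  by_contra hcon
  push Not at hcon
  apply hI
  rw [hgen, Ideal.span_le]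
  exact fun f hf => hcon f hf

lemma locallyOfFiniteType {R A : Type u} [CommRing R] [CommRing A] [Algebra R A]
    (𝒜 : ℕ → Submodule R A) [GradedAlgebra 𝒜]
    (hgen : (HomogeneousIdeal.irrelevant 𝒜).toIdeal = Ideal.span (𝒜 1 : Set A))
    (π : (Cone.pointed 𝒜 : Scheme.{u}) ⟶ Proj 𝒜)
    (hπ : ∀ (d : ℕ) (f : A) (hd : 0 < d) (hf : f ∈ 𝒜 d),
        Cone.chart hf hd ≫ π =
          Spec.map (CommRingCat.ofHom (algebraMap (HomogeneousLocalization.Away 𝒜 f) (Localization.Away f))) ≫
            Proj.awayι 𝒜 f hf hd) : LocallyOfFiniteType π := by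
  have : IsZariskiLocalAtSource @LocallyOfFiniteType :=
    HasRingHomProperty.instIsZariskiLocalAtSource
  apply IsZariskiLocalAtSource.of_iSup_eq_top (P := @LocallyOfFiniteType)
    (fun i : {f : A // f ∈ 𝒜 1} => (Cone.chart i.2 Nat.one_pos).opensRange)
  · rw [eq_top_iff]
    intro x _
    have hx : ¬ (HomogeneousIdeal.irrelevant 𝒜).toIdeal ≤ ((Cone.pointed 𝒜).ι.base x).asIdeal := by
      intro hle
      exact x.2 ((PrimeSpectrum.mem_zeroLocus _ _).2 hle)
    obtain ⟨f, hf, hfx⟩ := exists_deg_one_not_mem 𝒜 hgen _ hx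
    refine TopologicalSpace.Opens.mem_iSup.2 ⟨⟨f, hf⟩, ?_⟩
    rw [← Groth.Agent.S3575.preimage_coneOpen_eq 𝒜 Nat.one_pos hf]
    exact hfx
  · intro i
    have h1 : (Cone.chart i.2 Nat.one_pos).opensRange.ι ≫ π =
        (Cone.chart i.2 Nat.one_pos).isoOpensRange.inv ≫ (Cone.chart i.2 Nat.one_pos ≫ π) := by
      rw [← Category.assoc]
      congr 1
      rw [Iso.eq_inv_comp]
      exact Scheme.Hom.isoOpensRange_hom_ι _
    rw [h1, hπ 1 i.1 Nat.one_pos i.2]
    have h2 : LocallyOfFiniteType (Spec.map (CommRingCat.ofHom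
        (algebraMap (Away 𝒜 i.1) (Localization.Away i.1)))) := by
      rw [HasRingHomProperty.Spec_iff (P := @LocallyOfFiniteType)]
      exact RingHom.finiteType_algebraMap.2 (finiteType_away 𝒜 i.2)
    infer_instance

/-- Over an affine base Spec R: let S be a graded R-algebra whose irrelevant ideal is generated by its
degree-one elements, E the pointed affine cone of S and π : E → X = Proj S the canonical retraction
(the morphism restricting on each chart D(f), f homogeneous of positive degree, to Spec S_f → Spec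
S_(f) → Proj S). Then π is of finite type, and for every point x of X the fibre of π at x is
isomorphic over the residue field κ(x) to Spec κ(x)[T, T⁻¹]. -/
theorem result {R A : Type u} [CommRing R] [CommRing A] [Algebra R A] (𝒜 : ℕ → Submodule R A) [GradedAlgebra 𝒜]
    (hgen : (HomogeneousIdeal.irrelevant 𝒜).toIdeal = Ideal.span (𝒜 1 : Set A))
    (π : (Cone.pointed 𝒜 : Scheme.{u}) ⟶ Proj 𝒜)
    (hπ : ∀ (d : ℕ) (f : A) (hd : 0 < d) (hf : f ∈ 𝒜 d),
        Cone.chart hf hd ≫ π =
          Spec.map (CommRingCat.ofHom (algebraMap (HomogeneousLocalization.Away 𝒜 f) (Localization.Away f))) ≫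
            Proj.awayι 𝒜 f hf hd)
    (x : Proj 𝒜) :
    LocallyOfFiniteType π ∧ QuasiCompact π ∧
      ∃ e : pullback π ((Proj 𝒜).fromSpecResidueField x) ≅
          Spec (CommRingCat.of (LaurentPolynomial ((Proj 𝒜).residueField x))),
        e.hom ≫ Spec.map (CommRingCat.ofHom (algebraMap ((Proj 𝒜).residueField x)
          (LaurentPolynomial ((Proj 𝒜).residueField x)))) = pullback.snd π ((Proj 𝒜).fromSpecResidueField x) := by
  obtain ⟨haff, hsurj, c3, c4⟩ := Groth.Agent.S3575.result 𝒜 π hπ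
  refine ⟨locallyOfFiniteType 𝒜 hgen π hπ, inferInstance, ?_⟩
  obtain ⟨f, hf, hxf⟩ := exists_deg_one_not_mem 𝒜 hgen x.asHomogeneousIdeal.toIdeal
    x.not_irrelevant_le
  have sq1 : IsPullback
      (Spec.map (CommRingCat.ofHom (algebraMap (Away 𝒜 f) (Localization.Away f))))
      (Cone.chart hf Nat.one_pos) (Proj.awayι 𝒜 f hf Nat.one_pos) π :=
    IsOpenImmersion.isPullback _ _ _ _ (hπ 1 f Nat.one_pos hf) (by
      rw [Proj.opensRange_awayι, c3 1 f Nat.one_pos hf,
        Groth.Agent.S3575.preimage_coneOpen_eq 𝒜 Nat.one_pos hf])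
  have hrange : Set.range ((Proj 𝒜).fromSpecResidueField x).base ⊆
      Set.range (Proj.awayι 𝒜 f hf Nat.one_pos).base := by
    rintro _ ⟨y, rfl⟩
    have h1 : ((Proj 𝒜).fromSpecResidueField x).base y = x :=
      (Proj 𝒜).fromSpecResidueField_apply x y
    rw [h1]
    have h2 : x ∈ (Proj.awayι 𝒜 f hf Nat.one_pos).opensRange := by
      rw [Proj.opensRange_awayι]; exact hxf
    exact h2
  have hk' := IsOpenImmersion.lift_fac (Proj.awayι 𝒜 f hf Nat.one_pos)
    ((Proj 𝒜).fromSpecResidueField x) hrange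
  generalize IsOpenImmersion.lift (Proj.awayι 𝒜 f hf Nat.one_pos)
    ((Proj 𝒜).fromSpecResidueField x) hrange = k' at hk'
  let _ : Algebra (Away 𝒜 f) ((Proj 𝒜).residueField x) := (Spec.preimage k').hom.toAlgebra
  have hk'' : k' = Spec.map (CommRingCat.ofHom
      (algebraMap (Away 𝒜 f) ((Proj 𝒜).residueField x))) := (Spec.map_preimage k').symm
  rw [hk''] at hk'
  have sq2 := IsPullback.of_hasPullback
    (Spec.map (CommRingCat.ofHom (algebraMap (Away 𝒜 f) ((Proj 𝒜).residueField x))))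
    (Spec.map (CommRingCat.ofHom (algebraMap (Away 𝒜 f) (Localization.Away f))))
  have sq3 := (sq2.paste_vert sq1).flip
  rw [hk'] at sq3
  let E : ((Proj 𝒜).residueField x) ⊗[Away 𝒜 f] Localization.Away f ≃ₐ[(Proj 𝒜).residueField x]
      ((Proj 𝒜).residueField x)[T;T⁻¹] :=
    (Algebra.TensorProduct.congr
      (AlgEquiv.refl : ((Proj 𝒜).residueField x) ≃ₐ[(Proj 𝒜).residueField x] _)
      (algEquiv 𝒜 hf).symm).trans
      (AddMonoidAlgebra.scalarTensorEquiv (Away 𝒜 f) ((Proj 𝒜).residueField x))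
  let i := E.toRingEquiv.toCommRingCatIso
  refine ⟨sq3.isoPullback.symm ≪≫
    pullbackSpecIso (Away 𝒜 f) ((Proj 𝒜).residueField x) (Localization.Away f) ≪≫
      (Scheme.Spec.mapIso i.op).symm, ?_⟩
  have h1 : Spec.map i.inv ≫ Spec.map (CommRingCat.ofHom (algebraMap ((Proj 𝒜).residueField x)
      (LaurentPolynomial ((Proj 𝒜).residueField x)))) =
      Spec.map (CommRingCat.ofHom (algebraMap ((Proj 𝒜).residueField x)
        (((Proj 𝒜).residueField x) ⊗[Away 𝒜 f] Localization.Away f))) := by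
    rw [← Spec.map_comp]
    congr 1
    ext r
    exact E.symm.commutes r
  show (sq3.isoPullback.inv ≫ (pullbackSpecIso (Away 𝒜 f) ((Proj 𝒜).residueField x)
    (Localization.Away f)).hom ≫ Spec.map i.inv) ≫ _ = _
  rw [Category.assoc, Category.assoc, h1, pullbackSpecIso_hom_fst']
  exact sq3.isoPullback_inv_snd

end Groth.Agent.S3576
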