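import Groth.Statements.S3579
import Groth.Agent.Lib.Proj.CohQuot

set_option autoImplicit false
universe u
open CategoryTheory CategoryTheory.Limits AlgebraicGeometry
open EGA2

namespace Groth.Agent.S3579

/-- Let S be a graded ring whose irrelevant ideal S_+ is generated by finitely many elements of degree
one, X = Proj S, and let F be an O_X-module that is quasi-coherent and of finite type. Then for some
n₀ and all n ≥ n₀, the twist F(n) = F ⊗ O_X(n) is a quotient of a finite free module O_X^k (k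
depending on n); in particular F(n) is generated by finitely many global sections. -/
theorem result {R A : Type u} [CommRing R] [CommRing A] [Algebra R A] (𝒜 : ℕ → Submodule R A) [GradedAlgebra 𝒜]
    (s : Finset A) (hs1 : ∀ f ∈ s, f ∈ 𝒜 1)
    (hs : (HomogeneousIdeal.irrelevant 𝒜).toIdeal = Ideal.span (s : Set A))
    (F : (Proj 𝒜).Modules) (hF : Coh.IsQCoh F) (hFT : CohB1.IsFT F) :
    ∃ n₀ : ℕ, ∀ n : ℕ, n₀ ≤ n →
      ∃ (k : ℕ) (p : FlatMod.freeMod (Proj 𝒜) k ⟶ Twist.twistBy 𝒜 F (n : ℤ)), Epi p := by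
  have hs' : (⨆ i : (s : Set A), Proj.basicOpen 𝒜 (i : A)) = ⊤ := by
    refine Proj.iSup_basicOpen_eq_top 𝒜 (fun i : (s : Set A) => (i : A)) ?_
    rw [hs, Subtype.range_coe_subtype]
    exact le_of_eq rfl
  have hcov : (⨆ f : 𝒜 1, Proj.basicOpen 𝒜 (f : A)) = ⊤ := by
    rw [eq_top_iff, ← hs']
    refine iSup_le fun i => ?_
    exact le_iSup (fun f : 𝒜 1 => Proj.basicOpen 𝒜 (f : A)) ⟨i.1, hs1 i.1 i.2⟩
  have hL := Groth.Agent.Lib.Proj.isAmple_twist_one_of_iSup_eq_top s hs1 hs'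
  have hFq : F.IsQuasicoherent := hF
  have hFt : F.IsFiniteType := hFT
  have hqs : QuasiSeparatedSpace (Proj 𝒜) := Groth.Agent.Lib.Ample.quasiSeparatedSpace_of_isAmple hL
  obtain ⟨n₀, hn₀⟩ := Groth.Agent.Lib.Ample.exists_finite_epi_free_tensorPow_of_isAmple hL F
  refine ⟨n₀, fun n hn => ?_⟩
  obtain ⟨ι, hι, t, ht⟩ := hn₀ n hn
  obtain ⟨e⟩ := Groth.Agent.Lib.Proj.nonempty_twist_iso_tensorPow hcov n
  obtain ⟨r, ⟨ε⟩⟩ := Finite.exists_equiv_fin ι
  let p : (∐ fun _ : ι => Coh.structureModule (Proj 𝒜)) ⟶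
      CohB1.tensorMod F (CohB1.tensorPow (Twist.twist 𝒜 1) n) := Groth.Agent.Lib.Ample.homOfFamily _ t
  have hp : Epi p := ht
  let c : (∐ fun _ : Fin r => Coh.structureModule (Proj 𝒜)) ≅
      ∐ fun _ : ι => Coh.structureModule (Proj 𝒜) :=
    Sigma.reindex ε.symm (fun _ : ι => Coh.structureModule (Proj 𝒜))
  let θ : CohB1.tensorMod F (CohB1.tensorPow (Twist.twist 𝒜 1) n) ≅ Twist.twistBy 𝒜 F (n : ℤ) :=
    Groth.Agent.Lib.QCoh.tensorModCongr (Iso.refl F) e.symm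
  have h2 : Epi (c.hom ≫ p ≫ θ.hom) := epi_comp _ _
  exact ⟨r, c.hom ≫ p ≫ θ.hom, h2⟩

end Groth.Agent.S3579
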