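import Groth.Statements.S3581
import Mathlib.AlgebraicGeometry.Morphisms.IsIso

set_option autoImplicit false
universe u
open CategoryTheory CategoryTheory.Limits AlgebraicGeometry
open EGA2

namespace Groth.Agent.S3581

/-- A homogeneous polynomial of degree `d` in one variable is a monomial. -/
theorem eq_C_mul_X_pow (A : Type u) [CommRing A] (d : ℕ) (p : MvPolynomial (Fin 1) A)
    (hp : p ∈ CohB1.polyGrading 0 A d) :
    p = MvPolynomial.C (MvPolynomial.coeff (Finsupp.single 0 d) p) * MvPolynomial.X 0 ^ d := by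
  have hp' : p.IsHomogeneous d := hp
  ext m
  rw [MvPolynomial.coeff_C_mul, MvPolynomial.coeff_X_pow]
  by_cases hm : Finsupp.single 0 d = m
  · subst hm; simp
  · rw [if_neg hm, mul_zero]
    apply hp'.coeff_eq_zero
    intro hdeg
    apply hm
    refine Finsupp.ext (fun i => ?_)
    have hi : i = 0 := Subsingleton.elim _ _
    subst hi
    rw [Finsupp.degree_eq_sum] at hdeg
    simpa using hdeg.symm

theorem basicOpen_X_eq_top (A : Type u) [CommRing A] :
    Proj.basicOpen (CohB1.polyGrading 0 A) (MvPolynomial.X 0) = ⊤ := by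
  rw [eq_top_iff]
  intro x _
  rw [Proj.mem_basicOpen]
  intro hX
  apply x.not_irrelevant_le
  rw [HomogeneousIdeal.irrelevant_le]
  intro i hi p hp
  have hp' : p ∈ CohB1.polyGrading 0 A i := hp
  rw [eq_C_mul_X_pow A i p hp']
  apply Ideal.mul_mem_left
  exact Ideal.pow_mem_of_mem _ hX i hi

/-- The ring map `A → (A[T]_T)_0`. -/
noncomputable def theta (A : Type u) [CommRing A] :
    A →+* HomogeneousLocalization.Away (CohB1.polyGrading 0 A) (MvPolynomial.X 0) :=
  (HomogeneousLocalization.fromZeroRingHom (CohB1.polyGrading 0 A)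
    (Submonoid.powers (MvPolynomial.X 0))).comp (algebraMap A (CohB1.polyGrading 0 A 0))

theorem val_theta (A : Type u) [CommRing A] (r : A) :
    (theta A r).val = algebraMap (MvPolynomial (Fin 1) A)
      (Localization.Away (MvPolynomial.X 0 : MvPolynomial (Fin 1) A)) (MvPolynomial.C r) := by
  show Localization.mk _ _ = _
  rw [Localization.mk_eq_mk'_apply]
  show IsLocalization.mk' _ _ (1 : Submonoid.powers (MvPolynomial.X 0 : MvPolynomial (Fin 1) A)) = _
  rw [IsLocalization.mk'_one]
  rfl

theorem theta_bijective (A : Type u) [CommRing A] : Function.Bijective (theta A) := by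
  constructor
  · intro a b hab
    have h1 := congrArg HomogeneousLocalization.val hab
    rw [val_theta, val_theta,
      IsLocalization.eq_iff_exists (Submonoid.powers (MvPolynomial.X 0 : MvPolynomial (Fin 1) A))]
      at h1
    obtain ⟨⟨_, n, rfl⟩, hn⟩ := h1
    have h2 := congrArg (MvPolynomial.coeff (Finsupp.single 0 n)) hn
    rw [mul_comm _ (MvPolynomial.C a), mul_comm _ (MvPolynomial.C b), MvPolynomial.coeff_C_mul,
      MvPolynomial.coeff_C_mul, MvPolynomial.coeff_X_pow, if_pos rfl, mul_one, mul_one] at h2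
    exact h2
  · intro z
    have hX0 : (MvPolynomial.X 0 : MvPolynomial (Fin 1) A) ∈ CohB1.polyGrading 0 A 1 :=
      MvPolynomial.isHomogeneous_X A 0
    obtain ⟨n, a, ha, rfl⟩ := HomogeneousLocalization.Away.mk_surjective _ hX0 z
    have ha' : a ∈ CohB1.polyGrading 0 A n := by simpa using ha
    refine ⟨MvPolynomial.coeff (Finsupp.single 0 n) a, ?_⟩
    apply HomogeneousLocalization.val_injective
    rw [val_theta, HomogeneousLocalization.Away.val_mk, Localization.mk_eq_mk'_apply]
    symm
    rw [IsLocalization.mk'_eq_iff_eq_mul]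
    conv_lhs => rw [eq_C_mul_X_pow A n a ha']
    rw [map_mul]

theorem main (A : Type u) [CommRing A] : IsIso (CohB1.ProjSpace.toSpec 0 A) := by
  have hX0 : (MvPolynomial.X 0 : MvPolynomial (Fin 1) A) ∈ CohB1.polyGrading 0 A 1 :=
    MvPolynomial.isHomogeneous_X A 0
  have hι : IsIso (Proj.awayι (CohB1.polyGrading 0 A) (MvPolynomial.X 0) hX0 one_pos) := by
    rw [isIso_iff_isOpenImmersion_and_surjective]
    refine ⟨inferInstance, ⟨fun x => ?_⟩⟩
    have : x ∈ (Proj.awayι (CohB1.polyGrading 0 A) (MvPolynomial.X 0) hX0 one_pos).opensRange := by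
      rw [Proj.opensRange_awayι, basicOpen_X_eq_top]; trivial
    exact this
  have hcomp : IsIso (Proj.awayι (CohB1.polyGrading 0 A) (MvPolynomial.X 0) hX0 one_pos ≫
      Proj.toSpecZero (CohB1.polyGrading 0 A) ≫
        Spec.map (CommRingCat.ofHom (algebraMap A (CohB1.polyGrading 0 A 0)))) := by
    rw [Proj.awayι_toSpecZero_assoc, ← Spec.map_comp, isIso_SpecMap_iff]
    exact theta_bijective A
  exact @IsIso.of_isIso_comp_left _ _ _ _ _
    (Proj.awayι (CohB1.polyGrading 0 A) (MvPolynomial.X 0) hX0 one_pos)
    (Proj.toSpecZero (CohB1.polyGrading 0 A) ≫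
        Spec.map (CommRingCat.ofHom (algebraMap A (CohB1.polyGrading 0 A 0)))) hι hcomp

/-- Over an affine base Spec A, Proj of the graded polynomial algebra A[T] (T of degree one) is
identified with Spec A by its structure morphism: the structure morphism from projective 0-space
over A to Spec A is an isomorphism. -/
theorem result (A : Type u) [CommRing A] :
    IsIso (CohB1.ProjSpace.toSpec 0 A) := by
  exact main A

end Groth.Agent.S3581
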