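import Groth.Statements.S3582
import Mathlib.AlgebraicGeometry.PullbackCarrier

set_option autoImplicit false
universe u
open CategoryTheory CategoryTheory.Limits AlgebraicGeometry
open EGA2

namespace Groth.Agent.S3582

/-- The structure morphism of projective space over a ring has a section. -/
theorem exists_section' (n : ℕ) (R : Type u) [CommRing R] :
    ∃ s : Spec (CommRingCat.of R) ⟶ Proj (CohB1.polyGrading n R),
      s ≫ Proj.toSpecZero (CohB1.polyGrading n R) ≫
        Spec.map (CommRingCat.ofHom (algebraMap R (CohB1.polyGrading n R 0))) = 𝟙 _ := by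
  let X0 : MvPolynomial (Fin (n + 1)) R := MvPolynomial.X 0
  have hX0 : X0 ∈ CohB1.polyGrading n R 1 := MvPolynomial.isHomogeneous_X R 0
  let ev : MvPolynomial (Fin (n + 1)) R →ₐ[R] R :=
    MvPolynomial.aeval (fun i => if i = 0 then (1 : R) else 0)
  have hev : IsUnit (ev X0) := by
    simp [ev, X0]
  let ψ' : Localization.Away X0 →+* R := IsLocalization.Away.lift X0 (g := ev.toRingHom) hev
  let ψ : HomogeneousLocalization.Away (CohB1.polyGrading n R) X0 →+* R :=
    ψ'.comp (algebraMap (HomogeneousLocalization.Away (CohB1.polyGrading n R) X0)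
      (Localization.Away X0))
  refine ⟨Spec.map (CommRingCat.ofHom ψ) ≫ Proj.awayι (CohB1.polyGrading n R) X0 hX0 one_pos, ?_⟩
  rw [Category.assoc, Proj.awayι_toSpecZero_assoc, ← Spec.map_comp, ← Spec.map_comp,
    ← Spec.map_id]
  congr 1
  ext r
  simp only [CommRingCat.hom_comp, CommRingCat.hom_ofHom, RingHom.coe_comp, Function.comp_apply,
    CommRingCat.hom_id, RingHom.id_apply]
  show ψ' _ = r
  have h1 : (algebraMap (HomogeneousLocalization.Away (CohB1.polyGrading n R) X0)
      (Localization.Away X0))
      ((HomogeneousLocalization.fromZeroRingHom (CohB1.polyGrading n R) (Submonoid.powers X0))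
        ((algebraMap R (CohB1.polyGrading n R 0)) r)) =
      algebraMap (MvPolynomial (Fin (n + 1)) R) (Localization.Away X0) (MvPolynomial.C r) := by
    rw [HomogeneousLocalization.algebraMap_apply]
    show Localization.mk _ _ = _
    rw [Localization.mk_eq_mk'_apply]
    show IsLocalization.mk' _ _ (1 : Submonoid.powers X0) = _
    rw [IsLocalization.mk'_one]
    rfl
  rw [h1]
  show (IsLocalization.Away.lift X0 (g := ev.toRingHom) hev) _ = r
  rw [IsLocalization.Away.lift_eq]
  simp [ev]

theorem toSpec_surjective (n : ℕ) (R : Type u) [CommRing R] :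
    Surjective (CohB1.ProjSpace.toSpec n R) := by
  obtain ⟨s, hs⟩ := exists_section' n R
  constructor
  intro y
  refine ⟨s.base y, ?_⟩
  have : (s ≫ CohB1.ProjSpace.toSpec n R).base y = y := by
    have h : s ≫ CohB1.ProjSpace.toSpec n R = 𝟙 _ := hs
    rw [h]; rfl
  exact this

set_option backward.isDefEq.respectTransparency.types false in
/-- For every scheme Y and every r ≥ 0 the structure morphism from projective r-space over Y to Y is
surjective. -/
theorem result (r : ℕ) (Y : Scheme.{u}) :
    Surjective (CohB1.ProjSpaceOver.toBase r Y) := by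
  have := toSpec_surjective r (ULift.{u} ℤ)
  unfold CohB1.ProjSpaceOver.toBase
  exact MorphismProperty.pullback_snd (P := @Surjective) _ _ this

end Groth.Agent.S3582
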