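import Groth.Statements.S3583
import Mathlib.AlgebraicGeometry.Morphisms.ClosedImmersion

set_option autoImplicit false
universe u
open CategoryTheory AlgebraicGeometry Opposite
open EGA2

namespace Groth.Agent.S3583

/-- In the form stated after its proof: let f : X → S and f' : X' → S be affine morphisms and h : X' → X
an S-morphism such that the O_S-algebra homomorphism A(h) : f_*O_X → f'_*O_{X'} is surjective (as a
map of quasi-coherent O_S-modules, i.e. on sections over every affine open of S). Then h is a closed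
immersion. -/
theorem result {X X' S : Scheme.{u}} (f : X ⟶ S) [IsAffineHom f]
    (f' : X' ⟶ S) [IsAffineHom f'] (h : X' ⟶ X) (w : h ≫ f = f')
    (hsurj : ∀ U : S.affineOpens, Function.Surjective ((AffAlg.algHom f f' h w).app (op U.1)).hom) :
    IsClosedImmersion h := by
  subst w
  have happ : ∀ U : S.affineOpens, Function.Surjective (h.app (f ⁻¹ᵁ U.1)).hom := by
    intro U
    have := hsurj U
    simp only [AffAlg.algHom] at this
    exact this
  have hcov : ⨆ U : S.affineOpens, (f ⁻¹ᵁ U.1) = ⊤ := by
    rw [← Scheme.Hom.preimage_iSup, iSup_affineOpens_eq_top]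
    rfl
  refine (@HasAffineProperty.iff_of_iSup_eq_top @IsClosedImmersion _
    IsClosedImmersion.hasAffineProperty _ _ h _
    (fun U : S.affineOpens => ⟨f ⁻¹ᵁ U.1, (show IsAffineOpen U.1 from U.2).preimage f⟩) hcov).mpr ?_
  intro U
  constructor
  · exact (show IsAffineOpen U.1 from U.2).preimage (h ≫ f)
  · rw [morphismRestrict_appTop]
    have key : ∀ W : X.Opens, W = f ⁻¹ᵁ U.1 → Function.Surjective (h.app W).hom := by
      rintro _ rfl
      exact happ U
    have h1 := key ((f ⁻¹ᵁ U.1).ι ''ᵁ ⊤) (by simp)
    intro y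
    obtain ⟨z, hz⟩ := (ConcreteCategory.bijective_of_isIso (X'.presheaf.map (eqToHom
      (image_morphismRestrict_preimage h (f ⁻¹ᵁ U.1) ⊤)).op)).2 y
    obtain ⟨x, hx⟩ := h1 z
    refine ⟨x, ?_⟩
    rw [← hz, ← hx]
    rfl

end Groth.Agent.S3583
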