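import Groth.Statements.S3593
import Mathlib

set_option autoImplicit false
universe u
open CategoryTheory CategoryTheory.Limits AlgebraicGeometry
open EGA2

namespace Groth.Agent.S3593

open Polynomial DirectSum

section Aux

variable {R A : Type u} [CommRing R] [CommRing A] [Algebra R A] (𝒜 : ℕ → Submodule R A)
  [GradedAlgebra 𝒜] {B : Type u} [CommRing B] [Algebra R B] (ℬ : ℕ → Submodule R B)
  [GradedAlgebra ℬ] [Algebra A B] (φ : 𝒜 →+*ᵍ ℬ) (hφ : ∀ a : A, φ a = algebraMap A B a)
  (z : B) (hz : z ∈ ℬ 1)

include hφ hz in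
theorem key (P : A[X]) (N : ℕ) :
    (decompose ℬ (aeval z P) N : B) =
      aeval z (∑ i ∈ Finset.range (N + 1),
        monomial i ((decompose 𝒜 (P.coeff i) (N - i) : A))) := by
  induction P using Polynomial.induction_on' with
  | add p q hp hq =>
    rw [map_add, decompose_add, DirectSum.add_apply, Submodule.coe_add, hp, hq, ← map_add,
      ← Finset.sum_add_distrib]
    congr 1
    apply Finset.sum_congr rfl
    intro i _
    rw [coeff_add, decompose_add, DirectSum.add_apply, Submodule.coe_add, map_add]
  | monomial k c =>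
    have hzk : z ^ k ∈ ℬ k := by
      have h := SetLike.pow_mem_graded k hz
      simpa using h
    rw [aeval_monomial, ← hφ, DirectSum.coe_decompose_mul_of_right_mem ℬ N hzk]
    by_cases hk : k ≤ N
    · rw [if_pos hk, Finset.sum_eq_single k]
      · rw [coeff_monomial, if_pos rfl, aeval_monomial, ← hφ,
          GradedRingHom.map_directSumDecompose]
      · intro i _ hik
        rw [coeff_monomial, if_neg (Ne.symm hik), decompose_zero, DirectSum.zero_apply,
          ZeroMemClass.coe_zero, map_zero]
      · intro hkN
        exact absurd (Finset.mem_range.mpr (by omega)) hkN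
    · rw [if_neg hk, Finset.sum_eq_zero, map_zero]
      intro i hi
      have hik : k ≠ i := by
        have := Finset.mem_range.mp hi
        omega
      rw [coeff_monomial, if_neg hik, decompose_zero, DirectSum.zero_apply, ZeroMemClass.coe_zero,
        map_zero]

end Aux

/-- Let S be a graded R-algebra, Ŝ a graded R-algebra with a graded homomorphism φ : S → Ŝ making Ŝ an
S-algebra, and z an element of Ŝ of degree one such that the S-algebra map S[X] → Ŝ, X ↦ z, is
bijective (so Ŝ = S[z] with z in degree one, the graded ring of the projective cone of S). Then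
there is a ring isomorphism S ≅ Ŝ_(z) onto the degree-zero localization at z, sending a homogeneous
a of degree n to φ(a)/z^n. (This is the isomorphism that identifies the affine cone Spec S with the
open D_+(z) of the projective cone Proj Ŝ; that identification itself is not asserted here.) -/
theorem result {R A : Type u} [CommRing R] [CommRing A] [Algebra R A] (𝒜 : ℕ → Submodule R A) [GradedAlgebra 𝒜]
    {B : Type u} [CommRing B] [Algebra R B] (ℬ : ℕ → Submodule R B) [GradedAlgebra ℬ]
    [Algebra A B] [IsScalarTower R A B] (φ : 𝒜 →+*ᵍ ℬ) (hφ : ∀ a : A, φ a = algebraMap A B a)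
    (z : B) (hz : z ∈ ℬ 1) (hhat : Function.Bijective (Polynomial.aeval (R := A) z)) :
    ∃ θ : A ≃+* HomogeneousLocalization.Away ℬ z,
      ∀ (n : ℕ) (a : A), a ∈ 𝒜 n → (θ a).val = Localization.mk (φ a) ⟨z ^ n, pow_mem (Submonoid.mem_powers z) n⟩ := by
  classical
  let e : A[X] ≃ₐ[A] B := AlgEquiv.ofBijective (aeval z) hhat
  let ε : B →ₐ[A] A := (aeval (1 : A)).comp (e.symm : B →ₐ[A] A[X])
  have hε_aeval : ∀ P : A[X], ε (aeval z P) = eval 1 P := by
    intro P
    have h1 : e.symm (aeval z P) = P := e.symm_apply_apply P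
    change aeval (1 : A) (e.symm (aeval z P)) = _
    rw [h1, coe_aeval_eq_eval]
  have hεz : ε z = 1 := by
    have h1 := hε_aeval X
    rwa [aeval_X, eval_X] at h1
  have hεφ : ∀ a, ε (φ a) = a := by
    intro a
    have h1 := hε_aeval (C a)
    rwa [aeval_C, eval_C, ← hφ] at h1
  let ρ : HomogeneousLocalization.Away ℬ z →+* A :=
    (IsLocalization.Away.lift z (g := (ε : B →+* A))
      (by rw [RingHom.coe_coe, hεz]; exact isUnit_one)).comp
      (algebraMap (HomogeneousLocalization.Away ℬ z) (Localization.Away z))
  have hρ : ∀ (n : ℕ) (b : B) (hb : b ∈ ℬ (n • 1)),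
      ρ (HomogeneousLocalization.Away.mk ℬ hz n b hb) = ε b := by
    intro n b hb
    simp only [ρ, RingHom.comp_apply, HomogeneousLocalization.algebraMap_apply,
      HomogeneousLocalization.Away.val_mk]
    rw [Localization.mk_eq_mk', IsLocalization.Away.lift, IsLocalization.lift_mk'_spec]
    simp [hεz]
  have hsurj : Function.Surjective ρ := by
    intro a
    refine ⟨∑ n ∈ (decompose 𝒜 a).support, HomogeneousLocalization.Away.mk ℬ hz n
      (φ (decompose 𝒜 a n)) (by simpa using φ.map_mem (SetLike.coe_mem _)), ?_⟩
    rw [map_sum]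
    simp only [hρ, hεφ]
    exact DirectSum.sum_support_decompose 𝒜 a
  have hinj : Function.Injective ρ := by
    rw [injective_iff_map_eq_zero]
    intro x hx
    obtain ⟨N, b, hb, rfl⟩ := HomogeneousLocalization.Away.mk_surjective ℬ hz x
    rw [hρ] at hx
    have hbN : b ∈ ℬ N := by simpa using hb
    obtain ⟨P, rfl⟩ := hhat.2 b
    have h1 : aeval z P = aeval z (∑ i ∈ Finset.range (N + 1),
        monomial i ((decompose 𝒜 (P.coeff i) (N - i) : A))) := by
      rw [← key 𝒜 ℬ φ hφ z hz P N, DirectSum.decompose_of_mem_same ℬ hbN]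
    have h2 := hhat.1 h1
    rw [hε_aeval] at hx
    have h3 : ∑ i ∈ Finset.range (N + 1), ((decompose 𝒜 (P.coeff i) (N - i) : A)) = 0 := by
      rw [h2] at hx
      simpa [eval_finsetSum] using hx
    have h4 : ∀ j ∈ Finset.range (N + 1), ((decompose 𝒜 (P.coeff j) (N - j) : A)) = 0 := by
      intro j hj
      have h5 := congrArg (GradedRing.proj 𝒜 (N - j)) h3
      rw [map_sum, map_zero, Finset.sum_eq_single j] at h5
      · rwa [GradedRing.proj_apply, DirectSum.decompose_of_mem_same 𝒜 (SetLike.coe_mem _)] at h5
      · intro i hi hij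
        rw [GradedRing.proj_apply]
        apply DirectSum.decompose_of_mem_ne 𝒜 (SetLike.coe_mem _)
        have := Finset.mem_range.mp hi
        have := Finset.mem_range.mp hj
        omega
      · intro hj'
        exact absurd hj hj'
    have h6 : P = 0 := by
      rw [h2]
      exact Finset.sum_eq_zero (fun i hi => by rw [h4 i hi, map_zero])
    apply HomogeneousLocalization.val_injective
    rw [HomogeneousLocalization.Away.val_mk, HomogeneousLocalization.val_zero]
    simp [h6, Localization.mk_zero]
  refine ⟨(RingEquiv.ofBijective ρ ⟨hinj, hsurj⟩).symm, ?_⟩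
  intro n a ha
  have hmem : φ a ∈ ℬ (n • 1) := by simpa using φ.map_mem ha
  have h1 : (RingEquiv.ofBijective ρ ⟨hinj, hsurj⟩).symm a =
      HomogeneousLocalization.Away.mk ℬ hz n (φ a) hmem := by
    rw [RingEquiv.symm_apply_eq]
    change a = ρ _
    rw [hρ, hεφ]
  rw [h1, HomogeneousLocalization.Away.val_mk]

end Groth.Agent.S3593
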