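import Groth.Statements.S3597
import Groth.Agent.Lib.Helper42.ProjDomAffine
-- import your own Groth.Agent.* helpers here

set_option autoImplicit false
universe u
open CategoryTheory CategoryTheory.Limits AlgebraicGeometry
open EGA2

namespace Groth.Agent.S3597

theorem awayι_of_eq_id {A σ : Type u} [CommRing A] [SetLike σ A] [AddSubgroupClass σ A]
    {𝒜 : ℕ → σ} [GradedRing 𝒜] (χ : 𝒜 →+*ᵍ 𝒜) (hχ : χ = GradedRingHom.id 𝒜) {d : ℕ} {f : A}
    (hf : f ∈ 𝒜 d) (hd : 0 < d) :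
    Spec.map (CommRingCat.ofHom (HomogeneousLocalization.Away.map χ f)) ≫ Proj.awayι 𝒜 f hf hd =
      Proj.awayι 𝒜 (χ f) (GradedFunLike.map_mem χ hf) hd := by
  subst hχ
  rw [HomogeneousLocalization.Away.map_id]
  change Spec.map (𝟙 _) ≫ _ = _
  rw [Spec.map_id, Category.id_comp]
  rfl

/-- Let S be a graded algebra over a ring and Ŝ = S[z] the graded S-algebra obtained by adjoining a
variable z in degree 1 (an S-algebra with an element z of degree 1 such that S[T] → Ŝ, T ↦ z, is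
bijective), with φ : S → Ŝ the graded structure map and ψ : Ŝ → S the graded retraction with ψ ∘ φ =
id and ψ(z) = 0 (the irrelevant-ideal containment needed to define Proj(ψ) on all of X = Proj S
carried as a hypothesis). Let Ê ⊆ Ĉ = Proj Ŝ be the pointed projective cone, the open union of the
D_+(φ f) for f ∈ S homogeneous of positive degree, and p : Ê → X a morphism which on each chart
D_+(φ f) = Spec Ŝ_{(φ f)} is induced by S_{(f)} → Ŝ_{(φ f)} (the canonical retraction). Then p is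
surjective, and the closed immersion j = Proj(ψ) : X → Ĉ factors through Ê with p ∘ j = id_X. -/
theorem result {R A : Type u} [CommRing R] [CommRing A] [Algebra R A] (𝒜 : ℕ → Submodule R A) [GradedAlgebra 𝒜]
    {B : Type u} [CommRing B] [Algebra R B] (ℬ : ℕ → Submodule R B) [GradedAlgebra ℬ]
    [Algebra A B] [IsScalarTower R A B] (φ : 𝒜 →+*ᵍ ℬ) (hφ : ∀ a : A, φ a = algebraMap A B a)
    (z : B) (hz : z ∈ ℬ 1) (hhat : Function.Bijective (Polynomial.aeval (R := A) z))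
    (ψ : ℬ →+*ᵍ 𝒜) (hψφ : ∀ a : A, ψ (φ a) = a) (hψz : ψ z = 0)
    (hψ : HomogeneousIdeal.irrelevant 𝒜 ≤ (HomogeneousIdeal.irrelevant ℬ).map ψ)
    (p : (PCone.dom φ : Scheme.{u}) ⟶ Proj 𝒜) (hp : ∀ (d : ℕ) (f : A) (hd : 0 < d) (hf : f ∈ 𝒜 d),
        PCone.chart φ hf hd ≫ p =
          Spec.map (CommRingCat.ofHom (HomogeneousLocalization.Away.map φ f)) ≫ Proj.awayι 𝒜 f hf hd) :
    Surjective p ∧ ∃ j : Proj 𝒜 ⟶ (PCone.dom φ : Scheme.{u}), j ≫ (PCone.dom φ).ι = Proj.map ψ hψ ∧ j ≫ p = 𝟙 (Proj 𝒜) := by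
  have hχ : ψ.comp φ = GradedRingHom.id 𝒜 := by
    apply DFunLike.ext
    intro a
    exact hψφ a
  have hrange : Set.range (Proj.map ψ hψ).base ⊆ Set.range (PCone.dom φ).ι.base := by
    rw [Scheme.Opens.range_ι]
    rintro _ ⟨x, rfl⟩
    obtain ⟨d, hd, f, hf, hx⟩ := Groth.Agent.Lib.Helper42.ProjDom.exists_mem_basicOpen (𝒜 := 𝒜) x
    refine TopologicalSpace.Opens.mem_iSup.mpr ⟨⟨f, d, hd, hf⟩, ?_⟩
    change x ∈ (Proj.map ψ hψ) ⁻¹ᵁ Proj.basicOpen ℬ (φ f)
    rw [Proj.map_preimage_basicOpen, hψφ]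
    exact hx
  have hj : IsOpenImmersion.lift (PCone.dom φ).ι (Proj.map ψ hψ) hrange ≫ (PCone.dom φ).ι =
      Proj.map ψ hψ := IsOpenImmersion.lift_fac _ _ _
  have hjp : IsOpenImmersion.lift (PCone.dom φ).ι (Proj.map ψ hψ) hrange ≫ p = 𝟙 (Proj 𝒜) := by
    refine Groth.Agent.Lib.Helper42.LocalGlue.hom_ext_of_family
      (J := Groth.Agent.Lib.Helper42.ProjDom.Idx 𝒜)
      (fun i => Spec (CommRingCat.of (HomogeneousLocalization.Away 𝒜 (ψ (φ i.f)))))
      (fun i => Proj.awayι 𝒜 (ψ (φ i.f)) (GradedFunLike.map_mem ψ (GradedFunLike.map_mem φ i.hf)) i.hd)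
      ?_ (fun i => ?_)
    · intro x
      obtain ⟨d, hd, f, hf, hx⟩ := Groth.Agent.Lib.Helper42.ProjDom.exists_mem_basicOpen (𝒜 := 𝒜) x
      refine ⟨⟨d, f, hd, hf⟩, ?_⟩
      have := (Proj.opensRange_awayι 𝒜 (ψ (φ f))
        (GradedFunLike.map_mem ψ (GradedFunLike.map_mem φ hf)) hd).ge
      apply this
      rw [hψφ]
      exact hx
    · obtain ⟨d, f, hd, hf⟩ := i
      have h1 := Proj.awayι_comp_map ψ hψ hd (φ f) (GradedFunLike.map_mem φ hf)
      have h2 : Proj.awayι 𝒜 (ψ (φ f)) (GradedFunLike.map_mem ψ (GradedFunLike.map_mem φ hf)) hd ≫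
          IsOpenImmersion.lift (PCone.dom φ).ι (Proj.map ψ hψ) hrange =
          Spec.map (CommRingCat.ofHom (HomogeneousLocalization.Away.map ψ (φ f))) ≫
            PCone.chart φ hf hd := by
        rw [← cancel_mono (PCone.dom φ).ι, Category.assoc, hj, Category.assoc]
        unfold PCone.chart
        rw [IsOpenImmersion.lift_fac]
        exact h1
      have h3 := awayι_of_eq_id (ψ.comp φ) hχ hf hd
      change Proj.awayι 𝒜 (ψ (φ f)) _ hd ≫ _ ≫ p = Proj.awayι 𝒜 (ψ (φ f)) _ hd ≫ 𝟙 _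
      rw [← Category.assoc, h2, Category.assoc, hp d f hd hf, Category.comp_id, ← Category.assoc,
        ← Spec.map_comp, ← CommRingCat.ofHom_comp, ← HomogeneousLocalization.Away.map_comp]
      exact h3
  refine ⟨?_, _, hj, hjp⟩
  constructor
  intro x
  refine ⟨(IsOpenImmersion.lift (PCone.dom φ).ι (Proj.map ψ hψ) hrange).base x, ?_⟩
  rw [← Scheme.Hom.comp_apply, hjp]
  rfl

end Groth.Agent.S3597
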