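import Groth.Statements.S3598
import Groth.Agent.S3596
import Groth.Agent.S3576
import Groth.Agent.Lib.Proj.AwayPoly
import Groth.Agent.Lib.Helper42.ProjDomAffine

set_option autoImplicit false
universe u
open CategoryTheory CategoryTheory.Limits AlgebraicGeometry
open EGA2

namespace Groth.Agent.S3598

open Groth.Agent.Lib.Proj.AwayPoly HomogeneousLocalization Groth.Agent.Lib.Helper42.ProjDom
open TensorProduct Polynomial

section

variable {R A : Type u} [CommRing R] [CommRing A] [Algebra R A] {𝒜 : ℕ → Submodule R A}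
  [GradedAlgebra 𝒜] {B : Type u} [CommRing B] [Algebra R B] {ℬ : ℕ → Submodule R B}
  [GradedAlgebra ℬ] (φ : 𝒜 →+*ᵍ ℬ)

instance chart_isOpenImmersion {d : ℕ} {f : A} (hf : f ∈ 𝒜 d) (hd : 0 < d) :
    IsOpenImmersion (PCone.chart φ hf hd) := by
  have : IsOpenImmersion (PCone.chart φ hf hd ≫ (PCone.dom φ).ι) := by
    unfold PCone.chart
    rw [IsOpenImmersion.lift_fac]
    infer_instance
  exact IsOpenImmersion.of_comp _ (PCone.dom φ).ι

lemma hcov_dom : ∀ x ∈ PCone.dom φ,
    ∃ (d : ℕ) (f : A) (_ : f ∈ 𝒜 d) (_ : 0 < d), x ∈ Proj.basicOpen ℬ (φ f) := by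
  intro x hx
  obtain ⟨⟨f, d, hd, hf⟩, hxf⟩ := TopologicalSpace.Opens.mem_iSup.mp hx
  exact ⟨d, f, hf, hd, hxf⟩

lemma preimage_eq (p : (PCone.dom φ : Scheme.{u}) ⟶ Proj 𝒜)
    (hp : ∀ (d : ℕ) (f : A) (hd : 0 < d) (hf : f ∈ 𝒜 d),
        PCone.chart φ hf hd ≫ p =
          Spec.map (CommRingCat.ofHom (HomogeneousLocalization.Away.map φ f)) ≫ Proj.awayι 𝒜 f hf hd)
    {d : ℕ} {f : A} (hf : f ∈ 𝒜 d) (hd : 0 < d) :
    p ⁻¹ᵁ (Proj.awayι 𝒜 f hf hd).opensRange = (PCone.chart φ hf hd).opensRange := by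
  rw [Proj.opensRange_awayι, preimage_basicOpen φ (PCone.dom φ)
    (fun hf hd => PCone.range_awayι_subset φ hf hd) (hcov_dom φ) p
    (fun d f hd hf => hp d f hd hf) hf hd]
  ext t
  constructor
  · intro ht
    exact mem_range_lift (PCone.dom φ) (GradedFunLike.map_mem φ hf) hd
      (PCone.range_awayι_subset φ hf hd) t ht
  · intro ht
    exact mem_basicOpen_of_mem_range_lift (PCone.dom φ) (GradedFunLike.map_mem φ hf) hd
      (PCone.range_awayι_subset φ hf hd) t ht

end

/-- Let S be a graded algebra over a ring (an affine base) whose irrelevant ideal is generated by its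
degree-one elements, and let Ŝ = S[z] be the graded S-algebra obtained by adjoining a variable z of
degree 1 (given as a graded S-algebra together with z of degree 1 such that S[T] → Ŝ, T ↦ z, is
bijective). Let Ê be the pointed projective cone, covered by the charts Spec Ŝ_(f) for f ∈ S
homogeneous of positive degree, and p : Ê → X = Proj S the canonical retraction, i.e. the morphism
which on each chart Spec Ŝ_(f) is induced by S_(f) → Ŝ_(f). Then p is of finite type (locally of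
finite type and quasi-compact) and its fibre at every point x of X is isomorphic over k(x) to the
affine line Spec k(x)[T]. -/
theorem result {R A : Type u} [CommRing R] [CommRing A] [Algebra R A] (𝒜 : ℕ → Submodule R A) [GradedAlgebra 𝒜]
    {B : Type u} [CommRing B] [Algebra R B] (ℬ : ℕ → Submodule R B) [GradedAlgebra ℬ]
    [Algebra A B] [IsScalarTower R A B] (φ : 𝒜 →+*ᵍ ℬ) (hφ : ∀ a : A, φ a = algebraMap A B a)
    (z : B) (hz : z ∈ ℬ 1) (hhat : Function.Bijective (Polynomial.aeval (R := A) z))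
    (hgen : (HomogeneousIdeal.irrelevant 𝒜).toIdeal = Ideal.span (𝒜 1 : Set A))
    (p : (PCone.dom φ : Scheme.{u}) ⟶ Proj 𝒜) (hp : ∀ (d : ℕ) (f : A) (hd : 0 < d) (hf : f ∈ 𝒜 d),
        PCone.chart φ hf hd ≫ p =
          Spec.map (CommRingCat.ofHom (HomogeneousLocalization.Away.map φ f)) ≫ Proj.awayι 𝒜 f hf hd) (x : Proj 𝒜) :
    LocallyOfFiniteType p ∧ QuasiCompact p ∧
      ∃ e : pullback p ((Proj 𝒜).fromSpecResidueField x) ≅
          Spec (CommRingCat.of (Polynomial ((Proj 𝒜).residueField x))),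
        e.hom ≫ Spec.map (CommRingCat.ofHom (algebraMap ((Proj 𝒜).residueField x)
          (Polynomial ((Proj 𝒜).residueField x)))) = pullback.snd p ((Proj 𝒜).fromSpecResidueField x) := by
  classical
  have haff : IsAffineHom p := Groth.Agent.S3596.result 𝒜 ℬ φ p hp
  have hft : ∀ (f : A) (hf : f ∈ 𝒜 1), RingHom.FiniteType (Away.map φ f) := by
    intro f hf
    have h1 : Away.map φ f = (α 𝒜 ℬ φ z hz hf).comp (C : Away 𝒜 f →+* (Away 𝒜 f)[X]) := by
      ext c
      rw [RingHom.comp_apply, α_C]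
    rw [h1]
    refine RingHom.FiniteType.comp (RingHom.FiniteType.of_surjective _
      (α_surjective 𝒜 ℬ φ hφ z hz hf hhat.2)) ?_
    exact RingHom.finiteType_algebraMap.2 (inferInstance : Algebra.FiniteType (Away 𝒜 f) (Away 𝒜 f)[X])
  have hmem_irr : ∀ {d : ℕ} {g : A}, 0 < d → g ∈ 𝒜 d → g ∈ (HomogeneousIdeal.irrelevant 𝒜).toIdeal := by
    intro d g hd hg
    rw [HomogeneousIdeal.mem_iff, HomogeneousIdeal.mem_irrelevant_iff,
      GradedRing.proj_apply, DirectSum.decompose_of_mem_ne 𝒜 hg hd.ne']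
  have hlft : LocallyOfFiniteType p := by
    have : IsZariskiLocalAtSource @LocallyOfFiniteType :=
      HasRingHomProperty.instIsZariskiLocalAtSource
    apply IsZariskiLocalAtSource.of_iSup_eq_top (P := @LocallyOfFiniteType)
      (fun i : {f : A // f ∈ 𝒜 1} => (PCone.chart φ i.2 Nat.one_pos).opensRange)
    · rw [eq_top_iff]
      intro t _
      obtain ⟨d, g, hg, hd, htg⟩ := hcov_dom φ t.1 t.2
      have hI : ¬ (HomogeneousIdeal.irrelevant 𝒜).toIdeal ≤
          Ideal.comap φ t.1.asHomogeneousIdeal.toIdeal := by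
        intro hle
        exact htg (hle (hmem_irr hd hg))
      obtain ⟨f, hf, hft'⟩ := Groth.Agent.S3576.exists_deg_one_not_mem 𝒜 hgen _ hI
      refine TopologicalSpace.Opens.mem_iSup.2 ⟨⟨f, hf⟩, ?_⟩
      exact mem_range_lift (PCone.dom φ) (GradedFunLike.map_mem φ hf) Nat.one_pos
        (PCone.range_awayι_subset φ hf Nat.one_pos) t hft'
    · intro i
      have h1 : (PCone.chart φ i.2 Nat.one_pos).opensRange.ι ≫ p =
          (PCone.chart φ i.2 Nat.one_pos).isoOpensRange.inv ≫ (PCone.chart φ i.2 Nat.one_pos ≫ p) := by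
        rw [← Category.assoc]
        congr 1
        rw [Iso.eq_inv_comp]
        exact Scheme.Hom.isoOpensRange_hom_ι _
      rw [h1, hp 1 i.1 Nat.one_pos i.2]
      have h2 : LocallyOfFiniteType (Spec.map (CommRingCat.ofHom (Away.map φ i.1))) := by
        rw [HasRingHomProperty.Spec_iff (P := @LocallyOfFiniteType)]
        exact hft i.1 i.2
      infer_instance
  refine ⟨hlft, inferInstance, ?_⟩
  obtain ⟨f, hf, hxf⟩ := Groth.Agent.S3576.exists_deg_one_not_mem 𝒜 hgen x.asHomogeneousIdeal.toIdeal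
    x.not_irrelevant_le
  have sq1 : IsPullback
      (Spec.map (CommRingCat.ofHom (Away.map φ f)))
      (PCone.chart φ hf Nat.one_pos) (Proj.awayι 𝒜 f hf Nat.one_pos) p :=
    IsOpenImmersion.isPullback _ _ _ _ (hp 1 f Nat.one_pos hf) (preimage_eq φ p hp hf Nat.one_pos)
  have hrange : Set.range ((Proj 𝒜).fromSpecResidueField x).base ⊆
      Set.range (Proj.awayι 𝒜 f hf Nat.one_pos).base := by
    rintro _ ⟨y, rfl⟩
    have h1 : ((Proj 𝒜).fromSpecResidueField x).base y = x :=
      (Proj 𝒜).fromSpecResidueField_apply x y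
    rw [h1]
    have h2 : x ∈ (Proj.awayι 𝒜 f hf Nat.one_pos).opensRange := by
      rw [Proj.opensRange_awayι]; exact hxf
    exact h2
  have hk' := IsOpenImmersion.lift_fac (Proj.awayι 𝒜 f hf Nat.one_pos)
    ((Proj 𝒜).fromSpecResidueField x) hrange
  generalize IsOpenImmersion.lift (Proj.awayι 𝒜 f hf Nat.one_pos)
    ((Proj 𝒜).fromSpecResidueField x) hrange = k' at hk'
  let _ : Algebra (Away 𝒜 f) ((Proj 𝒜).residueField x) := (Spec.preimage k').hom.toAlgebra
  let _ : Algebra (Away 𝒜 f) (Away ℬ (φ f)) := (Away.map φ f).toAlgebra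
  have hk'' : k' = Spec.map (CommRingCat.ofHom
      (algebraMap (Away 𝒜 f) ((Proj 𝒜).residueField x))) := (Spec.map_preimage k').symm
  rw [hk''] at hk'
  have sq2 := IsPullback.of_hasPullback
    (Spec.map (CommRingCat.ofHom (algebraMap (Away 𝒜 f) ((Proj 𝒜).residueField x))))
    (Spec.map (CommRingCat.ofHom (algebraMap (Away 𝒜 f) (Away ℬ (φ f)))))
  have sq3 := (sq2.paste_vert sq1).flip
  rw [hk'] at sq3
  let Φ : (Away 𝒜 f)[X] ≃ₐ[Away 𝒜 f] Away ℬ (φ f) :=
    AlgEquiv.ofRingEquiv (f := ringEquiv 𝒜 ℬ φ hφ z hz hf hhat) (fun c => by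
      show α 𝒜 ℬ φ z hz hf (C c) = Away.map φ f c
      rw [α_C])
  let E : ((Proj 𝒜).residueField x) ⊗[Away 𝒜 f] Away ℬ (φ f) ≃ₐ[(Proj 𝒜).residueField x]
      ((Proj 𝒜).residueField x)[X] :=
    (Algebra.TensorProduct.congr
      (AlgEquiv.refl : ((Proj 𝒜).residueField x) ≃ₐ[(Proj 𝒜).residueField x] _)
      Φ.symm).trans (polyEquivTensor' (Away 𝒜 f) ((Proj 𝒜).residueField x)).symm
  let i := E.toRingEquiv.toCommRingCatIso
  refine ⟨sq3.isoPullback.symm ≪≫
    pullbackSpecIso (Away 𝒜 f) ((Proj 𝒜).residueField x) (Away ℬ (φ f)) ≪≫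
      (Scheme.Spec.mapIso i.op).symm, ?_⟩
  have h1 : Spec.map i.inv ≫ Spec.map (CommRingCat.ofHom (algebraMap ((Proj 𝒜).residueField x)
      (Polynomial ((Proj 𝒜).residueField x)))) =
      Spec.map (CommRingCat.ofHom (algebraMap ((Proj 𝒜).residueField x)
        (((Proj 𝒜).residueField x) ⊗[Away 𝒜 f] Away ℬ (φ f)))) := by
    rw [← Spec.map_comp]
    congr 1
    ext r
    exact E.symm.commutes r
  show (sq3.isoPullback.inv ≫ (pullbackSpecIso (Away 𝒜 f) ((Proj 𝒜).residueField x)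
    (Away ℬ (φ f))).hom ≫ Spec.map i.inv) ≫ _ = _
  rw [Category.assoc, Category.assoc, h1, pullbackSpecIso_hom_fst']
  exact sq3.isoPullback_inv_snd

end Groth.Agent.S3598
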