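import Groth.Statements.S3623
import Mathlib
import Groth.Agent.Lib.Helper33.GorLCI
import Groth.Agent.Lib.Helper33.GorAffine

set_option autoImplicit false
universe u
open CategoryTheory CategoryTheory.Limits AlgebraicGeometry
attribute [local instance] HasDerivedCategory.standard
open Dual3

namespace Groth.Agent.S3623

/-- Let f : Y → X be a local complete intersection morphism (affine-locally given by local complete
intersection ring maps) with X a Gorenstein scheme. Then Y is a Gorenstein scheme. -/
theorem result (Y X : Scheme.{u}) (f : Y ⟶ X) (hf : Dual3.IsLCIMor f) (hX : Dual3.IsGorenstein X) : Dual3.IsGorenstein Y := by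
  haveI : IsLocallyNoetherian X := hX.1
  have key : ∀ y : Y, ∃ U : Y.affineOpens, y ∈ U.1 ∧ LocCoh.IsGorensteinRing Γ(Y, U.1) := by
    intro y
    obtain ⟨U, V, e, hyU, hlci⟩ := hf y
    refine ⟨U, hyU, ?_⟩
    haveI : IsNoetherianRing Γ(X, V.1) := IsLocallyNoetherian.component_noetherian V
    have hGV : LocCoh.IsGorensteinRing Γ(X, V.1) :=
      Groth.Agent.Lib.Helper33.GorAffine.isGorensteinRing_of_stalks V.2 (fun x _ => hX.2 x)
    letI := (f.appLE V.1 U.1 e).hom.toAlgebra
    exact Groth.Agent.Lib.Helper33.GorLCI.isGorensteinRing_of_isLCI Γ(X, V.1) Γ(Y, U.1) hGV hlci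
  choose S hS1 hS2 using key
  refine ⟨?_, ?_⟩
  · refine isLocallyNoetherian_of_affine_cover (S := S) ?_ (fun y => (hS2 y).1)
    rw [eq_top_iff]
    intro y _
    exact TopologicalSpace.Opens.mem_iSup.mpr ⟨y, hS1 y⟩
  · intro y
    exact Groth.Agent.Lib.Helper33.GorAffine.stalk_of_isGorensteinRing (S y).2 (hS2 y) y (hS1 y)

end Groth.Agent.S3623
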