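import Groth.Statements.S3626
import Mathlib
import Groth.Agent.Lib.Helper33.FibreBC6

set_option autoImplicit false
universe u
open CategoryTheory CategoryTheory.Limits AlgebraicGeometry
attribute [local instance] HasDerivedCategory.standard
open Dual3

namespace Groth.Agent.S3626

/-- Let f : X → Y be flat and locally of finite type, g : Y' → Y any morphism and X' = Y' ×_Y X with
projections f' : X' → Y', g' : X' → X. Then for every point x' of X', f' is Gorenstein at x' if and
only if f is Gorenstein at g'(x'): formation of the Gorenstein locus commutes with base change. -/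
theorem result (X Y X' Y' : Scheme.{u}) (f : X ⟶ Y) [Flat f] [LocallyOfFiniteType f] (g : Y' ⟶ Y) (f' : X' ⟶ Y') (g' : X' ⟶ X) (hsq : IsPullback g' f' f g) (x' : X') : Dual3.IsGorensteinAt f' x' ↔ Dual3.IsGorensteinAt f (g' x') := by
  haveI : Flat f' := MorphismProperty.of_isPullback hsq inferInstance
  haveI : LocallyOfFiniteType f' := MorphismProperty.of_isPullback hsq inferInstance
  haveI := Groth.Agent.Lib.Helper33.FibreBC.isLocallyNoetherian_fiber f' (f' x')
  haveI := Groth.Agent.Lib.Helper33.FibreBC.isLocallyNoetherian_fiber f (f (g' x'))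
  have key := (Groth.Agent.Lib.Helper33.FibreBC.fibre_stalk_baseChange_iff f g f' g' hsq x'
    (Or.inr inferInstance)).1
  constructor
  · rintro ⟨-, h⟩
    exact ⟨AlgebraicGeometry.Flat.stalkMap f (g' x'), key.1 h⟩
  · rintro ⟨-, h⟩
    exact ⟨AlgebraicGeometry.Flat.stalkMap f' x', key.2 h⟩

end Groth.Agent.S3626
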