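import Groth.Statements.S3627
import Mathlib
import Groth.Agent.Lib.Helper33.GorComp

set_option autoImplicit false
universe u
open CategoryTheory CategoryTheory.Limits AlgebraicGeometry
attribute [local instance] HasDerivedCategory.standard
open Dual3

namespace Groth.Agent.S3627

/-- Let f : X → Y and g : Y → Z be morphisms such that the fibres of f, g and g ∘ f are locally
Noetherian, and let x be a point of X. (1) The composite g ∘ f is Gorenstein at x provided f is so
at x and g is so at f(x). (3) Conversely, if f is flat at x and the composite is Gorenstein there,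
then both factors are Gorenstein: f at x, and g at f(x). -/
theorem result (X Y Z : Scheme.{u}) (f : X ⟶ Y) (g : Y ⟶ Z) (hfibf : ∀ y, IsLocallyNoetherian (f.fiber y)) (hfibg : ∀ y, IsLocallyNoetherian (g.fiber y)) (hfibfg : ∀ z, IsLocallyNoetherian ((f ≫ g).fiber z)) (x : X) : (Dual3.IsGorensteinAt f x → Dual3.IsGorensteinAt g (f x) → Dual3.IsGorensteinAt (f ≫ g) x) ∧ (Dual3.IsGorensteinAt (f ≫ g) x → (f.stalkMap x).hom.Flat → Dual3.IsGorensteinAt f x ∧ Dual3.IsGorensteinAt g (f x)) := by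
  haveI := hfibf (f x)
  haveI := hfibg (g (f x))
  haveI := hfibfg ((f ≫ g) x)
  obtain ⟨πg, hπg, hkerg⟩ := Groth.Agent.Lib.Helper33.GorComp.exists_fibre_proj g (f x)
  obtain ⟨πh, hπh, hkerh⟩ := Groth.Agent.Lib.Helper33.GorComp.exists_fibre_proj (f ≫ g) x
  obtain ⟨πf, hπf, hkerf⟩ := Groth.Agent.Lib.Helper33.GorComp.exists_fibre_proj f x
  have hcomp : ((f ≫ g).stalkMap x).hom = (f.stalkMap x).hom.comp (g.stalkMap (f x)).hom := by
    rw [Scheme.Hom.stalkMap_comp]; rfl
  rw [hcomp] at hkerh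
  have key := fun hff => Groth.Agent.Lib.Helper33.GorComp.gorenstein_fibres_comp
    (g.stalkMap (f x)).hom (f.stalkMap x).hom hff πg hπg hkerg πh hπh hkerh πf hπf hkerf
  constructor
  · rintro ⟨hff, hF⟩ ⟨hgf, hG⟩
    refine ⟨?_, ?_⟩
    · rw [hcomp]; exact RingHom.Flat.comp hgf hff
    · exact (key hff).2 ⟨hG, hF⟩
  · rintro ⟨hgff, hH⟩ hff
    rw [hcomp] at hgff
    have hgf : (g.stalkMap (f x)).hom.Flat :=
      Groth.Agent.Lib.Helper40.FlatDescentSrc.ringHom_flat_of_comp _ _ hff hgff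
    obtain ⟨hG, hF⟩ := (key hff).1 hH
    exact ⟨⟨hff, hF⟩, ⟨hgf, hG⟩⟩

end Groth.Agent.S3627
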