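import Groth.Statements.S3654
-- import your own Groth.Agent.* helpers here

set_option autoImplicit false
universe u
open CategoryTheory CategoryTheory.Limits AlgebraicGeometry
attribute [local instance] HasDerivedCategory.standard
open Dual3

namespace Groth.Agent.S3654

section General

universe v₁ v₂ v₃ v₄ u₁ u₂ u₃ u₄

variable {A : Type u₁} {B : Type u₂} {A' : Type u₃} {B' : Type u₄}
  [Category.{v₁} A] [Category.{v₂} B] [Category.{v₃} A'] [Category.{v₄} B']
  {F : A ⥤ B} {F' : A' ⥤ B'} {G : B' ⥤ B} {G' : A' ⥤ A} {L : B ⥤ B'} {L' : A ⥤ A'}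
  {a : B ⥤ A} {a' : B' ⥤ A'}

/-- general form of `xi` -/
def gxi (adj : F ⊣ a) (adj' : F' ⊣ a') (e : G' ⋙ F ≅ F' ⋙ G) (M : B') :
    G'.obj (a'.obj M) ⟶ a.obj (G.obj M) :=
  (adj.homEquiv _ _) (e.hom.app (a'.obj M) ≫ G.map (adj'.counit.app M))

theorem gxi_naturality (adj : F ⊣ a) (adj' : F' ⊣ a') (e : G' ⋙ F ≅ F' ⋙ G) {M N : B'}
    (φ : M ⟶ N) :
    G'.map (a'.map φ) ≫ gxi adj adj' e N = gxi adj adj' e M ≫ a.map (G.map φ) := by
  have hnat := e.hom.naturality
  simp only [Functor.comp_obj, Functor.comp_map] at hnat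
  unfold gxi
  rw [← Adjunction.homEquiv_naturality_left, ← Adjunction.homEquiv_naturality_right]
  congr 1
  rw [← Category.assoc, hnat, Category.assoc, Category.assoc, ← G.map_comp, ← G.map_comp]
  simp

theorem gxi_unit (adj : F ⊣ a) (adj' : F' ⊣ a') (e : G' ⋙ F ≅ F' ⋙ G) (N : A') :
    G'.map (adj'.unit.app N) ≫ gxi adj adj' e (F'.obj N) =
      adj.unit.app (G'.obj N) ≫ a.map (e.hom.app N) := by
  have hnat := e.hom.naturality
  simp only [Functor.comp_obj, Functor.comp_map] at hnat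
  apply (adj.homEquiv _ _).symm.injective
  simp only [gxi, Adjunction.homEquiv_counit, Adjunction.homEquiv_unit, Functor.map_comp,
    Category.assoc, Adjunction.counit_naturality, Adjunction.left_triangle_components_assoc,
    Adjunction.counit_naturality_assoc, Adjunction.left_triangle_components]
  have h3 : ∀ X : A, F.map (adj.unit.app X) ≫ adj.counit.app (F.obj X) = 𝟙 _ :=
    fun X => adj.left_triangle_components X
  rw [reassoc_of% (h3 (G'.obj (a'.obj (F'.obj N)))), reassoc_of% (h3 (G'.obj N))]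
  have h4 := hnat (adj'.unit.app N)
  rw [reassoc_of% h4, ← G.map_comp]
  have h5 : ∀ X : A', F'.map (adj'.unit.app X) ≫ adj'.counit.app (F'.obj X) = 𝟙 _ :=
    fun X => adj'.left_triangle_components X
  erw [h5 N, G.map_id, Category.comp_id]

theorem general_unit (adj : F ⊣ a) (adj' : F' ⊣ a') (e : G' ⋙ F ≅ F' ⋙ G)
    (adjg : L ⊣ G) (adjg' : L' ⊣ G') (M : A)
    (hξ : IsIso (gxi adj adj' e (L.obj (F.obj M))))
    (hξ' : IsIso (gxi adj adj' e (F'.obj (L'.obj M)))) :
    adj'.unit.app (L'.obj M) =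
      L'.map (adj.unit.app M) ≫
        (L'.map (a.map (adjg.unit.app (F.obj M))) ≫
          L'.map (inv (gxi adj adj' e (L.obj (F.obj M)))) ≫
            adjg'.counit.app (a'.obj (L.obj (F.obj M)))) ≫
        a'.map ((adjg.homEquiv _ _).symm (F.map (adjg'.unit.app M) ≫ e.hom.app (L'.obj M))) := by
  apply (adjg'.homEquiv _ _).injective
  rw [← cancel_mono (gxi adj adj' e (F'.obj (L'.obj M)))]
  set β := (adjg.homEquiv _ _).symm (F.map (adjg'.unit.app M) ≫ e.hom.app (L'.obj M)) with hβ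
  have hβ' : adjg.unit.app (F.obj M) ≫ G.map β = F.map (adjg'.unit.app M) ≫ e.hom.app (L'.obj M) := by
    have := (adjg.homEquiv _ _).apply_symm_apply (F.map (adjg'.unit.app M) ≫ e.hom.app (L'.obj M))
    rw [← hβ, Adjunction.homEquiv_unit] at this
    exact this
  have key : ∀ {X : A} {Y : A'} (x : X ⟶ G'.obj Y),
      adjg'.unit.app X ≫ G'.map (L'.map x ≫ adjg'.counit.app Y) = x := by
    intro X Y x; simp
  have lhs : (adjg'.homEquiv M (a'.obj (F'.obj (L'.obj M)))) (adj'.unit.app (L'.obj M)) ≫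
      gxi adj adj' e (F'.obj (L'.obj M)) =
      adjg'.unit.app M ≫ adj.unit.app (G'.obj (L'.obj M)) ≫ a.map (e.hom.app (L'.obj M)) := by
    rw [Adjunction.homEquiv_unit, Category.assoc]
    congr 1
    exact gxi_unit adj adj' e (L'.obj M)
  have rhs : (adjg'.homEquiv M (a'.obj (F'.obj (L'.obj M))))
      (L'.map (adj.unit.app M) ≫
        (L'.map (a.map (adjg.unit.app (F.obj M))) ≫
          L'.map (inv (gxi adj adj' e (L.obj (F.obj M)))) ≫
            adjg'.counit.app (a'.obj (L.obj (F.obj M)))) ≫ a'.map β) ≫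
      gxi adj adj' e (F'.obj (L'.obj M)) =
      adj.unit.app M ≫ a.map (F.map (adjg'.unit.app M)) ≫ a.map (e.hom.app (L'.obj M)) := by
    have e1 : L'.map (adj.unit.app M) ≫
        (L'.map (a.map (adjg.unit.app (F.obj M))) ≫
          L'.map (inv (gxi adj adj' e (L.obj (F.obj M)))) ≫
            adjg'.counit.app (a'.obj (L.obj (F.obj M)))) ≫ a'.map β =
        (L'.map (adj.unit.app M ≫ a.map (adjg.unit.app (F.obj M)) ≫
          inv (gxi adj adj' e (L.obj (F.obj M)))) ≫
            adjg'.counit.app (a'.obj (L.obj (F.obj M)))) ≫ a'.map β := by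
      simp only [Functor.map_comp, Category.assoc]
    rw [e1, Adjunction.homEquiv_unit, G'.map_comp, ← Category.assoc (adjg'.unit.app M), key,
      Category.assoc, Category.assoc, Category.assoc, gxi_naturality, IsIso.inv_hom_id_assoc,
      ← a.map_comp, hβ', a.map_comp]
  refine lhs.trans (Eq.trans ?_ rhs.symm)
  exact (adj.unit_naturality_assoc (adjg'.unit.app M) _).symm

end General

/-- Let X, Y, X', Y' be quasi-compact quasi-separated schemes and f : X → Y, g : Y' → Y, f' : X' → Y',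
g' : X' → X morphisms forming a cartesian square (X' = Y' ×_Y X), with f flat or g flat. Assume the
derived pushforwards Rf_*, Rf'_*, Rg_*, Rg'_* exist and preserve D_QCoh, that Lg^* and Lg'^*
preserve D_QCoh and are left adjoint to Rg_* and Rg'_* on D_QCoh, let a : D_QCoh(O_Y) → D_QCoh(O_X)
and a' : D_QCoh(O_{Y'}) → D_QCoh(O_{X'}) be right adjoints of Rf_* and Rf'_*, fix an isomorphism
Rf_* ∘ Rg'_* ≅ Rg_* ∘ Rf'_*, and assume the comparison maps ξ_N built from these data are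
isomorphisms for all N in D_QCoh(O_{Y'}), so that the base change map α : Lg'^* ∘ a → a' ∘ Lg^* is
defined; let β_M : Lg^* Rf_* M → Rf'_* Lg'^* M denote the base change map for pushforward. Let η_f :
id → a Rf_* and η_{f'} : id → a' Rf'_* be the units. Then for every M in D_QCoh(O_X): η_{f'} at
Lg'^*M equals Lg'^*(η_{f,M}) followed by the base change map α at Rf_*M followed by a'(β_M). -/
theorem result (X Y X' Y' : Scheme.{u}) [CompactSpace X] [QuasiSeparatedSpace X] [CompactSpace Y] [QuasiSeparatedSpace Y] [CompactSpace X'] [QuasiSeparatedSpace X'] [CompactSpace Y'] [QuasiSeparatedSpace Y'] (f : X ⟶ Y) (g : Y' ⟶ Y) (f' : X' ⟶ Y') (g' : X' ⟶ X) (hsq : IsPullback g' f' f g) (hflat : Flat f ∨ Flat g) [DCoh.HasRpush f] [DCoh.HasRpush f'] [DCoh.HasRpush g] [DCoh.HasRpush g'] (hf : DCoh.RpushPreservesQCoh f) (hf' : DCoh.RpushPreservesQCoh f') (hg : DCoh.RpushPreservesQCoh g) (hg' : DCoh.RpushPreservesQCoh g') (a : DCoh.DQCoh Y ⥤ DCoh.DQCoh X) (a' : DCoh.DQCoh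 Y' ⥤ DCoh.DQCoh X') (adj : DCoh.RpushQ f hf ⊣ a) (adj' : DCoh.RpushQ f' hf' ⊣ a') [DCoh.HasLpull g] [DCoh.HasLpull g'] (hLg : Dual3.LpullPreservesQCoh g) (hLg' : Dual3.LpullPreservesQCoh g') (adjg : Dual3.LpullQ g hLg ⊣ DCoh.RpushQ g hg) (adjg' : Dual3.LpullQ g' hLg' ⊣ DCoh.RpushQ g' hg') (e : (DCoh.RpushQ g' hg' ⋙ DCoh.RpushQ f hf ≅ DCoh.RpushQ f' hf' ⋙ DCoh.RpushQ g hg)) (hξ : ∀ M : DCoh.DQCoh Y', IsIso (Dual3.xi adj adj' e M)) (M : DCoh.DQCoh X) : adj'.unit.app ((Dual3.LpullQ g' hLg').obj M) = (Dual3.LpullQ g' hLg').map (adj.unit.app M) ≫ Dual3.bcMap adj adj' e adjg adjg' ((DCoh.RpushQ f hf).obj M) (hξ _) ≫ a'.map (Dual3.bcPush e adjg adjg' M) := by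
  exact general_unit adj adj' e adjg adjg' M (hξ _) (hξ _)

end Groth.Agent.S3654
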