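import Groth.Statements.S3675
import Groth.Agent.Lib.Helper14.CMSch
import Groth.Agent.Lib.Helper99.SPerf12
import Groth.Agent.S0370

set_option autoImplicit false
universe u
open CategoryTheory CategoryTheory.Limits AlgebraicGeometry
attribute [local instance] HasDerivedCategory.standard
open Dual3

namespace Groth.Agent.S3675

namespace W75
open CategoryTheory.Limits
open Groth.Agent.Lib.Helper99.SPerf Groth.Agent.Lib.QCoh
open Groth.Agent.Lib.Helper14.DualCMUnique Groth.Agent.Lib.Helper14.CMSch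
open Groth.Agent.Lib.Helper12 Groth.Agent.Lib.Helper14.DualGor
set_option linter.style.haveILetI false

theorem main3675 (X : Scheme.{u}) [IsLocallyNoetherian X] [∀ (U V : Scheme.{u}) (j : U ⟶ V) [IsOpenImmersion j], PreservesFiniteLimits (Scheme.Modules.restrictFunctor j)] [∀ (R : CommRingCat.{u}), PreservesFiniteLimits (tilde.functor R)] (ω : X.Modules) (hω : Coh.IsCoh ω) (hD : Dual2.IsDualizingSch X (DCoh.inD X ω)) (x : X) : LocCoh.IsCohenMacaulayLocalRing (X.presheaf.stalk x) := by
  obtain ⟨_, ⟨U, hU : IsAffineOpen U, rfl⟩, hxU, -⟩ :=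
    X.isBasis_affineOpens.exists_subset_of_mem_open (Set.mem_univ x) isOpen_univ
  haveI : IsNoetherianRing Γ(X, U) := IsLocallyNoetherian.component_noetherian ⟨U, hU⟩
  obtain ⟨ωA, hωA, ⟨e⟩⟩ := hD Γ(X, U) hU.fromSpec
  -- cohomology of ωA vanishes off degree 0
  have hz : ∀ i : ℤ, i ≠ 0 → IsZero ((HF Γ(X, U) i).obj ωA) := by
    intro i hi
    have hsub : Subsingleton (Dual.HD Γ(X, U) ωA i) := by
      rw [← Module.support_eq_empty_iff (R := Γ(X, U)), Set.eq_empty_iff_forall_notMem]
      intro p hp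
      haveI : p.asIdeal.IsPrime := p.2
      have h1 : Nontrivial (LocalizedModule p.asIdeal.primeCompl (Dual.HD Γ(X, U) ωA i)) :=
        Module.mem_support_iff.1 hp
      have h2 := (nontrivial_stalk_iff' X (DCoh.inD X ω) Γ(X, U) hU.fromSpec ωA e p i).2 h1
      have h3 : IsZero (DCoh.HD (DCoh.inD X ω) i) := isZero_homology_single ω i hi
      have h4 := stalk_subsingleton_of_isZero h3 (hU.fromSpec p)
      exact not_subsingleton _ h4
    exact ModuleCat.isZero_of_subsingleton _
  obtain ⟨W, ⟨eW⟩⟩ := exists_single_iso ωA hz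
  have hfin0 : Module.Finite Γ(X, U) (Dual.HD Γ(X, U) ωA 0) := hωA.finite_cohomology 0
  have i2 : (HF Γ(X, U) 0).obj ωA ≅ W :=
    (HF Γ(X, U) 0).mapIso eW ≪≫ (HFSingleNatIso (A := Γ(X, U)) 0).app W
  haveI : Module.Finite Γ(X, U) W := Module.Finite.equiv i2.toLinearEquiv
  have hW : Dual.IsDualizing Γ(X, U) (Dual.inD Γ(X, U) W) := DualizingBC.isDualizing_of_iso eW hωA
  have hCM := Groth.Agent.S0370.result Γ(X, U) W hW
  -- transport to the stalk
  let p := hU.primeIdealOf ⟨x, hxU⟩
  haveI : p.asIdeal.IsPrime := p.2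
  have hp : LocCoh.IsCohenMacaulayLocalRing (Localization.AtPrime p.asIdeal) :=
    hCM.isCohenMacaulayLocalRing_localization p.asIdeal
  have hmem : hU.fromSpec p ∈ U := by
    have := hU.range_fromSpec
    rw [← SetLike.mem_coe, ← this]
    exact ⟨p, rfl⟩
  letI := TopCat.Presheaf.algebra_section_stalk X.presheaf ⟨hU.fromSpec p, hmem⟩
  haveI : IsLocalization p.asIdeal.primeCompl (X.presheaf.stalk (hU.fromSpec p)) :=
    hU.isLocalization_stalk' p hmem
  let eq := (IsLocalization.algEquiv p.asIdeal.primeCompl (Localization.AtPrime p.asIdeal)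
    (X.presheaf.stalk (hU.fromSpec p))).toRingEquiv
  have h5 : LocCoh.IsCohenMacaulayLocalRing (X.presheaf.stalk (hU.fromSpec p)) :=
    cm_of_ringEquiv eq
  rw [hU.fromSpec_primeIdealOf ⟨x, hxU⟩] at h5
  exact h5

end W75


/-- Let X be a locally Noetherian scheme (exactness instances as in the definition of dualizing
complexes) and ω a coherent O_X-module such that ω[0] is a dualizing complex on X. Then X is
Cohen–Macaulay: every local ring O_{X,x} is a Cohen–Macaulay local ring. -/
theorem result (X : Scheme.{u}) [IsLocallyNoetherian X] [∀ (U V : Scheme.{u}) (j : U ⟶ V) [IsOpenImmersion j], PreservesFiniteLimits (Scheme.Modules.restrictFunctor j)] [∀ (R : CommRingCat.{u}), PreservesFiniteLimits (tilde.functor R)] (ω : X.Modules) (hω : Coh.IsCoh ω) (hD : Dual2.IsDualizingSch X (DCoh.inD X ω)) (x : X) : LocCoh.IsCohenMacaulayLocalRing (X.presheaf.stalk x) :=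
  W75.main3675 X ω hω hD x

end Groth.Agent.S3675
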