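import Groth.Statements.S3700
import Groth.Agent.Lib.Helper35.RegSmooth
import Groth.Agent.Lib.Helper35.SmoothPairReg
import Groth.Agent.Lib.Helper35.AffineChart
import Groth.Agent.S3713

set_option autoImplicit false
universe u
open SGA1

namespace Groth.Agent.S3700

section Helpers

set_option maxHeartbeats 800000
set_option linter.style.haveILetI false
open Groth.Agent.Lib.Helper35 RingTheory.Sequence
open AlgebraicGeometry CategoryTheory CategoryTheory.Limits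

theorem isRegularIdeal_ker_stalkMap_iff {X Y : Scheme.{u}} (ι : Y ⟶ X) [IsClosedImmersion ι] (x : Y)
    (V : X.Opens) (hV : IsAffineOpen V) (hxV : ι x ∈ V) :
    CInt.IsRegularIdeal (RingHom.ker (ι.stalkMap x).hom) ↔
      ∃ rs : List (Localization.AtPrime (hV.primeIdealOf ⟨ι x, hxV⟩).asIdeal),
        IsRegular (Localization.AtPrime (hV.primeIdealOf ⟨ι x, hxV⟩).asIdeal) rs ∧
        Ideal.ofList rs = (RingHom.ker (ι.app V).hom).map
          (algebraMap Γ(X, V) (Localization.AtPrime (hV.primeIdealOf ⟨ι x, hxV⟩).asIdeal)) := by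
  have hVy : IsAffineOpen (ι ⁻¹ᵁ V) := hV.preimage ι
  have hxVy : x ∈ ι ⁻¹ᵁ V := hxV
  let iso := IsAffineOpen.arrowStalkMapIso ι V hV (ι ⁻¹ᵁ V) hVy le_rfl hxVy
  let e := (Arrow.leftFunc.mapIso iso).commRingCatIsoToRingEquiv
  let e' := (Arrow.rightFunc.mapIso iso).commRingCatIsoToRingEquiv
  have hq := congr($(IsAffineOpen.comap_primeIdealOf_appLE (f := ι) (x := x) V hV (ι ⁻¹ᵁ V) hVy le_rfl hxVy).1).symm
  have hw := iso.hom.w
  have hcomm : ∀ z, e' ((ι.stalkMap x).hom z) =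
      (Localization.localRingHom _ _ (ι.appLE V (ι ⁻¹ᵁ V) le_rfl).hom hq) (e z) := by
    intro z
    have := congr($(hw).hom z)
    exact this.symm
  have hsurj : Function.Surjective (ι.appLE V (ι ⁻¹ᵁ V) le_rfl).hom := by
    rw [← Scheme.Hom.app_eq_appLE]
    exact ι.app_surjective V hV
  have hk := RegSmooth.ker_localRingHom (ι.appLE V (ι ⁻¹ᵁ V) le_rfl).hom hsurj
    (hVy.primeIdealOf ⟨x, hxVy⟩).asIdeal (hV.primeIdealOf ⟨ι x, hxV⟩).asIdeal hq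
  have h1 := RegSmooth.exists_isRegular_ker_iff (ι.stalkMap x).hom
    (Localization.localRingHom _ _ (ι.appLE V (ι ⁻¹ᵁ V) le_rfl).hom hq) e e' hcomm
  rw [hk, ← Scheme.Hom.app_eq_appLE] at h1
  exact h1


/-- closed immersion of `S`-schemes, both smooth at the point: locally cut out by a weakly regular
sequence. -/
theorem exists_regular_chart {X Y S : Scheme.{u}} (f : X ⟶ S) [LocallyOfFinitePresentation f]
    (ι : Y ⟶ X) [IsClosedImmersion ι] [LocallyOfFinitePresentation (ι ≫ f)] (x : Y)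
    (hX : ι x ∈ f.smoothLocus) (hY : x ∈ (ι ≫ f).smoothLocus) :
    ∃ (V : X.Opens) (_ : IsAffineOpen V), ι x ∈ V ∧ ∃ gs : List Γ(X, V),
      IsWeaklyRegular Γ(X, V) gs ∧ RingHom.ker (ι.app V).hom = Ideal.ofList gs := by
  obtain ⟨_, ⟨W, hW, rfl⟩, hxW, -⟩ :=
    S.isBasis_affineOpens.exists_subset_of_mem_open (Set.mem_univ (f (ι x))) isOpen_univ
  obtain ⟨W, rfl⟩ : ∃ W' : S.Opens, W' = W := ⟨W, rfl⟩
  -- the open set where everything is smooth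
  let O' : X.Opens := ⟨(ι '' ((ι ≫ f).smoothLocus : Set Y)ᶜ)ᶜ,
    (ι.isClosedEmbedding.isClosedMap _ (ι ≫ f).smoothLocus.isOpen.isClosed_compl).isOpen_compl⟩
  have hxO' : ι x ∈ O' := by
    rintro ⟨z, hz, hzx⟩
    have : z = x := ι.isClosedEmbedding.injective hzx
    exact hz (this ▸ hY)
  have hO' : ι ⁻¹ᵁ O' ≤ (ι ≫ f).smoothLocus := by
    intro z hz
    by_contra hc
    exact hz ⟨z, hc, rfl⟩
  have hmem : ι x ∈ (f ⁻¹ᵁ W) ⊓ f.smoothLocus ⊓ O' := ⟨⟨hxW, hX⟩, hxO'⟩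
  obtain ⟨_, ⟨V₁, hV₁, rfl⟩, hxV₁, hV₁le⟩ :=
    X.isBasis_affineOpens.exists_subset_of_mem_open hmem ((f ⁻¹ᵁ W) ⊓ f.smoothLocus ⊓ O').isOpen
  obtain ⟨V₁, rfl⟩ : ∃ V' : X.Opens, V' = V₁ := ⟨V₁, rfl⟩
  have hVW : V₁ ≤ f ⁻¹ᵁ W := fun z hz => (hV₁le hz).1.1
  have hVsm : V₁ ≤ f.smoothLocus := fun z hz => (hV₁le hz).1.2
  have hVO' : V₁ ≤ O' := fun z hz => (hV₁le hz).2
  have hVy : IsAffineOpen (ι ⁻¹ᵁ V₁) := hV₁.preimage ι
  have hxVy : x ∈ ι ⁻¹ᵁ V₁ := hxV₁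
  have hle : ι ⁻¹ᵁ V₁ ≤ (ι ≫ f) ⁻¹ᵁ W := fun w hw => hVW hw
  have hVysm : ι ⁻¹ᵁ V₁ ≤ (ι ≫ f).smoothLocus := fun z hz => hO' (hVO' hz)
  have hsmooth := AffineChart.smooth_appLE_of_le_smoothLocus f hW hV₁ hVW hVsm
  have hsmoothY := AffineChart.smooth_appLE_of_le_smoothLocus (ι ≫ f) hW hVy hle hVysm
  letI algAB : Algebra Γ(S, W) Γ(X, V₁) := (f.appLE W V₁ hVW).hom.toAlgebra
  letI algBC : Algebra Γ(X, V₁) Γ(Y, ι ⁻¹ᵁ V₁) := (ι.appLE V₁ (ι ⁻¹ᵁ V₁) le_rfl).hom.toAlgebra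
  letI algAC : Algebra Γ(S, W) Γ(Y, ι ⁻¹ᵁ V₁) := ((ι ≫ f).appLE W (ι ⁻¹ᵁ V₁) hle).hom.toAlgebra
  haveI : IsScalarTower Γ(S, W) Γ(X, V₁) Γ(Y, ι ⁻¹ᵁ V₁) := by
    refine IsScalarTower.of_algebraMap_eq fun a => ?_
    show ((ι ≫ f).appLE W (ι ⁻¹ᵁ V₁) hle).hom a =
      (ι.appLE V₁ (ι ⁻¹ᵁ V₁) le_rfl).hom ((f.appLE W V₁ hVW).hom a)
    rw [← CommRingCat.comp_apply, Scheme.Hom.appLE_comp_appLE]
  haveI : Algebra.Smooth Γ(S, W) Γ(X, V₁) := RingHom.smooth_algebraMap.mp hsmooth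
  haveI : Algebra.Smooth Γ(S, W) Γ(Y, ι ⁻¹ᵁ V₁) := RingHom.smooth_algebraMap.mp hsmoothY
  have hBCeq : algebraMap Γ(X, V₁) Γ(Y, ι ⁻¹ᵁ V₁) = (ι.app V₁).hom := by
    rw [RingHom.algebraMap_toAlgebra, ← Scheme.Hom.app_eq_appLE]
  have hsurj : Function.Surjective (algebraMap Γ(X, V₁) Γ(Y, ι ⁻¹ᵁ V₁)) := by
    rw [hBCeq]
    exact ι.app_surjective V₁ hV₁
  obtain ⟨gs, f₀, hf₀, H⟩ := SmoothPairReg.exists_regular_gens Γ(S, W) Γ(X, V₁) Γ(Y, ι ⁻¹ᵁ V₁) hsurj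
    (hVy.primeIdealOf ⟨x, hxVy⟩).asIdeal
  have hmem2 : ι x ∈ X.basicOpen f₀ := by
    have h1 : x ∈ Y.basicOpen ((ι.appLE V₁ (ι ⁻¹ᵁ V₁) le_rfl).hom f₀) :=
      Groth.Agent.S3713.mem_basicOpen_of_not_mem_primeIdealOf hVy x hxVy _ hf₀
    have h := Scheme.basicOpen_appLE ι (ι ⁻¹ᵁ V₁) V₁ le_rfl f₀
    exact (h.le h1).2
  have hV : IsAffineOpen (X.basicOpen f₀) := hV₁.basicOpen f₀
  haveI := hV₁.isLocalization_basicOpen f₀
  obtain ⟨hreg, hker⟩ := H f₀ dvd_rfl Γ(X, X.basicOpen f₀)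
  have hk1 : ι.ker.ideal ⟨V₁, hV₁⟩ = RingHom.ker (algebraMap Γ(X, V₁) Γ(Y, ι ⁻¹ᵁ V₁)) := by
    rw [Scheme.Hom.ker_apply, hBCeq]
  have hk2 : ι.ker.ideal ⟨X.basicOpen f₀, hV⟩ =
      Ideal.ofList (gs.map (algebraMap Γ(X, V₁) Γ(X, X.basicOpen f₀))) := by
    rw [← hker, ← hk1]
    exact (ι.ker.map_ideal_basicOpen ⟨V₁, hV₁⟩ f₀).symm
  refine ⟨X.basicOpen f₀, hV, hmem2, gs.map (algebraMap Γ(X, V₁) Γ(X, X.basicOpen f₀)), hreg, ?_⟩
  rw [← hk2, Scheme.Hom.ker_apply]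


theorem aux' {X Y S : Scheme.{u}} (f : X ⟶ S) [LocallyOfFinitePresentation f]
    (ι : Y ⟶ X) [IsClosedImmersion ι] [LocallyOfFinitePresentation (ι ≫ f)] (x : Y)
    (hY : x ∈ (ι ≫ f).smoothLocus) :
    ι x ∈ f.smoothLocus ↔ CInt.IsRegularIdeal (RingHom.ker (ι.stalkMap x).hom) := by
  constructor
  · intro hX
    obtain ⟨V, hV, hxV, gs, hgs, hker⟩ := exists_regular_chart f ι x hX hY
    rw [isRegularIdeal_ker_stalkMap_iff ι x V hV hxV]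
    have hVy : IsAffineOpen (ι ⁻¹ᵁ V) := hV.preimage ι
    have hxVy : x ∈ ι ⁻¹ᵁ V := hxV
    have hq : (hV.primeIdealOf ⟨ι x, hxV⟩).asIdeal =
        (hVy.primeIdealOf ⟨x, hxVy⟩).asIdeal.comap (ι.appLE V (ι ⁻¹ᵁ V) le_rfl).hom :=
      congr($(IsAffineOpen.comap_primeIdealOf_appLE (f := ι) (x := x) V hV (ι ⁻¹ᵁ V) hVy
        le_rfl hxVy).1).symm
    have hkq : RingHom.ker (ι.app V).hom ≤ (hV.primeIdealOf ⟨ι x, hxV⟩).asIdeal := by
      intro r hr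
      rw [hq, Ideal.mem_comap, ← Scheme.Hom.app_eq_appLE, (RingHom.mem_ker).mp hr]
      exact zero_mem _
    refine ⟨gs.map (algebraMap Γ(X, V) (Localization.AtPrime (hV.primeIdealOf ⟨ι x, hxV⟩).asIdeal)),
      ?_, ?_⟩
    · refine RingTheory.Sequence.IsRegular.of_isWeaklyRegular_of_mem_maximalIdeal _ ?_
        (IsWeaklyRegular.of_flat hgs)
      intro r hr
      rw [List.mem_map] at hr
      obtain ⟨g, hg, rfl⟩ := hr
      have hgq : g ∈ (hV.primeIdealOf ⟨ι x, hxV⟩).asIdeal := by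
        apply hkq
        rw [hker]
        exact Ideal.subset_span hg
      rw [← Localization.AtPrime.map_eq_maximalIdeal]
      exact Ideal.mem_map_of_mem _ hgq
    · rw [hker, Ideal.map_ofList]
  · intro hreg
    obtain ⟨_, ⟨W, hW, rfl⟩, hxW, -⟩ :=
      S.isBasis_affineOpens.exists_subset_of_mem_open (Set.mem_univ (f (ι x))) isOpen_univ
    obtain ⟨W, rfl⟩ : ∃ W' : S.Opens, W' = W := ⟨W, rfl⟩
    have hmem : ι x ∈ f ⁻¹ᵁ W := hxW
    obtain ⟨_, ⟨V, hV, rfl⟩, hxV, hVle⟩ :=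
      X.isBasis_affineOpens.exists_subset_of_mem_open hmem (f ⁻¹ᵁ W).isOpen
    obtain ⟨V, rfl⟩ : ∃ V' : X.Opens, V' = V := ⟨V, rfl⟩
    have hVW : V ≤ f ⁻¹ᵁ W := hVle
    rw [isRegularIdeal_ker_stalkMap_iff ι x V hV hxV] at hreg
    obtain ⟨rs, hrs, hI⟩ := hreg
    have hVy : IsAffineOpen (ι ⁻¹ᵁ V) := hV.preimage ι
    have hxVy : x ∈ ι ⁻¹ᵁ V := hxV
    have hle : ι ⁻¹ᵁ V ≤ (ι ≫ f) ⁻¹ᵁ W := fun w hw => hVW hw
    letI algAB : Algebra Γ(S, W) Γ(X, V) := (f.appLE W V hVW).hom.toAlgebra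
    letI algBC : Algebra Γ(X, V) Γ(Y, ι ⁻¹ᵁ V) := (ι.appLE V (ι ⁻¹ᵁ V) le_rfl).hom.toAlgebra
    letI algAC : Algebra Γ(S, W) Γ(Y, ι ⁻¹ᵁ V) := ((ι ≫ f).appLE W (ι ⁻¹ᵁ V) hle).hom.toAlgebra
    haveI : IsScalarTower Γ(S, W) Γ(X, V) Γ(Y, ι ⁻¹ᵁ V) := by
      refine IsScalarTower.of_algebraMap_eq fun a => ?_
      show ((ι ≫ f).appLE W (ι ⁻¹ᵁ V) hle).hom a =
        (ι.appLE V (ι ⁻¹ᵁ V) le_rfl).hom ((f.appLE W V hVW).hom a)
      rw [← CommRingCat.comp_apply, Scheme.Hom.appLE_comp_appLE]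
    haveI : Algebra.FinitePresentation Γ(S, W) Γ(X, V) := f.finitePresentation_appLE hW hV hVW
    have hBCeq : algebraMap Γ(X, V) Γ(Y, ι ⁻¹ᵁ V) = (ι.app V).hom := by
      rw [RingHom.algebraMap_toAlgebra, ← Scheme.Hom.app_eq_appLE]
    have hsurj : Function.Surjective (algebraMap Γ(X, V) Γ(Y, ι ⁻¹ᵁ V)) := by
      rw [hBCeq]
      exact ι.app_surjective V hV
    have hq : (hV.primeIdealOf ⟨ι x, hxV⟩).asIdeal =
        (hVy.primeIdealOf ⟨x, hxVy⟩).asIdeal.comap (algebraMap Γ(X, V) Γ(Y, ι ⁻¹ᵁ V)) :=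
      congr($(IsAffineOpen.comap_primeIdealOf_appLE (f := ι) (x := x) V hV (ι ⁻¹ᵁ V) hVy
        le_rfl hxVy).1).symm
    have hsmY : Algebra.IsSmoothAt Γ(S, W) (hVy.primeIdealOf ⟨x, hxVy⟩).asIdeal :=
      (formallySmooth_stalkMap_iff W hW (ι ⁻¹ᵁ V) hVy hle hxVy).mp hY
    have hsmX : Algebra.IsSmoothAt Γ(S, W) (hV.primeIdealOf ⟨ι x, hxV⟩).asIdeal := by
      refine RegSmooth.isSmoothAt_comap_of_regular_local hsurj _ hsmY _ hq rs
        hrs.toIsWeaklyRegular ?_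
      rw [hBCeq]
      exact hI.symm
    exact (formallySmooth_stalkMap_iff W hW V hV hVW hxV).mpr hsmX

theorem aux {X S : Scheme.{u}} [IsLocallyNoetherian S] (f : X ⟶ S)
    [LocallyOfFiniteType f] [LocallyOfFinitePresentation f] (I : X.IdealSheafData)
    [LocallyOfFinitePresentation (I.subschemeι ≫ f)] (x : ↥I.subscheme) (hY : x ∈ (I.subschemeι ≫ f).smoothLocus) :
    I.subschemeι.base x ∈ f.smoothLocus ↔ CInt.IsRegularIdeal (RingHom.ker (I.subschemeι.stalkMap x).hom) :=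
  aux' f I.subschemeι x hY

end Helpers

open AlgebraicGeometry CategoryTheory CategoryTheory.Limits in
/-- Let S be locally Noetherian, f : X -> S locally of finite type, Y the closed subscheme of X defined
by a quasi-coherent ideal, and x a point of Y at which Y is smooth over S. Then X is smooth over S
at x if and only if the closed immersion of Y in X is regular at x, that is, the kernel of O_{X,x}
-> O_{Y,x} is generated by a regular sequence. (Smoothness at a point is membership in Mathlib's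
smooth locus, the set of points where the map of local rings is formally smooth.) -/
theorem result {X S : Scheme.{u}} [IsLocallyNoetherian S] (f : X ⟶ S)
    [LocallyOfFiniteType f] [LocallyOfFinitePresentation f] (I : X.IdealSheafData)
    [LocallyOfFinitePresentation (I.subschemeι ≫ f)] (x : ↥I.subscheme) (hY : x ∈ (I.subschemeι ≫ f).smoothLocus) :
    I.subschemeι.base x ∈ f.smoothLocus ↔ CInt.IsRegularIdeal (RingHom.ker (I.subschemeι.stalkMap x).hom) := by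
  exact aux f I x hY

end Groth.Agent.S3700
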