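import Groth.Statements.S3707
import Mathlib.AlgebraicGeometry.Morphisms.FormallyUnramified
-- import your own Groth.Agent.* helpers here

set_option autoImplicit false
universe u
open SGA1

namespace Groth.Agent.S3707

open AlgebraicGeometry CategoryTheory CategoryTheory.Limits in
/-- Let g : S' -> S be a surjective morphism of schemes, X and Y schemes over S with Y unramified over S
(formally unramified and locally of finite type), and X', Y' their base changes to S'. Then the map
sending an S-morphism X -> Y to the induced S'-morphism X' -> Y' is injective. -/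
theorem result {S S' X Y : Scheme.{u}} (g : S' ⟶ S) [Surjective g]
    (p : X ⟶ S) (q : Y ⟶ S) [FormallyUnramified q] [LocallyOfFiniteType q]
    (u v : X ⟶ Y) (hu : p ≫ 𝟙 S = u ≫ q) (hv : p ≫ 𝟙 S = v ≫ q)
    (h : pullback.map p g q g u (𝟙 S') (𝟙 S) hu ((Category.comp_id _).trans (Category.id_comp _).symm) =
      pullback.map p g q g v (𝟙 S') (𝟙 S) hv ((Category.comp_id _).trans (Category.id_comp _).symm)) :
    u = v := by
  have hπ : pullback.fst p g ≫ u = pullback.fst p g ≫ v := by
    have h1 := congrArg (· ≫ pullback.fst q g) h
    have e1 : pullback.map p g q g u (𝟙 S') (𝟙 S) hu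
        ((Category.comp_id _).trans (Category.id_comp _).symm) ≫ pullback.fst q g =
        pullback.fst p g ≫ u := pullback.lift_fst _ _ _
    have e2 : pullback.map p g q g v (𝟙 S') (𝟙 S) hv
        ((Category.comp_id _).trans (Category.id_comp _).symm) ≫ pullback.fst q g =
        pullback.fst p g ≫ v := pullback.lift_fst _ _ _
    exact e1.symm.trans (h1.trans e2)
  have hsurj : Surjective (pullback.fst p g) := inferInstance
  have hw : pullback.fst p g ≫ pullback.lift u v (hu.symm.trans hv) =
      (pullback.fst p g ≫ u) ≫ pullback.diagonal q := by
    apply pullback.hom_ext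
    · rw [Category.assoc, pullback.lift_fst, Category.assoc, pullback.diagonal_fst,
        Category.comp_id]
    · rw [Category.assoc, pullback.lift_snd, Category.assoc, pullback.diagonal_snd,
        Category.comp_id, hπ]
  have hrange : Set.range (pullback.lift u v (hu.symm.trans hv)).base ⊆
      Set.range (pullback.diagonal q).base := by
    rintro _ ⟨x, rfl⟩
    obtain ⟨x', rfl⟩ := (pullback.fst p g).surjective x
    refine ⟨(pullback.fst p g ≫ u).base x', ?_⟩
    have := congrArg (fun φ => φ.base x') hw
    simpa using this.symm
  have ht : IsOpenImmersion.lift (pullback.diagonal q) (pullback.lift u v (hu.symm.trans hv)) hrange ≫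
      pullback.diagonal q = pullback.lift u v (hu.symm.trans hv) :=
    IsOpenImmersion.lift_fac _ _ _
  have h1 := congrArg (· ≫ pullback.fst q q) ht
  have h2 := congrArg (· ≫ pullback.snd q q) ht
  simp only [Category.assoc, pullback.diagonal_fst, pullback.diagonal_snd, Category.comp_id,
    pullback.lift_fst, pullback.lift_snd] at h1 h2
  exact h1.symm.trans h2

end Groth.Agent.S3707
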