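import Groth.Statements.S3709
import Groth.Agent.Lib.Helper89.EtaleDescent2

set_option autoImplicit false
universe u
open SGA1

namespace Groth.Agent.S3709

open AlgebraicGeometry CategoryTheory CategoryTheory.Limits in
/-- A universally submersive morphism is a descent morphism for etale schemes (exactness of Hom_S(X, Y)
-> Hom_S'(X', Y') => Hom_S''(X'', Y'')): let g : S' -> S be universally submersive, X and Y schemes
over S with Y etale over S, X' and Y' their base changes along g, and f' : X' -> Y' an S'-morphism
whose two pullbacks to S'' = S' x_S S' coincide (equivalently: the two composites X'' -> X' -> Y' ->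
Y along the two projections agree). Then there is exactly one S-morphism u : X -> Y whose base
change is f'. -/
theorem result {S S' X Y : Scheme.{u}} (g : S' ⟶ S) (hg : SGA1.UnivSubmersive g)
    (p : X ⟶ S) (q : Y ⟶ S) [Etale q]
    (f' : pullback p g ⟶ pullback q g) (hf' : f' ≫ pullback.snd q g = pullback.snd p g)
    (hcoc : pullback.map p (pullback.fst g g ≫ g) p g (𝟙 X) (pullback.fst g g) (𝟙 S)
        ((Category.comp_id _).trans (Category.id_comp _).symm) (Category.comp_id _) ≫ f' ≫ pullback.fst q g =
      pullback.map p (pullback.fst g g ≫ g) p g (𝟙 X) (pullback.snd g g) (𝟙 S)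
        ((Category.comp_id _).trans (Category.id_comp _).symm) ((Category.comp_id _).trans pullback.condition) ≫
        f' ≫ pullback.fst q g) :
    ∃! u : X ⟶ Y, u ≫ q = p ∧ f' ≫ pullback.fst q g = pullback.fst p g ≫ u := by
  obtain ⟨m, hm_fst, hm_snd⟩ : ∃ m : pullback (pullback.fst p g) (pullback.fst p g) ⟶ pullback g g,
      m ≫ pullback.fst g g = pullback.fst _ _ ≫ pullback.snd p g ∧
      m ≫ pullback.snd g g = pullback.snd _ _ ≫ pullback.snd p g :=
    ⟨pullback.lift (pullback.fst _ _ ≫ pullback.snd p g) (pullback.snd _ _ ≫ pullback.snd p g)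
      (by rw [Category.assoc, Category.assoc, ← pullback.condition (f := p) (g := g),
        ← Category.assoc, ← Category.assoc, pullback.condition]),
      pullback.lift_fst _ _ _, pullback.lift_snd _ _ _⟩
  obtain ⟨c, hc_fst, hc_snd⟩ : ∃ c : pullback (pullback.fst p g) (pullback.fst p g) ⟶
      pullback p (pullback.fst g g ≫ g),
      c ≫ pullback.fst p (pullback.fst g g ≫ g) = pullback.fst _ _ ≫ pullback.fst p g ∧
      c ≫ pullback.snd p (pullback.fst g g ≫ g) = m :=
    ⟨pullback.lift (pullback.fst _ _ ≫ pullback.fst p g) m
      (by rw [Category.assoc, pullback.condition, ← Category.assoc m, hm_fst, Category.assoc]),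
      pullback.lift_fst _ _ _, pullback.lift_snd _ _ _⟩
  have h1 : c ≫ pullback.map p (pullback.fst g g ≫ g) p g (𝟙 X) (pullback.fst g g) (𝟙 S)
      ((Category.comp_id _).trans (Category.id_comp _).symm) (Category.comp_id _) =
      pullback.fst (pullback.fst p g) (pullback.fst p g) := by
    apply pullback.hom_ext
    · rw [Category.assoc, pullback.lift_fst, ← Category.assoc, hc_fst, Category.comp_id]
    · rw [Category.assoc, pullback.lift_snd, ← Category.assoc, hc_snd, hm_fst]
  have h2 : c ≫ pullback.map p (pullback.fst g g ≫ g) p g (𝟙 X) (pullback.snd g g) (𝟙 S)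
      ((Category.comp_id _).trans (Category.id_comp _).symm)
      ((Category.comp_id _).trans pullback.condition) =
      pullback.snd (pullback.fst p g) (pullback.fst p g) := by
    apply pullback.hom_ext
    · rw [Category.assoc, pullback.lift_fst, ← Category.assoc, hc_fst, Category.comp_id,
        pullback.condition]
    · rw [Category.assoc, pullback.lift_snd, ← Category.assoc, hc_snd, hm_snd]
  have hcoc' : pullback.fst (pullback.fst p g) (pullback.fst p g) ≫ f' ≫ pullback.fst q g =
      pullback.snd (pullback.fst p g) (pullback.fst p g) ≫ f' ≫ pullback.fst q g := by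
    rw [← h1, ← h2, Category.assoc, Category.assoc, hcoc]
  obtain ⟨u, hu1, hu2⟩ := Groth.Agent.Lib.Helper89.EtaleDescent.exists_hom_descent_submersive g hg
    q p f' hf' hcoc'
  refine ⟨u, ⟨hu1, hu2.symm⟩, ?_⟩
  rintro u' ⟨hu'1, hu'2⟩
  refine Groth.Agent.Lib.Helper89.EtaleDescent.eq_of_comp_eq_of_unramified q u' u
    (hu'1.trans hu1.symm) (pullback.fst p g)
    (hg _ _ _ (IsPullback.of_hasPullback p g)).surjective ?_
  rw [← hu'2, hu2]

end Groth.Agent.S3709
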