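import Groth.Statements.S3731
import Mathlib
import Groth.Agent.S0982
import Groth.Agent.S0973
-- import your own Groth.Agent.* helpers here

set_option autoImplicit false
universe u v
open CategoryTheory CategoryTheory.Limits
attribute [local instance] HasDerivedCategory.standard
open EtDl

namespace Groth.Agent.S3731
open Pretriangulated DerivedCategory
open Groth.Agent.S14388 (tt)

/-- Let A be an abelian category, k ≥ 0, and K_0 -> K_1 -> ... -> K_{2k} a chain of 2k morphisms in the
derived category of A such that every K_i has H^p(K_i) = 0 for p outside [0, k] and every morphism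
K_i -> K_{i+1} induces the zero map on H^p for all p < k. Let π : K_0 -> H^k(K_0)[-k] be the
morphism to the top cohomology object placed in degree k that induces the identity on H^k. Then the
composite K_0 -> K_{2k} factors through π. -/
theorem result {A : Type u} [Category.{v} A] [Abelian A] (k : ℕ)
    (K : ComposableArrows (DerivedCategory A) (2 * k))
    (hK : ∀ (i : ℕ) (hi : i ≤ 2 * k) (p : ℤ), p < 0 ∨ (k : ℤ) < p →
      IsZero ((DerivedCategory.homologyFunctor A p).obj (K.obj' i)))
    (hf : ∀ (i : ℕ) (hi : i < 2 * k) (p : ℤ), p < (k : ℤ) →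
      (DerivedCategory.homologyFunctor A p).map (K.map' i (i + 1)) = 0)
    (π : K.obj' 0 ⟶ (DerivedCategory.singleFunctor A (k : ℤ)).obj
      ((DerivedCategory.homologyFunctor A (k : ℤ)).obj (K.obj' 0)))
    (hπ : (DerivedCategory.homologyFunctor A (k : ℤ)).map π ≫
      (DerivedCategory.singleFunctorCompHomologyFunctorIso A (k : ℤ)).hom.app
        ((DerivedCategory.homologyFunctor A (k : ℤ)).obj (K.obj' 0)) = 𝟙 _) :
    ∃ φ : (DerivedCategory.singleFunctor A (k : ℤ)).obj
        ((DerivedCategory.homologyFunctor A (k : ℤ)).obj (K.obj' 0)) ⟶ K.obj' (2 * k),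
      K.map' 0 (2 * k) = π ≫ φ := by
  -- K_i is in D^{[0,k]}
  have hGE : ∀ (i : ℕ) (hi : i ≤ 2 * k), (K.obj' i).IsGE 0 := by
    intro i hi
    rw [isGE_iff]
    intro p hp
    exact hK i hi p (Or.inl hp)
  have hLE : ∀ (i : ℕ) (hi : i ≤ 2 * k), (K.obj' i).IsLE (k : ℤ) := by
    intro i hi
    rw [isLE_iff]
    intro p hp
    exact hK i hi p (Or.inr hp)
  -- induction
  have key : ∀ (j : ℕ) (hj : j ≤ k) (a : ℤ), a = (k : ℤ) - j →
      (((tt A).truncLTι (k : ℤ)).app (K.obj' 0) ≫ K.map' 0 j) ≫
        ((tt A).truncGEπ a).app (K.obj' j) = 0 := by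
    intro j
    induction j with
    | zero =>
      intro _ a ha
      have ha' : a = (k : ℤ) := by simpa using ha
      subst ha'
      have e0 : K.map' 0 0 = 𝟙 _ := K.map'_self 0
      rw [e0]
      have := (tt A).truncLTι_comp_truncGEπ_app (k : ℤ) (K.obj' 0)
      refine Eq.trans ?_ this
      congr 1
      exact Category.comp_id _
    | succ j ih =>
      intro hj a ha
      have h1 := ih (by omega) (a + 1) (by push_cast at ha; omega)
      have h2 : (homologyFunctor A a).map (K.map' j (j + 1)) = 0 :=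
        hf j (by omega) a (by push_cast at ha; omega)
      have h3 := Groth.Agent.S0982.step _ _ a h1 h2
      have e : K.map' 0 (j + 1) = K.map' 0 j ≫ K.map' j (j + 1) := K.map'_comp 0 j (j + 1)
      rw [e]
      simpa only [Category.assoc] using h3
  have h0 : ((tt A).truncLTι (k : ℤ)).app (K.obj' 0) ≫ K.map' 0 k = 0 := by
    have := key k le_rfl 0 (by simp)
    have i1 := hGE k (by omega)
    rw [← cancel_mono (((tt A).truncGEπ 0).app (K.obj' k)), this, zero_comp]
  have h1 : ((tt A).truncLTι (k : ℤ)).app (K.obj' 0) ≫ K.map' 0 (2 * k) = 0 := by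
    rw [K.map'_comp 0 k (2 * k), ← Category.assoc, h0, zero_comp]
  obtain ⟨ψ, hψ⟩ := Triangle.yoneda_exact₂ _ ((tt A).triangleLTGE_distinguished (k : ℤ) (K.obj' 0))
    (K.map' 0 (2 * k)) h1
  obtain ⟨ψ', hψ'⟩ : ∃ ψ' : ((tt A).truncGE (k : ℤ)).obj (K.obj' 0) ⟶ K.obj' (2 * k),
    K.map' 0 (2 * k) = ((tt A).truncGEπ (k : ℤ)).app (K.obj' 0) ≫ ψ' := ⟨ψ, hψ⟩
  -- identify π
  let S := (DerivedCategory.singleFunctor A (k : ℤ)).obj
      ((DerivedCategory.homologyFunctor A (k : ℤ)).obj (K.obj' 0))
  let θ : ((tt A).truncGE (k : ℤ)).obj (K.obj' 0) ⟶ S := (tt A).descTruncGE π (k : ℤ)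
  have hθ : ((tt A).truncGEπ (k : ℤ)).app (K.obj' 0) ≫ θ = π := (tt A).π_descTruncGE π (k : ℤ)
  have : IsIso θ := by
    rw [DerivedCategory.isIso_iff]
    intro n
    have i0 := hLE 0 (by omega)
    by_cases hn : n = (k : ℤ)
    · subst hn
      have i1 := Groth.Agent.S0973.isIso_homologyMap_truncGEπ (K.obj' 0) (k : ℤ) (k : ℤ) le_rfl
      have i2 : IsIso ((homologyFunctor A (k : ℤ)).map π) :=
        IsIso.of_isIso_fac_right hπ
      have e : (homologyFunctor A (k : ℤ)).map (((tt A).truncGEπ (k : ℤ)).app (K.obj' 0)) ≫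
          (homologyFunctor A (k : ℤ)).map θ = (homologyFunctor A (k : ℤ)).map π := by
        rw [← CategoryTheory.Functor.map_comp, hθ]
      exact IsIso.of_isIso_fac_left e
    · have hZ1 : IsZero ((homologyFunctor A n).obj (((tt A).truncGE (k : ℤ)).obj (K.obj' 0))) := by
        rcases lt_or_gt_of_ne hn with h | h
        · exact isZero_of_isGE _ (k : ℤ) n h
        · exact isZero_of_isLE _ (k : ℤ) n h
      have hZ2 : IsZero ((homologyFunctor A n).obj S) := by
        rcases lt_or_gt_of_ne hn with h | h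
        · exact isZero_of_isGE _ (k : ℤ) n h
        · exact isZero_of_isLE _ (k : ℤ) n h
      exact ⟨0, hZ1.eq_of_src _ _, hZ2.eq_of_src _ _⟩
  refine ⟨inv θ ≫ ψ', ?_⟩
  rw [hψ', ← hθ, Category.assoc, IsIso.hom_inv_id_assoc]

end Groth.Agent.S3731
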