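import Groth.Statements.S3779
import Groth.Agent.Lib.Helper19.LambdaBasic
import Mathlib.RingTheory.AdjoinRoot
-- import your own Groth.Agent.* helpers here

set_option autoImplicit false
universe v u
open CategoryTheory CategoryTheory.Limits AlgebraicGeometry
attribute [local instance] HasDerivedCategory.standard
open KRR

namespace Groth.Agent.S3779

open Groth.Agent.Lib.Helper19.Lam

/-- uniqueness for linear recurrences with leading coefficient one. -/
lemma rec_unique {K : Type*} [CommRing K] (a : ℕ → K) (ha : a 0 = 1) (m : ℕ) (g h : ℕ → K)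
    (hg : ∀ k, ∑ i ∈ Finset.range (m + 1), a i * g (m + k - i) = 0)
    (hh : ∀ k, ∑ i ∈ Finset.range (m + 1), a i * h (m + k - i) = 0)
    (hlow : ∀ j, j < m → g j = h j) : ∀ n, g n = h n := by
  intro n
  induction n using Nat.strong_induction_on with
  | _ n ih =>
    by_cases hn : n < m
    · exact hlow n hn
    · obtain ⟨k, rfl⟩ : ∃ k, n = m + k := ⟨n - m, by omega⟩
      have h1 := hg k
      have h2 := hh k
      rw [Finset.sum_range_succ'] at h1 h2
      simp only [ha, one_mul, Nat.sub_zero] at h1 h2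
      have h3 : ∑ i ∈ Finset.range m, a (i + 1) * g (m + k - (i + 1)) =
          ∑ i ∈ Finset.range m, a (i + 1) * h (m + k - (i + 1)) := by
        refine Finset.sum_congr rfl (fun i hi => ?_)
        have := Finset.mem_range.mp hi
        rw [ih (m + k - (i + 1)) (by omega)]
      rw [h3] at h1
      have := h1.trans h2.symm
      exact add_left_cancel this

/-- the general algebraic statement. -/
lemma general {K : Type*} [CommRing K] (a σ : ℕ → K) (r : ℕ) (ha0 : a 0 = 1)
    (ha_big : ∀ i, r + 1 < i → a i = 0) (ham : IsUnit (a (r + 1)))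
    (hnewton : ∀ n, 0 < n → ∑ i ∈ Finset.range (n + 1), a i * σ (n - i) = 0)
    (p : Polynomial K)
    (hp : p = ∑ i ∈ Finset.range (r + 1 + 1), Polynomial.C (a i) * Polynomial.X ^ (r + 1 - i))
    (f : AdjoinRoot p →ₗ[K] K)
    (hf : ∀ i : ℕ, i ≤ r → f (AdjoinRoot.root p ^ i) = σ i)
    (linv : AdjoinRoot p) (hlinv : linv * AdjoinRoot.root p = 1) :
    (∀ i : ℕ, f (AdjoinRoot.root p ^ i) = σ i) ∧
    ∀ n : ℕ, 1 ≤ n → n ≤ r → f (linv ^ n) = 0 := by
  set ℓ := AdjoinRoot.root p with hℓ
  set m := r + 1 with hm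
  -- the root equation
  have hroot : ∑ i ∈ Finset.range (m + 1), AdjoinRoot.of p (a i) * ℓ ^ (m - i) = 0 := by
    have h := AdjoinRoot.eval₂_root p
    conv at h => arg 1; arg 3; rw [hp]
    rw [Polynomial.eval₂_finsetSum] at h
    simpa [Polynomial.eval₂_mul, Polynomial.eval₂_C, Polynomial.eval₂_pow, Polynomial.eval₂_X]
      using h
  -- linearity
  have hlin : ∀ (c : K) (z : AdjoinRoot p), f (AdjoinRoot.of p c * z) = c * f z := by
    intro c z
    rw [← AdjoinRoot.algebraMap_eq, ← Algebra.smul_def, map_smul, smul_eq_mul]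
  have hnewton' : ∀ k, ∑ i ∈ Finset.range (m + 1), a i * σ (m + k - i) = 0 := by
    intro k
    have h := hnewton (m + k) (by omega)
    rw [← h]
    refine Finset.sum_subset (fun i hi => ?_) (fun i hi hi' => ?_)
    · simp only [Finset.mem_range] at hi ⊢; omega
    · simp only [Finset.mem_range] at hi hi'
      rw [ha_big i (by omega), zero_mul]
  have claim1 : ∀ i : ℕ, f (ℓ ^ i) = σ i := by
    apply rec_unique a ha0 m (fun j => f (ℓ ^ j)) σ
    · intro k
      have h := congrArg (fun z => f (z * ℓ ^ k)) hroot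
      simp only [zero_mul, map_zero, Finset.sum_mul, map_sum] at h
      rw [← h]
      refine Finset.sum_congr rfl (fun i hi => ?_)
      simp only [Finset.mem_range] at hi
      rw [mul_assoc, hlin, ← pow_add]
      congr 3
      omega
    · exact hnewton'
    · intro j hj
      exact hf j (by omega)
  refine ⟨claim1, ?_⟩
  have hℓl : ℓ * linv = 1 := by rw [mul_comm]; exact hlinv
  have hpow1 : ∀ j n : ℕ, n ≤ j → ℓ ^ j * linv ^ n = ℓ ^ (j - n) := by
    intro j n hnj
    obtain ⟨d, rfl⟩ : ∃ d, j = d + n := ⟨j - n, by omega⟩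
    rw [pow_add, mul_assoc, ← mul_pow, hℓl, one_pow, mul_one, Nat.add_sub_cancel]
  have hpow2 : ∀ j n : ℕ, j ≤ n → ℓ ^ j * linv ^ n = linv ^ (n - j) := by
    intro j n hnj
    obtain ⟨d, rfl⟩ : ∃ d, n = d + j := ⟨n - j, by omega⟩
    rw [pow_add, mul_comm (linv ^ d), ← mul_assoc, ← mul_pow, hℓl, one_pow, one_mul,
      Nat.add_sub_cancel]
  intro n
  induction n using Nat.strong_induction_on with
  | _ n ih =>
    intro hn1 hnr
    have h := congrArg (fun z => f (z * linv ^ n)) hroot
    simp only [zero_mul, map_zero, Finset.sum_mul, map_sum] at h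
    have hsplit : m + 1 = (m - n + 1) + n := by omega
    rw [hsplit, Finset.sum_range_add] at h
    have hfirst : ∑ x ∈ Finset.range (m - n + 1),
        f (AdjoinRoot.of p (a x) * ℓ ^ (m - x) * linv ^ n) = 0 := by
      rw [← hnewton (m - n) (by omega)]
      refine Finset.sum_congr rfl (fun i hi => ?_)
      simp only [Finset.mem_range] at hi
      rw [mul_assoc, hlin, hpow1 _ _ (by omega), claim1]
      congr 2
      omega
    rw [hfirst, zero_add] at h
    obtain ⟨n', rfl⟩ : ∃ n', n = n' + 1 := ⟨n - 1, by omega⟩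
    rw [Finset.sum_range_succ] at h
    have hsecond : ∑ x ∈ Finset.range n', f (AdjoinRoot.of p (a (m - (n' + 1) + 1 + x)) *
        ℓ ^ (m - (m - (n' + 1) + 1 + x)) * linv ^ (n' + 1)) = 0 := by
      refine Finset.sum_eq_zero (fun i hi => ?_)
      simp only [Finset.mem_range] at hi
      rw [mul_assoc, hlin, hpow2 _ _ (by omega)]
      rw [ih (n' + 1 - (m - (m - (n' + 1) + 1 + i))) (by omega) (by omega) (by omega), mul_zero]
    rw [hsecond, zero_add, mul_assoc, hlin, hpow2 _ _ (by omega)] at h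
    have e1 : m - (n' + 1) + 1 + n' = m := by omega
    rw [e1] at h
    have e2 : n' + 1 - (m - m) = n' + 1 := by omega
    rw [e2] at h
    exact (ham.mul_right_eq_zero).mp h

/-- Let K be a λ-ring with positive structure having the splitting property, e positive with ε(e) = r +
1, K_e = K[T]/(p_e) with canonical generator ℓ (a unit), σ^i(e) the coefficients of σ_t(e) =
λ_{-t}(e)⁻¹, and f : K_e ⟶ K a K-linear map with f(ℓ^i) = σ^i(e) for 0 ≤ i ≤ r. Then f(ℓ^i) = σ^i(e)
for all i ≥ 0, and f(ℓ^{-n}) = 0 for 1 ≤ n ≤ r (stated with any inverse linv of ℓ). -/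
theorem result (K : Type v) [CommRing K] [LambdaRing.LambdaOps K] (P : LambdaRing.PosStructure K) (hK : LambdaRing.HasSplitting K P) (e : K) (he : e ∈ P.pos) (r : ℕ) (hr : P.aug e = r + 1)
    (f : AdjoinRoot (KRR.extPoly P e) →ₗ[K] K)
    (hf : ∀ i : ℕ, i ≤ r → f (AdjoinRoot.root (KRR.extPoly P e) ^ i) = KRR.sigma i e)
    (linv : AdjoinRoot (KRR.extPoly P e)) (hlinv : linv * AdjoinRoot.root (KRR.extPoly P e) = 1) :
    (∀ i : ℕ, f (AdjoinRoot.root (KRR.extPoly P e) ^ i) = KRR.sigma i e) ∧
    ∀ n : ℕ, 1 ≤ n → n ≤ r → f (linv ^ n) = 0 := by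
  have hmn : (P.aug e).toNat = r + 1 := by rw [hr]; omega
  refine general (fun i => (-1 : K) ^ i * LambdaRing.LambdaOps.lam i e) (fun j => KRR.sigma j e) r
    ?_ ?_ ?_ ?_ (KRR.extPoly P e) ?_ f hf linv hlinv
  · simp [LambdaRing.LambdaOps.lam_zero]
  · intro i hi
    have : LambdaRing.LambdaOps.lam i e = 0 := by
      apply P.lam_eq_zero e he
      rw [hr]; push_cast; omega
    simp [this]
  · have h1 := P.isUnit_lam e he
    rw [hmn] at h1
    have h2 : IsUnit ((-1 : K) ^ (r + 1)) := (isUnit_one.neg).pow _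
    exact h2.mul h1
  · intro n hn
    have := sum_lam_sigma e n hn
    rw [Finset.Nat.sum_antidiagonal_eq_sum_range_succ_mk] at this
    exact this
  · unfold KRR.extPoly
    rw [hmn]

end Groth.Agent.S3779
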