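import Groth.Statements.S3780
import Groth.Agent.Lib.Helper19.LambdaExt
-- import your own Groth.Agent.* helpers here

set_option autoImplicit false
universe v u
open CategoryTheory CategoryTheory.Limits AlgebraicGeometry
attribute [local instance] HasDerivedCategory.standard
open KRR

namespace Groth.Agent.S3780

open Groth.Agent.Lib.Helper19.Lam

lemma general2 {K : Type*} [CommRing K] [LambdaRing.LambdaOps K] (p : Polynomial K) (e : K)
    (inst : LambdaRing.LambdaOps (AdjoinRoot p))
    (hext : ∀ (i : ℕ) (x : K), @LambdaRing.LambdaOps.lam _ _ inst i (AdjoinRoot.of p x) =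
      AdjoinRoot.of p (LambdaRing.LambdaOps.lam i x))
    (hroot : ∀ i : ℕ, 2 ≤ i → @LambdaRing.LambdaOps.lam _ _ inst i (AdjoinRoot.root p) = 0)
    (f : AdjoinRoot p →ₗ[K] K)
    (hfpow : ∀ i : ℕ, f (AdjoinRoot.root p ^ i) = KRR.sigma i e) (i : ℕ) :
    f (@LambdaRing.LambdaOps.lam _ _ inst i (AdjoinRoot.of p e - AdjoinRoot.root p)) =
      if i = 0 then 1 else 0 := by
  set ℓ := AdjoinRoot.root p with hℓ
  -- λ-series of ℓ
  have hlamℓ : LambdaRing.lamSeries ℓ = 1 + PowerSeries.C ℓ * PowerSeries.X := by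
    ext i
    rcases i with _ | _ | i
    · simp [LambdaRing.LambdaOps.lam_zero]
    · simp [LambdaRing.LambdaOps.lam_one]
    · have h0 : LambdaRing.LambdaOps.lam (i + 2) ℓ = 0 := hroot (i + 2) (by omega)
      have h1 : PowerSeries.coeff (i + 2) (1 : PowerSeries (AdjoinRoot p)) = 0 := by
        rw [PowerSeries.coeff_one]; simp
      have h2 : PowerSeries.coeff (i + 1 + 1) (PowerSeries.C ℓ * PowerSeries.X) = 0 := by
        rw [PowerSeries.coeff_succ_mul_X, PowerSeries.coeff_C]; simp
      rw [coeff_lamSeries, h0, map_add, h1, h2, add_zero]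
  have hlame : LambdaRing.lamSeries (AdjoinRoot.of p e) =
      PowerSeries.map (AdjoinRoot.of p) (LambdaRing.lamSeries e) := by
    ext i
    rw [coeff_lamSeries, PowerSeries.coeff_map, coeff_lamSeries]
    exact hext i e
  -- inverse of 1 + ℓ t
  set G : PowerSeries (AdjoinRoot p) := PowerSeries.mk fun j => (-ℓ) ^ j with hG
  have hmul : (1 + PowerSeries.C ℓ * PowerSeries.X) * G = 1 := by
    ext n
    rw [add_mul, one_mul, mul_assoc, map_add, PowerSeries.coeff_C_mul]
    rcases n with _ | n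
    · simp [hG]
    · rw [PowerSeries.coeff_succ_X_mul]
      simp only [hG, PowerSeries.coeff_mk, PowerSeries.coeff_one]
      simp [pow_succ']
  have hq : LambdaRing.lamSeries (AdjoinRoot.of p e - ℓ) =
      PowerSeries.map (AdjoinRoot.of p) (LambdaRing.lamSeries e) * G := by
    have h := lamSeries_sub_mul (AdjoinRoot.of p e) ℓ
    rw [hlamℓ, hlame] at h
    calc LambdaRing.lamSeries (AdjoinRoot.of p e - ℓ)
        = LambdaRing.lamSeries (AdjoinRoot.of p e - ℓ) * ((1 + PowerSeries.C ℓ * PowerSeries.X) * G) := by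
          rw [hmul, mul_one]
      _ = (LambdaRing.lamSeries (AdjoinRoot.of p e - ℓ) * (1 + PowerSeries.C ℓ * PowerSeries.X)) * G := by
          ring
      _ = _ := by rw [h]
  have hcoeff : LambdaRing.LambdaOps.lam i (AdjoinRoot.of p e - ℓ) =
      ∑ x ∈ Finset.HasAntidiagonal.antidiagonal i,
        AdjoinRoot.of p (LambdaRing.LambdaOps.lam x.1 e) * (-ℓ) ^ x.2 := by
    rw [← coeff_lamSeries, hq, PowerSeries.coeff_mul]
    refine Finset.sum_congr rfl (fun x _ => ?_)
    rw [PowerSeries.coeff_map, coeff_lamSeries, hG, PowerSeries.coeff_mk]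
  have hlin : ∀ (c : K) (z : AdjoinRoot p), f (AdjoinRoot.of p c * z) = c * f z := by
    intro c z
    rw [← AdjoinRoot.algebraMap_eq, ← Algebra.smul_def, map_smul, smul_eq_mul]
  have hneg : ∀ b : ℕ, f ((-ℓ) ^ b) = (-1 : K) ^ b * KRR.sigma b e := by
    intro b
    have : (-ℓ) ^ b = AdjoinRoot.of p ((-1 : K) ^ b) * ℓ ^ b := by
      rw [neg_pow, map_pow, map_neg, map_one]
    rw [this, hlin, hfpow]
  rw [hcoeff, map_sum]
  have h5 := congrArg (PowerSeries.coeff i) (lamSeries_mul_rescale_sigmaSeries e)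
  rw [PowerSeries.coeff_mul, PowerSeries.coeff_one] at h5
  rw [← h5]
  refine Finset.sum_congr rfl (fun x _ => ?_)
  rw [hlin, hneg, coeff_lamSeries, PowerSeries.coeff_rescale]
  rfl

/-- Let K be a λ-ring with positive structure admitting a splitting, e a positive element of
augmentation ε(e) = r + 1, K_e = K[T]/(p_e(T)) the elementary extension of K with ℓ the class of T,
and f : K_e → K a K-linear functional with f(ℓ^i) = σ^i(e) for i ≤ r. For any λ-operations on K_e
extending those of K with λ^i(ℓ) = 0 for i ≥ 2, and q = e − ℓ ∈ K_e, one has f(λ^0(q)) = 1 and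
f(λ^i(q)) = 0 for all i ≥ 1; that is, f(λ_t(q)) = 1. -/
theorem result (K : Type v) [CommRing K] [LambdaRing.LambdaOps K] (P : LambdaRing.PosStructure K) (hK : LambdaRing.HasSplitting K P) (e : K) (he : e ∈ P.pos) (r : ℕ) (hr : P.aug e = r + 1)
    (inst : LambdaRing.LambdaOps (AdjoinRoot (KRR.extPoly P e)))
    (hext : ∀ (i : ℕ) (x : K), @LambdaRing.LambdaOps.lam _ _ inst i (AdjoinRoot.of (KRR.extPoly P e) x) =
      AdjoinRoot.of (KRR.extPoly P e) (LambdaRing.LambdaOps.lam i x))
    (hroot : ∀ i : ℕ, 2 ≤ i → @LambdaRing.LambdaOps.lam _ _ inst i (AdjoinRoot.root (KRR.extPoly P e)) = 0)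
    (f : AdjoinRoot (KRR.extPoly P e) →ₗ[K] K)
    (hf : ∀ i : ℕ, i ≤ r → f (AdjoinRoot.root (KRR.extPoly P e) ^ i) = KRR.sigma i e) (i : ℕ) :
    f (@LambdaRing.LambdaOps.lam _ _ inst i (AdjoinRoot.of (KRR.extPoly P e) e - AdjoinRoot.root (KRR.extPoly P e))) =
      if i = 0 then 1 else 0 := by
  exact general2 (KRR.extPoly P e) e inst hext hroot f (functional_pow P e he r hr f hf) i

end Groth.Agent.S3780
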