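import Groth.Statements.S3781
import Groth.Agent.Lib.Helper17.LambdaDet

set_option autoImplicit false
universe v u
open CategoryTheory CategoryTheory.Limits AlgebraicGeometry
attribute [local instance] HasDerivedCategory.standard
open KRR

namespace Groth.Agent.S3781

open Groth.Agent.Lib.Helper17.Lam

/-- Let K be a λ-ring with positive structure having the splitting property, L its group of line
elements and F^n the γ-filtration. Assume moreover that the inverse of a line element is a line
element and that for a positive e with ε(e) = r the element det e = λ^r(e) is positive (hence a line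
element); these are part of the published setting but are not implied by the axioms used here, so
they are hypotheses. Then u ↦ u − 1 induces an isomorphism L ≅ Gr^1 K = F^1/F^2: every x ∈ F^1 is
congruent modulo F^2 to u − 1 for some line element u, and line elements u, v with u − v ∈ F^2 are
equal. -/
theorem result (K : Type v) [CommRing K] [LambdaRing.LambdaOps K] (P : LambdaRing.PosStructure K) (hK : LambdaRing.HasSplitting K P)
    (hLinv : ∀ w : K, P.IsLine w → ∃ w' : K, P.IsLine w' ∧ w * w' = 1)
    (hdet : ∀ e : K, e ∈ P.pos → LambdaRing.LambdaOps.lam (P.aug e).toNat e ∈ P.pos) :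
    (∀ x : K, x ∈ LambdaRing.gammaFiltration P 1 → ∃ u : K, P.IsLine u ∧ x - (u - 1) ∈ LambdaRing.gammaFiltration P 2) ∧
    ∀ u v : K, P.IsLine u → P.IsLine v → u - v ∈ LambdaRing.gammaFiltration P 2 → u = v := by
  constructor
  · intro x hx
    have hxaug := aug_eq_zero_of_mem_filt_one hK hx
    obtain ⟨e, f, he, hf, rfl⟩ := P.exists_sub x
    have haug : P.aug e = P.aug f := by
      rw [map_sub] at hxaug
      exact sub_eq_zero.mp hxaug
    have hDe : P.IsLine (top P e) := by
      refine ⟨hdet e he, ?_⟩
      unfold top
      rw [aug_lam_eq_choose hK he, Nat.choose_self]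
      rfl
    have hDf : P.IsLine (top P f) := by
      refine ⟨hdet f hf, ?_⟩
      unfold top
      rw [aug_lam_eq_choose hK hf, Nat.choose_self]
      rfl
    obtain ⟨w, hw, hfw⟩ := hLinv (top P f) hDf
    refine ⟨top P e * w, isLine_mul P hDe hw, ?_⟩
    have h1 := top_sub_one_sub_mem hK he
    have h2 := top_sub_one_sub_mem hK hf
    rw [haug] at h1
    have h3 : (1 - w) * (top P e - top P f) ∈ LambdaRing.gammaFiltration P (1 + 1) := by
      apply filt_mul P
      · apply mem_gammaFiltration_one_of_aug_eq_zero
        rw [map_sub, map_one, hw.2, sub_self]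
      · apply mem_gammaFiltration_one_of_aug_eq_zero
        rw [map_sub, hDe.2, hDf.2, sub_self]
    have h4 : e - f - (top P e * w - 1) =
        -((top P e - 1) - (e - ((P.aug f).toNat : K))) +
          ((top P f - 1) - (f - ((P.aug f).toNat : K))) + (1 - w) * (top P e - top P f) := by
      linear_combination (-1 : K) * hfw
    rw [h4]
    exact AddSubgroup.add_mem _ (AddSubgroup.add_mem _ (AddSubgroup.neg_mem _ h1) h2) h3
  · intro u v hu hv huv
    have h := det_eq_one_of_mem_filt_two hK huv
    have h2 := det_add P (u - v) v
    rw [sub_add_cancel, h, one_mul, det_of_isLine P hu, det_of_isLine P hv] at h2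
    exact h2

end Groth.Agent.S3781
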