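import Groth.Statements.S3791
import Groth.Agent.Lib.Helper19.LambdaBasic
import Mathlib.RingTheory.PowerSeries.Trunc
import Mathlib.RingTheory.Nilpotent.Lemmas
import Mathlib.RingTheory.Ideal.Prime
import Mathlib.RingTheory.Nilpotent.Basic
-- import your own Groth.Agent.* helpers here

set_option autoImplicit false
universe v u
open CategoryTheory CategoryTheory.Limits AlgebraicGeometry
attribute [local instance] HasDerivedCategory.standard
open KRR

namespace Groth.Agent.S3791

open Groth.Agent.Lib.Helper19.Lam LambdaRing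

variable {K : Type*} [CommRing K] [LambdaRing.LambdaOps K]

lemma isLine_mul (P : PosStructure K) {a b : K} (ha : P.IsLine a) (hb : P.IsLine b) :
    P.IsLine (a * b) :=
  ⟨P.mul_mem a b ha.1 hb.1, by rw [map_mul, ha.2, hb.2, mul_one]⟩

lemma isLine_pow (P : PosStructure K) {a : K} (ha : P.IsLine a) (n : ℕ) : P.IsLine (a ^ n) := by
  induction n with
  | zero => simpa using isLine_one P
  | succ n ih => rw [pow_succ]; exact isLine_mul P ih ha

lemma isUnit_of_isLine (P : PosStructure K) {a : K} (ha : P.IsLine a) : IsUnit a := by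
  have := P.isUnit_lam a ha.1
  rw [ha.2] at this
  simpa [LambdaOps.lam_one] using this

lemma key (P : PosStructure K) {l1 l2 e : K} {m : ℕ} (h1 : P.IsLine l1) (h2 : P.IsLine l2)
    (he : e ∈ P.pos) (h : l1 - l2 = e - m) : (l2 - l1) * (l2 - 1) ^ m = 0 := by
  have haug : P.aug e = m := by
    have := congrArg P.aug h
    rw [map_sub, map_sub, h1.2, h2.2, map_natCast] at this
    linarith
  have hs : (1 + PowerSeries.C l1 * PowerSeries.X) * (1 + PowerSeries.X) ^ m =
      (1 + PowerSeries.C l2 * PowerSeries.X) * lamSeries e := by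
    rw [← lamSeries_of_isLine P h1, ← lamSeries_of_isLine P h2, ← lamSeries_natCast P m,
      ← lamSeries_add, ← lamSeries_add]
    congr 1
    linear_combination h
  let Pe : Polynomial K := PowerSeries.trunc (m + 1) (lamSeries e)
  have hPe : (Pe : PowerSeries K) = lamSeries e := by
    ext i
    rw [Polynomial.coeff_coe, PowerSeries.coeff_trunc]
    split_ifs with hi
    · rfl
    · rw [coeff_lamSeries]
      symm
      apply P.lam_eq_zero e he
      rw [haug]
      exact_mod_cast (by omega : m < i)
  have hpoly : (1 + Polynomial.C l1 * Polynomial.X) * (1 + Polynomial.X) ^ m =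
      (1 + Polynomial.C l2 * Polynomial.X) * Pe := by
    apply Polynomial.coe_injective
    push_cast
    rw [hPe]
    exact hs
  obtain ⟨c, hc⟩ := (isUnit_of_isLine P h2).exists_right_inv
  have hev := congrArg (Polynomial.eval (-c)) hpoly
  simp only [Polynomial.eval_mul, Polynomial.eval_add, Polynomial.eval_one, Polynomial.eval_C,
    Polynomial.eval_X, Polynomial.eval_pow] at hev
  have hz : (1 + l2 * -c) = 0 := by linear_combination (-1 : K) * hc
  rw [hz, zero_mul] at hev
  calc (l2 - l1) * (l2 - 1) ^ m = (l2 * (1 + l1 * -c)) * (l2 * (1 + -c)) ^ m := by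
        rw [show l2 * (1 + l1 * -c) = l2 - l1 by linear_combination (-l1) * hc,
          show l2 * (1 + -c) = l2 - 1 by linear_combination (-1 : K) * hc]
    _ = l2 ^ (m + 1) * ((1 + l1 * -c) * (1 + -c) ^ m) := by rw [mul_pow]; ring
    _ = 0 := by rw [hev, mul_zero]

/-- Let K be a λ-ring with positive structure P and u an ample line element (for every x, u^n x is a
positive element minus a natural number for all large n). Then for every line element v, the element
v - 1 is nilpotent. -/
theorem result (K : Type v) [CommRing K] [LambdaRing.LambdaOps K] (P : LambdaRing.PosStructure K)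
    (u : K) (hu : KRR.IsAmpleElt P u) (w : K) (hw : P.IsLine w) : IsNilpotent (w - 1) := by
  obtain ⟨huL, hamp⟩ := hu
  obtain ⟨n1, hn1⟩ := hamp (w - 1)
  obtain ⟨n2, hn2⟩ := hamp (1 - w)
  set n := max n1 n2 with hn
  obtain ⟨e, m, he, h⟩ := hn1 n (le_max_left _ _)
  obtain ⟨e', m', he', h'⟩ := hn2 n (le_max_right _ _)
  have hl2 : P.IsLine (u ^ n) := isLine_pow P huL n
  have hl1 : P.IsLine (u ^ n * w) := isLine_mul P hl2 hw
  have k1 := key P hl1 hl2 he (by rw [← h]; ring)
  have k2 := key P hl2 hl1 he' (by rw [← h']; ring)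
  have hunit : IsUnit (u ^ n) := isUnit_of_isLine P hl2
  rw [nilpotent_iff_mem_prime]
  intro J hJ
  by_contra hx
  have hnotu : u ^ n ∉ J := fun hmem => hJ.ne_top (Ideal.eq_top_of_isUnit_mem J hmem hunit)
  have hd : u ^ n - u ^ n * w ∉ J := by
    intro hmem
    have : u ^ n * (w - 1) ∈ J := by
      have := J.neg_mem hmem
      convert this using 1
      ring
    rcases hJ.mem_or_mem this with h3 | h3
    · exact hnotu h3
    · exact hx h3
  have ha : u ^ n - 1 ∈ J := by
    have : (u ^ n - u ^ n * w) * (u ^ n - 1) ^ m ∈ J := by rw [k1]; exact J.zero_mem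
    rcases hJ.mem_or_mem this with h3 | h3
    · exact absurd h3 hd
    · exact hJ.mem_of_pow_mem m h3
  have hb : u ^ n * w - 1 ∈ J := by
    have : (u ^ n * w - u ^ n) * (u ^ n * w - 1) ^ m' ∈ J := by rw [k2]; exact J.zero_mem
    rcases hJ.mem_or_mem this with h3 | h3
    · exfalso
      apply hd
      have := J.neg_mem h3
      convert this using 1
      ring
    · exact hJ.mem_of_pow_mem m' h3
  apply hd
  have := J.sub_mem ha hb
  convert this using 1
  ring

end Groth.Agent.S3791
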