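import Groth.Statements.S3802
import Groth.Agent.Lib.Helper17.LambdaAdamsFilt
import Groth.Agent.Lib.Helper17.AdjoinRootEuler
import Groth.Agent.S3780

set_option autoImplicit false
universe v u
open CategoryTheory CategoryTheory.Limits AlgebraicGeometry
attribute [local instance] HasDerivedCategory.standard
open KRR

namespace Groth.Agent.S3802

open Groth.Agent.Lib.Helper17.Lam Groth.Agent.Lib.Helper17 Finset

lemma one_sub_mul_geom {R : Type*} [CommRing R] (a : R) :
    (1 - PowerSeries.C a * PowerSeries.X) * PowerSeries.mk (fun j => a ^ j) = 1 := by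
  ext n
  rw [sub_mul, one_mul, mul_assoc, map_sub, PowerSeries.coeff_C_mul]
  rcases n with _ | n
  · simp
  · rw [PowerSeries.coeff_succ_X_mul]
    simp only [PowerSeries.coeff_mk, PowerSeries.coeff_one]
    simp [pow_succ']

/-- `(-1)^n λ^n(x - ℓ)` for a line element `ℓ` -/
lemma coeff_g_sub_line {L : Type*} [CommRing L] [LambdaRing.LambdaOps L]
    (PL : LambdaRing.PosStructure L) {l : L} (hl : PL.IsLine l) (x : L) (n : ℕ) :
    (-1 : L) ^ n * LambdaRing.LambdaOps.lam n (x - l) =
      ∑ k ∈ range (n + 1), ((-1 : L) ^ k * LambdaRing.LambdaOps.lam k x) * l ^ (n - k) := by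
  have h1 : g x = g (x - l) * (1 - PowerSeries.C l * PowerSeries.X) := by
    rw [← g_of_isLine PL hl, ← g_add, sub_add_cancel]
  have h2 : g (x - l) = g x * PowerSeries.mk (fun j => l ^ j) := by
    rw [h1, mul_assoc, one_sub_mul_geom, mul_one]
  have h3 := congrArg (PowerSeries.coeff n) h2
  rw [PowerSeries.coeff_mul, Finset.Nat.sum_antidiagonal_eq_sum_range_succ_mk] at h3
  unfold g at h3
  simp only [PowerSeries.coeff_rescale, coeff_lamSeries, PowerSeries.coeff_mk] at h3
  exact h3

/-- Let K be a λ-ring with positive structure having the splitting property, c positive with ε(c) = r +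
1, and K_c = K[T]/(p_c) with generator ℓ, equipped with a λ-structure extending that of K with
λ^i(ℓ) = 0 for i ≥ 2 and a positive structure making K ⟶ K_c an extension with ℓ a line element and
c - ℓ positive (when r ≥ 1), having the splitting property; let f : K_c ⟶ K be the associated
K-linear functional (f(ℓ^i) = σ^i(c) for i ≤ r). If z ∈ K_c satisfies z (1 - ℓ) = 0, then z = f(z) ·
λ_{-1}(c - ℓ), where λ_{-1}(c - ℓ) = Σ_{i ≤ r} (-1)^i λ^i(c - ℓ). -/
theorem result (K : Type v) [CommRing K] [LambdaRing.LambdaOps K] (P : LambdaRing.PosStructure K) (hK : LambdaRing.HasSplitting K P) (c : K) (hc : c ∈ P.pos) (r : ℕ) (hr : P.aug c = r + 1)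
    (inst : LambdaRing.LambdaOps (AdjoinRoot (KRR.extPoly P c))) (Pc : @LambdaRing.PosStructure _ _ inst)
    (hext : @LambdaRing.IsExtension K _ _ _ _ inst P Pc (AdjoinRoot.of (KRR.extPoly P c)))
    (hroot : ∀ i : ℕ, 2 ≤ i → @LambdaRing.LambdaOps.lam _ _ inst i (AdjoinRoot.root (KRR.extPoly P c)) = 0)
    (hline : @LambdaRing.PosStructure.IsLine _ _ inst Pc (AdjoinRoot.root (KRR.extPoly P c)))
    (hpos : 1 ≤ r → AdjoinRoot.of (KRR.extPoly P c) c - AdjoinRoot.root (KRR.extPoly P c) ∈ (@LambdaRing.PosStructure.pos _ _ inst Pc))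
    (hsplit : @LambdaRing.HasSplitting _ _ inst Pc)
    (f : AdjoinRoot (KRR.extPoly P c) →ₗ[K] K)
    (hf : ∀ i : ℕ, i ≤ r → f (AdjoinRoot.root (KRR.extPoly P c) ^ i) = KRR.sigma i c)
    (z : AdjoinRoot (KRR.extPoly P c)) (hz : z * (1 - AdjoinRoot.root (KRR.extPoly P c)) = 0) :
    z = AdjoinRoot.of (KRR.extPoly P c) (f z) *
      @KRR.lamAlt _ _ inst Pc (AdjoinRoot.of (KRR.extPoly P c) c - AdjoinRoot.root (KRR.extPoly P c)) := by
  let _ := inst
  set μ : ℕ → K := fun i => (-1 : K) ^ i * LambdaRing.LambdaOps.lam i c with hμ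
  have hμ0 : μ 0 = 1 := by simp [hμ, LambdaRing.LambdaOps.lam_zero]
  have hm : (P.aug c).toNat = r + 1 := by rw [hr]; omega
  have hpol : KRR.extPoly P c = Euler.pol μ (r + 1) := by
    unfold KRR.extPoly Euler.pol
    rw [hm]
  obtain ⟨a, ha⟩ := Euler.exists_eq_of_mul μ hμ0 r _ hpol z hz
  -- the element `W` is `λ_{-1}(c - ℓ)`
  have haugx : (Pc.aug (AdjoinRoot.of (KRR.extPoly P c) c - AdjoinRoot.root (KRR.extPoly P c))).toNat
      = r := by
    rw [map_sub, hext.aug_comp, hline.2, hr]; omega
  have hW : (∑ i ∈ range (r + 1 + 1), AdjoinRoot.of (KRR.extPoly P c) (μ i) *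
      ∑ j ∈ range (r + 1 - i), AdjoinRoot.root (KRR.extPoly P c) ^ j) =
      KRR.lamAlt Pc (AdjoinRoot.of (KRR.extPoly P c) c - AdjoinRoot.root (KRR.extPoly P c)) := by
    unfold KRR.lamAlt
    rw [haugx, Finset.sum_range_succ (n := r + 1), Nat.sub_self, Finset.range_zero, Finset.sum_empty,
      mul_zero, add_zero]
    simp only [Finset.mul_sum]
    rw [← Finset.sum_range_diag_flip]
    apply Finset.sum_congr rfl
    intro n _
    rw [coeff_g_sub_line Pc hline]
    apply Finset.sum_congr rfl
    intro k _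
    rw [hμ, map_mul, map_pow, map_neg, map_one, hext.isLambdaHom]
  rw [hW] at ha
  have hfW : f (KRR.lamAlt Pc (AdjoinRoot.of (KRR.extPoly P c) c -
      AdjoinRoot.root (KRR.extPoly P c))) = 1 := by
    unfold KRR.lamAlt
    rw [haugx, map_sum, Finset.sum_eq_single 0]
    · have h0 := Groth.Agent.S3780.result K P hK c hc r hr inst
        (fun i x => (hext.isLambdaHom i x).symm) hroot f hf 0
      rw [if_pos rfl] at h0
      rw [pow_zero, one_mul]
      exact h0
    · intro i _ hi0
      have h0 := Groth.Agent.S3780.result K P hK c hc r hr inst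
        (fun i x => (hext.isLambdaHom i x).symm) hroot f hf i
      rw [if_neg hi0] at h0
      have h1 : (-1 : AdjoinRoot (KRR.extPoly P c)) ^ i *
          LambdaRing.LambdaOps.lam i (AdjoinRoot.of (KRR.extPoly P c) c -
            AdjoinRoot.root (KRR.extPoly P c)) =
          ((-1 : K) ^ i) • LambdaRing.LambdaOps.lam i (AdjoinRoot.of (KRR.extPoly P c) c -
            AdjoinRoot.root (KRR.extPoly P c)) := by
        rw [Algebra.smul_def, AdjoinRoot.algebraMap_eq, map_pow, map_neg, map_one]
      rw [h1, map_smul, h0, smul_zero]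
    · intro h
      exact absurd (Finset.mem_range.mpr (Nat.succ_pos r)) h
  have hfz : f z = a := by
    have h5 : ∀ W : AdjoinRoot (KRR.extPoly P c),
        AdjoinRoot.of (KRR.extPoly P c) a * W = a • W := by
      intro W
      rw [Algebra.smul_def, AdjoinRoot.algebraMap_eq]
    rw [ha, h5, map_smul, hfW, smul_eq_mul, mul_one]
  rw [hfz]
  exact ha

end Groth.Agent.S3802
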