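import Groth.Statements.S3804
import Groth.Agent.S3779
import Groth.Agent.Lib.Helper17.ARRMain
import Groth.Agent.Lib.Helper17.ARRLam

set_option autoImplicit false
universe v u
open CategoryTheory CategoryTheory.Limits AlgebraicGeometry
attribute [local instance] HasDerivedCategory.standard
open scoped TensorProduct
open KRR

namespace Groth.Agent.S3804

section Generic

attribute [-instance] AddCommGroup.toIntModule

open Groth.Agent.Lib.Helper17.Lam Groth.Agent.Lib.Helper17.ARR in
/-- the statement for a general coefficient ring `R` in which `j` is invertible, all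
`ℤ`-module structures being given by (arbitrary) `ℤ`-algebra structures -/
theorem main (K : Type v) [CommRing K] [LambdaRing.LambdaOps K] (P : LambdaRing.PosStructure K)
    (hK : LambdaRing.HasSplitting K P) (e : K) (he : e ∈ P.pos) (r : ℕ) (hr : P.aug e = r + 1)
    (p : Polynomial K) (hpdef : p = KRR.extPoly P e)
    [LambdaRing.LambdaOps (AdjoinRoot p)]
    (Pe : LambdaRing.PosStructure (AdjoinRoot p))
    (hext : LambdaRing.IsExtension P Pe (AdjoinRoot.of p))
    (hline : Pe.IsLine (AdjoinRoot.root p))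
    (hsplit : LambdaRing.HasSplitting _ Pe) (N : ℕ) (hN : LambdaRing.gammaFiltration Pe N = ⊥)
    (f : AdjoinRoot p →ₗ[K] K)
    (hf : ∀ i : ℕ, i ≤ r → f (AdjoinRoot.root p ^ i) = KRR.sigma i e)
    (linv : AdjoinRoot p) (hlinv : linv * AdjoinRoot.root p = 1)
    (j : ℕ) (hj : 1 ≤ j)
    (R : Type) [CommRing R] [Algebra ℤ R] [Algebra ℤ K] [Algebra ℤ (AdjoinRoot p)]
    (jinvR : R) (hjinvR : (j : R) * jinvR = 1)
    (fZ : AdjoinRoot p →ₗ[ℤ] K) (hfZ : ∀ b, fZ b = f b) :
    (∃ w : R ⊗[ℤ] AdjoinRoot p,
      w * ((1 : R) ⊗ₜ[ℤ] KRR.bott Pe j (AdjoinRoot.of p e * linv)) = 1) ∧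
    ∀ w : R ⊗[ℤ] AdjoinRoot p,
      w * ((1 : R) ⊗ₜ[ℤ] KRR.bott Pe j (AdjoinRoot.of p e * linv)) = 1 →
      ∀ x : AdjoinRoot p,
        (1 : R) ⊗ₜ[ℤ] LambdaRing.adams P j (f x) =
          LinearMap.lTensor R fZ
            ((j : R ⊗[ℤ] AdjoinRoot p) * w * ((1 : R) ⊗ₜ[ℤ] LambdaRing.adams Pe j x)) := by
  set θ := KRR.bott Pe j (AdjoinRoot.of p e * linv) with hθdef
  have hr' : P.aug e = ((r + 1 : ℕ) : ℤ) := by rw [hr]; push_cast; rfl
  have hmn : (P.aug e).toNat = r + 1 := by rw [hr', Int.toNat_natCast]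
  -- nilpotency
  have hN1 : (AdjoinRoot.root p - 1) ^ N = 0 := by
    apply pow_eq_zero_of_aug_eq_zero Pe N hN
    rw [map_sub, hline.2, map_one, sub_self]
  have hN2 : (θ - (j : AdjoinRoot p) ^ (r + 1)) ^ N = 0 := by
    apply pow_eq_zero_of_aug_eq_zero Pe N hN
    rw [map_sub, hθdef, aug_bott hsplit hext he (r + 1) hr' hline hlinv j, map_pow, map_natCast,
      sub_self]
  -- `j` is invertible in `R ⊗ B` and in `R ⊗ K`
  have hjBR : (j : R ⊗[ℤ] AdjoinRoot p) * (jinvR ⊗ₜ[ℤ] (1 : AdjoinRoot p)) = 1 := by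
    rw [Algebra.TensorProduct.natCast_def, Algebra.TensorProduct.tmul_mul_tmul, mul_one, hjinvR,
      Algebra.TensorProduct.one_def]
  have hjA : (j : R ⊗[ℤ] K) * (jinvR ⊗ₜ[ℤ] (1 : K)) = 1 := by
    rw [Algebra.TensorProduct.natCast_def, Algebra.TensorProduct.tmul_mul_tmul, mul_one, hjinvR,
      Algebra.TensorProduct.one_def]
  constructor
  · -- invertibility
    have h1 : IsNilpotent ((1 : R) ⊗ₜ[ℤ] θ - (j : R ⊗[ℤ] AdjoinRoot p) ^ (r + 1)) := by
      refine ⟨N, ?_⟩
      have := congrArg (Algebra.TensorProduct.includeRight (R := ℤ) (A := R)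
        (B := AdjoinRoot p)) hN2
      rw [map_pow, map_sub, map_pow, map_natCast, map_zero] at this
      exact this
    have h2 : IsUnit ((j : R ⊗[ℤ] AdjoinRoot p) ^ (r + 1)) :=
      (IsUnit.of_mul_eq_one _ hjBR).pow _
    have h3 := h1.isUnit_add_left_of_commute h2 (Commute.all _ _)
    rw [add_sub_cancel] at h3
    exact h3.exists_left_inv
  · intro w hw x
    -- the Newton data
    have hfall : ∀ i : ℕ, f (AdjoinRoot.root p ^ i) = KRR.sigma i e := by
      subst hpdef
      exact (Groth.Agent.S3779.result K P hK e he r hr f hf linv hlinv).1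
    obtain ⟨q, hpq⟩ := dvd_expand_map p (adamsRingHom hK j) (adamsRingHom hsplit j)
      (fun c => (map_adams hext j c).symm) j (adams_of_isLine Pe hline j)
    have hθ : θ * AdjoinRoot.root p ^ ((j - 1) * (r + 1)) = AdjoinRoot.mk p q := by
      rw [hθdef, bott_mul_pow_eq hK hsplit hext he (r + 1) hr' hline hlinv j hj q
        (by rw [← hpdef]; exact hpq),
        ← AdjoinRoot.aeval_eq, Polynomial.aeval_def, AdjoinRoot.algebraMap_eq]
    -- the `ℤ`-algebra homomorphism `K → B`
    let ofZ : K →ₐ[ℤ] AdjoinRoot p :=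
      { (AdjoinRoot.of p) with
        commutes' := fun n => by
          change AdjoinRoot.of p (algebraMap ℤ K n) = algebraMap ℤ (AdjoinRoot p) n
          rw [eq_intCast (algebraMap ℤ K) n, eq_intCast (algebraMap ℤ (AdjoinRoot p)) n,
            map_intCast] }
    have hofZ : ∀ c, ofZ c = AdjoinRoot.of p c := fun c => rfl
    have key := arr_abstract (A := R ⊗[ℤ] K) (BR := R ⊗[ℤ] AdjoinRoot p)
      (fun i => (-1 : K) ^ i * LambdaRing.LambdaOps.lam i e) (fun i => KRR.sigma i e) r
      (by simp [LambdaRing.LambdaOps.lam_zero])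
      (by
        intro i hi
        have : LambdaRing.LambdaOps.lam i e = 0 := by
          apply P.lam_eq_zero e he
          rw [hr]; push_cast; omega
        simp [this])
      (by
        unfold KRR.sigma KRR.sigmaSeries
        rw [PowerSeries.coeff_zero_eq_constantCoeff_apply, PowerSeries.constantCoeff_invOfUnit]
        simp)
      (by
        intro n hn
        have := Groth.Agent.Lib.Helper19.Lam.sum_lam_sigma e n hn
        rw [Finset.Nat.sum_antidiagonal_eq_sum_range_succ_mk] at this
        exact this)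
      (by
        have h1 := P.isUnit_lam e he
        rw [hmn] at h1
        have h2 : IsUnit ((-1 : K) ^ (r + 1)) := (isUnit_one.neg).pow _
        exact h2.mul h1)
      p (by rw [hpdef]; unfold KRR.extPoly; rw [hmn])
      f hfall (adamsRingHom hK j) (adamsRingHom hsplit j)
      (fun c => (map_adams hext j c).symm) j hj (adams_of_isLine Pe hline j) q hpq θ hθ N hN1 hN2
      (Algebra.TensorProduct.includeRight (R := ℤ) (A := R) (B := K)).toRingHom
      (jinvR ⊗ₜ[ℤ] (1 : K)) hjA
      (Algebra.TensorProduct.includeRight (R := ℤ) (A := R) (B := AdjoinRoot p)).toRingHom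
      (Algebra.TensorProduct.map (AlgHom.id R R) ofZ).toRingHom
      (by
        intro c
        change Algebra.TensorProduct.map (AlgHom.id R R) ofZ ((1 : R) ⊗ₜ[ℤ] c) = _
        rw [Algebra.TensorProduct.map_tmul]
        rfl)
      (LinearMap.lTensor R fZ).toAddMonoidHom
      (by
        intro c y
        change LinearMap.lTensor R fZ (Algebra.TensorProduct.map (AlgHom.id R R) ofZ c * y) =
          c * LinearMap.lTensor R fZ y
        induction c using TensorProduct.induction_on with
        | zero => simp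
        | add c c' hc hc' => rw [map_add, add_mul, map_add, hc, hc', add_mul]
        | tmul s k =>
          induction y using TensorProduct.induction_on with
          | zero => simp
          | add y y' hy hy' => rw [mul_add, map_add, hy, hy', map_add, mul_add]
          | tmul s' b =>
            rw [Algebra.TensorProduct.map_tmul, Algebra.TensorProduct.tmul_mul_tmul,
              LinearMap.lTensor_tmul, LinearMap.lTensor_tmul,
              Algebra.TensorProduct.tmul_mul_tmul]
            congr 1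
            rw [hofZ, hfZ, hfZ, ← AdjoinRoot.algebraMap_eq, ← Algebra.smul_def, map_smul,
              smul_eq_mul])
      (by
        intro b
        change LinearMap.lTensor R fZ ((1 : R) ⊗ₜ[ℤ] b) = _
        rw [LinearMap.lTensor_tmul, hfZ]
        rfl)
      w hw x
    exact key

end Generic

/-- For the model elementary projection: let K be a λ-ring with positive structure having the splitting
property, e positive with ε(e) = r + 1, K_e = K[T]/(p_e) with generator ℓ (a unit, inverse linv),
carrying a λ-structure extending that of K with λ^i(ℓ) = 0 for i ≥ 2 and a positive structure making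
K ⟶ K_e an extension with ℓ a line element and e - ℓ positive (when r ≥ 1), having the splitting
property, and with F^N K_e = 0 for some N (the published statement assumes instead that 1 - u is
nilpotent for all line elements u of the rings in play). Let f : K_e ⟶ K be the associated K-linear
functional (f(ℓ^i) = σ^i(e), i ≤ r) and j ≥ 1. The published statement's hypothesis 'j invertible in
K' is read here after tensoring with R = ℤ[1/j] (no λ-ring with an augmentation onto ℤ has j
invertible for j ≥ 2). Then 1 ⊗ θ^j(e ℓ⁻¹) is invertible in R ⊗ K_e, and for every inverse w of it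
and every x ∈ K_e: 1 ⊗ ψ^j(f(x)) = (R ⊗ f)(j · w · (1 ⊗ ψ^j(x))) in R ⊗ K. -/
theorem result (K : Type v) [CommRing K] [LambdaRing.LambdaOps K] (P : LambdaRing.PosStructure K) (hK : LambdaRing.HasSplitting K P) (e : K) (he : e ∈ P.pos) (r : ℕ) (hr : P.aug e = r + 1)
    (inst : LambdaRing.LambdaOps (AdjoinRoot (KRR.extPoly P e))) (Pe : @LambdaRing.PosStructure _ _ inst)
    (hext : @LambdaRing.IsExtension K _ _ _ _ inst P Pe (AdjoinRoot.of (KRR.extPoly P e)))
    (hroot : ∀ i : ℕ, 2 ≤ i → @LambdaRing.LambdaOps.lam _ _ inst i (AdjoinRoot.root (KRR.extPoly P e)) = 0)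
    (hline : @LambdaRing.PosStructure.IsLine _ _ inst Pe (AdjoinRoot.root (KRR.extPoly P e)))
    (hpos : 1 ≤ r → AdjoinRoot.of (KRR.extPoly P e) e - AdjoinRoot.root (KRR.extPoly P e) ∈ (@LambdaRing.PosStructure.pos _ _ inst Pe))
    (hsplit : @LambdaRing.HasSplitting _ _ inst Pe) (N : ℕ) (hN : @LambdaRing.gammaFiltration _ _ inst Pe N = ⊥)
    (f : AdjoinRoot (KRR.extPoly P e) →ₗ[K] K)
    (hf : ∀ i : ℕ, i ≤ r → f (AdjoinRoot.root (KRR.extPoly P e) ^ i) = KRR.sigma i e)
    (linv : AdjoinRoot (KRR.extPoly P e)) (hlinv : linv * AdjoinRoot.root (KRR.extPoly P e) = 1)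
    (j : ℕ) (hj : 1 ≤ j) :
    (∃ w : TensorProduct ℤ (Localization.Away (j : ℤ)) (AdjoinRoot (KRR.extPoly P e)), w * ((1 : Localization.Away (j : ℤ)) ⊗ₜ[ℤ] @KRR.bott _ _ inst Pe j (AdjoinRoot.of (KRR.extPoly P e) e * linv)) = 1) ∧
    ∀ w : TensorProduct ℤ (Localization.Away (j : ℤ)) (AdjoinRoot (KRR.extPoly P e)), w * ((1 : Localization.Away (j : ℤ)) ⊗ₜ[ℤ] @KRR.bott _ _ inst Pe j (AdjoinRoot.of (KRR.extPoly P e) e * linv)) = 1 →
      ∀ x : AdjoinRoot (KRR.extPoly P e),
        (1 : Localization.Away (j : ℤ)) ⊗ₜ[ℤ] LambdaRing.adams P j (f x) =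
          LinearMap.lTensor (Localization.Away (j : ℤ)) f.toAddMonoidHom.toIntLinearMap
            ((j : TensorProduct ℤ (Localization.Away (j : ℤ)) (AdjoinRoot (KRR.extPoly P e))) * w * ((1 : Localization.Away (j : ℤ)) ⊗ₜ[ℤ] @LambdaRing.adams _ _ inst Pe j x)) := by
  let _ := inst
  have hjR : ((j : ℕ) : Localization.Away (j : ℤ)) * IsLocalization.Away.invSelf (j : ℤ) = 1 := by
    have h := IsLocalization.Away.mul_invSelf (S := Localization.Away (j : ℤ)) (j : ℤ)
    rw [eq_intCast (algebraMap ℤ (Localization.Away (j : ℤ))) (j : ℤ), Int.cast_natCast] at h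
    exact h
  exact @main K _ _ P hK e he r hr (KRR.extPoly P e) rfl _ Pe hext hline hsplit N hN f hf linv
    hlinv j hj (Localization.Away (j : ℤ)) _ (Ring.toIntAlgebra _) (Ring.toIntAlgebra _)
    (Ring.toIntAlgebra _) (IsLocalization.Away.invSelf (j : ℤ)) hjR
    f.toAddMonoidHom.toIntLinearMap (fun b => rfl)

end Groth.Agent.S3804
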