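import Groth.Statements.S3806
import Mathlib.RingTheory.IsTensorProduct
import Mathlib.RingTheory.Kaehler.Basic
-- import your own Groth.Agent.* helpers here

set_option autoImplicit false
universe u
open scoped TensorProduct
attribute [local instance] PP16.mapAlgebra PP16.isScalarTower_mapAlgebra
open PP16

namespace Groth.Agent.S3806



variable (n : ℕ) (A B A' B' : Type u) [CommRing A] [CommRing B] [Algebra A B]
    [CommRing A'] [CommRing B'] [Algebra A' B'] [Algebra A A'] [Algebra B B'] [Algebra A B']
    [IsScalarTower A A' B'] [IsScalarTower A B B']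

theorem pushout_induction [H : Algebra.IsPushout A B A' B'] (motive : B' → Prop)
    (zero : motive 0) (ha' : ∀ a' : A', motive (algebraMap A' B' a'))
    (hb : ∀ (b : B) (x : B'), motive x → motive (algebraMap B B' b * x))
    (add : ∀ x y, motive x → motive y → motive (x + y)) : ∀ x, motive x := by
  intro x
  refine H.1.inductionOn x motive zero ?_ ?_ add
  · intro a'
    exact ha' a'
  · intro b x hx
    rw [Algebra.smul_def]
    exact hb b x hx

/-- the target of the inverse map. -/
abbrev T := P n A B ⊗[B] B'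

noncomputable def lam : B' →+* T n A B B' :=
  (Algebra.TensorProduct.includeRight : B' →ₐ[B] P n A B ⊗[B] B').toRingHom

noncomputable def incP : P n A B →ₐ[A] T n A B B' :=
  Algebra.TensorProduct.includeLeft

noncomputable def gA' : A' →ₐ[A] T n A B B' :=
  { toRingHom := (lam n A B B').comp (algebraMap A' B')
    commutes' := by
      intro a
      change (1 : P n A B) ⊗ₜ[B] (algebraMap A' B' (algebraMap A A' a)) =
        (algebraMap A (P n A B) a) ⊗ₜ[B] (1 : B')
      rw [← IsScalarTower.algebraMap_apply, IsScalarTower.algebraMap_apply A B B',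
        IsScalarTower.algebraMap_apply A B (P n A B), Algebra.algebraMap_eq_smul_one,
        Algebra.algebraMap_eq_smul_one (A := P n A B), TensorProduct.smul_tmul] }

noncomputable def rho [Algebra.IsPushout A B A' B'] : B' →ₐ[A] T n A B B' :=
  Algebra.pushoutDesc B' ((incP n A B B').comp (dn n A B)) (gA' n A B A' B')
    (by intro x y; exact mul_comm (G := T n A B B') _ _)


/-- `T` as an `A'`-algebra through the right factor (not an instance). -/
@[instance_reducible]
noncomputable def algA'T : Algebra A' (T n A B B') :=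
  RingHom.toAlgebra' ((lam n A B B').comp (algebraMap A' B'))
    (fun c x => mul_comm (G := T n A B B') _ _)

noncomputable def psi0 [Algebra.IsPushout A B A' B'] : B' ⊗[A'] B' →+* T n A B B' :=
  letI := algA'T n A B A' B'
  (Algebra.TensorProduct.lift
    ({ toRingHom := lam n A B B'
       commutes' := fun _ => rfl } : B' →ₐ[A'] T n A B B')
    ({ toRingHom := (rho n A B A' B').toRingHom
       commutes' := fun a' => Algebra.pushoutDesc_right B' _ _ _ a' } : B' →ₐ[A'] T n A B B')
    (by intro x y; exact mul_comm (G := T n A B B') _ _)).toRingHom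

theorem psi0_tmul [Algebra.IsPushout A B A' B'] (x y : B') :
    psi0 n A B A' B' (x ⊗ₜ y) = lam n A B B' x * rho n A B A' B' y := by
  letI := algA'T n A B A' B'
  unfold psi0
  exact Algebra.TensorProduct.lift_tmul _ _ _ x y

theorem rho_algebraMap_B [Algebra.IsPushout A B A' B'] (b : B) :
    rho n A B A' B' (algebraMap B B' b) = (dn n A B b) ⊗ₜ[B] (1 : B') :=
  Algebra.pushoutDesc_left B' _ _ _ b

theorem rho_algebraMap_A' [Algebra.IsPushout A B A' B'] (a' : A') :
    rho n A B A' B' (algebraMap A' B' a') = lam n A B B' (algebraMap A' B' a') :=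
  Algebra.pushoutDesc_right B' _ _ _ a'

/-- the nilpotent ideal of `T`. -/
noncomputable def JT : Ideal (T n A B B') :=
  (augIdeal n A B).map (incP n A B B').toRingHom

theorem augIdeal_pow : (augIdeal n A B) ^ (n + 1) = ⊥ := by
  unfold augIdeal
  rw [← Ideal.map_pow, Ideal.map_quotient_self]

theorem JT_pow : (JT n A B B') ^ (n + 1) = ⊥ := by
  have h1 := Ideal.map_pow (incP n A B B').toRingHom (augIdeal n A B) (n + 1)
  rw [augIdeal_pow, Ideal.map_bot] at h1
  exact h1.symm

theorem dn_sub_algebraMap_mem (b : B) :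
    dn n A B b - algebraMap B (P n A B) b ∈ augIdeal n A B := by
  change Ideal.Quotient.mk _ ((1 : B) ⊗ₜ[A] b) - Ideal.Quotient.mk _ (b ⊗ₜ[A] (1 : B)) ∈ _
  rw [← map_sub]
  exact Ideal.mem_map_of_mem _ (KaehlerDifferential.one_smul_sub_smul_one_mem_ideal A b)

theorem rho_sub_lam_mem [Algebra.IsPushout A B A' B'] (x : B') :
    rho n A B A' B' x - lam n A B B' x ∈ JT n A B B' := by
  refine pushout_induction A B A' B' (fun x => rho n A B A' B' x - lam n A B B' x ∈ JT n A B B')
    ?_ ?_ ?_ ?_ x
  · simp
  · intro a'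
    rw [rho_algebraMap_A', sub_self]
    exact Ideal.zero_mem _
  · intro b x hx
    have h1 : rho n A B A' B' (algebraMap B B' b) - lam n A B B' (algebraMap B B' b) ∈
        JT n A B B' := by
      rw [rho_algebraMap_B]
      have : lam n A B B' (algebraMap B B' b) = (algebraMap B (P n A B) b) ⊗ₜ[B] (1 : B') := by
        change (1 : P n A B) ⊗ₜ[B] (algebraMap B B' b) = _
        rw [Algebra.algebraMap_eq_smul_one, Algebra.algebraMap_eq_smul_one (A := P n A B),
          TensorProduct.smul_tmul]
      rw [this, ← TensorProduct.sub_tmul]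
      exact Ideal.mem_map_of_mem (incP n A B B').toRingHom (dn_sub_algebraMap_mem n A B b)
    have : rho n A B A' B' (algebraMap B B' b * x) - lam n A B B' (algebraMap B B' b * x) =
        rho n A B A' B' (algebraMap B B' b) * (rho n A B A' B' x - lam n A B B' x) +
        (rho n A B A' B' (algebraMap B B' b) - lam n A B B' (algebraMap B B' b)) *
          lam n A B B' x := by
      rw [map_mul, map_mul]; ring
    rw [this, mul_comm (rho n A B A' B' (algebraMap B B' b) - lam n A B B' (algebraMap B B' b))]
    exact Ideal.add_mem _ (Ideal.mul_mem_left _ _ hx) (Ideal.mul_mem_left _ _ h1)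
  · intro x y hx hy
    have : rho n A B A' B' (x + y) - lam n A B B' (x + y) =
        (rho n A B A' B' x - lam n A B B' x) + (rho n A B A' B' y - lam n A B B' y) := by
      rw [map_add, map_add]; ring
    rw [this]
    exact Ideal.add_mem _ hx hy


theorem map_psi0_le [Algebra.IsPushout A B A' B'] :
    (KaehlerDifferential.ideal A' B').map (psi0 n A B A' B') ≤ JT n A B B' := by
  have hspan := KaehlerDifferential.span_range_eq_ideal A' B'
  rw [← hspan, Ideal.map_span, Ideal.span_le]
  rintro _ ⟨_, ⟨x, rfl⟩, rfl⟩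
  rw [map_sub, psi0_tmul, psi0_tmul, map_one, map_one, one_mul, mul_one]
  exact rho_sub_lam_mem n A B A' B' x

theorem psi0_vanish [Algebra.IsPushout A B A' B'] (x : B' ⊗[A'] B')
    (hx : x ∈ (KaehlerDifferential.ideal A' B') ^ (n + 1)) : psi0 n A B A' B' x = 0 := by
  have h1 : psi0 n A B A' B' x ∈ ((KaehlerDifferential.ideal A' B') ^ (n + 1)).map
      (psi0 n A B A' B') := Ideal.mem_map_of_mem _ hx
  have h2 := Ideal.map_pow (psi0 n A B A' B') (KaehlerDifferential.ideal A' B') (n + 1)
  have h3 : ((KaehlerDifferential.ideal A' B').map (psi0 n A B A' B')) ^ (n + 1) ≤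
      (JT n A B B') ^ (n + 1) := Ideal.pow_right_mono (map_psi0_le n A B A' B') (n + 1)
  rw [JT_pow] at h3
  have h4 : psi0 n A B A' B' x ∈ (⊥ : Ideal (T n A B B')) := h3 (h2 ▸ h1)
  exact (Ideal.mem_bot).mp h4

noncomputable def psi [Algebra.IsPushout A B A' B'] : P n A' B' →+* T n A B B' :=
  Ideal.Quotient.lift _ (psi0 n A B A' B') (psi0_vanish n A B A' B')

theorem psi_mk [Algebra.IsPushout A B A' B'] (x : B' ⊗[A'] B') :
    psi n A B A' B' (Ideal.Quotient.mk _ x) = psi0 n A B A' B' x := rfl

noncomputable def phi : T n A B B' →ₐ[P n A B] P n A' B' :=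
  Algebra.TensorProduct.lift (Algebra.ofId (P n A B) (P n A' B'))
    (IsScalarTower.toAlgHom B B' (P n A' B')) (fun _ _ => Commute.all _ _)

theorem phi_tmul (p : P n A B) (b' : B') :
    phi n A B A' B' (p ⊗ₜ b') = map n A B A' B' p * algebraMap B' (P n A' B') b' := by
  simp [phi, Algebra.TensorProduct.lift_tmul]
  rfl


theorem lam_apply (x : B') : lam n A B B' x = (1 : P n A B) ⊗ₜ[B] x := rfl

theorem phi_lam (x : B') : phi n A B A' B' (lam n A B B' x) = algebraMap B' (P n A' B') x := by
  rw [lam_apply, phi_tmul, map_one, one_mul]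

theorem phi_rho [Algebra.IsPushout A B A' B'] (y : B') :
    phi n A B A' B' (rho n A B A' B' y) = dn n A' B' y := by
  refine pushout_induction A B A' B'
    (fun y => phi n A B A' B' (rho n A B A' B' y) = dn n A' B' y) ?_ ?_ ?_ ?_ y
  · simp
  · intro a'
    rw [rho_algebraMap_A', phi_lam, (dn n A' B').commutes a',
      ← IsScalarTower.algebraMap_apply A' B' (P n A' B')]
  · intro b x hx
    rw [map_mul, map_mul, hx, rho_algebraMap_B, phi_tmul, map_one, mul_one, map_dn, map_mul]
  · intro x y hx hy
    rw [map_add, map_add, hx, hy, map_add]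

theorem phi_psi [Algebra.IsPushout A B A' B'] (y : P n A' B') :
    phi n A B A' B' (psi n A B A' B' y) = y := by
  obtain ⟨q, rfl⟩ := Ideal.Quotient.mk_surjective y
  induction q using TensorProduct.induction_on with
  | zero => simp
  | tmul x y =>
    rw [psi_mk, psi0_tmul, map_mul, phi_lam, phi_rho]
    change Ideal.Quotient.mk _ (x ⊗ₜ[A'] (1 : B')) * Ideal.Quotient.mk _ ((1 : B') ⊗ₜ[A'] y) = _
    rw [← map_mul, Algebra.TensorProduct.tmul_mul_tmul, mul_one, one_mul]
  | add x y hx hy =>
    rw [map_add, map_add, map_add, hx, hy]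

theorem psi_algebraMap [Algebra.IsPushout A B A' B'] (b' : B') :
    psi n A B A' B' (algebraMap B' (P n A' B') b') = lam n A B B' b' := by
  change psi n A B A' B' (Ideal.Quotient.mk _ (b' ⊗ₜ[A'] (1 : B'))) = _
  rw [psi_mk, psi0_tmul, map_one, mul_one]

theorem psi_map [Algebra.IsPushout A B A' B'] (p : P n A B) :
    psi n A B A' B' (map n A B A' B' p) = p ⊗ₜ[B] (1 : B') := by
  obtain ⟨q, rfl⟩ := Ideal.Quotient.mk_surjective p
  induction q using TensorProduct.induction_on with
  | zero => simp
  | tmul b c =>
    rw [map_mk, tensorMap_tmul, psi_mk, psi0_tmul, rho_algebraMap_B, lam_apply,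
      Algebra.TensorProduct.tmul_mul_tmul, one_mul, mul_one]
    have h0 : b ⊗ₜ[A] c = b • ((1 : B) ⊗ₜ[A] c) := by
      rw [TensorProduct.smul_tmul', smul_eq_mul, mul_one]
    have h1 : (Ideal.Quotient.mk ((KaehlerDifferential.ideal A B) ^ (n + 1)) (b ⊗ₜ[A] c)) =
        b • dn n A B c := by
      rw [h0]
      rfl
    rw [h1, TensorProduct.smul_tmul, Algebra.smul_def, mul_one]
  | add x y hx hy =>
    rw [map_add, map_add, map_add, hx, hy, TensorProduct.add_tmul]


theorem psi_phi [Algebra.IsPushout A B A' B'] (t : T n A B B') :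
    psi n A B A' B' (phi n A B A' B' t) = t := by
  induction t using TensorProduct.induction_on with
  | zero => simp
  | tmul p b' =>
    rw [phi_tmul, map_mul, psi_map, psi_algebraMap, lam_apply,
      Algebra.TensorProduct.tmul_mul_tmul, one_mul, mul_one]
  | add x y hx hy =>
    rw [map_add, map_add, hx, hy]

noncomputable def equivT [Algebra.IsPushout A B A' B'] : T n A B B' ≃ₐ[P n A B] P n A' B' :=
  AlgEquiv.ofBijective (phi n A B A' B')
    (Function.bijective_iff_has_inverse.mpr
      ⟨psi n A B A' B', psi_phi n A B A' B', phi_psi n A B A' B'⟩)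

theorem main [Algebra.IsPushout A B A' B'] :
    Algebra.IsPushout B (PP16.P n A B) B' (PP16.P n A' B') := by
  letI : Algebra B' (T n A B B') := Algebra.TensorProduct.rightAlgebra
  have h : Algebra.IsPushout B (P n A B) B' (T n A B B') := TensorProduct.isPushout
  refine Algebra.IsPushout.of_equiv (h := h) (equivT n A B A' B') ?_
  ext b'
  exact phi_lam n A B A' B' b'


/-- Let A → A' be a ring map, B an A-algebra and B' = B ⊗_A A'. Then the canonical map P^n_{B/A} ⊗_B B'
→ P^n_{B'/A'} induced by functoriality of principal parts is an isomorphism; that is, the square B →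
P^n_{B/A}, B → B', with P^n_{B'/A'} in the corner, is a pushout of rings. -/
theorem result (n : ℕ) (A B A' B' : Type u) [CommRing A] [CommRing B] [Algebra A B]
    [CommRing A'] [CommRing B'] [Algebra A' B'] [Algebra A A'] [Algebra B B'] [Algebra A B']
    [IsScalarTower A A' B'] [IsScalarTower A B B'] [Algebra.IsPushout A B A' B'] :
    Algebra.IsPushout B (PP16.P n A B) B' (PP16.P n A' B') := by
  exact main n A B A' B'

end Groth.Agent.S3806
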