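import Groth.Statements.S3807
import Mathlib
-- import your own Groth.Agent.* helpers here

set_option autoImplicit false
universe u
open scoped TensorProduct
attribute [local instance] PP16.mapAlgebra PP16.isScalarTower_mapAlgebra
open PP16

namespace Groth.Agent.S3807

theorem aux (n : ℕ) (A B B' : Type u) [CommRing A] [CommRing B] [Algebra A B]
    [CommRing B'] [Algebra B B'] [Algebra A B'] [IsScalarTower A B B'] (S : Submonoid B)
    [IsLocalization S B'] (L : Type u) [CommRing L] [Algebra (P n A B) L]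
    [IsLocalization (S.map (algebraMap B (P n A B))) L] :
    Nonempty (L ≃ₐ[P n A B] P n A B') := by
  classical
  -- notation
  letI : Algebra A L := ((algebraMap (P n A B) L).comp (algebraMap A (P n A B))).toAlgebra
  let ι : P n A B →+* L := algebraMap (P n A B) L
  let φ₁ : B →+* L := ι.comp (algebraMap B (P n A B))
  let φ₂ : B →+* L := ι.comp (dn n A B).toRingHom
  have hφ₁ : ∀ b, φ₁ b = ι (algebraMap B (P n A B) b) := fun _ => rfl
  have hφ₂ : ∀ b, φ₂ b = ι (dn n A B b) := fun _ => rfl
  have hmk1 : ∀ b : B, algebraMap B (P n A B) b =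
      Ideal.Quotient.mk ((KaehlerDifferential.ideal A B) ^ (n + 1)) (b ⊗ₜ[A] (1 : B)) := fun _ => rfl
  have hmk2 : ∀ b : B, dn n A B b =
      Ideal.Quotient.mk ((KaehlerDifferential.ideal A B) ^ (n + 1)) ((1 : B) ⊗ₜ[A] b) := fun _ => rfl
  -- units
  have hu₁ : ∀ s : S, IsUnit (φ₁ s) := fun s =>
    IsLocalization.map_units L (⟨algebraMap B (P n A B) s, Submonoid.mem_map_of_mem _ s.2⟩ : (S.map (algebraMap B (P n A B))))
  have hu₂ : ∀ s : S, IsUnit (φ₂ s) := by
    intro s
    have hδ : (algebraMap B (P n A B) (s : B) - dn n A B (s : B)) ^ (n + 1) = 0 := by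
      rw [hmk1, hmk2, ← map_sub, ← map_pow, Ideal.Quotient.eq_zero_iff_mem]
      apply Ideal.pow_mem_pow
      rw [RingHom.mem_ker]
      simp
    have hdvd : dn n A B (s : B) ∣ (algebraMap B (P n A B) (s : B)) ^ (n + 1) := by
      have := sub_dvd_pow_sub_pow (algebraMap B (P n A B) (s : B))
        (algebraMap B (P n A B) (s : B) - dn n A B (s : B)) (n + 1)
      rw [hδ, sub_zero, sub_sub_cancel] at this
      exact this
    have h3 : IsUnit (ι ((algebraMap B (P n A B) (s : B)) ^ (n + 1))) := by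
      rw [map_pow]; exact (hu₁ s).pow (n + 1)
    exact @isUnit_of_dvd_unit L _ _ _ (map_dvd ι hdvd) h3
  let ψ₁ : B' →+* L := IsLocalization.lift (M := S) (S := B') (P := L) (g := φ₁) hu₁
  let ψ₂ : B' →+* L := IsLocalization.lift (M := S) (S := B') (P := L) (g := φ₂) hu₂
  have hψ₁ : ∀ b : B, ψ₁ (algebraMap B B' b) = φ₁ b := fun b => IsLocalization.lift_eq _ _
  have hψ₂ : ∀ b : B, ψ₂ (algebraMap B B' b) = φ₂ b := fun b => IsLocalization.lift_eq _ _
  -- A-algebra homs
  let ψ₁' : B' →ₐ[A] L :=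
    { ψ₁ with
      commutes' := fun a => by
        change ψ₁ (algebraMap A B' a) = algebraMap A L a
        rw [IsScalarTower.algebraMap_apply A B B', hψ₁, hφ₁,
          ← IsScalarTower.algebraMap_apply A B (P n A B)]
        rfl }
  let ψ₂' : B' →ₐ[A] L :=
    { ψ₂ with
      commutes' := fun a => by
        change ψ₂ (algebraMap A B' a) = algebraMap A L a
        rw [IsScalarTower.algebraMap_apply A B B', hψ₂, hφ₂, AlgHom.commutes]
        rfl }
  let Ψ : B' ⊗[A] B' →ₐ[A] L := Algebra.TensorProduct.lift ψ₁' ψ₂' (fun x y => Commute.all (ψ₁' x) (ψ₂' y))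
  have hΨ : ∀ b c : B', Ψ (b ⊗ₜ[A] c) = ψ₁ b * ψ₂ c := fun b c =>
    Algebra.TensorProduct.lift_tmul _ _ _ _ _
  -- the ideal J
  let J : Ideal L := ((KaehlerDifferential.ideal A B).map
    (Ideal.Quotient.mk ((KaehlerDifferential.ideal A B) ^ (n + 1)))).map ι
  have hJ : J ^ (n + 1) = ⊥ := by
    change (((KaehlerDifferential.ideal A B).map
      (Ideal.Quotient.mk ((KaehlerDifferential.ideal A B) ^ (n + 1)))).map ι) ^ (n + 1) = ⊥
    rw [← Ideal.map_pow, ← Ideal.map_pow, Ideal.map_quotient_self, Ideal.map_bot]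
  have hdiff : ∀ c : B, φ₂ c - φ₁ c ∈ J := by
    intro c
    rw [hφ₁, hφ₂, hmk1, hmk2, ← map_sub, ← map_sub]
    exact Ideal.mem_map_of_mem _ (Ideal.mem_map_of_mem _
      (KaehlerDifferential.one_smul_sub_smul_one_mem_ideal A c))
  have heq : (Ideal.Quotient.mk J).comp ψ₂ = (Ideal.Quotient.mk J).comp ψ₁ := by
    refine IsLocalization.ringHom_ext S ?_
    ext c
    simp only [RingHom.comp_apply]
    rw [hψ₁, hψ₂]
    exact Ideal.Quotient.eq.2 (hdiff c)
  have hΨI : KaehlerDifferential.ideal A B' ≤ J.comap Ψ.toRingHom := by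
    rw [← KaehlerDifferential.span_range_eq_ideal, Ideal.span_le]
    rintro _ ⟨c', rfl⟩
    change Ψ (1 ⊗ₜ[A] c' - c' ⊗ₜ[A] 1) ∈ J
    rw [map_sub, hΨ, hΨ, map_one, map_one, one_mul, mul_one]
    exact Ideal.Quotient.eq.1 (RingHom.congr_fun heq c')
  have hΨpow : ∀ x ∈ (KaehlerDifferential.ideal A B') ^ (n + 1), Ψ.toRingHom x = 0 := by
    intro x hx
    have h1 : ((KaehlerDifferential.ideal A B') ^ (n + 1)).map Ψ.toRingHom ≤ J ^ (n + 1) := by
      rw [Ideal.map_pow]
      exact Ideal.pow_right_mono (Ideal.map_le_iff_le_comap.2 hΨI) (n + 1)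
    have h2 := h1 (Ideal.mem_map_of_mem _ hx)
    rw [hJ] at h2
    exact h2
  let Ψbar : P n A B' →+* L := Ideal.Quotient.lift _ Ψ.toRingHom hΨpow
  have hΨbar : ∀ w, Ψbar (Ideal.Quotient.mk _ w) = Ψ w := fun w => Ideal.Quotient.lift_mk _ _ _
  -- the forward map
  have hunits : ∀ y : (S.map (algebraMap B (P n A B))), IsUnit (algebraMap (P n A B) (P n A B') y) := by
    rintro ⟨_, ⟨s, hs, rfl⟩⟩
    have : algebraMap (P n A B) (P n A B') (algebraMap B (P n A B) s) =
        algebraMap B' (P n A B') (algebraMap B B' s) := PP16.map_algebraMap n A B A B' s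
    change IsUnit (algebraMap (P n A B) (P n A B') (algebraMap B (P n A B) s))
    rw [this]
    exact (IsLocalization.map_units B' (⟨s, hs⟩ : S)).map _
  let F : L →+* P n A B' := IsLocalization.lift (M := (S.map (algebraMap B (P n A B)))) (S := L) (P := P n A B')
    (g := algebraMap (P n A B) (P n A B')) hunits
  have hF : ∀ x, F (ι x) = algebraMap (P n A B) (P n A B') x := fun x => IsLocalization.lift_eq _ _
  -- (i) Ψbar ∘ algebraMap = ι
  have hi : ∀ x : P n A B, Ψbar (algebraMap (P n A B) (P n A B') x) = ι x := by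
    intro x
    obtain ⟨w, rfl⟩ := Ideal.Quotient.mk_surjective x
    induction w using TensorProduct.induction_on with
    | zero => simp
    | tmul b c =>
      have h1 : algebraMap (P n A B) (P n A B') (Ideal.Quotient.mk _ (b ⊗ₜ[A] c)) =
          Ideal.Quotient.mk _ (algebraMap B B' b ⊗ₜ[A] algebraMap B B' c) := by
        change PP16.map n A B A B' (Ideal.Quotient.mk _ (b ⊗ₜ[A] c)) = _
        rw [PP16.map_mk, PP16.tensorMap_tmul]
      rw [h1, hΨbar, hΨ, hψ₁, hψ₂, hφ₁, hφ₂, hmk1, hmk2, ← map_mul, ← map_mul,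
        Algebra.TensorProduct.tmul_mul_tmul, one_mul, mul_one]
    | add x y hx hy => rw [map_add, map_add, map_add, map_add, hx, hy]
  -- (ii)
  have hF₁ : ∀ b' : B', F (ψ₁ b') = algebraMap B' (P n A B') b' := by
    have : F.comp ψ₁ = algebraMap B' (P n A B') := by
      refine IsLocalization.ringHom_ext S ?_
      ext b
      simp only [RingHom.comp_apply]
      rw [hψ₁, hφ₁, hF]
      exact PP16.map_algebraMap n A B A B' b
    exact fun b' => RingHom.congr_fun this b'
  have hF₂ : ∀ c' : B', F (ψ₂ c') = dn n A B' c' := by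
    have : F.comp ψ₂ = (dn n A B').toRingHom := by
      refine IsLocalization.ringHom_ext S ?_
      ext c
      simp only [RingHom.comp_apply]
      rw [hψ₂, hφ₂, hF]
      exact PP16.map_dn n A B A B' c
    exact fun c' => RingHom.congr_fun this c'
  have hii : ∀ x' : P n A B', F (Ψbar x') = x' := by
    intro x'
    obtain ⟨w, rfl⟩ := Ideal.Quotient.mk_surjective x'
    induction w using TensorProduct.induction_on with
    | zero => simp
    | tmul b c =>
      rw [hΨbar, hΨ, map_mul, hF₁, hF₂]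
      change Ideal.Quotient.mk _ (b ⊗ₜ[A] (1 : B')) * Ideal.Quotient.mk _ ((1 : B') ⊗ₜ[A] c) = _
      rw [← map_mul, Algebra.TensorProduct.tmul_mul_tmul, one_mul, mul_one]
    | add x y hx hy => rw [map_add, map_add, map_add, hx, hy]
  have hcomp1 : Ψbar.comp F = RingHom.id L := by
    refine IsLocalization.ringHom_ext (S.map (algebraMap B (P n A B))) ?_
    refine RingHom.ext fun x => ?_
    simp only [RingHom.comp_apply, RingHom.id_apply]
    rw [show (algebraMap (P n A B) L) x = ι x from rfl, hF, hi]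
  have hcomp2 : F.comp Ψbar = RingHom.id (P n A B') := by
    exact RingHom.ext fun x' => hii x'
  exact ⟨AlgEquiv.ofRingEquiv (f := RingEquiv.ofRingHom F Ψbar hcomp2 hcomp1) (fun x => hF x)⟩


/-- Let B be an A-algebra, S a multiplicative subset of B and B' = S⁻¹B. Then the canonical map
S⁻¹P^n_{B/A} → P^n_{B'/A} induced by functoriality is an isomorphism: P^n_{B'/A} is the localization
of P^n_{B/A} at the image of S. -/
theorem result (n : ℕ) (A B B' : Type u) [CommRing A] [CommRing B] [Algebra A B]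
    [CommRing B'] [Algebra B B'] [Algebra A B'] [IsScalarTower A B B'] (S : Submonoid B) [IsLocalization S B'] :
    IsLocalization (S.map (algebraMap B (PP16.P n A B))) (PP16.P n A B') := by
  obtain ⟨e⟩ := aux n A B B' S (Localization (S.map (algebraMap B (P n A B))))
  exact IsLocalization.isLocalization_of_algEquiv _ e

end Groth.Agent.S3807
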