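import Groth.Statements.S3808
import Groth.Agent.Lib.Helper19.PPTower

set_option autoImplicit false
universe u
open scoped TensorProduct
open PP16

namespace Groth.Agent.S3808

open Groth.Agent.Lib.Helper19

/-- Let A → B be a ring map, R a multiplicative subset of A, S one of B containing the image of R, and
A' = R⁻¹A, B' = S⁻¹B with the induced map A' → B'. Then the canonical map P^n_{B'/A} → P^n_{B'/A'}
is bijective. -/
theorem result (n : ℕ) (A B A' B' : Type u) [CommRing A] [CommRing B] [Algebra A B]
    [CommRing A'] [CommRing B'] [Algebra A A'] [Algebra B B'] [Algebra A' B'] [Algebra A B']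
    [IsScalarTower A A' B'] [IsScalarTower A B B'] (R : Submonoid A) (S : Submonoid B) [IsLocalization R A']
    [IsLocalization S B'] (hRS : ∀ r ∈ R, algebraMap A B r ∈ S) :
    Function.Bijective (PP16.map n A B' A' B') := by
  have h := map_surj_ker_of_surjective A B' A' B' n (fun x => ⟨x, rfl⟩)
  refine ⟨?_, h.1⟩
  rw [RingHom.injective_iff_ker_eq_bot, h.2, ker_tensorMap_tower A A' B',
    kaehler_ideal_eq_bot_of_isLocalization A A' R, Ideal.map_bot, Ideal.map_bot]

end Groth.Agent.S3808
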