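import Groth.Statements.S3809
import Groth.Agent.Lib.Helper19.PPBasic

set_option autoImplicit false
universe u
open scoped TensorProduct
open PP16

namespace Groth.Agent.S3809

open Groth.Agent.Lib.Helper19

section aux

variable (A B C : Type u) [CommRing A] [CommRing B] [CommRing C]
    [Algebra A B] [Algebra B C] [Algebra A C] [IsScalarTower A B C]

theorem tensorMap_apply (x : C ⊗[A] C) :
    tensorMap A C B C x = TensorProduct.mapOfCompatibleSMul B A B C C x := by
  induction x using TensorProduct.induction_on with
  | zero => simp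
  | tmul b c => rw [tensorMap_tmul]; rfl
  | add x y hx hy => rw [map_add, map_add, hx, hy]

theorem smul_eq_mul' (b : B) (x : C ⊗[A] C) :
    b • x = (algebraMap B C b ⊗ₜ[A] (1 : C)) * x := by
  induction x using TensorProduct.induction_on with
  | zero => simp
  | tmul c d =>
    rw [Algebra.TensorProduct.tmul_mul_tmul, one_mul, TensorProduct.smul_tmul',
      Algebra.smul_def]
  | add x y hx1 hy1 => rw [smul_add, mul_add, hx1, hy1]

theorem ker_tensorMap :
    RingHom.ker (tensorMap A C B C) =
      (KaehlerDifferential.ideal A B).map (tensorMap A B A C) := by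
  apply le_antisymm
  · intro x hx
    rw [RingHom.mem_ker, tensorMap_apply] at hx
    have hx' : x ∈ LinearMap.ker (TensorProduct.mapOfCompatibleSMul B A B C C) := hx
    rw [TensorProduct.AlgebraTensorModule.ker_mapOfCompatibleSMul] at hx'
    refine Submodule.span_induction (p := fun x _ =>
      x ∈ (KaehlerDifferential.ideal A B).map (tensorMap A B A C)) ?_ ?_ ?_ ?_ hx'
    · rintro _ ⟨b, m, n, rfl⟩
      have : (b • m) ⊗ₜ[A] n - m ⊗ₜ[A] (b • n) =
          (m ⊗ₜ[A] n) * tensorMap A B A C (b ⊗ₜ[A] (1 : B) - (1 : B) ⊗ₜ[A] b) := by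
        rw [map_sub, tensorMap_tmul, tensorMap_tmul, map_one, mul_sub,
          Algebra.TensorProduct.tmul_mul_tmul, Algebra.TensorProduct.tmul_mul_tmul, mul_one,
          mul_one, Algebra.smul_def, Algebra.smul_def, mul_comm m, mul_comm n]
      rw [this]
      apply Ideal.mul_mem_left
      apply Ideal.mem_map_of_mem
      have := KaehlerDifferential.one_smul_sub_smul_one_mem_ideal A b
      rw [← neg_sub]
      exact neg_mem this
    · exact Submodule.zero_mem _
    · intro x y _ _ hx hy
      exact Submodule.add_mem _ hx hy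
    · intro b x _ hx
      have := smul_eq_mul' A B C b x
      rw [this]
      exact Ideal.mul_mem_left _ _ hx
  · rw [Ideal.map_le_iff_le_comap, ← KaehlerDifferential.span_range_eq_ideal, Ideal.span_le]
    rintro _ ⟨b, rfl⟩
    change tensorMap A B A C ((1 : B) ⊗ₜ[A] b - b ⊗ₜ[A] (1 : B)) ∈ RingHom.ker (tensorMap A C B C)
    rw [RingHom.mem_ker, map_sub, tensorMap_tmul, tensorMap_tmul, map_one, map_sub,
      tensorMap_tmul, tensorMap_tmul, map_one, sub_eq_zero, Algebra.algebraMap_self,
      RingHom.id_apply, Algebra.algebraMap_eq_smul_one, TensorProduct.tmul_smul,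
      TensorProduct.smul_tmul']

end aux

/-- Let A → B → C be ring maps. Then the canonical map P^n_{C/A} → P^n_{C/B} is surjective, and its
kernel is the ideal generated by the image, under the canonical map P^n_{B/A} → P^n_{C/A}, of the
augmentation ideal of P^n_{B/A}. -/
theorem result (n : ℕ) (A B C : Type u) [CommRing A] [CommRing B] [CommRing C]
    [Algebra A B] [Algebra B C] [Algebra A C] [IsScalarTower A B C] :
    Function.Surjective (PP16.map n A C B C) ∧
      RingHom.ker (PP16.map n A C B C) = (PP16.augIdeal n A B).map (PP16.map n A B A C) := by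
  have h := map_surj_ker_of_surjective A C B C n (fun x => ⟨x, rfl⟩)
  refine ⟨h.1, ?_⟩
  rw [h.2, ker_tensorMap]
  unfold augIdeal
  change Ideal.map (Ideal.Quotient.mk _) (Ideal.map (tensorMap A B A C : B ⊗[A] B →+* C ⊗[A] C) _) =
    Ideal.map (map n A B A C : P n A B →+* P n A C) _
  rw [Ideal.map_map, Ideal.map_map]
  rfl

end Groth.Agent.S3809
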