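import Groth.Statements.S3810
-- import your own Groth.Agent.* helpers here

set_option autoImplicit false
universe u
open scoped TensorProduct
open PP16

namespace Groth.Agent.S3810

section aux

variable (A B : Type u) [CommRing A] [CommRing B] [Algebra A B] (K : Ideal B)

theorem tensorMap_eq :
    (tensorMap A B A (B ⧸ K) : B ⊗[A] B →ₐ[A] (B ⧸ K) ⊗[A] (B ⧸ K)) =
      Algebra.TensorProduct.map (Ideal.Quotient.mkₐ A K) (Ideal.Quotient.mkₐ A K) := by
  apply Algebra.TensorProduct.ext'
  intro b c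
  rw [tensorMap_tmul]
  simp

theorem tensorMap_surj : Function.Surjective (tensorMap A B A (B ⧸ K)) := by
  rw [tensorMap_eq]
  exact Algebra.TensorProduct.map_surjective _ _ Ideal.Quotient.mk_surjective
    Ideal.Quotient.mk_surjective

theorem ideal_map_eq :
    (KaehlerDifferential.ideal A B).map (tensorMap A B A (B ⧸ K)) =
      KaehlerDifferential.ideal A (B ⧸ K) := by
  apply le_antisymm (ideal_map_tensorMap_le A B A (B ⧸ K))
  rw [← KaehlerDifferential.span_range_eq_ideal, Ideal.span_le]
  rintro _ ⟨s, rfl⟩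
  obtain ⟨b, rfl⟩ := Ideal.Quotient.mk_surjective s
  have : (1 : B ⧸ K) ⊗ₜ[A] (Ideal.Quotient.mk K b) - (Ideal.Quotient.mk K b) ⊗ₜ[A] (1 : B ⧸ K) =
      tensorMap A B A (B ⧸ K) ((1 : B) ⊗ₜ[A] b - b ⊗ₜ[A] (1 : B)) := by
    rw [map_sub, tensorMap_tmul, tensorMap_tmul, map_one]
    rfl
  change (1 : B ⧸ K) ⊗ₜ[A] (Ideal.Quotient.mk K b) - (Ideal.Quotient.mk K b) ⊗ₜ[A] (1 : B ⧸ K) ∈ _
  rw [this]
  exact Ideal.mem_map_of_mem _ (KaehlerDifferential.one_smul_sub_smul_one_mem_ideal A b)

end aux

/-- Let B be an A-algebra, K an ideal of B and C = B/K. Then the canonical map P^n_{B/A} → P^n_{C/A} is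
surjective and its kernel is the ideal generated by the image of K under the structure map B →
P^n_{B/A} together with the image of K under the principal-part map d^n (the latter is an additive
subgroup, not a B-submodule, in general). -/
theorem result (n : ℕ) (A B : Type u) [CommRing A] [CommRing B] [Algebra A B]
    (K : Ideal B) :
    Function.Surjective (PP16.map n A B A (B ⧸ K)) ∧
      RingHom.ker (PP16.map n A B A (B ⧸ K)) =
        K.map (algebraMap B (PP16.P n A B)) ⊔ K.map (PP16.dn n A B) := by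
  have hsurj := tensorMap_surj A B K
  have hmap : ((KaehlerDifferential.ideal A B) ^ (n + 1)).map (tensorMap A B A (B ⧸ K)) =
      (KaehlerDifferential.ideal A (B ⧸ K)) ^ (n + 1) := by
    rw [Ideal.map_pow, ideal_map_eq]
  have hker : RingHom.ker (tensorMap A B A (B ⧸ K)) =
      K.map (Algebra.TensorProduct.includeLeft : B →ₐ[A] B ⊗[A] B) ⊔
        K.map (Algebra.TensorProduct.includeRight : B →ₐ[A] B ⊗[A] B) := by
    rw [tensorMap_eq, Algebra.TensorProduct.map_ker _ _ Ideal.Quotient.mk_surjective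
      Ideal.Quotient.mk_surjective]
    have hk : RingHom.ker (Ideal.Quotient.mkₐ A K) = K := Ideal.Quotient.mkₐ_ker A K
    rw [hk]
  refine ⟨?_, ?_⟩
  · intro y
    obtain ⟨y, rfl⟩ := Ideal.Quotient.mk_surjective y
    obtain ⟨x, rfl⟩ := hsurj y
    exact ⟨Ideal.Quotient.mk _ x, rfl⟩
  · ext x
    obtain ⟨x, rfl⟩ := Ideal.Quotient.mk_surjective x
    rw [RingHom.mem_ker, map_mk, Ideal.Quotient.eq_zero_iff_mem, ← hmap,
      ← Ideal.mem_comap, Ideal.comap_map_of_surjective _ hsurj, ← RingHom.ker_eq_comap_bot, hker]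
    have e1 : K.map (algebraMap B (PP16.P n A B)) =
        (K.map (Algebra.TensorProduct.includeLeft : B →ₐ[A] B ⊗[A] B)).map
          (Ideal.Quotient.mk ((KaehlerDifferential.ideal A B) ^ (n + 1))) := by
      change _ = Ideal.map (Ideal.Quotient.mk _) (Ideal.map
        ((Algebra.TensorProduct.includeLeft : B →ₐ[A] B ⊗[A] B) : B →+* B ⊗[A] B) K)
      rw [Ideal.map_map]
      rfl
    have e2 : K.map (PP16.dn n A B) =
        (K.map (Algebra.TensorProduct.includeRight : B →ₐ[A] B ⊗[A] B)).map
          (Ideal.Quotient.mk ((KaehlerDifferential.ideal A B) ^ (n + 1))) := by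
      change _ = Ideal.map (Ideal.Quotient.mk _) (Ideal.map
        ((Algebra.TensorProduct.includeRight : B →ₐ[A] B ⊗[A] B) : B →+* B ⊗[A] B) K)
      rw [Ideal.map_map]
      rfl
    rw [e1, e2, ← Ideal.map_sup]
    constructor
    · intro hx
      obtain ⟨a, ha, b, hb, rfl⟩ := Submodule.mem_sup.mp hx
      rw [map_add, (Ideal.Quotient.eq_zero_iff_mem).mpr ha, zero_add]
      exact Ideal.mem_map_of_mem _ hb
    · intro hx
      rw [Ideal.mem_map_iff_of_surjective _ Ideal.Quotient.mk_surjective] at hx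
      obtain ⟨y, hy, hxy⟩ := hx
      have : x - y ∈ (KaehlerDifferential.ideal A B) ^ (n + 1) := by
        rw [← Ideal.Quotient.eq_zero_iff_mem, map_sub, hxy, sub_self]
      have hx' : x = (x - y) + y := by ring
      rw [hx']
      exact Submodule.add_mem_sup this hy

end Groth.Agent.S3810
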