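import Groth.Statements.S3811
-- import your own Groth.Agent.* helpers here

set_option autoImplicit false
universe u
open scoped TensorProduct
open PP16

namespace Groth.Agent.S3811

section aux

variable (A B : Type u) [CommRing A] [CommRing B] [Algebra A B] (g : B →ₐ[A] A)

/-- `b ⊗ c ↦ g b • c`. -/
noncomputable def rho : B ⊗[A] B →ₐ[A] B :=
  Algebra.TensorProduct.lift ((Algebra.ofId A B).comp g) (AlgHom.id A B) (fun _ _ => Commute.all _ _)

theorem rho_tmul (b c : B) : rho A B g (b ⊗ₜ[A] c) = algebraMap A B (g b) * c := by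
  simp [rho, Algebra.TensorProduct.lift_tmul, Algebra.ofId_apply]

theorem g_surj : Function.Surjective g := fun a => ⟨algebraMap A B a, by simp⟩

theorem rho_eq : rho A B g = (Algebra.TensorProduct.lid A B).toAlgHom.comp
    (Algebra.TensorProduct.map g (AlgHom.id A B)) := by
  apply Algebra.TensorProduct.ext'
  intro b c
  rw [rho_tmul]
  simp [Algebra.smul_def]

theorem ker_rho : RingHom.ker (rho A B g) =
    (RingHom.ker g).map (Algebra.TensorProduct.includeLeft : B →ₐ[A] B ⊗[A] B) := by
  rw [← Algebra.TensorProduct.rTensor_ker g (g_surj A B g)]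
  ext x
  rw [RingHom.mem_ker, RingHom.mem_ker, rho_eq]
  simp

theorem rho_surj : Function.Surjective (rho A B g) := fun c => ⟨1 ⊗ₜ c, by simp [rho_tmul]⟩

theorem map_ideal_rho : (KaehlerDifferential.ideal A B).map (rho A B g) = RingHom.ker g := by
  apply le_antisymm
  · rw [Ideal.map_le_iff_le_comap, ← KaehlerDifferential.span_range_eq_ideal, Ideal.span_le]
    rintro _ ⟨b, rfl⟩
    change rho A B g ((1 : B) ⊗ₜ[A] b - b ⊗ₜ[A] (1 : B)) ∈ RingHom.ker g
    rw [map_sub, rho_tmul, rho_tmul, RingHom.mem_ker]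
    simp
  · intro k hk
    have : k = rho A B g ((1 : B) ⊗ₜ[A] k - k ⊗ₜ[A] (1 : B)) := by
      rw [map_sub, rho_tmul, rho_tmul, (RingHom.mem_ker).mp hk]
      simp
    rw [this]
    exact Ideal.mem_map_of_mem _ (KaehlerDifferential.one_smul_sub_smul_one_mem_ideal A k)

end aux

/-- Let B be an A-algebra with an A-algebra retraction g : B → A, and K the kernel of g. The composite
of d^n : B → P^n_{B/A} with the projection P^n_{B/A} → P^n_{B/A} / K P^n_{B/A} (base change of
P^n_{B/A} along g) is surjective with kernel K^(n+1); thus P^n_{B/A} ⊗_B A is identified with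
B/K^(n+1), the class of d^n t corresponding to the class of t. -/
theorem result (n : ℕ) (A B : Type u) [CommRing A] [CommRing B] [Algebra A B]
    (g : B →ₐ[A] A) :
    Function.Surjective ((Ideal.Quotient.mk ((RingHom.ker g).map (algebraMap B (PP16.P n A B)))).comp
        (PP16.dn n A B).toRingHom) ∧
      RingHom.ker ((Ideal.Quotient.mk ((RingHom.ker g).map (algebraMap B (PP16.P n A B)))).comp
        (PP16.dn n A B).toRingHom) = RingHom.ker g ^ (n + 1) := by
  have hKP : (RingHom.ker g).map (algebraMap B (PP16.P n A B)) =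
      (RingHom.ker (rho A B g)).map
        (Ideal.Quotient.mk ((KaehlerDifferential.ideal A B) ^ (n + 1))) := by
    rw [ker_rho]
    change _ = Ideal.map (Ideal.Quotient.mk _) (Ideal.map
        ((Algebra.TensorProduct.includeLeft : B →ₐ[A] B ⊗[A] B) : B →+* B ⊗[A] B) _)
    rw [Ideal.map_map]
    rfl
  have hpow : ((KaehlerDifferential.ideal A B) ^ (n + 1)).map (rho A B g) =
      RingHom.ker g ^ (n + 1) := by
    rw [Ideal.map_pow, map_ideal_rho]
  have hmem : ∀ b : B, ((Ideal.Quotient.mk ((RingHom.ker g).map (algebraMap B (PP16.P n A B)))).comp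
        (PP16.dn n A B).toRingHom) b = 0 ↔ b ∈ RingHom.ker g ^ (n + 1) := by
    intro b
    change Ideal.Quotient.mk _ (Ideal.Quotient.mk _ ((1 : B) ⊗ₜ[A] b)) = 0 ↔ _
    rw [Ideal.Quotient.eq_zero_iff_mem, hKP, Ideal.mem_quotient_iff_mem_sup, ← hpow, sup_comm,
      RingHom.ker_eq_comap_bot,
      ← Ideal.comap_map_of_surjective (rho A B g) (rho_surj A B g), Ideal.mem_comap, rho_tmul]
    simp
  refine ⟨?_, ?_⟩
  · intro y
    obtain ⟨y, rfl⟩ := Ideal.Quotient.mk_surjective y
    obtain ⟨x, rfl⟩ := Ideal.Quotient.mk_surjective y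
    refine ⟨rho A B g x, ?_⟩
    change Ideal.Quotient.mk _ (Ideal.Quotient.mk _ ((1 : B) ⊗ₜ[A] (rho A B g x))) = _
    rw [Ideal.Quotient.eq, hKP, ← map_sub, Ideal.mem_quotient_iff_mem_sup]
    apply Ideal.mem_sup_left
    rw [RingHom.mem_ker, map_sub, rho_tmul]
    simp
  · ext b
    rw [RingHom.mem_ker, hmem]

end Groth.Agent.S3811
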