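import Groth.Statements.S3812
import Mathlib.RingTheory.MvPolynomial.Ideal
-- import your own Groth.Agent.* helpers here

set_option autoImplicit false
universe u
open scoped TensorProduct
open PP16

namespace Groth.Agent.S3812

section aux

variable (A : Type u) [CommRing A] (σ : Type u)

local notation "B" => MvPolynomial σ A

/-- `b ⊗ c ↦ C b * c(T + U)`. -/
noncomputable def Theta : B ⊗[A] B →ₐ[B] MvPolynomial σ B :=
  Algebra.TensorProduct.lift (Algebra.ofId B (MvPolynomial σ B))
    (MvPolynomial.aeval (fun i => MvPolynomial.C (MvPolynomial.X i : B) +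
      (MvPolynomial.X i : MvPolynomial σ B)))
    (fun _ _ => Commute.all _ _)

/-- `U_i ↦ 1 ⊗ T_i - T_i ⊗ 1`. -/
noncomputable def Xi : MvPolynomial σ B →ₐ[B] B ⊗[A] B :=
  MvPolynomial.aeval (fun i => (1 : B) ⊗ₜ[A] (MvPolynomial.X i : B) - (MvPolynomial.X i : B) ⊗ₜ[A] (1 : B))

theorem Theta_one_tmul_X (i : σ) :
    Theta A σ ((1 : B) ⊗ₜ[A] (MvPolynomial.X i : B)) =
      MvPolynomial.C (MvPolynomial.X i : B) + (MvPolynomial.X i : MvPolynomial σ B) := by
  simp [Theta, Algebra.TensorProduct.lift_tmul]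

theorem Theta_tmul_one (b : B) :
    Theta A σ (b ⊗ₜ[A] (1 : B)) = MvPolynomial.C b := by
  simp [Theta, Algebra.TensorProduct.lift_tmul, Algebra.ofId_apply, MvPolynomial.algebraMap_eq]

theorem Theta_Xi : (Theta A σ).comp (Xi A σ) = AlgHom.id B (MvPolynomial σ B) := by
  apply MvPolynomial.algHom_ext
  intro i
  simp [Xi, Theta_one_tmul_X, Theta_tmul_one]

theorem Xi_Theta : (Xi A σ).comp (Theta A σ) = AlgHom.id B (B ⊗[A] B) := by
  apply Algebra.TensorProduct.ext_ring
  apply MvPolynomial.algHom_ext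
  intro i
  simp [Theta_one_tmul_X, Xi]

/-- The `B`-algebra isomorphism `B ⊗_A B ≃ B[U]`. -/
noncomputable def ThetaEquiv : (B ⊗[A] B) ≃ₐ[B] MvPolynomial σ B :=
  AlgEquiv.ofAlgHom (Theta A σ) (Xi A σ) (Theta_Xi A σ) (Xi_Theta A σ)

theorem lmul_Xi (p : MvPolynomial σ B) :
    Algebra.TensorProduct.lmul' A (Xi A σ p) = MvPolynomial.constantCoeff p := by
  have : ((Algebra.TensorProduct.lmul' A : B ⊗[A] B →ₐ[A] B) : B ⊗[A] B →+* B).comp
      (Xi A σ : MvPolynomial σ B →+* B ⊗[A] B) = MvPolynomial.constantCoeff := by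
    apply MvPolynomial.ringHom_ext
    · intro b
      simp [Xi]
    · intro i
      simp [Xi]
  exact congrFun (congrArg DFunLike.coe this) p

theorem mem_ideal_iff (x : B ⊗[A] B) :
    x ∈ KaehlerDifferential.ideal A B ↔ Theta A σ x ∈ MvPolynomial.idealOfVars σ B := by
  have hx : x = Xi A σ (Theta A σ x) := by
    have := congrFun (congrArg DFunLike.coe (Xi_Theta A σ)) x
    simpa using this.symm
  have h1 : Theta A σ x ∈ MvPolynomial.idealOfVars σ B ↔
      MvPolynomial.constantCoeff (Theta A σ x) = 0 := by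
    have := MvPolynomial.mem_pow_idealOfVars_iff' (σ := σ) (R := B) 1 (Theta A σ x)
    rw [pow_one] at this
    rw [this]
    constructor
    · intro h
      have := h 0 (by simp)
      simpa [MvPolynomial.constantCoeff_eq] using this
    · intro h d hd
      have : d = 0 := by
        have : Finsupp.degree d = 0 := by omega
        exact (Finsupp.degree_eq_zero_iff d).mp this
      subst this
      simpa [MvPolynomial.constantCoeff_eq] using h
  rw [h1, ← lmul_Xi, ← hx]
  rfl

theorem ideal_map_eq :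
    (KaehlerDifferential.ideal A B).map (ThetaEquiv A σ : B ⊗[A] B →+* MvPolynomial σ B) =
      MvPolynomial.idealOfVars σ B := by
  apply le_antisymm
  · rw [Ideal.map_le_iff_le_comap]
    intro x hx
    exact (mem_ideal_iff A σ x).mp hx
  · intro p hp
    have hp' : p = Theta A σ (Xi A σ p) := by
      have := congrFun (congrArg DFunLike.coe (Theta_Xi A σ)) p
      simpa using this.symm
    rw [hp'] at hp ⊢
    exact Ideal.mem_map_of_mem _ ((mem_ideal_iff A σ _).mpr hp)

end aux

/-- Let B = A[T_i] be a polynomial algebra. There is an isomorphism of B-algebras from P^n_{B/A} onto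
B[U_i]/(U)^(n+1), where (U) is the ideal generated by the new indeterminates, sending the principal
part d^n T_i to the class of T_i + U_i for every i (so d^n F(T) goes to the class of F(T + U)). -/
theorem result (n : ℕ) (A : Type u) [CommRing A] (σ : Type u) :
    ∃ e : PP16.P n A (MvPolynomial σ A) ≃ₐ[MvPolynomial σ A]
        (MvPolynomial σ (MvPolynomial σ A) ⧸
          Ideal.span (Set.range (MvPolynomial.X : σ → MvPolynomial σ (MvPolynomial σ A))) ^ (n + 1)),
      ∀ i : σ, e (PP16.dn n A (MvPolynomial σ A) (MvPolynomial.X i)) =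
        Ideal.Quotient.mk _ (MvPolynomial.C (MvPolynomial.X i : MvPolynomial σ A) +
          (MvPolynomial.X i : MvPolynomial σ (MvPolynomial σ A))) := by
  refine ⟨Ideal.quotientEquivAlg _ _ (ThetaEquiv A σ) ?_, ?_⟩
  · rw [Ideal.map_pow, ideal_map_eq]
  · intro i
    change Ideal.Quotient.mk _ (Theta A σ ((1 : MvPolynomial σ A) ⊗ₜ[A] (MvPolynomial.X i))) = _
    rw [Theta_one_tmul_X]

end Groth.Agent.S3812
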