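import Groth.Statements.S3813
import Mathlib.RingTheory.TensorProduct.Quotient
import Mathlib.LinearAlgebra.TensorProduct.RightExactness
-- import your own Groth.Agent.* helpers here

set_option autoImplicit false
universe u
open scoped TensorProduct
open PP16

namespace Groth.Agent.S3813

section aux

variable (A : Type u) [CommRing A] (E : Type u) [AddCommGroup E] [Module A E]

local notation "S" => SymmetricAlgebra A E

/-- the augmentation `S → A`. -/
noncomputable def eps : S →ₐ[A] A := SymmetricAlgebra.lift (0 : E →ₗ[A] A)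

theorem eps_surj : Function.Surjective (eps A E) := fun a => ⟨algebraMap A S a, by simp [eps]⟩

/-- `1 ⊗ t ↦ t ⊗ 1 + 1 ⊗ t`. -/
noncomputable def Theta : S ⊗[A] S →ₐ[S] S ⊗[A] S :=
  Algebra.TensorProduct.lift (Algebra.ofId S (S ⊗[A] S))
    (SymmetricAlgebra.lift
      (((Algebra.TensorProduct.includeLeft : S →ₐ[A] S ⊗[A] S).toLinearMap ∘ₗ SymmetricAlgebra.ι A E) +
        ((Algebra.TensorProduct.includeRight : S →ₐ[A] S ⊗[A] S).toLinearMap ∘ₗ SymmetricAlgebra.ι A E)))
    (fun _ _ => Commute.all _ _)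

/-- `1 ⊗ t ↦ 1 ⊗ t - t ⊗ 1`. -/
noncomputable def Xi : S ⊗[A] S →ₐ[S] S ⊗[A] S :=
  Algebra.TensorProduct.lift (Algebra.ofId S (S ⊗[A] S))
    (SymmetricAlgebra.lift
      (((Algebra.TensorProduct.includeRight : S →ₐ[A] S ⊗[A] S).toLinearMap ∘ₗ SymmetricAlgebra.ι A E) -
        ((Algebra.TensorProduct.includeLeft : S →ₐ[A] S ⊗[A] S).toLinearMap ∘ₗ SymmetricAlgebra.ι A E)))
    (fun _ _ => Commute.all _ _)

theorem Theta_one_tmul_ι (t : E) :
    Theta A E ((1 : S) ⊗ₜ[A] SymmetricAlgebra.ι A E t) =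
      SymmetricAlgebra.ι A E t ⊗ₜ[A] (1 : S) + (1 : S) ⊗ₜ[A] SymmetricAlgebra.ι A E t := by
  simp [Theta, Algebra.TensorProduct.lift_tmul, ← Algebra.TensorProduct.one_def]

theorem Theta_tmul_one (b : S) : Theta A E (b ⊗ₜ[A] (1 : S)) = b ⊗ₜ[A] (1 : S) := by
  simp [Theta, Algebra.TensorProduct.lift_tmul, Algebra.ofId_apply]

theorem Xi_one_tmul_ι (t : E) :
    Xi A E ((1 : S) ⊗ₜ[A] SymmetricAlgebra.ι A E t) =
      (1 : S) ⊗ₜ[A] SymmetricAlgebra.ι A E t - SymmetricAlgebra.ι A E t ⊗ₜ[A] (1 : S) := by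
  simp [Xi, Algebra.TensorProduct.lift_tmul, ← Algebra.TensorProduct.one_def]

theorem Xi_tmul_one (b : S) : Xi A E (b ⊗ₜ[A] (1 : S)) = b ⊗ₜ[A] (1 : S) := by
  simp [Xi, Algebra.TensorProduct.lift_tmul, Algebra.ofId_apply]

theorem Theta_Xi : (Theta A E).comp (Xi A E) = AlgHom.id S (S ⊗[A] S) := by
  apply Algebra.TensorProduct.ext_ring
  apply SymmetricAlgebra.algHom_ext
  ext t
  simp [Xi_one_tmul_ι, Theta_one_tmul_ι, Theta_tmul_one]

theorem Xi_Theta : (Xi A E).comp (Theta A E) = AlgHom.id S (S ⊗[A] S) := by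
  apply Algebra.TensorProduct.ext_ring
  apply SymmetricAlgebra.algHom_ext
  ext t
  simp [Xi_one_tmul_ι, Theta_one_tmul_ι, Xi_tmul_one]

/-- The `S`-algebra automorphism of `S ⊗_A S`. -/
noncomputable def ThetaEquiv : (S ⊗[A] S) ≃ₐ[S] (S ⊗[A] S) :=
  AlgEquiv.ofAlgHom (Theta A E) (Xi A E) (Theta_Xi A E) (Xi_Theta A E)

theorem lmul_Xi (x : S ⊗[A] S) :
    Algebra.TensorProduct.lmul' A (Xi A E x) =
      Algebra.TensorProduct.rid A A S (Algebra.TensorProduct.map (AlgHom.id A S) (eps A E) x) := by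
  have : (Algebra.TensorProduct.lmul' A : S ⊗[A] S →ₐ[A] S).comp ((Xi A E).restrictScalars A) =
      ((Algebra.TensorProduct.rid A A S).toAlgHom).comp
        (Algebra.TensorProduct.map (AlgHom.id A S) (eps A E)) := by
    apply Algebra.TensorProduct.ext
    · ext s
      simp [Xi_tmul_one]
    · apply SymmetricAlgebra.algHom_ext
      ext t
      simp [Xi_one_tmul_ι, eps]
  exact congrFun (congrArg DFunLike.coe this) x

theorem mem_ideal_iff (x : S ⊗[A] S) :
    x ∈ KaehlerDifferential.ideal A S ↔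
      Theta A E x ∈ (RingHom.ker (eps A E)).map
        (Algebra.TensorProduct.includeRight : S →ₐ[A] S ⊗[A] S) := by
  have hx : x = Xi A E (Theta A E x) := by
    have := congrFun (congrArg DFunLike.coe (Xi_Theta A E)) x
    simpa using this.symm
  rw [← Algebra.TensorProduct.lTensor_ker (A := S) (eps A E) (eps_surj A E)]
  change Algebra.TensorProduct.lmul' A x = 0 ↔
    Algebra.TensorProduct.map (AlgHom.id A S) (eps A E) (Theta A E x) = 0
  have key : Algebra.TensorProduct.lmul' A x = Algebra.TensorProduct.rid A A S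
      (Algebra.TensorProduct.map (AlgHom.id A S) (eps A E) (Theta A E x)) := by
    rw [← lmul_Xi, ← hx]
  rw [key]
  constructor
  · intro h
    apply (Algebra.TensorProduct.rid A A S).injective
    rw [h, map_zero]
  · intro h
    rw [h, map_zero]

theorem ideal_map_eq :
    (KaehlerDifferential.ideal A S).map (ThetaEquiv A E : S ⊗[A] S →+* S ⊗[A] S) =
      (RingHom.ker (eps A E)).map (Algebra.TensorProduct.includeRight : S →ₐ[A] S ⊗[A] S) := by
  apply le_antisymm
  · rw [Ideal.map_le_iff_le_comap]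
    intro x hx
    exact (mem_ideal_iff A E x).mp hx
  · intro p hp
    have hp' : p = Theta A E (Xi A E p) := by
      have := congrFun (congrArg DFunLike.coe (Theta_Xi A E)) p
      simpa using this.symm
    rw [hp'] at hp ⊢
    exact Ideal.mem_map_of_mem _ ((mem_ideal_iff A E _).mpr hp)

end aux

/-- Let E be an A-module, B = Sym_A(E) its symmetric algebra and K the augmentation ideal of B (the
kernel of the A-algebra map B → A killing E). For every n there is an isomorphism of B-algebras from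
P^n_{B/A} onto B ⊗_A (B/K^(n+1)) sending the principal part d^n t of an element t of E to t ⊗ 1 + 1
⊗ (class of t). -/
theorem result (n : ℕ) (A : Type u) [CommRing A] (E : Type u) [AddCommGroup E]
    [Module A E] :
    ∃ e : PP16.P n A (SymmetricAlgebra A E) ≃ₐ[SymmetricAlgebra A E]
        (SymmetricAlgebra A E ⊗[A] (SymmetricAlgebra A E ⧸
          RingHom.ker (SymmetricAlgebra.lift (0 : E →ₗ[A] A)) ^ (n + 1))),
      ∀ t : E, e (PP16.dn n A (SymmetricAlgebra A E) (SymmetricAlgebra.ι A E t)) =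
        SymmetricAlgebra.ι A E t ⊗ₜ 1 + 1 ⊗ₜ Ideal.Quotient.mk _ (SymmetricAlgebra.ι A E t) := by
  have hIJ : ((RingHom.ker (eps A E)) ^ (n + 1)).map
      (Algebra.TensorProduct.includeRight :
        SymmetricAlgebra A E →ₐ[A] SymmetricAlgebra A E ⊗[A] SymmetricAlgebra A E) =
      ((KaehlerDifferential.ideal A (SymmetricAlgebra A E)) ^ (n + 1)).map
        (ThetaEquiv A E : SymmetricAlgebra A E ⊗[A] SymmetricAlgebra A E →+*
          SymmetricAlgebra A E ⊗[A] SymmetricAlgebra A E) := by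
    rw [Ideal.map_pow, Ideal.map_pow, ideal_map_eq]
  refine ⟨(Ideal.quotientEquivAlg _ _ (ThetaEquiv A E) hIJ).trans
    (Algebra.TensorProduct.tensorQuotientEquiv (R := A) (SymmetricAlgebra A E) (SymmetricAlgebra A E)
      (SymmetricAlgebra A E) ((RingHom.ker (eps A E)) ^ (n + 1))).symm, ?_⟩
  intro t
  change (Algebra.TensorProduct.tensorQuotientEquiv (R := A) (SymmetricAlgebra A E)
    (SymmetricAlgebra A E) (SymmetricAlgebra A E) ((RingHom.ker (eps A E)) ^ (n + 1))).symm
      (Ideal.Quotient.mk _ (Theta A E ((1 : SymmetricAlgebra A E) ⊗ₜ[A] SymmetricAlgebra.ι A E t))) = _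
  rw [Theta_one_tmul_ι, map_add, map_add]
  rfl

end Groth.Agent.S3813
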