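import Groth.Statements.S3814
import Mathlib

set_option autoImplicit false
universe u
open scoped TensorProduct
open PP16

namespace Groth.Agent.S3814

/-- If B is an A-algebra of finite presentation, then for every n the B-module P^n_{B/A} of principal
parts of order n is of finite presentation. -/
theorem result (n : ℕ) (A B : Type u) [CommRing A] [CommRing B]
    [Algebra A B] [Algebra.FinitePresentation A B] :
    Module.FinitePresentation B (PP16.P n A B) := by
  classical
  have hIfg : (KaehlerDifferential.ideal A B).FG := KaehlerDifferential.ideal_fg A B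
  have hfp1 : Algebra.FinitePresentation B (B ⊗[A] B) := inferInstance
  have hfp : Algebra.FinitePresentation B (PP16.P n A B) :=
    Algebra.FinitePresentation.quotient (hIfg.pow (n := n + 1))
  let f0 : (B ⊗[A] B) →ₐ[B] B := Algebra.TensorProduct.lmul'' A
  have hf0 : ∀ x, f0 x = Algebra.TensorProduct.lmul' A x := fun x => rfl
  have hker0 : ∀ x, x ∈ KaehlerDifferential.ideal A B ↔ f0 x = 0 := by
    intro x
    rw [hf0]
    exact Iff.rfl
  let f : PP16.P n A B →ₐ[B] B := Ideal.Quotient.liftₐ ((KaehlerDifferential.ideal A B) ^ (n + 1)) f0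
    (fun x hx => (hker0 x).mp (Ideal.pow_le_self (by omega) hx))
  have hfmk : ∀ x, f (Ideal.Quotient.mk _ x) = f0 x := fun x => rfl
  have hfsurj : Function.Surjective f := by
    intro b
    refine ⟨Ideal.Quotient.mk _ (b ⊗ₜ[A] 1), ?_⟩
    rw [hfmk, hf0, Algebra.TensorProduct.lmul'_apply_tmul, mul_one]
  have hker : RingHom.ker f =
      (KaehlerDifferential.ideal A B).map (Ideal.Quotient.mk ((KaehlerDifferential.ideal A B) ^ (n + 1))) := by
    ext y
    obtain ⟨x, rfl⟩ := Ideal.Quotient.mk_surjective y
    rw [RingHom.mem_ker]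
    change f (Ideal.Quotient.mk _ x) = 0 ↔ _
    rw [hfmk, ← hker0]
    constructor
    · intro hx; exact Ideal.mem_map_of_mem _ hx
    · intro hx
      rw [Ideal.mem_map_iff_of_surjective _ Ideal.Quotient.mk_surjective] at hx
      obtain ⟨x', hx', hxx'⟩ := hx
      rw [Ideal.Quotient.eq] at hxx'
      have := Ideal.add_mem _ hx' (Ideal.neg_mem_iff _ |>.mpr (Ideal.pow_le_self (by omega) hxx'))
      simpa using this
  have hfin : Module.Finite B (PP16.P n A B) := by
    refine Module.finite_of_surjective_of_ker_le_nilradical f hfsurj ?_ ?_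
    · intro y hy
      rw [hker] at hy
      refine ⟨n + 1, ?_⟩
      have h1 : y ^ (n + 1) ∈ ((KaehlerDifferential.ideal A B).map
          (Ideal.Quotient.mk ((KaehlerDifferential.ideal A B) ^ (n + 1)))) ^ (n + 1) :=
        Ideal.pow_mem_pow hy _
      rw [← Ideal.map_pow, Ideal.map_quotient_self] at h1
      exact h1
    · rw [hker]; exact hIfg.map _
  exact Module.FinitePresentation.of_finite_of_finitePresentation B (PP16.P n A B)

end Groth.Agent.S3814
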