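import Groth.Statements.S3815
-- import your own Groth.Agent.* helpers here

set_option autoImplicit false
universe u
open scoped TensorProduct
open scoped BigOperators
open PP16

namespace Groth.Agent.S3815

section aux

variable (A B : Type u) [CommRing A] [CommRing B] [Algebra A B]
    (M N : Type u) [AddCommGroup M] [Module A M] [Module B M] [IsScalarTower A B M]
    [AddCommGroup N] [Module A N] [Module B N] [IsScalarTower A B N]

/-- `b ↦ (F ↦ b • F)`. -/
noncomputable def postB : B →ₐ[A] Module.End A (M →ₗ[A] N) where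
  toFun b :=
    { toFun := fun F => ((LinearMap.lsmul B N b).restrictScalars A) ∘ₗ F
      map_add' := fun F G => by ext m; simp
      map_smul' := fun a F => by
        ext m
        change b • (a • F m) = a • (b • F m)
        exact smul_comm b a (F m) }
  map_one' := by ext F m; simp
  map_mul' b b' := by
    ext F m
    change (b * b') • F m = b • b' • F m
    rw [mul_smul]
  map_zero' := by ext F m; simp
  map_add' b b' := by
    ext F m
    change (b + b') • F m = b • F m + b' • F m
    rw [add_smul]
  commutes' a := by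
    ext F m
    change (algebraMap A B a) • F m = a • F m
    rw [algebraMap_smul]

/-- `c ↦ (F ↦ F ∘ (c • ·))`. -/
noncomputable def preB : B →ₐ[A] Module.End A (M →ₗ[A] N) where
  toFun c :=
    { toFun := fun F => F ∘ₗ ((LinearMap.lsmul B M c).restrictScalars A)
      map_add' := fun F G => by ext m; simp
      map_smul' := fun a F => by ext m; simp }
  map_one' := by ext F m; simp
  map_mul' c c' := by
    ext F m
    change F ((c * c') • m) = F (c' • c • m)
    rw [mul_comm, mul_smul]
  map_zero' := by ext F m; simp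
  map_add' c c' := by
    ext F m
    change F ((c + c') • m) = F (c • m) + F (c' • m)
    rw [add_smul, map_add]
  commutes' a := by
    ext F m
    change F ((algebraMap A B a) • m) = a • F m
    rw [algebraMap_smul, map_smul]

theorem postB_apply (b : B) (F : M →ₗ[A] N) (m : M) : postB A B M N b F m = b • F m := rfl

theorem preB_apply (c : B) (F : M →ₗ[A] N) (m : M) : preB A B M N c F m = F (c • m) := rfl

theorem postB_commute_preB (b c : B) : Commute (postB A B M N b) (preB A B M N c) := by
  change postB A B M N b * preB A B M N c = preB A B M N c * postB A B M N b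
  ext F m
  rfl

/-- The action of `B ⊗_A B` on `Hom_A(M, N)`. -/
noncomputable def rho : B ⊗[A] B →ₐ[A] Module.End A (M →ₗ[A] N) :=
  Algebra.TensorProduct.lift (postB A B M N) (preB A B M N) (postB_commute_preB A B M N)

theorem rho_tmul (b c : B) (F : M →ₗ[A] N) (m : M) :
    rho A B M N (b ⊗ₜ[A] c) F m = b • F (c • m) := by
  rw [rho, Algebra.TensorProduct.lift_tmul]
  rfl

theorem commutator_eq (D : M →ₗ[A] N) (b : B) :
    Diff16.commutator A B M N D b = rho A B M N ((1 : B) ⊗ₜ[A] b - b ⊗ₜ[A] (1 : B)) D := by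
  ext m
  rw [map_sub, LinearMap.sub_apply, LinearMap.sub_apply, rho_tmul, rho_tmul]
  simp [Diff16.commutator]

/-- The annihilator of `D` in `B ⊗_A B`. -/
noncomputable def annD (D : M →ₗ[A] N) : Ideal (B ⊗[A] B) where
  carrier := {x | rho A B M N x D = 0}
  add_mem' := by
    intro x y hx hy
    simp only [Set.mem_ofPred_eq] at *
    rw [map_add, LinearMap.add_apply, hx, hy, add_zero]
  zero_mem' := by simp
  smul_mem' := by
    intro y x hx
    simp only [Set.mem_ofPred_eq, smul_eq_mul] at *
    rw [map_mul, Module.End.mul_apply, hx, map_zero]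

theorem mem_annD (D : M →ₗ[A] N) (x : B ⊗[A] B) :
    x ∈ annD A B M N D ↔ rho A B M N x D = 0 := Iff.rfl

theorem ideal_le_annD_iff (D : M →ₗ[A] N) :
    KaehlerDifferential.ideal A B ≤ annD A B M N D ↔
      ∀ b, Diff16.commutator A B M N D b = 0 := by
  rw [← KaehlerDifferential.span_range_eq_ideal, Ideal.span_le]
  constructor
  · intro h b
    rw [commutator_eq]
    exact h ⟨b, rfl⟩
  · rintro h _ ⟨b, rfl⟩
    change rho A B M N ((1 : B) ⊗ₜ[A] b - b ⊗ₜ[A] (1 : B)) D = 0
    rw [← commutator_eq]
    exact h b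

theorem isDiffOpLE_iff (n : ℕ) (D : M →ₗ[A] N) :
    Diff16.IsDiffOpLE A B M N n D ↔ KaehlerDifferential.ideal A B ^ (n + 1) ≤ annD A B M N D := by
  induction n generalizing D with
  | zero =>
    rw [zero_add, pow_one, ideal_le_annD_iff]
    constructor
    · intro h b
      ext m
      have := h b m
      simp [Diff16.commutator, this]
    · intro h b m
      have := congrArg (fun F => F m) (h b)
      simp only [Diff16.commutator, LinearMap.sub_apply, LinearMap.comp_apply,
        LinearMap.restrictScalars_apply, LinearMap.lsmul_apply, LinearMap.zero_apply] at this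
      exact sub_eq_zero.mp this
  | succ n ih =>
    change (∀ b, Diff16.IsDiffOpLE A B M N n (Diff16.commutator A B M N D b)) ↔ _
    simp_rw [ih]
    rw [pow_succ (KaehlerDifferential.ideal A B) (n + 1), Ideal.mul_le]
    constructor
    · intro h r hr s hs
      have h1 : KaehlerDifferential.ideal A B ≤ annD A B M N (rho A B M N r D) := by
        rw [ideal_le_annD_iff]
        intro b
        rw [commutator_eq, ← Module.End.mul_apply, ← map_mul, mul_comm, map_mul,
          Module.End.mul_apply, ← commutator_eq]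
        exact h b hr
      have h2 := h1 hs
      rw [mem_annD] at h2 ⊢
      rw [mul_comm, map_mul, Module.End.mul_apply]
      exact h2
    · intro h b r hr
      rw [mem_annD, commutator_eq, ← Module.End.mul_apply, ← map_mul]
      exact h r hr _ (KaehlerDifferential.one_smul_sub_smul_one_mem_ideal A b)

/-- descent of `x ↦ rho x D` to `P^n`. -/
noncomputable def rhoBar (n : ℕ) (D : M →ₗ[A] N)
    (hD : KaehlerDifferential.ideal A B ^ (n + 1) ≤ annD A B M N D) :
    P n A B →+ (M →ₗ[A] N) :=
  letI : Module (B ⊗[A] B) (M →ₗ[A] N) := Module.compHom _ (rho A B M N).toRingHom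
  (Submodule.liftQ (KaehlerDifferential.ideal A B ^ (n + 1))
    (LinearMap.toSpanSingleton (B ⊗[A] B) (M →ₗ[A] N) D)
    (fun x hx => hD hx)).toAddMonoidHom

theorem rhoBar_mk (n : ℕ) (D : M →ₗ[A] N)
    (hD : KaehlerDifferential.ideal A B ^ (n + 1) ≤ annD A B M N D) (x : B ⊗[A] B) :
    rhoBar A B M N n D hD (Ideal.Quotient.mk _ x) = rho A B M N x D := rfl

/-- The biadditive map `Pr × M → N`. -/
noncomputable def fD (n : ℕ) (D : M →ₗ[A] N)
    (hD : KaehlerDifferential.ideal A B ^ (n + 1) ≤ annD A B M N D) :
    Pr n A B →+ M →+ N :=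
  (LinearMap.toAddMonoidHom' : (M →ₗ[A] N) →+ (M →+ N)).comp (rhoBar A B M N n D hD)

theorem fD_mk (n : ℕ) (D : M →ₗ[A] N)
    (hD : KaehlerDifferential.ideal A B ^ (n + 1) ≤ annD A B M N D) (x : B ⊗[A] B) (m : M) :
    fD A B M N n D hD (Ideal.Quotient.mk _ x : P n A B) m = rho A B M N x D m := rfl

theorem fD_balanced (n : ℕ) (D : M →ₗ[A] N)
    (hD : KaehlerDifferential.ideal A B ^ (n + 1) ≤ annD A B M N D) (c : B) (z : Pr n A B) (m : M) :
    fD A B M N n D hD (c • z) m = fD A B M N n D hD z (c • m) := by
  obtain ⟨x, hx⟩ := Ideal.Quotient.mk_surjective (I := KaehlerDifferential.ideal A B ^ (n + 1))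
    (show P n A B from z)
  have hz : z = (show Pr n A B from
      (Ideal.Quotient.mk (KaehlerDifferential.ideal A B ^ (n + 1)) x : P n A B)) := hx.symm
  have h1 : c • z = (show Pr n A B from
      (Ideal.Quotient.mk (KaehlerDifferential.ideal A B ^ (n + 1)) (((1 : B) ⊗ₜ[A] c) * x) : P n A B)) := by
    rw [Algebra.smul_def, hz]
    change (Ideal.Quotient.mk (KaehlerDifferential.ideal A B ^ (n + 1)) ((1 : B) ⊗ₜ[A] c) : P n A B) *
      (Ideal.Quotient.mk (KaehlerDifferential.ideal A B ^ (n + 1)) x : P n A B) = _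
    rw [← map_mul]
  rw [h1, hz]
  change rho A B M N (((1 : B) ⊗ₜ[A] c) * x) D m = rho A B M N x D (c • m)
  rw [map_mul, Module.End.mul_apply, rho_tmul, one_smul]

/-- The map `u`. -/
noncomputable def uD (n : ℕ) (D : M →ₗ[A] N)
    (hD : KaehlerDifferential.ideal A B ^ (n + 1) ≤ annD A B M N D) : PM n A B M →+ N :=
  TensorProduct.liftAddHom (fD A B M N n D hD) (fD_balanced A B M N n D hD)

theorem uD_tmul (n : ℕ) (D : M →ₗ[A] N)
    (hD : KaehlerDifferential.ideal A B ^ (n + 1) ≤ annD A B M N D) (z : Pr n A B) (m : M) :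
    uD A B M N n D hD (z ⊗ₜ[B] m) = fD A B M N n D hD z m := rfl

/-- class of `x` in `P^n`, with the right structure. -/
noncomputable def toPr (n : ℕ) (x : B ⊗[A] B) : Pr n A B :=
  (Ideal.Quotient.mk (KaehlerDifferential.ideal A B ^ (n + 1)) x : P n A B)

theorem toPr_add (n : ℕ) (x y : B ⊗[A] B) : toPr A B n (x + y) = toPr A B n x + toPr A B n y :=
  map_add (Ideal.Quotient.mk (KaehlerDifferential.ideal A B ^ (n + 1))) x y

theorem toPr_zero (n : ℕ) : toPr A B n 0 = 0 :=
  map_zero (Ideal.Quotient.mk (KaehlerDifferential.ideal A B ^ (n + 1)))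

theorem toPr_surj (n : ℕ) (z : Pr n A B) : ∃ x, toPr A B n x = z :=
  Ideal.Quotient.mk_surjective (I := KaehlerDifferential.ideal A B ^ (n + 1)) (show P n A B from z)

theorem algebraMap_smul_toPr (n : ℕ) (b : B) (x : B ⊗[A] B) :
    algebraMap B (P n A B) b • toPr A B n x = toPr A B n ((b ⊗ₜ[A] (1 : B)) * x) := by
  change (Ideal.Quotient.mk (KaehlerDifferential.ideal A B ^ (n + 1)) (b ⊗ₜ[A] (1 : B)) : P n A B) *
      (Ideal.Quotient.mk (KaehlerDifferential.ideal A B ^ (n + 1)) x : P n A B) =
    (Ideal.Quotient.mk (KaehlerDifferential.ideal A B ^ (n + 1)) ((b ⊗ₜ[A] (1 : B)) * x) : P n A B)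
  rw [map_mul]

theorem smul_toPr (n : ℕ) (c : B) (x : B ⊗[A] B) :
    c • toPr A B n x = toPr A B n (((1 : B) ⊗ₜ[A] c) * x) := by
  rw [Algebra.smul_def]
  change (Ideal.Quotient.mk (KaehlerDifferential.ideal A B ^ (n + 1)) ((1 : B) ⊗ₜ[A] c) : P n A B) *
      (Ideal.Quotient.mk (KaehlerDifferential.ideal A B ^ (n + 1)) x : P n A B) =
    (Ideal.Quotient.mk (KaehlerDifferential.ideal A B ^ (n + 1)) (((1 : B) ⊗ₜ[A] c) * x) : P n A B)
  rw [map_mul]

theorem toPr_one (n : ℕ) : toPr A B n 1 = 1 :=
  map_one (Ideal.Quotient.mk (KaehlerDifferential.ideal A B ^ (n + 1)))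

theorem toPr_tmul_eq (n : ℕ) (b c : B) (m : M) :
    toPr A B n (b ⊗ₜ[A] c) ⊗ₜ[B] m =
      algebraMap B (P n A B) b • ((1 : Pr n A B) ⊗ₜ[B] (c • m)) := by
  rw [← TensorProduct.smul_tmul, TensorProduct.smul_tmul', ← toPr_one, smul_toPr,
    algebraMap_smul_toPr, mul_one, Algebra.TensorProduct.tmul_mul_tmul, mul_one, one_mul]

/-- any `u` with the two properties computes `rho`. -/
theorem u_eq_rho (n : ℕ) (D : M →ₗ[A] N) (u : PM n A B M →+ N)
    (h1 : ∀ (b : B) (t : PM n A B M), u (algebraMap B (P n A B) b • t) = b • u t)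
    (h2 : ∀ m : M, u (dM n A B M m) = D m) (x : B ⊗[A] B) (m : M) :
    u (toPr A B n x ⊗ₜ[B] m) = rho A B M N x D m := by
  induction x using TensorProduct.induction_on with
  | zero => rw [toPr_zero, TensorProduct.zero_tmul, map_zero, map_zero, LinearMap.zero_apply,
      LinearMap.zero_apply]
  | tmul b c =>
    rw [toPr_tmul_eq, h1, rho_tmul]
    congr 1
    exact h2 (c • m)
  | add x y hx hy =>
    rw [toPr_add, TensorProduct.add_tmul, map_add, hx, hy, map_add, LinearMap.add_apply,
      LinearMap.add_apply]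

end aux

/-- Let B be an A-algebra, M and N two B-modules and D : M → N an A-linear map. Let P^n(M) = P^n_{B/A}
⊗_B M, the tensor product formed with the B-module structure of P^n_{B/A} through d^n, regarded as a
B-module through the first factor of P^n_{B/A}, with d^n_M : M → P^n(M), m ↦ 1 ⊗ m. Then D is a
differential operator of order at most n relative to A (order defined through iterated commutators
with multiplication by elements of B) if and only if there is exactly one additive map u : P^n(M) →
N which is B-linear for the first-factor structure and satisfies u(1 ⊗ m) = D(m) for all m ∈ M. -/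
theorem result (n : ℕ) (A B : Type u) [CommRing A] [CommRing B] [Algebra A B]
    (M N : Type u) [AddCommGroup M] [Module A M] [Module B M] [IsScalarTower A B M]
    [AddCommGroup N] [Module A N] [Module B N] [IsScalarTower A B N] (D : M →ₗ[A] N) :
    Diff16.IsDiffOpLE A B M N n D ↔
      ∃! u : PP16.PM n A B M →+ N,
        (∀ (b : B) (t : PP16.PM n A B M), u (algebraMap B (PP16.P n A B) b • t) = b • u t) ∧
          ∀ m : M, u (PP16.dM n A B M m) = D m := by
  constructor
  · intro h
    have hD := (isDiffOpLE_iff A B M N n D).mp h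
    have hu1 : ∀ (b : B) (t : PM n A B M),
        uD A B M N n D hD (algebraMap B (P n A B) b • t) = b • uD A B M N n D hD t := by
      intro b t
      induction t using TensorProduct.induction_on with
      | zero => rw [smul_zero, map_zero, smul_zero]
      | tmul z m =>
        obtain ⟨x, rfl⟩ := toPr_surj A B n z
        rw [TensorProduct.smul_tmul', algebraMap_smul_toPr, uD_tmul, uD_tmul]
        change rho A B M N ((b ⊗ₜ[A] (1 : B)) * x) D m = b • rho A B M N x D m
        rw [map_mul, Module.End.mul_apply, rho_tmul, one_smul]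
      | add x y hx hy => rw [smul_add, map_add, hx, hy, map_add, smul_add]
    have hu2 : ∀ m : M, uD A B M N n D hD (dM n A B M m) = D m := by
      intro m
      change uD A B M N n D hD ((1 : Pr n A B) ⊗ₜ[B] m) = D m
      rw [← toPr_one, uD_tmul]
      change rho A B M N 1 D m = D m
      rw [map_one, Module.End.one_apply]
    refine ⟨uD A B M N n D hD, ⟨hu1, hu2⟩, ?_⟩
    rintro u' ⟨h1, h2⟩
    apply DFunLike.ext
    intro t
    induction t using TensorProduct.induction_on with
    | zero => rw [map_zero, map_zero]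
    | tmul z m =>
      obtain ⟨x, rfl⟩ := toPr_surj A B n z
      rw [u_eq_rho A B M N n D u' h1 h2, u_eq_rho A B M N n D _ hu1 hu2]
    | add x y hx hy => rw [map_add, map_add, hx, hy]
  · rintro ⟨u, ⟨h1, h2⟩, -⟩
    rw [isDiffOpLE_iff]
    intro x hx
    rw [mem_annD]
    ext m
    rw [← u_eq_rho A B M N n D u h1 h2]
    have : toPr A B n x = 0 := (Ideal.Quotient.eq_zero_iff_mem).mpr hx
    rw [this, TensorProduct.zero_tmul, map_zero, LinearMap.zero_apply]

end Groth.Agent.S3815
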