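import Groth.Statements.S3829
import Groth.Agent.Lib.Helper35.RegSmooth

set_option autoImplicit false
universe u
open CategoryTheory CategoryTheory.Limits AlgebraicGeometry TopologicalSpace
open Unram17

namespace Groth.Agent.S3829

section Helpers

set_option maxHeartbeats 800000
set_option linter.style.haveILetI false
open Groth.Agent.Lib.Helper35 RingTheory.Sequence

/-- the pointwise core: smoothness of `Y → S` at `y` plus a regular sequence cutting out `Y` in an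
affine neighbourhood of `j y` gives smoothness of `X → S` at `j y`. -/
theorem mem_smoothLocus_of_regular {X Y S : Scheme.{u}} (f : X ⟶ S)
    [LocallyOfFinitePresentation f] (j : Y ⟶ X) [IsClosedImmersion j]
    [LocallyOfFinitePresentation (j ≫ f)] (y : Y) (hy : y ∈ (j ≫ f).smoothLocus)
    (U : X.Opens) (hU : IsAffineOpen U) (hxU : j y ∈ U) (rs : List Γ(X, U))
    (hrs : IsWeaklyRegular Γ(X, U) rs) (hI : j.ker.ideal ⟨U, hU⟩ = Ideal.ofList rs) :
    j y ∈ f.smoothLocus := by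
  obtain ⟨_, ⟨W, hW, rfl⟩, hxW, -⟩ :=
    S.isBasis_affineOpens.exists_subset_of_mem_open (Set.mem_univ (f (j y))) isOpen_univ
  obtain ⟨W, rfl⟩ : ∃ W' : S.Opens, W' = W := ⟨W, rfl⟩
  have hxW' : j y ∈ f ⁻¹ᵁ W := hxW
  obtain ⟨g, hg1, hg2⟩ := IsAffineOpen.exists_basicOpen_le (U := U) hU (V := f ⁻¹ᵁ W)
    ⟨j y, hxW'⟩ hxU
  have hV : IsAffineOpen (X.basicOpen g) := hU.basicOpen g
  have hVW : X.basicOpen g ≤ f ⁻¹ᵁ W := hg1
  have hVy : IsAffineOpen (j ⁻¹ᵁ (X.basicOpen g)) := hV.preimage j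
  have hyVy : y ∈ j ⁻¹ᵁ (X.basicOpen g) := hg2
  have hle : j ⁻¹ᵁ (X.basicOpen g) ≤ (j ≫ f) ⁻¹ᵁ W := fun w hw => hVW hw
  letI algAB : Algebra Γ(S, W) Γ(X, X.basicOpen g) := (f.appLE W (X.basicOpen g) hVW).hom.toAlgebra
  letI algBC : Algebra Γ(X, X.basicOpen g) Γ(Y, j ⁻¹ᵁ (X.basicOpen g)) :=
    (j.appLE (X.basicOpen g) (j ⁻¹ᵁ (X.basicOpen g)) le_rfl).hom.toAlgebra
  letI algAC : Algebra Γ(S, W) Γ(Y, j ⁻¹ᵁ (X.basicOpen g)) :=
    ((j ≫ f).appLE W (j ⁻¹ᵁ (X.basicOpen g)) hle).hom.toAlgebra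
  haveI : IsScalarTower Γ(S, W) Γ(X, X.basicOpen g) Γ(Y, j ⁻¹ᵁ (X.basicOpen g)) := by
    refine IsScalarTower.of_algebraMap_eq fun a => ?_
    show ((j ≫ f).appLE W (j ⁻¹ᵁ (X.basicOpen g)) hle).hom a =
      (j.appLE (X.basicOpen g) (j ⁻¹ᵁ (X.basicOpen g)) le_rfl).hom
        ((f.appLE W (X.basicOpen g) hVW).hom a)
    rw [← CommRingCat.comp_apply, Scheme.Hom.appLE_comp_appLE]
  haveI : Algebra.FinitePresentation Γ(S, W) Γ(X, X.basicOpen g) :=
    f.finitePresentation_appLE hW hV hVW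
  have hBCeq : algebraMap Γ(X, X.basicOpen g) Γ(Y, j ⁻¹ᵁ (X.basicOpen g)) =
      (j.app (X.basicOpen g)).hom := by
    rw [RingHom.algebraMap_toAlgebra, ← Scheme.Hom.app_eq_appLE]
  have hsurj : Function.Surjective
      (algebraMap Γ(X, X.basicOpen g) Γ(Y, j ⁻¹ᵁ (X.basicOpen g))) := by
    rw [hBCeq]
    exact j.app_surjective (X.basicOpen g) hV
  haveI := hU.isLocalization_basicOpen g
  haveI : Module.Flat Γ(X, U) Γ(X, X.basicOpen g) :=
    IsLocalization.flat Γ(X, X.basicOpen g) (Submonoid.powers g)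
  have hrs' : IsWeaklyRegular Γ(X, X.basicOpen g)
      (rs.map (algebraMap Γ(X, U) Γ(X, X.basicOpen g))) := IsWeaklyRegular.of_flat hrs
  have hker : RingHom.ker (algebraMap Γ(X, X.basicOpen g) Γ(Y, j ⁻¹ᵁ (X.basicOpen g))) =
      Ideal.ofList (rs.map (algebraMap Γ(X, U) Γ(X, X.basicOpen g))) := by
    rw [← Ideal.map_ofList, ← hI, hBCeq]
    have h1 := j.ker.map_ideal_basicOpen ⟨U, hU⟩ g
    have h2 := Scheme.Hom.ker_apply j (X.affineBasicOpen (U := ⟨U, hU⟩) g)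
    rw [← h1] at h2
    exact h2.symm
  have hq : (hV.primeIdealOf ⟨j y, hg2⟩).asIdeal =
      (hVy.primeIdealOf ⟨y, hyVy⟩).asIdeal.comap
        (algebraMap Γ(X, X.basicOpen g) Γ(Y, j ⁻¹ᵁ (X.basicOpen g))) := by
    have := IsAffineOpen.comap_primeIdealOf_appLE (f := j) (x := y) (X.basicOpen g) hV
      (j ⁻¹ᵁ (X.basicOpen g)) hVy le_rfl hyVy
    exact congr($(this).1).symm
  have hsmY : Algebra.IsSmoothAt Γ(S, W) (hVy.primeIdealOf ⟨y, hyVy⟩).asIdeal :=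
    (formallySmooth_stalkMap_iff W hW (j ⁻¹ᵁ (X.basicOpen g)) hVy hle hyVy).mp hy
  have hsmX : Algebra.IsSmoothAt Γ(S, W) (hV.primeIdealOf ⟨j y, hg2⟩).asIdeal :=
    RegSmooth.isSmoothAt_comap_of_regular hsurj _ hrs' hker _ hsmY _ hq
  exact (formallySmooth_stalkMap_iff W hW (X.basicOpen g) hV hVW hg2).mpr hsmX

theorem aux {X Y S : Scheme.{u}} (f : X ⟶ S) (h : Y ⟶ S)
    [LocallyOfFinitePresentation f] [LocallyOfFinitePresentation h] (j : Y ⟶ X) [IsClosedImmersion j]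
    (hj : j ≫ f = h) (y : ↥Y) (hy : ∃ V : Y.Opens, y ∈ V ∧ Smooth (V.ι ≫ h))
    (hreg : ∃ (U : X.Opens) (hU : IsAffineOpen U), j y ∈ U ∧
      ∃ rs : List Γ(X, U), RingTheory.Sequence.IsRegular Γ(X, U) rs ∧ j.ker.ideal ⟨U, hU⟩ = Ideal.ofList rs) :
    ∃ U : X.Opens, j y ∈ U ∧ Smooth (U.ι ≫ f) := by
  subst hj
  obtain ⟨V, hyV, hVsm⟩ := hy
  obtain ⟨U, hU, hxU, rs, hrs, hI⟩ := hreg
  have hy' : y ∈ (j ≫ f).smoothLocus := by
    have h1 := Scheme.Hom.preimage_smoothLocus_eq V.ι (j ≫ f)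
    haveI := hVsm
    rw [Scheme.Hom.smoothLocus_eq_top (V.ι ≫ j ≫ f)] at h1
    have h2 : (⟨y, hyV⟩ : V) ∈ V.ι ⁻¹ᵁ (j ≫ f).smoothLocus := by rw [h1]; trivial
    exact h2
  have hx := mem_smoothLocus_of_regular f j y hy' U hU hxU rs hrs.toIsWeaklyRegular hI
  refine ⟨f.smoothLocus, hx, ?_⟩
  rw [← Scheme.Hom.smoothLocus_eq_top_iff, ← Scheme.Hom.preimage_smoothLocus_eq]
  exact Scheme.Opens.ι_preimage_self _

end Helpers

/-- c) implies a) (case of a closed immersion): let f : X → S and h : Y → S be locally of finite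
presentation, j : Y → X a closed immersion over S and y a point of Y. If h is smooth on a
neighbourhood of y and, on some affine open neighbourhood of j(y) in X, the ideal of j is generated
by a regular sequence (j is a regular immersion near y), then f is smooth on an open neighbourhood
of j(y). -/
theorem result {X Y S : Scheme.{u}} (f : X ⟶ S) (h : Y ⟶ S)
    [LocallyOfFinitePresentation f] [LocallyOfFinitePresentation h] (j : Y ⟶ X) [IsClosedImmersion j]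
    (hj : j ≫ f = h) (y : ↥Y) (hy : ∃ V : Y.Opens, y ∈ V ∧ Smooth (V.ι ≫ h))
    (hreg : ∃ (U : X.Opens) (hU : IsAffineOpen U), j y ∈ U ∧
      ∃ rs : List Γ(X, U), RingTheory.Sequence.IsRegular Γ(X, U) rs ∧ j.ker.ideal ⟨U, hU⟩ = Ideal.ofList rs) :
    ∃ U : X.Opens, j y ∈ U ∧ Smooth (U.ι ≫ f) := by
  exact aux f h j hj y hy hreg

end Groth.Agent.S3829
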