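import Groth.Statements.S3834
import Mathlib
import Groth.Agent.Lib.Helper48.SchDense
import Groth.Agent.S3833
import Groth.Agent.S12513
-- import your own Groth.Agent.* helpers here

set_option autoImplicit false
universe u
open CategoryTheory CategoryTheory.Limits AlgebraicGeometry TopologicalSpace
open Rat20

namespace Groth.Agent.S3834

/-- Let X = Spec A be an affine scheme, with A Noetherian, or A reduced with finitely many minimal
primes. Then an open subset U of X is schematically dense if and only if it contains an open subset
of the form X_t with t a regular element of A = Γ(X, O_X). -/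
theorem result (X : Scheme.{u}) [IsAffine X]
    (hX : IsNoetherian X ∨ (IsReduced X ∧ (irreducibleComponents ↥X).Finite)) (U : X.Opens) :
    CInt.IsSchematicallyDense U ↔ ∃ t : Γ(X, ⊤), t ∈ nonZeroDivisors Γ(X, ⊤) ∧ X.basicOpen t ≤ U := by
  have hA : IsNoetherianRing Γ(X, ⊤) ∨ (IsReduced Γ(X, ⊤) ∧ (minimalPrimes Γ(X, ⊤)).Finite) := by
    rcases hX with h | ⟨h1, h2⟩
    · left
      haveI := h
      exact IsLocallyNoetherian.component_noetherian ⟨⊤, isAffineOpen_top X⟩
    · right
      haveI := h1
      refine ⟨inferInstance, ?_⟩
      apply Groth.Agent.Lib.Helper48.SchDense.finite_minimalPrimes_of_isAffineOpen ⊤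
        (isAffineOpen_top X)
      exact h2.subset (fun Z hZ => hZ.1)
  constructor
  · intro hU
    exact Groth.Agent.Lib.Helper48.SchDense.exists_regular_basicOpen_le ⊤ (isAffineOpen_top X)
      hA U (hU ⊤)
  · rintro ⟨t, ht, hle⟩
    apply Groth.Agent.Lib.Helper48.SchDense.isSchematicallyDense_mono hle
    apply Groth.Agent.S3833.result X t
    intro x
    have h1 : t ∈ Mero.regSub X ⊤ := by
      rw [Groth.Agent.S12513.result X ⊤ (isAffineOpen_top X)]; exact ht
    exact h1 ⟨x, trivial⟩

end Groth.Agent.S3834
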