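import Groth.Statements.S3836
import Groth.Agent.Lib.Helper61.GraphClosure

set_option autoImplicit false
universe u
open CategoryTheory CategoryTheory.Limits AlgebraicGeometry TopologicalSpace
open Rat20

namespace Groth.Agent.S3836

/-- Let X be a locally integral S-scheme, Y an S-scheme locally of finite type and separated over S, and
h : U → Y an S-morphism on a dense open subset (a rational S-map ω). Let Γ be the closure in X ×_S Y
of the graph of h and p : Γ → X the projection. If x is a point of X whose local ring is integrally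
closed and the fibre p⁻¹(x) contains an isolated point, then ω is defined at x: some S-morphism from
an open neighbourhood of x to Y agrees with h on U. -/
theorem result {X Y S : Scheme.{u}} (pX : X ⟶ S) (pY : Y ⟶ S)
    [LocallyOfFiniteType pY] [IsSeparated pY] (hX : ∀ y : ↥X, ∃ W : X.Opens, y ∈ W ∧ IsIntegral (W : Scheme.{u}))
    (U : X.Opens) (hU : Dense (U : Set ↥X)) (h : (U : Scheme.{u}) ⟶ Y) (hh : U.ι ≫ pX = h ≫ pY)
    (x : ↥X) (hx : IsIntegrallyClosed (X.presheaf.stalk x))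
    (z : ↥(pullback pX pY)) (hz : pullback.fst pX pY z = x)
    (hzΓ : z ∈ closure (Set.range (pullback.lift U.ι h hh)))
    (hiso : ∃ W : (pullback pX pY).Opens, (W : Set ↥(pullback pX pY)) ∩ closure (Set.range (pullback.lift U.ι h hh)) ∩
      (pullback.fst pX pY) ⁻¹' {x} = {z}) :
    ∃ (V : X.Opens) (v : (V : Scheme.{u}) ⟶ Y), x ∈ V ∧ v ≫ pY = V.ι ≫ pX ∧
      X.homOfLE (inf_le_right : U ⊓ V ≤ V) ≫ v = X.homOfLE (inf_le_left : U ⊓ V ≤ U) ≫ h := by
  classical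
  obtain ⟨W₀, hxW₀, hW₀⟩ := hX x
  haveI := hW₀
  let gr : U.toScheme ⟶ pullback pX pY := pullback.lift U.ι h hh
  have hgr_fst : gr ≫ pullback.fst pX pY = U.ι := pullback.lift_fst _ _ _
  have hgr_snd : gr ≫ pullback.snd pX pY = h := pullback.lift_snd _ _ _
  let Z : Closeds ((pullback pX pY : Scheme.{u})) := ⟨closure (Set.range gr), isClosed_closure⟩
  let I := Scheme.IdealSheafData.vanishingIdeal Z
  let ι₁ : I.subscheme ⟶ pullback pX pY := I.subschemeι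
  haveI : IsReduced I.subscheme := Groth.Agent.Lib.Helper61.GraphClosure.isReduced_vanishingIdeal_subscheme Z
  have hrange : Set.range ι₁ = closure (Set.range gr) :=
    Groth.Agent.Lib.Helper61.GraphClosure.range_subschemeι_vanishingIdeal Z
  let p₁ : I.subscheme ⟶ X := ι₁ ≫ pullback.fst pX pY
  let Γ₀ : I.subscheme.Opens := p₁ ⁻¹ᵁ W₀
  let p₀ : Γ₀.toScheme ⟶ W₀.toScheme := p₁ ∣_ W₀
  have hp₀ : p₀ ≫ W₀.ι = Γ₀.ι ≫ p₁ := morphismRestrict_ι _ _
  let U' : X.Opens := U ⊓ W₀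
  let j : U'.toScheme ⟶ W₀.toScheme := X.homOfLE inf_le_right
  let k : U'.toScheme ⟶ U.toScheme := X.homOfLE inf_le_left
  haveI : IsReduced U'.toScheme := isReduced_of_isOpenImmersion j
  haveI : Nonempty U'.toScheme := by
    obtain ⟨y, hy1, hy2⟩ := hU.inter_open_nonempty W₀ W₀.2 ⟨x, hxW₀⟩
    exact ⟨⟨y, hy2, hy1⟩⟩
  haveI : IsIntegral U'.toScheme := isIntegral_of_isOpenImmersion j
  obtain ⟨g₁, hg₁⟩ := Groth.Agent.Lib.Helper61.GraphClosure.exists_factor_of_isReduced (k ≫ gr) ι₁ (by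
    rw [hrange]
    rintro _ ⟨u, rfl⟩
    exact subset_closure ⟨k u, rfl⟩)
  have hp₁g₁ : g₁ ≫ p₁ = U'.ι := by
    change g₁ ≫ ι₁ ≫ pullback.fst pX pY = _
    rw [reassoc_of% hg₁, hgr_fst]
    exact X.homOfLE_ι _
  have hg₁range : Set.range g₁ ⊆ Set.range Γ₀.ι := by
    rw [Scheme.Opens.range_ι]
    rintro _ ⟨u, rfl⟩
    change p₁ (g₁ u) ∈ W₀
    rw [← Scheme.Hom.comp_apply, hp₁g₁]
    exact u.2.2
  let g : U'.toScheme ⟶ Γ₀.toScheme := IsOpenImmersion.lift Γ₀.ι g₁ hg₁range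
  have hgι : g ≫ Γ₀.ι = g₁ := IsOpenImmersion.lift_fac _ _ _
  have hgp : g ≫ p₀ = j := by
    rw [← cancel_mono W₀.ι, Category.assoc, hp₀, reassoc_of% hgι, hp₁g₁]
    exact (X.homOfLE_ι _).symm
  -- the embedding of Γ₀ into the fibre product
  let e : Γ₀.toScheme ⟶ pullback pX pY := Γ₀.ι ≫ ι₁
  have he_emb : Topology.IsEmbedding e := e.isEmbedding
  have he_mem : ∀ γ : Γ₀.toScheme, e γ ∈ closure (Set.range gr) := by
    intro γ
    rw [← hrange]
    exact ⟨Γ₀.ι γ, rfl⟩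
  have he_fst : e ≫ pullback.fst pX pY = p₀ ≫ W₀.ι := by
    rw [hp₀]; rfl
  have hge : g ≫ e = k ≫ gr := by
    change g ≫ Γ₀.ι ≫ ι₁ = _
    rw [reassoc_of% hgι, hg₁]
  have hfst_e : ∀ γ : Γ₀.toScheme, pullback.fst pX pY (e γ) = (p₀ γ).1 := by
    intro γ
    rw [← Scheme.Hom.comp_apply, he_fst]
    rfl
  have hgdense : DenseRange g := by
    rw [DenseRange, dense_iff_inter_open]
    rintro O hO ⟨γ, hγ⟩
    obtain ⟨O', hO', rfl⟩ := he_emb.isInducing.isOpen_iff.mp hO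
    have hopen : IsOpen (O' ∩ (pullback.fst pX pY) ⁻¹' (W₀ : Set X)) :=
      hO'.inter (W₀.2.preimage (pullback.fst pX pY).continuous)
    have hmem : e γ ∈ O' ∩ (pullback.fst pX pY) ⁻¹' (W₀ : Set X) := by
      refine ⟨hγ, ?_⟩
      change pullback.fst pX pY (e γ) ∈ W₀
      rw [hfst_e]
      exact (p₀ γ).2
    obtain ⟨_, ⟨hy1, hy2⟩, ⟨u, rfl⟩⟩ := mem_closure_iff.mp (he_mem γ) _ hopen hmem
    have hu : u.1 ∈ W₀ := by
      have : pullback.fst pX pY (gr u) = U.ι u := by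
        rw [← Scheme.Hom.comp_apply, hgr_fst]
      have hy3 : pullback.fst pX pY (gr u) ∈ W₀ := hy2
      rw [this] at hy3
      exact hy3
    let u' : U'.toScheme := ⟨u.1, u.2, hu⟩
    have hku' : k u' = u := Subtype.ext (X.homOfLE_apply _ u')
    refine ⟨g u', ?_, ⟨u', rfl⟩⟩
    change e (g u') ∈ O'
    rw [← Scheme.Hom.comp_apply, hge, Scheme.Hom.comp_apply, hku']
    exact hy1
  haveI : IsDominant g := ⟨hgdense⟩
  haveI : IrreducibleSpace Γ₀.toScheme := by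
    have h1 : IsIrreducible (Set.univ : Set Γ₀.toScheme) := by
      have := ((irreducibleSpace_def U'.toScheme).mp inferInstance).image g g.continuous.continuousOn
      rw [Set.top_eq_univ, Set.image_univ] at this
      have := this.closure
      rwa [hgdense.closure_range] at this
    exact (irreducibleSpace_def _).mpr h1
  haveI : IsReduced Γ₀.toScheme := isReduced_of_isOpenImmersion Γ₀.ι
  haveI : IsIntegral Γ₀.toScheme := isIntegral_of_irreducibleSpace_of_isReduced _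
  -- the point z₀ of Γ₀ over z
  obtain ⟨z₁, hz₁⟩ : z ∈ Set.range ι₁ := by rw [hrange]; exact hzΓ
  have hp₁z₁ : p₁ z₁ = x := by
    change pullback.fst pX pY (ι₁ z₁) = x
    rw [hz₁, hz]
  have hz₁Γ₀ : z₁ ∈ Γ₀ := by
    change p₁ z₁ ∈ W₀
    rw [hp₁z₁]; exact hxW₀
  let z₀ : Γ₀.toScheme := ⟨z₁, hz₁Γ₀⟩
  have hez₀ : e z₀ = z := hz₁
  have hp₀z₀ : p₀ z₀ = ⟨x, hxW₀⟩ := by
    apply Subtype.ext
    rw [← hfst_e, hez₀, hz]
  have hN : IsIntegrallyClosed (W₀.toScheme.presheaf.stalk (p₀ z₀)) := by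
    rw [hp₀z₀]
    haveI := hx
    exact IsIntegrallyClosed.of_equiv (W₀.stalkIso ⟨x, hxW₀⟩).symm.commRingCatIsoToRingEquiv
  haveI : LocallyOfFiniteType p₁ := inferInstanceAs (LocallyOfFiniteType (ι₁ ≫ pullback.fst pX pY))
  haveI : LocallyOfFiniteType p₀ := inferInstanceAs (LocallyOfFiniteType (p₁ ∣_ W₀))
  have hq : p₀.QuasiFiniteAt z₀ := by
    obtain ⟨Wz, hWz⟩ := hiso
    have h3 : IsOpen ({⟨z₀, rfl⟩} : Set (p₀ ⁻¹' {p₀ z₀})) := by
      rw [isOpen_induced_iff]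
      refine ⟨e ⁻¹' (Wz : Set _), Wz.2.preimage e.continuous, ?_⟩
      ext γ
      simp only [Set.mem_preimage, Set.mem_singleton_iff]
      constructor
      · intro hγ
        have hγ2 : e γ.1 ∈ ({z} : Set _) := by
          rw [← hWz]
          refine ⟨⟨hγ, he_mem _⟩, ?_⟩
          change pullback.fst pX pY (e γ.1) = x
          rw [hfst_e]
          have := γ.2
          simp only [Set.mem_preimage, Set.mem_singleton_iff] at this
          rw [this, hp₀z₀]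
        apply Subtype.ext
        apply he_emb.injective
        rw [hez₀]
        exact hγ2
      · intro hγ
        rw [hγ]
        change e z₀ ∈ Wz
        rw [hez₀]
        have : z ∈ (Wz : Set _) ∩ closure (Set.range (pullback.lift U.ι h hh)) ∩
            (pullback.fst pX pY) ⁻¹' {x} := by rw [hWz]; rfl
        exact this.1.1
    rw [Scheme.Hom.quasiFiniteAt_iff_isOpen_singleton_asFiber,
      ← (p₀.fiberHomeo (p₀ z₀)).isOpen_image]
    simpa only [Set.image_singleton, Scheme.Hom.asFiber, Homeomorph.apply_symm_apply] using h3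
  haveI : IsOpenImmersion (g ≫ p₀) := by rw [hgp]; infer_instance
  obtain ⟨V₁, hz₀V₁, hV₁⟩ :=
    Groth.Agent.Lib.Helper61.GraphClosure.exists_opens_isOpenImmersion_of_section p₀ g z₀ hq hN
  haveI := hV₁
  let jV : V₁.toScheme ⟶ X := (V₁.ι ≫ p₀) ≫ W₀.ι
  let V : X.Opens := jV.opensRange
  let eV : V₁.toScheme ≅ V.toScheme := jV.isoOpensRange
  have heV : eV.hom ≫ V.ι = jV := jV.isoOpensRange_hom_ι
  have heV' : eV.inv ≫ jV = V.ι := by rw [← heV, Iso.inv_hom_id_assoc]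
  let v : V.toScheme ⟶ Y := eV.inv ≫ V₁.ι ≫ e ≫ pullback.snd pX pY
  have hxV : x ∈ V := by
    refine ⟨⟨z₀, hz₀V₁⟩, ?_⟩
    change W₀.ι (p₀ (V₁.ι ⟨z₀, hz₀V₁⟩)) = x
    change (p₀ z₀).1 = x
    rw [hp₀z₀]
  have hvpY : v ≫ pY = V.ι ≫ pX := by
    change (eV.inv ≫ V₁.ι ≫ e ≫ pullback.snd pX pY) ≫ pY = _
    simp only [Category.assoc]
    rw [← pullback.condition, reassoc_of% he_fst, ← heV']
    simp only [jV, Category.assoc]
  refine ⟨V, v, hxV, hvpY, ?_⟩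
  -- agreement on U ⊓ V
  have hVW₀ : V ≤ W₀ := by
    rintro _ ⟨γ, rfl⟩
    exact (p₀ (V₁.ι γ)).2
  have hUVW₀ : U ⊓ V ≤ W₀ := inf_le_right.trans hVW₀
  haveI : Nonempty (U ⊓ V).toScheme := by
    obtain ⟨y, hy1, hy2⟩ := hU.inter_open_nonempty V V.2 ⟨x, hxV⟩
    exact ⟨⟨y, hy2, hy1⟩⟩
  haveI : IsIntegral (U ⊓ V).toScheme := isIntegral_of_isOpenImmersion (X.homOfLE hUVW₀)
  let T' : U'.toScheme.Opens := g ⁻¹ᵁ V₁
  let g' : T'.toScheme ⟶ V₁.toScheme := g ∣_ V₁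
  have hg' : g' ≫ V₁.ι = T'.ι ≫ g := morphismRestrict_ι _ _
  have hg'jV : g' ≫ jV = T'.ι ≫ U'.ι := by
    change g' ≫ (V₁.ι ≫ p₀) ≫ W₀.ι = _
    simp only [Category.assoc]
    rw [reassoc_of% hg', reassoc_of% hgp]
    congr 1
    exact X.homOfLE_ι _
  have hT'range : Set.range (T'.ι ≫ U'.ι) ⊆ Set.range (U ⊓ V).ι := by
    rw [Scheme.Opens.range_ι]
    rintro _ ⟨t, rfl⟩
    refine ⟨(T'.ι t).2.1, ?_⟩
    refine ⟨g' t, ?_⟩
    rw [← Scheme.Hom.comp_apply, hg'jV]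
  let ι' : T'.toScheme ⟶ (U ⊓ V).toScheme :=
    IsOpenImmersion.lift (U ⊓ V).ι (T'.ι ≫ U'.ι) hT'range
  have hι' : ι' ≫ (U ⊓ V).ι = T'.ι ≫ U'.ι := IsOpenImmersion.lift_fac _ _ _
  haveI : IsOpenImmersion (ι' ≫ (U ⊓ V).ι) := by rw [hι']; infer_instance
  haveI : IsOpenImmersion ι' := IsOpenImmersion.of_comp ι' (U ⊓ V).ι
  haveI : Nonempty T'.toScheme := by
    obtain ⟨_, hy, ⟨u, rfl⟩⟩ := hgdense.inter_open_nonempty V₁ V₁.2 ⟨z₀, hz₀V₁⟩
    exact ⟨⟨u, hy⟩⟩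
  haveI : IsDominant ι' :=
    ⟨(ι'.isOpenEmbedding.isOpen_range.dense (Set.range_nonempty _))⟩
  refine ext_of_isDominant_of_isSeparated pY ?_ ι' ?_
  · rw [Category.assoc, hvpY, Category.assoc, ← hh, X.homOfLE_ι_assoc, X.homOfLE_ι_assoc]
  · have h1 : ι' ≫ X.homOfLE (inf_le_right : U ⊓ V ≤ V) ≫ eV.inv = g' := by
      rw [← cancel_mono jV]
      simp only [Category.assoc]
      rw [heV', X.homOfLE_ι, hι', hg'jV]
    have h2 : ι' ≫ X.homOfLE (inf_le_left : U ⊓ V ≤ U) = T'.ι ≫ k := by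
      rw [← cancel_mono U.ι]
      simp only [Category.assoc, X.homOfLE_ι, hι']
      congr 1
      exact (X.homOfLE_ι _).symm
    calc ι' ≫ X.homOfLE (inf_le_right : U ⊓ V ≤ V) ≫ v
        = (ι' ≫ X.homOfLE (inf_le_right : U ⊓ V ≤ V) ≫ eV.inv) ≫
            V₁.ι ≫ e ≫ pullback.snd pX pY := by simp only [v, Category.assoc]
      _ = g' ≫ V₁.ι ≫ e ≫ pullback.snd pX pY := by rw [h1]
      _ = T'.ι ≫ g ≫ e ≫ pullback.snd pX pY := by rw [reassoc_of% hg']
      _ = T'.ι ≫ k ≫ gr ≫ pullback.snd pX pY := by rw [reassoc_of% hge]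
      _ = T'.ι ≫ k ≫ h := by rw [hgr_snd]
      _ = ι' ≫ X.homOfLE (inf_le_left : U ⊓ V ≤ U) ≫ h := by rw [reassoc_of% h2]

end Groth.Agent.S3836
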