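import Groth.Statements.S3837
import Groth.Agent.S3836
import Groth.Agent.Lib.Helper61.RatPullback

set_option autoImplicit false
universe u
open CategoryTheory CategoryTheory.Limits AlgebraicGeometry TopologicalSpace
open Rat20

namespace Groth.Agent.S3837

/-- Let X be a normal S-scheme (locally integral with integrally closed local rings), Y an S-scheme
locally of finite type and separated over S, h : U → Y an S-morphism on a dense open subset (a
rational S-map ω), and f : X' → X a morphism locally of finite type and universally open with X'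
reduced, so that f⁻¹(U) is dense and ω ∘ f is defined. Then for x' in X' with image x, ω is defined
at x if and only if ω ∘ f is defined at x': some S-morphism on an open neighbourhood of x agrees
with h on U if and only if some S-morphism on an open neighbourhood of x' agrees with h ∘ f on the
preimage of U. -/
theorem result {X X' Y S : Scheme.{u}} (pX : X ⟶ S) (pY : Y ⟶ S)
    [LocallyOfFiniteType pY] [IsSeparated pY] (hX : ∀ y : ↥X, ∃ W : X.Opens, y ∈ W ∧ IsIntegral (W : Scheme.{u}))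
    (hXn : ∀ y : ↥X, IsIntegrallyClosed (X.presheaf.stalk y))
    (U : X.Opens) (hU : Dense (U : Set ↥X)) (h : (U : Scheme.{u}) ⟶ Y) (hh : h ≫ pY = U.ι ≫ pX)
    (f : X' ⟶ X) [LocallyOfFiniteType f] [UniversallyOpen f] [IsReduced X'] (x' : ↥X') :
    (∃ (V : X.Opens) (v : (V : Scheme.{u}) ⟶ Y), f x' ∈ V ∧ v ≫ pY = V.ι ≫ pX ∧
        X.homOfLE (inf_le_right : U ⊓ V ≤ V) ≫ v = X.homOfLE (inf_le_left : U ⊓ V ≤ U) ≫ h) ↔
      ∃ (V' : X'.Opens) (v' : (V' : Scheme.{u}) ⟶ Y), x' ∈ V' ∧ v' ≫ pY = V'.ι ≫ f ≫ pX ∧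
        X'.homOfLE (inf_le_right : f ⁻¹ᵁ U ⊓ V' ≤ V') ≫ v' =
          X'.homOfLE (inf_le_left : f ⁻¹ᵁ U ⊓ V' ≤ f ⁻¹ᵁ U) ≫ (f ∣_ U) ≫ h := by
  classical
  constructor
  · -- easy direction: pull back along f
    rintro ⟨V, v, hxV, hvS, hv⟩
    refine ⟨f ⁻¹ᵁ V, (f ∣_ V) ≫ v, hxV, ?_, ?_⟩
    · rw [Category.assoc, hvS, morphismRestrict_ι_assoc]
    · have hrange : Set.range ((f ⁻¹ᵁ U ⊓ f ⁻¹ᵁ V).ι ≫ f) ⊆ Set.range (U ⊓ V).ι := by
        rw [Scheme.Opens.range_ι]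
        rintro _ ⟨t, rfl⟩
        exact t.2
      let r : (f ⁻¹ᵁ U ⊓ f ⁻¹ᵁ V).toScheme ⟶ (U ⊓ V).toScheme :=
        IsOpenImmersion.lift (U ⊓ V).ι ((f ⁻¹ᵁ U ⊓ f ⁻¹ᵁ V).ι ≫ f) hrange
      have hr : r ≫ (U ⊓ V).ι = (f ⁻¹ᵁ U ⊓ f ⁻¹ᵁ V).ι ≫ f := IsOpenImmersion.lift_fac _ _ _
      have h1 : X'.homOfLE (inf_le_right : f ⁻¹ᵁ U ⊓ f ⁻¹ᵁ V ≤ f ⁻¹ᵁ V) ≫ (f ∣_ V) =
          r ≫ X.homOfLE (inf_le_right : U ⊓ V ≤ V) := by
        rw [← cancel_mono V.ι]
        simp only [Category.assoc, morphismRestrict_ι, X.homOfLE_ι, hr, X'.homOfLE_ι_assoc]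
      have h2 : X'.homOfLE (inf_le_left : f ⁻¹ᵁ U ⊓ f ⁻¹ᵁ V ≤ f ⁻¹ᵁ U) ≫ (f ∣_ U) =
          r ≫ X.homOfLE (inf_le_left : U ⊓ V ≤ U) := by
        rw [← cancel_mono U.ι]
        simp only [Category.assoc, morphismRestrict_ι, X.homOfLE_ι, hr, X'.homOfLE_ι_assoc]
      rw [reassoc_of% h1, reassoc_of% h2, hv]
  · rintro ⟨V', v', hx'V', hv'S, hv'⟩
    have hh₁ : U.ι ≫ pX = h ≫ pY := hh.symm
    have hh' : (f ⁻¹ᵁ U).ι ≫ f ≫ pX = ((f ∣_ U) ≫ h) ≫ pY := by
      rw [Category.assoc, hh, morphismRestrict_ι_assoc]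
    have hv'S₁ : V'.ι ≫ f ≫ pX = v' ≫ pY := hv'S.symm
    let φ := Groth.Agent.Lib.Helper61.RatPullback.φ pX pY f
    let gr : U.toScheme ⟶ pullback pX pY := pullback.lift U.ι h hh₁
    let gr' : (f ⁻¹ᵁ U).toScheme ⟶ pullback (f ≫ pX) pY :=
      pullback.lift (f ⁻¹ᵁ U).ι ((f ∣_ U) ≫ h) hh'
    let gv : V'.toScheme ⟶ pullback (f ≫ pX) pY := pullback.lift V'.ι v' hv'S₁
    have hPB := Groth.Agent.Lib.Helper61.RatPullback.isPullback_graph f U h hh₁ hh'
    have hPBφ := Groth.Agent.Lib.Helper61.RatPullback.isPullback_φ pX pY f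
    have hφopen : IsOpenMap φ := φ.isOpenMap
    -- agreement of the two graphs on f⁻¹U ∩ V'
    have hagree : X'.homOfLE (inf_le_right : f ⁻¹ᵁ U ⊓ V' ≤ V') ≫ gv =
        X'.homOfLE (inf_le_left : f ⁻¹ᵁ U ⊓ V' ≤ f ⁻¹ᵁ U) ≫ gr' := by
      apply pullback.hom_ext
      · simp only [Category.assoc, gv, gr', pullback.lift_fst, X'.homOfLE_ι]
      · simp only [Category.assoc, gv, gr', pullback.lift_snd]
        exact hv'
    have hagree_pt : ∀ (t : X') (ht1 : t ∈ f ⁻¹ᵁ U) (ht2 : t ∈ V'), gv ⟨t, ht2⟩ = gr' ⟨t, ht1⟩ := by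
      intro t ht1 ht2
      have e1 : X'.homOfLE (inf_le_right : f ⁻¹ᵁ U ⊓ V' ≤ V') ⟨t, ht1, ht2⟩ = ⟨t, ht2⟩ :=
        Subtype.ext (X'.homOfLE_apply _ _)
      have e2 : X'.homOfLE (inf_le_left : f ⁻¹ᵁ U ⊓ V' ≤ f ⁻¹ᵁ U) ⟨t, ht1, ht2⟩ = ⟨t, ht1⟩ :=
        Subtype.ext (X'.homOfLE_apply _ _)
      rw [← e1, ← e2, ← Scheme.Hom.comp_apply, ← Scheme.Hom.comp_apply, hagree]
    have hfst_gr' : ∀ t, pullback.fst (f ≫ pX) pY (gr' t) = t.1 := by
      intro t
      rw [← Scheme.Hom.comp_apply, pullback.lift_fst]; rfl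
    have hfst_gv : ∀ t, pullback.fst (f ≫ pX) pY (gv t) = t.1 := by
      intro t
      rw [← Scheme.Hom.comp_apply, pullback.lift_fst]; rfl
    -- preimage of the graph
    have hpre : φ ⁻¹' (Set.range gr) = Set.range gr' := by
      ext w
      constructor
      · rintro ⟨u, hu⟩
        obtain ⟨t, ht1, ht2⟩ := Groth.Agent.Lib.Helper61.RatPullback.exists_preimage_of_isPullback
          hPB w u hu.symm
        exact ⟨t, ht1⟩
      · rintro ⟨t, rfl⟩
        refine ⟨(f ∣_ U) t, ?_⟩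
        change _ = φ (gr' t)
        rw [← Scheme.Hom.comp_apply, ← Scheme.Hom.comp_apply, hPB.w]
    have hpre_cl : φ ⁻¹' (closure (Set.range gr)) = closure (Set.range gr') := by
      rw [hφopen.preimage_closure_eq_closure_preimage φ.continuous, hpre]
    -- the closure of the graph over V' is the graph of v'
    have hcl : closure (Set.range gr') ∩ (pullback.fst (f ≫ pX) pY) ⁻¹' V' ⊆ Set.range gv := by
      refine Groth.Agent.Lib.Helper61.RatPullback.closure_inter_subset_range_graph (f ≫ pX) pY V' v'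
        hv'S₁ (Set.range gr') ?_
      rintro _ ⟨⟨t, rfl⟩, ht2⟩
      have ht2' : t.1 ∈ V' := by
        have : pullback.fst (f ≫ pX) pY (gr' t) ∈ V' := ht2
        rwa [hfst_gr'] at this
      exact ⟨⟨t.1, ht2'⟩, hagree_pt t.1 t.2 ht2'⟩
    -- f⁻¹U is dense
    have hdense : Dense ((f ⁻¹ᵁ U : X'.Opens) : Set X') := hU.preimage f.isOpenMap
    have hgv_mem : ∀ t : V'.toScheme, gv t ∈ closure (Set.range gr') := by
      intro t
      have hD : Dense (V'.ι ⁻¹' ((f ⁻¹ᵁ U : X'.Opens) : Set X')) :=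
        hdense.preimage V'.ι.isOpenEmbedding.isOpenMap
      have h1 : gv t ∈ gv '' closure (V'.ι ⁻¹' ((f ⁻¹ᵁ U : X'.Opens) : Set X')) := by
        rw [hD.closure_eq]; exact ⟨t, trivial, rfl⟩
      refine closure_mono ?_ (image_closure_subset_closure_image gv.continuous h1)
      rintro _ ⟨t', ht', rfl⟩
      exact ⟨⟨t'.1, ht'⟩, (hagree_pt t'.1 ht' t'.2).symm⟩
    let z : ↥(pullback pX pY) := φ (gv ⟨x', hx'V'⟩)
    have hz : pullback.fst pX pY z = f x' := by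
      change pullback.fst pX pY (φ (gv ⟨x', hx'V'⟩)) = f x'
      rw [← Scheme.Hom.comp_apply, Groth.Agent.Lib.Helper61.RatPullback.φ_fst,
        Scheme.Hom.comp_apply, hfst_gv]
    have hzΓ : z ∈ closure (Set.range (pullback.lift U.ι h hh₁)) := by
      have : gv ⟨x', hx'V'⟩ ∈ φ ⁻¹' (closure (Set.range gr)) := by
        rw [hpre_cl]; exact hgv_mem _
      exact this
    have hiso : ∃ W : (pullback pX pY).Opens, (W : Set ↥(pullback pX pY)) ∩
        closure (Set.range (pullback.lift U.ι h hh₁)) ∩ (pullback.fst pX pY) ⁻¹' {f x'} = {z} := by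
      refine ⟨⊤, ?_⟩
      ext w
      simp only [Opens.coe_top, Set.univ_inter, Set.mem_inter_iff, Set.mem_preimage,
        Set.mem_singleton_iff]
      constructor
      · rintro ⟨hw1, hw2⟩
        obtain ⟨w', hw'1, hw'2⟩ :=
          Groth.Agent.Lib.Helper61.RatPullback.exists_preimage_of_isPullback hPBφ w x' hw2
        have hw'cl : w' ∈ closure (Set.range gr') := by
          rw [← hpre_cl]
          change φ w' ∈ closure (Set.range gr)
          rw [hw'1]; exact hw1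
        have hw'V : w' ∈ (pullback.fst (f ≫ pX) pY) ⁻¹' (V' : Set X') := by
          change pullback.fst (f ≫ pX) pY w' ∈ V'
          rw [hw'2]; exact hx'V'
        obtain ⟨t, ht⟩ := hcl ⟨hw'cl, hw'V⟩
        have ht' : t = ⟨x', hx'V'⟩ := by
          apply Subtype.ext
          rw [← hfst_gv, ht, hw'2]
        rw [← hw'1, ← ht, ht']
      · rintro rfl
        exact ⟨hzΓ, hz⟩
    exact Groth.Agent.S3836.result pX pY hX U hU h hh₁ (f x') (hXn _) z hz hzΓ hiso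

end Groth.Agent.S3837
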