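import Groth.Statements.S3846
import Groth.Agent.S3845

set_option autoImplicit false
universe u
open CategoryTheory CategoryTheory.Limits AlgebraicGeometry TopologicalSpace
open Unram17

namespace Groth.Agent.S3846

/-- A section of a formally unramified morphism locally of finite type is an open immersion. -/
theorem isOpenImmersion_of_section {P Z : Scheme.{u}} (p : P ⟶ Z) (s : Z ⟶ P)
    [FormallyUnramified p] [LocallyOfFiniteType p] (hs : s ≫ p = 𝟙 Z) : IsOpenImmersion s := by
  have h : MorphismProperty.HasOfPostcompProperty @IsOpenImmersion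
      (@FormallyUnramified ⊓ @LocallyOfFiniteType) := by
    rw [MorphismProperty.hasOfPostcompProperty_iff_le_diagonal]
    rintro X Y f ⟨h1, h2⟩
    have : FormallyUnramified f := h1
    have : LocallyOfFiniteType f := h2
    exact FormallyUnramified.isOpenImmersion_diagonal f
  refine h.of_postcomp s p ⟨‹_›, ‹_›⟩ ?_
  rw [hs]
  infer_instance

/-- a) iff b''): let f : X → Y be locally of finite presentation and x a point of X. Then f is
unramified on some open neighbourhood of x if and only if, for every base change g : Y' → Y and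
every section s' of X ×_Y Y' → Y', s' is a local isomorphism at every point y' of Y' such that
s'(y') lies over x. -/
theorem result {X Y : Scheme.{u}} (f : X ⟶ Y) [LocallyOfFinitePresentation f]
    (x : ↥X) :
    (∃ U : X.Opens, x ∈ U ∧ FormallyUnramified (U.ι ≫ f)) ↔
      ∀ (Y' : Scheme.{u}) (g : Y' ⟶ Y) (s' : Y' ⟶ pullback f g), s' ≫ pullback.snd f g = 𝟙 Y' →
        ∀ y' : ↥Y', pullback.fst f g (s' y') = x → SchLoc.IsLocalIsoAt s' y' := by
  constructor
  · rintro ⟨U, hxU, hU⟩ Y' g s' hs' y' hy'
    let V : Y'.Opens := s' ⁻¹ᵁ (pullback.fst f g ⁻¹ᵁ U)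
    have hyV : y' ∈ V := by
      change pullback.fst f g (s' y') ∈ U
      rw [hy']; exact hxU
    refine ⟨V, hyV, ?_⟩
    -- the lift `t : V ⟶ U`
    have hrange : Set.range (V.ι ≫ s' ≫ pullback.fst f g) ⊆ Set.range U.ι := by
      rintro _ ⟨v, rfl⟩
      rw [Scheme.Opens.range_ι]
      exact v.2
    let t : (V : Scheme.{u}) ⟶ U := IsOpenImmersion.lift U.ι (V.ι ≫ s' ≫ pullback.fst f g) hrange
    have ht : t ≫ U.ι = V.ι ≫ s' ≫ pullback.fst f g := IsOpenImmersion.lift_fac _ _ _
    have hcond : t ≫ (U.ι ≫ f) = 𝟙 _ ≫ (V.ι ≫ g) := by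
      rw [← Category.assoc, ht, Category.id_comp, Category.assoc, Category.assoc,
        pullback.condition, ← Category.assoc s', hs', Category.id_comp]
    let s'' : (V : Scheme.{u}) ⟶ pullback (U.ι ≫ f) (V.ι ≫ g) := pullback.lift t (𝟙 _) hcond
    have hs'' : s'' ≫ pullback.snd (U.ι ≫ f) (V.ι ≫ g) = 𝟙 _ := pullback.lift_snd _ _ _
    have : FormallyUnramified (pullback.snd (U.ι ≫ f) (V.ι ≫ g)) :=
      MorphismProperty.pullback_snd _ _ hU
    have : LocallyOfFiniteType (pullback.snd (U.ι ≫ f) (V.ι ≫ g)) :=
      MorphismProperty.pullback_snd _ _ inferInstance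
    have : IsOpenImmersion s'' := isOpenImmersion_of_section _ s'' hs''
    have key : V.ι ≫ s' = s'' ≫ pullback.map (U.ι ≫ f) (V.ι ≫ g) f g U.ι V.ι (𝟙 Y)
        (by simp) (by simp) := by
      apply pullback.hom_ext
      · simp only [Category.assoc, pullback.lift_fst]
        rw [pullback.lift_fst_assoc, ht]
      · simp only [Category.assoc, pullback.lift_snd]
        rw [pullback.lift_snd_assoc, hs', Category.id_comp, Category.comp_id]
    rw [key]
    infer_instance
  · intro H
    apply (Groth.Agent.S3845.result f x).mpr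
    exact H X f (pullback.diagonal f) (pullback.diagonal_snd f) x
      (by rw [← Scheme.Hom.comp_apply, pullback.diagonal_fst]; rfl)

end Groth.Agent.S3846
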