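import Groth.Statements.S3849
import Groth.Agent.Lib.Helper25.RatExt

set_option autoImplicit false
universe u
open CategoryTheory CategoryTheory.Limits AlgebraicGeometry TopologicalSpace
open Rat20

namespace Groth.Agent.S3849

/-- In the case S = X (sections of q : Y → X): let X be a locally Noetherian scheme, q : Y → X
separated, locally of finite type and locally quasi-finite, U a dense open subset of X, h : U → Y a
section of q over U, and x a point of X outside U whose local ring is an integrally closed domain.
Then h extends to a section of q over an open subset containing U and x if and only if there exist a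
discrete valuation ring R, a morphism u : Spec R → X sending the closed point to x and the generic
point into U, and a morphism Spec R → Y over X agreeing with h at the generic point. -/
theorem result {X Y : Scheme.{u}} [IsLocallyNoetherian X] (q : Y ⟶ X)
    [LocallyOfFiniteType q] [IsSeparated q] [LocallyQuasiFinite q] (U : X.Opens) (hU : Dense (U : Set ↥X))
    (h : (U : Scheme.{u}) ⟶ Y) (hh : h ≫ q = U.ι) (x : ↥X) (hxU : x ∉ U) [IsDomain ↑(X.presheaf.stalk x)]
    (hx : IsIntegrallyClosed ↑(X.presheaf.stalk x)) :
    (∃ (U' : X.Opens) (hUU' : U ≤ U') (h' : (U' : Scheme.{u}) ⟶ Y),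
        x ∈ U' ∧ h' ≫ q = U'.ι ∧ X.homOfLE hUU' ≫ h' = h) ↔
      ∃ (R : Type u) (_ : CommRing R) (_ : IsDomain R) (_ : IsDiscreteValuationRing R)
        (u : Spec (CommRingCat.of R) ⟶ X) (ub : Spec (CommRingCat.of (FractionRing R)) ⟶ (U : Scheme.{u}))
        (h₁ : Spec (CommRingCat.of R) ⟶ Y),
        u (IsLocalRing.closedPoint R) = x ∧
          ub ≫ U.ι = Spec.map (CommRingCat.ofHom (algebraMap R (FractionRing R))) ≫ u ∧
          h₁ ≫ q = u ∧ Spec.map (CommRingCat.ofHom (algebraMap R (FractionRing R))) ≫ h₁ = ub ≫ h := by
  constructor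
  · rintro ⟨U', hUU', h', hxU', hq', hres⟩
    exact Groth.Agent.Lib.Helper25.RatExt.exists_dvr_of_extension q U hU h x hxU U' hUU' h' hxU'
      hq' hres
  · rintro ⟨R, _, _, _, u, ub, h₁, hu, hub, hq, hgen⟩
    let y₀ : Y := h₁ (IsLocalRing.closedPoint R)
    have hxy : q y₀ = x := by
      have h1 := congr(($hq).base (IsLocalRing.closedPoint R))
      exact h1.trans hu
    subst hxy
    let z : Spec (CommRingCat.of (FractionRing R)) := IsLocalRing.closedPoint (FractionRing R)
    let jR : Spec (CommRingCat.of (FractionRing R)) ⟶ Spec (CommRingCat.of R) :=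
      Spec.map (CommRingCat.ofHom (algebraMap R (FractionRing R)))
    have hsp : jR z ⤳ IsLocalRing.closedPoint R := IsLocalRing.specializes_closedPoint _
    have hd : U.ι (ub z) ⤳ q y₀ := by
      have h1 := congr(($hub).base z)
      have h2 : U.ι (ub z) = u (jR z) := h1
      rw [h2, ← hu]
      exact hsp.map u.continuous
    have hhd : h (ub z) ⤳ y₀ := by
      have h1 := congr(($hgen).base z)
      have h2 : h₁ (jR z) = h (ub z) := h1
      rw [← h2]
      exact hsp.map h₁.continuous
    exact Groth.Agent.Lib.Helper25.RatExt.exists_extension_of_specializes q U h hh y₀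
      (q.quasiFiniteAt y₀) (Groth.Agent.Lib.Helper25.RatExt.genPt_mem_of_dense (q y₀) U hU) hx
      (ub z) hd hhd

end Groth.Agent.S3849
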