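import Groth.Statements.S3852
-- import your own Groth.Agent.* helpers here

set_option autoImplicit false
universe u
open FCompl

namespace Groth.Agent.S3852

open AlgebraicGeometry in
/-- Second assertion; stated for quasi-coherent ideal sheaves, with the condition on supports as an
inclusion, which is what the proof uses: Let X be a Noetherian scheme and I, J ideal sheaves such
that the zero locus of J is contained in the zero locus of I. Then I^n ≤ J for some n ≥ 1. -/
theorem result
    (X : Scheme.{u}) [IsNoetherian X] (I J : X.IdealSheafData)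
    (h : (J.support : Set X) ⊆ I.support) :
    ∃ n : ℕ, I ^ (n + 1) ≤ J := by
  classical
  have hle : I ≤ J.radical := by
    refine (Scheme.IdealSheafData.le_radical I).trans ?_
    rw [← Scheme.IdealSheafData.vanishingIdeal_support, ← Scheme.IdealSheafData.vanishingIdeal_support]
    exact Scheme.IdealSheafData.vanishingIdeal_antimono h
  have hloc : ∀ U : X.affineOpens, ∃ k : ℕ, I.ideal U ^ k ≤ J.ideal U := by
    intro U
    have : IsNoetherianRing Γ(X, U) := IsLocallyNoetherian.component_noetherian U
    exact Ideal.exists_pow_le_of_le_radical_of_fg (hle U) (IsNoetherian.noetherian _)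
  choose k hk using hloc
  obtain ⟨s, hs, hcov⟩ := (isCompact_and_isOpen_iff_finite_and_eq_biUnion_affineOpens
    (X := X) (U := Set.univ)).mp ⟨isCompact_univ, isOpen_univ⟩
  have hfin : Fintype s := hs.fintype
  refine ⟨Finset.univ.sup (fun i : s => k i), ?_⟩
  refine Scheme.IdealSheafData.le_of_iSup_eq_top (fun i : s => (i : X.affineOpens)) ?_ ?_
  · rw [eq_top_iff]
    intro x _
    have hx : x ∈ (Set.univ : Set X) := trivial
    rw [hcov] at hx
    simp only [Set.mem_iUnion] at hx
    obtain ⟨i, hi, hxi⟩ := hx
    exact TopologicalSpace.Opens.mem_iSup.mpr ⟨⟨i, hi⟩, hxi⟩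
  · intro i
    rw [Scheme.IdealSheafData.ideal_pow]
    refine le_trans ?_ (hk i)
    change I.ideal ↑i ^ _ ≤ I.ideal ↑i ^ _
    exact Ideal.pow_le_pow_right ((Finset.le_sup (f := fun i : s => k i) (Finset.mem_univ i)).trans
      (Nat.le_succ _))

end Groth.Agent.S3852
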