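import Groth.Statements.S3860
import Mathlib.RingTheory.AdicCompletion.RingHom
import Mathlib.AlgebraicGeometry.GammaSpecAdjunction

set_option autoImplicit false
universe u
open FCompl

namespace Groth.Agent.S3860

open AlgebraicGeometry CategoryTheory in
theorem aux (A B : Type u) [CommRing A] [CommRing B] (I : Ideal A) (K : Ideal B)
    [IsAdicComplete I A] :
    Function.Bijective (fun φ : {φ : B →+* A // K ≤ I.comap φ} ↦ FSch.spfMap I K φ.1 φ.2) := by
  constructor
  · rintro ⟨φ, hφ⟩ ⟨ψ, hψ⟩ h
    simp only at h
    apply Subtype.ext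
    simp only
    have hn : ∀ n, FSch.quotPowMap I K φ hφ n = FSch.quotPowMap I K ψ hψ n := by
      intro n
      have h1 := congrArg (fun F : FSch.Hom _ _ => F.app n) h
      simp only [FSch.spfMap_app] at h1
      have h2 := Spec.map_injective h1
      have h3 := congrArg CommRingCat.Hom.hom h2
      simpa using h3
    ext b
    rw [← sub_eq_zero]
    apply IsHausdorff.haus (inferInstance : IsHausdorff I A)
    intro n
    rw [SModEq.zero, smul_eq_mul, Ideal.mul_top]
    have h4 := congrArg (fun g => g (Ideal.Quotient.mk _ b)) (hn n)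
    simp only [FSch.quotPowMap, Ideal.quotientMap_mk] at h4
    rw [Ideal.Quotient.eq] at h4
    exact Ideal.pow_le_pow_right (Nat.le_succ n) h4
  · intro F
    let Fn : ∀ n, Spec (CommRingCat.of (A ⧸ I ^ (n + 1))) ⟶ Spec (CommRingCat.of (B ⧸ K ^ (n + 1))) :=
      fun n => (F : FSch.Hom _ _).app n
    let θ : ∀ n, (B ⧸ K ^ (n + 1)) →+* (A ⧸ I ^ (n + 1)) := fun n => (Spec.preimage (Fn n)).hom
    have hθ : ∀ n, Spec.map (CommRingCat.ofHom (θ n)) = Fn n := fun n => by
      simp [θ]
    have hcomm : ∀ n, (θ n).comp (Ideal.Quotient.factor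
        (Ideal.pow_le_pow_right (Nat.le_succ (n + 1)))) =
        (Ideal.Quotient.factor (Ideal.pow_le_pow_right (Nat.le_succ (n + 1)))).comp (θ (n + 1)) := by
      intro n
      have h1 : Fn n ≫ CohB1.specQuotTrans K n = CohB1.specQuotTrans I n ≫ Fn (n + 1) :=
        (F : FSch.Hom _ _).comm n
      rw [← hθ n, ← hθ (n + 1)] at h1
      simp only [CohB1.specQuotTrans, ← Spec.map_comp] at h1
      have h2 := Spec.map_injective h1
      have h3 := congrArg CommRingCat.Hom.hom h2
      simpa using h3
    let Φ : ∀ n, B →+* A ⧸ I ^ (n + 1) := fun n => (θ n).comp (Ideal.Quotient.mk _)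
    have ha : StrictMono (fun n : ℕ => n + 1) := fun a b h => Nat.succ_lt_succ h
    have hΦ : ∀ {m : ℕ}, (Ideal.Quotient.factorPow I (ha.monotone m.le_succ)).comp (Φ (m + 1)) = Φ m := by
      intro m
      ext b
      have := congrArg (fun g => g (Ideal.Quotient.mk _ b)) (hcomm m)
      simp only [RingHom.comp_apply, Ideal.Quotient.factor_mk] at this
      simp only [Φ, RingHom.comp_apply]
      exact this.symm
    let φ : B →+* A := IsAdicComplete.StrictMono.liftRingHom I ha Φ hΦ
    have hφmk : ∀ n b, Ideal.Quotient.mk (I ^ (n + 1)) (φ b) = Φ n b := fun n b =>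
      IsAdicComplete.StrictMono.mk_liftRingHom I ha Φ hΦ b
    have hφK : K ≤ I.comap φ := by
      intro b hb
      rw [Ideal.mem_comap]
      have h1 := hφmk 0 b
      have h2 : Φ 0 b = 0 := by
        simp only [Φ, RingHom.comp_apply]
        have : Ideal.Quotient.mk (K ^ (0 + 1)) b = 0 := by
          rw [Ideal.Quotient.eq_zero_iff_mem]
          simpa using hb
        rw [this, map_zero]
      rw [h2, Ideal.Quotient.eq_zero_iff_mem] at h1
      simpa using h1
    refine ⟨⟨φ, hφK⟩, ?_⟩
    apply FSch.Hom.ext
    funext n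
    simp only [FSch.spfMap_app]
    change _ = Fn n
    rw [← hθ n]
    congr 2
    apply Ideal.Quotient.ringHom_ext
    ext b
    simp only [FSch.quotPowMap, RingHom.comp_apply, Ideal.quotientMap_mk]
    exact hφmk n b

open AlgebraicGeometry in
/-- (Affine adic case; the formal spectra presented as the systems Spec(A/I^(n+1)) and Spec(B/K^(n+1)).)
Let I be an ideal of a ring A which is complete and separated for the I-adic topology, and K an
ideal of a ring B. Then φ ↦ (Spec of the induced maps B/K^(n+1) -> A/I^(n+1)) is a bijection from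
the ring homomorphisms φ : B -> A with φ(K) ⊆ I onto the morphisms of systems from Spf(A) to Spf(B),
i.e. the compatible families of morphisms Spec(A/I^(n+1)) -> Spec(B/K^(n+1)). -/
theorem result (A B : Type u) [CommRing A] [CommRing B] (I : Ideal A) (K : Ideal B)
    [IsAdicComplete I A] :
    Function.Bijective (fun φ : {φ : B →+* A // K ≤ I.comap φ} ↦ FSch.spfMap I K φ.1 φ.2) :=
  aux A B I K

end Groth.Agent.S3860
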