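import Groth.Statements.S3867
import Groth.Agent.Lib.Helper20.SpfSys
import Mathlib.RingTheory.Nakayama

set_option autoImplicit false
universe u
open FCompl

namespace Groth.Agent.S3867

open AlgebraicGeometry in
/-- Formal spectra are presented as the systems Spec(A/I^(n+1)) and Spec(B/K^(n+1)), a morphism of
systems being adic when all its squares are cartesian. Let A be a Noetherian ring, complete and
separated for the I-adic topology of an ideal I, K an ideal of a ring B and φ : B → A a ring
homomorphism with φ(K) ⊆ I. Then the induced morphism Spf(A) → Spf(B) is adic if and only if the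
ideal of A generated by φ(K) is I. -/
theorem result (A B : Type u) [CommRing A] [CommRing B] [IsNoetherianRing A]
    (I : Ideal A) (K : Ideal B) [IsAdicComplete I A] (φ : B →+* A) (h : K ≤ I.comap φ) :
    FSch.IsAdicHom (FSch.spfMap I K φ h) ↔ K.map φ = I := by
  rw [Groth.Agent.Lib.Helper20.isAdicHom_spfMap_iff_forall]
  constructor
  · intro hall
    have h0 := hall 0
    have hle : K.map φ ≤ I := Ideal.map_le_iff_le_comap.mpr h
    apply le_antisymm hle
    -- Nakayama
    have h1 := congrArg (Ideal.comap (Ideal.Quotient.mk (I ^ (0 + 2)))) h0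
    rw [Ideal.comap_map_of_surjective _ Ideal.Quotient.mk_surjective,
      Ideal.comap_map_of_surjective _ Ideal.Quotient.mk_surjective] at h1
    have h2 : Ideal.comap (Ideal.Quotient.mk (I ^ (0 + 2))) ⊥ = I ^ 2 := by
      rw [← RingHom.ker_eq_comap_bot, Ideal.mk_ker]
    rw [h2] at h1
    simp only [zero_add, pow_one] at h1
    have h3 : I ≤ K.map φ ⊔ I • I := by
      calc I ≤ I ⊔ I ^ 2 := le_sup_left
        _ = K.map φ ⊔ I ^ 2 := h1.symm
        _ = K.map φ ⊔ I • I := by rw [pow_two, smul_eq_mul]
    exact Submodule.le_of_le_smul_of_le_jacobson_bot (IsNoetherian.noetherian I)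
      (IsAdicComplete.le_jacobson_bot I) h3
  · intro hKI n
    rw [hKI]

end Groth.Agent.S3867
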