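import Groth.Statements.S3868
import Groth.Prelude.Def_FSch4
import Groth.Agent.S4339
import Groth.Agent.Lib.Helper20.ThickAffine2
import Groth.Agent.Lib.Helper20.ThickLift
import Groth.Agent.Lib.Helper20.ThickNoeth
-- import your own Groth.Agent.* helpers here

set_option autoImplicit false
universe u
open FCompl

namespace Groth.Agent.S3868


section Aux

open AlgebraicGeometry CategoryTheory Groth.Agent.Lib.Helper20

/-- A morphism of systems that is levelwise an isomorphism gives an isomorphism of systems. -/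
noncomputable def isoOfLevelwise {𝔛 𝔜 : FSch.Sys.{u}} (f : 𝔛 ⟶ 𝔜)
    (h : ∀ n, IsIso ((f : FSch.Hom 𝔛 𝔜).app n)) : 𝔛 ≅ 𝔜 where
  hom := f
  inv := ⟨fun n => inv ((f : FSch.Hom 𝔛 𝔜).app n), fun n => by
    rw [IsIso.inv_comp_eq, ← Category.assoc, IsIso.eq_comp_inv]
    exact ((f : FSch.Hom 𝔛 𝔜).comm n).symm⟩
  hom_inv_id := by
    apply FSch.Hom.ext
    funext n
    exact IsIso.hom_inv_id _
  inv_hom_id := by
    apply FSch.Hom.ext
    funext n
    exact IsIso.inv_hom_id _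

variable (𝔛 : FSch.Sys.{u}) (hF : 𝔛.IsFormal) (hA : 𝔛.IsAdic)

include hF hA in
theorem isAffine_level [IsAffine (𝔛.X 0)] (n : ℕ) : IsAffine (𝔛.X n) := by
  have := isClosedImmersion_toX hF n
  exact ThickAffine.isAffine_of_ker_pow_eq_bot (𝔛.toX n) (ThickLift.surjective_toX 𝔛 hF n) (n + 1)
    (ker_toX_pow_eq_bot 𝔛 hF hA n)

end Aux

open AlgebraicGeometry in
open CategoryTheory in
/-- (Systems of thickenings.) Let (X_n) be a system of schemes whose transition maps are surjective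
closed immersions, with the kernel ideal of X_n -> X_(n+1) the (n+1)-st power of that of X_0 ->
X_(n+1), X_0 affine and locally Noetherian, and the kernel ideal of X_0 -> X_1 of finite type. Then
the system is isomorphic to the formal spectrum Spec(A/J) -> Spec(A/J^2) -> ... of some Noetherian
ring A complete and separated for the J-adic topology, J an ideal of A. -/
theorem result (𝔛 : FSch.Sys.{u}) (hF : 𝔛.IsFormal) (hA : 𝔛.IsAdic)
    [IsAffine (𝔛.X 0)] [IsLocallyNoetherian (𝔛.X 0)] (hft : FSch.IdealFT (𝔛.ι 0).ker) :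
    ∃ (A : Type u) (_ : CommRing A) (J : Ideal A),
      IsNoetherianRing A ∧ IsAdicComplete J A ∧ Nonempty (𝔛 ≅ FSch.spf A J) := by
  classical
  have haff : ∀ n, IsAffine (𝔛.X n) := isAffine_level 𝔛 hF hA
  have hci : ∀ n, IsClosedImmersion (𝔛.ι n) := fun n => (hF n).1
  have hciX : ∀ n, IsClosedImmersion (𝔛.toX n) := fun n => Groth.Agent.Lib.Helper20.isClosedImmersion_toX hF n
  -- the rings
  let B : ℕ → Type u := fun n => Γ(𝔛.X n, ⊤)
  let uu : ∀ n, B (n + 1) →+* B n := fun n => (𝔛.ι n).appTop.hom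
  let vv : ∀ n, B n →+* B 0 := fun n => (𝔛.toX n).appTop.hom
  have hu : ∀ n, Function.Surjective (uu n) := fun n =>
    (IsClosedImmersion.isAffine_surjective_of_isAffine (𝔛.ι n)).2
  have hv0 : vv 0 = RingHom.id (B 0) := by
    change (𝟙 (𝔛.X 0) : 𝔛.X 0 ⟶ 𝔛.X 0).appTop.hom = _
    rw [Scheme.Hom.id_appTop]
    rfl
  have hv : ∀ n, (vv n).comp (uu n) = vv (n + 1) := by
    intro n
    change _ = (𝔛.toX n ≫ 𝔛.ι n).appTop.hom
    rw [Scheme.Hom.comp_appTop, CommRingCat.hom_comp]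
  have hker : ∀ n, RingHom.ker (uu n) = RingHom.ker (vv (n + 1)) ^ (n + 1) := by
    intro n
    have h1 := congrArg (fun K => Scheme.IdealSheafData.ideal K ⟨⊤, isAffineOpen_top (𝔛.X (n + 1))⟩) (hA n)
    have h2 : ((𝔛.toX (n + 1)).ker ^ (n + 1)).ideal ⟨⊤, isAffineOpen_top (𝔛.X (n + 1))⟩ =
        (𝔛.toX (n + 1)).ker.ideal ⟨⊤, isAffineOpen_top (𝔛.X (n + 1))⟩ ^ (n + 1) := rfl
    simp only [h2, Scheme.Hom.ker_apply] at h1
    exact h1
  have hfg : (RingHom.ker (vv 1)).FG := by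
    have h1 := hft ⟨⊤, isAffineOpen_top (𝔛.X 1)⟩
    rw [Scheme.Hom.ker_apply] at h1
    have h2 : 𝔛.toX 1 = 𝔛.ι 0 := Category.id_comp _
    change (RingHom.ker (𝔛.toX 1).appTop.hom).FG
    rw [h2]
    exact h1
  let A : Type u := FSch.Γsys 𝔛
  let p : ∀ n, A →+* B n := fun n => FSch.ΓsysProj 𝔛 n
  have hp : ∀ n, (uu n).comp (p (n + 1)) = p n := by
    intro n
    ext x
    exact x.2 n
  have hinj : ∀ x : A, (∀ n, p n x = 0) → x = 0 := by
    intro x hx
    apply Subtype.ext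
    funext n
    exact hx n
  have hlift : ∀ y : (∀ n, B n), (∀ n, uu n (y (n + 1)) = y n) → ∃ x : A, ∀ n, p n x = y n :=
    fun y hy => ⟨⟨y, hy⟩, fun n => rfl⟩
  have hB0 : IsNoetherianRing (B 0) :=
    IsLocallyNoetherian.component_noetherian ⟨⊤, isAffineOpen_top (𝔛.X 0)⟩
  have hNoeth : IsNoetherianRing A :=
    (Groth.Agent.S4339.result B uu hu vv hv0 hv hker hfg A p hp hinj hlift).mpr hB0
  have hcompl : IsAdicComplete (RingHom.ker (p 0)) A :=
    Groth.Agent.S4339.isAdicComplete_ker uu hu vv hv0 hv hker p hp hinj hlift hfg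
  have hK : ∀ n, RingHom.ker (p n) = RingHom.ker (p 0) ^ (n + 1) :=
    Groth.Agent.S4339.ker_p_eq_pow uu hu vv hv0 hv hker p hp hinj hlift hfg
  have hps : ∀ n, Function.Surjective (p n) := Groth.Agent.S4339.p_surjective uu hu p hlift
  refine ⟨A, inferInstance, RingHom.ker (p 0), hNoeth, hcompl, ?_⟩
  set J : Ideal A := RingHom.ker (p 0) with hJ
  -- the ring isomorphisms `A ⧸ J^(n+1) ≃ B n`
  let g : ∀ n, A ⧸ J ^ (n + 1) →+* B n := fun n =>
    Ideal.Quotient.lift (J ^ (n + 1)) (p n) (fun a ha => by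
      rw [← hK n] at ha
      exact ha)
  have hg : ∀ n, Function.Bijective (g n) := by
    intro n
    constructor
    · rw [injective_iff_map_eq_zero]
      intro x hx
      obtain ⟨a, rfl⟩ := Ideal.Quotient.mk_surjective x
      rw [Ideal.Quotient.eq_zero_iff_mem, ← hK n]
      exact hx
    · intro b
      obtain ⟨a, rfl⟩ := hps n b
      exact ⟨Ideal.Quotient.mk _ a, rfl⟩
  have hgiso : ∀ n, IsIso (CommRingCat.ofHom (g n)) := fun n =>
    (ConcreteCategory.isIso_iff_bijective _).mpr (hg n)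
  let φ : 𝔛 ⟶ FSch.spf A J :=
    ⟨fun n => (𝔛.X n).isoSpec.hom ≫ Spec.map (CommRingCat.ofHom (g n)), fun n => by
      change ((𝔛.X n).isoSpec.hom ≫ Spec.map (CommRingCat.ofHom (g n))) ≫ CohB1.specQuotTrans J n =
        𝔛.ι n ≫ (𝔛.X (n + 1)).isoSpec.hom ≫ Spec.map (CommRingCat.ofHom (g (n + 1)))
      rw [← Scheme.isoSpec_hom_naturality_assoc, Category.assoc, CohB1.specQuotTrans,
        ← Spec.map_comp, ← Spec.map_comp]
      congr 2
      ext x
      exact (congrArg (fun h => h x) (hp n)).symm⟩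
  refine ⟨isoOfLevelwise φ (fun n => ?_)⟩
  change IsIso ((𝔛.X n).isoSpec.hom ≫ Spec.map (CommRingCat.ofHom (g n)))
  infer_instance

end Groth.Agent.S3868
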