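import Groth.Statements.S3894
-- import your own Groth.Agent.* helpers here

set_option autoImplicit false
universe u
open CategoryTheory CategoryTheory.Limits Opposite
open Tors

namespace Groth.Agent.S3894

/-- A torsor P under an abelian sheaf G is trivial, i.e. equivariantly isomorphic to G acting on itself
by translations, if and only if P has a global section (a morphism from the final sheaf of sets). -/
theorem result {C : Type u} [SmallCategory C] {J : GrothendieckTopology C}
    {G : Sheaf J AddCommGrpCat.{u}} (T : Tors.Torsor G) : T.IsTrivial ↔ T.HasSection := by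
  constructor
  · rintro ⟨e, he⟩
    refine ⟨ObjectProperty.homMk
      { app := fun U => TypeCat.ofHom (fun _ => e.hom.hom.app U (0 : G.obj.obj U))
        naturality := ?_ }⟩
    intro U V f
    ext x
    have hnat := NatTrans.naturality_apply e.hom.hom f (0 : G.obj.obj U)
    change (e.hom.hom.app V) (0 : G.obj.obj V) =
      T.P.obj.map f ((e.hom.hom.app U) (0 : G.obj.obj U))
    rw [← hnat]
    congr 1
    exact (map_zero (G.obj.map f).hom).symm
  · rintro ⟨σ⟩
    -- the explicit terminal sheaf
    let E : Sheaf J (Type u) :=
      ⟨(Functor.const _).obj PUnit, Presheaf.isSheaf_of_isTerminal J Types.isTerminalPUnit⟩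
    let τ : E ⟶ T.P := terminal.from E ≫ σ
    let s : ∀ U : Cᵒᵖ, T.P.obj.obj U := fun U => τ.hom.app U PUnit.unit
    have hs : ∀ {U V : Cᵒᵖ} (f : U ⟶ V), T.P.obj.map f (s U) = s V := by
      intro U V f
      exact (NatTrans.naturality_apply τ.hom f PUnit.unit).symm
    -- the presheaf isomorphism
    let φ : ((sheafCompose J (forget AddCommGrpCat.{u})).obj G).obj ≅ T.P.obj :=
      NatIso.ofComponents
        (fun U => Equiv.toIso (Equiv.ofBijective (fun g : G.obj.obj U => T.vadd g (s U))
          ⟨fun g h hgh => (T.free_transitive (s U) (T.vadd h (s U))).unique hgh rfl,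
            fun p => (T.free_transitive (s U) p).exists⟩))
        (by
          intro U V f
          ext g
          change T.vadd (G.obj.map f g) (s V) = T.P.obj.map f (T.vadd g (s U))
          rw [T.map_vadd, hs f])
    refine ⟨(fullyFaithfulSheafToPresheaf J (Type u)).preimageIso φ, ?_⟩
    intro U g h
    change T.vadd (g + h) (s U) = T.vadd g (T.vadd h (s U))
    exact T.add_vadd g h (s U)

end Groth.Agent.S3894
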