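import Groth.Statements.S4064
import Mathlib
import Groth.Agent.Lib.Helper32.YonedaExt
-- import your own Groth.Agent.* helpers here

set_option autoImplicit false
universe w v v'
open CategoryTheory CategoryTheory.Abelian CategoryTheory.Limits
open SGA7

namespace Groth.Agent.S4064

/-- Let P -> F -> R and R -> E -> Q be short exact sequences in an abelian category (F an extension of R
by P, E an extension of Q by R). A blended extension of E by F is an object X with a monomorphism i
: F -> X and an epimorphism p : X -> E such that P -> X -> E (via i) and F -> X -> Q (via p) are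
short exact and F -> X -> E is the composite F -> R -> E. Such an X exists if and only if the
composite of the two extension classes, an element of Ext^2(Q, P), is zero. -/
theorem result {C : Type w} [Category.{v} C] [Abelian C]
    [HasExt.{v'} C] {P F R E Q : C} (a : P ⟶ F) (b : F ⟶ R) (wF : a ≫ b = 0)
    (hF : (ShortComplex.mk a b wF).ShortExact) (c : R ⟶ E) (d : E ⟶ Q) (wE : c ≫ d = 0)
    (hE : (ShortComplex.mk c d wE).ShortExact) :
    (∃ (X : C) (i : F ⟶ X) (p : X ⟶ E), i ≫ p = b ≫ c ∧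
        (∃ w : (a ≫ i) ≫ p = 0, (ShortComplex.mk (a ≫ i) p w).ShortExact) ∧
        (∃ w : i ≫ (p ≫ d) = 0, (ShortComplex.mk i (p ≫ d) w).ShortExact)) ↔
      hE.extClass.comp hF.extClass (rfl : 1 + 1 = 2) = 0 := by
  constructor
  · rintro ⟨X, i, p, hip, ⟨w1, h1⟩, ⟨w2, h2⟩⟩
    let φ : ShortComplex.mk i (p ≫ d) w2 ⟶ ShortComplex.mk c d wE :=
      { τ₁ := b, τ₂ := p, τ₃ := 𝟙 Q, comm₁₂ := hip.symm, comm₂₃ := by simp }
    have hnat := ShortComplex.ShortExact.extClass_naturality h2 hE φ
    dsimp [φ] at hnat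
    rw [Ext.mk₀_id_comp] at hnat
    rw [← hnat, Ext.comp_assoc_of_second_deg_zero]
    have := hF.comp_extClass
    dsimp at this
    rw [this, Ext.comp_zero]
  · intro hzero
    obtain ⟨y, hy⟩ := Ext.covariant_sequence_exact₃ Q hF hE.extClass (rfl : 1 + 1 = 2) hzero
    dsimp at y hy
    obtain ⟨X, i, q, w, h, hext⟩ := Groth.Agent.Lib.Helper32.YonedaExt.exists_shortExact_extClass_eq y
    obtain ⟨p, hp1, hp2⟩ := Groth.Agent.Lib.Helper32.YonedaExt.exists_hom_of_extClass_comp h hE b (𝟙 Q)
      (by dsimp; rw [hext, hy, Ext.mk₀_id_comp])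
    dsimp at p hp1 hp2
    rw [Category.comp_id] at hp2
    subst hp2
    have := hF.mono_f
    have := hF.epi_g
    have := h.mono_f
    have := h.epi_g
    have := hE.mono_f
    have := hE.epi_g
    dsimp at *
    refine ⟨X, i, p, hp1, ⟨by rw [Category.assoc, hp1, reassoc_of% wF, zero_comp], ?_⟩, ⟨w, h⟩⟩
    have w1 : (a ≫ i) ≫ p = 0 := by rw [Category.assoc, hp1, reassoc_of% wF, zero_comp]
    have hepi : Epi p := by
      apply Preadditive.epi_of_cancel_zero
      intro T t ht
      have h1 : c ≫ t = 0 := by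
        rw [← cancel_epi b, ← Category.assoc, ← hp1, Category.assoc, ht, comp_zero, comp_zero]
      obtain ⟨t', rfl⟩ : ∃ t' : Q ⟶ T, d ≫ t' = t := ⟨hE.exact.desc t h1, hE.exact.g_desc t h1⟩
      have h2 : t' = 0 := by
        rw [← cancel_epi (p ≫ d), Category.assoc, ht, comp_zero]
      rw [h2, comp_zero]
    have key : ∀ {T : C} (t : T ⟶ X), t ≫ p = 0 → ∃ m : T ⟶ P, m ≫ a ≫ i = t := by
      intro T t ht
      obtain ⟨t₁, ht₁⟩ : ∃ t₁ : T ⟶ F, t₁ ≫ i = t :=
        ⟨h.exact.lift t (by dsimp; rw [← Category.assoc, ht, zero_comp]), h.exact.lift_f t _⟩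
      have h1 : t₁ ≫ b = 0 := by
        rw [← cancel_mono c, Category.assoc, ← hp1, reassoc_of% ht₁, ht, zero_comp]
      obtain ⟨t₂, ht₂⟩ : ∃ t₂ : T ⟶ P, t₂ ≫ a = t₁ :=
        ⟨hF.exact.lift t₁ h1, hF.exact.lift_f t₁ h1⟩
      exact ⟨t₂, by rw [reassoc_of% ht₂, ht₁]⟩
    have hker : IsLimit (KernelFork.ofι (a ≫ i) w1) :=
      KernelFork.IsLimit.ofι _ _ (fun t ht => (key t ht).choose)
        (fun t ht => (key t ht).choose_spec)
        (fun t ht m hm => by rw [← cancel_mono (a ≫ i), hm, (key t ht).choose_spec])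
    exact ShortComplex.ShortExact.mk' (ShortComplex.exact_of_f_is_kernel _ hker)
      (mono_comp _ _) hepi

end Groth.Agent.S4064
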