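import Groth.Statements.S4104
import Groth.Agent.Lib.Helper23.HopfFlatExhaust
import Groth.Agent.Lib.Helper23.HopfFlatRange

set_option autoImplicit false
universe u
open CategoryTheory MonoidalCategory CartesianMonoidalCategory MonObj GrpObj AlgebraicGeometry CategoryTheory.Limits
open SGA3

namespace Groth.Agent.S4104

/-- Let φ : A' → A be a bialgebra map between commutative Hopf algebras over a field k (a homomorphism
of affine k-groups Spec A → Spec A', not necessarily of finite type). If the corresponding morphism
of schemes is a monomorphism, i.e. φ is an epimorphism in the category of commutative rings, then φ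
is surjective (the homomorphism is a closed immersion). -/
theorem result (k : Type u) [Field k] (A' A : Type u) [CommRing A'] [HopfAlgebra k A']
    [CommRing A] [HopfAlgebra k A] (φ : A' →ₐc[k] A)
    (hepi : ∀ (R : Type u) [CommRing R] (f g : A →+* R), f.comp (φ : A' →+* A) = g.comp (φ : A' →+* A) → f = g) :
    Function.Surjective φ := by
  classical
  set B : Subalgebra k A := (φ : A' →ₐ[k] A).range with hBdef
  have hff : Module.FaithfullyFlat B A :=
    Groth.Agent.Lib.Helper23.HopfFlat.faithfullyFlat_of_isSubBialg
      (Groth.Agent.Lib.Helper23.HopfFlat.isSubBialg_range φ)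
      (Groth.Agent.Lib.Helper23.HopfFlat.antipode_mem_range φ)
  -- the two inclusions into `A ⊗[B] A` agree
  have h1 : ((Algebra.TensorProduct.includeLeft : A →ₐ[B] TensorProduct B A A) : A →+* TensorProduct B A A) =
      ((Algebra.TensorProduct.includeRight : A →ₐ[B] TensorProduct B A A) : A →+* TensorProduct B A A) := by
    apply hepi
    refine RingHom.ext fun a' => ?_
    show (φ a') ⊗ₜ[B] (1 : A) = (1 : A) ⊗ₜ[B] (φ a')
    have hb : φ a' ∈ B := ⟨a', rfl⟩
    have h2 : φ a' = (⟨φ a', hb⟩ : B) • (1 : A) := by
      rw [Subalgebra.smul_def, smul_eq_mul, _root_.mul_one]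
    conv_lhs => rw [h2]
    conv_rhs => rw [h2]
    rw [TensorProduct.smul_tmul]
  have hsurj : Function.Surjective (algebraMap A (TensorProduct B A A)) := by
    intro t
    induction t using TensorProduct.induction_on with
    | zero => exact ⟨0, map_zero _⟩
    | add x y hx hy =>
      obtain ⟨a, rfl⟩ := hx
      obtain ⟨b, rfl⟩ := hy
      exact ⟨a + b, map_add _ _ _⟩
    | tmul x y =>
      refine ⟨x * y, ?_⟩
      have h3 : (1 : A) ⊗ₜ[B] y = y ⊗ₜ[B] (1 : A) := (congrArg (fun f => f y) h1).symm
      have h4 : x ⊗ₜ[B] y = (x ⊗ₜ[B] (1 : A)) * ((1 : A) ⊗ₜ[B] y) := by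
        rw [Algebra.TensorProduct.tmul_mul_tmul, _root_.mul_one, _root_.one_mul]
      rw [h4, h3, Algebra.TensorProduct.tmul_mul_tmul, _root_.mul_one]
      rfl
  have h5 : Function.Surjective (algebraMap B A) :=
    Module.FaithfullyFlat.surjective_of_tensorProduct (S := A) hsurj
  intro a
  obtain ⟨b, hb⟩ := h5 a
  obtain ⟨a', ha'⟩ := b.2
  exact ⟨a', by rw [← hb]; exact ha'⟩

end Groth.Agent.S4104
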