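import Groth.Statements.S4135
import Groth.Agent.Lib.Helper16.MMUEA

set_option autoImplicit false
universe u
open TensorProduct
attribute [local instance] LieRing.ofAssociativeRing
open SGA3y

namespace Groth.Agent.S4135

/-- Let k be a field of characteristic zero and H a cocommutative bialgebra over k which is connected
(every nonzero subcoalgebra contains 1). Then the canonical algebra homomorphism from the universal
enveloping algebra of the Lie algebra of primitive elements of H to H is bijective. -/
theorem result (k : Type u) [Field k] [CharZero k] (H : Type u) [Ring H]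
    [Bialgebra k H] [Coalgebra.IsCocomm k H] (hconn : SGA3y.IsConnectedCoalg k H) :
    Function.Bijective (UniversalEnvelopingAlgebra.lift k (SGA3y.primLie k H).incl) := by
  classical
  have hprim : ∀ z : SGA3y.primLie k H, Lib.Helper16.MM.IsPrim (k := k) (z : H) := fun z => z.2
  set Φ := UniversalEnvelopingAlgebra.lift k (SGA3y.primLie k H).incl with hΦ
  have hΦι : ∀ z : SGA3y.primLie k H, Φ (UniversalEnvelopingAlgebra.ι k z) = (z : H) := by
    intro z
    rw [hΦ, UniversalEnvelopingAlgebra.lift_ι_apply]
    rfl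
  -- Φ is a coalgebra map
  have hΔalg : (Bialgebra.comulAlgHom k H).comp Φ =
      (Algebra.TensorProduct.map Φ Φ).comp
        (Bialgebra.comulAlgHom k (UniversalEnvelopingAlgebra k (SGA3y.primLie k H))) := by
    apply Lib.Helper16.UEA.algHom_ext_ι
    intro z
    rw [AlgHom.comp_apply, AlgHom.comp_apply, hΦι, Bialgebra.comulAlgHom_apply,
      Bialgebra.comulAlgHom_apply, Lib.Helper16.UEA.comul_ι, map_add, Algebra.TensorProduct.map_tmul,
      Algebra.TensorProduct.map_tmul, hΦι, map_one]
    exact hprim z
  have hΔ : ∀ u, CoalgebraStruct.comul (R := k) (Φ.toLinearMap u) =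
      TensorProduct.map Φ.toLinearMap Φ.toLinearMap (CoalgebraStruct.comul (R := k) u) := by
    intro u
    exact congrArg (fun g => g u) hΔalg
  have hεalg : (Bialgebra.counitAlgHom k H).comp Φ =
      Bialgebra.counitAlgHom k (UniversalEnvelopingAlgebra k (SGA3y.primLie k H)) := by
    apply Lib.Helper16.UEA.algHom_ext_ι
    intro z
    rw [AlgHom.comp_apply, hΦι, Bialgebra.counitAlgHom_apply, Bialgebra.counitAlgHom_apply,
      Lib.Helper16.UEA.counit_ι]
    exact Lib.Helper16.MM.counit_prim (hprim z)
  have hε : ∀ u, CoalgebraStruct.counit (R := k) (Φ.toLinearMap u) =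
      CoalgebraStruct.counit (R := k) u := by
    intro u
    exact congrArg (fun g => g u) hεalg
  constructor
  · -- injectivity
    rw [injective_iff_map_eq_zero]
    intro u hu
    obtain ⟨n, hn⟩ := Lib.Helper16.MM.exists_mem_G_uea (k := k) u
    refine Lib.Helper16.MM.eq_zero_of_map_eq_zero Φ.toLinearMap hΔ hε (e' := (1 : H)) (map_one Φ)
      (Lib.Helper16.MM.comul_one' k) (Lib.Helper16.MM.counit_one' k) ?_ n u hn hu
    intro x hx hΦx
    have hεx : CoalgebraStruct.counit (R := k) x = 0 := by
      rw [← hε x, hΦx, map_zero]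
    have h1 := Lib.Helper16.MM.isPrim_of_rc_eq_zero
      (Lib.Helper16.MM.rc_eq_zero_of_mem_G_two (Lib.Helper16.MM.comul_one' k) (Lib.Helper16.MM.counit_one' k) hx)
    rw [hεx, zero_smul, sub_zero] at h1
    obtain ⟨z, rfl⟩ := Lib.Helper16.MM.exists_eq_ι_of_isPrim h1
    have h2 : (z : H) = 0 := by
      rw [← hΦι z]
      exact hΦx
    have h3 : z = 0 := Subtype.ext h2
    rw [h3, map_zero]
  · -- surjectivity
    intro y
    have hB : ∀ x : H, Lib.Helper16.MM.IsPrim (k := k) x → x ∈ Φ.range := by
      intro x hx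
      exact ⟨UniversalEnvelopingAlgebra.ι k (⟨x, hx⟩ : SGA3y.primLie k H), hΦι ⟨x, hx⟩⟩
    obtain ⟨n, hn⟩ := Lib.Helper16.MM.exists_mem_G (k := k) (e := (1 : H)) hconn (Lib.Helper16.MM.comul_one' k)
      (Lib.Helper16.MM.counit_one' k) y
    exact Lib.Helper16.MM.G_le_of_prim_le Φ.range hB n hn

end Groth.Agent.S4135
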