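import Groth.Statements.S4190
import Groth.Agent.Lib.Helper63.AnDense4

set_option autoImplicit false
open CategoryTheory AlgebraicGeometry Topology TopologicalSpace
open An

namespace Groth.Agent.S4190

/-- For X locally of finite type over ℂ and T ⊆ X locally constructible, T is dense in X if and only if
the set of ℂ-points lying in T is dense in X(ℂ). -/
theorem result (X : Scheme.{0}) [X.Over An.SC] [LocallyOfFiniteType (X ↘ An.SC)]
    (T : Set ↥X) (hT : IsLocallyConstructible T) :
    Dense T ↔ Dense (An.Pts.pt ⁻¹' T : Set (An.Pts X)) := by
  have hcl := Groth.Agent.Lib.Helper63.AnAffine.preimage_closure_eq T hT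
  constructor
  · intro hd
    rw [dense_iff_closure_eq] at hd ⊢
    rw [← hcl, hd, Set.preimage_univ]
  · intro hd
    rw [dense_iff_closure_eq] at hd ⊢
    rw [← hcl] at hd
    haveI := Groth.Agent.Lib.Helper21.jacobsonSpace_of_lft X
    have h1 : closedPoints X ⊆ closure T := by
      intro z hz
      obtain ⟨p, rfl⟩ := Groth.Agent.Lib.Helper21.exists_pt_eq X hz
      have : p ∈ (An.Pts.pt ⁻¹' closure T : Set (An.Pts X)) := by
        rw [hd]
        exact Set.mem_univ _
      exact this
    have h2 : closure (closedPoints X) ⊆ closure T :=
      closure_minimal h1 isClosed_closure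
    rw [closure_closedPoints] at h2
    exact Set.eq_univ_of_univ_subset h2

end Groth.Agent.S4190
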