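import Groth.Statements.S4194
import Groth.Agent.Lib.Helper21.AnPts
import Mathlib

set_option autoImplicit false
open CategoryTheory AlgebraicGeometry Topology TopologicalSpace
open An

namespace Groth.Agent.S4194

/-- A morphism f : X → Y of schemes locally of finite type over ℂ is injective (on underlying points) if
and only if the induced map X(ℂ) → Y(ℂ) is injective. -/
theorem result (X Y : Scheme.{0}) [X.Over An.SC] [LocallyOfFiniteType (X ↘ An.SC)]
    [Y.Over An.SC] [LocallyOfFiniteType (Y ↘ An.SC)] (f : X ⟶ Y) [f.IsOver An.SC] :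
    Function.Injective f.base ↔ Function.Injective (An.Pts.map f) := by
  constructor
  · intro hf a b hab
    apply Groth.Agent.Lib.Helper21.pt_injective X
    apply hf
    have := congrArg Pts.pt hab
    rwa [Pts.pt_map, Pts.pt_map] at this
  · intro hf x x' hxx'
    by_contra hne
    have hflft : LocallyOfFiniteType f := by
      have : LocallyOfFiniteType (f ≫ Y ↘ SC) := by rw [comp_over]; infer_instance
      exact locallyOfFiniteType_of_comp f (Y ↘ SC)
    have : LocallyOfFiniteType (Limits.pullback f f ↘ SC) := by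
      show LocallyOfFiniteType (Limits.pullback.fst f f ≫ X ↘ SC)
      infer_instance
    obtain ⟨z, hz1, hz2⟩ := Scheme.Pullback.exists_preimage_pullback x x' hxx'
    have hzΔ : z ∉ Set.range (Limits.pullback.diagonal f).base := by
      rintro ⟨w, rfl⟩
      apply hne
      rw [← hz1, ← hz2, ← Scheme.Hom.comp_apply, ← Scheme.Hom.comp_apply,
        Limits.pullback.diagonal_fst, Limits.pullback.diagonal_snd]
    -- a closed point outside the diagonal
    have hlc : IsLocallyClosed (Set.range (Limits.pullback.diagonal f).base) :=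
      (Limits.pullback.diagonal f).isLocallyClosed_range
    obtain ⟨O, C, hO, hC, hOC⟩ := hlc
    have hex : ∃ ζ : Pts (Limits.pullback f f), ζ.pt ∉ Set.range (Limits.pullback.diagonal f).base := by
      rw [hOC] at hzΔ ⊢
      by_cases hzO : z ∈ O
      · have hzC : z ∉ C := fun h => hzΔ ⟨hzO, h⟩
        obtain ⟨ζ, hζ⟩ := Groth.Agent.Lib.Helper21.exists_pt_mem (Limits.pullback f f) (Z := Cᶜ)
          ⟨z, hzC⟩ hC.isOpen_compl.isLocallyClosed
        exact ⟨ζ, fun h => hζ h.2⟩
      · obtain ⟨ζ, hζ⟩ := Groth.Agent.Lib.Helper21.exists_pt_mem (Limits.pullback f f) (Z := Oᶜ)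
          ⟨z, hzO⟩ hO.isClosed_compl.isLocallyClosed
        exact ⟨ζ, fun h => hζ h.1⟩
    obtain ⟨ζ, hζ⟩ := hex
    have hab : Pts.map (Limits.pullback.fst f f) ζ = Pts.map (Limits.pullback.snd f f) ζ :=
      hf (Pts.map_pullback_condition f f ζ)
    apply hζ
    refine ⟨(Pts.map (Limits.pullback.fst f f) ζ).pt, ?_⟩
    have h1 : ζ.1 = (Pts.map (Limits.pullback.fst f f) ζ).1 ≫ Limits.pullback.diagonal f := by
      apply Limits.pullback.hom_ext
      · rw [Category.assoc, Limits.pullback.diagonal_fst, Category.comp_id]; rfl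
      · rw [Category.assoc, Limits.pullback.diagonal_snd, Category.comp_id]
        exact (congrArg Subtype.val hab).symm
    show (Limits.pullback.diagonal f).base ((Pts.map (Limits.pullback.fst f f) ζ).1 cpt) = ζ.1 cpt
    rw [h1]
    rfl

end Groth.Agent.S4194
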