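import Groth.Statements.S4198
import Groth.Agent.Lib.Helper21.AnPts
import Groth.Agent.Lib.Helper21.ConstrJacobson
import Mathlib.AlgebraicGeometry.Noetherian
import Mathlib.AlgebraicGeometry.Morphisms.FinitePresentation

set_option autoImplicit false
open CategoryTheory AlgebraicGeometry Topology TopologicalSpace
open An

namespace Groth.Agent.S4198

/-- Let f : X → Y be a morphism of finite type (here: quasi-compact, X and Y being locally of finite
type over ℂ). Then f is surjective if and only if the induced map on complex points X(ℂ) → Y(ℂ) is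
surjective. (The finite-type hypothesis cannot be dropped.) -/
theorem result (X Y : Scheme.{0}) [X.Over An.SC] [LocallyOfFiniteType (X ↘ An.SC)]
    [Y.Over An.SC] [LocallyOfFiniteType (Y ↘ An.SC)] (f : X ⟶ Y) [f.IsOver An.SC] [QuasiCompact f] :
    Function.Surjective f.base ↔ Function.Surjective (An.Pts.map f) := by
  have hlftf : LocallyOfFiniteType f := by
    have h : LocallyOfFiniteType (f ≫ (Y ↘ An.SC)) := by
      rw [comp_over f An.SC]; infer_instance
    exact locallyOfFiniteType_of_comp f (Y ↘ An.SC)
  constructor
  · intro hsurj y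
    have hcl : IsClosed ({y.pt} : Set Y) := Groth.Agent.Lib.Helper21.isClosed_pt Y y
    obtain ⟨x₀, hx₀⟩ := hsurj y.pt
    obtain ⟨p, hp⟩ := Groth.Agent.Lib.Helper21.exists_pt_mem X (Z := f.base ⁻¹' {y.pt})
      ⟨x₀, hx₀⟩ (hcl.preimage f.continuous).isLocallyClosed
    refine ⟨p, ?_⟩
    apply Groth.Agent.Lib.Helper21.pt_injective Y
    rw [An.Pts.pt_map]
    exact hp
  · intro hsurj
    have hN : IsLocallyNoetherian Y :=
      LocallyOfFiniteType.isLocallyNoetherian (Y ↘ An.SC)
    have hJ : JacobsonSpace Y := Groth.Agent.Lib.Helper21.jacobsonSpace_of_lft Y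
    have hfp : LocallyOfFinitePresentation f := inferInstance
    have hcons : IsLocallyConstructible (Set.range f.base)ᶜ := by
      have := f.isLocallyConstructible_image (s := Set.univ) IsLocallyConstructible.univ
      rw [Set.image_univ] at this
      exact Groth.Agent.Lib.Helper21.isLocallyConstructible_compl_of this
    by_contra hns
    have hne : ((Set.range f.base)ᶜ).Nonempty := by
      rw [Set.nonempty_compl]
      intro h
      exact hns (Set.range_eq_univ.1 h)
    obtain ⟨y, hy, hycl⟩ :=
      Groth.Agent.Lib.Helper21.exists_closedPoint_mem_of_isLocallyConstructible hcons hne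
    obtain ⟨q, rfl⟩ := Groth.Agent.Lib.Helper21.exists_pt_eq Y hycl
    obtain ⟨p, rfl⟩ := hsurj q
    apply hy
    rw [An.Pts.pt_map]
    exact ⟨p.pt, rfl⟩

end Groth.Agent.S4198
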