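import Groth.Statements.S4201
import Groth.Agent.Lib.Helper21.AnTop
import Groth.Agent.S4196
import Groth.Agent.S4200
import Mathlib.AlgebraicGeometry.Morphisms.Immersion

set_option autoImplicit false
open CategoryTheory AlgebraicGeometry Topology TopologicalSpace
open An

namespace Groth.Agent.S4201

/-- The direction from schemes to spaces: an immersion f : X → Y of schemes locally of finite type over
ℂ induces an embedding X(ℂ) → Y(ℂ) whose image is locally closed. -/
theorem result (X Y : Scheme.{0}) [X.Over An.SC] [LocallyOfFiniteType (X ↘ An.SC)]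
    [Y.Over An.SC] [LocallyOfFiniteType (Y ↘ An.SC)] (f : X ⟶ Y) [f.IsOver An.SC] [IsImmersion f] :
    Topology.IsEmbedding (An.Pts.map f) ∧ IsLocallyClosed (Set.range (An.Pts.map f)) := by
  have hembf : Topology.IsEmbedding f.base := f.isEmbedding
  constructor
  · -- factor through the coborder
    let Z : Scheme.{0} := f.coborderRange.toScheme
    let instZ : Z.Over An.SC := ⟨f.coborderRange.ι ≫ (Y ↘ An.SC)⟩
    have hι : (f.coborderRange.ι).IsOver An.SC := ⟨rfl⟩
    have hl : (f.liftCoborder).IsOver An.SC := ⟨by
      change f.liftCoborder ≫ (f.coborderRange.ι ≫ (Y ↘ An.SC)) = X ↘ An.SC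
      rw [← Category.assoc, f.liftCoborder_ι, comp_over f An.SC]⟩
    have hZ : LocallyOfFiniteType (Z ↘ An.SC) := by
      change LocallyOfFiniteType (f.coborderRange.ι ≫ (Y ↘ An.SC))
      infer_instance
    have h1 : Topology.IsEmbedding (An.Pts.map (X := X) (Y := Z) f.liftCoborder) :=
      (Groth.Agent.S4200.result X Z f.liftCoborder).isEmbedding
    have h2 : Topology.IsEmbedding (An.Pts.map (X := Z) (Y := Y) f.coborderRange.ι) :=
      (Groth.Agent.S4196.result Z Y f.coborderRange.ι).isEmbedding
    have h3 : An.Pts.map f =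
        An.Pts.map (X := Z) (Y := Y) f.coborderRange.ι ∘
          An.Pts.map (X := X) (Y := Z) f.liftCoborder := by
      funext x
      apply Subtype.ext
      change x.1 ≫ f = (x.1 ≫ f.liftCoborder) ≫ f.coborderRange.ι
      rw [Category.assoc, f.liftCoborder_ι]
    rw [h3]
    exact h2.comp h1
  · rw [Groth.Agent.Lib.Helper21.range_map_of_injective f hembf.injective]
    exact f.isLocallyClosed_range.preimage An.Pts.continuous_pt

end Groth.Agent.S4201
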