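import Groth.Statements.S4204
import Groth.Agent.Lib.Helper63.AnSep

set_option autoImplicit false
open CategoryTheory AlgebraicGeometry Topology TopologicalSpace
open An

namespace Groth.Agent.S4204

/-- Let X be a scheme locally of finite type over ℂ. Then X is separated over ℂ if and only if X(ℂ) with
the complex topology is Hausdorff. -/
theorem result (X : Scheme.{0}) [X.Over An.SC] [LocallyOfFiniteType (X ↘ An.SC)] :
    IsSeparated (X ↘ An.SC) ↔ T2Space (An.Pts X) := by
  letI iSC : An.SC.Over An.SC := ⟨𝟙 An.SC⟩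
  haveI : (X ↘ An.SC).IsOver An.SC := ⟨Category.comp_id _⟩
  haveI : LocallyOfFiniteType (An.SC ↘ An.SC) :=
    inferInstanceAs (LocallyOfFiniteType (𝟙 An.SC))
  have h1 := Groth.Agent.Lib.Helper63.AnFibre.isSeparated_iff (X ↘ An.SC)
  rw [h1]
  have hsub : ∀ a b : An.Pts An.SC, a = b := by
    intro a b
    apply Subtype.ext
    have ha : a.1 ≫ 𝟙 An.SC = 𝟙 An.SC := a.2
    have hb : b.1 ≫ 𝟙 An.SC = 𝟙 An.SC := b.2
    rw [Category.comp_id] at ha hb
    rw [ha, hb]
  let y₀ : An.Pts An.SC := ⟨𝟙 An.SC, Category.comp_id _⟩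
  have h2 : An.Pts.map (X ↘ An.SC) = fun _ => y₀ := funext fun x => hsub _ _
  rw [h2]
  exact (t2space_iff_isSeparatedMap y₀).symm

end Groth.Agent.S4204
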