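import Groth.Statements.S4205
import Groth.Agent.Lib.Helper63.AnProper2
import Groth.Agent.S4204

set_option autoImplicit false
open CategoryTheory AlgebraicGeometry Topology TopologicalSpace
open An

namespace Groth.Agent.S4205

/-- Let X be a scheme of finite type over ℂ (locally of finite type and quasi-compact over ℂ, carried as
two instance hypotheses). Then X is proper over ℂ if and only if X(ℂ) with the complex topology is
compact and Hausdorff. -/
theorem result (X : Scheme.{0}) [X.Over An.SC] [LocallyOfFiniteType (X ↘ An.SC)] [QuasiCompact (X ↘ An.SC)] :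
    IsProper (X ↘ An.SC) ↔ CompactSpace (An.Pts X) ∧ T2Space (An.Pts X) := by
  letI iSC : An.SC.Over An.SC := ⟨𝟙 An.SC⟩
  haveI : (X ↘ An.SC).IsOver An.SC := ⟨Category.comp_id _⟩
  haveI : LocallyOfFiniteType (An.SC ↘ An.SC) :=
    inferInstanceAs (LocallyOfFiniteType (𝟙 An.SC))
  have hsub : ∀ a b : An.Pts An.SC, a = b := by
    intro a b
    apply Subtype.ext
    have ha : a.1 ≫ 𝟙 An.SC = 𝟙 An.SC := a.2
    have hb : b.1 ≫ 𝟙 An.SC = 𝟙 An.SC := b.2
    rw [Category.comp_id] at ha hb
    rw [ha, hb]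
  haveI : Subsingleton (An.Pts An.SC) := ⟨hsub⟩
  let y₀ : An.Pts An.SC := ⟨𝟙 An.SC, Category.comp_id _⟩
  have hfib : An.Pts.map (X ↘ An.SC) ⁻¹' {y₀} = Set.univ := by
    ext x
    simp only [Set.mem_preimage, Set.mem_singleton_iff, Set.mem_univ, iff_true]
    exact hsub _ _
  have hmain := Groth.Agent.Lib.Helper63.AnProper.isProper_iff_pts (X ↘ An.SC)
  have hT2 := Groth.Agent.S4204.result X
  constructor
  · intro h
    obtain ⟨hp, -⟩ := hmain.mp h
    refine ⟨?_, hT2.mp inferInstance⟩
    have hc := hp.isCompact_preimage (isCompact_singleton (x := y₀))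
    rw [hfib] at hc
    exact isCompact_univ_iff.mp hc
  · rintro ⟨hc, ht⟩
    haveI := hc
    haveI := ht
    have hsepX : IsSeparated (X ↘ An.SC) := hT2.mpr ht
    refine hmain.mpr ⟨?_, (Groth.Agent.Lib.Helper63.AnFibre.isSeparated_iff (X ↘ An.SC)).mp hsepX⟩
    rw [isProperMap_iff_isClosedMap_and_compact_fibers]
    refine ⟨An.Pts.continuous_map _, fun A _ => isClosed_discrete _, fun y => ?_⟩
    exact ((isClosed_discrete ({y} : Set (An.Pts An.SC))).preimage
      (An.Pts.continuous_map _)).isCompact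

end Groth.Agent.S4205
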