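import Groth.Statements.S4243
import Mathlib
-- import your own Groth.Agent.* helpers here

set_option autoImplicit false
open SGA4h

namespace Groth.Agent.S4243

/-- Let k be a finite field with q elements and P a nonzero homogeneous polynomial of degree d in r+1
variables over k. If P vanishes at every point of k^{r+1} (that is, the hypersurface P = 0 in
projective r-space passes through every rational point), then d ≥ q + 1. -/
theorem result (k : Type) [Field k] [Fintype k] (r d : ℕ)
    (P : MvPolynomial (Fin (r + 1)) k) (hP : P.IsHomogeneous d) (hP0 : P ≠ 0)
    (hvan : ∀ x : Fin (r + 1) → k, MvPolynomial.eval x P = 0) :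
    Fintype.card k + 1 ≤ d := by
  classical
  by_contra hlt
  rw [not_le] at hlt
  have hdq : d ≤ Fintype.card k := by omega
  have hq2 : 2 ≤ Fintype.card k := Fintype.one_lt_card
  generalize hq : Fintype.card k = q at *
  let a : Fin (r+1) → k := fun i => MvPolynomial.coeff (Finsupp.single i q) P
  let R : MvPolynomial (Fin (r+1)) k :=
    P - ∑ i, MvPolynomial.C (a i) * (MvPolynomial.X i ^ q - MvPolynomial.X i)
  have hRev : ∀ x, MvPolynomial.eval x R = 0 := by
    intro x
    simp [R, hvan x, ← hq, FiniteField.pow_card]
  have hcoeffR : ∀ m, MvPolynomial.coeff m R = MvPolynomial.coeff m P -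
      ∑ i, a i * ((if Finsupp.single i q = m then 1 else 0) -
        (if Finsupp.single i 1 = m then 1 else 0)) := by
    intro m
    simp [R, MvPolynomial.coeff_sum, MvPolynomial.coeff_C_mul, MvPolynomial.coeff_X_pow,
      MvPolynomial.coeff_X]
  have hRmem : R ∈ MvPolynomial.restrictDegree (Fin (r+1)) k (q - 1) := by
    rw [MvPolynomial.mem_restrictDegree]
    intro m hm j
    by_contra hj
    rw [not_le] at hj
    have hmj : q ≤ m j := by omega
    have h1 : ∀ i, Finsupp.single i 1 ≠ m := by
      intro i h
      have := congrArg (fun f => f j) h
      simp only [Finsupp.single_apply] at this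
      split_ifs at this <;> omega
    rw [MvPolynomial.mem_support_iff, hcoeffR] at hm
    simp only [h1, if_false, sub_zero] at hm
    by_cases hmq : m = Finsupp.single j q
    · subst hmq
      apply hm
      rw [Finset.sum_eq_single j]
      · simp [a]
      · intro i _ hij
        have : Finsupp.single i q ≠ Finsupp.single j q := by
          intro h
          have := congrArg (fun f => f j) h
          simp only [Finsupp.single_apply, if_neg hij, if_true] at this
          omega
        simp [this]
      · simp
    · have hne : ∀ i, Finsupp.single i q ≠ m := by
        intro i h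
        subst h
        by_cases hij : i = j
        · subst hij; exact hmq rfl
        · simp only [Finsupp.single_apply, if_neg hij] at hmj
          omega
      simp only [hne, if_false, mul_zero, Finset.sum_const_zero, sub_zero] at hm
      have hdeg : m.degree = d := by
        by_contra h
        exact hm (hP.coeff_eq_zero h)
      apply hmq
      rw [Finsupp.degree_eq_sum] at hdeg
      have hsplit := Finset.add_sum_erase Finset.univ (fun i => m i) (Finset.mem_univ j)
      have hmjq : m j = q := by
        have : m j ≤ ∑ i, m i := by rw [← hsplit]; omega
        omega
      have hrest : ∑ i ∈ Finset.univ.erase j, m i = 0 := by omega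
      rw [Finset.sum_eq_zero_iff] at hrest
      ext i
      by_cases hij : i = j
      · subst hij; simp [hmjq]
      · rw [Finsupp.single_apply, if_neg (Ne.symm hij)]
        exact hrest i (Finset.mem_erase.mpr ⟨hij, Finset.mem_univ i⟩)
  have hR0 : R = 0 := MvPolynomial.eq_zero_of_eval_eq_zero _ _ R hRev (hq ▸ hRmem)
  have ha : ∀ i, a i = 0 := by
    intro i
    by_cases hd1 : d = 1
    · -- degree of single i q is q ≠ 1
      exact hP.coeff_eq_zero (by rw [Finsupp.degree_single]; omega)
    · have h0 : MvPolynomial.coeff (Finsupp.single i 1) P = 0 :=
        hP.coeff_eq_zero (by rw [Finsupp.degree_single]; omega)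
      have h2 := hcoeffR (Finsupp.single i 1)
      rw [hR0, MvPolynomial.coeff_zero, h0, zero_sub] at h2
      have hne : ∀ j, Finsupp.single j q ≠ Finsupp.single i 1 := by
        intro j h
        have := congrArg Finsupp.degree h
        simp only [Finsupp.degree_single] at this
        omega
      simp only [hne, if_false, zero_sub] at h2
      rw [Finset.sum_eq_single i] at h2
      · simpa using h2.symm
      · intro j _ hji
        have : Finsupp.single j 1 ≠ Finsupp.single i 1 := by
          intro h
          have := congrArg (fun f => f i) h
          simp only [Finsupp.single_apply, if_neg hji, if_true] at this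
          omega
        simp [this]
      · simp
  apply hP0
  have : R = P := by simp [R, ha]
  rw [← this, hR0]

end Groth.Agent.S4243
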