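import Groth.Statements.S4256
-- import your own Groth.Agent.* helpers here

set_option autoImplicit false
open scoped BigOperators
open SGA4h

namespace Groth.Agent.S4256

lemma addChar_sum {A M ι : Type*} [AddCommMonoid A] [CommMonoid M] (ψ : AddChar A M)
    (s : Finset ι) (f : ι → A) : ψ (∑ i ∈ s, f i) = ∏ i ∈ s, ψ (f i) := by
  classical
  induction s using Finset.induction_on with
  | empty => simp
  | insert a s ha ih => rw [Finset.sum_insert ha, Finset.prod_insert ha, AddChar.map_add_eq_mul, ih]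


/-- Let k be a finite field, ψ a nontrivial additive character of k with values in a domain R, and n ≥
1. Then the generalised Kloosterman sum with parameter 0, Σ ψ(x_1 + ⋯ + x_n) over all (x_1, …, x_n)
∈ k^n with x_1 ⋯ x_n = 0, equals (-1)^{n-1}. -/
theorem result (k : Type) [Field k] [Fintype k] [DecidableEq k] (R : Type) [CommRing R] [IsDomain R]
    (ψ : AddChar k R) (hψ : ψ ≠ 1) (n : ℕ) (hn : 1 ≤ n) :
    ∑ x ∈ (Finset.univ : Finset (Fin n → k)).filter (fun x => ∏ i, x i = 0), ψ (∑ i, x i) = (-1) ^ (n - 1) := by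
  classical
  have hsum0 : ∑ a : k, ψ a = 0 := AddChar.sum_eq_zero_of_ne_one hψ
  have hsum1 : ∑ a ∈ (Finset.univ.filter (fun a : k => a ≠ 0)), ψ a = -1 := by
    have h := Finset.sum_filter_add_sum_filter_not Finset.univ (fun a : k => a ≠ 0) (fun a => ψ a)
    have h2 : ∑ a ∈ (Finset.univ.filter (fun a : k => ¬ a ≠ 0)), ψ a = 1 := by
      have : (Finset.univ.filter (fun a : k => ¬ a ≠ 0)) = {0} := by
        ext a; simp
      rw [this, Finset.sum_singleton, AddChar.map_zero_eq_one]
    rw [h2, hsum0] at h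
    exact eq_neg_of_add_eq_zero_left h
  have hall : ∑ x : Fin n → k, ψ (∑ i, x i) = 0 := by
    simp_rw [addChar_sum]
    rw [← Fintype.piFinset_univ, ← Finset.prod_univ_sum]
    simp only [hsum0, Finset.prod_const, Finset.card_univ, Fintype.card_fin]
    exact zero_pow (by omega)
  have hnz : ∑ x ∈ Fintype.piFinset (fun _ : Fin n => Finset.univ.filter (fun a : k => a ≠ 0)),
      ψ (∑ i, x i) = (-1) ^ n := by
    simp_rw [addChar_sum]
    rw [← Finset.prod_univ_sum]
    simp only [hsum1, Finset.prod_const, Finset.card_univ, Fintype.card_fin]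
  have hfilter : (Finset.univ : Finset (Fin n → k)).filter (fun x => ¬ ∏ i, x i = 0) =
      Fintype.piFinset (fun _ : Fin n => Finset.univ.filter (fun a : k => a ≠ 0)) := by
    ext x
    simp [Finset.prod_eq_zero_iff, Fintype.mem_piFinset]
  have hsplit := Finset.sum_filter_add_sum_filter_not (Finset.univ : Finset (Fin n → k))
    (fun x => ∏ i, x i = 0) (fun x => ψ (∑ i, x i))
  rw [hfilter, hnz, hall] at hsplit
  have : ∑ x ∈ (Finset.univ : Finset (Fin n → k)).filter (fun x => ∏ i, x i = 0), ψ (∑ i, x i)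
      = - (-1) ^ n := eq_neg_of_add_eq_zero_left hsplit
  rw [this]
  obtain ⟨m, rfl⟩ : ∃ m, n = m + 1 := ⟨n - 1, by omega⟩
  simp [pow_succ]

end Groth.Agent.S4256
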