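import Groth.Statements.S4269
import Groth.Agent.Lib.Helper48.AmpleFam
import Groth.Agent.Lib.Ample.Helper50_Basis
-- import your own Groth.Agent.* helpers here

set_option autoImplicit false
universe u
open CategoryTheory CategoryTheory.Limits AlgebraicGeometry
attribute [local instance] HasDerivedCategory.standard
open KSix

namespace Groth.Agent.S4269

open Groth.Agent.Lib.Ample Groth.Agent.Lib.QCoh CohB1 Groth.Agent.Lib.Helper48
  Groth.Agent.Lib.Helper48.AmpleFam

section Aux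

/-- index type: pairs of a point of `T` and a section in `S x` -/
abbrev Idx {X : Scheme.{u}} {A : X → Type u} (S : ∀ x, Finset (A x)) (T : Finset X) : Type u :=
  Σ x : {x // x ∈ T}, {t // t ∈ S x.1}

end Aux

/-- Let X be a quasi-compact quasi-separated scheme and (L_i) an ample family of invertible O_X-modules
(the affine opens X_s, for s a global section of some L_i^{⊗ n}, n ≥ 1, cover X). Then every
quasi-coherent O_X-module of finite type F receives an epimorphism from a finite direct sum of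
modules of the form L_i^{⊗ -n} with n > 0. (The printed statement uses a single exponent n_i for
each member L_i; the form here, allowing several powers of the same member, is slightly weaker.) -/
theorem result (X : Scheme.{u}) {ι : Type u} (L : ι → X.Modules)
    (hL : KSix.IsAmpleFamily L) (F : X.Modules) (hF : Coh.IsQCoh F) (hF' : CohB1.IsFT F) :
    ∃ (M : X.Modules) (π : M ⟶ F), KSix.InAddL L M ∧ Epi π := by
  classical
  obtain ⟨hc, hqs, hLinv, hfam⟩ := hL
  haveI : CompactSpace X := hc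
  haveI : QuasiSeparatedSpace X := hqs
  haveI : F.IsQuasicoherent := hF
  haveI : F.IsFiniteType := hF'
  choose i n s hxs haff using hfam
  have key : ∀ x : X, ∃ k₀ : ℕ, ∀ k, k₀ ≤ k →
      GenOn (tensorMod F (tensorPow (L (i x)) (0 + (n x + 1) * k)))
        (genLocus (tensorPow (L (i x)) (n x + 1)) (s x)) := by
    intro x
    have hM : PicF.IsInvertible (tensorPow (L (i x)) (n x + 1)) :=
      isInvertible_tensorPow (hLinv _) _
    have hLr : PicF.IsInvertible (tensorPow (L (i x)) 0) := isInvertible_tensorPow (hLinv _) _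
    haveI hLrq : (tensorPow (L (i x)) 0).IsQuasicoherent := isQuasicoherent_of_isInvertible hLr
    haveI hLrt : (tensorPow (L (i x)) 0).IsFiniteType := isFiniteType_of_isInvertible hLr
    haveI hGq : (tensorMod F (tensorPow (L (i x)) 0)).IsQuasicoherent :=
      isQuasicoherent_tensorMod _ _
    haveI hGt : (tensorMod F (tensorPow (L (i x)) 0)).IsFiniteType :=
      isFiniteType_tensorMod _ _
    obtain ⟨k₀, hk₀⟩ := exists_genOn_twistIter (tensorMod F (tensorPow (L (i x)) 0)) hM (s x)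
      (finite_Γ_of_isAffineOpen (haff x) _)
    exact ⟨k₀, fun k hk => (hk₀ k hk).of_iso (twistIterPowIso F (L (i x)) 0 (n x + 1) k)⟩
  choose k₀ hk₀ using key
  obtain ⟨m, hmdef⟩ : ∃ m : X → ℕ, ∀ x, m x = 0 + (n x + 1) * (k₀ x + 1) := ⟨_, fun x => rfl⟩
  have hmpos : ∀ x, 0 < m x := fun x => by
    rw [hmdef, Nat.zero_add]; exact Nat.mul_pos (Nat.succ_pos _) (Nat.succ_pos _)
  obtain ⟨P, hPdef⟩ : ∃ P : X → X.Modules, ∀ x, P x = tensorPow (L (i x)) (m x) :=
    ⟨_, fun x => rfl⟩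
  have hPinv : ∀ x, PicF.IsInvertible (P x) := fun x => by
    rw [hPdef]; exact isInvertible_tensorPow (hLinv _) _
  have hgen : ∀ x, GenOn (tensorMod F (P x))
      (genLocus (tensorPow (L (i x)) (n x + 1)) (s x)) := fun x => by
    rw [hPdef, hmdef]; exact hk₀ x (k₀ x + 1) (Nat.le_succ _)
  obtain ⟨Q, hQ, hev, hq, S, T, hS, hT⟩ := exists_data F P hPinv
    (fun x => genLocus (tensorPow (L (i x)) (n x + 1)) (s x)) haff hxs hgen
  have ev : ∀ x, tensorMod (P x) (Q x) ≅ Coh.structureModule X := fun x => (hev x).some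
  obtain ⟨ρ, hρ⟩ : ∃ ρ : ∀ j : Idx S T, Q j.1.1 ⟶ F,
      ∀ j, ρ j = rho F (P j.1.1) (Q j.1.1) (ev j.1.1) j.2.1 := ⟨_, fun j => rfl⟩
  have aux : ∀ (j j' : Idx S T) (_ : j' = j), ∃ κ : Q j.1.1 ⟶ Q j'.1.1, κ ≫ ρ j' = ρ j := by
    rintro j _ rfl
    exact ⟨𝟙 _, Category.id_comp _⟩
  obtain ⟨k, ⟨e⟩⟩ := Finite.exists_equiv_fin (Idx S T)
  refine ⟨⨁ (fun a : Fin k => Q (e.symm a).1.1),
    biproduct.desc (fun a : Fin k => ρ (e.symm a)),
    ⟨k, fun a : Fin k => Q (e.symm a).1.1, fun a => ?_, ⟨Iso.refl _⟩⟩, ?_⟩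
  · refine ⟨i (e.symm a).1.1, m (e.symm a).1.1, hmpos _, ⟨?_⟩⟩
    have h := tensorModBraiding (Q (e.symm a).1.1) (P (e.symm a).1.1) ≪≫ ev (e.symm a).1.1
    rw [hPdef] at h
    exact h
  · refine epi_of_factor F P Q hQ ev hq
      (fun x => genLocus (tensorPow (L (i x)) (n x + 1)) (s x)) haff S hS T hT _ ?_
    intro x hxT t ht
    obtain ⟨κ₀, hκ₀⟩ := aux ⟨⟨x, hxT⟩, ⟨t, ht⟩⟩ (e.symm (e ⟨⟨x, hxT⟩, ⟨t, ht⟩⟩))
      (e.symm_apply_apply _)
    refine ⟨κ₀ ≫ biproduct.ι (fun a : Fin k => Q (e.symm a).1.1) (e ⟨⟨x, hxT⟩, ⟨t, ht⟩⟩), ?_⟩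
    rw [Category.assoc, biproduct.ι_desc, hκ₀]
    exact hρ _

end Groth.Agent.S4269
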