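import Groth.Statements.S4329
import Groth.Agent.Lib.Helper99.KInjDerK
import Groth.Agent.Lib.Helper68.KInj
import Groth.Agent.S0101

set_option autoImplicit false
universe u
open CategoryTheory CategoryTheory.Limits AlgebraicGeometry Opposite
attribute [local instance] HasDerivedCategory.standard
open EtSix

namespace Groth.Agent.S4329

/-- Composition of derived direct images: for the small etale sites of schemes and abelian sheaves: let
f : X -> Y and g : Y -> Z be morphisms of schemes and assume the unbounded derived direct images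
Rf_*, Rg_* and R(g ∘ f)_* exist (they do; the existence is recorded as instance hypotheses). Then
the canonical morphism R(g ∘ f)_* -> Rg_* ∘ Rf_* of functors D(X_et) -> D(Z_et), induced by (g ∘
f)_* ≅ g_* ∘ f_* through the universal property of R(g ∘ f)_* as a right derived functor, is an
isomorphism. -/
theorem result {X Y Z : Scheme.{u}} (f : X ⟶ Y) (g : Y ⟶ Z)
    [DCoh.HasRpushEt X f] [DCoh.HasRpushEt Y g] [DCoh.HasRpushEt X (f ≫ g)] :
    IsIso (EtSix.compMap f g) := by
  open Groth.Agent.Lib.Helper99.KInj in
  classical
  -- `f_*` preserves K-injective complexes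
  haveI := Groth.Agent.S0101.aux f
  haveI : PreservesColimitsOfSize.{0, 0} (EtCoh.pull f) :=
    (EtCoh.pullPushAdj f).leftAdjoint_preservesColimits
  haveI : PreservesFiniteColimits (EtCoh.pull f) :=
    PreservesColimitsOfSize.preservesFiniteColimits _
  have hK : ∀ (I : CochainComplex (EtCoh.Ab X) ℤ) [I.IsKInjective],
      CochainComplex.IsKInjective
        (((EtCoh.push f).mapHomologicalComplex (ComplexShape.up ℤ)).obj I) := fun I _ =>
    Groth.Agent.Lib.Helper68.KInj.isKInjective_map_of_adjunction (EtCoh.pullPushAdj f) I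
  -- the composite is a right derived functor with respect to `compUnit`
  have hder : (DCoh.RpushEt X f ⋙ DCoh.RpushEt Y g).IsRightDerivedFunctor (EtSix.compUnit f g)
      (HomotopyCategory.quasiIso (EtCoh.Ab X) (ComplexShape.up ℤ)) := by
    apply isRightDerivedFunctor_of_isIso_app_kInjK
    intro K hKK
    have hK' : CochainComplex.IsKInjective K.as := hKK
    have h1 : kInjK (EtCoh.Ab Y) (((EtCoh.push f).mapHomotopyCategory (ComplexShape.up ℤ)).obj K) :=
      hK K.as
    have h2 := isIso_app_of_kInjK (DCoh.pushEtKh Y g) (DCoh.RpushEt Y g)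
      ((DCoh.pushEtKh Y g).totalRightDerivedUnit DerivedCategory.Qh
        (HomotopyCategory.quasiIso (EtCoh.Ab Y) (ComplexShape.up ℤ))) _ h1
    have h3 := isIso_app_of_kInjK (DCoh.pushEtKh X f) (DCoh.RpushEt X f)
      ((DCoh.pushEtKh X f).totalRightDerivedUnit DerivedCategory.Qh
        (HomotopyCategory.quasiIso (EtCoh.Ab X) (ComplexShape.up ℤ))) K hKK
    have h4 : IsIso (NatTrans.mapHomotopyCategory (EtCoh.pushComp g f).inv (ComplexShape.up ℤ)) := by
      refine ⟨NatTrans.mapHomotopyCategory (EtCoh.pushComp g f).hom (ComplexShape.up ℤ), ?_, ?_⟩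
      · rw [← NatTrans.mapHomotopyCategory_comp, Iso.inv_hom_id, NatTrans.mapHomotopyCategory_id]
      · rw [← NatTrans.mapHomotopyCategory_comp, Iso.hom_inv_id, NatTrans.mapHomotopyCategory_id]
    simp only [EtSix.compUnit, NatTrans.comp_app, Functor.whiskerRight_app,
      Functor.whiskerLeft_app, Functor.associator_hom_app, Functor.associator_inv_app]
    infer_instance
  dsimp only [EtSix.compMap]
  exact (Functor.isRightDerivedFunctor_iff_isIso_rightDerivedDesc _ _ _ _ _).1 hder

end Groth.Agent.S4329
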