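import Groth.Statements.S4337
import Mathlib
import Groth.Agent.Lib.Helper22.LinTopLib
-- import your own Groth.Agent.* helpers here

set_option autoImplicit false
universe u
open LinTop

namespace Groth.Agent.S4337

/-- Let A be an admissible ring, J an ideal of definition, and u : M -> N a homomorphism of A-modules
with N of finite type. Then u is surjective if and only if u tensored with A/J is surjective. -/
theorem result
    (A : Type u) [CommRing A] [UniformSpace A] [IsUniformAddGroup A] [IsTopologicalRing A]
    (hA : LinTop.IsAdmissible A) (J : Ideal A) (hJ : LinTop.IsIdealOfDefinition A J)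
    (M N : Type u) [AddCommGroup M] [Module A M] [AddCommGroup N] [Module A N] [Module.Finite A N]
    (u : M →ₗ[A] N) :
    Function.Surjective u ↔ Function.Surjective (u.rTensor (A ⧸ J)) := by
  constructor
  · intro h
    exact LinearMap.rTensor_surjective _ h
  · intro h
    have hjac := Groth.Agent.Lib.Helper22.idealOfDefinition_le_jacobson_bot hA J hJ
    have key : ∀ z : TensorProduct A M (A ⧸ J),
        TensorProduct.tensorQuotEquivQuotSMul N J ((u.rTensor (A ⧸ J)) z) ∈
          (LinearMap.range u).map (J • (⊤ : Submodule A N)).mkQ := by
      intro z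
      induction z using TensorProduct.induction_on with
      | zero => simp
      | tmul m a =>
        obtain ⟨a, rfl⟩ := Ideal.Quotient.mk_surjective a
        rw [LinearMap.rTensor_tmul, TensorProduct.tensorQuotEquivQuotSMul_tmul_mk]
        refine ⟨u (a • m), ⟨a • m, rfl⟩, ?_⟩
        rw [map_smul]; rfl
      | add x y hx hy =>
        rw [map_add, map_add]
        exact add_mem hx hy
    have hle : (⊤ : Submodule A N) ≤ LinearMap.range u ⊔ J • (⊤ : Submodule A N) := by
      intro n _
      obtain ⟨z, hz⟩ := h (n ⊗ₜ[A] (1 : A ⧸ J))
      have h1 := key z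
      rw [hz] at h1
      have h2 : TensorProduct.tensorQuotEquivQuotSMul N J (n ⊗ₜ[A] (1 : A ⧸ J)) =
          Submodule.Quotient.mk n := by
        rw [← map_one (Ideal.Quotient.mk J), TensorProduct.tensorQuotEquivQuotSMul_tmul_mk,
          one_smul]
      rw [h2] at h1
      obtain ⟨y, hy, hyn⟩ := h1
      have h3 : n - y ∈ J • (⊤ : Submodule A N) := by
        rw [← Submodule.Quotient.mk_eq_zero, Submodule.Quotient.mk_sub]
        change (J • (⊤ : Submodule A N)).mkQ y = Submodule.Quotient.mk n at hyn
        rw [Submodule.mkQ_apply] at hyn
        rw [hyn, sub_self]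
      have h4 : n = y + (n - y) := by abel
      rw [h4]
      exact Submodule.add_mem_sup hy h3
    have htop := Submodule.le_of_le_smul_of_le_jacobson_bot
      (Module.Finite.fg_top : (⊤ : Submodule A N).FG) hjac hle
    exact LinearMap.range_eq_top.mp (top_le_iff.mp htop)

end Groth.Agent.S4337
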