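import Groth.Statements.S4338
import Mathlib
import Groth.Agent.Lib.Helper22.LinTopLib
-- import your own Groth.Agent.* helpers here

set_option autoImplicit false
universe u
open LinTop

namespace Groth.Agent.S4338

/-- For a finitely generated ideal. Let A be an admissible ring and I a finitely generated ideal
contained in an ideal of definition of A. Then A is separated and complete for the I-adic topology.
(The published statement has no finiteness hypothesis on I and is then not correct: the completion
of a polynomial ring in countably many variables over a field along the ideal generated by the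
variables, with its inverse-limit topology, is admissible, the kernel of its projection onto the
field is an ideal of definition, and the ring is not adically complete for that kernel.) -/
theorem result
    (A : Type u) [CommRing A] [UniformSpace A] [IsUniformAddGroup A] [IsTopologicalRing A]
    (hA : LinTop.IsAdmissible A) (J : Ideal A) (hJ : LinTop.IsIdealOfDefinition A J)
    (I : Ideal A) (hI : I.FG) (hIJ : I ≤ J) :
    IsAdicComplete I A := by
  classical
  have hT2 : T2Space A := hA.2.1
  have hJpow : ∀ n, I ^ n ≤ J ^ n := fun n => Ideal.pow_right_mono hIJ n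
  have e : ∀ n : ℕ, (I ^ n • ⊤ : Submodule A A) = I ^ n := fun n => by
    rw [smul_eq_mul]; exact Ideal.mul_top _
  have haus : IsHausdorff I A := ⟨fun x hx => by
    by_contra hne
    have hU : ({x}ᶜ : Set A) ∈ nhds (0 : A) :=
      isOpen_compl_singleton.mem_nhds (by simpa using Ne.symm hne)
    obtain ⟨n, -, hn⟩ := hJ.2 _ hU
    have hxn : x ∈ I ^ n := by
      have := hx n
      rwa [SModEq.zero, e] at this
    exact hn (hJpow n hxn) rfl⟩
  have prec : IsPrecomplete I A := ⟨fun f hf => by
    set d : ℕ → A := fun k => f (k + 1) - f k with hd
    have hdI : ∀ k, d k ∈ I ^ k := fun k => by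
      have := (hf (Nat.le_succ k)).symm
      rwa [SModEq.sub_mem, e] at this
    have hdsum : Summable d :=
      Groth.Agent.Lib.Helper22.summable_of_eventually_mem_pow hA J hJ d
        (fun N => ⟨N, fun k hk => Ideal.pow_le_pow_right hk (hJpow k (hdI k))⟩)
    refine ⟨f 0 + ∑' k, d k, fun n => ?_⟩
    rw [SModEq.sub_mem, e]
    have htel : ∑ k ∈ Finset.range n, d k = f n - f 0 := Finset.sum_range_sub f n
    have hsplit := hdsum.sum_add_tsum_nat_add n
    have hrew : f n - (f 0 + ∑' k, d k) = -(∑' k, d (k + n)) := by
      rw [← hsplit, htel]; ring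
    rw [hrew]
    apply neg_mem
    obtain ⟨S, hS⟩ := hI.pow (n := n)
    have hmem : ∀ k, d (k + n) ∈ Ideal.span (S : Set A) * I ^ k := fun k => by
      have h1 : Ideal.span (S : Set A) = I ^ n := hS
      rw [h1, ← pow_add, add_comm]
      exact hdI (k + n)
    choose c hcI hceq using fun k =>
      Groth.Agent.Lib.Helper22.exists_coeff_of_mem_span_finset_mul S (I ^ k) (d (k + n)) (hmem k)
    have hcsum : ∀ a, Summable (fun k => c k a) := fun a =>
      Groth.Agent.Lib.Helper22.summable_of_eventually_mem_pow hA J hJ _
        (fun N => ⟨N, fun k hk => Ideal.pow_le_pow_right hk (hJpow k (hcI k a))⟩)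
    have hfinal : ∑' k, d (k + n) = ∑ a ∈ S, a * ∑' k, c k a := by
      simp_rw [hceq]
      rw [Summable.tsum_finsetSum (fun a _ => (hcsum a).mul_left a)]
      exact Finset.sum_congr rfl fun a _ => (hcsum a).tsum_mul_left a
    rw [hfinal]
    have h1 : Ideal.span (S : Set A) = I ^ n := hS
    rw [← h1]
    exact Ideal.sum_mem _ fun a ha => Ideal.mul_mem_right _ _ (Ideal.subset_span ha)⟩
  exact (isAdicComplete_iff I A).mpr ⟨haus, prec⟩

end Groth.Agent.S4338
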