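import Groth.Statements.S4341
import Mathlib
import Groth.Agent.Lib.Helper22.QCohExt

set_option autoImplicit false
universe u
open QCohSup

namespace Groth.Agent.S4341

open AlgebraicGeometry in
open CategoryTheory in
open Opposite in
/-- Case of the trivial invertible sheaf. Let X be a quasi-compact quasi-separated scheme, f a global
section of O_X, F a quasi-coherent O_X-module and t a section of F over X_f. Then there is an n > 0
such that f^n t is the restriction of a global section of F. (The published statement assumes X with
Noetherian underlying space, or separated and quasi-compact; both are quasi-compact quasi-separated,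
which is what the argument uses: a finite affine cover with quasi-compact pairwise intersections.) -/
theorem result
    (X : Scheme.{u}) [CompactSpace X] [QuasiSeparatedSpace X] (f : Γ(X, ⊤))
    (F : X.Modules) [Coh.IsQCoh F] (t : F.val.obj (op (X.basicOpen f))) :
    ∃ n : ℕ, 0 < n ∧ ∃ s : F.val.obj (op ⊤),
      (F.val.map (homOfLE (le_top : X.basicOpen f ≤ ⊤)).op).hom s =
        (show X.ringCatSheaf.obj.obj (op (X.basicOpen f)) from
          X.presheaf.map (homOfLE (le_top : X.basicOpen f ≤ ⊤)).op f) ^ n • t := by
  have : F.IsQuasicoherent := ‹Coh.IsQCoh F›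
  obtain ⟨n, s, hs⟩ :=
    Groth.Agent.Lib.Helper22.exists_pow_smul_eq_map_of_isCompact_of_isQuasiSeparated F
      (U := ⊤) isCompact_univ (isQuasiSeparated_univ_iff.mpr inferInstance) f t
  refine ⟨n + 1, Nat.succ_pos n, (f • s : Γ(F, ⊤)), ?_⟩
  have h1 := Scheme.Modules.map_smul F (homOfLE (le_top : X.basicOpen f ≤ ⊤)) f s
  refine h1.trans ?_
  rw [hs, ← mul_smul, ← pow_succ']
  rfl

end Groth.Agent.S4341
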