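import Groth.Statements.S4344
import Mathlib

set_option autoImplicit false
universe u
open RatMapD

namespace Groth.Agent.S4344

open AlgebraicGeometry CategoryTheory Limits

variable (S : Scheme.{u}) {X Y : Scheme.{u}} [X.Over S] [Y.Over S]

/-- The `S`-representatives of a rational map. -/
def Rep (f : X ⤏ Y) : Type u := {h : X.PartialMap Y // h.IsOver S ∧ h.toRationalMap = f}

/-- The union of the domains of the `S`-representatives. -/
def dom (f : X ⤏ Y) : X.Opens := ⨆ h : Rep S f, h.1.domain

set_option backward.isDefEq.respectTransparency false in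
/-- The open cover of `dom S f` by the domains of the `S`-representatives. -/
noncomputable def cover (f : X ⤏ Y) : (dom S f).toScheme.OpenCover where
  I₀ := Rep S f
  X h := h.1.domain.toScheme
  f h := X.homOfLE (le_iSup (fun h : Rep S f => h.1.domain) h)
  mem₀ := by
    rw [Scheme.presieve₀_mem_precoverage_iff]
    refine ⟨fun x ↦ ?_, inferInstance⟩
    obtain ⟨h, hx⟩ := TopologicalSpace.Opens.mem_iSup.mp x.2
    exact ⟨h, ⟨x.1, hx⟩, Subtype.ext (by simp)⟩


variable [IsReduced X] [IsSeparated (Y ↘ S)]

set_option backward.isDefEq.respectTransparency false in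
lemma compat (f : X ⤏ Y) (x y : Rep S f) :
    pullback.fst ((cover S f).f x) ((cover S f).f y) ≫ x.1.hom =
      pullback.snd ((cover S f).f x) ((cover S f).f y) ≫ y.1.hom := by
  have := x.2.1
  have := y.2.1
  refine (cancel_epi (isPullback_opens_inf_le
    (le_iSup (fun h : Rep S f => h.1.domain) x)
    (le_iSup (fun h : Rep S f => h.1.domain) y)).isoPullback.hom).mp ?_
  simp only [cover, IsPullback.isoPullback_hom_fst_assoc, IsPullback.isoPullback_hom_snd_assoc]
  exact (Scheme.PartialMap.equiv_iff_of_isSeparated (S := S) (f := x.1) (g := y.1)).mp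
    (by rw [← Scheme.PartialMap.toRationalMap_eq_iff, x.2.2, y.2.2])

/-- The glued morphism. -/
noncomputable def gluedHom (f : X ⤏ Y) : (dom S f).toScheme ⟶ Y :=
  (cover S f).glueMorphisms (fun h => h.1.hom) (compat S f)

lemma cover_f_glued (f : X ⤏ Y) (h : Rep S f) (hle : h.1.domain ≤ dom S f) :
    X.homOfLE hle ≫ gluedHom S f = h.1.hom :=
  (cover S f).ι_glueMorphisms _ _ h

omit [IsReduced X] [IsSeparated (Y ↘ S)] in
lemma dense_dom (f : X ⤏ Y) [f.IsOver S] : Dense ((dom S f : X.Opens) : Set X) := by
  obtain ⟨h, h1, h2⟩ := Scheme.RationalMap.exists_partialMap_over S f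
  exact h.dense_domain.mono (le_iSup (fun h : Rep S f => h.1.domain) ⟨h, h1, h2⟩)

lemma gluedHom_isOver (f : X ⤏ Y) : (gluedHom S f).IsOver S := by
  constructor
  refine (cover S f).hom_ext _ _ ?_
  intro (h : Rep S f)
  have : h.1.hom.IsOver S := h.2.1
  have hle : h.1.domain ≤ dom S f := le_iSup (fun h : Rep S f => h.1.domain) h
  change X.homOfLE hle ≫ gluedHom S f ≫ Y ↘ S = X.homOfLE hle ≫ _
  rw [← Category.assoc, cover_f_glued S f h hle, CategoryTheory.comp_over]
  rw [← Scheme.Opens.ι_comp_over, ← Scheme.Opens.ι_comp_over, Scheme.homOfLE_ι_assoc]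

set_option backward.isDefEq.respectTransparency.types false in
set_option backward.defeqAttrib.useBackward true in
lemma restrict_eq (f : X ⤏ Y) [f.IsOver S] (h : X.PartialMap Y) (h1 : h.IsOver S)
    (h2 : h.toRationalMap = f) (hle : h.domain ≤ dom S f) :
    (⟨dom S f, dense_dom S f, gluedHom S f⟩ : X.PartialMap Y).restrict
      h.domain h.dense_domain hle = h := by
  refine Scheme.PartialMap.ext _ _ rfl ?_
  simpa using cover_f_glued S f ⟨h, h1, h2⟩ hle

open AlgebraicGeometry in
open CategoryTheory in
/-- Let X be a reduced S-scheme, Y an S-scheme separated over S and f an S-rational map from X to Y.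
There is a representative g of f which is an S-morphism and of which every S-morphism representing f
is a restriction; in particular g is the unique S-morphism of the class of f defined on the largest
open where some S-representative is defined. (The published statement speaks of the domain of
definition among all representatives; over a base that is not separated that domain can be larger
than the one on which an S-representative exists, and this row takes the latter.) -/
theorem result
    (S X Y : Scheme.{u}) [X.Over S] [Y.Over S] [IsReduced X] [IsSeparated (Y ↘ S)]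
    (f : X ⤏ Y) [f.IsOver S] :
    ∃ g : X.PartialMap Y, g.IsOver S ∧ g.toRationalMap = f ∧
      ∀ h : X.PartialMap Y, h.IsOver S → h.toRationalMap = f →
        ∃ hle : h.domain ≤ g.domain, h = g.restrict h.domain h.dense_domain hle := by
  refine ⟨⟨dom S f, dense_dom S f, gluedHom S f⟩, gluedHom_isOver S f, ?_, ?_⟩
  · obtain ⟨h, h1, h2⟩ := Scheme.RationalMap.exists_partialMap_over S f
    have hle : h.domain ≤ dom S f := le_iSup (fun h : Rep S f => h.1.domain) ⟨h, h1, h2⟩
    rw [← Scheme.PartialMap.restrict_toRationalMap _ h.domain h.dense_domain hle,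
      restrict_eq S f h h1 h2 hle, h2]
  · intro h h1 h2
    have hle : h.domain ≤ dom S f := le_iSup (fun h : Rep S f => h.1.domain) ⟨h, h1, h2⟩
    exact ⟨hle, (restrict_eq S f h h1 h2 hle).symm⟩

end Groth.Agent.S4344
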