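import Groth.Statements.S4345
import Mathlib
import Groth.Agent.Lib.Helper22.LocalSubringLib
-- import your own Groth.Agent.* helpers here

set_option autoImplicit false
universe u
open SchLoc

namespace Groth.Agent.S4345

/-- Let A and B be subrings of a field R, C the subring generated by A and B, and for a subring E let
L(E) be the set of local subrings E_p of R, p a prime ideal of E. The following are equivalent: (i)
for every local subring Q of R containing A and B, the localizations of A and of B at the traces of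
the maximal ideal of Q coincide; (ii) for every prime ideal r of C the localizations of A and B at
the traces of r coincide; (iii) two members of L(A) and L(B) dominated by a common local subring of
R are equal; (iv) the intersection of L(A) and L(B) is L(C). -/
theorem result
    (R : Type u) [Field R] (A B : Subring R) :
    [ ∀ (Q : LocalSubring R) (hA : A ≤ Q.toSubring) (hB : B ≤ Q.toSubring),
        LocalSubring.ofPrime A ((IsLocalRing.maximalIdeal Q.toSubring).comap (Subring.inclusion hA)) =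
          LocalSubring.ofPrime B ((IsLocalRing.maximalIdeal Q.toSubring).comap (Subring.inclusion hB)),
      ∀ r : PrimeSpectrum ↥(A ⊔ B),
        LocalSubring.ofPrime A (r.asIdeal.comap (Subring.inclusion (le_sup_left : A ≤ A ⊔ B))) =
          LocalSubring.ofPrime B (r.asIdeal.comap (Subring.inclusion (le_sup_right : B ≤ A ⊔ B))),
      ∀ (p : PrimeSpectrum A) (q : PrimeSpectrum B),
        (∃ Q : LocalSubring R, LocalSubring.ofPrime A p.asIdeal ≤ Q ∧ LocalSubring.ofPrime B q.asIdeal ≤ Q) →
          LocalSubring.ofPrime A p.asIdeal = LocalSubring.ofPrime B q.asIdeal,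
      Set.range (fun p : PrimeSpectrum A ↦ LocalSubring.ofPrime A p.asIdeal) ∩
          Set.range (fun q : PrimeSpectrum B ↦ LocalSubring.ofPrime B q.asIdeal) =
        Set.range (fun r : PrimeSpectrum ↥(A ⊔ B) ↦ LocalSubring.ofPrime (A ⊔ B) r.asIdeal) ].TFAE := by
  have hAC : A ≤ A ⊔ B := le_sup_left
  have hBC : B ≤ A ⊔ B := le_sup_right
  -- trace of `C_r` on a subring of `C`
  have trace_ofPrime_sub : ∀ (A' : Subring R) (hA'C : A' ≤ A ⊔ B) (r : PrimeSpectrum ↥(A ⊔ B)),
      Groth.Agent.Lib.Helper22.traceIdeal A' (LocalSubring.ofPrime (A ⊔ B) r.asIdeal)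
        (hA'C.trans (LocalSubring.le_ofPrime (A ⊔ B) r.asIdeal)) =
      r.asIdeal.comap (Subring.inclusion hA'C) := by
    intro A' hA'C r
    rw [← Groth.Agent.Lib.Helper22.traceIdeal_comap A' (A ⊔ B) hA'C _
      (LocalSubring.le_ofPrime (A ⊔ B) r.asIdeal),
      Groth.Agent.Lib.Helper22.traceIdeal_ofPrime]
  -- trace of a local ring equal to `A'_p` on `A'`
  have trace_of_eq : ∀ (A' : Subring R) (p : PrimeSpectrum A') (D : LocalSubring R)
      (_ : LocalSubring.ofPrime A' p.asIdeal = D) (hAD : A' ≤ D.toSubring),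
      Groth.Agent.Lib.Helper22.traceIdeal A' D hAD = p.asIdeal := by
    rintro A' p _ rfl _
    exact Groth.Agent.Lib.Helper22.traceIdeal_ofPrime A' p.asIdeal
  tfae_have 1 → 2 := by
    intro h r
    have hCQ := LocalSubring.le_ofPrime (A ⊔ B) r.asIdeal
    have h1 := h (LocalSubring.ofPrime (A ⊔ B) r.asIdeal) (hAC.trans hCQ) (hBC.trans hCQ)
    have eA := trace_ofPrime_sub A hAC r
    have eB := trace_ofPrime_sub B hBC r
    calc LocalSubring.ofPrime A (r.asIdeal.comap (Subring.inclusion hAC))
        = LocalSubring.ofPrime A (Groth.Agent.Lib.Helper22.traceIdeal A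
            (LocalSubring.ofPrime (A ⊔ B) r.asIdeal) (hAC.trans hCQ)) :=
          Groth.Agent.Lib.Helper22.ofPrime_congr A eA.symm
      _ = LocalSubring.ofPrime B (Groth.Agent.Lib.Helper22.traceIdeal B
            (LocalSubring.ofPrime (A ⊔ B) r.asIdeal) (hBC.trans hCQ)) := h1
      _ = LocalSubring.ofPrime B (r.asIdeal.comap (Subring.inclusion hBC)) :=
          Groth.Agent.Lib.Helper22.ofPrime_congr B eB
  tfae_have 2 → 1 := by
    intro h Q hA hB
    have hCQ : A ⊔ B ≤ Q.toSubring := sup_le hA hB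
    have h1 := h ⟨Groth.Agent.Lib.Helper22.traceIdeal (A ⊔ B) Q hCQ, inferInstance⟩
    have eA := Groth.Agent.Lib.Helper22.traceIdeal_comap A (A ⊔ B) hAC Q hCQ
    have eB := Groth.Agent.Lib.Helper22.traceIdeal_comap B (A ⊔ B) hBC Q hCQ
    calc LocalSubring.ofPrime A (Groth.Agent.Lib.Helper22.traceIdeal A Q hA)
        = LocalSubring.ofPrime A ((Groth.Agent.Lib.Helper22.traceIdeal (A ⊔ B) Q hCQ).comap
            (Subring.inclusion hAC)) := Groth.Agent.Lib.Helper22.ofPrime_congr A eA.symm
      _ = LocalSubring.ofPrime B ((Groth.Agent.Lib.Helper22.traceIdeal (A ⊔ B) Q hCQ).comap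
            (Subring.inclusion hBC)) := h1
      _ = LocalSubring.ofPrime B (Groth.Agent.Lib.Helper22.traceIdeal B Q hB) :=
          Groth.Agent.Lib.Helper22.ofPrime_congr B eB
  tfae_have 1 → 3 := by
    rintro h p q ⟨Q, hpQ, hqQ⟩
    have hA : A ≤ Q.toSubring := (LocalSubring.le_ofPrime A p.asIdeal).trans hpQ.1
    have hB : B ≤ Q.toSubring := (LocalSubring.le_ofPrime B q.asIdeal).trans hqQ.1
    have h1 := h Q hA hB
    have eA : Groth.Agent.Lib.Helper22.traceIdeal A Q hA = p.asIdeal := by
      rw [← Groth.Agent.Lib.Helper22.traceIdeal_eq_of_le A hpQ (LocalSubring.le_ofPrime A p.asIdeal),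
        Groth.Agent.Lib.Helper22.traceIdeal_ofPrime]
    have eB : Groth.Agent.Lib.Helper22.traceIdeal B Q hB = q.asIdeal := by
      rw [← Groth.Agent.Lib.Helper22.traceIdeal_eq_of_le B hqQ (LocalSubring.le_ofPrime B q.asIdeal),
        Groth.Agent.Lib.Helper22.traceIdeal_ofPrime]
    calc LocalSubring.ofPrime A p.asIdeal
        = LocalSubring.ofPrime A (Groth.Agent.Lib.Helper22.traceIdeal A Q hA) :=
          Groth.Agent.Lib.Helper22.ofPrime_congr A eA.symm
      _ = LocalSubring.ofPrime B (Groth.Agent.Lib.Helper22.traceIdeal B Q hB) := h1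
      _ = LocalSubring.ofPrime B q.asIdeal := Groth.Agent.Lib.Helper22.ofPrime_congr B eB
  tfae_have 3 → 1 := by
    intro h Q hA hB
    exact h ⟨Groth.Agent.Lib.Helper22.traceIdeal A Q hA, inferInstance⟩
      ⟨Groth.Agent.Lib.Helper22.traceIdeal B Q hB, inferInstance⟩
      ⟨Q, Groth.Agent.Lib.Helper22.ofPrime_traceIdeal_le A Q hA,
        Groth.Agent.Lib.Helper22.ofPrime_traceIdeal_le B Q hB⟩
  tfae_have 2 → 4 := by
    intro h
    ext D
    constructor
    · rintro ⟨⟨p, hp⟩, ⟨q, hq⟩⟩
      simp only at hp hq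
      have hAD : A ≤ D.toSubring := hp ▸ LocalSubring.le_ofPrime A p.asIdeal
      have hBD : B ≤ D.toSubring := hq ▸ LocalSubring.le_ofPrime B q.asIdeal
      have hCD : A ⊔ B ≤ D.toSubring := sup_le hAD hBD
      refine ⟨⟨Groth.Agent.Lib.Helper22.traceIdeal (A ⊔ B) D hCD, inferInstance⟩, ?_⟩
      simp only
      have hED := Groth.Agent.Lib.Helper22.ofPrime_traceIdeal_le (A ⊔ B) D hCD
      refine le_antisymm hED ?_
      -- D = A_p ≤ E
      have hAE : A ≤ (LocalSubring.ofPrime (A ⊔ B)
          (Groth.Agent.Lib.Helper22.traceIdeal (A ⊔ B) D hCD)).toSubring :=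
        hAC.trans (LocalSubring.le_ofPrime _ _)
      have e1 : Groth.Agent.Lib.Helper22.traceIdeal A _ hAE = p.asIdeal := by
        rw [Groth.Agent.Lib.Helper22.traceIdeal_eq_of_le A hED hAE]
        exact trace_of_eq A p D hp _
      have h2 := Groth.Agent.Lib.Helper22.ofPrime_traceIdeal_le A _ hAE
      rw [Groth.Agent.Lib.Helper22.ofPrime_congr A e1, hp] at h2
      exact h2
    · rintro ⟨r, hr⟩
      simp only at hr
      have h1 := h r
      -- F := A_{r ∩ A} = B_{r ∩ B}
      have hCQ := LocalSubring.le_ofPrime (A ⊔ B) r.asIdeal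
      have eA := trace_ofPrime_sub A hAC r
      have hFD : LocalSubring.ofPrime A (r.asIdeal.comap (Subring.inclusion hAC)) ≤
          LocalSubring.ofPrime (A ⊔ B) r.asIdeal := by
        have := Groth.Agent.Lib.Helper22.ofPrime_traceIdeal_le A
          (LocalSubring.ofPrime (A ⊔ B) r.asIdeal) (hAC.trans hCQ)
        rwa [Groth.Agent.Lib.Helper22.ofPrime_congr A eA] at this
      have hAF : A ≤ (LocalSubring.ofPrime A
          (r.asIdeal.comap (Subring.inclusion hAC))).toSubring := LocalSubring.le_ofPrime _ _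
      have hBF : B ≤ (LocalSubring.ofPrime A
          (r.asIdeal.comap (Subring.inclusion hAC))).toSubring := by
        rw [h1]; exact LocalSubring.le_ofPrime _ _
      have hCF : A ⊔ B ≤ (LocalSubring.ofPrime A
          (r.asIdeal.comap (Subring.inclusion hAC))).toSubring := sup_le hAF hBF
      have e2 : Groth.Agent.Lib.Helper22.traceIdeal (A ⊔ B) _ hCF = r.asIdeal := by
        rw [Groth.Agent.Lib.Helper22.traceIdeal_eq_of_le (A ⊔ B) hFD hCF]
        exact Groth.Agent.Lib.Helper22.traceIdeal_ofPrime (A ⊔ B) r.asIdeal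
      have hDF := Groth.Agent.Lib.Helper22.ofPrime_traceIdeal_le (A ⊔ B) _ hCF
      rw [Groth.Agent.Lib.Helper22.ofPrime_congr (A ⊔ B) e2] at hDF
      have hEq : LocalSubring.ofPrime A (r.asIdeal.comap (Subring.inclusion hAC)) =
          LocalSubring.ofPrime (A ⊔ B) r.asIdeal := le_antisymm hFD hDF
      refine ⟨⟨⟨r.asIdeal.comap (Subring.inclusion hAC), inferInstance⟩, ?_⟩,
        ⟨⟨r.asIdeal.comap (Subring.inclusion hBC), inferInstance⟩, ?_⟩⟩
      · simp only; rw [hEq, hr]
      · simp only; rw [← h1, hEq, hr]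
  tfae_have 4 → 2 := by
    intro h r
    have hmem : LocalSubring.ofPrime (A ⊔ B) r.asIdeal ∈
        Set.range (fun r : PrimeSpectrum ↥(A ⊔ B) ↦ LocalSubring.ofPrime (A ⊔ B) r.asIdeal) :=
      ⟨r, rfl⟩
    rw [← h] at hmem
    obtain ⟨⟨p, hp⟩, ⟨q, hq⟩⟩ := hmem
    simp only at hp hq
    have hCQ := LocalSubring.le_ofPrime (A ⊔ B) r.asIdeal
    have eA : p.asIdeal = r.asIdeal.comap (Subring.inclusion hAC) := by
      rw [← trace_of_eq A p _ hp (hAC.trans hCQ)]
      exact trace_ofPrime_sub A hAC r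
    have eB : q.asIdeal = r.asIdeal.comap (Subring.inclusion hBC) := by
      rw [← trace_of_eq B q _ hq (hBC.trans hCQ)]
      exact trace_ofPrime_sub B hBC r
    rw [← Groth.Agent.Lib.Helper22.ofPrime_congr A eA, ← Groth.Agent.Lib.Helper22.ofPrime_congr B eB,
      hp, hq]
  tfae_finish

end Groth.Agent.S4345
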