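import Groth.Statements.S4346
import Mathlib
-- import your own Groth.Agent.* helpers here

set_option autoImplicit false
universe u
open SchLoc

namespace Groth.Agent.S4346

open AlgebraicGeometry in
/-- On an integral separated scheme distinct points have distinct local rings inside the function field. -/
theorem result (X : Scheme.{u}) [IsIntegral X] [X.IsSeparated] :
    Function.Injective (fun x : X ↦ (algebraMap (X.presheaf.stalk x) X.functionField).range) := by
  intro x y hxy
  simp only at hxy
  have hinjx : Function.Injective (algebraMap (X.presheaf.stalk x) X.functionField) :=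
    IsFractionRing.injective _ _
  have hinjy : Function.Injective (algebraMap (X.presheaf.stalk y) X.functionField) :=
    IsFractionRing.injective _ _
  let ex : X.presheaf.stalk x ≃+* (algebraMap (X.presheaf.stalk x) X.functionField).range :=
    RingEquiv.ofBijective (algebraMap (X.presheaf.stalk x) X.functionField).rangeRestrict
      ⟨fun a b h => hinjx (congrArg Subtype.val h), RingHom.rangeRestrict_surjective _⟩
  let ey : X.presheaf.stalk y ≃+* (algebraMap (X.presheaf.stalk y) X.functionField).range :=
    RingEquiv.ofBijective (algebraMap (X.presheaf.stalk y) X.functionField).rangeRestrict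
      ⟨fun a b h => hinjy (congrArg Subtype.val h), RingHom.rangeRestrict_surjective _⟩
  let ψ : X.presheaf.stalk y ≃+* X.presheaf.stalk x :=
    (ey.trans (RingEquiv.subringCongr hxy.symm)).trans ex.symm
  have hψ : ∀ b, algebraMap (X.presheaf.stalk x) X.functionField (ψ b) =
      algebraMap (X.presheaf.stalk y) X.functionField b := by
    intro b
    have h1 : ex (ψ b) = RingEquiv.subringCongr hxy.symm (ey b) := by
      simp only [ψ, RingEquiv.trans_apply, RingEquiv.apply_symm_apply]
    have h2 := congrArg Subtype.val h1
    exact h2
  have hspx : genericPoint X ⤳ x := (genericPoint_spec X).specializes trivial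
  have hspy : genericPoint X ⤳ y := (genericPoint_spec X).specializes trivial
  let ι : Spec (X.presheaf.stalk (genericPoint X)) ⟶ Spec (X.presheaf.stalk x) :=
    Spec.map (X.presheaf.stalkSpecializes hspx)
  let ψ' : X.presheaf.stalk y ⟶ X.presheaf.stalk x := CommRingCat.ofHom ψ.toRingHom
  have hcomp : CategoryTheory.CategoryStruct.comp ψ' (X.presheaf.stalkSpecializes hspx) =
      X.presheaf.stalkSpecializes hspy := by
    ext b
    exact hψ b
  have hdom : IsDominant ι := by
    constructor
    change DenseRange (PrimeSpectrum.comap (X.presheaf.stalkSpecializes hspx).hom)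
    rw [PrimeSpectrum.denseRange_comap_iff_ker_le_nilRadical]
    have : RingHom.ker (X.presheaf.stalkSpecializes hspx).hom = ⊥ :=
      (RingHom.injective_iff_ker_eq_bot _).mp hinjx
    rw [this]
    exact bot_le
  have heq : X.fromSpecStalk x =
      CategoryTheory.CategoryStruct.comp (Spec.map ψ') (X.fromSpecStalk y) := by
    refine ext_of_isDominant ι ?_
    rw [Scheme.SpecMap_stalkSpecializes_fromSpecStalk, ← CategoryTheory.Category.assoc, ← Spec.map_comp, hcomp,
      Scheme.SpecMap_stalkSpecializes_fromSpecStalk]
  have h1 := congrArg (fun f => f (IsLocalRing.closedPoint (X.presheaf.stalk x))) heq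
  simp only [Scheme.Hom.comp_apply, Scheme.fromSpecStalk_closedPoint] at h1
  have h2 : Spec.map ψ' (IsLocalRing.closedPoint (X.presheaf.stalk x)) =
      IsLocalRing.closedPoint (X.presheaf.stalk y) := by
    change PrimeSpectrum.comap ψ.toRingHom _ = _
    have : IsLocalHom ψ.toRingHom := ⟨fun a ha => by
      have : IsUnit (ψ a) := ha
      simpa using this⟩
    exact IsLocalRing.comap_closedPoint ψ.toRingHom
  rw [h2, Scheme.fromSpecStalk_closedPoint] at h1
  exact h1

end Groth.Agent.S4346
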