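import Groth.Statements.S4347
import Mathlib
import Groth.Agent.Lib.Helper83.FlatCompl

set_option autoImplicit false
universe u
open AdicRing

namespace Groth.Agent.S4347

/-- The completed ring of fractions of A with denominators in a multiplicative subset being the J-adic
completion of the localization of A at that subset: Let A be a Noetherian ring with the J-adic
topology and S' a multiplicative subset contained in the multiplicative subset S. Then the canonical
map from the completed ring of fractions of A with denominators in S' to the one with denominators
in S is flat. (The published statement assumes A adic, i.e. also separated and complete; that is not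
needed for this assertion.) -/
theorem result
    (A : Type u) [CommRing A] [IsNoetherianRing A] (J : Ideal A) (S' S : Submonoid A) (hS : S' ≤ S)
    (g : Localization S' →+* Localization S)
    (hg : g.comp (algebraMap A (Localization S')) = algebraMap A (Localization S))
    (hJ : (J.map (algebraMap A (Localization S'))).map g ≤ J.map (algebraMap A (Localization S))) :
    (FSch.complMap (J.map (algebraMap A (Localization S'))) (J.map (algebraMap A (Localization S)))
      g hJ).Flat := by
  have hN' : IsNoetherianRing (Localization S') :=
    IsLocalization.isNoetherianRing S' (Localization S') inferInstance
  have hN : IsNoetherianRing (Localization S) :=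
    IsLocalization.isNoetherianRing S (Localization S) inferInstance
  have hgflat : g.Flat := by
    let _ : Algebra (Localization S') (Localization S) := g.toAlgebra
    have : IsScalarTower A (Localization S') (Localization S) :=
      IsScalarTower.of_algebraMap_eq (fun a => (RingHom.congr_fun hg a).symm)
    have : IsLocalization (Submonoid.map (algebraMap A (Localization S')) S) (Localization S) :=
      IsLocalization.isLocalization_of_submonoid_le (Localization S') (Localization S) S' S hS
    exact IsLocalization.flat (Localization S) (Submonoid.map (algebraMap A (Localization S')) S)
  apply Groth.Agent.Lib.Helper83.FlatCompl.flat_of_map_adicCompletion _ _ g hJ hgflat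
  intro a
  apply AdicCompletion.ext_evalₐ
  intro n
  have key : AdicCompletion.evalₐ _ n (FSch.complMap (J.map (algebraMap A (Localization S')))
      (J.map (algebraMap A (Localization S))) g hJ (AdicCompletion.of _ _ a)) =
      ((Ideal.quotientMap ((J.map (algebraMap A (Localization S))) ^ n) g
        (FSch.pow_le_comap_pow_of_map_le _ _ g hJ n)).comp
        (AdicCompletion.evalₐ (J.map (algebraMap A (Localization S'))) n).toRingHom)
        (AdicCompletion.of _ _ a) := by
    unfold FSch.complMap
    generalize_proofs
    exact AdicCompletion.evalₐ_liftRingHom _ _ (by assumption) n _
  rw [key]
  simp [AdicCompletion.evalₐ_of]

end Groth.Agent.S4347
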