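import Groth.Statements.S4356
import Groth.Agent.Lib.QCoh.Helper74_RatEmb
import Groth.Agent.Lib.QCoh.Helper50_PullbackSections

set_option autoImplicit false
set_option linter.style.haveILetI false
universe u
open TorSh

namespace Groth.Agent.S4356

section aux
open CategoryTheory CategoryTheory.Limits AlgebraicGeometry Opposite TopologicalSpace
open Groth.Agent.Lib.QCoh Groth.Agent.Lib.QCoh.RatEmb74

variable (X : Scheme.{u}) [IsIntegral X]

theorem genericPoint_mem (V : X.Opens) (x : X) (hx : x ∈ V) : genericPoint X ∈ V :=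
  ((genericPoint_spec X).mem_open_set_iff V.isOpen).2 ⟨x, Set.mem_univ _, hx⟩

theorem iotaU_surjective (U : X.Opens) (h : genericPoint X ∈ U) :
    Function.Surjective (iotaU X U).hom := by
  have htop : (⊤ : (Spec (X.presheaf.stalk (genericPoint X))).Opens) ≤
      X.fromSpecStalk (genericPoint X) ⁻¹ᵁ U := (preimage_eq_top X U h).ge
  intro t
  refine ⟨(Scheme.ΓSpecIso (X.presheaf.stalk (genericPoint X))).hom.hom
    (((Spec (X.presheaf.stalk (genericPoint X))).presheaf.map (homOfLE htop).op).hom t), ?_⟩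
  unfold iotaU
  rw [CommRingCat.comp_apply]
  have e1 : ∀ y, (Scheme.ΓSpecIso (X.presheaf.stalk (genericPoint X))).inv.hom
      ((Scheme.ΓSpecIso (X.presheaf.stalk (genericPoint X))).hom.hom y) = y := by
    intro y
    rw [← CommRingCat.comp_apply, Iso.hom_inv_id]
    rfl
  rw [e1, ← CommRingCat.comp_apply, ← Functor.map_comp]
  have h2 : (homOfLE htop).op ≫
      (homOfLE (le_top : X.fromSpecStalk (genericPoint X) ⁻¹ᵁ U ≤ ⊤)).op = 𝟙 _ := rfl
  rw [h2, CategoryTheory.Functor.map_id]
  rfl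

theorem smul_eq (V : X.Opens) (h : genericPoint X ∈ V) (f : Γ(X, V)) (t : Γ(KX X, V)) :
    f • t = (show Γ(KX X, V) from (iotaU X V).hom (X.presheaf.germ V (genericPoint X) h f) *
      (show Γ(Spec (X.presheaf.stalk (genericPoint X)),
        X.fromSpecStalk (genericPoint X) ⁻¹ᵁ V) from t)) := by
  rw [smul_KX, Scheme.fromSpecStalk_app h]
  rfl

theorem eq_zero_of_smul_eq_zero (V : X.Opens) (h : genericPoint X ∈ V)
    (f : Γ(X, V)) (hf : f ≠ 0) (t : Γ(KX X, V)) (hft : f • t = 0) : t = 0 := by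
  have hg : X.presheaf.germ V (genericPoint X) h f ≠ 0 := by
    intro h0
    apply hf
    apply germ_injective_of_isIntegral X (genericPoint X) h
    rw [h0, map_zero]
  have hu : IsUnit (X.presheaf.germ V (genericPoint X) h f) := hg.isUnit
  have hu' : IsUnit ((iotaU X V).hom (X.presheaf.germ V (genericPoint X) h f)) := hu.map _
  rw [smul_eq X V h] at hft
  exact hu'.mul_right_eq_zero.1 hft

variable (G : X.Modules) (i : G ⟶ KX X) [Mono i]

include i in
theorem isTorsionFree : TorSh.IsTorsionFree G := by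
  intro x
  refine Module.IsTorsionFree.of_smul_eq_zero fun a m ham => ?_
  by_contra hcon
  push Not at hcon
  obtain ⟨ha, hm⟩ := hcon
  obtain ⟨U1, hxU1, f, hf⟩ := TopCat.Presheaf.exists_germ_eq X.presheaf a
  obtain ⟨U2, hxU2, s, hs⟩ := TopCat.Presheaf.exists_germ_eq G.presheaf m
  have hxW : x ∈ U1 ⊓ U2 := ⟨hxU1, hxU2⟩
  have h0 : G.presheaf.germ (U1 ⊓ U2) x hxW
      (X.presheaf.map (homOfLE (inf_le_left : U1 ⊓ U2 ≤ U1)).op f •
        G.presheaf.map (homOfLE (inf_le_right : U1 ⊓ U2 ≤ U2)).op s) =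
      G.presheaf.germ (U1 ⊓ U2) x hxW 0 := by
    rw [germ_smul, TopCat.Presheaf.germ_res_apply, TopCat.Presheaf.germ_res_apply, hf, hs, ham,
      map_zero]
  obtain ⟨V, hxV, iU, iV, hV⟩ := TopCat.Presheaf.germ_eq G.presheaf x hxW hxW _ _ h0
  rw [map_zero, G.map_smul] at hV
  have hξ : genericPoint X ∈ V := genericPoint_mem X V x hxV
  have h1 : i.app V (X.presheaf.map iU.op
      (X.presheaf.map (homOfLE (inf_le_left : U1 ⊓ U2 ≤ U1)).op f) •
      G.presheaf.map iU.op (G.presheaf.map (homOfLE (inf_le_right : U1 ⊓ U2 ≤ U2)).op s)) = 0 := by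
    rw [hV, map_zero]
  rw [Scheme.Modules.Hom.app_smul] at h1
  have hf'' : X.presheaf.map iU.op
      (X.presheaf.map (homOfLE (inf_le_left : U1 ⊓ U2 ≤ U1)).op f) ≠ 0 := by
    intro h0'
    apply ha
    rw [← hf, ← TopCat.Presheaf.germ_res_apply X.presheaf
      (homOfLE (inf_le_left : U1 ⊓ U2 ≤ U1)) x hxW f,
      ← TopCat.Presheaf.germ_res_apply X.presheaf iU x hxV, h0', map_zero]
  have h2 := eq_zero_of_smul_eq_zero X V hξ _ hf'' _ h1
  have h3 : G.presheaf.map iU.op
      (G.presheaf.map (homOfLE (inf_le_right : U1 ⊓ U2 ≤ U2)).op s) = 0 :=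
    app_injective_of_mono i V (by rw [h2, map_zero])
  apply hm
  rw [← hs, ← TopCat.Presheaf.germ_res_apply G.presheaf
      (homOfLE (inf_le_right : U1 ⊓ U2 ≤ U2)) x hxW s,
      ← TopCat.Presheaf.germ_res_apply G.presheaf iU x hxV, h3, map_zero]

include i in
theorem germ_genericPoint_injective' (V : X.Opens) (h : genericPoint X ∈ V) (s : Γ(G, V))
    (hs : G.presheaf.germ V (genericPoint X) h s = 0) : s = 0 := by
  have h0 : G.presheaf.germ V (genericPoint X) h s = G.presheaf.germ V (genericPoint X) h 0 := by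
    rw [hs, map_zero]
  obtain ⟨W, hW, iU, iV, hV⟩ := TopCat.Presheaf.germ_eq G.presheaf _ h h _ _ h0
  rw [map_zero] at hV
  obtain ⟨c, hc⟩ := iotaU_surjective X V h (i.app V s)
  have h1 : i.app W (G.presheaf.map iU.op s) = 0 := by rw [hV, map_zero]
  rw [app_naturality_apply] at h1
  have h2 : (KX X).presheaf.map iU.op (show Γ(KX X, V) from (iotaU X V).hom c) = 0 := by
    rw [← h1]
    exact congrArg _ hc
  rw [map_iotaU] at h2
  have hc0 : c = 0 := iotaU_injective X W hW (h2.trans (map_zero _).symm)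
  apply app_injective_of_mono i V
  rw [map_zero]
  refine hc.symm.trans ?_
  rw [hc0, map_zero]
  rfl

include i in
theorem exists_smul_eq (m0 w : G.presheaf.stalk (genericPoint X)) (hm0 : m0 ≠ 0) :
    ∃ c : X.presheaf.stalk (genericPoint X), c • m0 = w := by
  obtain ⟨U1, hU1, s0, hs0⟩ := TopCat.Presheaf.exists_germ_eq G.presheaf m0
  obtain ⟨U2, hU2, s1, hs1⟩ := TopCat.Presheaf.exists_germ_eq G.presheaf w
  obtain ⟨c0, hc0⟩ := iotaU_surjective X U1 hU1 (i.app U1 s0)
  obtain ⟨c1, hc1⟩ := iotaU_surjective X U2 hU2 (i.app U2 s1)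
  have hc0ne : c0 ≠ 0 := by
    rintro rfl
    apply hm0
    rw [map_zero] at hc0
    have : s0 = 0 := app_injective_of_mono i U1 (by rw [← hc0, map_zero]; rfl)
    rw [← hs0, this, map_zero]
  obtain ⟨U3, hU3, g, hg⟩ := TopCat.Presheaf.exists_germ_eq X.presheaf (c1 / c0)
  have hV : genericPoint X ∈ U1 ⊓ U2 ⊓ U3 := ⟨⟨hU1, hU2⟩, hU3⟩
  have l1 : U1 ⊓ U2 ⊓ U3 ≤ U1 := inf_le_left.trans inf_le_left
  have l2 : U1 ⊓ U2 ⊓ U3 ≤ U2 := inf_le_left.trans inf_le_right
  have l3 : U1 ⊓ U2 ⊓ U3 ≤ U3 := inf_le_right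
  refine ⟨c1 / c0, ?_⟩
  have key : X.presheaf.map (homOfLE l3).op g • G.presheaf.map (homOfLE l1).op s0 =
      G.presheaf.map (homOfLE l2).op s1 := by
    apply app_injective_of_mono i (U1 ⊓ U2 ⊓ U3)
    rw [Scheme.Modules.Hom.app_smul, app_naturality_apply, app_naturality_apply, smul_eq X _ hV,
      TopCat.Presheaf.germ_res_apply, hg]
    have e0 : (KX X).presheaf.map (homOfLE l1).op (i.app U1 s0) =
        (show Γ(KX X, U1 ⊓ U2 ⊓ U3) from (iotaU X (U1 ⊓ U2 ⊓ U3)).hom c0) := by
      rw [← map_iotaU X (homOfLE l1) c0]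
      exact congrArg _ hc0.symm
    have e1 : (KX X).presheaf.map (homOfLE l2).op (i.app U2 s1) =
        (show Γ(KX X, U1 ⊓ U2 ⊓ U3) from (iotaU X (U1 ⊓ U2 ⊓ U3)).hom c1) := by
      rw [← map_iotaU X (homOfLE l2) c1]
      exact congrArg _ hc1.symm
    rw [e0, e1]
    change (iotaU X (U1 ⊓ U2 ⊓ U3)).hom (c1 / c0) * (iotaU X (U1 ⊓ U2 ⊓ U3)).hom c0 =
      (iotaU X (U1 ⊓ U2 ⊓ U3)).hom c1
    rw [← map_mul, div_mul_cancel₀ _ hc0ne]
  have := congrArg (G.presheaf.germ (U1 ⊓ U2 ⊓ U3) (genericPoint X) hV) key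
  rw [germ_smul, TopCat.Presheaf.germ_res_apply, TopCat.Presheaf.germ_res_apply,
    TopCat.Presheaf.germ_res_apply, hg, hs0, hs1] at this
  exact this

include i in
theorem exists_ne_zero (hG : ¬ IsZero G) : ∃ m0 : G.presheaf.stalk (genericPoint X), m0 ≠ 0 := by
  by_contra hcon
  push Not at hcon
  apply hG
  apply isZero_of_forall_stalk_subsingleton
  intro x
  suffices h : ∀ m : G.presheaf.stalk x, m = 0 from ⟨fun a b => (h a).trans (h b).symm⟩
  intro m
  obtain ⟨U, hxU, s, hs⟩ := TopCat.Presheaf.exists_germ_eq G.presheaf m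
  have hξ : genericPoint X ∈ U := genericPoint_mem X U x hxU
  have : s = 0 := germ_genericPoint_injective' X G i U hξ s (hcon _)
  rw [← hs, this, map_zero]

end aux

open AlgebraicGeometry in
open CategoryTheory in
/-- Converse assertion (the sheaf of rational functions of the integral scheme X being modelled as the
direct image of the structure sheaf of Spec of the function field under its canonical morphism to
X). On an integral scheme, a nonzero quasi-coherent sub-O_X-module of the sheaf of rational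
functions is torsion-free of rank 1: every stalk is a torsion-free module over the local ring, and
the stalk at the generic point is one-dimensional over the function field. (The published statement
does not exclude the zero submodule, whose generic stalk has dimension 0; it is excluded here.) -/
theorem result
    (X : Scheme.{u}) [IsIntegral X] (G : X.Modules) [Coh.IsQCoh G]
    (i : G ⟶ (Scheme.Modules.pushforward (X.fromSpecStalk (genericPoint X))).obj
        (Coh.structureModule (Spec (X.presheaf.stalk (genericPoint X))))) [Mono i]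
    (hG : ¬ Limits.IsZero G) :
    TorSh.IsTorsionFree G ∧
      Module.finrank (X.presheaf.stalk (genericPoint X)) (G.presheaf.stalk (genericPoint X)) = 1 := by
  refine ⟨isTorsionFree X G i, ?_⟩
  obtain ⟨m0, hm0⟩ := exists_ne_zero X G i hG
  exact (finrank_eq_one_iff_of_nonzero' m0 hm0).2 (fun w => exists_smul_eq X G i m0 w hm0)

end Groth.Agent.S4356
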