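import Groth.Statements.S4363
import Mathlib

set_option autoImplicit false
universe u v
open RedSep

namespace Groth.Agent.S4363

open AlgebraicGeometry CategoryTheory CategoryTheory.Limits

/-- In a pushout square of commutative rings, the pushout is generated by the two images. -/
lemma closure_of_isPushout {R A B C : CommRingCat.{u}} {φ : R ⟶ A} {ψ : R ⟶ B}
    {inl : A ⟶ C} {inr : B ⟶ C} (h : IsPushout φ ψ inl inr) :
    Subring.closure (Set.range inl.hom ∪ Set.range inr.hom) = ⊤ := by
  set S := Subring.closure (Set.range inl.hom ∪ Set.range inr.hom) with hS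
  let incl : CommRingCat.of S ⟶ C := CommRingCat.ofHom S.subtype
  let inl' : A ⟶ CommRingCat.of S := CommRingCat.ofHom
    (inl.hom.codRestrict S (fun a => Subring.subset_closure (Or.inl ⟨a, rfl⟩)))
  let inr' : B ⟶ CommRingCat.of S := CommRingCat.ofHom
    (inr.hom.codRestrict S (fun a => Subring.subset_closure (Or.inr ⟨a, rfl⟩)))
  have h1 : inl' ≫ incl = inl := by ext a; rfl
  have h2 : inr' ≫ incl = inr := by ext a; rfl
  have hmono : Mono incl := ConcreteCategory.mono_of_injective incl Subtype.val_injective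
  have hcomm : φ ≫ inl' = ψ ≫ inr' := by
    rw [← cancel_mono incl, Category.assoc, Category.assoc, h1, h2, h.w]
  let d := h.desc inl' inr' hcomm
  have hd : d ≫ incl = 𝟙 C := by
    apply h.hom_ext
    · rw [← Category.assoc, h.inl_desc, h1, Category.comp_id]
    · rw [← Category.assoc, h.inr_desc, h2, Category.comp_id]
  rw [eq_top_iff]
  intro c _
  have := congrArg (fun f => f.hom c) hd
  simp only [CommRingCat.hom_comp, RingHom.coe_comp, Function.comp_apply, CommRingCat.hom_id,
    RingHom.id_apply] at this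
  rw [← this]
  exact (d.hom c).2

lemma closure_transport {A A' B B' C C' : Type*} [CommRing A] [CommRing A'] [CommRing B]
    [CommRing B'] [CommRing C] [CommRing C'] (θ : C →+* C') (hθ : Function.Bijective θ)
    (a : A →+* C) (b : B →+* C) (a' : A' →+* C') (b' : B' →+* C')
    (ha : θ '' Set.range a = Set.range a') (hb : θ '' Set.range b = Set.range b') :
    Subring.closure (Set.range a ∪ Set.range b) = ⊤ ↔
      Subring.closure (Set.range a' ∪ Set.range b') = ⊤ := by
  rw [← ha, ← hb, ← Set.image_union, ← RingHom.map_closure]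
  constructor
  · intro h
    rw [h, eq_top_iff]
    intro c _
    obtain ⟨c0, rfl⟩ := hθ.2 c
    exact ⟨c0, trivial, rfl⟩
  · intro h
    rw [eq_top_iff]
    intro c _
    have : θ c ∈ Subring.map θ (Subring.closure (Set.range a ∪ Set.range b)) := by
      rw [h]; trivial
    obtain ⟨c', hc', e⟩ := this
    rwa [← hθ.1 e]

lemma closure_eq_range {A B C D : Type*} [CommRing A] [CommRing B] [CommRing C] [CommRing D]
    (m : D →+* C) (a : A →+* D) (b : B →+* D)
    (h : Subring.closure (Set.range a ∪ Set.range b) = ⊤) :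
    Subring.closure (Set.range (m.comp a) ∪ Set.range (m.comp b)) = m.range := by
  rw [RingHom.coe_comp, RingHom.coe_comp, Set.range_comp, Set.range_comp, ← Set.image_union,
    ← RingHom.map_closure, h, RingHom.range_eq_map]

section
variable {X Y : Scheme.{u}} [IsAffine Y] (f : X ⟶ Y) (Ui Uj : X.Opens)
  (hUi : IsAffineOpen Ui) (hUj : IsAffineOpen Uj)

include hUi hUj in
lemma key :
    (IsAffine (pullback Ui.ι Uj.ι) ∧
      Function.Surjective (pullback.mapDesc Ui.ι Uj.ι f).appTop) ↔
    (IsAffineOpen (Ui ⊓ Uj) ∧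
      Subring.closure (Set.range (X.presheaf.map (homOfLE (inf_le_left : Ui ⊓ Uj ≤ Ui)).op).hom ∪
        Set.range (X.presheaf.map (homOfLE (inf_le_right : Ui ⊓ Uj ≤ Uj)).op).hom) = ⊤) := by
  have : IsAffine Ui.toScheme := hUi
  have : IsAffine Uj.toScheme := hUj
  let e := (isPullback_opens_inf Ui Uj).isoPullback
  have he1 : e.hom ≫ pullback.fst Ui.ι Uj.ι = X.homOfLE inf_le_left :=
    (isPullback_opens_inf Ui Uj).isoPullback_hom_fst
  have he2 : e.hom ≫ pullback.snd Ui.ι Uj.ι = X.homOfLE inf_le_right :=
    (isPullback_opens_inf Ui Uj).isoPullback_hom_snd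
  have haff : IsAffine (pullback Ui.ι Uj.ι) ↔ IsAffineOpen (Ui ⊓ Uj) := by
    constructor
    · intro h
      exact IsAffine.of_isIso e.hom
    · intro h
      have : IsAffine (Ui ⊓ Uj).toScheme := h
      exact IsAffine.of_isIso e.inv
  rw [haff]
  refine and_congr_right (fun hW => ?_)
  -- generation for P
  have hP := closure_of_isPushout (isPushout_appTop_of_isPullback
    (IsPullback.of_hasPullback (Ui.ι ≫ f) (Uj.ι ≫ f)))
  set m := pullback.mapDesc Ui.ι Uj.ι f with hm
  have hm1 : m ≫ pullback.fst _ _ = pullback.fst _ _ :=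
    (pullback.lift_fst _ _ _).trans (Category.comp_id _)
  have hm2 : m ≫ pullback.snd _ _ = pullback.snd _ _ :=
    (pullback.lift_snd _ _ _).trans (Category.comp_id _)
  have h3 := closure_eq_range m.appTop.hom _ _ hP
  have h4 : m.appTop.hom.comp (pullback.fst (Ui.ι ≫ f) (Uj.ι ≫ f)).appTop.hom
      = (pullback.fst Ui.ι Uj.ι).appTop.hom := by
    rw [← CommRingCat.hom_comp, ← Scheme.Hom.comp_appTop, hm1]
  have h5 : m.appTop.hom.comp (pullback.snd (Ui.ι ≫ f) (Uj.ι ≫ f)).appTop.hom
      = (pullback.snd Ui.ι Uj.ι).appTop.hom := by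
    rw [← CommRingCat.hom_comp, ← Scheme.Hom.comp_appTop, hm2]
  rw [h4, h5] at h3
  have h6 : Function.Surjective m.appTop ↔
      Subring.closure (Set.range (pullback.fst Ui.ι Uj.ι).appTop.hom ∪
        Set.range (pullback.snd Ui.ι Uj.ι).appTop.hom) = ⊤ := by
    rw [h3, RingHom.range_eq_top]
  rw [h6]
  -- transport along θ
  let θ : Γ(pullback Ui.ι Uj.ι, ⊤) ⟶ Γ(X, Ui ⊓ Uj) := e.hom.appTop ≫ (Ui ⊓ Uj).topIso.hom
  have hθ : Function.Bijective θ.hom := by
    have : IsIso e.hom.appTop := inferInstanceAs (IsIso (Scheme.Γ.map e.hom.op))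
    have : IsIso θ := by dsimp only [θ]; infer_instance
    exact ConcreteCategory.bijective_of_isIso θ
  have hA : (pullback.fst Ui.ι Uj.ι).appTop ≫ θ
      = Ui.topIso.hom ≫ X.presheaf.map (homOfLE (inf_le_left : Ui ⊓ Uj ≤ Ui)).op := by
    dsimp only [θ]
    rw [← Category.assoc, ← Scheme.Hom.comp_appTop, he1, Scheme.homOfLE_appTop]
    change X.presheaf.map _ ≫ X.presheaf.map _ = X.presheaf.map _ ≫ X.presheaf.map _
    exact (X.presheaf.map_comp _ _).symm.trans
      ((congrArg X.presheaf.map (Subsingleton.elim _ _)).trans (X.presheaf.map_comp _ _))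
  have hB : (pullback.snd Ui.ι Uj.ι).appTop ≫ θ
      = Uj.topIso.hom ≫ X.presheaf.map (homOfLE (inf_le_right : Ui ⊓ Uj ≤ Uj)).op := by
    dsimp only [θ]
    rw [← Category.assoc, ← Scheme.Hom.comp_appTop, he2, Scheme.homOfLE_appTop]
    change X.presheaf.map _ ≫ X.presheaf.map _ = X.presheaf.map _ ≫ X.presheaf.map _
    exact (X.presheaf.map_comp _ _).symm.trans
      ((congrArg X.presheaf.map (Subsingleton.elim _ _)).trans (X.presheaf.map_comp _ _))
  have hsurj : ∀ V : X.Opens, Function.Surjective V.topIso.hom.hom := fun V =>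
    (ConcreteCategory.bijective_of_isIso V.topIso.hom).2
  refine closure_transport θ.hom hθ _ _ _ _ ?_ ?_
  · rw [← Set.range_comp, ← RingHom.coe_comp, ← CommRingCat.hom_comp, hA, CommRingCat.hom_comp,
      RingHom.coe_comp, (hsurj Ui).range_comp]
  · rw [← Set.range_comp, ← RingHom.coe_comp, ← CommRingCat.hom_comp, hB, CommRingCat.hom_comp,
      RingHom.coe_comp, (hsurj Uj).range_comp]
end

/-- the affine target property of closed immersions -/
abbrev Qc : AffineTargetMorphismProperty :=
  fun X _ f _ ↦ IsAffine X ∧ Function.Surjective (f.appTop)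

instance : HasAffineProperty @IsClosedImmersion Qc := IsClosedImmersion.hasAffineProperty

set_option backward.isDefEq.respectTransparency.types false in
lemma isSeparated_iff_Qc {X Y : Scheme.{u}} [IsAffine Y] (f : X ⟶ Y) :
    IsSeparated f ↔ Qc.diagonal f := by
  rw [IsSeparated.isSeparated_eq_diagonal_isClosedImmersion]
  exact HasAffineProperty.iff_of_isAffine (P := MorphismProperty.diagonal @IsClosedImmersion)
    (Q := Qc.diagonal)

open AlgebraicGeometry in
open CategoryTheory in
/-- Let Y be an affine scheme, f : X -> Y a morphism and (U i) a cover of X by affine open subschemes.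
Then f is separated if and only if, for every pair of indices i, j, the intersection of U i and U j
is an affine open and its ring of sections is generated, as a ring, by the images of the rings of
sections of U i and of U j under the restriction maps. -/
theorem result
    {X Y : Scheme.{u}} [IsAffine Y] (f : X ⟶ Y) {ι : Type v} (U : ι → X.Opens)
    (hU : ∀ i, IsAffineOpen (U i)) (hcov : ⨆ i, U i = ⊤) :
    IsSeparated f ↔ ∀ i j, IsAffineOpen (U i ⊓ U j) ∧
      Subring.closure (Set.range (X.presheaf.map (homOfLE (inf_le_left : U i ⊓ U j ≤ U i)).op).hom ∪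
        Set.range (X.presheaf.map (homOfLE (inf_le_right : U i ⊓ U j ≤ U j)).op).hom) = ⊤ := by
  rw [isSeparated_iff_Qc]
  constructor
  · intro h i j
    have : IsAffine (U i).toScheme := hU i
    have : IsAffine (U j).toScheme := hU j
    exact (key f (U i) (U j) (hU i) (hU j)).mp (h (U i).ι (U j).ι)
  · intro h
    have : Qc.IsLocal := HasAffineProperty.isLocal_affineProperty @IsClosedImmersion
    let 𝒰 := X.openCoverOfIsOpenCover U hcov
    have : ∀ i, IsAffine (𝒰.X i) := fun i => hU i
    refine AffineTargetMorphismProperty.diagonal_of_openCover_source f 𝒰 (fun i j => ?_)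
    exact (key f (U i) (U j) (hU i) (hU j)).mpr (h i j)

end Groth.Agent.S4363
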