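import Groth.Statements.S4367
import Mathlib.AlgebraicGeometry.IdealSheaf.Functorial
import Mathlib.AlgebraicGeometry.Morphisms.ClosedImmersion
-- import your own Groth.Agent.* helpers here

set_option autoImplicit false
universe u
open RedSep

namespace Groth.Agent.S4367

open AlgebraicGeometry in
open CategoryTheory in
/-- Let X be a reduced scheme, f : X -> Y a morphism and j : Z -> Y a closed immersion (a closed
subscheme of Y) such that the image of f is contained, as a set, in the image of j. Then f factors
as a morphism X -> Z followed by j. -/
theorem result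
    {X Y Z : Scheme.{u}} [IsReduced X] (f : X ⟶ Y) (j : Z ⟶ Y) [IsClosedImmersion j]
    (h : Set.range f ⊆ Set.range j) :
    ∃ g : X ⟶ Z, g ≫ j = f := by
  have h1 : f.ker = Scheme.IdealSheafData.vanishingIdeal (.closure (f '' (⊤ : TopologicalSpace.Closeds X))) := by
    rw [← Scheme.IdealSheafData.map_vanishingIdeal, Scheme.IdealSheafData.vanishingIdeal_top,
      Scheme.nilradical_eq_bot, Scheme.IdealSheafData.map_bot]
  have h2 : j.ker ≤ f.ker := by
    rw [h1]
    refine (Scheme.IdealSheafData.le_radical (I := j.ker)).trans ?_
    rw [← Scheme.IdealSheafData.vanishingIdeal_support]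
    apply Scheme.IdealSheafData.vanishingIdeal_antimono
    rw [← SetLike.coe_subset_coe, Scheme.Hom.support_ker]
    simp only [TopologicalSpace.Closeds.coe_closure, TopologicalSpace.Closeds.coe_top, Set.image_univ]
    exact closure_mono h
  exact ⟨IsClosedImmersion.lift j f h2, IsClosedImmersion.lift_fac j f h2⟩

end Groth.Agent.S4367
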