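import Groth.Statements.S4368
import Mathlib.AlgebraicGeometry.IdealSheaf.Functorial
import Mathlib.AlgebraicGeometry.Morphisms.ClosedImmersion
-- import your own Groth.Agent.* helpers here

set_option autoImplicit false
universe u
open RedSep

namespace Groth.Agent.S4368

open AlgebraicGeometry in
open CategoryTheory in
/-- Let X be a scheme and I a quasi-coherent sheaf of ideals of O_X whose support is all of X, so that
the closed subscheme it defines has underlying space X. Then that closed subscheme is reduced if and
only if I is the nilradical of O_X. In particular the closed subscheme defined by the nilradical is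
the unique reduced closed subscheme of X with underlying space X (and, the support condition being
equivalent to I being contained in the nilradical, the smallest one). -/
theorem result
    (X : Scheme.{u}) (I : X.IdealSheafData) (hI : I.support = ⊤) :
    IsReduced I.subscheme ↔ I = X.nilradical := by
  constructor
  · intro hred
    have h1 : I.subschemeι.ker = Scheme.IdealSheafData.vanishingIdeal
        (.closure (I.subschemeι '' (⊤ : TopologicalSpace.Closeds I.subscheme))) := by
      rw [← Scheme.IdealSheafData.map_vanishingIdeal, Scheme.IdealSheafData.vanishingIdeal_top,
        Scheme.nilradical_eq_bot, Scheme.IdealSheafData.map_bot]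
    rw [Scheme.IdealSheafData.ker_subschemeι] at h1
    rw [h1, ← Scheme.IdealSheafData.vanishingIdeal_top]
    congr 1
    apply SetLike.coe_injective
    simp only [TopologicalSpace.Closeds.coe_closure, TopologicalSpace.Closeds.coe_top, Set.image_univ]
    rw [Scheme.IdealSheafData.range_subschemeι, hI]
    simp
  · rintro rfl
    have : ∀ U, IsReduced (X.nilradical.subschemeCover.openCover.X U) := by
      intro U
      change IsReduced (Spec (.of <| Γ(X, U.1) ⧸ X.nilradical.ideal U))
      have : _root_.IsReduced (Γ(X, U.1) ⧸ X.nilradical.ideal U) := by
        rw [← Ideal.isRadical_iff_quotient_reduced]
        change (Ideal.radical _).IsRadical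
        exact Ideal.radical_isRadical _
      infer_instance
    exact IsReduced.of_openCover _ X.nilradical.subschemeCover.openCover

end Groth.Agent.S4368
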