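import Groth.Statements.S4370
import Mathlib.AlgebraicGeometry.IdealSheaf.Functorial
import Mathlib.AlgebraicGeometry.Morphisms.ClosedImmersion
import Mathlib.AlgebraicGeometry.Morphisms.UnderlyingMap
-- import your own Groth.Agent.* helpers here

set_option autoImplicit false
universe u
open RedSep

namespace Groth.Agent.S4370

open AlgebraicGeometry in
open CategoryTheory in
/-- Let f : X -> Y be an open immersion and let g : X_red -> Y_red be the morphism of reduced schemes
induced by f, i.e. the morphism between the closed subschemes defined by the nilradicals whose
composite with the inclusion of Y_red in Y is the inclusion of X_red in X followed by f. Then g is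
an open immersion. -/
theorem result
    {X Y : Scheme.{u}} (f : X ⟶ Y) [IsOpenImmersion f]
    (g : X.nilradical.subscheme ⟶ Y.nilradical.subscheme)
    (hg : g ≫ Y.nilradical.subschemeι = X.nilradical.subschemeι ≫ f) :
    IsOpenImmersion g := by
  let P := Limits.pullback Y.nilradical.subschemeι f
  let p1 : P ⟶ Y.nilradical.subscheme := Limits.pullback.fst _ _
  let p2 : P ⟶ X := Limits.pullback.snd _ _
  have hp1 : IsOpenImmersion p1 := inferInstance
  have hp2 : IsClosedImmersion p2 := inferInstance
  have hYred : IsReduced Y.nilradical.subscheme := by
    have : ∀ U, IsReduced (Y.nilradical.subschemeCover.openCover.X U) := by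
      intro U
      change IsReduced (Spec (.of <| Γ(Y, U.1) ⧸ Y.nilradical.ideal U))
      have : _root_.IsReduced (Γ(Y, U.1) ⧸ Y.nilradical.ideal U) := by
        rw [← Ideal.isRadical_iff_quotient_reduced]
        change (Ideal.radical _).IsRadical
        exact Ideal.radical_isRadical _
      infer_instance
    exact IsReduced.of_openCover _ Y.nilradical.subschemeCover.openCover
  have hPred : IsReduced P := isReduced_of_isOpenImmersion p1
  have hsurjY : Function.Surjective Y.nilradical.subschemeι := by
    rw [← Set.range_eq_univ, Scheme.IdealSheafData.range_subschemeι, Scheme.support_nilradical]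
    rfl
  have hsurj : Function.Surjective p2 := by
    have h1 : Surjective Y.nilradical.subschemeι := ⟨hsurjY⟩
    have : Surjective p2 := inferInstance
    exact this.surj
  have hker : p2.ker = X.nilradical := by
    have h1 : p2.ker = Scheme.IdealSheafData.vanishingIdeal
        (.closure (p2 '' (⊤ : TopologicalSpace.Closeds P))) := by
      rw [← Scheme.IdealSheafData.map_vanishingIdeal, Scheme.IdealSheafData.vanishingIdeal_top,
        Scheme.nilradical_eq_bot, Scheme.IdealSheafData.map_bot]
    rw [h1, ← Scheme.IdealSheafData.vanishingIdeal_top]
    congr 1
    apply SetLike.coe_injective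
    simp only [TopologicalSpace.Closeds.coe_closure, TopologicalSpace.Closeds.coe_top, Set.image_univ]
    rw [hsurj.range_eq]
    simp
  have hker' : p2.ker = X.nilradical.subschemeι.ker := by
    rw [hker, Scheme.IdealSheafData.ker_subschemeι]
  let h : X.nilradical.subscheme ⟶ P := IsClosedImmersion.lift p2 X.nilradical.subschemeι hker'.le
  have hiso : IsIso h := IsClosedImmersion.isIso_lift p2 X.nilradical.subschemeι hker'
  have hfac : h ≫ p2 = X.nilradical.subschemeι := IsClosedImmersion.lift_fac _ _ _
  have hg : g = h ≫ p1 := by
    rw [← cancel_mono Y.nilradical.subschemeι, hg, Category.assoc, Limits.pullback.condition,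
      ← Category.assoc, hfac]
  rw [hg]
  infer_instance

end Groth.Agent.S4370
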