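import Groth.Statements.S4371
import Mathlib
-- import your own Groth.Agent.* helpers here

set_option autoImplicit false
universe u
open RedSep

namespace Groth.Agent.S4371
open CategoryTheory AlgebraicGeometry


lemma hartogs_abs {R G L₁ L₂ L₁₂ : Type*} [CommRing R] [IsDomain R] [CommRing G] [CommRing L₁]
    [CommRing L₂] [CommRing L₁₂] (s t : R) (hs : Prime s) (hst : ¬ s ∣ t)
    (ρ : R →+* G) (r₁ : G →+* L₁) (r₂ : G →+* L₂) (q₁ : L₁ →+* L₁₂) (q₂ : L₂ →+* L₁₂)
    (hq : ∀ g, q₁ (r₁ g) = q₂ (r₂ g))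
    (surj₁ : ∀ x : L₁, ∃ (m : ℕ) (a : R), x * (r₁ (ρ s)) ^ m = r₁ (ρ a))
    (surj₂ : ∀ x : L₂, ∃ (n : ℕ) (b : R), x * (r₂ (ρ t)) ^ n = r₂ (ρ b))
    (unit₁ : IsUnit (r₁ (ρ s))) (unit₂ : IsUnit (r₂ (ρ t)))
    (inj₁₂ : Function.Injective fun a : R => q₁ (r₁ (ρ a)))
    (loc : ∀ g g' : G, r₁ g = r₁ g' → r₂ g = r₂ g' → g = g') :
    Function.Bijective ρ := by
  constructor
  · intro a a' h
    apply inj₁₂
    show q₁ (r₁ (ρ a)) = q₁ (r₁ (ρ a'))
    rw [h]
  · intro g
    obtain ⟨m, a, ha⟩ := surj₁ (r₁ g)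
    obtain ⟨n, b, hb⟩ := surj₂ (r₂ g)
    -- t^n a = s^m b in R
    have hR : t ^ n * a = s ^ m * b := by
      apply inj₁₂
      show q₁ (r₁ (ρ (t ^ n * a))) = q₁ (r₁ (ρ (s ^ m * b)))
      have e1 : q₁ (r₁ (ρ (t ^ n * a))) = q₁ (r₁ (ρ t)) ^ n * (q₁ (r₁ g) * q₁ (r₁ (ρ s)) ^ m) := by
        rw [map_mul, map_mul, map_mul, map_pow, map_pow, map_pow, ← ha, map_mul, map_pow]
      have e2 : q₁ (r₁ (ρ (s ^ m * b))) = q₁ (r₁ (ρ s)) ^ m * (q₁ (r₁ g) * q₁ (r₁ (ρ t)) ^ n) := by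
        rw [map_mul, map_mul, map_mul, map_pow, map_pow, map_pow, hq (ρ b), ← hb, map_mul, map_pow,
          hq g, hq (ρ t)]
      rw [e1, e2]
      ring
    have hdiv : s ^ m ∣ a := by
      have h1 : ¬ s ∣ t ^ n := fun h => hst (hs.dvd_of_dvd_pow h)
      exact hs.pow_dvd_of_dvd_mul_left m h1 ⟨b, hR⟩
    obtain ⟨c, rfl⟩ := hdiv
    have hb' : b = t ^ n * c := by
      have : s ^ m * b = s ^ m * (t ^ n * c) := by rw [← hR]; ring
      exact mul_left_cancel₀ (pow_ne_zero _ hs.ne_zero) this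
    subst hb'
    refine ⟨c, loc _ _ ?_ ?_⟩
    · have : r₁ (ρ c) * (r₁ (ρ s)) ^ m = r₁ g * (r₁ (ρ s)) ^ m := by
        rw [ha, map_mul, map_mul, map_pow, map_pow, mul_comm]
      exact (unit₁.pow m).mul_left_injective this
    · have : r₂ (ρ c) * (r₂ (ρ t)) ^ n = r₂ g * (r₂ (ρ t)) ^ n := by
        rw [hb, map_mul, map_mul, map_pow, map_pow, mul_comm]
      exact (unit₂.pow n).mul_left_injective this




open AlgebraicGeometry in
open CategoryTheory in
/-- Let K be a field and Y = Spec K[s, t] the affine plane over K. The open subset D(s) ∪ D(t) of Y, the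
complement of the closed point s = t = 0, is not affine. -/
theorem result
    (K : Type u) [Field K] :
    ¬ IsAffineOpen (X := Spec (CommRingCat.of (MvPolynomial (Fin 2) K)))
      (PrimeSpectrum.basicOpen (MvPolynomial.X 0 : MvPolynomial (Fin 2) K) ⊔
        PrimeSpectrum.basicOpen (MvPolynomial.X 1 : MvPolynomial (Fin 2) K)) := by
  intro hU
  let R := MvPolynomial (Fin 2) K
  let Rc := CommRingCat.of R
  let X := Spec Rc
  let e := Scheme.ΓSpecIso Rc
  let s : R := MvPolynomial.X 0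
  let t : R := MvPolynomial.X 1
  let s₀ : Γ(X, ⊤) := e.inv s
  let t₀ : Γ(X, ⊤) := e.inv t
  have hD₁ : X.basicOpen s₀ = PrimeSpectrum.basicOpen s := basicOpen_eq_of_affine (R := Rc) s
  have hD₂ : X.basicOpen t₀ = PrimeSpectrum.basicOpen t := basicOpen_eq_of_affine (R := Rc) t
  rw [← hD₁, ← hD₂] at hU
  set D₁ := X.basicOpen s₀ with hD₁def
  set D₂ := X.basicOpen t₀ with hD₂def
  set U := D₁ ⊔ D₂ with hUdef
  let D₁₂ := X.basicOpen (s₀ * t₀)
  have h12₁ : D₁₂ ≤ D₁ := by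
    show X.basicOpen (s₀ * t₀) ≤ X.basicOpen s₀
    rw [Scheme.basicOpen_mul]; exact inf_le_left
  have h12₂ : D₁₂ ≤ D₂ := by
    show X.basicOpen (s₀ * t₀) ≤ X.basicOpen t₀
    rw [Scheme.basicOpen_mul]; exact inf_le_right
  -- restriction maps
  let res : ∀ {V W : X.Opens} (h : W ≤ V), Γ(X, V) →+* Γ(X, W) :=
    fun h => (X.presheaf.map (homOfLE h).op).hom
  have res_res : ∀ {V W Z : X.Opens} (h : W ≤ V) (h' : Z ≤ W) (x : Γ(X, V)),
      res h' (res h x) = res (h'.trans h) x := by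
    intro V W Z h h' x
    show (X.presheaf.map (homOfLE h').op).hom ((X.presheaf.map (homOfLE h).op).hom x) = _
    rw [← CommRingCat.comp_apply, ← Functor.map_comp]
    rfl
  let ρ : R →+* Γ(X, U) := (res (le_top : U ≤ ⊤)).comp e.inv.hom
  haveI : IsDomain Γ(X, ⊤) := MulEquiv.isDomain R e.commRingCatIsoToRingEquiv.toMulEquiv
  have hs₀ : s₀ ≠ 0 := by
    intro h
    have : e.hom s₀ = 0 := by rw [h, map_zero]
    rw [show e.hom s₀ = s from Iso.inv_hom_id_apply e s] at this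
    exact MvPolynomial.X_ne_zero _ this
  have ht₀ : t₀ ≠ 0 := by
    intro h
    have : e.hom t₀ = 0 := by rw [h, map_zero]
    rw [show e.hom t₀ = t from Iso.inv_hom_id_apply e t] at this
    exact MvPolynomial.X_ne_zero _ this
  have loc1 : IsLocalization.Away s₀ Γ(X, X.basicOpen s₀) :=
    (isAffineOpen_top X).isLocalization_basicOpen s₀
  have loc2 : IsLocalization.Away t₀ Γ(X, X.basicOpen t₀) :=
    (isAffineOpen_top X).isLocalization_basicOpen t₀
  have loc12 : IsLocalization.Away (s₀ * t₀) Γ(X, X.basicOpen (s₀ * t₀)) :=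
    (isAffineOpen_top X).isLocalization_basicOpen (s₀ * t₀)
  have hbij : Function.Bijective ρ := by
    refine hartogs_abs s t MvPolynomial.X_prime (by rw [MvPolynomial.X_dvd_X]; decide) ρ
      (res (le_sup_left : D₁ ≤ U)) (res (le_sup_right : D₂ ≤ U)) (res h12₁) (res h12₂)
      ?_ ?_ ?_ ?_ ?_ ?_ ?_
    · intro g
      rw [res_res, res_res]
    · intro x
      obtain ⟨m, a', ha'⟩ := IsLocalization.Away.surj s₀ x
      refine ⟨m, e.hom a', ?_⟩
      have h1 : res (le_sup_left : D₁ ≤ U) (ρ s) = algebraMap Γ(X, ⊤) Γ(X, X.basicOpen s₀) s₀ := by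
        show res _ (res _ (e.inv s)) = _
        rw [res_res]; rfl
      have h2 : res (le_sup_left : D₁ ≤ U) (ρ (e.hom a')) =
          algebraMap Γ(X, ⊤) Γ(X, X.basicOpen s₀) a' := by
        show res _ (res _ (e.inv (e.hom a'))) = _
        rw [res_res, Iso.hom_inv_id_apply]; rfl
      rw [h1, h2]; exact ha'
    · intro x
      obtain ⟨m, a', ha'⟩ := IsLocalization.Away.surj t₀ x
      refine ⟨m, e.hom a', ?_⟩
      have h1 : res (le_sup_right : D₂ ≤ U) (ρ t) = algebraMap Γ(X, ⊤) Γ(X, X.basicOpen t₀) t₀ := by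
        show res _ (res _ (e.inv t)) = _
        rw [res_res]; rfl
      have h2 : res (le_sup_right : D₂ ≤ U) (ρ (e.hom a')) =
          algebraMap Γ(X, ⊤) Γ(X, X.basicOpen t₀) a' := by
        show res _ (res _ (e.inv (e.hom a'))) = _
        rw [res_res, Iso.hom_inv_id_apply]; rfl
      rw [h1, h2]; exact ha'
    · have h1 : res (le_sup_left : D₁ ≤ U) (ρ s) = algebraMap Γ(X, ⊤) Γ(X, X.basicOpen s₀) s₀ := by
        show res _ (res _ (e.inv s)) = _
        rw [res_res]; rfl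
      rw [h1]; exact IsLocalization.Away.algebraMap_isUnit s₀
    · have h1 : res (le_sup_right : D₂ ≤ U) (ρ t) = algebraMap Γ(X, ⊤) Γ(X, X.basicOpen t₀) t₀ := by
        show res _ (res _ (e.inv t)) = _
        rw [res_res]; rfl
      rw [h1]; exact IsLocalization.Away.algebraMap_isUnit t₀
    · intro a a' h
      have h' : algebraMap Γ(X, ⊤) Γ(X, X.basicOpen (s₀ * t₀)) (e.inv a) =
          algebraMap Γ(X, ⊤) Γ(X, X.basicOpen (s₀ * t₀)) (e.inv a') := by
        have h1 : ∀ b : R, res h12₁ (res (le_sup_left : D₁ ≤ U) (ρ b)) =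
            algebraMap Γ(X, ⊤) Γ(X, X.basicOpen (s₀ * t₀)) (e.inv b) := by
          intro b
          show res _ (res _ (res _ (e.inv b))) = _
          rw [res_res, res_res]; rfl
        rw [← h1, ← h1]; exact h
      have hinj : Function.Injective (algebraMap Γ(X, ⊤) Γ(X, X.basicOpen (s₀ * t₀))) :=
        IsLocalization.injective _ (M := Submonoid.powers (s₀ * t₀))
          (powers_le_nonZeroDivisors_of_noZeroDivisors (mul_ne_zero hs₀ ht₀))
      have := hinj h'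
      have h3 := congrArg e.hom this
      rwa [Iso.inv_hom_id_apply, Iso.inv_hom_id_apply] at h3
    · intro g g' h1 h2
      exact TopCat.Sheaf.eq_of_locally_eq₂ X.sheaf (homOfLE (le_sup_left : D₁ ≤ U))
        (homOfLE (le_sup_right : D₂ ≤ U)) le_rfl g g' h1 h2
  -- affineness gives a partition of unity
  have hbo₁ : X.basicOpen (ρ s) = D₁ := by
    show X.basicOpen ((X.presheaf.map (homOfLE (le_top : U ≤ ⊤)).op) s₀) = D₁
    rw [Scheme.basicOpen_res]
    exact inf_eq_right.2 le_sup_left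
  have hbo₂ : X.basicOpen (ρ t) = D₂ := by
    show X.basicOpen ((X.presheaf.map (homOfLE (le_top : U ≤ ⊤)).op) t₀) = D₂
    rw [Scheme.basicOpen_res]
    exact inf_eq_right.2 le_sup_right
  have hspan : Ideal.span ({ρ s, ρ t} : Set Γ(X, U)) = ⊤ := by
    rw [← hU.iSup_basicOpen_eq_self_iff]
    apply le_antisymm
    · exact iSup_le fun f => X.basicOpen_le _
    · apply sup_le
      · rw [← hbo₁]
        exact le_iSup (fun f : ({ρ s, ρ t} : Set Γ(X, U)) => X.basicOpen (f : Γ(X, U)))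
          ⟨ρ s, Set.mem_insert _ _⟩
      · rw [← hbo₂]
        exact le_iSup (fun f : ({ρ s, ρ t} : Set Γ(X, U)) => X.basicOpen (f : Γ(X, U)))
          ⟨ρ t, Set.mem_insert_of_mem _ rfl⟩
  have h1 : (1 : Γ(X, U)) ∈ Ideal.span ({ρ s, ρ t} : Set Γ(X, U)) := by rw [hspan]; trivial
  obtain ⟨α, β, hαβ⟩ := Ideal.mem_span_pair.1 h1
  obtain ⟨a, rfl⟩ := hbij.2 α
  obtain ⟨b, rfl⟩ := hbij.2 β
  have h2 : ρ (a * s + b * t) = ρ 1 := by
    rw [map_add, map_mul, map_mul, map_one]; exact hαβ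
  have h3 := hbij.1 h2
  have h4 := congrArg (MvPolynomial.eval (0 : Fin 2 → K)) h3
  simp [s, t] at h4

end Groth.Agent.S4371
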