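import Groth.Statements.S4372
import Groth.Agent.S14361
import Groth.Agent.S14362
import Mathlib.AlgebraicGeometry.Morphisms.Immersion
-- import your own Groth.Agent.* helpers here

set_option autoImplicit false
universe u
open RedSep

namespace Groth.Agent.S4372

open CategoryTheory Limits AlgebraicGeometry in
set_option backward.isDefEq.respectTransparency false in
open Scheme in
lemma isPullback_toImage_liftCoborder' {X Y : Scheme.{u}} (f : X ⟶ Y) [IsImmersion f] [IsReduced X] :
    IsPullback f.toImage f.liftCoborder f.imageι f.coborderRange.ι := by
  refine (isPullback_of_isClosedImmersion _ _ _ _ (by simp) ?_).flip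
  rw [Hom.imageι, IdealSheafData.ker_subschemeι]
  ext U : 2
  simp only [IdealSheafData.ideal_comap_of_isOpenImmersion, Opens.ι_appIso, Iso.refl_inv,
    Groth.Agent.S14361.result, RingHom.comap_ker, ← CommRingCat.hom_comp]
  dsimp [Opens.toScheme_presheaf_obj]
  rw [RingHomCompTriple.comp_eq, AlgebraicGeometry.liftCoborder_app,
    CommRingCat.hom_comp, RingHom.ker_comp_of_injective]
  rw [← ConcreteCategory.mono_iff_injective_of_preservesPullback]
  infer_instance

open CategoryTheory Limits AlgebraicGeometry in
lemma isReduced_image {X Y : Scheme.{u}} (f : X ⟶ Y) [IsReduced X] :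
    IsReduced f.ker.subscheme := by
  have : ∀ U, IsReduced (f.ker.subschemeCover.openCover.X U) := by
    intro U
    change IsReduced (Spec (.of <| Γ(Y, U.1) ⧸ f.ker.ideal U))
    have : _root_.IsReduced (Γ(Y, U.1) ⧸ f.ker.ideal U) := by
      rw [← Ideal.isRadical_iff_quotient_reduced, Groth.Agent.S14361.result]
      intro x hx
      obtain ⟨n, hn⟩ := hx
      rw [RingHom.mem_ker, map_pow] at hn
      rw [RingHom.mem_ker]
      exact IsReduced.eq_zero _ ⟨n, hn⟩
    infer_instance
  exact IsReduced.of_openCover _ f.ker.subschemeCover.openCover


open AlgebraicGeometry in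
open CategoryTheory in
/-- Let h : Z -> X be an immersion with Z reduced (a reduced subscheme of X), and let W be the reduced
closed subscheme of X whose underlying space is the closure of h(Z). Then Z is an open subscheme of
W: h factors as an open immersion Z -> W followed by the closed immersion W -> X. Stated as the
existence of such a factorization through a reduced scheme W closed-immersed onto the closure of the
image. -/
theorem result
    {Z X : Scheme.{u}} (h : Z ⟶ X) [IsImmersion h] [IsReduced Z] :
    ∃ (W : Scheme.{u}) (j : Z ⟶ W) (i : W ⟶ X), IsOpenImmersion j ∧ IsClosedImmersion i ∧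
      IsReduced W ∧ Set.range i = closure (Set.range h) ∧ j ≫ i = h := by
  have hpb := isPullback_toImage_liftCoborder' h
  have hopen : IsOpenImmersion h.toImage :=
    MorphismProperty.of_isPullback (P := @IsOpenImmersion) hpb.flip inferInstance
  refine ⟨h.ker.subscheme, h.toImage, h.imageι, hopen, inferInstance, isReduced_image h, ?_,
    h.toImage_imageι⟩
  rw [Scheme.Hom.imageι, Scheme.IdealSheafData.range_subschemeι, Groth.Agent.S14362.result]

end Groth.Agent.S4372
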