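import Groth.Statements.S4375
import Groth.Agent.Lib.Cohomology.Helper1_SerreCrit2
-- import your own Groth.Agent.* helpers here

set_option autoImplicit false
universe u
open CategoryTheory CategoryTheory.Limits AlgebraicGeometry
open EGA2

namespace Groth.Agent.S4375

section Aux
open Groth.Agent.Lib.Cohomology.SerreCrit Groth.Agent.Lib.QCoh TopologicalSpace Opposite

attribute [local instance] CategoryTheory.Abelian.hasFiniteBiproducts

theorem aux (X : Scheme.{u}) [CompactSpace X]
    (h : ∀ (n : ℕ) (F F'' : X.Modules) (i : F ⟶ FlatMod.freeMod X n) (p : F ⟶ F''),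
      Mono i → Epi p → Coh.IsQCoh F → Coh.IsQCoh F'' →
        Function.Surjective (p.val.app (Opposite.op ⊤)).hom) :
    IsAffine X := by
  refine isAffine_of_surjective ?_ ?_
  · intro I
    have hs := h 1 (Coh.structureModule X) _
      (Sigma.ι (fun _ : Fin 1 => Coh.structureModule X) 0) (ClSub.toSubscheme I)
      inferInstance (epi_toSubscheme I) inferInstance inferInstance
    exact hs
  · intro n f hcov
    let φ : FlatMod.freeMod X n ≅ ⨁ fun _ : Fin n => Coh.structureModule X :=
      (biproduct.isoCoproduct _).symm
    have hq : Coh.IsQCoh (FlatMod.freeMod X n) :=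
      isQuasicoherent_of_iso φ.symm inferInstance
    have := epi_Pb n f hcov
    have hs := h n (FlatMod.freeMod X n) _ (𝟙 _) (φ.hom ≫ Pb n f)
      inferInstance inferInstance hq inferInstance
    intro t
    obtain ⟨s, hs'⟩ := hs t
    exact ⟨φ.hom.app ⊤ s, hs'⟩

end Aux

/-- (c') ⇒ (a): let X be a quasi-compact separated scheme. Suppose that for every n, every
quasi-coherent O_X-module F admitting a monomorphism into the free module O_X^n, and every
epimorphism p : F → F'' onto a quasi-coherent O_X-module, the map induced by p on global sections is
surjective. Then X is affine. (The published statement also allows X to be a scheme whose underlying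
space is Noetherian; this row assumes it quasi-compact and separated.) -/
theorem result (X : Scheme.{u}) [CompactSpace X] [X.IsSeparated]
    (h : ∀ (n : ℕ) (F F'' : X.Modules) (i : F ⟶ FlatMod.freeMod X n) (p : F ⟶ F''),
      Mono i → Epi p → Coh.IsQCoh F → Coh.IsQCoh F'' →
        Function.Surjective (p.val.app (Opposite.op ⊤)).hom) :
    IsAffine X := by
  exact aux X h

end Groth.Agent.S4375
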