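import Groth.Statements.S4376
import Groth.Agent.Lib.QCoh.Helper50_SerreRel

set_option autoImplicit false
universe u
open CategoryTheory CategoryTheory.Limits AlgebraicGeometry
open EGA2

namespace Groth.Agent.S4376

/-- (b) ⇒ (a): let f : X → Y be a separated quasi-compact morphism such that the direct image functor
f_* is exact on quasi-coherent O_X-modules, i.e. for every epimorphism p : F → F'' of quasi-coherent
O_X-modules the morphism f_*(p) is again an epimorphism. Then f is an affine morphism. -/
theorem result {X Y : Scheme.{u}} (f : X ⟶ Y) [IsSeparated f] [QuasiCompact f]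
    (h : ∀ (F F'' : X.Modules) (p : F ⟶ F''), Coh.IsQCoh F → Coh.IsQCoh F'' → Epi p → Epi ((Coh.push f).map p)) :
    IsAffineHom f := by
  refine ⟨fun V hV => ?_⟩
  apply Groth.Agent.Lib.QCoh.SerreRel.isAffineOpen_of_forall_epi_surjective (f ⁻¹ᵁ V)
    (f.isCompact_preimage hV.isCompact)
  intro F F'' p hF hF'' hp
  have hepi : Epi ((Scheme.Modules.pushforward f).map p) := h F F'' p hF hF'' hp
  have hq1 : ((Scheme.Modules.pushforward f).obj F).IsQuasicoherent :=
    Groth.Agent.Lib.QCoh.isQuasicoherent_pushforward_of_qcqs f F
  have hq2 : ((Scheme.Modules.pushforward f).obj F'').IsQuasicoherent :=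
    Groth.Agent.Lib.QCoh.isQuasicoherent_pushforward_of_qcqs f F''
  exact Groth.Agent.Lib.QCoh.surjective_app_of_epi ((Scheme.Modules.pushforward f).map p) hV

end Groth.Agent.S4376
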