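import Groth.Statements.S4377
import Groth.Agent.Lib.QCoh.Helper50_SerreRel2
import Groth.Agent.S0029

set_option autoImplicit false
universe u
open CategoryTheory CategoryTheory.Limits AlgebraicGeometry
open EGA2

namespace Groth.Agent.S4377

/-- (c') ⇒ (a): let f : X → Y be a separated quasi-compact morphism such that R¹f_*(J) = 0 (first higher
direct image of the underlying abelian sheaf) for every quasi-coherent submodule J of O_X. Then f is
an affine morphism. -/
theorem result {X Y : Scheme.{u}} (f : X ⟶ Y) [IsSeparated f] [QuasiCompact f]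
    (h : ∀ (J : X.Modules) (i : J ⟶ Coh.structureModule X), Mono i → Coh.IsQCoh J →
      Limits.IsZero ((Coh.RpushAb f 1).obj (Coh.toAb J))) :
    IsAffineHom f := by
  refine ⟨fun V hV => ?_⟩
  have hqs : QuasiSeparated f := inferInstance
  apply Groth.Agent.Lib.QCoh.SerreRel2.isAffineOpen_of_sumSurj (f ⁻¹ᵁ V)
    (f.isCompact_preimage hV.isCompact)
  intro I₁ I₂ ι₁ ι₂ h1 h2 hq1 hq2
  have hPq : (I₁ ⊞ I₂).IsQuasicoherent := Groth.Agent.Lib.QCoh.isQuasicoherent_biprod I₁ I₂
  have hNq : (kernel (biprod.desc ι₁ ι₂)).IsQuasicoherent :=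
    Groth.Agent.Lib.QCoh.isQuasicoherent_kernel (biprod.desc ι₁ ι₂)
  have hNm : Mono (kernel.ι (biprod.desc ι₁ ι₂) ≫ biprod.fst ≫ ι₁) := by
    have := Groth.Agent.Lib.QCoh.SerreRel2.mono_kernel_desc_fst ι₁ ι₂
    rw [← Category.assoc]
    exact mono_comp _ _
  have hz := h _ _ hNm hNq
  have w : kernel.ι (biprod.desc ι₁ ι₂) ≫ Abelian.factorThruImage (biprod.desc ι₁ ι₂) = 0 := by
    rw [← cancel_mono (Abelian.image.ι (biprod.desc ι₁ ι₂)), Category.assoc, Abelian.image.fac,
      kernel.condition, zero_comp]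
  let S : ShortComplex X.Modules :=
    ShortComplex.mk (kernel.ι (biprod.desc ι₁ ι₂)) (Abelian.factorThruImage (biprod.desc ι₁ ι₂)) w
  have hS : S.ShortExact :=
    { exact := S.exact_of_f_is_kernel
        (isKernelOfComp (Abelian.image.ι (biprod.desc ι₁ ι₂)) (biprod.desc ι₁ ι₂)
          (kernelIsKernel (biprod.desc ι₁ ι₂)) w (Abelian.image.fac (biprod.desc ι₁ ι₂)))
      mono_f := inferInstanceAs (Mono (kernel.ι (biprod.desc ι₁ ι₂)))
      epi_g := inferInstanceAs (Epi (Abelian.factorThruImage (biprod.desc ι₁ ι₂))) }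
  have hS' : (S.map (Groth.Agent.Lib.QCoh.toAbFunctor X)).ShortExact := hS.map_of_exact _
  have h1' := Groth.Agent.S0029.L1 f (kernel (biprod.desc ι₁ ι₂)) hz V hV
  exact Groth.Agent.Lib.Cohomology.Leray.sections_surjective_of_H1 hS' (f ⁻¹ᵁ V) h1'

end Groth.Agent.S4377
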