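import Groth.Statements.S4378
import Mathlib
-- import your own Groth.Agent.* helpers here

set_option autoImplicit false
universe u
open CategoryTheory CategoryTheory.Limits AlgebraicGeometry
open EGA2

namespace Groth.Agent.S4378
open CategoryTheory AlgebraicGeometry Limits


/-- The square `X ×_S S' → Y ×_S S'` over `f : X → Y` is a pullback. -/
lemma isPullback_map {X Y S S' : Scheme.{u}} (q : Y ⟶ S) (f : X ⟶ Y) (g : S' ⟶ S) :
    IsPullback (pullback.map (f ≫ q) g q g f (𝟙 S') (𝟙 S) (Category.comp_id (f ≫ q))
        ((Category.comp_id g).trans (Category.id_comp g).symm))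
      (pullback.fst (f ≫ q) g) (pullback.fst q g) f := by
  refine IsPullback.of_right (h₁₂ := pullback.snd q g) (v₁₃ := g) (h₂₂ := q) ?_ ?_ ?_
  · have : pullback.map (f ≫ q) g q g f (𝟙 S') (𝟙 S) (Category.comp_id (f ≫ q))
        ((Category.comp_id g).trans (Category.id_comp g).symm) ≫ pullback.snd q g =
        pullback.snd (f ≫ q) g := (pullback.lift_snd _ _ _).trans (Category.comp_id _)
    rw [this]
    exact (IsPullback.of_hasPullback (f ≫ q) g).flip
  · exact pullback.lift_fst _ _ _
  · exact (IsPullback.of_hasPullback q g).flip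

lemma isClosedMap_of_isPullback {X' T W Z : Scheme.{u}} {a : X' ⟶ W} {b : X' ⟶ T}
    {φ : W ⟶ Z} {γ : T ⟶ Z} (h : IsPullback a b φ γ) [IsClosedImmersion γ]
    (hφ : IsClosedMap φ.base) : IsClosedMap b.base := by
  haveI : IsClosedImmersion a := MorphismProperty.of_isPullback h.flip inferInstance
  intro C hC
  have h1 : IsClosed (a.base '' C) := a.isClosedEmbedding.isClosedMap C hC
  have h2 : IsClosed (φ.base '' (a.base '' C)) := hφ _ h1
  have : b.base '' C = γ.base ⁻¹' (φ.base '' (a.base '' C)) := by
    ext t
    constructor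
    · rintro ⟨c, hc, rfl⟩
      refine ⟨a.base c, ⟨c, hc, rfl⟩, ?_⟩
      rw [← Scheme.Hom.comp_apply, ← Scheme.Hom.comp_apply, h.w]
    · rintro ⟨z, ⟨c, hc, rfl⟩, hz⟩
      obtain ⟨w, hw1, hw2⟩ := Scheme.exists_preimage_of_isPullback h (a.base c) t hz
      have : w = c := a.isClosedEmbedding.injective hw1
      exact ⟨c, hc, this ▸ hw2⟩
  rw [this]
  exact h2.preimage γ.continuous


/-- Let q : Y → S be separated and of finite type, and f : X → Y a morphism such that X is also
separated and of finite type over S through f ≫ q. Then f is proper if and only if for every scheme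
S' over S the morphism X ×_S S' → Y ×_S S' induced by f is closed (as a map of topological spaces). -/
theorem result {X Y S : Scheme.{u}} (q : Y ⟶ S) (f : X ⟶ Y)
    [IsSeparated q] [LocallyOfFiniteType q] [QuasiCompact q]
    [IsSeparated (f ≫ q)] [LocallyOfFiniteType (f ≫ q)] [QuasiCompact (f ≫ q)] :
    IsProper f ↔ ∀ (S' : Scheme.{u}) (g : S' ⟶ S),
      IsClosedMap (pullback.map (f ≫ q) g q g f (𝟙 S') (𝟙 S) (Category.comp_id (f ≫ q))
        ((Category.comp_id g).trans (Category.id_comp g).symm)).base := by
  constructor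
  · intro hf S' g
    haveI : IsProper (pullback.map (f ≫ q) g q g f (𝟙 S') (𝟙 S) (Category.comp_id (f ≫ q))
        ((Category.comp_id g).trans (Category.id_comp g).symm)) :=
      MorphismProperty.of_isPullback (isPullback_map q f g).flip hf
    exact Scheme.Hom.isClosedMap _
  · intro H
    haveI : IsSeparated f := IsSeparated.of_comp f q
    haveI : LocallyOfFiniteType f := locallyOfFiniteType_of_comp f q
    haveI : QuasiCompact f := QuasiCompact.of_comp f q
    haveI : UniversallyClosed f := by
      rw [universallyClosed_eq]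
      intro X' T i₁ h f' sq
      -- sq : IsPullback f' i₁ h f
      let Γ : T ⟶ pullback q (h ≫ q) := pullback.lift h (𝟙 T) (by simp)
      haveI : IsClosedImmersion (Γ ≫ pullback.snd q (h ≫ q)) := by
        have : Γ ≫ pullback.snd q (h ≫ q) = 𝟙 T := pullback.lift_snd _ _ _
        rw [this]; infer_instance
      haveI : IsClosedImmersion Γ := IsClosedImmersion.of_comp Γ (pullback.snd q (h ≫ q))
      let Γ' : X' ⟶ pullback (f ≫ q) (h ≫ q) := pullback.lift i₁ f' (by
        rw [← Category.assoc, ← Category.assoc, sq.w])
      have hp : IsPullback Γ' f' (pullback.map (f ≫ q) (h ≫ q) q (h ≫ q) f (𝟙 T) (𝟙 S)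
          (Category.comp_id (f ≫ q))
          ((Category.comp_id (h ≫ q)).trans (Category.id_comp (h ≫ q)).symm)) Γ := by
        refine IsPullback.of_right (h₁₂ := pullback.fst (f ≫ q) (h ≫ q)) (v₁₃ := f)
          (h₂₂ := pullback.fst q (h ≫ q)) ?_ ?_ (isPullback_map q f (h ≫ q)).flip
        · have e1 : Γ' ≫ pullback.fst (f ≫ q) (h ≫ q) = i₁ := pullback.lift_fst _ _ _
          have e2 : Γ ≫ pullback.fst q (h ≫ q) = h := pullback.lift_fst _ _ _
          rw [e1, e2]
          exact sq.flip
        · apply pullback.hom_ext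
          · simp only [Γ, Γ', pullback.map, Category.assoc]
            rw [pullback.lift_fst, pullback.lift_fst, pullback.lift_fst_assoc]
            exact sq.w.symm
          · simp only [Γ, Γ', pullback.map, Category.assoc]
            rw [pullback.lift_snd, pullback.lift_snd, pullback.lift_snd_assoc]
      exact isClosedMap_of_isPullback hp (H T (h ≫ q))
    exact {}

end Groth.Agent.S4378
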