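import Groth.Statements.S4380
import Groth.Agent.Lib.Helper56.RelAmpleB

set_option autoImplicit false
universe u
open CategoryTheory CategoryTheory.Limits AlgebraicGeometry
open EGA2

namespace Groth.Agent.S4380

open Groth.Agent.Lib.Helper56.RelAmple in
/-- Let f : X → Y be a quasi-compact morphism, L an O_X-module and (U_i) a cover of Y by open subsets.
Then L is ample relative to f if and only if, for every i, the restriction of L to f⁻¹(U_i) is ample
relative to the restriction f⁻¹(U_i) → U_i of f. -/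
theorem result {X Y : Scheme.{u}} (f : X ⟶ Y) [QuasiCompact f] (L : X.Modules)
    {ι : Type u} (U : ι → Y.Opens) (hU : ⨆ i, U i = ⊤) :
    RelAmple.IsRelAmple f L ↔ ∀ i, RelAmple.IsRelAmple (f ∣_ (U i)) (L.restrict (f ⁻¹ᵁ (U i)).ι) := by
  constructor
  · rintro ⟨_, h⟩ i
    refine ⟨inferInstance, fun V' => ?_⟩
    have hV : IsAffineOpen ((U i).ι ''ᵁ V'.1) := V'.2.image_of_isOpenImmersion (U i).ι
    rw [isAmple_restrict_restrict_iff]
    exact isAmple_restrict_congr (image_morphismRestrict_preimage f (U i) V'.1).symm (h ⟨_, hV⟩)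
  · intro h
    refine ⟨inferInstance, fun V => ?_⟩
    apply isAmple_restrict_of_forall_exists_basicOpen _ (f.isCompact_preimage V.2.isCompact)
    intro x hx
    have hy : f x ∈ (⊤ : Y.Opens) := trivial
    rw [← hU] at hy
    obtain ⟨i, hyi⟩ := TopologicalSpace.Opens.mem_iSup.mp hy
    obtain ⟨h', hle, hyh⟩ := V.2.exists_basicOpen_le (V := U i) ⟨f x, hyi⟩ hx
    refine ⟨f.app V.1 h', ?_, ?_⟩
    · rw [← Scheme.preimage_basicOpen]; exact hyh
    · -- the affine open `D(h')` of `Y`, inside `U i`
      have hD : IsAffineOpen (Y.basicOpen h') := V.2.basicOpen h'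
      have himg : (U i).ι ''ᵁ ((U i).ι ⁻¹ᵁ Y.basicOpen h') = Y.basicOpen h' := by
        rw [Scheme.Hom.image_preimage_eq_opensRange_inf, Scheme.Opens.opensRange_ι]
        exact inf_eq_right.mpr hle
      have hV'' : IsAffineOpen ((U i).ι ⁻¹ᵁ Y.basicOpen h') := by
        rw [← Scheme.Hom.isAffineOpen_iff_of_isOpenImmersion (U i).ι, himg]
        exact hD
      have h1 := (h i).2 ⟨_, hV''⟩
      rw [isAmple_restrict_restrict_iff] at h1
      refine isAmple_restrict_congr ?_ h1
      rw [image_morphismRestrict_preimage, ← Scheme.preimage_basicOpen]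
      exact congrArg (fun T => f ⁻¹ᵁ T) himg

end Groth.Agent.S4380
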