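import Groth.Statements.S4382
import Groth.Agent.Lib.Ample.Helper50_RelIdeal
import Groth.Agent.Lib.Ample.Helper50_Counit

set_option autoImplicit false
universe u
open CategoryTheory CategoryTheory.Limits AlgebraicGeometry
open EGA2

namespace Groth.Agent.S4382

/-- Let X be a quasi-compact separated scheme, f : X → Y a separated quasi-compact morphism and L an
invertible O_X-module. Then L is ample relative to f if and only if for every quasi-coherent
O_X-module F of finite type there is n₀ > 0 such that for every n ≥ n₀ the canonical morphism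
f^*(f_*(F ⊗ L^{⊗n})) → F ⊗ L^{⊗n} (the counit of the adjunction between f^* and f_*) is an
epimorphism. (The published statement also allows X to be a scheme whose underlying space is
Noetherian; this row assumes X quasi-compact and separated.) -/
theorem result {X Y : Scheme.{u}} [CompactSpace X] [X.IsSeparated] (f : X ⟶ Y)
    [IsSeparated f] [QuasiCompact f] (L : X.Modules) (hL : PicF.IsInvertible L) :
    RelAmple.IsRelAmple f L ↔ ∀ F : X.Modules, Coh.IsQCoh F → CohB1.IsFT F →
      ∃ n₀ : ℕ, 0 < n₀ ∧ ∀ n : ℕ, n₀ ≤ n →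
        Epi ((Scheme.Modules.pullbackPushforwardAdjunction f).counit.app (CohB1.tensorMod F (CohB1.tensorPow L n))) := by
  have hqs : QuasiSeparatedSpace X := inferInstance
  constructor
  · intro hrel F hF hF'
    have : F.IsQuasicoherent := hF
    have : F.IsFiniteType := hF'
    -- finitely many affine opens of `Y` covering the image
    have hcovX : ∀ x : X, ∃ V : Y.Opens, IsAffineOpen V ∧ f.base x ∈ V := by
      intro x
      obtain ⟨V, hV, hxV, -⟩ := exists_isAffineOpen_mem_and_subset (x := f.base x) (U := ⊤) trivial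
      exact ⟨V, hV, hxV⟩
    choose V hV hxV using hcovX
    obtain ⟨t, ht⟩ := isCompact_univ.elim_finite_subcover (fun x : X => ((f ⁻¹ᵁ V x : X.Opens) : Set X))
      (fun x => (f ⁻¹ᵁ V x).2) (fun x _ => Set.mem_iUnion.mpr ⟨x, hxV x⟩)
    obtain ⟨N, hN⟩ := Groth.Agent.Lib.Ample.Counit.epi_counit_tensorPow_of_cover f (L := L) F
      (fun x : t => V x.1)
      (fun x => by
        obtain ⟨y, hy, hxy⟩ := Set.mem_iUnion₂.mp (ht (Set.mem_univ x))
        exact ⟨⟨y, hy⟩, hxy⟩)
      (fun x => hrel.2 ⟨V x.1, hV x.1⟩)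
    exact ⟨max N 1, lt_of_lt_of_le Nat.zero_lt_one (le_max_right _ _),
      fun n hn => hN n ((le_max_left _ _).trans hn)⟩
  · intro h
    refine Groth.Agent.Lib.Ample.RelIdeal.isRelAmple_of_forall_ideal f L hL ?_
    intro J i _ hJ hJ'
    obtain ⟨n₀, hn₀, hn⟩ := h J hJ hJ'
    exact ⟨n₀, hn₀, hn n₀ le_rfl⟩

end Groth.Agent.S4382
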