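import Groth.Statements.S4387
import Groth.Agent.S2327
import Groth.Agent.Lib.Helper56.SepAmple
import Groth.Agent.Lib.Ample.Restrict

set_option autoImplicit false
universe u
open CategoryTheory CategoryTheory.Limits AlgebraicGeometry
open EGA2

namespace Groth.Agent.S4387

/-- Let f : X → Y be a quasi-compact morphism, L an invertible O_X-module and n > 0 an integer. Then L
is ample relative to f if and only if L^{⊗n} is ample relative to f. -/
theorem result {X Y : Scheme.{u}} (f : X ⟶ Y) [QuasiCompact f] (L : X.Modules)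
    (hL : PicF.IsInvertible L) (n : ℕ) (hn : 0 < n) :
    RelAmple.IsRelAmple f L ↔ RelAmple.IsRelAmple f (CohB1.tensorPow L n) := by
  have key : ∀ V : Y.affineOpens, CohB1.IsAmple (L.restrict (f ⁻¹ᵁ V.1).ι) ↔
      CohB1.IsAmple ((CohB1.tensorPow L n).restrict (f ⁻¹ᵁ V.1).ι) := by
    intro V
    have hc : CompactSpace (↑(f ⁻¹ᵁ V.1) : Scheme.{u}) :=
      isCompact_iff_compactSpace.mp
        (QuasiCompact.isCompact_preimage (f := f) _ V.1.isOpen V.2.isCompact)
    have hinv := Groth.Agent.Lib.QCoh.isInvertible_restrict (f ⁻¹ᵁ V.1).ι hL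
    have e := Groth.Agent.Lib.QCoh.restrictTensorPowIso (f ⁻¹ᵁ V.1).ι L n
    constructor
    · intro h
      have hs : (↑(f ⁻¹ᵁ V.1) : Scheme.{u}).IsSeparated :=
        Groth.Agent.Lib.Helper56.Sep.isSeparated_of_forall_exists_genLocus h.1 h.2.2
      exact Groth.Agent.Lib.Ample.isAmple_of_iso e.symm
        ((Groth.Agent.S2327.result _ _ hinv n hn).1 h)
    · intro h
      have h' := Groth.Agent.Lib.Ample.isAmple_of_iso e h
      have hs : (↑(f ⁻¹ᵁ V.1) : Scheme.{u}).IsSeparated :=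
        Groth.Agent.Lib.Helper56.Sep.isSeparated_of_forall_exists_genLocus h'.1 h'.2.2
      exact (Groth.Agent.S2327.result _ _ hinv n hn).2 h'
  exact ⟨fun ⟨h1, h2⟩ => ⟨h1, fun V => (key V).1 (h2 V)⟩,
    fun ⟨h1, h2⟩ => ⟨h1, fun V => (key V).2 (h2 V)⟩⟩

end Groth.Agent.S4387
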