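import Groth.Statements.S4389
import Mathlib
-- import your own Groth.Agent.* helpers here

set_option autoImplicit false
universe u
open EGA2

namespace Groth.Agent.S4389

open DirectSum in
theorem adjoin_le_zero_add_span {R A : Type u} [CommRing R] [CommRing A] [Algebra R A]
    (𝒜 : ℕ → Submodule R A) [GradedAlgebra 𝒜] (E : Set A) (x : A)
    (hx : x ∈ Algebra.adjoin (𝒜 0) E) : ∃ a ∈ 𝒜 0, x - a ∈ Ideal.span E := by
  induction hx using Algebra.adjoin_induction with
  | mem y hy => exact ⟨0, zero_mem _, by simpa using Ideal.subset_span hy⟩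
  | algebraMap r => exact ⟨r, r.2, by simp⟩
  | add y z _ _ hy hz =>
    obtain ⟨a, ha, hya⟩ := hy
    obtain ⟨b, hb, hzb⟩ := hz
    refine ⟨a + b, add_mem ha hb, ?_⟩
    have : y + z - (a + b) = (y - a) + (z - b) := by ring
    rw [this]; exact add_mem hya hzb
  | mul y z _ _ hy hz =>
    obtain ⟨a, ha, hya⟩ := hy
    obtain ⟨b, hb, hzb⟩ := hz
    refine ⟨a * b, ?_, ?_⟩
    · have := SetLike.GradedMul.mul_mem (A := 𝒜) ha hb
      simpa using this
    · have : y * z - a * b = (y - a) * z + a * (z - b) := by ring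
      rw [this]
      exact add_mem (Ideal.mul_mem_right _ _ hya) (Ideal.mul_mem_left _ _ hzb)

open DirectSum in
theorem mem_adjoin_of_span {R A : Type u} [CommRing R] [CommRing A] [Algebra R A]
    (𝒜 : ℕ → Submodule R A) [GradedAlgebra 𝒜] (E : Set A)
    (hE : ∀ e ∈ E, ∃ d : ℕ, 0 < d ∧ e ∈ 𝒜 d) (d : ℕ)
    (ih : ∀ d' < d, ∀ y ∈ 𝒜 d', y ∈ Algebra.adjoin (𝒜 0) E)
    (x : A) (hx : x ∈ Ideal.span E) :
    ∀ a : A, ((decompose 𝒜 (a * x) d : 𝒜 d) : A) ∈ Algebra.adjoin (𝒜 0) E := by
  classical
  induction hx using Submodule.span_induction with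
  | mem e he =>
    intro a
    obtain ⟨k, hk, hek⟩ := hE e he
    rw [coe_decompose_mul_of_right_mem 𝒜 d hek]
    split_ifs with hkd
    · exact mul_mem (ih (d - k) (by omega) _ (SetLike.coe_mem _)) (Algebra.subset_adjoin he)
    · exact zero_mem _
  | zero => intro a; simp
  | add y z _ _ hy hz =>
    intro a
    rw [mul_add, decompose_add, DirectSum.add_apply, Submodule.coe_add]
    exact add_mem (hy a) (hz a)
  | smul b y _ hy =>
    intro a
    rw [smul_eq_mul, ← mul_assoc]
    exact hy (a * b)

/-- Let S be a ring graded in nonnegative degrees, S_0 its degree-zero subring, S_+ its irrelevant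
ideal, and E a set of homogeneous elements of positive degree. Then E generates S_+ as an ideal of S
if and only if E generates S as an S_0-algebra. -/
theorem result {R A : Type u} [CommRing R] [CommRing A] [Algebra R A] (𝒜 : ℕ → Submodule R A) [GradedAlgebra 𝒜]
    (E : Set A) (hE : ∀ e ∈ E, ∃ d : ℕ, 0 < d ∧ e ∈ 𝒜 d) :
    (HomogeneousIdeal.irrelevant 𝒜).toIdeal = Ideal.span E ↔ Algebra.adjoin (𝒜 0) E = ⊤ := by
  classical
  constructor
  · intro h
    rw [eq_top_iff]
    rintro x -
    have key : ∀ d : ℕ, ∀ y ∈ 𝒜 d, y ∈ Algebra.adjoin (𝒜 0) E := by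
      intro d
      induction d using Nat.strong_induction_on with
      | _ d ih =>
        intro y hy
        rcases Nat.eq_zero_or_pos d with rfl | hd
        · exact Subalgebra.algebraMap_mem _ (⟨y, hy⟩ : 𝒜 0)
        · have hy' : y ∈ Ideal.span E := by
            rw [← h]
            exact HomogeneousIdeal.mem_irrelevant_of_mem 𝒜 hd hy
          have := mem_adjoin_of_span 𝒜 E hE d ih y hy' 1
          rwa [one_mul, DirectSum.decompose_of_mem_same 𝒜 hy] at this
    rw [← DirectSum.sum_support_decompose 𝒜 x]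
    exact sum_mem fun i _ => key i _ (SetLike.coe_mem _)
  · intro h
    apply le_antisymm
    · rw [HomogeneousIdeal.irrelevant_eq_span, Ideal.span_le]
      intro x hx
      simp only [Set.mem_iUnion] at hx
      obtain ⟨i, hi, hxi⟩ := hx
      have hx' : x ∈ Algebra.adjoin (𝒜 0) E := by rw [h]; trivial
      obtain ⟨a, ha, hxa⟩ := adjoin_le_zero_add_span 𝒜 E x hx'
      have hspan : Ideal.span E ≤ (HomogeneousIdeal.irrelevant 𝒜).toIdeal := by
        rw [Ideal.span_le]
        intro e he
        obtain ⟨d, hd, hed⟩ := hE e he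
        exact HomogeneousIdeal.mem_irrelevant_of_mem 𝒜 hd hed
      have hxirr : x ∈ (HomogeneousIdeal.irrelevant 𝒜).toIdeal :=
        HomogeneousIdeal.mem_irrelevant_of_mem 𝒜 hi hxi
      have hairr : a ∈ (HomogeneousIdeal.irrelevant 𝒜).toIdeal := by
        have : a = x - (x - a) := by ring
        rw [this]
        exact sub_mem hxirr (hspan hxa)
      have ha0 : a = 0 := by
        have h1 := (HomogeneousIdeal.mem_irrelevant_iff 𝒜 a).mp hairr
        rw [GradedRing.proj_apply, DirectSum.decompose_of_mem_same 𝒜 ha] at h1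
        exact h1
      rw [ha0, sub_zero] at hxa
      exact hxa
    · rw [Ideal.span_le]
      intro e he
      obtain ⟨d, hd, hed⟩ := hE e he
      exact HomogeneousIdeal.mem_irrelevant_of_mem 𝒜 hd hed

end Groth.Agent.S4389
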