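import Groth.Statements.S4390
import Mathlib
import Groth.Agent.S4389
-- import your own Groth.Agent.* helpers here

set_option autoImplicit false
universe u
open EGA2

namespace Groth.Agent.S4390

/-- Let S be a ring graded in nonnegative degrees. Then the irrelevant ideal S_+ is a finitely generated
ideal if and only if S is an S_0-algebra of finite type. -/
theorem result {R A : Type u} [CommRing R] [CommRing A] [Algebra R A] (𝒜 : ℕ → Submodule R A) [GradedAlgebra 𝒜] :
    (HomogeneousIdeal.irrelevant 𝒜).toIdeal.FG ↔ Algebra.FiniteType (𝒜 0) A := by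
  classical
  constructor
  · rintro ⟨F, hF⟩
    let E : Finset A := F.biUnion fun f =>
      (DirectSum.decompose 𝒜 f).support.image fun d => ((DirectSum.decompose 𝒜 f d : 𝒜 d) : A)
    have hFirr : ∀ f ∈ F, f ∈ (HomogeneousIdeal.irrelevant 𝒜).toIdeal := by
      intro f hf
      rw [← hF]
      exact Ideal.subset_span hf
    have hEdeg : ∀ e ∈ (E : Set A), ∃ d : ℕ, 0 < d ∧ e ∈ 𝒜 d := by
      intro e he
      simp only [E, Finset.coe_biUnion, Finset.coe_image, Set.mem_iUnion, Set.mem_image,
        Finset.mem_coe] at he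
      obtain ⟨f, hf, d, hd, rfl⟩ := he
      refine ⟨d, ?_, SetLike.coe_mem _⟩
      rcases Nat.eq_zero_or_pos d with rfl | hd0
      · exfalso
        have h1 := (HomogeneousIdeal.mem_irrelevant_iff 𝒜 f).mp (hFirr f hf)
        rw [GradedRing.proj_apply] at h1
        rw [DFinsupp.mem_support_iff] at hd
        exact hd (Subtype.ext h1)
      · exact hd0
    have hspan : (HomogeneousIdeal.irrelevant 𝒜).toIdeal = Ideal.span (E : Set A) := by
      apply le_antisymm
      · rw [← hF, Ideal.span_le]
        intro f hf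
        rw [← DirectSum.sum_support_decompose 𝒜 f]
        refine sum_mem fun d hd => Ideal.subset_span ?_
        simp only [E, Finset.coe_biUnion, Finset.coe_image, Set.mem_iUnion, Set.mem_image,
          Finset.mem_coe]
        exact ⟨f, hf, d, hd, rfl⟩
      · rw [Ideal.span_le]
        intro e he
        obtain ⟨d, hd, hed⟩ := hEdeg e he
        exact HomogeneousIdeal.mem_irrelevant_of_mem 𝒜 hd hed
    have := (Groth.Agent.S4389.result 𝒜 (E : Set A) hEdeg).mp hspan
    exact ⟨⟨E, this⟩⟩
  · intro hft
    obtain ⟨s, hs, hsdeg⟩ := GradedAlgebra.exists_finset_adjoin_eq_top_and_homogeneous_ne_zero 𝒜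
    have hsdeg' : ∀ e ∈ (s : Set A), ∃ d : ℕ, 0 < d ∧ e ∈ 𝒜 d := by
      intro e he
      obtain ⟨n, hn, hen⟩ := hsdeg e he
      exact ⟨n, Nat.pos_of_ne_zero hn, hen⟩
    have := (Groth.Agent.S4389.result 𝒜 (s : Set A) hsdeg').mpr hs
    exact ⟨s, this.symm⟩

end Groth.Agent.S4390
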