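import Groth.Statements.S4394
import Mathlib
import Groth.Agent.S4389
import Groth.Agent.Lib.Helper22.Graded
-- import your own Groth.Agent.* helpers here

set_option autoImplicit false
universe u
open EGA2

namespace Groth.Agent.S4394

/-- Let S be a ring graded in nonnegative degrees which is an S_0-algebra of finite type. Then for every
integer n > 0 there is m₀ such that S_m ⊆ (S_+)^n for all m ≥ m₀. -/
theorem result {R A : Type u} [CommRing R] [CommRing A] [Algebra R A] (𝒜 : ℕ → Submodule R A) [GradedAlgebra 𝒜] [Algebra.FiniteType (𝒜 0) A]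
    (n : ℕ) (hn : 0 < n) :
    ∃ m₀ : ℕ, ∀ m : ℕ, m₀ ≤ m → (𝒜 m : Set A) ⊆ ((HomogeneousIdeal.irrelevant 𝒜).toIdeal ^ n : Ideal A) := by
  classical
  obtain ⟨s, hs, hsdeg⟩ := GradedAlgebra.exists_finset_adjoin_eq_top_and_homogeneous_ne_zero 𝒜
  have hsdeg' : ∀ e ∈ (s : Set A), ∃ d : ℕ, 0 < d ∧ e ∈ 𝒜 d := by
    intro e he
    obtain ⟨k, hk, hek⟩ := hsdeg e he
    exact ⟨k, Nat.pos_of_ne_zero hk, hek⟩
  have hspan : (HomogeneousIdeal.irrelevant 𝒜).toIdeal = Ideal.span (s : Set A) :=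
    (Groth.Agent.S4389.result 𝒜 (s : Set A) hsdeg').mpr hs
  choose! deg hdeg using hsdeg
  set D := s.sup deg with hD
  -- induction on n ≥ 1
  induction n, hn using Nat.le_induction with
  | base =>
    refine ⟨1, fun m hm x hx => ?_⟩
    rw [pow_one]
    exact HomogeneousIdeal.mem_irrelevant_of_mem 𝒜 (by omega) hx
  | succ n hn ih =>
    obtain ⟨m₀, hm₀⟩ := ih
    refine ⟨m₀ + D + 1, fun m hm x hx => ?_⟩
    have hxspan : x ∈ Ideal.span (s : Set A) := by
      rw [← hspan]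
      exact HomogeneousIdeal.mem_irrelevant_of_mem 𝒜 (by omega) hx
    refine Groth.Agent.Lib.Helper22.mem_of_mem_span_of_mem_deg 𝒜 (s : Set A)
      (((HomogeneousIdeal.irrelevant 𝒜).toIdeal ^ (n + 1) : Ideal A).toAddSubmonoid) m ?_ x
      hxspan hx
    intro e he
    refine ⟨deg e, (hdeg e he).2, fun hle y hy => ?_⟩
    have hdegD : deg e ≤ D := Finset.le_sup (f := deg) he
    have hy' : y ∈ ((HomogeneousIdeal.irrelevant 𝒜).toIdeal ^ n : Ideal A) :=
      hm₀ (m - deg e) (by omega) hy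
    have he' : e ∈ (HomogeneousIdeal.irrelevant 𝒜).toIdeal :=
      HomogeneousIdeal.mem_irrelevant_of_mem 𝒜 (Nat.pos_of_ne_zero (hdeg e he).1) (hdeg e he).2
    change y * e ∈ ((HomogeneousIdeal.irrelevant 𝒜).toIdeal ^ (n + 1) : Ideal A)
    rw [pow_succ]
    exact Ideal.mul_mem_mul hy' he'

end Groth.Agent.S4394
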