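import Groth.Statements.S4392
import Mathlib
import Groth.Agent.S4389
import Groth.Agent.S4394
import Groth.Agent.Lib.Helper22.Graded
import Groth.Agent.Lib.Helper22.GradedModule
-- import your own Groth.Agent.* helpers here

set_option autoImplicit false
universe u
open EGA2

namespace Groth.Agent.S4392

/-- ring version: `A_{m+h} ⊆ A_h * A_m` for `m` large. -/
theorem ring_version {R A : Type u} [CommRing R] [CommRing A] [Algebra R A]
    (𝒜 : ℕ → Submodule R A) [GradedAlgebra 𝒜] [Algebra.FiniteType (𝒜 0) A] :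
    ∃ (m₁ h : ℕ), 0 < h ∧ ∀ m : ℕ, m₁ ≤ m → 𝒜 (m + h) ≤ 𝒜 h * 𝒜 m := by
  classical
  obtain ⟨s, hs, hsdeg⟩ := GradedAlgebra.exists_finset_adjoin_eq_top_and_homogeneous_ne_zero 𝒜
  have hsdeg' : ∀ e ∈ (s : Set A), ∃ d : ℕ, 0 < d ∧ e ∈ 𝒜 d := by
    intro e he
    obtain ⟨k, hk, hek⟩ := hsdeg e he
    exact ⟨k, Nat.pos_of_ne_zero hk, hek⟩
  have hspan : (HomogeneousIdeal.irrelevant 𝒜).toIdeal = Ideal.span (s : Set A) :=
    (Groth.Agent.S4389.result 𝒜 (s : Set A) hsdeg').mpr hs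
  choose! deg hdeg using hsdeg
  set h := ∏ e ∈ s, deg e with hh
  have hpos : 0 < h := Finset.prod_pos fun e he => Nat.pos_of_ne_zero (hdeg e he).1
  let G : Set A := (fun e => e ^ (h / deg e)) '' (s : Set A)
  have hG : ∀ g ∈ G, g ∈ 𝒜 h := by
    rintro _ ⟨e, he, rfl⟩
    have hdvd : deg e ∣ h := Finset.dvd_prod_of_mem deg he
    have := SetLike.pow_mem_graded (h / deg e) (hdeg e he).2
    rwa [smul_eq_mul, Nat.div_mul_cancel hdvd] at this
  have hrad : (HomogeneousIdeal.irrelevant 𝒜).toIdeal ≤ (Ideal.span G).radical := by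
    rw [hspan, Ideal.span_le]
    intro e he
    exact ⟨h / deg e, Ideal.subset_span ⟨e, he, rfl⟩⟩
  have hfg : (HomogeneousIdeal.irrelevant 𝒜).toIdeal.FG := ⟨s, hspan.symm⟩
  obtain ⟨N, hN⟩ := Ideal.exists_pow_le_of_le_radical_of_fg hrad hfg
  obtain ⟨m₀, hm₀⟩ := Groth.Agent.S4394.result 𝒜 (N + 1) (Nat.succ_pos N)
  refine ⟨m₀, h, hpos, fun m hm x hx => ?_⟩
  have hxJ : x ∈ Ideal.span G :=
    hN (Ideal.pow_le_pow_right (Nat.le_succ N) (hm₀ (m + h) (by omega) hx))
  refine Groth.Agent.Lib.Helper22.mem_of_mem_span_of_mem_deg 𝒜 G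
    (𝒜 h * 𝒜 m).toAddSubmonoid (m + h) ?_ x hxJ hx
  intro g hg
  refine ⟨h, hG g hg, fun _ y hy => ?_⟩
  rw [Nat.add_sub_cancel] at hy
  rw [mul_comm y g]
  exact Submodule.mul_mem_mul (hG g hg) hy

/-- Let S be a ring graded in nonnegative degrees which is an S_0-algebra of finite type, and M a
finitely generated graded S-module, graded in nonnegative degrees. Then there exist an integer n₁
and an integer h > 0 such that M_{n+h} = S_h M_n for every n ≥ n₁. (The published statement allows M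
graded in all integer degrees; this row takes M graded in nonnegative degrees.) -/
theorem result {R A : Type u} [CommRing R] [CommRing A] [Algebra R A] (𝒜 : ℕ → Submodule R A) [GradedAlgebra 𝒜] [Algebra.FiniteType (𝒜 0) A]
    {M : Type u} [AddCommGroup M] [Module R M] [Module A M] [IsScalarTower R A M] (ℳ : ℕ → Submodule R M) [DirectSum.Decomposition ℳ] [SetLike.GradedSMul 𝒜 ℳ] [Module.Finite A M] :
    ∃ (n₁ h : ℕ), 0 < h ∧ ∀ n : ℕ, n₁ ≤ n → ℳ (n + h) = (𝒜 h : Submodule R A) • (ℳ n : Submodule R M) := by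
  classical
  obtain ⟨m₁, h, hpos, hring⟩ := ring_version 𝒜
  obtain ⟨Y, hY, hYdeg⟩ :=
    Groth.Agent.Lib.Helper22.exists_finset_homogeneous_span_eq_top (A := A) ℳ
  choose! deg hdeg using hYdeg
  refine ⟨m₁ + Y.sup deg, h, hpos, fun n hn => le_antisymm ?_ ?_⟩
  · intro x hx
    refine Groth.Agent.Lib.Helper22.mem_of_mem_span_of_mem_deg_module 𝒜 ℳ (Y : Set M)
      ((𝒜 h : Submodule R A) • (ℳ n : Submodule R M)).toAddSubmonoid (n + h) ?_ x
      (by rw [hY]; trivial) hx
    intro y hy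
    refine ⟨deg y, hdeg y hy, fun i hi a ha => ?_⟩
    have hk : deg y ≤ Y.sup deg := Finset.le_sup (f := deg) hy
    have hi' : i = (i - h) + h := by omega
    have hmem : a ∈ 𝒜 h * 𝒜 (i - h) := hring (i - h) (by omega) (hi' ▸ ha)
    change a • y ∈ ((𝒜 h : Submodule R A) • (ℳ n : Submodule R M))
    refine Submodule.mul_induction_on hmem ?_ ?_
    · intro b hb c hc
      rw [mul_smul]
      refine Submodule.smul_mem_smul hb ?_
      have h1 : c • y ∈ ℳ ((i - h) + deg y) :=
        SetLike.GradedSMul.smul_mem (A := 𝒜) (B := ℳ) (i := i - h) (j := deg y) hc (hdeg y hy)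
      have e : (i - h) + deg y = n := by omega
      exact e ▸ h1
    · intro u v hu hv
      rw [add_smul]; exact add_mem hu hv
  · rw [Submodule.smul_le]
    intro a ha m hm
    have h1 : a • m ∈ ℳ (h + n) :=
      SetLike.GradedSMul.smul_mem (A := 𝒜) (B := ℳ) (i := h) (j := n) ha hm
    rwa [add_comm] at h1

end Groth.Agent.S4392
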