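import Groth.Statements.S4393
import Mathlib
import Groth.Agent.S4392
-- import your own Groth.Agent.* helpers here

set_option autoImplicit false
universe u
open EGA2

namespace Groth.Agent.S4393

theorem pow_le_graded {R A : Type u} [CommRing R] [CommRing A] [Algebra R A]
    (𝒜 : ℕ → Submodule R A) [GradedAlgebra 𝒜] (h c : ℕ) :
    (𝒜 h : Submodule R A) ^ c ≤ 𝒜 (c * h) := by
  induction c with
  | zero =>
    rw [pow_zero, zero_mul, Submodule.one_le]
    exact SetLike.GradedOne.one_mem
  | succ c ih =>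
    rw [pow_succ, Submodule.mul_le]
    intro x hx y hy
    have h1 : x * y ∈ 𝒜 (c * h + h) := SetLike.GradedMul.mul_mem (ih hx) hy
    have e : c * h + h = (c + 1) * h := by ring
    exact e ▸ h1

/-- Let S be a ring graded in nonnegative degrees which is an S_0-algebra of finite type. Then there is
an integer h > 0 such that S_{mh} = (S_h)^m (the S_0-submodule spanned by m-fold products of
elements of S_h) for every m > 0. -/
theorem result {R A : Type u} [CommRing R] [CommRing A] [Algebra R A] (𝒜 : ℕ → Submodule R A) [GradedAlgebra 𝒜] [Algebra.FiniteType (𝒜 0) A] :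
    ∃ h : ℕ, 0 < h ∧ ∀ m : ℕ, 0 < m → 𝒜 (m * h) = (𝒜 h : Submodule R A) ^ m := by
  classical
  obtain ⟨n₁, h, hpos, hstep⟩ := Groth.Agent.S4392.result 𝒜 (M := A) 𝒜
  have hstep' : ∀ n : ℕ, n₁ ≤ n → 𝒜 (n + h) = 𝒜 h * 𝒜 n := fun n hn => hstep n hn
  -- Claim 1
  have claim1 : ∀ j n : ℕ, n₁ ≤ n → 𝒜 (n + j * h) = (𝒜 h : Submodule R A) ^ j * 𝒜 n := by
    intro j
    induction j with
    | zero => intro n _; simp
    | succ j ih =>
      intro n hn
      have e : n + (j + 1) * h = (n + j * h) + h := by ring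
      rw [e, hstep' (n + j * h) (le_trans hn (Nat.le_add_right _ _)), ih n hn, pow_succ',
        mul_assoc]
  obtain ⟨c, hc0, hc⟩ : ∃ c : ℕ, 0 < c ∧ n₁ ≤ c := ⟨n₁ + 1, Nat.succ_pos _, Nat.le_succ _⟩
  refine ⟨c * h, Nat.mul_pos hc0 hpos, fun m hm => ?_⟩
  induction m, hm using Nat.le_induction with
  | base => simp
  | succ m hm ih =>
    apply le_antisymm
    · have e : (m + 1) * (c * h) = m * (c * h) + c * h := by ring
      have hge : n₁ ≤ m * (c * h) := by
        have h1 : 1 * (c * 1) ≤ m * (c * h) :=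
          Nat.mul_le_mul hm (Nat.mul_le_mul_left c hpos)
        omega
      rw [e, claim1 c (m * (c * h)) hge, ih, pow_succ' (𝒜 (c * h)) m]
      exact mul_le_mul' (pow_le_graded 𝒜 h c) le_rfl
    · exact pow_le_graded 𝒜 (c * h) (m + 1)

end Groth.Agent.S4393
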