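import Groth.Statements.S4395
import Mathlib
import Groth.Agent.Lib.Helper22.Graded

set_option autoImplicit false
universe u
open EGA2

namespace Groth.Agent.S4395

open DirectSum in
/-- A homogeneous ideal not containing the irrelevant ideal misses a homogeneous element of
positive degree. -/
theorem exists_homogeneous_not_mem {R A : Type u} [CommRing R] [CommRing A] [Algebra R A]
    (𝒜 : ℕ → Submodule R A) [GradedAlgebra 𝒜] (𝔭 : HomogeneousIdeal 𝒜)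
    (h : ¬ HomogeneousIdeal.irrelevant 𝒜 ≤ 𝔭) :
    ∃ i : ℕ, 0 < i ∧ ∃ g ∈ 𝒜 i, g ∉ 𝔭.toIdeal := by
  classical
  by_contra hcon
  push Not at hcon
  apply h
  intro x hx
  rw [← DirectSum.sum_support_decompose 𝒜 x]
  refine Ideal.sum_mem _ fun i _ => ?_
  rcases Nat.eq_zero_or_pos i with rfl | hi
  · have : ((decompose 𝒜 x 0 : 𝒜 0) : A) = 0 := (HomogeneousIdeal.mem_irrelevant_iff 𝒜 x).mp hx
    rw [this]; exact Ideal.zero_mem _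
  · exact hcon i hi _ (SetLike.coe_mem _)

/-- A homogeneous prime not containing the irrelevant ideal misses a homogeneous element of
degree a positive multiple of `n₀`... in the form: of degree `≥ n₀`. -/
theorem exists_homogeneous_not_mem_ge {R A : Type u} [CommRing R] [CommRing A] [Algebra R A]
    (𝒜 : ℕ → Submodule R A) [GradedAlgebra 𝒜] (𝔭 : HomogeneousIdeal 𝒜) (hprime : 𝔭.toIdeal.IsPrime)
    (h : ¬ HomogeneousIdeal.irrelevant 𝒜 ≤ 𝔭) (n₀ : ℕ) :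
    ∃ i : ℕ, n₀ ≤ i ∧ ∃ g ∈ 𝒜 i, g ∉ 𝔭.toIdeal := by
  obtain ⟨i, hi, g, hg, hgp⟩ := exists_homogeneous_not_mem 𝒜 𝔭 h
  refine ⟨n₀ * i, Nat.le_mul_of_pos_right n₀ hi, g ^ n₀, ?_, fun hmem => hgp (hprime.mem_of_pow_mem _ hmem)⟩
  have := SetLike.pow_mem_graded n₀ hg
  rwa [smul_eq_mul] at this

/-- Uniqueness half: one inclusion. -/
theorem le_of_inter_eq {R A : Type u} [CommRing R] [CommRing A] [Algebra R A]
    (𝒜 : ℕ → Submodule R A) [GradedAlgebra 𝒜] (n₀ : ℕ) (p : ℕ → AddSubgroup A)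
    (𝔭 𝔮 : HomogeneousIdeal 𝒜) (h𝔮 : 𝔮.toIdeal.IsPrime)
    (hq : ¬ HomogeneousIdeal.irrelevant 𝒜 ≤ 𝔮)
    (h1 : ∀ n : ℕ, n₀ ≤ n → (𝔭.toIdeal : Set A) ∩ 𝒜 n = p n)
    (h2 : ∀ n : ℕ, n₀ ≤ n → (𝔮.toIdeal : Set A) ∩ 𝒜 n = p n) : 𝔭 ≤ 𝔮 := by
  classical
  obtain ⟨i, hi, g, hg, hgq⟩ := exists_homogeneous_not_mem_ge 𝒜 𝔮 h𝔮 hq n₀
  intro x hx
  change x ∈ 𝔮.toIdeal
  rw [← DirectSum.sum_support_decompose 𝒜 x]
  refine Ideal.sum_mem _ fun m _ => ?_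
  have hxm : ((DirectSum.decompose 𝒜 x m : 𝒜 m) : A) ∈ 𝔭.toIdeal := 𝔭.isHomogeneous m hx
  have hmem : g * ((DirectSum.decompose 𝒜 x m : 𝒜 m) : A) ∈ (𝔭.toIdeal : Set A) ∩ 𝒜 (i + m) :=
    ⟨Ideal.mul_mem_left _ _ hxm, SetLike.mul_mem_graded hg (SetLike.coe_mem _)⟩
  rw [h1 (i + m) (by omega), ← h2 (i + m) (by omega)] at hmem
  exact (h𝔮.mem_or_mem hmem.1).resolve_left hgq



/-- Existence half. -/
theorem exists_prime {R A : Type u} [CommRing R] [CommRing A] [Algebra R A]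
    (𝒜 : ℕ → Submodule R A) [GradedAlgebra 𝒜] (n₀ : ℕ) (p : ℕ → AddSubgroup A)
    (hp : ∀ n : ℕ, n₀ ≤ n → (p n : Set A) ⊆ 𝒜 n)
    (c1 : ∀ m n : ℕ, n₀ ≤ n → ∀ a ∈ 𝒜 m, ∀ b ∈ p n, a * b ∈ p (m + n))
    (c2 : ∀ m n : ℕ, n₀ ≤ m → n₀ ≤ n → ∀ f ∈ 𝒜 m, ∀ g ∈ 𝒜 n, f * g ∈ p (m + n) → f ∈ p m ∨ g ∈ p n)
    (d : ℕ) (hd : n₀ ≤ d) (hd0 : 0 < d) (f : A) (hf : f ∈ 𝒜 d) (hfp : f ∉ p d) :
    ∃ 𝔭 : HomogeneousIdeal 𝒜, 𝔭.toIdeal.IsPrime ∧ ¬ HomogeneousIdeal.irrelevant 𝒜 ≤ 𝔭 ∧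
        ∀ n : ℕ, n₀ ≤ n → (𝔭.toIdeal : Set A) ∩ 𝒜 n = p n := by
  classical
  let E : Set A := {x | ∃ m, x ∈ 𝒜 m ∧ f * x ∈ p (m + d)}
  have hE : ∀ x ∈ E, SetLike.IsHomogeneousElem 𝒜 x := fun x ⟨m, hx, _⟩ => ⟨m, hx⟩
  -- key lemma
  have key : ∀ (m : ℕ) (x : A), x ∈ 𝒜 m → x ∈ Ideal.span E → f * x ∈ p (m + d) := by
    intro m x hxm hx
    let T : AddSubmonoid A := (p (m + d)).toAddSubmonoid.comap (AddMonoidHom.mulLeft f)
    have : x ∈ T := by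
      refine Groth.Agent.Lib.Helper22.mem_of_mem_span_of_mem_deg 𝒜 E T m ?_ x hx hxm
      rintro e ⟨k, hek, hfe⟩
      refine ⟨k, hek, fun hkm y hy => ?_⟩
      change f * (y * e) ∈ p (m + d)
      have h1 := c1 (m - k) (k + d) (by omega) y hy (f * e) hfe
      have e1 : m - k + (k + d) = m + d := by omega
      rw [e1] at h1
      have e2 : f * (y * e) = y * (f * e) := by ring
      rw [e2]; exact h1
    exact this
  -- intersections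
  have hinter : ∀ n : ℕ, n₀ ≤ n → ((Ideal.span E : Ideal A) : Set A) ∩ 𝒜 n = p n := by
    intro n hn
    ext x
    constructor
    · rintro ⟨hx, hxn⟩
      have h1 := key n x hxn hx
      rw [Nat.add_comm] at h1
      exact (c2 d n hd hn f hf x hxn h1).resolve_left hfp
    · intro hx
      refine ⟨Ideal.subset_span ⟨n, hp n hn hx, ?_⟩, hp n hn hx⟩
      have := c1 d n hn f hf x hx
      rwa [Nat.add_comm] at this
  have hfE : f ∉ Ideal.span E := fun hmem => by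
    have : f ∈ ((Ideal.span E : Ideal A) : Set A) ∩ 𝒜 d := ⟨hmem, hf⟩
    rw [hinter d hd] at this
    exact hfp this
  have hhom : (Ideal.span E).IsHomogeneous 𝒜 := Ideal.homogeneous_span 𝒜 E hE
  refine ⟨⟨Ideal.span E, hhom⟩, ?_, ?_, hinter⟩
  · refine hhom.isPrime_of_homogeneous_mem_or_mem (fun htop => hfE (htop ▸ Submodule.mem_top)) ?_
    rintro x y ⟨a, hxa⟩ ⟨b, hyb⟩ hxy
    have h1 := key (a + b) (x * y) (SetLike.mul_mem_graded hxa hyb) hxy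
    have h2 := c1 d (a + b + d) (by omega) f hf _ h1
    have h3 : (f * x) * (f * y) ∈ p ((a + d) + (b + d)) := by
      have e1 : d + (a + b + d) = (a + d) + (b + d) := by omega
      have e2 : f * (f * (x * y)) = (f * x) * (f * y) := by ring
      rw [e1, e2] at h2; exact h2
    have hfx : f * x ∈ 𝒜 (a + d) := by
      rw [Nat.add_comm]; exact SetLike.mul_mem_graded hf hxa
    have hfy : f * y ∈ 𝒜 (b + d) := by
      rw [Nat.add_comm]; exact SetLike.mul_mem_graded hf hyb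
    rcases c2 (a + d) (b + d) (by omega) (by omega) _ hfx _ hfy h3 with h | h
    · exact Or.inl (Ideal.subset_span ⟨a, hxa, h⟩)
    · exact Or.inr (Ideal.subset_span ⟨b, hyb, h⟩)
  · intro hle
    exact hfE (hle (HomogeneousIdeal.mem_irrelevant_of_mem 𝒜 hd0 hf))

/-- Let S be a ring graded in nonnegative degrees, n₀ > 0 an integer and, for every n ≥ n₀, p_n an
additive subgroup of S_n. Then there is a graded prime ideal p of S not containing S_+ with p ∩ S_n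
= p_n for all n ≥ n₀ if and only if: (1) S_m p_n ⊆ p_{m+n} for all m ≥ 0 and n ≥ n₀; (2) for m ≥ n₀,
n ≥ n₀, f ∈ S_m, g ∈ S_n, fg ∈ p_{m+n} implies f ∈ p_m or g ∈ p_n; (3) p_n ≠ S_n for at least one n
≥ n₀. Moreover such a graded prime ideal is unique. -/
theorem result {R A : Type u} [CommRing R] [CommRing A] [Algebra R A] (𝒜 : ℕ → Submodule R A) [GradedAlgebra 𝒜]
    (n₀ : ℕ) (hn₀ : 0 < n₀) (p : ℕ → AddSubgroup A) (hp : ∀ n : ℕ, n₀ ≤ n → (p n : Set A) ⊆ 𝒜 n) :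
    ((∃ 𝔭 : HomogeneousIdeal 𝒜, 𝔭.toIdeal.IsPrime ∧ ¬ HomogeneousIdeal.irrelevant 𝒜 ≤ 𝔭 ∧
        ∀ n : ℕ, n₀ ≤ n → (𝔭.toIdeal : Set A) ∩ 𝒜 n = p n) ↔
      ((∀ m n : ℕ, n₀ ≤ n → ∀ a ∈ 𝒜 m, ∀ b ∈ p n, a * b ∈ p (m + n)) ∧
        (∀ m n : ℕ, n₀ ≤ m → n₀ ≤ n → ∀ f ∈ 𝒜 m, ∀ g ∈ 𝒜 n, f * g ∈ p (m + n) → f ∈ p m ∨ g ∈ p n) ∧
        ∃ n : ℕ, n₀ ≤ n ∧ (p n : Set A) ≠ 𝒜 n)) ∧
    ∀ 𝔭 𝔮 : HomogeneousIdeal 𝒜, 𝔭.toIdeal.IsPrime → 𝔮.toIdeal.IsPrime →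
      ¬ HomogeneousIdeal.irrelevant 𝒜 ≤ 𝔭 → ¬ HomogeneousIdeal.irrelevant 𝒜 ≤ 𝔮 →
      (∀ n : ℕ, n₀ ≤ n → (𝔭.toIdeal : Set A) ∩ 𝒜 n = p n) → (∀ n : ℕ, n₀ ≤ n → (𝔮.toIdeal : Set A) ∩ 𝒜 n = p n) →
      𝔭 = 𝔮 := by
  refine ⟨⟨?_, ?_⟩, ?_⟩
  · rintro ⟨𝔭, hprime, hirr, hint⟩
    refine ⟨?_, ?_, ?_⟩
    · intro m n hn a ha b hb
      have hb' : b ∈ (𝔭.toIdeal : Set A) ∩ 𝒜 n := by rw [hint n hn]; exact hb
      have : a * b ∈ (𝔭.toIdeal : Set A) ∩ 𝒜 (m + n) :=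
        ⟨Ideal.mul_mem_left _ _ hb'.1, SetLike.mul_mem_graded ha hb'.2⟩
      rw [hint (m + n) (by omega)] at this
      exact this
    · intro m n hm hn f hf g hg hfg
      have : f * g ∈ (𝔭.toIdeal : Set A) ∩ 𝒜 (m + n) := by
        rw [hint (m + n) (by omega)]; exact hfg
      rcases hprime.mem_or_mem this.1 with h | h
      · left
        have : f ∈ (𝔭.toIdeal : Set A) ∩ 𝒜 m := ⟨h, hf⟩
        rwa [hint m hm] at this
      · right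
        have : g ∈ (𝔭.toIdeal : Set A) ∩ 𝒜 n := ⟨h, hg⟩
        rwa [hint n hn] at this
    · obtain ⟨i, hi, g, hg, hgp⟩ := exists_homogeneous_not_mem_ge 𝒜 𝔭 hprime hirr n₀
      refine ⟨i, hi, fun heq => hgp ?_⟩
      have : g ∈ (p i : Set A) := by rw [heq]; exact hg
      rw [← hint i hi] at this
      exact this.1
  · rintro ⟨c1, c2, n, hn, hne⟩
    have : ∃ f ∈ 𝒜 n, f ∉ p n := by
      by_contra hcon
      push Not at hcon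
      exact hne (Set.Subset.antisymm (hp n hn) (fun x hx => hcon x hx))
    obtain ⟨f, hf, hfp⟩ := this
    exact exists_prime 𝒜 n₀ p hp c1 c2 n hn (by omega) f hf hfp
  · intro 𝔭 𝔮 h𝔭 h𝔮 hp' hq' h1 h2
    exact le_antisymm (le_of_inter_eq 𝒜 n₀ p 𝔭 𝔮 h𝔮 hq' h1 h2)
      (le_of_inter_eq 𝒜 n₀ p 𝔮 𝔭 h𝔭 hp' h2 h1)

end Groth.Agent.S4395
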