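import Groth.Statements.S4396
import Mathlib

set_option autoImplicit false
universe u
open AlgebraicGeometry
open EGA2

namespace Groth.Agent.S4396

open HomogeneousLocalization DirectSum

section

variable {R A : Type u} [CommRing R] [CommRing A] [Algebra R A] (𝒜 : ℕ → Submodule R A) [GradedAlgebra 𝒜]
    {B : Type u} [CommRing B] [Algebra R B] (ℬ : ℕ → Submodule R B) [GradedAlgebra ℬ]

/-- A ring hom into the localization with values in the degree-zero part factors through the
homogeneous localization. -/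
noncomputable def liftVal (S : Submonoid A) (ψ' : B →+* Localization S)
    (h : ∀ b, ∃ z : HomogeneousLocalization 𝒜 S, z.val = ψ' b) :
    B →+* HomogeneousLocalization 𝒜 S where
  toFun b := (h b).choose
  map_one' := val_injective _ (by rw [(h 1).choose_spec, map_one, val_one])
  map_mul' a b := val_injective _ (by
    rw [val_mul, (h (a * b)).choose_spec, (h a).choose_spec, (h b).choose_spec, map_mul])
  map_zero' := val_injective _ (by rw [(h 0).choose_spec, map_zero, val_zero])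
  map_add' a b := val_injective _ (by
    rw [val_add, (h (a + b)).choose_spec, (h a).choose_spec, (h b).choose_spec, map_add])

theorem val_liftVal (S : Submonoid A) (ψ' : B →+* Localization S)
    (h : ∀ b, ∃ z : HomogeneousLocalization 𝒜 S, z.val = ψ' b) (b : B) :
    (liftVal 𝒜 S ψ' h b).val = ψ' b := (h b).choose_spec

variable (f : A) (φ : B →ₐ[R] A)

/-- the inverse of `f` in the localization -/
noncomputable abbrev invf : Localization.Away f := Localization.mk 1 ⟨f, Submonoid.mem_powers f⟩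

theorem mk_eq_mul_invf_pow (a : A) (n : ℕ) :
    Localization.mk a ⟨f ^ n, pow_mem (Submonoid.mem_powers f) n⟩ =
      algebraMap A (Localization.Away f) a * invf f ^ n := by
  rw [invf, Localization.mk_pow, one_pow, ← Localization.mk_one_eq_algebraMap, Localization.mk_mul,
    mul_one, one_mul]
  rfl

/-- the components of the dehomogenization map -/
noncomputable def comp (n : ℕ) : ℬ n →+ Localization.Away f :=
  (AddMonoidHom.mulRight (invf f ^ n)).comp
    ((algebraMap A (Localization.Away f)).toAddMonoidHom.comp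
      (φ.toRingHom.toAddMonoidHom.comp (ℬ n).subtype.toAddMonoidHom))

theorem comp_apply (n : ℕ) (x : ℬ n) :
    comp ℬ f φ n x = algebraMap A (Localization.Away f) (φ x) * invf f ^ n := rfl

/-- dehomogenization on the direct sum -/
noncomputable def dehomDS : (⨁ n, ℬ n) →+* Localization.Away f :=
  DirectSum.toSemiring (comp ℬ f φ)
    (by rw [comp_apply, pow_zero, mul_one]
        change algebraMap A (Localization.Away f) (φ (1 : B)) = 1
        rw [map_one, map_one])
    (by intro i j ai aj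
        rw [comp_apply, comp_apply, comp_apply]
        change algebraMap A (Localization.Away f) (φ ((ai : B) * (aj : B))) * _ = _
        rw [map_mul, map_mul, pow_add]; ring)

/-- dehomogenization `B → A_f`, `x ∈ B_n ↦ φ x / f ^ n`. -/
noncomputable def dehom : B →+* Localization.Away f :=
  (dehomDS ℬ f φ).comp (DirectSum.decomposeRingEquiv ℬ).toRingHom

theorem dehom_apply (x : B) : dehom ℬ f φ x = dehomDS ℬ f φ (DirectSum.decompose ℬ x) := rfl

theorem dehom_of_mem (n : ℕ) (x : B) (hx : x ∈ ℬ n) :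
    dehom ℬ f φ x = Localization.mk (φ x) ⟨f ^ n, pow_mem (Submonoid.mem_powers f) n⟩ := by
  rw [mk_eq_mul_invf_pow, dehom_apply, DirectSum.decompose_of_mem ℬ hx, dehomDS,
    DirectSum.toSemiring_of, comp_apply]

end



section main

variable {R A : Type u} [CommRing R] [CommRing A] [Algebra R A] (𝒜 : ℕ → Submodule R A) [GradedAlgebra 𝒜]
    {B : Type u} [CommRing B] [Algebra R B] (ℬ : ℕ → Submodule R B) [GradedAlgebra ℬ]
    (d : ℕ) (φ : B →ₐ[R] A)
    (hdeg : ∀ n : ℕ, Submodule.map φ.toLinearMap (ℬ n) = 𝒜 (n * d)) (f' : B) (hf' : f' ∈ ℬ 1)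

include hdeg in
theorem phi_mem (n : ℕ) (x : B) (hx : x ∈ ℬ n) : φ x ∈ 𝒜 (n * d) := by
  rw [← hdeg n]; exact Submodule.mem_map_of_mem hx

include hdeg hf' in
theorem phi_f_mem : φ f' ∈ 𝒜 d := by
  simpa using phi_mem 𝒜 ℬ d φ hdeg 1 f' hf'

include hdeg hf' in
theorem dehom_range (b : B) :
    ∃ z : Away 𝒜 (φ f'), z.val = dehom ℬ (φ f') φ b := by
  classical
  rw [← DirectSum.sum_support_decompose ℬ b, map_sum]
  refine Finset.sum_induction _ (fun y => ∃ z : Away 𝒜 (φ f'), z.val = y) ?_ ?_ ?_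
  · rintro _ _ ⟨z1, rfl⟩ ⟨z2, rfl⟩
    exact ⟨z1 + z2, val_add z1 z2⟩
  · exact ⟨0, val_zero⟩
  · intro i _
    refine ⟨Away.mk 𝒜 (phi_f_mem 𝒜 ℬ d φ hdeg f' hf') i (φ (DirectSum.decompose ℬ b i)) ?_, ?_⟩
    · rw [smul_eq_mul]; exact phi_mem 𝒜 ℬ d φ hdeg i _ (SetLike.coe_mem _)
    · rw [Away.val_mk, dehom_of_mem ℬ (φ f') φ i _ (SetLike.coe_mem _)]

/-- The map `B → A_(f)`. -/
noncomputable def psi : B →+* Away 𝒜 (φ f') :=
  liftVal 𝒜 _ (dehom ℬ (φ f') φ) (dehom_range 𝒜 ℬ d φ hdeg f' hf')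

theorem val_psi (b : B) : (psi 𝒜 ℬ d φ hdeg f' hf' b).val = dehom ℬ (φ f') φ b :=
  val_liftVal 𝒜 _ _ _ b

theorem val_psi_of_mem (n : ℕ) (x : B) (hx : x ∈ ℬ n) :
    (psi 𝒜 ℬ d φ hdeg f' hf' x).val =
      Localization.mk (φ x) ⟨φ f' ^ n, pow_mem (Submonoid.mem_powers (φ f')) n⟩ := by
  rw [val_psi, dehom_of_mem ℬ (φ f') φ n x hx]

include hf' in
theorem dehom_f : dehom ℬ (φ f') φ f' = 1 := by
  rw [dehom_of_mem ℬ (φ f') φ 1 f' hf']
  have : (⟨φ f' ^ 1, pow_mem (Submonoid.mem_powers (φ f')) 1⟩ : Submonoid.powers (φ f')) =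
      ⟨φ f', Submonoid.mem_powers (φ f')⟩ := Subtype.ext (pow_one _)
  rw [this]
  exact Localization.mk_self ⟨φ f', Submonoid.mem_powers (φ f')⟩

theorem psi_sub_one : psi 𝒜 ℬ d φ hdeg f' hf' (f' - 1) = 0 := by
  apply val_injective
  rw [val_psi, map_sub, map_one, dehom_f ℬ φ f' hf', sub_self, val_zero]

/-- The induced map on the quotient. -/
noncomputable def psiBar : B ⧸ Ideal.span {f' - 1} →+* Away 𝒜 (φ f') :=
  Ideal.Quotient.lift _ (psi 𝒜 ℬ d φ hdeg f' hf') (by
    intro a ha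
    obtain ⟨c, rfl⟩ := Ideal.mem_span_singleton'.mp ha
    rw [map_mul, psi_sub_one, mul_zero])

theorem psiBar_mk (x : B) :
    psiBar 𝒜 ℬ d φ hdeg f' hf' (Ideal.Quotient.mk _ x) = psi 𝒜 ℬ d φ hdeg f' hf' x :=
  Ideal.Quotient.lift_mk _ _ _

theorem psiBar_surjective : Function.Surjective (psiBar 𝒜 ℬ d φ hdeg f' hf') := by
  intro z
  obtain ⟨n, a, ha, rfl⟩ := Away.mk_surjective 𝒜 (phi_f_mem 𝒜 ℬ d φ hdeg f' hf') z
  rw [smul_eq_mul, ← hdeg n] at ha
  obtain ⟨b, hb, rfl⟩ := ha
  refine ⟨Ideal.Quotient.mk _ b, ?_⟩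
  rw [psiBar_mk]
  apply val_injective
  rw [val_psi_of_mem 𝒜 ℬ d φ hdeg f' hf' n b hb, Away.val_mk]
  rfl

include hf' in
theorem psiBar_injective (hφ : Function.Injective φ) :
    Function.Injective (psiBar 𝒜 ℬ d φ hdeg f' hf') := by
  classical
  rw [injective_iff_map_eq_zero]
  intro q hq
  obtain ⟨x, rfl⟩ := Ideal.Quotient.mk_surjective q
  rw [psiBar_mk] at hq
  have hdx : dehom ℬ (φ f') φ x = 0 := by
    rw [← val_psi 𝒜 ℬ d φ hdeg f' hf', hq, val_zero]
  set s := (DirectSum.decompose ℬ x).support with hs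
  set N := s.sup id with hN
  have hle : ∀ n ∈ s, n ≤ N := fun n hn => Finset.le_sup (f := id) hn
  set y : B := ∑ n ∈ s, ((DirectSum.decompose ℬ x n : ℬ n) : B) * f' ^ (N - n) with hy
  have hyN : y ∈ ℬ N := by
    refine Submodule.sum_mem _ fun n hn => ?_
    have h1 := SetLike.mul_mem_graded (SetLike.coe_mem (DirectSum.decompose ℬ x n))
      (SetLike.pow_mem_graded (N - n) hf')
    have e : n + (N - n) • 1 = N := by
      have := hle n hn
      simp only [smul_eq_mul, mul_one]; omega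
    rw [e] at h1
    exact h1
  have hdy : dehom ℬ (φ f') φ y = 0 := by
    rw [hy, map_sum]
    simp_rw [map_mul, map_pow, dehom_f ℬ φ f' hf', one_pow, mul_one]
    rw [← map_sum, DirectSum.sum_support_decompose ℬ x, hdx]
  rw [dehom_of_mem ℬ (φ f') φ N y hyN, Localization.mk_eq_mk'_apply,
    IsLocalization.mk'_eq_zero_iff] at hdy
  obtain ⟨⟨_, k, rfl⟩, hk⟩ := hdy
  have hk' : f' ^ k * y = 0 := by
    apply hφ
    rw [map_mul, map_pow, map_zero]
    exact hk
  have hmkf : Ideal.Quotient.mk (Ideal.span {f' - 1}) f' = 1 := by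
    rw [← sub_eq_zero, ← map_one (Ideal.Quotient.mk (Ideal.span {f' - 1})), ← map_sub,
      Ideal.Quotient.eq_zero_iff_mem]
    exact Ideal.subset_span rfl
  have h2 := congr(Ideal.Quotient.mk (Ideal.span {f' - 1}) $hk')
  rw [map_mul, map_pow, hmkf, one_pow, one_mul, map_zero, hy, map_sum] at h2
  simp_rw [map_mul, map_pow, hmkf, one_pow, mul_one] at h2
  rw [← map_sum, DirectSum.sum_support_decompose ℬ x] at h2
  exact h2

end main

/-- Let S be a ring graded in nonnegative degrees, d > 0, and S^{(d)} the graded ring whose degree-n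
part is S_{nd} (given here as any graded ring S' with an injective algebra homomorphism φ : S' → S
carrying S'_n onto S_{nd} for every n); let f' ∈ S'_1, with image f = φ(f') ∈ S_d. Then there is a
ring isomorphism between the degree-zero homogeneous localization S_(f) and the quotient S'/(f' -
1)S', whose inverse sends the class of an element x of S'_n to the fraction φ(x)/f^n. (The module
part of the published statement is not stated here.) -/
theorem result {R A : Type u} [CommRing R] [CommRing A] [Algebra R A] (𝒜 : ℕ → Submodule R A) [GradedAlgebra 𝒜]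
    {B : Type u} [CommRing B] [Algebra R B] (ℬ : ℕ → Submodule R B) [GradedAlgebra ℬ]
    (d : ℕ) (hd : 0 < d) (φ : B →ₐ[R] A) (hφ : Function.Injective φ)
    (hdeg : ∀ n : ℕ, Submodule.map φ.toLinearMap (ℬ n) = 𝒜 (n * d)) (f' : B) (hf' : f' ∈ ℬ 1) :
    ∃ e : HomogeneousLocalization.Away 𝒜 (φ f') ≃+* B ⧸ Ideal.span {f' - 1},
      ∀ (n : ℕ) (x : B), x ∈ ℬ n →
        (e.symm (Ideal.Quotient.mk (Ideal.span {f' - 1}) x)).val =
          Localization.mk (φ x) ⟨φ f' ^ n, pow_mem (Submonoid.mem_powers (φ f')) n⟩ := by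
  refine ⟨(RingEquiv.ofBijective (psiBar 𝒜 ℬ d φ hdeg f' hf')
    ⟨psiBar_injective 𝒜 ℬ d φ hdeg f' hf' hφ, psiBar_surjective 𝒜 ℬ d φ hdeg f' hf'⟩).symm, ?_⟩
  intro n x hx
  rw [RingEquiv.symm_symm, RingEquiv.ofBijective_apply, psiBar_mk]
  exact val_psi_of_mem 𝒜 ℬ d φ hdeg f' hf' n x hx

end Groth.Agent.S4396
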