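import Groth.Statements.S4398
import Mathlib
import Groth.Agent.Lib.Helper18.ProjBasic
-- import your own Groth.Agent.* helpers here

set_option autoImplicit false
universe u
open AlgebraicGeometry
open EGA2

namespace Groth.Agent.S4398


/-- If a graded ring hom is bijective in positive degrees, the induced maps on degree-zero localizations
away from homogeneous elements of positive degree are bijective. -/
theorem awayMap_bijective {R A : Type u} [CommRing R] [CommRing A] [Algebra R A] (𝒜 : ℕ → Submodule R A) [GradedAlgebra 𝒜]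
    {B : Type u} [CommRing B] [Algebra R B] (ℬ : ℕ → Submodule R B) [GradedAlgebra ℬ]
    (φ : ℬ →+*ᵍ 𝒜) (hbij : ∀ n : ℕ, 0 < n → Set.BijOn φ (ℬ n) (𝒜 n))
    {i : ℕ} (hi : 0 < i) (f : B) (hf : f ∈ ℬ i) :
    Function.Bijective (HomogeneousLocalization.Away.map φ f) := by
  have hφf : φ f ∈ 𝒜 i := φ.2 hf
  constructor
  · rw [injective_iff_map_eq_zero]
    intro z hz
    obtain ⟨k, b, hb, rfl⟩ := HomogeneousLocalization.Away.mk_surjective ℬ hf z
    rw [HomogeneousLocalization.Away.map_mk] at hz
    have hz' := congrArg HomogeneousLocalization.val hz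
    rw [HomogeneousLocalization.Away.val_mk, HomogeneousLocalization.val_zero,
      ← Localization.mk_zero 1, Localization.mk_eq_mk_iff, Localization.r_iff_exists] at hz'
    obtain ⟨⟨c, N, rfl⟩, hc⟩ := hz'
    simp only [OneMemClass.coe_one, one_mul, mul_zero] at hc
    -- `φ (f ^ (N + 1) * b) = 0`
    have h1 : φ (f ^ (N + 1) * b) = 0 := by
      have hc' : φ f ^ N * φ b = 0 := hc
      rw [map_mul, map_pow, pow_succ, mul_assoc, mul_comm (φ f) (φ b), ← mul_assoc, hc', zero_mul]
    have h2 : f ^ (N + 1) * b ∈ ℬ ((N + 1) • i + k • i) :=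
      SetLike.mul_mem_graded (SetLike.pow_mem_graded _ hf) hb
    have hpos : 0 < (N + 1) • i + k • i := by
      simp only [smul_eq_mul]; positivity
    have h3 : f ^ (N + 1) * b = 0 :=
      (hbij _ hpos).injOn h2 (zero_mem _) (by rw [h1, map_zero])
    apply HomogeneousLocalization.val_injective
    rw [HomogeneousLocalization.Away.val_mk, HomogeneousLocalization.val_zero,
      ← Localization.mk_zero 1, Localization.mk_eq_mk_iff, Localization.r_iff_exists]
    refine ⟨⟨f ^ (N + 1), N + 1, rfl⟩, ?_⟩
    simp only [OneMemClass.coe_one, one_mul, mul_zero]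
    exact h3
  · intro z
    obtain ⟨k, a, ha, rfl⟩ := HomogeneousLocalization.Away.mk_surjective 𝒜 hφf z
    -- write `a / (φ f) ^ k = (a φ f) / (φ f) ^ (k + 1)`
    have ha' : a * φ f ∈ 𝒜 ((k + 1) • i) := by
      have := SetLike.mul_mem_graded ha hφf
      have e : k • i + i = (k + 1) • i := by simp only [smul_eq_mul]; ring
      rwa [e] at this
    have hpos : 0 < (k + 1) • i := by simp only [smul_eq_mul]; positivity
    obtain ⟨b, hb, hba⟩ := (hbij _ hpos).surjOn ha'
    refine ⟨HomogeneousLocalization.Away.mk ℬ hf (k + 1) b hb, ?_⟩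
    rw [HomogeneousLocalization.Away.map_mk]
    apply HomogeneousLocalization.val_injective
    rw [HomogeneousLocalization.Away.val_mk, HomogeneousLocalization.Away.val_mk,
      Localization.mk_eq_mk_iff, Localization.r_iff_exists]
    refine ⟨1, ?_⟩
    simp only [OneMemClass.coe_one, one_mul]
    rw [hba, pow_succ]
    ring

open CategoryTheory CategoryTheory.Limits in
theorem isIso_map {R A : Type u} [CommRing R] [CommRing A] [Algebra R A] (𝒜 : ℕ → Submodule R A) [GradedAlgebra 𝒜]
    {B : Type u} [CommRing B] [Algebra R B] (ℬ : ℕ → Submodule R B) [GradedAlgebra ℬ]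
    (φ : ℬ →+*ᵍ 𝒜) (hbij : ∀ n : ℕ, 0 < n → Set.BijOn φ (ℬ n) (𝒜 n))
    (hφ : HomogeneousIdeal.irrelevant 𝒜 ≤ (HomogeneousIdeal.irrelevant ℬ).map φ) :
    CategoryTheory.IsIso (Proj.map φ hφ) := by
  rw [← MorphismProperty.isomorphisms.iff,
    IsZariskiLocalAtTarget.iff_of_openCover (P := MorphismProperty.isomorphisms Scheme)
      (Proj.affineOpenCover ℬ).openCover]
  rintro ⟨⟨i, hi⟩, ⟨f, hf⟩⟩
  have hf' : f ∈ ℬ i := hf
  have hpb := (Groth.Agent.Lib.Helper18.ProjBasic.isPullback_awayι_map ℬ 𝒜 φ hφ hi f hf').flip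
  have hiso : IsIso (Spec.map (CommRingCat.ofHom (HomogeneousLocalization.Away.map φ f))) := by
    have hbij' := awayMap_bijective 𝒜 ℬ φ hbij hi f hf'
    have : IsIso (CommRingCat.ofHom (HomogeneousLocalization.Away.map φ f)) :=
      (ConcreteCategory.isIso_iff_bijective _).mpr hbij'
    infer_instance
  rw [MorphismProperty.isomorphisms.iff]
  have h1 : hpb.isoPullback.hom ≫ pullback.snd _ _ =
      Spec.map (CommRingCat.ofHom (HomogeneousLocalization.Away.map φ f)) :=
    hpb.isoPullback_hom_snd
  have h2 : pullback.snd (Proj.map φ hφ) (Proj.awayι ℬ f hf' hi) =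
      hpb.isoPullback.inv ≫ Spec.map (CommRingCat.ofHom (HomogeneousLocalization.Away.map φ f)) := by
    exact (Iso.inv_comp_eq _).mpr h1.symm |>.symm
  change IsIso (pullback.snd (Proj.map φ hφ) (Proj.awayι ℬ f hf' hi))
  rw [h2]
  infer_instance

/-- Let φ : S' → S be a homomorphism of rings graded in nonnegative degrees which maps S'_n bijectively
onto S_n for every n > 0, so that S_+ lies in the ideal generated by φ(S'_+) (stated as a hypothesis
because the induced morphism is built from it). Then the induced morphism Proj S → Proj S' is an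
isomorphism of schemes. (The published statement treats the cases S'_0 = ℤ and S'_0 = A with S'_n =
S_n for n > 0; this row allows any graded φ that is bijective in positive degrees.) -/
theorem result {R A : Type u} [CommRing R] [CommRing A] [Algebra R A] (𝒜 : ℕ → Submodule R A) [GradedAlgebra 𝒜]
    {B : Type u} [CommRing B] [Algebra R B] (ℬ : ℕ → Submodule R B) [GradedAlgebra ℬ]
    (φ : ℬ →+*ᵍ 𝒜) (hbij : ∀ n : ℕ, 0 < n → Set.BijOn φ (ℬ n) (𝒜 n))
    (hφ : HomogeneousIdeal.irrelevant 𝒜 ≤ (HomogeneousIdeal.irrelevant ℬ).map φ) :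
    CategoryTheory.IsIso (Proj.map φ hφ) := by
  exact isIso_map 𝒜 ℬ φ hbij hφ

end Groth.Agent.S4398
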