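import Groth.Statements.S4401
import Mathlib
import Groth.Agent.Lib.Proj.TwistAmple
import Groth.Agent.Lib.QCoh.Helper18_GlobGen
-- import your own Groth.Agent.* helpers here

set_option autoImplicit false
universe u
open CategoryTheory CategoryTheory.Limits AlgebraicGeometry
open EGA2

namespace Groth.Agent.S4401

/-- Let S be a ring graded in nonnegative degrees whose irrelevant ideal S_+ is generated by finitely
many elements of degree one, and X = Proj S. Then for every integer n ≥ 0 there exist an integer k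
and an epimorphism of O_X-modules O_X^k → O_X(n). -/
theorem result {R A : Type u} [CommRing R] [CommRing A] [Algebra R A] (𝒜 : ℕ → Submodule R A) [GradedAlgebra 𝒜]
    (s : Finset A) (hs1 : ∀ f ∈ s, f ∈ 𝒜 1)
    (hs : (HomogeneousIdeal.irrelevant 𝒜).toIdeal = Ideal.span (s : Set A)) (n : ℕ) :
    ∃ (k : ℕ) (p : FlatMod.freeMod (Proj 𝒜) k ⟶ Twist.twist 𝒜 (n : ℤ)), Epi p := by
  classical
  open Groth.Agent.Lib.Proj Groth.Agent.Lib.QCoh in
  -- the generators `f ^ n`, `f ∈ s`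
  let e := s.equivFin
  have hmem : ∀ j : Fin s.card, ((e.symm j : A)) ^ n ∈ 𝒜 n := by
    intro j
    have := SetLike.pow_mem_graded n (hs1 _ (e.symm j).2)
    simpa [smul_eq_mul] using this
  let a : ∀ j : Fin s.card, 𝒜 n := fun j => ⟨((e.symm j : A)) ^ n, hmem j⟩
  let p : FlatMod.freeMod (Proj 𝒜) s.card ⟶ Twist.twist 𝒜 (n : ℤ) :=
    Sigma.desc (fun j => Groth.Agent.Lib.Proj.sectHom (a j))
  refine ⟨s.card, p, ?_⟩
  apply Groth.Agent.Lib.QCoh.epi_of_forall_stalkMap_surjective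
  intro x m
  -- a generator not vanishing at `x`
  have hx : x ∈ (⨆ i : (s : Set A), Proj.basicOpen 𝒜 (i : A)) := by
    rw [Proj.iSup_basicOpen_eq_top 𝒜 (fun i : (s : Set A) => (i : A)) (by simpa using hs.le)]
    trivial
  obtain ⟨⟨f, hf⟩, hxf⟩ := TopologicalSpace.Opens.mem_iSup.mp hx
  have hfs : f ∈ s := hf
  obtain ⟨W, hxW, t, rfl⟩ := (Twist.twist 𝒜 (n : ℤ)).presheaf.exists_germ_eq m
  let j : Fin s.card := e ⟨f, hfs⟩
  have hj : ((e.symm j : s) : A) = f := by simp [j]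
  let V : (Proj 𝒜).Opens := W ⊓ Proj.basicOpen 𝒜 f
  have hxV : x ∈ V := ⟨hxW, hxf⟩
  have hVle : V ≤ Proj.basicOpen 𝒜 (a j).1 := by
    intro y hy
    change y ∈ Proj.basicOpen 𝒜 (((e.symm j : s) : A) ^ n)
    rw [hj]
    have hyf : y ∈ Proj.basicOpen 𝒜 f := hy.2
    rw [Proj.mem_basicOpen] at hyf ⊢
    exact fun h => hyf (y.isPrime.mem_of_pow_mem _ h)
  obtain ⟨r, hr⟩ := (Groth.Agent.Lib.Proj.sectHom_app_bijective (a j) V hVle).2
    ((Twist.twist 𝒜 (n : ℤ)).presheaf.map (homOfLE (inf_le_left : V ≤ W)).op t)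
  refine ⟨(FlatMod.freeMod (Proj 𝒜) s.card).presheaf.germ V x hxV
    ((Sigma.ι (fun _ : Fin s.card => Coh.structureModule (Proj 𝒜)) j).app V r), ?_⟩
  rw [Groth.Agent.Lib.QCoh.stalkMap_germ]
  have h1 : p.app V ((Sigma.ι (fun _ : Fin s.card => Coh.structureModule (Proj 𝒜)) j).app V r) =
      (Groth.Agent.Lib.Proj.sectHom (a j)).app V r := by
    have h2 : Sigma.ι (fun _ : Fin s.card => Coh.structureModule (Proj 𝒜)) j ≫ p =
        Groth.Agent.Lib.Proj.sectHom (a j) := Sigma.ι_desc _ _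
    rw [← h2]
    rfl
  rw [h1, hr]
  exact TopCat.Presheaf.germ_res_apply _ (homOfLE (inf_le_left : V ≤ W)) x hxV t

end Groth.Agent.S4401
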