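import Groth.Statements.S4402
import Groth.Agent.Lib.Proj.CohQuot

set_option autoImplicit false
universe u
open CategoryTheory CategoryTheory.Limits AlgebraicGeometry
open EGA2

namespace Groth.Agent.S4402

/-- Consider a ring S graded in nonnegative degrees, and assume its irrelevant ideal S_+ is generated by
a finite set of degree-one elements; put X = Proj S. Given any O_X-module F that is quasi-coherent
and of finite type, one can find n₀ so that whenever n ≥ n₀, some k admits an epimorphism onto F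
from the direct sum of k copies of O_X(-n). -/
theorem result {R A : Type u} [CommRing R] [CommRing A] [Algebra R A] (𝒜 : ℕ → Submodule R A) [GradedAlgebra 𝒜]
    (s : Finset A) (hs1 : ∀ f ∈ s, f ∈ 𝒜 1)
    (hs : (HomogeneousIdeal.irrelevant 𝒜).toIdeal = Ideal.span (s : Set A))
    (F : (Proj 𝒜).Modules) (hF : Coh.IsQCoh F) (hFT : CohB1.IsFT F) :
    ∃ n₀ : ℕ, ∀ n : ℕ, n₀ ≤ n →
      ∃ (k : ℕ) (p : (∐ fun _ : Fin k => Twist.twist 𝒜 (-(n : ℤ))) ⟶ F), Epi p := by
  have hcov : (⨆ i : (s : Set A), Proj.basicOpen 𝒜 (i : A)) = ⊤ := by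
    refine Proj.iSup_basicOpen_eq_top 𝒜 (fun i : (s : Set A) => (i : A)) ?_
    rw [hs, Subtype.range_coe_subtype]
    exact le_of_eq rfl
  exact Groth.Agent.Lib.Proj.exists_epi_sigma_twist_of_isCoh s hs1 hcov F ⟨hF, hFT⟩

end Groth.Agent.S4402
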