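import Groth.Statements.S4405
import Mathlib
-- import your own Groth.Agent.* helpers here

set_option autoImplicit false
universe u
open EGA2

namespace Groth.Agent.S4405

/-- Let S be a ring graded in nonnegative degrees and E any subset of the irrelevant ideal S_+. Then the
intersection of S_+ with the vanishing ideal of the closed subset V_+(E) of Proj S equals the
intersection of S_+ with the radical of the graded ideal generated by E (the smallest homogeneous
ideal containing E). -/
theorem result {R A : Type u} [CommRing R] [CommRing A] [Algebra R A] (𝒜 : ℕ → Submodule R A) [GradedAlgebra 𝒜]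
    (E : Set A) (hE : E ⊆ (HomogeneousIdeal.irrelevant 𝒜).toIdeal) :
    (HomogeneousIdeal.irrelevant 𝒜).toIdeal ⊓
        (ProjectiveSpectrum.vanishingIdeal (ProjectiveSpectrum.zeroLocus 𝒜 E)).toIdeal =
      (HomogeneousIdeal.irrelevant 𝒜).toIdeal ⊓ (Ideal.homogeneousHull 𝒜 (Ideal.span E)).toIdeal.radical := by
  ext x
  simp only [Ideal.mem_inf]
  refine and_congr_right fun hx => ?_
  rw [(Ideal.homogeneousHull 𝒜 (Ideal.span E)).isHomogeneous.radical_eq, Ideal.mem_sInf,
    HomogeneousIdeal.mem_iff, ProjectiveSpectrum.mem_vanishingIdeal]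
  constructor
  · rintro h J ⟨hJh, hJE, hJp⟩
    by_cases hJ : HomogeneousIdeal.irrelevant 𝒜 ≤ ⟨J, hJh⟩
    · exact hJ hx
    · have hmem : (⟨⟨J, hJh⟩, hJp, hJ⟩ : ProjectiveSpectrum 𝒜) ∈
          ProjectiveSpectrum.zeroLocus 𝒜 E := by
        rw [ProjectiveSpectrum.mem_zeroLocus]
        intro e he
        exact hJE (Ideal.le_toIdeal_homogeneousHull 𝒜 _ (Ideal.subset_span he))
      exact h _ hmem
  · intro h y hy
    rw [ProjectiveSpectrum.mem_zeroLocus] at hy
    refine h ⟨y.asHomogeneousIdeal.isHomogeneous, ?_, y.isPrime⟩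
    have h1 : Ideal.span E ≤ y.asHomogeneousIdeal.toIdeal := Ideal.span_le.mpr hy
    exact (Ideal.homogeneousHull.gc 𝒜 _ _).mpr h1

end Groth.Agent.S4405
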