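import Groth.Statements.S4412
import Mathlib
import Groth.Agent.Lib.Helper82.Veronese
-- import your own Groth.Agent.* helpers here

set_option autoImplicit false
universe u
open EGA2

namespace Groth.Agent.S4412

/-- Let S be a ring graded in nonnegative degrees which is Noetherian, d > 0, and S^{(d)} the graded
ring with degree-n part S_{nd} (given as a graded ring S' with an injective algebra homomorphism φ :
S' → S carrying S'_n onto S_{nd} for every n). Then S^{(d)} is Noetherian. -/
theorem result {R A : Type u} [CommRing R] [CommRing A] [Algebra R A] (𝒜 : ℕ → Submodule R A) [GradedAlgebra 𝒜] [IsNoetherianRing A]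
    {B : Type u} [CommRing B] [Algebra R B] (ℬ : ℕ → Submodule R B) [GradedAlgebra ℬ]
    (d : ℕ) (hd : 0 < d) (φ : B →ₐ[R] A) (hφ : Function.Injective φ)
    (hdeg : ∀ n : ℕ, Submodule.map φ.toLinearMap (ℬ n) = 𝒜 (n * d)) :
    IsNoetherianRing B := by
  have hcm := fun I : Ideal B =>
    Groth.Agent.Lib.Helper82.Veronese.comap_map_eq (𝒜 := 𝒜) (ℬ := ℬ) (d := d) (φ := φ) hφ hdeg I
  have hmono : StrictMono (fun I : Ideal B => Ideal.map (φ : B →+* A) I) := by
    intro I J hIJ
    refine lt_of_le_of_ne (Ideal.map_mono hIJ.le) ?_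
    intro h
    have h' : Ideal.comap φ (Ideal.map φ I) = Ideal.comap φ (Ideal.map φ J) := by
      show Ideal.comap (φ : B →+* A) (Ideal.map (φ : B →+* A) I) =
        Ideal.comap (φ : B →+* A) (Ideal.map (φ : B →+* A) J)
      exact congrArg (Ideal.comap (φ : B →+* A)) h
    rw [hcm I, hcm J] at h'
    exact hIJ.ne h'
  have hA : WellFoundedGT (Ideal A) := (isNoetherian_iff' (R := A) (M := A)).mp inferInstance
  have hB : WellFoundedGT (Ideal B) := hmono.wellFoundedGT
  exact (isNoetherian_iff' (R := B) (M := B)).mpr hB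

end Groth.Agent.S4412
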