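import Groth.Statements.S4417
import Groth.Agent.Lib.Helper56.CoprodMod

set_option autoImplicit false
universe u
open CategoryTheory CategoryTheory.Limits AlgebraicGeometry
open EGA2

namespace Groth.Agent.S4417

set_option backward.isDefEq.respectTransparency.types false in
/-- Let f : X → Y and f' : X' → Y be quasi-projective morphisms (of finite type, each admitting a
relatively ample module). Then the morphism X ⨿ X' → Y restricting to f and f' on the two summands
is quasi-projective. -/
theorem result {X X' Y : Scheme.{u}} (f : X ⟶ Y) (f' : X' ⟶ Y)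
    (hf : RelProj.IsQuasiProjective f) (hf' : RelProj.IsQuasiProjective f') :
    RelProj.IsQuasiProjective (coprod.desc f f') := by
  obtain ⟨hlft, hqc, L, hL⟩ := hf
  obtain ⟨hlft', hqc', L', hL'⟩ := hf'
  obtain ⟨L'', h⟩ := Groth.Agent.Lib.Helper56.CoprodMod.exists_isRelAmple_coprod_desc f f' hL hL'
  refine ⟨?_, h.1, L'', h⟩
  refine IsZariskiLocalAtSource.of_openCover (P := @LocallyOfFiniteType)
    (coprodOpenCover.{_, 0} X X') ?_
  rintro (⟨⟩ | ⟨⟩)
  · change LocallyOfFiniteType (coprod.inl ≫ coprod.desc f f')
    rw [coprod.inl_desc]; exact hlft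
  · change LocallyOfFiniteType (coprod.inr ≫ coprod.desc f f')
    rw [coprod.inr_desc]; exact hlft'

end Groth.Agent.S4417
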