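import Groth.Statements.S4418
import Groth.Agent.Lib.RelVA.ProjProper
import Groth.Agent.Lib.RelVA.Ample
import Groth.Agent.Lib.Helper42.RelTwistExists

set_option autoImplicit false
universe u
open CategoryTheory CategoryTheory.Limits AlgebraicGeometry
open EGA2

namespace Groth.Agent.S4418

/-- Every projective morphism f : X → Y is quasi-projective (of finite type with an f-ample module) and
proper. -/
theorem result {X Y : Scheme.{u}} (f : X ⟶ Y) (hf : RelProj.IsProjective f) :
    RelProj.IsQuasiProjective f ∧ IsProper f := by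
  obtain ⟨𝒮, P, p, chart, e, hgen, hft, hP, he⟩ := hf
  have hp : IsProper p :=
    Groth.Agent.Lib.RelVA.ProjProper.isProper_of_isRelProj 𝒮 hgen hft p chart hP
  have hfp : IsProper f := by rw [← he]; infer_instance
  refine ⟨⟨inferInstance, inferInstance, ?_⟩, hfp⟩
  obtain ⟨O1, lam, hT⟩ :=
    Groth.Agent.Lib.Helper42.RelTwistExists.exists_isRelTwist 𝒮 p chart hP 1
  exact ⟨(Scheme.Modules.pullback e.hom).obj O1,
    Groth.Agent.Lib.RelVA.isRelAmple_of_isRelTwist f 𝒮 hgen p chart O1 lam hT e.hom he _
      (Iso.refl _)⟩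

end Groth.Agent.S4418
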