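import Groth.Statements.S4429
import Mathlib.LinearAlgebra.Eigenspace.Charpoly
import Mathlib.LinearAlgebra.Eigenspace.Minpoly
import Mathlib.FieldTheory.IsAlgClosed.AlgebraicClosure
import Mathlib.RingTheory.Polynomial.GaussLemma
import Mathlib.LinearAlgebra.Matrix.Charpoly.LinearMap
-- import your own Groth.Agent.* helpers here

set_option autoImplicit false
universe u
open EGA2

namespace Groth.Agent.S4429

open Polynomial TensorProduct in
/-- Key lemma: for an endomorphism `f` of a finite-dimensional `K`-vector space `V` annihilated by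
(the image of) a monic polynomial `p` with coefficients in `A`, the coefficients of the
characteristic polynomial are integral over `A`. -/
theorem charpoly_coeff_isIntegral_of_aeval_eq_zero (A : Type u) [CommRing A] (K : Type u) [Field K]
    [Algebra A K] (V : Type u) [AddCommGroup V] [Module K V] [Module.Finite K V]
    (f : V →ₗ[K] V) (p : A[X]) (hp : p.Monic) (hpf : aeval f (p.map (algebraMap A K)) = 0) (i : ℕ) :
    IsIntegral A (f.charpoly.coeff i) := by
  classical
  let Ω := AlgebraicClosure K
  let fΩ : Module.End Ω (Ω ⊗[K] V) := f.baseChange Ω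
  have hcp : fΩ.charpoly = f.charpoly.map (algebraMap K Ω) := LinearMap.charpoly_baseChange f Ω
  let pK : K[X] := p.map (algebraMap A K)
  let pΩ : Ω[X] := pK.map (algebraMap K Ω)
  have hpΩ : aeval fΩ pΩ = 0 := by
    have h1 : aeval fΩ pΩ = aeval fΩ pK := aeval_map_algebraMap _ _ _
    rw [h1]
    have h2 : aeval ((Module.End.baseChangeHom K Ω V) f) pK =
        (Module.End.baseChangeHom K Ω V) (aeval f pK) := aeval_algHom_apply _ _ _
    have h3 : (Module.End.baseChangeHom K Ω V) f = fΩ := rfl
    rw [h3, hpf, map_zero] at h2
    exact h2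
  have hroots : ∀ a ∈ (f.charpoly.map (algebraMap K Ω)).roots,
      a ∈ (algebraMap (integralClosure A Ω) Ω).range := by
    intro a ha
    rw [← hcp] at ha
    have hroot : fΩ.charpoly.IsRoot a := (mem_roots (fΩ.charpoly_monic.ne_zero)).1 ha
    have hev : fΩ.HasEigenvalue a := (Module.End.hasEigenvalue_iff_isRoot_charpoly fΩ a).2 hroot
    have hmin : (minpoly Ω fΩ).IsRoot a := Module.End.isRoot_of_hasEigenvalue hev
    have hdvd : minpoly Ω fΩ ∣ pΩ := minpoly.dvd Ω fΩ hpΩ
    have hpa : pΩ.IsRoot a := hmin.dvd hdvd
    have hint : IsIntegral A a := by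
      refine ⟨p, hp, ?_⟩
      have : pΩ = p.map (algebraMap A Ω) := by
        simp only [pΩ, pK, Polynomial.map_map, ← IsScalarTower.algebraMap_eq]
      rw [this] at hpa
      rwa [IsRoot.def, eval_map] at hpa
    exact ⟨⟨a, hint⟩, rfl⟩
  have hsplit : (f.charpoly.map (algebraMap K Ω)).Splits := IsAlgClosed.splits _
  have hlift := hsplit.mem_lift_of_roots_mem_range (f.charpoly_monic.map _)
    (algebraMap (integralClosure A Ω) Ω) hroots
  rw [lifts_iff_coeff_lifts] at hlift
  obtain ⟨⟨b, hb⟩, hbe⟩ := hlift i
  rw [coeff_map] at hbe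
  have hb' : IsIntegral A (algebraMap K Ω (f.charpoly.coeff i)) := by
    rw [← hbe]; exact hb
  exact (isIntegral_algebraMap_iff (algebraMap K Ω).injective).1 hb'

/-- For an integral domain A with fraction field K, a finitely generated A-module E and an endomorphism
u of E, the coefficients of the characteristic polynomial of u ⊗ 1 acting on the K-vector space K
⊗_A E (the elementary symmetric functions of u, among them its trace and determinant) are integral
over A. -/
theorem result (A : Type u) [CommRing A] [IsDomain A] (K : Type u) [Field K]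
    [Algebra A K] [IsFractionRing A K] (E : Type u) [AddCommGroup E] [Module A E] [Module.Finite A E]
    (u : E →ₗ[A] E) (i : ℕ) :
    IsIntegral A (((u.baseChange K).charpoly).coeff i) := by
  obtain ⟨p, hp, hpu⟩ := LinearMap.exists_monic_and_aeval_eq_zero A u
  refine charpoly_coeff_isIntegral_of_aeval_eq_zero A K _ (u.baseChange K) p hp ?_ i
  rw [Polynomial.aeval_map_algebraMap]
  have h2 : Polynomial.aeval ((Module.End.baseChangeHom A K E) u) p =
      (Module.End.baseChangeHom A K E) (Polynomial.aeval u p) := Polynomial.aeval_algHom_apply _ _ _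
  rw [hpu, map_zero] at h2
  exact h2

end Groth.Agent.S4429
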