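import Groth.Statements.S4430
import Groth.Agent.S4429
import Mathlib.LinearAlgebra.Charpoly.BaseChange
import Mathlib.Algebra.Polynomial.Reverse
-- import your own Groth.Agent.* helpers here

set_option autoImplicit false
universe u
open EGA2

namespace Groth.Agent.S4430

open Polynomial in
/-- If `a : A` has an inverse `d` in an extension `K` (with `A → K` injective) and `d` is integral
over `A`, then `a` is a unit of `A`. -/
theorem isUnit_of_isIntegral_inv {A K : Type*} [CommRing A] [CommRing K] [Algebra A K]
    (hinj : Function.Injective (algebraMap A K)) (a : A) (d : K) (hd : d * algebraMap A K a = 1)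
    (hint : IsIntegral A d) : IsUnit a := by
  obtain ⟨p, hp, hpd⟩ := hint
  let _ : Invertible d := ⟨algebraMap A K a, by rw [mul_comm]; exact hd, hd⟩
  have h2 : eval₂ (algebraMap A K) (⅟d) p.reverse = 0 :=
    (eval₂_reverse_eq_zero_iff (algebraMap A K) d p).2 hpd
  have hdi : ⅟d = algebraMap A K a := rfl
  rw [hdi] at h2
  rw [eval₂_at_apply] at h2
  have h3 : eval a p.reverse = 0 := hinj (by rw [h2, map_zero])
  have h4 : p.reverse = divX p.reverse * X + C (p.reverse.coeff 0) := (divX_mul_X_add _).symm
  rw [coeff_zero_reverse, hp.leadingCoeff] at h4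
  rw [h4] at h3
  simp only [eval_add, eval_mul, eval_X, eval_C] at h3
  refine IsUnit.of_mul_eq_one (-(eval a (divX p.reverse))) ?_
  linear_combination (-1 : A) * h3

/-- Let A be an integral domain with fraction field K, E a finitely generated A-module and u an
endomorphism of E whose characteristic-polynomial coefficients (those of u ⊗ 1 on K ⊗_A E) all lie
in A. If u is an automorphism of E, then its determinant, as an element of A, is invertible in A. -/
theorem result (A : Type u) [CommRing A] [IsDomain A] (K : Type u) [Field K]
    [Algebra A K] [IsFractionRing A K] (E : Type u) [AddCommGroup E] [Module A E] [Module.Finite A E]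
    (u : E →ₗ[A] E) (hcoeff : ∀ i : ℕ, ((u.baseChange K).charpoly).coeff i ∈ (algebraMap A K).range)
    (a : A) (ha : algebraMap A K a = LinearMap.det (u.baseChange K)) (hu : Function.Bijective u) :
    IsUnit a := by
  have _ := hcoeff
  let e : E ≃ₗ[A] E := LinearEquiv.ofBijective u hu
  let v : E →ₗ[A] E := e.symm.toLinearMap
  have hvu : v ∘ₗ u = LinearMap.id := by
    ext x
    exact e.symm_apply_apply x
  have hK : (v.baseChange K) * (u.baseChange K) = 1 := by
    rw [Module.End.mul_eq_comp, ← LinearMap.baseChange_comp, hvu, LinearMap.baseChange_id]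
    rfl
  have hdet : LinearMap.det (v.baseChange K) * LinearMap.det (u.baseChange K) = 1 := by
    rw [← map_mul, hK, map_one]
  have hint : IsIntegral A (LinearMap.det (v.baseChange K)) := by
    rw [LinearMap.det_eq_sign_charpoly_coeff]
    exact ((isIntegral_one.neg).pow _).mul (Groth.Agent.S4429.result A K E v 0)
  rw [← ha] at hdet
  exact isUnit_of_isIntegral_inv (IsFractionRing.injective A K) a _ hdet hint

end Groth.Agent.S4430
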