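import Groth.Statements.S4431
import Mathlib.LinearAlgebra.Charpoly.BaseChange
import Mathlib.RingTheory.Localization.BaseChange
import Mathlib.Algebra.Polynomial.Lifts
-- import your own Groth.Agent.* helpers here

set_option autoImplicit false
universe u
open EGA2

namespace Groth.Agent.S4431

open Polynomial TensorProduct in
/-- For a torsion-free module `E` over a domain `A` with fraction field `K`, `x ↦ 1 ⊗ x` is
injective `E → K ⊗ E`. -/
theorem mk_one_injective (A : Type u) [CommRing A] [IsDomain A] (K : Type u) [Field K]
    [Algebra A K] [IsFractionRing A K] (E : Type u) [AddCommGroup E] [Module A E]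
    [Module.IsTorsionFree A E] : Function.Injective (TensorProduct.mk A K E 1) := by
  rw [injective_iff_map_eq_zero]
  intro x hx
  obtain ⟨s, hs⟩ := (IsLocalizedModule.eq_zero_iff (nonZeroDivisors A) (TensorProduct.mk A K E 1)).1 hx
  have hs0 : (s : A) ≠ 0 := nonZeroDivisors.coe_ne_zero s
  have : (s : A) • x = 0 := hs
  rcases smul_eq_zero.1 this with h | h
  · exact absurd h hs0
  · exact h

/-- Let A be an integral domain with fraction field K, E a finitely generated torsion-free A-module and
u an endomorphism of E whose characteristic-polynomial coefficients (those of u ⊗ 1 on K ⊗_A E) all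
lie in A. If the determinant of u is the image of a unit of A, then u is an automorphism of E. -/
theorem result (A : Type u) [CommRing A] [IsDomain A] (K : Type u) [Field K]
    [Algebra A K] [IsFractionRing A K] (E : Type u) [AddCommGroup E] [Module A E] [Module.Finite A E]
    [Module.IsTorsionFree A E]
    (u : E →ₗ[A] E) (hcoeff : ∀ i : ℕ, ((u.baseChange K).charpoly).coeff i ∈ (algebraMap A K).range)
    (a : A) (ha : algebraMap A K a = LinearMap.det (u.baseChange K)) (hunit : IsUnit a) :
    Function.Bijective u := by
  classical
  set f := u.baseChange K with hf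
  -- lift the characteristic polynomial to `A[X]`
  have hlift : f.charpoly ∈ Polynomial.lifts (algebraMap A K) :=
    (Polynomial.lifts_iff_coeff_lifts _).2 (fun n => hcoeff n)
  obtain ⟨P, hP0⟩ := hlift
  have hP : P.map (algebraMap A K) = f.charpoly := hP0
  -- `P(u) = 0`
  have hPu : Polynomial.aeval u P = 0 := by
    ext x
    apply mk_one_injective A K E
    have h2 : Polynomial.aeval ((Module.End.baseChangeHom A K E) u) P =
        (Module.End.baseChangeHom A K E) (Polynomial.aeval u P) :=
      Polynomial.aeval_algHom_apply _ _ _
    have h3 : (Module.End.baseChangeHom A K E) u = f := rfl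
    have h4 : Polynomial.aeval f P = Polynomial.aeval f (P.map (algebraMap A K)) :=
      (Polynomial.aeval_map_algebraMap _ _ _).symm
    have h5 : Polynomial.aeval f (P.map (algebraMap A K)) = 0 := by
      rw [hP]; exact LinearMap.aeval_self_charpoly f
    rw [h3, h4, h5] at h2
    have h6 : ((Module.End.baseChangeHom A K E) (Polynomial.aeval u P)) ((1 : K) ⊗ₜ[A] x) =
        (1 : K) ⊗ₜ[A] ((Polynomial.aeval u P) x) := by
      show (LinearMap.baseChange K (Polynomial.aeval u P)) ((1 : K) ⊗ₜ[A] x) = _
      exact LinearMap.baseChange_tmul _ _ _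
    rw [← h2] at h6
    simpa using h6.symm
  -- constant coefficient of `P`
  have hc0 : algebraMap A K (P.coeff 0) = f.charpoly.coeff 0 := by
    rw [← hP, Polynomial.coeff_map]
  have hdet : LinearMap.det f = (-1) ^ Module.finrank K (TensorProduct A K E) * f.charpoly.coeff 0 :=
    LinearMap.det_eq_sign_charpoly_coeff f
  have ha' : a = (-1) ^ Module.finrank K (TensorProduct A K E) * P.coeff 0 := by
    apply IsFractionRing.injective A K
    rw [ha, hdet, map_mul, map_pow, map_neg, map_one, hc0]
  have hunit0 : IsUnit (P.coeff 0) := by
    rw [ha'] at hunit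
    exact isUnit_of_mul_isUnit_right hunit
  obtain ⟨c, hc⟩ := hunit0
  -- decompose `P = divX P * X + C (P.coeff 0)`
  have hdec : P = Polynomial.divX P * Polynomial.X + Polynomial.C (P.coeff 0) :=
    (Polynomial.divX_mul_X_add P).symm
  set w : Module.End A E := Polynomial.aeval u (Polynomial.divX P) with hw
  have h1 : w * u + (P.coeff 0) • (1 : Module.End A E) = 0 := by
    have := hPu
    rw [hdec] at this
    simpa [Algebra.algebraMap_eq_smul_one] using this
  have hcomm : w * u = u * w := by
    have e1 : w * u = Polynomial.aeval u (Polynomial.divX P * Polynomial.X) := by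
      rw [map_mul, Polynomial.aeval_X]
    have e2 : u * w = Polynomial.aeval u (Polynomial.X * Polynomial.divX P) := by
      rw [map_mul, Polynomial.aeval_X]
    rw [e1, e2, mul_comm]
  have h2 : u * w + (P.coeff 0) • (1 : Module.End A E) = 0 := by
    rw [← hcomm]; exact h1
  rw [← Module.End.isUnit_iff]
  let v : Module.End A E := -((↑(c⁻¹) : A) • w)
  have hcc : (↑(c⁻¹) : A) * P.coeff 0 = 1 := by rw [← hc]; exact c.inv_mul
  have huv : u * v = 1 := by
    have : u * v = -((↑(c⁻¹) : A) • (u * w)) := by simp [v]
    rw [this, eq_neg_of_add_eq_zero_left h2]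
    simp [smul_smul, hcc]
  have hvu : v * u = 1 := by
    have : v * u = -((↑(c⁻¹) : A) • (w * u)) := by simp [v]
    rw [this, eq_neg_of_add_eq_zero_left h1]
    simp [smul_smul, hcc]
  exact ⟨⟨u, v, huv, hvu⟩, rfl⟩

end Groth.Agent.S4431
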