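import Groth.Statements.S4432
import Mathlib
-- import your own Groth.Agent.* helpers here

set_option autoImplicit false
universe u
open EGA2

namespace Groth.Agent.S4432

open Polynomial TensorProduct

theorem coeff_mem {A K : Type*} [CommRing A] [CommRing K] [Algebra A K] (M : Submodule A K)
    {ι : Type*} (F : Finset ι) (c : ι → K[X]) (hc : ∀ j, c j = X ∨ c j = -1) (d : K) (hd : d ∈ M) :
    ∀ n, ((∏ j ∈ F, c j) * C d).coeff n ∈ M := by
  classical
  induction F using Finset.induction_on with
  | empty =>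
    intro n
    simp only [Finset.prod_empty, one_mul, coeff_C]
    split_ifs
    exacts [hd, M.zero_mem]
  | insert a F ha ih =>
    intro n
    rw [Finset.prod_insert ha, mul_assoc]
    rcases hc a with h | h
    · rw [h]
      cases n with
      | zero => simp
      | succ n => rw [coeff_X_mul]; exact ih n
    · rw [h, neg_one_mul, coeff_neg]; exact M.neg_mem (ih n)

theorem expand {ι : Type*} [Fintype ι] [DecidableEq ι] {R' N : Type*} [CommRing R'] [AddCommGroup N]
    [Module R' N] (f : MultilinearMap R' (fun _ : ι => N) R') (y y' : ι → N) (c c' : R') :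
    f (fun j => c • y j + c' • y' j) =
      ∑ S : Finset ι, (∏ j, (if j ∈ S then c else c')) • f (S.piecewise y y') := by
  have h0 : (fun j => c • y j + c' • y' j) = (fun j => c • y j) + (fun j => c' • y' j) := rfl
  rw [h0, f.map_add_univ]
  refine Finset.sum_congr rfl fun S _ => ?_
  have h1 : S.piecewise (fun j => c • y j) (fun j => c' • y' j) =
      fun j => (if j ∈ S then c else c') • (S.piecewise y y') j := by
    funext j
    by_cases hj : j ∈ S <;> simp [Finset.piecewise, hj]
  rw [h1]
  exact f.map_smul_univ (fun j => if j ∈ S then c else c') (S.piecewise y y')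

section
variable {A : Type u} [CommRing A] {K : Type u} [CommRing K] [Algebra A K]
  {E : Type u} [AddCommGroup E] [Module A E] {ι : Type u} [Fintype ι] [DecidableEq ι]

noncomputable def rowsMat (b : Module.Basis ι K (K ⊗[A] E)) (x : ι → K ⊗[A] E) : Matrix ι ι K :=
  Matrix.of fun j i => b.repr (x j) i

theorem det_rowsMat (b : Module.Basis ι K (K ⊗[A] E)) (x : ι → K ⊗[A] E) :
    (rowsMat b x).det = b.det x := by
  rw [Module.Basis.det_apply, ← Matrix.det_transpose]
  congr 1

noncomputable def Mdet (b : Module.Basis ι K (K ⊗[A] E)) : Submodule A K :=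
  Submodule.span A (Set.range fun e : ι → E => b.det (fun j => (1:K) ⊗ₜ[A] e j))

theorem coeff_mul_det_mem (b : Module.Basis ι K (K ⊗[A] E)) [Module.Free K (K ⊗[A] E)]
    [Module.Finite K (K ⊗[A] E)] (v : E →ₗ[A] E) (e : ι → E) (n : ℕ) :
    ((v.baseChange K).charpoly.coeff n) * b.det (fun j => (1:K) ⊗ₜ[A] e j) ∈ Mdet (A := A) b := by
  set w := v.baseChange K with hw
  set x : ι → K ⊗[A] E := fun j => (1:K) ⊗ₜ[A] e j with hx
  set W := LinearMap.toMatrix b b w with hW
  have h1 : ∀ j i, b.repr (w (x j)) i = ∑ k, W i k * b.repr (x j) k := by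
    intro j i
    have := congrFun (LinearMap.toMatrix_mulVec_repr b b w (x j)) i
    rw [← this]
    rfl
  obtain ⟨P, hPdef⟩ : ∃ P : Matrix ι ι K[X],
      P = (rowsMat b x).map C * Matrix.charmatrix W.transpose := ⟨_, rfl⟩
  have hdetP : P.det = w.charpoly * C (b.det x) := by
    rw [hPdef, Matrix.det_mul]
    have e1 : ((rowsMat b x).map C).det = C (b.det x) := by
      rw [← det_rowsMat b x, RingHom.map_det]; rfl
    have e2 : (Matrix.charmatrix W.transpose).det = w.charpoly := by
      have : (Matrix.charmatrix W.transpose).det = W.transpose.charpoly := rfl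
      rw [this, Matrix.charpoly_transpose, hW, LinearMap.charpoly_toMatrix]
    rw [e1, e2, mul_comm]
  have hProw : ∀ j i, P j i = X * C (b.repr (x j) i) - C (b.repr (w (x j)) i) := by
    intro j i
    have e1 : P j i = ∑ k, C (b.repr (x j) k) *
        ((Matrix.diagonal fun _ : ι => (X : K[X])) k i - C (W i k)) := by
      rw [hPdef]
      simp only [Matrix.mul_apply, Matrix.charmatrix_apply, Matrix.map_apply,
        Matrix.transpose_apply, rowsMat, Matrix.of_apply]
    have e2 : ∑ k, C (b.repr (x j) k) * (Matrix.diagonal fun _ : ι => (X : K[X])) k i =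
        X * C (b.repr (x j) i) := by
      simp only [Matrix.diagonal_apply, mul_ite, mul_zero, Finset.sum_ite_eq', Finset.mem_univ,
        if_true]
      exact mul_comm _ _
    have e3 : ∑ k, C (b.repr (x j) k) * C (W i k) = C (b.repr (w (x j)) i) := by
      rw [h1, map_sum]
      exact Finset.sum_congr rfl fun k _ => by rw [map_mul, mul_comm]
    rw [e1]
    simp only [mul_sub, Finset.sum_sub_distrib]
    rw [e2, e3]
  set f : MultilinearMap K[X] (fun _ : ι => ι → K[X]) K[X] :=
    (Matrix.detRowAlternating (n := ι) (R := K[X])).toMultilinearMap with hf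
  set y : ι → ι → K[X] := fun j i => C (b.repr (x j) i) with hy
  set y' : ι → ι → K[X] := fun j i => C (b.repr (w (x j)) i) with hy'
  have hPeq : P = fun j => (X : K[X]) • y j + (-1 : K[X]) • y' j := by
    funext j i
    rw [hProw]
    simp [hy, hy', sub_eq_add_neg]
  have hPf : P.det = f (fun j => (X : K[X]) • y j + (-1 : K[X]) • y' j) := by
    rw [← hPeq]; rfl
  have hexp := expand f y y' X (-1)
  have hS : ∀ S : Finset ι,
      f (S.piecewise y y') = C (b.det (S.piecewise x (fun j => w (x j)))) := by
    intro S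
    have hmat : (Matrix.of (S.piecewise y y')) =
        (rowsMat b (S.piecewise x (fun j => w (x j)))).map C := by
      ext j i
      by_cases hj : j ∈ S <;> simp [rowsMat, Finset.piecewise, hj, hy, hy']
    calc f (S.piecewise y y') = (Matrix.of (S.piecewise y y')).det := rfl
      _ = _ := by rw [hmat, ← det_rowsMat, RingHom.map_det]; rfl
  have hmem : ∀ S : Finset ι, b.det (S.piecewise x (fun j => w (x j))) ∈ Mdet (A := A) b := by
    intro S
    have : S.piecewise x (fun j => w (x j)) =
        fun j => (1:K) ⊗ₜ[A] (S.piecewise e (fun j => v (e j))) j := by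
      funext j
      by_cases hj : j ∈ S <;> simp [Finset.piecewise, hj, hx, hw, LinearMap.baseChange_tmul]
    rw [this]
    exact Submodule.subset_span ⟨_, rfl⟩
  have hcoef : (w.charpoly.coeff n) * b.det x = (P.det).coeff n := by
    rw [hdetP, coeff_mul_C]
  rw [hcoef, hPf, hexp, finsetSum_coeff]
  refine Submodule.sum_mem _ fun S _ => ?_
  rw [hS S, smul_eq_mul]
  exact coeff_mem (Mdet b) Finset.univ (fun j => if j ∈ S then X else -1)
    (fun j => by by_cases hj : j ∈ S <;> simp [hj]) _ (hmem S) n

omit [DecidableEq ι] in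
theorem exists_denominators [IsLocalization (nonZeroDivisors A) K] [Module.Finite A E]
    (b : Module.Basis ι K (K ⊗[A] E)) :
    ∃ s : A, IsUnit (algebraMap A K s) ∧ ∀ (e : E) (i : ι), ∃ a : A,
      algebraMap A K a = algebraMap A K s * b.repr ((1:K) ⊗ₜ[A] e) i := by
  classical
  obtain ⟨G, hG⟩ := (Module.Finite.fg_top : (⊤ : Submodule A E).FG)
  obtain ⟨s, hs⟩ := IsLocalization.exist_integer_multiples_of_finset (nonZeroDivisors A)
    ((G ×ˢ (Finset.univ : Finset ι)).image (fun p => b.repr ((1:K) ⊗ₜ[A] p.1) p.2))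
  refine ⟨(s : A), IsLocalization.map_units K s, ?_⟩
  intro e
  have he : e ∈ Submodule.span A (G : Set E) := by rw [hG]; trivial
  induction he using Submodule.span_induction with
  | mem g hg =>
    intro i
    obtain ⟨a, ha⟩ := hs _ (Finset.mem_image.mpr
      ⟨(g, i), Finset.mem_product.mpr ⟨Finset.mem_coe.mp hg, Finset.mem_univ _⟩, rfl⟩)
    exact ⟨a, by rw [ha, Algebra.smul_def]⟩
  | zero => intro i; exact ⟨0, by simp⟩
  | add e₁ e₂ _ _ h₁ h₂ =>
    intro i
    obtain ⟨a₁, h₁⟩ := h₁ i
    obtain ⟨a₂, h₂⟩ := h₂ i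
    exact ⟨a₁ + a₂, by
      rw [map_add, h₁, h₂, TensorProduct.tmul_add, map_add, Finsupp.add_apply, mul_add]⟩
  | smul c e₁ _ h₁ =>
    intro i
    obtain ⟨a₁, h₁⟩ := h₁ i
    refine ⟨c * a₁, ?_⟩
    rw [map_mul, h₁, TensorProduct.tmul_smul, algebra_compatible_smul K c ((1:K) ⊗ₜ[A] e₁),
      map_smul, Finsupp.smul_apply, smul_eq_mul]
    ring

theorem Mdet_le [IsLocalization (nonZeroDivisors A) K] [Module.Finite A E]
    (b : Module.Basis ι K (K ⊗[A] E)) :
    ∃ τ : K, Mdet (A := A) b ≤ Submodule.span A {τ} := by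
  obtain ⟨s, hs, hsa⟩ := exists_denominators (A := A) b
  choose a ha using hsa
  obtain ⟨t, ht⟩ := hs.exists_left_inv
  refine ⟨t ^ Fintype.card ι, ?_⟩
  rw [Mdet, Submodule.span_le]
  rintro _ ⟨e, rfl⟩
  rw [SetLike.mem_coe, Submodule.mem_span_singleton]
  have hmat : algebraMap A K s • rowsMat b (fun j => (1:K) ⊗ₜ[A] e j) =
      (algebraMap A K).mapMatrix (Matrix.of fun j i => a (e j) i) := by
    ext j i
    simp only [Matrix.smul_apply, rowsMat, Matrix.of_apply, smul_eq_mul, RingHom.mapMatrix_apply,
      Matrix.map_apply]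
    exact (ha (e j) i).symm
  have hdet : algebraMap A K s ^ Fintype.card ι * b.det (fun j => (1:K) ⊗ₜ[A] e j) =
      algebraMap A K (Matrix.det (Matrix.of fun j i => a (e j) i)) := by
    rw [← det_rowsMat b, ← Matrix.det_smul, hmat, ← RingHom.map_det]
  refine ⟨Matrix.det (Matrix.of fun j i => a (e j) i), ?_⟩
  rw [Algebra.smul_def, ← hdet]
  calc algebraMap A K s ^ Fintype.card ι * b.det (fun j => (1:K) ⊗ₜ[A] e j) * t ^ Fintype.card ι
      = (t * algebraMap A K s) ^ Fintype.card ι * b.det (fun j => (1:K) ⊗ₜ[A] e j) := by ring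
    _ = _ := by rw [ht, one_pow, one_mul]

theorem clear_denoms [IsLocalization (nonZeroDivisors A) K] (y : K ⊗[A] E) :
    ∃ (t : A) (e : E), IsUnit (algebraMap A K t) ∧ algebraMap A K t • y = (1:K) ⊗ₜ[A] e := by
  have hh : ∀ (t : A) (e : E),
      algebraMap A K t • ((1:K) ⊗ₜ[A] e) = (1:K) ⊗ₜ[A] (t • e) := fun t e => by
    rw [algebraMap_smul, TensorProduct.tmul_smul]
  induction y using TensorProduct.induction_on with
  | zero => exact ⟨1, 0, by simp, by simp⟩
  | tmul k e =>
    obtain ⟨⟨a, s⟩, h⟩ := IsLocalization.surj (nonZeroDivisors A) k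
    refine ⟨s, a • e, IsLocalization.map_units K s, ?_⟩
    calc algebraMap A K s • (k ⊗ₜ[A] e) = (algebraMap A K s * k) ⊗ₜ[A] e := by
          rw [TensorProduct.smul_tmul', smul_eq_mul]
      _ = (a • (1:K)) ⊗ₜ[A] e := by rw [mul_comm, h, Algebra.algebraMap_eq_smul_one]
      _ = (1:K) ⊗ₜ[A] (a • e) := TensorProduct.smul_tmul _ _ _
  | add y₁ y₂ h₁ h₂ =>
    obtain ⟨t₁, e₁, u₁, h₁⟩ := h₁
    obtain ⟨t₂, e₂, u₂, h₂⟩ := h₂
    refine ⟨t₁ * t₂, t₂ • e₁ + t₁ • e₂, by rw [map_mul]; exact u₁.mul u₂, ?_⟩
    have e1 : (algebraMap A K t₁ * algebraMap A K t₂) • y₁ =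
        algebraMap A K t₂ • (algebraMap A K t₁ • y₁) := by rw [mul_comm, mul_smul]
    have e2 : (algebraMap A K t₁ * algebraMap A K t₂) • y₂ =
        algebraMap A K t₁ • (algebraMap A K t₂ • y₂) := mul_smul _ _ _
    rw [smul_add, map_mul, e1, e2, h₁, h₂, hh, hh, TensorProduct.tmul_add]

theorem exists_unit_mem [IsLocalization (nonZeroDivisors A) K] (b : Module.Basis ι K (K ⊗[A] E)) :
    ∃ u ∈ Mdet (A := A) b, IsUnit u := by
  choose t e ht he using fun i => clear_denoms (A := A) (b i)
  refine ⟨b.det (fun j => (1:K) ⊗ₜ[A] e j), Submodule.subset_span ⟨e, rfl⟩, ?_⟩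
  have h1 : (fun j => (1:K) ⊗ₜ[A] e j) = fun j => algebraMap A K (t j) • b j :=
    funext fun j => (he j).symm
  have h2 : b.det (fun j => algebraMap A K (t j) • b j) =
      (∏ j, algebraMap A K (t j)) • b.det (fun j => b j) :=
    b.det.map_smul_univ _ _
  have h3 : b.det (fun j => b j) = 1 := b.det_self
  rw [h1, h2, h3, smul_eq_mul, mul_one]
  exact Finset.prod_induction (fun j => algebraMap A K (t j)) IsUnit (fun _ _ => IsUnit.mul)
    isUnit_one (fun j _ => ht j)

theorem core [IsNoetherianRing A] [IsLocalization (nonZeroDivisors A) K] [Module.Finite A E]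
    [Module.Free K (K ⊗[A] E)] [Module.Finite K (K ⊗[A] E)] (b : Module.Basis ι K (K ⊗[A] E)) :
    (Algebra.adjoin A {c : K | ∃ (v : E →ₗ[A] E) (j : ℕ),
        c = ((v.baseChange K).charpoly).coeff j}).toSubmodule.FG := by
  obtain ⟨M, hM⟩ : ∃ M : Submodule A K, M = Mdet (A := A) b := ⟨_, rfl⟩
  obtain ⟨τ, hτ⟩ := Mdet_le (A := A) b
  rw [← hM] at hτ
  have hMfg : M.FG := isNoetherian_submodule.mp
    (isNoetherian_of_fg_of_noetherian _ (Submodule.fg_span_singleton τ)) M hτ
  have hMnoeth : IsNoetherian A M := isNoetherian_of_fg_of_noetherian M hMfg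
  obtain ⟨u, huM, hu⟩ := exists_unit_mem (A := A) b
  rw [← hM] at huM
  let Rsub : Subalgebra A K :=
    { carrier := {c | ∀ m ∈ M, c * m ∈ M}
      mul_mem' := fun {c₁ c₂} h₁ h₂ m hm => by rw [mul_assoc]; exact h₁ _ (h₂ _ hm)
      one_mem' := fun m hm => by rw [one_mul]; exact hm
      add_mem' := fun {c₁ c₂} h₁ h₂ m hm => by rw [add_mul]; exact M.add_mem (h₁ _ hm) (h₂ _ hm)
      zero_mem' := fun m hm => by rw [zero_mul]; exact M.zero_mem
      algebraMap_mem' := fun r m hm => by rw [← Algebra.smul_def]; exact M.smul_mem r hm }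
  have hRsub : ∀ c, c ∈ Rsub ↔ ∀ m ∈ M, c * m ∈ M := fun c => Iff.rfl
  have hadj : Algebra.adjoin A {c : K | ∃ (v : E →ₗ[A] E) (j : ℕ),
      c = ((v.baseChange K).charpoly).coeff j} ≤ Rsub := by
    refine Algebra.adjoin_le ?_
    rintro c ⟨v, n, rfl⟩
    rw [SetLike.mem_coe, hRsub]
    intro m hm
    have hm' : m ∈ Submodule.span A
        (Set.range fun e : ι → E => b.det (fun j => (1:K) ⊗ₜ[A] e j)) := by
      rw [hM] at hm; exact hm
    clear hm
    induction hm' using Submodule.span_induction with
    | mem d hd =>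
      obtain ⟨e, rfl⟩ := hd
      rw [hM]
      exact coeff_mul_det_mem b v e n
    | zero => rw [mul_zero]; exact M.zero_mem
    | add m₁ m₂ _ _ h₁ h₂ => rw [mul_add]; exact M.add_mem h₁ h₂
    | smul r m₁ _ h₁ => rw [mul_smul_comm]; exact M.smul_mem r h₁
  have hle : (Algebra.adjoin A {c : K | ∃ (v : E →ₗ[A] E) (j : ℕ),
      c = ((v.baseChange K).charpoly).coeff j}).toSubmodule.map (LinearMap.mulRight A u) ≤ M := by
    rintro _ ⟨c, hc, rfl⟩
    exact (hRsub c).mp (hadj hc) u huM
  have hfg1 := isNoetherian_submodule.mp hMnoeth _ hle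
  exact Submodule.fg_of_fg_map_injective (LinearMap.mulRight A u)
    (fun c₁ c₂ h => hu.mul_left_injective h) hfg1

end


/-- Let A be a reduced Noetherian ring, K its total ring of fractions, and E a finitely generated
A-module with K ⊗_A E free over K. The A-subalgebra of K generated by the coefficients of the
characteristic polynomials of v ⊗ 1 (v running through all endomorphisms of E), i.e. by all
elementary symmetric functions of all endomorphisms of E, is a finitely generated A-module. -/
theorem result (A : Type u) [CommRing A] [IsNoetherianRing A] [IsReduced A]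
    (E : Type u) [AddCommGroup E] [Module A E] [Module.Finite A E]
    [Module.Free (FractionRing A) (TensorProduct A (FractionRing A) E)] :
    (Algebra.adjoin A {c : FractionRing A | ∃ (v : E →ₗ[A] E) (j : ℕ),
        c = ((v.baseChange (FractionRing A)).charpoly).coeff j}).toSubmodule.FG := by
  classical
  rcases subsingleton_or_nontrivial A with hA | hA
  · have hK : Subsingleton (FractionRing A) := by
      refine subsingleton_of_zero_eq_one ?_
      rw [← map_zero (algebraMap A (FractionRing A)), ← map_one (algebraMap A (FractionRing A))]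
      exact congrArg _ (Subsingleton.elim _ _)
    have h0 : ∀ N : Submodule A (FractionRing A), N = ⊥ := fun N => by
      ext x
      have hx : x = 0 := Subsingleton.elim x 0
      simp [hx]
    have hfg : ∀ N : Submodule A (FractionRing A), N.FG := fun N => by
      rw [h0 N]; exact Submodule.fg_bot
    exact hfg _
  · have hK : Nontrivial (FractionRing A) :=
      (IsFractionRing.injective A (FractionRing A)).nontrivial
    have hfin : Module.Finite (FractionRing A) (TensorProduct A (FractionRing A) E) := inferInstance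
    have hfinι : Finite (Module.Free.ChooseBasisIndex (FractionRing A)
        (TensorProduct A (FractionRing A) E)) :=
      Module.Finite.finite_basis (Module.Free.chooseBasis (FractionRing A)
        (TensorProduct A (FractionRing A) E))
    have hfintype : Fintype (Module.Free.ChooseBasisIndex (FractionRing A)
        (TensorProduct A (FractionRing A) E)) := Fintype.ofFinite _
    exact core (Module.Free.chooseBasis (FractionRing A) (TensorProduct A (FractionRing A) E))

end Groth.Agent.S4432
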