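import Groth.Statements.S4435
-- import your own Groth.Agent.* helpers here

set_option autoImplicit false
universe u
open CategoryTheory CategoryTheory.Limits AlgebraicGeometry
open EGA2

namespace Groth.Agent.S4435


section Abstract

variable {A B K L : Type*} [CommRing A] [CommRing B] [Field K] [Field L]
  [Algebra A B] [Algebra A K] [Algebra B L] [Algebra K L] [Algebra A L]
  [IsScalarTower A B L] [IsScalarTower A K L]

theorem subalgebra_eq_top (p : Ideal B) [p.IsPrime] [IsLocalization.AtPrime L p]
    (E : Subalgebra K L) (hE : ∀ b : B, algebraMap B L b ∈ E)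
    (halg : ∀ x ∈ E, IsAlgebraic K x) : E = ⊤ := by
  rw [eq_top_iff]
  intro z _
  obtain ⟨a, s, rfl⟩ := IsLocalization.exists_mk'_eq p.primeCompl z
  have hs : IsUnit (algebraMap B L s) := IsLocalization.map_units L s
  have h1 : IsLocalization.mk' L a s = algebraMap B L a * (algebraMap B L s)⁻¹ := by
    rw [eq_mul_inv_iff_mul_eq₀ hs.ne_zero]
    exact IsLocalization.mk'_spec L a s
  rw [h1]
  exact E.mul_mem (hE a)
    (E.inv_mem_of_algebraic (x := ⟨algebraMap B L s, hE s⟩) (halg _ (hE s)))

theorem isIntegral_of_atPrime (p : Ideal B) [p.IsPrime] [IsLocalization.AtPrime L p]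
    (h : Algebra.IsIntegral A B) : Algebra.IsIntegral K L := by
  have key := subalgebra_eq_top p (integralClosure K L) (fun b => ?_)
    (fun x hx => IsIntegral.isAlgebraic hx)
  · constructor
    intro x
    have : x ∈ integralClosure K L := by rw [key]; trivial
    exact this
  · have h1 : IsIntegral A (algebraMap B L b) :=
      (h.isIntegral b).map (IsScalarTower.toAlgHom A B L)
    exact h1.tower_top

theorem finite_of_atPrime (p : Ideal B) [p.IsPrime] [IsLocalization.AtPrime L p]
    (h : Module.Finite A B) : Module.Finite K L := by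
  classical
  have hint : Algebra.IsIntegral A B := Algebra.IsIntegral.of_finite A B
  obtain ⟨t, ht⟩ := h.fg_top
  have hgen : ∀ x ∈ (algebraMap B L '' (t : Set B)), IsIntegral K x := by
    rintro _ ⟨b, -, rfl⟩
    have h1 : IsIntegral A (algebraMap B L b) :=
      (hint.isIntegral b).map (IsScalarTower.toAlgHom A B L)
    exact h1.tower_top
  have key := subalgebra_eq_top p (Algebra.adjoin K (algebraMap B L '' (t : Set B)))
    (fun b => ?_) (fun x hx => ?_)
  · have hfg := fg_adjoin_of_finite ((t.finite_toSet).image (algebraMap B L)) hgen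
    rw [key] at hfg
    exact ⟨by simpa using hfg⟩
  · have hb : b ∈ Submodule.span A (t : Set B) := by rw [ht]; trivial
    induction hb using Submodule.span_induction with
    | mem x hx => exact Algebra.subset_adjoin ⟨x, hx, rfl⟩
    | zero => rw [map_zero]; exact Subalgebra.zero_mem _
    | add x y _ _ hx hy => rw [map_add]; exact Subalgebra.add_mem _ hx hy
    | smul a x _ hx =>
      rw [Algebra.smul_def, map_mul, ← IsScalarTower.algebraMap_apply A B L,
        IsScalarTower.algebraMap_apply A K L, ← Algebra.smul_def]
      exact Subalgebra.smul_mem _ hx _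
  · have hle : Algebra.adjoin K (algebraMap B L '' (t : Set B)) ≤ integralClosure K L :=
      Algebra.adjoin_le hgen
    exact IsIntegral.isAlgebraic (hle hx)

end Abstract

/-- Let X, S be integral schemes and f : X ⟶ S a dominant morphism. If f is integral, the field of
rational functions of X is algebraic over that of S; if f is finite, it is a finite extension. Here
the extension is given by the stalk map of f at the generic point of X, whose source is the local
ring of S at the generic point of S (f being dominant), i.e. the function field of S. -/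
theorem result {X S : Scheme.{u}} [IsIntegral X] [IsIntegral S]
    (f : X ⟶ S) [IsDominant f] :
    (IsIntegralHom f → (f.stalkMap (genericPoint X)).hom.IsIntegral) ∧
      (IsFinite f → (f.stalkMap (genericPoint X)).hom.Finite) := by
  have hη : f (genericPoint X) = genericPoint S := by
    have h1 := (genericPoint_spec X).image f.base.hom.continuous
    rw [Set.image_univ, (IsDominant.denseRange (f := f)).closure_range] at h1
    exact h1.eq (genericPoint_spec S)
  obtain ⟨V, hV, hηV⟩ : ∃ V : S.Opens, IsAffineOpen V ∧ f (genericPoint X) ∈ V := by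
    obtain ⟨W, hW, hx, -⟩ := exists_isAffineOpen_mem_and_subset
      (x := f (genericPoint X)) (U := ⊤) trivial
    exact ⟨W, hW, hx⟩
  have key : IsAffineHom f → (((f.app V).hom.IsIntegral → (f.stalkMap (genericPoint X)).hom.IsIntegral) ∧
      ((f.app V).hom.Finite → (f.stalkMap (genericPoint X)).hom.Finite)) := by
    intro _
    have hU : IsAffineOpen (f ⁻¹ᵁ V) := hV.preimage f
    have hK : IsField (S.presheaf.stalk (f (genericPoint X))) :=
      hη.symm ▸ (Field.toIsField S.functionField)
    let _ : Field (S.presheaf.stalk (f (genericPoint X))) := hK.toField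
    let _ : Algebra Γ(S, V) Γ(X, f ⁻¹ᵁ V) := (f.app V).hom.toAlgebra
    let _ : Algebra Γ(S, V) (S.presheaf.stalk (f (genericPoint X))) :=
      (S.presheaf.germ V (f (genericPoint X)) hηV).hom.toAlgebra
    let _ : Algebra Γ(X, f ⁻¹ᵁ V) (X.presheaf.stalk (genericPoint X)) :=
      TopCat.Presheaf.algebra_section_stalk X.presheaf ⟨genericPoint X, hηV⟩
    let _ : Algebra (S.presheaf.stalk (f (genericPoint X))) (X.presheaf.stalk (genericPoint X)) :=
      (f.stalkMap (genericPoint X)).hom.toAlgebra
    let _ : Algebra Γ(S, V) (X.presheaf.stalk (genericPoint X)) :=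
      ((f.stalkMap (genericPoint X)).hom.comp
        (S.presheaf.germ V (f (genericPoint X)) hηV).hom).toAlgebra
    have t1 : IsScalarTower Γ(S, V) (S.presheaf.stalk (f (genericPoint X)))
        (X.presheaf.stalk (genericPoint X)) := .of_algebraMap_eq' rfl
    have t2 : IsScalarTower Γ(S, V) Γ(X, f ⁻¹ᵁ V) (X.presheaf.stalk (genericPoint X)) := by
      apply IsScalarTower.of_algebraMap_eq'
      have := congrArg CommRingCat.Hom.hom (f.germ_stalkMap V (genericPoint X) hηV)
      exact this
    have hloc : IsLocalization.AtPrime (X.presheaf.stalk (genericPoint X))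
        (hU.primeIdealOf ⟨genericPoint X, hηV⟩).asIdeal :=
      hU.isLocalization_stalk ⟨genericPoint X, hηV⟩
    refine ⟨fun h => ?_, fun h => ?_⟩
    · have h' : Algebra.IsIntegral Γ(S, V) Γ(X, f ⁻¹ᵁ V) := ⟨h⟩
      have := isIntegral_of_atPrime (A := Γ(S, V)) (K := S.presheaf.stalk (f (genericPoint X)))
        (L := X.presheaf.stalk (genericPoint X))
        (hU.primeIdealOf ⟨genericPoint X, hηV⟩).asIdeal h'
      exact this.isIntegral
    · have h' : Module.Finite Γ(S, V) Γ(X, f ⁻¹ᵁ V) := h
      exact finite_of_atPrime (A := Γ(S, V)) (K := S.presheaf.stalk (f (genericPoint X)))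
        (L := X.presheaf.stalk (genericPoint X))
        (hU.primeIdealOf ⟨genericPoint X, hηV⟩).asIdeal h'
  exact ⟨fun h => (key inferInstance).1 (h.isIntegral_app V hV),
    fun h => (key inferInstance).2 (h.finite_app V hV)⟩

end Groth.Agent.S4435
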