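import Groth.Statements.S4441
-- import your own Groth.Agent.* helpers here

set_option autoImplicit false
universe u
open CategoryTheory CategoryTheory.Limits AlgebraicGeometry
open EGA2

namespace Groth.Agent.S4441

/-- Let X and Y be integral separated schemes and f : X ⟶ Y a dominant, quasi-compact, universally
closed morphism, ξ the generic point of X. Every valuation subring R of the function field K(X) of X
which dominates the local ring of Y at a point y (via O_{Y,y} → O_{Y,f(ξ)} → K(X): image inside R,
maximal ideal into the maximal ideal of R) also dominates the local ring of X at some point x (via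
O_{X,x} → K(X)). -/
theorem result {X Y : Scheme.{u}} [IsIntegral X] [IsIntegral Y]
    [X.IsSeparated] [Y.IsSeparated] (f : X ⟶ Y) [IsDominant f] [QuasiCompact f] [UniversallyClosed f]
    (R : ValuationSubring X.functionField) (y : Y) (hy : f.base (genericPoint X) ⤳ y)
    (hdom : (∀ a : Y.presheaf.stalk y, (Y.presheaf.stalkSpecializes hy ≫ f.stalkMap (genericPoint X)).hom a ∈ R) ∧
      ∀ a ∈ IsLocalRing.maximalIdeal (Y.presheaf.stalk y),
        R.valuation ((Y.presheaf.stalkSpecializes hy ≫ f.stalkMap (genericPoint X)).hom a) < 1) :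
    ∃ x : X, (∀ a : X.presheaf.stalk x, algebraMap (X.presheaf.stalk x) X.functionField a ∈ R) ∧
      ∀ a ∈ IsLocalRing.maximalIdeal (X.presheaf.stalk x), R.valuation (algebraMap (X.presheaf.stalk x) X.functionField a) < 1 := by
  obtain ⟨hR, hmax⟩ := hdom
  let φ : Y.presheaf.stalk y ⟶ X.functionField :=
    Y.presheaf.stalkSpecializes hy ≫ f.stalkMap (genericPoint X)
  let ψ : Y.presheaf.stalk y ⟶ .of R := CommRingCat.ofHom (φ.hom.codRestrict R.toSubring hR)
  have hex : ValuativeCriterion.Existence f := by
    have h : (ValuativeCriterion.Existence ⊓ @QuasiCompact) f := by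
      rw [← UniversallyClosed.eq_valuativeCriterion]; infer_instance
    exact h.1
  have w : X.fromSpecStalk (genericPoint X) ≫ f =
      Spec.map (CommRingCat.ofHom (algebraMap R X.functionField)) ≫
        Spec.map ψ ≫ Y.fromSpecStalk y := by
    rw [← Scheme.SpecMap_stalkMap_fromSpecStalk,
      ← Scheme.SpecMap_stalkSpecializes_fromSpecStalk hy]
    simp_rw [← Spec.map_comp_assoc]
    rfl
  let S : ValuativeCommSq f :=
    { R := R
      K := X.functionField
      i₁ := X.fromSpecStalk (genericPoint X)
      i₂ := Spec.map ψ ≫ Y.fromSpecStalk y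
      commSq := ⟨w⟩ }
  have hl := hex S
  obtain ⟨⟨l, hl1, hl2⟩⟩ := hl.exists_lift
  let x : X := l (IsLocalRing.closedPoint R)
  let χ : X.presheaf.stalk x ⟶ .of R := Scheme.stalkClosedPointTo l
  have hχ : Spec.map χ ≫ X.fromSpecStalk x = l := Scheme.Spec_stalkClosedPointTo_fromSpecStalk l
  have hsp : genericPoint X ⤳ x := (genericPoint_spec X).specializes trivial
  have key : X.presheaf.stalkSpecializes hsp =
      χ ≫ CommRingCat.ofHom (algebraMap R X.functionField) := by
    apply Spec.map_injective
    rw [← cancel_mono (X.fromSpecStalk x), Scheme.SpecMap_stalkSpecializes_fromSpecStalk,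
      Spec.map_comp, Category.assoc, hχ]
    exact hl1.symm
  have hval : ∀ a : X.presheaf.stalk x,
      algebraMap (X.presheaf.stalk x) X.functionField a = ((χ.hom a : R) : X.functionField) := by
    intro a
    change (X.presheaf.stalkSpecializes hsp).hom a = _
    rw [key]
    rfl
  refine ⟨x, fun a => ?_, fun a ha => ?_⟩
  · rw [hval]; exact (χ.hom a).2
  · rw [hval, ← ValuationSubring.valuation_lt_one_iff]
    have : IsLocalHom χ.hom := Scheme.isLocalHom_stalkClosedPointTo l
    exact map_nonunit χ.hom a ha

end Groth.Agent.S4441
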