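import Groth.Statements.S4443
import Mathlib
import Groth.Agent.Lib.Helper21.FieldDimStalk
import Groth.Agent.Lib.Helper21.FieldDimSq
import Groth.Agent.Lib.Helper21.FieldDimPts
-- import your own Groth.Agent.* helpers here

set_option autoImplicit false
universe u
open CategoryTheory CategoryTheory.Limits AlgebraicGeometry
open EGA2

namespace Groth.Agent.S4443

/-- Let X be an irreducible algebraic curve over a field k (separated and of finite type over k,
nonempty, irreducible, local rings at closed points of dimension one). Then the generic point is the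
only non-closed point of X, and the closed subsets of X distinct from X are exactly the finite sets
of closed points. (The published statement adds that these are also exactly the subsets of X that
are not dense in X, an immediate consequence; this row does not state it.) -/
theorem result (k : Type u) [Field k] (X : Scheme.{u})
    [X.Over (Spec (CommRingCat.of k))] [LocallyOfFiniteType (X ↘ (Spec (CommRingCat.of k)))]
    [QuasiCompact (X ↘ (Spec (CommRingCat.of k)))] [IsSeparated (X ↘ (Spec (CommRingCat.of k)))]
    [Nonempty X] [IrreducibleSpace X] (hcurve : ∀ x : X, IsClosed ({x} : Set X) → ringKrullDim (X.presheaf.stalk x) = 1) :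
    (∀ x : X, ¬ IsClosed ({x} : Set X) → x = genericPoint X) ∧
      ∀ F : Set X, IsClosed F → (F ≠ Set.univ ↔ (F.Finite ∧ ∀ x ∈ F, IsClosed ({x} : Set X))) := by
  classical
  let f : X ⟶ Spec (CommRingCat.of k) := X ↘ Spec (CommRingCat.of k)
  have hlft : LocallyOfFiniteType f := inferInstance
  have hqc : QuasiCompact f := inferInstance
  have hcomp : CompactSpace X := QuasiCompact.compactSpace_of_compactSpace f
  have hln : IsLocallyNoetherian X := LocallyOfFiniteType.isLocallyNoetherian f
  have hnoeth : IsNoetherian X := { }
  have hns : TopologicalSpace.NoetherianSpace X := inferInstance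
  -- closed point in the closure of a point
  have hclpt : ∀ ξ : X, ∃ x0 : X, ξ ⤳ x0 ∧ IsClosed ({x0} : Set X) := by
    intro ξ
    obtain ⟨x0, hx0, hcl⟩ := (isClosed_closure (s := ({ξ} : Set X))).exists_closed_singleton
      ⟨ξ, subset_closure rfl⟩
    exact ⟨x0, specializes_iff_mem_closure.mpr hx0, hcl⟩
  have htd : ∀ ξ : X, Groth.Agent.Lib.Helper21.FieldDim.td f ξ ≤ 1 := by
    intro ξ
    obtain ⟨x0, hspec, hcl⟩ := hclpt ξ
    have h1 : FlatMor.localDim X x0 = 1 := by
      rw [Groth.Agent.Lib.Helper21.FieldDim.localDim_eq_stalk_of_isClosed f hcl, hcurve x0 hcl]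
    have h2 := (Groth.Agent.Lib.Helper21.FieldDim.localDim_le_iff f x0 1).mp h1.le ξ hspec
    exact_mod_cast h2
  have part1 : ∀ x : X, ¬ IsClosed ({x} : Set X) → x = genericPoint X := by
    intro x hx
    obtain ⟨x0, hspec, hcl⟩ := hclpt x
    have hne : x ≠ x0 := fun h => hx (h ▸ hcl)
    have h1 := Groth.Agent.Lib.Helper21.FieldDim.td_lt_of_specializes f hspec hne
    by_contra hgen
    have h2 := Groth.Agent.Lib.Helper21.FieldDim.td_lt_of_specializes f
      (genericPoint_specializes x) (Ne.symm hgen)
    have h3 := htd (genericPoint X)
    omega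
  refine ⟨part1, ?_⟩
  intro F hF
  constructor
  · intro hne
    have hη : genericPoint X ∉ F := by
      intro hmem
      apply hne
      rw [Set.eq_univ_iff_forall]
      intro x
      exact (genericPoint_specializes x).mem_closed hF hmem
    have hcl : ∀ x ∈ F, IsClosed ({x} : Set X) := by
      intro x hx
      by_contra hncl
      exact hη (part1 x hncl ▸ hx)
    refine ⟨?_, hcl⟩
    obtain ⟨S, hSfin, hScl, hSirr, hSeq⟩ :=
      TopologicalSpace.NoetherianSpace.exists_finite_set_isClosed_irreducible hF
    rw [hSeq]
    refine Set.Finite.sUnion hSfin ?_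
    intro t ht
    have htF : t ⊆ F := by
      rw [hSeq]
      exact Set.subset_sUnion_of_mem ht
    obtain ⟨z, hz⟩ := QuasiSober.sober (hSirr t ht) (hScl t ht)
    have hzt : z ∈ t := hz.mem
    have hzcl := hcl z (htF hzt)
    have : t = {z} := by
      rw [← hz.def, hzcl.closure_eq]
    rw [this]
    exact Set.finite_singleton z
  · rintro ⟨hfin, hcl⟩ huniv
    subst huniv
    have hηcl := hcl (genericPoint X) trivial
    have hall : ∀ x : X, x = genericPoint X := by
      intro x
      have h1 : x ∈ closure ({genericPoint X} : Set X) :=
        (genericPoint_specializes x).mem_closure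
      rw [hηcl.closure_eq] at h1
      exact h1
    have h1 : FlatMor.localDim X (genericPoint X) = 1 := by
      rw [Groth.Agent.Lib.Helper21.FieldDim.localDim_eq_stalk_of_isClosed f hηcl,
        hcurve _ hηcl]
    have h2 : FlatMor.localDim X (genericPoint X) ≤ 0 := by
      rw [Groth.Agent.Lib.Helper21.FieldDim.localDim_le_iff f]
      intro ξ _
      rw [hall ξ, Groth.Agent.Lib.Helper21.FieldDim.td_eq_zero_of_isClosed_singleton f hηcl]
      simp
    rw [h1] at h2
    exact absurd h2 (by norm_num)

end Groth.Agent.S4443
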