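import Groth.Statements.S4446
import Mathlib
import Groth.Agent.Lib.Helper7.BiratIso
import Groth.Agent.S2285

set_option autoImplicit false
universe u
open CategoryTheory CategoryTheory.Limits AlgebraicGeometry
open EGA2

set_option linter.style.haveILetI false

namespace Groth.Agent.S4446

/-- a dominant morphism of irreducible schemes maps generic point to generic point -/
theorem genericPoint_of_denseRange {A B : Scheme.{u}} [IrreducibleSpace A] [IrreducibleSpace B]
    (s : A ⟶ B) (hs : DenseRange s) : s (genericPoint A) = genericPoint B := by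
  apply ((genericPoint_spec B).eq _).symm
  have := (genericPoint_spec A).image s.continuous
  rwa [Set.image_univ, hs.closure_range] at this

theorem main {Y X X' : Scheme.{u}} [IsIntegral Y]
    (hY : Pi1.IsNormalScheme Y) (g : X' ⟶ X) [IsIntegralHom g] (U : Y.Opens) (hU : Dense (U : Set Y))
    (f : (U : Scheme.{u}) ⟶ X') (h : Y ⟶ X) (hfh : f ≫ g = U.ι ≫ h) :
    ∃ f' : Y ⟶ X', U.ι ≫ f' = f ∧ f' ≫ g = h := by
  -- U is an integral scheme
  have hUne : Nonempty (U : Scheme.{u}) := by
    obtain ⟨y, hy⟩ := hU.nonempty
    exact ⟨⟨y, hy⟩⟩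
  haveI : IsIntegral (U : Scheme.{u}) := inferInstance
  let σ : (U : Scheme.{u}) ⟶ pullback h g := pullback.lift U.ι f hfh.symm
  have hσ1 : σ ≫ pullback.fst h g = U.ι := pullback.lift_fst _ _ _
  have hσ2 : σ ≫ pullback.snd h g = f := pullback.lift_snd _ _ _
  let W : TopologicalSpace.Closeds ↥(pullback h g) := ⟨closure (Set.range σ), isClosed_closure⟩
  let I := Scheme.IdealSheafData.vanishingIdeal W
  have hrange : Set.range I.subschemeι = closure (Set.range σ) := by
    rw [Scheme.IdealSheafData.range_subschemeι, Scheme.IdealSheafData.coe_support_vanishingIdeal]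
    rfl
  obtain ⟨σ', hσ'⟩ := Groth.Agent.S2285.exists_factor_of_isReduced σ I.subschemeι
    (by rw [hrange]; exact subset_closure)
  haveI : IsReduced I.subscheme := Groth.Agent.S2285.isReduced_vanishingIdeal_subscheme W
  -- density of σ'
  have hdense : DenseRange σ' := by
    rw [DenseRange, I.subschemeι.isClosedEmbedding.isInducing.dense_iff]
    intro x
    have h1 : I.subschemeι '' Set.range σ' = Set.range σ := by
      rw [← hσ', ← Set.range_comp]
      rfl
    rw [h1, ← hrange]
    exact ⟨x, rfl⟩
  haveI : IrreducibleSpace I.subscheme := by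
    have h1 := ((IrreducibleSpace.isIrreducible_univ (U : Scheme.{u})).image σ'
      σ'.continuous.continuousOn).closure
    rw [Set.image_univ, hdense.closure_range] at h1
    exact (irreducibleSpace_def _).mpr h1
  haveI : IsIntegral I.subscheme := isIntegral_of_irreducibleSpace_of_isReduced _
  let d : I.subscheme ⟶ Y := I.subschemeι ≫ pullback.fst h g
  have hd : σ' ≫ d = U.ι := by
    rw [← Category.assoc, hσ', hσ1]
  haveI : IsIntegralHom d := inferInstance
  have hgen' : σ' (genericPoint (U : Scheme.{u})) = genericPoint I.subscheme :=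
    genericPoint_of_denseRange σ' hdense
  have hgen : d (σ' (genericPoint (U : Scheme.{u}))) = genericPoint Y := by
    rw [← Scheme.Hom.comp_apply, hd]
    exact genericPoint_eq_of_isOpenImmersion U.ι
  have hbij : Function.Bijective (d.stalkMap (σ' (genericPoint (U : Scheme.{u})))).hom := by
    apply Groth.Agent.Lib.Helper7.BiratIso.bijective_stalkMap_of_comp σ' d _ hgen'
    have : IsIso ((σ' ≫ d).stalkMap (genericPoint (U : Scheme.{u}))) := by
      rw [Scheme.Hom.stalkMap_congr_hom _ _ hd]
      infer_instance
    exact (ConcreteCategory.isIso_iff_bijective _).mp this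
  have hiso : IsIso d :=
    Groth.Agent.Lib.Helper7.BiratIso.isIso_of_isIntegralHom_of_birational' hY d _ hgen' hgen hbij
  refine ⟨inv d ≫ I.subschemeι ≫ pullback.snd h g, ?_, ?_⟩
  · rw [← hd, Category.assoc, IsIso.hom_inv_id_assoc, ← Category.assoc, hσ', hσ2]
  · rw [Category.assoc, Category.assoc, ← pullback.condition, ← Category.assoc I.subschemeι,
      IsIso.inv_hom_id_assoc]

end Groth.Agent.S4446

namespace Groth.Agent.S4446

/-- Let g : X' ⟶ X be an integral morphism and Y an integral normal scheme. A rational map from Y to X'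
whose composite with g is everywhere defined is itself everywhere defined: if f is a morphism from a
dense open U of Y to X' and h : Y ⟶ X satisfies g ∘ f = h restricted to U, then f extends to a
morphism Y ⟶ X' lifting h. (The published statement allows Y normal and locally integral; it is
stated here for Y integral, the case to which it reduces on each component.) -/
theorem result {Y X X' : Scheme.{u}} [IsIntegral Y]
    (hY : Pi1.IsNormalScheme Y) (g : X' ⟶ X) [IsIntegralHom g] (U : Y.Opens) (hU : Dense (U : Set Y))
    (f : (U : Scheme.{u}) ⟶ X') (h : Y ⟶ X) (hfh : f ≫ g = U.ι ≫ h) :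
    ∃ f' : Y ⟶ X', U.ι ≫ f' = f ∧ f' ≫ g = h := by

  exact Groth.Agent.S4446.main hY g U hU f h hfh

end Groth.Agent.S4446
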