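import Groth.Statements.S4449
import Groth.Agent.Lib.Helper67.ValExt2
-- import your own Groth.Agent.* helpers here

set_option autoImplicit false
universe u
open CategoryTheory CategoryTheory.Limits AlgebraicGeometry
open EGA2

namespace Groth.Agent.S4449

open IsLocalRing Groth.Agent.Lib.Helper67

/-- Uniqueness part of the valuative criterion, for valuation subrings. -/
theorem lift_unique_of_isSeparated {X Y : Scheme.{u}} (f : X ⟶ Y) [IsSeparated f]
    (K₀ : Type u) [Field K₀] (R₀ : ValuationSubring K₀)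
    (l₁ l₂ : Spec (CommRingCat.of ↥R₀) ⟶ X)
    (h1 : Spec.map (CommRingCat.ofHom R₀.subtype) ≫ l₁ =
      Spec.map (CommRingCat.ofHom R₀.subtype) ≫ l₂)
    (h2 : l₁ ≫ f = l₂ ≫ f) : l₁ = l₂ := by
  let sq : ValuativeCommSq f :=
    { R := R₀, K := K₀, i₁ := Spec.map (CommRingCat.ofHom R₀.subtype) ≫ l₁, i₂ := l₁ ≫ f,
      commSq := ⟨by rw [Category.assoc]; rfl⟩ }
  have hs : Subsingleton sq.commSq.LiftStruct := IsSeparated.valuativeCriterion f sq
  let a : sq.commSq.LiftStruct := ⟨l₁, rfl, rfl⟩
  let b : sq.commSq.LiftStruct := ⟨l₂, h1.symm, h2.symm⟩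
  exact congrArg CommSq.LiftStruct.l (Subsingleton.elim a b)

set_option backward.isDefEq.respectTransparency.types false in
theorem exists_lift_sub {X Y : Scheme.{u}} [IsIntegral X] [IsIntegral Y]
    [X.IsSeparated] [Y.IsSeparated] (f : X ⟶ Y)
    (h : ∀ (R : ValuationSubring X.functionField), R ≠ ⊤ →
      ∀ (y : Y) (hy : f.base (genericPoint X) ⤳ y),
        ((∀ a : Y.presheaf.stalk y, (Y.presheaf.stalkSpecializes hy ≫ f.stalkMap (genericPoint X)).hom a ∈ R) ∧
          ∀ a ∈ IsLocalRing.maximalIdeal (Y.presheaf.stalk y),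
            R.valuation ((Y.presheaf.stalkSpecializes hy ≫ f.stalkMap (genericPoint X)).hom a) < 1) →
        ∃ x : X, (∀ a : X.presheaf.stalk x, algebraMap (X.presheaf.stalk x) X.functionField a ∈ R) ∧
          ∀ a ∈ IsLocalRing.maximalIdeal (X.presheaf.stalk x), R.valuation (algebraMap (X.presheaf.stalk x) X.functionField a) < 1)
    (K₀ : Type u) [Field K₀] (R₀ : ValuationSubring K₀) (g : X.functionField ⟶ .of K₀)
    (φ : Spec (.of R₀) ⟶ Y)
    (w : Spec.map (CommRingCat.ofHom R₀.subtype) ≫ φ =
      Spec.map g ≫ X.fromSpecStalk (genericPoint X) ≫ f) :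
    ∃ l : Spec (.of R₀) ⟶ X,
      Spec.map (CommRingCat.ofHom R₀.subtype) ≫ l = Spec.map g ≫ X.fromSpecStalk (genericPoint X) ∧
      l ≫ f = φ := by
  -- it suffices to construct `l` with the right generic point
  suffices hl : ∃ l : Spec (.of R₀) ⟶ X,
      Spec.map (CommRingCat.ofHom R₀.subtype) ≫ l =
        Spec.map g ≫ X.fromSpecStalk (genericPoint X) by
    obtain ⟨l, hl⟩ := hl
    refine ⟨l, hl, ?_⟩
    refine lift_unique_of_isSeparated (terminal.from Y) K₀ R₀ _ _ ?_ (terminal.hom_ext _ _)
    rw [← Category.assoc, hl, w, Category.assoc]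
  set ξ := genericPoint X with hξ
  let R : ValuationSubring X.functionField := R₀.comap g.hom
  let ρ : ↥R →+* ↥R₀ := (g.hom.comp R.subtype).codRestrict R₀ (fun x => x.2)
  by_cases hR : R = ⊤
  · have hmem : ∀ a, g.hom a ∈ R₀ := by
      intro a
      have : a ∈ R := hR ▸ ValuationSubring.mem_top a
      exact this
    let g' : X.functionField →+* ↥R₀ := g.hom.codRestrict R₀ hmem
    refine ⟨Spec.map (CommRingCat.ofHom g') ≫ X.fromSpecStalk ξ, ?_⟩
    rw [← Spec.map_comp_assoc]
    rfl
  · set y := φ (closedPoint R₀) with hy'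
    set ε := Scheme.stalkClosedPointTo φ with hε'
    have hε : Spec.map ε ≫ Y.fromSpecStalk y = φ := Scheme.Spec_stalkClosedPointTo_fromSpecStalk φ
    have hy : f ξ ⤳ y := by
      have h1 := congr($w (closedPoint K₀))
      simp only [Scheme.Hom.comp_apply] at h1
      have h2 : (Spec.map g) (closedPoint K₀) = closedPoint X.functionField :=
        Subsingleton.elim (α := PrimeSpectrum X.functionField) _ _
      rw [h2, Scheme.fromSpecStalk_closedPoint] at h1
      rw [← h1]
      exact (specializes_closedPoint _).map φ.continuous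
    set c : Y.presheaf.stalk y ⟶ X.functionField :=
      Y.presheaf.stalkSpecializes hy ≫ f.stalkMap ξ with hc
    have hcomp : ε ≫ CommRingCat.ofHom R₀.subtype = c ≫ g := by
      apply Spec.map_injective
      rw [← cancel_mono (Y.fromSpecStalk y)]
      rw [Spec.map_comp, Category.assoc, hε, w, hc, Spec.map_comp, Spec.map_comp, Category.assoc,
        Category.assoc, Scheme.SpecMap_stalkSpecializes_fromSpecStalk,
        Scheme.SpecMap_stalkMap_fromSpecStalk]
    have hcomp' : ∀ a, ((ε.hom a : ↥R₀) : K₀) = g.hom (c.hom a) := fun a => congr($hcomp a)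
    have dom1 : ∀ a : Y.presheaf.stalk y, c.hom a ∈ R := by
      intro a
      change g.hom (c.hom a) ∈ R₀
      rw [← hcomp']
      exact (ε.hom a).2
    have dom2 : ∀ a ∈ maximalIdeal (Y.presheaf.stalk y), R.valuation (c.hom a) < 1 := by
      intro a ha
      have h1 := (ValuationSubring.valuation_lt_one_iff R ⟨c.hom a, dom1 a⟩).mp
      apply h1
      rw [mem_maximalIdeal, mem_nonunits_iff]
      intro hu
      have h2 : IsUnit (ρ ⟨c.hom a, dom1 a⟩) := hu.map ρ
      have h3 : ρ ⟨c.hom a, dom1 a⟩ = ε.hom a := Subtype.ext (hcomp' a).symm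
      rw [h3] at h2
      have h4 : IsUnit a := isUnit_of_map_unit ε.hom a h2
      exact ha h4
    obtain ⟨x, hx1, -⟩ := h R hR y hy ⟨dom1, dom2⟩
    let θ : X.presheaf.stalk x →+* ↥R :=
      (algebraMap (X.presheaf.stalk x) X.functionField).codRestrict R hx1
    refine ⟨Spec.map (CommRingCat.ofHom θ ≫ CommRingCat.ofHom ρ) ≫ X.fromSpecStalk x, ?_⟩
    have e : (CommRingCat.ofHom θ ≫ CommRingCat.ofHom ρ) ≫ CommRingCat.ofHom R₀.subtype =
        X.presheaf.stalkSpecializes ((genericPoint_spec X).specializes trivial) ≫ g := rfl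
    rw [← Spec.map_comp_assoc, e, Spec.map_comp, Category.assoc,
      Scheme.SpecMap_stalkSpecializes_fromSpecStalk]

/-- Case of an arbitrary integral separated base: let Y and X be integral separated schemes and f : X ⟶
Y a dominant morphism of finite type, ξ the generic point of X. Suppose that every valuation subring
R of K(X) other than K(X) itself which dominates the local ring of Y at a point y (via O_{Y,y} →
O_{Y,f(ξ)} → K(X)) dominates the local ring of X at some point x (via O_{X,x} → K(X)). Then f is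
proper. (Compare the locally Noetherian variant with discrete valuation rings.) -/
theorem result {X Y : Scheme.{u}} [IsIntegral X] [IsIntegral Y]
    [X.IsSeparated] [Y.IsSeparated] (f : X ⟶ Y) [IsDominant f] [LocallyOfFiniteType f] [QuasiCompact f]
    (h : ∀ (R : ValuationSubring X.functionField), R ≠ ⊤ →
      ∀ (y : Y) (hy : f.base (genericPoint X) ⤳ y),
        ((∀ a : Y.presheaf.stalk y, (Y.presheaf.stalkSpecializes hy ≫ f.stalkMap (genericPoint X)).hom a ∈ R) ∧
          ∀ a ∈ IsLocalRing.maximalIdeal (Y.presheaf.stalk y),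
            R.valuation ((Y.presheaf.stalkSpecializes hy ≫ f.stalkMap (genericPoint X)).hom a) < 1) →
        ∃ x : X, (∀ a : X.presheaf.stalk x, algebraMap (X.presheaf.stalk x) X.functionField a ∈ R) ∧
          ∀ a ∈ IsLocalRing.maximalIdeal (X.presheaf.stalk x), R.valuation (algebraMap (X.presheaf.stalk x) X.functionField a) < 1) :
    IsProper f := by
  set ξ := genericPoint X with hξ
  let hU : Spec X.functionField ⟶ X := X.fromSpecStalk ξ
  have hd : DenseRange hU.base := by
    have h1 : ξ ∈ Set.range hU.base :=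
      ⟨closedPoint X.functionField, Scheme.fromSpecStalk_closedPoint (X := X) (x := ξ)⟩
    have h2 : Dense ({ξ} : Set X) := by
      rw [dense_iff_closure_eq]
      exact (genericPoint_spec X).def
    exact h2.mono (Set.singleton_subset_iff.mpr h1)
  haveI : QuasiCompact hU := inferInstance
  haveI : UniversallyClosed f := by
    refine ValExt.universallyClosed_of_dense f hU hd fun sq hsq => ?_
    obtain ⟨i, hi⟩ := hsq
    refine ValExt2.unique_liftStruct_of_subring f sq ?_
    obtain ⟨g, hg⟩ : ∃ g : X.functionField ⟶ .of sq.K, Spec.map g = i :=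
      ⟨Spec.preimage i, Spec.map_preimage i⟩
    have w : Spec.map (CommRingCat.ofHom (ValExt2.rangeVS sq.R sq.K).subtype) ≫
        Spec.map (ValExt2.eHom f sq) ≫ sq.i₂ = Spec.map g ≫ X.fromSpecStalk ξ ≫ f := by
      rw [← Spec.map_comp_assoc, ValExt2.eHom_subtype, ← sq.commSq.w, ← hi, hg, Category.assoc]
    obtain ⟨l, hl1, hl2⟩ := exists_lift_sub f h sq.K (ValExt2.rangeVS sq.R sq.K) g _ w
    refine ⟨l, ⟨by rw [hl1, hg, hi], hl2⟩, ?_⟩
    rintro l' ⟨hl'1, hl'2⟩
    exact lift_unique_of_isSeparated f sq.K _ l' l (by rw [hl'1, hl1, hg, hi])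
      (by rw [hl'2, hl2])
  exact {}

end Groth.Agent.S4449
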