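import Groth.Statements.S4451
import Groth.Agent.Lib.Helper39.CurveVal
-- import your own Groth.Agent.* helpers here

set_option autoImplicit false
universe u
open CategoryTheory CategoryTheory.Limits AlgebraicGeometry
attribute [local instance] Curv2.stalkAlgebra
open EGA2

namespace Groth.Agent.S4451

section Helpers

set_option autoImplicit false
set_option linter.style.haveILetI false
open CategoryTheory CategoryTheory.Limits AlgebraicGeometry
attribute [local instance] Curv2.stalkAlgebra

open Groth.Agent.Lib.Helper39.CurveVal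

/-- Part 1 data: for every `x`, a closed point `x₀` in its closure whose local ring is a DVR. -/
theorem exists_closed_dvr (k : Type u) [Field k] (X : Scheme.{u})
    [X.Over (Spec (CommRingCat.of k))] [IsProper (X ↘ (Spec (CommRingCat.of k)))] [IsIntegral X]
    (hX : ∀ x : X, IsClosed ({x} : Set X) → ringKrullDim (X.presheaf.stalk x) = 1)
    (hnorm : Pi1.IsNormalScheme X) (x : X) :
    ∃ x₀ : X, x ⤳ x₀ ∧ IsDiscreteValuationRing (X.presheaf.stalk x₀) := by
  have : CompactSpace X := compactSpace_of_universallyClosed (X ↘ (Spec (CommRingCat.of k)))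
  obtain ⟨x₀, hx₀, hcl⟩ := (isClosed_closure (s := ({x} : Set X))).exists_closed_singleton
    ⟨x, subset_closure rfl⟩
  refine ⟨x₀, specializes_iff_mem_closure.mpr hx₀, ?_⟩
  have : IsLocallyNoetherian X :=
    LocallyOfFiniteType.isLocallyNoetherian (X ↘ (Spec (CommRingCat.of k)))
  obtain ⟨h1, h2⟩ := hnorm x₀
  exact isDiscreteValuationRing_of_dim_one _ (hX x₀ hcl)

theorem part1 (k : Type u) [Field k] (X : Scheme.{u})
    [X.Over (Spec (CommRingCat.of k))] [IsProper (X ↘ (Spec (CommRingCat.of k)))] [IsIntegral X]
    (hX : ∀ x : X, IsClosed ({x} : Set X) → ringKrullDim (X.presheaf.stalk x) = 1)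
    (hnorm : Pi1.IsNormalScheme X) (x : X) (hx : x ≠ genericPoint X) :
    ∃ R : ValuationSubring X.functionField, R ≠ ⊤ ∧
        (R : Set X.functionField) = Set.range (algebraMap (X.presheaf.stalk x) X.functionField) := by
  obtain ⟨x₀, hsp, hdvr⟩ := exists_closed_dvr k X hX hnorm x
  haveI : ValuationRing (X.presheaf.stalk x₀) := inferInstance
  refine ⟨valuationSubringOfSpecializes X hsp, ?_, coe_valuationSubringOfSpecializes X hsp⟩
  intro htop
  apply hx
  apply eq_genericPoint_of_isField_stalk
  have hsurj : Function.Surjective (algebraMap (X.presheaf.stalk x) X.functionField) := by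
    intro z
    have : z ∈ (valuationSubringOfSpecializes X hsp) := by rw [htop]; trivial
    exact this
  have hinj := IsFractionRing.injective (X.presheaf.stalk x) X.functionField
  exact (RingEquiv.ofBijective _ ⟨hinj, hsurj⟩).toMulEquiv.isField (Field.toIsField _)

/-- `Spec O_x → X → Spec k` is `Spec` of the structure map `k → O_x`. -/
theorem fromSpecStalk_comp_over (k : Type u) [Field k] (X : Scheme.{u})
    [X.Over (Spec (CommRingCat.of k))] (x : X) :
    X.fromSpecStalk x ≫ (X ↘ (Spec (CommRingCat.of k))) =
      Spec.map (CommRingCat.ofHom (Curv2.stalkMap k X x)) := by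
  have h1 := Scheme.toSpecΓ_naturality (X ↘ (Spec (CommRingCat.of k)))
  rw [← SpecMap_ΓSpecIso_hom] at h1
  have h2 : (X ↘ (Spec (CommRingCat.of k))) = X.toSpecΓ ≫
      Spec.map ((X ↘ (Spec (CommRingCat.of k))).appTop) ≫
        Spec.map (Scheme.ΓSpecIso (CommRingCat.of k)).inv := by
    rw [← Category.assoc, ← h1, Category.assoc, ← Spec.map_comp, Iso.inv_hom_id, Spec.map_id,
      Category.comp_id]
  rw [h2, Scheme.fromSpecStalk_toSpecΓ_assoc, ← Spec.map_comp, ← Spec.map_comp]
  rfl

open IsLocalRing in
theorem part2 (k : Type u) [Field k] (X : Scheme.{u})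
    [X.Over (Spec (CommRingCat.of k))] [IsProper (X ↘ (Spec (CommRingCat.of k)))] [IsIntegral X]
    (hX : ∀ x : X, IsClosed ({x} : Set X) → ringKrullDim (X.presheaf.stalk x) = 1)
    (hnorm : Pi1.IsNormalScheme X) (R : ValuationSubring X.functionField) (hR : R ≠ ⊤)
    (hk : ∀ c : k, algebraMap k X.functionField c ∈ R) :
    ∃! x : X, (R : Set X.functionField) =
      Set.range (algebraMap (X.presheaf.stalk x) X.functionField) := by
  let f := X ↘ (Spec (CommRingCat.of k))
  let ψ : k →+* R := (algebraMap k X.functionField).codRestrict R.toSubring hk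
  let ι : CommRingCat.of R ⟶ CommRingCat.of X.functionField :=
    CommRingCat.ofHom (algebraMap R X.functionField)
  let i₁ : Spec (CommRingCat.of X.functionField) ⟶ X := X.fromSpecStalk (genericPoint X)
  let i₂ : Spec (CommRingCat.of R) ⟶ Spec (CommRingCat.of k) := Spec.map (CommRingCat.ofHom ψ)
  have hψι : CommRingCat.ofHom ψ ≫ ι = CommRingCat.ofHom (Curv2.stalkMap k X (genericPoint X)) := rfl
  have w : i₁ ≫ f = Spec.map ι ≫ i₂ := by
    show X.fromSpecStalk (genericPoint X) ≫ (X ↘ (Spec (CommRingCat.of k))) = _
    rw [fromSpecStalk_comp_over, ← Spec.map_comp, hψι]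
  let S : ValuativeCommSq f := { R := R, K := X.functionField, i₁ := i₁, i₂ := i₂, commSq := ⟨w⟩ }
  have hex : ValuativeCriterion.Existence f := by
    have h : UniversallyClosed f := inferInstance
    rw [UniversallyClosed.eq_valuativeCriterion] at h
    exact h.1
  have huniq : ValuativeCriterion.Uniqueness f := IsSeparated.valuativeCriterion f
  obtain ⟨l, hl₁, hl₂⟩ := (hex S).exists_lift
  change Spec.map ι ≫ l = i₁ at hl₁
  change l ≫ f = i₂ at hl₂
  -- general facts about points whose local ring is contained in `R`
  -- the point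
  let x : X := l (closedPoint R)
  let φ : X.presheaf.stalk x ⟶ CommRingCat.of R := Scheme.stalkClosedPointTo l
  have hφl : Spec.map φ ≫ X.fromSpecStalk x = l := Scheme.Spec_stalkClosedPointTo_fromSpecStalk l
  have hsp : genericPoint X ⤳ x := (genericPoint_spec X).specializes trivial
  have hφι : φ ≫ ι = X.presheaf.stalkSpecializes hsp := by
    apply Spec.map_injective
    rw [← cancel_mono (X.fromSpecStalk x), Spec.map_comp, Category.assoc, hφl, hl₁,
      Scheme.SpecMap_stalkSpecializes_fromSpecStalk]
  have hφK : ∀ a : X.presheaf.stalk x,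
      ((φ.hom a : R) : X.functionField) = algebraMap (X.presheaf.stalk x) X.functionField a := by
    intro a
    exact congr($(hφι).hom a)
  have hxξ : x ≠ genericPoint X := by
    intro h
    apply hR
    rw [eq_top_iff]
    intro z _
    have hf : IsField (X.presheaf.stalk x) := by
      rw [h]; exact Field.toIsField X.functionField
    letI := hf.toField
    have hsurj : Function.Surjective (algebraMap (X.presheaf.stalk x) X.functionField) := by
      intro z
      obtain ⟨⟨a, s⟩, hs⟩ := IsLocalization.surj (nonZeroDivisors (X.presheaf.stalk x)) z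
      have hs0 : (s : X.presheaf.stalk x) ≠ 0 := nonZeroDivisors.ne_zero s.2
      refine ⟨a * (s : X.presheaf.stalk x)⁻¹, ?_⟩
      rw [map_mul, ← hs, mul_assoc, ← map_mul, mul_inv_cancel₀ hs0, map_one, mul_one]
    obtain ⟨a, rfl⟩ := hsurj z
    rw [← hφK]
    exact (φ.hom a).2
  obtain ⟨Rx, -, hRx⟩ := part1 k X hX hnorm x hxξ
  have hmain : (R : Set X.functionField) =
      Set.range (algebraMap (X.presheaf.stalk x) X.functionField) := by
    ext z
    constructor
    · intro hz
      have hz' : z ∈ R := hz
      rcases Rx.mem_or_inv_mem z with h | h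
      · have : z ∈ (Rx : Set X.functionField) := h
        rwa [hRx] at this
      · have h' : z⁻¹ ∈ (Rx : Set X.functionField) := h
        rw [hRx] at h'
        obtain ⟨a, ha⟩ := h'
        by_cases hz0 : z = 0
        · exact ⟨0, by rw [map_zero, hz0]⟩
        by_cases hau : IsUnit a
        · obtain ⟨u, rfl⟩ := hau
          refine ⟨((u⁻¹ : (X.presheaf.stalk x)ˣ) : X.presheaf.stalk x), ?_⟩
          have h1 : algebraMap (X.presheaf.stalk x) X.functionField (u : X.presheaf.stalk x) *
              algebraMap (X.presheaf.stalk x) X.functionField ((u⁻¹ : (X.presheaf.stalk x)ˣ) : X.presheaf.stalk x) = 1 := by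
            rw [← map_mul, Units.mul_inv, map_one]
          rw [ha] at h1
          have h2 : z⁻¹ * z = 1 := inv_mul_cancel₀ hz0
          exact (mul_left_cancel₀ (inv_ne_zero hz0) (h1.trans h2.symm))
        · exfalso
          have hloc : IsLocalHom φ.hom := inferInstanceAs (IsLocalHom (Scheme.stalkClosedPointTo l).hom)
          apply hau
          apply hloc.map_nonunit a
          have hmul : φ.hom a * (⟨z, hz'⟩ : R) = 1 := by
            apply Subtype.ext
            show ((φ.hom a : R) : X.functionField) * z = 1
            rw [hφK, ha]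
            exact inv_mul_cancel₀ hz0
          exact IsUnit.of_mul_eq_one _ hmul
    · rintro ⟨a, rfl⟩
      rw [← hφK]
      exact (φ.hom a).2
  refine ⟨x, hmain, fun x' hx' => ?_⟩
  -- uniqueness
  have hle : ∀ a : X.presheaf.stalk x', algebraMap (X.presheaf.stalk x') X.functionField a ∈ R.toSubring := by
    intro a
    have : algebraMap (X.presheaf.stalk x') X.functionField a ∈ (R : Set X.functionField) := by
      rw [hx']; exact ⟨a, rfl⟩
    exact this
  let φ' : X.presheaf.stalk x' →+* R :=
    (algebraMap (X.presheaf.stalk x') X.functionField).codRestrict R.toSubring hle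
  have hφ'inj : Function.Injective φ' := by
    intro a b hab
    apply IsFractionRing.injective (X.presheaf.stalk x') X.functionField
    exact congr_arg Subtype.val hab
  have hφ'surj : Function.Surjective φ' := by
    intro z
    have : (z : X.functionField) ∈ (R : Set X.functionField) := z.2
    rw [hx'] at this
    obtain ⟨a, ha⟩ := this
    exact ⟨a, Subtype.ext ha⟩
  have hφ'loc : IsLocalHom φ' := by
    constructor
    intro a ha
    obtain ⟨b, hb⟩ := ha.exists_right_inv
    obtain ⟨a', rfl⟩ := hφ'surj b
    rw [← map_mul, ← map_one φ'] at hb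
    exact IsUnit.of_mul_eq_one _ (hφ'inj hb)
  let l' : Spec (CommRingCat.of R) ⟶ X := Spec.map (CommRingCat.ofHom φ') ≫ X.fromSpecStalk x'
  have hsp' : genericPoint X ⤳ x' := (genericPoint_spec X).specializes trivial
  have hφ'ι : CommRingCat.ofHom φ' ≫ ι = X.presheaf.stalkSpecializes hsp' := rfl
  have hl'₁ : Spec.map ι ≫ l' = i₁ := by
    show Spec.map ι ≫ Spec.map (CommRingCat.ofHom φ') ≫ X.fromSpecStalk x' = _
    rw [← Spec.map_comp_assoc, hφ'ι, Scheme.SpecMap_stalkSpecializes_fromSpecStalk]
  have hl'₂ : l' ≫ f = i₂ := by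
    have h1 : Spec.map (Spec.preimage (l' ≫ f)) = l' ≫ f := Spec.map_preimage _
    have h2 : Spec.preimage (l' ≫ f) ≫ ι = CommRingCat.ofHom ψ ≫ ι := by
      apply Spec.map_injective
      rw [Spec.map_comp, h1, ← Category.assoc, hl'₁, w, Spec.map_comp]
    have h3 : Spec.preimage (l' ≫ f) = CommRingCat.ofHom ψ := by
      ext c
      exact congr($(h2).hom c)
    rw [← h1, h3]
  have hll' : l' = l := by
    have := huniq S
    have h := Subsingleton.elim (⟨l', hl'₁, hl'₂⟩ : S.commSq.LiftStruct) ⟨l, hl₁, hl₂⟩
    exact congr_arg CommSq.LiftStruct.l h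
  have hx'l : l' (closedPoint R) = x' := by
    show (Spec.map (CommRingCat.ofHom φ') ≫ X.fromSpecStalk x') (closedPoint R) = x'
    refine (Scheme.Hom.comp_apply _ _ _).trans ?_
    have : Spec.map (CommRingCat.ofHom φ') (closedPoint R) = closedPoint (X.presheaf.stalk x') :=
      comap_closedPoint φ'
    erw [this]
    exact Scheme.fromSpecStalk_closedPoint
  rw [← hx'l, hll']

theorem main4451 (k : Type u) [Field k] (X : Scheme.{u})
    [X.Over (Spec (CommRingCat.of k))] [IsProper (X ↘ (Spec (CommRingCat.of k)))] [IsIntegral X]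
    (hX : ∀ x : X, IsClosed ({x} : Set X) → ringKrullDim (X.presheaf.stalk x) = 1) (hnorm : Pi1.IsNormalScheme X) :
    (∀ x : X, x ≠ genericPoint X → ∃ R : ValuationSubring X.functionField, R ≠ ⊤ ∧
        (R : Set X.functionField) = Set.range (algebraMap (X.presheaf.stalk x) X.functionField)) ∧
      ∀ R : ValuationSubring X.functionField, R ≠ ⊤ → (∀ c : k, algebraMap k X.functionField c ∈ R) →
        ∃! x : X, (R : Set X.functionField) = Set.range (algebraMap (X.presheaf.stalk x) X.functionField) :=
  ⟨fun x hx => part1 k X hX hnorm x hx, fun R hR hk => part2 k X hX hnorm R hR hk⟩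

end Helpers

/-- Let X be a normal, complete, irreducible algebraic curve over a field k with field of rational
functions K. The set of local rings of X, as subrings of K, consists of K itself (at the generic
point) and of the valuation rings of K containing k (and distinct from K): every non-generic point
has such a valuation ring as local ring, and every such valuation ring is the local ring of exactly
one point. -/
theorem result (k : Type u) [Field k] (X : Scheme.{u})
    [X.Over (Spec (CommRingCat.of k))] [IsProper (X ↘ (Spec (CommRingCat.of k)))] [IsIntegral X]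
    (hX : ∀ x : X, IsClosed ({x} : Set X) → ringKrullDim (X.presheaf.stalk x) = 1) (hnorm : Pi1.IsNormalScheme X) :
    (∀ x : X, x ≠ genericPoint X → ∃ R : ValuationSubring X.functionField, R ≠ ⊤ ∧
        (R : Set X.functionField) = Set.range (algebraMap (X.presheaf.stalk x) X.functionField)) ∧
      ∀ R : ValuationSubring X.functionField, R ≠ ⊤ → (∀ c : k, algebraMap k X.functionField c ∈ R) →
        ∃! x : X, (R : Set X.functionField) = Set.range (algebraMap (X.presheaf.stalk x) X.functionField) := by
  exact main4451 k X hX hnorm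

end Groth.Agent.S4451
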