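import Groth.Statements.S4452
import Groth.Agent.Lib.Helper42.PolyAlg
import Groth.Agent.Lib.Helper42.ProjLoc
-- import your own Groth.Agent.* helpers here

set_option autoImplicit false
universe u
open CategoryTheory CategoryTheory.Limits AlgebraicGeometry
open EGA2

namespace Groth.Agent.S4452

open Groth.Agent.Lib.Helper42 in
/-- the morphism `Proj B(U)[T] → Spec B(U)`. -/
noncomputable def psi {X Y : Scheme.{u}} (f : X ⟶ Y) [IsFinite f] (U : Y.Opens)
    (hU : IsAffineOpen U) :
    Proj ((PolyAlg.polyAlg (RelSpec.QCAlg.directImage f)).deg U hU) ⟶ Spec Γ(X, f ⁻¹ᵁ U) :=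
  Proj.toSpecZero ((PolyAlg.polyAlg (RelSpec.QCAlg.directImage f)).deg U hU) ≫
    Spec.map (CommRingCat.ofHom (PolyAlg.ι₀ (RelSpec.QCAlg.directImage f) U hU))

open Groth.Agent.Lib.Helper42 in
instance {X Y : Scheme.{u}} (f : X ⟶ Y) [IsFinite f] (U : Y.Opens) (hU : IsAffineOpen U) :
    IsIso (psi f U hU) :=
  PolyAlg.isIso_toSpecZero_comp (RelSpec.QCAlg.directImage f) U hU

/-- naturality of `isoSpec` for inclusions of affine opens. -/
lemma isoSpec_hom_naturality {X : Scheme.{u}} {V V' : X.Opens} (hV : IsAffineOpen V)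
    (hV' : IsAffineOpen V') (h : V' ≤ V) :
    X.homOfLE h ≫ hV.isoSpec.hom =
      hV'.isoSpec.hom ≫ Spec.map (X.presheaf.map (homOfLE h).op) := by
  rw [← cancel_mono hV.fromSpec, Category.assoc, Category.assoc, hV.isoSpec_hom_fromSpec,
    hV.map_fromSpec hV', hV'.isoSpec_hom_fromSpec, Scheme.homOfLE_ι]

open Groth.Agent.Lib.Helper42 in
set_option backward.isDefEq.respectTransparency.types false in
lemma aux {X Y : Scheme.{u}} (f : X ⟶ Y) [IsFinite f] : RelProj.IsProjective f := by
  let B := RelSpec.QCAlg.directImage f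
  let 𝒮 := PolyAlg.polyAlg B
  let chart : ∀ (U : Y.Opens) (hU : IsAffineOpen U),
      (((f ⁻¹ᵁ U : X.Opens) : Scheme.{u}) ≅ Proj (𝒮.deg U hU)) := fun U hU =>
    (hU.preimage f).isoSpec ≪≫ (asIso (psi f U hU)).symm
  have hchart : ∀ (U : Y.Opens) (hU : IsAffineOpen U),
      (chart U hU).hom = (hU.preimage f).isoSpec.hom ≫ inv (psi f U hU) := fun U hU => rfl
  refine ⟨𝒮, X, f, chart, Iso.refl X, PolyAlg.isGenDegOne B,
    PolyAlg.isFTDeg_one B (fun U hU => IsFinite.finite_app f U hU), ⟨?_, ?_⟩, Category.id_comp f⟩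
  · intro U hU
    have hstr : 𝒮.strZero U hU = f.app U ≫ CommRingCat.ofHom (PolyAlg.ι₀ B U hU) := by
      ext r
      exact (PolyAlg.ι_str B U hU r).symm
    have h1 : Proj.toSpecZero (𝒮.deg U hU) ≫ Spec.map (𝒮.strZero U hU) =
        psi f U hU ≫ Spec.map (f.app U) := by
      rw [hstr, Spec.map_comp]
      rfl
    rw [hchart, Category.assoc, reassoc_of% h1, IsIso.inv_hom_id_assoc]
    have h2 : f.app U = f.appLE U (f ⁻¹ᵁ U) le_rfl := (Scheme.Hom.appLE_eq_app f).symm
    rw [h2, IsAffineOpen.SpecMap_appLE_fromSpec f hU (hU.preimage f) le_rfl,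
      IsAffineOpen.isoSpec_hom_fromSpec_assoc]
  · intro U hU r
    have hD : IsAffineOpen (Y.basicOpen r) := hU.basicOpen r
    have hstar : Proj.map (𝒮.res hU hD (Y.basicOpen_le r)) (𝒮.irrelevant_le_map U hU r) ≫
        psi f U hU = psi f (Y.basicOpen r) hD ≫
          Spec.map (X.presheaf.map (homOfLE (f.preimage_mono (Y.basicOpen_le r))).op) :=
      ProjLoc.map_toSpecZero (𝒮.res hU hD (Y.basicOpen_le r)) (𝒮.irrelevant_le_map U hU r)
        (PolyAlg.ι₀ B U hU) (PolyAlg.ι₀ B (Y.basicOpen r) hD)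
        (PolyAlg.resB B (Y.basicOpen_le r)) (fun a => PolyAlg.res_ι B U hU r a)
    have h2 := isoSpec_hom_naturality (hU.preimage f) (hD.preimage f)
      (f.preimage_mono (Y.basicOpen_le r))
    rw [hchart, hchart, reassoc_of% h2, Category.assoc]
    congr 1
    rw [IsIso.eq_inv_comp, ← Category.assoc, IsIso.comp_inv_eq]
    exact hstar.symm

/-- Every finite morphism f : X ⟶ Y is projective (here: X is Y-isomorphic to the homogeneous spectrum
of a quasi-coherent graded O_Y-algebra generated by its degree-one part, that part being of finite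
type — the form of projectivity equivalent to X being a closed subscheme of a projective bundle P(E)
with E quasi-coherent of finite type). -/
theorem result {X Y : Scheme.{u}} (f : X ⟶ Y) [IsFinite f] : RelProj.IsProjective f := by
  exact aux f

end Groth.Agent.S4452
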