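import Groth.Statements.S4455
import Groth.Agent.Lib.Helper39.NormCurve
-- import your own Groth.Agent.* helpers here

set_option autoImplicit false
universe u
open CategoryTheory CategoryTheory.Limits AlgebraicGeometry
open EGA2

namespace Groth.Agent.S4455

section Helpers

set_option autoImplicit false
open CategoryTheory CategoryTheory.Limits AlgebraicGeometry

open Groth.Agent.Lib.Helper39.NormCurve in
theorem isFinite_normalizationι (k : Type u) [Field k] (X : Scheme.{u})
    (s : X ⟶ Spec (CommRingCat.of k)) [LocallyOfFiniteType s] [IsIntegral X]
    [QuasiCompact (X.fromSpecStalk (genericPoint X))] [QuasiSeparated (X.fromSpecStalk (genericPoint X))] :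
    IsFinite (X.fromSpecStalk (genericPoint X)).fromNormalization := by
  let g : Spec (CommRingCat.of X.functionField) ⟶ X := X.fromSpecStalk (genericPoint X)
  have hg : g = Spec.map (CommRingCat.ofHom (RingHom.id X.functionField)) ≫
      X.fromSpecStalk (genericPoint X) := by
    have : CommRingCat.ofHom (RingHom.id X.functionField) = 𝟙 _ := rfl
    rw [this, Spec.map_id, Category.id_comp]
  have : QuasiCompact g := ‹QuasiCompact (X.fromSpecStalk (genericPoint X))›
  have : QuasiSeparated g := ‹QuasiSeparated (X.fromSpecStalk (genericPoint X))›
  have hφ : (RingHom.id X.functionField).Finite := RingHom.Finite.id _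
  exact (isFinite_iff _).mpr ⟨inferInstance, fun U hU =>
      finite_app_fromNormalization X X.functionField (RingHom.id _) g hg s hφ U hU⟩

theorem surjective_normalizationι (X : Scheme.{u}) [IsIntegral X]
    [QuasiCompact (X.fromSpecStalk (genericPoint X))] [QuasiSeparated (X.fromSpecStalk (genericPoint X))] :
    Surjective (X.fromSpecStalk (genericPoint X)).fromNormalization := by
  have : IsDominant (X.fromSpecStalk (genericPoint X)) := by
    constructor
    have hr : Set.range (X.fromSpecStalk (genericPoint X)) ⊇ {genericPoint X} := by
      rintro _ rfl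
      exact ⟨IsLocalRing.closedPoint _, Scheme.fromSpecStalk_closedPoint⟩
    have hd : Dense ({genericPoint X} : Set X) := by
      rw [dense_iff_closure_eq]
      exact (genericPoint_spec X)
    exact hd.mono hr
  exact Groth.Agent.Lib.Helper7.NormField.surjective_fromNormalization_of_isDominant _

theorem main4455 (k : Type u) [Field k] (X : Scheme.{u})
    [X.Over (Spec (CommRingCat.of k))] [LocallyOfFiniteType (X ↘ (Spec (CommRingCat.of k)))]
    [QuasiCompact (X ↘ (Spec (CommRingCat.of k)))] [IsSeparated (X ↘ (Spec (CommRingCat.of k)))] [IsIntegral X]
    (hX : ∀ x : X, IsClosed ({x} : Set X) → ringKrullDim (X.presheaf.stalk x) = 1)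
    [QuasiCompact (X.fromSpecStalk (genericPoint X))] [QuasiSeparated (X.fromSpecStalk (genericPoint X))] :
    IsProper (X ↘ (Spec (CommRingCat.of k))) ↔ IsProper (Curv2.normalizationι X ≫ (X ↘ (Spec (CommRingCat.of k)))) := by
  have hfin : IsFinite (Curv2.normalizationι X) :=
    isFinite_normalizationι k X (X ↘ (Spec (CommRingCat.of k)))
  have hsurj : Surjective (Curv2.normalizationι X) := surjective_normalizationι X
  constructor
  · intro h
    infer_instance
  · intro h
    have : UniversallyClosed (X ↘ (Spec (CommRingCat.of k))) :=
      UniversallyClosed.of_comp_surjective (Curv2.normalizationι X) _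
    exact { }

end Helpers

/-- An integral algebraic curve X over a field k is complete (proper over k) if and only if its
normalization X', with the composite structure morphism X' ⟶ X ⟶ Spec k, is proper over k. (The
quasi-compactness and quasi-separatedness binders on the morphism from the generic point always
hold; they are needed only to form the normalization.) -/
theorem result (k : Type u) [Field k] (X : Scheme.{u})
    [X.Over (Spec (CommRingCat.of k))] [LocallyOfFiniteType (X ↘ (Spec (CommRingCat.of k)))]
    [QuasiCompact (X ↘ (Spec (CommRingCat.of k)))] [IsSeparated (X ↘ (Spec (CommRingCat.of k)))] [IsIntegral X]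
    (hX : ∀ x : X, IsClosed ({x} : Set X) → ringKrullDim (X.presheaf.stalk x) = 1)
    [QuasiCompact (X.fromSpecStalk (genericPoint X))] [QuasiSeparated (X.fromSpecStalk (genericPoint X))] :
    IsProper (X ↘ (Spec (CommRingCat.of k))) ↔ IsProper (Curv2.normalizationι X ≫ (X ↘ (Spec (CommRingCat.of k)))) := by
  exact main4455 k X hX

end Groth.Agent.S4455
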