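import Groth.Statements.S4457
import Groth.Agent.Lib.Cohomology.Helper1_RpushSectionsLocal
import Groth.Agent.Lib.Cohomology.Helper1_SheafifyBasis

set_option autoImplicit false
universe u
open Coherent

namespace Groth.Agent.S4457

open AlgebraicGeometry CategoryTheory Opposite TopologicalSpace
open Groth.Agent.Lib.Cohomology Groth.Agent.Lib.Cohomology.RpushSections
  Groth.Agent.Lib.Cohomology.RpushSectionsLocal

/-- the comparison map of presheaves `H^p((gf)⁻¹ W, F) → (sheafification of V ↦ H^p(f⁻¹ V, F))(g⁻¹ W)` -/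
noncomputable def cmp {X Y Z : Scheme.{u}} (f : X ⟶ Y) (g : Y ⟶ Z) (F : X.Modules) (p : ℕ) :
    PP (f ≫ g) F p ⟶ ((Coh.pushAb g).obj (SheafifyGlue.shf (PP f F p))).obj :=
  Functor.whiskerLeft (Opens.map g.base).op (SheafifyGlue.θ (PP f F p))

theorem main {X Y Z : Scheme.{u}} (f : X ⟶ Y) (g : Y ⟶ Z)
    [IsSeparated f] [QuasiCompact f] [IsAffineHom g] (F : X.Modules) [Coh.IsQCoh F] (p : ℕ) :
    Nonempty ((Coh.RpushAb (f ≫ g) p).obj (Coh.toAb F) ≅
      (Coh.pushAb g).obj ((Coh.RpushAb f p).obj (Coh.toAb F))) := by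
  obtain ⟨e1⟩ := RpushSh.rpush_iso_sheafify (f ≫ g).base p (Coh.toAb F)
  obtain ⟨e2⟩ := RpushSh.rpush_iso_sheafify f.base p (Coh.toAb F)
  have hB : Opens.IsBasis {W : Z.Opens | IsAffineOpen W} := Z.isBasis_affineOpens
  obtain ⟨e3⟩ := SheafifyBasis.nonempty_sheafify_iso_of_bijective_on_basis (cmp f g F p)
    {W : Z.Opens | IsAffineOpen W} hB (by
      intro W hW
      exact bijective_toSheafify_of_isAffineOpen f F p (g ⁻¹ᵁ W) (hW.preimage g))
  exact ⟨e1 ≪≫ e3 ≪≫ ((Coh.pushAb g).mapIso e2).symm⟩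


open AlgebraicGeometry CategoryTheory in
/-- Let f : X → Y be a separated quasi-compact morphism, g : Y → Z an affine morphism and F a
quasi-coherent O_X-module. Then for every p ≥ 0, R^p (g ∘ f)_* F is isomorphic to g_*(R^p f_* F)
(higher direct images and direct image of the underlying abelian sheaves). The source shows that the
canonical comparison map is an isomorphism; only the existence of an isomorphism is asserted here. -/
theorem result {X Y Z : Scheme.{u}} (f : X ⟶ Y) (g : Y ⟶ Z)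
    [IsSeparated f] [QuasiCompact f] [IsAffineHom g] (F : X.Modules) [Coh.IsQCoh F] (p : ℕ) :
    Nonempty ((Coh.RpushAb (f ≫ g) p).obj (Coh.toAb F) ≅
      (Coh.pushAb g).obj ((Coh.RpushAb f p).obj (Coh.toAb F))) := by
  exact Groth.Agent.S4457.main f g F p

end Groth.Agent.S4457
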