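import Groth.Statements.S4459
import Mathlib

set_option autoImplicit false
universe u
open Coherent

namespace Groth.Agent.S4459

open AlgebraicGeometry CategoryTheory in
/-- Let A be a Noetherian ring which is separated and complete for the J-adic topology, and let f : X →
Spec A be a morphism of schemes which is a closed map on underlying spaces. Then every open subset
of X containing the inverse image of V(J) is all of X. (The published statement also assumes X of
finite type over A; that hypothesis is not used.) -/
theorem result (A : Type u) [CommRing A] [IsNoetherianRing A]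
    (J : Ideal A) [IsAdicComplete J A] {X : Scheme.{u}} (f : X ⟶ Spec (CommRingCat.of A))
    (hf : IsClosedMap f.base) (U : X.Opens)
    (hU : f.base ⁻¹' (PrimeSpectrum.zeroLocus (J : Set A)) ⊆ (U : Set X)) : U = ⊤ := by
  by_contra hne
  have hC : ((U : Set X)ᶜ).Nonempty := by
    rw [Set.nonempty_compl]
    intro h
    exact hne (TopologicalSpace.Opens.ext h)
  have hclosed : IsClosed (f.base '' ((U : Set X)ᶜ)) := hf _ U.isOpen.isClosed_compl
  obtain ⟨I, hI⟩ := (PrimeSpectrum.isClosed_iff_zeroLocus_ideal _).mp hclosed
  have hIne : I ≠ ⊤ := by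
    rintro rfl
    rw [PrimeSpectrum.zeroLocus_empty_of_one_mem (by simp)] at hI
    obtain ⟨c, hc⟩ := hC
    have : f.base c ∈ f.base '' ((U : Set X)ᶜ) := ⟨c, hc, rfl⟩
    rw [hI] at this
    exact this
  obtain ⟨m, hm, hIm⟩ := Ideal.exists_le_maximal I hIne
  have hmem : (⟨m, hm.isPrime⟩ : PrimeSpectrum A) ∈ f.base '' ((U : Set X)ᶜ) := by
    rw [hI]
    exact hIm
  obtain ⟨c, hc, hfc⟩ := hmem
  have hJ : J ≤ m := by
    refine (IsAdicComplete.le_jacobson_bot J).trans ?_
    rw [← Ideal.jacobson_eq_self_of_isMaximal (I := m)]
    exact Ideal.jacobson_mono bot_le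
  apply hc
  apply hU
  change f.base c ∈ PrimeSpectrum.zeroLocus (J : Set A)
  rw [hfc]
  exact hJ

end Groth.Agent.S4459
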