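import Groth.Statements.S4466
import Groth.Agent.Lib.Proj.Helper44_PnZero
import Groth.Agent.Lib.Proj.Helper44_HomogRank

set_option autoImplicit false
universe u
open Coherent

namespace Groth.Agent.S4466

open AlgebraicGeometry CategoryTheory in
/-- Let k be a field, r > 0 and n any integer. Then the Euler characteristic of the twisting sheaf O(n)
on projective r-space over k, namely the alternating sum of the dimensions of H^j(P^r_k, O(n)) for 0
≤ j ≤ r, equals the binomial coefficient C(n+r, r), understood as the binomial polynomial evaluated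
at the integer n+r (so that it makes sense and is correct for negative n too). -/
theorem result (k : Type u) [Field k] (r : ℕ) (hr : 0 < r)
    (n : ℤ) :
    ((Finset.range (r + 1)).sum fun j => (-1 : ℤ) ^ j *
        (Module.finrank k (Coh.HH (CohB1.ProjSpace r k) (Twist.twistProjSpace r k n) j) : ℤ)) =
      Ring.choose (n + r) r := by
  have hzero : ∀ j, ¬ (j = 0 ∧ 0 ≤ n) → ¬ (j = r ∧ n ≤ -((r : ℤ) + 1)) →
      Module.finrank k (Coh.HH (CohB1.ProjSpace r k) (Twist.twistProjSpace r k n) j) = 0 := by
    intro j h0 hn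
    have := Groth.Agent.Lib.Proj.Bridge.subsingleton_HH_twist' r k n j h0 hn
    exact Module.finrank_zero_of_subsingleton
  rcases le_or_gt 0 n with h | h
  · obtain ⟨d, rfl⟩ := Int.eq_ofNat_of_zero_le h
    obtain ⟨ψ, hψ⟩ := Groth.Agent.Lib.Proj.PnTop.exists_zero_equiv r d k
    obtain ⟨e⟩ := Groth.Agent.Lib.Proj.PnTop.nonempty_linearEquiv_of_cech r k (d : ℤ) 0 ψ hψ
    rw [Finset.sum_eq_single 0]
    · rw [e.finrank_eq, Groth.Agent.Lib.Proj.HomogRank.finrank_homogeneousSubmodule_fin]
      have h1 : ((d : ℕ) : ℤ) + (r : ℤ) = ((d + r : ℕ) : ℤ) := by push_cast; rfl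
      rw [h1, Ring.choose_natCast]
      simp
    · intro j _ hj
      have hr' : (0 : ℤ) ≤ r := Int.natCast_nonneg r
      rw [hzero j (fun h => hj h.1) (fun h => by omega)]
      simp
    · intro h0
      exact absurd (Finset.mem_range.2 (Nat.succ_pos r)) h0
  · rcases le_or_gt n (-((r : ℤ) + 1)) with h' | h'
    · obtain ⟨k', hk'⟩ : ∃ k' : ℕ, n = -((r : ℤ) + 1 + k') := ⟨(-(n + r + 1)).toNat, by omega⟩
      subst hk'
      obtain ⟨ψ, hψ⟩ := Groth.Agent.Lib.Proj.PnTop.exists_top_equiv r k' k
      obtain ⟨e⟩ := Groth.Agent.Lib.Proj.PnTop.nonempty_linearEquiv_of_cech r k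
        (-((r : ℤ) + 1 + k')) r ψ hψ
      rw [Finset.sum_eq_single r]
      · rw [e.finrank_eq, Groth.Agent.Lib.Proj.HomogRank.finrank_homogeneousSubmodule_fin]
        have h1 : -((r : ℤ) + 1 + k') + r = -(((k' + 1 : ℕ) : ℤ)) := by push_cast; ring
        rw [h1, Ring.choose_neg]
        have h2 : (((k' + 1 : ℕ) : ℤ)) + (r : ℤ) - 1 = ((k' + r : ℕ) : ℤ) := by push_cast; ring
        rw [h2, Ring.choose_natCast, Int.negOnePow_def]
        simp [Units.smul_def]
      · intro j _ hj
        rw [hzero j (fun h => by omega) (fun h => hj h.1)]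
        simp
      · intro h0
        exact absurd (Finset.mem_range.2 (Nat.lt_succ_self r)) h0
    · have hr' : (0 : ℤ) ≤ r := Int.natCast_nonneg r
      rw [Finset.sum_eq_zero]
      · have h1 : n + r = (((n + r).toNat : ℕ) : ℤ) := by omega
        rw [h1, Ring.choose_natCast, Nat.choose_eq_zero_of_lt (by omega)]
        simp
      · intro j _
        rw [hzero j (fun h => by omega) (fun h => by omega)]
        simp

end Groth.Agent.S4466
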