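import Groth.Statements.S4469
import Mathlib.RingTheory.ZariskisMainTheorem
import Mathlib.RingTheory.Spectrum.Prime.Jacobson
import Mathlib.RingTheory.LocalRing.ResidueField.Fiber
-- import your own Groth.Agent.* helpers here

set_option autoImplicit false
universe u
open CAlg

namespace Groth.Agent.S4469

/-- A maximal ideal `n` of a finite type algebra `B` over a Noetherian ring `A` which is minimal among the
primes over `n ∩ A` is quasi-finite over `A`. -/
theorem quasiFiniteAt_of_isMaximal_of_minimal (A B : Type u) [CommRing A] [IsNoetherianRing A]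
    [CommRing B] [Algebra A B] [Algebra.FiniteType A B] (n : Ideal B) [n.IsMaximal]
    (hmin : ∀ q : Ideal B, q.IsPrime → q.comap (algebraMap A B) = n.comap (algebraMap A B) →
      q ≤ n → q = n) :
    Algebra.QuasiFiniteAt A n := by
  let q : PrimeSpectrum B := ⟨n, inferInstance⟩
  let p : PrimeSpectrum A := q.comap (algebraMap A B)
  change Algebra.QuasiFiniteAt A q.asIdeal
  apply Algebra.QuasiFiniteAt.of_isOpen_singleton_fiber q
  let e := PrimeSpectrum.preimageHomeomorphFiber A B p
  let x : PrimeSpectrum.comap (algebraMap A B) ⁻¹' {p} := ⟨q, rfl⟩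
  change IsOpen ({x} : Set (PrimeSpectrum.comap (algebraMap A B) ⁻¹' {p}))
  have hF1 : Algebra.FiniteType p.asIdeal.ResidueField (p.asIdeal.Fiber B) := inferInstance
  have hF2 : IsNoetherianRing (p.asIdeal.Fiber B) :=
    Algebra.FiniteType.isNoetherianRing p.asIdeal.ResidueField _
  have hF3 : IsJacobsonRing (p.asIdeal.Fiber B) :=
    isJacobsonRing_of_finiteType (A := p.asIdeal.ResidueField)
  have hopen : IsOpen ({e x} : Set (PrimeSpectrum (p.asIdeal.Fiber B))) := by
    rw [(PrimeSpectrum.isOpen_singleton_tfae_of_isNoetherian_of_isJacobsonRing (e x)).out 0 2 rfl rfl]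
    constructor
    · have hcl : IsClosed ({q} : Set (PrimeSpectrum B)) :=
        (PrimeSpectrum.isClosed_singleton_iff_isMaximal q).2 inferInstance
      have hclx : IsClosed ({x} : Set (PrimeSpectrum.comap (algebraMap A B) ⁻¹' {p})) := by
        have : ({x} : Set (PrimeSpectrum.comap (algebraMap A B) ⁻¹' {p})) = Subtype.val ⁻¹' {q} := by
          ext y
          simp only [Set.mem_singleton_iff, Set.mem_preimage]
          exact ⟨fun h => by rw [h], fun h => Subtype.ext h⟩
        rw [this]
        exact hcl.preimage continuous_subtype_val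
      have := e.isClosed_image.2 hclx
      rwa [Set.image_singleton] at this
    · intro y y' hyy' hy
      rw [Set.mem_singleton_iff] at hy ⊢
      subst hy
      have h1 : e.symm y' ⤳ e.symm (e x) := hyy'.map e.symm.continuous
      rw [e.symm_apply_apply, subtype_specializes_iff, ← PrimeSpectrum.le_iff_specializes] at h1
      have hmem : (e.symm y').1 ∈ PrimeSpectrum.comap (algebraMap A B) ⁻¹' {p} := (e.symm y').2
      have h2 : (e.symm y').1.asIdeal.comap (algebraMap A B) = n.comap (algebraMap A B) := by
        have := congrArg PrimeSpectrum.asIdeal (Set.mem_singleton_iff.1 hmem)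
        exact this
      have h3 : (e.symm y').1.asIdeal = n := hmin _ (e.symm y').1.2 h2 h1
      have h4 : e.symm y' = x := Subtype.ext (PrimeSpectrum.ext h3)
      rw [← h4, e.apply_symm_apply]
  have : ({x} : Set (PrimeSpectrum.comap (algebraMap A B) ⁻¹' {p})) = e ⁻¹' {e x} := by
    ext y
    simp only [Set.mem_singleton_iff, Set.mem_preimage]
    exact ⟨fun h => by rw [h], fun h => e.injective h⟩
  rw [this]
  exact hopen.preimage e.continuous

/-- Let A be an integrally closed Noetherian local domain with field of fractions K, B an A-algebra of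
finite type which is a domain with the same field of fractions (A → B → K compatible with A → K),
and 𝔫 a maximal ideal of B lying over the maximal ideal 𝔪 of A and minimal among the prime ideals of
B lying over 𝔪. Then B = A: the structure map A → B is bijective. -/
theorem result (A B K : Type u) [CommRing A]
    [IsDomain A] [IsNoetherianRing A] [IsLocalRing A] [IsIntegrallyClosed A] [CommRing B] [IsDomain B]
    [Field K] [Algebra A B] [Algebra B K] [Algebra A K] [IsScalarTower A B K] [IsFractionRing A K]
    [IsFractionRing B K] [Algebra.FiniteType A B] (n : Ideal B) [n.IsMaximal]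
    (hn : n.comap (algebraMap A B) = IsLocalRing.maximalIdeal A)
    (hmin : ∀ q : Ideal B, q.IsPrime → q.comap (algebraMap A B) = IsLocalRing.maximalIdeal A → q ≤ n → q = n) :
    Function.Bijective (algebraMap A B) := by
  have hinjBK : Function.Injective (algebraMap B K) := IsFractionRing.injective B K
  have hinjAK : Function.Injective (algebraMap A K) := IsFractionRing.injective A K
  have hinjAB : Function.Injective (algebraMap A B) := by
    intro a b hab
    apply hinjAK
    rw [IsScalarTower.algebraMap_apply A B K, IsScalarTower.algebraMap_apply A B K, hab]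
  refine ⟨hinjAB, ?_⟩
  -- integral elements of `B` come from `A`
  have hint : ∀ b : B, IsIntegral A b → ∃ a : A, algebraMap A B a = b := by
    intro b hb
    have hbK : IsIntegral A (algebraMap B K b) := hb.map (IsScalarTower.toAlgHom A B K)
    obtain ⟨a, ha⟩ := IsIntegrallyClosed.isIntegral_iff.1 hbK
    refine ⟨a, hinjBK ?_⟩
    rw [← IsScalarTower.algebraMap_apply A B K, ha]
  have hQF : Algebra.QuasiFiniteAt A n :=
    quasiFiniteAt_of_isMaximal_of_minimal A B n (fun q hq h1 h2 => hmin q hq (h1.trans hn) h2)
  have hZ : Algebra.ZariskisMainProperty A n := Algebra.ZariskisMainProperty.of_finiteType n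
  obtain ⟨r, hrn, hrint, hr⟩ := Algebra.zariskisMainProperty_iff.1 hZ
  obtain ⟨a₀, rfl⟩ := hint r hrint
  have ha₀ : IsUnit a₀ := by
    by_contra hnu
    have hm : a₀ ∈ IsLocalRing.maximalIdeal A := (IsLocalRing.mem_maximalIdeal a₀).2 hnu
    rw [← hn, Ideal.mem_comap] at hm
    exact hrn hm
  intro x
  obtain ⟨m, hm⟩ := hr x
  obtain ⟨a', ha'⟩ := hint _ hm
  obtain ⟨u, rfl⟩ := ha₀
  refine ⟨(↑(u⁻¹ ^ m) : A) * a', ?_⟩
  rw [map_mul, ha', ← mul_assoc, ← map_pow, ← map_mul, ← Units.val_pow_eq_pow_val, ← Units.val_mul,
    ← mul_pow, inv_mul_cancel, one_pow, Units.val_one, map_one, one_mul]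

end Groth.Agent.S4469
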