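import Groth.Statements.S4474
import Groth.Agent.Lib.Ample.Helper50_Counit

set_option autoImplicit false
universe u
open Coherent

namespace Groth.Agent.S4474

open AlgebraicGeometry CategoryTheory in
/-- Let Y be a Noetherian scheme, f : X → Y a proper morphism, L an invertible O_X-module which is ample
relative to f, and F a coherent O_X-module. Then there is an integer N such that for every n ≥ N the
canonical morphism f^* f_* (F(n)) → F(n), the counit of the adjunction between f^* and f_*, is an
epimorphism, where F(n) = F ⊗ L^{⊗ n}. -/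
theorem result {X Y : Scheme.{u}} (f : X ⟶ Y) [IsNoetherian Y] [IsProper f]
    (L : X.Modules) (hL : PicF.IsInvertible L) (hamp : RelAmple.IsRelAmple f L) (F : X.Modules)
    (hF : Coh.IsCoh F) :
    ∃ N : ℕ, ∀ n : ℕ, N ≤ n →
      Epi ((Scheme.Modules.pullbackPushforwardAdjunction f).counit.app
        (CohB1.tensorMod F (CohB1.tensorPow L n))) := by
  have hFq : F.IsQuasicoherent := hF.1
  have hFt : F.IsFiniteType := hF.2
  obtain ⟨S, hSfin, hS⟩ := (isCompact_iff_finite_and_eq_biUnion_affineOpens
    (U := (⊤ : Y.Opens))).1 isCompact_univ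
  have : Finite S := hSfin.to_subtype
  refine Groth.Agent.Lib.Ample.Counit.epi_counit_tensorPow_of_cover f F
    (fun i : S => (i.1 : Y.Opens)) ?_ (fun i => hamp.2 i.1)
  intro x
  have hx : f.base x ∈ (⊤ : Y.Opens) := trivial
  rw [hS] at hx
  obtain ⟨i, hx⟩ := TopologicalSpace.Opens.mem_iSup.1 hx
  obtain ⟨hi, hxi⟩ := TopologicalSpace.Opens.mem_iSup.1 hx
  exact ⟨⟨i, hi⟩, hxi⟩

end Groth.Agent.S4474
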