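import Groth.Statements.S4481
import Groth.Agent.Lib.Helper58.CechPU2
-- import your own Groth.Agent.* helpers here

set_option autoImplicit false
universe u
open Coherent

namespace Groth.Agent.S4481

open AlgebraicGeometry CategoryTheory Opposite in
/-- Let X be a separated scheme, f_1, …, f_n global functions on X such that every open X_{f_i} is
quasi-compact, U the union of the X_{f_i}, and suppose there are sections g_1, …, g_n of O_X over U
with Σ g_i · (f_i|_U) = 1. Then for every quasi-coherent O_X-module G and every p > 0 the Čech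
cohomology group of G in degree p with respect to the family of opens (X_{f_i}) is zero. (The
published statement also covers a scheme whose underlying space is Noetherian, not necessarily
separated; this row treats separated X.) -/
theorem result (X : Scheme.{u}) [X.IsSeparated] (n : ℕ)
    (f : Fin n → Γ(X, ⊤)) (hqc : ∀ i, IsCompact (X.basicOpen (f i) : Set X))
    (g : Fin n → Γ(X, ⨆ i, X.basicOpen (f i)))
    (hg : (Finset.univ.sum fun i => g i *
      (X.presheaf.map (homOfLE (le_top : (⨆ i, X.basicOpen (f i)) ≤ ⊤)).op).hom (f i)) = 1)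
    (G : X.Modules) [Coh.IsQCoh G] (p : ℕ) (hp : 0 < p) :
    Limits.IsZero (CohB1.cechH (fun i : ULift.{u} (Fin n) => X.basicOpen (f i.down)) G p) := by
  generalize hU : (⨆ i, X.basicOpen (f i)) = U at g hg
  let V : ULift.{u} (Fin n) → X.Opens := fun i => X.basicOpen (f i.down)
  have hV : ∀ i, V i ≤ U := fun i => by
    rw [← hU]
    exact le_iSup (fun i => X.basicOpen (f i)) i.down
  have hUc : IsCompact (U : Set X) := by
    rw [← hU, TopologicalSpace.Opens.coe_iSup]
    exact isCompact_iUnion hqc
  haveI : CompactSpace (↑U : Scheme.{u}) := isCompact_iff_compactSpace.mp hUc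
  haveI : (↑U : Scheme.{u}).IsSeparated := ⟨by
    have : Limits.terminal.from (↑U : Scheme.{u}) = U.ι ≫ Limits.terminal.from X :=
      Subsingleton.elim _ _
    rw [this]
    infer_instance⟩
  haveI : (G.restrict U.ι).IsQuasicoherent :=
    Groth.Agent.Lib.QCoh.isQuasicoherent_restrict _ G
  obtain ⟨e⟩ := Groth.Agent.Lib.Helper58.CechPU.nonempty_cechH_addEquiv_restrict U G V hV p
  let t : ULift.{u} (Fin n) → Γ((↑U : Scheme.{u}), ⊤) := fun i => U.ι.appTop (f i.down)
  have hfam : Groth.Agent.Lib.Helper58.CechPU.VU U V =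
      Groth.Agent.Lib.Helper58.CechCmp.VX (X := (↑U : Scheme.{u})) (B := Γ((↑U : Scheme.{u}), ⊤)) t := by
    funext i
    exact Scheme.preimage_basicOpen_top U.ι (f i.down)
  have hspan : Ideal.span (Set.range t) = ⊤ := by
    rw [Ideal.eq_top_iff_one]
    let ψ : Γ(X, U) →+* Γ((↑U : Scheme.{u}), ⊤) :=
      (X.presheaf.map (eqToHom U.ι_image_top).op).hom
    have h1 := congrArg ψ hg
    rw [map_one, map_sum] at h1
    rw [← h1]
    refine Ideal.sum_mem _ (fun i _ => ?_)
    rw [map_mul]
    refine Ideal.mul_mem_left _ _ (Ideal.subset_span ⟨⟨i⟩, ?_⟩)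
    change U.ι.appTop (f i) = ψ ((X.presheaf.map _).hom (f i))
    rw [Scheme.Hom.appTop, Scheme.Opens.ι_app]
    change (X.presheaf.map _).hom (f i) = (X.presheaf.map _).hom ((X.presheaf.map _).hom (f i))
    rw [← CommRingCat.comp_apply, ← X.presheaf.map_comp]
    rfl
  have hs := Groth.Agent.Lib.Helper58.CechPU.subsingleton_cech_VX (G.restrict U.ι) t hspan p hp
  rw [← hfam] at hs
  have hs' : Subsingleton ↑(((cechComplexFunctor V).obj G.presheaf).homology p) :=
    e.toEquiv.subsingleton
  exact @AddCommGrpCat.isZero_of_subsingleton _ hs'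

end Groth.Agent.S4481
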