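import Groth.Statements.S4487
import Groth.Agent.Lib.Helper8.FlatCx17

set_option autoImplicit false
universe u
open FlatCx
open Groth.Agent.Lib.Helper8.FlatCx

namespace Groth.Agent.S4487

open CategoryTheory CategoryTheory.Limits in
/-- The case of the homological functor T_p(M) = H_p(P ⊗_A M) of a chain complex P of flat modules over
a commutative ring A. Let A be Noetherian and suppose P_i = 0 for i < i₀ and that every T_n(A) is a
finitely generated A-module. Then for every integer N there is a dense open subset U of Spec A such
that, for every p ≤ N, the function x ↦ dim_{k(x)} H_p(P ⊗_A k(x)) is locally constant on U. (The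
published statement says constant on U; over the product of two fields, with P the projective module
supported on one factor placed in degree 0, the only dense open set is the whole two-point spectrum
and the ranks there are 1 and 0, so locally constant on U is what holds; the argument produces U as
a disjoint union of opens, one dense in each irreducible component, on each of which the functions
are constant.) -/
theorem result {A : Type u} [CommRing A] [IsNoetherianRing A]
    (P : ChainComplex (ModuleCat.{u} A) ℤ) (hP : ∀ i, Module.Flat A (P.X i)) (i₀ : ℤ)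
    (hb : ∀ i < i₀, IsZero (P.X i))
    (hfg : ∀ n : ℤ, Module.Finite A (CohIII.T P n (ModuleCat.of A A))) (N : ℤ) :
    ∃ U : Set (PrimeSpectrum A), IsOpen U ∧ Dense U ∧
      ∀ p ≤ N, IsLocallyConstant (fun x : U => CohIII.dRank P p x) := by
  have h := fun η : {η : PrimeSpectrum A // η.asIdeal ∈ minimalPrimes A} =>
    exists_open_nhds_minimalPrime_dRank_const P hP i₀ hb hfg N η.1 η.2
  choose Uf hopen hmem hconst using h
  refine ⟨⋃ η, Uf η, isOpen_iUnion hopen, ?_, ?_⟩
  · intro x
    obtain ⟨q, hq, hle⟩ := Ideal.exists_minimalPrimes_le (bot_le : (⊥ : Ideal A) ≤ x.asIdeal)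
    have hqp : q.IsPrime := hq.1.1
    have hs : (⟨q, hqp⟩ : PrimeSpectrum A) ⤳ x :=
      (PrimeSpectrum.le_iff_specializes _ _).mp hle
    have h1 : x ∈ closure {(⟨q, hqp⟩ : PrimeSpectrum A)} := specializes_iff_mem_closure.mp hs
    refine closure_mono ?_ h1
    rw [Set.singleton_subset_iff]
    exact Set.mem_iUnion.mpr ⟨⟨⟨q, hqp⟩, hq⟩, hmem _⟩
  · intro p hp
    rw [IsLocallyConstant.iff_exists_open]
    intro x
    obtain ⟨η, hη⟩ := Set.mem_iUnion.mp x.2
    refine ⟨Subtype.val ⁻¹' (Uf η), continuous_subtype_val.isOpen_preimage _ (hopen η), hη, ?_⟩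
    intro x' hx'
    exact hconst η p hp x'.1 hx' x.1 hη

end Groth.Agent.S4487
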