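import Groth.Statements.S4488
import Groth.Agent.Lib.Helper8.FlatCx13

set_option autoImplicit false
universe u
open FlatCx
open Groth.Agent.Lib.Helper8.FlatCx TensorProduct

namespace Groth.Agent.S4488

open CategoryTheory CategoryTheory.Limits in
/-- For the homological functor T_q(M) = H_q(P ⊗_A M) of a chain complex P of flat modules over a
commutative local ring A with residue field k. Suppose P_i = 0 for i < i₀ and that every T_n(A) is a
finitely presented A-module, and let p be an integer. If T_q takes injections to injections and
surjections to surjections for every q ≤ p, then dim_{k(x)} T_q(k(x)) = dim_k T_q(k) for every point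
x of Spec A and every q ≤ p. Conversely, if A is reduced and this equality holds at the generic
point of every irreducible component of Spec A (every minimal prime) for every q ≤ p, then T_q takes
injections to injections and surjections to surjections for every q ≤ p. No Noetherian hypothesis on
A. -/
theorem result {A : Type u} [CommRing A] [IsLocalRing A]
    (P : ChainComplex (ModuleCat.{u} A) ℤ) (hP : ∀ i, Module.Flat A (P.X i)) (i₀ : ℤ)
    (hb : ∀ i < i₀, IsZero (P.X i))
    (hfp : ∀ n : ℤ, Module.FinitePresentation A (CohIII.T P n (ModuleCat.of A A))) (p : ℤ) :
    ((∀ q ≤ p, (CohIII.TFun P q).PreservesMonomorphisms ∧ (CohIII.TFun P q).PreservesEpimorphisms) →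
        ∀ (x : PrimeSpectrum A), ∀ q ≤ p, CohIII.dRank P q x = CohIII.dRank P q (IsLocalRing.closedPoint A)) ∧
      (IsReduced A →
        (∀ x : PrimeSpectrum A, x.asIdeal ∈ minimalPrimes A →
          ∀ q ≤ p, CohIII.dRank P q x = CohIII.dRank P q (IsLocalRing.closedPoint A)) →
        ∀ q ≤ p, (CohIII.TFun P q).PreservesMonomorphisms ∧ (CohIII.TFun P q).PreservesEpimorphisms) := by
  have hfpH : ∀ n : ℤ, Module.FinitePresentation A (P.homology n) := fun n =>
    have : Module.FinitePresentation A ((CohIII.TFun P n).obj (ModuleCat.of A A)) := hfp n
    Module.FinitePresentation.of_equiv (TFunUnitIso P n).toLinearEquiv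
  constructor
  · intro h x q hq
    obtain ⟨hm, he⟩ := h q hq
    have := hP (q - 1)
    have h1 := (preservesMono_iff_flat_opcycles P hP q).mp hm
    have h2 := (preservesEpi_iff_flat_opcycles P hP q).mp he
    have h3 : Module.Flat A (P.homology q) := flat_homology_of_flat_opcycles P q
    have h4 := hfpH q
    have h5 : Module.Free A (P.homology q) := Module.free_of_flat_of_isLocalRing
    rw [dRank_eq_fibreRank_homology P q x, dRank_eq_fibreRank_homology P q,
      fibreRank_eq_rankAtStalk, fibreRank_eq_rankAtStalk,
      Module.rankAtStalk_eq_finrank_of_free]
    rfl
  · intro hred h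
    have key : ∀ n : ℕ, ∀ q : ℤ, q ≤ p → q < i₀ + n → Module.Flat A (P.opcycles q) := by
      intro n
      induction n with
      | zero =>
        intro q _ hq
        have hq' : q < i₀ := by simpa using hq
        have := ModuleCat.subsingleton_of_isZero (hb q hq')
        have : Subsingleton (P.opcycles q) := (surjective_pOpcycles P q).subsingleton
        infer_instance
      | succ n ih =>
        intro q hq hqn
        have := hP (q - 1)
        have := ih (q - 1) (by omega) (by push_cast at hqn ⊢; omega)
        have h4 := hfpH q
        have h5 : Module.Free A (P.homology q) := by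
          apply free_of_fibreRank_eq
          intro η hη
          rw [← dRank_eq_fibreRank_homology P q η, ← dRank_eq_fibreRank_homology P q]
          exact h η hη q hq
        have : Module.Flat A (P.homology q) := Module.Flat.of_free
        exact flat_opcycles_of_flat_homology P q
    have key' : ∀ q ≤ p, Module.Flat A (P.opcycles q) := fun q hq =>
      key (q - i₀ + 1).toNat q hq (by omega)
    intro q hq
    refine ⟨(preservesMono_iff_flat_opcycles P hP q).mpr (key' q hq),
      (preservesEpi_iff_flat_opcycles P hP q).mpr (key' (q - 1) (by omega))⟩

end Groth.Agent.S4488
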