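import Groth.Statements.S4490
import Groth.Agent.Lib.Helper8.FlatCx7

set_option autoImplicit false
universe u
open FlatCx
open Groth.Agent.Lib.Helper8.FlatCx

namespace Groth.Agent.S4490

open CategoryTheory CategoryTheory.Limits in
/-- The case of the functor T_p(M) = H_p(P ⊗_A M) of a chain complex P of finitely generated flat
modules over a Noetherian local ring A with maximal ideal m and residue field k. Then T_p takes
surjections to surjections if and only if the map T_p(A) → T_p(k) induced by A → k is surjective;
and also if and only if, for all sufficiently large n (there is n₀ such that for every n ≥ n₀), the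
map T_p(A/m^(n+1)) → T_p(A/m) induced by the projection is surjective. (Surjectivity at one n gives
it at every smaller n, so this is the same as asking it for every n; at n = 0 alone the map is an
isomorphism and the condition would be empty.) -/
theorem result {A : Type u} [CommRing A] [IsNoetherianRing A]
    [IsLocalRing A] (P : ChainComplex (ModuleCat.{u} A) ℤ)
    (hP : ∀ i, Module.Finite A (P.X i) ∧ Module.Flat A (P.X i)) (p : ℤ) :
    ((CohIII.TFun P p).PreservesEpimorphisms ↔
      Function.Surjective ((CohIII.TFun P p).map
        (ModuleCat.ofHom (Algebra.linearMap A (IsLocalRing.ResidueField A)))).hom) ∧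
    ((CohIII.TFun P p).PreservesEpimorphisms ↔
      ∃ n₀ : ℕ, ∀ n : ℕ, n₀ ≤ n → Function.Surjective ((CohIII.TFun P p).map (ModuleCat.ofHom
        (Ideal.Quotient.factorₐ A (Ideal.pow_le_self (I := IsLocalRing.maximalIdeal A)
          (Nat.succ_ne_zero n))).toLinearMap :
        ModuleCat.of A (A ⧸ IsLocalRing.maximalIdeal A ^ (n + 1)) ⟶
          ModuleCat.of A (A ⧸ IsLocalRing.maximalIdeal A))).hom) := by
  have hfl : ∀ i, Module.Flat A (P.X i) := fun i => (hP i).2
  refine ⟨(surjective_iff_preservesEpi P hP p).symm, ?_, ?_⟩
  · intro h
    refine ⟨0, fun n _ => ?_⟩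
    have hepi : Epi (ModuleCat.ofHom (gmap A n)) :=
      (ModuleCat.epi_iff_surjective _).mpr (gmap_surjective n)
    exact (ModuleCat.epi_iff_surjective _).mp (h.preserves (ModuleCat.ofHom (gmap A n)))
  · rintro ⟨n₀, hn₀⟩
    have hfin : Module.Finite A (P.opcycles (p - 1)) := finite_opcycles P (fun i => (hP i).1) _
    have h1 : ∀ n, n₀ ≤ n → Function.Injective (LinearMap.lTensor (P.opcycles (p - 1))
        (LinearMap.ker (gmap A n)).subtype) := fun n hn =>
      injective_lTensor_opcycles_of_surjective P hfl p (p - 1) (by ring) (gmap A n)
        (gmap_surjective n) (hn₀ n hn)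
    have h2 := injective_lTensor_maximalIdeal_of_quotients (P.opcycles (p - 1)) n₀ h1
    have h3 : Function.Injective
        ((IsLocalRing.maximalIdeal A).subtype.rTensor (P.opcycles (p - 1))) :=
      (LinearMap.lTensor_inj_iff_rTensor_inj _ _).mp h2
    have hfp : Module.FinitePresentation A (P.opcycles (p - 1)) :=
      Module.finitePresentation_of_finite A _
    have hfree : Module.Free A (P.opcycles (p - 1)) :=
      Module.free_of_maximalIdeal_rTensor_injective h3
    have := preservesMono_of_flat_opcycles P (p - 1)
    exact (Groth.Agent.S2406.result P hfl p (p - 1) (by ring)).mpr this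

end Groth.Agent.S4490
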