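import Groth.Statements.S4491
import Groth.Agent.Lib.Helper8.FlatCx8
import Mathlib.Algebra.Homology.Linear
import Mathlib.Algebra.Homology.ShortComplex.Linear

set_option autoImplicit false
universe u
open FlatCx
open Groth.Agent.Lib.Helper8.FlatCx

namespace Groth.Agent.S4491

open CategoryTheory in
theorem homologyMap_smul_id {A : Type u} [CommRing A] (K : ChainComplex (ModuleCat.{u} A) ℤ)
    (f : A) (q : ℤ) :
    HomologicalComplex.homologyMap (f • 𝟙 K) q = f • 𝟙 (K.homology q) := by
  have e : (HomologicalComplex.shortComplexFunctor _ _ q).map (f • 𝟙 K) =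
      f • (HomologicalComplex.shortComplexFunctor _ _ q).map (𝟙 K) := rfl
  show ShortComplex.homologyMap ((HomologicalComplex.shortComplexFunctor _ _ q).map (f • 𝟙 K)) = _
  rw [e, ShortComplex.homologyMap_smul, CategoryTheory.Functor.map_id, ShortComplex.homologyMap_id]
  rfl

open CategoryTheory CategoryTheory.Limits in
/-- For the homological functor T_i(M) = H_i(P ⊗_A M) of a chain complex P of flat modules over a
commutative ring A. Let q + 1 = p and suppose T_p takes surjections to surjections. If
multiplication by f ∈ A is injective on an A-module M, then multiplication by f is injective on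
T_q(M). In particular, when A is a domain, T_q(A) is torsion-free. -/
theorem result {A : Type u} [CommRing A]
    (P : ChainComplex (ModuleCat.{u} A) ℤ) (hP : ∀ i, Module.Flat A (P.X i)) (p q : ℤ) (hpq : q + 1 = p)
    (hex : (CohIII.TFun P p).PreservesEpimorphisms) :
    (∀ (M : ModuleCat.{u} A) (f : A), Function.Injective (fun x : M => f • x) →
        Function.Injective (fun y : CohIII.T P q M => f • y)) ∧
      (IsDomain A → NoZeroSMulDivisors A (CohIII.T P q (ModuleCat.of A A))) := by
  have hmono : (CohIII.TFun P q).PreservesMonomorphisms :=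
    (Groth.Agent.S2406.result P hP p q hpq).mp hex
  have key : ∀ (M : ModuleCat.{u} A) (f : A), Function.Injective (fun x : M => f • x) →
      Function.Injective (fun y : CohIII.T P q M => f • y) := by
    intro M f hf
    have hm : Mono (f • 𝟙 M) := by
      rw [ModuleCat.mono_iff_injective]
      exact hf
    have h1 : CohIII.tensorMap P (f • 𝟙 M) = f • 𝟙 (CohIII.tensorObj P M) := by
      ext i : 1
      rw [tensorMap_f, HomologicalComplex.smul_f_apply, HomologicalComplex.id_f]
      rw [MonoidalLinear.whiskerLeft_smul, MonoidalCategory.whiskerLeft_id]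
      rfl
    have h2 : (CohIII.TFun P q).map (f • 𝟙 M) = f • 𝟙 ((CohIII.TFun P q).obj M) := by
      rw [TFun_map, h1]
      exact homologyMap_smul_id (CohIII.tensorObj P M) f q
    have h3 : Mono ((CohIII.TFun P q).map (f • 𝟙 M)) := hmono.preserves _
    rw [h2, ModuleCat.mono_iff_injective] at h3
    exact h3
  refine ⟨key, fun hdom => ⟨fun {c y} hcy => ?_⟩⟩
  by_cases hc : c = 0
  · exact Or.inl hc
  · right
    have hinj := key (ModuleCat.of A A) c (fun a b hab => by
      simp only [smul_eq_mul] at hab
      exact mul_left_cancel₀ hc hab)
    apply hinj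
    simp only [smul_zero]
    exact hcy

end Groth.Agent.S4491
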