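import Groth.Statements.S4492
import Mathlib.Algebra.Homology.ShortComplex.ModuleCat
-- import your own Groth.Agent.* helpers here

set_option autoImplicit false
universe u
open FlatCx

namespace Groth.Agent.S4492


section Aux

variable {B : Type u} [Ring B] {M₁ M₂ M₃ : Type u} [AddCommGroup M₁] [AddCommGroup M₂]
  [AddCommGroup M₃] [Module B M₁] [Module B M₂] [Module B M₃]

theorem length_mid (a : M₁ →ₗ[B] M₂) (b : M₂ →ₗ[B] M₃) (h : Function.Exact a b) :
    Module.length B M₂ = Module.length B (LinearMap.range a) + Module.length B (LinearMap.range b) := by
  have h1 : Function.Exact (LinearMap.range a).subtype b.rangeRestrict := by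
    intro x
    constructor
    · intro hx
      have hx' : b x = 0 := congrArg Subtype.val hx
      obtain ⟨y, rfl⟩ := (h x).mp hx'
      exact ⟨⟨a y, y, rfl⟩, rfl⟩
    · rintro ⟨⟨_, y, rfl⟩, rfl⟩
      apply Subtype.ext
      exact (h (a y)).mpr ⟨y, rfl⟩
  exact Module.length_eq_add_of_exact _ _ (Submodule.subtype_injective _)
    b.surjective_rangeRestrict h1

theorem length_mid_le (a : M₁ →ₗ[B] M₂) (b : M₂ →ₗ[B] M₃) (h : Function.Exact a b) :
    Module.length B M₂ ≤ Module.length B M₁ + Module.length B M₃ := by
  rw [length_mid a b h]
  exact add_le_add (Module.length_le_of_surjective a.rangeRestrict a.surjective_rangeRestrict)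
    (Module.length_le_of_injective _ (Submodule.subtype_injective _))

theorem length_mid_eq_iff (a : M₁ →ₗ[B] M₂) (b : M₂ →ₗ[B] M₃) (h : Function.Exact a b)
    (h1 : Module.length B M₁ ≠ ⊤) (h3 : Module.length B M₃ ≠ ⊤) :
    Module.length B M₂ = Module.length B M₁ + Module.length B M₃ ↔
      Function.Injective a ∧ Function.Surjective b := by
  constructor
  · intro heq
    rw [length_mid a b h] at heq
    have ha : Module.length B (LinearMap.range a) ≤ Module.length B M₁ :=
      Module.length_le_of_surjective a.rangeRestrict a.surjective_rangeRestrict
    have hb : Module.length B (LinearMap.range b) ≤ Module.length B M₃ :=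
      Module.length_le_of_injective _ (Submodule.subtype_injective _)
    have ha' : Module.length B (LinearMap.range a) = Module.length B M₁ := by
      refine le_antisymm ha ?_
      by_contra hlt
      rw [not_le] at hlt
      have : Module.length B (LinearMap.range a) + Module.length B (LinearMap.range b) <
          Module.length B M₁ + Module.length B M₃ :=
        ENat.add_lt_add_of_lt_of_le (ne_top_of_le_ne_top h3 hb) hlt hb
      exact absurd heq this.ne
    have hb' : Module.length B (LinearMap.range b) = Module.length B M₃ := by
      rw [ha'] at heq
      exact ENat.add_right_injective_of_ne_top h1 heq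
    constructor
    · have e1 := Module.length_eq_add_of_exact (LinearMap.ker a).subtype a.rangeRestrict
        (Submodule.subtype_injective _) a.surjective_rangeRestrict
        (by
          intro x
          constructor
          · intro hx
            exact ⟨⟨x, congrArg Subtype.val hx⟩, rfl⟩
          · rintro ⟨⟨y, hy⟩, rfl⟩
            exact Subtype.ext hy)
      rw [ha'] at e1
      have e2 : Module.length B (LinearMap.ker a) = 0 := by
        have : Module.length B (LinearMap.ker a) + Module.length B M₁ = 0 + Module.length B M₁ := by
          rw [zero_add]; exact e1.symm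
        exact ENat.add_left_injective_of_ne_top h1 this
      have e3 : Subsingleton (LinearMap.ker a) := Module.length_eq_zero_iff.mp e2
      rw [← LinearMap.ker_eq_bot]
      exact Submodule.subsingleton_iff_eq_bot.mp e3
    · have e1 := Module.length_eq_add_of_exact (LinearMap.range b).subtype (LinearMap.range b).mkQ
        (Submodule.subtype_injective _) (Submodule.mkQ_surjective _)
        (LinearMap.exact_subtype_mkQ _)
      rw [hb'] at e1
      have e2 : Module.length B (M₃ ⧸ LinearMap.range b) = 0 := by
        have : Module.length B M₃ + Module.length B (M₃ ⧸ LinearMap.range b) =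
            Module.length B M₃ + 0 := by
          rw [add_zero]; exact e1.symm
        exact ENat.add_right_injective_of_ne_top h3 this
      have e3 : Subsingleton (M₃ ⧸ LinearMap.range b) := Module.length_eq_zero_iff.mp e2
      rw [← LinearMap.range_eq_top]
      exact Submodule.Quotient.subsingleton_iff.mp e3
  · rintro ⟨ha, hb⟩
    exact Module.length_eq_add_of_exact a b ha hb h

end Aux

open CategoryTheory CategoryTheory.Limits in
/-- (The published statement is for arbitrary abelian categories; this row is for functors between
module categories.) Let F be an additive functor from A-modules to B-modules which is half exact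
(every short exact sequence 0 → E' → E → E'' → 0 goes to a sequence F(E') → F(E) → F(E'') exact at
the middle) and such that F(S) has finite length for every simple A-module S. Then F(E) has finite
length for every A-module E of finite length; and for every short exact sequence 0 → E' → E → E'' →
0 of A-modules with E of finite length one has length F(E) ≤ length F(E') + length F(E''), with
equality if and only if 0 → F(E') → F(E) → F(E'') → 0 is (short) exact. Lengths are Mathlib's,
valued in ℕ∞. -/
theorem result {A B : Type u} [Ring A] [Ring B]
    (F : ModuleCat.{u} A ⥤ ModuleCat.{u} B) [F.Additive]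
    (hF : ∀ S : ShortComplex (ModuleCat.{u} A), S.ShortExact → (S.map F).Exact)
    (hS : ∀ M : ModuleCat.{u} A, IsSimpleModule A M → Module.length B (F.obj M) ≠ ⊤) :
    (∀ E : ModuleCat.{u} A, Module.length A E ≠ ⊤ → Module.length B (F.obj E) ≠ ⊤) ∧
      ∀ S : ShortComplex (ModuleCat.{u} A), S.ShortExact → Module.length A S.X₂ ≠ ⊤ →
        Module.length B (F.obj S.X₂) ≤ Module.length B (F.obj S.X₁) + Module.length B (F.obj S.X₃) ∧
          (Module.length B (F.obj S.X₂) = Module.length B (F.obj S.X₁) + Module.length B (F.obj S.X₃) ↔
            (S.map F).ShortExact) := by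
  -- exactness in the middle as a statement about linear maps
  have hex : ∀ S : ShortComplex (ModuleCat.{u} A), S.ShortExact →
      Function.Exact (F.map S.f).hom (F.map S.g).hom := by
    intro S hS
    exact (ShortComplex.ShortExact.moduleCat_exact_iff_function_exact (S.map F)).mp (hF S hS)
  have hle : ∀ S : ShortComplex (ModuleCat.{u} A), S.ShortExact →
      Module.length B (F.obj S.X₂) ≤ Module.length B (F.obj S.X₁) + Module.length B (F.obj S.X₃) :=
    fun S hS => length_mid_le _ _ (hex S hS)
  have hzero : ∀ E : ModuleCat.{u} A, Subsingleton E → Module.length B (F.obj E) = 0 := by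
    intro E hE
    have h1 : IsZero E := ModuleCat.isZero_of_subsingleton E
    have h2 : IsZero (F.obj E) := F.map_isZero h1
    have h3 : Subsingleton (F.obj E) := ModuleCat.subsingleton_of_isZero h2
    exact Module.length_eq_zero_iff.mpr h3
  have part1 : ∀ n : ℕ, ∀ E : ModuleCat.{u} A, Module.length A E ≤ n →
      Module.length B (F.obj E) ≠ ⊤ := by
    intro n
    induction n with
    | zero =>
      intro E hE
      have h0 : Module.length A E = 0 := le_antisymm (by simpa using hE) zero_le
      rw [hzero E (Module.length_eq_zero_iff.mp h0)]
      exact ENat.zero_ne_top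
    | succ n ih =>
      intro E hE
      by_cases hsub : Subsingleton E
      · rw [hzero E hsub]; exact ENat.zero_ne_top
      · rw [not_subsingleton_iff_nontrivial] at hsub
        have hfin : IsFiniteLength A E := by
          rw [← Module.length_ne_top_iff]
          exact ne_top_of_le_ne_top (ENat.natCast_ne_top _) hE
        obtain ⟨hN, hAr⟩ := isFiniteLength_iff_isNoetherian_isArtinian.mp hfin
        obtain ⟨E', hE'atom, -⟩ := (IsAtomic.eq_bot_or_exists_atom_le (⊤ : Submodule A E)).resolve_left
          top_ne_bot
        have hsimple : IsSimpleModule A E' := isSimpleModule_iff_isAtom.mpr hE'atom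
        -- the short exact sequence 0 → ker → E → E/E' → 0
        have hSE := LinearMap.shortExact_shortComplexKer (Submodule.mkQ_surjective E')
        have hker : LinearMap.ker E'.mkQ = E' := Submodule.ker_mkQ E'
        have hsimple' : IsSimpleModule A (LinearMap.ker E'.mkQ) := hker.symm ▸ hsimple
        have hlen : Module.length A E = 1 + Module.length A (E ⧸ E') := by
          rw [Module.length_eq_add_of_exact E'.subtype E'.mkQ (Submodule.subtype_injective _)
            (Submodule.mkQ_surjective _) (LinearMap.exact_subtype_mkQ E'), Module.length_eq_one]
        have hq : Module.length A (E ⧸ E') ≤ n := by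
          rw [hlen, Nat.cast_succ, add_comm] at hE
          exact (ENat.add_le_add_iff_right ENat.one_ne_top).mp hE
        have h3 := ih (ModuleCat.of A (E ⧸ E')) hq
        have h1 := hS (ModuleCat.of A (LinearMap.ker E'.mkQ)) hsimple'
        have h2 := hle _ hSE
        exact ne_top_of_le_ne_top (WithTop.add_ne_top.mpr ⟨h1, h3⟩) h2
  have part1' : ∀ E : ModuleCat.{u} A, Module.length A E ≠ ⊤ → Module.length B (F.obj E) ≠ ⊤ := by
    intro E hE
    obtain ⟨n, hn⟩ := ENat.ne_top_iff_exists.mp hE
    exact part1 n E (le_of_eq hn.symm)
  refine ⟨part1', fun S hS hfin => ⟨hle S hS, ?_⟩⟩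
  have hinj : Function.Injective S.f.hom := hS.moduleCat_injective_f
  have hsurj : Function.Surjective S.g.hom := hS.moduleCat_surjective_g
  have hf1 : Module.length A S.X₁ ≠ ⊤ :=
    ne_top_of_le_ne_top hfin (Module.length_le_of_injective _ hinj)
  have hf3 : Module.length A S.X₃ ≠ ⊤ :=
    ne_top_of_le_ne_top hfin (Module.length_le_of_surjective _ hsurj)
  rw [length_mid_eq_iff _ _ (hex S hS) (part1' _ hf1) (part1' _ hf3)]
  constructor
  · rintro ⟨ha, hb⟩
    exact { exact := hF S hS
            mono_f := (ModuleCat.mono_iff_injective _).mpr ha
            epi_g := (ModuleCat.epi_iff_surjective _).mpr hb }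
  · intro h
    exact ⟨h.moduleCat_injective_f, h.moduleCat_surjective_g⟩

end Groth.Agent.S4492
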