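import Groth.Statements.S4493
import Mathlib
-- import your own Groth.Agent.* helpers here

set_option autoImplicit false
universe u
open FlatCx

namespace Groth.Agent.S4493

section PRE
open CategoryTheory CategoryTheory.Limits

variable {A : Type u} [CommRing A]

/-- The filtered index category attached to a submonoid. -/
structure SCat (S : Submonoid A) : Type u where
  val : S

instance (S : Submonoid A) : SmallCategory (SCat S) where
  Hom s t := {w : S // s.val * w = t.val}
  id s := ⟨1, mul_one _⟩
  comp f g := ⟨f.1 * g.1, by rw [← mul_assoc, f.2, g.2]⟩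
  id_comp f := Subtype.ext (one_mul _)
  comp_id f := Subtype.ext (mul_one _)
  assoc f g h := Subtype.ext (mul_assoc _ _ _)

instance (S : Submonoid A) : IsFiltered (SCat S) where
  cocone_objs s t := ⟨⟨s.val * t.val⟩, ⟨t.val, rfl⟩, ⟨s.val, mul_comm _ _⟩, trivial⟩
  cocone_maps {s t} f g := ⟨⟨t.val * s.val⟩, ⟨s.val, rfl⟩, by
    apply Subtype.ext
    show f.1 * s.val = g.1 * s.val
    rw [mul_comm, f.2, mul_comm g.1, g.2]⟩
  nonempty := ⟨⟨1⟩⟩

/-- The diagram `s ↦ N` with transition maps multiplication. -/
noncomputable def DD (S : Submonoid A) (N : ModuleCat.{u} A) : SCat S ⥤ ModuleCat.{u} A where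
  obj _ := N
  map f := ModuleCat.ofHom (LinearMap.lsmul A N ((f.1 : S) : A))
  map_id s := by
    ext x
    show ((1 : S) : A) • x = x
    simp
  map_comp f g := by
    ext x
    show ((f.1 * g.1 : S) : A) • x = (g.1 : A) • ((f.1 : A) • x)
    rw [Submonoid.coe_mul, mul_comm, mul_smul]

@[simp]
theorem DD_map_apply (S : Submonoid A) (N : ModuleCat.{u} A) {s t : SCat S} (f : s ⟶ t) (x : N) :
    ((DD S N).map f).hom x = ((f.1 : S) : A) • x := rfl

section cocone
variable (S : Submonoid A) {N N' : ModuleCat.{u} A}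

/-- leg at `s`: `x ↦ x / s`. -/
noncomputable def leg (f : N ⟶ N') [IsLocalizedModule S f.hom] (s : S) : N ⟶ N' :=
  ModuleCat.ofHom
    { toFun := fun x => IsLocalizedModule.mk' f.hom x s
      map_add' := fun x y => IsLocalizedModule.mk'_add f.hom x y s
      map_smul' := fun a x => IsLocalizedModule.mk'_smul f.hom a x s }

@[simp]
theorem leg_apply (f : N ⟶ N') [IsLocalizedModule S f.hom] (s : S) (x : N) : (leg S f s).hom x = IsLocalizedModule.mk' f.hom x s := rfl

noncomputable def coconeOf (f : N ⟶ N') [IsLocalizedModule S f.hom] : Cocone (DD S N) where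
  pt := N'
  ι :=
    { app := fun s => @leg _ _ S N N' f _ s.val
      naturality := by
        intro s t w
        obtain ⟨w, hw⟩ := w
        obtain ⟨t⟩ := t
        dsimp only at hw
        subst hw
        ext x
        simp only [Functor.const_obj_obj, Functor.const_obj_map, Category.comp_id,
          ModuleCat.hom_comp, LinearMap.coe_comp, Function.comp_apply]
        exact IsLocalizedModule.mk'_cancel_right f.hom x s.val w }

/-- key: compatible elements have equal images under any cocone. -/
theorem cocone_eq (c : Cocone (DD S N)) {s t r : SCat S} (a : s ⟶ r) (b : t ⟶ r) (x y : N)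
    (h : ((a.1 : S) : A) • x = ((b.1 : S) : A) • y) :
    (c.ι.app s).hom x = (c.ι.app t).hom y := by
  have h1 := c.w a
  have h2 := c.w b
  have e1 : (c.ι.app s).hom x = (c.ι.app r).hom (((a.1 : S) : A) • x) := by
    rw [← h1]; rfl
  have e2 : (c.ι.app t).hom y = (c.ι.app r).hom (((b.1 : S) : A) • y) := by
    rw [← h2]; rfl
  rw [e1, e2, h]

/-- the descent map from the standard localization. -/
noncomputable def psi (c : Cocone (DD S N)) : LocalizedModule S N →ₗ[A] c.pt where
  toFun y := y.liftOn (fun p => (c.ι.app ⟨p.2⟩).hom p.1) (by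
    rintro ⟨x, s⟩ ⟨x', s'⟩ ⟨w, hw⟩
    -- hw : w • s' • x = w • s • x'
    refine cocone_eq S c (r := ⟨s * s' * w⟩) ⟨s' * w, by simp [mul_assoc]⟩
      ⟨s * w, by show s' * (s * w) = s * s' * w; rw [mul_left_comm, mul_assoc]⟩ x x' ?_
    show ((s' * w : S) : A) • x = ((s * w : S) : A) • x'
    have := hw
    simp only [Submonoid.smul_def, ← mul_smul] at this
    rw [Submonoid.coe_mul, Submonoid.coe_mul, mul_comm (s' : A), mul_comm (s : A)]
    exact this)
  map_add' := by
    intro y y'
    induction y using LocalizedModule.induction_on with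
    | h x s =>
    induction y' using LocalizedModule.induction_on with
    | h x' s' =>
    rw [LocalizedModule.mk_add_mk]
    simp only [LocalizedModule.liftOn_mk]
    refine ((c.ι.app ⟨s * s'⟩).hom.map_add _ _).trans ?_
    congr 1
    · refine cocone_eq S c (r := ⟨s * s'⟩) ⟨1, mul_one _⟩ ⟨s', rfl⟩ _ _ ?_
      simp [Submonoid.smul_def]
    · refine cocone_eq S c (r := ⟨s * s'⟩) ⟨1, mul_one _⟩ ⟨s, mul_comm _ _⟩ _ _ ?_
      simp [Submonoid.smul_def]
  map_smul' := by
    intro a y
    induction y using LocalizedModule.induction_on with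
    | h x s =>
    rw [LocalizedModule.smul'_mk]
    simp only [LocalizedModule.liftOn_mk, RingHom.id_apply]
    exact (c.ι.app ⟨s⟩).hom.map_smul a x

@[simp]
theorem psi_mk (c : Cocone (DD S N)) (x : N) (s : S) :
    psi S c (LocalizedModule.mk x s) = (c.ι.app ⟨s⟩).hom x := rfl

theorem iso_mk (f : N ⟶ N') [IsLocalizedModule S f.hom] (x : N) (s : S) :
    IsLocalizedModule.iso S f.hom (LocalizedModule.mk x s) = IsLocalizedModule.mk' f.hom x s := rfl

noncomputable def descMap (f : N ⟶ N') [IsLocalizedModule S f.hom] (c : Cocone (DD S N)) :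
    N' ⟶ c.pt :=
  ModuleCat.ofHom (psi S c ∘ₗ (IsLocalizedModule.iso S f.hom).symm.toLinearMap)

noncomputable def isColimitCocone (f : N ⟶ N') [IsLocalizedModule S f.hom] :
    IsColimit (coconeOf S f) where
  desc c := descMap S f c
  fac c s := by
    ext x
    show psi S c ((IsLocalizedModule.iso S f.hom).symm (IsLocalizedModule.mk' f.hom x s.val)) = _
    rw [← iso_mk, LinearEquiv.symm_apply_apply]
    rfl
  uniq c m hm := by
    have key : ∀ y : N', (show N' ⟶ c.pt from m).hom y = (descMap S f c).hom y := by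
      intro y
      obtain ⟨⟨x, s⟩, rfl⟩ := IsLocalizedModule.mk'_surjective S f.hom y
      show _ = psi S c ((IsLocalizedModule.iso S f.hom).symm (IsLocalizedModule.mk' f.hom x s))
      rw [← iso_mk, LinearEquiv.symm_apply_apply, psi_mk, ← hm ⟨s⟩]
      rfl
    ext y
    exact key y

end cocone

section mainloc
variable (T : ModuleCat.{u} A ⥤ ModuleCat.{u} A) [T.Additive] [T.Linear A]
  (hT : ∀ (J : Type u) [SmallCategory J] [IsFiltered J], PreservesColimitsOfShape J T)
  (S : Submonoid A)

theorem DD_map_eq (N : ModuleCat.{u} A) {s t : SCat S} (w : s ⟶ t) :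
    (show N ⟶ N from (DD S N).map w) = ((w.1 : S) : A) • 𝟙 N := by
  ext x
  rfl

noncomputable def nu (N : ModuleCat.{u} A) : DD S N ⋙ T ≅ DD S (T.obj N) :=
  NatIso.ofComponents (fun _ => Iso.refl _) (by
    intro s t w
    have e1 : T.map (show N ⟶ N from (DD S N).map w) = ((w.1 : S) : A) • 𝟙 (T.obj N) := by
      rw [DD_map_eq, T.map_smul, T.map_id]
    exact (Category.comp_id (T.map (show N ⟶ N from (DD S N).map w))).trans
      (e1.trans ((DD_map_eq S (T.obj N) w).symm.trans
        (Category.id_comp (show T.obj N ⟶ T.obj N from (DD S (T.obj N)).map w)).symm)))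

theorem nu_inv_app (N : ModuleCat.{u} A) (s : SCat S) : (nu T S N).inv.app s = 𝟙 (T.obj N) := rfl

include hT in
theorem main_loc {N N' : ModuleCat.{u} A} (f : N ⟶ N') [IsLocalizedModule S f.hom] :
    IsLocalizedModule S (T.map f).hom := by
  haveI := hT (SCat S)
  have hc : IsColimit (T.mapCocone (coconeOf S f)) := isColimitOfPreserves T (isColimitCocone S f)
  have hc' : IsColimit ((Cocone.precompose (nu T S N).inv).obj (T.mapCocone (coconeOf S f))) :=
    (IsColimit.precomposeInvEquiv (nu T S N) _).symm hc
  let g : T.obj N ⟶ ModuleCat.of A (LocalizedModule S (T.obj N)) :=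
    ModuleCat.ofHom (LocalizedModule.mkLinearMap S (T.obj N))
  haveI : IsLocalizedModule S g.hom := by
    show IsLocalizedModule S (LocalizedModule.mkLinearMap S (T.obj N))
    infer_instance
  have hg : IsColimit (coconeOf S g) := isColimitCocone S g
  let φ : ModuleCat.of A (LocalizedModule S (T.obj N)) ≅ T.obj N' :=
    hg.coconePointUniqueUpToIso hc'
  have h1 : (coconeOf S g).ι.app ⟨1⟩ ≫ φ.hom =
      ((Cocone.precompose (nu T S N).inv).obj (T.mapCocone (coconeOf S f))).ι.app ⟨1⟩ :=
    hg.comp_coconePointUniqueUpToIso_hom hc' _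
  have h2 : (show T.obj N ⟶ ModuleCat.of A (LocalizedModule S (T.obj N)) from
      (coconeOf S g).ι.app ⟨1⟩) = g := by
    ext x
    exact IsLocalizedModule.mk'_one S g.hom x
  have h0 : @leg _ _ S N N' f _ 1 = f := by
    ext x
    exact IsLocalizedModule.mk'_one S f.hom x
  have h3 : (show T.obj N ⟶ T.obj N' from
      ((Cocone.precompose (nu T S N).inv).obj (T.mapCocone (coconeOf S f))).ι.app ⟨1⟩) = T.map f := by
    show (nu T S N).inv.app ⟨1⟩ ≫ T.map (@leg _ _ S N N' f _ 1) = T.map f
    rw [h0, nu_inv_app]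
    exact Category.id_comp (T.map f)
  have h4 : g ≫ φ.hom = T.map f := by
    rw [← h3, ← h2]
    exact h1
  have h5 : (T.map f).hom = φ.toLinearEquiv.toLinearMap ∘ₗ g.hom := by
    rw [← h4]
    rfl
  rw [h5]
  exact IsLocalizedModule.of_linearEquiv S g.hom φ.toLinearEquiv

end mainloc

section locdata
variable (S : Submonoid A)

noncomputable abbrev Lf : ModuleCat.{u} A ⥤ ModuleCat.{u} (Localization S) :=
  ModuleCat.localizedModuleFunctor.{u} S

noncomputable abbrev rsf : ModuleCat.{u} (Localization S) ⥤ ModuleCat.{u} A :=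
  ModuleCat.restrictScalars (algebraMap A (Localization S))

/-- identity as a linear equivalence between the two `A`-module structures. -/
noncomputable def eqv (M : ModuleCat.{u} A) :
    (M.localizedModule S) ≃ₗ[A] ((rsf S).obj ((Lf S).obj M)) where
  toFun x := x
  invFun x := x
  left_inv _ := rfl
  right_inv _ := rfl
  map_add' _ _ := rfl
  map_smul' a x := (algebraMap_smul (Localization S) a x).symm

noncomputable def iota (M : ModuleCat.{u} A) : M ⟶ (rsf S).obj ((Lf S).obj M) :=
  ModuleCat.ofHom (Y := (rsf S).obj ((Lf S).obj M))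
    ((eqv S M).toLinearMap ∘ₗ M.localizedModuleMkLinearMap S)

instance (M : ModuleCat.{u} A) : IsLocalizedModule S (iota S M).hom := by
  show IsLocalizedModule S ((eqv S M).toLinearMap ∘ₗ M.localizedModuleMkLinearMap S)
  exact IsLocalizedModule.of_linearEquiv S _ _

theorem iota_nat {M N : ModuleCat.{u} A} (F : M ⟶ N) :
    iota S M ≫ (rsf S).map ((Lf S).map F) = F ≫ iota S N := by
  ext x
  show (IsLocalizedModule.mapExtendScalars S (M.localizedModuleMkLinearMap S)
    (N.localizedModuleMkLinearMap S) (Localization S) F.hom) (M.localizedModuleMkLinearMap S x) =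
    N.localizedModuleMkLinearMap S (F.hom x)
  rw [IsLocalizedModule.mapExtendScalars_apply_apply, IsLocalizedModule.map_apply]

end locdata

section final
variable (T : ModuleCat.{u} A ⥤ ModuleCat.{u} A) [T.Additive] [T.Linear A]
  (hT : ∀ (J : Type u) [SmallCategory J] [IsFiltered J], PreservesColimitsOfShape J T)

include hT in
theorem map_eq (S : Submonoid A) {M N : ModuleCat.{u} A} (F : M ⟶ N) :
    haveI := main_loc T hT S (iota S M)
    haveI := main_loc T hT S (iota S N)
    IsLocalizedModule.map S (T.map (iota S M)).hom (T.map (iota S N)).hom (T.map F).hom =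
      (T.map ((rsf S).map ((Lf S).map F))).hom := by
  haveI := main_loc T hT S (iota S M)
  haveI := main_loc T hT S (iota S N)
  apply IsLocalizedModule.linearMap_ext S (T.map (iota S M)).hom (T.map (iota S N)).hom
  rw [IsLocalizedModule.map_comp]
  have h := congrArg (fun k => (T.map k).hom) (iota_nat S F)
  simp only [Functor.map_comp, ModuleCat.hom_comp] at h
  exact h.symm

include hT in
theorem left_exact
    (h : ∀ (m : Ideal A) [m.IsMaximal],
        PreservesFiniteLimits (ModuleCat.restrictScalars (algebraMap A (Localization.AtPrime m)) ⋙ T)) :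
    PreservesFiniteLimits T := by
  apply ((T.preservesFiniteLimits_tfae).out 0 3).1
  intro Sx hS
  have key : ∀ (m : Ideal A) [m.IsMaximal],
      ((Sx.map (Lf m.primeCompl ⋙ rsf m.primeCompl ⋙ T)).Exact ∧
        Mono ((Lf m.primeCompl ⋙ rsf m.primeCompl ⋙ T).map Sx.f)) := by
    intro m _
    haveI : PreservesFiniteLimits (rsf m.primeCompl ⋙ T) := h m
    have hh : PreservesFiniteLimits (Lf m.primeCompl ⋙ rsf m.primeCompl ⋙ T) := inferInstance
    have t := ((Lf m.primeCompl ⋙ rsf m.primeCompl ⋙ T).preservesFiniteLimits_tfae).out 0 3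
    exact t.2 hh Sx hS
  haveI i1 : ∀ (P : Ideal A) [P.IsMaximal],
      IsLocalizedModule.AtPrime P (T.map (iota P.primeCompl Sx.X₁)).hom :=
    fun P _ => main_loc T hT _ _
  haveI i2 : ∀ (P : Ideal A) [P.IsMaximal],
      IsLocalizedModule.AtPrime P (T.map (iota P.primeCompl Sx.X₂)).hom :=
    fun P _ => main_loc T hT _ _
  haveI i3 : ∀ (P : Ideal A) [P.IsMaximal],
      IsLocalizedModule.AtPrime P (T.map (iota P.primeCompl Sx.X₃)).hom :=
    fun P _ => main_loc T hT _ _
  constructor
  · rw [CategoryTheory.ShortComplex.ShortExact.moduleCat_exact_iff_function_exact]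
    refine @exact_of_isLocalized_maximal A _ _ _ _ _ _ _ _ _ _
      (fun P _ => T.obj ((rsf P.primeCompl).obj ((Lf P.primeCompl).obj Sx.X₁))) _ _
      (fun P _ => (T.map (iota P.primeCompl Sx.X₁)).hom) i1
      (fun P _ => T.obj ((rsf P.primeCompl).obj ((Lf P.primeCompl).obj Sx.X₂))) _ _
      (fun P _ => (T.map (iota P.primeCompl Sx.X₂)).hom) i2
      (fun P _ => T.obj ((rsf P.primeCompl).obj ((Lf P.primeCompl).obj Sx.X₃))) _ _
      (fun P _ => (T.map (iota P.primeCompl Sx.X₃)).hom) i3
      (T.map Sx.f).hom (T.map Sx.g).hom ?_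
    intro J _
    rw [map_eq T hT, map_eq T hT]
    exact (CategoryTheory.ShortComplex.ShortExact.moduleCat_exact_iff_function_exact _).1 (key J).1
  · rw [ModuleCat.mono_iff_injective]
    refine @injective_of_isLocalized_maximal A _ _ _ _ _ _ _
      (fun P _ => T.obj ((rsf P.primeCompl).obj ((Lf P.primeCompl).obj Sx.X₁))) _ _
      (fun P _ => (T.map (iota P.primeCompl Sx.X₁)).hom) i1
      (fun P _ => T.obj ((rsf P.primeCompl).obj ((Lf P.primeCompl).obj Sx.X₂))) _ _
      (fun P _ => (T.map (iota P.primeCompl Sx.X₂)).hom) i2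
      (T.map Sx.f).hom ?_
    intro J _
    rw [map_eq T hT]
    exact (ModuleCat.mono_iff_injective _).1 (key J).2

include hT in
theorem right_exact
    (h : ∀ (m : Ideal A) [m.IsMaximal],
        PreservesFiniteColimits (ModuleCat.restrictScalars (algebraMap A (Localization.AtPrime m)) ⋙ T)) :
    PreservesFiniteColimits T := by
  apply ((T.preservesFiniteColimits_tfae).out 0 3).1
  intro Sx hS
  have key : ∀ (m : Ideal A) [m.IsMaximal],
      ((Sx.map (Lf m.primeCompl ⋙ rsf m.primeCompl ⋙ T)).Exact ∧
        Epi ((Lf m.primeCompl ⋙ rsf m.primeCompl ⋙ T).map Sx.g)) := by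
    intro m _
    haveI : PreservesFiniteColimits (rsf m.primeCompl ⋙ T) := h m
    have hh : PreservesFiniteColimits (Lf m.primeCompl ⋙ rsf m.primeCompl ⋙ T) := inferInstance
    have t := ((Lf m.primeCompl ⋙ rsf m.primeCompl ⋙ T).preservesFiniteColimits_tfae).out 0 3
    exact t.2 hh Sx hS
  haveI i1 : ∀ (P : Ideal A) [P.IsMaximal],
      IsLocalizedModule.AtPrime P (T.map (iota P.primeCompl Sx.X₁)).hom :=
    fun P _ => main_loc T hT _ _
  haveI i2 : ∀ (P : Ideal A) [P.IsMaximal],
      IsLocalizedModule.AtPrime P (T.map (iota P.primeCompl Sx.X₂)).hom :=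
    fun P _ => main_loc T hT _ _
  haveI i3 : ∀ (P : Ideal A) [P.IsMaximal],
      IsLocalizedModule.AtPrime P (T.map (iota P.primeCompl Sx.X₃)).hom :=
    fun P _ => main_loc T hT _ _
  constructor
  · rw [CategoryTheory.ShortComplex.ShortExact.moduleCat_exact_iff_function_exact]
    refine @exact_of_isLocalized_maximal A _ _ _ _ _ _ _ _ _ _
      (fun P _ => T.obj ((rsf P.primeCompl).obj ((Lf P.primeCompl).obj Sx.X₁))) _ _
      (fun P _ => (T.map (iota P.primeCompl Sx.X₁)).hom) i1
      (fun P _ => T.obj ((rsf P.primeCompl).obj ((Lf P.primeCompl).obj Sx.X₂))) _ _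
      (fun P _ => (T.map (iota P.primeCompl Sx.X₂)).hom) i2
      (fun P _ => T.obj ((rsf P.primeCompl).obj ((Lf P.primeCompl).obj Sx.X₃))) _ _
      (fun P _ => (T.map (iota P.primeCompl Sx.X₃)).hom) i3
      (T.map Sx.f).hom (T.map Sx.g).hom ?_
    intro J _
    rw [map_eq T hT, map_eq T hT]
    exact (CategoryTheory.ShortComplex.ShortExact.moduleCat_exact_iff_function_exact _).1 (key J).1
  · rw [ModuleCat.epi_iff_surjective]
    refine @surjective_of_isLocalized_maximal A _ _ _ _ _ _ _
      (fun P _ => T.obj ((rsf P.primeCompl).obj ((Lf P.primeCompl).obj Sx.X₂))) _ _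
      (fun P _ => (T.map (iota P.primeCompl Sx.X₂)).hom) i2
      (fun P _ => T.obj ((rsf P.primeCompl).obj ((Lf P.primeCompl).obj Sx.X₃))) _ _
      (fun P _ => (T.map (iota P.primeCompl Sx.X₃)).hom) i3
      (T.map Sx.g).hom ?_
    intro J _
    rw [map_eq T hT]
    exact (ModuleCat.epi_iff_surjective _).1 (key J).2

theorem main (T : ModuleCat.{u} A ⥤ ModuleCat.{u} A) [T.Additive] [T.Linear A]
    (hT : ∀ (J : Type u) [SmallCategory J] [IsFiltered J], PreservesColimitsOfShape J T) :
    ((∀ (m : Ideal A) [m.IsMaximal],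
        PreservesFiniteLimits (ModuleCat.restrictScalars (algebraMap A (Localization.AtPrime m)) ⋙ T)) →
      PreservesFiniteLimits T) ∧
    ((∀ (m : Ideal A) [m.IsMaximal],
        PreservesFiniteColimits (ModuleCat.restrictScalars (algebraMap A (Localization.AtPrime m)) ⋙ T)) →
      PreservesFiniteColimits T) :=
  ⟨left_exact T hT, right_exact T hT⟩

end final

end PRE

open CategoryTheory CategoryTheory.Limits in
/-- Let A be a commutative ring and T an additive A-linear endofunctor of the category of A-modules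
which preserves filtered colimits. For a maximal ideal m write T_m for T precomposed with
restriction of scalars along A → A_m (a functor from A_m-modules to A-modules). If T_m is left exact
for every maximal ideal m then T is left exact, and if T_m is right exact for every maximal ideal m
then T is right exact (exactness meaning preservation of finite limits, resp. finite colimits). -/
theorem result {A : Type u} [CommRing A]
    (T : ModuleCat.{u} A ⥤ ModuleCat.{u} A) [T.Additive] [T.Linear A]
    (hT : ∀ (J : Type u) [SmallCategory J] [IsFiltered J], PreservesColimitsOfShape J T) :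
    ((∀ (m : Ideal A) [m.IsMaximal],
        PreservesFiniteLimits (ModuleCat.restrictScalars (algebraMap A (Localization.AtPrime m)) ⋙ T)) →
      PreservesFiniteLimits T) ∧
    ((∀ (m : Ideal A) [m.IsMaximal],
        PreservesFiniteColimits (ModuleCat.restrictScalars (algebraMap A (Localization.AtPrime m)) ⋙ T)) →
      PreservesFiniteColimits T) := by
  exact main T hT

end Groth.Agent.S4493
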