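import Groth.Statements.S4495
import Mathlib.Topology.Sheaves.CommRingCat
-- import your own Groth.Agent.* helpers here

set_option autoImplicit false
universe u
open FlatCx

namespace Groth.Agent.S4495


open CategoryTheory AlgebraicGeometry Opposite TopologicalSpace in
theorem eq_bot_of_one_eq_zero (Z : LocallyRingedSpace.{u}) (U : Opens Z)
    (h : (1 : Z.presheaf.obj (op U)) = 0) : U = ⊥ := by
  ext x
  simp only [Opens.coe_bot, Set.mem_empty_iff_false, iff_false]
  intro hx
  have h1 := congrArg (Z.presheaf.germ U x hx).hom h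
  rw [map_one, map_zero] at h1
  exact one_ne_zero h1

open CategoryTheory AlgebraicGeometry Opposite in
/-- A locally ringed space Z is connected, in the sense that it is not the disjoint union of two
nonempty open subsets (the empty space being allowed), if and only if every idempotent of the ring
of global sections Γ(Z, O_Z) is 0 or 1 (equivalently, Γ(Z, O_Z) is not isomorphic to a product of
two nonzero rings). -/
theorem result (Z : LocallyRingedSpace.{u}) :
    PreconnectedSpace Z ↔
      ∀ e : Z.presheaf.obj (op ⊤), IsIdempotentElem e → e = 0 ∨ e = 1 := by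
  constructor
  · intro hpc e he
    have hmul : e * (1 - e) = 0 := by rw [mul_sub, mul_one, he.eq, sub_self]
    have hdisj : Z.toRingedSpace.basicOpen e ⊓ Z.toRingedSpace.basicOpen (1 - e) = ⊥ := by
      rw [← RingedSpace.basicOpen_mul, hmul]
      exact Z.basicOpen_zero ⊤
    have hcover : ∀ x : Z, x ∈ Z.toRingedSpace.basicOpen e ∨
        x ∈ Z.toRingedSpace.basicOpen (1 - e) := by
      intro x
      rw [RingedSpace.mem_top_basicOpen, RingedSpace.mem_top_basicOpen]
      have := IsLocalRing.isUnit_or_isUnit_one_sub_self (Z.presheaf.Γgerm x e)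
      rwa [map_sub, map_one]
    have hcompl : (Z.toRingedSpace.basicOpen e).1ᶜ =
        (Z.toRingedSpace.basicOpen (1 - e)).1 := by
      ext x
      constructor
      · intro hx
        exact (hcover x).resolve_left hx
      · intro hx hx'
        have : x ∈ Z.toRingedSpace.basicOpen e ⊓ Z.toRingedSpace.basicOpen (1 - e) := ⟨hx', hx⟩
        rw [hdisj] at this
        exact this
    have hclopen : IsClopen (Z.toRingedSpace.basicOpen e).1 := by
      refine ⟨?_, (Z.toRingedSpace.basicOpen e).2⟩
      rw [← isOpen_compl_iff, hcompl]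
      exact (Z.toRingedSpace.basicOpen (1 - e)).2
    rcases (isClopen_iff (α := Z.toTopCat)).mp hclopen with h | h
    · left
      have hu : IsUnit (1 - e) := by
        apply Z.toRingedSpace.isUnit_of_isUnit_germ ⊤
        intro x hx
        have h1 : x ∈ Z.toRingedSpace.basicOpen (1 - e) := by
          refine (hcover x).resolve_left ?_
          intro hx'
          have : x ∈ (Z.toRingedSpace.basicOpen e).1 := hx'
          rw [h] at this
          exact this
        exact (RingedSpace.mem_basicOpen _ _ x hx).mp h1
      exact (hu.mul_left_eq_zero).mp hmul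
    · right
      have hu : IsUnit e := by
        apply Z.toRingedSpace.isUnit_of_isUnit_germ ⊤
        intro x hx
        have h1 : x ∈ (Z.toRingedSpace.basicOpen e).1 := by
          rw [h]; trivial
        exact (RingedSpace.mem_basicOpen _ _ x hx).mp h1
      have := (hu.mul_right_eq_zero).mp hmul
      exact (sub_eq_zero.mp this).symm
  · intro hid
    rw [preconnectedSpace_iff_clopen]
    intro s hs
    let U : TopologicalSpace.Opens Z := ⟨s, hs.2⟩
    let V : TopologicalSpace.Opens Z := ⟨sᶜ, hs.1.isOpen_compl⟩
    have hUV : U ⊓ V = ⊥ := by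
      ext x
      simp [U, V]
    have htop : U ⊔ V = ⊤ := by
      ext x
      simp [U, V]
    have hsub : Subsingleton ↑(Z.𝒪.obj.obj (op (U ⊓ V))) :=
      CommRingCat.subsingleton_of_isTerminal (Z.𝒪.isTerminalOfEqEmpty hUV)
    let x : RingHom.eqLocus
      (RingHom.comp (Z.𝒪.obj.map (homOfLE inf_le_left : U ⊓ V ⟶ U).op).hom
        (RingHom.fst (Z.𝒪.obj.obj <| op U) (Z.𝒪.obj.obj <| op V)))
      (RingHom.comp (Z.𝒪.obj.map (homOfLE inf_le_right : U ⊓ V ⟶ V).op).hom
        (RingHom.snd (Z.𝒪.obj.obj <| op U) (Z.𝒪.obj.obj <| op V))) :=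
      ⟨((1 : Z.presheaf.obj (op U)), (0 : Z.presheaf.obj (op V))), Subsingleton.elim _ _⟩
    have hx : IsIdempotentElem x := by
      exact Subtype.ext (Prod.ext (mul_one _) (mul_zero _))
    let e' : Z.presheaf.obj (op (U ⊔ V)) := (TopCat.Sheaf.objSupIsoProdEqLocus Z.𝒪 U V).inv x
    have he' : IsIdempotentElem e' :=
      hx.map (TopCat.Sheaf.objSupIsoProdEqLocus Z.𝒪 U V).inv.hom
    let e : Z.presheaf.obj (op ⊤) := Z.presheaf.map (homOfLE (le_of_eq htop.symm)).op e'
    have he : IsIdempotentElem e := he'.map (Z.presheaf.map (homOfLE (le_of_eq htop.symm)).op).hom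
    have heU : Z.presheaf.map (homOfLE (le_top : U ≤ ⊤)).op e = 1 := by
      change (Z.presheaf.map _) ((Z.presheaf.map _) e') = 1
      rw [← ConcreteCategory.comp_apply, ← Functor.map_comp]
      exact TopCat.Sheaf.objSupIsoProdEqLocus_inv_fst Z.𝒪 U V x
    have heV : Z.presheaf.map (homOfLE (le_top : V ≤ ⊤)).op e = 0 := by
      change (Z.presheaf.map _) ((Z.presheaf.map _) e') = 0
      rw [← ConcreteCategory.comp_apply, ← Functor.map_comp]
      exact TopCat.Sheaf.objSupIsoProdEqLocus_inv_snd Z.𝒪 U V x
    rcases hid e he with h0 | h1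
    · left
      rw [h0, map_zero] at heU
      have := eq_bot_of_one_eq_zero Z U heU.symm
      have h2 : (U : Set Z) = ∅ := by rw [this]; rfl
      exact h2
    · right
      rw [h1, map_one] at heV
      have := eq_bot_of_one_eq_zero Z V heV
      have h2 : (V : Set Z) = ∅ := by rw [this]; rfl
      exact Set.compl_empty_iff.mp h2

end Groth.Agent.S4495
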