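import Groth.Statements.S4496
import Groth.Agent.Lib.Helper8.FlatCx10

set_option autoImplicit false
universe u
open FlatCx
open Groth.Agent.Lib.Helper8.FlatCx

namespace Groth.Agent.S4496

open CategoryTheory CategoryTheory.Limits MonoidalCategory in
/-- For the homological functor T_p(M) = H_p(P ⊗_A M) of a chain complex P of flat modules over a
commutative ring A: T_p takes injections to injections and surjections to surjections if and only if
T_p is isomorphic to the functor M ↦ N ⊗_A M for some flat A-module N (which is then isomorphic to
T_p(A)). -/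
theorem result {A : Type u} [CommRing A]
    (P : ChainComplex (ModuleCat.{u} A) ℤ) (hP : ∀ i, Module.Flat A (P.X i)) (p : ℤ) :
    ((CohIII.TFun P p).PreservesMonomorphisms ∧ (CohIII.TFun P p).PreservesEpimorphisms) ↔
      ∃ N : ModuleCat.{u} A, Module.Flat A N ∧ Nonempty (CohIII.TFun P p ≅ tensorLeft N) := by
  constructor
  · rintro ⟨hm, he⟩
    have := hP (p - 1)
    have h1 := (preservesEpi_iff_flat_opcycles P hP p).mp he
    refine ⟨P.homology p, ?_, ⟨(thetaIso P p).symm⟩⟩
    -- flatness of the homology: `H_p(P) ⊗ -` preserves monomorphisms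
    have hm' : (tensorLeft (P.homology p)).PreservesMonomorphisms :=
      Functor.PreservesMonomorphisms.of_iso (thetaIso P p).symm
    rw [Module.Flat.iff_lTensor_preserves_injective_linearMap]
    intro N N' _ _ _ _ f hf
    have hmf : Mono (ModuleCat.ofHom f) := (ModuleCat.mono_iff_injective _).mpr hf
    have h2 : Mono ((tensorLeft (P.homology p)).map (ModuleCat.ofHom f)) := hm'.preserves _
    exact (ModuleCat.mono_iff_injective _).mp h2
  · rintro ⟨N, hN, ⟨e⟩⟩
    have h1 : (tensorLeft N).PreservesEpimorphisms :=
      Functor.preservesEpimorphisms_of_adjunction (ihom.adjunction N)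
    have h2 : (tensorLeft N).PreservesMonomorphisms := by
      refine ⟨fun {X Y} f hf => ?_⟩
      rw [ModuleCat.mono_iff_injective] at hf ⊢
      exact Module.Flat.lTensor_preserves_injective_linearMap f.hom hf
    exact ⟨Functor.PreservesMonomorphisms.of_iso e.symm,
      Functor.PreservesEpimorphisms.of_iso e.symm⟩

end Groth.Agent.S4496
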