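import Groth.Statements.S4502
import Groth.Agent.Lib.Helper8.FlatCx8
import Groth.Agent.Lib.Helper8.NilLocal

set_option autoImplicit false
universe u
open FlatCx
open Groth.Agent.Lib.Helper8 Groth.Agent.Lib.Helper8.FlatCx

namespace Groth.Agent.S4502

open CategoryTheory CategoryTheory.Limits in
/-- For the homological functor T_p(M) = H_p(P ⊗_A M) of a chain complex P of flat modules over a
commutative Artinian local ring A with residue field k; the terms of P need not be finitely
generated. Then T_p takes surjections to surjections if and only if the map T_p(A) → T_p(k) induced
by the projection A → k is surjective. -/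
theorem result {A : Type u} [CommRing A] [IsArtinianRing A]
    [IsLocalRing A] (P : ChainComplex (ModuleCat.{u} A) ℤ) (hP : ∀ i, Module.Flat A (P.X i)) (p : ℤ) :
    (CohIII.TFun P p).PreservesEpimorphisms ↔
      Function.Surjective ((CohIII.TFun P p).map
        (ModuleCat.ofHom (Algebra.linearMap A (IsLocalRing.ResidueField A)))).hom := by
  constructor
  · intro h
    have hsurj : Function.Surjective (Algebra.linearMap A (IsLocalRing.ResidueField A)) :=
      IsLocalRing.residue_surjective
    have hepi : Epi (ModuleCat.ofHom (Algebra.linearMap A (IsLocalRing.ResidueField A))) :=
      (ModuleCat.epi_iff_surjective _).mpr hsurj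
    exact (ModuleCat.epi_iff_surjective _).mp (h.preserves _)
  · intro h
    have H := injective_lTensor_opcycles_of_surjective P hP p (p - 1) (by ring)
      (Algebra.linearMap A (IsLocalRing.ResidueField A)) IsLocalRing.residue_surjective h
    have hI : LinearMap.ker (Algebra.linearMap A (IsLocalRing.ResidueField A)) =
        IsLocalRing.maximalIdeal A := by
      ext x
      simp only [LinearMap.mem_ker, Algebra.linearMap_apply]
      exact IsLocalRing.residue_eq_zero_iff x
    have hfree : Module.Free A (P.opcycles (p - 1)) :=
      NilLocal.free_of_lTensor_injective_of_isArtinianRing _ _ hI H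
    exact (preservesEpi_iff_flat_opcycles P hP p).mpr inferInstance

end Groth.Agent.S4502
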