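import Groth.Statements.S4503
import Mathlib.LinearAlgebra.TensorProduct.Basis
-- import your own Groth.Agent.* helpers here

set_option autoImplicit false
universe u
open FlatCx

namespace Groth.Agent.S4503


section Aux
open CategoryTheory CategoryTheory.Limits

variable {A : Type u} [CommRing A] {L : ModuleCat.{u} A} {I : Type u}

/-- the cofan exhibiting a free module as a coproduct of copies of `A` -/
noncomputable def cof (b : Module.Basis I A L) : Cofan (fun _ : I => ModuleCat.of A A) :=
  Cofan.mk L (fun i => ModuleCat.ofHom ((LinearMap.ringLmapEquivSelf A A L).symm (b i)))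

noncomputable def cofIsColimit (b : Module.Basis I A L) : IsColimit (cof b) :=
  Cofan.IsColimit.mk _
    (fun s => ModuleCat.ofHom (b.constr A (fun i => (s.inj i).hom (1 : A))))
    (fun s i => by
      apply ModuleCat.hom_ext
      apply LinearMap.ext_ring
      simp [cof])
    (fun s m hm => by
      apply ModuleCat.hom_ext
      apply b.ext
      intro i
      have h1 : ((cof b).inj i ≫ m).hom (1 : A) = m.hom (b i) := by
        change m.hom (((LinearMap.ringLmapEquivSelf A A L).symm (b i)) 1) = _
        simp
      refine h1.symm.trans ?_
      rw [hm i]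
      change _ = (b.constr A) (fun i => (ModuleCat.Hom.hom (s.inj i)) 1) (b i)
      rw [Module.Basis.constr_basis])

end Aux

open CategoryTheory CategoryTheory.Limits in
/-- The case of A-linear functors (for commutative A, additive functors from A-modules to abelian groups
are the same as A-linear endofunctors of A-modules). Let T be an additive A-linear functor from
A-modules to A-modules commuting with arbitrary direct sums, and for an A-module M let t_M : T(A)
⊗_A M → T(M) be the canonical map sending y ⊗ x to T(θ_x)(y), where θ_x : A → M is a ↦ a x. Then t_L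
is bijective for every free A-module L. -/
theorem result {A : Type u} [CommRing A]
    (T : ModuleCat.{u} A ⥤ ModuleCat.{u} A) [T.Additive] [T.Linear A]
    [∀ J : Type u, PreservesColimitsOfShape (Discrete J) T] (L : ModuleCat.{u} A) [Module.Free A L] :
    Function.Bijective (TensorProduct.lift (LinearMap.flip
        ((ModuleCat.homLinearEquiv (S := A)).toLinearMap ∘ₗ Functor.mapLinearMap A T ∘ₗ
          (ModuleCat.homLinearEquiv (S := A)).symm.toLinearMap ∘ₗ
            (LinearMap.ringLmapEquivSelf A A L).symm.toLinearMap)) :
      TensorProduct A (T.obj (ModuleCat.of A A)) L →ₗ[A] T.obj L) := by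
  classical
  let b : Module.Basis (Module.Free.ChooseBasisIndex A L) A L := Module.Free.chooseBasis A L
  set F : TensorProduct A (T.obj (ModuleCat.of A A)) L →ₗ[A] T.obj L :=
    TensorProduct.lift (LinearMap.flip
        ((ModuleCat.homLinearEquiv (S := A)).toLinearMap ∘ₗ Functor.mapLinearMap A T ∘ₗ
          (ModuleCat.homLinearEquiv (S := A)).symm.toLinearMap ∘ₗ
            (LinearMap.ringLmapEquivSelf A A L).symm.toLinearMap)) with hF
  have hF_tmul : ∀ (y : T.obj (ModuleCat.of A A)) (x : L), F (y ⊗ₜ x) =
      (T.map (ModuleCat.ofHom ((LinearMap.ringLmapEquivSelf A A L).symm x))).hom y :=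
    fun y x => rfl
  have hTsmul : ∀ c : A, T.map (ModuleCat.ofHom (c • LinearMap.id : A →ₗ[A] A)) =
      c • 𝟙 (T.obj (ModuleCat.of A A)) := by
    intro c
    have h1 : ModuleCat.ofHom (c • LinearMap.id : A →ₗ[A] A) = c • 𝟙 (ModuleCat.of A A) := rfl
    rw [h1, Functor.map_smul, T.map_id]
  constructor
  · rw [injective_iff_map_eq_zero]
    intro z hz
    apply (TensorProduct.equivFinsuppOfBasisRight b).injective
    rw [map_zero]
    ext i
    rw [TensorProduct.equivFinsuppOfBasisRight_apply, Finsupp.zero_apply]
    have key : ∀ z, TensorProduct.rid A _ ((b.coord i).lTensor _ z) =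
        (T.map (ModuleCat.ofHom (b.coord i))).hom (F z) := by
      intro z
      induction z using TensorProduct.induction_on with
      | zero => simp
      | tmul y x =>
        rw [hF_tmul, ← LinearMap.comp_apply, ← ModuleCat.hom_comp, ← T.map_comp]
        have h2 : ModuleCat.ofHom ((LinearMap.ringLmapEquivSelf A A L).symm x) ≫
            ModuleCat.ofHom (b.coord i) =
            ModuleCat.ofHom ((b.coord i x) • LinearMap.id : A →ₗ[A] A) := by
          apply ModuleCat.hom_ext
          apply LinearMap.ext_ring
          simp
        rw [h2, hTsmul]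
        simp
      | add z w hz hw => rw [map_add, map_add, map_add, map_add, hz, hw]
    rw [key, hz, map_zero]
  · rw [← LinearMap.range_eq_top]
    let q : T.obj L ⟶ ModuleCat.of A (T.obj L ⧸ LinearMap.range F) :=
      ModuleCat.ofHom (LinearMap.range F).mkQ
    have hc := isColimitOfPreserves T (cofIsColimit b)
    have hq : q = 0 := by
      apply hc.hom_ext
      rintro ⟨i⟩
      apply ModuleCat.hom_ext
      apply LinearMap.ext
      intro y
      have h3 : (T.map ((cof b).inj i)).hom y = F (y ⊗ₜ b i) := (hF_tmul y (b i)).symm
      change (LinearMap.range F).mkQ ((T.map ((cof b).inj i)).hom y) = 0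
      rw [h3]
      simp
    rw [← Submodule.ker_mkQ (LinearMap.range F)]
    have h4 : (LinearMap.range F).mkQ = 0 := congrArg ModuleCat.Hom.hom hq
    rw [h4, LinearMap.ker_zero]

end Groth.Agent.S4503
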