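import Groth.Statements.S4507
import Mathlib.Algebra.Category.ModuleCat.FilteredColimits
import Mathlib.CategoryTheory.Limits.Types.Filtered
-- import your own Groth.Agent.* helpers here

set_option autoImplicit false
universe u
open FlatCx

namespace Groth.Agent.S4507


section Aux
open CategoryTheory CategoryTheory.Limits

variable {A : Type u} [CommRing A]

/-- index category for the localization as a filtered colimit -/
structure LocIdx (S : Submonoid A) : Type u where
  val : S

instance (S : Submonoid A) : SmallCategory (LocIdx S) where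
  Hom s s' := {t : S // s.val * t = s'.val}
  id s := ⟨1, mul_one _⟩
  comp f g := ⟨f.1 * g.1, by rw [← mul_assoc, f.2, g.2]⟩
  id_comp f := Subtype.ext (one_mul _)
  comp_id f := Subtype.ext (mul_one _)
  assoc f g h := Subtype.ext (mul_assoc _ _ _)

instance (S : Submonoid A) : IsFiltered (LocIdx S) where
  cocone_objs s s' := ⟨⟨s.val * s'.val⟩, ⟨s'.val, rfl⟩, ⟨s.val, mul_comm _ _⟩, trivial⟩
  cocone_maps s s' f g := ⟨⟨s'.val * s.val⟩, ⟨s.val, rfl⟩, by
    apply Subtype.ext
    change f.1 * s.val = g.1 * s.val
    rw [mul_comm f.1, mul_comm g.1, f.2, g.2]⟩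
  nonempty := ⟨⟨1⟩⟩

/-- the diagram `s ↦ M` with transition maps multiplication by `t` -/
noncomputable def locDiagram (S : Submonoid A) (M : ModuleCat.{u} A) : LocIdx S ⥤ ModuleCat.{u} A where
  obj _ := M
  map f := ((f.1 : S) : A) • 𝟙 M
  map_id s := by
    change ((1 : S) : A) • 𝟙 M = 𝟙 M
    simp
  map_comp f g := by
    change ((f.1 * g.1 : S) : A) • 𝟙 M = ((f.1 : A) • 𝟙 M) ≫ ((g.1 : A) • 𝟙 M)
    rw [Linear.smul_comp, Linear.comp_smul, Category.id_comp, smul_smul, Submonoid.coe_mul,
      mul_comm]

/-- `m ↦ m / s` as a linear map -/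
noncomputable def divMap (S : Submonoid A) (M : ModuleCat.{u} A) (s : S) :
    M →ₗ[A] LocalizedModule S M where
  toFun m := LocalizedModule.mk m s
  map_add' m m' := by
    rw [LocalizedModule.mk_add_mk, LocalizedModule.mk_eq]
    refine ⟨1, ?_⟩
    simp only [one_smul, smul_add, Submonoid.smul_def, Submonoid.coe_mul, mul_smul]
  map_smul' a m := by
    rw [LocalizedModule.smul'_mk, RingHom.id_apply]

noncomputable def locCocone (S : Submonoid A) (M : ModuleCat.{u} A) : Cocone (locDiagram S M) where
  pt := ModuleCat.of A (LocalizedModule S M)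
  ι :=
    { app := fun s => ModuleCat.ofHom (divMap S M s.val)
      naturality := fun s s' f => by
        apply ModuleCat.hom_ext
        apply LinearMap.ext
        intro m
        change LocalizedModule.mk (((f.1 : S) : A) • m) s'.val = LocalizedModule.mk m s.val
        rw [LocalizedModule.mk_eq]
        refine ⟨1, ?_⟩
        have h2 : ((s'.val : S) : A) = ((s.val : S) : A) * ((f.1 : S) : A) := by
          rw [← Submonoid.coe_mul]
          exact congrArg Subtype.val f.2.symm
        simp only [one_smul, Submonoid.smul_def]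
        rw [h2, mul_smul] }

noncomputable def locCoconeIsColimit (S : Submonoid A) (M : ModuleCat.{u} A) :
    IsColimit (locCocone S M) := by
  have : ReflectsColimit (locDiagram S M) (forget (ModuleCat.{u} A)) :=
    reflectsColimit_of_reflectsIsomorphisms _ _
  apply isColimitOfReflects (forget (ModuleCat.{u} A))
  apply Types.FilteredColimit.isColimitOf
  · intro x
    induction x using LocalizedModule.induction_on with
    | h m s => exact ⟨⟨s⟩, m, rfl⟩
  · intro s s' (m : M) (m' : M) h
    have h' : (LocalizedModule.mk m s.val : LocalizedModule S M) =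
        LocalizedModule.mk m' s'.val := h
    rw [LocalizedModule.mk_eq] at h'
    obtain ⟨u, hu⟩ := h'
    refine ⟨⟨s.val * (s'.val * u)⟩, ⟨s'.val * u, rfl⟩, ⟨s.val * u, ?_⟩, ?_⟩
    · rw [← mul_assoc, ← mul_assoc, mul_comm s'.val s.val]
    · change (((s'.val * u : S) : A) • m) = (((s.val * u : S) : A) • m')
      simp only [Submonoid.smul_def, Submonoid.coe_mul, mul_smul] at hu ⊢
      rw [smul_comm (s'.val : A), smul_comm (s.val : A)]
      exact hu

end Aux

open CategoryTheory CategoryTheory.Limits in
/-- The isomorphism T(S⁻¹M) ≅ S⁻¹T(M). Let A be a commutative ring, T an additive A-linear endofunctor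
of the category of A-modules which preserves filtered colimits, S a multiplicative subset of A and M
an A-module. Then the A-linear map T(M) → T(S⁻¹M), image under T of the localization map M → S⁻¹M,
is a localization of T(M) at S (so T(S⁻¹M) is canonically S⁻¹T(M), as an S⁻¹A-module). -/
theorem result {A : Type u} [CommRing A]
    (T : ModuleCat.{u} A ⥤ ModuleCat.{u} A) [T.Additive] [T.Linear A]
    (hT : ∀ (J : Type u) [SmallCategory J] [IsFiltered J], PreservesColimitsOfShape J T)
    (S : Submonoid A) (M : ModuleCat.{u} A) :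
    IsLocalizedModule S (T.map (ModuleCat.ofHom (LocalizedModule.mkLinearMap S M) :
      M ⟶ ModuleCat.of A (LocalizedModule S M))).hom := by
  have hc : IsColimit (T.mapCocone (locCocone S M)) :=
    isColimitOfPreserves T (locCoconeIsColimit S M)
  have hcT : IsColimit ((forget (ModuleCat.{u} A)).mapCocone (T.mapCocone (locCocone S M))) :=
    isColimitOfPreserves (forget (ModuleCat.{u} A)) hc
  -- `T` of a scalar endomorphism
  have hTsmul : ∀ (N : ModuleCat.{u} A) (a : A), T.map (a • 𝟙 N) = a • 𝟙 (T.obj N) := by
    intro N a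
    rw [Functor.map_smul, T.map_id]
  -- s • ι_s = ι_1
  have hdiv : ∀ s : S, ModuleCat.ofHom (divMap S M s) ≫
      (((s : S) : A) • 𝟙 (ModuleCat.of A (LocalizedModule S M))) =
      ModuleCat.ofHom (LocalizedModule.mkLinearMap S M) := by
    intro s
    apply ModuleCat.hom_ext
    apply LinearMap.ext
    intro m
    change ((s : S) : A) • LocalizedModule.mk m s = LocalizedModule.mk m 1
    rw [LocalizedModule.smul'_mk, LocalizedModule.mk_eq]
    exact ⟨1, by simp [Submonoid.smul_def]⟩
  have hdivT : ∀ (s : S) (x : T.obj M),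
      ((s : S) : A) • (T.map (ModuleCat.ofHom (divMap S M s))).hom x =
        (T.map (ModuleCat.ofHom (LocalizedModule.mkLinearMap S M))).hom x := by
    intro s x
    rw [← hdiv s, T.map_comp, hTsmul]
    rfl
  refine ⟨fun s => ?_, fun y => ?_, fun {x₁ x₂} h => ?_⟩
  · -- units
    have hiso : IsIso (((s : S) : A) • 𝟙 (ModuleCat.of A (LocalizedModule S M))) := by
      have hu := IsLocalizedModule.map_units (LocalizedModule.mkLinearMap S M) s
      have : ((s : S) : A) • 𝟙 (ModuleCat.of A (LocalizedModule S M)) =
          ModuleCat.ofHom (algebraMap A (Module.End A (LocalizedModule S M)) s) := rfl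
      rw [this]
      obtain ⟨u, hu'⟩ := hu
      refine ⟨ModuleCat.ofHom (u⁻¹ : (Module.End A (LocalizedModule S M))ˣ).1, ?_, ?_⟩
      · apply ModuleCat.hom_ext
        rw [← hu']
        exact u.inv_mul
      · apply ModuleCat.hom_ext
        rw [← hu']
        exact u.mul_inv
    have hiso' : IsIso (T.map (((s : S) : A) • 𝟙 (ModuleCat.of A (LocalizedModule S M)))) :=
      inferInstance
    rw [hTsmul] at hiso'
    rw [Module.End.isUnit_iff]
    exact (ConcreteCategory.isIso_iff_bijective _).mp hiso'
  · -- surjectivity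
    obtain ⟨s, x, hx⟩ := Types.jointly_surjective_of_isColimit hcT y
    refine ⟨(x, s.val), ?_⟩
    have : y = (T.map (ModuleCat.ofHom (divMap S M s.val))).hom x := hx.symm
    rw [this]
    exact hdivT s.val x
  · -- kernel
    have h' : ((forget (ModuleCat.{u} A)).mapCocone (T.mapCocone (locCocone S M))).ι.app ⟨1⟩ x₁ =
        ((forget (ModuleCat.{u} A)).mapCocone (T.mapCocone (locCocone S M))).ι.app ⟨1⟩ x₂ := by
      have e : ∀ x : T.obj M, (T.map (ModuleCat.ofHom (divMap S M 1))).hom x =
          (T.map (ModuleCat.ofHom (LocalizedModule.mkLinearMap S M))).hom x := by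
        intro x
        rw [← hdivT 1 x]
        simp
      change (T.map (ModuleCat.ofHom (divMap S M 1))).hom x₁ =
        (T.map (ModuleCat.ofHom (divMap S M 1))).hom x₂
      rw [e, e]
      exact h
    obtain ⟨k, f, g, hfg⟩ := (Types.FilteredColimit.isColimit_eq_iff _ hcT).mp h'
    have hfg' : (T.map (((f.1 : S) : A) • 𝟙 M)).hom x₁ = (T.map (((g.1 : S) : A) • 𝟙 M)).hom x₂ :=
      hfg
    rw [hTsmul, hTsmul] at hfg'
    have hf1 : f.1 = g.1 := by
      have h1 := f.2
      have h2 := g.2
      change (1 : S) * f.1 = k.val at h1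
      change (1 : S) * g.1 = k.val at h2
      rw [one_mul] at h1 h2
      rw [h1, h2]
    refine ⟨f.1, ?_⟩
    rw [← hf1] at hfg'
    exact hfg'

end Groth.Agent.S4507
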