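import Groth.Statements.S4513
import Groth.Agent.Lib.Helper13.SepDiff6
open Groth.Agent.Lib.Helper13.SepDiff IsLocalRing

set_option autoImplicit false
universe u
open EGA41

namespace Groth.Agent.S4513

open IsLocalRing in
/-- Let A be a Noetherian local ring and k a field mapping to A such that A is formally smooth over k
for the adic topology of its maximal ideal (k discrete). Then every field K with k → K → A
(compatible ring maps) is a separable extension of k, i.e. K is geometrically reduced over k. -/
theorem result {k A K : Type u} [Field k] [CommRing A]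
    [IsLocalRing A] [IsNoetherianRing A] [Algebra k A] (h : CAlgX.IsAdicFormallySmooth k A (maximalIdeal A))
    [Field K] [Algebra k K] [Algebra K A] [IsScalarTower k K A] :
    Algebra.IsGeometricallyReduced k K := by
  classical
  rw [isGeometricallyReduced_iff_int_mapBaseChange_injective]
  refine mapBaseChange_injective_of_derivation_extends_field (M := ResidueField A) ?_
  intro D
  let T := TrivSqZeroExt (ResidueField A) (ResidueField A)
  let φ : k →+* T := dualNumberHom D
  letI algT : Algebra k T := φ.toAlgebra
  let J : Ideal T := dualNumberIdeal (ResidueField A)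
  have hJ : J ^ 2 = ⊥ := dualNumberIdeal_sq
  let ψ : A →ₐ[k] T ⧸ J :=
    { toRingHom := (Ideal.Quotient.mk J).comp
        ((TrivSqZeroExt.inlHom (ResidueField A) (ResidueField A)).comp (residue A))
      commutes' := fun a => by
        show Ideal.Quotient.mk J (TrivSqZeroExt.inl (residue A (algebraMap k A a))) =
          Ideal.Quotient.mk J (φ a)
        rw [Ideal.Quotient.eq, mem_dualNumberIdeal]
        show (TrivSqZeroExt.inl (residue A (algebraMap k A a)) - φ a).fst = 0
        rw [TrivSqZeroExt.fst_sub, TrivSqZeroExt.fst_inl, dualNumberHom_fst]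
        exact sub_self _ }
  have hψ : ∃ n : ℕ, ∀ x ∈ maximalIdeal A ^ n, ψ x = 0 := by
    refine ⟨1, fun x hx => ?_⟩
    rw [pow_one] at hx
    show Ideal.Quotient.mk J (TrivSqZeroExt.inl (residue A x)) = 0
    rw [(residue_eq_zero_iff x).mpr hx, TrivSqZeroExt.inl_zero, map_zero]
  obtain ⟨χ, hχ⟩ := h T J hJ ψ hψ
  have hfst : ∀ x : A, (χ x).fst = residue A x := by
    intro x
    have h1 : Ideal.Quotient.mk J (χ x) = Ideal.Quotient.mk J (TrivSqZeroExt.inl (residue A x)) :=
      AlgHom.congr_fun hχ x
    rw [Ideal.Quotient.eq, mem_dualNumberIdeal] at h1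
    have h2 : (χ x).fst - residue A x = 0 := by
      rw [← h1, TrivSqZeroExt.fst_sub, TrivSqZeroExt.fst_inl]
    exact sub_eq_zero.mp h2
  let D' : Derivation ℤ K (ResidueField A) :=
    { toFun := fun y => (χ (algebraMap K A y)).snd
      map_add' := fun x y => by
        show (χ (algebraMap K A (x + y))).snd = _
        rw [map_add, map_add, TrivSqZeroExt.snd_add]
      map_smul' := fun n x => by
        show (χ (algebraMap K A (n • x))).snd = n • (χ (algebraMap K A x)).snd
        rw [map_zsmul, map_zsmul]
        rfl
      map_one_eq_zero' := by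
        show (χ (algebraMap K A 1)).snd = 0
        rw [map_one, map_one, TrivSqZeroExt.snd_one]
      leibniz' := fun x y => by
        show (χ (algebraMap K A (x * y))).snd =
          x • (χ (algebraMap K A y)).snd + y • (χ (algebraMap K A x)).snd
        rw [map_mul, map_mul, TrivSqZeroExt.snd_mul, hfst, hfst, smul_eq_mul,
          MulOpposite.smul_eq_mul_unop, MulOpposite.unop_op, Algebra.smul_def x,
          Algebra.smul_def y, mul_comm (TrivSqZeroExt.snd (χ ((algebraMap K A) x)))]
        rfl }
  refine ⟨D', fun a => ?_⟩
  show (χ (algebraMap K A (algebraMap k K a))).snd = D a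
  rw [← IsScalarTower.algebraMap_apply k K A, χ.commutes]
  exact dualNumberHom_snd D a

end Groth.Agent.S4513
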