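import Groth.Statements.S4514
-- import your own Groth.Agent.* helpers here
import Groth.Agent.Lib.Helper15.FlatLift3
import Groth.Agent.Lib.Helper83.FlatLocalDim

set_option linter.style.haveILetI false

set_option autoImplicit false
universe u
open EGA41

namespace Groth.Agent.S4514

open IsLocalRing TensorProduct in
/-- Let A be a Noetherian local ring with residue field k, and let B₀ be a k-algebra which is a complete
regular local ring. Then there exist a complete Noetherian local ring B and a local homomorphism A →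
B making B a flat A-module, such that B₀ is k-isomorphic to k ⊗_A B = B/𝔪B. -/
theorem result {A : Type u} [CommRing A] [IsLocalRing A] [IsNoetherianRing A]
    (B₀ : Type u) [CommRing B₀] [IsRegularLocalRing B₀] [IsAdicComplete (maximalIdeal B₀) B₀]
    [Algebra (ResidueField A) B₀] :
    ∃ (B : Type u) (_ : CommRing B) (_ : IsLocalRing B) (_ : IsNoetherianRing B) (_ : Algebra A B)
      (_ : IsLocalHom (algebraMap A B)),
      IsAdicComplete (maximalIdeal B) B ∧ Module.Flat A B ∧
        Nonempty (ResidueField A ⊗[A] B ≃ₐ[ResidueField A] B₀) := by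
  classical
  let Â := AdicCompletion (maximalIdeal A) A
  have hfg : (maximalIdeal A).FG := IsNoetherian.noetherian _
  have hne : maximalIdeal A ≠ ⊤ := Ideal.IsPrime.ne_top inferInstance
  haveI : IsNoetherianRing Â := Groth.Agent.Lib.Helper83.isNoetherianRing_adicCompletion _
  have hmC : maximalIdeal Â = (maximalIdeal A).map (algebraMap A Â) :=
    AdicCompletion.maximalIdeal_eq_map
  haveI : IsAdicComplete (maximalIdeal Â) Â := AdicCompletion.isAdicComplete_of_fg hfg
  have hfgÂ : (maximalIdeal Â).FG := IsNoetherian.noetherian _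
  -- the augmentation of Â
  let ev : Â →+* ResidueField A := (AdicCompletion.evalOneₐ (maximalIdeal A)).toRingHom
  have hev : ∀ a : A, ev (algebraMap A Â a) = residue A a := fun a => rfl
  have hkev : RingHom.ker ev = maximalIdeal Â := by
    rw [hmC]
    exact AdicCompletion.ker_evalOneₐ_eq_map (maximalIdeal A) hfg
  let κ : ResidueField A →+* B₀ := algebraMap (ResidueField A) B₀
  have hκ : Function.Injective κ := κ.injective
  let εÂ : Â →+* B₀ := κ.comp ev
  have hkεÂ : RingHom.ker εÂ = maximalIdeal Â := by
    rw [← hkev]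
    exact RingHom.ker_comp_of_injective ev hκ
  -- Cohen presentation
  obtain ⟨Λ, _, n, f, hΛ, hf⟩ :=
    Groth.Agent.Lib.Helper88.CohenStruct.exists_surjective_mvPowerSeries Â hfgÂ
  have key : Groth.Agent.Lib.Helper15.FlatLift.Liftable Â B₀ εÂ := by
    haveI hΛloc : IsLocalRing Λ := by
      rcases hΛ with h | ⟨hdom, hdvr, -⟩
      · letI := h.toField
        infer_instance
      · infer_instance
    haveI hΛnoeth : IsNoetherianRing Λ := by
      rcases hΛ with h | ⟨hdom, hdvr, -⟩
      · letI := h.toField
        infer_instance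
      · infer_instance
    let P := MvPowerSeries (Fin n) Λ
    let εP : P →+* B₀ := εÂ.comp f
    have hkεP : RingHom.ker εP = maximalIdeal P := by
      have h1 : RingHom.ker εP = (maximalIdeal Â).comap f := by
        rw [← hkεÂ]; rfl
      have h2 : ((maximalIdeal Â).comap f).IsMaximal :=
        Ideal.comap_isMaximal_of_surjective f hf
      rw [h1]
      exact IsLocalRing.eq_maximalIdeal h2
    have hεX : ∀ i, εP (MvPowerSeries.X i) = 0 := by
      intro i
      rw [← RingHom.mem_ker, hkεP]
      exact Groth.Agent.Lib.Helper76.PSCRing.X_mem_maximalIdeal i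
    have hk0 : RingHom.ker (εP.comp (MvPowerSeries.C : Λ →+* P)) = maximalIdeal Λ := by
      ext x
      rw [RingHom.mem_ker, RingHom.comp_apply, ← RingHom.mem_ker, hkεP,
        Groth.Agent.Lib.Helper76.PSCRing.mem_maximalIdeal_iff, MvPowerSeries.constantCoeff_C]
    have base : Groth.Agent.Lib.Helper15.FlatLift.Liftable Λ B₀
        (εP.comp (MvPowerSeries.C : Λ →+* P)) := by
      rcases hΛ with h | ⟨hdom, hdvr, hcomp, p, hp, hm⟩
      · exact Groth.Agent.Lib.Helper15.FlatLift.Liftable.of_isField h _
      · haveI := hdom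
        haveI := hdvr
        haveI := hcomp
        exact Groth.Agent.Lib.Helper15.FlatLift.Liftable.of_cohenRing p hp hm _ hk0
    have hP : Groth.Agent.Lib.Helper15.FlatLift.Liftable P B₀ εP :=
      Groth.Agent.Lib.Helper15.FlatLift.Liftable.mvPowerSeries n εP hεX base
    -- pass to the quotient
    have hkne : RingHom.ker f ≠ ⊤ := RingHom.ker_ne_top f
    let e : P ⧸ RingHom.ker f ≃+* Â := RingHom.quotientKerEquivOfSurjective hf
    haveI : IsLocalRing (P ⧸ RingHom.ker f) := e.symm.isLocalRing
    have hQ : Groth.Agent.Lib.Helper15.FlatLift.Liftable (P ⧸ RingHom.ker f) B₀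
        (εÂ.comp (e : P ⧸ RingHom.ker f →+* Â)) := by
      refine Groth.Agent.Lib.Helper15.FlatLift.Liftable.quotient (RingHom.ker f) hkne _ ?_
      have : (εÂ.comp (e : P ⧸ RingHom.ker f →+* Â)).comp (Ideal.Quotient.mk (RingHom.ker f)) =
          εP := by
        ext x : 1
        change εÂ (e (Ideal.Quotient.mk _ x)) = εÂ (f x)
        rw [RingHom.quotientKerEquivOfSurjective_apply_mk]
      rw [this]
      exact hP
    have h3 := Groth.Agent.Lib.Helper15.FlatLift.Liftable.of_ringEquiv e.symm _ hQ
    have h4 : (εÂ.comp (e : P ⧸ RingHom.ker f →+* Â)).comp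
        (e.symm : Â →+* P ⧸ RingHom.ker f) = εÂ := by
      ext x : 1
      change εÂ (e (e.symm x)) = εÂ x
      rw [RingEquiv.apply_symm_apply]
    rwa [h4] at h3
  obtain ⟨B, _, _, _, g, π, hc, hfl, hloc, hs, hk, hcomp⟩ := key
  have hπg : ∀ x : Â, π (g x) = εÂ x := fun x => congrArg (fun h : Â →+* B₀ => h x) hcomp
  let gA : A →+* B := g.comp (algebraMap A Â)
  letI algB : Algebra A B := gA.toAlgebra
  have hgA : ∀ a : A, algebraMap A B a = g (algebraMap A Â a) := fun a => rfl
  have hlocA : IsLocalHom (algebraMap A B) := by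
    refine ⟨fun a ha => ?_⟩
    rw [hgA] at ha
    have h1 : IsUnit (algebraMap A Â a) := hloc.map_nonunit _ ha
    exact isUnit_of_map_unit (algebraMap A Â) a h1
  have hflA : Module.Flat A B :=
    RingHom.Flat.comp (RingHom.flat_algebraMap_iff.mpr inferInstance) hfl
  have hkA : RingHom.ker π = (maximalIdeal A).map (algebraMap A B) := by
    rw [hk, hmC, Ideal.map_map]; rfl
  refine ⟨B, inferInstance, inferInstance, inferInstance, algB, hlocA, hc, hflA, ?_⟩
  -- the isomorphism
  letI algA₀ : Algebra A B₀ := (κ.comp (algebraMap A (ResidueField A))).toAlgebra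
  haveI : IsScalarTower A (ResidueField A) B₀ := IsScalarTower.of_algebraMap_eq (fun _ => rfl)
  let πA : B →ₐ[A] B₀ :=
    { π with
      commutes' := fun a => by
        change π (g (algebraMap A Â a)) = κ (residue A a)
        rw [hπg]
        rfl }
  let Φ : ResidueField A ⊗[A] B →ₐ[ResidueField A] B₀ :=
    Algebra.TensorProduct.lift (Algebra.ofId (ResidueField A) B₀) πA
      (fun x y => Commute.all _ _)
  have hΦ : ∀ b : B, Φ (1 ⊗ₜ b) = π b := by
    intro b
    simp [Φ, πA]
  have hz : ∀ z : ResidueField A ⊗[A] B, ∃ b : B, z = 1 ⊗ₜ b := by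
    intro z
    induction z using TensorProduct.induction_on with
    | zero => exact ⟨0, by simp⟩
    | tmul x b =>
      obtain ⟨a, rfl⟩ := residue_surjective x
      refine ⟨a • b, ?_⟩
      rw [← TensorProduct.smul_tmul]
      congr 1
      rw [Algebra.smul_def, mul_one]
      rfl
    | add x y hx hy =>
      obtain ⟨b₁, rfl⟩ := hx
      obtain ⟨b₂, rfl⟩ := hy
      exact ⟨b₁ + b₂, (TensorProduct.tmul_add _ _ _).symm⟩
  refine ⟨AlgEquiv.ofBijective Φ ⟨?_, ?_⟩⟩
  · rw [injective_iff_map_eq_zero]
    intro z hzero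
    obtain ⟨b, rfl⟩ := hz z
    rw [hΦ] at hzero
    have hb : b ∈ (maximalIdeal A).map (algebraMap A B) := by
      rw [← hkA]; exact hzero
    -- elements of `𝔪B` die in `k ⊗ B`
    have hdie : ∀ b ∈ (maximalIdeal A).map (algebraMap A B),
        (1 : ResidueField A) ⊗ₜ[A] b = 0 := by
      intro b hb
      refine Submodule.span_induction ?_ ?_ ?_ ?_ hb
      · rintro _ ⟨a, ha, rfl⟩
        have h1 : algebraMap A B a = a • (1 : B) := by rw [Algebra.smul_def, mul_one]
        rw [h1, ← TensorProduct.smul_tmul]
        have h2 : a • (1 : ResidueField A) = 0 := by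
          rw [Algebra.smul_def, mul_one]
          exact (residue_eq_zero_iff a).mpr ha
        rw [h2, TensorProduct.zero_tmul]
      · exact TensorProduct.tmul_zero _ _
      · intro x y _ _ hx hy
        rw [TensorProduct.tmul_add, hx, hy, add_zero]
      · intro c x _ hx
        have h1 : (1 : ResidueField A) ⊗ₜ[A] (c • x) =
            ((1 : ResidueField A) ⊗ₜ[A] c) * ((1 : ResidueField A) ⊗ₜ[A] x) := by
          rw [Algebra.TensorProduct.tmul_mul_tmul, mul_one, smul_eq_mul]
        rw [h1, hx, mul_zero]
    exact hdie b hb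
  · intro y
    obtain ⟨b, rfl⟩ := hs y
    exact ⟨1 ⊗ₜ b, hΦ b⟩

end Groth.Agent.S4514
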