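import Groth.Statements.S4515
import Mathlib.RingTheory.AdicCompletion.Functoriality
import Mathlib.RingTheory.Flat.EquationalCriterion
-- import your own Groth.Agent.* helpers here

set_option autoImplicit false
universe u
open EGA41

namespace Groth.Agent.S4515

/-- Let A be a ring, J an ideal of A, and M, N two A-modules which are Hausdorff for the J-adic
topology; suppose moreover that N is J-adically complete and M is flat. Let u : N → M be A-linear.
If the induced map N/JN → M/JM is bijective (surjectivity and injectivity written out below), then u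
is bijective. -/
theorem result {A : Type u} [CommRing A] (J : Ideal A)
    {M N : Type u} [AddCommGroup M] [Module A M] [AddCommGroup N] [Module A N]
    [IsHausdorff J M] [IsAdicComplete J N] [Module.Flat A M] (u : N →ₗ[A] M)
    (hsurj : ∀ m : M, ∃ n : N, m - u n ∈ (J • ⊤ : Submodule A M))
    (hinj : ∀ n : N, u n ∈ (J • ⊤ : Submodule A M) → n ∈ (J • ⊤ : Submodule A N)) :
    Function.Bijective u := by
  classical
  -- surjectivity: Mathlib's successive-approximation lemma
  have hs : Function.Surjective u := by
    apply surjective_of_mkQ_comp_surjective (I := J)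
    intro y
    obtain ⟨m, rfl⟩ := Submodule.mkQ_surjective _ y
    obtain ⟨n, hn⟩ := hsurj m
    refine ⟨n, ?_⟩
    simp only [LinearMap.coe_comp, Function.comp_apply, Submodule.mkQ_apply]
    rw [eq_comm, Submodule.Quotient.eq]
    exact hn
  refine ⟨?_, hs⟩
  -- injectivity: `ker u ≤ J • ker u` by the equational criterion of flatness
  have hK : LinearMap.ker u ≤ J • LinearMap.ker u := by
    intro x hx
    have hx0 : u x = 0 := hx
    have hxJ : x ∈ (J • ⊤ : Submodule A N) := hinj x (by rw [hx0]; exact Submodule.zero_mem _)
    have hspan : (⊤ : Submodule A N) = Submodule.span A (Set.range (id : N → N)) := by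
      rw [Set.range_id, Submodule.span_univ]
    rw [hspan, Submodule.mem_ideal_smul_span_iff_exists_sum] at hxJ
    obtain ⟨a, ha, hax⟩ := hxJ
    -- the relation `∑ a i • u i = 0`
    have hrel : ∑ i : a.support, (a i) • u (i : N) = 0 := by
      have : u (a.sum fun i c => c • (id i : N)) = 0 := by rw [hax, hx0]
      rw [Finsupp.sum, map_sum] at this
      rw [← this, ← Finset.sum_coe_sort a.support]
      simp
    obtain ⟨k, c, y, hy1, hy2⟩ := Module.Flat.isTrivialRelation_of_sum_smul_eq_zero hrel
    choose z hz using fun j => hs (y j)
    -- elements of the kernel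
    have hmem : ∀ i : a.support, ((i : N) - ∑ j, c i j • z j) ∈ LinearMap.ker u := by
      intro i
      have hy1i : u (i : N) = ∑ j, c i j • y j := hy1 i
      rw [LinearMap.mem_ker, map_sub, map_sum, hy1i, sub_eq_zero]
      refine Finset.sum_congr rfl fun j _ => ?_
      rw [map_smul, hz]
    have hxsum : x = ∑ i : a.support, (a i) • ((i : N) - ∑ j, c i j • z j) := by
      have h1 : ∑ i : a.support, (a i) • (∑ j, c i j • z j) = 0 := by
        simp_rw [Finset.smul_sum, smul_smul]
        rw [Finset.sum_comm]
        refine Finset.sum_eq_zero fun j _ => ?_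
        rw [← Finset.sum_smul, hy2 j, zero_smul]
      simp_rw [smul_sub]
      rw [Finset.sum_sub_distrib, h1, sub_zero, ← hax, Finsupp.sum,
        ← Finset.sum_coe_sort a.support]
      simp
    rw [hxsum]
    exact Submodule.sum_mem _ fun i _ => Submodule.smul_mem_smul (ha i) (hmem i)
  have hpow : ∀ n : ℕ, LinearMap.ker u ≤ (J ^ n • ⊤ : Submodule A N) := by
    intro n
    have : ∀ n : ℕ, LinearMap.ker u ≤ J ^ n • LinearMap.ker u := by
      intro n
      induction n with
      | zero => simp
      | succ n ih =>
        calc LinearMap.ker u ≤ J • LinearMap.ker u := hK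
          _ ≤ J • (J ^ n • LinearMap.ker u) := Submodule.smul_mono le_rfl ih
          _ = J ^ (n + 1) • LinearMap.ker u := by rw [← Submodule.mul_smul, ← pow_succ']
    exact (this n).trans (Submodule.smul_mono le_rfl le_top)
  have hbot : LinearMap.ker u = ⊥ := by
    rw [eq_bot_iff, ← IsHausdorff.iInf_pow_smul (I := J) (M := N) inferInstance]
    exact le_iInf hpow
  exact LinearMap.ker_eq_bot.1 hbot

end Groth.Agent.S4515
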