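import Groth.Statements.S4516
import Mathlib.Algebra.CharP.Lemmas
-- import your own Groth.Agent.* helpers here

set_option autoImplicit false
universe u
open EGA41

namespace Groth.Agent.S4516

/-- Every `A`-derivation of `B` (char `p`) vanishes on `A[B^p]`. -/
theorem D_eq_zero_of_mem_pPowerSubalgebra (p : ℕ) [Fact p.Prime] {A B : Type u}
    [CommRing A] [CommRing B] [Algebra A B] [CharP B p] (x : B)
    (hx : x ∈ EGA41.pPowerSubalgebra p A B) : KaehlerDifferential.D A B x = 0 := by
  unfold EGA41.pPowerSubalgebra at hx
  induction hx using Algebra.adjoin_induction with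
  | mem x hx =>
    obtain ⟨b, rfl⟩ := hx
    rw [Derivation.leibniz_pow]
    have : ((p : ℕ) : B) = 0 := CharP.cast_eq_zero B p
    rw [← Nat.cast_smul_eq_nsmul B, this, zero_smul]
  | algebraMap r => exact Derivation.map_algebraMap _ r
  | add x y _ _ hx hy => rw [map_add, hx, hy, add_zero]
  | mul x y _ _ hx hy => rw [Derivation.leibniz, hx, hy, smul_zero, smul_zero, add_zero]

/-- Let p be a prime, B an A-algebra of characteristic p and A' an A-subalgebra of B contained in
A[B^p]. Then the canonical map between Ω_{B/A} and Ω_{B/A'} is bijective (every A-derivation of B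
vanishes on A[B^p]). -/
theorem result (p : ℕ) [Fact p.Prime] {A B : Type u}
    [CommRing A] [CommRing B] [Algebra A B] [CharP B p] (A' : Subalgebra A B)
    (hA' : A' ≤ EGA41.pPowerSubalgebra p A B) :
    Function.Bijective (KaehlerDifferential.map A A' B B) := by
  refine ⟨?_, KaehlerDifferential.map_surjective A A' B⟩
  -- the `A'`-derivation `B → Ω[B⁄A]`
  let D' : Derivation A' B (Ω[B⁄A]) :=
    { toFun := fun b => KaehlerDifferential.D A B b
      map_add' := fun x y => map_add _ x y
      map_smul' := fun a b => by
        show KaehlerDifferential.D A B ((a : B) * b) = (a : B) • KaehlerDifferential.D A B b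
        rw [Derivation.leibniz, D_eq_zero_of_mem_pPowerSubalgebra p (a : B) (hA' a.2), smul_zero,
          add_zero]
      map_one_eq_zero' := (KaehlerDifferential.D A B).map_one_eq_zero
      leibniz' := fun a b => (KaehlerDifferential.D A B).leibniz a b }
  let g : Ω[B⁄A'] →ₗ[B] Ω[B⁄A] := D'.liftKaehlerDifferential
  have hg : g ∘ₗ (KaehlerDifferential.map A A' B B) = LinearMap.id := by
    apply Derivation.liftKaehlerDifferential_unique
    ext b
    show g (KaehlerDifferential.map A A' B B (KaehlerDifferential.D A B b)) =
      KaehlerDifferential.D A B b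
    rw [KaehlerDifferential.map_D]
    exact D'.liftKaehlerDifferential_comp_D b
  exact Function.LeftInverse.injective (g := g) (fun x => by
    have := LinearMap.congr_fun hg x
    simpa using this)

end Groth.Agent.S4516
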