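import Groth.Statements.S4517
import Mathlib.Algebra.CharP.Lemmas
import Mathlib.RingTheory.Nilpotent.Lemmas
import Mathlib.RingTheory.Nilpotent.Basic
-- import your own Groth.Agent.* helpers here

set_option autoImplicit false
universe u
open EGA41

namespace Groth.Agent.S4517

/-- Let p be a prime, B an A-algebra of characteristic p, and suppose there is s ≥ 0 such that b^(p^s)
lies in the image of A for every b ∈ B. Then the kernel of the multiplication map B ⊗_A B → B is a
nil ideal. -/
theorem result (p : ℕ) [Fact p.Prime] {A B : Type u}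
    [CommRing A] [CommRing B] [Algebra A B] [CharP B p] (s : ℕ)
    (hpow : ∀ b : B, b ^ p ^ s ∈ Set.range (algebraMap A B)) :
    ∀ x ∈ KaehlerDifferential.ideal A B, IsNilpotent x := by
  intro x hx
  open TensorProduct in
  rcases subsingleton_or_nontrivial (B ⊗[A] B) with hsub | hnt
  · have : x = 0 := Subsingleton.elim _ _
    rw [this]; exact IsNilpotent.zero
  · have hp0 : ((p : ℕ) : B ⊗[A] B) = 0 := by
      have h1 : ((p : ℕ) : B) = 0 := CharP.cast_eq_zero B p
      have h2 : ((p : ℕ) : B ⊗[A] B) = (algebraMap B (B ⊗[A] B)) ((p : ℕ) : B) := by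
        rw [map_natCast]
      rw [h2, h1, map_zero]
    have : CharP (B ⊗[A] B) p := (CharP.charP_iff_prime_eq_zero (Fact.out : p.Prime)).2 hp0
    rw [← KaehlerDifferential.span_range_eq_ideal] at hx
    have hle : Ideal.span (Set.range fun s : B => (1 : B) ⊗ₜ[A] s - s ⊗ₜ[A] (1 : B)) ≤
        nilradical (B ⊗[A] B) := by
      rw [Ideal.span_le]
      rintro _ ⟨b, rfl⟩
      rw [SetLike.mem_coe, mem_nilradical]
      refine ⟨p ^ s, ?_⟩
      rw [sub_pow_char_pow]
      obtain ⟨a, ha⟩ := hpow b
      simp only [Algebra.TensorProduct.tmul_pow, one_pow]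
      rw [← ha, Algebra.algebraMap_eq_smul_one, TensorProduct.tmul_smul, TensorProduct.smul_tmul']
      exact sub_self _
    exact mem_nilradical.1 (hle hx)

end Groth.Agent.S4517
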