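import Groth.Statements.S4518
import Mathlib

set_option autoImplicit false
universe u
open EGA41


namespace Groth.Agent.S4518

open EGA41

/-- transfer of linear independence along a surjective change of scalars. -/
lemma li_transfer_surj {R R' M idx : Type*} [Ring R] [Ring R'] [AddCommGroup M] [Module R M]
    [Module R' M] (i : R → R') (hc : ∀ (r : R) (m : M), r • m = i r • m)
    (hi : Function.Surjective i) {v : idx → M} (h : LinearIndependent R v) :
    LinearIndependent R' v :=
  h.map_of_surjective_injective i (AddMonoidHom.id M) hi (fun _ hm => hm) (fun r m => hc r m)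

/-- transfer of linear independence along an injective change of scalars. -/
lemma li_transfer_inj {R R' M idx : Type*} [Ring R] [Ring R'] [AddCommGroup M] [Module R M]
    [Module R' M] (i : R → R') (hc : ∀ (r : R) (m : M), r • m = i r • m)
    (hi : ∀ r, i r = 0 → r = 0) {v : idx → M} (h : LinearIndependent R' v) :
    LinearIndependent R v :=
  h.map_of_injective_injective i (AddMonoidHom.id M) hi (fun _ hm => hm)
    (fun r m => (hc r m).symm)

/-- converse of the tower law for linear independence, given a spanning family downstairs. -/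
lemma li_of_tower {R S M ι ι' : Type*} [Ring R] [Ring S] [AddCommGroup M] [Module R S]
    [Module S M] [Module R M] [IsScalarTower R S M] {b : ι → S} {c : ι' → M}
    (hb : Submodule.span R (Set.range b) = ⊤)
    (h : LinearIndependent R (fun q : ι × ι' => b q.1 • c q.2)) : LinearIndependent S c := by
  classical
  rw [linearIndependent_iff'] at h ⊢
  intro s g hg j hj
  have hex : ∀ j, ∃ l : ι →₀ R, (l.sum fun i a => a • b i) = g j := by
    intro j
    have : g j ∈ Submodule.span R (Set.range b) := hb ▸ Submodule.mem_top
    exact Finsupp.mem_span_range_iff_exists_finsupp.mp this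
  choose l hl using hex
  set t : Finset ι := s.sup (fun j => (l j).support) with ht
  have e1 : ∀ j ∈ s, g j = ∑ i ∈ t, l j i • b i := by
    intro j hj
    rw [← hl j, Finsupp.sum]
    apply Finset.sum_subset
    · exact Finset.le_sup (f := fun j => (l j).support) hj
    · intro i _ hi
      rw [Finsupp.notMem_support_iff.mp hi, zero_smul]
  have e2 : ∑ q ∈ t ×ˢ s, (l q.2 q.1) • (b q.1 • c q.2) = 0 := by
    rw [Finset.sum_product_right]
    rw [← hg]
    apply Finset.sum_congr rfl
    intro j hj
    rw [e1 j hj, Finset.sum_smul]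
    apply Finset.sum_congr rfl
    intro i _
    rw [smul_assoc]
  have e3 := h (t ×ˢ s) (fun q => l q.2 q.1) e2
  rw [e1 j hj]
  apply Finset.sum_eq_zero
  intro i hi
  have := e3 (i, j) (Finset.mem_product.mpr ⟨hi, hj⟩)
  simp only at this
  rw [this, zero_smul]

/-- reduced exponent vectors on a sum type are pairs of reduced exponent vectors. -/
noncomputable def pairEquiv (p : ℕ) (ι κ : Type u) :
    ({e : ι →₀ ℕ // ∀ i, e i < p} × {f : κ →₀ ℕ // ∀ j, f j < p}) ≃
      {g : ι ⊕ κ →₀ ℕ // ∀ i, g i < p} where
  toFun pr := ⟨Finsupp.sumElim pr.1.1 pr.2.1, by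
    rintro (i | j)
    · simpa using pr.1.2 i
    · simpa using pr.2.2 j⟩
  invFun g := (⟨g.1.comapDomain Sum.inl Sum.inl_injective.injOn, fun i => by
      simpa using g.2 (Sum.inl i)⟩,
    ⟨g.1.comapDomain Sum.inr Sum.inr_injective.injOn, fun j => by
      simpa using g.2 (Sum.inr j)⟩)
  left_inv := by
    rintro ⟨⟨e, he⟩, ⟨f, hf⟩⟩
    ext <;> simp
  right_inv := by
    rintro ⟨g, hg⟩
    ext (i | j) <;> simp

end Groth.Agent.S4518

namespace Groth.Agent.S4518

/-- Let p be a prime and A → C → B rings of characteristic p with C → B injective and every p-th power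
of B in the image of A (so, identifying, B^p ⊆ A ⊆ C ⊆ B up to replacing A by its image); let x be a
family of elements of C and y a family of elements of B. (i) If x is a system of p-generators of C
over A and y one of B over C, then the family obtained by putting x (viewed in B) and y together is
a system of p-generators of B over A. (ii) If x is a p-basis of C over A, then y is p-independent
over C if and only if the combined family is p-independent over A. (The published statement only
asks B^p ⊆ C and reduces to B^p ⊆ A by enlarging A to A[B^p]; but p-independence of x in C over A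
refers to A[C^p], which can be smaller than A[B^p] — for A = 𝔽_p, C = 𝔽_p(t^p) ⊂ B = 𝔽_p(t), x =
(t^p), y = (t), x is a p-basis of C over A and y is p-independent over C while (t^p, t) is not
p-independent over A — so this row assumes B^p ⊆ A, the case the published proof treats.) -/
theorem result (p : ℕ) [Fact p.Prime] {A C B : Type u} [CommRing A] [CommRing C]
    [CommRing B] [Algebra A C] [Algebra C B] [Algebra A B] [IsScalarTower A C B] [CharP B p]
    (hinj : Function.Injective (algebraMap C B)) (hpow : ∀ b : B, b ^ p ∈ Set.range (algebraMap A B))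
    {ι κ : Type u} (x : ι → C) (y : κ → B) :
    (EGA41.IsPGenerating p A x → EGA41.IsPGenerating p C y →
      EGA41.IsPGenerating p A (Sum.elim (fun i => algebraMap C B (x i)) y)) ∧
    (EGA41.IsPBasis p A x →
      (EGA41.IsPIndependent p C y ↔ EGA41.IsPIndependent p A (Sum.elim (fun i => algebraMap C B (x i)) y))) := by

  classical
  -- the three p-power subalgebras are the images of the base rings
  have hSB : pPowerSubalgebra p A B = ⊥ := by
    rw [eq_bot_iff]
    refine Algebra.adjoin_le ?_
    rintro _ ⟨b, rfl⟩
    exact Algebra.mem_bot.mpr (hpow b)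
  have hTB : pPowerSubalgebra p C B = ⊥ := by
    rw [eq_bot_iff]
    refine Algebra.adjoin_le ?_
    rintro _ ⟨b, rfl⟩
    obtain ⟨a, ha⟩ := hpow b
    exact Algebra.mem_bot.mpr ⟨algebraMap A C a, by
      rw [← IsScalarTower.algebraMap_apply]; exact ha⟩
  have hSC : pPowerSubalgebra p A C = ⊥ := by
    rw [eq_bot_iff]
    refine Algebra.adjoin_le ?_
    rintro _ ⟨c, rfl⟩
    obtain ⟨a, ha⟩ := hpow (algebraMap C B c)
    refine Algebra.mem_bot.mpr ⟨a, hinj ?_⟩
    rw [← IsScalarTower.algebraMap_apply, ha, map_pow]
  -- the combined monomials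
  have hmono : ∀ (e : {e : ι →₀ ℕ // ∀ i, e i < p}) (f : {f : κ →₀ ℕ // ∀ j, f j < p}),
      pMonomial (Sum.elim (fun i => algebraMap C B (x i)) y)
        (Groth.Agent.S4518.pairEquiv p ι κ (e, f)).1 = pMonomial x e.1 • pMonomial y f.1 := by
    intro e f
    simp only [pMonomial, Groth.Agent.S4518.pairEquiv, Equiv.coe_fn_mk]
    rw [Finsupp.prod_sumElim, Algebra.smul_def, map_finsuppProd]
    simp [Function.comp_def]
  -- change of scalars maps
  have hSCmem : ∀ s : pPowerSubalgebra p A C, ∃ a : A, algebraMap A C a = s.1 := by
    intro s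
    have : s.1 ∈ (⊥ : Subalgebra A C) := hSC ▸ s.2
    exact Algebra.mem_bot.mp this
  have hSBmem : ∀ s : pPowerSubalgebra p A B, ∃ a : A, algebraMap A B a = s.1 := by
    intro s
    have : s.1 ∈ (⊥ : Subalgebra A B) := hSB ▸ s.2
    exact Algebra.mem_bot.mp this
  have hTBmem : ∀ s : pPowerSubalgebra p C B, ∃ c : C, algebraMap C B c = s.1 := by
    intro s
    have : s.1 ∈ (⊥ : Subalgebra C B) := hTB ▸ s.2
    exact Algebra.mem_bot.mp this
  let i₁ : C → pPowerSubalgebra p C B := fun c => algebraMap C _ c
  have hi₁c : ∀ (c : C) (m : B), c • m = i₁ c • m := fun c m => (algebraMap_smul _ c m).symm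
  have hi₁s : Function.Surjective i₁ := by
    intro t
    obtain ⟨c, hc⟩ := hTBmem t
    exact ⟨c, Subtype.ext hc⟩
  have hi₁i : ∀ c, i₁ c = 0 → c = 0 := by
    intro c hc
    have : algebraMap C B c = 0 := congrArg Subtype.val hc
    exact hinj (by rw [this, map_zero])
  let i₂ : pPowerSubalgebra p A C → pPowerSubalgebra p A B := fun s =>
    ⟨algebraMap C B s.1, by
      obtain ⟨a, ha⟩ := hSCmem s
      rw [← ha, ← IsScalarTower.algebraMap_apply]
      exact Subalgebra.algebraMap_mem _ a⟩
  have hi₂c : ∀ (s : pPowerSubalgebra p A C) (m : B), s • m = i₂ s • m := by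
    intro s m
    change (s.1 : C) • m = algebraMap C B s.1 * m
    rw [Algebra.smul_def]
  have hi₂s : Function.Surjective i₂ := by
    intro t
    obtain ⟨a, ha⟩ := hSBmem t
    refine ⟨algebraMap A _ a, Subtype.ext ?_⟩
    change algebraMap C B (algebraMap A C a) = t.1
    rw [← IsScalarTower.algebraMap_apply, ha]
  have hi₂i : ∀ s, i₂ s = 0 → s = 0 := by
    intro s hs
    have : algebraMap C B s.1 = 0 := congrArg Subtype.val hs
    refine Subtype.ext (hinj ?_)
    change algebraMap C B s.1 = algebraMap C B 0
    rw [this, map_zero]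
  refine ⟨?_, ?_⟩
  · -- (i) generation
    intro hxg hyg
    unfold IsPGenerating at hxg hyg ⊢
    rw [eq_top_iff]
    rintro b -
    set N := Submodule.span (pPowerSubalgebra p A B)
      (Set.range fun e : {e : ι ⊕ κ →₀ ℕ // ∀ i, e i < p} =>
        pMonomial (Sum.elim (fun i => algebraMap C B (x i)) y) e.1) with hN
    have hNA : ∀ (a : A) (m : B), m ∈ N → a • m ∈ N := by
      intro a m hm
      have : a • m = (algebraMap A (pPowerSubalgebra p A B) a) • m := (algebraMap_smul _ a m).symm
      rw [this]
      exact N.smul_mem _ hm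
    have step1 : ∀ (f : {f : κ →₀ ℕ // ∀ j, f j < p}) (c : C), c • pMonomial y f.1 ∈ N := by
      intro f c
      have hc : c ∈ Submodule.span (pPowerSubalgebra p A C)
          (Set.range fun e : {e : ι →₀ ℕ // ∀ i, e i < p} => pMonomial x e.1) := hxg ▸ Submodule.mem_top
      induction hc using Submodule.span_induction with
      | mem c hc =>
        obtain ⟨e, rfl⟩ := hc
        rw [← hmono e f]
        exact Submodule.subset_span ⟨_, rfl⟩
      | zero => rw [zero_smul]; exact N.zero_mem
      | add c c' _ _ h1 h2 => rw [add_smul]; exact N.add_mem h1 h2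
      | smul s c _ h1 =>
        obtain ⟨a, ha⟩ := hSCmem s
        have : (s • c) • pMonomial y f.1 = a • (c • pMonomial y f.1) := by
          change ((s.1 : C) * c) • pMonomial y f.1 = _
          rw [← ha, ← Algebra.smul_def, smul_assoc]
        rw [this]
        exact hNA a _ h1
    have step2 : ∀ c : C, c • b ∈ N := by
      have hb : b ∈ Submodule.span (pPowerSubalgebra p C B)
          (Set.range fun f : {f : κ →₀ ℕ // ∀ j, f j < p} => pMonomial y f.1) := hyg ▸ Submodule.mem_top
      induction hb using Submodule.span_induction with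
      | mem b hb =>
        obtain ⟨f, rfl⟩ := hb
        exact step1 f
      | zero => intro c; rw [smul_zero]; exact N.zero_mem
      | add b b' _ _ h1 h2 => intro c; rw [smul_add]; exact N.add_mem (h1 c) (h2 c)
      | smul t b _ h1 =>
        intro c
        obtain ⟨c', hc'⟩ := hTBmem t
        have : c • (t • b) = (c * c') • b := by
          change c • ((t.1 : B) * b) = _
          rw [← hc', ← Algebra.smul_def, mul_smul]
        rw [this]
        exact h1 _
    have := step2 1
    rwa [one_smul] at this
  · -- (ii) independence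
    intro hxb
    obtain ⟨hxi, hxg⟩ := hxb
    unfold IsPIndependent at hxi ⊢
    unfold IsPGenerating at hxg
    have hre : LinearIndependent (pPowerSubalgebra p A B)
        (fun e : {e : ι ⊕ κ →₀ ℕ // ∀ i, e i < p} =>
          pMonomial (Sum.elim (fun i => algebraMap C B (x i)) y) e.1) ↔
        LinearIndependent (pPowerSubalgebra p A B)
          (fun q : {e : ι →₀ ℕ // ∀ i, e i < p} × {f : κ →₀ ℕ // ∀ j, f j < p} =>
            pMonomial x q.1.1 • pMonomial y q.2.1) := by
      refine (linearIndependent_equiv' (Groth.Agent.S4518.pairEquiv p ι κ) ?_).symm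
      funext q
      exact hmono q.1 q.2
    rw [hre]
    constructor
    · intro hy
      have h1 : LinearIndependent C (fun f : {f : κ →₀ ℕ // ∀ j, f j < p} => pMonomial y f.1) :=
        Groth.Agent.S4518.li_transfer_inj i₁ hi₁c hi₁i hy
      have h2 := linearIndependent_smul hxi h1
      exact Groth.Agent.S4518.li_transfer_surj i₂ hi₂c hi₂s h2
    · intro h
      have h2 : LinearIndependent (pPowerSubalgebra p A C)
          (fun q : {e : ι →₀ ℕ // ∀ i, e i < p} × {f : κ →₀ ℕ // ∀ j, f j < p} =>
            pMonomial x q.1.1 • pMonomial y q.2.1) :=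
        Groth.Agent.S4518.li_transfer_inj i₂ hi₂c hi₂i h
      have h1 : LinearIndependent C (fun f : {f : κ →₀ ℕ // ∀ j, f j < p} => pMonomial y f.1) :=
        Groth.Agent.S4518.li_of_tower (R := pPowerSubalgebra p A C) (S := C) (M := B)
          (b := fun e : {e : ι →₀ ℕ // ∀ i, e i < p} => pMonomial x e.1)
          (c := fun f : {f : κ →₀ ℕ // ∀ j, f j < p} => pMonomial y f.1) hxg h2
      exact Groth.Agent.S4518.li_transfer_surj i₁ hi₁c hi₁s h1

end Groth.Agent.S4518
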