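import Groth.Statements.S4519
-- import your own Groth.Agent.* helpers here
import Groth.Agent.Lib.Helper31.PBasis

set_option autoImplicit false
universe u
open EGA41

namespace Groth.Agent.S4519

/-- Let p be a prime, B a ring of characteristic p and A a subring of B with B^p ⊆ A (here: A → B
injective with every p-th power in its image; R → A → B with the image of R in B equal to the set of
p-th powers, so that R stands for B^p). If B admits a p-basis over A, then B is a formally smooth
A-algebra relative to R for the discrete topologies (square-zero liftings, as in the prelude's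
relative notion). -/
theorem result (p : ℕ) [Fact p.Prime] {R A B : Type u} [CommRing R] [CommRing A]
    [CommRing B] [Algebra R A] [Algebra A B] [Algebra R B] [IsScalarTower R A B] [CharP B p]
    (hinj : Function.Injective (algebraMap A B)) (hpow : ∀ b : B, b ^ p ∈ Set.range (algebraMap A B))
    (hR : Set.range (algebraMap R B) = Set.range fun b : B => b ^ p)
    {ι : Type u} (x : ι → B) (hx : EGA41.IsPBasis p A x) :
    EGA41.IsFormallySmoothRel R A B := by
  intro C _ _ _ _ J _ u₀ hu
  obtain ⟨u, hu⟩ := hu
  have hp : p.Prime := Fact.out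
  let e := Groth.Agent.Lib.Helper31.PBasis.equivOfPow (p := p) hinj hpow
  let φ : EGA41.pPowerSubalgebra p A B →+* C := (algebraMap A C).comp e.symm.toRingHom
  have hφ : ∀ a : A, φ (e a) = algebraMap A C a := by
    intro a
    change algebraMap A C (e.symm (e a)) = _
    rw [RingEquiv.symm_apply_apply]
  have hz : ∀ i, u (x i) ^ p = φ (Groth.Agent.Lib.Helper31.PBasis.xp p x A i) := by
    intro i
    obtain ⟨r, hr⟩ : x i ^ p ∈ Set.range (algebraMap R B) := by
      rw [hR]; exact ⟨x i, rfl⟩
    have h1 : Groth.Agent.Lib.Helper31.PBasis.xp p x A i = e (algebraMap R A r) := by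
      apply Subtype.ext
      change x i ^ p = algebraMap A B (algebraMap R A r)
      rw [← IsScalarTower.algebraMap_apply, hr]
    rw [h1, hφ, ← map_pow, ← hr, AlgHom.commutes, ← IsScalarTower.algebraMap_apply]
  obtain ⟨v, hv1, hv2⟩ := Groth.Agent.Lib.Helper31.PBasis.exists_ringHom hp.pos hx φ
    (fun i => u (x i)) hz
  have hvA : ∀ a : A, v (algebraMap A B a) = algebraMap A C a := by
    intro a
    have := hv1 (e a)
    rw [hφ] at this
    exact this
  refine ⟨{ v with commutes' := hvA }, ?_⟩
  have h2 : (Ideal.Quotient.mk J).comp v = u₀.toRingHom := by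
    refine Groth.Agent.Lib.Helper31.PBasis.ringHom_ext hx _ _ (fun a => ?_) (fun i => ?_)
    · obtain ⟨a, rfl⟩ := e.surjective a
      change Ideal.Quotient.mk J (v (algebraMap A B a)) = u₀ (algebraMap A B a)
      rw [hvA, u₀.commutes]
      rfl
    · change Ideal.Quotient.mk J (v (x i)) = u₀ (x i)
      rw [hv2]
      exact congr($hu (x i))
  ext b
  exact congr($h2 b)

end Groth.Agent.S4519
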