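import Groth.Statements.S4520
-- import your own Groth.Agent.* helpers here
import Groth.Agent.Lib.Helper31.PBasis
import Mathlib.Algebra.CharP.Reduced
import Mathlib.RingTheory.Kaehler.TensorProduct

set_option autoImplicit false
universe u
open EGA41

namespace Groth.Agent.S4520

open Groth.Agent.Lib.Helper31.PBasis

section Helpers

variable (p : ℕ) [Fact p.Prime] {R A B : Type u} [CommRing R] [CommRing A]
    [CommRing B] [IsReduced B] [Algebra R A] [Algebra A B] [Algebra R B] [IsScalarTower R A B] [CharP B p]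
    (hinj : Function.Injective (algebraMap A B)) (hpow : ∀ b : B, b ^ p ∈ Set.range (algebraMap A B))
    (hR : Set.range (algebraMap R B) = Set.range fun b : B => b ^ p)
    {Λ M : Type u} (x : Λ → B) (hx : EGA41.IsPBasis p A x) (x' : Λ → A)
    (hx' : ∀ i, algebraMap A B (x' i) = x i ^ p)
    (y : M → A) (hy : EGA41.IsPBasis p R y)

include hinj hR in
omit [Fact p.Prime] [IsReduced B] [CharP B p] in
theorem mem_range_of_pow (a : A) (b : B) (h : algebraMap A B a = b ^ p) :
    a ∈ Set.range (algebraMap R A) := by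
  have h1 : b ^ p ∈ Set.range (algebraMap R B) := by rw [hR]; exact ⟨b, rfl⟩
  obtain ⟨r, hr⟩ := h1
  refine ⟨r, hinj ?_⟩
  rw [← IsScalarTower.algebraMap_apply, hr, h]

include hinj hR in
omit [Fact p.Prime] [IsReduced B] [CharP B p] in
theorem hpowA (a : A) : a ^ p ∈ Set.range (algebraMap R A) :=
  mem_range_of_pow p hinj hR (a ^ p) (algebraMap A B a) (map_pow _ _ _)

omit [Fact p.Prime] [IsReduced B] [CharP B p] in
theorem pMonomial_mem {E : Type u} [CommRing E] (K : Subring E) {ι : Type u} (z : ι → E)
    (hz : ∀ i, z i ∈ K) (e : ι →₀ ℕ) : pMonomial z e ∈ K := by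
  unfold pMonomial Finsupp.prod
  exact Subring.prod_mem K (fun i _ => Subring.pow_mem K (hz i) _)

omit [Fact p.Prime] [IsReduced B] [CharP B p] in
theorem pMonomial_pow {E : Type u} [CommRing E] {ι : Type u} (z : ι → E) (e : ι →₀ ℕ) (n : ℕ) :
    pMonomial z e ^ n = pMonomial (fun i => z i ^ n) e := by
  unfold pMonomial Finsupp.prod
  rw [← Finset.prod_pow]
  refine Finset.prod_congr rfl (fun i _ => ?_)
  change (z i ^ e i) ^ n = (z i ^ n) ^ e i
  rw [← pow_mul, ← pow_mul, mul_comm]

include hinj hpow hR hx hx' hy in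
omit [IsReduced B] in
/-- A subring of `A` containing the `p`-th powers, the `x'` and the `y` is everything. -/
theorem subring_eq_top (K : Subring A) (hKp : ∀ a : A, a ^ p ∈ K) (hKx : ∀ i, x' i ∈ K)
    (hKy : ∀ j, y j ∈ K) (a : A) : a ∈ K := by
  -- Step 1: every `p`-th power of `B` comes from `K`
  have step1 : ∀ b : B, ∃ a ∈ K, algebraMap A B a = b ^ p := by
    intro b
    have hb : b ∈ Submodule.span (pPowerSubalgebra p A B)
        (Set.range fun e : {e : Λ →₀ ℕ // ∀ i, e i < p} => pMonomial x e.1) := by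
      rw [show Submodule.span (pPowerSubalgebra p A B)
        (Set.range fun e : {e : Λ →₀ ℕ // ∀ i, e i < p} => pMonomial x e.1) = ⊤ from hx.2]
      trivial
    induction hb using Submodule.span_induction with
    | mem b hb =>
      obtain ⟨e, rfl⟩ := hb
      refine ⟨pMonomial x' e.1, pMonomial_mem K x' hKx e.1, ?_⟩
      rw [map_pMonomial (algebraMap A B), pMonomial_pow]
      simp only [hx']
    | zero => exact ⟨0, K.zero_mem, by rw [map_zero, zero_pow (Fact.out : p.Prime).ne_zero]⟩
    | add b c _ _ hb hc =>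
      obtain ⟨a1, ha1, h1⟩ := hb
      obtain ⟨a2, ha2, h2⟩ := hc
      exact ⟨a1 + a2, K.add_mem ha1 ha2, by rw [map_add, h1, h2, add_pow_char]⟩
    | smul c b _ hb =>
      obtain ⟨a1, ha1, h1⟩ := hb
      obtain ⟨a2, ha2⟩ := mem_range_of_mem_pPowerSubalgebra hpow c
      refine ⟨a2 ^ p * a1, K.mul_mem (hKp a2) ha1, ?_⟩
      rw [map_mul, map_pow, h1, ha2, Algebra.smul_def, mul_pow]
      rfl
  -- Step 2: the image of `R` lies in `K`
  have step2 : ∀ r : pPowerSubalgebra p R A, (r : A) ∈ K := by
    intro r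
    obtain ⟨r₀, hr₀⟩ := mem_range_of_mem_pPowerSubalgebra (hpowA p hinj hR) r
    have h1 : algebraMap R B r₀ ∈ Set.range fun b : B => b ^ p := by rw [← hR]; exact ⟨r₀, rfl⟩
    obtain ⟨b, hb⟩ := h1
    obtain ⟨a, haK, ha⟩ := step1 b
    have : a = (r : A) := by
      apply hinj
      have hb' : b ^ p = algebraMap R B r₀ := hb
      rw [ha, hb', ← hr₀, ← IsScalarTower.algebraMap_apply]
    rw [← this]; exact haK
  -- Step 3
  have ha : a ∈ Submodule.span (pPowerSubalgebra p R A)
      (Set.range fun e : {e : M →₀ ℕ // ∀ i, e i < p} => pMonomial y e.1) := by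
    rw [show Submodule.span (pPowerSubalgebra p R A)
      (Set.range fun e : {e : M →₀ ℕ // ∀ i, e i < p} => pMonomial y e.1) = ⊤ from hy.2]
    trivial
  induction ha using Submodule.span_induction with
  | mem b hb =>
    obtain ⟨e, rfl⟩ := hb
    exact pMonomial_mem K y hKy e.1
  | zero => exact K.zero_mem
  | add b c _ _ hb hc => exact K.add_mem hb hc
  | smul c b _ hb =>
    rw [Algebra.smul_def]
    exact K.mul_mem (step2 c) hb

include hinj hpow hR hx hx' hy in
omit [IsReduced B] in
/-- derivations of `B` detecting `dy` -/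
theorem exists_derivation_B [DecidableEq M] (ν : M) :
    ∃ D : Derivation ℤ B B, ∀ μ, D (algebraMap A B (y μ)) = if μ = ν then 1 else 0 := by
  have hp : p.Prime := Fact.out
  have : CharP A p := (algebraMap A B).charP hinj p
  obtain ⟨E, hE⟩ := exists_algDerivation (A := R) (B := A) (L := B) hp hy
    (fun μ => if μ = ν then 1 else 0)
  obtain ⟨D, hD1, -⟩ := exists_derivation (A := A) (B := B) (x := x) hp hx (L := B)
    (fun c => E ((equivOfPow hinj hpow).symm c)) (by intro a b; simp)
    (by
      intro a b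
      rw [map_mul, Derivation.leibniz, Algebra.smul_def, Algebra.smul_def,
        algebraMap_equivOfPow_symm, algebraMap_equivOfPow_symm]
      rfl)
    (by
      intro i
      have h1 : (equivOfPow hinj hpow).symm (xp p x A i) = x' i := by
        apply hinj
        rw [algebraMap_equivOfPow_symm, hx']
        rfl
      obtain ⟨r, hr⟩ := mem_range_of_pow p hinj hR (x' i) (x i) (hx' i)
      change E _ = 0
      rw [h1, ← hr, Derivation.map_algebraMap])
    (fun _ => 0)
  refine ⟨D, fun μ => ?_⟩
  have h2 := hD1 ⟨algebraMap A B (y μ), Subalgebra.algebraMap_mem _ _⟩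
  change D (algebraMap A B (y μ)) = _ at h2
  rw [h2, ← hE μ]
  congr 1
  apply hinj
  rw [algebraMap_equivOfPow_symm]

include hinj hR hx hx' hy in
/-- derivations of `A` (with values in `B`) detecting `dx'` -/
theorem exists_derivation_A [DecidableEq Λ] (ν : Λ) :
    ∃ D : Derivation ℤ A B, ∀ μ, D (x' μ) = if μ = ν then 1 else 0 := by
  have hp : p.Prime := Fact.out
  have : CharP A p := (algebraMap A B).charP hinj p
  obtain ⟨E, hE⟩ := exists_algDerivation (A := A) (B := B) (L := B) hp hx
    (fun μ => if μ = ν then 1 else 0)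
  have hfrob : ∀ b c : B, b ^ p = c ^ p → b = c := fun b c h => frobenius_inj B p h
  -- p-th roots
  have hroot : ∀ r : pPowerSubalgebra p R A, ∃ b : B, b ^ p = algebraMap A B (r : A) := by
    intro r
    obtain ⟨r₀, hr₀⟩ := mem_range_of_mem_pPowerSubalgebra (hpowA p hinj hR) r
    have h1 : algebraMap R B r₀ ∈ Set.range fun b : B => b ^ p := by rw [← hR]; exact ⟨r₀, rfl⟩
    obtain ⟨b, hb⟩ := h1
    refine ⟨b, ?_⟩
    have hb' : b ^ p = algebraMap R B r₀ := hb
    rw [hb', ← hr₀, ← IsScalarTower.algebraMap_apply]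
  choose ρ hρ using hroot
  have hρadd : ∀ r s, ρ (r + s) = ρ r + ρ s := by
    intro r s
    apply hfrob
    rw [add_pow_char, hρ, hρ, hρ]
    simp
  have hρmul : ∀ r s, ρ (r * s) = ρ r * ρ s := by
    intro r s
    apply hfrob
    rw [mul_pow, hρ, hρ, hρ]
    simp
  obtain ⟨D, hD1, -⟩ := exists_derivation (A := R) (B := A) (x := y) hp hy (L := B)
    (fun r => (E (ρ r)) ^ p) (by intro a b; simp only [hρadd, map_add, add_pow_char])
    (by
      intro a b
      simp only [hρmul, Derivation.leibniz, add_pow_char, smul_eq_mul, mul_pow, hρ,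
        Algebra.smul_def])
    (by
      intro i
      have h1 : ρ (xp p y R i) = algebraMap A B (y i) := by
        apply hfrob
        rw [hρ, ← map_pow]
        rfl
      change (E _) ^ p = 0
      rw [h1, Derivation.map_algebraMap, zero_pow hp.ne_zero])
    (fun _ => 0)
  refine ⟨D, fun μ => ?_⟩
  obtain ⟨r, hr⟩ := mem_range_of_pow p hinj hR (x' μ) (x μ) (hx' μ)
  have hmem : x' μ ∈ pPowerSubalgebra p R A := by
    rw [← hr]; exact Subalgebra.algebraMap_mem _ _
  have h2 := hD1 ⟨x' μ, hmem⟩
  change D (x' μ) = _ at h2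
  have h3 : ρ ⟨x' μ, hmem⟩ = x μ := by
    apply hfrob
    rw [hρ, ← hx']
  rw [h2]
  change (E (ρ ⟨x' μ, hmem⟩)) ^ p = _
  rw [h3, hE]
  split_ifs
  · exact one_pow _
  · exact zero_pow hp.ne_zero

end Helpers


open TensorProduct in
/-- Let p be a prime, B a reduced ring of characteristic p, A a subring with B^p ⊆ A ⊆ B (here A → B
injective with all p-th powers in its image, and R → A → B with image in B the set of p-th powers, R
standing for B^p). Suppose B has a p-basis (x_λ) over A and A has a p-basis over R, and let x'_λ ∈ A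
map to x_λ^p. Then the elements 1 ⊗ d_{A/ℤ}(x'_λ) form a basis of the B-module Υ_{B/A}, the kernel
of B ⊗_A Ω_{A/ℤ} → Ω_{B/ℤ}. (The published statement also identifies Υ_{B/A} with the Frobenius
twist of Ω_{B/A}; this row states only the basis.) -/
theorem result (p : ℕ) [Fact p.Prime] {R A B : Type u} [CommRing R] [CommRing A]
    [CommRing B] [IsReduced B] [Algebra R A] [Algebra A B] [Algebra R B] [IsScalarTower R A B] [CharP B p]
    (hinj : Function.Injective (algebraMap A B)) (hpow : ∀ b : B, b ^ p ∈ Set.range (algebraMap A B))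
    (hR : Set.range (algebraMap R B) = Set.range fun b : B => b ^ p)
    {Λ M : Type u} (x : Λ → B) (hx : EGA41.IsPBasis p A x) (x' : Λ → A) (hx' : ∀ i, algebraMap A B (x' i) = x i ^ p)
    (y : M → A) (hy : EGA41.IsPBasis p R y) :
    ∃ b : Module.Basis Λ B (EGA41.imperfection ℤ A B),
      ∀ i, (b i : B ⊗[A] Ω[A⁄ℤ]) = (1 : B) ⊗ₜ[A] KaehlerDifferential.D ℤ A (x' i) := by
  classical
  have hp : p.Prime := Fact.out
  have hcharA : CharP A p := (algebraMap A B).charP hinj p
  -- the two families
  let gx : (Λ →₀ B) →ₗ[B] B ⊗[A] Ω[A⁄ℤ] :=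
    Finsupp.linearCombination B (fun i => (1 : B) ⊗ₜ[A] KaehlerDifferential.D ℤ A (x' i))
  let gy : (M →₀ B) →ₗ[B] B ⊗[A] Ω[A⁄ℤ] :=
    Finsupp.linearCombination B (fun j => (1 : B) ⊗ₜ[A] KaehlerDifferential.D ℤ A (y j))
  -- (a) generation
  have hgen : ∀ ω : B ⊗[A] Ω[A⁄ℤ], ω ∈ LinearMap.range gx ⊔ LinearMap.range gy := by
    set N := LinearMap.range gx ⊔ LinearMap.range gy with hN
    have hxN : ∀ i, (1 : B) ⊗ₜ[A] KaehlerDifferential.D ℤ A (x' i) ∈ N :=
      fun i => Submodule.mem_sup_left ⟨Finsupp.single i 1, by simp [gx]⟩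
    have hyN : ∀ j, (1 : B) ⊗ₜ[A] KaehlerDifferential.D ℤ A (y j) ∈ N :=
      fun j => Submodule.mem_sup_right ⟨Finsupp.single j 1, by simp [gy]⟩
    let K : Subring A :=
      { carrier := {a | (1 : B) ⊗ₜ[A] KaehlerDifferential.D ℤ A a ∈ N}
        mul_mem' := by
          intro a b ha hb
          change (1 : B) ⊗ₜ[A] KaehlerDifferential.D ℤ A (a * b) ∈ N
          rw [Derivation.leibniz, TensorProduct.tmul_add, TensorProduct.tmul_smul,
            TensorProduct.tmul_smul, ← algebraMap_smul B a, ← algebraMap_smul B b]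
          exact N.add_mem (N.smul_mem _ hb) (N.smul_mem _ ha)
        one_mem' := by
          change (1 : B) ⊗ₜ[A] KaehlerDifferential.D ℤ A 1 ∈ N
          rw [Derivation.map_one_eq_zero, TensorProduct.tmul_zero]
          exact N.zero_mem
        add_mem' := by
          intro a b ha hb
          change (1 : B) ⊗ₜ[A] KaehlerDifferential.D ℤ A (a + b) ∈ N
          rw [map_add, TensorProduct.tmul_add]
          exact N.add_mem ha hb
        zero_mem' := by
          change (1 : B) ⊗ₜ[A] KaehlerDifferential.D ℤ A 0 ∈ N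
          rw [map_zero, TensorProduct.tmul_zero]
          exact N.zero_mem
        neg_mem' := by
          intro a ha
          change (1 : B) ⊗ₜ[A] KaehlerDifferential.D ℤ A (-a) ∈ N
          rw [map_neg, TensorProduct.tmul_neg]
          exact N.neg_mem ha }
    have hK : ∀ a : A, a ∈ K := by
      refine subring_eq_top p hinj hpow hR x hx x' hx' y hy K ?_ hxN hyN
      intro a
      change (1 : B) ⊗ₜ[A] KaehlerDifferential.D ℤ A (a ^ p) ∈ N
      rw [Derivation.leibniz_pow, ← Nat.cast_smul_eq_nsmul A, CharP.cast_eq_zero, zero_smul,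
        TensorProduct.tmul_zero]
      exact N.zero_mem
    intro ω
    induction ω using TensorProduct.induction_on with
    | zero => exact N.zero_mem
    | add a b ha hb => exact N.add_mem ha hb
    | tmul b ω =>
      have h1 : b ⊗ₜ[A] ω = b • ((1 : B) ⊗ₜ[A] ω) := by
        rw [TensorProduct.smul_tmul', smul_eq_mul, mul_one]
      rw [h1]
      refine N.smul_mem _ ?_
      clear h1
      have hω : ω ∈ Submodule.span A (Set.range (KaehlerDifferential.D ℤ A)) := by
        rw [KaehlerDifferential.span_range_derivation]; trivial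
      induction hω using Submodule.span_induction with
      | mem ω hω =>
        obtain ⟨a, rfl⟩ := hω
        exact hK a
      | zero => rw [TensorProduct.tmul_zero]; exact N.zero_mem
      | add a b _ _ ha hb => rw [TensorProduct.tmul_add]; exact N.add_mem ha hb
      | smul a ω _ hω =>
        rw [TensorProduct.tmul_smul, ← algebraMap_smul B a]
        exact N.smul_mem _ hω
  -- (b) detecting dy in Ω[B⁄ℤ]
  have hgy : ∀ c : M →₀ B, KaehlerDifferential.mapBaseChange ℤ A B (gy c) = 0 → c = 0 := by
    intro c hc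
    ext ν
    obtain ⟨D, hD⟩ := exists_derivation_B p hinj hpow hR x hx x' hx' y hy ν
    have h1 := congr(D.liftKaehlerDifferential $hc)
    rw [map_zero] at h1
    rw [Finsupp.zero_apply, ← h1]
    simp only [gy, Finsupp.linearCombination_apply, Finsupp.sum, map_sum, map_smul,
      KaehlerDifferential.mapBaseChange_tmul, KaehlerDifferential.map_D,
      Derivation.liftKaehlerDifferential_comp_D, hD, one_smul, smul_eq_mul, mul_ite, mul_one,
      mul_zero]
    rw [Finset.sum_ite_eq']
    split_ifs with h
    · rfl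
    · exact (Finsupp.notMem_support_iff.mp h)
  -- (c) detecting dx' in B ⊗ Ω[A⁄ℤ]
  have hgx : Function.Injective gx := by
    rw [← LinearMap.ker_eq_bot, LinearMap.ker_eq_bot']
    intro c hc
    ext ν
    obtain ⟨D, hD⟩ := exists_derivation_A p hinj hR x hx x' hx' y hy ν
    have h1 := congr(LinearMap.liftBaseChange B D.liftKaehlerDifferential $hc)
    rw [map_zero] at h1
    rw [Finsupp.zero_apply, ← h1]
    simp only [gx, Finsupp.linearCombination_apply, Finsupp.sum, map_sum, map_smul,
      LinearMap.liftBaseChange_tmul, Derivation.liftKaehlerDifferential_comp_D, hD,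
      smul_eq_mul, mul_ite, mul_one, mul_zero]
    rw [Finset.sum_ite_eq']
    split_ifs with h
    · rfl
    · exact (Finsupp.notMem_support_iff.mp h)
  -- the kernel is the range of gx
  have hker : LinearMap.range gx = EGA41.imperfection ℤ A B := by
    apply le_antisymm
    · rintro _ ⟨c, rfl⟩
      change KaehlerDifferential.mapBaseChange ℤ A B (gx c) = 0
      simp only [gx, Finsupp.linearCombination_apply, Finsupp.sum, map_sum, map_smul,
        KaehlerDifferential.mapBaseChange_tmul, KaehlerDifferential.map_D, hx', one_smul]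
      refine Finset.sum_eq_zero (fun i _ => ?_)
      rw [Derivation.leibniz_pow, ← Nat.cast_smul_eq_nsmul B, CharP.cast_eq_zero, zero_smul,
        smul_zero]
    · intro ω hω
      obtain ⟨_, ⟨c, rfl⟩, _, ⟨c', rfl⟩, hsum⟩ := Submodule.mem_sup.mp (hgen ω)
      have h0 : KaehlerDifferential.mapBaseChange ℤ A B (gx c) = 0 := by
        simp only [gx, Finsupp.linearCombination_apply, Finsupp.sum, map_sum, map_smul,
          KaehlerDifferential.mapBaseChange_tmul, KaehlerDifferential.map_D, hx', one_smul]
        refine Finset.sum_eq_zero (fun i _ => ?_)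
        rw [Derivation.leibniz_pow, ← Nat.cast_smul_eq_nsmul B, CharP.cast_eq_zero, zero_smul,
          smul_zero]
      have h1 : KaehlerDifferential.mapBaseChange ℤ A B (gy c') = 0 := by
        have h2 : KaehlerDifferential.mapBaseChange ℤ A B ω = 0 := hω
        rw [← hsum, map_add, h0, zero_add] at h2
        exact h2
      rw [hgy c' h1, map_zero, add_zero] at hsum
      exact ⟨c, hsum⟩
  let e : (Λ →₀ B) ≃ₗ[B] EGA41.imperfection ℤ A B :=
    (LinearEquiv.ofInjective gx hgx).trans (LinearEquiv.ofEq _ _ hker)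
  refine ⟨Module.Basis.ofRepr e.symm, fun i => ?_⟩
  change ((e (Finsupp.single i 1) : EGA41.imperfection ℤ A B) : B ⊗[A] Ω[A⁄ℤ]) = _
  change gx (Finsupp.single i 1) = _
  simp [gx]

end Groth.Agent.S4520
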