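import Groth.Statements.S4521
import Groth.Agent.Lib.Helper13.Admissible
import Groth.Agent.S2468

set_option autoImplicit false
universe u
open EGA41

namespace Groth.Agent.S4521

/-- Let k ⊆ K be fields of characteristic p > 0 and (x_α) a family of elements of K. Then (x_α) is
p-independent over k if and only if, for every α, x_α does not lie in the subfield generated over k
by K^p and the x_β with β ≠ α. -/
theorem result (p : ℕ) [Fact p.Prime] {k K : Type u} [Field k] [Field K]
    [Algebra k K] [CharP K p] {ι : Type u} (x : ι → K) :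
    EGA41.IsPIndependent p k x ↔
      ∀ a : ι, x a ∉ IntermediateField.adjoin k ((Set.range fun y : K => y ^ p) ∪ x '' {b | b ≠ a}) := by
  classical
  rw [(Groth.Agent.S2468.result p (k := k) (K := K) x).1]
  -- the intermediate field `F a`
  set Fa : ι → IntermediateField k K := fun a =>
    IntermediateField.adjoin k ((Set.range fun y : K => y ^ p) ∪ x '' {b | b ≠ a}) with hFa
  -- differentials of elements of `F a` lie in the span of the `d x_b`, `b ≠ a`
  have hspan : ∀ a : ι, ∀ z ∈ Fa a, KaehlerDifferential.D k K z ∈
      Submodule.span K ((fun i => KaehlerDifferential.D k K (x i)) '' (Set.univ \ {a})) := by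
    intro a z hz
    induction hz using IntermediateField.adjoin_induction with
    | mem y hy =>
      rcases hy with ⟨w, rfl⟩ | ⟨b, hb, rfl⟩
      · rw [Derivation.leibniz_pow]
        have : ((p : ℕ) : K) = 0 := CharP.cast_eq_zero K p
        rw [← Nat.cast_smul_eq_nsmul K, this, zero_smul]
        exact Submodule.zero_mem _
      · exact Submodule.subset_span ⟨b, ⟨Set.mem_univ _, hb⟩, rfl⟩
    | algebraMap r =>
      rw [Derivation.map_algebraMap]
      exact Submodule.zero_mem _
    | add y z _ _ hy hz => rw [map_add]; exact Submodule.add_mem _ hy hz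
    | inv y _ hy =>
      rw [Derivation.leibniz_inv]
      exact Submodule.smul_mem _ _ hy
    | mul y z _ _ hy hz =>
      rw [Derivation.leibniz]
      exact Submodule.add_mem _ (Submodule.smul_mem _ _ hz) (Submodule.smul_mem _ _ hy)
  rw [linearIndependent_iff_notMem_span]
  refine forall_congr' fun a => not_congr ?_
  constructor
  · -- `d x_a ∈ span` ⇒ `x_a ∈ F a`
    intro h
    have h0 : KaehlerDifferential.D (Fa a) K (x a) = 0 := by
      have h1 : KaehlerDifferential.map k (Fa a) K K (KaehlerDifferential.D k K (x a)) = 0 := by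
        have hle : Submodule.span K ((fun i => KaehlerDifferential.D k K (x i)) '' (Set.univ \ {a})) ≤
            LinearMap.ker ((KaehlerDifferential.map k (Fa a) K K).restrictScalars K) := by
          rw [Submodule.span_le]
          rintro _ ⟨b, ⟨-, hb⟩, rfl⟩
          show KaehlerDifferential.map k (Fa a) K K (KaehlerDifferential.D k K (x b)) = 0
          rw [KaehlerDifferential.map_D]
          have hxb : x b ∈ Fa a :=
            IntermediateField.subset_adjoin _ _ (Or.inr ⟨b, hb, rfl⟩)
          exact (KaehlerDifferential.D (Fa a) K).map_algebraMap (⟨x b, hxb⟩ : Fa a)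
        exact hle h
      rw [KaehlerDifferential.map_D] at h1
      exact h1
    have h2 := (Groth.Agent.Lib.Helper13.Admissible.D_eq_zero_iff p (k := Fa a) (x a)).mp h0
    have hle : EGA41.pPowerSubalgebra p (Fa a) K ≤ (⊥ : Subalgebra (Fa a) K) := by
      unfold EGA41.pPowerSubalgebra
      rw [Algebra.adjoin_le_iff]
      rintro _ ⟨y, rfl⟩
      exact ⟨⟨y ^ p, IntermediateField.subset_adjoin _ _ (Or.inl ⟨y, rfl⟩)⟩, rfl⟩
    obtain ⟨c, hc⟩ := hle h2
    rw [← hc]
    exact c.2
  · intro h
    exact hspan a (x a) h

end Groth.Agent.S4521
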