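import Groth.Statements.S4522
import Groth.Agent.Lib.Helper13.SepDiff3
open Groth.Agent.Lib.Helper13.SepDiff Groth.Agent.Lib.Helper13.PBasis

set_option autoImplicit false
universe u
open EGA41

namespace Groth.Agent.S4522

/-- Let L be a field of characteristic p > 0 and K a subfield with L^p ⊆ K ⊆ L (here R → K → L with the
image of R in L the set of p-th powers and every p-th power of L in the image of K). Then the
canonical L-linear map L ⊗_K Ω_{K/L^p} → Ω_{L/L^p} is injective, so that 0 → Ω_{K/L^p} ⊗_K L →
Ω_{L/L^p} → Ω_{L/K} → 0 is exact: the imperfection module of L over K relative to L^p vanishes. -/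
theorem result (p : ℕ) [Fact p.Prime] {R K L : Type u} [Field R] [Field K] [Field L]
    [Algebra R K] [Algebra K L] [Algebra R L] [IsScalarTower R K L] [CharP L p]
    (hR : Set.range (algebraMap R L) = Set.range fun y : L => y ^ p)
    (hK : ∀ y : L, y ^ p ∈ Set.range (algebraMap K L)) :
    Function.Injective (KaehlerDifferential.mapBaseChange R K L) := by
  classical
  haveI : CharP K p := (RingHom.charP_iff _ (algebraMap K L).injective p).mpr inferInstance
  have hpowL : ∀ b : L, b ^ p ∈ Set.range (algebraMap R L) := by
    intro b
    rw [hR]
    exact ⟨b, rfl⟩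
  obtain ⟨B, hB⟩ := exists_pBasis (K := R) (E := K) p
  obtain ⟨bK, hbK⟩ := Groth.Agent.S2466.result p (Subtype.val : B → K) hB
  have hindK := linearIndependent_of_injective p (Subtype.val : B → K)
    (algebraMap R K).injective hB.1
  have hind : EGA41.IsPIndependent p R (fun t : B => algebraMap K L t.1) := by
    unfold EGA41.IsPIndependent EGA41.pMonomial
    rw [linearIndependent_iff']
    intro s γ hsum e he
    choose r hr using fun e => algebraMap_surjective_pPowerSubalgebra p hpowL (γ e)
    have h1 : ∑ e ∈ s, r e • (e.1.prod fun i n => (i : K) ^ n) = 0 := by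
      apply (algebraMap K L).injective
      rw [map_zero, ← hsum, map_sum]
      refine Finset.sum_congr rfl fun e _ => ?_
      rw [Algebra.smul_def, map_mul, ← IsScalarTower.algebraMap_apply, map_finsuppProd,
        ← hr e, Subalgebra.smul_def, smul_eq_mul]
      simp only [map_pow]
      rfl
    have h2 := linearIndependent_iff'.mp hindK s r h1 e he
    rw [← hr e, h2, map_zero]
  have hli := (Groth.Agent.S2468.result p (k := R) (K := L)
    (fun t : B => algebraMap K L t.1)).1.mp hind
  refine injective_of_basis_linearIndependent (bK.baseChange L) _ ?_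
  have hfun : (fun t : B => KaehlerDifferential.mapBaseChange R K L (bK.baseChange L t)) =
      fun t : B => KaehlerDifferential.D R L (algebraMap K L t.1) := by
    funext t
    rw [Module.Basis.baseChange_apply, KaehlerDifferential.mapBaseChange_tmul, one_smul, hbK,
      KaehlerDifferential.map_D]
  rw [hfun]
  exact hli

end Groth.Agent.S4522
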