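import Groth.Statements.S4524
import Mathlib.RingTheory.Smooth.Field
import Mathlib.RingTheory.Etale.Kaehler
import Mathlib.RingTheory.Kaehler.Polynomial
import Mathlib.RingTheory.Unramified.Field
import Mathlib.RingTheory.AlgebraicIndependent.TranscendenceBasis
import Mathlib.FieldTheory.Perfect
-- import your own Groth.Agent.* helpers here

set_option autoImplicit false
universe u
open EGA41

namespace Groth.Agent.S4524

open scoped IntermediateField.algebraAdjoinAdjoin TensorProduct in
/-- If `x : ι → K` is a transcendence basis of `K` over a field `k` of characteristic zero and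
`Ω[K⁄k]` vanishes, then `ι` is empty. -/
theorem isEmpty_of_subsingleton_kaehler {k K : Type u} [Field k] [CharZero k] [Field K] [Algebra k K]
    {ι : Type u} (x : ι → K) (hx : IsTranscendenceBasis k x) (hΩ : Subsingleton (Ω[K⁄k])) :
    IsEmpty ι := by
  classical
  have : CharZero K := charZero_of_injective_algebraMap (algebraMap k K).injective
  let A0 := Algebra.adjoin k (Set.range x)
  let F := IntermediateField.adjoin k (Set.range x)
  let P := MvPolynomial ι k
  let e : P ≃ₐ[k] A0 := hx.1.aevalEquiv
  -- algebra structures
  let algPA0 : Algebra P A0 := e.toAlgHom.toRingHom.toAlgebra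
  let algPK : Algebra P K := ((algebraMap A0 K).comp (algebraMap P A0)).toAlgebra
  have : IsScalarTower P A0 K := IsScalarTower.of_algebraMap_eq (fun _ => rfl)
  have : IsScalarTower k P A0 := IsScalarTower.of_algebraMap_eq (fun r => (e.commutes r).symm)
  have : IsScalarTower k P K := IsScalarTower.of_algebraMap_eq (fun r => by
    show algebraMap k K r = algebraMap A0 K (algebraMap P A0 (algebraMap k P r))
    rw [← IsScalarTower.algebraMap_apply k P A0, ← IsScalarTower.algebraMap_apply k A0 K])
  -- formal étaleness
  have hF : Algebra.IsAlgebraic F K := hx.isAlgebraic_field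
  have : CharZero F := charZero_of_injective_algebraMap (algebraMap k F).injective
  have : Algebra.IsSeparable F K := inferInstance
  have : Algebra.FormallyEtale F K := Algebra.FormallyEtale.of_isSeparable F K
  have : Algebra.FormallyEtale A0 F := Algebra.FormallyEtale.of_isLocalization (nonZeroDivisors A0)
  have : Algebra.FormallyEtale A0 K := Algebra.FormallyEtale.comp A0 F K
  let e' : P ≃ₐ[P] A0 := { e.toRingEquiv with commutes' := fun r => rfl }
  have : Algebra.FormallyEtale P A0 := Algebra.FormallyEtale.of_equiv e'
  have : Algebra.FormallyEtale P K := Algebra.FormallyEtale.comp P A0 K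
  -- the base-changed basis
  let E : K ⊗[P] Ω[P⁄k] ≃ₗ[K] Ω[K⁄k] := KaehlerDifferential.tensorKaehlerEquivOfFormallyEtale k P K
  let b : Module.Basis ι K (K ⊗[P] Ω[P⁄k]) := (KaehlerDifferential.mvPolynomialBasis k ι).baseChange K
  refine ⟨fun i => ?_⟩
  have h0 : E (b i) = 0 := Subsingleton.elim _ _
  have h1 : b i = 0 := by simpa using h0
  exact b.ne_zero i h1

/-- Let k be a field of characteristic 0 and K an extension of k. Then Ω_{K/k} = 0 if and only if K is
an algebraic extension of k. -/
theorem result {k K : Type u} [Field k] [CharZero k] [Field K] [Algebra k K] :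
    Subsingleton (Ω[K⁄k]) ↔ Algebra.IsAlgebraic k K := by
  constructor
  · intro hΩ
    obtain ⟨ι, x, hx⟩ := exists_isTranscendenceBasis'.{u} k K
    rw [← hx.isEmpty_iff_isAlgebraic]
    exact isEmpty_of_subsingleton_kaehler x hx hΩ
  · intro halg
    have : Algebra.IsSeparable k K := inferInstance
    have : Algebra.FormallyUnramified k K := Algebra.FormallyUnramified.of_isSeparable k K
    exact Algebra.FormallyUnramified.subsingleton_kaehlerDifferential

end Groth.Agent.S4524
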