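import Groth.Statements.S4526
import Groth.Agent.Lib.Helper13.Cartier
import Groth.Agent.S2469
import Groth.Agent.S4525
open Groth.Agent.Lib.Helper13.Cartier Groth.Agent.Lib.Helper13.Fred

set_option autoImplicit false
universe u
open EGA41

namespace Groth.Agent.S4526

/-- Let k ⊆ K ⊆ L be three fields with L an extension of finite type of k. Then Ω_{L/k} and Ω_{K/k} are
finite-dimensional and rank_L Ω_{L/k} − rank_K Ω_{K/k} ≥ trdeg_K L. (The published statement also
gives the exact value trdeg_K L + d(L/K, k) and an equality criterion; this row states only the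
inequality.) -/
theorem result {k K L : Type u} [Field k] [Field K] [Field L]
    [Algebra k K] [Algebra K L] [Algebra k L] [IsScalarTower k K L] [Algebra.EssFiniteType k L] :
    Module.Finite L (Ω[L⁄k]) ∧ Module.Finite K (Ω[K⁄k]) ∧
      (Cardinal.toNat (Algebra.trdeg K L) : ℤ) ≤ (Module.finrank L (Ω[L⁄k]) : ℤ) - Module.finrank K (Ω[K⁄k]) := by
  haveI : Algebra.EssFiniteType K L := Algebra.EssFiniteType.of_comp k K L
  obtain ⟨hΩ, -, -⟩ := Groth.Agent.S2469.result (K := k) (L := L)
  obtain ⟨hΩK, hΥ, hle⟩ := Groth.Agent.S4525.result (k := k) (K := K) (L := L)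
  haveI := hΩ
  haveI : Module.Finite L (LinearMap.ker (KaehlerDifferential.mapBaseChange k K L)) := hΥ
  have hsrc : Module.Finite L (TensorProduct K L (Ω[K⁄k])) := by
    haveI : Module.Finite L (TensorProduct K L (Ω[K⁄k]) ⧸
        LinearMap.ker (KaehlerDifferential.mapBaseChange k K L)) :=
      Module.Finite.equiv (KaehlerDifferential.mapBaseChange k K L).quotKerEquivRange.symm
    exact Module.Finite.of_submodule_quotient
      (LinearMap.ker (KaehlerDifferential.mapBaseChange k K L))
  haveI := hsrc
  have hK : Module.Finite K (Ω[K⁄k]) :=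
    Module.Finite.of_finite_tensorProduct_of_faithfullyFlat L
  refine ⟨hΩ, hK, ?_⟩
  have hidx := LinearMap.index_eq_of_finiteDimensional
    (f := KaehlerDifferential.mapBaseChange k K L)
  rw [index_mapBaseChange, Module.finrank_baseChange] at hidx
  have hle' : (Cardinal.toNat (Algebra.trdeg K L) : ℤ) ≤ (Module.finrank L (Ω[L⁄K]) : ℤ) -
      Module.finrank L (LinearMap.ker (KaehlerDifferential.mapBaseChange k K L)) := hle
  linarith

end Groth.Agent.S4526
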