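import Groth.Statements.S4528
-- import your own Groth.Agent.* helpers here
import Mathlib.RingTheory.AdicCompletion.Functoriality
import Mathlib.RingTheory.AdicCompletion.Completeness
import Mathlib.RingTheory.Kaehler.Basic
import Mathlib.LinearAlgebra.TensorProduct.Quotient

set_option autoImplicit false
universe u
open EGA41

namespace Groth.Agent.S4528

open TensorProduct

/-- finite powers of a precomplete ring are precomplete -/
theorem isPrecomplete_pi {R : Type*} [CommRing R] (I : Ideal R) [IsPrecomplete I R]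
    (ι : Type*) [Finite ι] : IsPrecomplete I (ι → R) := by
  classical
  have := Fintype.ofFinite ι
  refine ⟨fun f hf => ?_⟩
  have hproj : ∀ (n : ℕ) (x : ι → R), x ∈ (I ^ n • ⊤ : Submodule R (ι → R)) → ∀ i,
      x i ∈ (I ^ n • ⊤ : Submodule R R) := by
    intro n x hx i
    have h1 : (LinearMap.proj i : (ι → R) →ₗ[R] R) x ∈
        (I ^ n • ⊤ : Submodule R (ι → R)).map (LinearMap.proj i) := Submodule.mem_map_of_mem hx
    rw [Submodule.map_smul''] at h1
    exact Submodule.smul_mono le_rfl le_top h1
  have hcomp : ∀ i, ∃ L : R, ∀ n, f n i ≡ L [SMOD (I ^ n • ⊤ : Submodule R R)] := by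
    intro i
    refine IsPrecomplete.prec' (I := I) (fun n => f n i) ?_
    intro m n hmn
    have h1 := hf hmn
    rw [SModEq.sub_mem] at h1 ⊢
    exact hproj m _ h1 i
  choose L hL using hcomp
  refine ⟨L, fun n => ?_⟩
  rw [SModEq.sub_mem]
  have h2 : f n - L = ∑ i, (f n i - L i) • (Pi.single i (1 : R) : ι → R) := by
    ext j
    simp [Finset.sum_apply, Pi.single_apply]
  rw [h2]
  refine Submodule.sum_mem _ (fun i _ => ?_)
  have h3 : f n i - L i ∈ I ^ n := by
    have := hL i n
    rw [SModEq.sub_mem] at this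
    simpa using this
  exact Submodule.smul_mem_smul h3 trivial


open IsLocalRing in
/-- Let k be a field (any characteristic) and A a complete Noetherian local k-algebra whose residue
field K is an extension of finite type of k. Then the completed module of differentials, i.e. the
𝔪-adic completion of Ω_{A/k}, is an A-module of finite type. -/
theorem result {k A : Type u} [Field k] [CommRing A] [IsLocalRing A]
    [IsNoetherianRing A] [IsAdicComplete (maximalIdeal A) A] [Algebra k A]
    [Algebra.EssFiniteType k (ResidueField A)] :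
    Module.Finite A (AdicCompletion (maximalIdeal A) (Ω[A⁄k])) := by
  classical
  set 𝔪 := maximalIdeal A with h𝔪
  -- Step 1 : `κ ⊗ Ω` is finite
  have hsurj : Function.Surjective (algebraMap A (ResidueField A)) := IsLocalRing.residue_surjective
  have hfin1 : Module.Finite A (ResidueField A ⊗[A] Ω[A⁄k]) := by
    have hex := KaehlerDifferential.exact_kerCotangentToTensor_mapBaseChange k A (ResidueField A) hsurj
    have hs := KaehlerDifferential.mapBaseChange_surjective k A (ResidueField A) hsurj
    have : Module.Finite A (RingHom.ker (algebraMap A (ResidueField A))).Cotangent :=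
      Module.Finite.of_surjective _ (Ideal.toCotangent_surjective _)
    have hr : Module.Finite A (LinearMap.range (KaehlerDifferential.kerCotangentToTensor k A
        (ResidueField A))) := Module.Finite.range _
    have : Module.Finite A (ResidueField A) :=
      Module.Finite.of_surjective (Algebra.linearMap A (ResidueField A)) hsurj
    have hΩ : Module.Finite A (Ω[ResidueField A⁄k]) := Module.Finite.trans (ResidueField A) _
    let g : ResidueField A ⊗[A] Ω[A⁄k] →ₗ[A] Ω[ResidueField A⁄k] :=
      (KaehlerDifferential.mapBaseChange k A (ResidueField A)).restrictScalars A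
    have hker : LinearMap.ker g = LinearMap.range (KaehlerDifferential.kerCotangentToTensor k A
        (ResidueField A)) := by
      ext x
      exact hex x
    have e := g.quotKerEquivOfSurjective hs
    rw [hker] at e
    have : Module.Finite A ((ResidueField A ⊗[A] Ω[A⁄k]) ⧸
        LinearMap.range (KaehlerDifferential.kerCotangentToTensor k A (ResidueField A))) :=
      Module.Finite.equiv e.symm
    exact Module.Finite.of_submodule_quotient
      (LinearMap.range (KaehlerDifferential.kerCotangentToTensor k A (ResidueField A)))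
  -- Step 2 : `Ω ⧸ 𝔪 Ω` is finite
  have hfin2 : Module.Finite A (Ω[A⁄k] ⧸ (𝔪 • ⊤ : Submodule A (Ω[A⁄k]))) := by
    have : Module.Finite A ((A ⧸ 𝔪) ⊗[A] Ω[A⁄k]) := hfin1
    exact Module.Finite.equiv (TensorProduct.quotTensorEquivQuotSMul (Ω[A⁄k]) 𝔪)
  obtain ⟨s, hs⟩ := hfin2.fg_top
  -- lift generators
  have hlift : ∀ q : Ω[A⁄k] ⧸ (𝔪 • ⊤ : Submodule A (Ω[A⁄k])), ∃ m : Ω[A⁄k],
      Submodule.Quotient.mk m = q := Submodule.Quotient.mk_surjective _
  choose lift hliftq using hlift
  let f : (s → A) →ₗ[A] AdicCompletion 𝔪 (Ω[A⁄k]) :=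
    Fintype.linearCombination A (fun q : s => AdicCompletion.of 𝔪 _ (lift q.1))
  have : IsPrecomplete 𝔪 (s → A) := isPrecomplete_pi 𝔪 s
  have hfg : 𝔪.FG := IsNoetherian.noetherian _
  have : IsHausdorff 𝔪 (AdicCompletion 𝔪 (Ω[A⁄k])) :=
    (AdicCompletion.isAdicComplete hfg).toIsHausdorff
  have hsurjf : Function.Surjective f := by
    apply surjective_of_mkQ_comp_surjective (I := 𝔪)
    intro y
    obtain ⟨y, rfl⟩ := Submodule.Quotient.mk_surjective _ y
    -- evaluate at level one
    obtain ⟨m, hm⟩ := Submodule.Quotient.mk_surjective _ (AdicCompletion.eval 𝔪 _ 1 y)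
    have h1 : y - AdicCompletion.of 𝔪 _ m ∈ (𝔪 • ⊤ : Submodule A (AdicCompletion 𝔪 (Ω[A⁄k]))) := by
      have h1' : y - AdicCompletion.of 𝔪 _ m ∈
          (𝔪 ^ 1 • ⊤ : Submodule A (AdicCompletion 𝔪 (Ω[A⁄k]))) := by
        rw [AdicCompletion.pow_smul_top_eq_ker_eval hfg, LinearMap.mem_ker, map_sub,
          AdicCompletion.eval_of, Submodule.mkQ_apply, ← hm]
        exact sub_self _
      rwa [pow_one] at h1' 
    -- coefficients
    let g₀ : (s → A) →ₗ[A] Ω[A⁄k] ⧸ (𝔪 • ⊤ : Submodule A (Ω[A⁄k])) :=
      Fintype.linearCombination A (fun q : s => q.1)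
    have hg₀ : LinearMap.range g₀ = ⊤ := by
      rw [Fintype.range_linearCombination, Subtype.range_coe_subtype]
      exact hs
    obtain ⟨a, ha⟩ : (Submodule.Quotient.mk m : Ω[A⁄k] ⧸ (𝔪 • ⊤ : Submodule A (Ω[A⁄k]))) ∈
        LinearMap.range g₀ := by rw [hg₀]; trivial
    let F : (s → A) →ₗ[A] Ω[A⁄k] := Fintype.linearCombination A (fun q : s => lift q.1)
    have hfF : ∀ a, f a = AdicCompletion.of 𝔪 _ (F a) := by
      intro a
      simp only [f, F, Fintype.linearCombination_apply, map_sum, map_smul]
    have hgF : ∀ a, g₀ a = Submodule.Quotient.mk (F a) := by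
      intro a
      simp only [g₀, F, Fintype.linearCombination_apply]
      rw [← Submodule.mkQ_apply, map_sum]
      refine Finset.sum_congr rfl (fun q _ => ?_)
      rw [map_smul, Submodule.mkQ_apply, hliftq]
    have h3 : m - F a ∈ (𝔪 • ⊤ : Submodule A (Ω[A⁄k])) := by
      rw [← Submodule.Quotient.mk_eq_zero, Submodule.Quotient.mk_sub, ← hgF, ha, sub_self]
    have h4 : AdicCompletion.of 𝔪 _ m - f a ∈
        (𝔪 • ⊤ : Submodule A (AdicCompletion 𝔪 (Ω[A⁄k]))) := by
      rw [hfF, ← map_sub]
      have h5 : AdicCompletion.of 𝔪 (Ω[A⁄k]) (m - F a) ∈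
          (𝔪 • ⊤ : Submodule A (Ω[A⁄k])).map (AdicCompletion.of 𝔪 (Ω[A⁄k])) :=
        Submodule.mem_map_of_mem h3
      rw [Submodule.map_smul''] at h5
      exact Submodule.smul_mono le_rfl le_top h5
    refine ⟨a, ?_⟩
    rw [LinearMap.comp_apply, Submodule.mkQ_apply, eq_comm, ← sub_eq_zero,
      ← Submodule.Quotient.mk_sub, Submodule.Quotient.mk_eq_zero]
    have : y - f a = (y - AdicCompletion.of 𝔪 _ m) + (AdicCompletion.of 𝔪 _ m - f a) := by abel
    rw [this]
    exact Submodule.add_mem _ h1 h4
  exact Module.Finite.of_surjective f hsurjf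

end Groth.Agent.S4528
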