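import Groth.Statements.S4529
import Mathlib.RingTheory.Nakayama
import Mathlib.RingTheory.FiniteType
import Mathlib.RingTheory.Nilpotent.Basic
-- import your own Groth.Agent.* helpers here

set_option autoImplicit false
universe u
open EGA41

namespace Groth.Agent.S4529

/-- An endomorphism congruent to the identity modulo `J M` has a left inverse, under (i) or (ii). -/
theorem exists_leftInverse_of_congr_id {A : Type u} [CommRing A] {M : Type u} [AddCommGroup M]
    [Module A M] (J : Ideal A)
    (hJ : IsNilpotent J ∨ (J ≤ (⊥ : Ideal A).jacobson ∧ Module.Finite A M))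
    (φ : M →ₗ[A] M) (hφ : ∀ m, φ m - m ∈ (J • ⊤ : Submodule A M)) :
    ∃ ψ : M →ₗ[A] M, ψ ∘ₗ φ = LinearMap.id := by
  rcases hJ with hJ | ⟨hJ, hM⟩
  · -- nilpotent case
    obtain ⟨n, hn⟩ := hJ
    let ε : Module.End A M := φ - 1
    have hε : ∀ k : ℕ, LinearMap.range (ε ^ k) ≤ (J ^ k • ⊤ : Submodule A M) := by
      intro k
      induction k with
      | zero => simp
      | succ k ih =>
        rw [pow_succ', Module.End.mul_eq_comp, LinearMap.range_comp]
        refine (Submodule.map_mono ih).trans ?_
        rw [Submodule.map_smul'']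
        have h1 : Submodule.map ε ⊤ ≤ (J • ⊤ : Submodule A M) := by
          rintro _ ⟨m, -, rfl⟩
          exact hφ m
        refine (Submodule.smul_mono le_rfl h1).trans ?_
        rw [← Submodule.mul_smul, ← pow_succ]
    have hnil : IsNilpotent ε := by
      refine ⟨n, ?_⟩
      apply LinearMap.ext
      intro m
      have := hε n (LinearMap.mem_range_self _ m)
      rw [hn, Ideal.zero_eq_bot, Submodule.bot_smul] at this
      simpa using this
    have hunit : IsUnit (1 + ε) := hnil.isUnit_one_add
    have hφε : φ = 1 + ε := by simp [ε]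
    rw [← hφε] at hunit
    obtain ⟨ψ, hψ⟩ := hunit.exists_left_inv
    exact ⟨ψ, hψ⟩
  · -- Nakayama case
    have hsurj : Function.Surjective φ := by
      rw [← LinearMap.range_eq_top, eq_top_iff]
      apply Submodule.le_of_le_smul_of_le_jacobson_bot Module.Finite.fg_top hJ
      intro m _
      have : m = φ m - (φ m - m) := by abel
      rw [this]
      exact Submodule.sub_mem _ (Submodule.mem_sup_left (LinearMap.mem_range_self _ m))
        (Submodule.mem_sup_right (hφ m))
    have hbij := OrzechProperty.bijective_of_surjective_endomorphism φ hsurj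
    let e := LinearEquiv.ofBijective φ hbij
    refine ⟨e.symm.toLinearMap, ?_⟩
    apply LinearMap.ext
    intro m
    exact e.symm_apply_apply m

/-- Let A be a ring, M, N two A-modules with N projective, u : M → N a homomorphism and J an ideal of A;
suppose either (i) J is nilpotent, or (ii) J is contained in the Jacobson radical of A and M is of
finite type. Then u is left invertible if and only if the induced map u₀ : M/JM → N/JN is left
invertible. (A left inverse of u₀ composed with N → N/JN is an A-linear map v : N → M/JM with v ∘ u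
the projection, and conversely; the right-hand side is written in that form.) -/
theorem result {A : Type u} [CommRing A] {M N : Type u} [AddCommGroup M] [Module A M]
    [AddCommGroup N] [Module A N] [Module.Projective A N] (u : M →ₗ[A] N) (J : Ideal A)
    (hJ : IsNilpotent J ∨ (J ≤ (⊥ : Ideal A).jacobson ∧ Module.Finite A M)) :
    (∃ w : N →ₗ[A] M, w ∘ₗ u = LinearMap.id) ↔
      ∃ v : N →ₗ[A] M ⧸ (J • ⊤ : Submodule A M), v ∘ₗ u = (J • ⊤ : Submodule A M).mkQ := by
  constructor
  · rintro ⟨w, hw⟩
    refine ⟨(J • ⊤ : Submodule A M).mkQ ∘ₗ w, ?_⟩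
    rw [LinearMap.comp_assoc, hw, LinearMap.comp_id]
  · rintro ⟨v, hv⟩
    obtain ⟨w₀, hw₀⟩ := Module.projective_lifting_property (J • ⊤ : Submodule A M).mkQ v
      (Submodule.mkQ_surjective _)
    have hφ : ∀ m, (w₀ ∘ₗ u) m - m ∈ (J • ⊤ : Submodule A M) := by
      intro m
      rw [← Submodule.Quotient.eq]
      have h1 := LinearMap.congr_fun hw₀ (u m)
      have h2 := LinearMap.congr_fun hv m
      simp only [LinearMap.comp_apply, Submodule.mkQ_apply] at h1 h2 ⊢
      rw [h1, h2]
    obtain ⟨ψ, hψ⟩ := exists_leftInverse_of_congr_id J hJ (w₀ ∘ₗ u) hφ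
    refine ⟨ψ ∘ₗ w₀, ?_⟩
    rw [LinearMap.comp_assoc, hψ]

end Groth.Agent.S4529
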