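import Groth.Statements.S4532
-- import your own Groth.Agent.* helpers here

set_option autoImplicit false
universe u
open EGA41

namespace Groth.Agent.S4532

/-- Let A be a discrete ring and V a projective A-module. Then the symmetric algebra of V over A, with
the discrete topology, is a formally smooth A-algebra. -/
theorem result (A : Type u) [CommRing A] (V : Type u) [AddCommGroup V] [Module A V]
    [Module.Projective A V] : Algebra.FormallySmooth A (SymmetricAlgebra A V) := by
  apply Algebra.FormallySmooth.of_comp_surjective
  intro B _ _ I _ g
  -- the linear map `V → B ⧸ I` and its lift to `B`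
  let g₀ : V →ₗ[A] B ⧸ I := g.toLinearMap ∘ₗ SymmetricAlgebra.ι A V
  obtain ⟨h₀, hh₀⟩ := Module.projective_lifting_property (Ideal.Quotient.mkₐ A I).toLinearMap g₀
    (Ideal.Quotient.mkₐ_surjective A I)
  refine ⟨SymmetricAlgebra.lift h₀, ?_⟩
  apply SymmetricAlgebra.algHom_ext
  apply LinearMap.ext
  intro v
  have := LinearMap.congr_fun hh₀ v
  simpa [g₀] using this

end Groth.Agent.S4532
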