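import Groth.Statements.S4533
import Mathlib.RingTheory.MvPowerSeries.Trunc
-- import your own Groth.Agent.* helpers here

set_option autoImplicit false
universe u
open EGA41

namespace Groth.Agent.S4533

section Aux

variable {A : Type u} [CommRing A] {n : ℕ}

/-- The constant exponent vector. -/
noncomputable def dconst (n L : ℕ) : Fin n →₀ ℕ := Finsupp.equivFunOnFinite.symm (fun _ => L)

theorem le_dconst_iff {L : ℕ} (m : Fin n →₀ ℕ) : m ≤ dconst n L ↔ ∀ i, m i ≤ L := by
  rw [Finsupp.le_def]
  rfl

/-- A power series all of whose monomials have some exponent `> L` (on the index set `s`)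
lies in the `k`-th power of the augmentation ideal, `k ≤ L + 1`. -/
theorem mem_pow_of_coeff_eq_zero {k L : ℕ} (hkL : k ≤ L + 1) (s : Finset (Fin n)) :
    ∀ g : MvPowerSeries (Fin n) A,
      (∀ m : Fin n →₀ ℕ, (∀ i ∈ s, m i ≤ L) → MvPowerSeries.coeff m g = 0) →
      g ∈ (RingHom.ker (MvPowerSeries.constantCoeff :
        MvPowerSeries (Fin n) A →+* A)) ^ k := by
  classical
  induction s using Finset.induction_on with
  | empty =>
    intro g hg
    have : g = 0 := by
      ext m
      rw [hg m (by simp), map_zero]
    rw [this]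
    exact Submodule.zero_mem _
  | insert a s' ha ih =>
    intro g hg
    let g₁ : MvPowerSeries (Fin n) A := fun m => if L < m a then MvPowerSeries.coeff m g else 0
    let g₂ : MvPowerSeries (Fin n) A := fun m => if L < m a then 0 else MvPowerSeries.coeff m g
    have hg₁ : ∀ m, MvPowerSeries.coeff m g₁ = if L < m a then MvPowerSeries.coeff m g else 0 :=
      fun m => rfl
    have hg₂ : ∀ m, MvPowerSeries.coeff m g₂ = if L < m a then 0 else MvPowerSeries.coeff m g :=
      fun m => rfl
    have hsum : g = g₁ + g₂ := by
      ext m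
      rw [map_add, hg₁, hg₂]
      split_ifs <;> simp
    rw [hsum]
    refine Ideal.add_mem _ ?_ ?_
    · have hdvd : (MvPowerSeries.X a : MvPowerSeries (Fin n) A) ^ (L + 1) ∣ g₁ := by
        rw [MvPowerSeries.X_pow_dvd_iff]
        intro m hm
        rw [hg₁, if_neg (by omega)]
      obtain ⟨h, hh⟩ := hdvd
      rw [hh]
      refine Ideal.mul_mem_right _ _ ?_
      have hX : (MvPowerSeries.X a : MvPowerSeries (Fin n) A) ∈
          RingHom.ker (MvPowerSeries.constantCoeff : MvPowerSeries (Fin n) A →+* A) := by
        rw [RingHom.mem_ker, MvPowerSeries.constantCoeff_X]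
      exact Ideal.pow_le_pow_right hkL (Ideal.pow_mem_pow hX _)
    · apply ih
      intro m hm
      rw [hg₂]
      split_ifs with h
      · rfl
      · apply hg
        intro i hi
        rcases Finset.mem_insert.1 hi with rfl | hi
        · omega
        · exact hm i hi

/-- A polynomial all of whose monomials have some exponent `> L` evaluates to `0` at a family of
elements with vanishing `(L+1)`-st powers. -/
theorem aeval_eq_zero_of_coeff {D : Type u} [CommRing D] [Algebra A D] {L : ℕ} (c : Fin n → D)
    (hc : ∀ i, c i ^ (L + 1) = 0) (p : MvPolynomial (Fin n) A)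
    (hp : ∀ m : Fin n →₀ ℕ, m ≤ dconst n L → p.coeff m = 0) : MvPolynomial.aeval c p = 0 := by
  rw [MvPolynomial.aeval_def, MvPolynomial.eval₂_eq']
  apply Finset.sum_eq_zero
  intro m hm
  have hm' : ¬ m ≤ dconst n L := fun h => (MvPolynomial.mem_support_iff.1 hm) (hp m h)
  rw [le_dconst_iff, not_forall] at hm'
  obtain ⟨i, hi⟩ := hm'
  rw [not_le] at hi
  have : c i ^ m i = 0 := by
    have : m i = (L + 1) + (m i - (L + 1)) := by omega
    rw [this, pow_add, hc, zero_mul]
  rw [Finset.prod_eq_zero (Finset.mem_univ i) this, mul_zero]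

end Aux

/-- Let A carry the 𝔞-adic topology and let B = A[[T_1, …, T_n]] carry the product topology, i.e. the
adic topology of the ideal 𝔞B + (T_1, …, T_n) (the kernel of the constant-coefficient map added to
the extension of 𝔞). Then B is a formally smooth A-algebra for these topologies. (The published
statement allows any linearly topologized base ring and any set of indeterminates with the product
topology; this row takes an adic base and finitely many indeterminates, where the product topology
is adic.) -/
theorem result (A : Type u) [CommRing A] (𝔞 : Ideal A) (n : ℕ) :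
    EGA41.IsFormallySmoothAdic A 𝔞 (MvPowerSeries (Fin n) A)
      (𝔞.map (MvPowerSeries.C : A →+* MvPowerSeries (Fin n) A) ⊔
        RingHom.ker (MvPowerSeries.constantCoeff : MvPowerSeries (Fin n) A →+* A)) := by
  classical
  intro D _ _ J hJ _ u hu
  obtain ⟨k, hk⟩ := hu
  obtain ⟨N, hN⟩ := hJ
  set 𝔟 := (𝔞.map (MvPowerSeries.C : A →+* MvPowerSeries (Fin n) A) ⊔
        RingHom.ker (MvPowerSeries.constantCoeff : MvPowerSeries (Fin n) A →+* A)) with h𝔟
  have hI𝔟 : RingHom.ker (MvPowerSeries.constantCoeff : MvPowerSeries (Fin n) A →+* A) ≤ 𝔟 :=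
    le_sup_right
  -- lifts of the images of the variables
  have hex : ∀ i : Fin n, ∃ c : D, Ideal.Quotient.mk J c = u (MvPowerSeries.X i) :=
    fun i => Ideal.Quotient.mk_surjective _
  choose c hc using hex
  set L := k * N + k with hL
  have hcL : ∀ i, c i ^ (L + 1) = 0 := by
    intro i
    have hX : (MvPowerSeries.X i : MvPowerSeries (Fin n) A) ∈ 𝔟 := by
      apply hI𝔟
      rw [RingHom.mem_ker, MvPowerSeries.constantCoeff_X]
    have h1 : c i ^ k ∈ J := by
      rw [← Ideal.Quotient.eq_zero_iff_mem, map_pow, hc, ← map_pow]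
      exact hk _ (Ideal.pow_mem_pow hX k)
    have h2 : (c i ^ k) ^ N = 0 := by
      have := Ideal.pow_mem_pow h1 N
      rw [hN] at this
      exact this
    have : L + 1 = k * N + (k + 1) := by omega
    rw [this, pow_add, pow_mul, h2, zero_mul]
  -- the lift
  let v₀ : MvPowerSeries (Fin n) A → D := fun f =>
    MvPolynomial.aeval c (MvPowerSeries.trunc' A (dconst n L) f)
  have hmul : ∀ f g, v₀ (f * g) = v₀ f * v₀ g := by
    intro f g
    change MvPolynomial.aeval c _ = MvPolynomial.aeval c _ * MvPolynomial.aeval c _
    rw [← map_mul, ← sub_eq_zero, ← map_sub]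
    apply aeval_eq_zero_of_coeff c hcL
    intro m hm
    rw [MvPolynomial.coeff_sub, MvPowerSeries.coeff_trunc', if_pos hm,
      MvPowerSeries.coeff_trunc'_mul_trunc'_eq_coeff_mul _ _ _ hm, sub_self]
  let v : MvPowerSeries (Fin n) A →ₐ[A] D :=
    { toFun := v₀
      map_one' := by
        change MvPolynomial.aeval c (MvPowerSeries.trunc' A (dconst n L) 1) = 1
        rw [MvPowerSeries.trunc'_one, map_one]
      map_mul' := hmul
      map_zero' := by
        change MvPolynomial.aeval c (MvPowerSeries.trunc' A (dconst n L) 0) = 0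
        rw [map_zero, map_zero]
      map_add' := fun f g => by
        change MvPolynomial.aeval c (MvPowerSeries.trunc' A (dconst n L) (f + g)) =
          MvPolynomial.aeval c _ + MvPolynomial.aeval c _
        rw [map_add, map_add]
      commutes' := fun a => by
        change MvPolynomial.aeval c (MvPowerSeries.trunc' A (dconst n L)
          (MvPowerSeries.C a)) = _
        rw [MvPowerSeries.trunc'_C, MvPolynomial.aeval_C] }
  refine ⟨v, ?_⟩
  ext f
  change Ideal.Quotient.mk J (MvPolynomial.aeval c (MvPowerSeries.trunc' A (dconst n L) f)) = u f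
  -- `u` on polynomials
  have hpoly : ∀ p : MvPolynomial (Fin n) A,
      Ideal.Quotient.mk J (MvPolynomial.aeval c p) = u (p : MvPowerSeries (Fin n) A) := by
    intro p
    have : (Ideal.Quotient.mk J).comp (MvPolynomial.aeval c).toRingHom =
        u.toRingHom.comp (MvPolynomial.coeToMvPowerSeries.ringHom) := by
      apply MvPolynomial.ringHom_ext
      · intro a
        simp only [RingHom.comp_apply, AlgHom.toRingHom_eq_coe, RingHom.coe_coe,
          MvPolynomial.aeval_C, MvPolynomial.coeToMvPowerSeries.ringHom_apply,
          MvPolynomial.coe_C]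
        have := u.commutes a
        rw [MvPowerSeries.algebraMap_apply, Algebra.algebraMap_self, RingHom.id_apply] at this
        rw [this]
        rfl
      · intro i
        simp only [RingHom.comp_apply, AlgHom.toRingHom_eq_coe, RingHom.coe_coe,
          MvPolynomial.aeval_X, MvPolynomial.coeToMvPowerSeries.ringHom_apply,
          MvPolynomial.coe_X]
        exact hc i
    exact RingHom.congr_fun this p
  rw [hpoly]
  have hdiff : f - ((MvPowerSeries.trunc' A (dconst n L) f : MvPolynomial (Fin n) A) :
      MvPowerSeries (Fin n) A) ∈ 𝔟 ^ k := by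
    apply Ideal.pow_right_mono hI𝔟 k
    apply mem_pow_of_coeff_eq_zero (L := L) (by omega) Finset.univ
    intro m hm
    have hm' : m ≤ dconst n L := (le_dconst_iff m).2 (fun i => hm i (Finset.mem_univ i))
    rw [map_sub, MvPolynomial.coeff_coe, MvPowerSeries.coeff_trunc', if_pos hm', sub_self]
  have := hk _ hdiff
  rw [map_sub, sub_eq_zero] at this
  exact this.symm

end Groth.Agent.S4533
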