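import Groth.Statements.S4534
-- import your own Groth.Agent.* helpers here

set_option autoImplicit false
universe u
open EGA41

namespace Groth.Agent.S4534

/-- Let A → B → C be continuous homomorphisms of adic rings (A with the 𝔞-adic, B the 𝔟-adic, C the
𝔠-adic topology; continuity: a power of 𝔞 maps into 𝔟 and a power of 𝔟 into 𝔠). If B is formally
smooth over A and C formally smooth over B, then C is formally smooth over A. -/
theorem result {A B C : Type u} [CommRing A] [CommRing B] [CommRing C] [Algebra A B] [Algebra B C]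
    [Algebra A C] [IsScalarTower A B C] (𝔞 : Ideal A) (𝔟 : Ideal B) (𝔠 : Ideal C)
    (hAB : ∃ k : ℕ, (𝔞 ^ k).map (algebraMap A B) ≤ 𝔟) (hBC : ∃ k : ℕ, (𝔟 ^ k).map (algebraMap B C) ≤ 𝔠)
    (hB : EGA41.IsFormallySmoothAdic A 𝔞 B 𝔟) (hC : EGA41.IsFormallySmoothAdic B 𝔟 C 𝔠) :
    EGA41.IsFormallySmoothAdic A 𝔞 C 𝔠 := by
  intro D _ _ J hJ h𝔞D u hu
  obtain ⟨k, hk⟩ := hu
  obtain ⟨m, hm⟩ := hBC
  let u₀ : B →ₐ[A] D ⧸ J := u.comp (IsScalarTower.toAlgHom A B C)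
  have hu₀ : ∀ x ∈ 𝔟 ^ (m * k), u₀ x = 0 := by
    intro x hx
    apply hk
    rw [pow_mul] at hx
    have : (𝔟 ^ m) ^ k ≤ (𝔠 ^ k).comap (algebraMap B C) :=
      (Ideal.pow_right_mono (Ideal.map_le_iff_le_comap.1 hm) k).trans (Ideal.le_comap_pow _ _)
    exact this hx
  obtain ⟨v₀, hv₀⟩ := hB D J hJ h𝔞D u₀ ⟨m * k, hu₀⟩
  let _ : Algebra B D := v₀.toRingHom.toAlgebra
  have : IsScalarTower A B D := IsScalarTower.of_algebraMap_eq (fun a => (v₀.commutes a).symm)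
  obtain ⟨n, hn⟩ := hJ
  have h𝔟D : ∃ k : ℕ, (𝔟 ^ k).map (algebraMap B D) = ⊥ := by
    refine ⟨m * k * n, ?_⟩
    rw [eq_bot_iff, Ideal.map_le_iff_le_comap, pow_mul]
    have h1 : 𝔟 ^ (m * k) ≤ J.comap (algebraMap B D) := by
      intro x hx
      have := AlgHom.congr_fun hv₀ x
      rw [hu₀ x hx] at this
      exact (Ideal.Quotient.eq_zero_iff_mem (I := J)).1 this
    refine (Ideal.pow_right_mono h1 n).trans ((Ideal.le_comap_pow _ _).trans ?_)
    rw [hn, Ideal.zero_eq_bot]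
  let uB : C →ₐ[B] D ⧸ J :=
    { u.toRingHom with
      commutes' := fun b => by
        have := AlgHom.congr_fun hv₀ b
        exact this.symm }
  obtain ⟨v, hv⟩ := hC D J ⟨n, hn⟩ h𝔟D uB ⟨k, hk⟩
  refine ⟨v.restrictScalars A, ?_⟩
  ext x
  exact AlgHom.congr_fun hv x

end Groth.Agent.S4534
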