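import Groth.Statements.S4535
import Mathlib.RingTheory.TensorProduct.Maps
-- import your own Groth.Agent.* helpers here

set_option autoImplicit false
universe u
open EGA41

namespace Groth.Agent.S4535

open TensorProduct in
/-- Let B (𝔟-adic) be formally smooth over A (𝔞-adic) and let A' (𝔞'-adic) be a topological A-algebra (a
power of 𝔞 maps into 𝔞'). Then the A'-algebra A' ⊗_A B, with the tensor product topology, i.e. the
adic topology of the ideal generated by the images of 𝔞' and 𝔟, is formally smooth over A'. -/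
theorem result {A B A' : Type u} [CommRing A] [CommRing B] [CommRing A'] [Algebra A B] [Algebra A A']
    (𝔞 : Ideal A) (𝔟 : Ideal B) (𝔞' : Ideal A') (hAA' : ∃ k : ℕ, (𝔞 ^ k).map (algebraMap A A') ≤ 𝔞')
    (hB : EGA41.IsFormallySmoothAdic A 𝔞 B 𝔟) :
    EGA41.IsFormallySmoothAdic A' 𝔞' (A' ⊗[A] B)
      (𝔞'.map (algebraMap A' (A' ⊗[A] B)) ⊔
        𝔟.map (Algebra.TensorProduct.includeRight : B →ₐ[A] A' ⊗[A] B).toRingHom) := by
  intro D _ _ J hJ h𝔞'D u hu
  let _ : Algebra A D := ((algebraMap A' D).comp (algebraMap A A')).toAlgebra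
  have : IsScalarTower A A' D := IsScalarTower.of_algebraMap_eq (fun _ => rfl)
  obtain ⟨m, hm⟩ := hAA'
  obtain ⟨m', hm'⟩ := h𝔞'D
  have h𝔞D : ∃ k : ℕ, (𝔞 ^ k).map (algebraMap A D) = ⊥ := by
    refine ⟨m * m', ?_⟩
    rw [eq_bot_iff, pow_mul, IsScalarTower.algebraMap_eq A A' D, ← Ideal.map_map, ← hm']
    refine Ideal.map_mono ?_
    rw [Ideal.map_pow]
    exact Ideal.pow_right_mono hm m'
  let u₀ : B →ₐ[A] D ⧸ J := (u.restrictScalars A).comp Algebra.TensorProduct.includeRight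
  obtain ⟨k, hk⟩ := hu
  have hu₀ : ∀ x ∈ 𝔟 ^ k, u₀ x = 0 := by
    intro x hx
    apply hk
    have h1 : 𝔟 ≤ (𝔞'.map (algebraMap A' (A' ⊗[A] B)) ⊔
        𝔟.map (Algebra.TensorProduct.includeRight : B →ₐ[A] A' ⊗[A] B).toRingHom).comap
        (Algebra.TensorProduct.includeRight : B →ₐ[A] A' ⊗[A] B).toRingHom :=
      Ideal.map_le_iff_le_comap.1 le_sup_right
    exact ((Ideal.pow_right_mono h1 k).trans (Ideal.le_comap_pow _ _)) hx
  obtain ⟨v₀, hv₀⟩ := hB D J hJ h𝔞D u₀ ⟨k, hu₀⟩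
  let v : A' ⊗[A] B →ₐ[A'] D :=
    Algebra.TensorProduct.lift (Algebra.ofId A' D) v₀ (fun _ _ => Commute.all _ _)
  refine ⟨v, ?_⟩
  apply Algebra.TensorProduct.ext
  · ext
  · ext b
    have := AlgHom.congr_fun hv₀ b
    simpa [v, u₀] using this

end Groth.Agent.S4535
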