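import Groth.Statements.S4536
-- import your own Groth.Agent.* helpers here

set_option autoImplicit false
universe u
open EGA41

namespace Groth.Agent.S4536

/-- Let A carry the 𝔞-adic and B the 𝔟-adic topology, A → B being continuous (a power of 𝔞 maps into 𝔟).
Then B is formally smooth over A if and only if for every n the (A/𝔞ⁿ)-algebra B/𝔞ⁿB, with the adic
topology of the image of 𝔟, is formally smooth over the discrete ring A/𝔞ⁿ. -/
theorem result {A B : Type u} [CommRing A] [CommRing B] [Algebra A B]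
    (𝔞 : Ideal A) (𝔟 : Ideal B) (hAB : ∃ k : ℕ, (𝔞 ^ k).map (algebraMap A B) ≤ 𝔟) :
    EGA41.IsFormallySmoothAdic A 𝔞 B 𝔟 ↔
      ∀ n : ℕ, EGA41.IsFormallySmoothAdic (A ⧸ 𝔞 ^ n) ⊥ (B ⧸ (𝔞 ^ n).map (algebraMap A B))
        (𝔟.map (Ideal.Quotient.mk ((𝔞 ^ n).map (algebraMap A B)))) := by
  constructor
  · intro h n C _ _ J hJ _ u hu
    let _ : Algebra A C :=
      ((algebraMap (A ⧸ 𝔞 ^ n) C).comp (Ideal.Quotient.mk (𝔞 ^ n))).toAlgebra
    have halg : ∀ a : A, algebraMap A C a = algebraMap (A ⧸ 𝔞 ^ n) C (Ideal.Quotient.mk _ a) :=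
      fun _ => rfl
    have hzero : ∀ a ∈ 𝔞 ^ n, algebraMap A C a = 0 := by
      intro a ha
      rw [halg, Ideal.Quotient.eq_zero_iff_mem.2 ha, map_zero]
    have h𝔞C : ∃ k : ℕ, (𝔞 ^ k).map (algebraMap A C) = ⊥ := by
      refine ⟨n, ?_⟩
      rw [eq_bot_iff, Ideal.map_le_iff_le_comap]
      intro a ha
      exact hzero a ha
    let u' : B →ₐ[A] C ⧸ J :=
      { toRingHom := u.toRingHom.comp (Ideal.Quotient.mk _)
        commutes' := fun a => by
          have := u.commutes (Ideal.Quotient.mk _ a)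
          exact this }
    have hu'u : ∀ b : B, u' b = u (Ideal.Quotient.mk _ b) := fun _ => rfl
    obtain ⟨k, hk⟩ := hu
    have hu' : ∀ x ∈ 𝔟 ^ k, u' x = 0 := by
      intro x hx
      rw [hu'u]
      apply hk
      rw [← Ideal.map_pow]
      exact Ideal.mem_map_of_mem _ hx
    obtain ⟨v', hv'⟩ := h C J hJ h𝔞C u' ⟨k, hu'⟩
    have hkill : ∀ b ∈ (𝔞 ^ n).map (algebraMap A B), v'.toRingHom b = 0 := by
      have : (𝔞 ^ n).map (algebraMap A B) ≤ RingHom.ker v'.toRingHom := by
        rw [Ideal.map_le_iff_le_comap]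
        intro a ha
        change v' (algebraMap A B a) = 0
        rw [v'.commutes]
        exact hzero a ha
      exact fun b hb => this hb
    let v : (B ⧸ (𝔞 ^ n).map (algebraMap A B)) →ₐ[A ⧸ 𝔞 ^ n] C :=
      { toRingHom := Ideal.Quotient.lift _ v'.toRingHom hkill
        commutes' := fun x => by
          obtain ⟨a, rfl⟩ := Ideal.Quotient.mk_surjective x
          change Ideal.Quotient.lift _ v'.toRingHom hkill
            (Ideal.Quotient.mk _ (algebraMap A B a)) = _
          rw [Ideal.Quotient.lift_mk]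
          exact v'.commutes a }
    refine ⟨v, ?_⟩
    ext x
    obtain ⟨b, rfl⟩ := Ideal.Quotient.mk_surjective x
    have := AlgHom.congr_fun hv' b
    exact this
  · intro h C _ _ J hJ h𝔞C u hu
    obtain ⟨n, hn⟩ := h𝔞C
    have hzero : ∀ a ∈ 𝔞 ^ n, algebraMap A C a = 0 := by
      intro a ha
      have : algebraMap A C a ∈ (𝔞 ^ n).map (algebraMap A C) := Ideal.mem_map_of_mem _ ha
      rw [hn] at this
      exact this
    let φ : A ⧸ 𝔞 ^ n →+* C := Ideal.Quotient.lift (𝔞 ^ n) (algebraMap A C) hzero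
    let _ : Algebra (A ⧸ 𝔞 ^ n) C := φ.toAlgebra
    have hkill : ∀ b ∈ (𝔞 ^ n).map (algebraMap A B), u.toRingHom b = 0 := by
      have : (𝔞 ^ n).map (algebraMap A B) ≤ RingHom.ker u.toRingHom := by
        rw [Ideal.map_le_iff_le_comap]
        intro a ha
        change u (algebraMap A B a) = 0
        rw [u.commutes]
        change Ideal.Quotient.mk J (algebraMap A C a) = 0
        rw [hzero a ha, map_zero]
      exact fun b hb => this hb
    let u_n : (B ⧸ (𝔞 ^ n).map (algebraMap A B)) →ₐ[A ⧸ 𝔞 ^ n] C ⧸ J :=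
      { toRingHom := Ideal.Quotient.lift _ u.toRingHom hkill
        commutes' := fun x => by
          obtain ⟨a, rfl⟩ := Ideal.Quotient.mk_surjective x
          change Ideal.Quotient.lift _ u.toRingHom hkill
            (Ideal.Quotient.mk _ (algebraMap A B a)) = _
          rw [Ideal.Quotient.lift_mk]
          exact u.commutes a }
    have hu_n : ∀ b : B, u_n (Ideal.Quotient.mk _ b) = u b := fun _ => rfl
    obtain ⟨k, hk⟩ := hu
    have hu_n' : ∀ x ∈ (𝔟.map (Ideal.Quotient.mk ((𝔞 ^ n).map (algebraMap A B)))) ^ k,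
        u_n x = 0 := by
      have : (𝔟.map (Ideal.Quotient.mk ((𝔞 ^ n).map (algebraMap A B)))) ^ k ≤
          RingHom.ker u_n.toRingHom := by
        rw [← Ideal.map_pow, Ideal.map_le_iff_le_comap]
        intro b hb
        change u_n (Ideal.Quotient.mk _ b) = 0
        rw [hu_n]
        exact hk b hb
      exact fun x hx => this hx
    obtain ⟨v_n, hv_n⟩ := h n C J hJ ⟨1, by simp⟩ u_n ⟨k, hu_n'⟩
    let v : B →ₐ[A] C :=
      { toRingHom := v_n.toRingHom.comp (Ideal.Quotient.mk _)
        commutes' := fun a => by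
          have := v_n.commutes (Ideal.Quotient.mk _ a)
          exact this }
    refine ⟨v, ?_⟩
    ext b
    have := AlgHom.congr_fun hv_n (Ideal.Quotient.mk _ b)
    exact this

end Groth.Agent.S4536
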