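import Groth.Statements.S4539
import Mathlib
import Groth.Agent.Lib.Helper40.PerfectRed

set_option autoImplicit false
universe u
open EGA41


namespace Groth.Agent.S4539

open IsLocalRing TensorProduct

set_option linter.style.haveILetI false

theorem dvr_of_principal {A : Type*} [CommRing A] [IsLocalRing A] [IsNoetherianRing A] (π : A)
    (hπ : maximalIdeal A = Ideal.span {π}) (hreg : IsSMulRegular A π) :
    ∃ (_ : IsDomain A), IsDiscreteValuationRing A := by
  classical
  have hπ0 : π ≠ 0 := by
    rintro rfl
    have : (1 : A) = 0 := hreg (by simp)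
    exact one_ne_zero this
  have hpow : ∀ n, IsSMulRegular A (π ^ n) := fun n => hreg.pow n
  have key : ∀ x : A, x ≠ 0 → ∃ (n : ℕ) (u : A), IsUnit u ∧ x = π ^ n * u := by
    intro x hx
    have hK := Ideal.iInf_pow_eq_bot_of_isLocalRing (maximalIdeal A) (Ideal.IsPrime.ne_top inferInstance)
    have hex : ∃ i, x ∉ maximalIdeal A ^ i := by
      by_contra h
      push Not at h
      have : x ∈ ⨅ i, maximalIdeal A ^ i := by
        rw [Ideal.mem_iInf]; exact h
      rw [hK] at this
      exact hx this
    have hi0 : Nat.find hex ≠ 0 := by
      intro h0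
      have := Nat.find_spec hex
      rw [h0, pow_zero, Ideal.one_eq_top] at this
      exact this trivial
    obtain ⟨n, hn⟩ := Nat.exists_eq_succ_of_ne_zero hi0
    have hmem : x ∈ maximalIdeal A ^ n := by
      by_contra h
      have := Nat.find_min' hex h
      omega
    rw [hπ, Ideal.span_singleton_pow, Ideal.mem_span_singleton] at hmem
    obtain ⟨u, rfl⟩ := hmem
    refine ⟨n, u, ?_, rfl⟩
    by_contra hu
    have hu' : u ∈ maximalIdeal A := (mem_maximalIdeal u).mpr hu
    apply Nat.find_spec hex
    rw [hn, pow_succ]
    exact Ideal.mul_mem_mul (by rw [hπ, Ideal.span_singleton_pow]; exact Ideal.mem_span_singleton_self _) hu'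
  have hnzd : NoZeroDivisors A := by
    refine ⟨fun {x y} hxy => ?_⟩
    by_contra h
    push Not at h
    obtain ⟨n, u, hu, rfl⟩ := key x h.1
    obtain ⟨m, v, hv, rfl⟩ := key y h.2
    have e : π ^ (n + m) • (u * v) = π ^ (n+m) • (0:A) := by
      rw [smul_eq_mul, smul_zero, ← hxy, pow_add]; ring
    have := hpow (n+m) e
    exact (hu.mul hv).ne_zero this
  haveI : IsDomain A := NoZeroDivisors.to_isDomain A
  refine ⟨inferInstance, ?_⟩
  have hnf : ¬ IsField A := by
    rw [IsLocalRing.isField_iff_maximalIdeal_eq, hπ, Ideal.span_singleton_eq_bot]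
    exact hπ0
  have h4 : Submodule.IsPrincipal (maximalIdeal A) := ⟨⟨π, hπ⟩⟩
  exact ((IsDiscreteValuationRing.TFAE A hnf).out 0 4).mpr h4

theorem geomRed_char0 (k K : Type*) [Field k] [CharZero k] [Field K] [Algebra k K] :
    Algebra.IsGeometricallyReduced k K := by
  rw [Algebra.isGeometricallyReduced_field_iff]
  have h1 : IsReduced (K ⊗[k] AlgebraicClosure k) := by
    apply IsReduced.tensorProduct_of_flat_of_forall_fg
    intro B hB
    have hBf : IsField B := Subalgebra.isField_of_algebraic B
    letI := hBf.toField
    haveI : Algebra.IsAlgebraic k B := Algebra.IsAlgebraic.of_injective B.val Subtype.val_injective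
    haveI : Algebra.IsSeparable k B := inferInstance
    haveI : Algebra.FormallyUnramified k B := Algebra.FormallyUnramified.of_isSeparable k B
    haveI : Algebra.FiniteType k B := (Subalgebra.fg_iff_finiteType B).mp hB
    exact Algebra.FormallyUnramified.isReduced_of_field K (K ⊗[k] B)
  exact isReduced_of_injective (Algebra.TensorProduct.comm k (AlgebraicClosure k) K) (AlgEquiv.injective _)

section
variable (p : ℕ) [hp : (Ideal.span {(p : ℤ)}).IsPrime]

abbrev P := Localization.AtPrime (Ideal.span {(p : ℤ)})

lemma maxP : maximalIdeal (P p) = Ideal.span {(p : P p)} := by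
  rw [← Localization.AtPrime.map_eq_maximalIdeal, Ideal.map_span, Set.image_singleton, map_natCast]

lemma algebraMap_int_injective : Function.Injective (algebraMap ℤ (P p)) :=
  IsLocalization.injective (P p) (M := (Ideal.span {(p:ℤ)}).primeCompl)
    (Ideal.primeCompl_le_nonZeroDivisors _)

lemma charZeroP : CharZero (P p) :=
  charZero_of_injective_algebraMap (algebraMap_int_injective p)

/-- injectivity of `ℤ_(p) → A` for a domain of characteristic zero. -/
lemma algebraMap_injective (A : Type*) [CommRing A] [IsDomain A] [CharZero A] [Algebra (P p) A] :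
    Function.Injective (algebraMap (P p) A) := by
  rw [injective_iff_map_eq_zero]
  intro x hx
  obtain ⟨n, s, rfl⟩ := IsLocalization.exists_mk'_eq (Ideal.span {(p:ℤ)}).primeCompl x
  have h1 : IsLocalization.mk' (P p) n s * algebraMap ℤ (P p) s = algebraMap ℤ (P p) n :=
    IsLocalization.mk'_spec _ _ _
  have h2 : algebraMap (P p) A (algebraMap ℤ (P p) n) = 0 := by
    rw [← h1, map_mul, hx, zero_mul]
  rw [eq_intCast, map_intCast, Int.cast_eq_zero] at h2
  rw [h2, IsLocalization.mk'_zero]

lemma flat_of_domain (A : Type*) [CommRing A] [IsDomain A] [CharZero A] [Algebra (P p) A] :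
    Module.Flat (P p) A := by
  have hinj := algebraMap_injective p A
  haveI : Module.IsTorsionFree (P p) A := by
    refine ⟨fun r hr a b hab => ?_⟩
    have hr0 : r ≠ 0 := hr.ne_zero
    have : algebraMap (P p) A r ≠ 0 := by
      intro h
      exact hr0 (hinj (by rw [h, map_zero]))
    simp only [Algebra.smul_def] at hab
    exact mul_left_cancel₀ this hab
  infer_instance

/-- the residue field of `ℤ_(p)` is `𝔽_p`. -/
noncomputable def resEquiv (hpr : p.Prime) : ZMod p ≃+* ResidueField (P p) :=
  haveI : (Ideal.span {(p : ℤ)}).IsMaximal :=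
    Ideal.IsPrime.isMaximal hp (by
      rw [Ne, Ideal.span_singleton_eq_bot]; exact_mod_cast hpr.ne_zero)
  (Int.quotientSpanNatEquivZMod p).symm.trans
    (IsLocalization.AtPrime.equivQuotMaximalIdeal (Ideal.span {(p : ℤ)}) (P p))

lemma geomRed_charp (hpr : p.Prime) (K : Type*) [Field K] [Algebra (ResidueField (P p)) K] :
    Algebra.IsGeometricallyReduced (ResidueField (P p)) K := by
  haveI : Fact p.Prime := ⟨hpr⟩
  haveI : CharP (ResidueField (P p)) p := charP_of_injective_ringHom (f := (resEquiv p hpr).toRingHom) (resEquiv p hpr).injective p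
  haveI : Finite (ResidueField (P p)) := Finite.of_equiv (ZMod p) (resEquiv p hpr).toEquiv
  haveI : ExpChar (ResidueField (P p)) p := ExpChar.prime hpr
  haveI : PerfectRing (ResidueField (P p)) p := inferInstance
  exact Groth.Agent.Lib.Helper40.PerfectRed.isGeometricallyReduced (ResidueField (P p)) p K

end

end Groth.Agent.S4539

namespace Groth.Agent.S4539

open IsLocalRing in
/-- Let A be a local ring with residue characteristic p (p = 0 or a prime), P the prime local ring ℤ_(p)
(ℚ if p = 0) and P → A its unique local homomorphism. Then A is a Cohen ring, i.e. a Cohen P-algebra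
— Noetherian and complete, flat over P, with pA its maximal ideal (and residue field separable over
the prime field) — if and only if A is a field of characteristic 0 or a complete discrete valuation
ring of residue characteristic > 0 whose maximal ideal is generated by p·1. -/
theorem result (p : ℕ) [hp : (Ideal.span {(p : ℤ)}).IsPrime]
    {A : Type} [CommRing A] [IsLocalRing A] [CharP (ResidueField A) p]
    [Algebra (Localization.AtPrime (Ideal.span {(p : ℤ)})) A]
    [IsLocalHom (algebraMap (Localization.AtPrime (Ideal.span {(p : ℤ)})) A)] :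
    EGA41.IsCohenAlgebra (Localization.AtPrime (Ideal.span {(p : ℤ)})) A ↔ EGA41.IsCohenRingEGA A := by

  classical
  set_option linter.style.haveILetI false in
  have maxP := Groth.Agent.S4539.maxP p
  constructor
  · rintro ⟨hNP, hNA, hcomp, hflat, hm, hgr⟩
    have hm' : maximalIdeal A = Ideal.span {(p : A)} := by
      rw [← hm, maxP, Ideal.map_span, Set.image_singleton, map_natCast]
    rcases Nat.eq_zero_or_pos p with hp0 | hppos
    · left
      have hbot : maximalIdeal A = ⊥ := by
        rw [hm', hp0, Nat.cast_zero, Ideal.span_singleton_eq_bot]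
      refine ⟨IsLocalRing.isField_iff_maximalIdeal_eq.mpr hbot, ?_⟩
      haveI : CharP (ResidueField A) 0 := hp0 ▸ (inferInstance : CharP (ResidueField A) p)
      haveI : CharZero (ResidueField A) := CharP.charP_to_charZero _
      exact (IsLocalRing.residue A).charZero
    · right
      have hprime : p.Prime := by
        have : Prime (p : ℤ) :=
          (Ideal.span_singleton_prime (by exact_mod_cast hppos.ne')).mp hp
        exact Nat.prime_iff_prime_int.mpr this
      haveI := Groth.Agent.S4539.charZeroP p
      have hreg : IsSMulRegular A (p : A) := by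
        have h0 : IsSMulRegular (Localization.AtPrime (Ideal.span {(p : ℤ)}))
            (p : Localization.AtPrime (Ideal.span {(p : ℤ)})) :=
          (isRegular_of_ne_zero (Nat.cast_ne_zero.mpr hppos.ne')).left.isSMulRegular
        have := IsSMulRegular.of_flat (S := A) h0
        rwa [map_natCast] at this
      obtain ⟨hdom, hdvr⟩ := Groth.Agent.S4539.dvr_of_principal (p : A) hm' hreg
      exact ⟨hdom, hdvr, hcomp, p, hprime, hm'⟩
  · intro h
    rcases h with ⟨hF, hchar0⟩ | ⟨hdom, hdvr, hcomp, p', hp', hmp'⟩
    · -- field of characteristic zero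
      have hbot : maximalIdeal A = ⊥ := IsLocalRing.isField_iff_maximalIdeal_eq.mp hF
      haveI : IsDomain A := hF.isDomain
      have hresinj : Function.Injective (IsLocalRing.residue A) := by
        rw [RingHom.injective_iff_ker_eq_bot, IsLocalRing.ker_residue, hbot]
      haveI : CharZero (ResidueField A) := charZero_of_injective_ringHom hresinj
      have hp0 : p = 0 := by
        exact CharP.eq (ResidueField A) (inferInstanceAs (CharP (ResidueField A) p))
          (CharP.ofCharZero _)
      have hm' : maximalIdeal A = Ideal.span {(p : A)} := by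
        rw [hbot, hp0, Nat.cast_zero]
        exact (Ideal.span_singleton_eq_bot.mpr rfl).symm
      refine ⟨inferInstance, ?_, ?_, Groth.Agent.S4539.flat_of_domain p A, ?_, ?_⟩
      · rw [isNoetherianRing_iff_ideal_fg]
        intro I
        by_cases hI : I = ⊤
        · rw [hI]; exact ⟨{1}, by simp [Ideal.span_singleton_one]⟩
        · have : I ≤ maximalIdeal A := IsLocalRing.le_maximalIdeal hI
          rw [hbot, le_bot_iff] at this
          rw [this]; exact Submodule.fg_bot
      · rw [hbot]; exact IsAdicComplete.bot A
      · rw [maxP, Ideal.map_span, Set.image_singleton, map_natCast]; exact hm'.symm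
      · haveI : CharZero (ResidueField (Localization.AtPrime (Ideal.span {(p : ℤ)}))) :=
          (algebraMap (ResidueField (Localization.AtPrime (Ideal.span {(p : ℤ)})))
            (ResidueField A)).charZero
        exact Groth.Agent.S4539.geomRed_char0 _ _
    · -- Cohen ring
      have hpp' : p = p' := by
        have h1 : ((p' : A)) ∈ maximalIdeal A := by
          rw [hmp']; exact Ideal.mem_span_singleton_self _
        have h2 : ((p' : ℕ) : ResidueField A) = 0 := by
          have := (IsLocalRing.residue_eq_zero_iff (p' : A)).mpr h1
          rwa [map_natCast] at this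
        have h3 : p ∣ p' := (CharP.cast_eq_zero_iff (ResidueField A) p p').mp h2
        rcases (Nat.Prime.eq_one_or_self_of_dvd hp' p h3) with h1 | h1
        · exfalso
          apply hp.ne_top
          rw [h1, Nat.cast_one, Ideal.span_singleton_one]
        · exact h1
      have hprime : p.Prime := hpp' ▸ hp'
      have hm' : maximalIdeal A = Ideal.span {(p : A)} := by rw [hpp']; exact hmp'
      have hpA0 : (p : A) ≠ 0 := by
        intro h0
        apply IsDiscreteValuationRing.not_a_field A
        rw [hm', h0, Ideal.span_singleton_eq_bot]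
      haveI : CharZero A := by
        apply charZero_of_inj_zero
        intro n hn
        by_contra hn0
        obtain ⟨k, m, hm, rfl⟩ := Nat.exists_eq_pow_mul_and_not_dvd hn0 p hprime.ne_one
        rw [Nat.cast_mul, Nat.cast_pow, mul_eq_zero] at hn
        rcases hn with hn | hn
        · exact hpA0 (pow_eq_zero_iff (M₀ := A) (by
            rintro rfl
            simp at hn) |>.mp hn)
        · apply hm
          apply (CharP.cast_eq_zero_iff (ResidueField A) p m).mp
          have := congrArg (IsLocalRing.residue A) hn
          rwa [map_natCast, map_zero] at this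
      refine ⟨inferInstance, inferInstance, hcomp, Groth.Agent.S4539.flat_of_domain p A, ?_, ?_⟩
      · rw [maxP, Ideal.map_span, Set.image_singleton, map_natCast]; exact hm'.symm
      · exact Groth.Agent.S4539.geomRed_charp p hprime _

end Groth.Agent.S4539
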