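import Groth.Statements.S4544
import Mathlib.Algebra.TrivSqZeroExt.Basic
import Mathlib.RingTheory.Kaehler.Basic
import Mathlib.Algebra.Module.Projective
import Mathlib.RingTheory.Ideal.Quotient.Operations
-- import your own Groth.Agent.* helpers here

set_option autoImplicit false
universe u
open EGA41

namespace Groth.Agent.S4544


section Lift

variable {A B : Type u} [CommRing A] [CommRing B] [Algebra A B]
  {R : Type u} [CommRing R] [Algebra B R] [Algebra A R] [IsScalarTower A B R]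
  {N M' : Type u} [AddCommGroup N] [Module R N] [Module Rᵐᵒᵖ N] [IsCentralScalar R N]
  [Module B N] [IsScalarTower B R N] [Module A N] [IsScalarTower A B N]
  [IsScalarTower A R N] [IsScalarTower A Rᵐᵒᵖ N]
  [AddCommGroup M'] [Module R M'] [Module Rᵐᵒᵖ M'] [IsCentralScalar R M']
  [Module B M'] [IsScalarTower B R M'] [Module A M'] [IsScalarTower A B M']
  [IsScalarTower A R M'] [IsScalarTower A Rᵐᵒᵖ M']

/-- the algebra map `B → R ⊕ M'` attached to a derivation -/
noncomputable def ofDerivation (D : Derivation A B M') : B →ₐ[A] TrivSqZeroExt R M' where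
  toFun b := TrivSqZeroExt.inl (algebraMap B R b) + TrivSqZeroExt.inr (D b)
  map_one' := by simp
  map_mul' := by
    intro b b'
    apply TrivSqZeroExt.ext
    · simp
    · simp only [TrivSqZeroExt.snd_add, TrivSqZeroExt.snd_inl, TrivSqZeroExt.snd_inr, zero_add,
        TrivSqZeroExt.snd_mul, TrivSqZeroExt.fst_add, TrivSqZeroExt.fst_inl, TrivSqZeroExt.fst_inr,
        add_zero, Derivation.leibniz, op_smul_eq_smul, algebraMap_smul]
  map_zero' := by simp
  map_add' := by
    intro b b'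
    apply TrivSqZeroExt.ext <;> simp [add_comm]
  commutes' := by
    intro a
    rw [TrivSqZeroExt.algebraMap_eq_inl']
    apply TrivSqZeroExt.ext
    · simp [← IsScalarTower.algebraMap_apply]
    · simp

@[simp] theorem ofDerivation_apply (D : Derivation A B M') (b : B) :
    (ofDerivation (R := R) D) b =
      TrivSqZeroExt.inl (algebraMap B R b) + TrivSqZeroExt.inr (D b) := rfl

/-- Derivations lift along surjections of modules over the discrete quotient `R` of `B`. -/
theorem lift_derivation (𝔞 : Ideal A) (𝔟 : Ideal B)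
    (h : EGA41.IsFormallySmoothAdic A 𝔞 B 𝔟)
    (hR : ∃ m : ℕ, ∀ x ∈ 𝔟 ^ m, algebraMap B R x = 0)
    (hA : ∃ m : ℕ, ∀ a ∈ 𝔞 ^ m, algebraMap A R a = 0)
    (f : N →ₗ[R] M') (hf : Function.Surjective f) (D'' : Derivation A B M') :
    ∃ v : B →ₐ[A] TrivSqZeroExt R N, ∀ b, (v b).fst = algebraMap B R b ∧ f (v b).snd = D'' b := by
  classical
  let φ : TrivSqZeroExt R N →ₐ[A] TrivSqZeroExt R M' := (TrivSqZeroExt.map f).restrictScalars A
  have hφ : Function.Surjective φ := by
    intro y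
    obtain ⟨n, hn⟩ := hf y.snd
    refine ⟨TrivSqZeroExt.inl y.fst + TrivSqZeroExt.inr n, ?_⟩
    apply TrivSqZeroExt.ext
    · simp [φ]
    · simp [φ, hn]
  -- the kernel has square zero
  have hJ : IsNilpotent (RingHom.ker φ) := by
    refine ⟨2, ?_⟩
    rw [Ideal.zero_eq_bot, eq_bot_iff, pow_two]
    refine Ideal.mul_le.2 fun x hx y hy => ?_
    rw [RingHom.mem_ker] at hx hy
    have hx1 : x.fst = 0 := by
      have := congrArg TrivSqZeroExt.fst hx
      simpa [φ] using this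
    have hy1 : y.fst = 0 := by
      have := congrArg TrivSqZeroExt.fst hy
      simpa [φ] using this
    rw [Ideal.mem_bot]
    apply TrivSqZeroExt.ext
    · simp [hx1]
    · simp [hx1, hy1]
  let e : (TrivSqZeroExt R N ⧸ RingHom.ker φ) ≃ₐ[A] TrivSqZeroExt R M' :=
    Ideal.quotientKerAlgEquivOfSurjective hφ
  have he : ∀ x, e (Ideal.Quotient.mk _ x) = φ x := fun x => rfl
  let u'' : B →ₐ[A] TrivSqZeroExt R M' := ofDerivation (R := R) D''
  let u : B →ₐ[A] (TrivSqZeroExt R N ⧸ RingHom.ker φ) := (e.symm : _ →ₐ[A] _).comp u''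
  -- continuity of u
  have hu : ∃ m : ℕ, ∀ x ∈ 𝔟 ^ m, u x = 0 := by
    obtain ⟨m, hm⟩ := hR
    refine ⟨m * 2, fun x hx => ?_⟩
    have hu'' : u'' x = 0 := by
      rw [pow_mul, pow_two] at hx
      refine Submodule.mul_induction_on hx ?_ ?_
      · intro y hy z hz
        rw [map_mul]
        apply TrivSqZeroExt.ext
        · simp [u'', hm y hy]
        · simp [u'', hm y hy, hm z hz]
      · intro y z hy hz
        rw [map_add, hy, hz, add_zero]
    change e.symm (u'' x) = 0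
    rw [hu'', map_zero]
  -- discreteness
  have hdisc : ∃ m : ℕ, (𝔞 ^ m).map (algebraMap A (TrivSqZeroExt R N)) = ⊥ := by
    obtain ⟨m, hm⟩ := hA
    refine ⟨m, ?_⟩
    rw [eq_bot_iff, Ideal.map_le_iff_le_comap]
    intro a ha
    rw [Ideal.mem_comap, Ideal.mem_bot, TrivSqZeroExt.algebraMap_eq_inl', hm a ha]
    simp
  obtain ⟨v, hv⟩ := h (TrivSqZeroExt R N) (RingHom.ker φ) hJ hdisc u hu
  refine ⟨v, fun b => ?_⟩
  have h1 : φ (v b) = u'' b := by
    have := AlgHom.congr_fun hv b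
    change Ideal.Quotient.mk _ (v b) = e.symm (u'' b) at this
    rw [← he, this, AlgEquiv.apply_symm_apply]
  constructor
  · have := congrArg TrivSqZeroExt.fst h1
    simpa [φ, u''] using this
  · have := congrArg TrivSqZeroExt.snd h1
    simpa [φ, u''] using this

end Lift

open TensorProduct in
/-- Let B (𝔟-adic) be a formally smooth topological A-algebra over A (𝔞-adic), the structure map being
continuous (a power of 𝔞 maps into 𝔟); squares of open ideals of B are then open. For every open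
ideal 𝔄 of B (an ideal containing a power of 𝔟), Ω_{B/A} ⊗_B (B/𝔄) = Ω_{B/A}/𝔄Ω_{B/A} is a
projective (B/𝔄)-module. -/
theorem result {A B : Type u} [CommRing A] [CommRing B] [Algebra A B]
    (𝔞 : Ideal A) (𝔟 : Ideal B) (hAB : ∃ k : ℕ, (𝔞 ^ k).map (algebraMap A B) ≤ 𝔟)
    (h : EGA41.IsFormallySmoothAdic A 𝔞 B 𝔟) (𝔄 : Ideal B) (h𝔄 : ∃ n : ℕ, 𝔟 ^ n ≤ 𝔄) :
    Module.Projective (B ⧸ 𝔄) ((B ⧸ 𝔄) ⊗[B] Ω[B⁄A]) := by
  classical
  obtain ⟨n, hn⟩ := h𝔄
  obtain ⟨k, hk⟩ := hAB
  apply Module.Projective.of_lifting_property''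
  intro f hf
  -- hypotheses of the lifting lemma
  have hR : ∃ m : ℕ, ∀ x ∈ 𝔟 ^ m, algebraMap B (B ⧸ 𝔄) x = 0 :=
    ⟨n, fun x hx => Ideal.Quotient.eq_zero_iff_mem.2 (hn hx)⟩
  have hA : ∃ m : ℕ, ∀ a ∈ 𝔞 ^ m, algebraMap A (B ⧸ 𝔄) a = 0 := by
    refine ⟨k * n, fun a ha => ?_⟩
    rw [IsScalarTower.algebraMap_apply A B (B ⧸ 𝔄)]
    apply Ideal.Quotient.eq_zero_iff_mem.2
    apply hn
    have h1 : algebraMap A B a ∈ ((𝔞 ^ k) ^ n).map (algebraMap A B) := by
      rw [← pow_mul]; exact Ideal.mem_map_of_mem _ ha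
    rw [Ideal.map_pow] at h1
    exact Ideal.pow_right_mono hk n h1
  -- the universal derivation into M
  let D'' : Derivation A B ((B ⧸ 𝔄) ⊗[B] Ω[B⁄A]) :=
    (TensorProduct.mk B (B ⧸ 𝔄) (Ω[B⁄A]) 1).compDer (KaehlerDifferential.D A B)
  obtain ⟨v, hv⟩ := lift_derivation (R := B ⧸ 𝔄) 𝔞 𝔟 h hR hA f hf D''
  -- the lifted derivation
  let Dl : B →ₗ[A] (((B ⧸ 𝔄) ⊗[B] Ω[B⁄A]) →₀ (B ⧸ 𝔄)) :=
    ((TrivSqZeroExt.sndHom (B ⧸ 𝔄) _).restrictScalars A).comp v.toLinearMap
  have hDl : ∀ b, Dl b = (v b).snd := fun b => rfl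
  let D : Derivation A B (((B ⧸ 𝔄) ⊗[B] Ω[B⁄A]) →₀ (B ⧸ 𝔄)) := Derivation.mk' Dl (by
    intro b b'
    rw [hDl, hDl, hDl, map_mul, TrivSqZeroExt.snd_mul, (hv b).1, (hv b').1, op_smul_eq_smul,
      algebraMap_smul, algebraMap_smul])
  have hD : ∀ b, D b = (v b).snd := fun b => rfl
  have key : (f.restrictScalars B) ∘ₗ D.liftKaehlerDifferential =
      TensorProduct.mk B (B ⧸ 𝔄) (Ω[B⁄A]) 1 := by
    apply Derivation.liftKaehlerDifferential_unique
    ext b
    change f (D.liftKaehlerDifferential (KaehlerDifferential.D A B b)) =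
      (1 : B ⧸ 𝔄) ⊗ₜ[B] (KaehlerDifferential.D A B b)
    rw [Derivation.liftKaehlerDifferential_comp_D, hD, (hv b).2]
    rfl
  refine ⟨LinearMap.liftBaseChange (B ⧸ 𝔄) D.liftKaehlerDifferential, ?_⟩
  apply LinearMap.ext
  intro z
  induction z using TensorProduct.induction_on with
  | zero => simp
  | tmul x ω =>
    have h1 := LinearMap.congr_fun key ω
    simp only [LinearMap.coe_comp, Function.comp_apply, LinearMap.coe_restrictScalars,
      TensorProduct.mk_apply] at h1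
    simp only [LinearMap.coe_comp, Function.comp_apply, LinearMap.liftBaseChange_tmul, map_smul,
      LinearMap.id_coe, id_eq, h1]
    rw [TensorProduct.smul_tmul', smul_eq_mul, mul_one]
  | add z z' hz hz' => rw [map_add, hz, hz', map_add]

end Groth.Agent.S4544
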