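import Groth.Statements.S4540
import Groth.Agent.S4544
import Mathlib.RingTheory.LocalRing.Module
import Mathlib.LinearAlgebra.Basis.VectorSpace

set_option autoImplicit false
universe u
open EGA41

namespace Groth.Agent.S4540


open IsLocalRing TensorProduct in
/-- A flat module over a local ring with nilpotent maximal ideal is free (no finiteness needed). -/
theorem free_of_flat_of_nilpotent (R : Type u) [CommRing R] [IsLocalRing R] (n : ℕ)
    (hnil : maximalIdeal R ^ n = ⊥) (P : Type u) [AddCommGroup P] [Module R P] [Module.Flat R P] :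
    Module.Free R P := by
  classical
  let b := Module.Basis.ofVectorSpace (ResidueField R) (ResidueField R ⊗[R] P)
  have hsurj : Function.Surjective (TensorProduct.mk R (ResidueField R) P 1) :=
    TensorProduct.mk_surjective R P (ResidueField R) Ideal.Quotient.mk_surjective
  choose v hv using fun i => hsurj (b i)
  have hcomp : (TensorProduct.mk R (ResidueField R) P 1 ∘ v) = b := funext hv
  have hli : LinearIndependent R v := by
    apply Module.IsLocalRing.linearIndependent_of_flat
    rw [hcomp]
    exact b.linearIndependent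
  -- spanning
  have hker : LinearMap.ker (TensorProduct.mk R (ResidueField R) P 1) =
      maximalIdeal R • (⊤ : Submodule R P) := LinearMap.ker_tensorProductMk P
  have h1 : (⊤ : Submodule R P) ≤ Submodule.span R (Set.range v) ⊔ maximalIdeal R • ⊤ := by
    intro p _
    -- write 1 ⊗ p in the basis
    have hp : TensorProduct.mk R (ResidueField R) P 1 p ∈
        Submodule.span (ResidueField R) (Set.range b) := by
      rw [b.span_eq]; trivial
    -- the image of span v under mk 1 is an R-submodule containing range b and closed under k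
    have himg : ∀ y ∈ Submodule.span (ResidueField R) (Set.range b),
        ∃ q ∈ Submodule.span R (Set.range v), TensorProduct.mk R (ResidueField R) P 1 q = y := by
      intro y hy
      induction hy using Submodule.span_induction with
      | mem y hy =>
        obtain ⟨i, rfl⟩ := hy
        exact ⟨v i, Submodule.subset_span ⟨i, rfl⟩, hv i⟩
      | zero => exact ⟨0, Submodule.zero_mem _, map_zero _⟩
      | add y z _ _ hy hz =>
        obtain ⟨q, hq, rfl⟩ := hy
        obtain ⟨q', hq', rfl⟩ := hz
        exact ⟨q + q', Submodule.add_mem _ hq hq', map_add _ _ _⟩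
      | smul c y _ hy =>
        obtain ⟨q, hq, rfl⟩ := hy
        obtain ⟨r, rfl⟩ := Ideal.Quotient.mk_surjective c
        refine ⟨r • q, Submodule.smul_mem _ r hq, ?_⟩
        rw [map_smul]
        rfl
    obtain ⟨q, hq, hqp⟩ := himg _ hp
    have hmem : p - q ∈ maximalIdeal R • (⊤ : Submodule R P) := by
      rw [← hker, LinearMap.mem_ker, map_sub, hqp, sub_self]
    have : p = q + (p - q) := by abel
    rw [this]
    exact Submodule.add_mem_sup hq hmem
  have h2 : ∀ m : ℕ, (⊤ : Submodule R P) ≤
      Submodule.span R (Set.range v) ⊔ maximalIdeal R ^ m • ⊤ := by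
    intro m
    induction m with
    | zero => simp
    | succ m ih =>
      calc (⊤ : Submodule R P) ≤ Submodule.span R (Set.range v) ⊔ maximalIdeal R • ⊤ := h1
        _ ≤ Submodule.span R (Set.range v) ⊔ maximalIdeal R •
              (Submodule.span R (Set.range v) ⊔ maximalIdeal R ^ m • ⊤) :=
            sup_le_sup_left (Submodule.smul_mono le_rfl ih) _
        _ ≤ Submodule.span R (Set.range v) ⊔ maximalIdeal R ^ (m + 1) • ⊤ := by
            rw [Submodule.smul_sup, ← mul_smul, ← pow_succ']
            refine sup_le le_sup_left (sup_le ?_ le_sup_right)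
            exact le_sup_of_le_left Submodule.smul_le_right
  have hspan : (⊤ : Submodule R P) ≤ Submodule.span R (Set.range v) := by
    have := h2 n
    rwa [hnil, Submodule.bot_smul, sup_bot_eq] at this
  exact Module.Free.of_basis (Module.Basis.mk hli hspan)

open IsLocalRing TensorProduct in
/-- Let A, B be Noetherian local rings and A → B a local homomorphism making B a formally smooth
A-algebra for the adic topologies of the maximal ideals. Then for every ideal of definition 𝔟 of B,
the (B/𝔟)-module Ω_{B/A} ⊗_B (B/𝔟) is free. -/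
theorem result {A B : Type u} [CommRing A] [IsLocalRing A]
    [IsNoetherianRing A] [CommRing B] [IsLocalRing B] [IsNoetherianRing B] [Algebra A B] [IsLocalHom (algebraMap A B)]
    (h : EGA41.IsFormallySmoothAdic A (maximalIdeal A) B (maximalIdeal B))
    (𝔟 : Ideal B) (hle : 𝔟 ≤ maximalIdeal B) (hpow : ∃ k : ℕ, maximalIdeal B ^ k ≤ 𝔟) :
    Module.Free (B ⧸ 𝔟) ((B ⧸ 𝔟) ⊗[B] Ω[B⁄A]) := by
  classical
  obtain ⟨k, hk⟩ := hpow
  -- B ⧸ 𝔟 is local
  have hne : 𝔟 ≠ ⊤ := fun h' => (IsLocalRing.maximalIdeal.isMaximal B).ne_top (top_le_iff.1 (h' ▸ hle))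
  have : Nontrivial (B ⧸ 𝔟) := Ideal.Quotient.nontrivial_iff.2 hne
  have : IsLocalRing (B ⧸ 𝔟) :=
    IsLocalRing.of_surjective' (Ideal.Quotient.mk 𝔟) Ideal.Quotient.mk_surjective
  -- its maximal ideal is nilpotent
  have hmax : maximalIdeal (B ⧸ 𝔟) ≤ (maximalIdeal B).map (Ideal.Quotient.mk 𝔟) := by
    intro x hx
    obtain ⟨b, rfl⟩ := Ideal.Quotient.mk_surjective x
    apply Ideal.mem_map_of_mem
    rw [IsLocalRing.mem_maximalIdeal, mem_nonunits_iff] at hx ⊢
    intro hb
    exact hx (hb.map (Ideal.Quotient.mk 𝔟))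
  have hnil : maximalIdeal (B ⧸ 𝔟) ^ k = ⊥ := by
    rw [eq_bot_iff]
    calc maximalIdeal (B ⧸ 𝔟) ^ k ≤ ((maximalIdeal B).map (Ideal.Quotient.mk 𝔟)) ^ k :=
          Ideal.pow_right_mono hmax k
      _ = ((maximalIdeal B) ^ k).map (Ideal.Quotient.mk 𝔟) := (Ideal.map_pow _ _ _).symm
      _ ≤ 𝔟.map (Ideal.Quotient.mk 𝔟) := Ideal.map_mono hk
      _ = ⊥ := Ideal.map_quotient_self 𝔟
  have hAB : ∃ m : ℕ, ((maximalIdeal A) ^ m).map (algebraMap A B) ≤ maximalIdeal B :=
    ⟨1, by rw [pow_one]; exact IsLocalRing.map_maximalIdeal_le (algebraMap A B)⟩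
  have : Module.Projective (B ⧸ 𝔟) ((B ⧸ 𝔟) ⊗[B] Ω[B⁄A]) :=
    Groth.Agent.S4544.result (maximalIdeal A) (maximalIdeal B) hAB h 𝔟 ⟨k, hk⟩
  exact free_of_flat_of_nilpotent (B ⧸ 𝔟) k hnil _

end Groth.Agent.S4540
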