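import Groth.Statements.S4545
import Groth.Agent.Lib.Helper13.Admissible2
import Groth.Agent.S2475
open Groth.Agent.Lib.Helper13.Admissible Groth.Agent.Lib.Helper13.SimpleExt Groth.Agent.Lib.Helper13.SepDiff Groth.Agent.Lib.Helper13.PBasis

set_option autoImplicit false
universe u
open EGA41

namespace Groth.Agent.S4545

open TensorProduct in
/-- Let K be a field of characteristic p > 0, k₀ a subfield and (k_α) a decreasing filtered family of
subfields of K containing k₀. Then ⋂_α k_α(K^p) = k₀(K^p) if and only if for every extension L of K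
such that Υ_{L/K/k₀} has finite rank over L there is an α with k_α admissible for L over K relative
to k₀, i.e. with Υ_{L/K/k₀} → Υ_{L/K/k_α} injective. (The published statement has two further
equivalent conditions; this row states (a) ⇔ (b).) -/
theorem result (p : ℕ) [Fact p.Prime] {k₀ K : Type u}
    [Field k₀] [Field K] [Algebra k₀ K] [CharP K p]
    {ι : Type u} [Preorder ι] [IsDirected ι (· ≤ ·)] [Nonempty ι] (k : ι → IntermediateField k₀ K) (hk : Antitone k) :
    (⨅ i, k i ⊔ IntermediateField.adjoin k₀ (Set.range fun y : K => y ^ p)) =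
        IntermediateField.adjoin k₀ (Set.range fun y : K => y ^ p) ↔
      ∀ (L : Type u) [Field L] [Algebra K L] [Algebra k₀ L] [IsScalarTower k₀ K L],
        Module.Finite L (EGA41.imperfection k₀ K L) →
          ∃ i, ∀ ω ∈ EGA41.imperfection k₀ K L,
            ((KaehlerDifferential.map k₀ (k i) K K).restrictScalars K).baseChange L ω = 0 → ω = 0 := by
  classical
  set E0 : IntermediateField k₀ K :=
    IntermediateField.adjoin k₀ (Set.range fun y : K => y ^ p) with hE0
  have hE0' : E0 = E₀ (k₀ := k₀) p := rfl
  have hD0 : ∀ x : K, KaehlerDifferential.D k₀ K x = 0 ↔ x ∈ E0 := by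
    intro x
    rw [D_eq_zero_iff p, hE0', mem_E₀_iff]
  have hDi : ∀ (i : ι) (x : K), KaehlerDifferential.D (k i) K x = 0 ↔ x ∈ k i ⊔ E0 := by
    intro i x
    rw [D_eq_zero_iff p, hE0', mem_sup_E₀_iff]
  have hmem_iInf : ∀ x : K, x ∈ ⨅ i, k i ⊔ E0 ↔ ∀ i, x ∈ k i ⊔ E0 := by
    intro x
    rw [← SetLike.mem_coe, IntermediateField.coe_iInf, Set.mem_iInter]
    rfl
  constructor
  · -- (⇒)
    intro hinf L _ _ _ _ hfin
    have hsep := (Groth.Agent.S2475.result p k hk).mp hinf
    exact exists_admissible hk hsep L hfin
  · -- (⇐)
    intro hL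
    apply le_antisymm
    · intro x hx
      rw [hmem_iInf] at hx
      by_contra hx0
      -- `x` is not a `p`-th power
      have hnp : ∀ b : K, b ^ p ≠ x := by
        intro b hb
        apply hx0
        rw [← hb]
        exact IntermediateField.subset_adjoin k₀ _ ⟨b, rfl⟩
      have hirr : Irreducible (Polynomial.X ^ p - Polynomial.C x : Polynomial K) :=
        X_pow_sub_C_irreducible_of_prime (Fact.out : p.Prime) hnp
      haveI : Fact (Irreducible (Polynomial.X ^ p - Polynomial.C x : Polynomial K)) := ⟨hirr⟩
      let L := AdjoinRoot (Polynomial.X ^ p - Polynomial.C x : Polynomial K)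
      let θ : L := AdjoinRoot.root _
      have hθ : θ ^ p = algebraMap K L x := by
        have h1 := AdjoinRoot.eval₂_root (Polynomial.X ^ p - Polynomial.C x : Polynomial K)
        simp only [Polynomial.eval₂_sub, Polynomial.eval₂_pow, Polynomial.eval₂_X,
          Polynomial.eval₂_C] at h1
        exact sub_eq_zero.mp h1
      haveI : CharP L p := charP_of_injective_algebraMap (algebraMap K L).injective p
      have hfin : Module.Finite L (EGA41.imperfection k₀ K L) :=
        (imperfection_finite_of_adjoin_eq_top (A := k₀) θ AdjoinRoot.adjoinRoot_eq_top).1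
      obtain ⟨i, hi⟩ := hL L hfin
      let z : TensorProduct K L (Ω[K⁄k₀]) := (1 : L) ⊗ₜ[K] KaehlerDifferential.D k₀ K x
      have hz1 : z ∈ EGA41.imperfection k₀ K L := by
        show KaehlerDifferential.mapBaseChange k₀ K L z = 0
        rw [KaehlerDifferential.mapBaseChange_tmul, one_smul, KaehlerDifferential.map_D, ← hθ]
        exact derivation_pow_char p _ θ
      have hz2 : ((KaehlerDifferential.map k₀ (k i) K K).restrictScalars K).baseChange L z = 0 := by
        show ((KaehlerDifferential.map k₀ (k i) K K).restrictScalars K).baseChange L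
          ((1 : L) ⊗ₜ[K] KaehlerDifferential.D k₀ K x) = 0
        have hid : algebraMap K K x = x := rfl
        rw [LinearMap.baseChange_tmul, LinearMap.restrictScalars_apply, KaehlerDifferential.map_D,
          hid, (hDi i x).mpr (hx i), TensorProduct.tmul_zero]
      have hz0 : z = 0 := hi z hz1 hz2
      have hinj := Module.Flat.tensorProduct_mk_injective K (Ω[K⁄k₀]) L
      have : KaehlerDifferential.D k₀ K x = 0 := hinj (by
        rw [map_zero]
        exact hz0)
      exact hx0 ((hD0 x).mp this)
    · exact le_iInf fun i => le_sup_right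

end Groth.Agent.S4545
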