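import Groth.Statements.S4546
import Groth.Agent.Lib.Helper13.Admissible3
import Groth.Agent.S2475
import Groth.Agent.S4545
open Groth.Agent.Lib.Helper13.Admissible

set_option autoImplicit false
universe u
open EGA41

namespace Groth.Agent.S4546

/-- Let K be a field of characteristic p > 0, k₀ a subfield, (k_α) a decreasing filtered family of
subfields of K containing k₀ with ⋂_α k_α(K^p) = k₀(K^p). Then for every extension L of K such that
Υ_{L/K/k₀} has finite rank over L, one has ⋂_α k_α(L^p) = k₀(L^p) (the k_α being viewed inside L). -/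
theorem result (p : ℕ) [Fact p.Prime] {k₀ K L : Type u}
    [Field k₀] [Field K] [Field L] [Algebra k₀ K] [Algebra K L] [Algebra k₀ L] [IsScalarTower k₀ K L] [CharP K p] [CharP L p]
    {ι : Type u} [Preorder ι] [IsDirected ι (· ≤ ·)] [Nonempty ι] (k : ι → IntermediateField k₀ K) (hk : Antitone k)
    (h : (⨅ i, k i ⊔ IntermediateField.adjoin k₀ (Set.range fun y : K => y ^ p)) =
      IntermediateField.adjoin k₀ (Set.range fun y : K => y ^ p))
    [Module.Finite L (EGA41.imperfection k₀ K L)] :
    (⨅ i, (k i).map (IsScalarTower.toAlgHom k₀ K L) ⊔ IntermediateField.adjoin k₀ (Set.range fun y : L => y ^ p)) =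
      IntermediateField.adjoin k₀ (Set.range fun y : L => y ^ p) := by
  classical
  let k' : ι → IntermediateField k₀ L := fun i => (k i).map (IsScalarTower.toAlgHom k₀ K L)
  have hk' : Antitone k' := fun i j hij => IntermediateField.map_mono _ (hk hij)
  have hsep := (Groth.Agent.S2475.result p k hk).mp h
  have hadm := (Groth.Agent.S4545.result p k hk).mp h L inferInstance
  refine (Groth.Agent.S2475.result p k' hk').mpr ?_
  intro ω hω
  refine eq_zero_of_forall_map_eq_zero hk L hsep hadm ω fun i => ?_
  have hc : ∀ c ∈ k' i, ∃ r : k i, algebraMap (k i) L r = c := by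
    rintro c ⟨c₀, hc₀, rfl⟩
    exact ⟨⟨c₀, hc₀⟩, rfl⟩
  rw [← compare_comp_map (k i) (k' i) hc ω, hω i, map_zero]

end Groth.Agent.S4546
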