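import Groth.Statements.S4547
import Mathlib

set_option autoImplicit false
universe u
open EGA41

namespace Groth.Agent.S4547

open IsLocalRing TensorProduct in
theorem core {A : Type u} [CommRing A] [IsLocalRing A] {M N : Type u}
    [AddCommGroup M] [Module A M] [AddCommGroup N] [Module A N] [Module.Projective A N]
    (u : M →ₗ[A] N) (m : ℕ) (x : Fin m → M) (hx : Submodule.span A (Set.range x) = ⊤)
    (hli : LinearIndependent (ResidueField A) (fun i => (1 : ResidueField A) ⊗ₜ[A] u (x i))) :
    (∃ w : N →ₗ[A] M, w ∘ₗ u = LinearMap.id) ∧ ∃ b : Module.Basis (Fin m) A M, ∀ i, b i = x i := by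
  classical
  set k := ResidueField A with hk
  let v : Fin m → k ⊗[A] N := fun i => (1 : k) ⊗ₜ[A] u (x i)
  let f : (Fin m → k) →ₗ[k] k ⊗[A] N := Fintype.linearCombination k v
  have hf : LinearMap.ker f = ⊥ :=
    LinearMap.ker_eq_bot.mpr hli.fintypeLinearCombination_injective
  obtain ⟨g, hg⟩ := LinearMap.exists_leftInverse_of_injective f hf
  have hgv : ∀ i, g (v i) = Pi.single i 1 := by
    intro i
    have h1 : f (Pi.single i 1) = v i := by
      simp [f, Fintype.linearCombination_apply_single]
    rw [← h1]
    exact LinearMap.congr_fun hg _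
  -- lift to `A`
  let g₀ : N →ₗ[A] (Fin m → k) := (g.restrictScalars A) ∘ₗ (TensorProduct.mk A k N 1)
  let π : (Fin m → A) →ₗ[A] (Fin m → k) :=
    LinearMap.pi fun i => (Algebra.linearMap A k) ∘ₗ LinearMap.proj i
  have hπ : Function.Surjective π := by
    intro y
    choose a ha using fun i => IsLocalRing.residue_surjective (y i)
    exact ⟨a, funext fun i => ha i⟩
  obtain ⟨ψ, hψ⟩ := Module.projective_lifting_property π g₀ hπ
  let α : (Fin m → A) →ₗ[A] M := Fintype.linearCombination A x
  have hα : Function.Surjective α := by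
    rw [← LinearMap.range_eq_top, Fintype.range_linearCombination]; exact hx
  let θ : (Fin m → A) →ₗ[A] (Fin m → A) := ψ ∘ₗ u ∘ₗ α
  have hθ : ∀ i j, IsLocalRing.residue A (θ (Pi.single j 1) i) = if i = j then 1 else 0 := by
    intro i j
    have h1 : π (ψ (u (x j))) = g₀ (u (x j)) := LinearMap.congr_fun hψ _
    have h2 : g₀ (u (x j)) = Pi.single j 1 := hgv j
    have h3 : θ (Pi.single j 1) = ψ (u (x j)) := by
      simp [θ, α, Fintype.linearCombination_apply_single]
    rw [h3]
    have h4 := congrFun (h1.trans h2) i
    simp only [π, LinearMap.pi_apply, LinearMap.coe_comp, Function.comp_apply, LinearMap.proj_apply,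
      Algebra.linearMap_apply] at h4
    rw [Pi.single_apply] at h4
    exact h4
  have hdet : IsUnit (LinearMap.toMatrix (Pi.basisFun A (Fin m)) (Pi.basisFun A (Fin m)) θ).det := by
    rw [← IsLocalRing.residue_ne_zero_iff_isUnit, RingHom.map_det]
    have : (IsLocalRing.residue A).mapMatrix
        (LinearMap.toMatrix (Pi.basisFun A (Fin m)) (Pi.basisFun A (Fin m)) θ) = 1 := by
      ext i j
      simp only [RingHom.mapMatrix_apply, Matrix.map_apply, LinearMap.toMatrix_apply, Pi.basisFun_apply,
        Pi.basisFun_repr, Matrix.one_apply]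
      exact hθ i j
    rw [this, Matrix.det_one]
    exact one_ne_zero
  let Θ : (Fin m → A) ≃ₗ[A] (Fin m → A) := LinearEquiv.ofIsUnitDet hdet
  have hΘ : ∀ y, Θ y = θ y := fun y => by
    have := LinearEquiv.coe_ofIsUnitDet hdet
    exact LinearMap.congr_fun this y
  have hαinj : Function.Injective α := by
    intro y z hyz
    apply Θ.injective
    rw [hΘ, hΘ]
    simp only [θ, LinearMap.coe_comp, Function.comp_apply, hyz]
  let e : (Fin m → A) ≃ₗ[A] M := LinearEquiv.ofBijective α ⟨hαinj, hα⟩
  refine ⟨⟨e.toLinearMap ∘ₗ Θ.symm.toLinearMap ∘ₗ ψ, ?_⟩, ?_⟩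
  · ext y
    obtain ⟨z, rfl⟩ := hα y
    simp only [LinearMap.coe_comp, LinearEquiv.coe_coe, Function.comp_apply, LinearMap.id_coe, id_eq]
    have : ψ (u (α z)) = Θ z := by rw [hΘ]; rfl
    rw [this, LinearEquiv.symm_apply_apply]
    rfl
  · refine ⟨(Pi.basisFun A (Fin m)).map e, fun i => ?_⟩
    simp [e, α, Fintype.linearCombination_apply_single]

end Groth.Agent.S4547

namespace Groth.Agent.S4547

open IsLocalRing TensorProduct in
/-- Let A be a local ring with residue field k, M an A-module of finite type, N a projective A-module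
and u : M → N a homomorphism. Then u is left invertible if and only if there is a finite system of
generators (x_i) of M such that the elements 1 ⊗ u(x_i) of k ⊗_A N are linearly independent over k;
and such a system (x_i) is then a basis of M. -/
theorem result {A : Type u} [CommRing A] [IsLocalRing A] {M N : Type u}
    [AddCommGroup M] [Module A M] [Module.Finite A M] [AddCommGroup N] [Module A N] [Module.Projective A N]
    (u : M →ₗ[A] N) :
    ((∃ w : N →ₗ[A] M, w ∘ₗ u = LinearMap.id) ↔
      ∃ (m : ℕ) (x : Fin m → M), Submodule.span A (Set.range x) = ⊤ ∧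
        LinearIndependent (ResidueField A) (fun i => (1 : ResidueField A) ⊗ₜ[A] u (x i))) ∧
    ∀ (m : ℕ) (x : Fin m → M), Submodule.span A (Set.range x) = ⊤ →
      LinearIndependent (ResidueField A) (fun i => (1 : ResidueField A) ⊗ₜ[A] u (x i)) →
        ∃ b : Module.Basis (Fin m) A M, ∀ i, b i = x i := by
  classical
  refine ⟨⟨?_, ?_⟩, fun m x hx hli => (core u m x hx hli).2⟩
  · rintro ⟨w, hw⟩
    have hproj : Module.Projective A M := Module.Projective.of_split u w hw
    have hfree : Module.Free A M := Module.free_of_flat_of_isLocalRing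
    let b := Module.finBasis A M
    refine ⟨Module.finrank A M, b, b.span_eq, ?_⟩
    have hinj : Function.Injective (u.baseChange (ResidueField A)) := by
      have h1 : (w.baseChange (ResidueField A)) ∘ₗ (u.baseChange (ResidueField A)) = LinearMap.id := by
        rw [← LinearMap.baseChange_comp, hw, LinearMap.baseChange_id]
      exact Function.LeftInverse.injective (g := w.baseChange (ResidueField A))
        (fun y => LinearMap.congr_fun h1 y)
    have hb := (b.baseChange (ResidueField A)).linearIndependent
    have := hb.map' (u.baseChange (ResidueField A)) (LinearMap.ker_eq_bot.mpr hinj)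
    have h2 : (fun i => (1 : ResidueField A) ⊗ₜ[A] u (b i)) =
        (u.baseChange (ResidueField A)) ∘ (b.baseChange (ResidueField A)) := by
      ext i; simp [Module.Basis.baseChange_apply]
    rw [h2]
    exact this
  · rintro ⟨m, x, hx, hli⟩
    exact (core u m x hx hli).1

end Groth.Agent.S4547
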