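import Groth.Statements.S4548
import Groth.Agent.Lib.Helper13.PSFrob
import Groth.Agent.Lib.Helper13.Admissible4
open Groth.Agent.Lib.Helper13 Groth.Agent.Lib.Helper13.PSFrob Groth.Agent.Lib.Helper13.Admissible

set_option autoImplicit false
universe u
open EGA41

namespace Groth.Agent.S4548

/-- Let k be a field of characteristic p > 0, A = k[[T_1, …, T_r]] and K its field of fractions. Then
there is a decreasing filtered family (A_α) of Noetherian subrings of A (rendered: a nonempty
family, directed downwards for inclusion) such that A is a free A_α-module of finite type for every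
α and, K_α denoting the subfield of K generated by A_α (its field of fractions inside K), ⋂_α K_α =
K^p. -/
theorem result (p : ℕ) [Fact p.Prime] (k : Type u) [Field k] [CharP k p]
    (r : ℕ) :
    ∃ (ι : Type u) (_ : Nonempty ι) (S : ι → Subring (MvPowerSeries (Fin r) k)),
      (∀ a b : ι, ∃ c, S c ≤ S a ⊓ S b) ∧
      (∀ i, IsNoetherianRing (S i) ∧ Module.Free (S i) (MvPowerSeries (Fin r) k) ∧ Module.Finite (S i) (MvPowerSeries (Fin r) k)) ∧
      ((⨅ i, Subfield.closure (algebraMap (MvPowerSeries (Fin r) k) (FractionRing (MvPowerSeries (Fin r) k)) '' (S i)) :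
          Set (FractionRing (MvPowerSeries (Fin r) k)))) =
        Set.range fun x : FractionRing (MvPowerSeries (Fin r) k) => x ^ p := by
  classical
  have hp0 : p ≠ 0 := (Fact.out : p.Prime).ne_zero
  haveI : ExpChar k p := ExpChar.prime Fact.out
  haveI : IsDomain (MvPowerSeries (Fin r) k) := NoZeroDivisors.to_isDomain _
  -- base field k₀ = k^p
  let k₀ : Subfield k := (frobenius k p).fieldRange
  obtain ⟨B, hB⟩ := SepDiff.exists_pBasis (K := k₀) (E := k) p
  let kf : Finset B → Subfield k := fun F => (kF (k₀ := k₀) p B F).toSubfield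
  have hkfmem : ∀ F (c : k), c ∈ kf F ↔ c ∈ kF (k₀ := k₀) p B F := fun F c => Iff.rfl
  let S : Finset B → Subring (MvPowerSeries (Fin r) k) := fun F => SF p hp0 (kf F)
  have hpow : ∀ F (y : k), y ^ p ∈ kf F := fun F y => pow_mem_kF p B F y
  have hfin : ∀ F, Module.Finite (kf F) k := fun F => finite_kF p hB F
  have hfree : ∀ F, Module.Free (S F) (MvPowerSeries (Fin r) k) := fun F => by
    haveI := hfin F
    exact free_SF p hp0 (kf F)
  set φ := algebraMap (MvPowerSeries (Fin r) k) (FractionRing (MvPowerSeries (Fin r) k)) with hφ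
  refine ⟨Finset B, ⟨∅⟩, S, ?_, ?_, ?_⟩
  · intro F F'
    have hmono : ∀ G G' : Finset B, G ≤ G' → S G' ≤ S G := by
      intro G G' hGG' f hf
      rw [mem_SF_iff] at hf ⊢
      intro n
      exact ⟨kF_antitone p B hGG' (hf n).1, (hf n).2⟩
    exact ⟨F ∪ F', le_inf (hmono _ _ Finset.subset_union_left)
      (hmono _ _ Finset.subset_union_right)⟩
  · intro F
    haveI := hfin F
    exact ⟨isNoetherianRing_SF p hp0 (kf F), hfree F, finite_SF p hp0 (kf F)⟩
  · ext x
    rw [Set.iInf_eq_iInter, Set.mem_iInter, Set.mem_range]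
    constructor
    · intro hx
      obtain ⟨a, b, hb, rfl⟩ := IsFractionRing.div_surjective (MvPowerSeries (Fin r) k) x
      have hb0 : φ b ≠ 0 := fun h =>
        nonZeroDivisors.ne_zero hb (IsFractionRing.injective _ _ (by rw [h, map_zero]))
      obtain ⟨q, hq⟩ : ∃ q, p = q + 1 := ⟨p - 1, (Nat.succ_pred_eq_of_pos (Nat.pos_of_ne_zero hp0)).symm⟩
      set u := a * b ^ q with hu
      have hxu : φ a / φ b = φ u / φ (b ^ p) := by
        rw [hu, map_mul, map_pow, map_pow, hq, pow_succ]
        field_simp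
      have huS : ∀ F, u ∈ S F := by
        intro F
        haveI := hfree F
        apply mem_of_algebraMap_mem_closure (K := FractionRing (MvPowerSeries (Fin r) k)) (S F) u
        have h1 : φ u = (φ a / φ b) * φ (b ^ p) := by
          rw [hxu, div_mul_cancel₀]
          rw [map_pow]; exact pow_ne_zero _ hb0
        rw [← hφ, h1]
        exact mul_mem (hx F) (Subfield.subset_closure ⟨_, pow_mem_SF p hp0 (kf F) (hpow F) b, rfl⟩)
      have hu1 : ∀ n, ∃ y : k, y ^ p = MvPowerSeries.coeff n u := by
        intro n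
        set c := MvPowerSeries.coeff n u with hc
        have hcF : ∀ F, c ∈ kF (k₀ := k₀) p B F := fun F =>
          ((mem_SF_iff p hp0 (kf F) u).mp (huS F) n).1
        have hD : KaehlerDifferential.D k₀ k c = 0 := by
          apply kF_separating p hB
          intro F
          rw [KaehlerDifferential.map_D]
          exact Derivation.map_algebraMap _ (⟨c, hcF F⟩ : kF (k₀ := k₀) p B F)
        have hcm := (D_eq_zero_iff p c).mp hD
        have hle : EGA41.pPowerSubalgebra p k₀ k ≤ ⊥ := by
          unfold EGA41.pPowerSubalgebra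
          rw [Algebra.adjoin_le_iff]
          rintro _ ⟨y, rfl⟩
          exact ⟨⟨y ^ p, ⟨y, by rw [frobenius_def]⟩⟩, rfl⟩
        obtain ⟨⟨c', y, hy⟩, hc'⟩ := hle hcm
        refine ⟨y, ?_⟩
        rw [← frobenius_def, hy]
        exact hc'
      have hu2 : ∀ n, MvPowerSeries.coeff n u ≠ 0 → ∀ i, p ∣ n i := fun n =>
        ((mem_SF_iff p hp0 (kf ∅) u).mp (huS ∅) n).2
      obtain ⟨w, hw⟩ := exists_pow_eq p hp0 u hu1 hu2
      refine ⟨φ w / φ b, ?_⟩
      rw [hxu, div_pow, ← map_pow, ← map_pow, hw]
    · rintro ⟨y, rfl⟩ F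
      obtain ⟨a, b, hb, rfl⟩ := IsFractionRing.div_surjective (MvPowerSeries (Fin r) k) y
      rw [div_pow, ← map_pow, ← map_pow]
      exact div_mem (Subfield.subset_closure ⟨_, pow_mem_SF p hp0 (kf F) (hpow F) a, rfl⟩)
        (Subfield.subset_closure ⟨_, pow_mem_SF p hp0 (kf F) (hpow F) b, rfl⟩)

end Groth.Agent.S4548
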