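import Groth.Statements.S4550
import Mathlib
-- import your own Groth.Agent.* helpers here

set_option autoImplicit false
universe u
open EGA41

namespace Groth.Agent.S4550

section PRE
open MvPowerSeries

variable {k : Type u} [Field k] {r : ℕ}

/-- power series with coefficients in a subfield, as a subring -/
def coeffSub (E : Subfield k) : Subring (MvPowerSeries (Fin r) k) where
  carrier := {f | ∀ n, coeff n f ∈ E}
  mul_mem' := by
    intro a b ha hb n
    classical
    rw [coeff_mul]
    exact Subfield.sum_mem _ (fun p _ => E.mul_mem (ha _) (hb _))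
  one_mem' := by
    intro n
    classical
    rw [coeff_one]
    split_ifs
    · exact E.one_mem
    · exact E.zero_mem
  add_mem' := by
    intro a b ha hb n
    rw [map_add]
    exact E.add_mem (ha _) (hb _)
  zero_mem' := by
    intro n
    rw [map_zero]
    exact E.zero_mem
  neg_mem' := by
    intro a ha n
    rw [map_neg]
    exact E.neg_mem (ha _)

lemma mem_coeffSub (E : Subfield k) (f : MvPowerSeries (Fin r) k) :
    f ∈ coeffSub (r := r) E ↔ ∀ n, coeff n f ∈ E := Iff.rfl

lemma frob_mem (E : Subfield k) (e : ℕ) (hq : ∀ x : k, x ^ ringExpChar k ^ e ∈ E)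
    (g : MvPowerSeries (Fin r) k) : g ^ ringExpChar k ^ e ∈ coeffSub (r := r) E := by
  intro n
  have hp : ringExpChar k ≠ 0 := expChar_ne_zero k (ringExpChar k)
  rw [← map_iterateFrobenius_expand (ringExpChar k) hp g e, coeff_map, iterateFrobenius_def]
  exact hq _

lemma exists_retr (E : Subfield k) : ∃ ρ : k →ₗ[E] E, ∀ a : E, ρ (a : k) = a := by
  obtain ⟨g, hg⟩ := LinearMap.exists_leftInverse_of_injective (Algebra.linearMap E k)
    (LinearMap.ker_eq_bot.mpr (algebraMap E k).injective)
  refine ⟨g, fun a => ?_⟩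
  have := LinearMap.congr_fun hg a
  simp only [LinearMap.coe_comp, Function.comp_apply, Algebra.linearMap_apply,
    LinearMap.id_coe, id_eq] at this
  exact this

/-- the key descent: if `b * f = c` with `b ≠ 0`, `b, c` having coefficients in `E`, so has `f`. -/
lemma descend (E : Subfield k) (f b c : MvPowerSeries (Fin r) k) (hb : b ∈ coeffSub (r := r) E)
    (hc : c ∈ coeffSub (r := r) E) (hb0 : b ≠ 0) (h : b * f = c) : f ∈ coeffSub (r := r) E := by
  classical
  obtain ⟨ρ, hρ⟩ := exists_retr E
  let T : MvPowerSeries (Fin r) k → MvPowerSeries (Fin r) k := fun g n => ((ρ (coeff n g) : E) : k)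
  have hT : ∀ g n, coeff n (T g) = ((ρ (coeff n g) : E) : k) := fun g n => rfl
  have hTfix : ∀ g, g ∈ coeffSub (r := r) E → T g = g := by
    intro g hg
    ext n
    rw [hT]
    have := hρ ⟨coeff n g, hg n⟩
    simp only at this
    rw [this]
  have hTmul : T (b * f) = b * T f := by
    ext n
    rw [hT, coeff_mul, coeff_mul, map_sum]
    push_cast
    refine Finset.sum_congr rfl (fun p _ => ?_)
    rw [hT]
    have e1 : coeff p.1 b * coeff p.2 f = (⟨coeff p.1 b, hb p.1⟩ : E) • coeff p.2 f := rfl
    rw [e1, map_smul]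
    rfl
  have h1 : b * T f = b * f := by
    rw [← hTmul, h, hTfix c hc]
  have h2 : T f = f := mul_left_cancel₀ hb0 h1
  rw [← h2]
  intro n
  rw [hT]
  exact (ρ (coeff n f)).2


lemma mem_closure_iff_frac (E : Subfield k) (x : FractionRing (MvPowerSeries (Fin r) k)) :
    x ∈ Subfield.closure (algebraMap (MvPowerSeries (Fin r) k)
        (FractionRing (MvPowerSeries (Fin r) k)) '' {f | ∀ n, MvPowerSeries.coeff n f ∈ E}) ↔
      ∃ a ∈ coeffSub (r := r) E, ∃ b ∈ coeffSub (r := r) E,
        algebraMap (MvPowerSeries (Fin r) k) (FractionRing (MvPowerSeries (Fin r) k)) a /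
          algebraMap (MvPowerSeries (Fin r) k) (FractionRing (MvPowerSeries (Fin r) k)) b = x := by
  have hset : (algebraMap (MvPowerSeries (Fin r) k)
        (FractionRing (MvPowerSeries (Fin r) k)) '' {f | ∀ n, MvPowerSeries.coeff n f ∈ E})
      = (((coeffSub (r := r) E).map (algebraMap (MvPowerSeries (Fin r) k)
        (FractionRing (MvPowerSeries (Fin r) k))) : Subring _) : Set _) := by
    rw [Subring.coe_map]
    rfl
  rw [Subfield.mem_closure_iff, hset, Subring.closure_eq]
  constructor
  · rintro ⟨y, hy, z, hz, rfl⟩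
    obtain ⟨a, ha, rfl⟩ := Subring.mem_map.mp hy
    obtain ⟨b, hb, rfl⟩ := Subring.mem_map.mp hz
    exact ⟨a, ha, b, hb, rfl⟩
  · rintro ⟨a, ha, b, hb, rfl⟩
    exact ⟨_, Subring.mem_map.mpr ⟨a, ha, rfl⟩, _, Subring.mem_map.mpr ⟨b, hb, rfl⟩, rfl⟩

end PRE

/-- Let k be a field, (k_α) a decreasing filtered family of subfields of k with intersection k₀, and
suppose there is a power q of the characteristic exponent of k with k^q ⊆ k₀. Then, inside k((T_1,
…, T_r)), one has ⋂_α k_α((T_1, …, T_r)) = k₀((T_1, …, T_r)); here F((T)) is the subfield of the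
fraction field of k[[T]] generated by the power series with all coefficients in F. -/
theorem result {k : Type u} [Field k] {ι : Type u} [Nonempty ι] (F : ι → Subfield k)
    (hdir : ∀ a b : ι, ∃ c, F c ≤ F a ⊓ F b) (e : ℕ) (hq : ∀ x : k, x ^ ringExpChar k ^ e ∈ ⨅ i, F i) (r : ℕ) :
    (⨅ i, Subfield.closure (algebraMap (MvPowerSeries (Fin r) k) (FractionRing (MvPowerSeries (Fin r) k)) ''
        {f | ∀ n, MvPowerSeries.coeff n f ∈ F i})) =
      Subfield.closure (algebraMap (MvPowerSeries (Fin r) k) (FractionRing (MvPowerSeries (Fin r) k)) ''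
        {f | ∀ n, MvPowerSeries.coeff n f ∈ ⨅ i, F i}) := by
  have hφ : Function.Injective (algebraMap (MvPowerSeries (Fin r) k)
      (FractionRing (MvPowerSeries (Fin r) k))) := IsFractionRing.injective _ _
  apply le_antisymm
  · intro x hx
    rw [Subfield.mem_iInf] at hx
    obtain ⟨i₀⟩ := ‹Nonempty ι›
    obtain ⟨a₀, ha₀, b₀, hb₀, hx0⟩ := (mem_closure_iff_frac (F i₀) x).mp (hx i₀)
    by_cases hb0 : b₀ = 0
    · rw [hb0, map_zero, div_zero] at hx0
      rw [← hx0]
      exact Subfield.zero_mem _
    · have hQ : 0 < ringExpChar k ^ e := pow_pos (expChar_pos k (ringExpChar k)) e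
      have hh : b₀ ^ (ringExpChar k ^ e) ∈ coeffSub (r := r) (⨅ i, F i) := frob_mem _ e hq b₀
      have hh0 : b₀ ^ (ringExpChar k ^ e) ≠ 0 := pow_ne_zero _ hb0
      have hφb : algebraMap (MvPowerSeries (Fin r) k)
          (FractionRing (MvPowerSeries (Fin r) k)) b₀ ≠ 0 := by
        intro h
        exact hb0 (hφ (by rw [h, map_zero]))
      have hsplit : b₀ ^ (ringExpChar k ^ e) = b₀ ^ (ringExpChar k ^ e - 1) * b₀ := by
        rw [← pow_succ]
        congr 1
        omega
      have hx' : x = algebraMap _ (FractionRing (MvPowerSeries (Fin r) k))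
          (a₀ * b₀ ^ (ringExpChar k ^ e - 1)) /
          algebraMap _ (FractionRing (MvPowerSeries (Fin r) k)) (b₀ ^ (ringExpChar k ^ e)) := by
        rw [← hx0]
        conv_rhs => rw [hsplit]
        rw [map_mul, map_mul]
        have h2 : algebraMap (MvPowerSeries (Fin r) k)
          (FractionRing (MvPowerSeries (Fin r) k)) (b₀ ^ (ringExpChar k ^ e - 1)) ≠ 0 := by
          intro h
          exact (pow_ne_zero _ hb0) (hφ (by rw [h, map_zero]))
        field_simp
      have hf : ∀ i, a₀ * b₀ ^ (ringExpChar k ^ e - 1) ∈ coeffSub (r := r) (F i) := by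
        intro i
        obtain ⟨a, ha, b, hb, hab⟩ := (mem_closure_iff_frac (F i) x).mp (hx i)
        have hhi : b₀ ^ (ringExpChar k ^ e) ∈ coeffSub (r := r) (F i) :=
          fun n => (iInf_le F i) (hh n)
        have hφh : algebraMap (MvPowerSeries (Fin r) k)
            (FractionRing (MvPowerSeries (Fin r) k)) (b₀ ^ (ringExpChar k ^ e)) ≠ 0 := by
          intro h
          exact hh0 (hφ (by rw [h, map_zero]))
        by_cases hb1 : b = 0
        · rw [hb1, map_zero, div_zero] at hab
          rw [← hab] at hx'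
          have : algebraMap (MvPowerSeries (Fin r) k)
              (FractionRing (MvPowerSeries (Fin r) k)) (a₀ * b₀ ^ (ringExpChar k ^ e - 1)) = 0 := by
            rcases div_eq_zero_iff.mp hx'.symm with h | h
            · exact h
            · exact absurd h hφh
          have h0 : a₀ * b₀ ^ (ringExpChar k ^ e - 1) = 0 := hφ (by rw [this, map_zero])
          rw [h0]
          exact Subring.zero_mem _
        · have hφb1 : algebraMap (MvPowerSeries (Fin r) k)
              (FractionRing (MvPowerSeries (Fin r) k)) b ≠ 0 := by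
            intro h
            exact hb1 (hφ (by rw [h, map_zero]))
          refine descend (F i) _ b (a * b₀ ^ (ringExpChar k ^ e)) hb (Subring.mul_mem _ ha hhi) hb1 ?_
          apply hφ
          have := hab.trans hx'
          rw [div_eq_div_iff hφb1 hφh] at this
          simp only [map_mul, map_pow] at this ⊢
          linear_combination (-1 : FractionRing (MvPowerSeries (Fin r) k)) * this
      have hf' : a₀ * b₀ ^ (ringExpChar k ^ e - 1) ∈ coeffSub (r := r) (⨅ i, F i) :=
        fun n => Subfield.mem_iInf.mpr (fun i => hf i n)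
      rw [hx']
      exact (mem_closure_iff_frac _ _).mpr ⟨_, hf', _, hh, rfl⟩
  · apply le_iInf
    intro i
    apply Subfield.closure_mono
    apply Set.image_mono
    intro f hf n
    exact (iInf_le F i) (hf n)


end Groth.Agent.S4550
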