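import Groth.Statements.S4552
-- import your own Groth.Agent.* helpers here

set_option autoImplicit false
universe u
open EGA41

namespace Groth.Agent.S4552

/-- For the 𝔞-adic topology on A and the deduced topology on M: the topological A-module M is formally
projective (for every open ideal 𝔞ⁿ, every pair of (A/𝔞ⁿ)-modules P, Q, every surjection P → Q and
every continuous A-linear map M → Q — here automatically continuous — there is a continuous A-linear
lift M → P) if and only if it is strictly formally projective, i.e. M/𝔞ⁿM is a projective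
(A/𝔞ⁿ)-module for every n. -/
theorem result {A : Type u} [CommRing A] (𝔞 : Ideal A) (M : Type u)
    [AddCommGroup M] [Module A M] :
    (∀ (n : ℕ) (P Q : Type u) [AddCommGroup P] [Module A P] [AddCommGroup Q] [Module A Q],
      (∀ a ∈ 𝔞 ^ n, ∀ y : P, a • y = 0) → (∀ a ∈ 𝔞 ^ n, ∀ y : Q, a • y = 0) →
      ∀ f : P →ₗ[A] Q, Function.Surjective f → ∀ v : M →ₗ[A] Q, ∃ w : M →ₗ[A] P, f ∘ₗ w = v) ↔
    ∀ n : ℕ, Module.Projective (A ⧸ 𝔞 ^ n) (M ⧸ (𝔞 ^ n • ⊤ : Submodule A M)) := by
  constructor
  · intro h n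
    set I : Ideal A := 𝔞 ^ n with hI
    have hsurjA : Function.Surjective (algebraMap A (A ⧸ I)) := Ideal.Quotient.mk_surjective
    refine Module.Projective.of_lifting_property'' (fun f hf => ?_)
    -- view as A-modules
    have hP : ∀ a ∈ 𝔞 ^ n, ∀ y : ((M ⧸ (I • ⊤ : Submodule A M)) →₀ (A ⧸ I)), a • y = 0 := by
      intro a ha y
      rw [← algebraMap_smul (A ⧸ I) a y]
      have : algebraMap A (A ⧸ I) a = 0 := Ideal.Quotient.eq_zero_iff_mem.mpr ha
      rw [this, zero_smul]
    have hQ : ∀ a ∈ 𝔞 ^ n, ∀ y : (M ⧸ (I • ⊤ : Submodule A M)), a • y = 0 := by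
      intro a ha y
      rw [← algebraMap_smul (A ⧸ I) a y]
      have : algebraMap A (A ⧸ I) a = 0 := Ideal.Quotient.eq_zero_iff_mem.mpr ha
      rw [this, zero_smul]
    obtain ⟨w, hw⟩ := h n _ _ hP hQ (f.restrictScalars A) hf (Submodule.mkQ (I • ⊤ : Submodule A M))
    have hker : (I • ⊤ : Submodule A M) ≤ LinearMap.ker w := by
      rw [Submodule.smul_le]
      intro a ha m _
      rw [LinearMap.mem_ker, map_smul]
      exact hP a ha _
    let w' : (M ⧸ (I • ⊤ : Submodule A M)) →ₗ[A] ((M ⧸ (I • ⊤ : Submodule A M)) →₀ (A ⧸ I)) :=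
      Submodule.liftQ _ w hker
    refine ⟨w'.extendScalarsOfSurjective hsurjA, ?_⟩
    apply LinearMap.ext
    intro x
    obtain ⟨m, rfl⟩ := Submodule.mkQ_surjective _ x
    have := LinearMap.congr_fun hw m
    simpa [w'] using this
  · intro h n P Q _ _ _ _ hP hQ f hf v
    set I : Ideal A := 𝔞 ^ n with hI
    have hsurjA : Function.Surjective (algebraMap A (A ⧸ I)) := Ideal.Quotient.mk_surjective
    have tP : Module.IsTorsionBySet A P (I : Set A) := fun x a => hP a.1 a.2 x
    have tQ : Module.IsTorsionBySet A Q (I : Set A) := fun x a => hQ a.1 a.2 x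
    letI mP : Module (A ⧸ I) P := tP.module
    letI mQ : Module (A ⧸ I) Q := tQ.module
    haveI sP : IsScalarTower A (A ⧸ I) P := tP.isScalarTower
    haveI sQ : IsScalarTower A (A ⧸ I) Q := tQ.isScalarTower
    have hker : (I • ⊤ : Submodule A M) ≤ LinearMap.ker v := by
      rw [Submodule.smul_le]
      intro a ha m _
      rw [LinearMap.mem_ker, map_smul]
      exact hQ a ha _
    let v' : (M ⧸ (I • ⊤ : Submodule A M)) →ₗ[A] Q := Submodule.liftQ _ v hker
    obtain ⟨g, hg⟩ := Module.projective_lifting_property (f.extendScalarsOfSurjective hsurjA)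
      (v'.extendScalarsOfSurjective hsurjA) hf
    refine ⟨(g.restrictScalars A) ∘ₗ (Submodule.mkQ (I • ⊤ : Submodule A M)), ?_⟩
    apply LinearMap.ext
    intro m
    have := LinearMap.congr_fun hg (Submodule.mkQ (I • ⊤ : Submodule A M) m)
    simpa [v'] using this

end Groth.Agent.S4552
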