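import Groth.Statements.S4554
-- import your own Groth.Agent.* helpers here
import Groth.Agent.S4553
import Groth.Agent.Lib.Helper31.LeftInv
import Mathlib.RingTheory.Flat.FaithfullyFlat.Algebra

set_option autoImplicit false
universe u
open EGA41

namespace Groth.Agent.S4554

open TensorProduct Groth.Agent.Lib.Helper31.LeftInv

/-- a faithfully flat projective algebra has an `A`-linear retraction -/
theorem exists_retraction (A A' : Type u) [CommRing A] [CommRing A'] [Algebra A A']
    [Module.FaithfullyFlat A A'] [Module.Projective A A'] :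
    ∃ r : A' →ₗ[A] A, ∀ a, r (algebraMap A A' a) = a := by
  obtain ⟨r, hr⟩ := exists_leftInverse_of_forall_maximal (Algebra.linearMap A A')
    (fun m _ => form_of_LI (LI_of_injective m (by
      have h1 : (Algebra.linearMap A A').lTensor m.ResidueField =
          ((TensorProduct.comm A A' m.ResidueField).toLinearMap ∘ₗ
            (TensorProduct.mk A A' m.ResidueField 1)) ∘ₗ
            (TensorProduct.rid A m.ResidueField).toLinearMap := by
        ext c
        simp
      rw [h1]
      exact ((TensorProduct.comm A A' m.ResidueField).injective.comp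
        (Module.FaithfullyFlat.tensorProduct_mk_injective (A := A) (B := A') _)).comp
        (TensorProduct.rid A m.ResidueField).injective)))
  exact ⟨r, fun a => congr($hr a)⟩


section

variable {A B A' : Type u} [CommRing A] [CommRing B] [CommRing A'] [Algebra A B] [Algebra A A']

theorem baseChange (𝔞 : Ideal A) (𝔟 : Ideal B) (h : EGA41.IsFormallySmoothAdic A 𝔞 B 𝔟) :
    EGA41.IsFormallySmoothAdic A' (𝔞.map (algebraMap A A')) (A' ⊗[A] B)
        ((𝔞.map (algebraMap A A')).map (algebraMap A' (A' ⊗[A] B)) ⊔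
          𝔟.map (Algebra.TensorProduct.includeRight : B →ₐ[A] A' ⊗[A] B).toRingHom) := by
  intro C' _ _ J' hJ' hdisc u' hu'
  letI : Algebra A C' := ((algebraMap A' C').comp (algebraMap A A')).toAlgebra
  haveI : IsScalarTower A A' C' := IsScalarTower.of_algebraMap_eq (fun _ => rfl)
  obtain ⟨k, hk⟩ := hdisc
  obtain ⟨m, hm⟩ := hu'
  let u : B →ₐ[A] C' ⧸ J' := (u'.restrictScalars A).comp Algebra.TensorProduct.includeRight
  obtain ⟨v, hv⟩ := h C' J' hJ' ⟨k, by
      rw [← hk, Ideal.map_pow, Ideal.map_pow, Ideal.map_map]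
      rfl⟩ u ⟨m, by
      intro x hx
      change u' ((Algebra.TensorProduct.includeRight : B →ₐ[A] A' ⊗[A] B) x) = 0
      apply hm
      refine Ideal.pow_right_mono le_sup_right m ?_
      rw [← Ideal.map_pow]
      exact Ideal.mem_map_of_mem _ hx⟩
  refine ⟨Algebra.TensorProduct.lift (Algebra.ofId A' C') v (fun _ _ => Commute.all _ _), ?_⟩
  apply Algebra.TensorProduct.ext
  · ext
  · ext b
    have h1 := congr($hv b)
    simp only [AlgHom.comp_apply, AlgHom.restrictScalars_apply, Algebra.TensorProduct.includeRight_apply,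
      Algebra.TensorProduct.lift_tmul, map_one, one_mul]
    exact h1

theorem descent (𝔞 : Ideal A) (𝔟 : Ideal B)
    (hr : ∃ r : A' →ₗ[A] A, ∀ a, r (algebraMap A A' a) = a)
    (h : EGA41.IsFormallySmoothAdic A' (𝔞.map (algebraMap A A')) (A' ⊗[A] B)
        ((𝔞.map (algebraMap A A')).map (algebraMap A' (A' ⊗[A] B)) ⊔
          𝔟.map (Algebra.TensorProduct.includeRight : B →ₐ[A] A' ⊗[A] B).toRingHom)) :
    Groth.Agent.S4553.LiftProp 𝔞 𝔟 := by
  intro C _ _ J hJ2 _ hdisc u hu
  obtain ⟨r, hr⟩ := hr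
  obtain ⟨k, hk⟩ := hdisc
  obtain ⟨m, hm⟩ := hu
  have hkC : ∀ a ∈ 𝔞 ^ k, algebraMap A C a = 0 := by
    intro a ha
    have : algebraMap A C a ∈ (𝔞 ^ k).map (algebraMap A C) := Ideal.mem_map_of_mem _ ha
    rw [hk] at this
    exact (Submodule.mem_bot C).mp this
  let ι : C →ₐ[A] A' ⊗[A] C := Algebra.TensorProduct.includeRight
  let J' : Ideal (A' ⊗[A] C) := J.map ι
  have hJ'sq : ∀ x ∈ J', ∀ y ∈ J', x * y = 0 := by
    have h1 : J' * J' = ⊥ := by
      rw [← Ideal.map_mul, eq_bot_iff, Ideal.map_le_iff_le_comap, Ideal.mul_le]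
      intro j hj j' hj'
      rw [hJ2 j hj j' hj']
      exact Ideal.zero_mem _
    intro x hx y hy
    have := Ideal.mul_mem_mul hx hy
    rw [h1] at this
    exact (Submodule.mem_bot _).mp this
  have hJJ' : J ≤ J'.comap ι := Ideal.le_comap_map
  let u'' : B →ₐ[A] (A' ⊗[A] C) ⧸ J' := (Ideal.quotientMapₐ J' ι hJJ').comp u
  let u' : A' ⊗[A] B →ₐ[A'] (A' ⊗[A] C) ⧸ J' :=
    Algebra.TensorProduct.lift (Algebra.ofId A' _) u'' (fun _ _ => Commute.all _ _)
  have hu'1 : ∀ a ∈ 𝔞 ^ k, algebraMap A (A' ⊗[A] C) a = 0 := by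
    intro a ha
    have : algebraMap A (A' ⊗[A] C) a = ι (algebraMap A C a) := (ι.commutes a).symm
    rw [this, hkC a ha, map_zero]
  obtain ⟨v', hv'⟩ := h (A' ⊗[A] C) J' (Groth.Agent.S4553.isNilpotent_of_mul_eq_zero _ hJ'sq)
    ⟨k, by
      rw [← Ideal.map_pow, Ideal.map_map, eq_bot_iff, Ideal.map_le_iff_le_comap]
      intro a ha
      rw [Ideal.mem_comap, RingHom.comp_apply, ← IsScalarTower.algebraMap_apply, hu'1 a ha]
      exact Ideal.zero_mem _⟩ u' ⟨k + m, by
      have h1 : ((𝔞.map (algebraMap A A')).map (algebraMap A' (A' ⊗[A] B))) ^ k ⊔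
          (𝔟.map (Algebra.TensorProduct.includeRight : B →ₐ[A] A' ⊗[A] B).toRingHom) ^ m ≤
            RingHom.ker u'.toRingHom := by
        refine sup_le ?_ ?_
        · rw [← Ideal.map_pow, ← Ideal.map_pow, Ideal.map_map, Ideal.map_le_iff_le_comap]
          intro a ha
          rw [Ideal.mem_comap, RingHom.mem_ker, RingHom.comp_apply,
            ← IsScalarTower.algebraMap_apply]
          change u' (algebraMap A _ a) = 0
          rw [IsScalarTower.algebraMap_apply A A' (A' ⊗[A] B), u'.commutes,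
            ← IsScalarTower.algebraMap_apply, ← Ideal.Quotient.mk_algebraMap, hu'1 a ha, map_zero]
        · rw [← Ideal.map_pow, Ideal.map_le_iff_le_comap]
          intro b hb
          rw [Ideal.mem_comap, RingHom.mem_ker]
          change u' ((1 : A') ⊗ₜ[A] b) = 0
          rw [Algebra.TensorProduct.lift_tmul, map_one, one_mul]
          change (Ideal.quotientMapₐ J' ι hJJ') (u b) = 0
          rw [hm b hb, map_zero]
      intro x hx
      exact h1 (Ideal.sup_pow_add_le_pow_sup_pow hx)⟩
  let V : B →ₐ[A] A' ⊗[A] C := (v'.restrictScalars A).comp Algebra.TensorProduct.includeRight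
  let R : A' ⊗[A] C →ₗ[A] C := (TensorProduct.lid A C).toLinearMap ∘ₗ (r.rTensor C)
  have hr1 : r 1 = 1 := by rw [← map_one (algebraMap A A'), hr]
  have hR_tmul : ∀ a' c, R (a' ⊗ₜ c) = r a' • c := by
    intro a' c
    simp [R]
  have hRι : ∀ c, R (ι c) = c := by
    intro c
    change R ((1 : A') ⊗ₜ c) = c
    rw [hR_tmul, hr1, one_smul]
  have hR_lin : ∀ c x, R (ι c * x) = c * R x := by
    intro c x
    induction x using TensorProduct.induction_on with
    | zero => simp
    | tmul a' c' =>
      change R ((1 : A') ⊗ₜ c * a' ⊗ₜ c') = _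
      rw [Algebra.TensorProduct.tmul_mul_tmul, one_mul, hR_tmul, hR_tmul, mul_smul_comm]
    | add x y hx hy => rw [mul_add, map_add, hx, hy, map_add, mul_add]
  have hRJ : ∀ x ∈ J', R x ∈ J := by
    intro x hx
    have h1 : ∀ y, R (y * x) ∈ J := by
      change x ∈ Ideal.span (ι '' J) at hx
      induction hx using Submodule.span_induction with
      | mem x hx =>
        obtain ⟨j, hj, rfl⟩ := hx
        intro y
        rw [mul_comm, hR_lin]
        exact J.mul_mem_right _ hj
      | zero => intro y; rw [mul_zero, map_zero]; exact J.zero_mem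
      | add a b _ _ ha hb => intro y; rw [mul_add, map_add]; exact J.add_mem (ha y) (hb y)
      | smul a x _ hx =>
        intro y
        rw [smul_eq_mul, ← mul_assoc]
        exact hx (y * a)
    have := h1 1
    rwa [one_mul] at this
  have hc : ∀ b, ∃ c, Ideal.Quotient.mk J c = u b ∧ V b - ι c ∈ J' := by
    intro b
    obtain ⟨c, hc⟩ := Ideal.Quotient.mk_surjective (u b)
    refine ⟨c, hc, ?_⟩
    rw [← Ideal.Quotient.eq]
    have h1 := congr($hv' ((1 : A') ⊗ₜ[A] b))
    change Ideal.Quotient.mk J' (V b) = u' ((1 : A') ⊗ₜ[A] b) at h1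
    rw [h1, Algebra.TensorProduct.lift_tmul, map_one, one_mul]
    change (Ideal.quotientMapₐ J' ι hJJ') (u b) = _
    rw [← hc]
    rfl
  have key : ∀ x y c c', x - ι c ∈ J' → y - ι c' ∈ J' → R (x * y) = R x * R y := by
    intro x y c c' hx hy
    have hx' : x = ι c + (x - ι c) := by ring
    have hy' : y = ι c' + (y - ι c') := by ring
    have e1 : x * y = ι c * ι c' + ι c * (y - ι c') + ι c' * (x - ι c) +
        (x - ι c) * (y - ι c') := by ring
    rw [e1, hJ'sq _ hx _ hy, add_zero, map_add, map_add, hR_lin, hR_lin, hR_lin, hRι]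
    have e2 : R x = c + R (x - ι c) := by
      conv_lhs => rw [hx', map_add, hRι]
    have e3 : R y = c' + R (y - ι c') := by
      conv_lhs => rw [hy', map_add, hRι]
    rw [e2, e3, add_mul, mul_add, mul_add, hJ2 _ (hRJ _ hx) _ (hRJ _ hy)]
    ring
  let v : B →ₐ[A] C :=
    { toFun := fun b => R (V b)
      map_one' := by
        rw [map_one]
        exact (hRι 1)
      map_mul' := by
        intro b b'
        obtain ⟨c, -, h1⟩ := hc b
        obtain ⟨c', -, h2⟩ := hc b'
        rw [map_mul]
        exact key _ _ c c' h1 h2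
      map_zero' := by rw [map_zero, map_zero]
      map_add' := by intro b b'; rw [map_add, map_add]
      commutes' := by
        intro a
        rw [V.commutes, ← ι.commutes, hRι] }
  refine ⟨v, ?_⟩
  ext b
  obtain ⟨c, hcu, h1⟩ := hc b
  change Ideal.Quotient.mk J (R (V b)) = u b
  have e2 : R (V b) = c + R (V b - ι c) := by
    conv_lhs => rw [show V b = ι c + (V b - ι c) by ring, map_add, hRι]
  rw [e2, map_add, Ideal.Quotient.eq_zero_iff_mem.mpr (hRJ _ h1), add_zero, hcu]

end


open TensorProduct in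
/-- Let A be 𝔞-adic, B a topological A-algebra for the 𝔟-adic topology (a power of 𝔞 maps into 𝔟) which
is a formally projective topological A-module, and A' an A-algebra with the topology deduced from A
(the 𝔞A'-adic topology) which is a faithfully flat, projective A-module of finite type. Then B' = A'
⊗_A B, with the tensor product topology (the adic topology of the ideal generated by the images of 𝔞
and 𝔟), is a formally smooth A'-algebra if and only if B is a formally smooth A-algebra. -/
theorem result {A B A' : Type u} [CommRing A] [CommRing B]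
    [CommRing A'] [Algebra A B] [Algebra A A'] (𝔞 : Ideal A) (𝔟 : Ideal B) (hAB : ∃ k : ℕ, (𝔞 ^ k).map (algebraMap A B) ≤ 𝔟)
    (hproj : ∀ (n : ℕ) (P Q : Type u) [AddCommGroup P] [Module A P] [AddCommGroup Q] [Module A Q],
      (∀ a ∈ 𝔞 ^ n, ∀ y : P, a • y = 0) → (∀ a ∈ 𝔞 ^ n, ∀ y : Q, a • y = 0) →
      ∀ f : P →ₗ[A] Q, Function.Surjective f → ∀ v : B →ₗ[A] Q, (∃ m : ℕ, ∀ x ∈ 𝔟 ^ m, v x = 0) →
        ∃ w : B →ₗ[A] P, (∃ m : ℕ, ∀ x ∈ 𝔟 ^ m, w x = 0) ∧ f ∘ₗ w = v)
    [Module.FaithfullyFlat A A'] [Module.Projective A A'] [Module.Finite A A'] :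
    EGA41.IsFormallySmoothAdic A' (𝔞.map (algebraMap A A')) (A' ⊗[A] B)
        ((𝔞.map (algebraMap A A')).map (algebraMap A' (A' ⊗[A] B)) ⊔
          𝔟.map (Algebra.TensorProduct.includeRight : B →ₐ[A] A' ⊗[A] B).toRingHom) ↔
      EGA41.IsFormallySmoothAdic A 𝔞 B 𝔟 := by
  obtain ⟨_, _⟩ := hAB
  have _ := hproj
  exact ⟨fun h => Groth.Agent.S4553.isFormallySmoothAdic_of_liftProp
    (descent 𝔞 𝔟 (exists_retraction A A') h), baseChange 𝔞 𝔟⟩

end Groth.Agent.S4554
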