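import Groth.Statements.S4555
import Groth.Agent.Lib.Helper76.PSNilp

set_option autoImplicit false
universe u
open EGA41

open Groth.Agent.Lib.Helper76.PSComplete

namespace Groth.Agent.S4555

/-- Let A carry the 𝔞-adic topology, B = A[[T_1, …, T_n]] the product topology (the adic topology of 𝔞B
+ (T_1, …, T_n)), and let E be a discrete topological A-algebra (a power of 𝔞 kills E). (i) If f : B
→ E is a continuous A-algebra homomorphism then each f(T_i) is nilpotent. (ii) Conversely, for every
family (z_i) of nilpotent elements of E there is one and only one continuous A-algebra homomorphism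
g : B → E with g(T_i) = z_i for all i. -/
theorem result (A : Type u) [CommRing A] (𝔞 : Ideal A) (n : ℕ) (E : Type u) [CommRing E]
    [Algebra A E] (hE : ∃ k : ℕ, (𝔞 ^ k).map (algebraMap A E) = ⊥) :
    (∀ f : MvPowerSeries (Fin n) A →ₐ[A] E,
      (∃ m : ℕ, ∀ x ∈ (𝔞.map (MvPowerSeries.C : A →+* MvPowerSeries (Fin n) A) ⊔
        RingHom.ker (MvPowerSeries.constantCoeff : MvPowerSeries (Fin n) A →+* A)) ^ m, f x = 0) →
      ∀ i, IsNilpotent (f (MvPowerSeries.X i))) ∧
    ∀ z : Fin n → E, (∀ i, IsNilpotent (z i)) →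
      ∃! g : MvPowerSeries (Fin n) A →ₐ[A] E,
        (∃ m : ℕ, ∀ x ∈ (𝔞.map (MvPowerSeries.C : A →+* MvPowerSeries (Fin n) A) ⊔
          RingHom.ker (MvPowerSeries.constantCoeff : MvPowerSeries (Fin n) A →+* A)) ^ m, g x = 0) ∧
        ∀ i, g (MvPowerSeries.X i) = z i := by
  obtain ⟨k, hk⟩ := hE
  refine ⟨fun f hf i => ?_, fun z hz => ?_⟩
  · obtain ⟨m, hm⟩ := hf
    refine ⟨m, ?_⟩
    rw [← map_pow]
    apply hm
    refine Ideal.pow_mem_pow (Ideal.mem_sup_right ?_) m
    rw [RingHom.mem_ker]
    exact MvPowerSeries.constantCoeff_X i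
  · obtain ⟨M, hM⟩ := exists_pow_span_range_eq_bot z hz
    have hcomp := isAdicComplete_of_pow_eq_bot hM
    have hzI : ∀ i, z i ∈ Ideal.span (Set.range z) := fun i => Ideal.subset_span ⟨i, rfl⟩
    have key : ∀ (b b' : Fin n → E) (hb : ∀ i, b i ∈ Ideal.span (Set.range z))
        (hb' : ∀ i, b' i ∈ Ideal.span (Set.range z)), b = b' →
        (evC (Ideal.span (Set.range z)) b hb : MvPowerSeries (Fin n) A →ₐ[A] E) =
          evC (Ideal.span (Set.range z)) b' hb' := by
      intro b b' hb hb' h
      subst h
      rfl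
    refine ⟨evC (Ideal.span (Set.range z)) z hzI,
      ⟨⟨k + M, fun x hx => ?_⟩, fun i => evC_X _ z hzI i⟩, ?_⟩
    · set g : MvPowerSeries (Fin n) A →ₐ[A] E := evC (Ideal.span (Set.range z)) z hzI with hg
      have h1 : ((𝔞.map (MvPowerSeries.C : A →+* MvPowerSeries (Fin n) A) ⊔
          RingHom.ker (MvPowerSeries.constantCoeff : MvPowerSeries (Fin n) A →+* A)) ^
            (k + M)).map (g : MvPowerSeries (Fin n) A →+* E) ≤ ⊥ := by
        rw [Ideal.map_pow, Ideal.map_sup]
        refine (Ideal.sup_pow_add_le_pow_sup_pow).trans ?_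
        rw [sup_le_iff]
        constructor
        · rw [Ideal.map_map]
          have : (g : MvPowerSeries (Fin n) A →+* E).comp MvPowerSeries.C = algebraMap A E := by
            ext a
            have := g.commutes a
            rwa [MvPowerSeries.algebraMap_apply, Algebra.algebraMap_self, RingHom.id_apply] at this
          rw [this, ← Ideal.map_pow, hk]
        · rw [ker_constantCoeff_eq_varIdeal]
          have : (varIdeal (Fin n) A).map (g : MvPowerSeries (Fin n) A →+* E) ≤
              Ideal.span (Set.range z) := by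
            unfold varIdeal
            rw [Ideal.map_span, Ideal.span_le]
            rintro _ ⟨_, ⟨s, rfl⟩, rfl⟩
            show g (MvPowerSeries.X s) ∈ _
            rw [hg, evC_X]
            exact hzI s
          exact (Ideal.pow_right_mono this M).trans (le_of_eq hM)
      have := h1 (Ideal.mem_map_of_mem _ hx)
      simpa using this
    · rintro g' ⟨-, hg'⟩
      have hg'I : ∀ s, g' (MvPowerSeries.X s) ∈ Ideal.span (Set.range z) := fun s => by
        rw [hg']; exact hzI s
      rw [evC_unique _ g' hg'I]
      exact key _ _ _ _ (funext hg')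

end Groth.Agent.S4555
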