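import Groth.Statements.S4556
-- import your own Groth.Agent.* helpers here

set_option autoImplicit false
universe u
open EGA41

namespace Groth.Agent.S4556

/-- Let B be a formally smooth A-algebra, E and E' two A-algebras, R (resp. R') a nilpotent ideal of E
(resp. E'), f : E → E' a surjective A-algebra homomorphism with f(R) = R', and f' : E/R → E'/R' the
induced homomorphism. Let u : B → E/R be an A-algebra homomorphism and v' : B → E' an A-algebra
homomorphism through which f' ∘ u factors (v' followed by E' → E'/R' equals f' ∘ u). Then there is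
an A-algebra homomorphism v : B → E with f ∘ v = v'. (The published statement assumes only f(R) ⊆
R'; in that form it fails for B = ℚ[x, x⁻¹], E = ℚ[t], E' = ℚ[t]/(t²), R = 0, R' = (t), u : x ↦ 1
and v' : x ↦ 1 + t, since any v sends x to a unit of ℚ[t], a constant; the argument identifies R'
with the image of R, and that equality is assumed here.) -/
theorem result {A B E E' : Type u} [CommRing A] [CommRing B] [Algebra A B]
    [Algebra.FormallySmooth A B] [CommRing E] [CommRing E'] [Algebra A E] [Algebra A E']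
    (R : Ideal E) (R' : Ideal E') (hR : IsNilpotent R) (hR' : IsNilpotent R')
    (f : E →ₐ[A] E') (hf : Function.Surjective f) (hfR : R.map f.toRingHom = R')
    (u : B →ₐ[A] E ⧸ R) (v' : B →ₐ[A] E')
    (huv : (Ideal.Quotient.mkₐ A R').comp v' =
      (Ideal.quotientMapₐ R' f (fun x hx => hfR.le (Ideal.mem_map_of_mem f.toRingHom hx))).comp u) :
    ∃ v : B →ₐ[A] E, f.comp v = v' := by
  classical
  let f' : E ⧸ R →ₐ[A] E' ⧸ R' :=
    Ideal.quotientMapₐ R' f (fun x hx => hfR.le (Ideal.mem_map_of_mem f.toRingHom hx))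
  have hf'mk : ∀ e : E, f' (Ideal.Quotient.mk R e) = Ideal.Quotient.mk R' (f e) := fun e => rfl
  let φ : (E' × (E ⧸ R)) →ₐ[A] E' ⧸ R' := (Ideal.Quotient.mkₐ A R').comp (AlgHom.fst A E' (E ⧸ R))
  let ψ : (E' × (E ⧸ R)) →ₐ[A] E' ⧸ R' := f'.comp (AlgHom.snd A E' (E ⧸ R))
  let S : Subalgebra A (E' × (E ⧸ R)) := AlgHom.equalizer φ ψ
  let π₀ : E →ₐ[A] E' × (E ⧸ R) := AlgHom.prod f (Ideal.Quotient.mkₐ A R)
  have hπ₀ : ∀ e, π₀ e ∈ S := by
    intro e
    rw [AlgHom.mem_equalizer]
    simp only [φ, ψ, π₀, AlgHom.comp_apply, AlgHom.prod_apply, AlgHom.fst_apply, AlgHom.snd_apply,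
      Ideal.Quotient.mkₐ_eq_mk, hf'mk]
  let π : E →ₐ[A] S := π₀.codRestrict S hπ₀
  have hsurj : Function.Surjective π := by
    rintro ⟨⟨e', ebar⟩, hs⟩
    obtain ⟨e, rfl⟩ := Ideal.Quotient.mk_surjective ebar
    rw [AlgHom.mem_equalizer] at hs
    have h1 : Ideal.Quotient.mk R' e' = Ideal.Quotient.mk R' (f e) := by
      simpa only [φ, ψ, AlgHom.comp_apply, AlgHom.fst_apply, AlgHom.snd_apply,
        Ideal.Quotient.mkₐ_eq_mk, hf'mk] using hs
    rw [Ideal.Quotient.eq, ← hfR] at h1
    obtain ⟨r, hr, hfr⟩ := (Ideal.mem_map_iff_of_surjective f.toRingHom hf).mp h1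
    refine ⟨e + r, ?_⟩
    apply Subtype.ext
    have h6 : f r = e' - f e := hfr
    have h7 : Ideal.Quotient.mk R r = 0 := Ideal.Quotient.eq_zero_iff_mem.mpr hr
    simp [π, π₀, h6, h7]
  have hnil : IsNilpotent (RingHom.ker (π : E →+* S)) := by
    obtain ⟨n, hn⟩ := hR
    refine ⟨n, ?_⟩
    rw [Ideal.zero_eq_bot, eq_bot_iff, ← Ideal.zero_eq_bot, ← hn]
    apply Ideal.pow_right_mono
    intro x hx
    rw [RingHom.mem_ker] at hx
    have h2 : (π x : E' × (E ⧸ R)).2 = 0 := by
      have := congrArg (fun s : S => (s : E' × (E ⧸ R)).2) hx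
      simpa using this
    have h3 : Ideal.Quotient.mk R x = 0 := by simpa [π, π₀] using h2
    exact Ideal.Quotient.eq_zero_iff_mem.mp h3
  let g₀ : B →ₐ[A] E' × (E ⧸ R) := AlgHom.prod v' u
  have hg₀ : ∀ b, g₀ b ∈ S := by
    intro b
    rw [AlgHom.mem_equalizer]
    have := AlgHom.congr_fun huv b
    simpa only [φ, ψ, g₀, AlgHom.comp_apply, AlgHom.prod_apply, AlgHom.fst_apply, AlgHom.snd_apply,
        Ideal.Quotient.mkₐ_eq_mk] using this
  let g : B →ₐ[A] S := g₀.codRestrict S hg₀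
  refine ⟨Algebra.FormallySmooth.liftOfSurjective g π hsurj hnil, ?_⟩
  ext b
  have h4 := Algebra.FormallySmooth.liftOfSurjective_apply g π hsurj hnil b
  have h5 : ((π (Algebra.FormallySmooth.liftOfSurjective g π hsurj hnil b) : S) : E' × (E ⧸ R)).1
      = ((g b : S) : E' × (E ⧸ R)).1 := by rw [h4]
  exact h5

end Groth.Agent.S4556
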