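import Groth.Statements.S4559
import Mathlib
-- import your own Groth.Agent.* helpers here

set_option autoImplicit false
universe u
open EGA41

namespace Groth.Agent.S4559

open TensorProduct KaehlerDifferential

section TSZ
open TrivSqZeroExt

variable {A B : Type u} [CommRing A] [CommRing B] [Algebra A B]
  {M : Type u} [AddCommGroup M] [Module B M] [Module Bᵐᵒᵖ M] [IsCentralScalar B M]
  [Module A M] [IsScalarTower A B M]

/-- the ideal `𝔠 ⊕ 𝔠M` of `B ⊕ M`. -/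
def Nideal (𝔠 : Ideal B) : Ideal (TrivSqZeroExt B M) where
  carrier := {t | t.fst ∈ 𝔠 ∧ t.snd ∈ 𝔠 • (⊤ : Submodule B M)}
  add_mem' := fun {a b} ha hb =>
    ⟨by simpa using 𝔠.add_mem ha.1 hb.1, by simpa using Submodule.add_mem _ ha.2 hb.2⟩
  zero_mem' := ⟨by simp, by simp⟩
  smul_mem' := fun c t ht => by
    refine ⟨?_, ?_⟩
    · simpa using 𝔠.mul_mem_left c.fst ht.1
    · simp only [smul_eq_mul, snd_mul, op_smul_eq_smul]
      exact Submodule.add_mem _ (Submodule.smul_mem _ _ ht.2)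
        (Submodule.smul_mem_smul ht.1 Submodule.mem_top)

theorem mem_Nideal (𝔠 : Ideal B) (t : TrivSqZeroExt B M) :
    t ∈ Nideal (M := M) 𝔠 ↔ t.fst ∈ 𝔠 ∧ t.snd ∈ 𝔠 • (⊤ : Submodule B M) := Iff.rfl

/-- `b ↦ (b, d b)` as a ring hom. -/
def derivHom (d : Derivation A B M) : B →+* TrivSqZeroExt B M where
  toFun b := inl b + inr (d b)
  map_one' := by simp
  map_mul' b c := by
    apply TrivSqZeroExt.ext
    · simp
    · simp [Derivation.leibniz, op_smul_eq_smul, add_comm]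
  map_zero' := by simp
  map_add' b c := by
    simp only [inl_add, map_add, inr_add]; abel

theorem deriv_pow_mem (𝔟 : Ideal B) (d : Derivation A B M) :
    ∀ m : ℕ, ∀ x ∈ 𝔟 ^ (m + 1), d x ∈ 𝔟 ^ m • (⊤ : Submodule B M) := by
  intro m
  induction m with
  | zero => intro x _; rw [pow_zero, Ideal.one_eq_top, Submodule.top_smul]; trivial
  | succ m ih =>
    intro x hx
    rw [pow_succ] at hx
    refine Submodule.mul_induction_on hx ?_ ?_
    · intro y hy z hz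
      rw [Derivation.leibniz]
      refine Submodule.add_mem _ (Submodule.smul_mem_smul hy Submodule.mem_top) ?_
      have := Submodule.smul_mem_smul hz (ih y hy)
      rwa [← Submodule.mul_smul, ← pow_succ'] at this
    · intro y z hy hz
      rw [map_add]; exact Submodule.add_mem _ hy hz

theorem ker_sq : (RingHom.ker (fstHom B B M).toRingHom) ^ 2 = ⊥ := by
  rw [pow_two, eq_bot_iff, Ideal.mul_le]
  intro x hx y hy
  rw [RingHom.mem_ker] at hx hy
  have hx' : x.fst = 0 := hx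
  have hy' : y.fst = 0 := hy
  rw [Ideal.mem_bot]
  apply TrivSqZeroExt.ext
  · simp [hx']
  · simp [hx', hy']

theorem deriv_mem (𝔞 : Ideal A) (𝔟 : Ideal B) (hAB : ∃ k : ℕ, (𝔞 ^ k).map (algebraMap A B) ≤ 𝔟)
    (H : ∀ (E : Type u) [CommRing E] [Algebra A E], (∃ k : ℕ, (𝔞 ^ k).map (algebraMap A E) = ⊥) →
      ∀ J : Ideal E, IsNilpotent J → ∀ v₁ v₂ : B →ₐ[A] E,
        (∃ m : ℕ, ∀ x ∈ 𝔟 ^ m, v₁ x = 0) → (∃ m : ℕ, ∀ x ∈ 𝔟 ^ m, v₂ x = 0) →
        (∀ b : B, Ideal.Quotient.mk J (v₁ b) = Ideal.Quotient.mk J (v₂ b)) → v₁ = v₂)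
    (d : Derivation A B M) (n : ℕ) (b : B) : d b ∈ 𝔟 ^ n • (⊤ : Submodule B M) := by
  obtain ⟨k, hk⟩ := hAB
  let N : Ideal (TrivSqZeroExt B M) := Nideal (M := M) (𝔟 ^ n)
  let _ : Algebra A (TrivSqZeroExt B M ⧸ N) :=
    ((Ideal.Quotient.mk N).comp ((inlHom B M).comp (algebraMap A B))).toAlgebra
  let v₁ : B →ₐ[A] (TrivSqZeroExt B M ⧸ N) :=
    { toRingHom := (Ideal.Quotient.mk N).comp (inlHom B M), commutes' := fun a => rfl }
  let v₂ : B →ₐ[A] (TrivSqZeroExt B M ⧸ N) :=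
    { toRingHom := (Ideal.Quotient.mk N).comp (derivHom d),
      commutes' := fun a => by
        show Ideal.Quotient.mk N (inl (algebraMap A B a) + inr (d (algebraMap A B a)))
          = Ideal.Quotient.mk N (inl (algebraMap A B a))
        rw [d.map_algebraMap]; simp }
  have hv₁ : ∀ x, v₁ x = Ideal.Quotient.mk N (inl x) := fun x => rfl
  have hv₂ : ∀ x, v₂ x = Ideal.Quotient.mk N (inl x + inr (d x)) := fun x => rfl
  have hkE : (𝔞 ^ (k * n)).map (algebraMap A (TrivSqZeroExt B M ⧸ N)) = ⊥ := by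
    rw [eq_bot_iff, Ideal.map_le_iff_le_comap]
    intro a ha
    rw [Ideal.mem_comap, Ideal.mem_bot]
    show Ideal.Quotient.mk N (inl (algebraMap A B a)) = 0
    rw [Ideal.Quotient.eq_zero_iff_mem]
    refine ⟨?_, by simp⟩
    rw [fst_inl]
    have h1 : algebraMap A B a ∈ ((𝔞 ^ k) ^ n).map (algebraMap A B) := by
      rw [← pow_mul]; exact Ideal.mem_map_of_mem _ ha
    rw [Ideal.map_pow] at h1
    exact Ideal.pow_right_mono hk n h1
  let J : Ideal (TrivSqZeroExt B M ⧸ N) :=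
    (RingHom.ker (fstHom B B M).toRingHom).map (Ideal.Quotient.mk N)
  have hJ : IsNilpotent J := ⟨2, by
    show J ^ 2 = ⊥
    rw [← Ideal.map_pow, ker_sq, Ideal.map_bot]⟩
  have h1 : ∀ x ∈ 𝔟 ^ n, v₁ x = 0 := by
    intro x hx
    rw [hv₁, Ideal.Quotient.eq_zero_iff_mem]
    exact ⟨by rwa [fst_inl], by simp⟩
  have h2 : ∀ x ∈ 𝔟 ^ (n + 1), v₂ x = 0 := by
    intro x hx
    rw [hv₂, Ideal.Quotient.eq_zero_iff_mem]
    refine ⟨?_, ?_⟩
    · simpa using Ideal.pow_le_pow_right (Nat.le_succ n) hx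
    · simpa using deriv_pow_mem 𝔟 d n x hx
  have hag : ∀ b : B, Ideal.Quotient.mk J (v₁ b) = Ideal.Quotient.mk J (v₂ b) := by
    intro b
    rw [Ideal.Quotient.eq, hv₁, hv₂, ← map_sub]
    apply Ideal.mem_map_of_mem
    rw [RingHom.mem_ker]
    show (inl b - (inl b + inr (d b)) : TrivSqZeroExt B M).fst = 0
    simp
  have key := H _ ⟨k * n, hkE⟩ J hJ v₁ v₂ ⟨n, h1⟩ ⟨n + 1, h2⟩ hag
  have := AlgHom.congr_fun key b
  rw [hv₁, hv₂, Ideal.Quotient.eq] at this
  have h3 := this.2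
  simp only [snd_sub, snd_add, snd_inl, snd_inr, zero_add, zero_sub] at h3
  exact neg_mem_iff.mp h3

end TSZ

section
variable {A B : Type u} [CommRing A] [CommRing B] [Algebra A B]

theorem sq_zero_case (𝔟 : Ideal B) (m : ℕ) (hΩ : (𝔟 ^ m) • (⊤ : Submodule B Ω[B⁄A]) = ⊤)
    (E : Type u) [CommRing E] [Algebra A E]
    (I : Ideal E) (hI : I ^ 2 = ⊥) (f₁ f₂ : B →ₐ[A] E) (hz : ∀ x ∈ 𝔟 ^ m, f₂ x = 0)
    (hf : ∀ b : B, Ideal.Quotient.mk I (f₁ b) = Ideal.Quotient.mk I (f₂ b)) : f₁ = f₂ := by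
  let _ : Algebra B E := f₂.toRingHom.toAlgebra
  have hst : IsScalarTower A B E := IsScalarTower.of_algebraMap_eq (fun a => (f₂.commutes a).symm)
  have e : (Ideal.Quotient.mkₐ A I).comp f₁ = IsScalarTower.toAlgHom A B (E ⧸ I) := by
    ext b
    exact hf b
  let d : Derivation A B I := derivationToSquareZeroOfLift I hI f₁ e
  let L : Ω[B⁄A] →ₗ[B] I := d.liftKaehlerDifferential
  have hL : ∀ b, L (D A B b) = d b := fun b => Derivation.liftKaehlerDifferential_comp_D d b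
  have hzero : ∀ r ∈ 𝔟 ^ m, algebraMap B E r = 0 := fun r hr => hz r hr
  have hd : ∀ b, d b = 0 := by
    intro b
    have hmem : D A B b ∈ (𝔟 ^ m) • (⊤ : Submodule B Ω[B⁄A]) := by
      rw [hΩ]; trivial
    rw [← hL]
    refine Submodule.smul_induction_on hmem ?_ ?_
    · intro r hr ω _
      rw [map_smul]
      apply Subtype.ext
      rw [Submodule.coe_smul_of_tower, Algebra.smul_def, hzero r hr, zero_mul]; rfl
    · intro x y hx hy
      rw [map_add, hx, hy, add_zero]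
  ext b
  have := congrArg Subtype.val (hd b)
  rw [derivationToSquareZeroOfLift_apply] at this
  exact sub_eq_zero.mp this

theorem mpr_dir (𝔟 : Ideal B) (hΩ : ∀ m : ℕ, (𝔟 ^ m) • (⊤ : Submodule B Ω[B⁄A]) = ⊤)
    (E : Type u) [CommRing E] [Algebra A E]
    (J : Ideal E) (hJ : IsNilpotent J) (v₁ v₂ : B →ₐ[A] E)
    (m : ℕ) (hm : ∀ x ∈ 𝔟 ^ m, v₂ x = 0)
    (hv : ∀ b : B, Ideal.Quotient.mk J (v₁ b) = Ideal.Quotient.mk J (v₂ b)) : v₁ = v₂ := by
  obtain ⟨K, hKdef⟩ : ∃ K : Ideal E, K = Ideal.span (Set.range fun b => v₁ b - v₂ b) := ⟨_, rfl⟩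
  have hKJ : K ≤ J := by
    rw [hKdef, Ideal.span_le]
    rintro _ ⟨b, rfl⟩
    exact Ideal.Quotient.eq.mp (hv b)
  have hmemK : ∀ b, v₁ b - v₂ b ∈ K := fun b => hKdef ▸ Ideal.subset_span ⟨b, rfl⟩
  have hI : (K.map (Ideal.Quotient.mk (K ^ 2))) ^ 2 = ⊥ := by
    rw [← Ideal.map_pow, Ideal.map_quotient_self]
  have heq : (Ideal.Quotient.mkₐ A (K ^ 2)).comp v₁ = (Ideal.Quotient.mkₐ A (K ^ 2)).comp v₂ := by
    apply sq_zero_case 𝔟 m (hΩ m) (E ⧸ K ^ 2) _ hI
    · intro x hx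
      show Ideal.Quotient.mk (K ^ 2) (v₂ x) = 0
      rw [hm x hx, map_zero]
    · intro b
      rw [Ideal.Quotient.eq]
      have : ((Ideal.Quotient.mkₐ A (K ^ 2)).comp v₁) b
          - ((Ideal.Quotient.mkₐ A (K ^ 2)).comp v₂) b
          = Ideal.Quotient.mk (K ^ 2) (v₁ b - v₂ b) := by simp
      rw [this]
      exact Ideal.mem_map_of_mem _ (hmemK b)
  have hK2 : K ≤ K ^ 2 := by
    have : Ideal.span (Set.range fun b => v₁ b - v₂ b) ≤ K ^ 2 := by
      rw [Ideal.span_le]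
      rintro _ ⟨b, rfl⟩
      exact Ideal.Quotient.eq.mp (AlgHom.congr_fun heq b)
    rwa [← hKdef] at this
  have hKn : ∀ n : ℕ, K ≤ K ^ (n + 1) := by
    intro n
    induction n with
    | zero => simp
    | succ n ih =>
      calc K ≤ K ^ 2 := hK2
        _ = K * K := pow_two K
        _ ≤ K ^ (n + 1) * K := Ideal.mul_mono_left ih
        _ = K ^ (n + 1 + 1) := (pow_succ K (n + 1)).symm
  obtain ⟨n, hn⟩ := hJ
  have hK0 : K = ⊥ := by
    rw [eq_bot_iff]
    calc K ≤ K ^ (n + 1) := hKn n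
      _ ≤ J ^ (n + 1) := Ideal.pow_right_mono hKJ _
      _ = ⊥ := by rw [pow_succ, hn]; simp
  ext b
  have := hmemK b
  rw [hK0, Ideal.mem_bot] at this
  exact sub_eq_zero.mp this

theorem completion_iff (𝔟 : Ideal B) :
    Subsingleton (AdicCompletion 𝔟 (Ω[B⁄A])) ↔
      ∀ m : ℕ, (𝔟 ^ m) • (⊤ : Submodule B Ω[B⁄A]) = ⊤ := by
  constructor
  · intro h m
    have : Subsingleton (Ω[B⁄A] ⧸ ((𝔟 ^ m) • (⊤ : Submodule B Ω[B⁄A]))) :=
      (AdicCompletion.eval_surjective 𝔟 (Ω[B⁄A]) m).subsingleton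
    exact Submodule.Quotient.subsingleton_iff.mp this
  · intro h
    refine ⟨fun x y => AdicCompletion.ext fun n => ?_⟩
    have : Subsingleton (Ω[B⁄A] ⧸ ((𝔟 ^ n) • (⊤ : Submodule B Ω[B⁄A]))) :=
      Submodule.Quotient.subsingleton_iff.mpr (h n)
    exact Subsingleton.elim _ _

end


/-- Let A be 𝔞-adic and B a topological A-algebra for the 𝔟-adic topology (a power of 𝔞 maps into 𝔟).
Then B is a formally unramified A-algebra (for every homomorphism E → C of discrete A-algebras with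
nilpotent kernel and every continuous u : B → C there is at most one continuous lift B → E; here E
discrete means killed by a power of 𝔞, and one may take C = E/J) if and only if the separated
completion of Ω_{B/A}, i.e. its 𝔟-adic completion, is zero. -/
theorem result {A B : Type u} [CommRing A] [CommRing B] [Algebra A B]
    (𝔞 : Ideal A) (𝔟 : Ideal B) (hAB : ∃ k : ℕ, (𝔞 ^ k).map (algebraMap A B) ≤ 𝔟) :
    (∀ (E : Type u) [CommRing E] [Algebra A E], (∃ k : ℕ, (𝔞 ^ k).map (algebraMap A E) = ⊥) →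
      ∀ J : Ideal E, IsNilpotent J → ∀ v₁ v₂ : B →ₐ[A] E,
        (∃ m : ℕ, ∀ x ∈ 𝔟 ^ m, v₁ x = 0) → (∃ m : ℕ, ∀ x ∈ 𝔟 ^ m, v₂ x = 0) →
        (∀ b : B, Ideal.Quotient.mk J (v₁ b) = Ideal.Quotient.mk J (v₂ b)) → v₁ = v₂) ↔
    Subsingleton (AdicCompletion 𝔟 (Ω[B⁄A])) := by
  rw [completion_iff]
  constructor
  · intro H n
    let _ : Module Bᵐᵒᵖ Ω[B⁄A] :=
      Module.compHom _ ((RingHom.id B).fromOpposite (fun a b => mul_comm a b))
    have : IsCentralScalar B Ω[B⁄A] := ⟨fun r m => rfl⟩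
    have hD : ∀ b, KaehlerDifferential.D A B b ∈ 𝔟 ^ n • (⊤ : Submodule B Ω[B⁄A]) :=
      fun b => deriv_mem 𝔞 𝔟 hAB H (KaehlerDifferential.D A B) n b
    rw [eq_top_iff]
    calc (⊤ : Submodule B Ω[B⁄A]) = Submodule.span B (Set.range (KaehlerDifferential.D A B)) :=
          (KaehlerDifferential.span_range_derivation A B).symm
      _ ≤ _ := Submodule.span_le.mpr (by rintro _ ⟨b, rfl⟩; exact hD b)
  · intro h E _ _ _ J hJ v₁ v₂ _ hm₂ hv
    obtain ⟨m, hm⟩ := hm₂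
    exact mpr_dir 𝔟 h E J hJ v₁ v₂ m hm hv

end Groth.Agent.S4559
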