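import Groth.Statements.S4560
import Mathlib
-- import your own Groth.Agent.* helpers here

set_option autoImplicit false
universe u
open EGA41

namespace Groth.Agent.S4560

open TensorProduct KaehlerDifferential

section
variable {A B : Type u} [CommRing A] [CommRing B] [Algebra A B] (𝔪 : Ideal A)

attribute [local instance] Algebra.TensorProduct.rightAlgebra in
theorem isPushout_quotient :
    Algebra.IsPushout A (A ⧸ 𝔪) B (B ⧸ 𝔪.map (algebraMap A B)) := by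
  refine Algebra.IsPushout.of_equiv (R := A) (S := B) (R' := A ⧸ 𝔪) (S' := (A ⧸ 𝔪) ⊗[A] B)
    (Algebra.TensorProduct.quotIdealMapEquivQuotTensor B 𝔪).symm ?_
  ext p
  show (Algebra.TensorProduct.quotIdealMapEquivQuotTensor B 𝔪).symm ((1 : A ⧸ 𝔪) ⊗ₜ[A] p) = _
  rw [AlgEquiv.symm_apply_eq]
  rfl

theorem kaehler_smul_top (h : Subsingleton (Ω[B ⧸ 𝔪.map (algebraMap A B)⁄A ⧸ 𝔪])) :
    (𝔪.map (algebraMap A B)) • (⊤ : Submodule B Ω[B⁄A]) = ⊤ := by
  have := isPushout_quotient (A := A) (B := B) 𝔪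
  have h1 : Subsingleton ((B ⧸ 𝔪.map (algebraMap A B)) ⊗[B] Ω[B⁄A]) :=
    (KaehlerDifferential.tensorKaehlerEquiv A (A ⧸ 𝔪) B
      (B ⧸ 𝔪.map (algebraMap A B))).injective.subsingleton
  have h2 : Subsingleton (Ω[B⁄A] ⧸ (𝔪.map (algebraMap A B)) • (⊤ : Submodule B Ω[B⁄A])) :=
    (TensorProduct.quotTensorEquivQuotSMul Ω[B⁄A]
      (𝔪.map (algebraMap A B))).symm.injective.subsingleton
  exact Submodule.Quotient.subsingleton_iff.mp h2

theorem kaehler_pow_smul_top (h : Subsingleton (Ω[B ⧸ 𝔪.map (algebraMap A B)⁄A ⧸ 𝔪])) (k : ℕ) :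
    ((𝔪.map (algebraMap A B)) ^ k) • (⊤ : Submodule B Ω[B⁄A]) = ⊤ := by
  induction k with
  | zero => rw [pow_zero, Ideal.one_eq_top, Submodule.top_smul]
  | succ k ih => rw [pow_succ, Submodule.mul_smul, kaehler_smul_top 𝔪 h, ih]

theorem sq_zero_case (h : Subsingleton (Ω[B ⧸ 𝔪.map (algebraMap A B)⁄A ⧸ 𝔪]))
    (E : Type u) [CommRing E] [Algebra A E] (k : ℕ) (hk : (𝔪 ^ k).map (algebraMap A E) = ⊥)
    (I : Ideal E) (hI : I ^ 2 = ⊥) (f₁ f₂ : B →ₐ[A] E)
    (hf : ∀ b : B, Ideal.Quotient.mk I (f₁ b) = Ideal.Quotient.mk I (f₂ b)) : f₁ = f₂ := by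
  let _ : Algebra B E := f₂.toRingHom.toAlgebra
  have hst : IsScalarTower A B E := IsScalarTower.of_algebraMap_eq (fun a => (f₂.commutes a).symm)
  have e : (Ideal.Quotient.mkₐ A I).comp f₁ = IsScalarTower.toAlgHom A B (E ⧸ I) := by
    ext b
    exact hf b
  let d : Derivation A B I := derivationToSquareZeroOfLift I hI f₁ e
  let L : Ω[B⁄A] →ₗ[B] I := d.liftKaehlerDifferential
  have hL : ∀ b, L (D A B b) = d b := fun b => Derivation.liftKaehlerDifferential_comp_D d b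
  have hzero : ∀ r ∈ (𝔪.map (algebraMap A B)) ^ k, algebraMap B E r = 0 := by
    intro r hr
    have h1 : algebraMap B E r ∈ ((𝔪.map (algebraMap A B)) ^ k).map (algebraMap B E) :=
      Ideal.mem_map_of_mem _ hr
    rw [← Ideal.map_pow, Ideal.map_map, ← IsScalarTower.algebraMap_eq, hk] at h1
    exact h1
  have hd : ∀ b, d b = 0 := by
    intro b
    have hmem : D A B b ∈ ((𝔪.map (algebraMap A B)) ^ k) • (⊤ : Submodule B Ω[B⁄A]) := by
      rw [kaehler_pow_smul_top 𝔪 h k]; trivial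
    rw [← hL]
    refine Submodule.smul_induction_on hmem ?_ ?_
    · intro r hr ω _
      rw [map_smul]
      apply Subtype.ext
      rw [Submodule.coe_smul_of_tower, Algebra.smul_def, hzero r hr, zero_mul]; rfl
    · intro x y hx hy
      rw [map_add, hx, hy, add_zero]
  ext b
  have := congrArg Subtype.val (hd b)
  rw [derivationToSquareZeroOfLift_apply] at this
  exact sub_eq_zero.mp this

theorem mpr_dir (h : Subsingleton (Ω[B ⧸ 𝔪.map (algebraMap A B)⁄A ⧸ 𝔪]))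
    (E : Type u) [CommRing E] [Algebra A E] (k : ℕ) (hk : (𝔪 ^ k).map (algebraMap A E) = ⊥)
    (J : Ideal E) (hJ : IsNilpotent J) (v₁ v₂ : B →ₐ[A] E)
    (hv : ∀ b : B, Ideal.Quotient.mk J (v₁ b) = Ideal.Quotient.mk J (v₂ b)) : v₁ = v₂ := by
  obtain ⟨K, hKdef⟩ : ∃ K : Ideal E, K = Ideal.span (Set.range fun b => v₁ b - v₂ b) := ⟨_, rfl⟩
  have hKJ : K ≤ J := by
    rw [hKdef, Ideal.span_le]
    rintro _ ⟨b, rfl⟩
    exact Ideal.Quotient.eq.mp (hv b)
  have hmemK : ∀ b, v₁ b - v₂ b ∈ K := fun b => hKdef ▸ Ideal.subset_span ⟨b, rfl⟩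
  have hk' : (𝔪 ^ k).map (algebraMap A (E ⧸ K ^ 2)) = ⊥ := by
    rw [IsScalarTower.algebraMap_eq A E (E ⧸ K ^ 2), ← Ideal.map_map, hk, Ideal.map_bot]
  have hI : (K.map (Ideal.Quotient.mk (K ^ 2))) ^ 2 = ⊥ := by
    rw [← Ideal.map_pow, Ideal.map_quotient_self]
  have heq : (Ideal.Quotient.mkₐ A (K ^ 2)).comp v₁ = (Ideal.Quotient.mkₐ A (K ^ 2)).comp v₂ := by
    apply sq_zero_case 𝔪 h (E ⧸ K ^ 2) k hk' _ hI
    intro b
    rw [Ideal.Quotient.eq]
    have : ((Ideal.Quotient.mkₐ A (K ^ 2)).comp v₁) b - ((Ideal.Quotient.mkₐ A (K ^ 2)).comp v₂) b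
        = Ideal.Quotient.mk (K ^ 2) (v₁ b - v₂ b) := by simp
    rw [this]
    exact Ideal.mem_map_of_mem _ (hmemK b)
  have hK2 : K ≤ K ^ 2 := by
    have : Ideal.span (Set.range fun b => v₁ b - v₂ b) ≤ K ^ 2 := by
      rw [Ideal.span_le]
      rintro _ ⟨b, rfl⟩
      exact Ideal.Quotient.eq.mp (AlgHom.congr_fun heq b)
    rwa [← hKdef] at this
  have hKn : ∀ n : ℕ, K ≤ K ^ (n + 1) := by
    intro n
    induction n with
    | zero => simp
    | succ n ih =>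
      calc K ≤ K ^ 2 := hK2
        _ = K * K := pow_two K
        _ ≤ K ^ (n + 1) * K := Ideal.mul_mono_left ih
        _ = K ^ (n + 1 + 1) := (pow_succ K (n + 1)).symm
  obtain ⟨n, hn⟩ := hJ
  have hK0 : K = ⊥ := by
    rw [eq_bot_iff]
    calc K ≤ K ^ (n + 1) := hKn n
      _ ≤ J ^ (n + 1) := Ideal.pow_right_mono hKJ _
      _ = ⊥ := by rw [pow_succ, hn]; simp
  ext b
  have := hmemK b
  rw [hK0, Ideal.mem_bot] at this
  exact sub_eq_zero.mp this

theorem mp_dir (H : ∀ (E : Type u) [CommRing E] [Algebra A E],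
      (∃ k : ℕ, (𝔪 ^ k).map (algebraMap A E) = ⊥) →
      ∀ J : Ideal E, IsNilpotent J → ∀ v₁ v₂ : B →ₐ[A] E,
        (∀ b : B, Ideal.Quotient.mk J (v₁ b) = Ideal.Quotient.mk J (v₂ b)) → v₁ = v₂) :
    Subsingleton (Ω[B ⧸ 𝔪.map (algebraMap A B)⁄A ⧸ 𝔪]) := by
  suffices hU : Algebra.FormallyUnramified (A ⧸ 𝔪) (B ⧸ 𝔪.map (algebraMap A B)) from
    hU.subsingleton_kaehlerDifferential
  rw [Algebra.FormallyUnramified.iff_comp_injective]
  intro E _ _ I hI f g hfg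
  let _ : Algebra A E := ((algebraMap (A ⧸ 𝔪) E).comp (Ideal.Quotient.mk 𝔪)).toAlgebra
  have hst : IsScalarTower A (A ⧸ 𝔪) E := IsScalarTower.of_algebraMap_eq (fun a => rfl)
  have hk : (𝔪 ^ 1).map (algebraMap A E) = ⊥ := by
    rw [pow_one, eq_bot_iff, Ideal.map_le_iff_le_comap]
    intro a ha
    rw [Ideal.mem_comap, Ideal.mem_bot]
    show algebraMap (A ⧸ 𝔪) E (Ideal.Quotient.mk 𝔪 a) = 0
    rw [Ideal.Quotient.eq_zero_iff_mem.mpr ha, map_zero]
  have hnil : IsNilpotent I := ⟨2, by rw [hI]; rfl⟩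
  let π : B →ₐ[A] (B ⧸ 𝔪.map (algebraMap A B)) := IsScalarTower.toAlgHom A B _
  have key := H E ⟨1, hk⟩ I hnil ((f.restrictScalars A).comp π) ((g.restrictScalars A).comp π)
    (fun b => AlgHom.congr_fun hfg (π b))
  apply AlgHom.ext
  intro x
  obtain ⟨b, rfl⟩ := Ideal.Quotient.mk_surjective x
  exact AlgHom.congr_fun key b

end


/-- Let A be a ring, 𝔪 an ideal of A, B an A-algebra; give A the 𝔪-adic topology and B the topology
deduced from it (the 𝔪B-adic topology), and put A₀ = A/𝔪, B₀ = B/𝔪B. Then B is a formally unramified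
A-algebra (for these topologies: E discrete means killed by a power of 𝔪, and continuity of maps B →
E is then automatic) if and only if Ω_{B₀/A₀} = 0, i.e. B₀ is a formally unramified A₀-algebra. -/
theorem result {A B : Type u} [CommRing A] [CommRing B] [Algebra A B] (𝔪 : Ideal A) :
    (∀ (E : Type u) [CommRing E] [Algebra A E], (∃ k : ℕ, (𝔪 ^ k).map (algebraMap A E) = ⊥) →
      ∀ J : Ideal E, IsNilpotent J → ∀ v₁ v₂ : B →ₐ[A] E,
        (∀ b : B, Ideal.Quotient.mk J (v₁ b) = Ideal.Quotient.mk J (v₂ b)) → v₁ = v₂) ↔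
    Subsingleton (Ω[B ⧸ 𝔪.map (algebraMap A B)⁄A ⧸ 𝔪]) := by
  constructor
  · intro H
    exact mp_dir 𝔪 H
  · intro h E _ _ hk J hJ v₁ v₂ hv
    obtain ⟨k, hk⟩ := hk
    exact mpr_dir 𝔪 h E k hk J hJ v₁ v₂ hv

end Groth.Agent.S4560
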