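import Groth.Statements.S4561
import Groth.Agent.Lib.Helper13.PSFrob2
open Groth.Agent.Lib.Helper13.PSFrob

set_option autoImplicit false
universe u
open EGA41

namespace Groth.Agent.S4561

/-- Let k₀ be a field of characteristic p > 0 with [k₀ : k₀^p] < ∞ and K₀ an extension of k₀. Inside
K₀((T_1, …, T_r)) one has (k₀(K₀^p))((T_1, …, T_r)) = k₀(K₀^p((T_1, …, T_r))); here, for a subfield
F of K₀, F((T)) denotes the subfield of the fraction field of K₀[[T]] generated by the power series
with all coefficients in F. -/
theorem result (p : ℕ) [Fact p.Prime] {k₀ K₀ : Type u} [Field k₀] [Field K₀] [Algebra k₀ K₀] [CharP k₀ p]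
    (hfin : Module.Finite (Subfield.closure (Set.range fun x : k₀ => x ^ p)) k₀) (r : ℕ) :
    Subfield.closure (algebraMap (MvPowerSeries (Fin r) K₀) (FractionRing (MvPowerSeries (Fin r) K₀)) ''
        {f | ∀ n, MvPowerSeries.coeff n f ∈
          Subfield.closure (Set.range (algebraMap k₀ K₀) ∪ Set.range fun y : K₀ => y ^ p)}) =
      Subfield.closure
        (Set.range (algebraMap k₀ (FractionRing (MvPowerSeries (Fin r) K₀))) ∪
          (Subfield.closure (algebraMap (MvPowerSeries (Fin r) K₀) (FractionRing (MvPowerSeries (Fin r) K₀)) ''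
            {f | ∀ n, MvPowerSeries.coeff n f ∈ Subfield.closure (Set.range fun y : K₀ => y ^ p)}) :
            Set (FractionRing (MvPowerSeries (Fin r) K₀)))) := by
  classical
  set A := MvPowerSeries (Fin r) K₀ with hA
  set K := FractionRing A with hK
  set φ := algebraMap A K with hφ
  set E' : Subfield K₀ := Subfield.closure (Set.range fun y : K₀ => y ^ p) with hE'
  set E : Subfield K₀ :=
    Subfield.closure (Set.range (algebraMap k₀ K₀) ∪ Set.range fun y : K₀ => y ^ p) with hE
  have hE'E : E' ≤ E := Subfield.closure_mono Set.subset_union_right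
  have hconst : ∀ c : k₀, algebraMap k₀ K c = φ (MvPowerSeries.C (algebraMap k₀ K₀ c)) := by
    intro c
    rw [IsScalarTower.algebraMap_apply k₀ A K, MvPowerSeries.algebraMap_apply]
  apply le_antisymm
  · rw [Subfield.closure_le]
    rintro _ ⟨f, hf, rfl⟩
    obtain ⟨n, c, hc⟩ := Module.Finite.exists_fin (R := Subfield.closure (Set.range fun x : k₀ => x ^ p))
      (M := k₀)
    have hex : ∀ m, ∃ a : Fin n → E', ∑ i, a i • algebraMap k₀ K₀ (c i) = MvPowerSeries.coeff m f :=
      fun m => (Submodule.mem_span_range_iff_exists_fun _).mp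
        (mem_span_of_mem_closure p c hc _ (hf m))
    choose a ha using hex
    let g : Fin n → MvPowerSeries (Fin r) K₀ := fun i m => ((a m i : E') : K₀)
    have hf' : f = ∑ i, g i * MvPowerSeries.C (algebraMap k₀ K₀ (c i)) := by
      ext m
      rw [map_sum, ← ha m]
      refine Finset.sum_congr rfl fun i _ => ?_
      rw [MvPowerSeries.coeff_mul_C]
      rfl
    rw [hf', map_sum]
    refine sum_mem fun i _ => ?_
    rw [map_mul]
    refine mul_mem (Subfield.subset_closure (Or.inr (Subfield.subset_closure ⟨_, ?_, rfl⟩)))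
      (Subfield.subset_closure (Or.inl ⟨c i, hconst (c i)⟩))
    intro m
    exact (a m i).2
  · rw [Subfield.closure_le]
    rintro x (⟨c, rfl⟩ | hx)
    · rw [hconst]
      refine Subfield.subset_closure ⟨_, ?_, rfl⟩
      intro m
      rw [MvPowerSeries.coeff_C]
      split_ifs
      · exact Subfield.subset_closure (Or.inl ⟨c, rfl⟩)
      · exact zero_mem _
    · refine Subfield.closure_mono ?_ hx
      apply Set.image_mono
      intro f hf m
      exact hE'E (hf m)

end Groth.Agent.S4561
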