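import Groth.Statements.S4564
import Groth.Agent.Lib.Helper88.CohenNagata
import Groth.Agent.S9405

set_option autoImplicit false
universe u
open CAlg

namespace Groth.Agent.S4564

/-- Let A be a complete Noetherian local domain with fraction field K and K' a finite extension of K.
Then the integral closure of A in K' is a local ring, complete for the adic topology of its maximal
ideal. -/
theorem result {A K' : Type u} [CommRing A]
    [IsDomain A] [IsLocalRing A] [IsNoetherianRing A] [IsAdicComplete (IsLocalRing.maximalIdeal A) A]
    [Field K'] [Algebra A K'] [Algebra (FractionRing A) K'] [IsScalarTower A (FractionRing A) K']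
    [FiniteDimensional (FractionRing A) K'] :
    ∃ _ : IsLocalRing (integralClosure A K'),
      IsAdicComplete (IsLocalRing.maximalIdeal (integralClosure A K')) (integralClosure A K') := by
  haveI : Module.Finite A (integralClosure A K') :=
    Groth.Agent.Lib.Helper88.CohenNagata.isN2_of_complete A K' inferInstance
  have hloc : IsLocalRing (integralClosure A K') := by
    apply IsLocalRing.of_unique_max_ideal
    obtain ⟨m, hm⟩ := Ideal.exists_maximal (integralClosure A K')
    refine ⟨m, hm, fun m' hm' => ?_⟩
    by_contra hne
    obtain ⟨e, he1, he0⟩ := Groth.Agent.S9405.exists_idem A (integralClosure A K') ⟨m', hm'⟩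
    have h0 := he0 ⟨m, hm⟩ (by
      intro h
      apply hne
      exact (congrArg MaximalSpectrum.asIdeal h).symm)
    have hinj : Function.Injective
        (algebraMap (integralClosure A K') (Localization.AtPrime m)) :=
      IsLocalization.injective _ (le_nonZeroDivisors_of_noZeroDivisors (by
        intro h
        exact (Ideal.mem_primeCompl_iff.mp h) (Ideal.zero_mem m)))
    have he : e = 0 := hinj (by rw [h0, map_zero])
    rw [he, map_zero] at he1
    exact zero_ne_one he1
  exact ⟨hloc, Groth.Agent.S9405.isAdicComplete_maximalIdeal_of_finite A (integralClosure A K')⟩

end Groth.Agent.S4564
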