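import Groth.Statements.S4567
import Groth.Agent.Lib.Helper7.SpecResidue

set_option autoImplicit false
universe u
open AlgebraicGeometry
open CAlg2

namespace Groth.Agent.S4567


section Core

open Groth.Agent.Lib.Helper7 NormRed SpecResidue

variable {A : Type u} [CommRing A] [IsDomain A]

theorem hinjS : Function.Injective (algebraMap A (integralClosure A (FractionRing A))) := by
  intro a b hab
  apply IsFractionRing.injective A (FractionRing A)
  exact congrArg Subtype.val hab

theorem hfracS (s : integralClosure A (FractionRing A)) : ∃ a b : A, b ≠ 0 ∧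
    algebraMap A (integralClosure A (FractionRing A)) b * s =
      algebraMap A (integralClosure A (FractionRing A)) a := by
  obtain ⟨a, b, hb, h⟩ := IsFractionRing.div_surjective (A := A) (s : FractionRing A)
  refine ⟨a, b, nonZeroDivisors.ne_zero hb, ?_⟩
  apply Subtype.ext
  change algebraMap A (FractionRing A) b * (s : FractionRing A) = algebraMap A (FractionRing A) a
  rw [← h, mul_div_cancel₀]
  exact (map_ne_zero_iff _ (IsFractionRing.injective A (FractionRing A))).mpr
    (nonZeroDivisors.ne_zero hb)

instance : IsIntegrallyClosed (integralClosure A (FractionRing A)) :=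
  integralClosure.isIntegrallyClosedOfFiniteExtension (FractionRing A)

/-- The key comparison at a prime `q` of the integral closure. -/
theorem key {S : Type u} [CommRing S] [IsDomain S] [Algebra A S] [Algebra.IsIntegral A S]
    [IsIntegrallyClosed S] (hinjS : Function.Injective (algebraMap A S))
    (hfracS : ∀ s : S, ∃ a b : A, b ≠ 0 ∧ algebraMap A S b * s = algebraMap A S a)
    (q : PrimeSpectrum S) :
    ∃ e : {q' : PrimeSpectrum S //
          q'.asIdeal.comap (algebraMap A S) = q.asIdeal.comap (algebraMap A S)} ≃
        MaximalSpectrum (CAlg2.normRed (Localization.AtPrime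
          (q.asIdeal.comap (algebraMap A S)))),
      ((∀ x : CAlg2.normRed (Localization.AtPrime (q.asIdeal.comap (algebraMap A S))) ⧸
              (e ⟨q, rfl⟩).asIdeal,
          ∃ n : ℕ, x ^ (ringExpChar (CAlg2.normRed (Localization.AtPrime
            (q.asIdeal.comap (algebraMap A S))) ⧸ (e ⟨q, rfl⟩).asIdeal)) ^ n ∈
            (Brnch.toResidue _ (e ⟨q, rfl⟩)).range) ↔
        ((Spec.map (CommRingCat.ofHom (algebraMap A S))).residueFieldMap q).hom.IsPurelyInseparable) := by
  set p := q.asIdeal.comap (algebraMap A S) with hp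
  haveI : p.IsPrime := Ideal.comap_isPrime _ _
  obtain ⟨β, hβ, hloc⟩ := exists_toNormRed_localization (R := A) (S := S) hinjS hfracS p
    (Localization.AtPrime p)
  letI : Algebra S (CAlg2.normRed (Localization.AtPrime p)) := β.toAlgebra
  haveI := hloc
  let e := primesOverEquiv (R := A) (S := S) p (CAlg2.normRed (Localization.AtPrime p))
  refine ⟨e, ?_⟩
  set m' := e ⟨q, rfl⟩ with hm'
  haveI : m'.asIdeal.IsMaximal := m'.isMaximal
  have hdis := disjoint_of_comap_eq p q.asIdeal rfl
  have hm'q : m'.asIdeal = q.asIdeal.map (algebraMap _ _) := rfl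
  letI : Field (CAlg2.normRed (Localization.AtPrime p) ⧸ m'.asIdeal) := Ideal.Quotient.field _
  obtain ⟨hker₁, hfr₁⟩ := fractions_of_isLocalization
    (Algebra.algebraMapSubmonoid S p.primeCompl) q.asIdeal hdis m'.asIdeal hm'q
  let φ : CommRingCat.of A ⟶ CommRingCat.of S := CommRingCat.ofHom (algebraMap A S)
  let q' : Spec (CommRingCat.of S) := q
  obtain ⟨θ, hθ⟩ := exists_ringEquiv_of_fractions
    ((Ideal.Quotient.mk m'.asIdeal).comp (algebraMap S _))
    (specEv (CommRingCat.of S) q')
    (hker₁.trans (ker_specEv (CommRingCat.of S) q').symm) hfr₁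
    (fractions_specEv (CommRingCat.of S) q')
  -- the map from the localization to the residue field of `Spec A`
  let pt : Spec (CommRingCat.of A) := (Spec.map φ) q'
  have hpt : pt.asIdeal = p := rfl
  have hunits : ∀ y : p.primeCompl, IsUnit (specEv (CommRingCat.of A) pt y) := by
    intro y
    refine IsUnit.mk0 _ ?_
    intro h0
    have : (y : A) ∈ RingHom.ker (specEv (CommRingCat.of A) pt) := h0
    rw [ker_specEv, hpt] at this
    exact y.2 this
  let ρ : Localization.AtPrime p →+* (Spec (CommRingCat.of A)).residueField pt :=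
    IsLocalization.lift (M := p.primeCompl) hunits
  have hρ : Function.Surjective ρ := by
    intro z
    obtain ⟨a, b, hb, hab⟩ := fractions_specEv (CommRingCat.of A) pt z
    have hbp : b ∈ p.primeCompl := by
      intro hbp
      apply hb
      have : b ∈ RingHom.ker (specEv (CommRingCat.of A) pt) := by rw [ker_specEv, hpt]; exact hbp
      exact this
    refine ⟨IsLocalization.mk' _ a ⟨b, hbp⟩, ?_⟩
    rw [IsLocalization.lift_mk', ← hab]
    rw [Units.mul_inv_eq_iff_eq_mul]
    rfl
  refine pow_mem_range_iff (Localization.AtPrime p) m'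
    ((Spec.map φ).residueFieldMap q').hom ρ hρ θ ?_
  have key' : θ.toRingHom.comp (Brnch.toResidue (Localization.AtPrime p) m') =
      ((Spec.map φ).residueFieldMap q').hom.comp ρ := by
    apply IsLocalization.ringHom_ext p.primeCompl
    ext a
    change θ (Ideal.Quotient.mk m'.asIdeal (toNormRed _ (algebraMap A _ a))) =
      ((Spec.map φ).residueFieldMap q').hom (ρ (algebraMap A _ a))
    rw [← hβ, IsLocalization.lift_eq]
    have := specEv_naturality φ q' a
    change ((Spec.map φ).residueFieldMap q').hom (specEv (CommRingCat.of A) pt a) = _ at this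
    rw [this]
    exact hθ (algebraMap A S a)
  intro a
  exact congr($key' a)

/-- The statement for an abstract integrally closed birational integral extension. -/
theorem main {S : Type u} [CommRing S] [IsDomain S] [Algebra A S] [Algebra.IsIntegral A S]
    [IsIntegrallyClosed S] (hinjS : Function.Injective (algebraMap A S))
    (hfracS : ∀ s : S, ∃ a b : A, b ≠ 0 ∧ algebraMap A S b * s = algebraMap A S a) :
    (UniversallyInjective (Spec.map (CommRingCat.ofHom (algebraMap A S))) ↔
      ∀ (p : Ideal A) [p.IsPrime], CAlg2.IsGeomUnibranch (Localization.AtPrime p)) ∧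
    ((∀ (p : Ideal A) [p.IsPrime], CAlg2.IsGeomUnibranch (Localization.AtPrime p)) →
      IsHomeomorph (PrimeSpectrum.comap (algebraMap A S))) := by
  have hsurj : Function.Surjective (PrimeSpectrum.comap (algebraMap A S)) :=
    RingHom.IsIntegral.comap_surjective (f := algebraMap A S)
      (algebraMap_isIntegral_iff.mpr inferInstance) hinjS
  have htfae := (tfae_universallyInjective
    (Spec.map (CommRingCat.ofHom (algebraMap A S)))).out 0 2
  have hback : (∀ (p : Ideal A) [p.IsPrime], CAlg2.IsGeomUnibranch (Localization.AtPrime p)) →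
      Function.Injective (PrimeSpectrum.comap (algebraMap A S)) ∧
      ∀ q : PrimeSpectrum S, ((Spec.map (CommRingCat.ofHom
        (algebraMap A S))).residueFieldMap q).hom.IsPurelyInseparable := by
    intro hgu
    constructor
    · intro q₁ q₂ h12
      obtain ⟨e, -⟩ := key hinjS hfracS q₂
      haveI : (q₂.asIdeal.comap (algebraMap A S)).IsPrime := Ideal.comap_isPrime _ _
      haveI : IsLocalRing (CAlg2.normRed (Localization.AtPrime
        (q₂.asIdeal.comap (algebraMap A S)))) := (hgu _).1.2
      have h12' : q₁.asIdeal.comap (algebraMap A S) = q₂.asIdeal.comap (algebraMap A S) :=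
        congrArg PrimeSpectrum.asIdeal h12
      have : e ⟨q₁, h12'⟩ = e ⟨q₂, rfl⟩ := by
        apply MaximalSpectrum.ext
        rw [IsLocalRing.eq_maximalIdeal (e ⟨q₁, h12'⟩).isMaximal,
          IsLocalRing.eq_maximalIdeal (e ⟨q₂, rfl⟩).isMaximal]
      exact congrArg Subtype.val (e.injective this)
    · intro q
      obtain ⟨e, he⟩ := key hinjS hfracS q
      haveI : (q.asIdeal.comap (algebraMap A S)).IsPrime := Ideal.comap_isPrime _ _
      haveI := (e ⟨q, rfl⟩).isMaximal
      exact he.mp ((hgu _).2 (e ⟨q, rfl⟩).asIdeal)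
  refine ⟨⟨fun hui p hp => ?_, fun hgu => htfae.mpr (hback hgu)⟩, fun hgu => ?_⟩
  · obtain ⟨hinjf, hpi⟩ := htfae.mp hui
    obtain ⟨q, rfl⟩ : ∃ q : PrimeSpectrum S, q.asIdeal.comap (algebraMap A S) = p := by
      obtain ⟨q, hq⟩ := hsurj ⟨p, hp⟩
      exact ⟨q, congrArg PrimeSpectrum.asIdeal hq⟩
    obtain ⟨e, he⟩ := key hinjS hfracS q
    have hsub : ∀ m : MaximalSpectrum (CAlg2.normRed (Localization.AtPrime
        (q.asIdeal.comap (algebraMap A S)))), m = e ⟨q, rfl⟩ := by
      intro m
      obtain ⟨⟨q₂, h2⟩, rfl⟩ := e.surjective m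
      congr 1
      apply Subtype.ext
      apply hinjf
      exact PrimeSpectrum.ext h2
    refine ⟨⟨inferInstance, ?_⟩, ?_⟩
    · refine IsLocalRing.of_unique_max_ideal ⟨(e ⟨q, rfl⟩).asIdeal, (e ⟨q, rfl⟩).isMaximal, ?_⟩
      intro I hI
      exact congrArg MaximalSpectrum.asIdeal (hsub ⟨I, hI⟩)
    · intro m' hm'
      obtain rfl : m' = (e ⟨q, rfl⟩).asIdeal :=
        congrArg MaximalSpectrum.asIdeal (hsub ⟨m', hm'⟩)
      exact he.mpr (hpi q)
  · obtain ⟨hinjf, -⟩ := hback hgu
    rw [isHomeomorph_iff_continuous_isClosedMap_bijective]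
    exact ⟨PrimeSpectrum.continuous_comap (algebraMap A S),
      PrimeSpectrum.isClosedMap_comap_of_isIntegral _
        (algebraMap_isIntegral_iff.mpr inferInstance), hinjf, hsurj⟩

end Core

/-- Let A be a domain with integral closure A' (in its fraction field) and f : Spec A' → Spec A the
canonical morphism. Then f is radicial (universally injective) if and only if every local ring A_p
is geometrically unibranch; when this holds f is a homeomorphism. -/
theorem result {A : Type u} [CommRing A] [IsDomain A] :
    (UniversallyInjective (Spec.map (CommRingCat.ofHom (algebraMap A (integralClosure A (FractionRing A))))) ↔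
      ∀ (p : Ideal A) [p.IsPrime], CAlg2.IsGeomUnibranch (Localization.AtPrime p)) ∧
    ((∀ (p : Ideal A) [p.IsPrime], CAlg2.IsGeomUnibranch (Localization.AtPrime p)) →
      IsHomeomorph (PrimeSpectrum.comap (algebraMap A (integralClosure A (FractionRing A))))) := main hinjS hfracS

end Groth.Agent.S4567
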