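import Groth.Statements.S4568
import Groth.Agent.Lib.Helper88.KrullH

set_option autoImplicit false
universe u
open CAlg

namespace Groth.Agent.S4568

/-- Let A be a Noetherian domain with fraction field K and A' its integral closure in K. Assume that for
every sub-A-algebra C of A' which is finite over A, every height-one prime of C lies over a
height-one prime of A. Then A' is the intersection in K of the localizations A'_p over the
height-one primes p of A. -/
theorem result {A : Type u} [CommRing A] [IsDomain A] [IsNoetherianRing A]
    (h : ∀ C : Subalgebra A (FractionRing A), C ≤ integralClosure A (FractionRing A) → Module.Finite A C →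
      ∀ (q : Ideal C) [q.IsPrime], q.height = 1 → (q.comap (algebraMap A C)).height = 1) :
    (integralClosure A (FractionRing A) : Set (FractionRing A)) =
      ⋂ (p : PrimeSpectrum A) (_ : p.asIdeal.height = 1),
        {x : FractionRing A | ∃ s : A, s ∉ p.asIdeal ∧
          algebraMap A (FractionRing A) s * x ∈ integralClosure A (FractionRing A)} := by
  classical
  apply Set.Subset.antisymm
  · intro x hx
    simp only [Set.mem_iInter]
    intro p _
    refine ⟨1, (Ideal.ne_top_iff_one _).1 p.2.ne_top, ?_⟩
    rw [map_one, one_mul]
    exact hx
  · intro x hx
    simp only [Set.mem_iInter, Set.mem_setOf_eq] at hx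
    by_contra hxA
    -- the ideal of denominators
    let I : Ideal A :=
      { carrier := {s | algebraMap A (FractionRing A) s * x ∈ integralClosure A (FractionRing A)}
        add_mem' := by
          intro a b ha hb
          simp only [Set.mem_setOf_eq, map_add, add_mul] at *
          exact Subalgebra.add_mem _ ha hb
        zero_mem' := by
          simp only [Set.mem_setOf_eq, map_zero, zero_mul]
          exact Subalgebra.zero_mem _
        smul_mem' := by
          intro c a ha
          simp only [Set.mem_setOf_eq, smul_eq_mul, map_mul, mul_assoc] at *
          exact Subalgebra.mul_mem _ (Subalgebra.algebraMap_mem _ c) ha }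
    have hI : I ≠ ⊤ := by
      intro hI
      apply hxA
      have h1 : (1 : A) ∈ I := hI ▸ Submodule.mem_top
      have h2 : algebraMap A (FractionRing A) 1 * x ∈ integralClosure A (FractionRing A) := h1
      rwa [map_one, one_mul] at h2
    obtain ⟨m, hm, hIm⟩ := Ideal.exists_le_maximal I hI
    haveI := hm.isPrime
    suffices hsuff : ∃ u : A, u ∉ m ∧ IsIntegral A (algebraMap A (FractionRing A) u * x) by
      obtain ⟨u, hu, hux⟩ := hsuff
      exact hu (hIm hux)
    suffices hR : IsIntegral (Localization.AtPrime m) x by
      obtain ⟨⟨u, hu⟩, hux⟩ :=
        IsIntegral.exists_multiple_integral_of_isLocalization m.primeCompl x hR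
      refine ⟨u, hu, ?_⟩
      rwa [Submonoid.smul_def, Algebra.smul_def] at hux
    exact Groth.Agent.Lib.Helper88.Krull.isIntegral_localization_of_forall A h m x hx

end Groth.Agent.S4568
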