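import Groth.Statements.S4571
import Groth.Agent.Lib.Helper13.SymGrC3
import Groth.Agent.Lib.Helper13.SymGrE2
import Groth.Agent.Lib.Helper96.SmoothTower
import Groth.Agent.Lib.Helper96.SmoothRegular2
import Groth.Agent.Lib.Helper96.PerfectSmooth

set_option autoImplicit false
universe u
open TensorProduct KaehlerDifferential IsLocalRing
open EGA41

namespace Groth.Agent.S4571

/-- For an arbitrary local algebra: let k be a field and A a local k-algebra with maximal ideal m and
residue field K. Then A is formally smooth over k for the m-adic topology if and only if the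
canonical maps Sym^n_K(m/m²) → m^n/m^(n+1) are bijective for n ≥ 1 and the canonical map Ω_{k/ℤ} ⊗_k
K → Ω_{A/ℤ} ⊗_A K is injective (absolute differentials, which agree with differentials over the
prime field). -/
theorem result {k A : Type u} [Field k] [CommRing A]
    [IsLocalRing A] [Algebra k A] :
    CAlgX.IsAdicFormallySmooth k A (maximalIdeal A) ↔
      (PP16.SymGrBijective A (maximalIdeal A) ∧
        Function.Injective ((mapBaseChange ℤ k A).lTensor (ResidueField A))) := by
  have key : Algebra.FormallySmooth (⊥ : Subfield k) k ∧
      Algebra.FormallySmooth (⊥ : Subfield k) (ResidueField A) := by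
    obtain ⟨p, hp⟩ := CharP.exists k
    rcases CharP.char_is_prime_or_zero k p with hp' | rfl
    · haveI : Fact p.Prime := ⟨hp'⟩
      haveI : CharP (⊥ : Subfield k) p :=
        (RingHom.charP_iff _ (algebraMap (⊥ : Subfield k) k).injective p).mpr inferInstance
      haveI : Fintype (⊥ : Subfield k) := Subfield.fintypeBot k p
      haveI : PerfectRing (⊥ : Subfield k) p := PerfectRing.ofFiniteOfIsReduced p _
      haveI : CharP (ResidueField A) p :=
        charP_of_injective_algebraMap (algebraMap k (ResidueField A)).injective p
      exact ⟨Groth.Agent.Lib.Helper96.formallySmooth_of_perfectRing_charP p,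
        Groth.Agent.Lib.Helper96.formallySmooth_of_perfectRing_charP p⟩
    · haveI : CharZero k := CharP.charP_to_charZero k
      haveI : CharZero (⊥ : Subfield k) :=
        (RingHom.charZero_iff (algebraMap (⊥ : Subfield k) k).injective).mpr inferInstance
      exact ⟨Groth.Agent.Lib.Helper96.formallySmooth_of_charZero,
        Groth.Agent.Lib.Helper96.formallySmooth_of_charZero⟩
  obtain ⟨h1, h2⟩ := key
  haveI := h1
  haveI : Algebra.FormallySmooth (⊥ : Subfield k) (A ⧸ maximalIdeal A) := h2
  constructor
  · intro h
    have h0 := Groth.Agent.Lib.Helper96.isAdicFormallySmooth_of_tower (⊥ : Subfield k) k A _ h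
    exact ⟨(Groth.Agent.Lib.Helper13.SymGrC.projective_and_symGrBijective (maximalIdeal A) h0).2,
      Groth.Agent.Lib.Helper96.injective_of_isAdicFormallySmooth h⟩
  · rintro ⟨hsg, hinj⟩
    have hproj : Module.Projective (A ⧸ maximalIdeal A) (maximalIdeal A).Cotangent := by
      show Module.Projective (ResidueField A) (CotangentSpace A)
      infer_instance
    have h0 : CAlgX.IsAdicFormallySmooth (⊥ : Subfield k) A (maximalIdeal A) :=
      Groth.Agent.Lib.Helper13.SymGrE.isAdicFormallySmooth_of_symGr (maximalIdeal A) hproj hsg
    exact Groth.Agent.Lib.Helper96.isAdicFormallySmooth_of_tower_of_injective (⊥ : Subfield k)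
      h0 hinj

end Groth.Agent.S4571
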