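import Groth.Statements.S4574
import Mathlib
import Groth.Agent.Lib.Helper96.SmoothInsep
import Groth.Agent.Lib.Helper96.RegularLoc

set_option autoImplicit false
universe u
open IsLocalRing
open EGA41

namespace Groth.Agent.S4574

/-- Let k be a field and A a Noetherian local k-algebra, formally smooth over k for its adic topology.
Then every localization A_p at a prime p is formally smooth over k for the pA_p-adic topology. -/
theorem result {k A : Type u} [Field k] [CommRing A]
    [IsLocalRing A] [IsNoetherianRing A] [Algebra k A] (h : CAlgX.IsAdicFormallySmooth k A (maximalIdeal A))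
    (p : Ideal A) [p.IsPrime] :
    CAlgX.IsAdicFormallySmooth k (Localization.AtPrime p) (maximalIdeal (Localization.AtPrime p)) := by
  classical
  obtain ⟨q, hq⟩ := ExpChar.exists k
  haveI := hq
  haveI : IsNoetherianRing (Localization.AtPrime p) :=
    IsLocalization.isNoetherianRing p.primeCompl _ inferInstance
  rw [Groth.Agent.Lib.Helper96.isAdicFormallySmooth_iff_forall_regular q]
  intro k' _ _ hfin _
  haveI : IsRegularRing (TensorProduct k k' A) :=
    Groth.Agent.Lib.Helper96.isGeometricallyRegular_of_adicFormallySmooth h k' hfin
  let φ : TensorProduct k k' A →ₐ[k'] TensorProduct k k' (Localization.AtPrime p) :=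
    Algebra.TensorProduct.map (AlgHom.id k' k')
      (IsScalarTower.toAlgHom k A (Localization.AtPrime p))
  letI : Algebra (TensorProduct k k' A) (TensorProduct k k' (Localization.AtPrime p)) :=
    φ.toRingHom.toAlgebra
  haveI : IsScalarTower k' (TensorProduct k k' A) (TensorProduct k k' (Localization.AtPrime p)) :=
    IsScalarTower.of_algebraMap_eq (fun x => (φ.commutes x).symm)
  have H : (algebraMap (TensorProduct k k' A) (TensorProduct k k' (Localization.AtPrime p))).comp
      (Algebra.TensorProduct.includeRight : A →ₐ[k] TensorProduct k k' A).toRingHom =
      (Algebra.TensorProduct.includeRight :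
        Localization.AtPrime p →ₐ[k] TensorProduct k k' (Localization.AtPrime p)).toRingHom.comp
        (algebraMap A (Localization.AtPrime p)) := by
    refine RingHom.ext fun a => ?_
    rfl
  haveI := IsLocalization.tensorProduct_tensorProduct_right k k' p.primeCompl
    (Localization.AtPrime p) H
  exact Groth.Agent.Lib.Helper96.isRegularRing_of_isLocalization
    (p.primeCompl.map (Algebra.TensorProduct.includeRight (R := k) (A := k'))) _

end Groth.Agent.S4574
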