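import Groth.Statements.S4575
import Groth.Agent.S0561
import Mathlib

set_option autoImplicit false
universe u
open IsLocalRing
open EGA41

namespace Groth.Agent.S4575

/-- Minimal generators of the maximal ideal of a regular local ring have linearly independent
images in the cotangent space. -/
theorem linearIndependent_toCotangent {R : Type u} [CommRing R] [IsRegularLocalRing R] (d : ℕ)
    (hd : ringKrullDim R = d) (x : Fin d → R) (hx : Ideal.span (Set.range x) = maximalIdeal R)
    (hxm : ∀ j, x j ∈ maximalIdeal R) :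
    LinearIndependent (ResidueField R)
      (fun j => (maximalIdeal R).toCotangent ⟨x j, hxm j⟩) := by
  apply linearIndependent_of_top_le_span_of_card_eq_finrank
  · rw [top_le_iff]
    have h1 : Submodule.span R (Set.range fun j => (⟨x j, hxm j⟩ : maximalIdeal R)) = ⊤ := by
      rw [eq_top_iff]
      rintro ⟨z, hz⟩ -
      have hz' : z ∈ Ideal.span (Set.range x) := hx ▸ hz
      obtain ⟨a, ha⟩ := (Ideal.mem_span_range_iff_exists_fun).mp hz'
      have : (⟨z, hz⟩ : maximalIdeal R) = ∑ j, a j • (⟨x j, hxm j⟩ : maximalIdeal R) := by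
        ext
        simp [← ha]
      rw [this]
      exact Submodule.sum_mem _ fun j _ =>
        Submodule.smul_mem _ _ (Submodule.subset_span ⟨j, rfl⟩)
    have h2 := (IsLocalRing.CotangentSpace.span_image_eq_top_iff (R := R)
      (s := Set.range fun j => (⟨x j, hxm j⟩ : maximalIdeal R))).mpr h1
    rw [← Set.range_comp] at h2
    exact h2
  · rw [Fintype.card_fin]
    have h3 : ((Module.finrank (ResidueField R) (CotangentSpace R) : ℕ) : WithBot ℕ∞) =
        ringKrullDim R := (IsRegularLocalRing.iff_finrank_cotangentSpace R).mp inferInstance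
    rw [hd] at h3
    exact_mod_cast h3.symm

/-- Let R be a regular local ring with maximal ideal m and n a proper ideal with R/n regular. Then
(n/n²) ⊗_R K → (m/m²) ⊗_R K is injective, K the residue field; stated in the equivalent form n ∩ m²
= m·n (the kernel of n/mn → m/m² is (n ∩ m²)/mn). -/
theorem result {R : Type u} [CommRing R] [IsRegularLocalRing R]
    (n : Ideal R) (hn : n ≠ ⊤) (hreg : IsRegularRing (R ⧸ n)) :
    n ⊓ maximalIdeal R ^ 2 = maximalIdeal R * n := by
  classical
  have hnt : Nontrivial (R ⧸ n) := Ideal.Quotient.nontrivial_iff.mpr hn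
  have hloc : IsLocalRing (R ⧸ n) :=
    IsLocalRing.of_surjective' (Ideal.Quotient.mk n) Ideal.Quotient.mk_surjective
  have hrl : IsRegularLocalRing (R ⧸ n) := IsRegularLocalRing.of_isRegularRing_of_isLocalRing _
  obtain ⟨d, hd⟩ : ∃ d : ℕ, ringKrullDim R = d :=
    ⟨(maximalIdeal R).spanFinrank, IsRegularLocalRing.spanFinrank_maximalIdeal.symm⟩
  obtain ⟨x, c, hc, hx, hnx⟩ := Groth.Agent.S0561.result R d hd n
  have hxm : ∀ j, x j ∈ maximalIdeal R := fun j => hx ▸ Ideal.subset_span ⟨j, rfl⟩
  have hli := linearIndependent_toCotangent d hd x hx hxm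
  have hnm : n ≤ maximalIdeal R := IsLocalRing.le_maximalIdeal hn
  apply le_antisymm
  · intro y hy
    obtain ⟨hyn, hy2⟩ := hy
    rw [hnx] at hyn
    obtain ⟨a, ha⟩ := (Ideal.mem_span_range_iff_exists_fun).mp hyn
    have hli' := hli.comp (Fin.castLE hc) (Fin.castLE_injective hc)
    have hym : y ∈ maximalIdeal R := Ideal.pow_le_self (by norm_num) hy2
    have h0 : (maximalIdeal R).toCotangent ⟨y, hym⟩ = 0 := by
      rw [Ideal.toCotangent_eq_zero]
      exact hy2
    have hsum : (⟨y, hym⟩ : maximalIdeal R) =
        ∑ i, a i • (⟨x (Fin.castLE hc i), hxm _⟩ : maximalIdeal R) := by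
      ext
      simp [← ha]
    rw [hsum, map_sum] at h0
    have h1 : ∑ i, (algebraMap R (ResidueField R) (a i)) •
        ((fun j => (maximalIdeal R).toCotangent ⟨x j, hxm j⟩) ∘ Fin.castLE hc) i = 0 := by
      rw [← h0]
      refine Finset.sum_congr rfl fun i _ => ?_
      rw [map_smul, algebraMap_smul]
      rfl
    have h2 := Fintype.linearIndependent_iff.mp hli' _ h1
    have ham : ∀ i, a i ∈ maximalIdeal R := by
      intro i
      have := h2 i
      rwa [ResidueField.algebraMap_eq, IsLocalRing.residue_eq_zero_iff] at this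
    rw [← ha]
    refine Ideal.sum_mem _ fun i _ => Ideal.mul_mem_mul (ham i) ?_
    rw [hnx]
    exact Ideal.subset_span ⟨i, rfl⟩
  · refine le_inf ?_ ?_
    · exact Ideal.mul_le_left (I := n) (J := maximalIdeal R) |> (mul_comm n (maximalIdeal R) ▸ ·)
    · rw [pow_two]
      exact Ideal.mul_mono_right hnm

end Groth.Agent.S4575
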