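import Groth.Statements.S4577
-- import your own Groth.Agent.* helpers here
import Groth.Agent.Lib.Helper31.LeftInv
import Mathlib.RingTheory.Smooth.Locus
import Mathlib.RingTheory.Etale.Kaehler
import Mathlib.RingTheory.LocalProperties.Submodule

set_option autoImplicit false
universe u
open EGA41

namespace Groth.Agent.S4577

/-- Let B be a formally smooth A-algebra (discrete topologies) and C = B/J a quotient with J/J² finitely
generated. Then C is formally smooth over A if and only if C_m is formally smooth over A for every
maximal ideal m of C (hence also if and only if every C_p, p prime, is). (Not stated: the variant of
the localised condition with C_m formally smooth over A_q, q the contraction of m to A, and the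
further assertion that for B Noetherian the discrete topologies in the localised condition may be
replaced by the adic ones.) -/
theorem result {A B C : Type u} [CommRing A] [CommRing B] [CommRing C]
    [Algebra A B] [Algebra B C] [Algebra A C] [IsScalarTower A B C] [Algebra.FormallySmooth A B]
    (hsurj : Function.Surjective (algebraMap B C)) [Module.Finite B (RingHom.ker (algebraMap B C)).Cotangent] :
    Algebra.FormallySmooth A C ↔
      ∀ (m : Ideal C) [m.IsMaximal], Algebra.FormallySmooth A (Localization.AtPrime m) := by
  constructor
  · intro h m _
    infer_instance
  · intro h
    rw [Algebra.formallySmooth_iff]
    constructor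
    · -- projectivity of Ω[C⁄A]
      have hfg : Module.Finite C (LinearMap.ker (KaehlerDifferential.mapBaseChange A B C)) := by
        rw [Module.Finite.iff_fg]
        apply Submodule.FG.of_restrictScalars B
        rw [← KaehlerDifferential.range_kerCotangentToTensor A B C hsurj, LinearMap.range_eq_map]
        exact Submodule.FG.map _ Module.Finite.fg_top
      refine Groth.Agent.Lib.Helper31.LeftInv.projective_of_surjective_of_forall_maximal
        (KaehlerDifferential.mapBaseChange A B C)
        (KaehlerDifferential.mapBaseChange_surjective A B C hsurj) ?_
      intro m _
      have := h m
      have e1 := IsLocalizedModule.iso m.primeCompl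
        (KaehlerDifferential.map A A C (Localization.AtPrime m))
      have e2 := e1.extendScalarsOfIsLocalization m.primeCompl (Localization.AtPrime m)
      exact Module.Projective.of_equiv e2.symm
    · -- vanishing of H¹
      refine Module.subsingleton_of_localization_maximal
        (fun P _ => Algebra.H1Cotangent A (Localization.AtPrime P))
        (fun P _ => Algebra.H1Cotangent.map A A C (Localization.AtPrime P)) ?_
      intro P _
      have := h P
      infer_instance

end Groth.Agent.S4577
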