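import Groth.Statements.S4578
import Mathlib
import Groth.Agent.Lib.Helper96.SmoothLocus
import Groth.Agent.Lib.Helper96.SmoothInsep

set_option autoImplicit false
universe u
open IsLocalRing
open EGA41

namespace Groth.Agent.S4578

/-- Let k₀ be a field, k an extension field of k₀ which is separable (formally smooth) over k₀, C a
k-algebra of finite type and p a prime ideal of C. The following are equivalent: C_p is formally
smooth over k₀ (discrete topologies); C_p is formally smooth over k₀ for the adic topology of its
maximal ideal; C_f is formally smooth over k₀ for some f ∉ p; C_p is geometrically regular over k₀.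
(The published statement adds that the set of primes p having these properties is open in Spec C;
that openness is not stated here.) -/
theorem result {k₀ k C : Type u} [Field k₀] [Field k] [Algebra k₀ k]
    [Algebra.FormallySmooth k₀ k] [CommRing C] [Algebra k C] [Algebra k₀ C] [IsScalarTower k₀ k C]
    [Algebra.FiniteType k C]
    (p : Ideal C) [p.IsPrime] :
    [Algebra.FormallySmooth k₀ (Localization.AtPrime p),
     CAlgX.IsAdicFormallySmooth k₀ (Localization.AtPrime p) (maximalIdeal (Localization.AtPrime p)),
     ∃ f : C, f ∉ p ∧ Algebra.FormallySmooth k₀ (Localization.Away f),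
     CAlg.IsGeometricallyRegular k₀ (Localization.AtPrime p)].TFAE := by
  obtain ⟨Ext, hN, hS⟩ := Groth.Agent.Lib.Helper96.exists_extension_of_finiteType k₀ k C
  haveI := hN
  haveI := hS
  haveI : IsNoetherianRing C := Algebra.FiniteType.isNoetherianRing k C
  haveI : IsNoetherianRing (Localization.AtPrime p) :=
    IsLocalization.isNoetherianRing p.primeCompl _ inferInstance
  tfae_have 1 → 2 := fun h => by
    haveI := h
    exact Groth.Agent.Lib.Helper96.isAdicFormallySmooth_of_formallySmooth _
  tfae_have 2 → 3 := fun h =>
    Groth.Agent.Lib.Helper96.exists_formallySmooth_away_of_adicFormallySmooth Ext p h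
  tfae_have 3 → 1 := fun ⟨f, hf, h⟩ => by
    haveI := h
    exact Groth.Agent.Lib.Helper96.formallySmooth_atPrime_of_away p f hf
  tfae_have 2 ↔ 4 := by
    constructor
    · intro h
      exact Groth.Agent.Lib.Helper96.isGeometricallyRegular_of_adicFormallySmooth h
    · intro h
      obtain ⟨q, hq⟩ := ExpChar.exists k₀
      exact (Groth.Agent.Lib.Helper96.isAdicFormallySmooth_iff_forall_regular q).mpr
        (fun k' _ _ hfin _ => h k' hfin)
  tfae_finish

end Groth.Agent.S4578
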