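import Groth.Statements.S4582
import Groth.Agent.Lib.Helper96.RegularLocSmooth
import Groth.Agent.Lib.Helper96.GRingComplete
import Groth.Agent.S4537

set_option autoImplicit false
universe u
open IsLocalRing
open EGA41

namespace Groth.Agent.S4582

/-- Let A be a complete Noetherian local ring, p a prime of A, B = A_p, B̂ the completion of B, q a
prime of B̂ and r its contraction to B. Then B̂_q is formally smooth over B_r for the adic
topologies of the maximal ideals. -/
theorem result {A : Type u} [CommRing A]
    [IsLocalRing A] [IsNoetherianRing A] [IsAdicComplete (maximalIdeal A) A] (p : Ideal A) [p.IsPrime]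
    (q : Ideal (AdicCompletion (maximalIdeal (Localization.AtPrime p)) (Localization.AtPrime p))) [q.IsPrime]
    [Algebra (Localization.AtPrime (q.comap (algebraMap (Localization.AtPrime p)
        (AdicCompletion (maximalIdeal (Localization.AtPrime p)) (Localization.AtPrime p)))))
      (Localization.AtPrime q)]
    [IsScalarTower (Localization.AtPrime p)
      (Localization.AtPrime (q.comap (algebraMap (Localization.AtPrime p)
        (AdicCompletion (maximalIdeal (Localization.AtPrime p)) (Localization.AtPrime p)))))
      (Localization.AtPrime q)] :
    EGA41.IsFormallySmoothAdic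
      (Localization.AtPrime (q.comap (algebraMap (Localization.AtPrime p)
        (AdicCompletion (maximalIdeal (Localization.AtPrime p)) (Localization.AtPrime p)))))
      (maximalIdeal _) (Localization.AtPrime q) (maximalIdeal _) := by
  classical
  have hG : CAlg.IsGRing A := Groth.Agent.Lib.Helper96.GRingComplete.isGRing_of_isAdicComplete A
  have hreg : CAlg.IsRegularHom (Localization.AtPrime p)
      (AdicCompletion (maximalIdeal (Localization.AtPrime p)) (Localization.AtPrime p)) := hG.2 p
  have h1 := Groth.Agent.Lib.Helper96.RegularLocSmooth.isAdicFormallySmooth_localization_of_isRegularHom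
    hreg q
  have h2 := (Groth.Agent.S4537.result (maximalIdeal (Localization.AtPrime q))).mp h1
  intro C _ _ J hJ _ u hu
  exact h2 C J hJ ⟨1, by rw [pow_one, Ideal.map_bot]⟩ u hu

end Groth.Agent.S4582
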