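import Groth.Statements.S4585
import Mathlib
import Groth.Agent.Lib.Helper11.GenericImage
-- import your own Groth.Agent.* helpers here

set_option autoImplicit false
universe u
open AlgebraicGeometry CategoryTheory
open EGA41

namespace Groth.Agent.S4585

/-- Let Y be an irreducible scheme with generic point η and f : X → Y locally of finite type with
nonempty fibre over η. Then some open neighbourhood of η is contained in f(X). (The second
assertion, on fibres of a quasi-coherent module of finite type, is not stated.) -/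
theorem result {X Y : Scheme.{u}} (f : X ⟶ Y)
    [LocallyOfFiniteType f] [IrreducibleSpace Y] (h : genericPoint Y ∈ Set.range f.base) :
    genericPoint Y ∈ interior (Set.range f.base) := by
  obtain ⟨x, hx⟩ := h
  -- affine open V ∋ η
  obtain ⟨V, hV, hηV, -⟩ := (TopologicalSpace.Opens.isBasis_iff_nbhd.mp Y.isBasis_affineOpens)
    (show genericPoint Y ∈ (⊤ : Y.Opens) from trivial)
  have hxV : x ∈ f ⁻¹ᵁ V := by
    change f.base x ∈ V
    rw [hx]; exact hηV
  obtain ⟨U, hU, hxU, hUV⟩ := (TopologicalSpace.Opens.isBasis_iff_nbhd.mp X.isBasis_affineOpens) hxV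
  have hV' : IsAffineOpen V := hV
  have hU' : IsAffineOpen U := hU
  have hft : (f.appLE V U hUV).hom.FiniteType :=
    HasRingHomProperty.appLE (P := @LocallyOfFiniteType) f inferInstance ⟨V, hV⟩ ⟨U, hU⟩ hUV
  algebraize [(f.appLE V U hUV).hom]
  set q₀ := hU'.primeIdealOf ⟨x, hxU⟩ with hq₀
  have hp₀ : q₀.comap (f.appLE V U hUV).hom = hV'.primeIdealOf ⟨f.base x, hUV hxU⟩ :=
    IsAffineOpen.comap_primeIdealOf_appLE V hV' U hU' hUV hxU
  obtain ⟨a, ha, hrange⟩ := Groth.Agent.Lib.Helper11.GenericImage.exists_notMem_forall_mem_range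
    (A := Γ(Y, V)) (B := Γ(X, U)) q₀.asIdeal
  rw [mem_interior]
  refine ⟨Y.basicOpen a, ?_, (Y.basicOpen a).isOpen, ?_⟩
  · intro y hy
    rw [← hV'.fromSpec_image_basicOpen a] at hy
    obtain ⟨p, hp, rfl⟩ := hy
    have hspec : genericPoint Y ⤳ hV'.fromSpec p := genericPoint_specializes _
    have hη : hV'.fromSpec (hV'.primeIdealOf ⟨f x, hUV hxU⟩) = genericPoint Y := by
      rw [hV'.fromSpec_primeIdealOf]; exact hx
    rw [← hη] at hspec
    have hemb : Topology.IsInducing hV'.fromSpec := hV'.fromSpec.isOpenEmbedding.isInducing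
    replace hspec := hemb.specializes_iff.mp hspec
    replace hspec := (PrimeSpectrum.le_iff_specializes _ _).mpr hspec
    have hle : Ideal.comap (algebraMap Γ(Y, V) Γ(X, U)) q₀.asIdeal ≤ p.asIdeal := by
      rw [show Ideal.comap (algebraMap Γ(Y, V) Γ(X, U)) q₀.asIdeal =
        (PrimeSpectrum.comap (f.appLE V U hUV).hom q₀).asIdeal from rfl, hp₀]
      exact hspec
    obtain ⟨q, rfl⟩ := hrange p hle hp
    refine ⟨hU'.fromSpec q, ?_⟩
    have key := IsAffineOpen.SpecMap_appLE_fromSpec f hV' hU' hUV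
    have key2 := congrArg (fun g : Spec Γ(X, U) ⟶ Y => g.base q) key
    simp only [Scheme.Hom.comp_base, TopCat.hom_comp, ContinuousMap.comp_apply] at key2
    exact key2.symm
  · rw [← hV'.fromSpec_image_basicOpen a]
    refine ⟨hV'.primeIdealOf ⟨f x, hUV hxU⟩, ?_, ?_⟩
    · change a ∉ (hV'.primeIdealOf ⟨f x, hUV hxU⟩).asIdeal
      rw [← hp₀]; exact ha
    · exact (hV'.fromSpec_primeIdealOf ⟨f x, hUV hxU⟩).trans hx

end Groth.Agent.S4585
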