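import Groth.Statements.S4586
import Groth.Agent.Lib.Helper17.ProCPreimage
import Groth.Agent.S3398
import Groth.Agent.S3399
import Groth.Agent.S3402

set_option autoImplicit false
universe u
open AlgebraicGeometry CategoryTheory Topology
open EGA41

namespace Groth.Agent.S4586

/-- Let f : X → Y be surjective and either quasi-compact or locally of finite presentation, E ⊆ Y. Then
E is locally constructible (resp. pro-constructible, resp. ind-constructible) if and only if f⁻¹(E)
is. -/
theorem result {X Y : Scheme.{u}} (f : X ⟶ Y) [Surjective f]
    (hf : QuasiCompact f ∨ LocallyOfFinitePresentation f) (E : Set Y) :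
    (IsLocallyConstructible E ↔ IsLocallyConstructible (f.base ⁻¹' E)) ∧
    (ProCons.IsProConstructible E ↔ ProCons.IsProConstructible (f.base ⁻¹' E)) ∧
    (ProCons.IsIndConstructible E ↔ ProCons.IsIndConstructible (f.base ⁻¹' E)) := by
  have hsurj : Function.Surjective f.base := f.surjective
  have himg : ∀ A : Set Y, f.base '' (f.base ⁻¹' A) = A :=
    fun A => Set.image_preimage_eq A hsurj
  have hpro : ∀ A : Set Y, ProCons.IsProConstructible (f.base ⁻¹' A) →
      ProCons.IsProConstructible A := by
    intro A h
    rcases hf with hq | hp
    · have := Groth.Agent.S3398.result f _ h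
      rwa [himg] at this
    · apply Groth.Agent.Lib.Helper17.isProConstructible_of_compl_isIndConstructible
      have h' := Groth.Agent.Lib.Helper17.isIndConstructible_compl_of_isProConstructible h
      rw [← Set.preimage_compl] at h'
      have := Groth.Agent.S3399.result f _ h'
      rwa [himg] at this
  have hind : ∀ A : Set Y, ProCons.IsIndConstructible (f.base ⁻¹' A) →
      ProCons.IsIndConstructible A := by
    intro A h
    rcases hf with hq | hp
    · apply Groth.Agent.Lib.Helper17.isIndConstructible_of_compl_isProConstructible
      have h' := Groth.Agent.Lib.Helper17.isProConstructible_compl_of_isIndConstructible h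
      rw [← Set.preimage_compl] at h'
      have := Groth.Agent.S3398.result f _ h'
      rwa [himg] at this
    · have := Groth.Agent.S3399.result f _ h
      rwa [himg] at this
  refine ⟨⟨Groth.Agent.Lib.Helper17.isLocallyConstructible_preimage f, fun h => ?_⟩,
    ⟨Groth.Agent.Lib.Helper17.isProConstructible_preimage f, hpro E⟩,
    ⟨Groth.Agent.Lib.Helper17.isIndConstructible_preimage f, hind E⟩⟩
  rw [Groth.Agent.S3402.result] at h ⊢
  exact ⟨hind E h.1, hpro E h.2⟩

end Groth.Agent.S4586
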