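import Groth.Statements.S4587
import Mathlib.AlgebraicGeometry.Properties
-- import your own Groth.Agent.* helpers here

set_option autoImplicit false
universe u
open AlgebraicGeometry CategoryTheory
open EGA41

namespace Groth.Agent.S4587


theorem generalizingMap_iff_top {X Y : Type*} [TopologicalSpace X] [TopologicalSpace Y]
    [QuasiSober X] [QuasiSober Y] [T0Space Y] (f : X → Y) (hf : Continuous f) :
    GeneralizingMap f ↔
      ∀ Y' : Set Y, IsClosed Y' → IsIrreducible Y' →
        ∀ Z ∈ irreducibleComponents ↥(f ⁻¹' Y'), closure (f '' (Subtype.val '' Z)) = Y' := by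
  constructor
  · intro hgen Y' hcl hirr Z hZ
    have hclpre : IsClosed (f ⁻¹' Y') := hcl.preimage hf
    have hZcl : IsClosed Z := isClosed_of_mem_irreducibleComponents Z hZ
    have hZirr : IsIrreducible Z := hZ.1
    have hZ'cl : IsClosed (Subtype.val '' Z : Set X) :=
      hclpre.isClosedEmbedding_subtypeVal.isClosedMap Z hZcl
    have hZ'irr : IsIrreducible (Subtype.val '' Z : Set X) :=
      hZirr.image _ continuous_subtype_val.continuousOn
    obtain ⟨ζ, hζ⟩ := QuasiSober.sober hZ'irr hZ'cl
    obtain ⟨η, hη⟩ := QuasiSober.sober hirr hcl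
    have hζmem : ζ ∈ (Subtype.val '' Z : Set X) := hζ.mem
    have hfζ : f ζ ∈ Y' := by
      obtain ⟨z, -, rfl⟩ := hζmem
      exact z.2
    have hsp : η ⤳ f ζ := by
      rw [specializes_iff_mem_closure, hη.def]; exact hfζ
    obtain ⟨ζ', hζ', hfζ'⟩ := hgen hsp
    have hζ'mem : ζ' ∈ f ⁻¹' Y' := by
      change f ζ' ∈ Y'
      rw [hfζ']; exact hη.mem
    -- the closure of ζ' in the subtype
    let W : Set ↥(f ⁻¹' Y') := closure {⟨ζ', hζ'mem⟩}
    have hWirr : IsIrreducible W := isIrreducible_singleton.closure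
    have hZW : Z ≤ W := by
      intro z hz
      change z ∈ closure {(⟨ζ', hζ'mem⟩ : ↥(f ⁻¹' Y'))}
      rw [closure_subtype, Set.image_singleton]
      have h1 : (z : X) ∈ closure {ζ} := by rw [hζ.def]; exact ⟨z, hz, rfl⟩
      have h2 : closure {ζ} ⊆ closure {ζ'} :=
        (isClosed_closure.closure_subset_iff).mpr
          (Set.singleton_subset_iff.mpr (specializes_iff_mem_closure.mp hζ'))
      exact h2 h1
    have hWZ : W ≤ Z := hZ.2 hWirr hZW
    have hmem : (⟨ζ', hζ'mem⟩ : ↥(f ⁻¹' Y')) ∈ Z := hWZ (subset_closure rfl)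
    apply subset_antisymm
    · apply hcl.closure_subset_iff.mpr
      rintro _ ⟨_, ⟨z, -, rfl⟩, rfl⟩
      exact z.2
    · have h5 : closure {η} ⊆ closure (f '' (Subtype.val '' Z)) := by
        apply closure_mono
        rw [Set.singleton_subset_iff]
        exact ⟨ζ', ⟨⟨ζ', hζ'mem⟩, hmem, rfl⟩, hfζ'⟩
      rwa [hη.def] at h5
  · intro h x y' hsp
    let Y' : Set Y := closure {y'}
    have hcl : IsClosed Y' := isClosed_closure
    have hirr : IsIrreducible Y' := isIrreducible_singleton.closure
    have hx : x ∈ f ⁻¹' Y' := specializes_iff_mem_closure.mp hsp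
    have hclpre : IsClosed (f ⁻¹' Y') := hcl.preimage hf
    let Z : Set ↥(f ⁻¹' Y') := irreducibleComponent ⟨x, hx⟩
    have hZ : Z ∈ irreducibleComponents ↥(f ⁻¹' Y') :=
      irreducibleComponent_mem_irreducibleComponents _
    have hxZ : (⟨x, hx⟩ : ↥(f ⁻¹' Y')) ∈ Z := mem_irreducibleComponent
    have hZcl : IsClosed Z := isClosed_of_mem_irreducibleComponents Z hZ
    have hZ'cl : IsClosed (Subtype.val '' Z : Set X) :=
      hclpre.isClosedEmbedding_subtypeVal.isClosedMap Z hZcl
    have hZ'irr : IsIrreducible (Subtype.val '' Z : Set X) :=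
      hZ.1.image _ continuous_subtype_val.continuousOn
    obtain ⟨ζ, hζ⟩ := QuasiSober.sober hZ'irr hZ'cl
    refine ⟨ζ, ?_, ?_⟩
    · change ζ ⤳ x
      rw [specializes_iff_mem_closure, hζ.def]
      exact ⟨⟨x, hx⟩, hxZ, rfl⟩
    · have h1 := h Y' hcl hirr Z hZ
      have h2 : closure {f ζ} = Y' := by
        apply subset_antisymm
        · rw [← h1]
          apply closure_mono
          rw [Set.singleton_subset_iff]
          exact ⟨ζ, hζ.mem, rfl⟩
        · rw [← h1]
          apply (isClosed_closure.closure_subset_iff).mpr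
          rw [← hζ.def]
          exact (image_closure_subset_closure_image hf).trans (by rw [Set.image_singleton])
      have h3 : Inseparable (f ζ) y' := inseparable_iff_closure_eq.mpr h2
      exact h3.eq

/-- A morphism of schemes f : X → Y is generizing if and only if, for every irreducible closed subset Y'
of Y, each irreducible component of f⁻¹(Y') has dense image in Y'. -/
theorem result {X Y : Scheme.{u}} (f : X ⟶ Y) :
    GeneralizingMap f.base ↔
      ∀ Y' : Set Y, IsClosed Y' → IsIrreducible Y' →
        ∀ Z ∈ irreducibleComponents ↥(f.base ⁻¹' Y'), closure (f.base '' (Subtype.val '' Z)) = Y' := by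
  exact generalizingMap_iff_top f.base f.base.hom.continuous

end Groth.Agent.S4587
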