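import Groth.Statements.S4588
import Mathlib
import Groth.Agent.Lib.Helper14.MonicQuotReg

set_option autoImplicit false
universe u
open IsLocalRing
open EGA41

namespace Groth.Agent.S4588

/-- Let A be a regular local ring with maximal ideal m and residue field K, and F_i(T_i) = T_i^{d_i} +
Σ_{k<d_i} c_{ik} T_i^k (1 ≤ i ≤ r) monic one-variable polynomials of degrees d_i ≥ 2 with all
non-leading coefficients in m; put A' = A[T_1, …, T_r]/(F_1, …, F_r). Then (i) A' is local with
residue field K, and (ii) A' is regular if and only if the classes in m/m² of the constant terms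
c_{i0} are linearly independent over K. -/
theorem result {A : Type u} [CommRing A]
    [IsRegularLocalRing A] {r : ℕ} (d : Fin r → ℕ) (hd : ∀ i, 2 ≤ d i) (c : Fin r → ℕ → A)
    (hc : ∀ i k, c i k ∈ maximalIdeal A) :
    let F : Fin r → MvPolynomial (Fin r) A := fun i =>
      MvPolynomial.X i ^ d i + (Finset.range (d i)).sum fun k => MvPolynomial.C (c i k) * MvPolynomial.X i ^ k
    IsLocalRing (MvPolynomial (Fin r) A ⧸ Ideal.span (Set.range F)) ∧
    (∀ (M : Ideal (MvPolynomial (Fin r) A ⧸ Ideal.span (Set.range F))) [M.IsMaximal],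
      Function.Surjective ((Ideal.Quotient.mk M).comp (algebraMap A _))) ∧
    (IsRegularRing (MvPolynomial (Fin r) A ⧸ Ideal.span (Set.range F)) ↔
      LinearIndependent (ResidueField A) (fun i => (maximalIdeal A).toCotangent ⟨c i 0, hc i 0⟩)) := by
  intro F
  have hd1 : ∀ i, 1 ≤ d i := fun i => le_trans (by norm_num) (hd i)
  change IsLocalRing (Groth.Agent.Lib.Helper14.MonicQuot.Q d c) ∧
    (∀ (M : Ideal (Groth.Agent.Lib.Helper14.MonicQuot.Q d c)) [M.IsMaximal],
      Function.Surjective ((Ideal.Quotient.mk M).comp (algebraMap A _))) ∧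
    (IsRegularRing (Groth.Agent.Lib.Helper14.MonicQuot.Q d c) ↔
      LinearIndependent (ResidueField A) (fun i => (maximalIdeal A).toCotangent ⟨c i 0, hc i 0⟩))
  have hloc : IsLocalRing (Groth.Agent.Lib.Helper14.MonicQuot.Q d c) :=
    Groth.Agent.Lib.Helper14.MonicQuot.isLocalRing_Q' hd1 hc
  refine ⟨hloc, fun M _ => Groth.Agent.Lib.Helper14.MonicQuot.residue_surjective hd1 hc M, ?_, ?_⟩
  · intro hreg
    have : IsRegularLocalRing (Groth.Agent.Lib.Helper14.MonicQuot.Q d c) :=
      IsRegularLocalRing.of_isRegularRing_of_isLocalRing _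
    exact Groth.Agent.Lib.Helper14.MonicQuot.linearIndependent_of_isRegularLocalRing hd hc
  · intro hli
    have := Groth.Agent.Lib.Helper14.MonicQuot.isRegularLocalRing_of_linearIndependent hd1 hc hli
    exact Groth.Agent.Lib.Helper33.isRegularRing_of_isRegularLocalRing _

end Groth.Agent.S4588
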