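import Groth.Statements.S4590
import Mathlib.RingTheory.Flat.FaithfullyFlat.Algebra
import Mathlib.RingTheory.Flat.TorsionFree
import Mathlib.RingTheory.Polynomial.ScaleRoots
import Mathlib.Algebra.Polynomial.Lifts
import Mathlib.RingTheory.Polynomial.Basic
-- import your own Groth.Agent.* helpers here

set_option autoImplicit false
universe u
open CAlg

namespace Groth.Agent.S4590

open Polynomial in
/-- If `a ^ N` is an `A`-combination of `s ^ (N - i) * a ^ i`, `i < N`, then `a / s` is integral. -/
theorem isIntegral_div_of_pow_mem {A K : Type*} [CommRing A] [Field K] [Algebra A K]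
    (a s : A) (hs : algebraMap A K s ≠ 0) (N : ℕ)
    (h : a ^ N ∈ Ideal.span (Set.range fun i : Fin N => s ^ (N - (i : ℕ)) * a ^ (i : ℕ))) :
    IsIntegral A (algebraMap A K a / algebraMap A K s) := by
  rw [Ideal.mem_span_range_iff_exists_fun] at h
  obtain ⟨α, hα⟩ := h
  refine ⟨X ^ N - ∑ i : Fin N, C (α i) * X ^ (i : ℕ), monic_X_pow_sub (degree_sum_fin_lt α), ?_⟩
  set x := algebraMap A K a / algebraMap A K s with hx
  have hxs : x * algebraMap A K s = algebraMap A K a := by
    rw [hx, div_mul_cancel₀ _ hs]
  have hsN : (algebraMap A K s) ^ N ≠ 0 := pow_ne_zero _ hs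
  apply mul_left_cancel₀ hsN
  rw [mul_zero]
  simp only [eval₂_sub, eval₂_pow, eval₂_X, eval₂_finsetSum, eval₂_mul, eval₂_C]
  rw [mul_sub, Finset.mul_sum]
  have h1 : (algebraMap A K s) ^ N * x ^ N = algebraMap A K (a ^ N) := by
    rw [← mul_pow, mul_comm, hxs, map_pow]
  have h2 : ∀ i : Fin N, (algebraMap A K s) ^ N * (algebraMap A K (α i) * x ^ (i : ℕ)) =
      algebraMap A K (α i * (s ^ (N - (i : ℕ)) * a ^ (i : ℕ))) := by
    intro i
    have hi : (i : ℕ) ≤ N := i.2.le
    have : (algebraMap A K s) ^ N = (algebraMap A K s) ^ (N - (i : ℕ)) * (algebraMap A K s) ^ (i : ℕ) := by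
      rw [← pow_add, Nat.sub_add_cancel hi]
    rw [this, map_mul, map_mul, map_pow, map_pow, ← hxs, mul_pow]
    ring
  rw [h1, Finset.sum_congr rfl (fun i _ => h2 i), ← map_sum, ← map_sub, hα, sub_self, map_zero]

open Polynomial in
/-- Faithfully flat descent of an integrality equation modulo nilpotents. -/
theorem pow_mem_span_of_eval_scaleRoots_nilpotent {A B : Type*} [CommRing A] [CommRing B] [Algebra A B]
    [Module.FaithfullyFlat A B] (a s : A) (P : B[X]) (hP : P.Monic)
    (hnil : IsNilpotent (eval (algebraMap A B a) (scaleRoots P (algebraMap A B s)))) :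
    ∃ N : ℕ, a ^ N ∈ Ideal.span (Set.range fun i : Fin N => s ^ (N - (i : ℕ)) * a ^ (i : ℕ)) := by
  have hinj : Function.Injective (algebraMap A B) := FaithfulSMul.algebraMap_injective A B
  rcases subsingleton_or_nontrivial B with hB | hB
  · have hA : Subsingleton A := hinj.subsingleton
    exact ⟨0, by rw [Subsingleton.elim (a ^ 0) 0]; exact Ideal.zero_mem _⟩
  · obtain ⟨m, hm⟩ := hnil
    set aB := algebraMap A B a with haB
    set sB := algebraMap A B s with hsB
    set Q := P ^ m with hQ
    have hQm : Q.Monic := hP.pow m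
    have hsr : scaleRoots Q sB = (scaleRoots P sB) ^ m :=
      pow_scaleRoots' P sB m (by rw [hP.leadingCoeff, one_pow]; exact one_ne_zero)
    have hev : eval aB (scaleRoots Q sB) = 0 := by rw [hsr, eval_pow, hm]
    set N := Q.natDegree with hN
    refine ⟨N, ?_⟩
    rw [← Ideal.comap_map_eq_self_of_faithfullyFlat (B := B)
      (Ideal.span (Set.range fun i : Fin N => s ^ (N - (i : ℕ)) * a ^ (i : ℕ))), Ideal.mem_comap]
    rw [eval_eq_sum_range, natDegree_scaleRoots, Finset.sum_range_succ, ← hN,
      coeff_scaleRoots_natDegree, hQm.leadingCoeff, one_mul] at hev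
    have hkey : algebraMap A B (a ^ N) =
        -∑ i ∈ Finset.range N, (scaleRoots Q sB).coeff i * aB ^ i := by
      rw [map_pow, ← haB]
      exact eq_neg_of_add_eq_zero_right hev
    rw [hkey]
    refine neg_mem (Ideal.sum_mem _ fun i hi => ?_)
    have hiN : i < N := Finset.mem_range.1 hi
    rw [coeff_scaleRoots, ← hN, mul_assoc]
    refine Ideal.mul_mem_left _ _ ?_
    have : sB ^ (N - i) * aB ^ i = algebraMap A B (s ^ (N - i) * a ^ i) := by
      rw [map_mul, map_pow, map_pow]
    rw [this]
    exact Ideal.mem_map_of_mem _ (Ideal.subset_span ⟨⟨i, hiN⟩, rfl⟩)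

/-- Let A be a domain with fraction field K, B a faithfully flat A-algebra, C = B_red and R the total
ring of fractions of C. Then A → C is injective with nonzero elements going to non-zero-divisors, so
that K embeds in R, and an element of K is integral over C in R if and only if it is integral over
A. -/
theorem result {A B : Type u} [CommRing A] [IsDomain A]
    [CommRing B] [Algebra A B] [Module.FaithfullyFlat A B] :
    Function.Injective (algebraMap A (B ⧸ nilradical B)) ∧
    (∀ a : A, a ≠ 0 → algebraMap A (B ⧸ nilradical B) a ∈ nonZeroDivisors (B ⧸ nilradical B)) ∧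
    ∀ (R : Type u) [CommRing R] [Algebra (B ⧸ nilradical B) R] [IsFractionRing (B ⧸ nilradical B) R]
      [Algebra A R] [IsScalarTower A (B ⧸ nilradical B) R] [Algebra (FractionRing A) R]
      [IsScalarTower A (FractionRing A) R] (x : FractionRing A),
      IsIntegral (B ⧸ nilradical B) (algebraMap (FractionRing A) R x) ↔ IsIntegral A x := by
  have hinjAB : Function.Injective (algebraMap A B) := FaithfulSMul.algebraMap_injective A B
  have hmk : ∀ a : A, algebraMap A (B ⧸ nilradical B) a =
      Ideal.Quotient.mk (nilradical B) (algebraMap A B a) := fun a => rfl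
  have hNB : Nontrivial B := hinjAB.nontrivial
  have hNC : Nontrivial (B ⧸ nilradical B) := by
    apply Ideal.Quotient.nontrivial_iff.2
    intro h
    have h1 : (1 : B) ∈ nilradical B := by rw [h]; trivial
    rw [mem_nilradical] at h1
    obtain ⟨n, hn⟩ := h1
    rw [one_pow] at hn
    exact one_ne_zero hn
  -- (1) injectivity
  have h1 : Function.Injective (algebraMap A (B ⧸ nilradical B)) := by
    rw [injective_iff_map_eq_zero]
    intro a ha
    rw [hmk, Ideal.Quotient.eq_zero_iff_mem, mem_nilradical] at ha
    obtain ⟨n, hn⟩ := ha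
    rw [← map_pow] at hn
    have : a ^ n = 0 := hinjAB (by rw [hn, map_zero])
    exact pow_eq_zero_iff'.1 this |>.1
  -- (2) nonzero elements go to non-zero-divisors
  have h2 : ∀ a : A, a ≠ 0 → algebraMap A (B ⧸ nilradical B) a ∈ nonZeroDivisors (B ⧸ nilradical B) := by
    intro a ha
    rw [mem_nonZeroDivisors_iff_right]
    intro c hc
    obtain ⟨b, rfl⟩ := Ideal.Quotient.mk_surjective c
    rw [hmk, ← map_mul, Ideal.Quotient.eq_zero_iff_mem, mem_nilradical] at hc
    obtain ⟨n, hn⟩ := hc
    rw [Ideal.Quotient.eq_zero_iff_mem, mem_nilradical]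
    refine ⟨n, ?_⟩
    rw [mul_pow, ← map_pow, mul_comm, ← Algebra.smul_def] at hn
    have han : a ^ n ∈ nonZeroDivisors A := mem_nonZeroDivisors_of_ne_zero (pow_ne_zero n ha)
    have hreg : IsSMulRegular B (a ^ n) := Module.Flat.isSMulRegular_of_nonZeroDivisors han
    exact hreg (by simp only [hn, smul_zero])
  refine ⟨h1, h2, ?_⟩
  intro R _ _ _ _ _ _ _ x
  constructor
  · -- integral over `C` implies integral over `A`
    intro hx
    obtain ⟨a, s, hs, rfl⟩ := IsFractionRing.div_surjective (A := A) x
    have hs0 : algebraMap A (FractionRing A) s ≠ 0 :=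
      map_ne_zero_of_mem_nonZeroDivisors _ (IsFractionRing.injective A (FractionRing A)) hs
    obtain ⟨P, hP, hPy⟩ := hx
    set f := algebraMap (B ⧸ nilradical B) R with hf
    have hfinj : Function.Injective f := IsFractionRing.injective _ _
    set y := algebraMap (FractionRing A) R
      (algebraMap A (FractionRing A) a / algebraMap A (FractionRing A) s) with hy
    have hys : f (algebraMap A (B ⧸ nilradical B) s) * y = f (algebraMap A (B ⧸ nilradical B) a) := by
      rw [hf, ← IsScalarTower.algebraMap_apply A (B ⧸ nilradical B) R,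
        ← IsScalarTower.algebraMap_apply A (B ⧸ nilradical B) R,
        IsScalarTower.algebraMap_apply A (FractionRing A) R,
        IsScalarTower.algebraMap_apply A (FractionRing A) R, hy, ← map_mul,
        mul_div_cancel₀ _ hs0]
    have hsc := Polynomial.scaleRoots_eval₂_mul (p := P) f y (algebraMap A (B ⧸ nilradical B) s)
    rw [hPy, mul_zero, hys, Polynomial.eval₂_at_apply] at hsc
    have hC : Polynomial.eval (algebraMap A (B ⧸ nilradical B) a)
        (Polynomial.scaleRoots P (algebraMap A (B ⧸ nilradical B) s)) = 0 :=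
      hfinj (by rw [hsc, map_zero])
    -- lift `P` to a monic polynomial over `B`
    have hlift : P ∈ Polynomial.lifts (Ideal.Quotient.mk (nilradical B)) := by
      rw [Polynomial.lifts_iff_coeff_lifts]
      intro n
      exact Ideal.Quotient.mk_surjective _
    obtain ⟨Pt, hPt, _, hPtm⟩ := Polynomial.lifts_and_degree_eq_and_monic hlift hP
    have hmap : Polynomial.map (Ideal.Quotient.mk (nilradical B))
        (Polynomial.scaleRoots Pt (algebraMap A B s)) =
        Polynomial.scaleRoots P (algebraMap A (B ⧸ nilradical B) s) := by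
      rw [Polynomial.map_scaleRoots _ _ _ (by rw [hPtm.leadingCoeff, map_one]; exact one_ne_zero), hPt,
        hmk]
    have hnil : IsNilpotent (Polynomial.eval (algebraMap A B a)
        (Polynomial.scaleRoots Pt (algebraMap A B s))) := by
      rw [← mem_nilradical, ← Ideal.Quotient.eq_zero_iff_mem, ← Polynomial.eval_map_apply, hmap, ← hmk]
      exact hC
    obtain ⟨N, hN⟩ := pow_mem_span_of_eval_scaleRoots_nilpotent a s Pt hPtm hnil
    exact isIntegral_div_of_pow_mem a s hs0 N hN
  · -- integral over `A` implies integral over `C`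
    intro hx
    have h3 : IsIntegral A (algebraMap (FractionRing A) R x) :=
      hx.map (IsScalarTower.toAlgHom A (FractionRing A) R)
    exact h3.tower_top

end Groth.Agent.S4590
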