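import Groth.Statements.S4591
import Groth.Agent.Lib.Helper17.ProCCompact

set_option autoImplicit false
universe u
open AlgebraicGeometry
open EGA41

namespace Groth.Agent.S4591

/-- Let X be a quasi-compact scheme, F a pro-constructible subset and (E_i) a family of
ind-constructible subsets covering F. Then some finite subfamily covers F. -/
theorem result (X : Scheme.{u}) [CompactSpace X]
    (F : Set X) (hF : ProCons.IsProConstructible F) {ι : Type u} (E : ι → Set X)
    (hE : ∀ i, ProCons.IsIndConstructible (E i)) (h : F ⊆ ⋃ i, E i) :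
    ∃ J : Finset ι, F ⊆ ⋃ i ∈ J, E i := by
  classical
  let F' : Option ι → Set X := fun a => a.elim F (fun i => (E i)ᶜ)
  have hF' : ∀ a, ProCons.IsProConstructible (F' a) := by
    rintro (_ | i)
    · exact hF
    · exact Groth.Agent.Lib.Helper17.isProConstructible_compl_of_isIndConstructible (hE i)
  have hempty : ⋂ a, F' a = ∅ := by
    rw [Set.eq_empty_iff_forall_notMem]
    intro x hx
    rw [Set.mem_iInter] at hx
    obtain ⟨i, hi⟩ := Set.mem_iUnion.mp (h (hx none))
    exact hx (some i) hi
  obtain ⟨J', hJ'⟩ :=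
    Groth.Agent.Lib.Helper17.exists_finset_iInter_eq_empty_of_isProConstructible X F' hF' hempty
  refine ⟨J'.eraseNone, ?_⟩
  intro x hx
  by_contra hxE
  have : x ∈ ⋂ a ∈ J', F' a := by
    rw [Set.mem_iInter₂]
    rintro (_ | i) ha
    · exact hx
    · intro hxi
      exact hxE (Set.mem_iUnion₂.mpr ⟨i, Finset.mem_eraseNone.mpr ha, hxi⟩)
  rw [hJ'] at this
  exact this

end Groth.Agent.S4591
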