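import Groth.Statements.S4593
import Mathlib.Algebra.Category.Ring.FilteredColimits
import Mathlib.CategoryTheory.Limits.ConcreteCategory.Basic
import Mathlib.RingTheory.Spectrum.Prime.RingHom
-- import your own Groth.Agent.* helpers here

set_option autoImplicit false
universe u
open CategoryTheory CategoryTheory.Limits AlgebraicGeometry
open EGA41

namespace Groth.Agent.S4593

section aux

variable {I : Type u} [SmallCategory I] [IsFiltered I]
    (B : CommRingCat.{u}) (D : I ⥤ CommRingCat.{u}) (s : (Functor.const I).obj B ⟶ D) (c : Cocone D)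

omit [IsFiltered I] in
theorem s_naturality {j k : I} (f : j ⟶ k) : s.app j ≫ D.map f = s.app k := by
  have := s.naturality f
  simpa using this.symm

theorem s_comp_ι (i j : I) : s.app i ≫ c.ι.app i = s.app j ≫ c.ι.app j := by
  have h1 : s.app i ≫ c.ι.app i = s.app (IsFiltered.max i j) ≫ c.ι.app (IsFiltered.max i j) := by
    rw [← s_naturality B D s (IsFiltered.leftToMax i j), Category.assoc, c.w]
  have h2 : s.app j ≫ c.ι.app j = s.app (IsFiltered.max i j) ≫ c.ι.app (IsFiltered.max i j) := by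
    rw [← s_naturality B D s (IsFiltered.rightToMax i j), Category.assoc, c.w]
  rw [h1, h2]

omit [IsFiltered I] in
theorem map_mem_map {j k : I} (f : j ⟶ k) (P : Ideal B) (y : D.obj j)
    (hy : y ∈ Ideal.map (s.app j).hom P) : (D.map f).hom y ∈ Ideal.map (s.app k).hom P := by
  have h1 := Ideal.mem_map_of_mem (D.map f).hom hy
  rw [Ideal.map_map] at h1
  have h2 : (D.map f).hom.comp (s.app j).hom = (s.app k).hom := by
    rw [← CommRingCat.hom_comp, s_naturality B D s f]
  rwa [h2] at h1

omit [IsFiltered I] in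
theorem ι_map_apply {j k : I} (f : j ⟶ k) (y : D.obj j) :
    (c.ι.app k).hom ((D.map f).hom y) = (c.ι.app j).hom y := by
  have := c.w f
  rw [← this]
  rfl

theorem exists_rep_of_mem_map (hc : IsColimit c) (i₀ : I) (P : Ideal B) (x : c.pt)
    (hx : x ∈ Ideal.map (s.app i₀ ≫ c.ι.app i₀).hom P) :
    ∃ (j : I) (y : D.obj j), y ∈ Ideal.map (s.app j).hom P ∧ (c.ι.app j).hom y = x := by
  unfold Ideal.map at hx
  induction hx using Submodule.span_induction with
  | mem x hx =>
    obtain ⟨q, hq, rfl⟩ := hx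
    exact ⟨i₀, (s.app i₀).hom q, Ideal.mem_map_of_mem _ hq, rfl⟩
  | zero => exact ⟨i₀, 0, Ideal.zero_mem _, map_zero _⟩
  | add x₁ x₂ _ _ h₁ h₂ =>
    obtain ⟨j₁, y₁, hy₁, rfl⟩ := h₁
    obtain ⟨j₂, y₂, hy₂, rfl⟩ := h₂
    refine ⟨IsFiltered.max j₁ j₂, (D.map (IsFiltered.leftToMax j₁ j₂)).hom y₁ +
      (D.map (IsFiltered.rightToMax j₁ j₂)).hom y₂, Ideal.add_mem _ ?_ ?_, ?_⟩
    · exact map_mem_map B D s _ P y₁ hy₁
    · exact map_mem_map B D s _ P y₂ hy₂
    · rw [map_add, ι_map_apply, ι_map_apply]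
  | smul a x _ h =>
    obtain ⟨j, y, hy, rfl⟩ := h
    obtain ⟨j', a', rfl⟩ := Concrete.isColimit_exists_rep D hc a
    refine ⟨IsFiltered.max j' j, (D.map (IsFiltered.leftToMax j' j)).hom a' *
      (D.map (IsFiltered.rightToMax j' j)).hom y, Ideal.mul_mem_left _ _ ?_, ?_⟩
    · exact map_mem_map B D s _ P y hy
    · rw [map_mul, ι_map_apply, ι_map_apply]
      rfl

theorem mem_range_of_forall (hc : IsColimit c) (i₀ : I) (p : PrimeSpectrum B)
    (h : ∀ i : I, p ∈ Set.range (PrimeSpectrum.comap (s.app i).hom)) :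
    p ∈ Set.range (PrimeSpectrum.comap (s.app i₀ ≫ c.ι.app i₀).hom) := by
  rw [PrimeSpectrum.mem_range_comap_iff]
  refine le_antisymm ?_ Ideal.le_comap_map
  intro b hb
  rw [Ideal.mem_comap] at hb
  obtain ⟨j, y, hy, hyb⟩ := exists_rep_of_mem_map B D s c hc i₀ p.asIdeal _ hb
  have h1 : (c.ι.app j).hom y = (c.ι.app j).hom ((s.app j).hom b) := by
    rw [hyb]
    have := s_comp_ι B D s c i₀ j
    rw [this]
    rfl
  obtain ⟨k, f, g, hfg⟩ := Concrete.isColimit_exists_of_rep_eq D hc y ((s.app j).hom b) h1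
  have h2 : (D.map g).hom ((s.app j).hom b) = (s.app k).hom b := by
    have := s_naturality B D s g
    rw [← this]
    rfl
  have h3 : (s.app k).hom b ∈ Ideal.map (s.app k).hom p.asIdeal := by
    rw [← h2]
    have : (D.map f).hom y = (D.map g).hom ((s.app j).hom b) := hfg
    rw [← this]
    exact map_mem_map B D s f p.asIdeal y hy
  have h4 := (PrimeSpectrum.mem_range_comap_iff (s.app k).hom).1 (h k)
  rw [← h4]
  exact h3

end aux

/-- Let B be a ring, (A_i) a filtered system of B-algebras with colimit A. The image of Spec A in Spec B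
is the intersection of the images of the Spec A_i. -/
theorem result {I : Type u} [SmallCategory I] [IsFiltered I]
    (B : CommRingCat.{u}) (D : I ⥤ CommRingCat.{u}) (s : (Functor.const I).obj B ⟶ D) (c : Cocone D)
    (hc : IsColimit c) (i₀ : I) :
    Set.range (Spec.map (s.app i₀ ≫ c.ι.app i₀)).base = ⋂ i : I, Set.range (Spec.map (s.app i)).base := by
  ext p
  simp only [Set.mem_iInter]
  constructor
  · rintro ⟨q, rfl⟩ i
    rw [s_comp_ι B D s c i₀ i, Spec.map_comp]
    exact ⟨(Spec.map (c.ι.app i)).base q, rfl⟩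
  · intro h
    exact mem_range_of_forall B D s c hc i₀ p h

end Groth.Agent.S4593
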