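import Groth.Statements.S4598
import Groth.Agent.S4596
import Mathlib.AlgebraicGeometry.PullbackCarrier
import Mathlib.CategoryTheory.MorphismProperty.Descent
-- import your own Groth.Agent.* helpers here

set_option autoImplicit false
universe u
open AlgebraicGeometry CategoryTheory CategoryTheory.Limits
open EGA41

namespace Groth.Agent.S4598

theorem quasiCompact_hasOfPrecomp :
    MorphismProperty.HasOfPrecompProperty @QuasiCompact.{u} (@Surjective ⊓ @QuasiCompact) where
  of_precomp f g hf hfg := by
    have : Surjective f := hf.1
    have : QuasiCompact (f ≫ g) := hfg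
    exact Groth.Agent.S4596.result f g

theorem quasiCompact_respectsRight :
    MorphismProperty.RespectsRight @QuasiCompact.{u} (@Surjective ⊓ @QuasiCompact) where
  postcomp i hi f hf := by
    have : QuasiCompact i := hi.2
    have : QuasiCompact f := hf
    exact (inferInstance : QuasiCompact (f ≫ i))

set_option backward.isDefEq.respectTransparency false in
theorem quasiCompact_descendsAlong :
    MorphismProperty.DescendsAlong @QuasiCompact.{u} (@Surjective ⊓ @QuasiCompact) := by
  have h1 := quasiCompact_hasOfPrecomp.{u}
  have h2 := quasiCompact_respectsRight.{u}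
  have h3 : MorphismProperty.IsStableUnderBaseChange
      (@Surjective ⊓ @QuasiCompact : MorphismProperty Scheme.{u}) :=
    MorphismProperty.IsStableUnderBaseChange.inf
  infer_instance

set_option backward.isDefEq.respectTransparency false in
theorem quasiSeparated_of_pullback_snd {X Y Y' : Scheme.{u}} (f : X ⟶ Y)
    (g : Y' ⟶ Y) [QuasiCompact g] [Surjective g] [QuasiSeparated (pullback.snd f g)] :
    QuasiSeparated f := by
  have := quasiCompact_descendsAlong.{u}
  have h3 : MorphismProperty.IsStableUnderBaseChange
      (@Surjective ⊓ @QuasiCompact : MorphismProperty Scheme.{u}) :=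
    MorphismProperty.IsStableUnderBaseChange.inf
  have hd : MorphismProperty.DescendsAlong (MorphismProperty.diagonal @QuasiCompact.{u})
      (@Surjective ⊓ @QuasiCompact) := inferInstance
  have hg : (@Surjective ⊓ @QuasiCompact : MorphismProperty Scheme.{u}) g := ⟨‹_›, ‹_›⟩
  have hsnd : MorphismProperty.diagonal @QuasiCompact.{u} (pullback.snd f g) := by
    rw [← quasiSeparated_eq_diagonal_is_quasiCompact]
    infer_instance
  have := MorphismProperty.of_pullback_snd_of_descendsAlong
    (P := MorphismProperty.diagonal @QuasiCompact.{u}) (Q := @Surjective ⊓ @QuasiCompact) hg hsnd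
  rw [← quasiSeparated_eq_diagonal_is_quasiCompact] at this
  exact this


/-- If g : Y' → Y is quasi-compact and surjective and the base change X ×_Y Y' → Y' of f : X → Y is
quasi-separated, then f is quasi-separated. -/
theorem result {X Y Y' : Scheme.{u}} (f : X ⟶ Y)
    (g : Y' ⟶ Y) [QuasiCompact g] [Surjective g] [QuasiSeparated (pullback.snd f g)] :
    QuasiSeparated f := by
  exact quasiSeparated_of_pullback_snd f g

end Groth.Agent.S4598
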