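import Groth.Statements.S4600
import Mathlib.RingTheory.Extension.Presentation.Core
import Mathlib.Algebra.Category.Ring.FilteredColimits
import Mathlib.CategoryTheory.Limits.ConcreteCategory.Basic
-- import your own Groth.Agent.* helpers here

set_option autoImplicit false
universe u
open CategoryTheory CategoryTheory.Limits TensorProduct
open EGA41

namespace Groth.Agent.S4600


theorem exists_index_of_finite {I : Type u} [SmallCategory I] [IsFiltered I]
    (D : I ⥤ CommRingCat.{u}) (c : Cocone D) (hc : IsColimit c) (s : Set c.pt) (hs : s.Finite) :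
    ∃ i : I, s ⊆ Set.range (c.ι.app i).hom := by
  induction s, hs using Set.Finite.induction_on with
  | empty => exact ⟨IsFiltered.nonempty.some, Set.empty_subset _⟩
  | @insert a s _ _ ih =>
    obtain ⟨i, hi⟩ := ih
    obtain ⟨j, x, hx⟩ := CategoryTheory.Limits.Concrete.isColimit_exists_rep D hc a
    obtain ⟨k, f, g, -⟩ := IsFilteredOrEmpty.cocone_objs i j
    refine ⟨k, ?_⟩
    rw [Set.insert_subset_iff]
    constructor
    · refine ⟨(D.map g).hom x, ?_⟩
      rw [← hx, ← c.w g]
      rfl
    · intro y hy
      obtain ⟨z, rfl⟩ := hi hy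
      refine ⟨(D.map f).hom z, ?_⟩
      rw [← c.w f]
      rfl

/-- Let (A_i) be a filtered system of rings with colimit A and B a finitely presented A-algebra. Then
some stage A_i carries a finitely presented algebra B_i with B isomorphic to A ⊗_{A_i} B_i as
A-algebras (existence of an isomorphism; the base change is along the colimit map A_i → A). -/
theorem result {I : Type u} [SmallCategory I] [IsFiltered I]
    (D : I ⥤ CommRingCat.{u}) (c : Cocone D) (hc : IsColimit c) (B : Type u) [CommRing B] [Algebra c.pt B]
    [Algebra.FinitePresentation c.pt B] :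
    ∃ (i : I) (Bi : Type u) (_ : CommRing Bi) (_ : Algebra (D.obj i) Bi),
      Algebra.FinitePresentation (D.obj i) Bi ∧
      (letI : Algebra (D.obj i) c.pt := (c.ι.app i).hom.toAlgebra
       Nonempty (B ≃ₐ[c.pt] (c.pt ⊗[D.obj i] Bi))) := by
  let P := Algebra.Presentation.ofFinitePresentation c.pt B
  obtain ⟨i, hi⟩ := exists_index_of_finite D c hc P.coeffs P.finite_coeffs
  let _ : Algebra (D.obj i) c.pt := (c.ι.app i).hom.toAlgebra
  let _ : Algebra (D.obj i) B := ((algebraMap c.pt B).comp (c.ι.app i).hom).toAlgebra
  have : IsScalarTower (D.obj i) c.pt B := .of_algebraMap_eq' rfl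
  have : P.HasCoeffs (D.obj i) := ⟨hi⟩
  exact ⟨i, P.ModelOfHasCoeffs (D.obj i), inferInstance, inferInstance, inferInstance,
    ⟨(P.tensorModelOfHasCoeffsEquiv (D.obj i)).symm⟩⟩

end Groth.Agent.S4600
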