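import Groth.Statements.S4601
import Mathlib

set_option autoImplicit false
universe u
open TensorProduct
open CAlg

namespace Groth.Agent.S4601

/-- Let A be a domain with fraction field K, B a Noetherian A-algebra which is flat over A, K' an
extension field of K, B₁ = B_red and R its total ring of fractions. For every sub-A-algebra A' of
K', the map (A' ⊗_A B)_red → (K' ⊗_A R)_red is injective, i.e. an element of A' ⊗_A B with nilpotent
image in K' ⊗_A R is nilpotent. -/
theorem result {A B K' R : Type u} [CommRing A]
    [IsDomain A] [CommRing B] [Algebra A B] [IsNoetherianRing B] [Module.Flat A B]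
    [Field K'] [Algebra A K'] [Algebra (FractionRing A) K'] [IsScalarTower A (FractionRing A) K']
    [CommRing R] [Algebra (B ⧸ nilradical B) R] [IsFractionRing (B ⧸ nilradical B) R]
    [Algebra B R] [IsScalarTower B (B ⧸ nilradical B) R] [Algebra A R] [IsScalarTower A B R]
    (A' : Subalgebra A K') (x : ↥A' ⊗[A] B)
    (hx : IsNilpotent (Algebra.TensorProduct.map A'.val (IsScalarTower.toAlgHom A B R) x)) :
    IsNilpotent x := by
  classical
  -- flatness of `K'` over `A`
  have hflatK : Module.Flat A (FractionRing A) := IsLocalization.flat (FractionRing A) (nonZeroDivisors A)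
  have hflatK' : Module.Flat A K' := Module.Flat.trans A (FractionRing A) K'
  -- the three maps
  let f₁ : ↥A' ⊗[A] B →ₐ[A] K' ⊗[A] B := Algebra.TensorProduct.map A'.val (AlgHom.id A B)
  let q : B →ₐ[A] (B ⧸ nilradical B) := Ideal.Quotient.mkₐ A (nilradical B)
  have htower : ∀ (a : A) (b : B ⧸ nilradical B),
      algebraMap (B ⧸ nilradical B) R (a • b) = a • algebraMap (B ⧸ nilradical B) R b := by
    intro a b
    obtain ⟨b, rfl⟩ := Ideal.Quotient.mk_surjective b
    have h1 : (a • (Ideal.Quotient.mk (nilradical B) b) : B ⧸ nilradical B) =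
        Ideal.Quotient.mk (nilradical B) (a • b) := rfl
    rw [h1]
    have h2 : ∀ c : B, algebraMap (B ⧸ nilradical B) R (Ideal.Quotient.mk (nilradical B) c) =
        algebraMap B R c := by
      intro c
      rw [IsScalarTower.algebraMap_apply B (B ⧸ nilradical B) R]
      rfl
    rw [h2, h2, Algebra.smul_def, map_mul, ← IsScalarTower.algebraMap_apply A B R, Algebra.smul_def]
  let g : (B ⧸ nilradical B) →ₐ[A] R :=
    { (algebraMap (B ⧸ nilradical B) R) with
      commutes' := fun a => by
        have := htower a 1
        rw [map_one, Algebra.smul_def, mul_one, Algebra.smul_def, mul_one] at this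
        exact this }
  have hgq : ∀ b : B, g (q b) = IsScalarTower.toAlgHom A B R b := by
    intro b
    show algebraMap (B ⧸ nilradical B) R (Ideal.Quotient.mk (nilradical B) b) = algebraMap B R b
    rw [IsScalarTower.algebraMap_apply B (B ⧸ nilradical B) R]
    rfl
  let f₃ : K' ⊗[A] B →ₐ[A] K' ⊗[A] (B ⧸ nilradical B) :=
    Algebra.TensorProduct.map (AlgHom.id A K') q
  let f₄ : K' ⊗[A] (B ⧸ nilradical B) →ₐ[A] K' ⊗[A] R :=
    Algebra.TensorProduct.map (AlgHom.id A K') g
  have hcomp : ∀ t : ↥A' ⊗[A] B,
      f₄ (f₃ (f₁ t)) = Algebra.TensorProduct.map A'.val (IsScalarTower.toAlgHom A B R) t := by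
    intro t
    induction t using TensorProduct.induction_on with
    | zero => simp
    | add a b ha hb => simp only [map_add, ha, hb]
    | tmul a b => simp [f₁, f₃, f₄, hgq]
  -- injectivity of `f₁`
  have hf₁ : Function.Injective f₁ := by
    have h : Function.Injective (A'.val.toLinearMap.rTensor B) :=
      Module.Flat.rTensor_preserves_injective_linearMap _ Subtype.val_injective
    intro a b hab
    apply h
    have e : ∀ t, (A'.val.toLinearMap.rTensor B) t = f₁ t := by
      intro t
      induction t using TensorProduct.induction_on with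
      | zero => simp
      | add a b ha hb => simp only [map_add, ha, hb]
      | tmul a b => simp [f₁]
    rw [e, e, hab]
  -- injectivity of `f₄`
  have hginj : Function.Injective g := IsFractionRing.injective (B ⧸ nilradical B) R
  have hf₄ : Function.Injective f₄ := by
    have h : Function.Injective (g.toLinearMap.lTensor K') :=
      Module.Flat.lTensor_preserves_injective_linearMap _ hginj
    intro a b hab
    apply h
    have e : ∀ t, (g.toLinearMap.lTensor K') t = f₄ t := by
      intro t
      induction t using TensorProduct.induction_on with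
      | zero => simp
      | add a b ha hb => simp only [map_add, ha, hb]
      | tmul a b => simp [f₄]
    rw [e, e, hab]
  -- the kernel of `f₃` is nil
  have hnil : ∀ z : K' ⊗[A] ↥(nilradical B),
      IsNilpotent ((((nilradical B).subtype.restrictScalars A)).lTensor K' z) := by
    intro z
    induction z using TensorProduct.induction_on with
    | zero => simp
    | add a b ha hb =>
      rw [map_add]
      exact (Commute.all _ _).isNilpotent_add ha hb
    | tmul c ν =>
      rw [LinearMap.lTensor_tmul]
      obtain ⟨n, hn⟩ := (show IsNilpotent (ν : B) from ν.2)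
      refine ⟨n, ?_⟩
      show (c ⊗ₜ[A] (ν : B)) ^ n = 0
      rw [Algebra.TensorProduct.tmul_pow, hn, TensorProduct.tmul_zero]
  have hker : ∀ y : K' ⊗[A] B, f₃ y = 0 → IsNilpotent y := by
    intro y hy
    have hex : Function.Exact ((nilradical B).subtype.restrictScalars A) q.toLinearMap := by
      intro b
      constructor
      · intro hb
        exact ⟨⟨b, Ideal.Quotient.eq_zero_iff_mem.1 hb⟩, rfl⟩
      · rintro ⟨c, rfl⟩
        exact Ideal.Quotient.eq_zero_iff_mem.2 c.2
    have hex' := lTensor_exact K' hex (Ideal.Quotient.mk_surjective)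
    have e : ∀ t, (q.toLinearMap.lTensor K') t = f₃ t := by
      intro t
      induction t using TensorProduct.induction_on with
      | zero => simp
      | add a b ha hb => simp only [map_add, ha, hb]
      | tmul a b => simp [f₃]
    have hy' : (q.toLinearMap.lTensor K') y = 0 := by rw [e, hy]
    obtain ⟨z, rfl⟩ := (hex' y).1 hy'
    exact hnil z
  -- conclusion
  rw [← hcomp] at hx
  have h3 : IsNilpotent (f₃ (f₁ x)) := by
    obtain ⟨n, hn⟩ := hx
    refine ⟨n, hf₄ ?_⟩
    rw [map_pow, hn, map_zero]
  obtain ⟨n, hn⟩ := h3
  have h2 : IsNilpotent ((f₁ x) ^ n) := hker _ (by rw [map_pow, hn])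
  obtain ⟨m, hm⟩ := h2
  refine ⟨n * m, hf₁ ?_⟩
  rw [map_pow, pow_mul, hm, map_zero]

end Groth.Agent.S4601
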