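import Groth.Statements.S4603
import Mathlib.AlgebraicGeometry.Properties
-- import your own Groth.Agent.* helpers here

set_option autoImplicit false
universe u
open AlgebraicGeometry CategoryTheory
open EGA41

namespace Groth.Agent.S4603


theorem exists_maximal_generization {X : Type*} [TopologicalSpace X] [QuasiSober X] [T0Space X]
    (x₀ : X) : ∃ x, x ⤳ x₀ ∧ ∀ x', x' ⤳ x → x' = x := by
  have hZ := irreducibleComponent_mem_irreducibleComponents x₀
  obtain ⟨x, hx⟩ := QuasiSober.sober hZ.1 isClosed_irreducibleComponent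
  refine ⟨x, ?_, fun x' hx' => ?_⟩
  · rw [specializes_iff_mem_closure, hx.def]; exact mem_irreducibleComponent
  · have h1 : closure {x} ⊆ closure {x'} :=
      (isClosed_closure.closure_subset_iff).mpr
        (Set.singleton_subset_iff.mpr (specializes_iff_mem_closure.mp hx'))
    have h2 : IsIrreducible (closure {x'}) := isIrreducible_singleton.closure
    have h3 : closure {x'} ⊆ irreducibleComponent x₀ := hZ.2 h2 (hx.def ▸ h1)
    have h4 : closure {x'} = closure {x} := subset_antisymm (hx.def.symm ▸ h3) h1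
    exact (inseparable_iff_closure_eq.mpr h4).eq

open AlgebraicGeometry CategoryTheory in
theorem mem_range_of_maximal {X Y : Scheme.{u}} (f : X ⟶ Y) [QuasiCompact f] [IsDominant f]
    (y : Y) (hy : ∀ y' : Y, y' ⤳ y → y' = y) : y ∈ Set.range f.base := by
  obtain ⟨V, hV, hyV, -⟩ := exists_isAffineOpen_mem_and_subset (x := y) (U := ⊤) trivial
  have hc : IsCompact ((f ⁻¹ᵁ V : X.Opens) : Set X) :=
    QuasiCompact.isCompact_preimage (f := f) _ V.2 hV.isCompact
  obtain ⟨R, g, hg⟩ := isCompact_iff_exists.mp hc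
  have hrange : Set.range (g ≫ f).base ⊆ Set.range hV.fromSpec.base := by
    rw [hV.range_fromSpec]
    rintro _ ⟨q, rfl⟩
    have : g q ∈ ((f ⁻¹ᵁ V : X.Opens) : Set X) := hg ▸ Set.mem_range_self q
    exact this
  let h : Spec R ⟶ Spec Γ(Y, V) := IsOpenImmersion.lift hV.fromSpec (g ≫ f) hrange
  have hfac : h ≫ hV.fromSpec = g ≫ f := IsOpenImmersion.lift_fac _ _ _
  have hinj : Function.Injective hV.fromSpec.base := hV.fromSpec.isOpenEmbedding.injective
  have hh : h = Spec.map (Spec.preimage h) := (Spec.map_preimage h).symm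
  have hdense : DenseRange (PrimeSpectrum.comap (Spec.preimage h).hom) := by
    intro p
    rw [mem_closure_iff]
    intro U hU hpU
    have hopen : IsOpen (hV.fromSpec.base '' U) := hV.fromSpec.isOpenEmbedding.isOpenMap U hU
    have hne : (hV.fromSpec.base '' U).Nonempty := ⟨_, p, hpU, rfl⟩
    obtain ⟨_, hz, x, rfl⟩ := (IsDominant.denseRange (f := f)).inter_open_nonempty _ hopen hne
    obtain ⟨p', hp'U, hp'⟩ := hz
    have hxV : x ∈ ((f ⁻¹ᵁ V : X.Opens) : Set X) := by
      change f x ∈ V
      rw [← hp']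
      have : hV.fromSpec.base p' ∈ Set.range hV.fromSpec.base := Set.mem_range_self p'
      rwa [hV.range_fromSpec] at this
    rw [← hg] at hxV
    obtain ⟨q, rfl⟩ := hxV
    have h5 : hV.fromSpec.base (h.base q) = hV.fromSpec.base p' := by
      rw [hp']
      exact congr(($hfac).base q)
    have h6 : h.base q = p' := hinj h5
    refine ⟨p', hp'U, q, ?_⟩
    rw [← h6]
    conv_rhs => rw [hh]
    rfl
  let p := hV.primeIdealOf ⟨y, hyV⟩
  have hp : hV.fromSpec.base p = y := hV.fromSpec_primeIdealOf ⟨y, hyV⟩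
  have hmin : p.asIdeal ∈ minimalPrimes Γ(Y, V) := by
    refine ⟨⟨p.isPrime, bot_le⟩, fun q hq hqp => ?_⟩
    let q' : PrimeSpectrum Γ(Y, V) := ⟨q, hq.1⟩
    have hsp : q' ⤳ p := (PrimeSpectrum.le_iff_specializes q' p).mp hqp
    have hsp' : hV.fromSpec.base q' ⤳ hV.fromSpec.base p :=
      hsp.map hV.fromSpec.base.hom.continuous
    rw [hp] at hsp'
    have h7 := hy _ hsp'
    rw [← hp] at h7
    have h8 : q' = p := hinj h7
    rw [← h8]
  obtain ⟨q, hq⟩ := (PrimeSpectrum.denseRange_comap_iff_minimalPrimes _).mp hdense _ hmin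
  refine ⟨g q, ?_⟩
  rw [← hp]
  have h9 : h.base q = p := by
    conv_lhs => rw [hh]
    exact hq
  rw [← h9]
  exact congr(($hfac).base q).symm

/-- Let f : X → Y be quasi-compact. The following are equivalent: f is dominant; the fibre of f over
every maximal point of Y (a point with no proper generization, i.e. the generic point of an
irreducible component) is nonempty; every maximal point of Y is the image of a maximal point of X. -/
theorem result {X Y : Scheme.{u}} (f : X ⟶ Y) [QuasiCompact f] :
    [IsDominant f,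
     ∀ y : Y, (∀ y' : Y, y' ⤳ y → y' = y) → y ∈ Set.range f.base,
     ∀ y : Y, (∀ y' : Y, y' ⤳ y → y' = y) → ∃ x : X, (∀ x' : X, x' ⤳ x → x' = x) ∧ f.base x = y].TFAE := by
  tfae_have 1 → 3 := by
    intro hdom y hy
    obtain ⟨x₀, rfl⟩ := mem_range_of_maximal f y hy
    obtain ⟨x, hx, hmax⟩ := exists_maximal_generization x₀
    refine ⟨x, hmax, ?_⟩
    exact hy _ (hx.map f.base.hom.continuous)
  tfae_have 3 → 2 := by
    intro h y hy
    obtain ⟨x, -, rfl⟩ := h y hy
    exact Set.mem_range_self x
  tfae_have 2 → 1 := by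
    intro h
    refine ⟨fun y₀ => ?_⟩
    obtain ⟨y, hy, hmax⟩ := exists_maximal_generization y₀
    exact hy.mem_closed isClosed_closure (subset_closure (h y hmax))
  tfae_finish

end Groth.Agent.S4603
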