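import Groth.Statements.S4604
import Groth.Agent.Lib.Helper14.MonicQuot

set_option autoImplicit false
universe u
open IsLocalRing
open EGA41

namespace Groth.Agent.S4604

/-- (i) and the kernel statement of (ii): let A be a local ring with maximal ideal m of square zero,
F_i(T_i) = T_i^{d_i} + Σ_{k<d_i} c_{ik} T_i^k (1 ≤ i ≤ r) monic of degrees d_i ≥ 2 with non-leading
coefficients in m, and A' = A[T_1, …, T_r]/(F_1, …, F_r). Then A' is local with residue field K, and
the kernel of m → m'/m'² (m' the maximal ideal of A') is the ideal generated by the constant terms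
c_{i0}. -/
theorem result {A : Type u} [CommRing A] [IsLocalRing A]
    (hm : maximalIdeal A ^ 2 = ⊥) {r : ℕ} (d : Fin r → ℕ) (hd : ∀ i, 2 ≤ d i) (c : Fin r → ℕ → A)
    (hc : ∀ i k, c i k ∈ maximalIdeal A) :
    let F : Fin r → MvPolynomial (Fin r) A := fun i =>
      MvPolynomial.X i ^ d i + (Finset.range (d i)).sum fun k => MvPolynomial.C (c i k) * MvPolynomial.X i ^ k
    ∃ _ : IsLocalRing (MvPolynomial (Fin r) A ⧸ Ideal.span (Set.range F)),
      Function.Surjective ((Ideal.Quotient.mk (maximalIdeal (MvPolynomial (Fin r) A ⧸ Ideal.span (Set.range F)))).comp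
        (algebraMap A (MvPolynomial (Fin r) A ⧸ Ideal.span (Set.range F)))) ∧
      maximalIdeal A ⊓ Ideal.comap (algebraMap A (MvPolynomial (Fin r) A ⧸ Ideal.span (Set.range F)))
          (maximalIdeal (MvPolynomial (Fin r) A ⧸ Ideal.span (Set.range F)) ^ 2) =
        Ideal.span (Set.range fun i => c i 0) := by
  intro F
  have hd1 : ∀ i, 1 ≤ d i := fun i => le_trans (by norm_num) (hd i)
  change ∃ _ : IsLocalRing (Groth.Agent.Lib.Helper14.MonicQuot.Q d c),
    Function.Surjective ((Ideal.Quotient.mk (maximalIdeal (Groth.Agent.Lib.Helper14.MonicQuot.Q d c))).comp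
        (algebraMap A (Groth.Agent.Lib.Helper14.MonicQuot.Q d c))) ∧
      maximalIdeal A ⊓ Ideal.comap (algebraMap A (Groth.Agent.Lib.Helper14.MonicQuot.Q d c))
          (maximalIdeal (Groth.Agent.Lib.Helper14.MonicQuot.Q d c) ^ 2) =
        Ideal.span (Set.range fun i => c i 0)
  have hloc := Groth.Agent.Lib.Helper14.MonicQuot.isLocalRing_Q hd1 hm hc
  refine ⟨hloc, ?_, ?_⟩
  · intro y
    obtain ⟨x, rfl⟩ := Ideal.Quotient.mk_surjective y
    obtain ⟨P, rfl⟩ := Ideal.Quotient.mk_surjective x
    refine ⟨MvPolynomial.constantCoeff P, ?_⟩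
    simp only [RingHom.comp_apply]
    rw [Ideal.Quotient.eq, Groth.Agent.Lib.Helper14.MonicQuot.mem_maximalIdeal_iff hd1 hm hc,
      map_sub, Groth.Agent.Lib.Helper14.MonicQuot.ev0_algebraMap,
      Groth.Agent.Lib.Helper14.MonicQuot.ev0_mk, sub_self]
  · apply le_antisymm
    · rintro a ⟨ham, ha2⟩
      set J : Ideal A := Ideal.span (Set.range fun i => c i 0) with hJ
      have hJc : ∀ i, c i 0 ∈ J := fun i => Ideal.subset_span ⟨i, rfl⟩
      have hkey : ∀ y ∈ maximalIdeal (Groth.Agent.Lib.Helper14.MonicQuot.Q d c) ^ 2,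
          Groth.Agent.Lib.Helper14.MonicQuot.ev0 J hd1 hJc y = 0 := by
        intro y hy
        rw [sq] at hy
        refine Submodule.mul_induction_on hy ?_ ?_
        · intro x hx z hz
          rw [Groth.Agent.Lib.Helper14.MonicQuot.mem_maximalIdeal_iff hd1 hm hc] at hx hz
          obtain ⟨P, rfl⟩ := Ideal.Quotient.mk_surjective x
          obtain ⟨P', rfl⟩ := Ideal.Quotient.mk_surjective z
          rw [Groth.Agent.Lib.Helper14.MonicQuot.ev0_mk, Ideal.Quotient.eq_zero_iff_mem] at hx hz
          rw [map_mul, Groth.Agent.Lib.Helper14.MonicQuot.ev0_mk,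
            Groth.Agent.Lib.Helper14.MonicQuot.ev0_mk, ← map_mul]
          have : MvPolynomial.constantCoeff P * MvPolynomial.constantCoeff P' ∈
              maximalIdeal A ^ 2 := by
            rw [sq]; exact Ideal.mul_mem_mul hx hz
          rw [hm] at this
          rw [(Submodule.mem_bot A).1 this, map_zero]
        · intro x z hx hz
          rw [map_add, hx, hz, add_zero]
      have h1 := hkey _ ha2
      rw [Groth.Agent.Lib.Helper14.MonicQuot.ev0_algebraMap, Ideal.Quotient.eq_zero_iff_mem] at h1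
      exact h1
    · rw [Ideal.span_le]
      rintro _ ⟨i, rfl⟩
      refine ⟨hc i 0, ?_⟩
      change algebraMap A (Groth.Agent.Lib.Helper14.MonicQuot.Q d c) (c i 0) ∈
        maximalIdeal (Groth.Agent.Lib.Helper14.MonicQuot.Q d c) ^ 2
      set x := Ideal.Quotient.mk (Ideal.span (Set.range (Groth.Agent.Lib.Helper14.MonicQuot.F d c)))
        (MvPolynomial.X i) with hx
      have hxm : x ∈ maximalIdeal (Groth.Agent.Lib.Helper14.MonicQuot.Q d c) := by
        rw [Groth.Agent.Lib.Helper14.MonicQuot.mem_maximalIdeal_iff hd1 hm hc, hx,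
          Groth.Agent.Lib.Helper14.MonicQuot.ev0_mk, MvPolynomial.constantCoeff_X, map_zero]
      have hCm : ∀ k, Ideal.Quotient.mk (Ideal.span (Set.range (Groth.Agent.Lib.Helper14.MonicQuot.F d c)))
          (MvPolynomial.C (c i k)) ∈ maximalIdeal (Groth.Agent.Lib.Helper14.MonicQuot.Q d c) := by
        intro k
        rw [Groth.Agent.Lib.Helper14.MonicQuot.mem_maximalIdeal_iff hd1 hm hc,
          Groth.Agent.Lib.Helper14.MonicQuot.ev0_mk, MvPolynomial.constantCoeff_C,
          Ideal.Quotient.eq_zero_iff_mem]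
        exact hc i k
      have hrel := Groth.Agent.Lib.Helper14.MonicQuot.mk_X_pow (d := d) (maximalIdeal A) hm hc i
      rw [← hx] at hrel
      obtain ⟨n, hn⟩ : ∃ n, d i = n + 1 := ⟨d i - 1, (Nat.sub_add_cancel (hd1 i)).symm⟩
      rw [hn, Finset.sum_range_succ', pow_zero, mul_one] at hrel
      have h0 : algebraMap A (Groth.Agent.Lib.Helper14.MonicQuot.Q d c) (c i 0) =
          - x ^ (n + 1) - (Finset.range n).sum fun k =>
            Ideal.Quotient.mk (Ideal.span (Set.range (Groth.Agent.Lib.Helper14.MonicQuot.F d c)))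
              (MvPolynomial.C (c i (k + 1))) * x ^ (k + 1) := by
        have : algebraMap A (Groth.Agent.Lib.Helper14.MonicQuot.Q d c) (c i 0) =
          Ideal.Quotient.mk _ (MvPolynomial.C (c i 0)) := rfl
        rw [this, hrel]
        ring
      rw [h0]
      apply Ideal.sub_mem
      · apply (Ideal.neg_mem_iff _).2
        have h2 : 2 ≤ n + 1 := hn ▸ hd i
        exact Ideal.pow_le_pow_right h2 (Ideal.pow_mem_pow hxm (n + 1))
      · apply Ideal.sum_mem
        intro k _
        rw [sq]
        exact Ideal.mul_mem_mul (hCm _) (Ideal.pow_mem_of_mem _ hxm _ (Nat.succ_pos k))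

end Groth.Agent.S4604
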