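import Groth.Statements.S4605
import Groth.Agent.Lib.Helper13.Eisen
open Groth.Agent.Lib.Helper13.Eisen IsLocalRing MvPolynomial

set_option autoImplicit false
universe u
open IsLocalRing
open EGA41

namespace Groth.Agent.S4605

/-- Let A be a local ring with maximal ideal m of square zero and residue field K of characteristic p >
0, F_i(T_i) = T_i^p + p Σ_{k=1}^{p-1} c_{ik} T_i^{p-k} − f_i (i in a finite index set) with c_{ik},
f_i ∈ A, and suppose the residues of the f_i in K are p-independent over K^p. Then A' = A[T_i]/(F_i)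
is local with maximal ideal m A'. (The identification of the residue field with K(a_i^{1/p}) is not
restated.) -/
theorem result {A : Type u} [CommRing A]
    [IsLocalRing A] (hm : maximalIdeal A ^ 2 = ⊥) (p : ℕ) [Fact p.Prime] [CharP (ResidueField A) p]
    {ι : Type u} [Finite ι] (c : ι → Fin p → A) (f : ι → A)
    (hind : LinearIndependent (↥(frobenius (ResidueField A) p).fieldRange)
      (fun e : {e : ι →₀ ℕ // ∀ i, e i < p} => EGA41.pMonomial (fun i => residue A (f i)) e.1)) :
    let F : ι → MvPolynomial ι A := fun i =>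
      MvPolynomial.X i ^ p + (p : MvPolynomial ι A) * (Finset.univ.sum fun j : Fin p =>
        if (j : ℕ) = 0 then 0 else MvPolynomial.C (c i j) * MvPolynomial.X i ^ (p - (j : ℕ))) - MvPolynomial.C (f i)
    ∃ _ : IsLocalRing (MvPolynomial ι A ⧸ Ideal.span (Set.range F)),
      maximalIdeal (MvPolynomial ι A ⧸ Ideal.span (Set.range F)) =
        (maximalIdeal A).map (algebraMap A (MvPolynomial ι A ⧸ Ideal.span (Set.range F))) := by
  intro F
  classical
  let a : ι → ResidueField A := fun i => residue A (f i)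
  let IK : Ideal (MvPolynomial ι (ResidueField A)) :=
    Ideal.span (Set.range fun i => (X i : MvPolynomial ι (ResidueField A)) ^ p - C (a i))
  have hIK : IK.IsMaximal := isMaximal_span_X_pow_sub_C p a (by
    unfold EGA41.pMonomial at hind
    exact hind)
  letI : Field (MvPolynomial ι (ResidueField A) ⧸ IK) := Ideal.Quotient.field IK
  let ρ : MvPolynomial ι A →+* MvPolynomial ι (ResidueField A) := MvPolynomial.map (residue A)
  have hρsurj : Function.Surjective ρ := MvPolynomial.map_surjective _ residue_surjective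
  have hp0 : ((p : ℕ) : MvPolynomial ι (ResidueField A)) = 0 := by
    rw [← map_natCast (C : ResidueField A →+* MvPolynomial ι (ResidueField A)),
      CharP.cast_eq_zero, map_zero]
  have hρF : ∀ i, ρ (F i) = X i ^ p - C (a i) := by
    intro i
    simp only [F, ρ, map_sub, map_add, map_pow, map_mul, map_natCast, MvPolynomial.map_X,
      MvPolynomial.map_C]
    rw [hp0, zero_mul, add_zero]
  have hmapI : Ideal.map ρ (Ideal.span (Set.range F)) = IK := by
    rw [Ideal.map_span]
    congr 1
    ext y
    constructor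
    · rintro ⟨_, ⟨i, rfl⟩, rfl⟩
      exact ⟨i, (hρF i).symm⟩
    · rintro ⟨i, rfl⟩
      exact ⟨F i, ⟨i, rfl⟩, hρF i⟩
  let Φ₀ : MvPolynomial ι A →+* MvPolynomial ι (ResidueField A) ⧸ IK :=
    (Ideal.Quotient.mk IK).comp ρ
  have hΦ₀ : ∀ g ∈ Ideal.span (Set.range F), Φ₀ g = 0 := by
    intro g hg
    show Ideal.Quotient.mk IK (ρ g) = 0
    rw [Ideal.Quotient.eq_zero_iff_mem, ← hmapI]
    exact Ideal.mem_map_of_mem ρ hg
  let Φ : MvPolynomial ι A ⧸ Ideal.span (Set.range F) →+*
      MvPolynomial ι (ResidueField A) ⧸ IK := Ideal.Quotient.lift _ Φ₀ hΦ₀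
  have hΦsurj : Function.Surjective Φ := by
    intro y
    obtain ⟨y', rfl⟩ := Ideal.Quotient.mk_surjective y
    obtain ⟨g, rfl⟩ := hρsurj y'
    exact ⟨Ideal.Quotient.mk _ g, rfl⟩
  set J : Ideal (MvPolynomial ι A ⧸ Ideal.span (Set.range F)) :=
    (maximalIdeal A).map (algebraMap A (MvPolynomial ι A ⧸ Ideal.span (Set.range F))) with hJ
  have hker : RingHom.ker Φ = J := by
    apply le_antisymm
    · intro y hy
      obtain ⟨g, rfl⟩ := Ideal.Quotient.mk_surjective y
      have h1 : ρ g ∈ IK := by
        have : Ideal.Quotient.mk IK (ρ g) = 0 := hy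
        exact Ideal.Quotient.eq_zero_iff_mem.mp this
      rw [← hmapI, Ideal.mem_map_iff_of_surjective ρ hρsurj] at h1
      obtain ⟨h, hh, hgh⟩ := h1
      have h2 : g - h ∈ RingHom.ker ρ := by
        rw [RingHom.mem_ker, map_sub, hgh, sub_self]
      have h3 : RingHom.ker ρ = (maximalIdeal A).map (C : A →+* MvPolynomial ι A) := by
        show RingHom.ker (MvPolynomial.map (residue A)) = _
        rw [MvPolynomial.ker_map, ker_residue]
      rw [h3] at h2
      have h4 : Ideal.Quotient.mk (Ideal.span (Set.range F)) g =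
          Ideal.Quotient.mk (Ideal.span (Set.range F)) (g - h) := by
        rw [map_sub, Ideal.Quotient.eq_zero_iff_mem.mpr hh, sub_zero]
      rw [h4, hJ]
      have h5 := Ideal.mem_map_of_mem (Ideal.Quotient.mk (Ideal.span (Set.range F))) h2
      rw [Ideal.map_map] at h5
      exact h5
    · rw [hJ, Ideal.map_le_iff_le_comap]
      intro x hx
      rw [Ideal.mem_comap, RingHom.mem_ker]
      show Ideal.Quotient.mk IK (ρ (C x)) = 0
      simp only [ρ, MvPolynomial.map_C]
      rw [(residue_eq_zero_iff x).mpr hx, map_zero, map_zero]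
  have hJmax : J.IsMaximal := by
    rw [← hker]
    exact RingHom.ker_isMaximal_of_surjective Φ hΦsurj
  have hJsq : J ^ 2 = ⊥ := by
    rw [hJ, ← Ideal.map_pow, hm, Ideal.map_bot]
  have huniq : ∀ M : Ideal (MvPolynomial ι A ⧸ Ideal.span (Set.range F)), M.IsMaximal → M = J := by
    intro M hM
    have hle : J ≤ M := by
      intro x hx
      have : x ^ 2 ∈ M := by
        have h1 : x ^ 2 ∈ J ^ 2 := Ideal.pow_mem_pow hx 2
        rw [hJsq, Ideal.mem_bot] at h1
        rw [h1]
        exact M.zero_mem
      exact hM.isPrime.mem_of_pow_mem 2 this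
    exact (hJmax.eq_of_le hM.ne_top hle).symm
  have hloc : IsLocalRing (MvPolynomial ι A ⧸ Ideal.span (Set.range F)) :=
    IsLocalRing.of_unique_max_ideal ⟨J, hJmax, huniq⟩
  exact ⟨hloc, (IsLocalRing.eq_maximalIdeal hJmax).symm⟩

end Groth.Agent.S4605
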