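import Groth.Statements.S4607
import Mathlib.RingTheory.Spectrum.Prime.RingHom
import Mathlib.RingTheory.Flat.Basic
import Mathlib.RingTheory.Flat.Localization

set_option autoImplicit false
universe u
open TensorProduct
open EGA41

namespace Groth.Agent.S4607

/-- First assertion, case of two factors: for A-algebras A' and A'' the image of Spec(A' ⊗_A A'') in
Spec A is the intersection of the images of Spec A' and Spec A''. -/
theorem result {A A' A'' : Type u} [CommRing A] [CommRing A'] [CommRing A'']
    [Algebra A A'] [Algebra A A''] :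
    Set.range (PrimeSpectrum.comap (algebraMap A (A' ⊗[A] A''))) =
      Set.range (PrimeSpectrum.comap (algebraMap A A')) ∩ Set.range (PrimeSpectrum.comap (algebraMap A A'')) := by
  apply Set.Subset.antisymm
  · rintro _ ⟨P, rfl⟩
    have h1 : (Algebra.TensorProduct.includeLeft (R := A) (S := A) (A := A') (B := A'')).toRingHom.comp
        (algebraMap A A') = algebraMap A (A' ⊗[A] A'') := by
      ext a
      simp [Algebra.TensorProduct.algebraMap_apply]
    have h2 : (Algebra.TensorProduct.includeRight (R := A) (A := A') (B := A'')).toRingHom.comp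
        (algebraMap A A'') = algebraMap A (A' ⊗[A] A'') := by
      ext a
      simp [Algebra.TensorProduct.algebraMap_apply, Algebra.algebraMap_eq_smul_one,
        TensorProduct.smul_tmul]
    constructor
    · refine ⟨PrimeSpectrum.comap (Algebra.TensorProduct.includeLeft (R := A) (S := A) (A := A') (B := A'')).toRingHom P, ?_⟩
      rw [← PrimeSpectrum.comap_comp_apply, h1]
    · refine ⟨PrimeSpectrum.comap (Algebra.TensorProduct.includeRight (R := A) (A := A') (B := A'')).toRingHom P, ?_⟩
      rw [← PrimeSpectrum.comap_comp_apply, h2]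
  · rintro p ⟨hp', hp''⟩
    rw [← PrimeSpectrum.nontrivial_iff_mem_rangeComap] at hp' hp'' ⊢
    let k := p.asIdeal.ResidueField
    let T₁ := k ⊗[A] A'
    let T₂ := k ⊗[A] A''
    let T := T₁ ⊗[k] T₂
    have hT : Nontrivial T :=
      Algebra.TensorProduct.nontrivial_of_algebraMap_injective_of_flat_left k T₁ T₂
        (algebraMap k T₂).injective
    let f₁ : k →ₐ[A] T := (Algebra.ofId k T).restrictScalars A
    let a₁ : A' →ₐ[A] T :=
      ((Algebra.TensorProduct.includeLeft : T₁ →ₐ[k] T).restrictScalars A).comp
        (Algebra.TensorProduct.includeRight : A' →ₐ[A] T₁)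
    let a₂ : A'' →ₐ[A] T :=
      ((Algebra.TensorProduct.includeRight : T₂ →ₐ[k] T).restrictScalars A).comp
        (Algebra.TensorProduct.includeRight : A'' →ₐ[A] T₂)
    let f₂ : A' ⊗[A] A'' →ₐ[A] T := Algebra.TensorProduct.lift a₁ a₂ (fun _ _ => Commute.all _ _)
    let g : k ⊗[A] (A' ⊗[A] A'') →ₐ[A] T :=
      Algebra.TensorProduct.lift f₁ f₂ (fun _ _ => Commute.all _ _)
    exact g.toRingHom.domain_nontrivial

end Groth.Agent.S4607
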