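import Groth.Statements.S4608
import Groth.Agent.Lib.Helper21.CoprodTop

set_option autoImplicit false
universe u
open AlgebraicGeometry CategoryTheory CategoryTheory.Limits
open EGA41

namespace Groth.Agent.S4608

/-- A morphism from a disjoint union X' ⨿ X'' → Y is quasi-compact if and only if its two components
are. -/
theorem result {X' X'' Y : Scheme.{u}} (f' : X' ⟶ Y) (f'' : X'' ⟶ Y) :
    QuasiCompact (coprod.desc f' f'') ↔ QuasiCompact f' ∧ QuasiCompact f'' := by
  have hl : (coprod.inl : X' ⟶ X' ⨿ X'') ≫ coprod.desc f' f'' = f' := coprod.inl_desc _ _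
  have hr : (coprod.inr : X'' ⟶ X' ⨿ X'') ≫ coprod.desc f' f'' = f'' := coprod.inr_desc _ _
  have hpl : ∀ U : Set Y, (coprod.inl : X' ⟶ X' ⨿ X'') ⁻¹' ((coprod.desc f' f'') ⁻¹' U) = f' ⁻¹' U := by
    intro U
    rw [← Set.preimage_comp]
    have : ((coprod.desc f' f'') ∘ (coprod.inl : X' ⟶ X' ⨿ X'') : X' → Y) = f' := by
      funext x
      exact (Scheme.Hom.comp_apply _ _ x).symm.trans (by rw [hl])
    rw [this]
  have hpr : ∀ U : Set Y, (coprod.inr : X'' ⟶ X' ⨿ X'') ⁻¹' ((coprod.desc f' f'') ⁻¹' U) = f'' ⁻¹' U := by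
    intro U
    rw [← Set.preimage_comp]
    have : ((coprod.desc f' f'') ∘ (coprod.inr : X'' ⟶ X' ⨿ X'') : X'' → Y) = f'' := by
      funext x
      exact (Scheme.Hom.comp_apply _ _ x).symm.trans (by rw [hr])
    rw [this]
  constructor
  · intro h
    refine ⟨⟨fun U hU hU' => ?_⟩, ⟨fun U hU hU' => ?_⟩⟩
    · have := ((Groth.Agent.Lib.Helper21.isCompact_iff_preimage X' X'' _).1
        (h.isCompact_preimage U hU hU')).1
      rwa [hpl] at this
    · have := ((Groth.Agent.Lib.Helper21.isCompact_iff_preimage X' X'' _).1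
        (h.isCompact_preimage U hU hU')).2
      rwa [hpr] at this
  · rintro ⟨h1, h2⟩
    refine ⟨fun U hU hU' => ?_⟩
    rw [Groth.Agent.Lib.Helper21.isCompact_iff_preimage, hpl, hpr]
    exact ⟨h1.isCompact_preimage U hU hU', h2.isCompact_preimage U hU hU'⟩

end Groth.Agent.S4608
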