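import Groth.Statements.S4609
import Groth.Agent.Lib.Helper21.CoprodTop

set_option autoImplicit false
universe u
open AlgebraicGeometry CategoryTheory CategoryTheory.Limits
open EGA41

namespace Groth.Agent.S4609

set_option backward.isDefEq.respectTransparency.types false in
/-- A morphism from a disjoint union X' ⨿ X'' → Y is quasi-separated if and only if its two components
are. -/
theorem result {X' X'' Y : Scheme.{u}} (f' : X' ⟶ Y) (f'' : X'' ⟶ Y) :
    QuasiSeparated (coprod.desc f' f'') ↔ QuasiSeparated f' ∧ QuasiSeparated f'' := by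
  have hl : (coprod.inl : X' ⟶ X' ⨿ X'') ≫ coprod.desc f' f'' = f' := coprod.inl_desc _ _
  have hr : (coprod.inr : X'' ⟶ X' ⨿ X'') ≫ coprod.desc f' f'' = f'' := coprod.inr_desc _ _
  have hpl : ∀ U : Set Y, (coprod.inl : X' ⟶ X' ⨿ X'') ⁻¹' ((coprod.desc f' f'') ⁻¹' U) = f' ⁻¹' U := by
    intro U
    rw [← Set.preimage_comp]
    have : ((coprod.desc f' f'') ∘ (coprod.inl : X' ⟶ X' ⨿ X'') : X' → Y) = f' := by
      funext x
      exact (Scheme.Hom.comp_apply _ _ x).symm.trans (by rw [hl])
    rw [this]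
  have hpr : ∀ U : Set Y, (coprod.inr : X'' ⟶ X' ⨿ X'') ⁻¹' ((coprod.desc f' f'') ⁻¹' U) = f'' ⁻¹' U := by
    intro U
    rw [← Set.preimage_comp]
    have : ((coprod.desc f' f'') ∘ (coprod.inr : X'' ⟶ X' ⨿ X'') : X'' → Y) = f'' := by
      funext x
      exact (Scheme.Hom.comp_apply _ _ x).symm.trans (by rw [hr])
    rw [this]
  constructor
  · intro h
    constructor
    · have : QuasiSeparated ((coprod.inl : X' ⟶ X' ⨿ X'') ≫ coprod.desc f' f'') := inferInstance
      rwa [hl] at this
    · have : QuasiSeparated ((coprod.inr : X'' ⟶ X' ⨿ X'') ≫ coprod.desc f' f'') := inferInstance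
      rwa [hr] at this
  · rintro ⟨h1, h2⟩
    refine HasAffineProperty.of_iSup_eq_top (P := @QuasiSeparated)
      (Q := fun X _ _ _ ↦ QuasiSeparatedSpace X) (fun U : Y.affineOpens => U)
      (iSup_affineOpens_eq_top Y) (fun U => ?_)
    refine (isQuasiSeparated_iff_quasiSeparatedSpace _ ((coprod.desc f' f'') ⁻¹ᵁ U.1).2).mp ?_
    intro V W hV hVo hVc hW hWo hWc
    rw [Groth.Agent.Lib.Helper21.isCompact_iff_preimage]
    constructor
    · rw [Set.preimage_inter]
      refine (Scheme.Hom.isQuasiSeparated_preimage (f := f') U.2.isQuasiSeparated) _ _ ?_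
        (hVo.preimage (coprod.inl : X' ⟶ X' ⨿ X'').continuous)
        ((Groth.Agent.Lib.Helper21.isCompact_iff_preimage X' X'' V).1 hVc).1 ?_
        (hWo.preimage (coprod.inl : X' ⟶ X' ⨿ X'').continuous)
        ((Groth.Agent.Lib.Helper21.isCompact_iff_preimage X' X'' W).1 hWc).1
      · intro x hx
        have := hV hx
        have h3 : x ∈ (coprod.inl : X' ⟶ X' ⨿ X'') ⁻¹' ((coprod.desc f' f'') ⁻¹' (U.1 : Set Y)) := this
        rw [hpl] at h3
        exact h3
      · intro x hx
        have := hW hx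
        have h3 : x ∈ (coprod.inl : X' ⟶ X' ⨿ X'') ⁻¹' ((coprod.desc f' f'') ⁻¹' (U.1 : Set Y)) := this
        rw [hpl] at h3
        exact h3
    · rw [Set.preimage_inter]
      refine (Scheme.Hom.isQuasiSeparated_preimage (f := f'') U.2.isQuasiSeparated) _ _ ?_
        (hVo.preimage (coprod.inr : X'' ⟶ X' ⨿ X'').continuous)
        ((Groth.Agent.Lib.Helper21.isCompact_iff_preimage X' X'' V).1 hVc).2 ?_
        (hWo.preimage (coprod.inr : X'' ⟶ X' ⨿ X'').continuous)
        ((Groth.Agent.Lib.Helper21.isCompact_iff_preimage X' X'' W).1 hWc).2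
      · intro x hx
        have := hV hx
        have h3 : x ∈ (coprod.inr : X'' ⟶ X' ⨿ X'') ⁻¹' ((coprod.desc f' f'') ⁻¹' (U.1 : Set Y)) := this
        rw [hpr] at h3
        exact h3
      · intro x hx
        have := hW hx
        have h3 : x ∈ (coprod.inr : X'' ⟶ X' ⨿ X'') ⁻¹' ((coprod.desc f' f'') ⁻¹' (U.1 : Set Y)) := this
        rw [hpr] at h3
        exact h3

end Groth.Agent.S4609
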