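import Groth.Statements.S4610
import Mathlib

set_option autoImplicit false
universe u
open EGA41

namespace Groth.Agent.S4610

/-- the ideal `(F_1(T_1), …, F_r(T_r))`. -/
private noncomputable abbrev J {A : Type u} [CommRing A] (r : ℕ) (F : Fin r → Polynomial A) :
    Ideal (MvPolynomial (Fin r) A) :=
  Ideal.span (Set.range fun i =>
    Polynomial.aeval (MvPolynomial.X i : MvPolynomial (Fin r) A) (F i))

private lemma gen_mem {A : Type u} [CommRing A] (r : ℕ) (F : Fin r → Polynomial A) (i : Fin r) :
    Polynomial.aeval (MvPolynomial.X i : MvPolynomial (Fin r) A) (F i) ∈ J r F :=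
  Ideal.subset_span ⟨i, rfl⟩

section step

variable {A : Type u} [CommRing A] (r : ℕ) (F : Fin (r + 1) → Polynomial A)

private noncomputable abbrev A' : Type u := MvPolynomial (Fin r) A ⧸ J r (fun i => F i.succ)

private noncomputable abbrev fbar : Polynomial (A' r F) := (F 0).map (algebraMap A (A' r F))

/-- the inclusion `A' → S/I`. -/
private noncomputable def iota :
    A' r F →+* MvPolynomial (Fin (r + 1)) A ⧸ J (r + 1) F :=
  Ideal.Quotient.lift (J r (fun i => F i.succ))
    ((Ideal.Quotient.mk (J (r + 1) F)).comp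
      (MvPolynomial.rename (Fin.succ : Fin r → Fin (r + 1)) :
        MvPolynomial (Fin r) A →ₐ[A] MvPolynomial (Fin (r + 1)) A).toRingHom) (by
    intro a ha
    have hle : J r (fun i => F i.succ) ≤ Ideal.comap ((Ideal.Quotient.mk (J (r + 1) F)).comp
      (MvPolynomial.rename (Fin.succ : Fin r → Fin (r + 1)) :
        MvPolynomial (Fin r) A →ₐ[A] MvPolynomial (Fin (r + 1)) A).toRingHom) ⊥ := by
      refine Ideal.span_le.2 ?_
      rintro _ ⟨i, rfl⟩
      simp only [SetLike.mem_coe, Ideal.mem_comap, Ideal.mem_bot, RingHom.comp_apply]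
      rw [Ideal.Quotient.eq_zero_iff_mem]
      change (MvPolynomial.rename Fin.succ) (Polynomial.aeval (MvPolynomial.X i) (F i.succ)) ∈ _
      rw [← Polynomial.aeval_algHom_apply, MvPolynomial.rename_X]
      exact gen_mem (r + 1) F i.succ
    simpa using hle ha)

private lemma iota_mk (p : MvPolynomial (Fin r) A) :
    iota r F (Ideal.Quotient.mk _ p) =
      Ideal.Quotient.mk _ (MvPolynomial.rename (Fin.succ : Fin r → Fin (r + 1)) p) := rfl

private lemma iota_comp_algebraMap :
    (iota r F).comp (algebraMap A (A' r F)) =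
      algebraMap A (MvPolynomial (Fin (r + 1)) A ⧸ J (r + 1) F) := by
  ext a
  change iota r F (Ideal.Quotient.mk _ (MvPolynomial.C a)) = Ideal.Quotient.mk _ (MvPolynomial.C a)
  rw [iota_mk, MvPolynomial.rename_C]

/-- backward map -/
private noncomputable def psi :
    AdjoinRoot (fbar r F) →+* MvPolynomial (Fin (r + 1)) A ⧸ J (r + 1) F :=
  AdjoinRoot.lift (iota r F) (Ideal.Quotient.mk _ (MvPolynomial.X 0)) (by
    rw [Polynomial.eval₂_map, iota_comp_algebraMap]
    change Polynomial.aeval (Ideal.Quotient.mk (J (r + 1) F) (MvPolynomial.X 0)) (F 0) = 0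
    have : Polynomial.aeval ((Ideal.Quotient.mkₐ A (J (r + 1) F)) (MvPolynomial.X 0)) (F 0) =
        (Ideal.Quotient.mkₐ A (J (r + 1) F)) (Polynomial.aeval (MvPolynomial.X 0) (F 0)) :=
      Polynomial.aeval_algHom_apply _ _ _
    change Polynomial.aeval ((Ideal.Quotient.mkₐ A (J (r + 1) F)) (MvPolynomial.X 0)) (F 0) = 0
    rw [this]
    exact Ideal.Quotient.eq_zero_iff_mem.2 (gen_mem (r + 1) F 0))

/-- the images of the variables -/
private noncomputable def v : Fin (r + 1) → AdjoinRoot (fbar r F) :=
  Fin.cons (AdjoinRoot.root (fbar r F))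
    (fun i => AdjoinRoot.of (fbar r F) (Ideal.Quotient.mk _ (MvPolynomial.X i)))

/-- forward map -/
private noncomputable def phi :
    MvPolynomial (Fin (r + 1)) A ⧸ J (r + 1) F →ₐ[A] AdjoinRoot (fbar r F) :=
  Ideal.Quotient.liftₐ (J (r + 1) F) (MvPolynomial.aeval (v r F)) (by
    intro a ha
    have hle : J (r + 1) F ≤ RingHom.ker (MvPolynomial.aeval (R := A) (v r F)) := by
      refine Ideal.span_le.2 ?_
      rintro _ ⟨i, rfl⟩
      simp only [SetLike.mem_coe, RingHom.mem_ker]
      rw [← Polynomial.aeval_algHom_apply, MvPolynomial.aeval_X]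
      refine Fin.cases ?_ (fun i => ?_) i
      · change Polynomial.aeval (AdjoinRoot.root (fbar r F)) (F 0) = 0
        rw [AdjoinRoot.aeval_eq_of_algebra]
        exact AdjoinRoot.mk_self
      · change Polynomial.aeval (AdjoinRoot.of (fbar r F)
          (Ideal.Quotient.mk _ (MvPolynomial.X i))) (F i.succ) = 0
        have h1 : Polynomial.aeval ((IsScalarTower.toAlgHom A (A' r F) (AdjoinRoot (fbar r F)))
            ((Ideal.Quotient.mkₐ A (J r (fun i => F i.succ))) (MvPolynomial.X i))) (F i.succ) =
          (IsScalarTower.toAlgHom A (A' r F) (AdjoinRoot (fbar r F)))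
            ((Ideal.Quotient.mkₐ A (J r (fun i => F i.succ)))
              (Polynomial.aeval (MvPolynomial.X i) (F i.succ))) := by
          rw [← Polynomial.aeval_algHom_apply, ← Polynomial.aeval_algHom_apply]
        have h2 : (Ideal.Quotient.mkₐ A (J r (fun i => F i.succ)))
              (Polynomial.aeval (MvPolynomial.X i) (F i.succ)) = 0 :=
          Ideal.Quotient.eq_zero_iff_mem.2 (gen_mem r (fun i => F i.succ) i)
        rw [h2, map_zero] at h1
        exact h1
    exact hle ha)

private lemma phi_mk (p : MvPolynomial (Fin (r + 1)) A) :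
    phi r F (Ideal.Quotient.mk _ p) = MvPolynomial.aeval (v r F) p := rfl

private lemma phi_psi : (phi r F).toRingHom.comp (psi r F) = RingHom.id _ := by
  refine AdjoinRoot.ringHom_ext ?_ ?_
  · refine Ideal.Quotient.ringHom_ext ?_
    refine MvPolynomial.ringHom_ext ?_ ?_
    · intro a
      simp only [RingHom.comp_apply, RingHom.id_apply]
      change (phi r F) (psi r F (AdjoinRoot.of _ (Ideal.Quotient.mk _ (MvPolynomial.C a)))) = _
      rw [psi, AdjoinRoot.lift_of, iota_mk, MvPolynomial.rename_C, phi_mk, MvPolynomial.aeval_C]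
      rfl
    · intro i
      simp only [RingHom.comp_apply, RingHom.id_apply]
      change (phi r F) (psi r F (AdjoinRoot.of _ (Ideal.Quotient.mk _ (MvPolynomial.X i)))) = _
      rw [psi, AdjoinRoot.lift_of, iota_mk, MvPolynomial.rename_X, phi_mk, MvPolynomial.aeval_X]
      simp [v]
  · simp only [RingHom.comp_apply, RingHom.id_apply]
    change (phi r F) (psi r F (AdjoinRoot.root _)) = _
    rw [psi, AdjoinRoot.lift_root, phi_mk, MvPolynomial.aeval_X]
    simp [v]

private lemma psi_phi : (psi r F).comp (phi r F).toRingHom = RingHom.id _ := by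
  refine Ideal.Quotient.ringHom_ext ?_
  refine MvPolynomial.ringHom_ext ?_ ?_
  · intro a
    simp only [RingHom.comp_apply, RingHom.id_apply]
    change psi r F ((phi r F) (Ideal.Quotient.mk _ (MvPolynomial.C a))) = _
    rw [phi_mk, MvPolynomial.aeval_C]
    change psi r F (AdjoinRoot.of _ (Ideal.Quotient.mk _ (MvPolynomial.C a))) = _
    rw [psi, AdjoinRoot.lift_of, iota_mk, MvPolynomial.rename_C]
  · intro i
    simp only [RingHom.comp_apply, RingHom.id_apply]
    change psi r F ((phi r F) (Ideal.Quotient.mk _ (MvPolynomial.X i))) = _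
    rw [phi_mk, MvPolynomial.aeval_X]
    refine Fin.cases ?_ (fun i => ?_) i
    · change psi r F (AdjoinRoot.root _) = _
      rw [psi, AdjoinRoot.lift_root]
    · change psi r F (AdjoinRoot.of _ (Ideal.Quotient.mk _ (MvPolynomial.X i))) = _
      rw [psi, AdjoinRoot.lift_of, iota_mk, MvPolynomial.rename_X]

/-- the linear equivalence -/
private noncomputable def equivT :
    (MvPolynomial (Fin (r + 1)) A ⧸ J (r + 1) F) ≃ₗ[A] AdjoinRoot (fbar r F) :=
  { (phi r F).toLinearMap with
    invFun := psi r F
    left_inv := fun x => by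
      have := congrArg (fun g => g x) (psi_phi r F)
      exact this
    right_inv := fun x => by
      have := congrArg (fun g => g x) (phi_psi r F)
      exact this }

end step

private theorem main {A : Type u} [CommRing A] [Nontrivial A] :
    ∀ (r : ℕ) (F : Fin r → Polynomial A) (_ : ∀ i, (F i).Monic),
    Module.Free A (MvPolynomial (Fin r) A ⧸ J r F) ∧
      Module.finrank A (MvPolynomial (Fin r) A ⧸ J r F) =
        Finset.univ.prod fun i => (F i).natDegree := by
  intro r
  induction r with
  | zero =>
    intro F _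
    have hJ : J 0 F = ⊥ := by
      rw [J]
      have : (Set.range fun i : Fin 0 =>
        Polynomial.aeval (MvPolynomial.X i : MvPolynomial (Fin 0) A) (F i)) = ∅ :=
        Set.range_eq_empty _
      rw [this, Ideal.span_empty]
    let e : (MvPolynomial (Fin 0) A ⧸ J 0 F) ≃ₗ[A] A :=
      ((Ideal.quotientEquivAlgOfEq A hJ).trans
        ((AlgEquiv.quotientBot A (MvPolynomial (Fin 0) A)).trans
          (MvPolynomial.isEmptyAlgEquiv A (Fin 0)))).toLinearEquiv
    refine ⟨Module.Free.of_equiv e.symm, ?_⟩
    rw [e.finrank_eq, Module.finrank_self]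
    simp
  | succ r ih =>
    intro F hF
    obtain ⟨hfree, hrank⟩ := ih (fun i => F i.succ) (fun i => hF i.succ)
    have hmonic : (fbar r F).Monic := (hF 0).map _
    have hfreeT : Module.Free (A' r F) (AdjoinRoot (fbar r F)) := hmonic.free_adjoinRoot
    have hfreeTA : Module.Free A (AdjoinRoot (fbar r F)) := Module.Free.trans (S := A' r F)
    refine ⟨Module.Free.of_equiv (equivT r F).symm, ?_⟩
    rw [(equivT r F).finrank_eq, Fin.prod_univ_succ]
    rcases subsingleton_or_nontrivial (A' r F) with hs | hn
    · have : Subsingleton (AdjoinRoot (fbar r F)) := Module.subsingleton (A' r F) _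
      rw [Module.finrank_zero_of_subsingleton]
      rw [← hrank, Module.finrank_zero_of_subsingleton, mul_zero]
    · rw [← Module.finrank_mul_finrank A (A' r F) (AdjoinRoot (fbar r F)), hrank, mul_comm]
      congr 1
      rw [(AdjoinRoot.powerBasis' hmonic).finrank]
      rw [AdjoinRoot.powerBasis'_dim]
      exact (hF 0).natDegree_map _

/-- Let A be a nonzero ring and F_1, …, F_r monic one-variable polynomials of degrees d_1, …, d_r; then
A[T_1, …, T_r]/(F_1(T_1), …, F_r(T_r)) is a free A-module of rank ∏ d_i. (The published statement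
assumes A local with maximal ideal of square zero and A' local, which this assertion does not use;
its bound [K' : K] ≤ d and part (ii) are not stated.) -/
theorem result {A : Type u} [CommRing A] [Nontrivial A]
    {r : ℕ} (F : Fin r → Polynomial A) (hF : ∀ i, (F i).Monic) :
    Module.Free A (MvPolynomial (Fin r) A ⧸ Ideal.span (Set.range fun i => Polynomial.aeval (MvPolynomial.X i : MvPolynomial (Fin r) A) (F i))) ∧
      Module.finrank A (MvPolynomial (Fin r) A ⧸ Ideal.span (Set.range fun i => Polynomial.aeval (MvPolynomial.X i : MvPolynomial (Fin r) A) (F i))) =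
        Finset.univ.prod fun i => (F i).natDegree := by
  exact main r F hF

end Groth.Agent.S4610
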