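import Groth.Statements.S4611
import Mathlib

set_option autoImplicit false
universe u
open EGA41

namespace Groth.Agent.S4611

/-- A local algebra essentially of finite type over a ring A is A-isomorphic to a quotient of a
localization A[T_1, …, T_n]_q of a polynomial algebra at a prime ideal q; stated as the existence of
a surjective A-algebra map from such a localization. -/
theorem result {A B : Type u} [CommRing A]
    [CommRing B] [IsLocalRing B] [Algebra A B] [Algebra.EssFiniteType A B] :
    ∃ (n : ℕ) (q : Ideal (MvPolynomial (Fin n) A)) (_ : q.IsPrime)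
      (φ : Localization.AtPrime q →ₐ[A] B), Function.Surjective φ := by
  obtain ⟨σ, hσ⟩ := (Algebra.essFiniteType_iff A B).mp (inferInstance : Algebra.EssFiniteType A B)
  let g : Fin σ.card → B := fun i => ((σ.equivFin.symm i : σ) : B)
  let φ0 : MvPolynomial (Fin σ.card) A →ₐ[A] B := MvPolynomial.aeval g
  have hg : Set.range g = (σ : Set B) := by
    ext x
    constructor
    · rintro ⟨i, rfl⟩
      exact (σ.equivFin.symm i).2
    · intro hx
      exact ⟨σ.equivFin ⟨x, hx⟩, by simp [g]⟩
  have hrange : φ0.range = Algebra.adjoin A (σ : Set B) := by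
    rw [← hg, Algebra.adjoin_range_eq_range_aeval]
  let q : Ideal (MvPolynomial (Fin σ.card) A) := (IsLocalRing.maximalIdeal B).comap φ0
  have hq : q.IsPrime := Ideal.comap_isPrime _ _
  have hunit_iff : ∀ y : MvPolynomial (Fin σ.card) A, y ∈ q.primeCompl ↔ IsUnit (φ0 y) := by
    intro y
    change ¬ (y ∈ q) ↔ _
    rw [Ideal.mem_comap, IsLocalRing.mem_maximalIdeal, mem_nonunits_iff, not_not]
  have hunits : ∀ y : q.primeCompl, IsUnit (φ0 y) := fun y => (hunit_iff y).1 y.2
  let φ : Localization.AtPrime q →ₐ[A] B :=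
    IsLocalization.liftAlgHom (M := q.primeCompl) (f := φ0) hunits
  refine ⟨σ.card, q, hq, φ, ?_⟩
  intro b
  obtain ⟨t, ht, htu, hbt⟩ := hσ b
  rw [← hrange] at ht hbt
  obtain ⟨pt, rfl⟩ := ht
  obtain ⟨pb, hpb⟩ := hbt
  have hptq : pt ∈ q.primeCompl := (hunit_iff pt).2 htu
  refine ⟨IsLocalization.mk' _ pb ⟨pt, hptq⟩, ?_⟩
  change IsLocalization.lift hunits _ = b
  rw [IsLocalization.lift_mk'_spec]
  change φ0 pb = φ0 pt * b
  rw [mul_comm]
  exact hpb

end Groth.Agent.S4611
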