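import Groth.Statements.S4613
import Mathlib

set_option autoImplicit false
universe u
open AlgebraicGeometry CategoryTheory
open EGA41

namespace Groth.Agent.S4613

private lemma ker_fg_of_fp {A B : Type u} [CommRing A] [CommRing B] (f : A →+* B)
    (hf : f.FinitePresentation) (hs : Function.Surjective f) : (RingHom.ker f).FG := by
  algebraize [f]
  have := Algebra.FinitePresentation.ker_fG_of_surjective (R := A) (Algebra.ofId A B) hs
  exact this

/-- For a closed immersion j : X → Y: j is locally of finite presentation if and only if its ideal sheaf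
is of finite type, i.e. for every affine open U of Y the kernel of Γ(U, O_Y) → Γ(j⁻¹U, O_X) is
finitely generated. (An immersion with image closed in an open U reduces to this case.) -/
theorem result {X Y : Scheme.{u}} (j : X ⟶ Y)
    [IsClosedImmersion j] :
    LocallyOfFinitePresentation j ↔ ∀ U : Y.affineOpens, (RingHom.ker (j.app U).hom).FG := by
  constructor
  · intro h U
    have hU : IsAffineOpen (j ⁻¹ᵁ U.1) := U.2.preimage j
    have h1 := HasRingHomProperty.appLE (P := @LocallyOfFinitePresentation) j h U ⟨_, hU⟩ le_rfl
    have h2 : j.appLE U.1 (j ⁻¹ᵁ U.1) le_rfl = j.app U.1 := by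
      simp [Scheme.Hom.appLE]
    rw [h2] at h1
    exact ker_fg_of_fp _ h1 (j.app_surjective U.1 U.2)
  · intro h
    rw [HasRingHomProperty.iff_appLE (P := @LocallyOfFinitePresentation)]
    intro U V e
    rw [Scheme.Hom.appLE, CommRingCat.hom_comp]
    refine RingHom.FinitePresentation.comp ?_ ?_
    · have hU : IsAffineOpen (j ⁻¹ᵁ U.1) := U.2.preimage j
      have h0 : LocallyOfFinitePresentation (𝟙 X) := inferInstance
      have := HasRingHomProperty.appLE (P := @LocallyOfFinitePresentation) (𝟙 X) h0
        ⟨j ⁻¹ᵁ U.1, hU⟩ V e
      have h3 : (𝟙 X : X ⟶ X).appLE (j ⁻¹ᵁ U.1) V.1 e = X.presheaf.map (homOfLE e).op := by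
        simp only [Scheme.Hom.appLE, Scheme.Hom.id_app]
        exact Category.id_comp _
      rwa [h3] at this
    · exact RingHom.FinitePresentation.of_surjective _ (j.app_surjective U.1 U.2) (h U)

end Groth.Agent.S4613
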