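import Groth.Statements.S4616
import Groth.Agent.S4571
import Groth.Agent.Lib.Helper13.SubfieldFam2
import Groth.Agent.Lib.Helper13.TowerCrit2
import Groth.Agent.Lib.Helper96.SmoothTower

set_option autoImplicit false
universe u
open TensorProduct KaehlerDifferential IsLocalRing
open EGA41

namespace Groth.Agent.S4616

/-- Let k be a field of characteristic p > 0, A a local k-algebra with maximal ideal m and residue field
K, (k_α) a decreasing directed family of subfields of k with ⋂ k_α(k^p) = k^p. Then A is formally
smooth over k for the m-adic topology if and only if the maps Sym^n_K(m/m²) → m^n/m^(n+1) are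
bijective (n ≥ 1) and, for all large α, Ω_{k/k_α} ⊗_k K → Ω_{A/k_α} ⊗_A K is injective. -/
theorem result {k A : Type u}
    [Field k] (p : ℕ) [Fact p.Prime] [CharP k p] [CommRing A] [IsLocalRing A] [Algebra k A]
    {ι : Type u} [Preorder ι] [IsDirected ι (fun a b => a ≤ b)] [Nonempty ι] (kα : ι → Subfield k)
    (hanti : Antitone kα) (hint : ⨅ α, (kα α ⊔ (frobenius k p).fieldRange) = (frobenius k p).fieldRange) :
    CAlgX.IsAdicFormallySmooth k A (maximalIdeal A) ↔
      (PP16.SymGrBijective A (maximalIdeal A) ∧ ∃ α₀ : ι, ∀ α : ι, α₀ ≤ α →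
        Function.Injective ((mapBaseChange (kα α) k A).lTensor (ResidueField A))) := by
  classical
  constructor
  · -- (⇒)
    intro h
    refine ⟨(Groth.Agent.S4571.result.mp h).1, ⟨Classical.arbitrary ι, fun α _ => ?_⟩⟩
    obtain ⟨r, hr⟩ := Groth.Agent.Lib.Helper13.TowerCrit.exists_retraction
      (Λ := kα α) (A := k) (B := A) (maximalIdeal A) h
    intro x y hxy
    have hx := LinearMap.congr_fun hr x
    have hy := LinearMap.congr_fun hr y
    simp only [LinearMap.coe_comp, Function.comp_apply, LinearMap.id_coe, id_eq] at hx hy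
    rw [← hx, ← hy]
    exact congrArg r hxy
  · -- (⇐)
    rintro ⟨hsg, α₀, hα₀⟩
    refine Groth.Agent.S4571.result.mpr ⟨hsg, ?_⟩
    -- the cofinal subfamily
    let ι' : Type u := {α : ι // α₀ ≤ α}
    haveI : Nonempty ι' := ⟨⟨α₀, le_rfl⟩⟩
    haveI : IsDirected ι' (fun a b => a ≤ b) := ⟨fun a b => by
      obtain ⟨c, hac, hbc⟩ := directed_of (fun a b : ι => a ≤ b) a.1 b.1
      exact ⟨⟨c, a.2.trans hac⟩, hac, hbc⟩⟩
    let kα' : ι' → Subfield k := fun α => kα α.1
    have hanti' : Antitone kα' := fun a b hab => hanti hab
    have hint' : ⨅ α, (kα' α ⊔ (frobenius k p).fieldRange) = (frobenius k p).fieldRange := by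
      apply le_antisymm
      · have h1 : ⨅ α, (kα' α ⊔ (frobenius k p).fieldRange) ≤
            ⨅ α, (kα α ⊔ (frobenius k p).fieldRange) := by
          refine le_iInf fun α => ?_
          obtain ⟨c, hac, hbc⟩ := directed_of (fun a b : ι => a ≤ b) α α₀
          exact (iInf_le (fun α : ι' => kα' α ⊔ (frobenius k p).fieldRange) ⟨c, hbc⟩).trans
            (sup_le_sup_right (hanti hac) _)
        exact h1.trans hint.le
      · exact le_iInf fun α => le_sup_right
    have hsep := Groth.Agent.Lib.Helper13.SubfieldFam.kaehler_int_separating p kα' hanti' hint'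
    -- the square
    have hsq : ∀ (α : ι) (w : ResidueField A ⊗[A] (A ⊗[k] Ω[k⁄ℤ])),
        ((mapBaseChange (kα α) k A).baseChange (ResidueField A))
          ((((KaehlerDifferential.map ℤ (kα α) k k).baseChange A).baseChange (ResidueField A)) w) =
        ((KaehlerDifferential.map ℤ (kα α) A A).baseChange (ResidueField A))
          (((mapBaseChange ℤ k A).baseChange (ResidueField A)) w) := by
      intro α w
      have := Groth.Agent.Lib.Helper96.hom_ext_baseChange_kaehler (k := k) (A := A)
        (((mapBaseChange (kα α) k A).baseChange (ResidueField A)) ∘ₗ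
          (((KaehlerDifferential.map ℤ (kα α) k k).baseChange A).baseChange (ResidueField A)))
        (((KaehlerDifferential.map ℤ (kα α) A A).baseChange (ResidueField A)) ∘ₗ
          ((mapBaseChange ℤ k A).baseChange (ResidueField A)))
        (fun c => by
          simp only [LinearMap.coe_comp, Function.comp_apply, LinearMap.baseChange_tmul,
            KaehlerDifferential.map_D, mapBaseChange_tmul, one_smul]
          rfl)
      exact LinearMap.congr_fun this w
    rw [injective_iff_map_eq_zero]
    intro w hw
    apply Groth.Agent.Lib.Helper13.SubfieldFam.eq_zero_of_forall_baseChange_eq_zero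
      (k := k) (A := A) (K := ResidueField A)
      (fun α : ι' => KaehlerDifferential.map ℤ (kα' α) k k) hsep w
    intro α
    apply hα₀ α.1 α.2
    rw [map_zero]
    have h1 := hsq α.1 w
    rw [LinearMap.baseChange_eq_ltensor (f := mapBaseChange ℤ k A), hw, map_zero] at h1
    exact h1

end Groth.Agent.S4616
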