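import Groth.Statements.S4619
import Groth.Agent.Lib.Helper21.PrimaryGeom
import Groth.Agent.S2502

set_option autoImplicit false
open CategoryTheory AlgebraicGeometry
universe u
open FBase

namespace Groth.Agent.S4619

/-- For a connected scheme: let X be a connected scheme over a field k and x a point of X whose residue
field κ(x) is a primary extension of k, i.e. the separable algebraic closure of k in κ(x) is k
itself (this holds in particular when x is a k-rational point). Then X is geometrically connected
over k. (The published statement concerns the connected component of x in an arbitrary scheme over
k; this row takes X connected.) -/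
theorem result {k : Type u} [Field k] {X : Scheme.{u}}
    [ConnectedSpace X] (f : X ⟶ Spec (CommRingCat.of k)) (x : X)
    (hx : FBase.ResidueFieldProp f x (fun K _ _ => separableClosure k K = ⊥)) :
    GeometricallyConnected f := by
  obtain ⟨φ, hφ, hP⟩ := hx
  let _ := φ.toAlgebra
  have hgc : GeometricallyConnected (Spec.map (CommRingCat.ofHom (algebraMap k (X.residueField x)))) :=
    Groth.Agent.Lib.Helper21.geometricallyConnected_SpecMap_of_separableClosure_eq_bot k _ hP
  have hgc' : GeometricallyConnected (X.fromSpecResidueField x ≫ f) := by
    rw [← hφ]
    exact hgc
  have hne : Nonempty ↥(Spec (X.residueField x)) := by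
    change Nonempty (PrimeSpectrum (X.residueField x))
    infer_instance
  exact Groth.Agent.S2502.result (X.fromSpecResidueField x) f

end Groth.Agent.S4619
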