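import Groth.Statements.S4622
import Groth.Agent.Lib.Helper21.FieldBC

set_option autoImplicit false
open CategoryTheory AlgebraicGeometry
universe u
open FBase

namespace Groth.Agent.S4622

/-- `Spec k' → Spec k` is universally injective for a purely inseparable extension. -/
private lemma univInj {k k' : Type u} [Field k] [Field k'] [Algebra k k'] [IsPurelyInseparable k k'] :
    UniversallyInjective (Spec.map (CommRingCat.ofHom (algebraMap k k'))) := by
  refine ((tfae_universallyInjective _).out 0 1).mpr ?_
  intro K _ g₁ g₂ hg
  dsimp only at hg
  obtain ⟨φ₁, rfl⟩ := Spec.map_surjective g₁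
  obtain ⟨φ₂, rfl⟩ := Spec.map_surjective g₂
  rw [← Spec.map_comp, ← Spec.map_comp] at hg
  have h1 := Spec.map_injective hg
  have h2 : φ₁.hom.comp (algebraMap k k') = φ₂.hom.comp (algebraMap k k') := by
    have := congrArg CommRingCat.Hom.hom h1
    simpa using this
  have h3 := IsPurelyInseparable.injective_comp_algebraMap k k' K h2
  congr 1
  exact CommRingCat.hom_ext h3

/-- Let k be a separably closed field, k' an algebraic closure of k and X a scheme over k. Then the
projection X ⊗_k k' → X is a universal homeomorphism. -/
theorem result {k k' : Type u} [Field k] [IsSepClosed k] [Field k'] [Algebra k k']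
    [IsAlgClosure k k'] {X : Scheme.{u}} (f : X ⟶ Spec (CommRingCat.of k)) :
    FlatMor.IsUnivHomeo (FBase.bcπ f k') := by
  have halg : Algebra.IsAlgebraic k k' := IsAlgClosure.isAlgebraic
  have hpi : IsPurelyInseparable k k' := inferInstance
  have hui : UniversallyInjective (Spec.map (CommRingCat.ofHom (algebraMap k k'))) := univInj
  have hg : FlatMor.IsUnivHomeo (Spec.map (CommRingCat.ofHom (algebraMap k k'))) := by
    intro X' Y' i₁ i₂ f' hpb
    have h1 : Surjective f' := MorphismProperty.of_isPullback (P := @Surjective) hpb.flip inferInstance
    have h2 : UniversallyInjective f' :=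
      MorphismProperty.of_isPullback (P := @UniversallyInjective) hpb.flip hui
    have h3 : UniversallyOpen f' :=
      MorphismProperty.of_isPullback (P := @UniversallyOpen) hpb.flip inferInstance
    exact ⟨f'.continuous, f'.isOpenMap, f'.injective, f'.surjective⟩
  have hst : (FlatMor.IsUnivHomeo : MorphismProperty Scheme.{u}).IsStableUnderBaseChange := by
    unfold FlatMor.IsUnivHomeo
    infer_instance
  exact MorphismProperty.of_isPullback (P := FlatMor.IsUnivHomeo)
    (IsPullback.of_hasPullback f (Spec.map (CommRingCat.ofHom (algebraMap k k')))).flip hg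

end Groth.Agent.S4622
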