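import Groth.Statements.S4625
import Groth.Agent.Lib.Helper21.FieldBC

set_option autoImplicit false
open CategoryTheory AlgebraicGeometry
universe u
open FBase

namespace Groth.Agent.S4625

set_option backward.isDefEq.respectTransparency.types false in
private lemma gc_snd {X Y S : Scheme.{u}} (f : X ⟶ S) (g : Y ⟶ S) (h : GeometricallyConnected f) :
    GeometricallyConnected (Limits.pullback.snd f g) :=
  MorphismProperty.pullback_snd f g h

/-- Let X be a scheme over a field k and K an extension field of k. Then X is geometrically connected
over k if and only if X ⊗_k K, with its structure of K-scheme, is geometrically connected over K. -/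
theorem result {k K : Type u} [Field k] [Field K] [Algebra k K]
    {X : Scheme.{u}} (f : X ⟶ Spec (CommRingCat.of k)) :
    GeometricallyConnected f ↔ GeometricallyConnected (FBase.bcStr f K) := by
  constructor
  · intro h
    exact gc_snd f _ h
  · intro h
    refine ⟨geometrically_iff_of_commRing.mpr ?_⟩
    intro L _ _ Y fst snd hY
    obtain ⟨M, _, i, j, hij⟩ := Groth.Agent.Lib.Helper21.exists_common_extension k K L
    obtain ⟨p, hp⟩ := Groth.Agent.Lib.Helper21.exists_compare f i j hij hY
    have h1 : ConnectedSpace ↥(Groth.Agent.Lib.Helper21.bcbc (K := K) f i) :=
      pullback_of_geometrically h.geometrically_connectedSpace M (Spec.map (CommRingCat.ofHom i))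
    have h2 : Surjective p :=
      MorphismProperty.of_isPullback (P := @Surjective) hp.flip inferInstance
    exact p.surjective.connectedSpace p.continuous

end Groth.Agent.S4625
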