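import Groth.Statements.S4632
import Groth.Agent.S2493
import Groth.Agent.Lib.Helper38.QCClosure
open Groth.Agent.Lib.Helper38.QCClosure

set_option autoImplicit false
open CategoryTheory AlgebraicGeometry
universe u
open FDesc

namespace Groth.Agent.S4632

open CategoryTheory.Limits in
/-- Let f : X → Y be a quasi-compact dominant morphism and g : Y' → Y a quasi-flat morphism (for
instance a flat one). Then the base change X ×_Y Y' → Y' is dominant. -/
theorem result {X Y Y' : Scheme.{u}} (f : X ⟶ Y) (g : Y' ⟶ Y)
    [QuasiCompact f] [IsDominant f] (hg : FDesc.IsQuasiFlat g) : IsDominant (pullback.snd f g) := by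
  have hgen := Groth.Agent.S2493.result g hg
  constructor
  rw [DenseRange, dense_iff_closure_eq, Set.eq_univ_iff_forall]
  intro y'
  have hdense : g y' ∈ closure (f '' Set.univ) := by
    rw [Set.image_univ]
    exact f.denseRange.closure_range ▸ Set.mem_univ _
  obtain ⟨x, -, hx⟩ := exists_specializes_of_mem_closure_image f Set.univ isClosed_univ _ hdense
  obtain ⟨y'', hy'', hgy''⟩ := hgen hx
  obtain ⟨p, -, hp⟩ := Scheme.Pullback.exists_preimage_pullback (f := f) (g := g) x y'' hgy''.symm
  exact hy''.mem_closed isClosed_closure (subset_closure ⟨p, hp⟩)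


end Groth.Agent.S4632
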