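import Groth.Statements.S4633
import Groth.Agent.Lib.Helper38.QuasiFlatBC
import Groth.Agent.Lib.Helper38.FibreProdLift
open Groth.Agent.Lib.Helper38.FibreProdLift CategoryTheory.Limits

set_option autoImplicit false
open CategoryTheory AlgebraicGeometry
universe u
open FDesc

namespace Groth.Agent.S4633

open CategoryTheory.Limits in
/-- Let f : X → Y be a morphism such that every irreducible component of X dominates an irreducible
component of Y (the closure of its image under f is an irreducible component of Y), and let g : Y' →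
Y be quasi-flat (for instance flat). Then every irreducible component of X ×_Y Y' dominates an
irreducible component of Y'. -/
theorem result {X Y Y' : Scheme.{u}} (f : X ⟶ Y) (g : Y' ⟶ Y)
    (hf : ∀ Z ∈ irreducibleComponents ↥X, closure (⇑f '' Z) ∈ irreducibleComponents ↥Y)
    (hg : FDesc.IsQuasiFlat g) (Z' : Set ↥(pullback f g)) (hZ' : Z' ∈ irreducibleComponents ↥(pullback f g)) :
    closure (⇑(pullback.snd f g) '' Z') ∈ irreducibleComponents ↥Y' := by

  have hZcl : IsClosed Z' := isClosed_of_mem_irreducibleComponents Z' hZ'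
  have hξ : IsGenericPoint hZ'.1.genericPoint Z' := hZ'.1.isGenericPoint_genericPoint hZcl
  obtain ⟨ξ', hξ'⟩ : ∃ ξ' : ↥(pullback f g), ξ' = hZ'.1.genericPoint := ⟨_, rfl⟩
  rw [← hξ'] at hξ
  -- ξ' is a maximal point
  have hmax : ∀ ζ : ↥(pullback f g), ζ ⤳ ξ' → ζ = ξ' := fun ζ hζ =>
    eq_of_specializes_generic hZ' hξ hζ
  -- its image in X is a maximal point
  have hgen : GeneralizingMap (pullback.fst f g).base :=
    Groth.Agent.Lib.Helper38.QuasiFlatBC.generalizingMap_fst f g hg
  have hmaxX : ∀ η : X, η ⤳ pullback.fst f g ξ' → η = pullback.fst f g ξ' := by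
    intro η hη
    obtain ⟨η', hη'ξ, hη'⟩ := hgen hη
    rw [← hη', hmax η' hη'ξ]
  have hcomp : closure {pullback.fst f g ξ'} ∈ irreducibleComponents ↥X :=
    closure_mem_irreducibleComponents hmaxX
  have hY := hf _ hcomp
  have hgenY : IsGenericPoint (f (pullback.fst f g ξ'))
      (closure (⇑f '' closure {pullback.fst f g ξ'})) :=
    (isGenericPoint_closure (x := pullback.fst f g ξ')).image f.continuous
  have hmaxY : ∀ η : Y, η ⤳ (pullback.fst f g ≫ f) ξ' → η = (pullback.fst f g ≫ f) ξ' := by
    intro η hη
    rw [Scheme.Hom.comp_apply] at hη ⊢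
    exact eq_of_specializes_generic hY hgenY hη
  have hmaxY' := eq_of_specializes_snd f g ξ' hmax hmaxY
  have himg : IsGenericPoint (pullback.snd f g ξ') (closure (⇑(pullback.snd f g) '' Z')) :=
    hξ.image (pullback.snd f g).continuous
  rw [← himg.def]
  exact closure_mem_irreducibleComponents hmaxY'


end Groth.Agent.S4633
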