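import Groth.Statements.S4634
import Groth.Agent.S2493
import Groth.Agent.Lib.Helper38.QCClosure
open Groth.Agent.Lib.Helper38.QCClosure

set_option autoImplicit false
open CategoryTheory AlgebraicGeometry
universe u
open FDesc

namespace Groth.Agent.S4634

/-- Let f : X → Y be a quasi-flat quasi-compact morphism and F a closed subset of X which is saturated
for f, i.e. F = f⁻¹(f(F)). Then F is the inverse image of the closure of f(F). -/
theorem result {X Y : Scheme.{u}} (f : X ⟶ Y) (hf : FDesc.IsQuasiFlat f)
    [QuasiCompact f] (F : Set ↥X) (hF : IsClosed F) (hsat : ⇑f ⁻¹' (⇑f '' F) = F) :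
    ⇑f ⁻¹' closure (⇑f '' F) = F := by
  have hgen := Groth.Agent.S2493.result f hf
  apply subset_antisymm
  · intro x hx
    obtain ⟨c, hc, hcx⟩ := exists_specializes_of_mem_closure_image f F hF (f x) hx
    obtain ⟨x', hx'x, hfx'⟩ := hgen hcx
    have hx'F : x' ∈ F := by
      rw [← hsat]
      exact ⟨c, hc, hfx'.symm⟩
    exact hx'x.mem_closed hF hx'F
  · intro x hx
    exact subset_closure ⟨x, hx, rfl⟩


end Groth.Agent.S4634
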