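import Groth.Statements.S4637
import Groth.Agent.Lib.QCoh.Helper18_SerreSk
import Groth.Agent.Lib.Helper49.Serre
import Groth.Agent.Lib.Helper49.StalkLoc
import Groth.Agent.Lib.Helper87.KzBasic
import Groth.Agent.Lib.Helper87.SamuelFn
import Groth.Agent.Lib.QCoh.Helper18_Ass

set_option autoImplicit false
open CategoryTheory AlgebraicGeometry
universe u
open AssSch

namespace Groth.Agent.S4637

/-- Let X be a locally Noetherian scheme, F a coherent O_X-module and x a point of X. Then x is the
generic point of an irreducible component of Supp F (F_x ≠ 0 and every point y with F_y ≠ 0 that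
specialises to x equals x) if and only if F_x is a nonzero module of finite length over the local
ring O_{X,x}. -/
theorem result {X : Scheme.{u}} [IsLocallyNoetherian X] (F : X.Modules)
    (hF : Coh.IsCoh F) (x : X) :
    (Nontrivial ↑(F.presheaf.stalk x) ∧ ∀ y : X, Nontrivial ↑(F.presheaf.stalk y) → y ⤳ x → y = x) ↔
      (Nontrivial ↑(F.presheaf.stalk x) ∧ IsFiniteLength ↑(X.presheaf.stalk x) ↑(F.presheaf.stalk x)) := by
  have : F.IsQuasicoherent := hF.1
  have : F.IsFiniteType := hF.2
  obtain ⟨U, hU0, hxU, -⟩ := TopologicalSpace.Opens.isBasis_iff_nbhd.1 (X.isBasis_affineOpens)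
    (show x ∈ (⊤ : X.Opens) from trivial)
  have hU : IsAffineOpen U := hU0
  have hN : IsNoetherianRing Γ(X, U) := IsLocallyNoetherian.component_noetherian ⟨U, hU⟩
  have hfinx := Groth.Agent.Lib.QCoh.finite_stalk F x
  have hnt_iff : ∀ y : X, Nontrivial ↑(F.presheaf.stalk y) ↔ y ∈ CohB1.support F := by
    intro y
    change _ ↔ ¬ Subsingleton _
    rw [not_subsingleton_iff_nontrivial]
  have key : (∀ y : X, Nontrivial ↑(F.presheaf.stalk y) → y ⤳ x → y = x) ↔
      Module.supportDim (X.presheaf.stalk x) (F.presheaf.stalk x) ≤ 0 := by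
    rw [Groth.Agent.Lib.QCoh.SerreSk.supportDim_stalk_eq F hU x hxU,
      Groth.Agent.Lib.Helper49.Serre.supportDim_localizedModule_le_zero_iff]
    constructor
    · intro h q hq hqp
      have hy := Groth.Agent.Lib.QCoh.fromSpec_mem hU q
      have hspec : hU.fromSpec q ⤳ x := by
        have := Groth.Agent.Lib.QCoh.fromSpec_specializes hU (q := q)
          (p := hU.primeIdealOf ⟨x, hxU⟩) hqp
        rwa [hU.fromSpec_primeIdealOf ⟨x, hxU⟩] at this
      have hnt : Nontrivial (F.presheaf.stalk (hU.fromSpec q)) := by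
        rw [hnt_iff, ← Groth.Agent.Lib.QCoh.mem_support_iff_primeIdealOf_mem_support F hU _ hy,
          Groth.Agent.Lib.QCoh.primeIdealOf_fromSpec]
        exact hq
      have hyx := h _ hnt hspec
      have h1 := Groth.Agent.Lib.QCoh.primeIdealOf_fromSpec hU q
      rw [← h1]
      congr 2
      exact Subtype.ext hyx
    · intro h y hy hyx
      have hyU : y ∈ U := hyx.mem_open U.2 hxU
      have hle := Groth.Agent.Lib.Helper49.StalkLoc.primeIdealOf_le_of_specializes hU hyU hxU hyx
      have hsupp : hU.primeIdealOf ⟨y, hyU⟩ ∈ Module.support Γ(X, U) Γ(F, U) :=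
        (Groth.Agent.Lib.QCoh.mem_support_iff_primeIdealOf_mem_support F hU y hyU).2
          ((hnt_iff y).1 hy)
      have h2 := h _ hsupp hle
      have h3 : hU.primeIdealOf ⟨y, hyU⟩ = hU.primeIdealOf ⟨x, hxU⟩ := PrimeSpectrum.ext h2
      have h4 := congrArg hU.fromSpec h3
      rw [hU.fromSpec_primeIdealOf, hU.fromSpec_primeIdealOf] at h4
      exact h4
  rw [key]
  constructor
  · rintro ⟨hnt, h⟩
    exact ⟨hnt, Groth.Agent.Lib.Helper87.SamuelFn.isFiniteLength_of_supportDim_le_zero _ h⟩
  · rintro ⟨hnt, h⟩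
    exact ⟨hnt, Groth.Agent.Lib.Helper87.KzBasic.supportDim_le_zero_of_isFiniteLength _ h⟩

end Groth.Agent.S4637
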