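import Groth.Statements.S4638
import Groth.Agent.Lib.QCoh.Helper18_Ass
import Groth.Agent.Lib.QCoh.Helper18_StalkQCoh

set_option autoImplicit false
open CategoryTheory AlgebraicGeometry
universe u
open AssSch

namespace Groth.Agent.S4638

/-- Let X be a locally Noetherian scheme, F a quasi-coherent O_X-module and f a global section of O_X.
Then f is F-regular, i.e. multiplication by the germ of f is injective on every stalk of F, if and
only if every associated point of F lies in the open subset X_f where f does not vanish. -/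
theorem result {X : Scheme.{u}} [IsLocallyNoetherian X] (F : X.Modules)
    (hF : Coh.IsQCoh F) (f : Γ(X, ⊤)) :
    (∀ x : X, IsSMulRegular ↑(F.presheaf.stalk x) (X.presheaf.germ ⊤ x trivial f)) ↔
      AssSch.Ass F ⊆ (X.basicOpen f : Set ↥X) := by
  have hq : F.IsQuasicoherent := hF
  constructor
  · intro hreg x hx
    by_contra hxf
    have hx' : Curv2.IsWeakAssPoint F x :=
      (Groth.Agent.Lib.QCoh.isAssPoint_iff_isWeakAssPoint F x).1 hx
    obtain ⟨m, hm⟩ := hx'
    have hnu : ¬ IsUnit (X.presheaf.germ ⊤ x trivial f) := by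
      intro hu
      exact hxf ((X.mem_basicOpen f x trivial).2 hu)
    have hmem : X.presheaf.germ ⊤ x trivial f ∈
        IsLocalRing.maximalIdeal (X.presheaf.stalk x) := (IsLocalRing.mem_maximalIdeal _).2 hnu
    rw [← hm] at hmem
    obtain ⟨n, hn⟩ := hmem
    have hn' : (X.presheaf.germ ⊤ x trivial f) ^ n • m = 0 := by simpa using hn
    have hm0 : m = 0 := by
      apply ((hreg x).pow n)
      change (X.presheaf.germ ⊤ x trivial f) ^ n • m = (X.presheaf.germ ⊤ x trivial f) ^ n • 0
      rw [hn', smul_zero]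
    have htop : LinearMap.ker (LinearMap.toSpanSingleton (X.presheaf.stalk x)
        (F.presheaf.stalk x) m) = ⊤ := by
      rw [hm0]; ext r; simp
    rw [htop, Ideal.radical_top] at hm
    exact (IsLocalRing.maximalIdeal.isMaximal _).ne_top hm.symm
  · intro hsub x
    suffices key : ∀ m : F.presheaf.stalk x, X.presheaf.germ ⊤ x trivial f • m = 0 → m = 0 by
      intro m₁ m₂ h
      have h' : X.presheaf.germ ⊤ x trivial f • (m₁ - m₂) = 0 := by
        rw [smul_sub]; exact sub_eq_zero.2 h
      exact sub_eq_zero.1 (key _ h')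
    intro m hm
    obtain ⟨V, hV0, hxV, -⟩ := TopologicalSpace.Opens.isBasis_iff_nbhd.1
      (X.isBasis_affineOpens) (show x ∈ (⊤ : X.Opens) from trivial)
    have hV : IsAffineOpen V := hV0
    let _ := Groth.Agent.Lib.QCoh.stalkModuleOfOpen F V x hxV
    let _ : Algebra Γ(X, V) (X.presheaf.stalk x) :=
      TopCat.Presheaf.algebra_section_stalk X.presheaf ⟨x, hxV⟩
    have := hV.isLocalization_stalk ⟨x, hxV⟩
    have := Groth.Agent.Lib.QCoh.isScalarTower_stalk F V x hxV
    have := Groth.Agent.Lib.QCoh.isLocalizedModule_germ F hV x hxV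
    obtain ⟨⟨s, u⟩, hsu⟩ := IsLocalizedModule.surj (hV.primeIdealOf ⟨x, hxV⟩).asIdeal.primeCompl
      (Groth.Agent.Lib.QCoh.germₗ F V x hxV) m
    have hsu' : X.presheaf.germ V x hxV u.1 • m = F.presheaf.germ V x hxV s := hsu
    have hu : IsUnit (X.presheaf.germ V x hxV u.1) := by
      rw [← Scheme.mem_basicOpen _ _ x hxV]
      exact (Groth.Agent.Lib.QCoh.notMem_primeIdealOf_iff hV x hxV u.1).1 u.2
    set fV : Γ(X, V) := X.presheaf.map (homOfLE (le_top : V ≤ ⊤)).op f with hfV
    have hgf : X.presheaf.germ V x hxV fV = X.presheaf.germ ⊤ x trivial f :=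
      TopCat.Presheaf.germ_res_apply _ _ _ _ _
    -- germ of `fV • s` vanishes
    have h1 : F.presheaf.germ V x hxV (fV • s) = 0 := by
      rw [Groth.Agent.Lib.QCoh.germ_smul, hgf, ← hsu', smul_comm, hm, smul_zero]
    rw [Groth.Agent.Lib.QCoh.germ_eq_zero_iff_of_isAffineOpen F hV x hxV] at h1
    obtain ⟨t, ht, hts⟩ := h1
    have hts0 : t • s = 0 := by
      by_contra hne
      obtain ⟨y, hyV, hyw, hyg⟩ :=
        Groth.Agent.Lib.QCoh.exists_isWeakAssPoint_of_section_ne_zero F hV (t • s) hne
      apply hyg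
      have hyf : y ∈ X.basicOpen f :=
        hsub ((Groth.Agent.Lib.QCoh.isAssPoint_iff_isWeakAssPoint F y).2 hyw)
      have hyu : IsUnit (X.presheaf.germ V y hyV fV) := by
        have : X.presheaf.germ V y hyV fV = X.presheaf.germ ⊤ y trivial f :=
          TopCat.Presheaf.germ_res_apply _ _ _ _ _
        rw [this]
        exact (X.mem_basicOpen f y trivial).1 hyf
      apply hyu.smul_left_cancel.1
      rw [smul_zero, ← Groth.Agent.Lib.QCoh.germ_smul, smul_comm, hts, map_zero]
    have hgs : F.presheaf.germ V x hxV s = 0 := by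
      rw [Groth.Agent.Lib.QCoh.germ_eq_zero_iff_of_isAffineOpen F hV x hxV]
      exact ⟨t, ht, hts0⟩
    apply hu.smul_left_cancel.1
    rw [smul_zero, hsu', hgs]

end Groth.Agent.S4638
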