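import Groth.Statements.S4640
import Mathlib.RingTheory.Flat.TorsionFree
import Mathlib.RingTheory.Localization.BaseChange
-- import your own Groth.Agent.* helpers here

set_option autoImplicit false
universe u
open FDesc

namespace Groth.Agent.S4640

open TensorProduct

section aux

variable {A K : Type u} [CommRing A] [IsDedekindDomain A] [Field K]
    [Algebra A K] [IsFractionRing A K] {M : Type u} [AddCommGroup M] [Module A M]

/-- `1 ⊗ n = 0` in `K ⊗ N` iff `n` is killed by a nonzerodivisor. -/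
lemma one_tmul_eq_zero_iff {N : Type u} [AddCommGroup N] [Module A N] (n : N) :
    (1 : K) ⊗ₜ[A] n = 0 ↔ ∃ c : nonZeroDivisors A, c • n = 0 := by
  have := IsLocalizedModule.eq_zero_iff (nonZeroDivisors A) (TensorProduct.mk A K N 1) (m := n)
  simpa using this

/-- Two `K`-submodules of `K ⊗ M` agreeing on pure tensors `1 ⊗ m` are equal. -/
lemma submodule_eq_of_forall_one_tmul (P₁ P₂ : Submodule K (K ⊗[A] M))
    (h : ∀ m : M, (1 : K) ⊗ₜ[A] m ∈ P₁ ↔ (1 : K) ⊗ₜ[A] m ∈ P₂) : P₁ = P₂ := by
  ext z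
  obtain ⟨⟨m, s⟩, hs⟩ := IsLocalizedModule.surj (nonZeroDivisors A) (TensorProduct.mk A K M 1) z
  simp only [TensorProduct.mk_apply] at hs
  have hs0 : algebraMap A K (s : A) ≠ 0 := by
    have := IsFractionRing.to_map_ne_zero_of_mem_nonZeroDivisors (K := K) s.2
    exact this
  have key : ∀ P : Submodule K (K ⊗[A] M), z ∈ P ↔ (1 : K) ⊗ₜ[A] m ∈ P := by
    intro P
    rw [← hs, Submonoid.smul_def, ← algebraMap_smul K (s : A) z]
    exact (P.smul_mem_iff hs0).symm
  rw [key P₁, key P₂, h m]

lemma one_tmul_mem_ker_iff (Q : Submodule A M) [Module.Flat A (M ⧸ Q)] (m : M) :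
    (1 : K) ⊗ₜ[A] m ∈ LinearMap.ker (Q.mkQ.baseChange K) ↔ m ∈ Q := by
  rw [LinearMap.mem_ker, LinearMap.baseChange_tmul, one_tmul_eq_zero_iff]
  constructor
  · rintro ⟨c, hc⟩
    have htf : Submodule.torsion A (M ⧸ Q) = ⊥ := Module.Flat.torsion_eq_bot
    have : Q.mkQ m ∈ Submodule.torsion A (M ⧸ Q) := ⟨c, hc⟩
    rw [htf, Submodule.mem_bot] at this
    simpa using this
  · intro hm
    exact ⟨1, by simpa using hm⟩

end aux

open TensorProduct in
/-- Let A be a Dedekind domain with fraction field K, M an A-module and P' a K-submodule of K ⊗_A M. Let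
φ : M → (K ⊗_A M)/P' be m ↦ class of 1 ⊗ m. Then a submodule Q of M equals ker φ if and only if M/Q
is a flat A-module and the kernel of the induced surjection K ⊗_A M → K ⊗_A (M/Q) is P'. Thus M/ker
φ is the unique flat quotient of M with generic fibre (K ⊗_A M)/P'. (The published statement takes A
Noetherian, regular and of dimension 1; a field is allowed here, where the statement is immediate.) -/
theorem result {A K : Type u} [CommRing A] [IsDedekindDomain A] [Field K]
    [Algebra A K] [IsFractionRing A K] {M : Type u} [AddCommGroup M] [Module A M]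
    (P' : Submodule K (K ⊗[A] M)) (Q : Submodule A M) :
    Q = LinearMap.ker ((P'.restrictScalars A).mkQ ∘ₗ TensorProduct.mk A K M 1) ↔
      (Module.Flat A (M ⧸ Q) ∧ LinearMap.ker (Q.mkQ.baseChange K) = P') := by
  have hmem : ∀ m : M, m ∈ LinearMap.ker ((P'.restrictScalars A).mkQ ∘ₗ TensorProduct.mk A K M 1) ↔
      (1 : K) ⊗ₜ[A] m ∈ P' := by
    intro m
    simp [LinearMap.mem_ker]
  constructor
  · intro hQ
    have hQ' : ∀ m : M, m ∈ Q ↔ (1 : K) ⊗ₜ[A] m ∈ P' := by
      intro m
      rw [← hmem m, ← hQ]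
    have hflat : Module.Flat A (M ⧸ Q) := by
      rw [IsDedekindDomain.flat_iff_torsion_eq_bot, eq_bot_iff]
      rintro x ⟨c, hc⟩
      obtain ⟨m, rfl⟩ := Q.mkQ_surjective x
      rw [Submodule.mem_bot]
      have h1 : (c : A) • m ∈ Q := by
        have : Q.mkQ ((c : A) • m) = 0 := by
          rw [map_smul]; exact hc
        rwa [Submodule.mkQ_apply, Submodule.Quotient.mk_eq_zero] at this
      rw [hQ', TensorProduct.tmul_smul, ← algebraMap_smul K (c : A)] at h1
      have hc0 : algebraMap A K (c : A) ≠ 0 :=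
        IsFractionRing.to_map_ne_zero_of_mem_nonZeroDivisors (K := K) c.2
      rw [P'.smul_mem_iff hc0, ← hQ'] at h1
      simpa using h1
    refine ⟨hflat, ?_⟩
    apply submodule_eq_of_forall_one_tmul
    intro m
    rw [one_tmul_mem_ker_iff, hQ']
  · rintro ⟨hflat, hker⟩
    ext m
    rw [hmem, ← hker, one_tmul_mem_ker_iff]

end Groth.Agent.S4640
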