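import Groth.Statements.S4644
import Mathlib
import Groth.Agent.Lib.Helper21.FieldDimBC
-- import your own Groth.Agent.* helpers here

set_option autoImplicit false
open CategoryTheory AlgebraicGeometry
universe u
open FBase

namespace Groth.Agent.S4644

/-- Let Y be a nonempty scheme locally of finite type over a field k whose irreducible components all
have the same dimension, and let Z be a locally closed subset of Y (the underlying set of a
subscheme). Then Z is nowhere dense in Y if and only if dim Z < dim Y. (For Y empty the left side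
holds and the right side fails, so Y is taken nonempty; dimensions are Krull dimensions of the
underlying spaces.) -/
theorem result {k : Type u} [Field k] {Y : Scheme.{u}} [Nonempty ↥Y]
    (g : Y ⟶ Spec (CommRingCat.of k)) [LocallyOfFiniteType g]
    (heq : ∀ T ∈ irreducibleComponents ↥Y, topologicalKrullDim ↥T = topologicalKrullDim ↥Y)
    (Z : Set ↥Y) (hZ : IsLocallyClosed Z) :
    IsNowhereDense Z ↔ topologicalKrullDim ↥Z < topologicalKrullDim ↥Y := by
  classical
  have : IsLocallyNoetherian Y := LocallyOfFiniteType.isLocallyNoetherian g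
  -- a maximal point of `Y`
  obtain ⟨y₀⟩ := ‹Nonempty ↥Y›
  obtain ⟨ξ₀, hξ₀, -⟩ := Groth.Agent.Lib.Helper21.exists_maximal_specializes y₀
  have hdimmax : ∀ ξ : Y, (∀ z, z ⤳ ξ → ξ ⤳ z) →
      topologicalKrullDim ↥Y = ((Groth.Agent.Lib.Helper21.FieldDim.td g ξ : ℕ) : WithBot ℕ∞) := by
    intro ξ hξ
    rw [← heq _ (Groth.Agent.Lib.Helper21.closure_singleton_mem_irreducibleComponents_of_maximal hξ)]
    exact Groth.Agent.Lib.Helper21.FieldDim.dim_closure_singleton g ξ
  constructor
  · intro hnd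
    have hdense : Dense (closure Z)ᶜ := interior_eq_empty_iff_dense_compl.mp hnd
    have hnotmax : ∀ z ∈ Z, ∀ ξ : Y, (∀ t, t ⤳ ξ → ξ ⤳ t) → ξ ⤳ z → ξ ≠ z := by
      intro z hz ξ hξ _ heq'
      have h1 : ξ ∈ ((⟨(closure Z)ᶜ, isClosed_closure.isOpen_compl⟩ : Y.Opens) : Set Y) :=
        Groth.Agent.Lib.Helper21.mem_of_dense_of_maximal _ hdense hξ
      exact h1 (subset_closure (heq' ▸ hz))
    rw [hdimmax ξ₀ hξ₀]
    have hlt : ∀ z ∈ Z, Groth.Agent.Lib.Helper21.FieldDim.td g z <
        Groth.Agent.Lib.Helper21.FieldDim.td g ξ₀ := by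
      intro z hz
      obtain ⟨ξ, hξ, hsp⟩ := Groth.Agent.Lib.Helper21.exists_maximal_specializes z
      have h1 := Groth.Agent.Lib.Helper21.FieldDim.td_lt_of_specializes g hsp (hnotmax z hz ξ hξ hsp)
      have h2 : ((Groth.Agent.Lib.Helper21.FieldDim.td g ξ : ℕ) : WithBot ℕ∞) =
          ((Groth.Agent.Lib.Helper21.FieldDim.td g ξ₀ : ℕ) : WithBot ℕ∞) := by
        rw [← hdimmax ξ hξ, ← hdimmax ξ₀ hξ₀]
      have h3 : Groth.Agent.Lib.Helper21.FieldDim.td g ξ = Groth.Agent.Lib.Helper21.FieldDim.td g ξ₀ := by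
        exact_mod_cast h2
      omega
    rcases Nat.eq_zero_or_pos (Groth.Agent.Lib.Helper21.FieldDim.td g ξ₀) with h0 | hpos
    · have hle : topologicalKrullDim ↥Z ≤ ⊥ := by
        rw [Groth.Agent.Lib.Helper21.FieldDim.dim_le_iff_of_isLocallyClosed g Z hZ]
        intro z hz
        have := hlt z hz
        omega
      rw [h0]
      exact lt_of_le_of_lt hle (WithBot.bot_lt_coe _)
    · have hle : topologicalKrullDim ↥Z ≤
          (((Groth.Agent.Lib.Helper21.FieldDim.td g ξ₀ - 1 : ℕ) : ℕ) : WithBot ℕ∞) := by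
        rw [Groth.Agent.Lib.Helper21.FieldDim.dim_le_iff_of_isLocallyClosed g Z hZ]
        intro z hz
        have := hlt z hz
        have h' : Groth.Agent.Lib.Helper21.FieldDim.td g z ≤
            Groth.Agent.Lib.Helper21.FieldDim.td g ξ₀ - 1 := by omega
        exact_mod_cast h'
      refine lt_of_le_of_lt hle ?_
      have : Groth.Agent.Lib.Helper21.FieldDim.td g ξ₀ - 1 <
          Groth.Agent.Lib.Helper21.FieldDim.td g ξ₀ := by omega
      exact_mod_cast this
  · intro hlt
    by_contra hnd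
    have hne : (interior (closure Z)).Nonempty := Set.nonempty_iff_ne_empty.mpr hnd
    obtain ⟨u, hu⟩ := hne
    obtain ⟨U, C, hU, hC, rfl⟩ := hZ
    have huc : u ∈ closure (U ∩ C) := interior_subset hu
    obtain ⟨z, hzO, hzZ⟩ := mem_closure_iff.mp huc _ isOpen_interior hu
    obtain ⟨ξ, hξ, hsp⟩ := Groth.Agent.Lib.Helper21.exists_maximal_specializes z
    have hξO : ξ ∈ interior (closure (U ∩ C)) := hsp.mem_open isOpen_interior hzO
    have hξU : ξ ∈ U := hsp.mem_open hU hzZ.1
    have hξC : ξ ∈ C :=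
      (closure_minimal Set.inter_subset_right hC) (interior_subset hξO)
    have h1 := (Groth.Agent.Lib.Helper21.FieldDim.dim_le_iff_of_isLocallyClosed g (U ∩ C)
      ⟨U, C, hU, hC, rfl⟩ _).mp le_rfl ξ ⟨hξU, hξC⟩
    rw [← hdimmax ξ hξ] at h1
    exact absurd hlt (not_lt.mpr h1)

end Groth.Agent.S4644
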