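import Groth.Statements.S4645
import Groth.Agent.Lib.Helper21.SepFibreConn
import Groth.Agent.Lib.Helper21.GaloisSplit
import Groth.Agent.S4621
-- import your own Groth.Agent.* helpers here

set_option autoImplicit false
open CategoryTheory AlgebraicGeometry
universe u
open FBase

namespace Groth.Agent.S4645

/-- Let X be a scheme over a field k with finitely many connected components, each of which contains a
point x such that the separable algebraic closure of k in κ(x) has finite degree over k. Then there
is a finite separable extension k'' of k such that all connected components of X ⊗_k k'' are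
geometrically connected over k'': for every extension field K of k'' and every point x' of X ⊗_k
k'', the inverse image in (X ⊗_k k'') ⊗_{k''} K of the connected component of x' is connected. -/
theorem result {k : Type u} [Field k] {X : Scheme.{u}}
    (f : X ⟶ Spec (CommRingCat.of k)) [Finite (_root_.ConnectedComponents ↥X)]
    (hx : ∀ c : _root_.ConnectedComponents ↥X, ∃ x : X, _root_.ConnectedComponents.mk x = c ∧
      FBase.ResidueFieldProp f x (fun K _ _ => FiniteDimensional k (separableClosure k K))) :
    ∃ (k'' : Type u) (_ : Field k'') (_ : Algebra k k''), FiniteDimensional k k'' ∧ Algebra.IsSeparable k k'' ∧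
      ∀ (K : Type u) [Field K] [Algebra k'' K] (x' : ↥(FBase.bc f k'')),
        _root_.IsConnected (⇑(FBase.bcπ (FBase.bcStr f k'') K) ⁻¹' connectedComponent x') := by
  classical
  choose xc hxc using hx
  choose φc hφc using (fun c => (hxc c).2)
  let alg : ∀ c, Algebra k (X.residueField (xc c)) := fun c => (φc c).toAlgebra
  have hfd : ∀ c, FiniteDimensional k (separableClosure k (X.residueField (xc c))) :=
    fun c => (hφc c).2
  have hφ' : ∀ c, Spec.map (CommRingCat.ofHom (algebraMap k (X.residueField (xc c)))) =
      X.fromSpecResidueField (xc c) ≫ f := fun c => (hφc c).1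
  obtain ⟨k'', i1, i2, hfin, hsep, hN⟩ :=
    Groth.Agent.Lib.Helper21.exists_finite_separable_splitting k
      (fun c : _root_.ConnectedComponents ↥X => separableClosure k (X.residueField (xc c)))
  refine ⟨k'', i1, i2, hfin, hsep, ?_⟩
  intro K _ _ x'
  have halg : Algebra.IsAlgebraic k k'' := Algebra.IsAlgebraic.of_finite k k''
  -- the connected component of `X` below `x'`
  set c : _root_.ConnectedComponents ↥X := _root_.ConnectedComponents.mk (FBase.bcπ f k'' x') with hc
  have hN' : ∀ a : separableClosure k (X.residueField (xc c)),
      ((minpoly k (a : X.residueField (xc c))).map (algebraMap k k'')).Splits := by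
    intro a
    rw [← IntermediateField.minpoly_eq]
    exact hN c a
  have hclopen : IsClopen (connectedComponent (xc c)) :=
    Groth.Agent.Lib.Helper21.isClopen_connectedComponent_of_finite (xc c)
  have hx'E : x' ∈ (Groth.Agent.Lib.Helper21.bcπ' f k'') ⁻¹' (connectedComponent (xc c)) := by
    change FBase.bcπ f k'' x' ∈ connectedComponent (xc c)
    rw [← _root_.ConnectedComponents.coe_eq_coe', (hxc c).1]
  obtain ⟨σ, hσ⟩ := Groth.Agent.Lib.Helper21.exists_subset_connectedComponent
    (fun σ : separableClosure k (X.residueField (xc c)) →ₐ[k] k'' =>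
      Set.range (Groth.Agent.Lib.Helper21.sepMap f (xc c) (hφ' c) k'' σ))
    (fun σ => Groth.Agent.Lib.Helper21.nonempty_range_sepMap f (xc c) (hφ' c) k'' σ)
    ((Groth.Agent.Lib.Helper21.bcπ' f k'') ⁻¹' (connectedComponent (xc c)))
    (hclopen.preimage (Groth.Agent.Lib.Helper21.bcπ' f k'').continuous)
    (fun U hU hUE hUne => Groth.Agent.Lib.Helper21.exists_range_sepMap_subset f (xc c) (hφ' c) k''
      hN' (connectedComponent (xc c)) isPreconnected_connectedComponent mem_connectedComponent
      U hU hUE hUne)
    x' hx'E
  have hirr := Groth.Agent.Lib.Helper21.irreducibleSpace_sepPiece (k := k) (xc c) k'' σ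
  obtain ⟨y⟩ := hirr.toNonempty
  have hcomp : connectedComponent x' =
      connectedComponent (Groth.Agent.Lib.Helper21.sepMap f (xc c) (hφ' c) k'' σ y) :=
    connectedComponent_eq (hσ ⟨y, rfl⟩)
  rw [hcomp]
  have hgi : GeometricallyIrreducible (Groth.Agent.Lib.Helper21.sepMap f (xc c) (hφ' c) k'' σ ≫
      FBase.bcStr f k'') :=
    Groth.Agent.Lib.Helper21.geometricallyIrreducible_sepMap_snd f (xc c) (hφ' c) k'' σ
  have hgc : GeometricallyConnected (Groth.Agent.Lib.Helper21.sepMap f (xc c) (hφ' c) k'' σ ≫
      FBase.bcStr f k'') :=
    Groth.Agent.Lib.Helper21.geometricallyConnected_of_geometricallyIrreducible _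
  exact Groth.Agent.S4621.result (k := k'') (K := K) (FBase.bcStr f k'')
    (Groth.Agent.Lib.Helper21.sepMap f (xc c) (hφ' c) k'' σ ≫ FBase.bcStr f k'')
    (Groth.Agent.Lib.Helper21.sepMap f (xc c) (hφ' c) k'' σ) rfl y

end Groth.Agent.S4645
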