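import Groth.Statements.S4647
import Mathlib
import Groth.Agent.Lib.Helper21.DomainStalks
import Groth.Agent.Lib.Helper21.ResFieldEFT
-- import your own Groth.Agent.* helpers here

set_option autoImplicit false
open CategoryTheory AlgebraicGeometry
universe u
open FDesc

namespace Groth.Agent.S4647

/-- Let f : X → Y be a faithfully flat (flat and surjective) morphism. If all local rings of X are
domains (in particular if X is locally integral) and the underlying space of Y is locally
Noetherian, then Y is locally integral: every point of Y has an open neighbourhood which is an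
integral scheme. -/
theorem result {X Y : Scheme.{u}} (f : X ⟶ Y) [Flat f] [Surjective f]
    (hX : ∀ x : X, IsDomain ↑(X.presheaf.stalk x))
    (hY : ∀ y : Y, ∃ U : Y.Opens, y ∈ U ∧ TopologicalSpace.NoetherianSpace ↥U) (y : Y) :
    ∃ U : Y.Opens, y ∈ U ∧ IsIntegral (U : Scheme.{u}) := by
  classical
  -- all local rings of `Y` are domains
  have hYdom : ∀ y : Y, IsDomain ↑(Y.presheaf.stalk y) := by
    intro y
    obtain ⟨x, rfl⟩ := f.surjective y
    have hinj : Function.Injective (f.stalkMap x).hom := by
      algebraize [(f.stalkMap x).hom]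
      have : Module.FaithfullyFlat (Y.presheaf.stalk (f x)) (X.presheaf.stalk x) :=
        @Module.FaithfullyFlat.of_flat_of_isLocalHom _ _ _ _ _ _ _
          (Flat.stalkMap f x) (f.toLRSHom.prop x)
      exact ‹RingHom.FaithfullyFlat _›.injective
    have := hX x
    exact hinj.isDomain _
  have hYred : IsReduced Y := by
    have : ∀ y : Y, _root_.IsReduced ↑(Y.presheaf.stalk y) := fun y => by
      have := hYdom y
      infer_instance
    exact isReduced_of_isReduced_stalk Y
  obtain ⟨U₀, hyU₀, hN⟩ := hY y
  -- the open subscheme `U₀` has finitely many components and domain stalks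
  have hN' : TopologicalSpace.NoetherianSpace ↥(U₀ : Scheme.{u}) := hN
  have hfin : (irreducibleComponents ↥(U₀ : Scheme.{u})).Finite :=
    TopologicalSpace.NoetherianSpace.finite_irreducibleComponents
  have hdom : ∀ u : ↥(U₀ : Scheme.{u}), IsDomain ↑((U₀ : Scheme.{u}).presheaf.stalk u) := by
    intro u
    have := hYdom u.1
    exact (U₀.stalkIso u).commRingCatIsoToRingEquiv.toMulEquiv.isDomain _
  obtain ⟨Z, hZ, hyZ⟩ := exists_mem_irreducibleComponents_subset_of_isIrreducible
    ({⟨y, hyU₀⟩} : Set ↥(U₀ : Scheme.{u})) isIrreducible_singleton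
  have hZopen : IsOpen Z :=
    Groth.Agent.Lib.Helper21.isOpen_of_mem_irreducibleComponents_of_isDomain_stalk hfin hdom hZ
  have hopen : IsOpen ((Subtype.val : ↥U₀ → Y) '' Z) :=
    U₀.isOpen.isOpenEmbedding_subtypeVal.isOpenMap _ hZopen
  let U : Y.Opens := ⟨_, hopen⟩
  have hyU : y ∈ U := ⟨⟨y, hyU₀⟩, hyZ rfl, rfl⟩
  refine ⟨U, hyU, ?_⟩
  have hirr : IsIrreducible ((Subtype.val : ↥U₀ → Y) '' Z) :=
    hZ.1.image _ continuous_subtype_val.continuousOn
  have : IrreducibleSpace ↥(U : Scheme.{u}) := by
    have hind : Topology.IsInducing (fun u : ↥(U : Scheme.{u}) => (u.1 : Y)) :=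
      Topology.IsInducing.subtypeVal
    refine Groth.Agent.Lib.Helper21.irreducibleSpace_of_isInducing_of_isIrreducible_range hind ?_
    have hr : Set.range (fun u : ↥(U : Scheme.{u}) => (u.1 : Y)) =
        (Subtype.val : ↥U₀ → Y) '' Z := Subtype.range_coe
    rw [hr]
    exact hirr
  exact isIntegral_of_irreducibleSpace_of_isReduced _

end Groth.Agent.S4647
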