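import Groth.Statements.S4648
import Groth.Agent.S2493
import Groth.Agent.S2495
import Groth.Agent.S4586
import Groth.Agent.Lib.Helper38.ProConsClosure
open Groth.Agent.Lib.Helper38.ProConsClosure

set_option autoImplicit false
open CategoryTheory AlgebraicGeometry
universe u
open FDesc

namespace Groth.Agent.S4648

/-- Let f : X → Y be a quasi-flat, surjective and quasi-compact morphism and Z a subset of Y. Then Z is
a locally closed pro-constructible subset of Y if and only if f⁻¹(Z) is a locally closed
pro-constructible subset of X. -/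
theorem result {X Y : Scheme.{u}} (f : X ⟶ Y)
    (hf : FDesc.IsQuasiFlat f) [Surjective f] [QuasiCompact f] (Z : Set ↥Y) :
    (IsLocallyClosed Z ∧ ProCons.IsProConstructible Z) ↔
      (IsLocallyClosed (⇑f ⁻¹' Z) ∧ ProCons.IsProConstructible (⇑f ⁻¹' Z)) := by
  have hgen := Groth.Agent.S2493.result f hf
  have hq := Groth.Agent.S2495.result f hf
  constructor
  · rintro ⟨h1, h2⟩
    exact ⟨h1.preimage f.continuous, Groth.Agent.S15542.result f Z h2⟩
  · rintro ⟨hlc, hpc⟩
    have hZpc : ProCons.IsProConstructible Z :=
      (Groth.Agent.S4586.result f (Or.inl inferInstance) Z).2.1.mpr hpc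
    refine ⟨?_, hZpc⟩
    have hcl : f.base ⁻¹' closure Z = closure (f.base ⁻¹' Z) := by
      apply subset_antisymm
      · intro x hx
        obtain ⟨z, hz, hzx⟩ := exists_specializes_of_mem_closure Z hZpc (f x) hx
        obtain ⟨x', hx'x, hfx'⟩ := hgen hzx
        have hmem : x' ∈ f.base ⁻¹' Z := by
          show f x' ∈ Z
          rw [hfx']; exact hz
        exact hx'x.mem_closed isClosed_closure (subset_closure hmem)
      · exact (isClosed_closure.preimage f.continuous).closure_subset_iff.mpr
          (Set.preimage_mono subset_closure)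
    rw [isLocallyClosed_iff_isOpen_coborder] at hlc ⊢
    rw [← hq.isOpen_preimage]
    have : f.base ⁻¹' coborder Z = coborder (f.base ⁻¹' Z) := by
      rw [coborder, coborder, Set.preimage_compl, Set.preimage_diff, hcl]
    rw [show (⇑f ⁻¹' coborder Z) = f.base ⁻¹' coborder Z from rfl, this]
    exact hlc


end Groth.Agent.S4648
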