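import Groth.Statements.S4650
import Mathlib.Topology.Sober
import Mathlib.AlgebraicGeometry.Properties

set_option autoImplicit false
open CategoryTheory AlgebraicGeometry
universe u
open FDesc

namespace Groth.Agent.S4650

/-- Let f : X → Y be a morphism of schemes along which generizations lift (this holds for flat,
quasi-flat or open morphisms). Then every irreducible component of X dominates an irreducible
component of Y: the closure of its image is an irreducible component of Y. -/
theorem result {X Y : Scheme.{u}} (f : X ⟶ Y)
    (hf : GeneralizingMap ⇑f) (T : Set ↥X) (hT : T ∈ irreducibleComponents ↥X) :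
    closure (⇑f '' T) ∈ irreducibleComponents ↥Y := by
  -- generic point of `T`
  have hTcl : IsClosed T := isClosed_of_mem_irreducibleComponents T hT
  have hξ : IsGenericPoint hT.1.genericPoint T := hT.1.isGenericPoint_genericPoint hTcl
  set ξ := hT.1.genericPoint with hξdef
  have himg : IsGenericPoint (f ξ) (closure (⇑f '' T)) := hξ.image f.continuous
  -- irreducible component of `f ξ`
  have hZ' : irreducibleComponent (f ξ) ∈ irreducibleComponents ↥Y :=
    irreducibleComponent_mem_irreducibleComponents (f ξ)
  have hZcl : IsClosed (irreducibleComponent (f ξ)) := isClosed_irreducibleComponent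
  have hη : IsGenericPoint hZ'.1.genericPoint (irreducibleComponent (f ξ)) :=
    hZ'.1.isGenericPoint_genericPoint hZcl
  set η := hZ'.1.genericPoint with hηdef
  have hspec : η ⤳ f ξ := hη.specializes mem_irreducibleComponent
  obtain ⟨ξ', hξ', hfξ'⟩ := hf hspec
  -- `closure {ξ'}` is irreducible and contains `T`, so equals `T`
  have hsub : T ⊆ closure {ξ'} := by
    rw [← hξ.def]
    exact closure_minimal (Set.singleton_subset_iff.mpr hξ'.mem_closure) isClosed_closure
  have heq : closure {ξ'} ⊆ T := hT.2 isIrreducible_singleton.closure hsub
  have hξ'T : ξ' ∈ T := heq (subset_closure rfl)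
  have h1 : irreducibleComponent (f ξ) ⊆ closure (⇑f '' T) := by
    rw [← hη.def]
    apply closure_minimal _ isClosed_closure
    rw [Set.singleton_subset_iff, ← hfξ']
    exact subset_closure ⟨ξ', hξ'T, rfl⟩
  have h2 : closure (⇑f '' T) ⊆ irreducibleComponent (f ξ) := by
    rw [← himg.def]
    exact closure_minimal (Set.singleton_subset_iff.mpr mem_irreducibleComponent) hZcl
  rw [h2.antisymm h1]
  exact hZ'

end Groth.Agent.S4650
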