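import Groth.Statements.S4651
import Groth.Agent.S4650
import Mathlib.Data.Set.Finite.Lattice

set_option autoImplicit false
open CategoryTheory AlgebraicGeometry
universe u
open FDesc

namespace Groth.Agent.S4651

/-- Let Y be a scheme whose family of irreducible components is locally finite (every point has an open
neighbourhood meeting only finitely many irreducible components), and let f : X → Y be a morphism
along which generizations lift (e.g. flat, quasi-flat or open) such that every fibre f⁻¹(y) is a
finite set (e.g. f quasi-finite or radicial). Then the family of irreducible components of X is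
locally finite. -/
theorem result {X Y : Scheme.{u}} (f : X ⟶ Y)
    (hY : ∀ y : Y, ∃ U : Set ↥Y, IsOpen U ∧ y ∈ U ∧ {Z ∈ irreducibleComponents ↥Y | (Z ∩ U).Nonempty}.Finite)
    (hf : GeneralizingMap ⇑f) (hfin : ∀ y : Y, (⇑f ⁻¹' {y}).Finite) (x : X) :
    ∃ U : Set ↥X, IsOpen U ∧ x ∈ U ∧ {T ∈ irreducibleComponents ↥X | (T ∩ U).Nonempty}.Finite := by
  obtain ⟨UY, hUYo, hxUY, hfinY⟩ := hY (f x)
  refine ⟨⇑f ⁻¹' UY, hUYo.preimage f.continuous, hxUY, ?_⟩
  -- the finite set of points of `X` lying over generic points of the components meeting `UY`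
  set 𝒵 : Set (Set ↥Y) := {Z ∈ irreducibleComponents ↥Y | (Z ∩ UY).Nonempty} with h𝒵
  set F : Set ↥X := ⋃ Z ∈ 𝒵, ⇑f ⁻¹' {y | IsGenericPoint y Z} with hF
  have hFfin : F.Finite := by
    apply Set.Finite.biUnion hfinY
    intro Z _
    apply Set.Finite.preimage' _ (fun b _ => hfin b)
    apply Set.Subsingleton.finite
    intro a ha b hb
    exact IsGenericPoint.eq ha hb
  apply (hFfin.image (fun ξ => closure ({ξ} : Set ↥X))).subset
  rintro T ⟨hT, hTU⟩
  have hTcl : IsClosed T := isClosed_of_mem_irreducibleComponents T hT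
  have hξ : IsGenericPoint hT.1.genericPoint T := hT.1.isGenericPoint_genericPoint hTcl
  refine ⟨hT.1.genericPoint, ?_, hξ.def⟩
  have hZ := Groth.Agent.S4650.result f hf T hT
  have himg : IsGenericPoint (f hT.1.genericPoint) (closure (⇑f '' T)) := hξ.image f.continuous
  have hξU : hT.1.genericPoint ∈ ⇑f ⁻¹' UY :=
    (hξ.mem_open_set_iff (hUYo.preimage f.continuous)).mpr hTU
  simp only [hF, Set.mem_iUnion, Set.mem_preimage, Set.mem_ofPred_eq, exists_prop]
  exact ⟨closure (⇑f '' T), ⟨hZ, ⟨f hT.1.genericPoint, himg.mem, hξU⟩⟩, himg⟩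

end Groth.Agent.S4651
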