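import Groth.Statements.S4652
import Groth.Agent.Lib.QCoh.Helper74_LocFreeStalk

set_option autoImplicit false
open CategoryTheory AlgebraicGeometry
universe u
open FDesc

namespace Groth.Agent.S4652

/-- Let X be a scheme, F a finitely presented O_X-module and x a point of X. Then F_x is a flat module
over the local ring O_{X,x} if and only if x has an open neighbourhood U such that the restriction
of F to U is finite locally free. -/
theorem result {X : Scheme.{u}} (F : X.Modules) (hF : CohB1.IsFP F) (x : X) :
    FlatMod.IsFlatAt F x ↔ ∃ U : X.Opens, x ∈ U ∧ FlatMod.IsFinLocFree ((Scheme.Modules.pullback U.ι).obj F) := by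
  have : F.IsFinitePresentation := hF
  rw [Groth.Agent.Lib.QCoh.isFlatAt_iff_exists_isFinLocFree_restrict F x]
  constructor
  · rintro ⟨U, hx, h⟩
    exact ⟨U, hx, Groth.Agent.Lib.QCoh.isFinLocFree_of_iso
      ((Scheme.Modules.restrictFunctorIsoPullback U.ι).app F) h⟩
  · rintro ⟨U, hx, h⟩
    exact ⟨U, hx, Groth.Agent.Lib.QCoh.isFinLocFree_of_iso
      ((Scheme.Modules.restrictFunctorIsoPullback U.ι).app F).symm h⟩

end Groth.Agent.S4652
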