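import Groth.Statements.S4666
import Mathlib
-- import your own Groth.Agent.* helpers here

set_option autoImplicit false
open CategoryTheory AlgebraicGeometry
universe u
open FDesc

namespace Groth.Agent.S4666

open CategoryTheory.Limits

lemma stalkMap_injective_of_flat {X Y : Scheme.{u}} (f : X ⟶ Y) [Flat f] (x : X) :
    Function.Injective (f.stalkMap x).hom := by
  algebraize [(f.stalkMap x).hom]
  have : Module.FaithfullyFlat (Y.presheaf.stalk (f x)) (X.presheaf.stalk x) :=
    @Module.FaithfullyFlat.of_flat_of_isLocalHom _ _ _ _ _ _ _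
      (Flat.stalkMap f x) (f.toLRSHom.prop x)
  exact ‹RingHom.FaithfullyFlat _›.injective

lemma app_injective_of_flat_of_surjective {X Y : Scheme.{u}} (f : X ⟶ Y) [Flat f] [Surjective f]
    (U : Y.Opens) : Function.Injective (f.app U).hom := by
  rw [injective_iff_map_eq_zero]
  intro s hs
  refine TopCat.Presheaf.section_ext Y.sheaf U s 0 ?_
  intro y hy
  obtain ⟨x, rfl⟩ := f.surjective y
  have h0 : (Y.presheaf.germ U (f x) hy).hom s = 0 := by
    apply stalkMap_injective_of_flat f x
    rw [Scheme.Hom.germ_stalkMap_apply, hs, map_zero, map_zero]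
  exact h0.trans (map_zero (Y.presheaf.germ U (f x) hy).hom).symm

lemma ker_eq_bot_of_flat_of_surjective {X Y : Scheme.{u}} (f : X ⟶ Y) [Flat f] [Surjective f] :
    f.ker = ⊥ := by
  rw [← le_bot_iff, Scheme.IdealSheafData.le_def]
  intro U
  refine (Scheme.Hom.ideal_ker_le f U).trans ?_
  rw [(RingHom.injective_iff_ker_eq_bot _).mp (app_injective_of_flat_of_surjective f U.1)]
  simp

/-- Let f : X → Y be a flat and surjective morphism of schemes. Then the map sending a quasi-coherent
sheaf of ideals of O_Y (a closed subscheme of Y) to its inverse image in X is injective. -/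
theorem result {X Y : Scheme.{u}} (f : X ⟶ Y) [Flat f] [Surjective f] :
    Function.Injective fun J : Y.IdealSheafData => J.comap f := by
  have key : ∀ J : Y.IdealSheafData, (J.comap f).map f = J := by
    intro J
    rw [Scheme.IdealSheafData.map, ← Scheme.IdealSheafData.comapIso_hom_fst, Category.assoc,
      pullback.condition, ← Category.assoc, Scheme.Hom.ker_comp]
    haveI : Flat ((J.comapIso f).hom ≫ pullback.snd f J.subschemeι) := inferInstance
    haveI : Surjective ((J.comapIso f).hom ≫ pullback.snd f J.subschemeι) := inferInstance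
    rw [ker_eq_bot_of_flat_of_surjective, Scheme.IdealSheafData.map_bot,
      Scheme.IdealSheafData.ker_subschemeι]
  intro J₁ J₂ h
  have h' : J₁.comap f = J₂.comap f := h
  rw [← key J₁, ← key J₂, h']

end Groth.Agent.S4666
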