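import Groth.Statements.S4672
import Groth.Agent.Lib.Helper21.IrrCompProduct
-- import your own Groth.Agent.* helpers here

set_option autoImplicit false
open CategoryTheory AlgebraicGeometry
universe u
open FBase

namespace Groth.Agent.S4672

open CategoryTheory.Limits in
/-- Let X and Y be locally Noetherian schemes over a field k such that X ×_k Y is locally Noetherian,
with projections p and q. Then a subset W of X ×_k Y is an irreducible component of X ×_k Y if and
only if there exist an irreducible component X' of X and an irreducible component Y' of Y such that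
W is a maximal irreducible subset of p⁻¹(X') ∩ q⁻¹(Y') (that is, an irreducible component of the
space underlying X' ×_k Y' for the reduced structures on X' and Y'). -/
theorem result {k : Type u} [Field k] {X Y : Scheme.{u}}
    (f : X ⟶ Spec (CommRingCat.of k)) (g : Y ⟶ Spec (CommRingCat.of k)) [IsLocallyNoetherian X]
    [IsLocallyNoetherian Y] [IsLocallyNoetherian (pullback f g)] (W : Set ↥(pullback f g)) :
    W ∈ irreducibleComponents ↥(pullback f g) ↔
      ∃ X' ∈ irreducibleComponents ↥X, ∃ Y' ∈ irreducibleComponents ↥Y,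
        Maximal (fun V : Set ↥(pullback f g) => IsIrreducible V ∧ V ⊆ ⇑(pullback.fst f g) ⁻¹' X' ∩ ⇑(pullback.snd f g) ⁻¹' Y') W := by
  constructor
  · intro hW
    have hWirr : IsIrreducible W := hW.1
    obtain ⟨X', hX'pre, hX'sub, hX'max⟩ := exists_preirreducible (⇑(pullback.fst f g) '' W)
      (hWirr.image _ (pullback.fst f g).continuous.continuousOn).isPreirreducible
    obtain ⟨Y', hY'pre, hY'sub, hY'max⟩ := exists_preirreducible (⇑(pullback.snd f g) '' W)
      (hWirr.image _ (pullback.snd f g).continuous.continuousOn).isPreirreducible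
    obtain ⟨w, hw⟩ := hWirr.nonempty
    have hX'irr : IsIrreducible X' := ⟨⟨_, hX'sub ⟨w, hw, rfl⟩⟩, hX'pre⟩
    have hY'irr : IsIrreducible Y' := ⟨⟨_, hY'sub ⟨w, hw, rfl⟩⟩, hY'pre⟩
    refine ⟨X', ⟨hX'irr, fun u hu hle => (hX'max u hu.isPreirreducible hle).le⟩,
      Y', ⟨hY'irr, fun u hu hle => (hY'max u hu.isPreirreducible hle).le⟩, ?_⟩
    refine ⟨⟨hWirr, fun z hz => ⟨hX'sub ⟨z, hz, rfl⟩, hY'sub ⟨z, hz, rfl⟩⟩⟩, ?_⟩
    intro V hV hWV
    exact hW.2 hV.1 hWV
  · rintro ⟨X', hX', Y', hY', hW⟩
    have hX'c : IsClosed X' := isClosed_of_mem_irreducibleComponents X' hX'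
    have hY'c : IsClosed Y' := isClosed_of_mem_irreducibleComponents Y' hY'
    obtain ⟨ω, hωW, hωX, hωY⟩ :=
      Groth.Agent.Lib.Helper21.exists_mem_generic_of_maximal f g hX'.1 hX'c hY'.1 hY'c hW
    have hWirr : IsIrreducible W := hW.1.1
    obtain ⟨W₁, hW₁pre, hWW₁, hW₁max⟩ := exists_preirreducible W hWirr.isPreirreducible
    have hW₁irr : IsIrreducible W₁ := ⟨⟨ω, hWW₁ hωW⟩, hW₁pre⟩
    have hW₁mem : W₁ ∈ irreducibleComponents ↥(pullback f g) :=
      ⟨hW₁irr, fun u hu hle => (hW₁max u hu.isPreirreducible hle).le⟩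
    have hW₁c : IsClosed W₁ := isClosed_of_mem_irreducibleComponents W₁ hW₁mem
    let ω₁ := hW₁irr.genericPoint
    have hω₁ : IsGenericPoint ω₁ W₁ := hW₁irr.isGenericPoint_genericPoint hW₁c
    have hω₁ω : ω₁ ⤳ ω := hω₁.specializes (hWW₁ hωW)
    -- `p ω₁ ∈ X'`
    have hpX : (pullback.fst f g) ω₁ ∈ X' := by
      have h1 : X' ⊆ closure {(pullback.fst f g) ω₁} := by
        intro x hx
        exact specializes_iff_mem_closure.1
          ((hω₁ω.map (pullback.fst f g).continuous).trans (hωX x hx))
      have h2 : closure {(pullback.fst f g) ω₁} ⊆ X' :=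
        hX'.2 isIrreducible_singleton.closure h1
      exact h2 (subset_closure rfl)
    have hqY : (pullback.snd f g) ω₁ ∈ Y' := by
      have h1 : Y' ⊆ closure {(pullback.snd f g) ω₁} := by
        intro y hy
        exact specializes_iff_mem_closure.1
          ((hω₁ω.map (pullback.snd f g).continuous).trans (hωY y hy))
      have h2 : closure {(pullback.snd f g) ω₁} ⊆ Y' :=
        hY'.2 isIrreducible_singleton.closure h1
      exact h2 (subset_closure rfl)
    have hW₁T : W₁ ⊆ ⇑(pullback.fst f g) ⁻¹' X' ∩ ⇑(pullback.snd f g) ⁻¹' Y' := by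
      intro w hw
      have hsp : ω₁ ⤳ w := hω₁.specializes hw
      exact ⟨(hsp.map (pullback.fst f g).continuous).mem_closed hX'c hpX,
        (hsp.map (pullback.snd f g).continuous).mem_closed hY'c hqY⟩
    have hW₁W : W₁ ⊆ W := hW.2 ⟨hW₁irr, hW₁T⟩ hWW₁
    have : W = W₁ := Set.Subset.antisymm hWW₁ hW₁W
    rw [this]
    exact hW₁mem

end Groth.Agent.S4672
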