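import Groth.Statements.S4674
import Mathlib.RingTheory.Flat.Equalizer
import Mathlib.LinearAlgebra.TensorProduct.Pi
import Mathlib.Algebra.Module.FinitePresentation

set_option autoImplicit false
open scoped TensorProduct
universe u v w
open FDesc

namespace Groth.Agent.S4674

/-- Let B be a flat A-algebra and M a finitely presented A-module. Then the annihilator of the B-module
B ⊗_A M is the ideal of B generated by the image of the annihilator of M. -/
theorem result {A : Type u} {B : Type v} [CommRing A] [CommRing B] [Algebra A B]
    [Module.Flat A B] (M : Type w) [AddCommGroup M] [Module A M] [Module.FinitePresentation A M] :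
    Module.annihilator B (B ⊗[A] M) = (Module.annihilator A M).map (algebraMap A B) := by
  apply le_antisymm
  · intro b hb
    rw [Module.mem_annihilator] at hb
    obtain ⟨n, s, hs⟩ := Module.Finite.exists_fin (R := A) (M := M)
    -- the map `a ↦ (a • s i)_i`
    let φ : A →ₗ[A] (Fin n → M) := LinearMap.pi fun i => LinearMap.toSpanSingleton A M (s i)
    have hker : ∀ a : A, a ∈ LinearMap.ker φ → a ∈ Module.annihilator A M := by
      intro a ha
      rw [← Submodule.annihilator_top, ← hs, Submodule.mem_annihilator_span]
      rintro ⟨_, i, rfl⟩
      have := congrFun (LinearMap.mem_ker.mp ha) i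
      simpa [φ] using this
    have hex : Function.Exact ((LinearMap.ker φ).subtype.lTensor B) (φ.lTensor B) :=
      Module.Flat.lTensor_exact B (LinearMap.exact_subtype_ker_map φ)
    have hx : (φ.lTensor B) (b ⊗ₜ[A] (1 : A)) = 0 := by
      apply (TensorProduct.piRight A A B (fun _ : Fin n => M)).injective
      rw [map_zero]
      ext i
      have h1 : b ⊗ₜ[A] s i = b • ((1 : B) ⊗ₜ[A] s i) := by
        rw [TensorProduct.smul_tmul', smul_eq_mul, mul_one]
      simp [φ, h1, hb]
    obtain ⟨y, hy⟩ := (hex _).mp hx
    -- multiplication map
    let μ : B ⊗[A] A →ₗ[A] B := (TensorProduct.rid A B).toLinearMap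
    have hμ : ∀ y : B ⊗[A] LinearMap.ker φ,
        μ ((LinearMap.ker φ).subtype.lTensor B y) ∈ (Module.annihilator A M).map (algebraMap A B) := by
      intro y
      induction y using TensorProduct.induction_on with
      | zero => simp
      | tmul b' a =>
        have : μ ((LinearMap.ker φ).subtype.lTensor B (b' ⊗ₜ[A] a)) = algebraMap A B (a : A) * b' := by
          simp [μ, Algebra.smul_def]
        rw [this]
        exact Ideal.mul_mem_right _ _ (Ideal.mem_map_of_mem _ (hker _ a.2))
      | add y z hy hz =>
        rw [map_add, map_add]
        exact Ideal.add_mem _ hy hz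
    have := hμ y
    rw [hy] at this
    simpa [μ] using this
  · rw [Ideal.map_le_iff_le_comap]
    intro a ha
    rw [Ideal.mem_comap, Module.mem_annihilator]
    rw [Module.mem_annihilator] at ha
    intro x
    induction x using TensorProduct.induction_on with
    | zero => simp
    | tmul b m =>
      rw [algebraMap_smul, TensorProduct.smul_tmul', TensorProduct.smul_tmul, ha,
        TensorProduct.tmul_zero]
    | add x y hx hy => rw [smul_add, hx, hy, add_zero]

end Groth.Agent.S4674
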