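import Groth.Statements.S4675
import Mathlib.RingTheory.Noetherian.Orzech


set_option autoImplicit false
universe u v
open FDesc

namespace Groth.Agent.S4675

/-- Let B be a ring, not necessarily commutative, and V, W two left B-modules which are isomorphic. For
a B-linear map u : V → W the following are equivalent: every B-linear map V → W can be written
uniquely as u ∘ c with c a B-linear endomorphism of V (that is, u is a basis of Hom_B(V, W) for its
right module structure over End_B(V)); u is bijective. -/
theorem result {B : Type u} [Ring B] {V W : Type v} [AddCommGroup V] [AddCommGroup W]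
    [Module B V] [Module B W] (e : V ≃ₗ[B] W) (u : V →ₗ[B] W) :
    (∀ v : V →ₗ[B] W, ∃! c : V →ₗ[B] V, v = u ∘ₗ c) ↔ Function.Bijective u := by
  constructor
  · intro h
    obtain ⟨c₀, hc₀, -⟩ := h e.toLinearMap
    have hsurj : Function.Surjective u := by
      intro w
      refine ⟨c₀ (e.symm w), ?_⟩
      have := congrArg (fun φ : V →ₗ[B] W => φ (e.symm w)) hc₀
      simpa using this.symm
    refine ⟨?_, hsurj⟩
    -- the projection `p = id - c₀ ∘ e⁻¹ ∘ u` satisfies `u ∘ p = 0`
    let p : V →ₗ[B] V := LinearMap.id - c₀ ∘ₗ e.symm.toLinearMap ∘ₗ u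
    have hup : u ∘ₗ p = 0 := by
      ext x
      have h1 : u (c₀ (e.symm (u x))) = u x := by
        have := congrArg (fun φ : V →ₗ[B] W => φ (e.symm (u x))) hc₀
        simpa using this.symm
      simp [p, h1]
    obtain ⟨c, -, huniq⟩ := h 0
    have hp0 : p = 0 := (huniq p hup.symm).trans (huniq 0 (by simp)).symm
    rw [← LinearMap.ker_eq_bot, eq_bot_iff]
    intro x hx
    have hx' : u x = 0 := hx
    have := congrArg (fun φ : V →ₗ[B] V => φ x) hp0
    simp only [p, LinearMap.sub_apply, LinearMap.id_apply, LinearMap.comp_apply,
      LinearEquiv.coe_coe, hx', map_zero, sub_zero, LinearMap.zero_apply] at this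
    simpa using this
  · intro hu v
    let eu : V ≃ₗ[B] W := LinearEquiv.ofBijective u hu
    refine ⟨eu.symm.toLinearMap ∘ₗ v, ?_, ?_⟩
    · ext x
      simp [eu]
    · intro c hc
      ext x
      have : v x = u (c x) := by rw [hc]; rfl
      simp [eu, this]

end Groth.Agent.S4675
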