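import Groth.Statements.S4677
import Groth.Agent.Lib.Helper62.PerfDescent
import Mathlib

set_option autoImplicit false
set_option linter.style.haveILetI false
open scoped TensorProduct
universe u
open FBase

namespace Groth.Agent.S4677

open Groth.Agent.Lib.Helper62

/-- for a purely inseparable extension `k'/k`, a `q`-power of any element of `k' ⊗[k] K` comes from
`K`. -/
theorem exists_pow_mem_range (k k' K : Type u) [Field k] [Field k'] [Algebra k k']
    [IsPurelyInseparable k k'] [Field K] [Algebra k K] (q : ℕ) [ExpChar k q] (t : k' ⊗[k] K) :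
    ∃ (n : ℕ) (y : K), t ^ q ^ n = (1 : k') ⊗ₜ[k] y := by
  haveI : ExpChar (k' ⊗[k] K) q :=
    expChar_of_injective_algebraMap (algebraMap k (k' ⊗[k] K)).injective q
  induction t using TensorProduct.induction_on with
  | zero => exact ⟨0, 0, by simp⟩
  | tmul c x =>
    obtain ⟨n, c0, hc0⟩ := IsPurelyInseparable.pow_mem k q c
    refine ⟨n, c0 • x ^ q ^ n, ?_⟩
    rw [Algebra.TensorProduct.tmul_pow, ← hc0, Algebra.algebraMap_eq_smul_one,
      TensorProduct.smul_tmul]
  | add a b ha hb =>
    obtain ⟨n₁, y₁, h₁⟩ := ha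
    obtain ⟨n₂, y₂, h₂⟩ := hb
    refine ⟨n₁ + n₂, y₁ ^ q ^ n₂ + y₂ ^ q ^ n₁, ?_⟩
    rw [add_pow_expChar_pow, pow_add, pow_mul, h₁, mul_comm (q ^ n₁), pow_mul, h₂,
      Algebra.TensorProduct.tmul_pow, Algebra.TensorProduct.tmul_pow, one_pow, one_pow,
      TensorProduct.tmul_add]

/-- for a purely inseparable extension `k'/k` and a field `K`, every maximal ideal of `k' ⊗[k] K`
is the nilradical. -/
theorem eq_nilradical_of_isMaximal (k k' K : Type u) [Field k] [Field k'] [Algebra k k']
    [IsPurelyInseparable k k'] [Field K] [Algebra k K] (m : Ideal (k' ⊗[k] K)) (hm : m.IsMaximal) :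
    m = nilradical (k' ⊗[k] K) := by
  obtain ⟨q, hq⟩ := ExpChar.exists k
  apply le_antisymm
  · intro t ht
    obtain ⟨n, y, hy⟩ := exists_pow_mem_range k k' K q t
    by_cases h0 : y = 0
    · rw [h0, TensorProduct.tmul_zero] at hy
      exact mem_nilradical.mpr ⟨q ^ n, hy⟩
    · exfalso
      have h1 : (1 : k') ⊗ₜ[k] y ∈ m := hy ▸ m.pow_mem_of_mem ht _ (pow_pos (expChar_pos k q) n)
      have h2 : ((1 : k') ⊗ₜ[k] y) * ((1 : k') ⊗ₜ[k] y⁻¹) = 1 := by
        rw [Algebra.TensorProduct.tmul_mul_tmul, mul_one, mul_inv_cancel₀ h0]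
        rfl
      exact hm.ne_top ((Ideal.eq_top_iff_one _).mpr (h2 ▸ m.mul_mem_right _ h1))
  · exact nilradical_le_prime m

theorem main {k K : Type u} [Field k] [Field K] [Algebra k K]
    [Algebra.EssFiniteType k K] :
    ∃ (k' : Type u) (_ : Field k') (_ : Algebra k k'), FiniteDimensional k k' ∧ IsPurelyInseparable k k' ∧
      ∀ (m : Ideal (k' ⊗[k] K)), m.IsMaximal → Algebra.IsGeometricallyReduced k' ((k' ⊗[k] K) ⧸ m) := by
  haveI : Algebra.EssFiniteType (perfectClosure k (AlgebraicClosure k))
      ((perfectClosure k (AlgebraicClosure k)) ⊗[k] K) := inferInstance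
  have hN : IsNoetherianRing ((perfectClosure k (AlgebraicClosure k)) ⊗[k] K) :=
    Algebra.EssFiniteType.isNoetherianRing (perfectClosure k (AlgebraicClosure k))
      ((perfectClosure k (AlgebraicClosure k)) ⊗[k] K)
  obtain ⟨k', hk'F, hk'A, hfin, hpi, hgr⟩ :=
    PerfDescent.main k K (perfectClosure k (AlgebraicClosure k)) hN
  refine ⟨k', hk'F, hk'A, hfin, hpi, ?_⟩
  intro m hm
  rw [eq_nilradical_of_isMaximal k k' K m hm]
  exact hgr


/-- Let K be a finitely generated extension field of a field k. Then there exists a finite purely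
inseparable extension k' of k such that, for every maximal ideal m of the ring k' ⊗_k K, the residue
field (k' ⊗_k K)/m is geometrically reduced over k' (a separable, not necessarily algebraic,
extension of k'). -/
theorem result {k K : Type u} [Field k] [Field K] [Algebra k K]
    [Algebra.EssFiniteType k K] :
    ∃ (k' : Type u) (_ : Field k') (_ : Algebra k k'), FiniteDimensional k k' ∧ IsPurelyInseparable k k' ∧
      ∀ (m : Ideal (k' ⊗[k] K)), m.IsMaximal → Algebra.IsGeometricallyReduced k' ((k' ⊗[k] K) ⧸ m) := by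
  exact main

end Groth.Agent.S4677
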