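import Groth.Statements.S4681
import Mathlib.RingTheory.Flat.FaithfullyFlat.Algebra
import Mathlib.AlgebraicGeometry.Morphisms.Flat

set_option autoImplicit false
set_option linter.style.haveILetI false
open CategoryTheory AlgebraicGeometry
universe u
open FDesc

namespace Groth.Agent.S4681

open TensorProduct in
/-- Flatness descends along a faithfully flat module: if `M` is `A`-flat and faithfully flat over
`B`, then `B` is `A`-flat. -/
theorem flat_of_flat_of_faithfullyFlat_module (A B M : Type u) [CommRing A] [CommRing B]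
    [Algebra A B] [AddCommGroup M] [Module A M] [Module B M] [IsScalarTower A B M]
    [Module.Flat A M] [Module.FaithfullyFlat B M] : Module.Flat A B := by
  rw [Module.Flat.iff_lTensor_preserves_injective_linearMap]
  intro N P _ _ _ _ f hf
  have h1 : Function.Injective (LinearMap.lTensor M f) :=
    Module.Flat.lTensor_preserves_injective_linearMap f hf
  change Function.Injective (AlgebraTensorModule.lTensor B B f)
  rw [← Module.FaithfullyFlat.lTensor_injective_iff_injective B M]
  have h2 := AlgebraTensorModule.lTensor_comp_cancelBaseChange (R := A) (A := B) (B := B)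
    (M := M) (N := N) (Q := P) f
  have h3 : ∀ x, AlgebraTensorModule.cancelBaseChange A B B M P
      (LinearMap.lTensor M (AlgebraTensorModule.lTensor B B f) x) =
      LinearMap.lTensor M f (AlgebraTensorModule.cancelBaseChange A B B M N x) := by
    intro x
    exact (LinearMap.congr_fun h2 x).symm
  intro x y hxy
  apply (AlgebraTensorModule.cancelBaseChange A B B M N).injective
  apply h1
  rw [← h3, ← h3, hxy]

section Alg

variable {A B C M : Type u} [CommRing A] [CommRing B] [CommRing C]
  [AddCommGroup M] [Module C M] (φ : A →+* B) (ψ : B →+* C) (χ : A →+* C)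
  (hχ : χ = ψ.comp φ)

include hχ in
theorem flat_comp (hφ : φ.Flat) (hM : letI := Module.compHom M ψ; Module.Flat B M) :
    letI := Module.compHom M χ; Module.Flat A M := by
  subst hχ
  letI := φ.toAlgebra
  letI mB : Module B M := Module.compHom M ψ
  letI mA : Module A M := Module.compHom M (ψ.comp φ)
  haveI : IsScalarTower A B M := .of_algebraMap_smul fun a m => rfl
  haveI : Module.Flat A B := hφ
  haveI : Module.Flat B M := hM
  exact Module.Flat.trans A B M

include hχ in
theorem smul_top_ne_top [IsLocalRing A] [IsLocalRing B] [IsLocalHom φ]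
    (h : letI := Module.compHom M ψ
      IsLocalRing.maximalIdeal B • (⊤ : Submodule B M) ≠ ⊤) :
    letI := Module.compHom M χ
    IsLocalRing.maximalIdeal A • (⊤ : Submodule A M) ≠ ⊤ := by
  subst hχ
  letI mB : Module B M := Module.compHom M ψ
  letI mA : Module A M := Module.compHom M (ψ.comp φ)
  intro htop
  apply h
  rw [eq_top_iff]
  intro m _
  have hm : m ∈ IsLocalRing.maximalIdeal A • (⊤ : Submodule A M) := by rw [htop]; trivial
  refine Submodule.smul_induction_on hm (fun a ha n _ => ?_) (fun x y hx hy => add_mem hx hy)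
  change φ a • n ∈ _
  exact Submodule.smul_mem_smul (map_nonunit φ a ha) trivial

include hχ in
theorem flat_of_flat [IsLocalRing B] (hM : letI := Module.compHom M ψ; Module.Flat B M)
    (hne : letI := Module.compHom M ψ
      IsLocalRing.maximalIdeal B • (⊤ : Submodule B M) ≠ ⊤)
    (hMA : letI := Module.compHom M χ; Module.Flat A M) : φ.Flat := by
  subst hχ
  letI := φ.toAlgebra
  letI mB : Module B M := Module.compHom M ψ
  letI mA : Module A M := Module.compHom M (ψ.comp φ)
  haveI : IsScalarTower A B M := .of_algebraMap_smul fun a m => rfl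
  haveI : Module.Flat A M := hMA
  haveI : Module.Flat B M := hM
  haveI : Module.FaithfullyFlat B M :=
    ⟨fun m hm => by rw [IsLocalRing.eq_maximalIdeal hm]; exact hne⟩
  exact flat_of_flat_of_faithfullyFlat_module A B M

end Alg

/-- Let f : X → Y and g : Y → Z be morphisms of schemes and F a quasi-coherent O_X-module which is
faithfully flat relative to Y: flat over Y, and for every point y of Y there is a point x over y
with F_x ⊗ κ(y) ≠ 0. Then g is flat and surjective (faithfully flat) if and only if F is faithfully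
flat relative to Z for the morphism f followed by g: flat over Z, and for every point z of Z there
is a point x of X over z with F_x ⊗ κ(z) ≠ 0. -/
theorem result {X Y Z : Scheme.{u}} (f : X ⟶ Y) (g : Y ⟶ Z)
    (F : X.Modules) (hF : Coh.IsQCoh F) (hFfl : FlatMod.IsFlatOver f F)
    (hFff : (∀ y : ↥Y, ∃ x : ↥X, f x = y ∧
      letI := FlatMod.moduleStalkOver f F x
      IsLocalRing.maximalIdeal (Y.presheaf.stalk (f x)) • (⊤ : Submodule (Y.presheaf.stalk (f x)) (F.presheaf.stalk x)) ≠ ⊤)) :
    (Flat g ∧ Surjective g) ↔
      (FlatMod.IsFlatOver (f ≫ g) F ∧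
        (∀ z : ↥Z, ∃ x : ↥X, (f ≫ g) x = z ∧
      letI := FlatMod.moduleStalkOver (f ≫ g) F x
      IsLocalRing.maximalIdeal (Z.presheaf.stalk ((f ≫ g) x)) • (⊤ : Submodule (Z.presheaf.stalk ((f ≫ g) x)) (F.presheaf.stalk x)) ≠ ⊤)) := by
  have hcomp : ∀ x : X, ((f ≫ g).stalkMap x).hom =
      (f.stalkMap x).hom.comp (g.stalkMap (f x)).hom := fun x => by
    rw [Scheme.Hom.stalkMap_comp]; rfl
  constructor
  · rintro ⟨hgfl, hgs⟩
    rw [Flat.iff_flat_stalkMap] at hgfl
    refine ⟨fun x => flat_comp (g.stalkMap (f x)).hom (f.stalkMap x).hom _ (hcomp x)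
      (hgfl (f x)) (hFfl x), fun z => ?_⟩
    obtain ⟨y, rfl⟩ := hgs.surj z
    obtain ⟨x, rfl, hx⟩ := hFff y
    exact ⟨x, rfl, smul_top_ne_top (g.stalkMap (f x)).hom (f.stalkMap x).hom _ (hcomp x) hx⟩
  · rintro ⟨hfl, hff⟩
    constructor
    · rw [Flat.iff_flat_stalkMap]
      intro y
      obtain ⟨x, rfl, hx⟩ := hFff y
      exact flat_of_flat (g.stalkMap (f x)).hom (f.stalkMap x).hom _ (hcomp x) (hFfl x) hx (hfl x)
    · refine ⟨fun z => ?_⟩
      obtain ⟨x, rfl, -⟩ := hff z
      exact ⟨f x, rfl⟩

end Groth.Agent.S4681
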