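import Groth.Statements.S4682
-- import your own Groth.Agent.* helpers here
import Mathlib
import Groth.Agent.S9360
import Groth.Agent.S2285

set_option autoImplicit false
open CategoryTheory AlgebraicGeometry
universe u
open FBase

namespace Groth.Agent.S4682

open CategoryTheory.Limits TensorProduct

lemma isReduced_tensor {K' K : Type u} [Field K'] [Field K] [Algebra K' K]
    [GeometricallyReduced (Spec.map (CommRingCat.ofHom (algebraMap K' K)))]
    (A : Type u) [CommRing A] [Algebra K' A] [IsReduced A] : IsReduced (K ⊗[K'] A) := by
  apply IsReduced.tensorProduct_of_flat_of_forall_fg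
  intro B hB
  have : Algebra.FiniteType K' B := ⟨(Subalgebra.fg_top B).mpr hB⟩
  have : IsNoetherianRing B := Algebra.FiniteType.isNoetherianRing K' B
  have : IsReduced B := isReduced_of_injective B.val Subtype.val_injective
  have : IsReduced (Spec (CommRingCat.of B)) := (affine_isReduced_iff _).mpr ‹_›
  have h1 : IsReduced (pullback (Spec.map (CommRingCat.ofHom (algebraMap K' B)))
      (Spec.map (CommRingCat.ofHom (algebraMap K' K)))) := inferInstance
  have h2 : IsReduced (Spec (CommRingCat.of (B ⊗[K'] K))) :=
    isReduced_of_isOpenImmersion (pullbackSpecIso K' B K).inv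
  have h3 : IsReduced (B ⊗[K'] K) := (affine_isReduced_iff _).mp h2
  exact isReduced_of_injective (Algebra.TensorProduct.comm K' K B)
    (Algebra.TensorProduct.comm K' K B).injective

lemma isReduced_pullback_spec {K' K : Type u} [Field K'] [Field K] [Algebra K' K]
    [GeometricallyReduced (Spec.map (CommRingCat.ofHom (algebraMap K' K)))]
    (R : CommRingCat.{u}) (φ : CommRingCat.of K' ⟶ R) [IsReduced R] :
    IsReduced (pullback (Spec.map φ) (Spec.map (CommRingCat.ofHom (algebraMap K' K)))) := by
  letI : Algebra K' R := φ.hom.toAlgebra
  have h3 : IsReduced (K ⊗[K'] R) := isReduced_tensor R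
  have h4 : IsReduced (R ⊗[K'] K) := isReduced_of_injective (Algebra.TensorProduct.comm K' R K)
    (Algebra.TensorProduct.comm K' R K).injective
  have h2 : IsReduced (Spec (CommRingCat.of (R ⊗[K'] K))) := (affine_isReduced_iff _).mpr h4
  exact isReduced_of_isOpenImmersion (pullbackSpecIso K' R K).hom

lemma isReduced_pullback_field {K' K : Type u} [Field K'] [Field K] [Algebra K' K]
    [GeometricallyReduced (Spec.map (CommRingCat.ofHom (algebraMap K' K)))]
    {Z : Scheme.{u}} (f : Z ⟶ Spec (CommRingCat.of K')) [IsReduced Z] :
    IsReduced (pullback f (Spec.map (CommRingCat.ofHom (algebraMap K' K)))) := by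
  apply +allowSynthFailures @IsReduced.of_openCover
    (𝒰 := Scheme.Pullback.openCoverOfLeft Z.affineOpenCover.openCover f _)
  intro i
  have : IsReduced (Spec (Z.affineOpenCover.X i)) :=
    isReduced_of_isOpenImmersion (Z.affineOpenCover.f i)
  have hR : _root_.IsReduced (Z.affineOpenCover.X i) := (affine_isReduced_iff _).mp this
  have := isReduced_pullback_spec (K := K) _ (Spec.preimage (Z.affineOpenCover.f i ≫ f))
  rw [Spec.map_preimage] at this
  exact this

lemma eq_vanishingIdeal_of_isReduced {X : Scheme.{u}} (I : X.IdealSheafData)
    [IsReduced I.subscheme] : I = Scheme.IdealSheafData.vanishingIdeal I.support := by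
  apply le_antisymm
  · rw [Scheme.IdealSheafData.vanishingIdeal_support]
    exact Scheme.IdealSheafData.le_radical _
  · have := Groth.Agent.S9360.vanishingIdeal_le_ker I.subschemeι I.support
      (by rw [Scheme.IdealSheafData.range_subschemeι])
    rwa [Scheme.IdealSheafData.ker_subschemeι] at this


/-- Let Y be a scheme over a field K', let K be an extension field of K' which is separable over K'
(Spec K → Spec K' is geometrically reduced), let g : Y ⊗_{K'} K → Y be the projection and T a closed
subset of Y ⊗_{K'} K. Then T is defined over K' as a closed subset, that is T = g⁻¹(T') for some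
closed subset T' of Y, if and only if the reduced closed subscheme of Y ⊗_{K'} K with support T is
defined over K', that is, there is a quasi-coherent ideal sheaf of O_Y whose inverse image in Y
⊗_{K'} K is the vanishing ideal sheaf of T. -/
theorem result {K' K : Type u} [Field K'] [Field K] [Algebra K' K]
    {Y : Scheme.{u}} (fY : Y ⟶ Spec (CommRingCat.of K'))
    [GeometricallyReduced (Spec.map (CommRingCat.ofHom (algebraMap K' K)))]
    (T : TopologicalSpace.Closeds ↥(FBase.bc fY K)) :
    (∃ T' : TopologicalSpace.Closeds ↥Y, (T : Set ↥(FBase.bc fY K)) = ⇑(FBase.bcπ fY K) ⁻¹' (T' : Set ↥Y)) ↔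
      ∃ J : Y.IdealSheafData, J.comap (FBase.bcπ fY K) = Scheme.IdealSheafData.vanishingIdeal T := by
  constructor
  · rintro ⟨T', hT'⟩
    refine ⟨Scheme.IdealSheafData.vanishingIdeal T', ?_⟩
    set J := Scheme.IdealSheafData.vanishingIdeal T' with hJ
    have hsupp : (J.comap (FBase.bcπ fY K)).support = T := by
      rw [Scheme.IdealSheafData.support_comap]
      ext1
      rw [TopologicalSpace.Closeds.coe_preimage, hT', hJ,
        Scheme.IdealSheafData.coe_support_vanishingIdeal]
    have : IsReduced J.subscheme := by
      rw [hJ]
      exact Groth.Agent.S2285.isReduced_vanishingIdeal_subscheme T'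
    have hred : IsReduced (J.comap (FBase.bcπ fY K)).subscheme := by
      have h1 : IsReduced (pullback (J.subschemeι ≫ fY)
          (Spec.map (CommRingCat.ofHom (algebraMap K' K)))) := isReduced_pullback_field _
      have h2 : IsReduced (pullback (FBase.bcπ fY K) J.subschemeι) := by
        have e := pullbackRightPullbackFstIso fY
          (Spec.map (CommRingCat.ofHom (algebraMap K' K))) J.subschemeι
        have h3 : IsReduced (pullback J.subschemeι (pullback.fst fY
            (Spec.map (CommRingCat.ofHom (algebraMap K' K))))) :=
          isReduced_of_isOpenImmersion e.hom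
        have h4 : IsReduced (pullback J.subschemeι (FBase.bcπ fY K)) := h3
        exact isReduced_of_isOpenImmersion (pullbackSymmetry _ _).hom
      exact isReduced_of_isOpenImmersion (J.comapIso (FBase.bcπ fY K)).hom
    rw [eq_vanishingIdeal_of_isReduced (J.comap (FBase.bcπ fY K)), hsupp]
  · rintro ⟨J, hJ⟩
    refine ⟨J.support, ?_⟩
    have := congrArg (fun I : (FBase.bc fY K).IdealSheafData => (I.support : Set (FBase.bc fY K))) hJ
    simp only [Scheme.IdealSheafData.coe_support_vanishingIdeal,
      Scheme.IdealSheafData.support_comap, TopologicalSpace.Closeds.coe_preimage] at this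
    exact this.symm

end Groth.Agent.S4682
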