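import Groth.Statements.S4686
import Mathlib
import Groth.Agent.Lib.Helper22.FinFlatGeo
import Groth.Agent.Lib.Helper22.EtInv
import Groth.Agent.Lib.Helper35.FiberStalk
-- import your own Groth.Agent.* helpers here

set_option autoImplicit false
open CategoryTheory AlgebraicGeometry
universe u
open FBase

namespace Groth.Agent.S4686

section PRE
open IsLocalRing Groth.Agent.Lib.Helper22 Groth.Agent.Lib.Helper22.FinFlatGeo CategoryTheory.Limits

section ker
variable {P X S Z : Scheme.{u}} {j : P ⟶ X} {ρ : P ⟶ Z} {h : X ⟶ S} {i : Z ⟶ S}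

lemma gmap_surj [IsClosedImmersion i] (z : Z) (s : S) (hs : i z = s) :
    Function.Surjective (gmap i z s hs) := by
  subst hs
  rw [gmap_self]
  exact i.stalkMap_surjective z

theorem ker_ge (hsq : IsPullback j ρ h i) (p : P) (hs : i (ρ p) = h (j p)) :
    Ideal.map (h.stalkMap (j p)).hom (RingHom.ker (gmap i (ρ p) (h (j p)) hs)) ≤
      RingHom.ker (j.stalkMap p).hom := by
  have key : ∀ (F : P ⟶ S) (e : F = ρ ≫ i) (hs' : i (ρ p) = F p) (a : S.presheaf.stalk (F p)),
      gmap i (ρ p) (F p) hs' a = 0 → (F.stalkMap p).hom a = 0 := by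
    rintro F rfl hs' a ha
    have h1 : gmap i (ρ p) ((ρ ≫ i) p) hs' = (i.stalkMap (ρ p)).hom := gmap_self i (ρ p)
    rw [h1] at ha
    rw [Scheme.Hom.stalkMap_comp]
    exact (congrArg (ρ.stalkMap p).hom ha).trans (map_zero _)
  rw [Ideal.map_le_iff_le_comap]
  intro a ha
  rw [RingHom.mem_ker] at ha
  rw [Ideal.mem_comap, RingHom.mem_ker]
  have := key (j ≫ h) hsq.w hs a ha
  rw [Scheme.Hom.stalkMap_comp] at this
  exact this

theorem ker_le (hsq : IsPullback j ρ h i) [IsClosedImmersion i] (p : P)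
    (hs : i (ρ p) = h (j p)) :
    RingHom.ker (j.stalkMap p).hom ≤
      Ideal.map (h.stalkMap (j p)).hom (RingHom.ker (gmap i (ρ p) (h (j p)) hs)) := by
  haveI : IsClosedImmersion j := MorphismProperty.of_isPullback (P := @IsClosedImmersion) hsq.flip
    inferInstance
  obtain ⟨x, hx⟩ : ∃ x : X, x = j p := ⟨_, rfl⟩
  obtain ⟨z, hz⟩ : ∃ z : Z, z = ρ p := ⟨_, rfl⟩
  have hs2 : i z = h x := by rw [hx, hz]; exact hs
  let ψ : S.presheaf.stalk (h x) →+* Z.presheaf.stalk z := gmap i z (h x) hs2
  have hψs : Function.Surjective ψ := gmap_surj z (h x) hs2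
  haveI hψl : IsLocalHom ψ := gmap_local i z (h x) hs2
  obtain ⟨𝔞, h𝔞def⟩ : ∃ 𝔞 : Ideal (X.presheaf.stalk x), 𝔞 =
      Ideal.map (h.stalkMap x).hom (RingHom.ker ψ) := ⟨_, rfl⟩
  have hN : RingHom.ker ψ ≤ maximalIdeal (S.presheaf.stalk (h x)) := by
    intro a ha
    rw [mem_maximalIdeal, mem_nonunits_iff]
    intro hu
    have h1 := hu.map ψ
    rw [RingHom.mem_ker.mp ha] at h1
    exact not_isUnit_zero h1
  have h𝔞 : 𝔞 ≤ maximalIdeal (X.presheaf.stalk x) := by
    rw [h𝔞def, Ideal.map_le_iff_le_comap]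
    intro a ha
    have ha' := hN ha
    rw [Ideal.mem_comap, mem_maximalIdeal, mem_nonunits_iff]
    intro hu
    exact (mem_maximalIdeal a).mp ha' (isUnit_of_map_unit (h.stalkMap x).hom a hu)
  have h𝔞top : 𝔞 ≠ ⊤ := fun h0 =>
    (maximalIdeal.isMaximal _).ne_top (top_le_iff.mp (h0 ▸ h𝔞))
  haveI : Nontrivial (X.presheaf.stalk x ⧸ 𝔞) := Ideal.Quotient.nontrivial_iff.mpr h𝔞top
  haveI : IsLocalRing (X.presheaf.stalk x ⧸ 𝔞) :=
    IsLocalRing.of_surjective' (Ideal.Quotient.mk 𝔞) Ideal.Quotient.mk_surjective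
  let qm : X.presheaf.stalk x ⟶ CommRingCat.of (X.presheaf.stalk x ⧸ 𝔞) :=
    CommRingCat.ofHom (Ideal.Quotient.mk 𝔞)
  haveI : IsLocalHom qm.hom := IsLocalHom.of_surjective _ Ideal.Quotient.mk_surjective
  let α : Spec (CommRingCat.of (X.presheaf.stalk x ⧸ 𝔞)) ⟶ X := Spec.map qm ≫ X.fromSpecStalk x
  have hkill : RingHom.ker ψ ≤ RingHom.ker ((Ideal.Quotient.mk 𝔞).comp (h.stalkMap x).hom) := by
    intro a ha
    rw [RingHom.mem_ker]
    exact Ideal.Quotient.eq_zero_iff_mem.mpr (h𝔞def ▸ Ideal.mem_map_of_mem _ ha)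
  let ρ' : Z.presheaf.stalk z ⟶ CommRingCat.of (X.presheaf.stalk x ⧸ 𝔞) :=
    CommRingCat.ofHom (ψ.liftOfSurjective hψs ⟨(Ideal.Quotient.mk 𝔞).comp (h.stalkMap x).hom, hkill⟩)
  have hρ' : (S.presheaf.stalkSpecializes (specializes_of_eq hs2) ≫ i.stalkMap z) ≫ ρ' =
      h.stalkMap x ≫ qm := by
    ext a
    exact RingHom.liftOfSurjective_comp_apply ψ hψs
      ⟨(Ideal.Quotient.mk 𝔞).comp (h.stalkMap x).hom, hkill⟩ a
  let β : Spec (CommRingCat.of (X.presheaf.stalk x ⧸ 𝔞)) ⟶ Z := Spec.map ρ' ≫ Z.fromSpecStalk z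
  have hαβ : α ≫ h = β ≫ i := by
    show (Spec.map qm ≫ X.fromSpecStalk x) ≫ h = (Spec.map ρ' ≫ Z.fromSpecStalk z) ≫ i
    rw [Category.assoc, Category.assoc, ← Scheme.SpecMap_stalkMap_fromSpecStalk,
      ← Scheme.SpecMap_stalkMap_fromSpecStalk (f := i),
      ← Scheme.SpecMap_stalkSpecializes_fromSpecStalk (specializes_of_eq hs2),
      ← Spec.map_comp_assoc, ← Spec.map_comp_assoc, ← Spec.map_comp_assoc, ← hρ',
      Category.assoc]
  let γ : Spec (CommRingCat.of (X.presheaf.stalk x ⧸ 𝔞)) ⟶ P := hsq.lift α β hαβ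
  have hγ : γ ≫ j = Spec.map qm ≫ X.fromSpecStalk x := hsq.lift_fst _ _ _
  have hzp : γ (closedPoint (X.presheaf.stalk x ⧸ 𝔞)) = p := by
    apply j.isEmbedding.injective
    rw [← Scheme.Hom.comp_apply, hγ, Scheme.Hom.comp_apply]
    have h1 : (Spec.map qm) (closedPoint (X.presheaf.stalk x ⧸ 𝔞)) =
        closedPoint (X.presheaf.stalk x) := Spec_closedPoint (f := qm)
    rw [h1, Scheme.fromSpecStalk_closedPoint, hx]
  subst hx hz
  intro t ht
  rw [RingHom.mem_ker] at ht
  obtain ⟨U, hxU, σ, rfl⟩ := X.presheaf.exists_germ_eq t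
  rw [Scheme.Hom.germ_stalkMap_apply] at ht
  have h1 : ∀ (y : P) (hy : y = p) (hyU : y ∈ j ⁻¹ᵁ U),
      P.presheaf.germ (j ⁻¹ᵁ U) y hyU (j.app U σ) = 0 := by
    rintro y rfl hyU
    exact ht
  have hzU : γ (closedPoint (X.presheaf.stalk (j p) ⧸ 𝔞)) ∈ j ⁻¹ᵁ U := by
    rw [hzp]
    exact hxU
  have h2 := h1 _ hzp hzU
  have h3 := Groth.Agent.Lib.Helper35.FiberStalk.sCPT_germ qm (γ ≫ j) hγ U hzU hxU σ
  rw [Scheme.stalkClosedPointTo_comp] at h3
  have h4 : (j.stalkMap _ ≫ Scheme.stalkClosedPointTo γ).hom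
      (X.presheaf.germ U _ hzU σ) = 0 := by
    show (Scheme.stalkClosedPointTo γ).hom (j.stalkMap _ (X.presheaf.germ U _ hzU σ)) = 0
    rw [Scheme.Hom.germ_stalkMap_apply, h2, map_zero]
  have h5 : (Ideal.Quotient.mk 𝔞) (X.presheaf.germ U _ hxU σ) = 0 := h3.symm.trans h4
  rw [← h𝔞def]
  exact Ideal.Quotient.eq_zero_iff_mem.mp h5

end ker

section red
variable (X : Scheme.{u})

instance red_isReduced : IsReduced X.nilradical.subscheme := by
  have : ∀ i, IsReduced (X.nilradical.subschemeCover.openCover.X i) := by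
    intro (U : X.affineOpens)
    change IsReduced (Spec (.of <| Γ(X, U.1) ⧸ X.nilradical.ideal U))
    have hrad : (X.nilradical.ideal U).IsRadical := by
      change ((⊥ : X.IdealSheafData).radical.ideal U).IsRadical
      rw [Scheme.IdealSheafData.radical_ideal]
      exact Ideal.radical_isRadical _
    have : _root_.IsReduced (Γ(X, U.1) ⧸ X.nilradical.ideal U) :=
      (Ideal.isRadical_iff_quotient_reduced _).mp hrad
    infer_instance
  exact IsReduced.of_openCover _ X.nilradical.subschemeCover.openCover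

/-- the local ring of a reduced scheme at a maximal point is a field. -/
lemma maximalIdeal_eq_bot_of_maximal {Z : Scheme.{u}} [IsReduced Z] (z : Z)
    (hz : ∀ y : Z, y ⤳ z → y = z) : maximalIdeal (Z.presheaf.stalk z) = ⊥ := by
  let A := Z.presheaf.stalk z
  have hprime : ∀ P : Ideal A, P.IsPrime → P = maximalIdeal A := by
    intro P hP
    let Q : PrimeSpectrum A := ⟨P, hP⟩
    have h2 : Z.fromSpecStalk z Q ⤳ z := by
      have : Z.fromSpecStalk z Q ∈ Set.range (Z.fromSpecStalk z) := ⟨Q, rfl⟩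
      rw [Scheme.range_fromSpecStalk] at this; exact this
    have h3 := hz _ h2
    have h4 : Q = closedPoint A :=
      (Z.fromSpecStalk z).isEmbedding.injective
        (h3.trans (Scheme.fromSpecStalk_closedPoint (x := z)).symm)
    have : Q.asIdeal = (closedPoint A).asIdeal := by rw [h4]
    exact this
  have hnil : nilradical A = maximalIdeal A := by
    rw [nilradical_eq_sInf]
    apply le_antisymm
    · exact sInf_le (maximalIdeal.isMaximal A).isPrime
    · exact le_sInf (fun P hP => (hprime P hP).ge)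
  rw [← hnil, nilradical_eq_zero]
  rfl

end red

section main
variable {k k' k'' : Type u} [Field k] [Field k'] [Field k''] [Algebra k k'] [Algebra k' k'']

lemma ker_eq_max {A B : Type u} [CommRing A] [CommRing B] [IsLocalRing A] [IsLocalRing B]
    (ψ : A →+* B) (hψ : Function.Surjective ψ) (hB : maximalIdeal B = ⊥) :
    RingHom.ker ψ = maximalIdeal A := by
  haveI : IsField B := (IsLocalRing.isField_iff_maximalIdeal_eq).mpr hB
  letI := ‹IsField B›.toField
  haveI : (RingHom.ker ψ).IsMaximal := RingHom.ker_isMaximal_of_surjective ψ hψ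
  exact IsLocalRing.eq_maximalIdeal ‹_›

lemma length_of_surj {A B : Type u} [CommRing A] [CommRing B] (ψ : A →+* B)
    (hψ : Function.Surjective ψ) (I : Ideal A) (hI : RingHom.ker ψ = I) :
    Module.length B B = Module.length A (A ⧸ I) := by
  subst hI
  algebraize [ψ]
  rw [← Module.length_eq_of_surjective (S := A) (R := B) (M := B) hψ]
  exact ((Ideal.quotientKerAlgEquivOfSurjective (f := Algebra.ofId A B) hψ).toLinearEquiv.length_eq).symm

lemma length_flat_local {A B : Type u} [CommRing A] [CommRing B] [IsLocalRing A] [IsLocalRing B]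
    (ψ : A →+* B) [IsLocalHom ψ] (hψ : ψ.Flat) :
    Module.length B B = Module.length A A *
      Module.length B (B ⧸ Ideal.map ψ (maximalIdeal A)) := by
  have h := EtInv.length_quot_map_flat ψ hψ ⊥
  rw [Ideal.map_bot] at h
  have e1 : Module.length B (B ⧸ (⊥ : Ideal B)) = Module.length B B :=
    (Submodule.quotEquivOfEqBot (⊥ : Ideal B) rfl).length_eq
  have e2 : Module.length A (A ⧸ (⊥ : Ideal A)) = Module.length A A :=
    (Submodule.quotEquivOfEqBot (⊥ : Ideal A) rfl).length_eq
  rw [e1, e2] at h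
  exact h

/-- general form. -/
theorem main_gen {P X S Z : Scheme.{u}} {j : P ⟶ X} {ρ : P ⟶ Z} {h : X ⟶ S} {i : Z ⟶ S}
    (hsq : IsPullback j ρ h i) [IsClosedImmersion i] [IsReduced Z] [Flat h] (p : P)
    (hmax : ∀ y : X, y ⤳ j p → y = j p) :
    Module.length (X.presheaf.stalk (j p)) (X.presheaf.stalk (j p)) =
      Module.length (S.presheaf.stalk (h (j p))) (S.presheaf.stalk (h (j p))) *
        Module.length (P.presheaf.stalk p) (P.presheaf.stalk p) := by
  haveI : IsClosedImmersion j := MorphismProperty.of_isPullback (P := @IsClosedImmersion) hsq.flip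
    inferInstance
  have hs : i (ρ p) = h (j p) := by
    rw [← Scheme.Hom.comp_apply, ← hsq.w, Scheme.Hom.comp_apply]
  -- `h (j p)` is a maximal point of `S`
  have hmaxS : ∀ y : S, y ⤳ h (j p) → y = h (j p) := by
    intro y hy
    obtain ⟨y'', hy1, hy2⟩ := (Flat.generalizingMap h) hy
    rw [← hy2, hmax y'' hy1]
  -- `ρ p` is a maximal point of `Z`
  have hmaxZ : ∀ y : Z, y ⤳ ρ p → y = ρ p := by
    intro y hy
    apply i.isEmbedding.injective
    have := hy.map i.continuous
    rw [hs] at this ⊢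
    exact hmaxS _ this
  have hfield := maximalIdeal_eq_bot_of_maximal (ρ p) hmaxZ
  haveI : IsLocalHom (gmap i (ρ p) (h (j p)) hs) := gmap_local i (ρ p) (h (j p)) hs
  have hN : RingHom.ker (gmap i (ρ p) (h (j p)) hs) = maximalIdeal (S.presheaf.stalk (h (j p))) :=
    ker_eq_max _ (gmap_surj (ρ p) (h (j p)) hs) hfield
  have hker : RingHom.ker (j.stalkMap p).hom =
      Ideal.map (h.stalkMap (j p)).hom (maximalIdeal (S.presheaf.stalk (h (j p)))) := by
    rw [← hN]
    exact le_antisymm (ker_le hsq p hs) (ker_ge hsq p hs)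
  rw [length_flat_local (h.stalkMap (j p)).hom (Flat.stalkMap h (j p)),
    length_of_surj (j.stalkMap p).hom (j.stalkMap_surjective p) _ hker]

end main

section final
variable {k k' k'' : Type u} [Field k] [Field k'] [Field k''] [Algebra k k'] [Algebra k' k'']

lemma flat_spec_field (K L : Type u) [Field K] [Field L] [Algebra K L] :
    Flat (Spec.map (CommRingCat.ofHom (algebraMap K L))) := by
  rw [Flat.SpecMap_iff]
  show (algebraMap K L).Flat
  rw [RingHom.flat_algebraMap_iff]
  infer_instance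

theorem main {X : Scheme.{u}} (f : X ⟶ Spec (CommRingCat.of k)) [IsIntegral X] [IsLocallyNoetherian X]
    [IsLocallyNoetherian (FBase.bc f k')] (x'' : ↥(FBase.bc (FBase.bcStr f k') k''))
    (hx'' : ∀ z : ↥(FBase.bc (FBase.bcStr f k') k''), z ⤳ x'' → z = x'')
    (z'' : ↥(FBase.bc ((FBase.bc f k').nilradical.subschemeι ≫ FBase.bcStr f k') k''))
    (hz'' : pullback.map ((FBase.bc f k').nilradical.subschemeι ≫ FBase.bcStr f k')
        (Spec.map (CommRingCat.ofHom (algebraMap k' k''))) (FBase.bcStr f k')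
        (Spec.map (CommRingCat.ofHom (algebraMap k' k''))) (FBase.bc f k').nilradical.subschemeι (𝟙 _) (𝟙 _)
        (Category.comp_id _) ((Category.comp_id _).trans (Category.id_comp _).symm) z'' = x'') :
    Module.length ((FBase.bc (FBase.bcStr f k') k'').presheaf.stalk x'') ((FBase.bc (FBase.bcStr f k') k'').presheaf.stalk x'') =
      Module.length ((FBase.bc f k').presheaf.stalk (FBase.bcπ (FBase.bcStr f k') k'' x''))
          ((FBase.bc f k').presheaf.stalk (FBase.bcπ (FBase.bcStr f k') k'' x'')) *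
        Module.length ((FBase.bc ((FBase.bc f k').nilradical.subschemeι ≫ FBase.bcStr f k') k'').presheaf.stalk z'')
          ((FBase.bc ((FBase.bc f k').nilradical.subschemeι ≫ FBase.bcStr f k') k'').presheaf.stalk z'') := by
  subst hz''
  let g := Spec.map (CommRingCat.ofHom (algebraMap k' k''))
  let str' := FBase.bcStr f k'
  let ι := (FBase.bc f k').nilradical.subschemeι
  let j := pullback.map (ι ≫ str') g str' g ι (𝟙 _) (𝟙 _)
        (Category.comp_id _) ((Category.comp_id _).trans (Category.id_comp _).symm)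
  have hj1 : j ≫ pullback.fst str' g = pullback.fst (ι ≫ str') g ≫ ι := pullback.lift_fst _ _ _
  have hj2 : j ≫ pullback.snd str' g = pullback.snd (ι ≫ str') g := by
    have := pullback.lift_snd (pullback.fst (ι ≫ str') g ≫ ι) (pullback.snd (ι ≫ str') g ≫ 𝟙 _)
      (f := str') (g := g) (by simp [pullback.condition])
    exact this.trans (Category.comp_id _)
  have hsq : IsPullback j (pullback.fst (ι ≫ str') g) (pullback.fst str' g) ι := by
    refine IsPullback.of_right ?_ hj1 (IsPullback.of_hasPullback str' g).flip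
    rw [hj2]
    exact (IsPullback.of_hasPullback (ι ≫ str') g).flip
  haveI : Flat (pullback.fst str' g) :=
    MorphismProperty.pullback_fst (P := @Flat) str' g (flat_spec_field k' k'')
  exact main_gen hsq z'' hx''

end final

end PRE

open CategoryTheory.Limits in
/-- Let X be an integral locally Noetherian scheme over a field k, k′ an extension field of k such that
X′ = X ⊗_k k′ is locally Noetherian, and k″ an extension field of k′; put X″ = X′ ⊗_{k′} k″ and Z″ =
(X′)_red ⊗_{k′} k″, with its canonical closed immersion j : Z″ → X″ (a homeomorphism). Let x″ be a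
maximal point of X″ (the generic point of an irreducible component), x′ its image in X′ and z″ the
point of Z″ with j(z″) = x″. Then length(O_{X″,x″}) = length(O_{X′,x′}) · length(O_{Z″,z″}), each
local ring being measured as a module over itself, with values in ℕ∞. -/
theorem result {k k' k'' : Type u} [Field k] [Field k'] [Field k''] [Algebra k k']
    [Algebra k' k''] {X : Scheme.{u}} (f : X ⟶ Spec (CommRingCat.of k)) [IsIntegral X] [IsLocallyNoetherian X]
    [IsLocallyNoetherian (FBase.bc f k')] (x'' : ↥(FBase.bc (FBase.bcStr f k') k''))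
    (hx'' : ∀ z : ↥(FBase.bc (FBase.bcStr f k') k''), z ⤳ x'' → z = x'')
    (z'' : ↥(FBase.bc ((FBase.bc f k').nilradical.subschemeι ≫ FBase.bcStr f k') k''))
    (hz'' : pullback.map ((FBase.bc f k').nilradical.subschemeι ≫ FBase.bcStr f k')
        (Spec.map (CommRingCat.ofHom (algebraMap k' k''))) (FBase.bcStr f k')
        (Spec.map (CommRingCat.ofHom (algebraMap k' k''))) (FBase.bc f k').nilradical.subschemeι (𝟙 _) (𝟙 _)
        (Category.comp_id _) ((Category.comp_id _).trans (Category.id_comp _).symm) z'' = x'') :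
    Module.length ((FBase.bc (FBase.bcStr f k') k'').presheaf.stalk x'') ((FBase.bc (FBase.bcStr f k') k'').presheaf.stalk x'') =
      Module.length ((FBase.bc f k').presheaf.stalk (FBase.bcπ (FBase.bcStr f k') k'' x''))
          ((FBase.bc f k').presheaf.stalk (FBase.bcπ (FBase.bcStr f k') k'' x'')) *
        Module.length ((FBase.bc ((FBase.bc f k').nilradical.subschemeι ≫ FBase.bcStr f k') k'').presheaf.stalk z'')
          ((FBase.bc ((FBase.bc f k').nilradical.subschemeι ≫ FBase.bcStr f k') k'').presheaf.stalk z'') := by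
  exact main f x'' hx'' z'' hz''

end Groth.Agent.S4686
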