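import Groth.Statements.S4688
import Groth.Agent.Lib.Helper73.DimFormula

set_option autoImplicit false
universe u
open EGA4

namespace Groth.Agent.S4688

open Polynomial in
/-- Let A be a Noetherian ring, p a prime ideal of A and q a prime ideal of the polynomial ring A[T]
lying over p. Then the extended ideal p A[T] has the same height as p, and if q is different from p
A[T] one has ht(q) = ht(p) + 1. (The remaining assertions of the published item, that p A[T] is
prime over p and that there are infinitely many pairwise incomparable such q, are not restated.) -/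
theorem result (A : Type u) [CommRing A] [IsNoetherianRing A]
    (p : Ideal A) [p.IsPrime] (q : Ideal A[X]) [q.IsPrime] [q.LiesOver p] :
    (p.map (Polynomial.C : A →+* A[X])).height = p.height ∧
      (q ≠ p.map (Polynomial.C : A →+* A[X]) → q.height = p.height + 1) := by
  have hprime : (p.map (Polynomial.C : A →+* A[X])).IsPrime := Ideal.isPrime_map_C_of_isPrime
  have hlo : (p.map (Polynomial.C : A →+* A[X])).LiesOver p := by
    constructor
    ext a
    rw [Ideal.under_def, Ideal.mem_comap, Polynomial.algebraMap_eq, Ideal.mem_map_C_iff]
    constructor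
    · intro ha n
      rw [coeff_C]
      split_ifs
      · exact ha
      · exact p.zero_mem
    · intro h
      simpa using h 0
  have hpart1 : (p.map (Polynomial.C : A →+* A[X])).height = p.height := by
    have h := Ideal.height_eq_height_add_of_liesOver_of_hasGoingDown p (p.map (Polynomial.C : A →+* A[X]))
    have h0 : Ideal.map (Ideal.Quotient.mk (Ideal.map (algebraMap A A[X]) p))
        (p.map (Polynomial.C : A →+* A[X])) = ⊥ := Ideal.map_quotient_self _
    rw [h0] at h
    haveI : IsDomain (A[X] ⧸ Ideal.map (algebraMap A A[X]) p) := Ideal.Quotient.isDomain _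
    have h1 : (⊥ : Ideal (A[X] ⧸ Ideal.map (algebraMap A A[X]) p)).height = 0 :=
      Ideal.height_eq_zero_iff_eq_bot.mpr rfl
    rw [h1, add_zero] at h
    exact h
  refine ⟨hpart1, ?_⟩
  · intro hne
    have hx : Function.Surjective (Polynomial.aeval (Polynomial.X : A[X]) : A[X] →ₐ[A] A[X]) := by
      rw [Polynomial.aeval_X_left]
      exact Function.surjective_id
    have h := Groth.Agent.Lib.Helper73.DimFormula.height_comap_aeval_add_trdeg
      (Polynomial.X : A[X]) hx p q
    have h2 : q.comap (Polynomial.aeval (Polynomial.X : A[X]) : A[X] →ₐ[A] A[X]).toRingHom = q := by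
      rw [Polynomial.aeval_X_left]
      exact Ideal.comap_id q
    rw [h2] at h
    -- the residue extension is algebraic
    have hle : p.map (Polynomial.C : A →+* A[X]) ≤ q := by
      rw [Ideal.map_le_iff_le_comap]
      intro a ha
      have : a ∈ q.under A := by rw [← Ideal.over_def q p]; exact ha
      exact this
    have hlt : p.map (Polynomial.C : A →+* A[X]) < q := lt_of_le_of_ne hle (Ne.symm hne)
    have h3 : (p.map (Polynomial.C : A →+* A[X])).height + 1 ≤ q.height :=
      Ideal.height_add_one_le_of_lt_of_isPrime hlt
    rw [hpart1] at h3
    refine le_antisymm ?_ h3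
    have h4 : (q.height : Cardinal.{u}) ≤ ((p.height + 1 : ℕ∞) : Cardinal.{u}) := by
      have : (q.height : Cardinal.{u}) ≤ (p.height : Cardinal.{u}) + 1 := by
        rw [← h]; exact le_self_add
      simpa using this
    exact_mod_cast h4

end Groth.Agent.S4688
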