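import Groth.Statements.S4689
import Groth.Agent.Lib.Helper73.DimFormulaCat

set_option autoImplicit false
universe u
open EGA4

namespace Groth.Agent.S4689

/-- Let A be a universally catenary Noetherian local domain and B a domain containing A which is a
finite A-algebra. Then for every maximal ideal n of B the local ring B_n has the same Krull
dimension as A. -/
theorem result (A B : Type u) [CommRing A] [IsDomain A]
    [IsNoetherianRing A] [IsLocalRing A] (hA : CAlg.IsUniversallyCatenary A) [CommRing B] [IsDomain B]
    [Algebra A B] [FaithfulSMul A B] [Module.Finite A B] (n : Ideal B) [n.IsMaximal] :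
    ringKrullDim (Localization.AtPrime n) = ringKrullDim A := by
  haveI : Algebra.IsIntegral A B := inferInstance
  haveI : Algebra.FiniteType A B := inferInstance
  -- n lies over the maximal ideal
  have hmax : (n.under A).IsMaximal := Ideal.isMaximal_comap_of_isIntegral_of_isMaximal n
  have hm : n.under A = IsLocalRing.maximalIdeal A := IsLocalRing.eq_maximalIdeal hmax
  haveI : n.LiesOver (IsLocalRing.maximalIdeal A) := ⟨hm.symm⟩
  have h := Groth.Agent.Lib.Helper73.DimFormula.height_add_trdeg_eq A B hA
    (IsLocalRing.maximalIdeal A) n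
  have h1 : Algebra.trdeg A B = 0 := by
    haveI : Algebra.IsAlgebraic A B := inferInstance
    exact trdeg_eq_zero
  have h2 : Algebra.trdeg (A ⧸ IsLocalRing.maximalIdeal A) (B ⧸ n) = 0 := by
    haveI : Algebra.IsIntegral (A ⧸ IsLocalRing.maximalIdeal A) (B ⧸ n) := inferInstance
    haveI : Nontrivial (A ⧸ IsLocalRing.maximalIdeal A) :=
      Ideal.Quotient.nontrivial_iff.mpr (Ideal.IsPrime.ne_top inferInstance)
    haveI : Algebra.IsAlgebraic (A ⧸ IsLocalRing.maximalIdeal A) (B ⧸ n) := inferInstance
    exact trdeg_eq_zero
  rw [h1, h2, add_zero, add_zero] at h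
  have h3 : n.height = (IsLocalRing.maximalIdeal A).height := by exact_mod_cast h
  rw [IsLocalization.AtPrime.ringKrullDim_eq_height n (Localization.AtPrime n), h3,
    IsLocalRing.maximalIdeal_height_eq_ringKrullDim]

end Groth.Agent.S4689
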