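import Groth.Statements.S4690
import Groth.Agent.Lib.Helper73.IrredDim
import Groth.Agent.S9686

set_option autoImplicit false
universe u
open EGA4

namespace Groth.Agent.S4690

open Groth.Agent.Lib.Helper73.SchemeDim Groth.Agent.Lib.Helper73.RelHt AlgebraicGeometry

open AlgebraicGeometry CategoryTheory in
/-- Let Y be an irreducible locally Noetherian scheme, X an irreducible scheme and f : X → Y a dominant
morphism locally of finite type; let e be the dimension of the generic fibre of f. Then dim X ≤ dim
Y + e. If moreover every local ring of Y is universally catenary, the two sides are equal if and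
only if dim Y equals the supremum of the dimensions of the local rings of Y at the points of f(X). -/
theorem result {X Y : Scheme.{u}} (f : X ⟶ Y) [IsLocallyNoetherian Y]
    [LocallyOfFiniteType f] [IrreducibleSpace X] [IrreducibleSpace Y] (hf : DenseRange f.base) :
    topologicalKrullDim X ≤ topologicalKrullDim Y + topologicalKrullDim (f.fiber (genericPoint Y)) ∧
      ((∀ y : Y, CAlg.IsUniversallyCatenary (Y.presheaf.stalk y)) →
        (topologicalKrullDim X = topologicalKrullDim Y + topologicalKrullDim (f.fiber (genericPoint Y)) ↔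
          topologicalKrullDim Y = ⨆ y ∈ Set.range f.base, ringKrullDim (Y.presheaf.stalk y))) := by
  have hξ : ∀ x : X, genericPoint X ⤳ x := genericPoint_specializes
  have hfη : f.base (genericPoint X) = genericPoint Y := by
    have h1 := (genericPoint_spec X).image f.continuous
    rw [Set.image_univ, hf.closure_range] at h1
    exact h1.eq (genericPoint_spec Y)
  obtain ⟨nξ, hnξ⟩ := exists_trdeg_residueField_eq_nat f (genericPoint X)
  have hfib := topologicalKrullDim_fiber_eq_of_top f (genericPoint X) hξ nξ hnξ
  rw [hfη] at hfib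
  rw [hfib]
  have hη : ∀ y : Y, f.base (genericPoint X) ⤳ y := by
    intro y
    rw [hfη]
    exact genericPoint_specializes y
  have hpart1 : topologicalKrullDim X ≤ topologicalKrullDim Y + (nξ : WithBot ℕ∞) := by
    refine Groth.Agent.S9686.result f nξ ?_
    intro ξ' hξ'
    have hgen : ξ' = genericPoint X := by
      rw [irreducibleComponents_eq_singleton, Set.mem_singleton_iff] at hξ'
      have h1 : IsGenericPoint ξ' (Set.univ : Set X) := hξ'
      exact h1.eq (genericPoint_spec X)
    subst hgen
    exact hnξ.le
  refine ⟨hpart1, fun hcat => ?_⟩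
  -- the dimension of `X` in terms of the image
  have hform : ∀ x : X, ∀ nx : ℕ,
      (letI := (f.residueFieldMap x).hom.toAlgebra
       Algebra.trdeg (Y.residueField (f.base x)) (X.residueField x) = nx) →
      ((relHt x (genericPoint X) + nx : ℕ∞) : WithBot ℕ∞) =
        ringKrullDim (Y.presheaf.stalk (f.base x)) + (nξ : WithBot ℕ∞) := by
    intro x nx hnx
    have h1 := (relHt_add_trdeg_aux f (hξ x) nξ nx hnξ hnx).2 (hcat _)
    rw [ringKrullDim_stalk_eq_relHt (f.base (genericPoint X)) hη (f.base x), h1]
    rfl
  have hle : topologicalKrullDim X ≤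
      (⨆ y ∈ Set.range f.base, ringKrullDim (Y.presheaf.stalk y)) + (nξ : WithBot ℕ∞) := by
    refine topologicalKrullDim_le_of_forall_stalk _ (fun x => ?_)
    obtain ⟨nx, hnx⟩ := exists_trdeg_residueField_eq_nat f x
    have h1 := hform x nx hnx
    rw [ringKrullDim_stalk_eq_relHt (genericPoint X) hξ x]
    have h2 : ((relHt x (genericPoint X) : ℕ∞) : WithBot ℕ∞) ≤
        ((relHt x (genericPoint X) + nx : ℕ∞) : WithBot ℕ∞) := by
      exact_mod_cast le_self_add
    refine h2.trans ?_
    rw [h1]
    gcongr
    exact le_iSup₂ (f := fun y (_ : y ∈ Set.range f.base) => ringKrullDim (Y.presheaf.stalk y))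
      (f.base x) ⟨x, rfl⟩
  have hge : (⨆ y ∈ Set.range f.base, ringKrullDim (Y.presheaf.stalk y)) + (nξ : WithBot ℕ∞) ≤
      topologicalKrullDim X := by
    obtain ⟨D', hD'1, hD'2⟩ := exists_sub_bound (topologicalKrullDim X) nξ
    refine le_trans ?_ hD'2
    gcongr
    refine iSup₂_le ?_
    rintro _ ⟨x, rfl⟩
    apply hD'1
    obtain ⟨nx, hnx⟩ := exists_trdeg_residueField_eq_nat f x
    rw [← hform x nx hnx]
    have h2 := relHt_add_trdeg_le_topologicalKrullDim f (hξ x) nx hnx
    exact_mod_cast h2
  have heq := le_antisymm hle hge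
  constructor
  · intro h
    rw [heq] at h
    exact (add_natCast_cancel nξ h).symm
  · intro h
    rw [heq, ← h]

end Groth.Agent.S4690
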