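import Groth.Statements.S4692
import Groth.Agent.Lib.Helper73.IrredDim
import Groth.Agent.S4691

set_option autoImplicit false
universe u
open EGA4

namespace Groth.Agent.S4692

open Groth.Agent.Lib.Helper73.SchemeDim Groth.Agent.Lib.Helper73.RelHt AlgebraicGeometry

open AlgebraicGeometry CategoryTheory in
/-- Let Y be a locally Noetherian scheme all of whose local rings are universally catenary, X an
irreducible scheme, f : X → Y a morphism locally of finite type and n a natural number. If every
fibre of f has dimension at least n then dim X ≥ dim Y + n; if every fibre has dimension exactly n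
then dim X = dim Y + n. (The empty scheme has dimension ⊥, so either hypothesis forces f to be
surjective.) -/
theorem result {X Y : Scheme.{u}} (f : X ⟶ Y) [IsLocallyNoetherian Y]
    [LocallyOfFiniteType f] [IrreducibleSpace X] (hY : ∀ y : Y, CAlg.IsUniversallyCatenary (Y.presheaf.stalk y))
    (n : ℕ) :
    ((∀ y : Y, (n : WithBot ℕ∞) ≤ topologicalKrullDim (f.fiber y)) →
        topologicalKrullDim Y + n ≤ topologicalKrullDim X) ∧
      ((∀ y : Y, topologicalKrullDim (f.fiber y) = n) →
        topologicalKrullDim X = topologicalKrullDim Y + n) := by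
  have key : (∀ y : Y, (n : WithBot ℕ∞) ≤ topologicalKrullDim (f.fiber y)) →
      topologicalKrullDim Y + n ≤ topologicalKrullDim X := by
    intro h
    have hsurj : ∀ y : Y, ∃ x : X, f.base x = y := by
      intro y
      by_contra hne
      push_neg at hne
      haveI : IsEmpty (f.fiber y) := ⟨fun z => hne (f.fiberι y z) (base_fiberι f y z)⟩
      have h1 := h y
      rw [← krullDim_eq_topologicalKrullDim, Order.krullDim_eq_bot] at h1
      exact WithBot.coe_ne_bot (le_bot_iff.mp h1)
    have hξ : ∀ x : X, genericPoint X ⤳ x := genericPoint_specializes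
    obtain ⟨nξ, hnξ⟩ := exists_trdeg_residueField_eq_nat f (genericPoint X)
    have hfib := topologicalKrullDim_fiber_eq_of_top f (genericPoint X) hξ nξ hnξ
    have hn_le : n ≤ nξ := by
      have h1 := h (f.base (genericPoint X))
      rw [hfib] at h1
      exact_mod_cast h1
    have hη : ∀ y : Y, f.base (genericPoint X) ⤳ y := by
      intro y
      obtain ⟨x, rfl⟩ := hsurj y
      exact (hξ x).map f.continuous
    have hstalk : ∀ y : Y, ringKrullDim (Y.presheaf.stalk y) + n ≤ topologicalKrullDim X := by
      intro y
      obtain ⟨x, rfl⟩ := hsurj y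
      obtain ⟨nx, hnx⟩ := exists_trdeg_residueField_eq_nat f x
      have h1 := (relHt_add_trdeg_aux f (hξ x) nξ nx hnξ hnx).2 (hY _)
      have h2 := relHt_add_trdeg_le_topologicalKrullDim f (hξ x) nx hnx
      rw [ringKrullDim_stalk_eq_relHt (f.base (genericPoint X)) hη (f.base x)]
      have h3 : ((relHt (f.base x) (f.base (genericPoint X)) : ℕ∞) : WithBot ℕ∞) + (n : WithBot ℕ∞) ≤
          ((relHt (f.base x) (f.base (genericPoint X)) + nξ : ℕ∞) : WithBot ℕ∞) := by
        have : relHt (f.base x) (f.base (genericPoint X)) + (n : ℕ∞) ≤
            relHt (f.base x) (f.base (genericPoint X)) + nξ := by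
          gcongr
        exact_mod_cast this
      refine h3.trans ?_
      rw [← h1]
      exact_mod_cast h2
    obtain ⟨D', hD'1, hD'2⟩ := exists_sub_bound (topologicalKrullDim X) n
    have h4 : topologicalKrullDim Y ≤ D' :=
      topologicalKrullDim_le_of_forall_stalk D' (fun y => hD'1 _ (hstalk y))
    refine le_trans ?_ hD'2
    gcongr
  refine ⟨key, fun h => le_antisymm ?_ (key fun y => (h y).ge)⟩
  exact Groth.Agent.S4691.result f n (fun y => (h y).le)

end Groth.Agent.S4692
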