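import Groth.Statements.S4693
import Groth.Agent.Lib.Helper29.FlatLocal2

set_option autoImplicit false
universe u
open EGA4

namespace Groth.Agent.S4693

/-- Let A → B be a local homomorphism of Noetherian local rings such that the closed fibre ring B/m_A B
has Krull dimension 0 (that is, m_A B is an ideal of definition of B). Then dim B ≤ dim A. If
moreover some finite B-module which is flat over A has support equal to all of Spec B (for instance
if B is flat over A), then dim B = dim A. -/
theorem result (A B : Type u) [CommRing A] [CommRing B] [IsNoetherianRing A]
    [IsNoetherianRing B] [IsLocalRing A] [IsLocalRing B] [Algebra A B] [IsLocalHom (algebraMap A B)]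
    (h0 : ringKrullDim (EGA4.FibRing A B) = 0) :
    ringKrullDim B ≤ ringKrullDim A ∧
      (∀ (N : Type u) [AddCommGroup N] [Module B N] [Module A N] [IsScalarTower A B N] [Module.Finite B N]
          [Module.Flat A N], Module.support B N = Set.univ → ringKrullDim B = ringKrullDim A) := by
  have hIt : (EGA4.mB A B) • (⊤ : Submodule B B) = EGA4.mB A B := by
    rw [smul_eq_mul, Ideal.mul_top]
  have hfib : Module.supportDim B
      (B ⧸ ((IsLocalRing.maximalIdeal A).map (algebraMap A B) • (⊤ : Submodule B B))) = 0 := by
    have h1 : Module.supportDim B (B ⧸ EGA4.mB A B) = ringKrullDim (B ⧸ EGA4.mB A B) :=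
      Module.supportDim_quotient_eq_ringKrullDim _
    rw [← h0, ← h1]
    exact Module.supportDim_eq_of_equiv (Submodule.quotEquivOfEq _ _ hIt)
  constructor
  · have h := Groth.Agent.Lib.Helper29.FlatLocal.supportDim_tensor_le A B A B
    rw [Module.supportDim_eq_of_equiv (TensorProduct.AlgebraTensorModule.rid A B B),
      Module.supportDim_self_eq_ringKrullDim, Module.supportDim_self_eq_ringKrullDim, hfib,
      add_zero] at h
    exact h
  · intro N _ _ _ _ _ _ hsupp
    have hN : Nontrivial N := by
      rw [← Module.supportDim_ne_bot_iff_nontrivial B]
      unfold Module.supportDim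
      rw [hsupp]
      intro h
      rw [Order.krullDim_eq_bot_iff] at h
      have : Nonempty (PrimeSpectrum B) := inferInstance
      exact (Set.univ_nonempty (α := PrimeSpectrum B)).to_subtype.elim
        fun x => (h.false x)
    have h := Groth.Agent.Lib.Helper29.FlatLocal.supportDim_tensor_eq A B N A
    rw [Module.supportDim_eq_of_equiv (TensorProduct.AlgebraTensorModule.rid A B N),
      Module.supportDim_self_eq_ringKrullDim] at h
    have hNdim : Module.supportDim B N = ringKrullDim B := by
      unfold Module.supportDim
      rw [hsupp]
      exact Order.krullDim_eq_of_orderIso OrderIso.Set.univ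
    have hfibN : Module.supportDim B
        (N ⧸ ((IsLocalRing.maximalIdeal A).map (algebraMap A B) • (⊤ : Submodule B N))) = 0 := by
      have hnt := Groth.Agent.Lib.Helper29.FlatLocal.nontrivial_fibMod A B N
      apply le_antisymm
      · have h1 : Module.supportDim B
            (N ⧸ ((IsLocalRing.maximalIdeal A).map (algebraMap A B) • (⊤ : Submodule B N))) ≤
            ringKrullDim (B ⧸ Module.annihilator B
              (N ⧸ ((IsLocalRing.maximalIdeal A).map (algebraMap A B) • (⊤ : Submodule B N)))) :=
          (Module.supportDim_eq_ringKrullDim_quotient_annihilator B _).le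
        refine h1.trans ?_
        rw [← h0]
        have hle : EGA4.mB A B ≤ Module.annihilator B
            (N ⧸ ((IsLocalRing.maximalIdeal A).map (algebraMap A B) • (⊤ : Submodule B N))) := by
          intro b hb
          rw [Module.mem_annihilator]
          intro x
          obtain ⟨n, rfl⟩ := Submodule.Quotient.mk_surjective _ x
          rw [← Submodule.Quotient.mk_smul, Submodule.Quotient.mk_eq_zero]
          exact Submodule.smul_mem_smul hb Submodule.mem_top
        exact ringKrullDim_le_of_surjective (Ideal.Quotient.factor hle)
          (Ideal.Quotient.factor_surjective hle)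
      · have : Module.supportDim B
            (N ⧸ ((IsLocalRing.maximalIdeal A).map (algebraMap A B) • (⊤ : Submodule B N))) ≠ ⊥ :=
          (Module.supportDim_ne_bot_iff_nontrivial B _).2 hnt
        obtain ⟨d, hd⟩ := WithBot.ne_bot_iff_exists.1 this
        rw [← hd]
        exact_mod_cast (zero_le (a := d))
    rw [hNdim, hfibN, add_zero] at h
    exact h

end Groth.Agent.S4693
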