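import Groth.Statements.S4702
import Groth.Agent.Lib.Helper73.ComponentDims
import Groth.Agent.Lib.Helper73.IrredDim
-- import your own Groth.Agent.* helpers here

set_option autoImplicit false
universe u
open EGA4

namespace Groth.Agent.S4702
open Groth.Agent.Lib.Helper73.SchemeDim Groth.Agent.Lib.Helper73.RelHt

open AlgebraicGeometry CategoryTheory in
/-- Let Y be an irreducible locally Noetherian scheme of dimension 1, X an irreducible scheme and f : X
→ Y a dominant morphism of finite type. Then for every point y in the image of f, every irreducible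
component of the fibre of f at y has dimension equal to the dimension of the generic fibre. -/
theorem result {X Y : Scheme.{u}} (f : X ⟶ Y) [IsLocallyNoetherian Y]
    [IrreducibleSpace Y] [IrreducibleSpace X] (hY : topologicalKrullDim Y = 1) [LocallyOfFiniteType f]
    [QuasiCompact f] (hf : DenseRange f.base) (y : Y) (hy : y ∈ Set.range f.base)
    (Z : Set ↥(f.fiber y)) (hZ : Z ∈ irreducibleComponents ↥(f.fiber y)) :
    topologicalKrullDim Z = topologicalKrullDim ↥(f.fiber (genericPoint Y)) := by
  haveI : IsLocallyNoetherian X := LocallyOfFiniteType.isLocallyNoetherian f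
  set ξ := genericPoint X with hξdef
  have hξ : ∀ x : X, ξ ⤳ x := fun x => genericPoint_specializes x
  have hfξ : f.base ξ = genericPoint Y := by
    have hgen : IsGenericPoint (f.base ξ) (Set.univ : Set Y) := by
      rw [isGenericPoint_def]
      have h1 : Set.range f.base ⊆ closure {f.base ξ} := by
        rintro _ ⟨x, rfl⟩
        exact ((hξ x).map f.continuous).mem_closure
      have h2 := closure_minimal h1 isClosed_closure
      rw [hf.closure_range] at h2
      exact Set.eq_univ_of_univ_subset h2
    exact (hgen.eq (genericPoint_spec Y))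
  obtain ⟨d, hd⟩ := exists_trdeg_residueField_eq_nat' f ξ
  have hdim := topologicalKrullDim_fiber_eq_of_top f ξ hξ d hd
  have hξmax : ∀ t : X, t ⤳ ξ → f.base t = f.base ξ → t = ξ := fun t ht _ =>
    anti X _ _ (hξ t) ht
  have hFξ := fibreDimAt_eq_trdeg_of_maximal_in_fibre f ξ hξmax d hd
  -- the component
  have hmem : topologicalKrullDim ↥Z ∈
      (fun Z : Set ↥(f.fiber y) => topologicalKrullDim ↥Z) '' irreducibleComponents ↥(f.fiber y) :=
    ⟨Z, hZ, rfl⟩
  obtain ⟨e, x, hx, hFx, hZe⟩ := (mem_componentDims_iff f y _).mp hmem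
  obtain ⟨ζ, n, hζx, hζf, hζmax, hn, hF⟩ := exists_maximal_in_fibre_trdeg_eq_fibreDimAt f x
  have hne : n = e := by
    have : (n : WithBot ℕ∞) = (e : WithBot ℕ∞) := by rw [← hF, hFx]
    exact_mod_cast this
  subst hne
  have hFζ := fibreDimAt_eq_trdeg_of_maximal_in_fibre f ζ hζmax n hn
  have hdn : d ≤ n := by
    have := fibreDimAt_mono' f (hξ ζ)
    rw [hFξ, hFζ] at this
    exact_mod_cast this
  have hnd : n ≤ d := by
    by_cases hcase : f.base ζ = f.base ξ
    · have : ξ = ζ := hζmax ξ (hξ ζ) hcase.symm
      have h1 : @Algebra.trdeg (Y.residueField (f.base ζ)) (X.residueField ζ) _ _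
          (f.residueFieldMap ζ).hom.toAlgebra = d := by
        rw [← trdeg_residueFieldMap_congr_pt f this]; exact hd
      have : ((n : ℕ) : Cardinal.{u}) = d := by rw [← hn, ← h1]
      exact (by exact_mod_cast this : n = d).le
    · have h1 := (relHt_add_trdeg_aux f (hξ ζ) d n hd hn).1
      have h2 : relHt (f.base ζ) (f.base ξ) ≤ 1 := by
        refine relHt_le fun c _ _ => ?_
        have := Order.LTSeries.length_le_krullDim c
        rw [krullDim_eq_topologicalKrullDim, hY] at this
        exact_mod_cast this
      have h3 : 1 ≤ relHt ζ ξ := by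
        apply one_le_relHt
        rw [lt_iff_le_not_ge]
        refine ⟨hξ ζ, fun hle => hcase ?_⟩
        rw [anti X _ _ (hξ ζ) hle]
      have h4 : (1 : ℕ∞) + n ≤ 1 + d :=
        calc (1 : ℕ∞) + n ≤ relHt ζ ξ + n := by gcongr
          _ ≤ relHt (f.base ζ) (f.base ξ) + d := h1
          _ ≤ 1 + d := by gcongr
      have h5 : 1 + n ≤ 1 + d := by exact_mod_cast h4
      omega
  have hnd' : n = d := le_antisymm hnd hdn
  rw [hZe, hnd', ← hdim, hfξ]

end Groth.Agent.S4702
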