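import Groth.Statements.S4703
import Mathlib
import Groth.Agent.Lib.Helper96.RegularHom
import Groth.Agent.Lib.Helper96.FibreBot
import Groth.Agent.Lib.Helper96.FiniteDomainModel
import Groth.Agent.Lib.Helper83.FlatLocalDim
import Groth.Agent.Lib.Helper49.RegularHom

set_option autoImplicit false
universe u
open EGA4

namespace Groth.Agent.S4703

open TensorProduct

open TensorProduct in
/-- For the property 'geometrically regular', case of a local ring: let A be a Noetherian local ring
with completion Â. Then the formal fibres of A are geometrically regular (the completion map A → Â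
is a regular homomorphism) if and only if, for every finite A-algebra B which is a domain and every
prime ideal q of B ⊗_A Â whose contraction to B is zero, the local ring of B ⊗_A Â at q is regular.
(The published statement is for semi-local rings; this row takes A local.) -/
theorem result (A : Type u) [CommRing A] [IsNoetherianRing A] [IsLocalRing A] :
    CAlg.IsRegularHom A (EGA4.Cpl A) ↔
      ∀ (B : Type u) [CommRing B] [IsDomain B] [Algebra A B] [Module.Finite A B]
        (q : Ideal (B ⊗[A] EGA4.Cpl A)) [q.IsPrime],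
        q.comap (algebraMap B (B ⊗[A] EGA4.Cpl A)) = ⊥ → IsRegularLocalRing (Localization.AtPrime q) := by
  classical
  haveI hNC : IsNoetherianRing (EGA4.Cpl A) :=
    Groth.Agent.Lib.Helper83.isNoetherianRing_adicCompletion _
  constructor
  · intro h B _ _ _ _ q _ hq
    haveI : IsNoetherianRing B := Algebra.FiniteType.isNoetherianRing A B
    haveI : IsNoetherianRing (EGA4.Cpl A ⊗[A] B) :=
      Algebra.FiniteType.isNoetherianRing (EGA4.Cpl A) _
    haveI hNT : IsNoetherianRing (B ⊗[A] EGA4.Cpl A) :=
      isNoetherianRing_of_ringEquiv _ (Algebra.TensorProduct.comm A (EGA4.Cpl A) B).toRingEquiv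
    have h1 := Groth.Agent.Lib.Helper96.isRegularHom_baseChange A (EGA4.Cpl A) B h
    have h2 := (h1.2 (⊥ : Ideal B)).2 (⊥ : Ideal B).ResidueField (Module.Finite.self _)
    have h3 : IsRegularRing ((⊥ : Ideal B).Fiber (B ⊗[A] EGA4.Cpl A)) :=
      Groth.Agent.Lib.Helper49.RegularHom.isRegularRing_of_ringEquiv'
        (Algebra.TensorProduct.lid _ _).toRingEquiv h2
    exact (Groth.Agent.Lib.Helper96.isRegularRing_fiber_bot_iff B (B ⊗[A] EGA4.Cpl A)).mp h3 q hq
  · intro H
    refine ⟨inferInstance, fun p _ =>
      ⟨Groth.Agent.Lib.Helper96.isNoetherianRing_fiber A (EGA4.Cpl A) p, ?_⟩⟩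
    intro k' _ _ hfin
    haveI := hfin
    letI : Algebra A k' :=
      ((algebraMap p.ResidueField k').comp (algebraMap A p.ResidueField)).toAlgebra
    haveI : IsScalarTower A p.ResidueField k' := IsScalarTower.of_algebraMap_eq (fun x => rfl)
    obtain ⟨B, hBfin, hBfrac⟩ :=
      Groth.Agent.Lib.Helper96.exists_finite_subalgebra_isFractionRing A p k'
    haveI := hBfin
    haveI := hBfrac
    haveI : IsNoetherianRing B := Algebra.FiniteType.isNoetherianRing A B
    haveI : IsNoetherianRing (EGA4.Cpl A ⊗[A] B) :=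
      Algebra.FiniteType.isNoetherianRing (EGA4.Cpl A) _
    haveI hNT : IsNoetherianRing (B ⊗[A] EGA4.Cpl A) :=
      isNoetherianRing_of_ringEquiv _ (Algebra.TensorProduct.comm A (EGA4.Cpl A) B).toRingEquiv
    have h3 : IsRegularRing ((⊥ : Ideal B).Fiber (B ⊗[A] EGA4.Cpl A)) :=
      (Groth.Agent.Lib.Helper96.isRegularRing_fiber_bot_iff B (B ⊗[A] EGA4.Cpl A)).mpr
        (fun q _ hq => H B q hq)
    let e0 : k' ≃ₐ[B] (⊥ : Ideal B).ResidueField :=
      IsLocalization.algEquiv (nonZeroDivisors B) _ _
    let e1 := Algebra.TensorProduct.cancelBaseChange A p.ResidueField p.ResidueField k'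
      (EGA4.Cpl A)
    let e2 := Algebra.TensorProduct.cancelBaseChange A B B k' (EGA4.Cpl A)
    let e3 := Algebra.TensorProduct.congr e0
      (AlgEquiv.refl : (B ⊗[A] EGA4.Cpl A) ≃ₐ[B] (B ⊗[A] EGA4.Cpl A))
    exact Groth.Agent.Lib.Helper49.RegularHom.isRegularRing_of_ringEquiv'
      (e3.symm.toRingEquiv.trans (e2.toRingEquiv.trans e1.symm.toRingEquiv)) h3

end Groth.Agent.S4703
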