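import Groth.Statements.S4705
import Groth.Agent.Lib.Helper88.FormalFibre2

set_option autoImplicit false
universe u
open EGA4

namespace Groth.Agent.S4705

/-- Let A → A' be a flat local homomorphism of Noetherian local rings all of whose fibre rings k(p) ⊗_A
A' are geometrically reduced over k(p). If the completion map of A' is regular (the formal fibres of
A' are geometrically regular), then the formal fibres of A are geometrically reduced. -/
theorem result (A A' : Type u) [CommRing A] [CommRing A']
    [IsNoetherianRing A] [IsNoetherianRing A'] [IsLocalRing A] [IsLocalRing A'] [Algebra A A']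
    [IsLocalHom (algebraMap A A')] [Module.Flat A A']
    (hf : ∀ (p : Ideal A) [p.IsPrime], Algebra.IsGeometricallyReduced p.ResidueField (p.Fiber A'))
    (hA' : CAlg.IsRegularHom A' (EGA4.Cpl A')) : EGA4.HasGeomReducedFormalFibres A := by
  have hFF : ∀ (q : Ideal A') [q.IsPrime], Algebra.IsGeometricallyReduced q.ResidueField
      (q.Fiber (AdicCompletion (IsLocalRing.maximalIdeal A') A')) := by
    intro q _
    apply Groth.Agent.Lib.Helper88.FormalFibre2.isGeometricallyReduced_of_forall_finite
    intro k' _ _ hfin
    haveI : IsRegularRing (TensorProduct q.ResidueField k' (q.Fiber (EGA4.Cpl A'))) :=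
      (hA'.2 q).2 k' hfin
    exact Groth.Agent.Lib.Helper88.FormalFibre2.isReduced_of_isRegularRing _
  have hNA' : CAlg.IsNagata A' :=
    Groth.Agent.Lib.Helper88.FormalFibre.isNagata_of_geomReducedFormalFibres A' hFF
  haveI : Module.FaithfullyFlat A A' := Module.FaithfullyFlat.of_flat_of_isLocalHom
  have hNA : CAlg.IsNagata A :=
    Groth.Agent.Lib.Helper88.FormalFibre2.isNagata_of_faithfullyFlat_nagata A A' hNA'
      (fun p _ => hf p)
  intro p _
  exact Groth.Agent.Lib.Helper88.FormalFibre2.isGeometricallyReduced_fiber_of_isNagata A hNA p

end Groth.Agent.S4705
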