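import Groth.Statements.S4706
import Groth.Agent.Lib.Helper49.ComplFlat
import Groth.Agent.Lib.Helper49.GeomNormalExt
import Groth.Agent.Lib.Helper49.SmoothHom
import Groth.Agent.S9295
-- import your own Groth.Agent.* helpers here

set_option autoImplicit false
universe u
open EGA4

namespace Groth.Agent.S4706

/-- Let A → A' be a local homomorphism of Noetherian local rings which is normal (flat, with
geometrically normal fibres). If the completion map of A' is regular (the formal fibres of A' are
geometrically regular), then the formal fibres of A are geometrically normal. -/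
theorem result (A A' : Type u) [CommRing A] [CommRing A']
    [IsNoetherianRing A] [IsNoetherianRing A'] [IsLocalRing A] [IsLocalRing A'] [Algebra A A']
    [IsLocalHom (algebraMap A A')] (hf : EGA4.IsNormalHom A A') (hA' : CAlg.IsRegularHom A' (EGA4.Cpl A')) :
    EGA4.HasGeomNormalFormalFibres A := by
  haveI := hf.1
  letI := Groth.Agent.Lib.Helper49.ComplFlat.cplAlgebra A A'
  haveI := Groth.Agent.Lib.Helper49.ComplFlat.cplTower A A'
  haveI hff := Groth.Agent.Lib.Helper49.ComplFlat.faithfullyFlat_cpl A A'
  haveI : IsNoetherianRing (EGA4.Cpl A') := Groth.Agent.Lib.Helper49.ComplFlat.isNoetherianRing_cpl A'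
  have hnorm' : EGA4.IsNormalHom A' (EGA4.Cpl A') := by
    refine ⟨hA'.1, fun p hp L _ _ hfin => ?_⟩
    haveI := (hA'.2 p).2 L hfin
    exact Groth.Agent.Lib.Helper49.SmoothHom.isNormalRing_of_isRegularRing _
  have hcomp : EGA4.IsNormalHom A (EGA4.Cpl A') :=
    Groth.Agent.Lib.Helper49.NormalHom.isNormalHom_comp A A' (EGA4.Cpl A') hf hnorm'
  intro p hp L _ _ hfin
  have h1 : EGA4.IsNormalRing (TensorProduct p.ResidueField L (p.Fiber (EGA4.Cpl A'))) := hcomp.2 p L hfin
  letI : Algebra A L := ((algebraMap p.ResidueField L).comp (algebraMap A p.ResidueField)).toAlgebra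
  haveI : IsScalarTower A p.ResidueField L := IsScalarTower.of_algebraMap_eq' rfl
  have h2 : EGA4.IsNormalRing (TensorProduct A L (EGA4.Cpl A')) :=
    Groth.Agent.Lib.Helper49.NormalHom.isNormalRing_of_ringEquiv
      (Algebra.TensorProduct.cancelBaseChange A p.ResidueField L L (EGA4.Cpl A')).toRingEquiv h1
  have h3 : EGA4.IsNormalRing (TensorProduct A L (EGA4.Cpl A)) :=
    Groth.Agent.S9295.descend (fun R _ => EGA4.IsNormalRing R)
      (fun R R' _ _ e h => Groth.Agent.Lib.Helper49.NormalHom.isNormalRing_of_ringEquiv e h)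
      (fun R S _ _ _ _ h =>
        Groth.Agent.Lib.Helper49.GeomNormalExt.isNormalRing_of_faithfullyFlat R S h)
      A (EGA4.Cpl A) (EGA4.Cpl A') L h2
  exact Groth.Agent.Lib.Helper49.NormalHom.isNormalRing_of_ringEquiv
    (Algebra.TensorProduct.cancelBaseChange A p.ResidueField L L (EGA4.Cpl A)).symm.toRingEquiv h3

end Groth.Agent.S4706
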