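import Groth.Statements.S4707
import Groth.Agent.Lib.Helper69.ICRel

set_option linter.style.haveILetI false
set_option linter.unusedSectionVars false

set_option autoImplicit false
universe u
open EGA4

namespace Groth.Agent.S4707

open Groth.Agent.Lib.Helper69.ICBase

section Aux

open TensorProduct Polynomial

variable {A : Type u} (A' : Type u) [CommRing A] [CommRing A'] [Algebra A A']
  {B : Type u} [CommRing B] [Algebra A B]

/-- finitely many elements of `A' ⊗ B` come from `A' ⊗ B₀` for a finitely generated `B₀` -/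
theorem exists_fg_forall_mem_range [Module.Flat A A'] (s : Finset (A' ⊗[A] B)) :
    ∃ B₀ : Subalgebra A B, B₀.FG ∧ ∀ x ∈ s, x ∈ Set.range (T A' B₀.val) := by
  classical
  have key : ∀ z : A' ⊗[A] B, ∃ B₀ : Subalgebra A B, B₀.FG ∧ z ∈ Set.range (T A' B₀.val) := by
    intro z
    induction z using TensorProduct.induction_on with
    | zero => exact ⟨⊥, Subalgebra.fg_bot, ⟨0, map_zero _⟩⟩
    | tmul a b =>
      refine ⟨Algebra.adjoin A (({b} : Finset B) : Set B), Subalgebra.fg_adjoin_finset _,
        ⟨a ⊗ₜ[A] ⟨b, Algebra.subset_adjoin (by simp)⟩, ?_⟩⟩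
      simp
    | add x y hx hy =>
      obtain ⟨B₁, hB₁, hx⟩ := hx
      obtain ⟨B₂, hB₂, hy⟩ := hy
      obtain ⟨v₁, hv₁⟩ := range_T_mono A' (le_sup_left : B₁ ≤ B₁ ⊔ B₂) hx
      obtain ⟨v₂, hv₂⟩ := range_T_mono A' (le_sup_right : B₂ ≤ B₁ ⊔ B₂) hy
      exact ⟨B₁ ⊔ B₂, hB₁.sup hB₂, ⟨v₁ + v₂, by rw [map_add, hv₁, hv₂]⟩⟩
  induction s using Finset.induction_on with
  | empty => exact ⟨⊥, Subalgebra.fg_bot, fun x hx => absurd hx (Finset.notMem_empty x)⟩
  | insert a s _ ih =>
    obtain ⟨B₁, hB₁, h1⟩ := ih
    obtain ⟨B₂, hB₂, h2⟩ := key a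
    refine ⟨B₁ ⊔ B₂, hB₁.sup hB₂, fun x hx => ?_⟩
    rcases Finset.mem_insert.mp hx with rfl | hx
    · exact range_T_mono A' le_sup_right h2
    · exact range_T_mono A' le_sup_left (h1 x hx)

end Aux

open TensorProduct in
/-- Let A be a Noetherian ring and A' a Noetherian A-algebra such that A → A' is a normal homomorphism
(flat, with geometrically normal fibres). Let B → C be a homomorphism of A-algebras and D the
integral closure of B in C. Then the integral closure in A' ⊗_A C of the image of A' ⊗_A B is the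
image of A' ⊗_A D. (No finiteness is assumed on B or C.) -/
theorem result (A A' : Type u) [CommRing A] [CommRing A']
    [IsNoetherianRing A] [IsNoetherianRing A'] [Algebra A A'] (h : EGA4.IsNormalHom A A')
    (B C : Type u) [CommRing B] [CommRing C] [Algebra A B] [Algebra A C] [Algebra B C] [IsScalarTower A B C] :
    (integralClosure
          ↥(Algebra.TensorProduct.map (AlgHom.id A' A') (IsScalarTower.toAlgHom A B C)).range (A' ⊗[A] C) :
        Set (A' ⊗[A] C)) =
      Set.range (Algebra.TensorProduct.map (AlgHom.id A' A')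
        ((integralClosure B C).val.restrictScalars A)) := by
  classical
  haveI : Module.Flat A A' := h.1
  set β : B →ₐ[A] C := IsScalarTower.toAlgHom A B C with hβ
  set R := (Algebra.TensorProduct.map (AlgHom.id A' A') β).range with hR
  ext z
  constructor
  · intro hz
    rcases subsingleton_or_nontrivial (A' ⊗[A] C) with hsub | hnt
    · exact ⟨0, Subsingleton.elim _ _⟩
    haveI : Nontrivial (A' ⊗[A] B) := (T A' β).toRingHom.domain_nontrivial
    have hz' : IsIntegral R z := hz
    -- Step 1: a monic polynomial over `A' ⊗ B`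
    obtain ⟨P, hPm, hPz⟩ := hz'
    have hl : P.map (algebraMap R (A' ⊗[A] C)) ∈ Polynomial.lifts (T A' β).toRingHom := by
      rw [Polynomial.lifts_iff_coeff_lifts]
      intro n
      rw [Polynomial.coeff_map]
      obtain ⟨x, hx⟩ := (P.coeff n).2
      exact ⟨x, hx⟩
    obtain ⟨Q, hQ, -, hQm⟩ := Polynomial.lifts_and_degree_eq_and_monic hl (hPm.map _)
    have hQz : Polynomial.eval₂ (T A' β).toRingHom z Q = 0 := by
      rw [← Polynomial.eval_map, hQ, Polynomial.eval_map]
      exact hPz
    -- Step 2: a finitely generated subalgebra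
    obtain ⟨B₀, hfg, hB₀⟩ := exists_fg_forall_mem_range A'
      (Finset.image Q.coeff (Finset.range (Q.natDegree + 1)))
    have hl₀ : Q ∈ Polynomial.lifts (T A' B₀.val).toRingHom := by
      rw [Polynomial.lifts_iff_coeff_lifts]
      intro n
      by_cases hn : n < Q.natDegree + 1
      · exact hB₀ _ (Finset.mem_image_of_mem _ (Finset.mem_range.mpr hn))
      · rw [Polynomial.coeff_eq_zero_of_natDegree_lt (by omega)]
        exact ⟨0, map_zero _⟩
    obtain ⟨Q₀, hQ₀, -, hQ₀m⟩ := Polynomial.lifts_and_degree_eq_and_monic hl₀ hQm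
    haveI : Algebra.FiniteType A B₀ := (Subalgebra.fg_iff_finiteType B₀).mp hfg
    -- Step 3
    have hcomp : (T A' (IsScalarTower.toAlgHom A B₀ C)).toRingHom =
        (T A' β).toRingHom.comp (T A' B₀.val).toRingHom := by
      have : IsScalarTower.toAlgHom A B₀ C = β.comp B₀.val := by
        ext x
        rfl
      rw [this, T_comp]
      rfl
    have hint : (T A' (IsScalarTower.toAlgHom A B₀ C)).toRingHom.IsIntegralElem z := by
      refine ⟨Q₀, hQ₀m, ?_⟩
      rw [hcomp, ← Polynomial.eval₂_map, hQ₀]
      exact hQz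
    -- Step 4
    have h1 := mem_range_of_isIntegralElem A A' h B₀ C z hint
    refine range_T_subset_of_range_subset A' _ _ ?_ h1
    rintro _ ⟨x, rfl⟩
    have hx : IsIntegral B₀ (x : C) := x.2
    exact ⟨⟨(x : C), hx.tower_top⟩, rfl⟩
  · rintro ⟨w, rfl⟩
    show IsIntegral R _
    induction w using TensorProduct.induction_on with
    | zero =>
      rw [map_zero]
      exact isIntegral_zero
    | tmul a d =>
      have h1 : Algebra.TensorProduct.map (AlgHom.id A' A')
          ((integralClosure B C).val.restrictScalars A) (a ⊗ₜ[A] d) =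
          (a ⊗ₜ[A] (1 : C)) * ((1 : A') ⊗ₜ[A] (d : C)) := by
        simp [Algebra.TensorProduct.tmul_mul_tmul]
      rw [h1]
      apply IsIntegral.mul
      · have : a ⊗ₜ[A] (1 : C) ∈ R := ⟨a ⊗ₜ[A] (1 : B), by simp [hβ]⟩
        exact isIntegral_algebraMap (R := R) (x := ⟨_, this⟩)
      · obtain ⟨p, hpm, hp⟩ := d.2
        let φ : B →+* R := RingHom.codRestrict
          ((Algebra.TensorProduct.includeRight : C →ₐ[A] A' ⊗[A] C).toRingHom.comp (algebraMap B C))
          R.toSubring (fun b => ⟨(1 : A') ⊗ₜ[A] b, by simp [hβ]⟩)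
        refine ⟨p.map φ, hpm.map _, ?_⟩
        rw [Polynomial.eval₂_map]
        have h2 : (algebraMap R (A' ⊗[A] C)).comp φ =
            (Algebra.TensorProduct.includeRight : C →ₐ[A] A' ⊗[A] C).toRingHom.comp
              (algebraMap B C) := by
          refine RingHom.ext fun b => ?_
          rfl
        rw [h2]
        have h3 := Polynomial.hom_eval₂ p (algebraMap B C)
          (Algebra.TensorProduct.includeRight : C →ₐ[A] A' ⊗[A] C).toRingHom (d : C)
        exact h3.symm.trans (by rw [hp, map_zero])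
    | add x y hx hy =>
      rw [map_add]
      exact hx.add hy

end Groth.Agent.S4707
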