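import Groth.Statements.S4709
import Groth.Agent.S0566
import Groth.Agent.S2654
-- import your own Groth.Agent.* helpers here

set_option autoImplicit false
universe u
open EGA4

namespace Groth.Agent.S4709

open Groth.Agent.Lib.Helper88 in
/-- under the hypotheses, `A` is Nagata -/
theorem isNagata (A : Type u) [CommRing A] [IsNoetherianRing A]
    (h1 : ∀ (m : Ideal A) [m.IsMaximal], EGA4.HasGeomReducedFormalFibres (Localization.AtPrime m))
    (h2 : EGA4.IsJ2 A) : CAlg.IsNagata A := by
  rw [Groth.Agent.S12125.result]
  refine ⟨?_, ?_⟩
  · intro m _ P _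
    exact (FormalFibre.isNagata_of_geomReducedFormalFibres _ (h1 m)).2 P
  · intro p _ K' _ _ _ _ _ _ B' hfin hfrac
    haveI := hfin
    letI : Algebra A K' := ((algebraMap (A ⧸ p) K').comp (algebraMap A (A ⧸ p))).toAlgebra
    haveI : IsScalarTower A (A ⧸ p) K' := IsScalarTower.of_algebraMap_eq' rfl
    haveI : Algebra.FiniteType (A ⧸ p) B' := inferInstance
    haveI : Algebra.FiniteType A (A ⧸ p) := inferInstance
    have hft : Algebra.FiniteType A B' :=
      Algebra.FiniteType.trans (R := A) (S := A ⧸ p) (A := B') inferInstance inferInstance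
    exact Groth.Agent.S2654.exists_isIntegrallyClosed_away B' (h2 B' hft)

open Groth.Agent.Lib.Helper88 in
/-- Let A be a Noetherian ring such that (i) for every maximal ideal m the formal fibres of A_m are
geometrically reduced, and (ii) the regular locus of every A-algebra of finite type is open (A is
J-2). Then A is universally Japanese. -/
theorem result (A : Type u) [CommRing A] [IsNoetherianRing A]
    (h1 : ∀ (m : Ideal A) [m.IsMaximal], EGA4.HasGeomReducedFormalFibres (Localization.AtPrime m))
    (h2 : EGA4.IsJ2 A) : CAlg.IsUniversallyJapanese A := by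
  have hNag := isNagata A h1 h2
  intro S _ _ _ hft
  haveI := hft
  have hS : CAlg.IsNagata S := Groth.Agent.S0566.result A hNag S
  exact isN2_of_ringEquiv (RingEquiv.quotientBot S) (hS.2 ⊥)

end Groth.Agent.S4709
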