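import Groth.Statements.S4711
import Groth.Agent.Lib.Helper17.ConstrFP

set_option autoImplicit false
universe u
open EGA4

namespace Groth.Agent.S4711

open PrimeSpectrum Topology in
/-- a nonempty basic constructible subset of `Spec R` contains a point that is locally closed -/
theorem exists_isLocallyClosed_singleton_of_basic {R : Type u} [CommRing R]
    (D : BasicConstructibleSetData R) (hne : D.toSet.Nonempty) :
    ∃ x ∈ D.toSet, IsLocallyClosed ({x} : Set (PrimeSpectrum R)) := by
  let I := Ideal.span (Set.range D.g)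
  let f := Ideal.Quotient.mk I D.f
  let j : PrimeSpectrum (Groth.Agent.Lib.Helper17.BasicAlg D) → PrimeSpectrum R :=
    comap (algebraMap R (Groth.Agent.Lib.Helper17.BasicAlg D))
  have hj : j = comap (Ideal.Quotient.mk I) ∘ comap (algebraMap (R ⧸ I) (Localization.Away f)) :=
    rfl
  have hemb : IsEmbedding j := by
    rw [hj]
    exact (isClosedEmbedding_comap_of_surjective _ _ Ideal.Quotient.mk_surjective).isEmbedding.comp
      (localization_away_isOpenEmbedding (Localization.Away f) f).isEmbedding
  have hrange : Set.range j = D.toSet := Groth.Agent.Lib.Helper17.range_comap_basicAlg D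
  have hlc : IsLocallyClosed (Set.range j) := by
    rw [hrange]
    refine ⟨(zeroLocus {D.f})ᶜ, zeroLocus (Set.range D.g), (isClosed_zeroLocus _).isOpen_compl,
      isClosed_zeroLocus _, ?_⟩
    rw [BasicConstructibleSetData.toSet, Set.inter_comm]
    rfl
  haveI : Nontrivial (Groth.Agent.Lib.Helper17.BasicAlg D) := by
    rw [← hrange] at hne
    obtain ⟨_, ⟨y, -⟩⟩ := hne
    exact y.nontrivial
  obtain ⟨m, hm⟩ := Ideal.exists_maximal (Groth.Agent.Lib.Helper17.BasicAlg D)
  let pm : PrimeSpectrum (Groth.Agent.Lib.Helper17.BasicAlg D) := ⟨m, hm.isPrime⟩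
  have hcl : IsClosed ({pm} : Set (PrimeSpectrum (Groth.Agent.Lib.Helper17.BasicAlg D))) :=
    (isClosed_singleton_iff_isMaximal pm).mpr hm
  refine ⟨j pm, hrange ▸ Set.mem_range_self pm, ?_⟩
  have := hcl.isLocallyClosed.image hemb.isInducing hlc
  rwa [Set.image_singleton] at this

open AlgebraicGeometry Topology in
/-- In any scheme X, every nonempty locally constructible subset E contains a point x such that the
one-point set {x} is locally closed in X (equivalently x is isolated in its closure). -/
theorem result (X : Scheme.{u}) (E : Set X)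
    (hE : Topology.IsLocallyConstructible E) (hne : E.Nonempty) :
    ∃ x ∈ E, IsLocallyClosed ({x} : Set X) := by
  obtain ⟨x0, hx0⟩ := hne
  have hb : ∀ {U : TopologicalSpace.Opens ↥X} {x : ↥X}, x ∈ U →
      ∃ U' ∈ X.affineOpens, x ∈ U' ∧ U' ≤ U :=
    TopologicalSpace.Opens.isBasis_iff_nbhd.mp X.isBasis_affineOpens
  obtain ⟨V, hV, hxV, -⟩ := @hb ⊤ x0 trivial
  have hVaff : IsAffineOpen V := hV
  have hZ : Topology.IsConstructible (hVaff.fromSpec.base ⁻¹' E) :=
    (Groth.Agent.Lib.Helper17.isLocallyConstructible_preimage hVaff.fromSpec hE).isConstructible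
  obtain ⟨S, hS⟩ := PrimeSpectrum.exists_constructibleSetData_iff.mpr hZ
  have hx0r : x0 ∈ Set.range hVaff.fromSpec.base := by
    rw [IsAffineOpen.range_fromSpec]; exact hxV
  obtain ⟨w, rfl⟩ := hx0r
  have hw : w ∈ S.toSet := by rw [hS]; exact hx0
  obtain ⟨D, hD, hwD⟩ := Set.mem_iUnion₂.mp hw
  obtain ⟨y, hyD, hy⟩ := exists_isLocallyClosed_singleton_of_basic D ⟨w, hwD⟩
  refine ⟨hVaff.fromSpec.base y, ?_, ?_⟩
  · have : y ∈ S.toSet := Set.mem_iUnion₂.mpr ⟨D, hD, hyD⟩
    rw [hS] at this
    exact this
  · have hoe := hVaff.fromSpec.isOpenEmbedding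
    have := hy.image hoe.isInducing hoe.isOpen_range.isLocallyClosed
    rwa [Set.image_singleton] at this

end Groth.Agent.S4711
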