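import Groth.Statements.S4712
import Groth.Agent.Lib.Helper73.ImmGen
import Groth.Agent.Lib.Helper73.SubspaceDim
-- import your own Groth.Agent.* helpers here

set_option autoImplicit false
universe u
open EGA4

namespace Groth.Agent.S4712

open AlgebraicGeometry in
/-- Let X be a locally Noetherian scheme and x a point such that {x} is locally closed in X. Then the
closure of {x} has dimension at most 1, and every point of that closure other than x is a closed
point of X. -/
theorem result (X : Scheme.{u}) [IsLocallyNoetherian X] (x : X)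
    (hx : IsLocallyClosed ({x} : Set X)) :
    topologicalKrullDim (closure ({x} : Set X)) ≤ 1 ∧
      ∀ y ∈ closure ({x} : Set X), y ≠ x → IsClosed ({y} : Set X) := by
  -- the reduced subscheme structure on the closure
  let I := Scheme.IdealSheafData.vanishingIdeal (⟨closure {x}, isClosed_closure⟩ :
    TopologicalSpace.Closeds X)
  have hrange : Set.range I.subschemeι.base = closure {x} := by
    rw [Scheme.IdealSheafData.range_subschemeι, Scheme.IdealSheafData.coe_support_vanishingIdeal]
    rfl
  haveI : IsLocallyNoetherian I.subscheme := LocallyOfFiniteType.isLocallyNoetherian I.subschemeι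
  have hinj : Function.Injective I.subschemeι.base := I.subschemeι.isEmbedding.injective
  obtain ⟨x₀, hx₀⟩ : x ∈ Set.range I.subschemeι.base := by
    rw [hrange]; exact subset_closure rfl
  -- `{x₀}` is open in the subscheme
  obtain ⟨W, hWo, hW⟩ : ∃ W : Set X, IsOpen W ∧ W ∩ closure {x} = {x} := by
    obtain ⟨U, Z, hU, hZ, hUZ⟩ := hx
    refine ⟨U, hU, ?_⟩
    have hxUZ : x ∈ U ∩ Z := by rw [← hUZ]; rfl
    have hcl : closure {x} ⊆ Z := closure_minimal (Set.singleton_subset_iff.mpr hxUZ.2) hZ
    apply Set.Subset.antisymm
    · intro y hy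
      rw [hUZ]; exact ⟨hy.1, hcl hy.2⟩
    · intro y hy
      rw [Set.mem_singleton_iff] at hy
      rw [hy]
      exact ⟨hxUZ.1, subset_closure rfl⟩
  let W' : I.subscheme.Opens := ⟨I.subschemeι.base ⁻¹' W, hWo.preimage I.subschemeι.continuous⟩
  have hW' : ∀ z : I.subscheme, z ∈ W' ↔ z = x₀ := by
    intro z
    constructor
    · intro hz
      have h1 : I.subschemeι.base z ∈ W ∩ closure {x} := ⟨hz, hrange ▸ Set.mem_range_self z⟩
      rw [hW, Set.mem_singleton_iff, ← hx₀] at h1
      exact hinj h1
    · intro hz
      rw [hz]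
      change I.subschemeι.base x₀ ∈ W
      rw [hx₀]
      have : x ∈ W ∩ closure {x} := by rw [hW]; rfl
      exact this.1
  have hx₀top : ∀ z : I.subscheme, x₀ ⤳ z := by
    intro z
    rw [← I.subschemeι.isEmbedding.isInducing.specializes_iff, hx₀, specializes_iff_mem_closure,
      ← hrange]
    exact Set.mem_range_self z
  -- every other point of the subscheme has no proper specialization
  have key : ∀ y z : I.subscheme, y ≠ x₀ → y ⤳ z → z = y := by
    intro y z hy hyz
    by_contra hne
    have hz : z ≠ x₀ := by
      rintro rfl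
      exact hy ((hx₀top y).antisymm hyz).eq.symm
    obtain ⟨w, hwW, hwz, himm⟩ :=
      Groth.Agent.Lib.Helper73.ImmGen.exists_immediate_generization_mem_open I.subscheme z W' x₀
        ((hW' x₀).mpr rfl) (hx₀top z)
    rw [hW'] at hwW
    subst hwW
    rcases himm y (hx₀top y) hyz with h | h
    · exact hy h
    · exact hne h.symm
  have key' : ∀ y z : X, y ∈ closure {x} → y ≠ x → y ⤳ z → z = y := by
    intro y z hy hyx hyz
    have hzcl : z ∈ closure ({x} : Set X) :=
      (specializes_iff_mem_closure.mpr hy |>.trans hyz) |> specializes_iff_mem_closure.mp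
    obtain ⟨y₀, rfl⟩ : y ∈ Set.range I.subschemeι.base := by rw [hrange]; exact hy
    obtain ⟨z₀, rfl⟩ : z ∈ Set.range I.subschemeι.base := by rw [hrange]; exact hzcl
    have h1 : y₀ ≠ x₀ := by
      rintro rfl
      exact hyx hx₀
    have h2 : y₀ ⤳ z₀ := I.subschemeι.isEmbedding.isInducing.specializes_iff.mp hyz
    rw [key y₀ z₀ h1 h2]
  constructor
  · haveI : QuasiSober ↥(closure ({x} : Set X)) :=
      isClosed_closure.isClosedEmbedding_subtypeVal.quasiSober
    apply Groth.Agent.Lib.Helper73.SchemeDim.topologicalKrullDim_subtype_le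
    intro c hc
    by_contra hlen
    have h2 : 2 ≤ c.length := by
      by_contra h
      apply hlen
      have : c.length ≤ 1 := by omega
      exact_mod_cast this
    -- three consecutive members
    have h01 : c ⟨0, by omega⟩ < c ⟨1, by omega⟩ := c.strictMono (by simp [Fin.lt_def])
    have h12 : c ⟨1, by omega⟩ < c ⟨2, by omega⟩ := c.strictMono (by simp [Fin.lt_def])
    have hne1 : c ⟨1, by omega⟩ ≠ x := by
      intro h
      have h3 : c ⟨2, by omega⟩ ⤳ c ⟨1, by omega⟩ := h12.le
      have h4 : x ⤳ c ⟨2, by omega⟩ := specializes_iff_mem_closure.mpr (hc _)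
      rw [h] at h3 h12
      have := (h4.antisymm h3).eq
      rw [this] at h12
      exact lt_irrefl _ h12
    have h5 : c ⟨1, by omega⟩ ⤳ c ⟨0, by omega⟩ := h01.le
    have := key' _ _ (hc _) hne1 h5
    rw [this] at h01
    exact lt_irrefl _ h01
  · intro y hy hyx
    rw [← closure_eq_iff_isClosed]
    apply Set.Subset.antisymm _ subset_closure
    intro z hz
    rw [Set.mem_singleton_iff]
    exact key' y z hy hyx (specializes_iff_mem_closure.mpr hz)

end Groth.Agent.S4712
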