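import Groth.Statements.S4715
import Mathlib
import Groth.Agent.Lib.Helper82.TopDimClosed
-- import your own Groth.Agent.* helpers here

set_option autoImplicit false
universe u
open EGA4

namespace Groth.Agent.S4715

open AlgebraicGeometry CategoryTheory in
/-- Let f : X → Y be a quasi-finite morphism (of finite type with discrete fibres) of locally Noetherian
schemes. Then dim X is at most the dimension of the closure of f(X), which is at most dim Y. -/
theorem result {X Y : Scheme.{u}} (f : X ⟶ Y) [IsLocallyNoetherian X] [IsLocallyNoetherian Y]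
    [LocallyQuasiFinite f] [LocallyOfFiniteType f] [QuasiCompact f] :
    topologicalKrullDim X ≤ topologicalKrullDim (closure (Set.range f.base)) ∧
      topologicalKrullDim (closure (Set.range f.base)) ≤ topologicalKrullDim Y := by
  refine ⟨?_, topologicalKrullDim_subspace_le _ _⟩
  have hmem : ∀ x : X, f.base x ∈ closure (Set.range f.base) := fun x => subset_closure ⟨x, rfl⟩
  refine Groth.Agent.Lib.Helper82.TopDimClosed.topologicalKrullDim_le_of_incomparable
    (fun x : X => (⟨f.base x, hmem x⟩ : ↥(closure (Set.range f.base))))
    (f.base.hom.continuous.subtype_mk _) ?_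
  intro x x' hspec he
  have he' : f.base x = f.base x' := congrArg Subtype.val he
  have hdisc := f.isDiscrete_preimage_singleton (f.base x')
  rw [isDiscrete_iff_forall_mem_exists_isOpen] at hdisc
  obtain ⟨u, hu, hus⟩ := hdisc x' rfl
  have hx'u : x' ∈ u := by
    have : x' ∈ u ∩ f.base ⁻¹' {f.base x'} := by rw [hus]; rfl
    exact this.1
  have hxu : x ∈ u := hspec.mem_open hu hx'u
  have : x ∈ u ∩ f.base ⁻¹' {f.base x'} := ⟨hxu, he'⟩
  rw [hus] at this
  exact this

end Groth.Agent.S4715
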