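import Groth.Statements.S4720
-- import your own Groth.Agent.* helpers here
import Groth.Agent.Lib.Helper15.ZPure

set_option autoImplicit false
universe u
open EGA4

namespace Groth.Agent.S4720

/-- Let A be a Noetherian ring, Z a subset of Spec A stable under specialization, M an A-module and N a
submodule of M. If M is Z-pure, so is N; conversely, if N and M/N are Z-pure, so is M. -/
theorem result (A : Type u) [CommRing A] [IsNoetherianRing A]
    (Z : Set (PrimeSpectrum A)) (hZ : StableUnderSpecialization Z) (M : Type u) [AddCommGroup M] [Module A M]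
    (N : Submodule A M) :
    (EGA4.IsPureAlong Z M → EGA4.IsPureAlong Z ↥N) ∧
      (EGA4.IsPureAlong Z ↥N → EGA4.IsPureAlong Z (M ⧸ N) → EGA4.IsPureAlong Z M) := by
  rw [Groth.Agent.Lib.Helper15.ZClosed.isPureAlong_iff_ass Z hZ M,
    Groth.Agent.Lib.Helper15.ZClosed.isPureAlong_iff_ass Z hZ ↥N,
    Groth.Agent.Lib.Helper15.ZClosed.isPureAlong_iff_ass Z hZ (M ⧸ N)]
  constructor
  · intro h p hp
    exact h p (associatedPrimes.subset_of_injective (f := N.subtype) N.injective_subtype hp)
  · intro hN hQ p hp
    have := associatedPrimes.subset_union_of_exact (f := N.subtype) (g := N.mkQ)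
      N.injective_subtype (LinearMap.exact_subtype_mkQ N) hp
    rcases this with h1 | h1
    · exact hN p h1
    · exact hQ p h1

end Groth.Agent.S4720
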