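import Groth.Statements.S4721
import Groth.Agent.Lib.Helper48.Hartshorne
-- import your own Groth.Agent.* helpers here

set_option autoImplicit false
universe u
open EGA4

namespace Groth.Agent.S4721

/-- Let A be a Noetherian ring whose spectrum is connected and d a natural number such that for every
prime p of height at least d the local ring A_p has depth at least 2. Then for any two distinct
minimal primes p', p'' of A there is a finite chain of minimal primes starting at p' and ending at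
p'' such that any two consecutive members are both contained in a prime ideal of height at most d −
1 (the spectrum is connected in codimension at most d − 1). -/
theorem result (A : Type u) [CommRing A] [IsNoetherianRing A]
    [ConnectedSpace (PrimeSpectrum A)] (d : ℕ)
    (h : ∀ (p : Ideal A) [p.IsPrime], (d : ℕ∞) ≤ p.height →
      (2 : ℕ∞) ≤ LocCoh.depth (Localization.AtPrime p) (Localization.AtPrime p))
    (p' p'' : Ideal A) (hp' : p' ∈ minimalPrimes A) (hp'' : p'' ∈ minimalPrimes A) (hne : p' ≠ p'') :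
    ∃ (n : ℕ) (c : Fin (n + 1) → Ideal A), c 0 = p' ∧ c (Fin.last n) = p'' ∧ (∀ i, c i ∈ minimalPrimes A) ∧
      ∀ i : Fin n, ∃ (q : Ideal A) (_ : q.IsPrime),
        c i.castSucc ≤ q ∧ c i.succ ≤ q ∧ q.height + 1 ≤ (d : ℕ∞) := by
  classical
  -- the chain predicate
  let Reach : Ideal A → Prop := fun q => ∃ (n : ℕ) (c : Fin (n + 1) → Ideal A), c 0 = p' ∧
      c (Fin.last n) = q ∧ (∀ i, c i ∈ minimalPrimes A) ∧
      ∀ i : Fin n, ∃ (q : Ideal A) (_ : q.IsPrime),
        c i.castSucc ≤ q ∧ c i.succ ≤ q ∧ q.height + 1 ≤ (d : ℕ∞)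
  have hreach0 : Reach p' := ⟨0, fun _ => p', rfl, rfl, fun _ => hp', fun i => i.elim0⟩
  have hstep : ∀ q1 q2 : Ideal A, Reach q1 → q2 ∈ minimalPrimes A →
      (∃ (Q : Ideal A) (_ : Q.IsPrime), q1 ≤ Q ∧ q2 ≤ Q ∧ Q.height + 1 ≤ (d : ℕ∞)) →
      Reach q2 := by
    rintro q1 q2 ⟨n, c, h0, hl, hmin, hadj⟩ hq2 ⟨Q, hQ, h1Q, h2Q, hht⟩
    refine ⟨n + 1, Fin.snoc (α := fun _ => Ideal A) c q2, ?_, ?_, ?_, ?_⟩
    · have h00 : (0 : Fin (n + 1 + 1)) = Fin.castSucc (0 : Fin (n + 1)) := rfl
      rw [h00, Fin.snoc_castSucc]; exact h0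
    · exact Fin.snoc_last (α := fun _ => Ideal A) _ _
    · intro i
      refine Fin.lastCases ?_ (fun j => ?_) i
      · rw [Fin.snoc_last]; exact hq2
      · rw [Fin.snoc_castSucc]; exact hmin j
    · intro i
      refine Fin.lastCases ?_ (fun j => ?_) i
      · refine ⟨Q, hQ, ?_, ?_, hht⟩
        · rw [Fin.snoc_castSucc, hl]; exact h1Q
        · rw [Fin.succ_last, Fin.snoc_last]; exact h2Q
      · obtain ⟨Q', hQ', ha, hb, hc⟩ := hadj j
        refine ⟨Q', hQ', ?_, ?_, hc⟩
        · rw [Fin.snoc_castSucc]; exact ha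
        · rw [Fin.succ_castSucc, Fin.snoc_castSucc]; exact hb
  by_contra hcon
  have hnot : ¬ Reach p'' := fun hr => hcon hr
  set P1 : Set (Ideal A) := {q | q ∈ minimalPrimes A ∧ Reach q} with hP1def
  set P2 : Set (Ideal A) := {q | q ∈ minimalPrimes A ∧ ¬ Reach q} with hP2def
  have hP : P1 ∪ P2 = minimalPrimes A := by
    ext q; constructor
    · rintro (h | h) <;> exact h.1
    · intro hq; by_cases hr : Reach q
      · exact Or.inl ⟨hq, hr⟩
      · exact Or.inr ⟨hq, hr⟩
  have hdisj : Disjoint P1 P2 := Set.disjoint_left.mpr (fun q h1 h2 => h2.2 h1.2)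
  have hfin : (minimalPrimes A).Finite := minimalPrimes.finite_of_isNoetherianRing A
  have hP1fin : P1.Finite := hfin.subset (fun q h => h.1)
  have hP2fin : P2.Finite := hfin.subset (fun q h => h.1)
  have hp'1 : p' ∈ P1 := ⟨hp', hreach0⟩
  have hp''2 : p'' ∈ P2 := ⟨hp'', hnot⟩
  -- the sum is proper by connectedness
  have hne_top : sInf P1 ⊔ sInf P2 ≠ ⊤ := by
    intro htop
    have hpre : IsPreconnected (Set.univ : Set (PrimeSpectrum A)) := isPreconnected_univ
    have hcl1 : IsClosed (PrimeSpectrum.zeroLocus ((sInf P1 : Ideal A) : Set A)) :=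
      PrimeSpectrum.isClosed_zeroLocus _
    have hcl2 : IsClosed (PrimeSpectrum.zeroLocus ((sInf P2 : Ideal A) : Set A)) :=
      PrimeSpectrum.isClosed_zeroLocus _
    have hcov : (Set.univ : Set (PrimeSpectrum A)) ⊆
        PrimeSpectrum.zeroLocus ((sInf P1 : Ideal A) : Set A) ∪
          PrimeSpectrum.zeroLocus ((sInf P2 : Ideal A) : Set A) := by
      intro x _
      obtain ⟨q, hq, hqx⟩ := Ideal.exists_minimalPrimes_le (bot_le : (⊥ : Ideal A) ≤ x.asIdeal)
      have hq' : q ∈ minimalPrimes A := hq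
      rw [← hP] at hq'
      rcases hq' with h1 | h2
      · left
        rw [PrimeSpectrum.mem_zeroLocus]
        exact (sInf_le h1).trans hqx
      · right
        rw [PrimeSpectrum.mem_zeroLocus]
        exact (sInf_le h2).trans hqx
    haveI hp'prime : p'.IsPrime := hp'.1.1
    haveI hp''prime : p''.IsPrime := hp''.1.1
    have hne1 : ((Set.univ : Set (PrimeSpectrum A)) ∩
        PrimeSpectrum.zeroLocus ((sInf P1 : Ideal A) : Set A)).Nonempty := by
      refine ⟨⟨p', hp'prime⟩, trivial, ?_⟩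
      rw [PrimeSpectrum.mem_zeroLocus]
      exact SetLike.coe_subset_coe.mpr (sInf_le hp'1)
    have hne2 : ((Set.univ : Set (PrimeSpectrum A)) ∩
        PrimeSpectrum.zeroLocus ((sInf P2 : Ideal A) : Set A)).Nonempty := by
      refine ⟨⟨p'', hp''prime⟩, trivial, ?_⟩
      rw [PrimeSpectrum.mem_zeroLocus]
      exact SetLike.coe_subset_coe.mpr (sInf_le hp''2)
    obtain ⟨x, -, hx1, hx2⟩ := (isPreconnected_closed_iff.mp hpre) _ _ hcl1 hcl2 hcov hne1 hne2
    rw [PrimeSpectrum.mem_zeroLocus] at hx1 hx2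
    have hle : sInf P1 ⊔ sInf P2 ≤ x.asIdeal := sup_le hx1 hx2
    rw [htop] at hle
    exact x.2.ne_top (top_le_iff.mp hle)
  obtain ⟨⟨P, hPmin⟩⟩ := Ideal.nonempty_minimalPrimes hne_top
  haveI hPprime : P.IsPrime := hPmin.1.1
  have hHC := Groth.Agent.Lib.Helper48.Hartshorne.not_two_le_depth A P1 P2 hP hdisj P hPmin
  have hlt : P.height + 1 ≤ (d : ℕ∞) := by
    by_contra hcon2
    apply hHC
    apply h P
    rw [not_le] at hcon2
    exact ENat.natCast_lt_add_one_iff.mp hcon2
  obtain ⟨p1, hp1, hp1P⟩ := Groth.Agent.Lib.Helper48.Hartshorne.exists_mem_le_of_sInf_le P1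
    hP1fin P (le_sup_left.trans hPmin.1.2)
  obtain ⟨p2, hp2, hp2P⟩ := Groth.Agent.Lib.Helper48.Hartshorne.exists_mem_le_of_sInf_le P2
    hP2fin P (le_sup_right.trans hPmin.1.2)
  exact hp2.2 (hstep p1 p2 hp1.2 hp2.1 ⟨P, hPprime, hp1P, hp2P, hlt⟩)

end Groth.Agent.S4721
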