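import Groth.Statements.S4726
import Mathlib
-- import your own Groth.Agent.* helpers here

set_option autoImplicit false
universe u
open EGA4

namespace Groth.Agent.S4726

open TensorProduct in
/-- Let (A_i) be a directed system of commutative rings with direct limit A and M a finitely presented
A-module. Then there exist an index i and a finitely presented A_i-module M_i such that M is
isomorphic, as an A-module, to A ⊗_{A_i} M_i (A being an A_i-algebra through the canonical map). -/
theorem result (ι : Type u) [Preorder ι] [Nonempty ι] [IsDirectedOrder ι]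
    (G : ι → Type u) [∀ i, CommRing (G i)] (f : ∀ i j, i ≤ j → G i →+* G j)
    [DirectedSystem G (fun i j h ↦ f i j h)] (M : Type u) [AddCommGroup M]
    [Module (Ring.DirectLimit G (fun i j h ↦ f i j h)) M]
    [Module.FinitePresentation (Ring.DirectLimit G (fun i j h ↦ f i j h)) M] :
    ∃ (i : ι) (Mi : Type u) (_ : AddCommGroup Mi) (_ : Module (G i) Mi), Module.FinitePresentation (G i) Mi ∧
      letI : Algebra (G i) (Ring.DirectLimit G (fun i j h ↦ f i j h)) :=
        (Ring.DirectLimit.of G (fun i j h ↦ f i j h) i).toAlgebra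
      Nonempty (M ≃ₗ[Ring.DirectLimit G (fun i j h ↦ f i j h)] (Ring.DirectLimit G (fun i j h ↦ f i j h)) ⊗[G i] Mi) := by
  classical
  obtain ⟨n, m, φ, g, hφ, hex⟩ :=
    Module.FinitePresentation.exists_fin' (Ring.DirectLimit G (fun i j h ↦ f i j h)) M
  have hlift : ∀ (k : Fin m) (j : Fin n), ∃ i, ∃ a : G i,
      Ring.DirectLimit.of G (fun i j h ↦ f i j h) i a = g (Pi.single k 1) j :=
    fun k j => Ring.DirectLimit.exists_of _
  choose idx a ha using hlift
  obtain ⟨i₀, hi₀⟩ := (Finset.univ.image (fun p : Fin m × Fin n => idx p.1 p.2)).exists_le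
  have hle : ∀ k j, idx k j ≤ i₀ := fun k j =>
    hi₀ _ (Finset.mem_image.2 ⟨(k, j), Finset.mem_univ _, rfl⟩)
  let w : Fin m → (Fin n → G i₀) := fun k j => f (idx k j) i₀ (hle k j) (a k j)
  have hw : ∀ k j, Ring.DirectLimit.of G (fun i j h ↦ f i j h) i₀ (w k j) =
      g (Pi.single k 1) j := by
    intro k j
    show Ring.DirectLimit.of G (fun i j h ↦ f i j h) i₀ (f (idx k j) i₀ (hle k j) (a k j)) = _
    rw [Ring.DirectLimit.of_f, ha]
  let instAlg : Algebra (G i₀) (Ring.DirectLimit G (fun i j h ↦ f i j h)) :=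
    (Ring.DirectLimit.of G (fun i j h ↦ f i j h) i₀).toAlgebra
  let instMod : Module (G i₀) M :=
    Module.compHom M (Ring.DirectLimit.of G (fun i j h ↦ f i j h) i₀)
  have instST : IsScalarTower (G i₀) (Ring.DirectLimit G (fun i j h ↦ f i j h)) M :=
    IsScalarTower.of_algebraMap_smul (fun r x => rfl)
  let gi : (Fin m → G i₀) →ₗ[G i₀] (Fin n → G i₀) := Fintype.linearCombination (G i₀) w
  have hfg : (LinearMap.range gi).FG := by
    rw [LinearMap.range_eq_map]
    exact (Module.Finite.fg_top).map gi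
  have hfp : Module.FinitePresentation (G i₀) ((Fin n → G i₀) ⧸ LinearMap.range gi) :=
    Module.finitePresentation_of_surjective (LinearMap.range gi).mkQ
      (Submodule.mkQ_surjective _) (by rw [Submodule.ker_mkQ]; exact hfg)
  let ofn : (Fin n → G i₀) →ₗ[G i₀] (Fin n → Ring.DirectLimit G (fun i j h ↦ f i j h)) :=
    (Algebra.linearMap (G i₀) (Ring.DirectLimit G (fun i j h ↦ f i j h))).compLeft (Fin n)
  have hofn : ∀ (u : Fin n → G i₀) (j : Fin n),
      ofn u j = Ring.DirectLimit.of G (fun i j h ↦ f i j h) i₀ (u j) := fun u j => rfl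
  have hofn_w : ∀ k, ofn (w k) = g (Pi.single k 1) := by
    intro k; funext j; rw [hofn, hw]
  have hofn_single : ∀ j : Fin n, ofn (Pi.single j 1) = Pi.single j 1 := by
    intro j; funext l
    rw [hofn]
    by_cases hlj : l = j
    · subst hlj; rw [Pi.single_eq_same, Pi.single_eq_same, map_one]
    · rw [Pi.single_eq_of_ne hlj, Pi.single_eq_of_ne hlj, map_zero]
  have hwmem : ∀ k, w k ∈ LinearMap.range gi := by
    intro k
    refine ⟨Pi.single k 1, ?_⟩
    show Fintype.linearCombination (G i₀) w (Pi.single k 1) = w k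
    rw [Fintype.linearCombination_apply_single, one_smul]
  -- maps
  let β₀ : (Fin n → G i₀) →ₗ[G i₀] M := (φ.restrictScalars (G i₀)).comp ofn
  have hker : LinearMap.range gi ≤ LinearMap.ker β₀ := by
    show LinearMap.range (Fintype.linearCombination (G i₀) w) ≤ LinearMap.ker β₀
    rw [Fintype.range_linearCombination, Submodule.span_le]
    rintro _ ⟨k, rfl⟩
    show φ (ofn (w k)) = 0
    rw [hofn_w]
    exact hex.apply_apply_eq_zero _
  let α₀ : ((Fin n → G i₀) ⧸ LinearMap.range gi) →ₗ[G i₀] M :=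
    (LinearMap.range gi).liftQ β₀ hker
  let α : (TensorProduct (G i₀) (Ring.DirectLimit G (fun i j h ↦ f i j h))
      ((Fin n → G i₀) ⧸ LinearMap.range gi)) →ₗ[Ring.DirectLimit G (fun i j h ↦ f i j h)] M :=
    α₀.liftBaseChange (Ring.DirectLimit G (fun i j h ↦ f i j h))
  let γ₀ : (Fin n → Ring.DirectLimit G (fun i j h ↦ f i j h)) →ₗ[Ring.DirectLimit G (fun i j h ↦ f i j h)]
      (TensorProduct (G i₀) (Ring.DirectLimit G (fun i j h ↦ f i j h))
        ((Fin n → G i₀) ⧸ LinearMap.range gi)) :=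
    Fintype.linearCombination (Ring.DirectLimit G (fun i j h ↦ f i j h))
      (fun j => (1 : Ring.DirectLimit G (fun i j h ↦ f i j h)) ⊗ₜ[G i₀]
        (LinearMap.range gi).mkQ (Pi.single j 1))
  have hγ₀_single : ∀ j : Fin n, γ₀ (Pi.single j 1) =
      (1 : Ring.DirectLimit G (fun i j h ↦ f i j h)) ⊗ₜ[G i₀]
        (LinearMap.range gi).mkQ (Pi.single j 1) := by
    intro j
    show Fintype.linearCombination _ _ (Pi.single j 1) = _
    rw [Fintype.linearCombination_apply_single, one_smul]
  have L1 : (γ₀.restrictScalars (G i₀)).comp ofn =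
      (TensorProduct.mk (G i₀) (Ring.DirectLimit G (fun i j h ↦ f i j h))
        ((Fin n → G i₀) ⧸ LinearMap.range gi) 1).comp (LinearMap.range gi).mkQ := by
    refine LinearMap.pi_ext' fun j => LinearMap.ext_ring ?_
    show γ₀ (ofn (Pi.single j 1)) = (1 : Ring.DirectLimit G (fun i j h ↦ f i j h)) ⊗ₜ[G i₀]
        (LinearMap.range gi).mkQ (Pi.single j 1)
    rw [hofn_single, hγ₀_single]
  have L1' : ∀ u : Fin n → G i₀, γ₀ (ofn u) =
      (1 : Ring.DirectLimit G (fun i j h ↦ f i j h)) ⊗ₜ[G i₀] (LinearMap.range gi).mkQ u :=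
    fun u => LinearMap.congr_fun L1 u
  have hγg : γ₀.comp g = 0 := by
    refine LinearMap.pi_ext' fun k => LinearMap.ext_ring ?_
    show γ₀ (g (Pi.single k 1)) = 0
    have hz : (LinearMap.range gi).mkQ (w k) = 0 :=
      (Submodule.Quotient.mk_eq_zero _).2 (hwmem k)
    rw [← hofn_w, L1', hz, TensorProduct.tmul_zero]
  have hγ₀ : LinearMap.ker φ ≤ LinearMap.ker γ₀ := by
    intro u hu
    obtain ⟨t, rfl⟩ := (hex u).1 hu
    exact LinearMap.congr_fun hγg t
  let γ : M →ₗ[Ring.DirectLimit G (fun i j h ↦ f i j h)]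
      (TensorProduct (G i₀) (Ring.DirectLimit G (fun i j h ↦ f i j h))
        ((Fin n → G i₀) ⧸ LinearMap.range gi)) :=
    ((LinearMap.ker φ).liftQ γ₀ hγ₀).comp (φ.quotKerEquivOfSurjective hφ).symm.toLinearMap
  have hγφ : ∀ u, γ (φ u) = γ₀ u := by
    intro u
    show (LinearMap.ker φ).liftQ γ₀ hγ₀ ((φ.quotKerEquivOfSurjective hφ).symm (φ u)) = γ₀ u
    rw [LinearMap.quotKerEquivOfSurjective_symm_apply, Submodule.liftQ_apply]
  have hα : ∀ (c : Ring.DirectLimit G (fun i j h ↦ f i j h)) (u : Fin n → G i₀),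
      α (c ⊗ₜ[G i₀] (LinearMap.range gi).mkQ u) = c • φ (ofn u) := by
    intro c u
    show α₀.liftBaseChange _ (c ⊗ₜ[G i₀] (LinearMap.range gi).mkQ u) = _
    rw [LinearMap.liftBaseChange_tmul]
    rfl
  have h2 : α.comp γ = LinearMap.id := by
    refine LinearMap.ext fun x => ?_
    obtain ⟨u, rfl⟩ := hφ x
    show α (γ (φ u)) = φ u
    rw [hγφ]
    have h3 : (α.comp γ₀) = φ := by
      refine LinearMap.pi_ext' fun j => LinearMap.ext_ring ?_
      show α (γ₀ (Pi.single j 1)) = φ (Pi.single j 1)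
      rw [hγ₀_single, hα, one_smul, hofn_single]
    exact LinearMap.congr_fun h3 u
  have h1 : γ.comp α = LinearMap.id := by
    refine LinearMap.ext fun t => ?_
    show γ (α t) = t
    induction t using TensorProduct.induction_on with
    | zero => rw [map_zero, map_zero]
    | tmul c y =>
      obtain ⟨u, rfl⟩ := Submodule.mkQ_surjective _ y
      rw [hα, map_smul, hγφ, L1', TensorProduct.smul_tmul', smul_eq_mul, mul_one]
    | add t₁ t₂ h₁ h₂ => rw [map_add, map_add, h₁, h₂]
  exact ⟨i₀, (Fin n → G i₀) ⧸ LinearMap.range gi, inferInstance, inferInstance, hfp,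
    ⟨LinearEquiv.ofLinearMap γ α h1 h2⟩⟩

end Groth.Agent.S4726
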