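import Groth.Statements.S4728
import Groth.Agent.Lib.Helper49.NormalHom
import Groth.Agent.S9297
-- import your own Groth.Agent.* helpers here

set_option autoImplicit false
universe u
open EGA4

namespace Groth.Agent.S4728

open TensorProduct in
attribute [local instance] Algebra.TensorProduct.rightAlgebra in
/-- The closed fibre ring of a local homomorphism is `A' / m A'`. -/
theorem nonempty_fiber_equiv (A A' : Type u) [CommRing A] [CommRing A'] [IsLocalRing A]
    [Algebra A A'] :
    Nonempty ((IsLocalRing.maximalIdeal A).Fiber A' ≃+*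
      A' ⧸ (IsLocalRing.maximalIdeal A).map (algebraMap A A')) := by
  have hunits : ∀ x ∈ Algebra.algebraMapSubmonoid A' (IsLocalRing.maximalIdeal A).primeCompl,
      IsUnit x := by
    rintro _ ⟨a, ha, rfl⟩
    have hu : IsUnit a := by
      by_contra hu
      exact ha ((IsLocalRing.mem_maximalIdeal a).2 hu)
    exact hu.map _
  let e0 : A' ≃ₐ[A'] Localization
      (Algebra.algebraMapSubmonoid A' (IsLocalRing.maximalIdeal A).primeCompl) :=
    IsLocalization.atUnits A' _ hunits
  have e1 : (A' ⧸ (IsLocalRing.maximalIdeal A).map (algebraMap A A')) ≃+*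
      (Localization (Algebra.algebraMapSubmonoid A' (IsLocalRing.maximalIdeal A).primeCompl) ⧸
        ((IsLocalRing.maximalIdeal A).map (algebraMap A A')).map (algebraMap A' _)) :=
    Ideal.quotientEquiv _ _ e0.toRingEquiv (by
      congr 1)
  have e2 := (Ideal.Fiber.algEquivAux₁ (S := A') (IsLocalRing.maximalIdeal A)).toRingEquiv
  exact ⟨e2.trans e1.symm⟩


/-- Let A be a Noetherian local domain of dimension 1 with maximal ideal m, A' a Noetherian local ring
and A → A' a local homomorphism which is normal (flat, with geometrically normal fibres). Then the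
ideal m A' of A' is prime and the local ring of A' at m A' has dimension 1. (The remaining clauses
of the published item, describing A' inside its total ring of fractions, are not restated.) -/
theorem result (A A' : Type u) [CommRing A] [CommRing A']
    [IsNoetherianRing A] [IsNoetherianRing A'] [IsLocalRing A] [IsLocalRing A'] [IsDomain A]
    (hA : ringKrullDim A = 1) [Algebra A A'] [IsLocalHom (algebraMap A A')] (h : EGA4.IsNormalHom A A') :
    ((IsLocalRing.maximalIdeal A).map (algebraMap A A')).IsPrime ∧
      ((IsLocalRing.maximalIdeal A).map (algebraMap A A')).height = 1 := by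
  haveI := h.1
  obtain ⟨e⟩ := nonempty_fiber_equiv A A'
  have hF : EGA4.IsNormalRing ((IsLocalRing.maximalIdeal A).Fiber A') :=
    Groth.Agent.Lib.Helper49.NormalHom.isNormalRing_of_ringEquiv
      (Algebra.TensorProduct.lid _ _).toRingEquiv
      (h.2 (IsLocalRing.maximalIdeal A) (IsLocalRing.maximalIdeal A).ResidueField
        (Module.Finite.self _))
  have hR : EGA4.IsNormalRing (A' ⧸ (IsLocalRing.maximalIdeal A).map (algebraMap A A')) :=
    Groth.Agent.Lib.Helper49.NormalHom.isNormalRing_of_ringEquiv e hF
  have hne : (IsLocalRing.maximalIdeal A).map (algebraMap A A') ≠ ⊤ := by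
    intro htop
    have hle : (IsLocalRing.maximalIdeal A).map (algebraMap A A') ≤ IsLocalRing.maximalIdeal A' :=
      ((IsLocalRing.local_hom_TFAE (algebraMap A A')).out 0 2 rfl rfl).mp inferInstance
    rw [htop] at hle
    exact (IsLocalRing.maximalIdeal.isMaximal A').ne_top (top_le_iff.mp hle)
  haveI : Nontrivial (A' ⧸ (IsLocalRing.maximalIdeal A).map (algebraMap A A')) :=
    Ideal.Quotient.nontrivial_iff.mpr hne
  haveI : IsLocalRing (A' ⧸ (IsLocalRing.maximalIdeal A).map (algebraMap A A')) :=
    IsLocalRing.of_surjective' (Ideal.Quotient.mk _) Ideal.Quotient.mk_surjective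
  have hdom : IsDomain (A' ⧸ (IsLocalRing.maximalIdeal A).map (algebraMap A A')) := by
    obtain ⟨hd, _⟩ := hR (IsLocalRing.maximalIdeal _)
    let e' := IsLocalization.atUnits (A' ⧸ (IsLocalRing.maximalIdeal A).map (algebraMap A A'))
      (IsLocalRing.maximalIdeal _).primeCompl (S := Localization.AtPrime (IsLocalRing.maximalIdeal
        (A' ⧸ (IsLocalRing.maximalIdeal A).map (algebraMap A A')))) (fun x hx => by
        by_contra hu
        exact hx ((IsLocalRing.mem_maximalIdeal x).2 hu))
    exact e'.toRingEquiv.toMulEquiv.isDomain _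
  have hprime : ((IsLocalRing.maximalIdeal A).map (algebraMap A A')).IsPrime :=
    (Ideal.Quotient.isDomain_iff_prime _).1 hdom
  refine ⟨hprime, ?_⟩
  haveI := hprime
  haveI hlo : ((IsLocalRing.maximalIdeal A).map (algebraMap A A')).LiesOver
      (IsLocalRing.maximalIdeal A) := by
    refine ⟨?_⟩
    have hle : IsLocalRing.maximalIdeal A ≤
        ((IsLocalRing.maximalIdeal A).map (algebraMap A A')).under A := Ideal.le_comap_map
    exact (IsLocalRing.maximalIdeal.isMaximal A).eq_of_le
      (Ideal.IsPrime.ne_top (Ideal.comap_isPrime _ _)) hle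
  have hmin : (IsLocalRing.maximalIdeal A).map (algebraMap A A') ∈
      ((IsLocalRing.maximalIdeal A).map (algebraMap A A')).minimalPrimes := by
    rw [Ideal.minimalPrimes_eq_subsingleton_self]
    exact Set.mem_singleton _
  have h0 := Groth.Agent.S9297.ringKrullDim_fibLoc_eq_zero (IsLocalRing.maximalIdeal A)
    ((IsLocalRing.maximalIdeal A).map (algebraMap A A')) hmin
  have h1 := Groth.Agent.Lib.Helper49.FibreSk.height_eq_add (IsLocalRing.maximalIdeal A)
    ((IsLocalRing.maximalIdeal A).map (algebraMap A A'))
  rw [h0, add_zero, IsLocalRing.maximalIdeal_height_eq_ringKrullDim, hA] at h1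
  exact_mod_cast h1

end Groth.Agent.S4728
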