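import Groth.Statements.S4729
import Groth.Agent.Lib.Helper29.SuppLoc

set_option autoImplicit false
universe u
open EGA4
open Groth.Agent.Lib.Helper29

namespace Groth.Agent.S4729

/-- Let A be a commutative ring, M a finite A-module and p ⊆ q prime ideals of A (so that p is a
generization of q). Then the dimension of the A_p-module M_p is at most the dimension of the
A_q-module M_q. -/
theorem result (A : Type u) [CommRing A] (M : Type u) [AddCommGroup M] [Module A M]
    [Module.Finite A M] (p q : Ideal A) [p.IsPrime] [q.IsPrime] (hpq : p ≤ q) :
    Module.supportDim (Localization.AtPrime p) (LocalizedModule p.primeCompl M) ≤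
      Module.supportDim (Localization.AtPrime q) (LocalizedModule q.primeCompl M) := by
  unfold Module.supportDim
  have hdisj : ∀ Q : PrimeSpectrum (Localization.AtPrime p),
      Disjoint (q.primeCompl : Set A)
        ((PrimeSpectrum.comap (algebraMap A (Localization.AtPrime p)) Q).asIdeal : Set A) := by
    intro Q
    rw [Set.disjoint_left]
    intro a ha hac
    exact ha (hpq (SuppLoc.comap_le_atPrime A p Q hac))
  let g : PrimeSpectrum (Localization.AtPrime p) → PrimeSpectrum (Localization.AtPrime q) :=
    fun Q => ⟨(PrimeSpectrum.comap (algebraMap A (Localization.AtPrime p)) Q).asIdeal.map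
      (algebraMap A (Localization.AtPrime q)),
      IsLocalization.isPrime_of_isPrime_disjoint q.primeCompl _ _
        (PrimeSpectrum.comap (algebraMap A (Localization.AtPrime p)) Q).isPrime (hdisj Q)⟩
  have hg : ∀ Q, PrimeSpectrum.comap (algebraMap A (Localization.AtPrime q)) (g Q) =
      PrimeSpectrum.comap (algebraMap A (Localization.AtPrime p)) Q := by
    intro Q
    apply PrimeSpectrum.ext
    exact IsLocalization.under_map_of_isPrime_disjoint q.primeCompl _
      (PrimeSpectrum.comap (algebraMap A (Localization.AtPrime p)) Q).isPrime (hdisj Q)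
  let f : Module.support (Localization.AtPrime p) (LocalizedModule p.primeCompl M) →
      Module.support (Localization.AtPrime q) (LocalizedModule q.primeCompl M) := fun Q =>
    ⟨g Q.1, by
      rw [SuppLoc.mem_support_iff_comap_mem_support q.primeCompl
        (LocalizedModule.mkLinearMap q.primeCompl M), hg]
      exact (SuppLoc.mem_support_iff_comap_mem_support p.primeCompl
        (LocalizedModule.mkLinearMap p.primeCompl M) Q.1).1 Q.2⟩
  apply Order.krullDim_le_of_strictMono f
  intro Q Q' hQQ'
  refine lt_of_le_of_ne ?_ ?_
  · exact Ideal.map_mono (Ideal.comap_mono (show Q.1.asIdeal ≤ Q'.1.asIdeal from hQQ'.le))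
  · intro heq
    have h1 : g Q.1 = g Q'.1 := congrArg Subtype.val heq
    have h2 : PrimeSpectrum.comap (algebraMap A (Localization.AtPrime p)) Q.1 =
        PrimeSpectrum.comap (algebraMap A (Localization.AtPrime p)) Q'.1 := by
      rw [← hg, ← hg, h1]
    exact hQQ'.ne (Subtype.ext (SuppLoc.comap_injective_atPrime A p h2))

end Groth.Agent.S4729
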