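import Groth.Statements.S4730
import Groth.Agent.Lib.Helper73.DimFormula

set_option autoImplicit false
universe u
open EGA4

namespace Groth.Agent.S4730

open Polynomial in
/-- Let A be a Noetherian ring, p a prime ideal of A and q a prime ideal of the polynomial ring A[T]
lying over p. Then ht(p) + 1 = ht(q) + deg.tr_{κ(p)} κ(q), the transcendence degree being that of
the domain A[T]/q over the domain A/p. -/
theorem result (A : Type u) [CommRing A] [IsNoetherianRing A]
    (p : Ideal A) [p.IsPrime] (q : Ideal A[X]) [q.IsPrime] [q.LiesOver p] :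
    (p.height : Cardinal.{u}) + 1 = (q.height : Cardinal.{u}) + Algebra.trdeg (A ⧸ p) (A[X] ⧸ q) := by
  have hx : Function.Surjective (Polynomial.aeval (Polynomial.X : A[X]) : A[X] →ₐ[A] A[X]) := by
    rw [Polynomial.aeval_X_left]
    exact Function.surjective_id
  have h := Groth.Agent.Lib.Helper73.DimFormula.height_comap_aeval_add_trdeg
    (Polynomial.X : A[X]) hx p q
  have h2 : q.comap (Polynomial.aeval (Polynomial.X : A[X]) : A[X] →ₐ[A] A[X]).toRingHom = q := by
    rw [Polynomial.aeval_X_left]
    exact Ideal.comap_id q
  rw [h2] at h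
  exact h.symm

end Groth.Agent.S4730
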