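import Groth.Statements.S4731
import Mathlib

set_option autoImplicit false
universe u
open EGA4

namespace Groth.Agent.S4731

/-- ACC for `S`-submodules of a finite module killed by `c` with `S ⧸ c` Noetherian. -/
theorem stabilizes_of_quotient {S : Type u} [CommRing S] (c : Ideal S) [IsNoetherianRing (S ⧸ c)]
    (M : Type u) [AddCommGroup M] [Module S M] [Module.Finite S M]
    (P : ℕ →o Submodule S M) (hP : ∀ n, (c • ⊤ : Submodule S M) ≤ P n) :
    ∃ N : ℕ, ∀ n, N ≤ n → P n = P N := by
  let Q := M ⧸ (c • ⊤ : Submodule S M)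
  haveI : Module.Finite (S ⧸ c) Q := by
    have : Module.Finite S Q := inferInstance
    obtain ⟨s, hs⟩ := this.1
    refine ⟨⟨s, ?_⟩⟩
    rw [eq_top_iff]
    intro x _
    have hx : x ∈ Submodule.span S (s : Set Q) := by rw [hs]; trivial
    refine Submodule.span_induction ?_ ?_ ?_ ?_ hx
    · intro y hy; exact Submodule.subset_span hy
    · exact Submodule.zero_mem _
    · intro y z _ _ hy hz; exact Submodule.add_mem _ hy hz
    · intro a y _ hy
      have : a • y = (Ideal.Quotient.mk c a) • y := by
        obtain ⟨y', rfl⟩ := Submodule.Quotient.mk_surjective _ y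
        rfl
      rw [this]
      exact Submodule.smul_mem _ _ hy
  haveI : IsNoetherian (S ⧸ c) Q := isNoetherian_of_isNoetherianRing_of_finite (S ⧸ c) Q
  let P' : ℕ →o Submodule (S ⧸ c) Q :=
    { toFun := fun n =>
        { carrier := (Submodule.map (c • ⊤ : Submodule S M).mkQ (P n) : Set Q)
          add_mem' := fun ha hb => Submodule.add_mem _ ha hb
          zero_mem' := Submodule.zero_mem _
          smul_mem' := by
            intro a y hy
            obtain ⟨a', rfl⟩ := Ideal.Quotient.mk_surjective a
            have : (Ideal.Quotient.mk c a') • y = a' • y := by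
              obtain ⟨y', rfl⟩ := Submodule.Quotient.mk_surjective _ y
              rfl
            rw [this]
            exact Submodule.smul_mem _ _ hy }
      monotone' := by
        intro n m hnm y hy
        exact Submodule.map_mono (P.monotone hnm) hy }
  obtain ⟨N, hN⟩ := monotone_stabilizes_iff_noetherian.mpr ‹IsNoetherian (S ⧸ c) Q› P'
  refine ⟨N, fun n hn => ?_⟩
  have h1 : (Submodule.map (c • ⊤ : Submodule S M).mkQ (P n) : Set Q) =
      Submodule.map (c • ⊤ : Submodule S M).mkQ (P N) := by
    have := hN n hn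
    exact congrArg (fun X : Submodule (S ⧸ c) Q => (X : Set Q)) this.symm ▸ rfl
  have h2 : Submodule.map (c • ⊤ : Submodule S M).mkQ (P n) =
      Submodule.map (c • ⊤ : Submodule S M).mkQ (P N) := SetLike.coe_injective h1
  have h3 := congrArg (Submodule.comap (c • ⊤ : Submodule S M).mkQ) h2
  rw [Submodule.comap_map_mkQ, Submodule.comap_map_mkQ, sup_eq_right.mpr (hP n),
    sup_eq_right.mpr (hP N)] at h3
  exact h3
/-- Let S → R be an injective homomorphism of commutative rings making R a finite S-module, with R
Noetherian; let c be the conductor of S in R, the ideal of those s in S with s R contained in (the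
image of) S. If S/c is Noetherian, then every increasing sequence of ideals of S contained in c is
eventually constant. -/
theorem result (S R : Type u) [CommRing S] [CommRing R] [Algebra S R]
    [FaithfulSMul S R] [IsNoetherianRing R] [Module.Finite S R] (c : Ideal S)
    (hc : ∀ s : S, s ∈ c ↔ ∀ r : R, ∃ s' : S, algebraMap S R s' = algebraMap S R s * r)
    [IsNoetherianRing (S ⧸ c)] (a : ℕ →o Ideal S) (ha : ∀ n, a n ≤ c) :
    ∃ N : ℕ, ∀ n, N ≤ n → a n = a N := by
  have hinj : Function.Injective (algebraMap S R) := FaithfulSMul.algebraMap_injective S R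
  -- c is an R-ideal
  have claim1 : ∀ s ∈ c, ∀ r : R, ∃ s' ∈ c, algebraMap S R s' = algebraMap S R s * r := by
    intro s hs r
    obtain ⟨s', hs'⟩ := (hc s).mp hs r
    refine ⟨s', (hc s').mpr fun r' => ?_, hs'⟩
    obtain ⟨s'', hs''⟩ := (hc s).mp hs (r * r')
    exact ⟨s'', by rw [hs'', hs', mul_assoc]⟩
  -- the chain of extended ideals stabilizes
  let bb : ℕ →o Ideal R :=
    { toFun := fun n => Ideal.map (algebraMap S R) (a n)
      monotone' := fun n m hnm => Ideal.map_mono (a.monotone hnm) }
  obtain ⟨N, hN⟩ := monotone_stabilizes_iff_noetherian.mpr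
    (inferInstance : IsNoetherian R R) bb
  let b : Ideal R := bb N
  have hb : ∀ n, N ≤ n → Ideal.map (algebraMap S R) (a n) = b := fun n hn => (hN n hn).symm
  -- the S-module b
  have : Module.Finite R b := Module.Finite.of_fg (IsNoetherian.noetherian b)
  have : Module.Finite S b := Module.Finite.trans R b
  -- key containment
  have key : ∀ n, N ≤ n → ∀ y ∈ b, ∀ s ∈ c, ∃ x ∈ a n, algebraMap S R x = algebraMap S R s * y := by
    intro n hn y hy
    rw [← hb n hn, Ideal.map] at hy
    refine Submodule.span_induction ?_ ?_ ?_ ?_ hy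
    · rintro _ ⟨x, hx, rfl⟩ s _
      exact ⟨s * x, (a n).mul_mem_left s hx, map_mul _ _ _⟩
    · intro s _
      exact ⟨0, (a n).zero_mem, by rw [map_zero, mul_zero]⟩
    · intro y z _ _ hy hz s hs
      obtain ⟨x1, hx1, h1⟩ := hy s hs
      obtain ⟨x2, hx2, h2⟩ := hz s hs
      exact ⟨x1 + x2, (a n).add_mem hx1 hx2, by rw [map_add, h1, h2, mul_add]⟩
    · intro r y _ hy s hs
      obtain ⟨s', hs', h'⟩ := claim1 s hs r
      obtain ⟨x, hx, h1⟩ := hy s' hs'
      exact ⟨x, hx, by rw [h1, h', smul_eq_mul, mul_assoc]⟩
  let P : ℕ →o Submodule S b :=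
    { toFun := fun n => Submodule.comap ((b.subtype).restrictScalars S)
        (Submodule.map (Algebra.linearMap S R) (a (N + n)))
      monotone' := fun n m hnm =>
        Submodule.comap_mono (Submodule.map_mono (a.monotone (Nat.add_le_add_left hnm N))) }
  have hP : ∀ n, (c • ⊤ : Submodule S b) ≤ P n := by
    intro n
    rw [Submodule.smul_le]
    intro s hs y _
    obtain ⟨x, hx, h1⟩ := key (N + n) (Nat.le_add_right N n) y.1 y.2 s hs
    refine ⟨x, hx, ?_⟩
    simp only [Algebra.linearMap_apply, LinearMap.coe_restrictScalars, Submodule.subtype_apply]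
    rw [h1, Submodule.coe_smul_of_tower, Algebra.smul_def]
  obtain ⟨N', hN'⟩ := stabilizes_of_quotient c b P hP
  have hmain : ∀ n, N' ≤ n → a (N + n) = a (N + N') := by
    intro n hn
    apply le_antisymm
    · intro x hx
      have hxb : algebraMap S R x ∈ b := by
        rw [← hb (N + n) (Nat.le_add_right N n)]
        exact Ideal.mem_map_of_mem _ hx
      have h1 : (⟨algebraMap S R x, hxb⟩ : b) ∈ P n := ⟨x, hx, rfl⟩
      rw [hN' n hn] at h1
      obtain ⟨x', hx', h2⟩ := h1
      have : x' = x := hinj h2
      exact this ▸ hx'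
    · exact a.monotone (Nat.add_le_add_left hn N)
  refine ⟨N + N', fun m hm => ?_⟩
  obtain ⟨n, rfl⟩ := Nat.exists_eq_add_of_le (le_trans (Nat.le_add_right N N') hm)
  exact hmain n (by omega)

end Groth.Agent.S4731
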