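import Groth.Statements.S4732
import Mathlib
import Groth.Agent.Lib.Helper62.SmoothStalk

set_option autoImplicit false
set_option linter.style.haveILetI false
universe u
open EGA4

namespace Groth.Agent.S4732

open AlgebraicGeometry CategoryTheory Groth.Agent.Lib.Helper62

theorem main (k : Type u) [Field k] {X : Scheme.{u}}
    (f : X ⟶ Spec (CommRingCat.of k)) [LocallyOfFiniteType f] (x : X) :
    ∃ (U : X.Opens) (_ : x ∈ U) (Y : Scheme.{u}) (g : Y ⟶ Spec (CommRingCat.of k))
      (i : (U : Scheme.{u}) ⟶ Y),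
      IsImmersion i ∧ i ≫ g = U.ι ≫ f ∧ ∀ y : Y, IsRegularLocalRing (Y.presheaf.stalk y) := by
  obtain ⟨_, ⟨U, hU0, rfl⟩, hxU, -⟩ :=
    X.isBasis_affineOpens.exists_subset_of_mem_open (Set.mem_univ x) isOpen_univ
  have hU : IsAffineOpen U := hU0
  letI : Algebra k Γ(X, U) := (BCStalk.toSection f U).toAlgebra
  have hft : Algebra.FiniteType k Γ(X, U) := by
    have h1 : RingHom.FiniteType (f.appLE ⊤ U le_top).hom :=
      HasRingHomProperty.appLE @LocallyOfFiniteType f inferInstance ⟨⊤, isAffineOpen_top _⟩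
        ⟨U, hU⟩ le_top
    let e : Γ(Spec (CommRingCat.of k), ⊤) ≃+* k :=
      (Scheme.ΓSpecIso (CommRingCat.of k)).commRingCatIsoToRingEquiv
    have h2 : RingHom.FiniteType ((f.appLE ⊤ U le_top).hom.comp e.symm.toRingHom) :=
      RingHom.finiteType_respectsIso.2 _ e.symm h1
    exact h2
  obtain ⟨n, φ, hφ⟩ := Algebra.FiniteType.iff_quotient_mvPolynomial''.mp hft
  let g : Spec (CommRingCat.of (MvPolynomial (Fin n) k)) ⟶ Spec (CommRingCat.of k) :=
    Spec.map (CommRingCat.ofHom (algebraMap k (MvPolynomial (Fin n) k)))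
  let i : (U : Scheme.{u}) ⟶ Spec (CommRingCat.of (MvPolynomial (Fin n) k)) :=
    hU.isoSpec.hom ≫ Spec.map (CommRingCat.ofHom φ.toRingHom)
  haveI : IsClosedImmersion (Spec.map (CommRingCat.ofHom φ.toRingHom)) :=
    IsClosedImmersion.spec_of_surjective _ hφ
  haveI : IsClosedImmersion i := inferInstance
  haveI : Smooth g := by
    rw [HasRingHomProperty.Spec_iff (P := @Smooth)]
    exact RingHom.smooth_algebraMap.mpr
      ({} : Algebra.Smooth k (MvPolynomial (Fin n) k))
  refine ⟨U, hxU, _, g, i, inferInstance, ?_, fun y => SmoothStalk.isRegularLocalRing_stalk g y⟩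
  have h1 : CommRingCat.ofHom (algebraMap k (MvPolynomial (Fin n) k)) ≫
      CommRingCat.ofHom φ.toRingHom =
      (Scheme.ΓSpecIso (CommRingCat.of k)).inv ≫ f.appLE ⊤ U le_top := by
    ext c
    exact φ.commutes c
  have h2 : Spec.map (f.appLE ⊤ U le_top) ≫ (isAffineOpen_top (Spec (CommRingCat.of k))).fromSpec =
      hU.fromSpec ≫ f := IsAffineOpen.SpecMap_appLE_fromSpec f (isAffineOpen_top _) hU le_top
  simp only [i, g, Category.assoc]
  rw [← Spec.map_comp, h1, Spec.map_comp, ← hU.isoSpec_hom_fromSpec, Category.assoc, ← h2]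
  congr 2
  rw [IsAffineOpen.fromSpec_top, Scheme.isoSpec_Spec_inv]


open AlgebraicGeometry CategoryTheory in
/-- Let k be a field, X a scheme locally of finite type over k and x a point of X. Then there are an
open neighbourhood U of x, a k-scheme Y all of whose local rings are regular, and an immersion U → Y
compatible with the structure morphisms to Spec k. -/
theorem result (k : Type u) [Field k] {X : Scheme.{u}}
    (f : X ⟶ Spec (CommRingCat.of k)) [LocallyOfFiniteType f] (x : X) :
    ∃ (U : X.Opens) (_ : x ∈ U) (Y : Scheme.{u}) (g : Y ⟶ Spec (CommRingCat.of k)) (i : (U : Scheme.{u}) ⟶ Y),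
      IsImmersion i ∧ i ≫ g = U.ι ≫ f ∧ ∀ y : Y, IsRegularLocalRing (Y.presheaf.stalk y) := by
  exact main k f x

end Groth.Agent.S4732
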