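import Groth.Statements.S4734
import Groth.Agent.S2698
import Groth.Agent.Lib.Helper93.NormFlatDepth
import Groth.Agent.Lib.Helper15.ZSk

set_option autoImplicit false
universe u
open EGA4

namespace Groth.Agent.S4734

namespace S4734P

open Groth.Agent.S4699.S4699P Groth.Agent.S2710.S2710P Groth.Agent.S2698.S2698P
open Groth.Agent.Lib.Helper29 Groth.Agent.Lib.Helper93.NormFlatDepth IsLocalRing
set_option linter.style.haveILetI false

variable {A : Type u} [CommRing A] [IsNoetherianRing A]

/-- "zero or depth `d`" at a prime. -/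
def DP (q : Ideal A) [q.IsPrime] (d : ℕ) (X : Type u) [AddCommGroup X] [Module A X] : Prop :=
  Subsingleton (LocalizedModule q.primeCompl X) ∨ dp q X = d

theorem dp_congr_prime (X : Type u) [AddCommGroup X] [Module A X] (d : ℕ) (q1 q2 : Ideal A)
    [q1.IsPrime] [q2.IsPrime] (h : q1 = q2) (h1 : DP q1 d X) : DP q2 d X := by
  subst h
  exact h1

theorem DP_of_exact (q : Ideal A) [q.IsPrime] (d : ℕ) {N₁ N₂ N₃ : Type u}
    [AddCommGroup N₁] [Module A N₁] [Module.Finite A N₁]
    [AddCommGroup N₂] [Module A N₂] [Module.Finite A N₂]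
    [AddCommGroup N₃] [Module A N₃] [Module.Finite A N₃]
    (f : N₁ →ₗ[A] N₂) (g : N₂ →ₗ[A] N₃)
    (hf : Function.Injective f) (hg : Function.Surjective g) (hfg : Function.Exact f g)
    (h1 : DP q d N₁) (h3 : DP q d N₃) : DP q d N₂ :=
  depthP_of_exact (LocalizedModule.map q.primeCompl f) (LocalizedModule.map q.primeCompl g)
    (LocalizedModule.map_injective _ f hf) (LocalizedModule.map_surjective _ g hg)
    (loc_exact f g hfg q) d h1 h3

theorem DP_of_equiv (q : Ideal A) [q.IsPrime] (d : ℕ) {X Y : Type u}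
    [AddCommGroup X] [Module A X] [AddCommGroup Y] [Module A Y] (e : X ≃ₗ[A] Y)
    (h : DP q d X) : DP q d Y := by
  let e' : LocalizedModule q.primeCompl X ≃ₗ[Localization.AtPrime q]
      LocalizedModule q.primeCompl Y :=
    IsLocalizedModule.mapEquiv q.primeCompl (LocalizedModule.mkLinearMap q.primeCompl X)
      (LocalizedModule.mkLinearMap q.primeCompl Y) (Localization.AtPrime q) e
  rcases h with h | h
  · exact Or.inl e'.symm.toEquiv.subsingleton
  · exact Or.inr ((CMLib.depth_congr e').symm.trans h)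


theorem subsingleton_of_dp_eq_top (q : Ideal A) [q.IsPrime] (X : Type u) [AddCommGroup X]
    [Module A X] [Module.Finite A X] (h : dp q X = ⊤) :
    Subsingleton (LocalizedModule q.primeCompl X) := by
  by_contra hne
  rw [not_subsingleton_iff_nontrivial] at hne
  exact DepthLib.depth_ne_top (Localization.AtPrime q) (LocalizedModule q.primeCompl X) h

/-- a finite flat `A/I`-module has, at every prime, depth zero-or-that of `A/I`. -/
theorem DP_gr (I : Ideal A) (G : Type u) [AddCommGroup G] [Module A G] [Module (A ⧸ I) G]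
    [IsScalarTower A (A ⧸ I) G] [Module.Finite A G] [Module.Flat (A ⧸ I) G]
    (Q : Ideal (A ⧸ I)) [Q.IsPrime] (d : ℕ)
    (hd : dp (Q.comap (algebraMap A (A ⧸ I))) (A ⧸ I) = d) :
    DP (Q.comap (algebraMap A (A ⧸ I))) d G := by
  haveI : Module.Finite (A ⧸ I) G := Module.Finite.of_restrictScalars_finite A (A ⧸ I) G
  haveI : Module.Free (Localization.AtPrime Q) (LocalizedModule Q.primeCompl G) :=
    Module.free_of_flat_of_isLocalRing
  have e := (Module.finBasis (Localization.AtPrime Q) (LocalizedModule Q.primeCompl G)).equivFun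
  have hd' : LocCoh.depth (Localization.AtPrime Q) (Localization.AtPrime Q) = d := by
    rw [← CMLib.depth_congr (selfEquiv Q),
      Groth.Agent.Lib.Helper41.AdjTransfer.depth_comap_eq A (A ⧸ I)
        Ideal.Quotient.mk_surjective (A ⧸ I) Q]
    exact hd
  have h1 := depthP_pi (A := Localization.AtPrime Q) (Q := Localization.AtPrime Q) d (Or.inr hd')
    (Module.finrank (Localization.AtPrime Q) (LocalizedModule Q.primeCompl G))
  have h2 : LocCoh.depth (Localization.AtPrime Q) (LocalizedModule Q.primeCompl G) = ⊤ ∨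
      LocCoh.depth (Localization.AtPrime Q) (LocalizedModule Q.primeCompl G) = d := by
    rcases h1 with h1 | h1
    · left
      haveI := e.toEquiv.subsingleton
      exact DepthLoc.depth_eq_top_of_subsingleton _ _
    · right
      exact (CMLib.depth_congr e).trans h1
  rw [Groth.Agent.Lib.Helper41.AdjTransfer.depth_comap_eq A (A ⧸ I)
        Ideal.Quotient.mk_surjective G Q] at h2
  rcases h2 with h2 | h2
  · exact Or.inl (subsingleton_of_dp_eq_top _ G h2)
  · exact Or.inr h2

section filt
variable (I : Ideal A) (M : Type u) [AddCommGroup M] [Module A M]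

theorem pow_succ_smul_le' (k : ℕ) :
    (I ^ (k + 1) • (⊤ : Submodule A M)) ≤ I ^ k • (⊤ : Submodule A M) := by
  rw [pow_succ', Submodule.mul_smul]
  exact Submodule.smul_le_right

theorem mem_smul_top_sub_iff' (k : ℕ) (y : ↥(I ^ k • (⊤ : Submodule A M))) :
    y ∈ (I • ⊤ : Submodule A ↥(I ^ k • (⊤ : Submodule A M))) ↔
      (y : M) ∈ I ^ (k + 1) • (⊤ : Submodule A M) := by
  have h1 : (I • ⊤ : Submodule A ↥(I ^ k • (⊤ : Submodule A M))).map
      (I ^ k • (⊤ : Submodule A M)).subtype = I ^ (k + 1) • (⊤ : Submodule A M) := by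
    rw [Submodule.map_smul'', Submodule.map_top, Submodule.range_subtype, pow_succ',
      Submodule.mul_smul]
  rw [← h1]
  constructor
  · intro hy
    exact ⟨y, hy, rfl⟩
  · rintro ⟨z, hz, hzy⟩
    have : z = y := Subtype.ext hzy
    rwa [← this]

theorem exact_inclusion_mkQ' (k : ℕ) :
    Function.Exact (Submodule.inclusion (pow_succ_smul_le' I M k))
      (Submodule.mkQ (I • ⊤ : Submodule A ↥(I ^ k • (⊤ : Submodule A M)))) := by
  intro y
  rw [Submodule.mkQ_apply, Submodule.Quotient.mk_eq_zero, mem_smul_top_sub_iff']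
  constructor
  · intro hy
    exact ⟨⟨y, hy⟩, rfl⟩
  · rintro ⟨z, rfl⟩
    exact z.2

end filt

theorem dp_eq_of_isNormallyFlat (I : Ideal A) (hI : IsNilpotent I)
    (M : Type u) [AddCommGroup M] [Module A M] [Module.Finite A M]
    (hM : EGA4.IsNormallyFlat I M) (Q : Ideal (A ⧸ I)) [Q.IsPrime]
    [Nontrivial (LocalizedModule (Q.comap (algebraMap A (A ⧸ I))).primeCompl M)] :
    dp (Q.comap (algebraMap A (A ⧸ I))) M = dp (Q.comap (algebraMap A (A ⧸ I))) (A ⧸ I) := by
  obtain ⟨n, hn⟩ := hI
  haveI : Nontrivial (LocalizedModule (Q.comap (algebraMap A (A ⧸ I))).primeCompl (A ⧸ I)) := by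
    apply nontrivial_quot
    intro x hx
    rw [Ideal.mem_comap]
    have : algebraMap A (A ⧸ I) x = 0 := Ideal.Quotient.eq_zero_iff_mem.2 hx
    rw [this]
    exact zero_mem _
  obtain ⟨d, hd⟩ := ENat.ne_top_iff_exists.mp
    (DepthLib.depth_ne_top (Localization.AtPrime (Q.comap (algebraMap A (A ⧸ I))))
      (LocalizedModule (Q.comap (algebraMap A (A ⧸ I))).primeCompl (A ⧸ I)))
  have key : ∀ j k : ℕ, k + j = n →
      DP (Q.comap (algebraMap A (A ⧸ I))) d ↥(I ^ k • (⊤ : Submodule A M)) := by
    intro j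
    induction j with
    | zero =>
      intro k hk
      left
      rw [add_zero] at hk
      rw [hk, hn, Ideal.zero_eq_bot, Submodule.bot_smul]
      rw [LocalizedModule.subsingleton_iff]
      intro m
      exact ⟨1, Submonoid.one_mem _, by rw [one_smul]; exact Subsingleton.elim _ _⟩
    | succ j ih =>
      intro k hk
      have h1 := ih (k + 1) (by omega)
      haveI := hM k
      have h2 := DP_gr I
        (↥(I ^ k • (⊤ : Submodule A M)) ⧸ (I • ⊤ : Submodule A ↥(I ^ k • (⊤ : Submodule A M))))
        Q d hd.symm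
      exact DP_of_exact _ d _ _ (Submodule.inclusion_injective _) (Submodule.mkQ_surjective _)
        (exact_inclusion_mkQ' I M k) h1 h2
  have h0 := key n 0 (by omega)
  have e : ↥(I ^ 0 • (⊤ : Submodule A M)) ≃ₗ[A] M :=
    (LinearEquiv.ofEq _ _ (by rw [pow_zero, Ideal.one_eq_top, Submodule.top_smul])).trans
      Submodule.topEquiv
  rcases DP_of_equiv _ d e h0 with h0 | h0
  · exact absurd h0 (not_subsingleton _)
  · exact h0.trans hd


theorem le_of_nilpotent (I : Ideal A) (hI : IsNilpotent I) (q : Ideal A) [q.IsPrime] : I ≤ q := by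
  obtain ⟨n, hn⟩ := hI
  intro x hx
  have h1 : x ^ n ∈ I ^ n := Ideal.pow_mem_pow hx n
  rw [hn] at h1
  have h2 : x ^ n ∈ q := by
    rw [Ideal.zero_eq_bot, Ideal.mem_bot] at h1
    rw [h1]
    exact zero_mem _
  exact Ideal.IsPrime.mem_of_pow_mem inferInstance n h2

theorem eqs (I : Ideal A) (hI : IsNilpotent I) (M : Type u) [AddCommGroup M] [Module A M]
    [Module.Finite A M] (hsupp : Module.support A M = Set.univ) (hM : EGA4.IsNormallyFlat I M)
    (q : Ideal A) [q.IsPrime] : dm q M = dm q (A ⧸ I) ∧ dp q M = dp q (A ⧸ I) := by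
  have hsuppI : Module.support A (A ⧸ I) = Set.univ := by
    ext z
    simp only [Set.mem_univ, iff_true]
    rw [Module.mem_support_iff_of_finite, Ideal.annihilator_quotient]
    exact le_of_nilpotent I hI z.asIdeal
  constructor
  · rw [dm, dm, Groth.Agent.Lib.Helper15.ZClosed.supportDim_localizedModule_eq_height M hsupp q,
      Groth.Agent.Lib.Helper15.ZClosed.supportDim_localizedModule_eq_height (A ⧸ I) hsuppI q]
  · have hIq : I ≤ q := le_of_nilpotent I hI q
    have hker : RingHom.ker (Ideal.Quotient.mk I) ≤ q := by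
      rw [Ideal.mk_ker]
      exact hIq
    haveI hQ : (q.map (Ideal.Quotient.mk I)).IsPrime :=
      Ideal.map_isPrime_of_surjective Ideal.Quotient.mk_surjective hker
    have hcomap : (q.map (Ideal.Quotient.mk I)).comap (algebraMap A (A ⧸ I)) = q :=
      Ideal.comap_map_of_surjective' _ Ideal.Quotient.mk_surjective q |>.trans (by
        rw [sup_eq_left]
        exact hker)
    have key : ∀ (q1 q2 : Ideal A) [q1.IsPrime] [q2.IsPrime], q1 = q2 →
        (Nontrivial (LocalizedModule q1.primeCompl M) → dp q1 M = dp q1 (A ⧸ I)) →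
        (Nontrivial (LocalizedModule q2.primeCompl M) → dp q2 M = dp q2 (A ⧸ I)) := by
      intro q1 q2 _ _ h
      subst h
      exact id
    have hnt : Nontrivial (LocalizedModule q.primeCompl M) := by
      have : (⟨q, inferInstance⟩ : PrimeSpectrum A) ∈ Module.support A M := by
        rw [hsupp]; trivial
      exact Module.mem_support_iff.1 this
    exact key _ q hcomap (fun h => by
      haveI := h
      exact dp_eq_of_isNormallyFlat I hI M hM (q.map (Ideal.Quotient.mk I))) hnt

theorem main (n : ℕ) (A : Type u) [CommRing A] [IsNoetherianRing A]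
    (I : Ideal A) (hI : IsNilpotent I) (M : Type u) [AddCommGroup M] [Module A M] [Module.Finite A M]
    (hsupp : Module.support A M = Set.univ) (hM : EGA4.IsNormallyFlat I M) (p : Ideal A) [p.IsPrime] :
    (EGA4.HasSkAt n A M p ↔ EGA4.HasSkAt n A (A ⧸ I) p) ∧
      (Module.supportDim (Localization.AtPrime p) (LocalizedModule p.primeCompl M) ≤
          ((LocCoh.depth (Localization.AtPrime p) (LocalizedModule p.primeCompl M) : ℕ∞) : WithBot ℕ∞) + n ↔
        Module.supportDim (Localization.AtPrime p) (LocalizedModule p.primeCompl (A ⧸ I)) ≤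
          ((LocCoh.depth (Localization.AtPrime p) (LocalizedModule p.primeCompl (A ⧸ I)) : ℕ∞) : WithBot ℕ∞) + n) := by
  constructor
  · rw [hasSkAt_iff_ineq, hasSkAt_iff_ineq]
    refine forall_congr' fun p' => forall_congr' fun _ => forall_congr' fun _ => ?_
    obtain ⟨e1, e2⟩ := eqs I hI M hsupp hM p'
    unfold Ineq
    rw [e1, e2]
  · obtain ⟨e1, e2⟩ := eqs I hI M hsupp hM p
    change dm p M ≤ ((dp p M : ℕ∞) : WithBot ℕ∞) + n ↔
      dm p (A ⧸ I) ≤ ((dp p (A ⧸ I) : ℕ∞) : WithBot ℕ∞) + n
    rw [e1, e2]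

end S4734P


/-- Let A be a Noetherian ring, I a nilpotent ideal of A and M a finite A-module whose support is all of
Spec A and which is normally flat along I. Then for every prime p of A: M satisfies Serre's
condition (S_n) at p if and only if the A-module A/I does; and the codepth of M_p is at most n if
and only if the codepth of the A_p-module (A/I)_p is at most n (codepth written additively as dim ≤
depth + n). -/
theorem result (n : ℕ) (A : Type u) [CommRing A] [IsNoetherianRing A]
    (I : Ideal A) (hI : IsNilpotent I) (M : Type u) [AddCommGroup M] [Module A M] [Module.Finite A M]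
    (hsupp : Module.support A M = Set.univ) (hM : EGA4.IsNormallyFlat I M) (p : Ideal A) [p.IsPrime] :
    (EGA4.HasSkAt n A M p ↔ EGA4.HasSkAt n A (A ⧸ I) p) ∧
      (Module.supportDim (Localization.AtPrime p) (LocalizedModule p.primeCompl M) ≤
          ((LocCoh.depth (Localization.AtPrime p) (LocalizedModule p.primeCompl M) : ℕ∞) : WithBot ℕ∞) + n ↔
        Module.supportDim (Localization.AtPrime p) (LocalizedModule p.primeCompl (A ⧸ I)) ≤
          ((LocCoh.depth (Localization.AtPrime p) (LocalizedModule p.primeCompl (A ⧸ I)) : ℕ∞) : WithBot ℕ∞) + n) :=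
  S4734P.main n A I hI M hsupp hM p

end Groth.Agent.S4734
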