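import Groth.Statements.S4735
import Groth.Agent.Lib.Helper49.SkFormal
import Groth.Agent.S2634
import Groth.Agent.Lib.Helper15.LocEquidim
import Groth.Agent.Lib.Helper49.Serre
-- import your own Groth.Agent.* helpers here

set_option autoImplicit false
universe u
open EGA4

namespace Groth.Agent.S4735

open TensorProduct IsLocalRing Groth.Agent.Lib.Helper49.SkFormal

/-- In a Noetherian local strictly equidimensional ring every associated prime is minimal. -/
theorem mem_minimalPrimes_of_isStrictlyEquidim (R : Type u) [CommRing R] [IsNoetherianRing R]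
    [IsLocalRing R] (h : EGA4.IsStrictlyEquidim R) (P : Ideal R)
    (hP : P ∈ associatedPrimes R R) : P ∈ minimalPrimes R := by
  haveI : P.IsPrime := hP.isPrime
  obtain ⟨P0, hP0, hle⟩ := Ideal.exists_minimalPrimes_le (bot_le : (⊥ : Ideal R) ≤ P)
  haveI : P0.IsPrime := hP0.1.1
  have hann : Module.annihilator R R = ⊥ := by
    rw [eq_bot_iff]
    intro x hx
    have := Module.mem_annihilator.mp hx 1
    simpa using this
  have hP0ass : P0 ∈ associatedPrimes R R :=
    Module.associatedPrimes.minimalPrimes_annihilator_subset_associatedPrimes R R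
      (by rw [hann]; exact hP0)
  rcases hle.eq_or_lt with h1 | h1
  · subst h1; exact hP0
  · exfalso
    have h2 := Groth.Agent.Lib.Helper29.DepthLib.ringKrullDim_quotient_succ_le_of_lt R h1
    rw [h P hP, h P0 hP0ass] at h2
    have hlt := ringKrullDim_lt_top (R := R)
    have hnn := ringKrullDim_nonneg_of_nontrivial (R := R)
    generalize ringKrullDim R = d at *
    cases d with
    | bot => simp at hnn
    | coe d =>
      cases d with
      | top => simp at hlt
      | coe n =>
        have h3 : ((n + 1 : ℕ) : WithBot ℕ∞) ≤ ((n : ℕ) : WithBot ℕ∞) := by exact_mod_cast h2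
        have h4 : n + 1 ≤ n := by exact_mod_cast h3
        omega

/-- A strictly equidimensional Noetherian local ring satisfies `(S_1)`. -/
theorem hasSk_one_of_isStrictlyEquidim (R : Type u) [CommRing R] [IsNoetherianRing R]
    [IsLocalRing R] (h : EGA4.IsStrictlyEquidim R) : LocCoh.HasSk 1 R R := by
  rw [← Groth.Agent.Lib.Helper49.Serre.hasSk_one_iff]
  intro P hP
  have hann : Module.annihilator R R = ⊥ := by
    rw [eq_bot_iff]
    intro x hx
    have := Module.mem_annihilator.mp hx 1
    simpa using this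
  rw [hann]
  exact mem_minimalPrimes_of_isStrictlyEquidim R h P hP

/-- Strictly equidimensional implies equidimensional. -/
theorem isEquidim_of_isStrictlyEquidim (R : Type u) [CommRing R] [IsNoetherianRing R]
    (h : EGA4.IsStrictlyEquidim R) : EGA4.IsEquidim R := by
  intro p hp
  have hann : Module.annihilator R R = ⊥ := by
    rw [eq_bot_iff]
    intro x hx
    have := Module.mem_annihilator.mp hx 1
    simpa using this
  exact h p (Module.associatedPrimes.minimalPrimes_annihilator_subset_associatedPrimes R R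
      (by rw [hann]; exact hp))

/-- The formal fibre at `p` is a localization of the completion of `A ⧸ p`. -/
theorem skN_formalFibre_aux (A : Type u) [CommRing A] [IsNoetherianRing A] [IsLocalRing A]
    (p : Ideal A) [p.IsPrime] (J : Ideal (A ⧸ p))
    (hJ : J = (maximalIdeal A).map (Ideal.Quotient.mk p))
    (h : SkN 1 (AdicCompletion J (A ⧸ p))) : SkN 1 (p.Fiber (EGA4.Cpl A)) := by
  subst hJ
  obtain ⟨e, he⟩ := Groth.Agent.Lib.Helper96.exists_tensor_equiv_complQuot A (maximalIdeal A) p
  have h1 : SkN 1 ((A ⧸ p) ⊗[A] EGA4.Cpl A) := skN_of_ringEquiv e.symm h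
  have h2 : SkN 1 (((A ⧸ p) ⊗[A] EGA4.Cpl A) ⊗[A ⧸ p] p.ResidueField) :=
    skN_of_isLocalization
      (Algebra.algebraMapSubmonoid ((A ⧸ p) ⊗[A] EGA4.Cpl A) (nonZeroDivisors (A ⧸ p))) _ h1
  have h3 : SkN 1 (p.ResidueField ⊗[A ⧸ p] ((A ⧸ p) ⊗[A] EGA4.Cpl A)) :=
    skN_of_ringEquiv (Algebra.TensorProduct.comm (A ⧸ p) _ _).toRingEquiv h2
  exact skN_of_ringEquiv
    (Algebra.TensorProduct.cancelBaseChange A (A ⧸ p) p.ResidueField p.ResidueField
      (EGA4.Cpl A)).toRingEquiv h3


/-- Let A be a strictly formally catenary Noetherian local ring. Then every Noetherian local ring B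
which is an A-algebra essentially of finite type is strictly formally catenary. -/
theorem result (A : Type u) [CommRing A] [IsNoetherianRing A] [IsLocalRing A]
    (hA : EGA4.IsFormallyStrictlyCatenary A) (B : Type u) [CommRing B] [IsNoetherianRing B] [IsLocalRing B]
    [Algebra A B] [Algebra.EssFiniteType A B] : EGA4.IsFormallyStrictlyCatenary B := by
  have hA1 : EGA4.IsFormallyCatenary A := by
    intro p hp
    haveI : IsNoetherianRing (EGA4.Cpl (A ⧸ p)) :=
      Groth.Agent.Lib.Helper49.HenselFormal.isNoetherianRing_cpl _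
    exact isEquidim_of_isStrictlyEquidim _ (hA p)
  have hA2 : EGA4.HasSnFormalFibres 1 A := by
    intro p hp
    haveI : IsNoetherianRing (EGA4.Cpl (A ⧸ p)) :=
      Groth.Agent.Lib.Helper49.HenselFormal.isNoetherianRing_cpl _
    have h1 : SkN 1 (EGA4.Cpl (A ⧸ p)) :=
      ⟨inferInstance, hasSk_one_of_isStrictlyEquidim _ (hA p)⟩
    exact (skN_formalFibre_aux A p _
      (IsLocalRing.map_maximalIdeal_of_surjective (Ideal.Quotient.mk p)
        Ideal.Quotient.mk_surjective).symm h1).2
  intro q hq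
  haveI : Algebra.EssFiniteType A (B ⧸ q) := Algebra.EssFiniteType.comp A B (B ⧸ q)
  haveI : IsDomain (B ⧸ q) := Ideal.Quotient.isDomain q
  have hD1 : EGA4.IsFormallyEquidim (B ⧸ q) :=
    Groth.Agent.S2634.result A hA1 (B ⧸ q)
      (Groth.Agent.Lib.Helper15.LocEquidim.isEquidim_of_isDomain (B ⧸ q))
  have hD2 : EGA4.HasSnFormalFibres 1 (B ⧸ q) :=
    hasSnFormalFibres_of_essFiniteType 1 A hA2 (B ⧸ q)
  haveI : IsNoetherianRing (EGA4.Cpl (B ⧸ q)) :=
    Groth.Agent.Lib.Helper49.HenselFormal.isNoetherianRing_cpl _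
  haveI : Module.Flat (B ⧸ q) (EGA4.Cpl (B ⧸ q)) :=
    (Groth.Agent.Lib.Helper49.HenselFormal.faithfullyFlat_cpl (B ⧸ q)).toFlat
  have hS1D : LocCoh.HasSk 1 (B ⧸ q) (B ⧸ q) :=
    ((Groth.Agent.Lib.Helper49.Serre.isReduced_iff_hasRk_zero_and_hasSk_one (B ⧸ q)).mp inferInstance).2
  have hS1 : LocCoh.HasSk 1 (EGA4.Cpl (B ⧸ q)) (EGA4.Cpl (B ⧸ q)) :=
    Groth.Agent.Lib.Helper49.FibreSk.hasSk_of_flat_of_fibres 1 hS1D (fun p _ => hD2 p)
  intro P hP
  have hann : Module.annihilator (EGA4.Cpl (B ⧸ q)) (EGA4.Cpl (B ⧸ q)) = ⊥ := by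
    rw [eq_bot_iff]
    intro x hx
    have := Module.mem_annihilator.mp hx 1
    simpa using this
  have hmin := ((Groth.Agent.Lib.Helper49.Serre.hasSk_one_iff (EGA4.Cpl (B ⧸ q))).mpr hS1) P hP
  rw [hann] at hmin
  exact hD1 P hmin

end Groth.Agent.S4735
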