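import Groth.Statements.S4739
import Groth.Agent.Lib.Helper9.AdicComplEquiv
import Groth.Agent.Lib.Helper88.ComplQuot

set_option autoImplicit false
universe u
open EGA4

namespace Groth.Agent.S4739

open TensorProduct IsLocalRing Groth.Agent.Lib.Helper88

section Aux

variable (A B : Type u) [CommRing A] [CommRing B] [IsNoetherianRing A]
  [IsLocalRing A] [IsLocalRing B] [Algebra A B] [IsLocalHom (algebraMap A B)]

/-- `m_A^n B ⊆ m_B^n` -/
theorem pow_le_comap_pow (n : ℕ) :
    maximalIdeal A ^ n ≤ (maximalIdeal B ^ n).comap (algebraMap A B) := by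
  rw [← Ideal.map_le_iff_le_comap, Ideal.map_pow]
  refine Ideal.pow_right_mono ?_ n
  rw [Ideal.map_le_iff_le_comap]
  intro a ha
  exact (mem_maximalIdeal _).mpr (fun hu => ha (isUnit_of_map_unit (algebraMap A B) a hu))

/-- the retraction `B ⊗ Â → B ⧸ m_B^n` -/
noncomputable def retr (n : ℕ) : B ⊗[A] EGA4.Cpl A →ₐ[A] B ⧸ maximalIdeal B ^ n :=
  Algebra.TensorProduct.lift (Ideal.Quotient.mkₐ A (maximalIdeal B ^ n))
    ((Ideal.quotientMapₐ (maximalIdeal B ^ n) (Algebra.ofId A B) (pow_le_comap_pow A B n)).comp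
      (AdicCompletion.evalₐ (maximalIdeal A) n))
    (fun _ _ => Commute.all _ _)

theorem retr_algebraMap (n : ℕ) (b : B) :
    retr A B n (algebraMap B (B ⊗[A] EGA4.Cpl A) b) = Ideal.Quotient.mk _ b := by
  change retr A B n (b ⊗ₜ[A] 1) = _
  unfold retr
  rw [Algebra.TensorProduct.lift_tmul, map_one, mul_one]
  rfl

/-- the extension of `m_B` to `B ⊗ Â` -/
noncomputable abbrev J : Ideal (B ⊗[A] EGA4.Cpl A) :=
  (maximalIdeal B).map (algebraMap B (B ⊗[A] EGA4.Cpl A))

theorem mem_of_algebraMap_mem (n : ℕ) (b : B)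
    (h : algebraMap B (B ⊗[A] EGA4.Cpl A) b ∈ J A B ^ n) : b ∈ maximalIdeal B ^ n := by
  have hle : J A B ^ n ≤ RingHom.ker (retr A B n).toRingHom := by
    rw [← Ideal.map_pow, Ideal.map_le_iff_le_comap]
    intro c hc
    rw [Ideal.mem_comap, RingHom.mem_ker]
    change retr A B n (algebraMap B (B ⊗[A] EGA4.Cpl A) c) = 0
    rw [retr_algebraMap]
    exact Ideal.Quotient.eq_zero_iff_mem.mpr hc
  have h1 := hle h
  rw [RingHom.mem_ker] at h1
  change retr A B n (algebraMap B (B ⊗[A] EGA4.Cpl A) b) = 0 at h1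
  rw [retr_algebraMap] at h1
  exact Ideal.Quotient.eq_zero_iff_mem.mp h1

theorem one_tmul_mem (n : ℕ) (y : EGA4.Cpl A)
    (hy : y ∈ ComplQuot.ext (maximalIdeal A) ^ n) :
    (1 : B) ⊗ₜ[A] y ∈ J A B ^ n := by
  have h1 : (ComplQuot.ext (maximalIdeal A) ^ n).map
      (Algebra.TensorProduct.includeRight : EGA4.Cpl A →ₐ[A] B ⊗[A] EGA4.Cpl A).toRingHom ≤
      J A B ^ n := by
    rw [← Ideal.map_pow, Ideal.map_map, ← Ideal.map_pow]
    have h2 : (Algebra.TensorProduct.includeRight :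
        EGA4.Cpl A →ₐ[A] B ⊗[A] EGA4.Cpl A).toRingHom.comp (algebraMap A (EGA4.Cpl A)) =
        (algebraMap B (B ⊗[A] EGA4.Cpl A)).comp (algebraMap A B) := by
      ext a
      change (1 : B) ⊗ₜ[A] (algebraMap A (EGA4.Cpl A) a) = (algebraMap A B a) ⊗ₜ[A] 1
      rw [Algebra.algebraMap_eq_smul_one, Algebra.algebraMap_eq_smul_one, TensorProduct.tmul_smul,
        TensorProduct.smul_tmul']
    rw [h2, ← Ideal.map_map]
    exact Ideal.map_mono (Ideal.map_le_iff_le_comap.mpr (pow_le_comap_pow A B n))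
  exact h1 (Ideal.mem_map_of_mem _ hy)

theorem exists_sub_mem (n : ℕ) (x : B ⊗[A] EGA4.Cpl A) :
    ∃ b : B, x - algebraMap B (B ⊗[A] EGA4.Cpl A) b ∈ J A B ^ n := by
  induction x using TensorProduct.induction_on with
  | zero => exact ⟨0, by simp⟩
  | add x y hx hy =>
    obtain ⟨b, hb⟩ := hx
    obtain ⟨c, hc⟩ := hy
    refine ⟨b + c, ?_⟩
    have : x + y - algebraMap B (B ⊗[A] EGA4.Cpl A) (b + c) =
        (x - algebraMap B (B ⊗[A] EGA4.Cpl A) b) + (y - algebraMap B (B ⊗[A] EGA4.Cpl A) c) := by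
      rw [map_add]; ring
    rw [this]
    exact Ideal.add_mem _ hb hc
  | tmul b y =>
    obtain ⟨a, ha⟩ := ComplQuot.exists_sub_mem_ext_pow (maximalIdeal A)
      (maximalIdeal A).fg_of_isNoetherianRing n y
    refine ⟨a • b, ?_⟩
    have h1 : b ⊗ₜ[A] y - algebraMap B (B ⊗[A] EGA4.Cpl A) (a • b) =
        (b ⊗ₜ[A] (1 : EGA4.Cpl A)) * ((1 : B) ⊗ₜ[A] (y - algebraMap A (EGA4.Cpl A) a)) := by
      rw [Algebra.TensorProduct.tmul_mul_tmul, mul_one, one_mul, TensorProduct.tmul_sub,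
        Algebra.algebraMap_eq_smul_one (A := EGA4.Cpl A), TensorProduct.tmul_smul]
      congr 1
    rw [h1]
    exact Ideal.mul_mem_left _ _ (one_tmul_mem A B n _ ha)

theorem J_isMaximal : (J A B).IsMaximal := by
  rw [Ideal.isMaximal_iff]
  constructor
  · intro h1
    have h2 : algebraMap B (B ⊗[A] EGA4.Cpl A) 1 ∈ J A B ^ 1 := by
      rw [pow_one, map_one]; exact h1
    have h3 := mem_of_algebraMap_mem A B 1 1 h2
    rw [pow_one] at h3
    exact (Ideal.ne_top_iff_one _).mp (Ideal.IsPrime.ne_top') h3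
  · intro K x hJK hx hxK
    obtain ⟨b, hb'⟩ := exists_sub_mem A B 1 x
    have hb : x - algebraMap B (B ⊗[A] EGA4.Cpl A) b ∈ J A B := by
      have := Ideal.pow_le_self (I := J A B) one_ne_zero hb'
      exact this
    have hbu : IsUnit b := by
      by_contra hnu
      apply hx
      have h1 : algebraMap B (B ⊗[A] EGA4.Cpl A) b ∈ J A B :=
        Ideal.mem_map_of_mem _ ((mem_maximalIdeal _).mpr hnu)
      have := Ideal.add_mem _ hb h1
      rwa [sub_add_cancel] at this
    have h2 : algebraMap B (B ⊗[A] EGA4.Cpl A) b ∈ K := by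
      have := Ideal.sub_mem K hxK (hJK hb)
      rwa [sub_sub_cancel] at this
    have h3 := (hbu.map (algebraMap B (B ⊗[A] EGA4.Cpl A)))
    exact (Ideal.eq_top_iff_one K).mp (Ideal.eq_top_of_isUnit_mem K h2 h3)

/-- elements outside a maximal ideal are units modulo its powers -/
theorem exists_mul_sub_one_mem {R : Type*} [CommRing R] (M : Ideal R) [hM : M.IsMaximal] (n : ℕ)
    {t : R} (ht : t ∉ M) : ∃ u : R, t * u - 1 ∈ M ^ n := by
  obtain ⟨y, i, hi, hyi⟩ := hM.exists_inv ht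
  obtain ⟨w, hw⟩ := sub_dvd_pow_sub_pow (1 : R) i n
  refine ⟨y * w, ?_⟩
  have h1 : (1 : R) - i = y * t := by rw [← hyi]; ring
  rw [one_pow, h1] at hw
  have h2 : t * (y * w) - 1 = -(i ^ n) := by
    have : t * (y * w) = y * t * w := by ring
    rw [this, ← hw]; ring
  rw [h2]
  exact neg_mem (Ideal.pow_mem_pow hi n)

theorem nonempty_equiv (n' : Ideal (B ⊗[A] EGA4.Cpl A)) [n'.IsPrime]
    (h1 : n'.comap (algebraMap B (B ⊗[A] EGA4.Cpl A)) = IsLocalRing.maximalIdeal B)
    (S : Type u) [CommRing S] [IsLocalRing S] [Algebra (B ⊗[A] EGA4.Cpl A) S]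
    [IsLocalization.AtPrime S n'] [Algebra B S] [IsScalarTower B (B ⊗[A] EGA4.Cpl A) S] :
    Nonempty (EGA4.Cpl B ≃+* EGA4.Cpl S) := by
  have hJmax := J_isMaximal A B
  have hJn : J A B = n' := by
    apply hJmax.eq_of_le Ideal.IsPrime.ne_top'
    rw [Ideal.map_le_iff_le_comap, h1]
  haveI hn'max : n'.IsMaximal := hJn ▸ hJmax
  have hmS : maximalIdeal S = n'.map (algebraMap (B ⊗[A] EGA4.Cpl A) S) :=
    (IsLocalization.AtPrime.map_eq_maximalIdeal n' S).symm
  have hpow : ∀ n : ℕ, maximalIdeal S ^ n = (n' ^ n).map (algebraMap (B ⊗[A] EGA4.Cpl A) S) := by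
    intro n
    rw [hmS, Ideal.map_pow]
  suffices key : Nonempty (AdicCompletion (maximalIdeal B) B ≃ₐ[B]
      AdicCompletion (maximalIdeal S) S) by
    obtain ⟨e⟩ := key
    exact ⟨e.toRingEquiv⟩
  refine Groth.Agent.Lib.Helper9.AdicComplEquiv.exists_algEquiv (R := B)
    (maximalIdeal B) (maximalIdeal S) (Algebra.ofId B S) ?_ ?_ ?_
  · -- m_B ≤ comap m_S
    intro b hb
    rw [Ideal.mem_comap, hmS]
    change algebraMap B S b ∈ _
    rw [IsScalarTower.algebraMap_apply B (B ⊗[A] EGA4.Cpl A) S]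
    apply Ideal.mem_map_of_mem
    rw [← hJn]
    exact Ideal.mem_map_of_mem _ hb
  · -- injectivity
    intro n b hb
    change algebraMap B S b ∈ _ at hb
    rw [hpow, IsScalarTower.algebraMap_apply B (B ⊗[A] EGA4.Cpl A) S,
      IsLocalization.mem_map_algebraMap_iff n'.primeCompl] at hb
    obtain ⟨⟨c, t⟩, hct⟩ := hb
    rw [← map_mul, IsLocalization.eq_iff_exists n'.primeCompl] at hct
    obtain ⟨m, hm⟩ := hct
    have htm : (m : B ⊗[A] EGA4.Cpl A) * t ∉ n' := (m * t).2
    obtain ⟨u, hu⟩ := exists_mul_sub_one_mem n' n htm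
    have h3 : algebraMap B (B ⊗[A] EGA4.Cpl A) b ∈ n' ^ n := by
      have e1 : algebraMap B (B ⊗[A] EGA4.Cpl A) b =
          (m : B ⊗[A] EGA4.Cpl A) * (c : B ⊗[A] EGA4.Cpl A) * u -
            algebraMap B (B ⊗[A] EGA4.Cpl A) b * ((m : B ⊗[A] EGA4.Cpl A) * t * u - 1) := by
        rw [← hm]; ring
      rw [e1]
      exact Ideal.sub_mem _ (Ideal.mul_mem_right _ _ (Ideal.mul_mem_left _ _ c.2))
        (Ideal.mul_mem_left _ _ hu)
    rw [← hJn] at h3
    exact mem_of_algebraMap_mem A B n b h3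
  · -- surjectivity
    intro n s
    obtain ⟨x, t, rfl⟩ := IsLocalization.exists_mk'_eq n'.primeCompl s
    obtain ⟨u, hu⟩ := exists_mul_sub_one_mem n' n t.2
    obtain ⟨b, hb⟩ := exists_sub_mem A B n (x * u)
    rw [hJn] at hb
    refine ⟨b, ?_⟩
    change _ - algebraMap B S b ∈ _
    rw [hpow, IsScalarTower.algebraMap_apply B (B ⊗[A] EGA4.Cpl A) S]
    have e1 : IsLocalization.mk' S x t - algebraMap (B ⊗[A] EGA4.Cpl A) S
        (algebraMap B (B ⊗[A] EGA4.Cpl A) b) =
        algebraMap (B ⊗[A] EGA4.Cpl A) S (x * u - algebraMap B (B ⊗[A] EGA4.Cpl A) b) -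
          IsLocalization.mk' S x t * algebraMap (B ⊗[A] EGA4.Cpl A) S
            ((t : B ⊗[A] EGA4.Cpl A) * u - 1) := by
      have e2 : IsLocalization.mk' S x t * algebraMap (B ⊗[A] EGA4.Cpl A) S
          (t : B ⊗[A] EGA4.Cpl A) = algebraMap (B ⊗[A] EGA4.Cpl A) S x :=
        IsLocalization.mk'_spec S x t
      rw [map_sub, map_sub, map_mul, map_mul, map_one, mul_sub, ← mul_assoc, e2]
      ring
    rw [e1]
    exact Ideal.sub_mem _ (Ideal.mem_map_of_mem _ hb)
      (Ideal.mul_mem_left _ _ (Ideal.mem_map_of_mem _ hu))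

end Aux


open TensorProduct in
/-- Let A → B be a local homomorphism of Noetherian local rings and Â the completion of A, and suppose
B' = B ⊗_A Â is Noetherian. Then for every prime ideal n' of B' lying over the maximal ideal of B
and containing the image of the maximal ideal of A through Â (that is, lying over the maximal ideal
m_A Â of Â), the completion of B and the completion of the local ring B'_{n'} are isomorphic
(existence of a ring isomorphism only). -/
theorem result (A B : Type u) [CommRing A] [CommRing B] [IsNoetherianRing A]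
    [IsNoetherianRing B] [IsLocalRing A] [IsLocalRing B] [Algebra A B] [IsLocalHom (algebraMap A B)]
    [IsNoetherianRing (B ⊗[A] EGA4.Cpl A)] (n' : Ideal (B ⊗[A] EGA4.Cpl A)) [n'.IsPrime]
    (h1 : n'.comap (algebraMap B (B ⊗[A] EGA4.Cpl A)) = IsLocalRing.maximalIdeal B)
    (h2 : (IsLocalRing.maximalIdeal A).map
        ((Algebra.TensorProduct.includeRight.toRingHom : EGA4.Cpl A →+* B ⊗[A] EGA4.Cpl A).comp
          (algebraMap A (EGA4.Cpl A))) ≤ n') :
    Nonempty (EGA4.Cpl B ≃+* EGA4.Cpl (Localization.AtPrime n')) := by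
  exact nonempty_equiv A B n' h1 (Localization.AtPrime n')

end Groth.Agent.S4739
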