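import Groth.Statements.S4742
import Groth.Agent.Lib.Helper44.AlgzCat
import Mathlib.RingTheory.Ideal.KrullsHeightTheorem
import Mathlib.RingTheory.Ideal.Quotient.Operations
-- import your own Groth.Agent.* helpers here

set_option autoImplicit false
universe u
open EGA4

namespace Groth.Agent.S4742

section Aux

open Groth.Agent.Lib.Helper44.AlgzCat

/-- `dim (R/I) + ht I ≤ dim R` for any ideal. -/
theorem ringKrullDim_quotient_add_height_le' (R : Type*) [CommRing R] (I : Ideal R) :
    ringKrullDim (R ⧸ I) + (I.height : WithBot ℕ∞) ≤ ringKrullDim R := by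
  rw [ringKrullDim_quotient]
  rcases isEmpty_or_nonempty (PrimeSpectrum.zeroLocus (R := R) (I : Set R)) with hE | hN
  · rw [Order.krullDim_eq_bot, WithBot.bot_add]; exact bot_le
  · obtain ⟨q0⟩ := hN
    have : Nonempty (PrimeSpectrum.zeroLocus (R := R) (I : Set R)) := ⟨q0⟩
    have : Nonempty (PrimeSpectrum R) := ⟨q0.1⟩
    rw [Order.krullDim_eq_iSup_coheight_of_nonempty, ringKrullDim,
      Order.krullDim_eq_iSup_height_add_coheight_of_nonempty, ← WithBot.coe_add,
      WithBot.coe_le_coe, ENat.iSup_add]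
    refine iSup_le fun q => ?_
    have h1 : Order.coheight q ≤ Order.coheight (q : PrimeSpectrum R) :=
      Order.coheight_le_coheight_apply_of_strictMono Subtype.val (fun _ _ h => h) q
    have h2 : I.height ≤ Order.height (q : PrimeSpectrum R) := by
      rw [← PrimeSpectrum.height_eq_orderHeight]
      exact Ideal.height_mono q.2
    calc Order.coheight q + I.height
        ≤ Order.coheight (q : PrimeSpectrum R) + Order.height (q : PrimeSpectrum R) :=
          add_le_add h1 h2
      _ = Order.height (q : PrimeSpectrum R) + Order.coheight (q : PrimeSpectrum R) :=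
          add_comm _ _
      _ ≤ _ := le_iSup (fun a : PrimeSpectrum R => Order.height a + Order.coheight a) q.1

/-- In an equidimensional catenary Noetherian local ring, `ht p + dim A/p = dim A`. -/
theorem height_add_coheight_eq (A : Type u) [CommRing A] [IsNoetherianRing A] [IsLocalRing A]
    (hA : EGA4.IsEquidim A) (hA' : CAlg.IsCatenary A) :
    ∀ (n : ℕ) (p : PrimeSpectrum A), Order.height p = n →
      ((n : ℕ∞) : WithBot ℕ∞) + ((Order.coheight p : ℕ∞) : WithBot ℕ∞) = ringKrullDim A := by
  intro n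
  induction n with
  | zero =>
    intro p hp
    rw [Nat.cast_zero, Order.height_eq_zero] at hp
    have hmin : p.asIdeal ∈ minimalPrimes A := by
      refine ⟨⟨p.2, bot_le⟩, fun q hq hqp => ?_⟩
      exact hp (b := ⟨q, hq.1⟩) hqp
    rw [coheight_eq_dim, hA _ hmin]
    simp
  | succ n ih =>
    intro p hp
    rw [Nat.cast_succ, Order.height_eq_coe_add_one_iff] at hp
    obtain ⟨_, ⟨y, hyp, hyn⟩, hall⟩ := hp
    have hcov : y ⋖ p := ⟨hyp, fun z hyz hzp => by
      have h1 := hall z hzp
      have h2 := Order.height_strictMono hyz (by rw [hyn]; exact ENat.natCast_lt_top n)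
      rw [hyn] at h2
      exact absurd h1 (not_le_of_gt h2)⟩
    have hco := coheight_covBy hA' hcov
    have ih' := ih y hyn
    rw [hco] at ih'
    rw [← ih']
    push_cast
    rw [add_assoc, add_comm (1 : WithBot ℕ∞)]

end Aux

/-- Let A be a Noetherian local ring which is equidimensional and catenary, t an element of A belonging
to a system of parameters (dim A/tA + 1 = dim A), and Z a set of prime ideals of A stable under
specialization. Write X = Spec A, X₀ = V(t), X₁ = X ∖ X₀ and Z₀ = Z ∩ X₀, Z₁ = Z ∩ X₁. Then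
codim(Z₀, X₀) ≤ codim(Z, X) ≤ codim(Z₁, X₁), where each codimension is the infimum of the heights of
the primes concerned, heights for Z₀ being taken in A/tA. -/
theorem result (A : Type u) [CommRing A] [IsNoetherianRing A] [IsLocalRing A]
    (hA : EGA4.IsEquidim A) (hA' : CAlg.IsCatenary A) (t : A)
    (ht : ringKrullDim (A ⧸ Ideal.span {t}) + 1 = ringKrullDim A) (Z : Set (PrimeSpectrum A))
    (hZ : StableUnderSpecialization Z) :
    (⨅ p ∈ {p ∈ Z | t ∈ p.asIdeal}, (p.asIdeal.map (Ideal.Quotient.mk (Ideal.span {t}))).height) ≤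
        ⨅ p ∈ Z, p.asIdeal.height ∧
      (⨅ p ∈ Z, p.asIdeal.height) ≤ ⨅ p ∈ {p ∈ Z | t ∉ p.asIdeal}, p.asIdeal.height := by
  classical
  refine ⟨?_, ?_⟩
  swap
  · apply le_iInf₂
    intro p hp
    exact iInf₂_le p hp.1
  apply le_iInf₂
  intro p hpZ
  -- `t` lies in the maximal ideal
  have htm : t ∈ IsLocalRing.maximalIdeal A := by
    by_contra hnot
    have hu : IsUnit t := by
      by_contra hnu
      exact hnot ((IsLocalRing.mem_maximalIdeal t).mpr hnu)
    have htop : Ideal.span {t} = ⊤ := Ideal.span_singleton_eq_top.mpr hu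
    haveI : Subsingleton (A ⧸ Ideal.span {t}) := by
      rw [htop]; exact Ideal.Quotient.subsingleton_iff.mpr rfl
    rw [ringKrullDim_eq_bot_of_subsingleton, WithBot.bot_add] at ht
    exact ringKrullDim_ne_bot ht.symm
  -- find the prime `q`
  obtain ⟨q, hqZ, htq, hpq, hco⟩ : ∃ q : PrimeSpectrum A, q ∈ Z ∧ t ∈ q.asIdeal ∧ p ≤ q ∧
      Order.coheight p ≤ Order.coheight q + 1 := by
    by_cases htp : t ∈ p.asIdeal
    · exact ⟨p, hpZ, htp, le_rfl, le_self_add⟩
    · have hne : p.asIdeal ⊔ Ideal.span {t} ≠ ⊤ := by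
        intro h
        have hle : p.asIdeal ⊔ Ideal.span {t} ≤ IsLocalRing.maximalIdeal A :=
          sup_le (IsLocalRing.le_maximalIdeal p.2.ne_top)
            ((Ideal.span_singleton_le_iff_mem _).mpr htm)
        rw [h] at hle
        exact (IsLocalRing.maximalIdeal.isMaximal A).ne_top (top_le_iff.mp hle)
      obtain ⟨Q, hQmin⟩ := Ideal.nonempty_minimalPrimes hne
      haveI hQp : Q.IsPrime := hQmin.1.1
      have hpQ : p.asIdeal ≤ Q := le_sup_left.trans hQmin.1.2
      have htQ : t ∈ Q := hQmin.1.2 (Ideal.mem_sup_right (Ideal.mem_span_singleton_self t))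
      have hlt : p < (⟨Q, hQp⟩ : PrimeSpectrum A) := by
        refine lt_of_le_of_ne hpQ (fun h => htp ?_)
        rw [h]; exact htQ
      have hht1 : (Q.map (Ideal.Quotient.mk p.asIdeal)).height ≤ 1 :=
        Ideal.map_height_le_one_of_mem_minimalPrimes hQmin
      have hcov : p ⋖ (⟨Q, hQp⟩ : PrimeSpectrum A) := by
        refine ⟨hlt, fun r hpr hrq => ?_⟩
        have hsurj : Function.Surjective (Ideal.Quotient.mk p.asIdeal) :=
          Ideal.Quotient.mk_surjective
        have hker : RingHom.ker (Ideal.Quotient.mk p.asIdeal) = p.asIdeal := Ideal.mk_ker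
        haveI hr' : (r.asIdeal.map (Ideal.Quotient.mk p.asIdeal)).IsPrime :=
          Ideal.map_isPrime_of_surjective hsurj (by rw [hker]; exact hpr.le)
        haveI hQ' : (Q.map (Ideal.Quotient.mk p.asIdeal)).IsPrime :=
          Ideal.map_isPrime_of_surjective hsurj (by rw [hker]; exact hpQ)
        have hcm : ∀ J : Ideal A, p.asIdeal ≤ J →
            (J.map (Ideal.Quotient.mk p.asIdeal)).comap (Ideal.Quotient.mk p.asIdeal) = J := by
          intro J hJ
          rw [Ideal.comap_map_of_surjective _ hsurj, ← RingHom.ker_eq_comap_bot, hker]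
          exact sup_eq_left.mpr hJ
        have h1 : (⊥ : Ideal (A ⧸ p.asIdeal)) < r.asIdeal.map (Ideal.Quotient.mk p.asIdeal) := by
          rw [bot_lt_iff_ne_bot]
          intro hbot
          have := hcm r.asIdeal hpr.le
          rw [hbot, ← RingHom.ker_eq_comap_bot, hker] at this
          exact hpr.ne (PrimeSpectrum.ext this)
        have h2 : r.asIdeal.map (Ideal.Quotient.mk p.asIdeal) <
            Q.map (Ideal.Quotient.mk p.asIdeal) := by
          refine lt_of_le_of_ne (Ideal.map_mono hrq.le) (fun heq => ?_)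
          have e1 := hcm r.asIdeal hpr.le
          have e2 := hcm Q hpQ
          rw [heq, e2] at e1
          exact hrq.ne (PrimeSpectrum.ext e1.symm)
        haveI : (⊥ : Ideal (A ⧸ p.asIdeal)).IsPrime := Ideal.isPrime_bot
        have h3 := Ideal.height_strict_mono_of_isPrime h1
        have h4 := Ideal.height_strict_mono_of_isPrime h2
        have h5 : (r.asIdeal.map (Ideal.Quotient.mk p.asIdeal)).height < 1 := lt_of_lt_of_le h4 hht1
        rw [Order.lt_one_iff] at h5
        rw [h5] at h3
        exact absurd h3 (not_lt_bot)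
      refine ⟨⟨Q, hQp⟩, hZ ((PrimeSpectrum.le_iff_specializes _ _).mp hlt.le) hpZ, htQ, hlt.le, ?_⟩
      rw [Groth.Agent.Lib.Helper44.AlgzCat.coheight_covBy hA' hcov]
  refine iInf₂_le_of_le q ⟨hqZ, htq⟩ ?_
  -- the arithmetic
  have hspan : Ideal.span {t} ≤ q.asIdeal := (Ideal.span_singleton_le_iff_mem _).mpr htq
  have hF2 := ringKrullDim_quotient_add_height_le' (A ⧸ Ideal.span {t})
    (q.asIdeal.map (Ideal.Quotient.mk (Ideal.span {t})))
  have hiso : ringKrullDim ((A ⧸ Ideal.span {t}) ⧸
      q.asIdeal.map (Ideal.Quotient.mk (Ideal.span {t}))) = ringKrullDim (A ⧸ q.asIdeal) := by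
    have e1 := DoubleQuot.quotQuotEquivQuotSup (Ideal.span {t}) q.asIdeal
    have e2 : Ideal.span {t} ⊔ q.asIdeal = q.asIdeal := sup_eq_right.mpr hspan
    exact (ringKrullDim_eq_of_ringEquiv e1).trans
      (ringKrullDim_eq_of_ringEquiv (Ideal.quotEquivOfEq e2))
  rw [hiso, ← Groth.Agent.Lib.Helper44.AlgzCat.coheight_eq_dim] at hF2
  have hK := height_add_coheight_eq A hA hA'
  -- everything is a natural number
  have hpfin : Order.height p < ⊤ := by
    rw [← PrimeSpectrum.height_eq_orderHeight]; exact Ideal.height_lt_top p.2.ne_top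
  obtain ⟨h, hh⟩ := ENat.ne_top_iff_exists.1 hpfin.ne
  obtain ⟨c, hc⟩ := ENat.ne_top_iff_exists.1 (Order.coheight_lt_top q).ne
  obtain ⟨c', hc'⟩ := ENat.ne_top_iff_exists.1 (Order.coheight_lt_top p).ne
  have hK' := hK h p hh.symm
  rw [← hc'] at hK'
  rw [← hc] at hF2
  rw [← hc, ← hc'] at hco
  have hcc : c' ≤ c + 1 := by exact_mod_cast hco
  rw [PrimeSpectrum.height_eq_orderHeight p, ← hh]
  rw [← hK'] at ht
  -- now split on the dimension of the quotient and the height
  generalize ringKrullDim (A ⧸ Ideal.span {t}) = b at ht hF2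
  generalize (q.asIdeal.map (Ideal.Quotient.mk (Ideal.span {t}))).height = h' at hF2 ⊢
  induction b using WithBot.recBotCoe with
  | bot =>
    exfalso
    have h9 : (((h : ℕ) : ℕ∞) : WithBot ℕ∞) + (((c' : ℕ) : ℕ∞) : WithBot ℕ∞) ≠ ⊥ := by
      rw [← WithBot.coe_add]; exact WithBot.coe_ne_bot
    exact h9 (by simpa using ht.symm)
  | coe b =>
    induction b using ENat.recTopCoe with
    | top =>
      exfalso
      have : ((⊤ : ℕ∞) : WithBot ℕ∞) + 1 = ((⊤ : ℕ∞) : WithBot ℕ∞) := by
        rw [← WithBot.coe_one, ← WithBot.coe_add]; rfl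
      rw [this] at ht
      have h6 : ((⊤ : ℕ∞) : WithBot ℕ∞) = (((h + c' : ℕ) : ℕ∞) : WithBot ℕ∞) := by
        rw [ht]; push_cast; rfl
      rw [WithBot.coe_inj] at h6
      exact ENat.top_ne_natCast _ h6
    | coe b =>
      induction h' using ENat.recTopCoe with
      | top =>
        exfalso
        have h7 : (((c : ℕ) : ℕ∞) : WithBot ℕ∞) + ((⊤ : ℕ∞) : WithBot ℕ∞) = ((⊤ : ℕ∞) : WithBot ℕ∞) := by
          rw [← WithBot.coe_add]; rfl
        rw [h7] at hF2
        have h8 : ((⊤ : ℕ∞) : WithBot ℕ∞) ≤ (((b : ℕ) : ℕ∞) : WithBot ℕ∞) := hF2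
        rw [WithBot.coe_le_coe, top_le_iff] at h8
        exact ENat.natCast_ne_top _ h8
      | coe h' =>
        have e1 : b + 1 = h + c' := by
          have : (((b + 1 : ℕ) : ℕ∞) : WithBot ℕ∞) = (((h + c' : ℕ) : ℕ∞) : WithBot ℕ∞) := by
            push_cast; exact ht
          exact_mod_cast this
        have e2 : c + h' ≤ b := by
          have : (((c + h' : ℕ) : ℕ∞) : WithBot ℕ∞) ≤ (((b : ℕ) : ℕ∞) : WithBot ℕ∞) := by
            push_cast; exact hF2
          exact_mod_cast this
        have : h' ≤ h := by omega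
        exact_mod_cast this

end Groth.Agent.S4742
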