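import Groth.Statements.S4744
import Groth.Agent.Lib.Helper49.ComplFlat
import Groth.Agent.Lib.Helper49.CMFibre
import Groth.Agent.Lib.Helper49.RegularHom
import Groth.Agent.Lib.Helper96.RegularHom
import Groth.Agent.Lib.Helper28.CMRingAux
import Groth.Agent.S18865
import Groth.Agent.S9295
-- import your own Groth.Agent.* helpers here

set_option autoImplicit false
universe u
open EGA4

namespace Groth.Agent.S4744

/-- Let A → A' be a flat local homomorphism of Noetherian local rings all of whose fibre rings k(p) ⊗_A
A' are Cohen–Macaulay. If the completion map of A' is regular (the formal fibres of A' are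
geometrically regular), then the formal fibres of A are Cohen–Macaulay. -/
theorem result (A A' : Type u) [CommRing A] [CommRing A'] [IsNoetherianRing A]
    [IsNoetherianRing A'] [IsLocalRing A] [IsLocalRing A'] [Algebra A A'] [IsLocalHom (algebraMap A A')]
    [Module.Flat A A'] (hf : ∀ (p : Ideal A) [p.IsPrime], LocCoh.IsCohenMacaulayRing (p.Fiber A'))
    (hA' : CAlg.IsRegularHom A' (EGA4.Cpl A')) : EGA4.HasCMFormalFibres A := by
  letI := Groth.Agent.Lib.Helper49.ComplFlat.cplAlgebra A A'
  haveI := Groth.Agent.Lib.Helper49.ComplFlat.cplTower A A'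
  haveI hff := Groth.Agent.Lib.Helper49.ComplFlat.faithfullyFlat_cpl A A'
  haveI : IsNoetherianRing (EGA4.Cpl A') := Groth.Agent.Lib.Helper49.ComplFlat.isNoetherianRing_cpl A'
  intro p hp
  -- Step 1: the fibre of `A → Â'` over `p` is CM
  haveI hF' : LocCoh.IsCohenMacaulayRing (TensorProduct A A' p.ResidueField) :=
    Groth.Agent.Lib.Helper28.CMRingAux.isCohenMacaulayRing_of_ringEquiv
      (Algebra.TensorProduct.comm A A' p.ResidueField).toRingEquiv (hf p)
  have e : TensorProduct A' (TensorProduct A A' p.ResidueField) (EGA4.Cpl A') ≃+*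
      p.Fiber (EGA4.Cpl A') :=
    (Algebra.TensorProduct.comm A' (TensorProduct A A' p.ResidueField)
        (EGA4.Cpl A')).toRingEquiv.trans
      ((Algebra.TensorProduct.cancelBaseChange A A' A' (EGA4.Cpl A')
        p.ResidueField).toRingEquiv.trans
      (Algebra.TensorProduct.comm A (EGA4.Cpl A') p.ResidueField).toRingEquiv)
  haveI hNfib : IsNoetherianRing (p.Fiber (EGA4.Cpl A')) :=
    Groth.Agent.Lib.Helper49.FibreSk.isNoetherianRing_fiber p
  haveI hNG : IsNoetherianRing
      (TensorProduct A' (TensorProduct A A' p.ResidueField) (EGA4.Cpl A')) :=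
    isNoetherianRing_of_ringEquiv _ e.symm
  have hreg := Groth.Agent.Lib.Helper96.isRegularHom_baseChange A' (EGA4.Cpl A')
    (TensorProduct A A' p.ResidueField) hA'
  haveI := hreg.1
  haveI : IsNoetherianRing (TensorProduct A A' p.ResidueField) := inferInstance
  have hG : LocCoh.IsCohenMacaulayRing
      (TensorProduct A' (TensorProduct A A' p.ResidueField) (EGA4.Cpl A')) := by
    apply Groth.Agent.Lib.Helper49.CMFibre.isCM_of_flat_of_fibres
      (R := TensorProduct A A' p.ResidueField)
    intro Q hQ
    have hr1 := (hreg.2 Q).2 Q.ResidueField (Module.Finite.self _)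
    haveI hr2 := Groth.Agent.Lib.Helper49.RegularHom.isRegularRing_of_ringEquiv'
        (Algebra.TensorProduct.lid Q.ResidueField _).toRingEquiv hr1
    exact Groth.Agent.S18865.isCohenMacaulayRing_of_isRegularRing _
  have h1 : LocCoh.IsCohenMacaulayRing (TensorProduct A p.ResidueField (EGA4.Cpl A')) :=
    Groth.Agent.Lib.Helper28.CMRingAux.isCohenMacaulayRing_of_ringEquiv e.symm hG
  -- Step 2: descend along `Â → Â'`
  exact Groth.Agent.S9295.descend (fun R _ => LocCoh.IsCohenMacaulayRing R)
    (fun R R' _ _ e h => Groth.Agent.Lib.Helper28.CMRingAux.isCohenMacaulayRing_of_ringEquiv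
      e.symm h)
    (fun R S _ _ _ _ h => by
      haveI := h
      haveI : IsNoetherianRing S := inferInstance
      haveI : IsNoetherianRing R := Groth.Agent.S9295.isNoetherianRing_of_faithfullyFlat R S
      exact Groth.Agent.Lib.Helper49.CMFibre.isCM_of_faithfullyFlat (R := R) (S := S))
    A (EGA4.Cpl A) (EGA4.Cpl A') p.ResidueField h1

end Groth.Agent.S4744
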