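import Groth.Statements.S4746
import Groth.Agent.Lib.Helper88.ReducedLift
-- import your own Groth.Agent.* helpers here

set_option autoImplicit false
universe u
open EGA4

namespace Groth.Agent.S4746

open Groth.Agent.Lib.Helper88 TensorProduct IsLocalRing

/-- base change of a faithfully flat map stays injective -/
theorem rTensor_injective_of_faithfullyFlat (A B C M : Type*) [CommRing A] [CommRing B]
    [CommRing C] [Algebra A B] [Algebra B C] [Algebra A C] [IsScalarTower A B C]
    [Module.FaithfullyFlat B C] [AddCommGroup M] [Module A M] :
    Function.Injective (LinearMap.rTensor M (IsScalarTower.toAlgHom A B C).toLinearMap) := by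
  let N := B ⊗[A] M
  have h1 : Function.Injective (TensorProduct.mk B C N 1) :=
    Module.FaithfullyFlat.tensorProduct_mk_injective (A := B) (B := C) N
  let ψ : C ⊗[B] (B ⊗[A] M) ≃ₗ[C] C ⊗[A] M :=
    TensorProduct.AlgebraTensorModule.cancelBaseChange A B C C M
  have h2 : ∀ z : B ⊗[A] M,
      LinearMap.rTensor M (IsScalarTower.toAlgHom A B C).toLinearMap z =
        ψ (TensorProduct.mk B C N 1 z) := by
    intro z
    induction z using TensorProduct.induction_on with
    | zero => simp
    | tmul b m =>
      simp [ψ, N, Algebra.smul_def]
    | add x y hx hy => simp only [map_add, hx, hy]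
  intro x y hxy
  rw [h2, h2] at hxy
  exact h1 (ψ.injective hxy)

/-- the kernel of a finite algebra map from a local ring to a field contains the maximal ideal -/
theorem maximalIdeal_le_ker (A k' : Type*) [CommRing A] [IsLocalRing A] [Field k'] [Algebra A k']
    [Module.Finite A k'] : maximalIdeal A ≤ RingHom.ker (algebraMap A k') := by
  haveI : Algebra.IsIntegral A k' := Algebra.IsIntegral.of_finite A k'
  haveI : (⊥ : Ideal k').IsMaximal := Ideal.bot_isMaximal
  have hmax : ((⊥ : Ideal k').comap (algebraMap A k')).IsMaximal :=
    Ideal.isMaximal_comap_of_isIntegral_of_isMaximal (R := A) (⊥ : Ideal k')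
  have : RingHom.ker (algebraMap A k') = maximalIdeal A :=
    IsLocalRing.eq_maximalIdeal hmax
  exact this.ge

/-- the closed-fibre hypothesis in the form used by `ReducedLift` -/
theorem isReduced_tensor_of_isGeometricallyReduced_closedFibre (A C : Type u) [CommRing A]
    [IsLocalRing A] [CommRing C] [Algebra A C]
    (h : Algebra.IsGeometricallyReduced (maximalIdeal A).ResidueField
      ((maximalIdeal A).Fiber C))
    (k' : Type u) [Field k'] [Algebra A k'] (hfin : Module.Finite A k') :
    IsReduced (k' ⊗[A] C) := by
  haveI := hfin
  let κ := (maximalIdeal A).ResidueField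
  let g : κ →+* k' := Ideal.ResidueField.lift (maximalIdeal A) (algebraMap A k')
    (maximalIdeal_le_ker A k') (by
      intro x hx
      have hu : IsUnit x := by
        by_contra hnu
        exact hx ((IsLocalRing.mem_maximalIdeal x).mpr hnu)
      exact hu.map (algebraMap A k'))
  letI : Algebra κ k' := g.toAlgebra
  haveI : IsScalarTower A κ k' := IsScalarTower.of_algebraMap_eq (fun x => by
    change algebraMap A k' x = g (algebraMap A κ x)
    rw [Ideal.ResidueField.lift_algebraMap])
  haveI : Module.Finite κ k' := Module.Finite.of_restrictScalars_finite A κ k'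
  haveI : Algebra.IsAlgebraic κ k' := Algebra.IsAlgebraic.of_finite κ k'
  haveI : IsReduced (k' ⊗[κ] ((maximalIdeal A).Fiber C)) := inferInstance
  let e1 : k' ⊗[κ] (κ ⊗[A] C) ≃ₐ[k'] k' ⊗[A] C :=
    Algebra.TensorProduct.cancelBaseChange A κ k' k' C
  exact isReduced_of_injective e1.symm e1.symm.injective

/-- For the property 'reduced': let A → B be a local homomorphism of Noetherian local rings making B a
flat A-module, such that the residue field of B is a finite extension of the residue field k of A,
and such that the formal fibres of A are geometrically reduced. If the k-algebra k ⊗_A B̂, where B̂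
is the completion of B, is geometrically reduced over k, then every fibre k(p) ⊗_A B of A → B is
geometrically reduced over k(p). -/
theorem result (A B : Type u) [CommRing A] [CommRing B]
    [IsNoetherianRing A] [IsNoetherianRing B] [IsLocalRing A] [IsLocalRing B] [Algebra A B]
    [IsLocalHom (algebraMap A B)] [Module.Flat A B]
    [Module.Finite (IsLocalRing.ResidueField A) (IsLocalRing.ResidueField B)]
    (hA : EGA4.HasGeomReducedFormalFibres A)
    (h : Algebra.IsGeometricallyReduced (IsLocalRing.maximalIdeal A).ResidueField
      ((IsLocalRing.maximalIdeal A).Fiber (EGA4.Cpl B))) :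
    ∀ (p : Ideal A) [p.IsPrime], Algebra.IsGeometricallyReduced p.ResidueField (p.Fiber B) := by
  intro p _
  have hNag : CAlg.IsNagata A := FormalFibre.isNagata_of_geomReducedFormalFibres A hA
  let C := EGA4.Cpl B
  haveI : IsNoetherianRing C := Groth.Agent.S0543.result B _
  haveI : Module.Flat B C := inferInstance
  haveI : Module.Flat A C := Module.Flat.trans A B C
  haveI : IsLocalHom (algebraMap A C) := by
    rw [IsScalarTower.algebraMap_eq A B C]
    exact RingHom.isLocalHom_comp _ _
  haveI : Module.FaithfullyFlat B C := Module.FaithfullyFlat.of_flat_of_isLocalHom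
  have hC : Algebra.IsGeometricallyReduced p.ResidueField (p.Fiber C) :=
    ReducedLift.isGeometricallyReduced_fiber_of_closedFibre A C hNag
      (fun k' _ _ hfin => isReduced_tensor_of_isGeometricallyReduced_closedFibre A C h k' hfin) p
  let f : p.Fiber B →ₐ[p.ResidueField] p.Fiber C :=
    Algebra.TensorProduct.map (AlgHom.id p.ResidueField p.ResidueField)
      (IsScalarTower.toAlgHom A B C)
  have hf : Function.Injective f := by
    have h1 := rTensor_injective_of_faithfullyFlat A B C p.ResidueField
    intro x y hxy
    have h2 : ∀ z : p.ResidueField ⊗[A] B,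
        TensorProduct.comm A _ _ (f z) =
          LinearMap.rTensor p.ResidueField (IsScalarTower.toAlgHom A B C).toLinearMap
            (TensorProduct.comm A _ _ z) := by
      intro z
      induction z using TensorProduct.induction_on with
      | zero => simp
      | tmul a b => simp [f]
      | add x y hx hy => simp only [map_add, hx, hy]
    have h3 := congrArg (TensorProduct.comm A _ _) hxy
    rw [h2, h2] at h3
    exact (TensorProduct.comm A _ _).injective (h1 h3)
  exact Algebra.IsGeometricallyReduced.of_injective f hf

end Groth.Agent.S4746
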