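import Groth.Statements.S4747
import Groth.Agent.Lib.Helper88.CMLift3
import Groth.Agent.Lib.Helper88.ComplQuot
import Groth.Agent.Lib.Helper96.ComplRegular
import Groth.Agent.Lib.Helper28.CMRingAux
import Groth.Agent.S4728
import Groth.Agent.S0543

set_option autoImplicit false
universe u
open EGA4

namespace Groth.Agent.S4747

open IsLocalRing TensorProduct Groth.Agent.Lib.Helper88 Groth.Agent.Lib.Helper88.CMLift
  Groth.Agent.Lib.Helper49 Groth.Agent.Lib.Helper49.FibreSk Groth.Agent.Lib.Helper49.CMFibre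

/-- a local Cohen–Macaulay ring is a Cohen–Macaulay local ring -/
theorem isCMLocal_of_isCMRing (F : Type u) [CommRing F] [IsLocalRing F]
    [h : LocCoh.IsCohenMacaulayRing F] : LocCoh.IsCohenMacaulayLocalRing F := by
  have h1 := h.isCohenMacaulayLocalRing_localization (maximalIdeal F)
  have hu : (maximalIdeal F).primeCompl ≤ IsUnit.submonoid F := by
    intro x hx
    by_contra hnu
    exact hx ((mem_maximalIdeal x).mpr hnu)
  let e : F ≃+* Localization.AtPrime (maximalIdeal F) :=
    (IsLocalization.atUnits F (maximalIdeal F).primeCompl hu).toRingEquiv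
  exact (Groth.Agent.Lib.Helper33.CMComp.cm_ringEquiv_iff e).mpr h1

section General

variable (A B : Type u) [CommRing A] [CommRing B]
  [IsNoetherianRing A] [IsNoetherianRing B] [IsLocalRing A] [IsLocalRing B] [Algebra A B]
  [IsLocalHom (algebraMap A B)] [Module.Flat A B]

/-- the residue field of the completion of `B` is finite over `A` -/
theorem finite_residueField_cpl
    [hres : Module.Finite (ResidueField A) (ResidueField B)] :
    Module.Finite A (ResidueField (EGA4.Cpl B)) := by
  haveI : Module.Finite A (ResidueField A) :=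
    Module.Finite.of_surjective (Algebra.linearMap A (ResidueField A))
      Ideal.Quotient.mk_surjective
  haveI : Module.Finite A (ResidueField B) := Module.Finite.trans (ResidueField A) (ResidueField B)
  have hcomap : maximalIdeal B ≤
      (maximalIdeal (EGA4.Cpl B)).comap (IsScalarTower.toAlgHom A B (EGA4.Cpl B)) := by
    intro b hb
    rw [Ideal.mem_comap, AdicCompletion.maximalIdeal_eq_map]
    exact Ideal.mem_map_of_mem _ hb
  let f : B ⧸ maximalIdeal B →ₐ[A] EGA4.Cpl B ⧸ maximalIdeal (EGA4.Cpl B) :=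
    Ideal.quotientMapₐ (maximalIdeal (EGA4.Cpl B)) (IsScalarTower.toAlgHom A B (EGA4.Cpl B)) hcomap
  have hf : Function.Surjective f := by
    intro y
    obtain ⟨x, rfl⟩ := Ideal.Quotient.mk_surjective y
    obtain ⟨b, hb⟩ := ComplQuot.exists_sub_mem_ext_pow (maximalIdeal B)
      (maximalIdeal B).fg_of_isNoetherianRing 1 x
    refine ⟨Ideal.Quotient.mk _ b, ?_⟩
    change Ideal.Quotient.mk _ (algebraMap B (EGA4.Cpl B) b) = Ideal.Quotient.mk _ x
    rw [eq_comm, Ideal.Quotient.eq, AdicCompletion.maximalIdeal_eq_map]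
    rw [pow_one] at hb
    exact hb
  haveI : Module.Finite A (B ⧸ maximalIdeal B) := ‹Module.Finite A (ResidueField B)›
  exact Module.Finite.of_surjective (M := B ⧸ maximalIdeal B)
    (P := EGA4.Cpl B ⧸ maximalIdeal (EGA4.Cpl B)) f.toLinearMap hf

set_option maxHeartbeats 1600000 in
/-- **EGA IV 7.5.2 (CM)** in numerical form -/
theorem fib_eq_general [hres : Module.Finite (ResidueField A) (ResidueField B)]
    (hA : EGA4.HasCMFormalFibres A)
    (hcl : LocCoh.IsCohenMacaulayRing ((maximalIdeal A).Fiber (EGA4.Cpl B)))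
    (p : Ideal A) [p.IsPrime] (q : Ideal B) [q.IsPrime] [hqp : q.LiesOver p] :
    fibDim p q = fibDepth p q := by
  haveI : IsNoetherianRing (EGA4.Cpl A) := Groth.Agent.S0543.result A _
  haveI : IsNoetherianRing (EGA4.Cpl B) := Groth.Agent.S0543.result B _
  letI alg : Algebra (EGA4.Cpl A) (EGA4.Cpl B) := (Groth.Agent.Lib.Helper96.cplMap A B).toAlgebra
  haveI : IsLocalHom (algebraMap (EGA4.Cpl A) (EGA4.Cpl B)) :=
    Groth.Agent.Lib.Helper96.isLocalHom_cplMap A B
  haveI : Module.Flat (EGA4.Cpl A) (EGA4.Cpl B) :=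
    (RingHom.flat_algebraMap_iff).mp (Groth.Agent.Lib.Helper96.flat_cplMap A B)
  haveI : IsScalarTower A (EGA4.Cpl A) (EGA4.Cpl B) :=
    IsScalarTower.of_algebraMap_eq (fun a => (Groth.Agent.Lib.Helper96.cplMap_algebraMap A B a).symm)
  haveI : Module.FaithfullyFlat B (EGA4.Cpl B) := Module.FaithfullyFlat.of_flat_of_isLocalHom
  -- residue field finiteness
  haveI : Module.Finite A (ResidueField (EGA4.Cpl B)) := finite_residueField_cpl A B
  haveI : IsScalarTower A (EGA4.Cpl A) (ResidueField (EGA4.Cpl B)) :=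
    IsScalarTower.of_algebraMap_eq (fun a => by
      change residue _ (algebraMap A (EGA4.Cpl B) a) =
        residue _ (algebraMap (EGA4.Cpl A) (EGA4.Cpl B) (algebraMap A (EGA4.Cpl A) a))
      rw [← IsScalarTower.algebraMap_apply A (EGA4.Cpl A) (EGA4.Cpl B)])
  haveI : Module.Finite (EGA4.Cpl A) (ResidueField (EGA4.Cpl B)) :=
    Module.Finite.of_restrictScalars_finite A (EGA4.Cpl A) _
  -- closed fibre
  have hmne : (maximalIdeal (EGA4.Cpl A)).map (algebraMap (EGA4.Cpl A) (EGA4.Cpl B)) ≠ ⊤ :=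
    map_ne_top (EGA4.Cpl A) (EGA4.Cpl B) _ Ideal.IsPrime.ne_top'
  haveI : IsLocalRing (EGA4.Cpl B ⧸
      (maximalIdeal (EGA4.Cpl A)).map (algebraMap (EGA4.Cpl A) (EGA4.Cpl B))) :=
    isLocalRing_quotient _ _ hmne
  have hideal : (maximalIdeal A).map (algebraMap A (EGA4.Cpl B)) =
      (maximalIdeal (EGA4.Cpl A)).map (algebraMap (EGA4.Cpl A) (EGA4.Cpl B)) := by
    rw [AdicCompletion.maximalIdeal_eq_map, Ideal.map_map,
      ← IsScalarTower.algebraMap_eq A (EGA4.Cpl A) (EGA4.Cpl B)]
  obtain ⟨e0⟩ := Groth.Agent.S4728.nonempty_fiber_equiv A (EGA4.Cpl B)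
  haveI hFring : LocCoh.IsCohenMacaulayRing (EGA4.Cpl B ⧸
      (maximalIdeal (EGA4.Cpl A)).map (algebraMap (EGA4.Cpl A) (EGA4.Cpl B))) :=
    Groth.Agent.Lib.Helper28.CMRingAux.isCohenMacaulayRing_of_ringEquiv
      ((Ideal.quotEquivOfEq hideal.symm).trans e0.symm) hcl
  have hF := isCMLocal_of_isCMRing (EGA4.Cpl B ⧸
      (maximalIdeal (EGA4.Cpl A)).map (algebraMap (EGA4.Cpl A) (EGA4.Cpl B)))
  -- the prime `q̂`
  obtain ⟨Q, hQp, hQlo⟩ := Ideal.exists_isPrime_liesOver_of_faithfullyFlat (B := EGA4.Cpl B) q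
  obtain ⟨qh, hqhmin, hqhle⟩ := Ideal.exists_minimalPrimes_le
    (I := q.map (algebraMap B (EGA4.Cpl B))) (J := Q)
    (Ideal.map_le_iff_le_comap.mpr (le_of_eq hQlo.over))
  haveI : qh.IsPrime := hqhmin.1.1
  haveI : qh.LiesOver q :=
    ⟨le_antisymm (Ideal.map_le_iff_le_comap.mp hqhmin.1.2)
      ((Ideal.comap_mono hqhle).trans (le_of_eq hQlo.over.symm))⟩
  have hfd0 : fibDim q qh = 0 := by
    have h := Groth.Agent.S9297.ringKrullDim_fibLoc_eq_zero q qh hqhmin
    rw [← coe_fibDim] at h
    exact_mod_cast h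
  have hfdp0 : fibDepth q qh = 0 := le_antisymm (hfd0 ▸ fibDepth_le_fibDim q qh) zero_le
  -- the prime `p̂`
  haveI : (qh.under (EGA4.Cpl A)).IsPrime := inferInstance
  haveI : qh.LiesOver (qh.under (EGA4.Cpl A)) := ⟨rfl⟩
  haveI : (qh.under (EGA4.Cpl A)).LiesOver p := by
    refine ⟨?_⟩
    rw [Ideal.under_under, ← Ideal.under_under (B := B) qh,
      ← (Ideal.LiesOver.over (p := q) (P := qh)), ← hqp.over]
  -- the four formulas
  have e1 := depth_localization_eq_add p q
  have h1 := height_eq_add' p q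
  have e2 := depth_localization_eq_add q qh
  have h2 := height_eq_add' q qh
  have e3 := depth_localization_eq_add p (qh.under (EGA4.Cpl A))
  have h3 := height_eq_add' p (qh.under (EGA4.Cpl A))
  have e4 := depth_localization_eq_add (qh.under (EGA4.Cpl A)) qh
  have h4 := height_eq_add' (qh.under (EGA4.Cpl A)) qh
  have f3 : fibDim p (qh.under (EGA4.Cpl A)) = fibDepth p (qh.under (EGA4.Cpl A)) :=
    (isCM_fiber_iff p).1 (hA p) _
  have f4 : fibDim (qh.under (EGA4.Cpl A)) qh = fibDepth (qh.under (EGA4.Cpl A)) qh :=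
    complete_case (EGA4.Cpl A) (EGA4.Cpl B) _ hF (Ideal.Quotient.mk _)
      Ideal.Quotient.mk_surjective Ideal.mk_ker _ qh
  have ha := depth_le_height A p
  have hc : p.height ≠ ⊤ := Ideal.height_ne_top (Ideal.IsPrime.ne_top')
  have hy1 := fibDim_ne_top p q
  have hx1 := fibDepth_le_fibDim p q
  have hy3 := fibDim_ne_top p (qh.under (EGA4.Cpl A))
  have hy4 := fibDim_ne_top (qh.under (EGA4.Cpl A)) qh
  rw [hfdp0, add_zero] at e2
  rw [hfd0, add_zero] at h2
  rw [e2, e1, e3, ← f3, ← f4] at e4
  rw [h2, h1, h3] at h4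
  generalize LocCoh.depth (Localization.AtPrime p) (Localization.AtPrime p) = a at *
  generalize p.height = c at *
  generalize fibDepth p q = x1 at *
  generalize fibDim p q = y1 at *
  generalize fibDim p (qh.under (EGA4.Cpl A)) = y3 at *
  generalize fibDim (qh.under (EGA4.Cpl A)) qh = y4 at *
  lift c to ℕ using hc
  lift y1 to ℕ using hy1
  lift y3 to ℕ using hy3
  lift y4 to ℕ using hy4
  lift a to ℕ using (ne_top_of_le_ne_top (ENat.coe_ne_top c) ha)
  lift x1 to ℕ using (ne_top_of_le_ne_top (ENat.coe_ne_top y1) hx1)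
  norm_cast at *
  omega

end General


open TensorProduct in
/-- For the property 'Cohen–Macaulay': let A → B be a local homomorphism of Noetherian local rings
making B a flat A-module, such that the residue field of B is a finite extension of the residue
field k of A, and such that the formal fibres of A are Cohen–Macaulay. If for every finite extension
k' of k the ring k' ⊗_k (k ⊗_A B̂) is Cohen–Macaulay (B̂ the completion of B), then for every prime
p of A and every finite extension K of k(p) the ring K ⊗_{k(p)} (k(p) ⊗_A B) is Cohen–Macaulay; in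
particular all fibres of A → B are Cohen–Macaulay. -/
theorem result (A B : Type u) [CommRing A] [CommRing B]
    [IsNoetherianRing A] [IsNoetherianRing B] [IsLocalRing A] [IsLocalRing B] [Algebra A B]
    [IsLocalHom (algebraMap A B)] [Module.Flat A B]
    [Module.Finite (IsLocalRing.ResidueField A) (IsLocalRing.ResidueField B)]
    (hA : EGA4.HasCMFormalFibres A)
    (h : ∀ (k' : Type u) [Field k'] [Algebra (IsLocalRing.maximalIdeal A).ResidueField k'],
      Module.Finite (IsLocalRing.maximalIdeal A).ResidueField k' →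
        LocCoh.IsCohenMacaulayRing (k' ⊗[(IsLocalRing.maximalIdeal A).ResidueField]
          ((IsLocalRing.maximalIdeal A).Fiber (EGA4.Cpl B)))) :
    ∀ (p : Ideal A) [p.IsPrime] (K : Type u) [Field K] [Algebra p.ResidueField K],
      Module.Finite p.ResidueField K → LocCoh.IsCohenMacaulayRing (K ⊗[p.ResidueField] (p.Fiber B)) := by
  have hcl : LocCoh.IsCohenMacaulayRing ((maximalIdeal A).Fiber (EGA4.Cpl B)) := by
    have h1 := h (maximalIdeal A).ResidueField (Module.Finite.self _)
    exact Groth.Agent.Lib.Helper28.CMRingAux.isCohenMacaulayRing_of_ringEquiv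
      (Algebra.TensorProduct.lid (maximalIdeal A).ResidueField
        ((maximalIdeal A).Fiber (EGA4.Cpl B))).symm.toRingEquiv h1
  intro p _ K _ _ hK
  haveI := hK
  haveI hfib : LocCoh.IsCohenMacaulayRing (p.Fiber B) :=
    (isCM_fiber_iff p).2 (fun q _ _ => fib_eq_general A B hA hcl p q)
  haveI : IsNoetherianRing (p.Fiber B) := hfib.toIsNoetherian
  haveI : IsNoetherianRing (p.Fiber B ⊗[p.ResidueField] K) :=
    IsNoetherianRing.of_finite (p.Fiber B) _
  haveI : Algebra.IsIntegral (p.Fiber B) (p.Fiber B ⊗[p.ResidueField] K) :=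
    Algebra.IsIntegral.of_finite _ _
  have h2 : LocCoh.IsCohenMacaulayRing (p.Fiber B ⊗[p.ResidueField] K) :=
    isCM_of_flat_of_isIntegral (R := p.Fiber B)
  exact Groth.Agent.Lib.Helper28.CMRingAux.isCohenMacaulayRing_of_ringEquiv
    (Algebra.TensorProduct.comm p.ResidueField K (p.Fiber B)).toRingEquiv h2

end Groth.Agent.S4747
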