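import Groth.Statements.S4750
import Groth.Agent.Lib.Helper49.FibreSk
-- import your own Groth.Agent.* helpers here

set_option autoImplicit false
universe u
open EGA4

namespace Groth.Agent.S4750

/-- Let A → B → C be homomorphisms of Noetherian rings, both flat and with (S_n) fibres. Then the
composite A → C is flat with (S_n) fibres. -/
theorem result (n : ℕ) (A B C : Type u) [CommRing A] [CommRing B] [CommRing C] [IsNoetherianRing A]
    [IsNoetherianRing B] [IsNoetherianRing C] [Algebra A B] [Algebra B C] [Algebra A C] [IsScalarTower A B C]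
    [Module.Flat A B] [Module.Flat B C]
    (hAB : ∀ (p : Ideal A) [p.IsPrime], LocCoh.HasSk n (p.Fiber B) (p.Fiber B))
    (hBC : ∀ (q : Ideal B) [q.IsPrime], LocCoh.HasSk n (q.Fiber C) (q.Fiber C)) :
    Module.Flat A C ∧ ∀ (p : Ideal A) [p.IsPrime], LocCoh.HasSk n (p.Fiber C) (p.Fiber C) := by
  have hAC : Module.Flat A C := Module.Flat.trans A B C
  refine ⟨hAC, fun p hp => ?_⟩
  rw [Groth.Agent.Lib.Helper49.FibreSk.hasSk_fiber_iff]
  intro r hr hrp
  have hq : (r.under B).IsPrime := inferInstance
  have hqp : (r.under B).LiesOver p := Ideal.LiesOver.tower_bot r (r.under B) p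
  obtain ⟨h1, h2⟩ := Groth.Agent.Lib.Helper49.FibreSk.fib_comp p (r.under B) r
  have hf1 := (Groth.Agent.Lib.Helper49.FibreSk.hasSk_fiber_iff n p).mp (hAB p) (r.under B)
  have hf2 := (Groth.Agent.Lib.Helper49.FibreSk.hasSk_fiber_iff n (r.under B)).mp
    (hBC (r.under B)) r
  rw [h1, h2]
  exact (Groth.Agent.Lib.Helper49.FibreSk.min_add_le _ _ _).trans (add_le_add hf1 hf2)

end Groth.Agent.S4750
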