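import Groth.Statements.S4751
import Groth.Agent.Lib.Helper49.FibreSk
import Groth.Agent.Lib.Helper40.FlatDescentSrc
-- import your own Groth.Agent.* helpers here

set_option autoImplicit false
universe u
open EGA4

namespace Groth.Agent.S4751

/-- Let A → B → C be homomorphisms of Noetherian rings such that B → C is faithfully flat with (S_n)
fibres and the composite A → C is flat with (S_n) fibres. Then A → B is flat with (S_n) fibres. -/
theorem result (n : ℕ) (A B C : Type u) [CommRing A] [CommRing B] [CommRing C]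
    [IsNoetherianRing A] [IsNoetherianRing B] [IsNoetherianRing C] [Algebra A B] [Algebra B C] [Algebra A C]
    [IsScalarTower A B C] [Module.FaithfullyFlat B C] [Module.Flat A C]
    (hBC : ∀ (q : Ideal B) [q.IsPrime], LocCoh.HasSk n (q.Fiber C) (q.Fiber C))
    (hAC : ∀ (p : Ideal A) [p.IsPrime], LocCoh.HasSk n (p.Fiber C) (p.Fiber C)) :
    Module.Flat A B ∧ ∀ (p : Ideal A) [p.IsPrime], LocCoh.HasSk n (p.Fiber B) (p.Fiber B) := by
  have hAB : Module.Flat A B :=
    Groth.Agent.Lib.Helper40.FlatDescentSrc.flat_of_faithfullyFlat_of_flat A B C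
  refine ⟨hAB, fun p hp => ?_⟩
  rw [Groth.Agent.Lib.Helper49.FibreSk.hasSk_fiber_iff]
  intro q hq hqp
  obtain ⟨r, hr, hrq, -, hrh⟩ := Groth.Agent.Lib.Helper49.Serre.exists_liesOver_height_eq C q
  have hrp : r.LiesOver p := Ideal.LiesOver.trans r q p
  obtain ⟨h1, h2⟩ := Groth.Agent.Lib.Helper49.FibreSk.fib_comp p q r
  have h3 := Groth.Agent.Lib.Helper49.FibreSk.height_eq_add' q r
  have hdim0 : Groth.Agent.Lib.Helper49.FibreSk.fibDim q r = 0 := by
    rw [hrh] at h3
    have hne : q.height ≠ ⊤ := Ideal.height_ne_top hq.ne_top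
    have h4 : q.height + 0 = q.height + Groth.Agent.Lib.Helper49.FibreSk.fibDim q r := by
      rw [add_zero]; exact h3
    exact ((ENat.add_right_injective_of_ne_top hne) h4).symm
  have hdep0 : Groth.Agent.Lib.Helper49.FibreSk.fibDepth q r = 0 := by
    have := Groth.Agent.Lib.Helper49.FibreSk.fibDepth_le_fibDim q r
    rw [hdim0] at this
    exact le_antisymm this zero_le
  have hf := (Groth.Agent.Lib.Helper49.FibreSk.hasSk_fiber_iff n p).mp (hAC p) r
  rw [h1, h2, hdim0, hdep0, add_zero, add_zero] at hf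
  exact hf

end Groth.Agent.S4751
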