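import Groth.Statements.S4752
import Groth.Agent.Lib.Helper49.GeomRedFlat
-- import your own Groth.Agent.* helpers here

set_option autoImplicit false
universe u
open EGA4

namespace Groth.Agent.S4752

open TensorProduct


/-- Case of reduced morphisms, affine form: let A → B → C be homomorphisms of Noetherian rings, both
flat and with geometrically reduced fibres. Then the composite A → C is flat with geometrically
reduced fibres. -/
theorem result (A B C : Type u) [CommRing A] [CommRing B] [CommRing C] [IsNoetherianRing A]
    [IsNoetherianRing B] [IsNoetherianRing C] [Algebra A B] [Algebra B C] [Algebra A C] [IsScalarTower A B C]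
    [Module.Flat A B] [Module.Flat B C]
    (hAB : ∀ (p : Ideal A) [p.IsPrime], Algebra.IsGeometricallyReduced p.ResidueField (p.Fiber B))
    (hBC : ∀ (q : Ideal B) [q.IsPrime], Algebra.IsGeometricallyReduced q.ResidueField (q.Fiber C)) :
    Module.Flat A C ∧ ∀ (p : Ideal A) [p.IsPrime], Algebra.IsGeometricallyReduced p.ResidueField (p.Fiber C) := by
  have hAC : Module.Flat A C := Module.Flat.trans A B C
  refine ⟨hAC, fun p hp => ?_⟩
  rw [Algebra.isGeometricallyReduced_field_iff]
  have hD0 : IsReduced (AlgebraicClosure p.ResidueField ⊗[p.ResidueField] (p.Fiber B)) :=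
    (Algebra.isGeometricallyReduced_field_iff _ _).mp (hAB p)
  let e1 : AlgebraicClosure p.ResidueField ⊗[p.ResidueField] (p.ResidueField ⊗[A] B) ≃ₐ[
      AlgebraicClosure p.ResidueField] AlgebraicClosure p.ResidueField ⊗[A] B :=
    Algebra.TensorProduct.cancelBaseChange A p.ResidueField (AlgebraicClosure p.ResidueField)
      (AlgebraicClosure p.ResidueField) B
  let e2 : AlgebraicClosure p.ResidueField ⊗[A] B ≃ₐ[A] B ⊗[A] AlgebraicClosure p.ResidueField :=
    Algebra.TensorProduct.comm A (AlgebraicClosure p.ResidueField) B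
  have hD : IsReduced (B ⊗[A] AlgebraicClosure p.ResidueField) :=
    isReduced_of_injective
      ((e1.symm.toRingEquiv.toRingHom).comp e2.symm.toRingEquiv.toRingHom)
      ((e1.symm.injective).comp e2.symm.injective)
  have hE : IsReduced (C ⊗[B] (B ⊗[A] AlgebraicClosure p.ResidueField)) :=
    Groth.Agent.Lib.Helper49.GeomRedFlat.isReduced_tensor B C hBC
      (B ⊗[A] AlgebraicClosure p.ResidueField)
  let e3 : C ⊗[B] (B ⊗[A] AlgebraicClosure p.ResidueField) ≃ₐ[C]
      C ⊗[A] AlgebraicClosure p.ResidueField :=
    Algebra.TensorProduct.cancelBaseChange A B C C (AlgebraicClosure p.ResidueField)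
  let e4 : C ⊗[A] AlgebraicClosure p.ResidueField ≃ₐ[A] AlgebraicClosure p.ResidueField ⊗[A] C :=
    Algebra.TensorProduct.comm A C (AlgebraicClosure p.ResidueField)
  let e5 : AlgebraicClosure p.ResidueField ⊗[p.ResidueField] (p.ResidueField ⊗[A] C) ≃ₐ[
      AlgebraicClosure p.ResidueField] AlgebraicClosure p.ResidueField ⊗[A] C :=
    Algebra.TensorProduct.cancelBaseChange A p.ResidueField (AlgebraicClosure p.ResidueField)
      (AlgebraicClosure p.ResidueField) C
  exact isReduced_of_injective
    (((e3.symm.toRingEquiv.toRingHom).comp e4.symm.toRingEquiv.toRingHom).comp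
      e5.toRingEquiv.toRingHom)
    (((e3.symm.injective).comp e4.symm.injective).comp e5.injective)

end Groth.Agent.S4752
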