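import Groth.Statements.S4758
import Groth.Agent.Lib.Helper24.Lim8
-- import your own Groth.Agent.* helpers here

set_option autoImplicit false
universe u
open CategoryTheory AlgebraicGeometry
open Lim8

namespace Groth.Agent.S4758

/-- Let S = lim S_i be a cofiltered limit of schemes with affine transition maps and let i be an index.
The canonical projection S ⟶ S_i is surjective if and only if every transition map S_j ⟶ S_i is
surjective. -/
theorem result {I : Type u} [SmallCategory I] [IsCofiltered I]
    (D : I ⥤ Scheme.{u}) (c : Limits.Cone D) (hc : Limits.IsLimit c)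
    [∀ (i j : I) (f : i ⟶ j), IsAffineHom (D.map f)] (i : I) :
    Surjective (c.π.app i) ↔ ∀ (j : I) (φ : j ⟶ i), Surjective (D.map φ) := by
  constructor
  · intro h j φ
    refine ⟨fun x ↦ ?_⟩
    obtain ⟨s, rfl⟩ := h.surj x
    exact ⟨c.π.app j s, by rw [← Scheme.Hom.comp_apply, c.w]⟩
  · intro h
    refine ⟨fun x ↦ ?_⟩
    exact Groth.Agent.Lib.Helper24.Lim8.exists_π_app_eq D c hc x fun j φ ↦ (h j φ).surj x

end Groth.Agent.S4758
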