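import Groth.Statements.S4760
import Groth.Agent.Lib.Helper24.Lim8
-- import your own Groth.Agent.* helpers here

set_option autoImplicit false
universe u
open CategoryTheory AlgebraicGeometry
open Lim8

namespace Groth.Agent.S4760

/-- Let S = lim S_i be a cofiltered limit of schemes with affine transition maps, some stage S_{i₀}
being quasi-compact and quasi-separated. Then every subset Z of S that is both locally closed and
constructible is the preimage under the projection S ⟶ S_i of a locally closed constructible subset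
of S_i, for some index i over i₀. -/
theorem result {I : Type u} [SmallCategory I] [IsCofiltered I]
    (D : I ⥤ Scheme.{u}) (c : Limits.Cone D) (hc : Limits.IsLimit c)
    [∀ (i j : I) (f : i ⟶ j), IsAffineHom (D.map f)] (i₀ : I)
    [CompactSpace (D.obj i₀)] [QuasiSeparatedSpace (D.obj i₀)] (Z : Set c.pt)
    (hZ : Topology.IsConstructible Z) (hZ' : IsLocallyClosed Z) :
    ∃ (i : I) (_ : i ⟶ i₀) (Zi : Set (D.obj i)),
      Topology.IsConstructible Zi ∧ IsLocallyClosed Zi ∧ (⇑(c.π.app i) ⁻¹' Zi : Set c.pt) = Z := by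
  open Groth.Agent.Lib.Helper24.Lim8 in
  have hcpt : CompactSpace c.pt := compactSpace_pt D c hc i₀
  obtain ⟨O, T, hO, hT, rfl⟩ :=
    Groth.Agent.Lib.Helper24.Lim8.exists_isCompact_isOpen_sdiff_eq Z hZ hZ'
  obtain ⟨k₁, φ₁, A, hA, eA⟩ := Groth.Agent.Lib.Helper24.Lim8.exists_preimage_eq_over D c hc i₀
    O hO
  obtain ⟨k₂, φ₂, B, hB, eB⟩ := Groth.Agent.Lib.Helper24.Lim8.exists_preimage_eq_over D c hc i₀
    T hT
  replace eA : c.π.app k₁ ⁻¹' (A : Set (D.obj k₁)) = (O : Set c.pt) :=
    congrArg (fun W : c.pt.Opens ↦ (W : Set c.pt)) eA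
  replace eB : c.π.app k₂ ⁻¹' (B : Set (D.obj k₂)) = (T : Set c.pt) :=
    congrArg (fun W : c.pt.Opens ↦ (W : Set c.pt)) eB
  obtain ⟨k, a, b, -⟩ := IsCofilteredOrEmpty.cone_objs k₁ k₂
  have : QuasiSeparatedSpace (D.obj k₁) :=
    Groth.Agent.Lib.Helper24.Lim8.quasiSeparatedSpace_of_hom D φ₁
  have : QuasiSeparatedSpace (D.obj k₂) :=
    Groth.Agent.Lib.Helper24.Lim8.quasiSeparatedSpace_of_hom D φ₂
  refine ⟨k, a ≫ φ₁, D.map a ⁻¹' A \ D.map b ⁻¹' B, ?_, ?_, ?_⟩
  · exact ((D.map a).isConstructible_preimage (hA.isConstructible A.2)).sdiff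
      ((D.map b).isConstructible_preimage (hB.isConstructible B.2))
  · exact ⟨_, _, A.2.preimage (D.map a).continuous,
      (B.2.preimage (D.map b).continuous).isClosed_compl, Set.sdiff_eq _ _⟩
  · rw [Set.preimage_sdiff, Groth.Agent.Lib.Helper24.Lim8.preimage_π_map,
      Groth.Agent.Lib.Helper24.Lim8.preimage_π_map, eA, eB]

end Groth.Agent.S4760
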