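import Groth.Statements.S4761
import Groth.Agent.Lib.Helper24.Lim8
-- import your own Groth.Agent.* helpers here

set_option autoImplicit false
universe u
open CategoryTheory AlgebraicGeometry
open Lim8

namespace Groth.Agent.S4761

/-- Let S = lim S_i be a cofiltered limit of schemes with affine transition maps, let S_{i₁} be a
quasi-compact stage and Z₁ a constructible subset of S_{i₁}. Then the preimage of Z₁ in S is open if
and only if, for some index j over i₁, the preimage of Z₁ in S_j is open. -/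
theorem result {I : Type u} [SmallCategory I] [IsCofiltered I]
    (D : I ⥤ Scheme.{u}) (c : Limits.Cone D) (hc : Limits.IsLimit c)
    [∀ (i j : I) (f : i ⟶ j), IsAffineHom (D.map f)] (i₁ : I)
    [CompactSpace (D.obj i₁)] (Z₁ : Set (D.obj i₁)) (hZ : Topology.IsConstructible Z₁) :
    IsOpen (⇑(c.π.app i₁) ⁻¹' Z₁ : Set c.pt) ↔ ∃ (j : I) (φ : j ⟶ i₁), IsOpen (⇑(D.map φ) ⁻¹' Z₁) := by
  open Groth.Agent.Lib.Helper24.Lim8 in
  have hcpt : CompactSpace c.pt := compactSpace_pt D c hc i₁
  constructor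
  · intro hW
    have haff := isAffineHom_π_app D c hc i₁
    have hWc : IsCompact (c.π.app i₁ ⁻¹' Z₁) :=
      ((Groth.Agent.Lib.Helper24.Lim8.IsGood.of_isConstructible hZ).preimage_hom
        (c.π.app i₁)).isCompact
    obtain ⟨k, φ, V, hV, eV⟩ := Groth.Agent.Lib.Helper24.Lim8.exists_preimage_eq_over D c hc i₁
      ⟨_, hW⟩ hWc
    replace eV : c.π.app k ⁻¹' (V : Set (D.obj k)) = c.π.app i₁ ⁻¹' Z₁ :=
      congrArg (fun W : c.pt.Opens ↦ (W : Set c.pt)) eV
    have : CompactSpace (D.obj k) := Groth.Agent.Lib.Helper24.Lim8.compactSpace_of_hom D φ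
    obtain ⟨l, ψ, hl⟩ :=
      Groth.Agent.Lib.Helper24.Lim8.exists_preimage_eq_of_isGood_of_isConstructible D c hc
        (V : Set (D.obj k)) (D.map φ ⁻¹' Z₁) (.of_isCompact_isOpen hV V.2) V.2
        ((D.map φ).isConstructible_preimage hZ)
        (by rw [eV, Groth.Agent.Lib.Helper24.Lim8.preimage_π_map])
    refine ⟨l, ψ ≫ φ, ?_⟩
    rw [Groth.Agent.Lib.Helper24.Lim8.preimage_map_comp, ← hl]
    exact V.2.preimage (D.map ψ).continuous
  · rintro ⟨j, φ, hj⟩
    rw [← Groth.Agent.Lib.Helper24.Lim8.preimage_π_map D c φ]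
    exact hj.preimage (c.π.app j).continuous

end Groth.Agent.S4761
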