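import Groth.Statements.S4762
import Groth.Agent.Lib.Helper24.Lim8
-- import your own Groth.Agent.* helpers here

set_option autoImplicit false
universe u
open CategoryTheory AlgebraicGeometry
open Lim8

namespace Groth.Agent.S4762

/-- Let S = lim S_i be a cofiltered limit of schemes with affine transition maps, let S_{i₁} be a
quasi-compact stage and Z₁ a constructible subset of S_{i₁}. Then the preimage of Z₁ in S is locally
closed if and only if, for some index j over i₁, the preimage of Z₁ in S_j is locally closed. -/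
theorem result {I : Type u} [SmallCategory I] [IsCofiltered I]
    (D : I ⥤ Scheme.{u}) (c : Limits.Cone D) (hc : Limits.IsLimit c)
    [∀ (i j : I) (f : i ⟶ j), IsAffineHom (D.map f)] (i₁ : I)
    [CompactSpace (D.obj i₁)] (Z₁ : Set (D.obj i₁)) (hZ : Topology.IsConstructible Z₁) :
    IsLocallyClosed (⇑(c.π.app i₁) ⁻¹' Z₁ : Set c.pt) ↔
      ∃ (j : I) (φ : j ⟶ i₁), IsLocallyClosed (⇑(D.map φ) ⁻¹' Z₁) := by
  open Groth.Agent.Lib.Helper24.Lim8 in
  have hcpt : CompactSpace c.pt := compactSpace_pt D c hc i₁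
  constructor
  · intro hW
    obtain ⟨O, T, hO, hT, eW⟩ :=
      Groth.Agent.Lib.Helper24.Lim8.exists_isCompact_isOpen_sdiff_eq (X := c.pt) _
        ((c.π.app i₁).isConstructible_preimage hZ) hW
    obtain ⟨k₁, φ₁, A, hA, eA⟩ := Groth.Agent.Lib.Helper24.Lim8.exists_preimage_eq_over D c hc i₁
      O hO
    obtain ⟨k₂, φ₂, B, hB, eB⟩ := Groth.Agent.Lib.Helper24.Lim8.exists_preimage_eq_over D c hc i₁
      T hT
    replace eA : c.π.app k₁ ⁻¹' (A : Set (D.obj k₁)) = (O : Set c.pt) :=
      congrArg (fun W : c.pt.Opens ↦ (W : Set c.pt)) eA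
    replace eB : c.π.app k₂ ⁻¹' (B : Set (D.obj k₂)) = (T : Set c.pt) :=
      congrArg (fun W : c.pt.Opens ↦ (W : Set c.pt)) eB
    obtain ⟨k, a, b, -⟩ := IsCofilteredOrEmpty.cone_objs k₁ k₂
    have : CompactSpace (D.obj k) := Groth.Agent.Lib.Helper24.Lim8.compactSpace_of_hom D (a ≫ φ₁)
    set A' : Set (D.obj k) := D.map a ⁻¹' A with hA'
    set B' : Set (D.obj k) := D.map b ⁻¹' B with hB'
    set E : Set (D.obj k) := D.map (a ≫ φ₁) ⁻¹' Z₁ with hE
    have hEc : Topology.IsConstructible E := (D.map (a ≫ φ₁)).isConstructible_preimage hZ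
    have hA'o : IsOpen A' := A.2.preimage (D.map a).continuous
    have hB'o : IsOpen B' := B.2.preimage (D.map b).continuous
    have hA'c : IsCompact A' := QuasiCompact.isCompact_preimage (f := D.map a) _ A.2 hA
    have hB'c : IsCompact B' := QuasiCompact.isCompact_preimage (f := D.map b) _ B.2 hB
    have eA' : c.π.app k ⁻¹' A' = (O : Set c.pt) := by
      rw [hA', Groth.Agent.Lib.Helper24.Lim8.preimage_π_map, eA]
    have eB' : c.π.app k ⁻¹' B' = (T : Set c.pt) := by
      rw [hB', Groth.Agent.Lib.Helper24.Lim8.preimage_π_map, eB]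
    have hP : Groth.Agent.Lib.Helper24.Lim8.IsGood (A' \ B') := by
      rw [Set.sdiff_eq]
      exact .base _ _ hA'o hA'c hB'o.isClosed_compl
    have h1 : Groth.Agent.Lib.Helper24.Lim8.IsGood ((A' \ B') \ E) := hP.sdiff_isConstructible hEc
    have h2 : Groth.Agent.Lib.Helper24.Lim8.IsGood (E \ (A' \ B')) := by
      have : E \ (A' \ B') = (E ∩ A'ᶜ) ∪ (B' ∩ E) := by
        ext x
        simp only [Set.mem_sdiff, Set.mem_union, Set.mem_inter_iff, Set.mem_compl_iff]
        tauto
      rw [this]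
      exact .union _ _
        ((Groth.Agent.Lib.Helper24.Lim8.IsGood.of_isConstructible hEc).inter_isClosed
          hA'o.isClosed_compl)
        ((Groth.Agent.Lib.Helper24.Lim8.IsGood.of_isCompact_isOpen hB'c hB'o).inter_isConstructible
          hEc)
    obtain ⟨l, ψ, hl⟩ := Groth.Agent.Lib.Helper24.Lim8.exists_preimage_eq_of_isGood_sdiff D c hc
      (A' \ B') E h1 h2 (by
        rw [Set.preimage_sdiff, eA', eB', hE, Groth.Agent.Lib.Helper24.Lim8.preimage_π_map, eW])
    refine ⟨l, ψ ≫ a ≫ φ₁, ?_⟩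
    rw [Groth.Agent.Lib.Helper24.Lim8.preimage_map_comp, ← hE, ← hl, Set.preimage_sdiff]
    exact ⟨_, _, hA'o.preimage (D.map ψ).continuous,
      (hB'o.preimage (D.map ψ).continuous).isClosed_compl, Set.sdiff_eq _ _⟩
  · rintro ⟨j, φ, hj⟩
    rw [← Groth.Agent.Lib.Helper24.Lim8.preimage_π_map D c φ]
    exact hj.preimage (c.π.app j).continuous

end Groth.Agent.S4762
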