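import Groth.Statements.S4767
import Groth.Agent.Lib.Helper24.Lim8
-- import your own Groth.Agent.* helpers here

set_option autoImplicit false
universe u
open CategoryTheory AlgebraicGeometry
open Lim8

namespace Groth.Agent.S4767

/-- Let S = lim S_i be a cofiltered limit of schemes with affine transition maps, some stage S_{i₀}
being quasi-compact and quasi-separated, and assume that the underlying topological space of S is
Noetherian. If S is not irreducible, then there is an index i over i₀ such that S_j is not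
irreducible for every index j over i. -/
theorem result {I : Type u} [SmallCategory I] [IsCofiltered I]
    (D : I ⥤ Scheme.{u}) (c : Limits.Cone D) (hc : Limits.IsLimit c)
    [∀ (i j : I) (f : i ⟶ j), IsAffineHom (D.map f)] (i₀ : I)
    [CompactSpace (D.obj i₀)] [QuasiSeparatedSpace (D.obj i₀)]
    [TopologicalSpace.NoetherianSpace c.pt] (h : ¬ IrreducibleSpace c.pt) :
    ∃ (i : I) (_ : i ⟶ i₀), ∀ (j : I) (_ : j ⟶ i), ¬ IrreducibleSpace (D.obj j) := by
  open Groth.Agent.Lib.Helper24.Lim8 in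
  have hcpt : CompactSpace c.pt := compactSpace_pt D c hc i₀
  by_cases hne : Nonempty c.pt
  · -- two disjoint nonempty opens
    have h' : ¬ PreirreducibleSpace c.pt := fun h' ↦ h { toPreirreducibleSpace := h', toNonempty := hne }
    have h'' : ¬ IsPreirreducible (Set.univ : Set c.pt) := fun h'' ↦ h' ⟨h''⟩
    simp only [IsPreirreducible, Set.univ_inter] at h''
    push Not at h''
    obtain ⟨u, v, hu, hv, hune, hvne, huv⟩ := h''
    obtain ⟨k₁, φ₁, A, hA, eA⟩ := Groth.Agent.Lib.Helper24.Lim8.exists_preimage_eq_over D c hc i₀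
      ⟨u, hu⟩ (TopologicalSpace.NoetherianSpace.isCompact _)
    obtain ⟨k₂, φ₂, B, hB, eB⟩ := Groth.Agent.Lib.Helper24.Lim8.exists_preimage_eq_over D c hc i₀
      ⟨v, hv⟩ (TopologicalSpace.NoetherianSpace.isCompact _)
    replace eA : c.π.app k₁ ⁻¹' (A : Set (D.obj k₁)) = u :=
      congrArg (fun W : c.pt.Opens ↦ (W : Set c.pt)) eA
    replace eB : c.π.app k₂ ⁻¹' (B : Set (D.obj k₂)) = v :=
      congrArg (fun W : c.pt.Opens ↦ (W : Set c.pt)) eB
    obtain ⟨k, a, b, -⟩ := IsCofilteredOrEmpty.cone_objs k₁ k₂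
    have : CompactSpace (D.obj k) := Groth.Agent.Lib.Helper24.Lim8.compactSpace_of_hom D (a ≫ φ₁)
    have : QuasiSeparatedSpace (D.obj k₁) :=
      Groth.Agent.Lib.Helper24.Lim8.quasiSeparatedSpace_of_hom D φ₁
    have : QuasiSeparatedSpace (D.obj k₂) :=
      Groth.Agent.Lib.Helper24.Lim8.quasiSeparatedSpace_of_hom D φ₂
    set A' : Set (D.obj k) := D.map a ⁻¹' A with hA'
    set B' : Set (D.obj k) := D.map b ⁻¹' B with hB'
    have hA'c : Topology.IsConstructible A' :=
      (D.map a).isConstructible_preimage (hA.isConstructible A.2)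
    have hB'c : Topology.IsConstructible B' :=
      (D.map b).isConstructible_preimage (hB.isConstructible B.2)
    have eA' : c.π.app k ⁻¹' A' = u := by
      rw [hA', Groth.Agent.Lib.Helper24.Lim8.preimage_π_map, eA]
    have eB' : c.π.app k ⁻¹' B' = v := by
      rw [hB', Groth.Agent.Lib.Helper24.Lim8.preimage_π_map, eB]
    obtain ⟨l, ψ, h₁⟩ := Groth.Agent.Lib.Helper24.Lim8.exists_preimage_eq_of_isConstructible D c hc
      (A' ∩ B') ∅ (hA'c.inter hB'c) .empty (by
        rw [Set.preimage_inter, eA', eB', Set.preimage_empty]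
        exact huv)
    refine ⟨l, ψ ≫ a ≫ φ₁, fun j θ hj ↦ ?_⟩
    have h₁' : D.map (θ ≫ ψ) ⁻¹' (A' ∩ B') = ∅ := by
      rw [Groth.Agent.Lib.Helper24.Lim8.preimage_map_comp, h₁]; simp
    rw [Set.preimage_inter] at h₁'
    have hAjo : IsOpen (D.map (θ ≫ ψ) ⁻¹' A') := (A.2.preimage (D.map a).continuous).preimage
      (D.map (θ ≫ ψ)).continuous
    have hBjo : IsOpen (D.map (θ ≫ ψ) ⁻¹' B') := (B.2.preimage (D.map b).continuous).preimage
      (D.map (θ ≫ ψ)).continuous
    have hAne : (D.map (θ ≫ ψ) ⁻¹' A').Nonempty := by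
      obtain ⟨x, hx⟩ := hune
      rw [← eA', ← Groth.Agent.Lib.Helper24.Lim8.preimage_π_map D c (θ ≫ ψ)] at hx
      exact ⟨_, hx⟩
    have hBne : (D.map (θ ≫ ψ) ⁻¹' B').Nonempty := by
      obtain ⟨x, hx⟩ := hvne
      rw [← eB', ← Groth.Agent.Lib.Helper24.Lim8.preimage_π_map D c (θ ≫ ψ)] at hx
      exact ⟨_, hx⟩
    have := nonempty_preirreducible_inter hAjo hBjo hAne hBne
    rw [h₁'] at this
    exact Set.not_nonempty_empty this
  · -- empty limit: some stage is empty
    rw [not_nonempty_iff] at hne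
    obtain ⟨j, φ, hj⟩ := Groth.Agent.Lib.Helper24.Lim8.exists_preimage_eq_empty_of_isGood D c hc
      (Set.univ : Set (D.obj i₀)) (.of_isCompact_isOpen isCompact_univ isOpen_univ)
      (Set.eq_empty_of_forall_notMem fun x _ ↦ hne.false x)
    refine ⟨j, φ, fun j' θ hj' ↦ ?_⟩
    obtain ⟨x⟩ := hj'.toNonempty
    have : D.map θ x ∈ D.map φ ⁻¹' (Set.univ : Set (D.obj i₀)) := Set.mem_univ _
    rw [hj] at this
    exact this

end Groth.Agent.S4767
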