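import Groth.Statements.S4768
import Groth.Agent.Lib.Helper24.Lim8
-- import your own Groth.Agent.* helpers here

set_option autoImplicit false
universe u
open CategoryTheory AlgebraicGeometry
open Lim8

namespace Groth.Agent.S4768

/-- Let S = lim S_i be a cofiltered limit of schemes with affine transition maps, some stage S_{i₀}
being quasi-compact and quasi-separated. If S is not preconnected (that is, S is the disjoint union
of two nonempty open subsets), then there is an index i over i₀ such that S_j is not preconnected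
for every index j over i. (The published statement assumes the stage only quasi-compact, which is
not enough: over the affine space in infinitely many variables with a doubled origin, the closed
subschemes cut out by the first n coordinates form a system with affine transition maps in which
every stage is connected while the limit consists of two disjoint points. The published proof
descends the two pieces of S to quasi-compact open subsets of a stage and needs their intersection
to become empty at a later stage, which uses that quasi-compact open subsets of the stage are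
constructible; so the stage is taken quasi-separated here, as in part (i).) -/
theorem result {I : Type u} [SmallCategory I] [IsCofiltered I]
    (D : I ⥤ Scheme.{u}) (c : Limits.Cone D) (hc : Limits.IsLimit c)
    [∀ (i j : I) (f : i ⟶ j), IsAffineHom (D.map f)] (i₀ : I)
    [CompactSpace (D.obj i₀)] [QuasiSeparatedSpace (D.obj i₀)] (h : ¬ PreconnectedSpace c.pt) :
    ∃ (i : I) (_ : i ⟶ i₀), ∀ (j : I) (_ : j ⟶ i), ¬ PreconnectedSpace (D.obj j) := by
  open Groth.Agent.Lib.Helper24.Lim8 in
  have hcpt : CompactSpace c.pt := compactSpace_pt D c hc i₀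
  rw [preconnectedSpace_iff_clopen] at h
  push Not at h
  obtain ⟨s, hs, hs0, hs1⟩ := h
  obtain ⟨k₁, φ₁, A, hA, eA⟩ := Groth.Agent.Lib.Helper24.Lim8.exists_preimage_eq_over D c hc i₀
    ⟨s, hs.isOpen⟩ hs.isClosed.isCompact
  obtain ⟨k₂, φ₂, B, hB, eB⟩ := Groth.Agent.Lib.Helper24.Lim8.exists_preimage_eq_over D c hc i₀
    ⟨sᶜ, hs.compl.isOpen⟩ hs.compl.isClosed.isCompact
  replace eA : c.π.app k₁ ⁻¹' (A : Set (D.obj k₁)) = s :=
    congrArg (fun W : c.pt.Opens ↦ (W : Set c.pt)) eA
  replace eB : c.π.app k₂ ⁻¹' (B : Set (D.obj k₂)) = sᶜ :=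
    congrArg (fun W : c.pt.Opens ↦ (W : Set c.pt)) eB
  obtain ⟨k, a, b, -⟩ := IsCofilteredOrEmpty.cone_objs k₁ k₂
  have : CompactSpace (D.obj k) := Groth.Agent.Lib.Helper24.Lim8.compactSpace_of_hom D (a ≫ φ₁)
  have : QuasiSeparatedSpace (D.obj k) :=
    Groth.Agent.Lib.Helper24.Lim8.quasiSeparatedSpace_of_hom D (a ≫ φ₁)
  have : CompactSpace (D.obj k₁) := Groth.Agent.Lib.Helper24.Lim8.compactSpace_of_hom D φ₁
  have : QuasiSeparatedSpace (D.obj k₁) :=
    Groth.Agent.Lib.Helper24.Lim8.quasiSeparatedSpace_of_hom D φ₁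
  have : CompactSpace (D.obj k₂) := Groth.Agent.Lib.Helper24.Lim8.compactSpace_of_hom D φ₂
  have : QuasiSeparatedSpace (D.obj k₂) :=
    Groth.Agent.Lib.Helper24.Lim8.quasiSeparatedSpace_of_hom D φ₂
  set A' : Set (D.obj k) := D.map a ⁻¹' A with hA'
  set B' : Set (D.obj k) := D.map b ⁻¹' B with hB'
  have hA'c : Topology.IsConstructible A' :=
    (D.map a).isConstructible_preimage (hA.isConstructible A.2)
  have hB'c : Topology.IsConstructible B' :=
    (D.map b).isConstructible_preimage (hB.isConstructible B.2)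
  have eA' : c.π.app k ⁻¹' A' = s := by
    rw [hA', Groth.Agent.Lib.Helper24.Lim8.preimage_π_map, eA]
  have eB' : c.π.app k ⁻¹' B' = sᶜ := by
    rw [hB', Groth.Agent.Lib.Helper24.Lim8.preimage_π_map, eB]
  obtain ⟨l₁, ψ₁, h₁⟩ := Groth.Agent.Lib.Helper24.Lim8.exists_preimage_eq_of_isConstructible D c hc
    (A' ∩ B') ∅ (hA'c.inter hB'c) .empty (by rw [Set.preimage_inter, eA', eB']; simp)
  obtain ⟨l₂, ψ₂, h₂⟩ := Groth.Agent.Lib.Helper24.Lim8.exists_preimage_eq_of_isConstructible D c hc
    (A' ∪ B') Set.univ (hA'c.union hB'c) .univ (by rw [Set.preimage_union, eA', eB']; simp)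
  obtain ⟨l, u, v, e⟩ := IsCofiltered.cospan ψ₁ ψ₂
  refine ⟨l, u ≫ ψ₁ ≫ a ≫ φ₁, fun j θ hj ↦ ?_⟩
  rw [preconnectedSpace_iff_clopen] at hj
  have h₁' : D.map (θ ≫ u ≫ ψ₁) ⁻¹' (A' ∩ B') = ∅ := by
    rw [← Category.assoc, Groth.Agent.Lib.Helper24.Lim8.preimage_map_comp, h₁]; simp
  have h₂' : D.map (θ ≫ u ≫ ψ₁) ⁻¹' (A' ∪ B') = Set.univ := by
    rw [e, ← Category.assoc, Groth.Agent.Lib.Helper24.Lim8.preimage_map_comp, h₂]; simp
  set Aj : Set (D.obj j) := D.map (θ ≫ u ≫ ψ₁) ⁻¹' A' with hAj
  set Bj : Set (D.obj j) := D.map (θ ≫ u ≫ ψ₁) ⁻¹' B' with hBj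
  rw [Set.preimage_inter] at h₁'
  rw [Set.preimage_union] at h₂'
  have hAjo : IsOpen Aj := (A.2.preimage (D.map a).continuous).preimage
    (D.map (θ ≫ u ≫ ψ₁)).continuous
  have hBjo : IsOpen Bj := (B.2.preimage (D.map b).continuous).preimage
    (D.map (θ ≫ u ≫ ψ₁)).continuous
  have hAB : Aj = Bjᶜ := by
    ext x
    have h3 : x ∉ Aj ∩ Bj := by rw [h₁']; exact Set.notMem_empty x
    have h4 : x ∈ Aj ∪ Bj := by rw [h₂']; exact Set.mem_univ x
    simp only [Set.mem_inter_iff, not_and, Set.mem_union, Set.mem_compl_iff] at h3 h4 ⊢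
    tauto
  have hAjc : IsClopen Aj := ⟨by rw [hAB]; exact hBjo.isClosed_compl, hAjo⟩
  have eAj : c.π.app j ⁻¹' Aj = s := by
    rw [hAj, Groth.Agent.Lib.Helper24.Lim8.preimage_π_map, eA']
  rcases hj Aj hAjc with h0 | h1
  · exact hs0.ne_empty (by rw [← eAj, h0, Set.preimage_empty])
  · exact hs1 (by rw [← eAj, h1, Set.preimage_univ])

end Groth.Agent.S4768
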