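import Groth.Statements.S4769
import Groth.Agent.Lib.Helper24.Lim8
import Groth.Agent.Lib.Helper24.CompTop
-- import your own Groth.Agent.* helpers here

set_option autoImplicit false
universe u
open CategoryTheory AlgebraicGeometry
open Lim8

namespace Groth.Agent.S4769

/-- Let S = lim S_i be a cofiltered limit of schemes whose transition maps are affine and dominant, some
stage S_{i₀} being quasi-compact, and assume that the underlying topological space of S is
Noetherian. Then there is an index i over i₀ such that, for every j over i, the map sending an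
irreducible component Y of S to the closure of its image under S ⟶ S_j is a bijection from the set
of irreducible components of S onto the set of irreducible components of S_j. -/
theorem result {I : Type u} [SmallCategory I] [IsCofiltered I]
    (D : I ⥤ Scheme.{u}) (c : Limits.Cone D) (hc : Limits.IsLimit c)
    [∀ (i j : I) (f : i ⟶ j), IsAffineHom (D.map f)] (i₀ : I)
    [CompactSpace (D.obj i₀)] [TopologicalSpace.NoetherianSpace c.pt]
    (hd : ∀ (i j : I) (φ : i ⟶ j), IsDominant (D.map φ)) :
    ∃ (i : I) (_ : i ⟶ i₀), ∀ (j : I) (_ : j ⟶ i),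
      Set.BijOn (fun Y : Set c.pt => closure (⇑(c.π.app j) '' (Y : Set c.pt) : Set (D.obj j)))
        (irreducibleComponents c.pt) (irreducibleComponents (D.obj j)) := by
  open Groth.Agent.Lib.Helper24.Lim8 Groth.Agent.Lib.Helper24.CompTop in
  have hfin : (irreducibleComponents c.pt).Finite :=
    TopologicalSpace.NoetherianSpace.finite_irreducibleComponents
  have hfin' : Finite ↥(irreducibleComponents c.pt) := hfin.to_subtype
  have hopen : ∀ Z : ↥(irreducibleComponents c.pt),
      IsOpen (⋃₀ (irreducibleComponents c.pt \ {Z.1}))ᶜ := by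
    intro Z
    rw [Set.sUnion_eq_biUnion, isOpen_compl_iff]
    exact hfin.sdiff.isClosed_biUnion fun W hW ↦ isClosed_of_mem_irreducibleComponents W hW.1
  obtain ⟨k, φ, V, hV, e⟩ := Groth.Agent.Lib.Helper24.Lim8.exists_common_stage_preimage_eq D c hc i₀
    (fun Z : ↥(irreducibleComponents c.pt) ↦
      (⟨(⋃₀ (irreducibleComponents c.pt \ {Z.1}))ᶜ, hopen Z⟩ : c.pt.Opens))
    (fun r ↦ TopologicalSpace.NoetherianSpace.isCompact _)
  replace e : ∀ Z : ↥(irreducibleComponents c.pt),
      c.π.app k ⁻¹' (V Z : Set (D.obj k)) = (⋃₀ (irreducibleComponents c.pt \ {Z.1}))ᶜ := fun r ↦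
    congrArg (fun W : c.pt.Opens ↦ (W : Set c.pt)) (e r)
  have hdom : ∀ j, IsDominant (c.π.app j) := fun j ↦
    Groth.Agent.Lib.Helper24.Lim8.isDominant_π_app D c hc j fun j' φ ↦ hd _ _ φ
  refine ⟨k, φ, fun j θ ↦ ?_⟩
  refine bijOn_irreducibleComponents (S := c.pt) (c.π.app j) (c.π.app j).continuous (hdom j).denseRange hfin
    (fun Z ↦ D.map θ ⁻¹' (V Z : Set (D.obj k)))
    (fun Z ↦ (V Z).2.preimage (D.map θ).continuous) (fun Z ↦ ?_)
  rw [Groth.Agent.Lib.Helper24.Lim8.preimage_π_map, e]

end Groth.Agent.S4769
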