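import Groth.Statements.S4770
import Groth.Agent.Lib.Helper24.Lim8
import Groth.Agent.Lib.Helper24.CompTop
-- import your own Groth.Agent.* helpers here

set_option autoImplicit false
universe u
open CategoryTheory AlgebraicGeometry
open Lim8

namespace Groth.Agent.S4770

/-- Let S = lim S_i be a cofiltered limit of schemes whose transition maps are affine and dominant, some
stage S_{i₀} being quasi-compact, and assume that the underlying topological space of S is
Noetherian. Then there is an index i over i₀ such that, for every j over i, the map sending a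
connected component C of S to the closure of its image under S ⟶ S_j is a bijection from the set of
connected components of S onto the set of connected components of S_j. -/
theorem result {I : Type u} [SmallCategory I] [IsCofiltered I]
    (D : I ⥤ Scheme.{u}) (c : Limits.Cone D) (hc : Limits.IsLimit c)
    [∀ (i j : I) (f : i ⟶ j), IsAffineHom (D.map f)] (i₀ : I)
    [CompactSpace (D.obj i₀)] [TopologicalSpace.NoetherianSpace c.pt]
    (hd : ∀ (i j : I) (φ : i ⟶ j), IsDominant (D.map φ)) :
    ∃ (i : I) (_ : i ⟶ i₀), ∀ (j : I) (_ : j ⟶ i),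
      Set.BijOn (fun C : Set c.pt => closure (⇑(c.π.app j) '' (C : Set c.pt) : Set (D.obj j)))
        (Set.range (connectedComponent : c.pt → Set c.pt))
        (Set.range (connectedComponent : D.obj j → Set (D.obj j))) := by
  open Groth.Agent.Lib.Helper24.Lim8 Groth.Agent.Lib.Helper24.CompTop in
  have hfin : Finite ↥(Set.range (connectedComponent : c.pt → Set c.pt)) :=
    (finite_range_connectedComponent (S := c.pt)).to_subtype
  have hopen : ∀ r : ↥(Set.range (connectedComponent : c.pt → Set c.pt)), IsOpen r.1 := by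
    rintro ⟨_, s, rfl⟩
    exact isOpen_connectedComponent_of_noetherianSpace s
  obtain ⟨k, φ, V, hV, e⟩ := Groth.Agent.Lib.Helper24.Lim8.exists_common_stage_preimage_eq D c hc i₀
    (fun r : ↥(Set.range (connectedComponent : c.pt → Set c.pt)) ↦ (⟨r.1, hopen r⟩ : c.pt.Opens))
    (fun r ↦ TopologicalSpace.NoetherianSpace.isCompact _)
  replace e : ∀ r : ↥(Set.range (connectedComponent : c.pt → Set c.pt)),
      c.π.app k ⁻¹' (V r : Set (D.obj k)) = r.1 := fun r ↦
    congrArg (fun W : c.pt.Opens ↦ (W : Set c.pt)) (e r)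
  have : CompactSpace (D.obj k) := Groth.Agent.Lib.Helper24.Lim8.compactSpace_of_hom D φ
  have hdom : ∀ j, IsDominant (c.π.app j) := fun j ↦
    Groth.Agent.Lib.Helper24.Lim8.isDominant_π_app D c hc j fun j' φ ↦ hd _ _ φ
  have hZ : IsClosed (⋃ r, (V r : Set (D.obj k)))ᶜ :=
    (isOpen_iUnion fun r ↦ (V r).2).isClosed_compl
  obtain ⟨l, ψ, hl⟩ := Groth.Agent.Lib.Helper24.Lim8.exists_preimage_eq_empty_of_isGood D c hc
    ((Set.univ : Set (D.obj k)) ∩ (⋃ r, (V r : Set (D.obj k)))ᶜ)
    (.base _ _ isOpen_univ isCompact_univ hZ) (by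
      rw [Set.univ_inter, Set.preimage_compl, Set.compl_empty_iff, Set.preimage_iUnion]
      ext s
      simp only [Set.mem_iUnion, Set.mem_univ, iff_true]
      exact ⟨⟨connectedComponent s, s, rfl⟩, by rw [e]; exact mem_connectedComponent⟩)
  rw [Set.univ_inter, Set.preimage_compl, Set.compl_empty_iff, Set.preimage_iUnion] at hl
  refine ⟨l, ψ ≫ φ, fun j θ ↦ ?_⟩
  refine bijOn_connectedComponents (c.π.app j) (c.π.app j).continuous (hdom j).denseRange
    (fun r ↦ D.map (θ ≫ ψ) ⁻¹' (V r : Set (D.obj k))) (fun r ↦ r.1)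
    (fun r ↦ (V r).2.preimage (D.map (θ ≫ ψ)).continuous) ?_ (fun r ↦ ?_)
    Subtype.val_injective Subtype.range_val
  · ext x
    simp only [Set.mem_iUnion, Set.mem_univ, iff_true]
    have hx : D.map θ x ∈ ⋃ r, D.map ψ ⁻¹' (V r : Set (D.obj k)) := by
      rw [hl]; exact Set.mem_univ _
    obtain ⟨r, hr⟩ := Set.mem_iUnion.mp hx
    refine ⟨r, ?_⟩
    rw [Groth.Agent.Lib.Helper24.Lim8.preimage_map_comp]
    exact hr
  · rw [Groth.Agent.Lib.Helper24.Lim8.preimage_π_map, e]

end Groth.Agent.S4770
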