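import Groth.Statements.S4771
import Groth.Agent.Lib.Helper24.Lim8
-- import your own Groth.Agent.* helpers here

set_option autoImplicit false
universe u
open CategoryTheory AlgebraicGeometry
open Lim8

namespace Groth.Agent.S4771

/-- Let S = lim S_i be a cofiltered limit of schemes whose transition maps are affine and dominant, some
stage S_{i₀} being quasi-compact, and assume that the underlying topological space of S is
Noetherian. Then S is irreducible if and only if there is an index i over i₀ such that S_j is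
irreducible for every j over i. -/
theorem result {I : Type u} [SmallCategory I] [IsCofiltered I]
    (D : I ⥤ Scheme.{u}) (c : Limits.Cone D) (hc : Limits.IsLimit c)
    [∀ (i j : I) (f : i ⟶ j), IsAffineHom (D.map f)] (i₀ : I)
    [CompactSpace (D.obj i₀)] [TopologicalSpace.NoetherianSpace c.pt]
    (hd : ∀ (i j : I) (φ : i ⟶ j), IsDominant (D.map φ)) :
    IrreducibleSpace c.pt ↔ ∃ (i : I) (_ : i ⟶ i₀), ∀ (j : I) (_ : j ⟶ i), IrreducibleSpace (D.obj j) := by
  open Groth.Agent.Lib.Helper24.Lim8 in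
  have hcpt : CompactSpace c.pt := compactSpace_pt D c hc i₀
  have hdom : ∀ j, IsDominant (c.π.app j) := fun j ↦
    Groth.Agent.Lib.Helper24.Lim8.isDominant_π_app D c hc j fun j' φ ↦ hd _ _ φ
  constructor
  · intro h
    exact ⟨i₀, 𝟙 _, fun j _ ↦ Groth.Agent.Lib.Helper24.Lim8.irreducibleSpace_of_denseRange
      (α := c.pt) (hdom j).denseRange (c.π.app j).continuous⟩
  · rintro ⟨i, φ, hi⟩
    have : CompactSpace (D.obj i) := Groth.Agent.Lib.Helper24.Lim8.compactSpace_of_hom D φ
    have hne : Nonempty c.pt := by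
      by_contra hne
      rw [not_nonempty_iff] at hne
      obtain ⟨j, θ, hj⟩ := Groth.Agent.Lib.Helper24.Lim8.exists_isEmpty_of_isEmpty D c hc i
      have := (hi j θ).toNonempty
      exact hj.false this.some
    refine { toNonempty := hne, isPreirreducible_univ := ?_ }
    intro u v hu hv hune hvne
    rw [Set.univ_inter] at hune hvne ⊢
    obtain ⟨k₁, φ₁, A, hA, eA⟩ := Groth.Agent.Lib.Helper24.Lim8.exists_preimage_eq_over D c hc i
      ⟨u, hu⟩ (TopologicalSpace.NoetherianSpace.isCompact _)
    obtain ⟨k₂, φ₂, B, hB, eB⟩ := Groth.Agent.Lib.Helper24.Lim8.exists_preimage_eq_over D c hc i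
      ⟨v, hv⟩ (TopologicalSpace.NoetherianSpace.isCompact _)
    replace eA : c.π.app k₁ ⁻¹' (A : Set (D.obj k₁)) = u :=
      congrArg (fun W : c.pt.Opens ↦ (W : Set c.pt)) eA
    replace eB : c.π.app k₂ ⁻¹' (B : Set (D.obj k₂)) = v :=
      congrArg (fun W : c.pt.Opens ↦ (W : Set c.pt)) eB
    obtain ⟨k, a, b, -⟩ := IsCofilteredOrEmpty.cone_objs k₁ k₂
    set A' : Set (D.obj k) := D.map a ⁻¹' A with hA'
    set B' : Set (D.obj k) := D.map b ⁻¹' B with hB'
    have eA' : c.π.app k ⁻¹' A' = u := by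
      rw [hA', Groth.Agent.Lib.Helper24.Lim8.preimage_π_map, eA]
    have eB' : c.π.app k ⁻¹' B' = v := by
      rw [hB', Groth.Agent.Lib.Helper24.Lim8.preimage_π_map, eB]
    have hA'o : IsOpen A' := A.2.preimage (D.map a).continuous
    have hB'o : IsOpen B' := B.2.preimage (D.map b).continuous
    have hA'ne : A'.Nonempty := by
      obtain ⟨x, hx⟩ := hune
      rw [← eA'] at hx
      exact ⟨_, hx⟩
    have hB'ne : B'.Nonempty := by
      obtain ⟨x, hx⟩ := hvne
      rw [← eB'] at hx
      exact ⟨_, hx⟩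
    have := hi k (a ≫ φ₁)
    have hAB := nonempty_preirreducible_inter hA'o hB'o hA'ne hB'ne
    obtain ⟨_, hy, ⟨y, rfl⟩⟩ := (hdom k).denseRange.inter_open_nonempty _ (hA'o.inter hB'o) hAB
    refine ⟨y, ?_, ?_⟩
    · rw [← eA']; exact hy.1
    · rw [← eB']; exact hy.2

end Groth.Agent.S4771
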