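import Groth.Statements.S4772
import Groth.Agent.Lib.Helper24.Lim8
-- import your own Groth.Agent.* helpers here

set_option autoImplicit false
universe u
open CategoryTheory AlgebraicGeometry
open Lim8

namespace Groth.Agent.S4772

/-- Let S = lim S_i be a cofiltered limit of schemes whose transition maps are affine and dominant, some
stage S_{i₀} being quasi-compact. Then S is connected (in particular nonempty) if and only if there
is an index i over i₀ such that S_j is connected for every j over i. -/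
theorem result {I : Type u} [SmallCategory I] [IsCofiltered I]
    (D : I ⥤ Scheme.{u}) (c : Limits.Cone D) (hc : Limits.IsLimit c)
    [∀ (i j : I) (f : i ⟶ j), IsAffineHom (D.map f)] (i₀ : I)
    [CompactSpace (D.obj i₀)] (hd : ∀ (i j : I) (φ : i ⟶ j), IsDominant (D.map φ)) :
    ConnectedSpace c.pt ↔ ∃ (i : I) (_ : i ⟶ i₀), ∀ (j : I) (_ : j ⟶ i), ConnectedSpace (D.obj j) := by
  open Groth.Agent.Lib.Helper24.Lim8 in
  have hcpt : CompactSpace c.pt := compactSpace_pt D c hc i₀
  have hdom : ∀ j, IsDominant (c.π.app j) := fun j ↦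
    Groth.Agent.Lib.Helper24.Lim8.isDominant_π_app D c hc j fun j' φ ↦ hd _ _ φ
  constructor
  · intro h
    refine ⟨i₀, 𝟙 _, fun j _ ↦ ?_⟩
    have : PreconnectedSpace (D.obj j) :=
      DenseRange.preconnectedSpace (α := c.pt) (hdom j).denseRange (c.π.app j).continuous
    exact { toNonempty := ⟨c.π.app j (Nonempty.some h.toNonempty)⟩ }
  · rintro ⟨i, φ, hi⟩
    have : CompactSpace (D.obj i) := Groth.Agent.Lib.Helper24.Lim8.compactSpace_of_hom D φ
    have hne : Nonempty c.pt := by
      by_contra hne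
      rw [not_nonempty_iff] at hne
      obtain ⟨j, θ, hj⟩ := Groth.Agent.Lib.Helper24.Lim8.exists_isEmpty_of_isEmpty D c hc i
      have := (hi j θ).toNonempty
      exact hj.false this.some
    refine { toNonempty := hne, toPreconnectedSpace := ?_ }
    rw [preconnectedSpace_iff_clopen]
    intro s hs
    by_contra! hcon
    obtain ⟨hs0, hs1⟩ := hcon
    obtain ⟨k₁, φ₁, A, hA, eA⟩ := Groth.Agent.Lib.Helper24.Lim8.exists_preimage_eq_over D c hc i
      ⟨s, hs.isOpen⟩ hs.isClosed.isCompact
    obtain ⟨k₂, φ₂, B, hB, eB⟩ := Groth.Agent.Lib.Helper24.Lim8.exists_preimage_eq_over D c hc i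
      ⟨sᶜ, hs.compl.isOpen⟩ hs.compl.isClosed.isCompact
    replace eA : c.π.app k₁ ⁻¹' (A : Set (D.obj k₁)) = s :=
      congrArg (fun W : c.pt.Opens ↦ (W : Set c.pt)) eA
    replace eB : c.π.app k₂ ⁻¹' (B : Set (D.obj k₂)) = sᶜ :=
      congrArg (fun W : c.pt.Opens ↦ (W : Set c.pt)) eB
    obtain ⟨k, a, b, -⟩ := IsCofilteredOrEmpty.cone_objs k₁ k₂
    have : CompactSpace (D.obj k) := Groth.Agent.Lib.Helper24.Lim8.compactSpace_of_hom D (a ≫ φ₁)
    set A' : Set (D.obj k) := D.map a ⁻¹' A with hA'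
    set B' : Set (D.obj k) := D.map b ⁻¹' B with hB'
    have eA' : c.π.app k ⁻¹' A' = s := by
      rw [hA', Groth.Agent.Lib.Helper24.Lim8.preimage_π_map, eA]
    have eB' : c.π.app k ⁻¹' B' = sᶜ := by
      rw [hB', Groth.Agent.Lib.Helper24.Lim8.preimage_π_map, eB]
    have hA'o : IsOpen A' := A.2.preimage (D.map a).continuous
    have hB'o : IsOpen B' := B.2.preimage (D.map b).continuous
    -- the closed complement of A' ∪ B' has empty preimage in the limit
    obtain ⟨l, ψ, hl⟩ := Groth.Agent.Lib.Helper24.Lim8.exists_preimage_eq_empty_of_isGood D c hc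
      ((Set.univ : Set (D.obj k)) ∩ (A' ∪ B')ᶜ)
      (.base _ _ isOpen_univ isCompact_univ (hA'o.union hB'o).isClosed_compl) (by
        rw [Set.univ_inter, Set.preimage_compl, Set.preimage_union, eA', eB']; simp)
    rw [Set.univ_inter, Set.preimage_compl, Set.compl_empty_iff, Set.preimage_union] at hl
    set Al : Set (D.obj l) := D.map ψ ⁻¹' A' with hAl
    set Bl : Set (D.obj l) := D.map ψ ⁻¹' B' with hBl
    have hAlo : IsOpen Al := hA'o.preimage (D.map ψ).continuous
    have hBlo : IsOpen Bl := hB'o.preimage (D.map ψ).continuous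
    have eAl : c.π.app l ⁻¹' Al = s := by
      rw [hAl, Groth.Agent.Lib.Helper24.Lim8.preimage_π_map, eA']
    have eBl : c.π.app l ⁻¹' Bl = sᶜ := by
      rw [hBl, Groth.Agent.Lib.Helper24.Lim8.preimage_π_map, eB']
    have hdisj : Al ∩ Bl = ∅ := by
      by_contra hne'
      obtain ⟨_, hy, ⟨y, rfl⟩⟩ := (hdom l).denseRange.inter_open_nonempty _ (hAlo.inter hBlo)
        (Set.nonempty_iff_ne_empty.mpr hne')
      have h1 : y ∈ s := by rw [← eAl]; exact hy.1
      have h2 : y ∈ sᶜ := by rw [← eBl]; exact hy.2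
      exact h2 h1
    have hAB : Al = Blᶜ := by
      ext x
      have h3 : x ∉ Al ∩ Bl := by rw [hdisj]; exact Set.notMem_empty x
      have h4 : x ∈ Al ∪ Bl := by rw [hl]; exact Set.mem_univ x
      simp only [Set.mem_inter_iff, not_and, Set.mem_union, Set.mem_compl_iff] at h3 h4 ⊢
      tauto
    have hAlc : IsClopen Al := ⟨by rw [hAB]; exact hBlo.isClosed_compl, hAlo⟩
    have := hi l (ψ ≫ a ≫ φ₁)
    rcases isClopen_iff.mp hAlc with h0 | h1
    · exact hs0.ne_empty (by rw [← eAl, h0, Set.preimage_empty])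
    · exact hs1 (by rw [← eAl, h1, Set.preimage_univ])

end Groth.Agent.S4772
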