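import Groth.Statements.S4777
import Groth.Agent.Lib.Helper24.DirColim
-- import your own Groth.Agent.* helpers here

set_option autoImplicit false
universe u
open CategoryTheory
open Lim8

namespace Groth.Agent.S4777

/-- Let B be an algebra over a commutative ring A. If, for every inductive system (C_λ) of A-algebras
indexed by a nonempty directed preordered set, the canonical map colim Hom_A(B, C_λ) → Hom_A(B,
colim C_λ) is bijective (that is, Hom_A(B, -) preserves the colimit of the system), then B is an
A-algebra of finite presentation. (This is the necessity half of the characterization of algebras of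
finite presentation by this property; the converse is standard.) -/
theorem result {A B : CommRingCat.{u}} (f : A ⟶ B)
    (h : ∀ (J : Type u) [Preorder J] [IsDirected J (· ≤ ·)] [Nonempty J] (F : J ⥤ Under A),
      Limits.PreservesColimit F (coyoneda.obj (Opposite.op (Under.mk f)))) :
    f.hom.FinitePresentation := by
  apply Groth.Agent.Lib.Helper24.DirColim.finitePresentation_of_factors
  intro J _ _ _ C tc htc a ha ψ hψ
  obtain ⟨j₀⟩ : Nonempty J := inferInstance
  let F : J ⥤ Under A :=
    { obj j := Under.mk (CommRingCat.ofHom (a j))
      map {j k} e := Under.homMk (C.map e) (by
        ext x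
        exact congr($(ha j k e) x))
      map_id j := by
        apply Under.UnderMorphism.ext
        simp
        rfl
      map_comp e e' := by
        apply Under.UnderMorphism.ext
        simp }
  have hpres := h J F
  have hcomp : ∀ j : J, CommRingCat.ofHom (a j) ≫ tc.ι.app j =
      CommRingCat.ofHom (a j₀) ≫ tc.ι.app j₀ := by
    intro j
    ext x
    have h1 := congr($(hψ j) x)
    have h2 := congr($(hψ j₀) x)
    exact h1.symm.trans h2
  let cF : Limits.Cocone F :=
    { pt := Under.mk (CommRingCat.ofHom (a j₀) ≫ tc.ι.app j₀)
      ι :=
        { app j := Under.homMk (tc.ι.app j) (hcomp j)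
          naturality i j e := by
            apply Under.UnderMorphism.ext
            simp only [Functor.const_obj_obj, Functor.const_obj_map, Category.comp_id,
              Under.comp_right, Under.homMk_right]
            exact tc.w e } }
  have hcF : Limits.IsColimit cF := by
    haveI : IsConnected J := IsFiltered.isConnected J
    haveI : CreatesColimit F (Under.forget A) := inferInstance
    refine Limits.isColimitOfReflects (Under.forget A) ?_
    exact htc
  have hcol := Limits.isColimitOfPreserves (coyoneda.obj (Opposite.op (Under.mk f))) hcF
  let x : Under.mk f ⟶ cF.pt := Under.homMk (CommRingCat.ofHom ψ) (by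
    ext y
    exact congr($(hψ j₀) y))
  obtain ⟨j, y, hy⟩ := Limits.Types.jointly_surjective_of_isColimit hcol x
  refine ⟨j, y.right.hom, ?_, ?_⟩
  · have := Under.w y
    ext r
    exact congr($this r)
  · have := congr(($hy).right)
    ext r
    exact congr($this r)

end Groth.Agent.S4777
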