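import Groth.Statements.S4778
import Groth.Agent.Lib.Helper24.Lim8FP
-- import your own Groth.Agent.* helpers here

set_option autoImplicit false
universe u
open CategoryTheory AlgebraicGeometry
open Lim8

namespace Groth.Agent.S4778

/-- Let f : X ⟶ S be a morphism of schemes. Suppose that for every affine open U of S and every
projective system (Z_λ) of U-schemes indexed by a nonempty directed preordered set, with every Z_λ
an affine scheme, the functor Hom_S(-, X) takes the limit of the system to the colimit of the
Hom_S(Z_λ, X) (the canonical map from the colimit is bijective). Then f is locally of finite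
presentation. -/
theorem result {X S : Scheme.{u}} (f : X ⟶ S)
    (h : ∀ (U : S.Opens), IsAffineOpen U →
      ∀ (J : Type u) [Preorder J] [IsDirected J (· ≤ ·)] [Nonempty J] (Z : Jᵒᵖ ⥤ Over (U : Scheme.{u})),
      (∀ j, IsAffine (Z.obj j).left) →
      Limits.PreservesColimit (Z ⋙ Over.map U.ι).op (yoneda.obj (Over.mk f))) :
    LocallyOfFinitePresentation f := by
  apply Groth.Agent.Lib.Helper24.Lim8.locallyOfFinitePresentation_of_factorsOver
  intro U hU J _ _ _ D t c hc hD j₀ g hg
  have hnat : ∀ {i j : Jᵒᵖ} (a : i ⟶ j), D.map a ≫ t.app j = t.app i := by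
    intro i j a
    have := t.naturality a
    simpa only [Functor.const_obj_obj, Functor.const_obj_map, Category.comp_id] using this
  have hst : ∀ i : Jᵒᵖ, c.π.app i ≫ t.app i = c.π.app j₀ ≫ t.app j₀ := by
    intro i
    rw [← c.w (IsCofiltered.minToLeft i j₀), Category.assoc, hnat,
      ← c.w (IsCofiltered.minToRight i j₀), Category.assoc, hnat]
  let Z : Jᵒᵖ ⥤ Over (U : Scheme.{u}) :=
    { obj j := Over.mk (t.app j)
      map a := Over.homMk (D.map a) (hnat a)
      map_id j := by ext; simp
      map_comp a b := by ext; simp }
  have hZ : ∀ j, IsAffine (Z.obj j).left := fun j ↦ hD j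
  have hpres := h U hU J Z hZ
  let W : Jᵒᵖ ⥤ Over S := Z ⋙ Over.map U.ι
  let cW : Limits.Cone W :=
    { pt := Over.mk (c.π.app j₀ ≫ t.app j₀ ≫ U.ι)
      π :=
        { app j := Over.homMk (c.π.app j) (by
            change c.π.app j ≫ t.app j ≫ U.ι = c.π.app j₀ ≫ t.app j₀ ≫ U.ι
            rw [← Category.assoc, hst j, Category.assoc])
          naturality i j a := by
            ext
            simp only [Functor.const_obj_obj, Functor.const_obj_map, Category.id_comp,
              Over.comp_left, Over.homMk_left]
            exact (c.w a).symm } }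
  have hcW : Limits.IsLimit cW := by
    haveI : IsConnected Jᵒᵖ := IsCofiltered.isConnected Jᵒᵖ
    haveI : CreatesLimit W (Over.forget S) := inferInstance
    refine Limits.isLimitOfReflects (Over.forget S) ?_
    exact hc
  have hcol := Limits.isColimitOfPreserves (yoneda.obj (Over.mk f)) hcW.op
  let x : cW.pt ⟶ Over.mk f := Over.homMk g hg
  obtain ⟨j, y, hy⟩ := Limits.Types.jointly_surjective_of_isColimit hcol x
  refine ⟨j.unop, y.left, ?_, ?_⟩
  · exact Over.w y
  · exact congr(($hy).left)

end Groth.Agent.S4778
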