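import Groth.Statements.S7553
-- import your own Groth.Agent.* helpers here

set_option autoImplicit false
universe u
open ConstrTop

namespace Groth.Agent.S7553

open TopologicalSpace in
/-- Key property of constructible sets at a generic point. -/
theorem generic_dichotomy {X : Type u} [TopologicalSpace X] (E : Set X)
    (hE : Topology.IsConstructible E) :
    ∀ (Z : Set X) (ξ : X), IsGenericPoint ξ Z →
      (ξ ∈ E → ∃ U : Set X, IsOpen U ∧ ξ ∈ U ∧ U ∩ Z ⊆ E) ∧
      (ξ ∉ E → ∃ U : Set X, IsOpen U ∧ ξ ∈ U ∧ U ∩ Z ⊆ Eᶜ) := by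
  induction hE using Topology.IsConstructible.empty_union_induction with
  | open_retrocompact U hUopen hUcomp =>
    intro Z ξ hξ
    refine ⟨fun h => ⟨U, hUopen, h, Set.inter_subset_left⟩, fun h => ⟨Set.univ, isOpen_univ, trivial, ?_⟩⟩
    rintro z ⟨-, hz⟩ hzU
    have hspec : ξ ⤳ z := by
      rw [specializes_iff_mem_closure, hξ.def]
      exact hz
    exact h (hspec.mem_open hUopen hzU)
  | union s hs t ht ihs iht =>
    intro Z ξ hξ
    constructor
    · rintro (h | h)
      · obtain ⟨U, hU, hξU, hUs⟩ := (ihs Z ξ hξ).1 h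
        exact ⟨U, hU, hξU, hUs.trans Set.subset_union_left⟩
      · obtain ⟨U, hU, hξU, hUt⟩ := (iht Z ξ hξ).1 h
        exact ⟨U, hU, hξU, hUt.trans Set.subset_union_right⟩
    · intro h
      obtain ⟨U, hU, hξU, hUs⟩ := (ihs Z ξ hξ).2 (fun h' => h (Or.inl h'))
      obtain ⟨V, hV, hξV, hVt⟩ := (iht Z ξ hξ).2 (fun h' => h (Or.inr h'))
      refine ⟨U ∩ V, hU.inter hV, ⟨hξU, hξV⟩, ?_⟩
      rintro z ⟨⟨hzU, hzV⟩, hzZ⟩ (hz | hz)
      · exact hUs ⟨hzU, hzZ⟩ hz
      · exact hVt ⟨hzV, hzZ⟩ hz
  | compl s hs ih =>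
    intro Z ξ hξ
    constructor
    · intro h
      exact (ih Z ξ hξ).2 h
    · intro h
      obtain ⟨U, hU, hξU, hUs⟩ := (ih Z ξ hξ).1 (not_not.mp h)
      exact ⟨U, hU, hξU, fun z hz => not_not.mpr (hUs hz)⟩

open TopologicalSpace in
theorem closed_of {X : Type u} [TopologicalSpace X]
    [TopologicalSpace.NoetherianSpace X] [QuasiSober X] (E : Set X)
    (hE : Topology.IsConstructible E) (hs : StableUnderSpecialization E) : IsClosed E := by
  have key : ∀ Z : Closeds X, IsClosed (E ∩ (Z : Set X)) := by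
    intro Z
    refine (wellFounded_lt (α := Closeds X)).induction
      (C := fun Z : Closeds X => IsClosed (E ∩ (Z : Set X))) Z ?_
    intro Z ih
    by_cases hZe : (Z : Set X) = ∅
    · rw [hZe, Set.inter_empty]; exact isClosed_empty
    by_cases hirr : IsPreirreducible (Z : Set X)
    · have hZirr : IsIrreducible (Z : Set X) := ⟨Set.nonempty_iff_ne_empty.mpr hZe, hirr⟩
      obtain ⟨ξ, hξ⟩ := QuasiSober.sober hZirr Z.isClosed
      by_cases hξE : ξ ∈ E
      · have : E ∩ (Z : Set X) = Z := by
          apply Set.inter_eq_right.mpr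
          intro z hz
          have hspec : ξ ⤳ z := by
            rw [specializes_iff_mem_closure, hξ.def]
            exact hz
          exact hs hspec hξE
        rw [this]; exact Z.isClosed
      · obtain ⟨U, hU, hξU, hUE⟩ := (generic_dichotomy E hE Z ξ hξ).2 hξE
        let Z' : Closeds X := ⟨(Z : Set X) ∩ Uᶜ, Z.isClosed.inter hU.isClosed_compl⟩
        have hlt : Z' < Z := by
          refine lt_of_le_of_ne (fun z hz => hz.1) ?_
          intro heq
          have hξZ : ξ ∈ (Z : Set X) := hξ.mem
          have : ξ ∈ (Z' : Set X) := by rw [heq]; exact hξZ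
          exact this.2 hξU
        have : E ∩ (Z : Set X) = E ∩ (Z' : Set X) := by
          ext z
          constructor
          · rintro ⟨hzE, hzZ⟩
            exact ⟨hzE, hzZ, fun hzU => hUE ⟨hzU, hzZ⟩ hzE⟩
          · rintro ⟨hzE, hzZ, -⟩
            exact ⟨hzE, hzZ⟩
        rw [this]
        exact ih Z' hlt
    · rw [isPreirreducible_iff_isClosed_union_isClosed] at hirr
      push Not at hirr
      obtain ⟨z₁, z₂, hz₁, hz₂, hcov, hn₁, hn₂⟩ := hirr
      let Z₁ : Closeds X := ⟨(Z : Set X) ∩ z₁, Z.isClosed.inter hz₁⟩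
      let Z₂ : Closeds X := ⟨(Z : Set X) ∩ z₂, Z.isClosed.inter hz₂⟩
      have hlt₁ : Z₁ < Z := by
        refine lt_of_le_of_ne (fun z hz => hz.1) ?_
        intro heq
        apply hn₁
        intro z hz
        have : z ∈ (Z₁ : Set X) := by rw [heq]; exact hz
        exact this.2
      have hlt₂ : Z₂ < Z := by
        refine lt_of_le_of_ne (fun z hz => hz.1) ?_
        intro heq
        apply hn₂
        intro z hz
        have : z ∈ (Z₂ : Set X) := by rw [heq]; exact hz
        exact this.2
      have : E ∩ (Z : Set X) = (E ∩ (Z₁ : Set X)) ∪ (E ∩ (Z₂ : Set X)) := by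
        ext z
        constructor
        · rintro ⟨hzE, hzZ⟩
          rcases hcov hzZ with h | h
          · exact Or.inl ⟨hzE, hzZ, h⟩
          · exact Or.inr ⟨hzE, hzZ, h⟩
        · rintro (⟨hzE, hzZ, -⟩ | ⟨hzE, hzZ, -⟩)
          · exact ⟨hzE, hzZ⟩
          · exact ⟨hzE, hzZ⟩
      rw [this]
      exact (ih Z₁ hlt₁).union (ih Z₂ hlt₂)
  simpa using key ⊤

/-- Let X be a Noetherian sober topological space and E ⊆ X. (1) A constructible E that is closed under
specialization is a closed subset. (2) A constructible E that is closed under generalization is an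
open subset. -/
theorem result {X : Type u} [TopologicalSpace X]
    [TopologicalSpace.NoetherianSpace X] [QuasiSober X] [T0Space X] (E : Set X) (hE : Topology.IsConstructible E) :
    (StableUnderSpecialization E → IsClosed E) ∧ (StableUnderGeneralization E → IsOpen E) := by
  refine ⟨closed_of E hE, fun h => ?_⟩
  rw [← isClosed_compl_iff]
  exact closed_of Eᶜ hE.compl h.compl

end Groth.Agent.S7553
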