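import Groth.Statements.S4781
import Groth.Agent.Lib.Helper73.FibreDimGen3
import Groth.Agent.S7553
import Groth.Agent.S3401
-- import your own Groth.Agent.* helpers here

set_option autoImplicit false
universe u
open CategoryTheory AlgebraicGeometry
open Cons9

namespace Groth.Agent.S4781
open Groth.Agent.Lib.Helper73.SchemeDim

/-- Let S be a Noetherian irreducible scheme with generic point η, let X be an irreducible scheme and f
: X ⟶ S a dominant morphism of finite type. Then there is an open neighbourhood U of η in S such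
that, for every s ∈ U, all irreducible components of the fibre f⁻¹(s) have dimension equal to dim
f⁻¹(η). Fibres are taken as subspaces of X and dimensions are topological Krull dimensions. -/
theorem result {X S : Scheme.{u}} (f : X ⟶ S)
    [IsNoetherian S] [IrreducibleSpace S] [IrreducibleSpace X] [IsDominant f]
    [LocallyOfFiniteType f] [QuasiCompact f] :
    ∃ U : S.Opens, genericPoint S ∈ U ∧ ∀ s ∈ U, ∀ T ∈ irreducibleComponents ↥(⇑f ⁻¹' {s}),
      topologicalKrullDim ↥T = topologicalKrullDim ↥(⇑f ⁻¹' {genericPoint S}) := by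
  classical
  set ξ := genericPoint X with hξ
  set η := genericPoint S with hη
  have hfξ : f.base ξ = η := map_genericPoint_of_isDominant f
  obtain ⟨nξ, hnξ⟩ := exists_trdeg_residueField_eq_nat' f ξ
  -- the generic fibre has dimension `nξ`
  have hgen : topologicalKrullDim ↥(f.base ⁻¹' {η}) = nξ := by
    have h1 := topologicalKrullDim_closure_inter_fibre f ξ nξ hnξ
    have h2 : closure ({ξ} : Set X) ∩ f.base ⁻¹' {f.base ξ} = f.base ⁻¹' {η} := by
      rw [(genericPoint_spec X).def, Set.univ_inter, hfξ]
    rw [h2] at h1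
    exact h1
  -- the bad locus
  set C : Set X := {x : X | ((nξ + 1 : ℕ) : WithBot ℕ∞) ≤ FlatMor.fibreDimAt f x} with hC
  have hCcl : IsClosed C := isClosed_setOf_le_fibreDimAt f (nξ + 1)
  haveI : IsLocallyNoetherian X := LocallyOfFiniteType.isLocallyNoetherian f
  haveI : CompactSpace X := QuasiCompact.compactSpace_of_compactSpace f
  haveI : IsNoetherian X := ⟨⟩
  have hCc : Topology.IsConstructible C := by
    have := Groth.Agent.S3401.isConstructible_inter_of_noetherian (T := X) isOpen_univ hCcl
    rwa [Set.univ_inter] at this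
  have hE : Topology.IsConstructible (f.base '' C) := f.isConstructible_image hCc
  have hηE : η ∉ f.base '' C := by
    rintro ⟨x, hxC, hxη⟩
    obtain ⟨ζ, nζ, hζsp, hζf, hnζ, hFζ⟩ := exists_specializes_trdeg_eq_fibreDimAt f x
    have h1 : ((nξ + 1 : ℕ) : WithBot ℕ∞) ≤ FlatMor.fibreDimAt f x := hxC
    rw [hFζ] at h1
    have h1' : nξ + 1 ≤ nζ := by exact_mod_cast h1
    have h2 := trdeg_le_trdeg_of_specializes_of_fibre' f (genericPoint_specializes ζ)
      (by rw [hfξ, hζf, hxη]) nξ nζ hnξ hnζ
    omega
  obtain ⟨U, hUo, hηU, hUE⟩ :=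
    (Groth.Agent.S7553.generic_dichotomy (f.base '' C) hE Set.univ η (genericPoint_spec S)).2 hηE
  refine ⟨⟨U, hUo⟩, hηU, ?_⟩
  intro s hsU T hT
  change topologicalKrullDim ↥T = topologicalKrullDim ↥(f.base ⁻¹' {η})
  rw [hgen]
  haveI := quasiSober_preimage_singleton f s
  have hTirr : IsIrreducible T := hT.1
  have hTcl : IsClosed T := isClosed_of_mem_irreducibleComponents T hT
  obtain ⟨z, hz⟩ := QuasiSober.sober hTirr hTcl
  have hzT : closure ({z} : Set ↥(f.base ⁻¹' {s})) = T := hz.def
  have hfz : f.base z.1 = s := z.2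
  -- `z` is maximal in its fibre
  have hzmax : ∀ z' : X, z' ⤳ z.1 → f.base z' = s → z' = z.1 := by
    intro z' hsp hfz'
    let w : ↥(f.base ⁻¹' {s}) := ⟨z', hfz'⟩
    have hsp' : w ⤳ z := by
      rw [← Topology.IsInducing.subtypeVal.specializes_iff]
      exact hsp
    have h1 : T ⊆ closure ({w} : Set ↥(f.base ⁻¹' {s})) := by
      rw [← hzT]
      exact closure_minimal (Set.singleton_subset_iff.mpr hsp'.mem_closure) isClosed_closure
    have h2 : closure ({w} : Set ↥(f.base ⁻¹' {s})) = T :=
      (hT.2 (isIrreducible_singleton.closure) h1).antisymm h1 |>.symm ▸ rfl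
    have h3 : z ⤳ w := by
      rw [specializes_iff_mem_closure, hzT, ← h2]
      exact subset_closure rfl
    have : w = z := (hsp'.antisymm h3).eq
    exact congrArg Subtype.val this
  obtain ⟨nz, hnz⟩ := exists_trdeg_residueField_eq_nat' f z.1
  -- dimension of `T`
  have hdimT : topologicalKrullDim ↥T = nz := by
    have h1 := topologicalKrullDim_closure_inter_fibre f z.1 nz hnz
    have himg : Subtype.val '' T = closure ({z.1} : Set X) ∩ f.base ⁻¹' {f.base z.1} := by
      rw [← hzT, Topology.IsInducing.subtypeVal.closure_eq_preimage_closure_image, Set.image_singleton,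
        Subtype.image_preimage_coe, hfz, Set.inter_comm]
    rw [← himg] at h1
    rw [← h1]
    exact (Topology.IsEmbedding.subtypeVal.homeomorphImage T).isHomeomorph.topologicalKrullDim_eq _
  rw [hdimT]
  -- `fibreDimAt f z = nz`
  obtain ⟨ζ, nζ, hζsp, hζf, hnζ, hFζ⟩ := exists_specializes_trdeg_eq_fibreDimAt f z.1
  have hζz : ζ = z.1 := hzmax ζ hζsp (by rw [hζf, hfz])
  have hnζz : nζ = nz := by
    subst hζz
    have : ((nζ : ℕ) : Cardinal.{u}) = nz := by rw [← hnζ, ← hnz]
    exact_mod_cast this
  -- lower bound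
  have hlow : nξ ≤ nz := by
    have h1 := topologicalKrullDim_fiber_genericPoint_le_fibreDimAt f z.1
    rw [hFζ, hnζz] at h1
    have h2 : topologicalKrullDim ↥(f.fiber (genericPoint S)) = nξ := by
      rw [← hgen]
      exact (f.fiberHomeo η).isHomeomorph.topologicalKrullDim_eq _
    rw [h2] at h1
    exact_mod_cast h1
  -- upper bound
  have hup : nz ≤ nξ := by
    by_contra hlt
    rw [not_le] at hlt
    have hzC : z.1 ∈ C := by
      change ((nξ + 1 : ℕ) : WithBot ℕ∞) ≤ FlatMor.fibreDimAt f z.1
      rw [hFζ, hnζz]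
      exact_mod_cast hlt
    have : s ∈ (f.base '' C)ᶜ := hUE ⟨hsU, trivial⟩
    exact this ⟨z.1, hzC, hfz⟩
  have : nz = nξ := le_antisymm hup hlow
  rw [this]

end Groth.Agent.S4781
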