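import Groth.Statements.S4782
import Groth.Agent.Lib.Helper24.Lim8OpenImmReduced
-- import your own Groth.Agent.* helpers here

set_option autoImplicit false
universe u
open CategoryTheory AlgebraicGeometry
open Lim8

namespace Groth.Agent.S4782

/-- Let S = lim S_i be a cofiltered limit of schemes whose transition maps are open immersions (in
particular affine), and let S_{i₀} be a quasi-compact stage whose nilradical is an ideal of finite
type, i.e. for every affine open U of S_{i₀} the nilradical of Γ(S_{i₀}, U) is finitely generated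
(automatic when S_{i₀} is Noetherian). Then S is reduced if and only if there is an index i over i₀
such that S_j is reduced for every j over i. -/
theorem result {I : Type u} [SmallCategory I] [IsCofiltered I]
    (D : I ⥤ Scheme.{u}) (c : Limits.Cone D) (hc : Limits.IsLimit c)
    [∀ (i j : I) (f : i ⟶ j), IsAffineHom (D.map f)] (i₀ : I)
    [CompactSpace (D.obj i₀)] (hoi : ∀ (i j : I) (φ : i ⟶ j), IsOpenImmersion (D.map φ))
    (hN : ∀ U : (D.obj i₀).affineOpens, (nilradical Γ(D.obj i₀, U)).FG) :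
    IsReduced c.pt ↔ ∃ (i : I) (_ : i ⟶ i₀), ∀ (j : I) (_ : j ⟶ i), IsReduced (D.obj j) := by
  open Groth.Agent.Lib.Helper24.Lim8 in
  classical
  have hflat : ∀ (i j : I) (φ : i ⟶ j), Flat (D.map φ) := fun i j φ ↦ by
    have := hoi i j φ
    infer_instance
  constructor
  · intro hred
    have hflπ : Flat (c.π.app i₀) := flat_π_app D c hc i₀ (fun j φ ↦ hflat j i₀ φ)
    obtain ⟨s, hs, hcov⟩ := isCompact_and_isOpen_iff_finite_and_eq_biUnion_affineOpens.mp
      ⟨(isCompact_univ : IsCompact (Set.univ : Set (D.obj i₀))), isOpen_univ⟩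
    choose G hG using fun U : (D.obj i₀).affineOpens ↦ hN U
    let W : ∀ U : (D.obj i₀).affineOpens, Γ(D.obj i₀, U) → Set (D.obj i₀) :=
      fun U n ↦ {x | ∃ hx : x ∈ U.1, (D.obj i₀).presheaf.germ U.1 x hx n = 0}
    let Z : Set (D.obj i₀) :=
      ⋃ U ∈ hs.toFinset, ⋃ n ∈ G U, ((U.1 : Set (D.obj i₀)) ∩ (W U n)ᶜ)
    have hZgood : Groth.Agent.Lib.Helper24.Lim8.IsGood Z :=
      IsGood.biUnion _ _ fun U _ ↦ IsGood.biUnion _ _ fun n _ ↦
        .base _ _ U.1.2 U.2.isCompact (isOpen_setOf_germ_eq_zero U.1 n).isClosed_compl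
    have hpre : c.π.app i₀ ⁻¹' Z = ∅ := by
      rw [Set.eq_empty_iff_forall_notMem]
      intro s₀ hs₀
      obtain ⟨U, hU, hs₁⟩ := Set.mem_iUnion₂.mp hs₀
      obtain ⟨n, hn, hxU, hxW⟩ := Set.mem_iUnion₂.mp hs₁
      apply hxW
      refine ⟨hxU, ?_⟩
      have hnil : IsNilpotent n := by
        have : n ∈ nilradical Γ(D.obj i₀, U.1) := by
          rw [← hG U]; exact Ideal.subset_span hn
        exact mem_nilradical.mp this
      apply stalkMap_injective_of_flat (c.π.app i₀) s₀
      rw [map_zero]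
      have h2 : IsNilpotent ((c.π.app i₀).stalkMap s₀
          ((D.obj i₀).presheaf.germ U.1 (c.π.app i₀ s₀) hxU n)) := (hnil.map _).map _
      have : _root_.IsReduced ((((Functor.const I).obj c.pt).obj i₀).presheaf.stalk s₀) :=
        isReduced_stalk_of_isReduced (X := c.pt) s₀
      exact h2.eq_zero
    obtain ⟨i, φ, hi⟩ := exists_preimage_eq_empty_of_isGood D c hc Z hZgood hpre
    refine ⟨i, φ, fun j ψ ↦ ?_⟩
    have hstalk : ∀ x : D.obj j, _root_.IsReduced ((D.obj j).presheaf.stalk x) := by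
      intro x
      have hy : D.map (ψ ≫ φ) x ∈ ⋃ U ∈ s, ((U : (D.obj i₀).Opens) : Set (D.obj i₀)) :=
        hcov ▸ Set.mem_univ _
      obtain ⟨U, hU, hyU⟩ := Set.mem_iUnion₂.mp hy
      have hred_y : _root_.IsReduced ((D.obj i₀).presheaf.stalk (D.map (ψ ≫ φ) x)) :=
        isReduced_stalk_of_germ_eq_zero U.2 _ hyU (G U) (hG U) (fun n hn ↦ by
          by_contra hcon
          have : D.map ψ x ∈ D.map φ ⁻¹' Z := by
            simp only [Set.mem_preimage]
            rw [← Scheme.Hom.comp_apply, ← D.map_comp]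
            exact Set.mem_iUnion₂.mpr ⟨U, hs.mem_toFinset.mpr hU,
              Set.mem_iUnion₂.mpr ⟨n, hn, hyU, fun ⟨_, h0⟩ ↦ hcon h0⟩⟩
          rw [hi] at this
          exact this)
      have := hoi j i₀ (ψ ≫ φ)
      let e := (asIso ((D.map (ψ ≫ φ)).stalkMap x)).commRingCatIsoToRingEquiv
      exact isReduced_of_injective e.symm e.symm.injective
    exact isReduced_of_isReduced_stalk _
  · rintro ⟨i, φ, hi⟩
    by_contra hnr
    obtain ⟨i', hi'⟩ := exists_not_isReduced D c hc hnr
    obtain ⟨k, a, b, -⟩ := IsCofilteredOrEmpty.cone_objs i i'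
    exact hi' k b (hi k a)

end Groth.Agent.S4782
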