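import Groth.Statements.S4841
import Groth.Agent.Lib.Helper24.Lim8
import Groth.Agent.Lib.Helper24.CompTop
-- import your own Groth.Agent.* helpers here

set_option autoImplicit false
universe u
open CategoryTheory AlgebraicGeometry
open Lim8

namespace Groth.Agent.S4841

/-- Let S = lim S_i be a cofiltered limit of schemes whose transition maps are affine and topological
embeddings (homeomorphisms onto subspaces), some stage S_{i₀} having Noetherian underlying space,
and assume that the underlying space of S is Noetherian. Then there is an index i over i₀ such that,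
for every j over i, the map sending an irreducible component Y of S to the closure of its image
under S ⟶ S_j is a bijection from the set of irreducible components of S onto the set of irreducible
components of S_j. -/
theorem result {I : Type u} [SmallCategory I] [IsCofiltered I]
    (D : I ⥤ Scheme.{u}) (c : Limits.Cone D) (hc : Limits.IsLimit c)
    [∀ (i j : I) (f : i ⟶ j), IsAffineHom (D.map f)] (i₀ : I)
    [TopologicalSpace.NoetherianSpace (D.obj i₀)] [TopologicalSpace.NoetherianSpace c.pt]
    (he : ∀ (i j : I) (φ : i ⟶ j), Topology.IsEmbedding ⇑(D.map φ)) :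
    ∃ (i : I) (_ : i ⟶ i₀), ∀ (j : I) (_ : j ⟶ i),
      Set.BijOn (fun Y : Set c.pt => closure (⇑(c.π.app j) '' (Y : Set c.pt) : Set (D.obj j)))
        (irreducibleComponents c.pt) (irreducibleComponents (D.obj j)) := by
  open Groth.Agent.Lib.Helper24.Lim8 Groth.Agent.Lib.Helper24.CompTop in
  have hfin : (irreducibleComponents c.pt).Finite :=
    TopologicalSpace.NoetherianSpace.finite_irreducibleComponents
  set B : Set (D.obj i₀) := ⋃ Y ∈ irreducibleComponents c.pt, closure (c.π.app i₀ '' Y) with hB
  have hBcl : IsClosed B := hfin.isClosed_biUnion fun Y _ ↦ isClosed_closure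
  have hO : Groth.Agent.Lib.Helper24.Lim8.IsGood Bᶜ :=
    .of_isCompact_isOpen (TopologicalSpace.NoetherianSpace.isCompact _) hBcl.isOpen_compl
  have hpre : c.π.app i₀ ⁻¹' Bᶜ = ∅ := by
    rw [Set.preimage_compl, Set.compl_empty_iff]
    ext s
    simp only [Set.mem_preimage, Set.mem_univ, iff_true]
    have hs : s ∈ ⋃₀ irreducibleComponents c.pt := by
      rw [sUnion_irreducibleComponents]; exact Set.mem_univ s
    obtain ⟨Y, hY, hsY⟩ := hs
    exact Set.mem_iUnion₂.mpr ⟨Y, hY, subset_closure ⟨s, hsY, rfl⟩⟩
  obtain ⟨i, φ, hi⟩ := Groth.Agent.Lib.Helper24.Lim8.exists_preimage_eq_empty_of_isGood D c hc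
    Bᶜ hO hpre
  refine ⟨i, φ, fun j θ ↦ ?_⟩
  refine bijOn_irreducibleComponents_of_isInducing (S := c.pt) (c.π.app j)
    (Groth.Agent.Lib.Helper24.Lim8.isEmbedding_π_app D c hc he j).isInducing hfin fun t ↦ ?_
  have ht : D.map (θ ≫ φ) t ∈ B := by
    by_contra hcon
    have : D.map θ t ∈ D.map φ ⁻¹' Bᶜ := by
      simp only [Set.mem_preimage, Set.mem_compl_iff]
      rwa [← Scheme.Hom.comp_apply, ← D.map_comp]
    rw [hi] at this
    exact this
  obtain ⟨Y, hY, htY⟩ := Set.mem_iUnion₂.mp ht
  refine ⟨Y, hY, ?_⟩
  rw [(he j i₀ (θ ≫ φ)).isInducing.closure_eq_preimage_closure_image, Set.image_image]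
  simp only [Set.mem_preimage]
  convert htY using 2
  exact Set.image_congr' fun x ↦ by rw [← Scheme.Hom.comp_apply, c.w]

end Groth.Agent.S4841
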