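import Groth.Statements.S4783
import Groth.Agent.S4782
import Groth.Agent.S4841
import Groth.Agent.S4767
-- import your own Groth.Agent.* helpers here

set_option autoImplicit false
universe u
open CategoryTheory AlgebraicGeometry
open Lim8

namespace Groth.Agent.S4783

/-- Let S = lim S_i be a cofiltered limit of schemes whose transition maps are open immersions (in
particular affine), and let S_{i₀} be a Noetherian stage. Then S is integral if and only if there is
an index i over i₀ such that S_j is integral for every j over i. -/
theorem result {I : Type u} [SmallCategory I] [IsCofiltered I]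
    (D : I ⥤ Scheme.{u}) (c : Limits.Cone D) (hc : Limits.IsLimit c)
    [∀ (i j : I) (f : i ⟶ j), IsAffineHom (D.map f)] (i₀ : I)
    [IsNoetherian (D.obj i₀)] (hoi : ∀ (i j : I) (φ : i ⟶ j), IsOpenImmersion (D.map φ)) :
    IsIntegral c.pt ↔ ∃ (i : I) (_ : i ⟶ i₀), ∀ (j : I) (_ : j ⟶ i), IsIntegral (D.obj j) := by
  open Groth.Agent.Lib.Helper24.Lim8 in
  have hemb : Topology.IsEmbedding (c.π.app i₀) :=
    isEmbedding_π_app D c hc (fun i j φ ↦ by
      have := hoi i j φ
      exact (D.map φ).isOpenEmbedding.isEmbedding) i₀
  have hNS : TopologicalSpace.NoetherianSpace c.pt := hemb.isInducing.noetherianSpace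
  have hN : ∀ U : (D.obj i₀).affineOpens, (nilradical Γ(D.obj i₀, U)).FG := fun U ↦ by
    have : IsNoetherianRing Γ(D.obj i₀, U) := IsLocallyNoetherian.component_noetherian U
    exact IsNoetherian.noetherian _
  constructor
  · intro hint
    have hred : IsReduced c.pt := inferInstance
    have hirr : IrreducibleSpace c.pt := inferInstance
    obtain ⟨i₁, φ₁, h₁⟩ := (Groth.Agent.S4782.result D c hc i₀ hoi hN).mp hred
    obtain ⟨i₂, φ₂, h₂⟩ := Groth.Agent.S4841.result D c hc i₀ (fun i j φ ↦ by
      have := hoi i j φ
      exact (D.map φ).isOpenEmbedding.isEmbedding)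
    obtain ⟨i, a, b, -⟩ := IsCofilteredOrEmpty.cone_objs i₁ i₂
    refine ⟨i, a ≫ φ₁, fun j ψ ↦ ?_⟩
    have hredj : IsReduced (D.obj j) := h₁ j (ψ ≫ a)
    have hbij := h₂ j (ψ ≫ b)
    have hcomp : irreducibleComponents c.pt = {Set.univ} := irreducibleComponents_eq_singleton
    have himg : irreducibleComponents (D.obj j) =
        {closure (c.π.app j '' (Set.univ : Set c.pt))} := by
      rw [← hbij.image_eq, hcomp, Set.image_singleton]
    have huniv : (Set.univ : Set (D.obj j)) = closure (c.π.app j '' (Set.univ : Set c.pt)) := by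
      rw [← sUnion_irreducibleComponents, himg, Set.sUnion_singleton]
    have hirrj : IrreducibleSpace (D.obj j) := by
      rw [irreducibleSpace_def, ← Set.top_eq_univ] at *
      rw [huniv]
      have : closure (c.π.app j '' (Set.univ : Set c.pt)) ∈ irreducibleComponents (D.obj j) := by
        rw [himg]; exact Set.mem_singleton _
      exact this.1
    exact isIntegral_of_irreducibleSpace_of_isReduced _
  · rintro ⟨i, φ, hi⟩
    have hred : IsReduced c.pt := by
      by_contra hnr
      obtain ⟨i', hi'⟩ := exists_not_isReduced D c hc hnr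
      obtain ⟨k, a, b, -⟩ := IsCofilteredOrEmpty.cone_objs i i'
      have := hi k a
      exact hi' k b inferInstance
    have hirr : IrreducibleSpace c.pt := by
      by_contra hni
      obtain ⟨i', φ', hi'⟩ := Groth.Agent.S4767.result D c hc i₀ hni
      obtain ⟨k, a, b, -⟩ := IsCofilteredOrEmpty.cone_objs i i'
      have := hi k a
      exact hi' k b inferInstance
    exact isIntegral_of_irreducibleSpace_of_isReduced _

end Groth.Agent.S4783
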