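import Groth.Statements.S4785
import Groth.Agent.Lib.Helper24.Lim8OpenImm
-- import your own Groth.Agent.* helpers here

set_option autoImplicit false
universe u
open CategoryTheory AlgebraicGeometry
open Lim8

namespace Groth.Agent.S4785

/-- Let S = lim S_i be a cofiltered limit of schemes whose transition maps are open immersions, so that
each S_j with j over i is an open subscheme of S_i. Then, for every index i, the projection S ⟶ S_i
is a topological embedding and every stalk map O_{S_i, π(s)} ⟶ O_{S, s} is an isomorphism; that is,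
S is the subspace ⋂_j S_j of S_i with the induced structure sheaf. -/
theorem result {I : Type u} [SmallCategory I] [IsCofiltered I]
    (D : I ⥤ Scheme.{u}) (c : Limits.Cone D) (hc : Limits.IsLimit c)
    [∀ (i j : I) (f : i ⟶ j), IsAffineHom (D.map f)]
    (hoi : ∀ (i j : I) (φ : i ⟶ j), IsOpenImmersion (D.map φ)) (i : I) :
    Topology.IsEmbedding ⇑(c.π.app i) ∧ ∀ s : c.pt, IsIso ((c.π.app i).stalkMap s) := by
  open Groth.Agent.Lib.Helper24.Lim8 in
  refine ⟨isEmbedding_π_app D c hc (fun i j φ ↦ ?_) i, fun s ↦ ?_⟩
  · have := hoi i j φ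
    exact (D.map φ).isOpenEmbedding.isEmbedding
  · exact isIso_stalkMap_π_app D c hc (fun φ ↦ hoi _ _ φ) i s

end Groth.Agent.S4785
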