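import Groth.Statements.S4786
import Groth.Agent.Lib.Helper24.Lim8ProCFlat
-- import your own Groth.Agent.* helpers here

set_option autoImplicit false
universe u
open CategoryTheory AlgebraicGeometry
open Lim8

namespace Groth.Agent.S4786

/-- Let S = lim S_i be a cofiltered limit of schemes whose transition maps are affine and flat, let
S_{i₁} be a quasi-compact stage, and let Z' and Z'' be pro-constructible subsets of S_{i₁} such that
the closure of Z' is constructible. Then the preimage of Z'' in S is contained in the closure of the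
preimage of Z' in S if and only if there is an index j over i₁ such that the preimage of Z'' in S_j
is contained in the closure of the preimage of Z' in S_j. -/
theorem result {I : Type u} [SmallCategory I] [IsCofiltered I]
    (D : I ⥤ Scheme.{u}) (c : Limits.Cone D) (hc : Limits.IsLimit c)
    [∀ (i j : I) (f : i ⟶ j), IsAffineHom (D.map f)] (i₁ : I) [CompactSpace (D.obj i₁)]
    (hfl : ∀ (i j : I) (φ : i ⟶ j), Flat (D.map φ))
    (Z' Z'' : Set (D.obj i₁)) (hZ' : ProCons.IsProConstructible Z') (hZ'' : ProCons.IsProConstructible Z'')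
    (hcl : Topology.IsConstructible (closure Z')) :
    (⇑(c.π.app i₁) ⁻¹' Z'' : Set c.pt) ⊆ closure (⇑(c.π.app i₁) ⁻¹' Z' : Set c.pt) ↔
      ∃ (j : I) (φ : j ⟶ i₁), ⇑(D.map φ) ⁻¹' Z'' ⊆ closure (⇑(D.map φ) ⁻¹' Z') := by
  open Groth.Agent.Lib.Helper24.Lim8 Groth.Agent.Lib.Helper17 in
  have hflπ : ∀ j, Flat (c.π.app j) := fun j ↦ flat_π_app D c hc j (fun k φ ↦ hfl k j φ)
  constructor
  · intro hsub
    have := hflπ i₁
    rw [closure_preimage_eq_of_flat (c.π.app i₁) hZ'] at hsub
    have hpre : c.π.app i₁ ⁻¹' (Z'' ∩ (closure Z')ᶜ) = ∅ := by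
      rw [Set.eq_empty_iff_forall_notMem]
      rintro s ⟨h1, h2⟩
      exact h2 (hsub h1)
    obtain ⟨j, φ, hj⟩ := exists_preimage_eq_empty_of_isProConstructible D c hc
      (Z'' ∩ (closure Z')ᶜ)
      (isProConstructible_inter hZ''
        (isProConstructible_of_isLocallyConstructible hcl.compl.isLocallyConstructible)) hpre
    refine ⟨j, φ, ?_⟩
    have := hfl j i₁ φ
    rw [closure_preimage_eq_of_flat (D.map φ) hZ']
    intro x hx
    by_contra hcon
    have : x ∈ D.map φ ⁻¹' (Z'' ∩ (closure Z')ᶜ) := ⟨hx, hcon⟩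
    rw [hj] at this
    exact this
  · rintro ⟨j, φ, hj⟩
    have := hflπ j
    have e : ∀ A : Set (D.obj i₁), c.π.app i₁ ⁻¹' A = c.π.app j ⁻¹' (D.map φ ⁻¹' A) := by
      intro A
      rw [← c.w φ, Scheme.Hom.comp_base, TopCat.coe_comp, Set.preimage_comp]
    rw [e Z'', e Z', closure_preimage_eq_of_flat (c.π.app j)
      (isProConstructible_preimage (D.map φ) hZ')]
    exact Set.preimage_mono hj

end Groth.Agent.S4786
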