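import Groth.Statements.S4787
import Groth.Agent.Lib.Helper24.Lim8ProC
-- import your own Groth.Agent.* helpers here

set_option autoImplicit false
universe u
open CategoryTheory AlgebraicGeometry
open Lim8

namespace Groth.Agent.S4787

/-- Let S = lim S_i be a cofiltered limit of schemes with affine transition maps, some stage S_{i₀}
being quasi-compact. For every index let E_i be a pro-constructible and F_i an ind-constructible
subset of S_i such that, for every transition map S_i ⟶ S_j, E_i lies in the preimage of E_j and F_i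
contains the preimage of F_j. Put E = ⋂ (preimage of E_i in S) and F = ⋃ (preimage of F_i in S).
Then E ⊆ F if and only if there is an index i over i₀ such that E_j ⊆ F_j for every j over i. -/
theorem result {I : Type u} [SmallCategory I] [IsCofiltered I]
    (D : I ⥤ Scheme.{u}) (c : Limits.Cone D) (hc : Limits.IsLimit c)
    [∀ (i j : I) (f : i ⟶ j), IsAffineHom (D.map f)] (i₀ : I)
    [CompactSpace (D.obj i₀)] (E F : ∀ i : I, Set (D.obj i))
    (hE : ∀ i, ProCons.IsProConstructible (E i)) (hF : ∀ i, ProCons.IsIndConstructible (F i))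
    (hEm : ∀ (i j : I) (φ : i ⟶ j), E i ⊆ ⇑(D.map φ) ⁻¹' E j)
    (hFm : ∀ (i j : I) (φ : i ⟶ j), ⇑(D.map φ) ⁻¹' F j ⊆ F i) :
    (⋂ i, ⇑(c.π.app i) ⁻¹' E i : Set c.pt) ⊆ (⋃ i, ⇑(c.π.app i) ⁻¹' F i : Set c.pt) ↔
      ∃ (i : I) (_ : i ⟶ i₀), ∀ (j : I) (_ : j ⟶ i), E j ⊆ F j := by
  open Groth.Agent.Lib.Helper24.Lim8 Groth.Agent.Lib.Helper17 in
  classical
  constructor
  · intro hEF
    have hcpt : CompactSpace c.pt := compactSpace_pt D c hc i₀
    -- the family of pro-constructible subsets of the limit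
    let G : I ⊕ I → Set c.pt :=
      Sum.elim (fun j ↦ c.π.app j ⁻¹' E j) (fun j ↦ c.π.app j ⁻¹' (F j)ᶜ)
    have hG : ∀ a, ProCons.IsProConstructible (G a) := by
      rintro (j | j)
      · exact isProConstructible_preimage (c.π.app j) (hE j)
      · exact isProConstructible_preimage (c.π.app j)
          (isProConstructible_compl_of_isIndConstructible (hF j))
    have hGe : ⋂ a, G a = ∅ := by
      rw [Set.eq_empty_iff_forall_notMem]
      intro s hs
      rw [Set.mem_iInter] at hs
      have h1 : s ∈ ⋂ i, c.π.app i ⁻¹' E i := Set.mem_iInter.mpr fun j ↦ hs (Sum.inl j)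
      obtain ⟨j, hj⟩ := Set.mem_iUnion.mp (hEF h1)
      exact hs (Sum.inr j) hj
    obtain ⟨J, hJ⟩ := exists_finset_iInter_eq_empty_of_isProConstructible c.pt G hG hGe
    obtain ⟨k, hk⟩ := IsCofiltered.inf_objs_exists (insert i₀ (J.image (Sum.elim id id)))
    have hk₀ : Nonempty (k ⟶ i₀) := hk (Finset.mem_insert_self _ _)
    obtain ⟨φ₀⟩ := hk₀
    have hcptk : CompactSpace (D.obj k) := compactSpace_of_hom D φ₀
    have hpre : c.π.app k ⁻¹' (E k ∩ (F k)ᶜ) = ∅ := by
      rw [Set.eq_empty_iff_forall_notMem]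
      rintro s ⟨hsE, hsF⟩
      have : s ∈ ⋂ a ∈ J, G a := by
        refine Set.mem_iInter₂.mpr ?_
        rintro (j | j) hj
        · have hjk : Nonempty (k ⟶ j) := hk (Finset.mem_insert_of_mem
            (Finset.mem_image.mpr ⟨Sum.inl j, hj, rfl⟩))
          obtain ⟨ψ⟩ := hjk
          change c.π.app j s ∈ E j
          rw [← c.w ψ, Scheme.Hom.comp_apply]
          exact hEm k j ψ hsE
        · have hjk : Nonempty (k ⟶ j) := hk (Finset.mem_insert_of_mem
            (Finset.mem_image.mpr ⟨Sum.inr j, hj, rfl⟩))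
          obtain ⟨ψ⟩ := hjk
          change c.π.app j s ∉ F j
          intro hcon
          apply hsF
          rw [← c.w ψ, Scheme.Hom.comp_apply] at hcon
          exact hFm k j ψ hcon
      rw [hJ] at this
      exact this
    obtain ⟨l, θ, hl⟩ := exists_preimage_eq_empty_of_isProConstructible D c hc (E k ∩ (F k)ᶜ)
      (isProConstructible_inter (hE k) (isProConstructible_compl_of_isIndConstructible (hF k)))
      hpre
    refine ⟨l, θ ≫ φ₀, fun j ψ x hx ↦ ?_⟩
    by_contra hxF
    have : D.map θ (D.map ψ x) ∈ E k ∩ (F k)ᶜ := by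
      rw [← Scheme.Hom.comp_apply, ← D.map_comp]
      exact ⟨hEm j k (ψ ≫ θ) hx, fun hcon ↦ hxF (hFm j k (ψ ≫ θ) hcon)⟩
    have h2 : D.map ψ x ∈ D.map θ ⁻¹' (E k ∩ (F k)ᶜ) := this
    rw [hl] at h2
    exact h2
  · rintro ⟨i, -, hi⟩ s hs
    rw [Set.mem_iInter] at hs
    exact Set.mem_iUnion.mpr ⟨i, hi i (𝟙 i) (hs i)⟩

end Groth.Agent.S4787
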