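import Groth.Statements.S4795
import Groth.Agent.Lib.Helper24.Lim8IsoDescent
-- import your own Groth.Agent.* helpers here

set_option autoImplicit false
universe u
open CategoryTheory AlgebraicGeometry
open Lim8

namespace Groth.Agent.S4795

open Groth.Agent.Lib.Helper24.Lim8 Limits

variable {I : Type u} [SmallCategory I] (D : I ⥤ Scheme.{u}) (c : Limits.Cone D)

/-- From a cartesian square over `S ⟶ S_{i₀}` to a cartesian square over `S ⟶ S_j`. -/
lemma isPullback_stage {i₀ : I} {Y Y₀ : Scheme.{u}} {b : Y ⟶ c.pt} {qY : Y ⟶ Y₀}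
    {b₀ : Y₀ ⟶ D.obj i₀} (hY : IsPullback qY b b₀ (c.π.app i₀)) (j : Over i₀) :
    IsPullback ((IsPullback.of_hasPullback (D.map j.hom) b₀).flip.lift qY (b ≫ c.π.app j.left)
      (by rw [Category.assoc, c.w, hY.w])) b (pullback.fst (D.map j.hom) b₀)
      (c.π.app j.left) :=
  IsPullback.of_right' (by rw [c.w]; exact hY) (IsPullback.of_hasPullback (D.map j.hom) b₀).flip

set_option backward.isDefEq.respectTransparency false in
/-- The structure maps of the base-changed system to the base stage. -/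
@[simps] noncomputable
def pbDiagramBase (i₀ : I) {X₀ : Scheme.{u}} (a₀ : X₀ ⟶ D.obj i₀) :
    pbDiagram D i₀ a₀ ⟶ (Functor.const (Over i₀)).obj (D.obj i₀) where
  app j := pullback.fst _ _ ≫ D.map j.hom
  naturality j k θ := by
    simp only [pbDiagram, pullback.map, Functor.const_obj_obj, Functor.const_obj_map,
      Category.comp_id, pullback.lift_fst_assoc, Category.assoc, ← D.map_comp, Over.w]

set_option backward.isDefEq.respectTransparency false in
lemma pbCone_π_app_base (i₀ : I) {X₀ : Scheme.{u}} (a₀ : X₀ ⟶ D.obj i₀) (j : Over i₀) :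
    (pbCone D c i₀ a₀).π.app j ≫ (pbDiagramBase D i₀ a₀).app j =
      pullback.fst (c.π.app i₀) a₀ ≫ c.π.app i₀ := by
  simp [pbCone, pullback.map]

set_option backward.isDefEq.respectTransparency false in
lemma pbCone_π_app_fst (i₀ : I) {X₀ : Scheme.{u}} (a₀ : X₀ ⟶ D.obj i₀) (j : Over i₀) :
    (pbCone D c i₀ a₀).π.app j ≫ pullback.fst (D.map j.hom) a₀ =
      pullback.fst (c.π.app i₀) a₀ ≫ c.π.app j.left := by
  simp [pbCone, pullback.map]

set_option backward.isDefEq.respectTransparency false in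
lemma pbCone_π_app_snd' (i₀ : I) {X₀ : Scheme.{u}} (a₀ : X₀ ⟶ D.obj i₀) (j : Over i₀) :
    (pbCone D c i₀ a₀).π.app j ≫ pullback.snd (D.map j.hom) a₀ =
      pullback.snd (c.π.app i₀) a₀ := by
  simp [pbCone, pullback.map]

/-- Easy direction: an isomorphism at a stage gives one over the limit. -/
lemma exists_iso_of_stage {i₀ j : I} (φ : j ⟶ i₀) {X₀ Y₀ X Y Xj Yj : Scheme.{u}}
    {a₀ : X₀ ⟶ D.obj i₀} {b₀ : Y₀ ⟶ D.obj i₀} {a : X ⟶ c.pt} {b : Y ⟶ c.pt} {qX : X ⟶ X₀}
    {qY : Y ⟶ Y₀} (hX : IsPullback qX a a₀ (c.π.app i₀)) (hY : IsPullback qY b b₀ (c.π.app i₀))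
    {aj : Xj ⟶ D.obj j} {bj : Yj ⟶ D.obj j} {pX : Xj ⟶ X₀} {pY : Yj ⟶ Y₀}
    (h1 : IsPullback pX aj a₀ (D.map φ)) (h2 : IsPullback pY bj b₀ (D.map φ))
    (ej : Xj ≅ Yj) (hej : ej.hom ≫ bj = aj) : ∃ e : X ≅ Y, e.hom ≫ b = a := by
  have hX1 : IsPullback (h1.lift qX (a ≫ c.π.app j) (by rw [Category.assoc, c.w, hX.w])) a aj
      (c.π.app j) := IsPullback.of_right' (by rw [c.w]; exact hX) h1
  have hY1 : IsPullback (h2.lift qY (b ≫ c.π.app j) (by rw [Category.assoc, c.w, hY.w])) b bj
      (c.π.app j) := IsPullback.of_right' (by rw [c.w]; exact hY) h2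
  have hsq : IsPullback ej.inv bj aj (𝟙 (D.obj j)) :=
    IsPullback.of_horiz_isIso ⟨by rw [Category.comp_id, ← hej, Iso.inv_hom_id_assoc]⟩
  have hY2 := hY1.paste_horiz hsq
  rw [Category.comp_id] at hY2
  exact ⟨hX1.isoIsPullback _ _ hY2, IsPullback.isoIsPullback_hom_snd _ _ hX1 hY2⟩

/-- Let S = lim S_i be a cofiltered limit of schemes with affine transition maps and S_{i₀} a
quasi-compact quasi-separated stage; let X₀ and Y₀ be schemes of finite presentation over S_{i₀},
and let X, Y be their base changes along S ⟶ S_{i₀} (base changes are expressed by pullback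
squares). Then X and Y are isomorphic over S if and only if, for some index j over i₀, the base
changes X_j and Y_j of X₀ and Y₀ along S_j ⟶ S_{i₀} are isomorphic over S_j. -/
theorem result {I : Type u} [SmallCategory I] [IsCofiltered I]
    (D : I ⥤ Scheme.{u}) (c : Limits.Cone D) (hc : Limits.IsLimit c)
    [∀ (i j : I) (f : i ⟶ j), IsAffineHom (D.map f)] (i₀ : I)
    [CompactSpace (D.obj i₀)] [QuasiSeparatedSpace (D.obj i₀)]
    {X₀ Y₀ : Scheme.{u}} (a₀ : X₀ ⟶ D.obj i₀) (b₀ : Y₀ ⟶ D.obj i₀)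
    [LocallyOfFinitePresentation a₀] [QuasiCompact a₀] [QuasiSeparated a₀]
    [LocallyOfFinitePresentation b₀] [QuasiCompact b₀] [QuasiSeparated b₀]
    {X Y : Scheme.{u}} (a : X ⟶ c.pt) (b : Y ⟶ c.pt) (qX : X ⟶ X₀) (qY : Y ⟶ Y₀)
    (hX : IsPullback qX a a₀ (c.π.app i₀)) (hY : IsPullback qY b b₀ (c.π.app i₀)) :
    (∃ e : X ≅ Y, e.hom ≫ b = a) ↔
      ∃ (j : I) (φ : j ⟶ i₀) (Xj Yj : Scheme.{u}) (aj : Xj ⟶ D.obj j) (bj : Yj ⟶ D.obj j)
        (pX : Xj ⟶ X₀) (pY : Yj ⟶ Y₀), IsPullback pX aj a₀ (D.map φ) ∧ IsPullback pY bj b₀ (D.map φ) ∧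
        ∃ e : Xj ≅ Yj, e.hom ≫ bj = aj := by
  constructor
  · rintro ⟨e, he⟩
    -- standard model of `X`
    set eX := hX.flip.isoPullback with heX
    have heX1 : eX.hom ≫ pullback.fst (c.π.app i₀) a₀ = a := hX.flip.isoPullback_hom_fst
    have heX2 : eX.hom ≫ pullback.snd (c.π.app i₀) a₀ = qX := hX.flip.isoPullback_hom_snd
    set m : pullback (c.π.app i₀) a₀ ⟶ Y₀ := eX.inv ≫ e.hom ≫ qY with hm
    have hmb : m ≫ b₀ = pullback.fst (c.π.app i₀) a₀ ≫ c.π.app i₀ := by
      have h1 : e.hom ≫ qY ≫ b₀ = eX.hom ≫ pullback.fst (c.π.app i₀) a₀ ≫ c.π.app i₀ := by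
        rw [hY.w, ← Category.assoc, he, ← heX1, Category.assoc]
      rw [hm, Category.assoc, Category.assoc, h1, Iso.inv_hom_id_assoc]
    -- the system `X_j` is qcqs
    have hcpt : ∀ j : Over i₀, CompactSpace ((pbDiagram D i₀ a₀).obj j) := fun j ↦ by
      have : CompactSpace (D.obj j.left) := compactSpace_of_hom D j.hom
      have : QuasiCompact (pullback.fst (D.map j.hom) a₀) :=
        MorphismProperty.pullback_fst (P := @QuasiCompact) _ _ inferInstance
      change CompactSpace ↥(pullback (D.map j.hom) a₀)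
      exact QuasiCompact.compactSpace_of_compactSpace (pullback.fst (D.map j.hom) a₀)
    have hqs : ∀ j : Over i₀, QuasiSeparatedSpace ((pbDiagram D i₀ a₀).obj j) := fun j ↦ by
      have : QuasiSeparatedSpace (D.obj j.left) := quasiSeparatedSpace_of_hom D j.hom
      have : QuasiSeparated (pullback.fst (D.map j.hom) a₀) :=
        MorphismProperty.pullback_fst (P := @QuasiSeparated) _ _ inferInstance
      change QuasiSeparatedSpace ↥(pullback (D.map j.hom) a₀)
      exact quasiSeparatedSpace_of_quasiSeparated (pullback.fst (D.map j.hom) a₀)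
    obtain ⟨j, u, hu1, hu2⟩ := Scheme.exists_π_app_comp_eq_of_locallyOfFinitePresentation
      (pbDiagram D i₀ a₀) (pbDiagramBase D i₀ a₀) b₀ (pbCone D c i₀ a₀)
      (isLimitPbCone D c hc i₀ a₀) m (by
        ext j : 2
        rw [NatTrans.comp_app, pbCone_π_app_base, ← hmb]
        rfl)
    have hu2' : u ≫ b₀ = pullback.fst (D.map j.hom) a₀ ≫ D.map j.hom := hu2
    set πj : pullback (c.π.app i₀) a₀ ⟶ pullback (D.map j.hom) a₀ :=
      (pbCone D c i₀ a₀).π.app j with hπj
    have hπj1 : πj ≫ pullback.fst (D.map j.hom) a₀ =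
        pullback.fst (c.π.app i₀) a₀ ≫ c.π.app j.left := pbCone_π_app_fst D c i₀ a₀ j
    have hπj2 : πj ≫ pullback.snd (D.map j.hom) a₀ = pullback.snd (c.π.app i₀) a₀ :=
      pbCone_π_app_snd' D c i₀ a₀ j
    have hu1' : πj ≫ u = m := hu1
    -- the morphism at stage `j`
    set fj : pullback (D.map j.hom) a₀ ⟶ pullback (D.map j.hom) b₀ :=
      pullback.lift (pullback.fst _ _) u hu2'.symm with hfj
    have hfj1 : fj ≫ pullback.fst (D.map j.hom) b₀ = pullback.fst (D.map j.hom) a₀ :=
      pullback.lift_fst _ _ _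
    have hfj2 : fj ≫ pullback.snd (D.map j.hom) b₀ = u := pullback.lift_snd _ _ _
    have hcptj : CompactSpace (D.obj j.left) := compactSpace_of_hom D j.hom
    have i1 : LocallyOfFiniteType (pullback.fst (D.map j.hom) b₀) :=
      MorphismProperty.pullback_fst (P := @LocallyOfFiniteType) _ _ inferInstance
    have i2 : QuasiCompact (pullback.fst (D.map j.hom) b₀) :=
      MorphismProperty.pullback_fst (P := @QuasiCompact) _ _ inferInstance
    have i3 : QuasiSeparated (pullback.fst (D.map j.hom) b₀) :=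
      MorphismProperty.pullback_fst (P := @QuasiSeparated) _ _ inferInstance
    have i4 : LocallyOfFinitePresentation (fj ≫ pullback.fst (D.map j.hom) b₀) := by
      rw [hfj1]
      exact MorphismProperty.pullback_fst (P := @LocallyOfFinitePresentation) _ _ inferInstance
    have i5 : QuasiCompact (fj ≫ pullback.fst (D.map j.hom) b₀) := by
      rw [hfj1]
      exact MorphismProperty.pullback_fst (P := @QuasiCompact) _ _ inferInstance
    -- the base change of `fj` to the limit is `e.hom`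
    have hY' := isPullback_stage D c hY j
    have hX' := isPullback_stage D c hX j
    set qY' := (IsPullback.of_hasPullback (D.map j.hom) b₀).flip.lift qY (b ≫ c.π.app j.left)
      (by rw [Category.assoc, c.w, hY.w]) with hqY'
    set qX' := (IsPullback.of_hasPullback (D.map j.hom) a₀).flip.lift qX (a ≫ c.π.app j.left)
      (by rw [Category.assoc, c.w, hX.w]) with hqX'
    have hqY'1 : qY' ≫ pullback.snd (D.map j.hom) b₀ = qY := IsPullback.lift_fst _ _ _ _
    have hqY'2 : qY' ≫ pullback.fst (D.map j.hom) b₀ = b ≫ c.π.app j.left :=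
      IsPullback.lift_snd _ _ _ _
    have hqX'1 : qX' ≫ pullback.snd (D.map j.hom) a₀ = qX := IsPullback.lift_fst _ _ _ _
    have hqX'2 : qX' ≫ pullback.fst (D.map j.hom) a₀ = a ≫ c.π.app j.left :=
      IsPullback.lift_snd _ _ _ _
    have hqX'3 : qX' = eX.hom ≫ πj := by
      apply pullback.hom_ext
      · rw [hqX'2, Category.assoc, hπj1, ← Category.assoc, heX1]
      · rw [hqX'1, Category.assoc, hπj2, heX2]
    have hcomm : qX' ≫ fj = e.hom ≫ qY' := by
      apply pullback.hom_ext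
      · rw [Category.assoc, hfj1, hqX'2, Category.assoc, hqY'2, ← Category.assoc, he]
      · rw [Category.assoc, hfj2, Category.assoc, hqY'1, hqX'3, Category.assoc, hu1', hm,
          Iso.hom_inv_id_assoc]
    have hXsq : IsPullback qX' e.hom fj qY' := by
      refine IsPullback.of_bot ?_ hcomm hY'
      rw [he, hfj1]
      exact hX'
    obtain ⟨eX2, eY2, hc2, -, -, -, -⟩ := exists_iso_bcMap hY' hXsq
    have hiso : IsIso (bcMap (c.π.app j.left) fj (pullback.fst (D.map j.hom) b₀)) := by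
      have : bcMap (c.π.app j.left) fj (pullback.fst (D.map j.hom) b₀) =
          eX2.inv ≫ e.hom ≫ eY2.hom := by rw [hc2, Iso.inv_hom_id_assoc]
      rw [this]; infer_instance
    obtain ⟨k, ψ, hk⟩ := exists_isIso_bcMap D c hc j.left fj (pullback.fst (D.map j.hom) b₀)
    refine ⟨k, ψ ≫ j.hom, pullback (D.map ψ) (fj ≫ pullback.fst (D.map j.hom) b₀),
      pullback (D.map ψ) (pullback.fst (D.map j.hom) b₀), pullback.fst _ _, pullback.fst _ _,
      pullback.snd _ _ ≫ pullback.snd _ _, pullback.snd _ _ ≫ pullback.snd _ _, ?_, ?_,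
      asIso (bcMap (D.map ψ) fj (pullback.fst (D.map j.hom) b₀)), bcMap_fst _ _ _⟩
    · rw [D.map_comp]
      refine (IsPullback.of_hasPullback (D.map ψ) (fj ≫ pullback.fst (D.map j.hom) b₀)).flip.paste_horiz
        ?_
      rw [hfj1]
      exact (IsPullback.of_hasPullback (D.map j.hom) a₀).flip
    · rw [D.map_comp]
      exact (IsPullback.of_hasPullback (D.map ψ) (pullback.fst (D.map j.hom) b₀)).flip.paste_horiz
        (IsPullback.of_hasPullback (D.map j.hom) b₀).flip
  · rintro ⟨j, φ, Xj, Yj, aj, bj, pX, pY, h1, h2, ej, hej⟩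
    exact exists_iso_of_stage D c φ hX hY h1 h2 ej hej

end Groth.Agent.S4795
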