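import Groth.Statements.S4800
import Groth.Agent.Lib.Helper24.Lim8ProCFlat
import Groth.Agent.S3398
-- import your own Groth.Agent.* helpers here

set_option autoImplicit false
universe u
open CategoryTheory AlgebraicGeometry
open Lim8

namespace Groth.Agent.S4800

open Groth.Agent.Lib.Helper24.Lim8 in
lemma isDominant_iff_of_isPullback_flat {X₀ Y₀ X Y : Scheme.{u}} {f₀ : X₀ ⟶ Y₀} {f : X ⟶ Y}
    {qX : X ⟶ X₀} {qY : Y ⟶ Y₀} (hX : IsPullback qX f f₀ qY) [Flat qY]
    (hpro : ProCons.IsProConstructible (Set.range f₀)) :
    IsDominant f ↔ qY ⁻¹' (closure (Set.range f₀))ᶜ = ∅ := by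
  have hr : Set.range f = qY ⁻¹' Set.range f₀ := by
    have := Scheme.image_preimage_eq_of_isPullback hX Set.univ
    rwa [Set.preimage_univ, Set.image_univ, Set.image_univ] at this
  rw [isDominant_iff, DenseRange, dense_iff_closure_eq, hr, closure_preimage_eq_of_flat qY hpro,
    Set.preimage_compl, Set.compl_empty_iff]

/-- Let S = lim S_i be a cofiltered limit of schemes whose transition maps are affine and flat, and
S_{i₀} a quasi-compact stage; let X₀ ⟶ S_{i₀} be quasi-compact, Y₀ ⟶ S_{i₀} quasi-compact and
quasi-separated, and f₀ : X₀ ⟶ Y₀ a morphism over S_{i₀} such that the closure of its image f₀(X₀)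
is a constructible subset of Y₀. Let f : X ⟶ Y be the base change of f₀ along S ⟶ S_{i₀} (base
changes are expressed by pullback squares). Then f is dominant if and only if, for some index j over
i₀ and the base change f_j : X_j ⟶ Y_j of f₀ along S_j ⟶ S_{i₀}, f_j is dominant. (The published
statement asks instead that the image f₀(X₀) itself be constructible, which is not enough: let R be
the ring of locally constant functions from the Cantor set to a field, take for stages the spectra
of the rings of locally constant functions on the clopen neighbourhoods of a point p, so that the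
limit is the spectrum of the residue field at p, and take Y₀ = Spec R[t]/(m_p t) and X₀ its basic
open subset where t is invertible; the image of X₀ is constructible, the limit morphism is the
inclusion of the punctured affine line into the affine line, which is dominant, and no stage
morphism is dominant. The published proof applies the criterion for a preimage to lie in the closure
of the preimage of a pro-constructible subset along a flat limit, whose hypothesis is that the
closure of that subset is constructible; the image f₀(X₀) is pro-constructible because f₀ is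
quasi-compact, so constructibility of its closure is the hypothesis taken here.) -/
theorem result {I : Type u} [SmallCategory I] [IsCofiltered I]
    (D : I ⥤ Scheme.{u}) (c : Limits.Cone D) (hc : Limits.IsLimit c)
    [∀ (i j : I) (f : i ⟶ j), IsAffineHom (D.map f)] (i₀ : I) [CompactSpace (D.obj i₀)]
    (hfl : ∀ (i j : I) (φ : i ⟶ j), Flat (D.map φ))
    {X₀ Y₀ : Scheme.{u}} (f₀ : X₀ ⟶ Y₀) (g₀ : Y₀ ⟶ D.obj i₀)
    [QuasiCompact (f₀ ≫ g₀)] [QuasiCompact g₀] [QuasiSeparated g₀]
    (hcl : Topology.IsConstructible (closure (Set.range ⇑f₀)))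
    {X Y : Scheme.{u}} (f : X ⟶ Y) (g : Y ⟶ c.pt) (qY : Y ⟶ Y₀) (qX : X ⟶ X₀)
    (hY : IsPullback qY g g₀ (c.π.app i₀)) (hX : IsPullback qX f f₀ qY) :
    IsDominant f ↔ ∃ (j : I) (φ : j ⟶ i₀) (Xj Yj : Scheme.{u}) (fj : Xj ⟶ Yj) (gj : Yj ⟶ D.obj j)
      (pY : Yj ⟶ Y₀) (pX : Xj ⟶ X₀), IsPullback pY gj g₀ (D.map φ) ∧ IsPullback pX fj f₀ pY ∧
      IsDominant fj := by
  open Groth.Agent.Lib.Helper24.Lim8 Groth.Agent.Lib.Helper17 in
  have hqc : QuasiCompact f₀ := QuasiCompact.of_comp f₀ g₀
  have hpro : ProCons.IsProConstructible (Set.range f₀) := by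
    have := Groth.Agent.S3398.result f₀ Set.univ
      (isProConstructible_of_isLocallyConstructible Topology.IsLocallyConstructible.univ)
    rwa [Set.image_univ] at this
  have hcptY : CompactSpace Y₀ := QuasiCompact.compactSpace_of_compactSpace g₀
  have hflπ : ∀ j, Flat (c.π.app j) := fun j ↦ flat_π_app D c hc j (fun k φ ↦ hfl k j φ)
  have hflqY : Flat qY := MorphismProperty.of_isPullback hY.flip (hflπ i₀)
  rw [isDominant_iff_of_isPullback_flat hX hpro]
  constructor
  · intro hempty
    obtain ⟨T, t, hT, ht⟩ := exists_affine_range_eq' Y₀ (closure (Set.range f₀))ᶜ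
      (isProConstructible_of_isLocallyConstructible hcl.compl.isLocallyConstructible)
    have hpre : c.π.app i₀ ⁻¹' Set.range (t ≫ g₀) = ∅ := by
      rw [Set.eq_empty_iff_forall_notMem]
      rintro s ⟨τ, hτ⟩
      rw [Scheme.Hom.comp_apply] at hτ
      obtain ⟨p, hp1, hp2⟩ := Scheme.exists_preimage_of_isPullback hY (t τ) s hτ
      have : p ∈ qY ⁻¹' (closure (Set.range f₀))ᶜ := by
        rw [Set.mem_preimage, hp1, ← ht]
        exact ⟨τ, rfl⟩
      rw [hempty] at this
      exact this
    obtain ⟨j, φ, hj⟩ := exists_preimage_range_eq_empty D c hc (t ≫ g₀) hpre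
    have hflpY : Flat (Limits.pullback.fst g₀ (D.map φ)) :=
      MorphismProperty.pullback_fst _ _ (hfl j i₀ φ)
    refine ⟨j, φ, Limits.pullback f₀ (Limits.pullback.fst g₀ (D.map φ)), Limits.pullback g₀ (D.map φ),
      Limits.pullback.snd _ _, Limits.pullback.snd _ _, Limits.pullback.fst _ _, Limits.pullback.fst _ _,
      IsPullback.of_hasPullback _ _, IsPullback.of_hasPullback _ _, ?_⟩
    rw [isDominant_iff_of_isPullback_flat (IsPullback.of_hasPullback _ _) hpro]
    rw [Set.eq_empty_iff_forall_notMem]
    intro y hy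
    rw [Set.mem_preimage, ← ht] at hy
    obtain ⟨τ, hτ⟩ := hy
    have : Limits.pullback.snd g₀ (D.map φ) y ∈ D.map φ ⁻¹' Set.range (t ≫ g₀) := by
      refine ⟨τ, ?_⟩
      rw [Scheme.Hom.comp_apply, hτ, ← Scheme.Hom.comp_apply, Limits.pullback.condition,
        Scheme.Hom.comp_apply]
    rw [hj] at this
    exact this
  · rintro ⟨j, φ, Xj, Yj, fj, gj, pY, pX, h1, h2, hdom⟩
    have hflpY : Flat pY := MorphismProperty.of_isPullback h1.flip (hfl j i₀ φ)
    rw [isDominant_iff_of_isPullback_flat h2 hpro] at hdom
    let h : Y ⟶ Yj := h1.lift qY (g ≫ c.π.app j) (by rw [Category.assoc, c.w, hY.w])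
    have hh : h ≫ pY = qY := h1.lift_fst _ _ _
    rw [← hh, Scheme.Hom.comp_base, TopCat.coe_comp, Set.preimage_comp, hdom, Set.preimage_empty]

end Groth.Agent.S4800
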