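import Groth.Statements.S4806
import Groth.Agent.S2803
-- import your own Groth.Agent.* helpers here

set_option autoImplicit false
universe u
open CategoryTheory AlgebraicGeometry
open Lim8

namespace Groth.Agent.S4806

/-- Let f : X ⟶ Y be a proper morphism of finite presentation. Then f is a closed immersion if and only
if, for every point y of Y, the scheme-theoretic fibre of f at y is empty or its structure morphism
to Spec κ(y) is an isomorphism. -/
theorem result {X Y : Scheme.{u}} (f : X ⟶ Y) [IsProper f]
    [LocallyOfFinitePresentation f] :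
    IsClosedImmersion f ↔ ∀ y : Y, IsEmpty (f.fiber y) ∨ IsIso (f.fiberToSpecResidueField y) := by
  constructor
  · intro hf y
    have h1 : ∃ U : Y.Opens, y ∈ U ∧ IsClosedImmersion (f ∣_ U) :=
      ⟨⊤, trivial, IsZariskiLocalAtTarget.restrict hf ⊤⟩
    exact ((Groth.Agent.S2803.result f y).mp h1).1
  · intro H
    have key : ∀ y : Y, ∃ U : Y.Opens, y ∈ U ∧ IsClosedImmersion (f ∣_ U) := by
      intro y
      refine (Groth.Agent.S2803.result f y).mpr ⟨H y, ⊤, trivial, ?_⟩
      exact IsZariskiLocalAtTarget.restrict (P := @UniversallyClosed) inferInstance ⊤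
    choose U hyU hU using key
    refine IsZariskiLocalAtTarget.of_iSup_eq_top (P := @IsClosedImmersion) U ?_ hU
    exact top_le_iff.mp fun y _ ↦ TopologicalSpace.Opens.mem_iSup.mpr ⟨y, hyU y⟩

end Groth.Agent.S4806
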