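import Groth.Statements.S4815
import Groth.Agent.Lib.Helper24.Lim8FPMain
import Groth.Agent.Lib.Helper24.Lim8DescendImm
-- import your own Groth.Agent.* helpers here

set_option autoImplicit false
universe u
open CategoryTheory AlgebraicGeometry
open Lim8

namespace Groth.Agent.S4815

/-- Let S = lim S_i be a cofiltered limit of schemes with affine transition maps and S_{i₀} a
quasi-compact quasi-separated stage. Then every subscheme of finite presentation of S, that is every
immersion ι : Z ⟶ S which is locally of finite presentation and quasi-compact, is the base change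
along S ⟶ S_j of an immersion of finite presentation Z_j ⟶ S_j, for some index j over i₀ (the base
change is expressed by a pullback square). -/
theorem result {I : Type u} [SmallCategory I] [IsCofiltered I]
    (D : I ⥤ Scheme.{u}) (c : Limits.Cone D) (hc : Limits.IsLimit c)
    [∀ (i j : I) (f : i ⟶ j), IsAffineHom (D.map f)] (i₀ : I)
    [CompactSpace (D.obj i₀)] [QuasiSeparatedSpace (D.obj i₀)]
    {Z : Scheme.{u}} (ι : Z ⟶ c.pt) [IsImmersion ι] [LocallyOfFinitePresentation ι] [QuasiCompact ι] :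
    ∃ (j : I) (_ : j ⟶ i₀) (Zj : Scheme.{u}) (ιj : Zj ⟶ D.obj j) (q : Z ⟶ Zj),
      IsImmersion ιj ∧ LocallyOfFinitePresentation ιj ∧ QuasiCompact ιj ∧ IsPullback q ι ιj (c.π.app j) := by
  classical
  open Groth.Agent.Lib.Helper24.Lim8 in
  -- restrict to the stages over `i₀`, all of which are qcqs
  let D' : Over i₀ ⥤ Scheme.{u} := pbDiagram D i₀ (𝟙 (D.obj i₀))
  let c' : Limits.Cone D' := pbCone D c i₀ (𝟙 (D.obj i₀))
  have hc' : Limits.IsLimit c' := isLimitPbCone D c hc i₀ (𝟙 (D.obj i₀))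
  have hD'1 : ∀ j, CompactSpace (D'.obj j) :=
    fun j ↦ compactSpace_pbDiagram_obj D i₀ (𝟙 (D.obj i₀)) j
  have hD'2 : ∀ j, QuasiSeparatedSpace (D'.obj j) :=
    fun j ↦ quasiSeparatedSpace_pbDiagram_obj D i₀ (𝟙 (D.obj i₀)) j
  -- the projection `c'.pt ⟶ c.pt`, an isomorphism, and the cartesian squares over it
  obtain ⟨p₀, hp₀, hsq⟩ : ∃ p₀ : c'.pt ⟶ c.pt, IsIso p₀ ∧
      ∀ j : Over i₀, ∃ p : D'.obj j ⟶ D.obj j.left, IsIso p ∧
        IsPullback (c'.π.app j) p₀ p (c.π.app j.left) := by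
    have hiso : IsIso (Limits.pullback.fst (c.π.app i₀) (𝟙 (D.obj i₀))) :=
      Limits.pullback_fst_iso_of_right_iso _ _
    refine ⟨Limits.pullback.fst (c.π.app i₀) (𝟙 (D.obj i₀)), hiso, fun j ↦ ?_⟩
    have hiso2 : IsIso (Limits.pullback.fst (D.map j.hom) (𝟙 (D.obj i₀))) :=
      Limits.pullback_fst_iso_of_right_iso _ _
    exact ⟨Limits.pullback.fst (D.map j.hom) (𝟙 (D.obj i₀)), hiso2,
      isPullback_pbCone_π D c i₀ (𝟙 (D.obj i₀)) j⟩
  obtain ⟨ι', hι'⟩ : ∃ ι' : Z ⟶ c'.pt, ι' ≫ p₀ = ι := ⟨ι ≫ inv p₀, by simp⟩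
  have hι'eq : ι' = ι ≫ inv p₀ := by
    rw [← hι']; simp
  have hι'1 : IsImmersion ι' := by rw [hι'eq]; infer_instance
  have hι'2 : LocallyOfFinitePresentation ι' := by rw [hι'eq]; infer_instance
  have hι'3 : QuasiCompact ι' := by rw [hι'eq]; infer_instance
  have hι'4 : QuasiSeparated ι' := inferInstance
  obtain ⟨l, M, hM⟩ := Model.exists_isFP hc' ι'
  have := hM.lfp
  have := hM.compact
  have := hM.qs
  have hdesc := descends_isImmersion D' c' hc' l M.fi (𝟙 (D'.obj l))
  have hY : IsPullback (c'.π.app l) (𝟙 c'.pt) (𝟙 (D'.obj l)) (c'.π.app l) :=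
    IsPullback.id_vert _
  obtain ⟨j, φ, Xj, Yj, fj, gj, pY, pX, h1, h2, h3⟩ := hdesc.template hY M.sq hι'1
  have hgj : IsIso gj := h1.isIso_snd_of_isIso
  have hfjlfp : LocallyOfFinitePresentation fj :=
    MorphismProperty.of_isPullback (P := @LocallyOfFinitePresentation) h2 hM.lfp
  have hMqc : QuasiCompact M.fi := inferInstance
  have hfjqc : QuasiCompact fj :=
    MorphismProperty.of_isPullback (P := @QuasiCompact) h2 hMqc
  -- the square over the stage `j` of the restricted system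
  have sqA : IsPullback pX (fj ≫ gj) M.fi (D'.map φ) := by
    have := h2.paste_vert h1
    rwa [Category.comp_id] at this
  have hw : M.g ≫ M.fi = (ι' ≫ c'.π.app j) ≫ D'.map φ :=
    calc M.g ≫ M.fi = ι' ≫ c'.π.app l := M.sq.w
      _ = ι' ≫ (c'.π.app j ≫ D'.map φ) := by rw [c'.w]
      _ = _ := (Category.assoc _ _ _).symm
  let q : Z ⟶ Xj := sqA.lift M.g (ι' ≫ c'.π.app j) hw
  have hq1 : q ≫ pX = M.g := sqA.lift_fst _ _ _
  have hq2 : q ≫ fj ≫ gj = ι' ≫ c'.π.app j := sqA.lift_snd _ _ _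
  have sqB : IsPullback q ι' (fj ≫ gj) (c'.π.app j) := by
    refine IsPullback.of_right ?_ hq2 sqA
    rw [hq1, c'.w]
    exact M.sq
  obtain ⟨p, hp, sqC⟩ := hsq j
  have sqD := sqB.paste_vert sqC
  rw [hι'] at sqD
  have k1 : IsImmersion (fj ≫ gj) := inferInstance
  have k2 : LocallyOfFinitePresentation (fj ≫ gj) := inferInstance
  have k3 : QuasiCompact (fj ≫ gj) := inferInstance
  exact ⟨j.left, j.hom, Xj, (fj ≫ gj) ≫ p, q,
    inferInstance, inferInstance, inferInstance, sqD⟩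

end Groth.Agent.S4815
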