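import Groth.Statements.S4816
import Groth.Agent.Lib.Helper24.Lim8Descend
-- import your own Groth.Agent.* helpers here

set_option autoImplicit false
universe u
open CategoryTheory AlgebraicGeometry
open Lim8

namespace Groth.Agent.S4816

open CategoryTheory.Limits in
/-- Let S = lim S_i be a cofiltered limit of schemes with affine transition maps and S_{i₀} a
quasi-compact stage; let ι₁ : Z₁ ⟶ S_{i₀} and ι₂ : Z₂ ⟶ S_{i₀} be two subschemes of finite
presentation of S_{i₀} (immersions which are locally of finite presentation and quasi-compact), with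
base changes Z₁ ×_{S_{i₀}} T ⟶ T to T = S and to T = S_j. Then Z₁ ×_{S_{i₀}} S is a subscheme of Z₂
×_{S_{i₀}} S (its immersion into S factors through that of Z₂ ×_{S_{i₀}} S) if and only if, for some
index j over i₀, Z₁ ×_{S_{i₀}} S_j is a subscheme of Z₂ ×_{S_{i₀}} S_j. -/
theorem result {I : Type u} [SmallCategory I] [IsCofiltered I]
    (D : I ⥤ Scheme.{u}) (c : Limits.Cone D) (hc : Limits.IsLimit c)
    [∀ (i j : I) (f : i ⟶ j), IsAffineHom (D.map f)] (i₀ : I) [CompactSpace (D.obj i₀)]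
    {Z₁ Z₂ : Scheme.{u}} (ι₁ : Z₁ ⟶ D.obj i₀) (ι₂ : Z₂ ⟶ D.obj i₀)
    [IsImmersion ι₁] [LocallyOfFinitePresentation ι₁] [QuasiCompact ι₁]
    [IsImmersion ι₂] [LocallyOfFinitePresentation ι₂] [QuasiCompact ι₂] :
    (∃ k : pullback ι₁ (c.π.app i₀) ⟶ pullback ι₂ (c.π.app i₀),
        k ≫ pullback.snd ι₂ (c.π.app i₀) = pullback.snd ι₁ (c.π.app i₀)) ↔
      ∃ (j : I) (φ : j ⟶ i₀) (k : pullback ι₁ (D.map φ) ⟶ pullback ι₂ (D.map φ)),
        k ≫ pullback.snd ι₂ (D.map φ) = pullback.snd ι₁ (D.map φ) := by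
  classical
  open Groth.Agent.Lib.Helper24.Lim8 in
  constructor
  · rintro ⟨k, hk⟩
    -- the base change `Z₁ ×_{S_{i₀}} Z₂ ⟶ Z₁` of `ι₂`
    let f₀ : pullback ι₁ ι₂ ⟶ Z₁ := pullback.fst ι₁ ι₂
    let Y : Scheme.{u} := pullback ι₁ (c.π.app i₀)
    let qY : Y ⟶ Z₁ := pullback.fst ι₁ (c.π.app i₀)
    let g : Y ⟶ c.pt := pullback.snd ι₁ (c.π.app i₀)
    have hY : IsPullback qY g ι₁ (c.π.app i₀) := IsPullback.of_hasPullback _ _
    let X : Scheme.{u} := pullback f₀ qY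
    let f : X ⟶ Y := pullback.snd f₀ qY
    let qX : X ⟶ pullback ι₁ ι₂ := pullback.fst f₀ qY
    have hX : IsPullback qX f f₀ qY := IsPullback.of_hasPullback _ _
    have hf₀mono : Mono f₀ := inferInstance
    have hfmono : Mono f := inferInstance
    -- the section given by `k`
    have hw1 : qY ≫ ι₁ = (k ≫ pullback.fst ι₂ (c.π.app i₀)) ≫ ι₂ := by
      calc qY ≫ ι₁ = pullback.snd ι₁ (c.π.app i₀) ≫ c.π.app i₀ := pullback.condition
        _ = (k ≫ pullback.snd ι₂ (c.π.app i₀)) ≫ c.π.app i₀ := by rw [hk]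
        _ = k ≫ pullback.fst ι₂ (c.π.app i₀) ≫ ι₂ := by
            rw [Category.assoc, ← pullback.condition]
        _ = _ := (Category.assoc _ _ _).symm
    let s₀ : Y ⟶ pullback ι₁ ι₂ := pullback.lift qY (k ≫ pullback.fst ι₂ (c.π.app i₀)) hw1
    have hs₀ : s₀ ≫ f₀ = 𝟙 Y ≫ qY := by
      rw [Category.id_comp]; exact pullback.lift_fst _ _ _
    let s : Y ⟶ X := pullback.lift s₀ (𝟙 Y) hs₀
    have hs : s ≫ f = 𝟙 Y := pullback.lift_snd _ _ _
    have hfs : f ≫ s = 𝟙 X := by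
      rw [← cancel_mono f, Category.assoc, hs, Category.comp_id, Category.id_comp]
    have hfiso : IsIso f := ⟨s, hfs, hs⟩
    have hZ₁ : CompactSpace Z₁ := QuasiCompact.compactSpace_of_compactSpace ι₁
    have hf₀1 : LocallyOfFinitePresentation f₀ := inferInstance
    have hf₀2 : QuasiCompact f₀ := inferInstance
    have hdesc := descends_isomorphisms D c hc i₀ f₀ ι₁
    obtain ⟨j, φ, Xj, Yj, fj, gj, pY, pX, h1, h2, h3⟩ := hdesc.template hY hX hfiso
    have hfj : IsIso fj := h3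
    let a : pullback ι₁ (D.map φ) ⟶ Yj :=
      h1.lift (pullback.fst ι₁ (D.map φ)) (pullback.snd ι₁ (D.map φ)) pullback.condition
    have ha1 : a ≫ pY = pullback.fst ι₁ (D.map φ) := h1.lift_fst _ _ _
    have hw2 : (a ≫ inv fj ≫ pX ≫ pullback.snd ι₁ ι₂) ≫ ι₂ =
        pullback.snd ι₁ (D.map φ) ≫ D.map φ := by
      have e1 : pX ≫ pullback.fst ι₁ ι₂ = fj ≫ pY := h2.w
      calc (a ≫ inv fj ≫ pX ≫ pullback.snd ι₁ ι₂) ≫ ι₂
          = a ≫ inv fj ≫ pX ≫ pullback.snd ι₁ ι₂ ≫ ι₂ := by simp only [Category.assoc]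
        _ = a ≫ inv fj ≫ pX ≫ pullback.fst ι₁ ι₂ ≫ ι₁ := by rw [pullback.condition]
        _ = a ≫ inv fj ≫ (pX ≫ pullback.fst ι₁ ι₂) ≫ ι₁ := by simp only [Category.assoc]
        _ = a ≫ inv fj ≫ (fj ≫ pY) ≫ ι₁ := by rw [e1]
        _ = (a ≫ pY) ≫ ι₁ := by simp
        _ = pullback.fst ι₁ (D.map φ) ≫ ι₁ := by rw [ha1]
        _ = _ := pullback.condition
    exact ⟨j, φ, pullback.lift (a ≫ inv fj ≫ pX ≫ pullback.snd ι₁ ι₂) (pullback.snd ι₁ (D.map φ)) hw2,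
      pullback.lift_snd _ _ _⟩
  · rintro ⟨j, φ, k, hk⟩
    have hcw : c.π.app j ≫ D.map φ = c.π.app i₀ := c.w φ
    have hw1 : pullback.fst ι₁ (c.π.app i₀) ≫ ι₁ =
        (pullback.snd ι₁ (c.π.app i₀) ≫ c.π.app j) ≫ D.map φ := by
      rw [Category.assoc, hcw]; exact pullback.condition
    let b : pullback ι₁ (c.π.app i₀) ⟶ pullback ι₁ (D.map φ) :=
      pullback.lift (pullback.fst ι₁ (c.π.app i₀)) (pullback.snd ι₁ (c.π.app i₀) ≫ c.π.app j) hw1
    have hb2 : b ≫ pullback.snd ι₁ (D.map φ) = pullback.snd ι₁ (c.π.app i₀) ≫ c.π.app j :=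
      pullback.lift_snd _ _ _
    have hw2 : (b ≫ k ≫ pullback.fst ι₂ (D.map φ)) ≫ ι₂ =
        pullback.snd ι₁ (c.π.app i₀) ≫ c.π.app i₀ := by
      calc (b ≫ k ≫ pullback.fst ι₂ (D.map φ)) ≫ ι₂
          = b ≫ k ≫ pullback.fst ι₂ (D.map φ) ≫ ι₂ := by simp only [Category.assoc]
        _ = b ≫ (k ≫ pullback.snd ι₂ (D.map φ)) ≫ D.map φ := by
            rw [pullback.condition]; simp only [Category.assoc]
        _ = (b ≫ pullback.snd ι₁ (D.map φ)) ≫ D.map φ := by rw [hk]; simp only [Category.assoc]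
        _ = (pullback.snd ι₁ (c.π.app i₀) ≫ c.π.app j) ≫ D.map φ := by rw [hb2]
        _ = _ := by rw [Category.assoc, hcw]
    exact ⟨pullback.lift (b ≫ k ≫ pullback.fst ι₂ (D.map φ)) (pullback.snd ι₁ (c.π.app i₀)) hw2,
      pullback.lift_snd _ _ _⟩

end Groth.Agent.S4816
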