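import Groth.Statements.S4817
import Groth.Agent.Lib.Helper24.Lim8IsoDescent
import Groth.Agent.Lib.Helper24.Lim8LC
import Mathlib.AlgebraicGeometry.Morphisms.Immersion
import Mathlib.AlgebraicGeometry.Morphisms.IsIso
-- import your own Groth.Agent.* helpers here

set_option autoImplicit false
universe u
open CategoryTheory AlgebraicGeometry
open Lim8

namespace Groth.Agent.S4817

open Groth.Agent.Lib.Helper24.Lim8 Limits

/-- If `f ≫ g` is quasi-compact and `f` is surjective then `g` is quasi-compact. -/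
lemma quasiCompact_of_comp_surjective {X Y Z : Scheme.{u}} (f : X ⟶ Y) (g : Y ⟶ Z)
    [QuasiCompact (f ≫ g)] (hf : Function.Surjective f) : QuasiCompact g := by
  refine ⟨fun U hU hUc ↦ ?_⟩
  have : g ⁻¹' U = f '' ((f ≫ g) ⁻¹' U) := by
    ext y
    constructor
    · intro hy
      obtain ⟨x, rfl⟩ := hf y
      exact ⟨x, by simpa using hy, rfl⟩
    · rintro ⟨x, hx, rfl⟩
      simpa using hx
  rw [this]
  exact (QuasiCompact.isCompact_preimage (f := f ≫ g) U hU hUc).image f.continuous

/-- Transitivity of base change, in the form used below. -/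
lemma exists_iso_pullback_snd {Z₀ B S' T : Scheme.{u}} (ι₀ : Z₀ ⟶ B) (d : S' ⟶ B) (t : T ⟶ S') :
    ∃ e : pullback t (pullback.snd ι₀ d) ≅ pullback ι₀ (t ≫ d),
      e.hom ≫ pullback.snd ι₀ (t ≫ d) = pullback.fst t (pullback.snd ι₀ d) := by
  have h1 : IsPullback (pullback.snd t (pullback.snd ι₀ d)) (pullback.fst t (pullback.snd ι₀ d))
      (pullback.snd ι₀ d) t := (IsPullback.of_hasPullback _ _).flip
  have h2 : IsPullback (pullback.fst ι₀ d) (pullback.snd ι₀ d) ι₀ d := IsPullback.of_hasPullback _ _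
  have h3 := h1.paste_horiz h2
  have h4 : IsPullback (pullback.fst ι₀ (t ≫ d)) (pullback.snd ι₀ (t ≫ d)) ι₀ (t ≫ d) :=
    IsPullback.of_hasPullback _ _
  exact ⟨h3.isoIsPullback _ _ h4, IsPullback.isoIsPullback_hom_snd _ _ h3 h4⟩

lemma exists_iso_pullback_snd' {Z₀ B S' T : Scheme.{u}} (ι₀ : Z₀ ⟶ B) (d : S' ⟶ B) (t : T ⟶ S')
    (q' : pullback ι₀ d ⟶ S') (hq : q' = pullback.snd ι₀ d) (d' : T ⟶ B) (hd : d' = t ≫ d) :
    ∃ e : pullback t q' ≅ pullback ι₀ d',
      e.hom ≫ pullback.snd ι₀ d' = pullback.fst t q' := by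
  subst hq hd
  exact exists_iso_pullback_snd ι₀ d t

open CategoryTheory.Limits in
/-- Let S = lim S_i be a cofiltered limit of schemes with affine transition maps and S_{i₀} a
quasi-compact stage; let ι₀ : Z₀ ⟶ S_{i₀} be a subscheme of finite presentation (an immersion which
is locally of finite presentation and quasi-compact). Then the base change Z₀ ×_{S_{i₀}} S ⟶ S of ι₀
is an open immersion if and only if, for some index j over i₀, the base change Z₀ ×_{S_{i₀}} S_j ⟶
S_j is an open immersion. This is the case of open subschemes. -/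
theorem result {I : Type u} [SmallCategory I] [IsCofiltered I]
    (D : I ⥤ Scheme.{u}) (c : Limits.Cone D) (hc : Limits.IsLimit c)
    [∀ (i j : I) (f : i ⟶ j), IsAffineHom (D.map f)] (i₀ : I) [CompactSpace (D.obj i₀)]
    {Z₀ : Scheme.{u}} (ι₀ : Z₀ ⟶ D.obj i₀) [IsImmersion ι₀] [LocallyOfFinitePresentation ι₀] [QuasiCompact ι₀] :
    IsOpenImmersion (pullback.snd ι₀ (c.π.app i₀)) ↔
      ∃ (j : I) (φ : j ⟶ i₀), IsOpenImmersion (pullback.snd ι₀ (D.map φ)) := by
  have hE : Topology.IsLocallyConstructible (Set.range ι₀) := by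
    rw [← Set.image_univ]
    exact ι₀.isLocallyConstructible_image Topology.IsLocallyConstructible.univ
  constructor
  · intro hp
    have hopen : IsOpen (c.π.app i₀ ⁻¹' Set.range ι₀) := by
      rw [← Scheme.Pullback.range_snd]
      exact (Limits.pullback.snd ι₀ (c.π.app i₀)).isOpenEmbedding.isOpen_range
    obtain ⟨j, φ, hj⟩ := (isOpen_preimage_iff_of_isLocallyConstructible D c hc i₀ (Set.range ι₀)
      hE).mp hopen
    have hcptj : CompactSpace (D.obj j) := compactSpace_of_hom D φ
    let V : (D.obj j).Opens := ⟨D.map φ ⁻¹' Set.range ι₀, hj⟩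
    set q := Limits.pullback.snd ι₀ (D.map φ) with hq
    have hrq : Set.range q = (V : Set (D.obj j)) := Scheme.Pullback.range_snd ι₀ (D.map φ)
    have hsub : Set.range q ⊆ Set.range V.ι := by
      rw [hrq, Scheme.Opens.range_ι]
    set f₀ := IsOpenImmersion.lift V.ι q hsub with hf₀
    have hfac : f₀ ≫ V.ι = q := IsOpenImmersion.lift_fac _ _ _
    have hsurj : Function.Surjective f₀ := by
      intro v
      have hv : V.ι v ∈ Set.range q := by rw [hrq]; exact v.2
      obtain ⟨z, hz⟩ := hv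
      refine ⟨z, V.ι.isOpenEmbedding.injective ?_⟩
      rw [← Scheme.Hom.comp_apply, hfac, hz]
    have iq1 : LocallyOfFinitePresentation q :=
      MorphismProperty.pullback_snd (P := @LocallyOfFinitePresentation) _ _ inferInstance
    have iq2 : QuasiCompact q :=
      MorphismProperty.pullback_snd (P := @QuasiCompact) _ _ inferInstance
    have i4 : LocallyOfFinitePresentation (f₀ ≫ V.ι) := by rw [hfac]; exact iq1
    have i5 : QuasiCompact (f₀ ≫ V.ι) := by rw [hfac]; exact iq2
    have i2 : QuasiCompact V.ι := quasiCompact_of_comp_surjective f₀ V.ι hsurj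
    have hsurj' : Surjective f₀ := ⟨hsurj⟩
    -- the base change to the limit is an isomorphism
    have hiso : IsIso (bcMap (c.π.app j) f₀ V.ι) := by
      have h1 : IsOpenImmersion (Limits.pullback.fst (c.π.app j) (f₀ ≫ V.ι)) := by
        obtain ⟨e, he⟩ := exists_iso_pullback_snd' ι₀ (D.map φ) (c.π.app j) (f₀ ≫ V.ι) hfac
          (c.π.app i₀) (c.w φ).symm
        rw [← he]
        infer_instance
      have h2 : IsOpenImmersion (bcMap (c.π.app j) f₀ V.ι ≫
          Limits.pullback.fst (c.π.app j) V.ι) := by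
        rw [bcMap_fst]; exact h1
      have h3 : IsOpenImmersion (bcMap (c.π.app j) f₀ V.ι) :=
        IsOpenImmersion.of_comp _ (Limits.pullback.fst (c.π.app j) V.ι)
      have h4 : Surjective (bcMap (c.π.app j) f₀ V.ι) :=
        MorphismProperty.of_isPullback (P := @Surjective) (isPullback_bcMap (c.π.app j) f₀ V.ι)
          hsurj'
      exact (isIso_iff_isOpenImmersion_and_surjective _).mpr ⟨h3, h4⟩
    obtain ⟨k, ψ, hk⟩ := exists_isIso_bcMap D c hc j f₀ V.ι
    refine ⟨k, ψ ≫ φ, ?_⟩
    obtain ⟨e, he⟩ := exists_iso_pullback_snd' ι₀ (D.map φ) (D.map ψ) (f₀ ≫ V.ι) hfac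
      (D.map (ψ ≫ φ)) (D.map_comp ψ φ)
    have e2 : Limits.pullback.snd ι₀ (D.map (ψ ≫ φ)) =
        e.inv ≫ Limits.pullback.fst (D.map ψ) (f₀ ≫ V.ι) := by
      rw [← he, Iso.inv_hom_id_assoc]
    have h5 : IsOpenImmersion (Limits.pullback.fst (D.map ψ) (f₀ ≫ V.ι)) := by
      rw [← bcMap_fst (D.map ψ) f₀ V.ι]
      infer_instance
    rw [e2]
    infer_instance
  · rintro ⟨j, φ, hj⟩
    obtain ⟨e, he⟩ := exists_iso_pullback_snd' ι₀ (D.map φ) (c.π.app j)
      (Limits.pullback.snd ι₀ (D.map φ)) rfl (c.π.app i₀) (c.w φ).symm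
    have : Limits.pullback.snd ι₀ (c.π.app i₀) =
        e.inv ≫ Limits.pullback.fst (c.π.app j) (Limits.pullback.snd ι₀ (D.map φ)) := by
      rw [← he, Iso.inv_hom_id_assoc]
    rw [this]
    infer_instance

end Groth.Agent.S4817
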