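import Groth.Statements.S4818
import Groth.Agent.Lib.Helper24.Lim8LC
import Mathlib.AlgebraicGeometry.Morphisms.Immersion
-- import your own Groth.Agent.* helpers here

set_option autoImplicit false
universe u
open CategoryTheory AlgebraicGeometry
open Lim8

namespace Groth.Agent.S4818

open CategoryTheory.Limits in
/-- Let S = lim S_i be a cofiltered limit of schemes with affine transition maps and S_{i₀} a
quasi-compact stage; let ι₀ : Z₀ ⟶ S_{i₀} be a subscheme of finite presentation (an immersion which
is locally of finite presentation and quasi-compact). Then the base change Z₀ ×_{S_{i₀}} S ⟶ S of ι₀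
is a closed immersion if and only if, for some index j over i₀, the base change Z₀ ×_{S_{i₀}} S_j ⟶
S_j is a closed immersion. This is the case of closed subschemes. -/
theorem result {I : Type u} [SmallCategory I] [IsCofiltered I]
    (D : I ⥤ Scheme.{u}) (c : Limits.Cone D) (hc : Limits.IsLimit c)
    [∀ (i j : I) (f : i ⟶ j), IsAffineHom (D.map f)] (i₀ : I) [CompactSpace (D.obj i₀)]
    {Z₀ : Scheme.{u}} (ι₀ : Z₀ ⟶ D.obj i₀) [IsImmersion ι₀] [LocallyOfFinitePresentation ι₀] [QuasiCompact ι₀] :
    IsClosedImmersion (pullback.snd ι₀ (c.π.app i₀)) ↔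
      ∃ (j : I) (φ : j ⟶ i₀), IsClosedImmersion (pullback.snd ι₀ (D.map φ)) := by
  have hE : Topology.IsLocallyConstructible (Set.range ι₀) := by
    rw [← Set.image_univ]
    exact ι₀.isLocallyConstructible_image Topology.IsLocallyConstructible.univ
  have key := Groth.Agent.Lib.Helper24.Lim8.isClosed_preimage_iff_of_isLocallyConstructible D c hc
    i₀ (Set.range ι₀) hE
  have hr : ∀ {T : Scheme.{u}} (g : T ⟶ D.obj i₀),
      IsClosedImmersion (Limits.pullback.snd ι₀ g) ↔ IsClosed (g ⁻¹' Set.range ι₀) := by
    intro T g
    rw [← Scheme.Pullback.range_snd]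
    constructor
    · intro h
      exact (Limits.pullback.snd ι₀ g).isClosedEmbedding.isClosed_range
    · intro h
      exact IsClosedImmersion.of_isPreimmersion _ h
  rw [hr, key]
  exact exists_congr fun j ↦ exists_congr fun φ ↦ (hr _).symm

end Groth.Agent.S4818
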