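import Groth.Statements.S4821
import Mathlib.RingTheory.MvPolynomial.Localization
import Mathlib.RingTheory.Localization.Integer
-- import your own Groth.Agent.* helpers here

set_option autoImplicit false
universe u
open Cons9

namespace Groth.Agent.S4821

attribute [local instance] MvPolynomial.algebraMvPolynomial in
/-- Clearing denominators: if `1` lies in the ideal generated by the images of `P` over the
fraction field then some nonzero constant lies in the ideal generated by `P`. -/
lemma exists_C_mem_span {A : Type u} [CommRing A] [IsDomain A] {m : ℕ}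
    (P : Finset (MvPolynomial (Fin m) A))
    (hη : Ideal.span ((MvPolynomial.map (algebraMap A (FractionRing A))) ''
      (P : Set (MvPolynomial (Fin m) A))) = ⊤) :
    ∃ a : A, a ≠ 0 ∧ MvPolynomial.C a ∈ Ideal.span (P : Set (MvPolynomial (Fin m) A)) := by
  classical
  have h1 : (1 : MvPolynomial (Fin m) (FractionRing A)) ∈
      Submodule.span (MvPolynomial (Fin m) (FractionRing A))
        ((MvPolynomial.map (algebraMap A (FractionRing A))) ''
          (P : Set (MvPolynomial (Fin m) A))) := by
    change _ ∈ Ideal.span _
    rw [hη]; trivial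
  rw [Finsupp.mem_span_image_iff_linearCombination] at h1
  obtain ⟨l, hl, hsum⟩ := h1
  obtain ⟨b, hb⟩ := IsLocalization.exist_integer_multiples
    ((nonZeroDivisors A).map (MvPolynomial.C (σ := Fin m))) P (fun p ↦ l p)
  obtain ⟨a, ha, hab⟩ := Submonoid.mem_map.mp b.2
  choose! q hq using hb
  refine ⟨a, nonZeroDivisors.ne_zero ha, ?_⟩
  have key : MvPolynomial.C a = ∑ p ∈ P, q p * p := by
    apply MvPolynomial.map_injective _ (IsFractionRing.injective A (FractionRing A))
    rw [map_sum]
    have h2 : ∀ p ∈ P, MvPolynomial.map (algebraMap A (FractionRing A)) (q p * p) =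
        MvPolynomial.map (algebraMap A (FractionRing A)) (MvPolynomial.C a) *
          (l p * MvPolynomial.map (algebraMap A (FractionRing A)) p) := by
      intro p hp
      have := hq p hp
      rw [map_mul, ← mul_assoc]
      congr 1
      rw [MvPolynomial.algebraMap_def] at this
      rw [this, Algebra.smul_def, MvPolynomial.algebraMap_def, ← hab]
    rw [Finset.sum_congr rfl h2, ← Finset.mul_sum]
    have h3 : ∑ p ∈ P, l p * MvPolynomial.map (algebraMap A (FractionRing A)) p = 1 := by
      rw [← hsum, Finsupp.linearCombination_apply, Finsupp.sum_of_support_subset _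
        ((Finsupp.mem_supported _ _).mp hl)]
      · rfl
      · intro i _; simp
    rw [h3, mul_one]
  rw [key]
  exact Submodule.sum_mem _ fun p hp ↦ Ideal.mul_mem_left _ _ (Ideal.subset_span hp)

/-- Let A be an integral domain with fraction field K, and (P_i) a finite family of polynomials in
A[T_1, …, T_m], generating an ideal 𝔞; for a point s of Spec A write 𝔞_s for the ideal of κ(s)[T_1,
…, T_m] generated by the images of the P_i. If the zero locus of 𝔞_η in affine m-space over K = κ(η)
is empty, that is if 𝔞_η is the unit ideal, then there is an open neighbourhood D(f) (f ≠ 0) of the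
generic point such that 𝔞_s is the unit ideal (its zero locus is empty) for every s in D(f). -/
theorem result {A : Type u} [CommRing A] [IsDomain A] {m : ℕ}
    (P : Finset (MvPolynomial (Fin m) A))
    (hη : Ideal.span ((MvPolynomial.map (algebraMap A (FractionRing A))) '' (P : Set (MvPolynomial (Fin m) A))) = ⊤) :
    ∃ f : A, f ≠ 0 ∧ ∀ p : PrimeSpectrum A, f ∉ p.asIdeal →
      Ideal.span ((MvPolynomial.map (algebraMap A p.asIdeal.ResidueField)) '' (P : Set (MvPolynomial (Fin m) A))) = ⊤ := by
  obtain ⟨a, ha, hmem⟩ := exists_C_mem_span P hη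
  refine ⟨a, ha, fun p hp ↦ ?_⟩
  rw [Ideal.eq_top_iff_one]
  have h1 : MvPolynomial.map (algebraMap A p.asIdeal.ResidueField) (MvPolynomial.C a) ∈
      Ideal.span ((MvPolynomial.map (algebraMap A p.asIdeal.ResidueField)) ''
        (P : Set (MvPolynomial (Fin m) A))) := by
    rw [← Ideal.map_span]
    exact Ideal.mem_map_of_mem _ hmem
  rw [MvPolynomial.map_C] at h1
  have hne : algebraMap A p.asIdeal.ResidueField a ≠ 0 := by
    intro h0
    apply hp
    rwa [← Ideal.algebraMap_residueField_eq_zero]
  have h2 := Ideal.mul_mem_left _ (MvPolynomial.C (algebraMap A p.asIdeal.ResidueField a)⁻¹) h1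
  rwa [← MvPolynomial.C_mul, inv_mul_cancel₀ hne, MvPolynomial.C_1] at h2

end Groth.Agent.S4821
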