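import Groth.Statements.S4826
import Groth.Agent.Lib.Helper7.GUCons5
import Groth.Agent.Lib.Helper69.GUBiratSch

set_option autoImplicit false
open CategoryTheory AlgebraicGeometry
universe u
open Cons9

namespace Groth.Agent.S4826

/-- Let X be a locally Noetherian scheme whose reduction has a normalization finite over X: for every
affine open U of X, the integral closure of Γ(U)_red in its total ring of fractions is a finite
module over Γ(U)_red. Then the set of points x of X at which X is geometrically unibranch (the local
ring O_{X,x} is geometrically unibranch) is locally constructible in X. -/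
theorem result (X : Scheme.{u}) [IsLocallyNoetherian X]
    (hfin : ∀ U : X.affineOpens, Module.Finite (CAlg2.red Γ(X, U.1)) (CAlg2.normRed Γ(X, U.1))) :
    Topology.IsLocallyConstructible {x : X | CAlg2.IsGeomUnibranch (X.presheaf.stalk x)} := by
  apply Groth.Agent.Lib.Helper7.GUCons.isLocallyConstructible_of_affineOpens
  intro U
  haveI : IsNoetherianRing Γ(X, U.1) := IsLocallyNoetherian.component_noetherian U
  have h := Groth.Agent.Lib.Helper7.GUCons.isLocallyConstructible_geomUnibranch_spec Γ(X, U.1) (hfin U)
  refine (congrArg Topology.IsLocallyConstructible (Set.ext fun p => ?_)).mpr h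
  exact Groth.Agent.Lib.Helper69.GUBiratSch.isGeomUnibranch_stalk_iff U.2 p

end Groth.Agent.S4826
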