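import Groth.Statements.S4837
import Mathlib
import Groth.Prelude.Def_RelSpec
import Groth.Prelude.Def_AffAlg
import Groth.Agent.S8255
import Groth.Agent.S3569
-- import your own Groth.Agent.* helpers here

set_option autoImplicit false
open CategoryTheory AlgebraicGeometry
universe u
open Lim8

namespace Groth.Agent.S4837
open CategoryTheory AlgebraicGeometry CategoryTheory.Limits TopologicalSpace Opposite


/-- injectivity on affine opens implies injectivity on all opens. -/
lemma app_injective_of_affine {X Z : Scheme.{u}} (g : X ⟶ Z)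
    (h : ∀ W : Z.affineOpens, Function.Injective (g.app W.1).hom) (W' : Z.Opens) :
    Function.Injective (g.app W').hom := by
  rw [injective_iff_map_eq_zero]
  intro s hs
  refine Z.sheaf.eq_of_locally_eq' (fun W : {W : Z.affineOpens // W.1 ≤ W'} => W.1.1) W'
    (fun W => homOfLE W.2) ?_ _ _ ?_
  · intro z hz
    obtain ⟨_, ⟨W, hW : IsAffineOpen W, rfl⟩, hzW, hWW'⟩ :=
      Z.isBasis_affineOpens.exists_subset_of_mem_open hz W'.2
    exact TopologicalSpace.Opens.mem_iSup.mpr ⟨⟨⟨W, hW⟩, hWW'⟩, hzW⟩
  · intro W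
    apply h W.1
    have hn := g.naturality (homOfLE W.2).op
    have := congrArg (fun φ => φ.hom s) hn
    simp only [CommRingCat.hom_comp, RingHom.comp_apply] at this
    show (g.app W.1.1).hom ((Z.presheaf.map (homOfLE W.2).op).hom s) =
      (g.app W.1.1).hom ((Z.presheaf.map (homOfLE W.2).op).hom 0)
    rw [map_zero, map_zero]
    refine this.trans ?_
    rw [hs, map_zero]


/-- Let f : X ⟶ Y be a quasi-compact quasi-separated morphism, C a quasi-coherent O_Y-algebra with
relative spectrum Z = Spec(C) over Y, g : X ⟶ Z a Y-morphism which is an immersion, and φ : C ⟶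
f_*O_X the homomorphism of O_Y-algebras corresponding to g (the canonical identification of C with
the direct image of O_Z followed by the map induced by g). Then the scheme-theoretic image of g is
the whole of Z, i.e. the kernel ideal of g vanishes, if and only if φ is injective; and when this
holds g is an open immersion. -/
theorem result {X Y : Scheme.{u}} (f : X ⟶ Y)
    [QuasiCompact f] [QuasiSeparated f] (C : RelSpec.QCAlg Y) (g : X ⟶ C.spec) (w : g ≫ C.π = f)
    [IsImmersion g] (φ : C ⟶ RelSpec.QCAlg.directImage f)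
    (hφ : C.gammaMap ≫ φ.hom = AffAlg.algHom C.π f g w) :
    (g.ker = ⊥ ↔ ∀ U : Y.Opens, Function.Injective (φ.hom.app (Opposite.op U)).hom) ∧
      (g.ker = ⊥ → IsOpenImmersion g) := by
  haveI : QuasiCompact (g ≫ C.π) := by rw [w]; infer_instance
  haveI : QuasiCompact g := QuasiCompact.of_comp g C.π
  haveI : IsIso C.gammaMap := Groth.Agent.S8255.result C
  have hpre : ∀ U : Y.Opens, g ⁻¹ᵁ (C.π ⁻¹ᵁ U) = f ⁻¹ᵁ U := by
    intro U
    ext x
    show C.π (g x) ∈ U ↔ f x ∈ U
    have := congrArg (fun ψ => ψ x) w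
    simp only [Scheme.Hom.comp_apply] at this
    rw [this]
  -- relation between φ and g
  have hrel : ∀ U : Y.Opens, C.gammaMap.app (op U) ≫ φ.hom.app (op U) =
      g.app (C.π ⁻¹ᵁ U) ≫ X.presheaf.map (homOfLE (hpre U).ge).op := by
    intro U
    have : C.gammaMap.app (op U) ≫ φ.hom.app (op U) = (AffAlg.algHom C.π f g w).app (op U) :=
      congrArg (fun ψ => ψ.app (op U)) hφ
    rw [this, Groth.Agent.S3569.algHom_app, ← Scheme.Hom.appLE_eq_app, Scheme.Hom.appLE_map]
  have hiso : ∀ U : Y.Opens, Function.Bijective (X.presheaf.map (homOfLE (hpre U).ge).op).hom := by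
    intro U
    have : IsIso (X.presheaf.map (homOfLE (hpre U).ge).op) := by
      refine ⟨⟨X.presheaf.map (homOfLE (hpre U).le).op, ?_, ?_⟩⟩
      · rw [← Functor.map_comp]
        exact (congrArg _ (Subsingleton.elim _ _)).trans (X.presheaf.map_id _)
      · rw [← Functor.map_comp]
        exact (congrArg _ (Subsingleton.elim _ _)).trans (X.presheaf.map_id _)
    exact (ConcreteCategory.isIso_iff_bijective _).mp this
  have hγ : ∀ U : Y.Opens, Function.Bijective (C.gammaMap.app (op U)).hom := fun U =>
    (ConcreteCategory.isIso_iff_bijective _).mp inferInstance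
  have hinj_iff : ∀ U : Y.Opens, Function.Injective (φ.hom.app (op U)).hom ↔
      Function.Injective (g.app (C.π ⁻¹ᵁ U)).hom := by
    intro U
    have h1 : ∀ s, (φ.hom.app (op U)).hom ((C.gammaMap.app (op U)).hom s) =
        (X.presheaf.map (homOfLE (hpre U).ge).op).hom ((g.app (C.π ⁻¹ᵁ U)).hom s) := fun s =>
      congrArg (fun ψ => ψ.hom s) (hrel U)
    constructor
    · intro hi a b hab
      apply (hγ U).1
      apply hi
      rw [h1, h1]
      exact congrArg _ hab
    · intro hi a b hab
      obtain ⟨a', rfl⟩ := (hγ U).2 a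
      obtain ⟨b', rfl⟩ := (hγ U).2 b
      rw [h1, h1] at hab
      rw [hi ((hiso U).1 hab)]
  refine ⟨⟨?_, ?_⟩, ?_⟩
  · intro hker U
    rw [hinj_iff]
    apply app_injective_of_affine
    intro W
    rw [injective_iff_map_eq_zero]
    intro s hs
    have : s ∈ g.ker.ideal W := by
      rw [Scheme.Hom.ker_apply]; exact hs
    rw [hker] at this
    exact this
  · intro hinj
    refine Scheme.IdealSheafData.ext_of_iSup_eq_top
      (fun U : Y.affineOpens => (⟨C.π ⁻¹ᵁ U.1, U.2.preimage C.π⟩ : C.spec.affineOpens)) ?_ ?_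
    · rw [eq_top_iff]
      intro z _
      obtain ⟨_, ⟨V, hV : IsAffineOpen V, rfl⟩, hzV, -⟩ :=
        Y.isBasis_affineOpens.exists_subset_of_mem_open (Set.mem_univ (C.π z)) isOpen_univ
      exact TopologicalSpace.Opens.mem_iSup.mpr ⟨⟨V, hV⟩, hzV⟩
    · intro U
      rw [Scheme.Hom.ker_apply]
      exact (RingHom.injective_iff_ker_eq_bot _).mp ((hinj_iff U.1).mp (hinj U.1))
  · intro hker
    have h1 : g = g.toImage ≫ g.imageι := g.toImage_imageι.symm
    haveI : IsIso g.imageι := by
      rw [Scheme.Hom.imageι, Scheme.isIso_subschemeι_iff_eq_bot]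
      exact hker
    rw [h1]
    infer_instance

end Groth.Agent.S4837
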