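import Groth.Statements.S4842
import Groth.Agent.Lib.Helper24.Lim8
import Groth.Agent.Lib.Helper24.CompTop
-- import your own Groth.Agent.* helpers here

set_option autoImplicit false
universe u
open CategoryTheory AlgebraicGeometry
open Lim8

namespace Groth.Agent.S4842

/-- Let S = lim S_i be a cofiltered limit of schemes whose transition maps are affine and topological
embeddings (homeomorphisms onto subspaces), some stage S_{i₀} having Noetherian underlying space,
and assume that the underlying space of S is Noetherian. Then there is an index i over i₀ such that,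
for every j over i, the map sending a connected component C of S to the closure of its image under S
⟶ S_j is a bijection from the set of connected components of S onto the set of connected components
of S_j. -/
theorem result {I : Type u} [SmallCategory I] [IsCofiltered I]
    (D : I ⥤ Scheme.{u}) (c : Limits.Cone D) (hc : Limits.IsLimit c)
    [∀ (i j : I) (f : i ⟶ j), IsAffineHom (D.map f)] (i₀ : I)
    [TopologicalSpace.NoetherianSpace (D.obj i₀)] [TopologicalSpace.NoetherianSpace c.pt]
    (he : ∀ (i j : I) (φ : i ⟶ j), Topology.IsEmbedding ⇑(D.map φ)) :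
    ∃ (i : I) (_ : i ⟶ i₀), ∀ (j : I) (_ : j ⟶ i),
      Set.BijOn (fun C : Set c.pt => closure (⇑(c.π.app j) '' (C : Set c.pt) : Set (D.obj j)))
        (Set.range (connectedComponent : c.pt → Set c.pt)) (Set.range (connectedComponent : D.obj j → Set (D.obj j))) := by
  open Groth.Agent.Lib.Helper24.Lim8 Groth.Agent.Lib.Helper24.CompTop in
  have hfin : (Set.range (connectedComponent : c.pt → Set c.pt)).Finite :=
    finite_range_connectedComponent
  have hemb := Groth.Agent.Lib.Helper24.Lim8.isEmbedding_π_app D c hc he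
  set R : Set (Set c.pt) := Set.range (connectedComponent : c.pt → Set c.pt) with hR
  have hRclosed : ∀ C ∈ R, IsClosed C := by
    rintro _ ⟨s, rfl⟩; exact isClosed_connectedComponent
  set B : Set c.pt → Set (D.obj i₀) := fun C ↦ closure (c.π.app i₀ '' C) with hB
  have hBpre : ∀ C ∈ R, c.π.app i₀ ⁻¹' B C = C := fun C hC ↦ by
    rw [hB]; simp only
    rw [← (hemb i₀).isInducing.closure_eq_preimage_closure_image, (hRclosed C hC).closure_eq]
  set E₁ : Set (D.obj i₀) := (⋃ C ∈ R, B C)ᶜ with hE₁
  set E₂ : Set (D.obj i₀) := ⋃ C ∈ R, ⋃ C' ∈ {C' ∈ R | C ≠ C'}, (B C ∩ B C') with hE₂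
  have hE₁good : Groth.Agent.Lib.Helper24.Lim8.IsGood E₁ :=
    .of_isCompact_isOpen (TopologicalSpace.NoetherianSpace.isCompact _)
      (hfin.isClosed_biUnion fun Y _ ↦ isClosed_closure).isOpen_compl
  have hE₂cl : IsClosed E₂ :=
    hfin.isClosed_biUnion fun C _ ↦ (hfin.subset (Set.sep_subset _ _)).isClosed_biUnion
      fun C' _ ↦ isClosed_closure.inter isClosed_closure
  have hE₂good : Groth.Agent.Lib.Helper24.Lim8.IsGood E₂ := by
    have := (Groth.Agent.Lib.Helper24.Lim8.IsGood.of_isCompact_isOpen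
      (TopologicalSpace.NoetherianSpace.isCompact (Set.univ : Set (D.obj i₀)))
      isOpen_univ).inter_isClosed hE₂cl
    rwa [Set.univ_inter] at this
  have hpre : c.π.app i₀ ⁻¹' (E₁ ∪ E₂) = ∅ := by
    rw [Set.preimage_union, Set.union_empty_iff]
    constructor
    · rw [hE₁, Set.preimage_compl, Set.compl_empty_iff]
      ext s
      simp only [Set.mem_preimage, Set.mem_univ, iff_true]
      exact Set.mem_iUnion₂.mpr ⟨connectedComponent s, ⟨s, rfl⟩,
        subset_closure ⟨s, mem_connectedComponent, rfl⟩⟩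
    · rw [hE₂]
      simp only [Set.preimage_iUnion, Set.preimage_inter]
      simp only [Set.iUnion_eq_empty]
      rintro C hC C' ⟨hC', hne⟩
      rw [hBpre C hC, hBpre C' hC']
      obtain ⟨s, rfl⟩ := hC
      obtain ⟨s', rfl⟩ := hC'
      by_contra hcon
      obtain ⟨x, hx, hx'⟩ := Set.nonempty_iff_ne_empty.mpr hcon
      exact hne ((connectedComponent_eq hx).trans (connectedComponent_eq hx').symm)
  obtain ⟨i, φ, hi⟩ := Groth.Agent.Lib.Helper24.Lim8.exists_preimage_eq_empty_of_isGood D c hc
    (E₁ ∪ E₂) (.union _ _ hE₁good hE₂good) hpre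
  refine ⟨i, φ, fun j θ ↦ ?_⟩
  have hcl : ∀ C : Set c.pt, closure (c.π.app j '' C) = D.map (θ ≫ φ) ⁻¹' B C := by
    intro C
    rw [(he j i₀ (θ ≫ φ)).isInducing.closure_eq_preimage_closure_image, Set.image_image]
    congr 2
    exact Set.image_congr' fun x ↦ by rw [← Scheme.Hom.comp_apply, c.w]
  have hnot : ∀ t : D.obj j, D.map (θ ≫ φ) t ∉ E₁ ∪ E₂ := by
    intro t hcon
    have : D.map θ t ∈ D.map φ ⁻¹' (E₁ ∪ E₂) := by
      simp only [Set.mem_preimage]
      rwa [← Scheme.Hom.comp_apply, ← D.map_comp]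
    rw [hi] at this
    exact this
  refine bijOn_connectedComponents_of_closure (S := c.pt) (c.π.app j)
    (c.π.app j).continuous hfin (fun t ↦ ?_) (fun C hC C' hC' hne ↦ ?_)
  · have ht : D.map (θ ≫ φ) t ∈ ⋃ C ∈ R, B C := by
      by_contra hcon
      exact hnot t (Or.inl hcon)
    obtain ⟨C, hC, htC⟩ := Set.mem_iUnion₂.mp ht
    exact ⟨C, hC, by rw [hcl C]; exact htC⟩
  · rw [hcl C, hcl C']
    by_contra hcon
    obtain ⟨t, ht, ht'⟩ := Set.nonempty_iff_ne_empty.mpr hcon
    refine hnot t (Or.inr ?_)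
    exact Set.mem_iUnion₂.mpr ⟨C, hC, Set.mem_iUnion₂.mpr ⟨C', ⟨hC', hne⟩, ht, ht'⟩⟩

end Groth.Agent.S4842
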