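import Groth.Statements.S4850
import Groth.Agent.S2107
import Groth.Agent.Lib.Helper54.StalkEssFP
import Groth.Agent.Lib.Helper54.StalkFP
import Groth.Agent.Lib.Helper54.FlatCoker
import Groth.Agent.Lib.QCoh.Helper18_StalkLinear

set_option maxHeartbeats 1000000
set_option linter.style.haveILetI false

set_option autoImplicit false
universe u
open EGA43

namespace Groth.Agent.S4850

open AlgebraicGeometry CategoryTheory Limits in
/-- Equivalence of a: and b)): let f : X ⟶ Y be locally of finite presentation, F and F' quasi-coherent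
O_X-modules of finite presentation, u : F' ⟶ F a homomorphism and x a point with y = f x, such that
F is f-flat at x. Then the stalk map u_x is injective and Coker u is f-flat at x, if and only if u_x
induces an injective map F'_x / m_y F'_x → F_x / m_y F_x. The second condition is written out: an
element of F'_x whose image under u_x lies in m_y F_x already lies in m_y F'_x. (The vanishing of
the stalk (Ker u)_x is expressed as injectivity of u_x.) -/
theorem result {X Y : Scheme.{u}} (f : X ⟶ Y)
    [LocallyOfFinitePresentation f] (F F' : X.Modules) [Coh.IsQCoh F] [Coh.IsQCoh F']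
    (hF : CohB1.IsFP F) (hF' : CohB1.IsFP F') (u : F' ⟶ F) (x : X) (hflat : FlatMod.IsFlatOverAt f F x) :
    letI J : Ideal ↑(X.presheaf.stalk x) :=
      Ideal.map (f.stalkMap x).hom (IsLocalRing.maximalIdeal ↑(Y.presheaf.stalk (f x)))
    letI ux := (TopCat.Presheaf.stalkFunctor Ab x).map (Scheme.Modules.Hom.mapPresheaf u)
    (Function.Injective ux ∧ FlatMod.IsFlatOverAt f (cokernel u) x) ↔
      ∀ m : ↑(F'.presheaf.stalk x),
        ux m ∈ (J • (⊤ : Submodule ↑(X.presheaf.stalk x) ↑(F.presheaf.stalk x))) →
          m ∈ (J • (⊤ : Submodule ↑(X.presheaf.stalk x) ↑(F'.presheaf.stalk x))) := by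
  haveI : F.IsQuasicoherent := ‹Coh.IsQCoh F›
  haveI : F'.IsQuasicoherent := ‹Coh.IsQCoh F'›
  haveI : F.IsFinitePresentation := hF
  haveI : F'.IsFinitePresentation := hF'
  letI aRS : Algebra (Y.presheaf.stalk (f x)) (X.presheaf.stalk x) := (f.stalkMap x).hom.toAlgebra
  letI mM' : Module (Y.presheaf.stalk (f x)) (F'.presheaf.stalk x) :=
    FlatMod.moduleStalkOver f F' x
  letI mM : Module (Y.presheaf.stalk (f x)) (F.presheaf.stalk x) := FlatMod.moduleStalkOver f F x
  letI mC : Module (Y.presheaf.stalk (f x)) ((cokernel u).presheaf.stalk x) :=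
    FlatMod.moduleStalkOver f (cokernel u) x
  haveI t1 : IsScalarTower (Y.presheaf.stalk (f x)) (X.presheaf.stalk x) (F'.presheaf.stalk x) :=
    IsScalarTower.of_algebraMap_smul fun _ _ => rfl
  haveI t2 : IsScalarTower (Y.presheaf.stalk (f x)) (X.presheaf.stalk x) (F.presheaf.stalk x) :=
    IsScalarTower.of_algebraMap_smul fun _ _ => rfl
  haveI t3 : IsScalarTower (Y.presheaf.stalk (f x)) (X.presheaf.stalk x)
      ((cokernel u).presheaf.stalk x) := IsScalarTower.of_algebraMap_smul fun _ _ => rfl
  haveI l1 : IsLocalHom (algebraMap (Y.presheaf.stalk (f x)) (X.presheaf.stalk x)) :=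
    show IsLocalHom (f.stalkMap x).hom from inferInstance
  haveI fpM' : Module.FinitePresentation (X.presheaf.stalk x) (F'.presheaf.stalk x) :=
    Groth.Agent.Lib.Helper54.StalkFP.finitePresentation_stalk F' x
  haveI fpM : Module.FinitePresentation (X.presheaf.stalk x) (F.presheaf.stalk x) :=
    Groth.Agent.Lib.Helper54.StalkFP.finitePresentation_stalk F x
  haveI flM : Module.Flat (Y.presheaf.stalk (f x)) (F.presheaf.stalk x) := hflat
  have hess : CAlgX.IsEssFinitePresentation (Y.presheaf.stalk (f x)) (X.presheaf.stalk x) :=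
    Groth.Agent.Lib.Helper54.StalkEssFP.stalk_isEssFinitePresentation f x
  -- the linear maps on stalks
  let uₗ : F'.presheaf.stalk x →ₗ[X.presheaf.stalk x] F.presheaf.stalk x :=
    Groth.Agent.Lib.QCoh.stalkMapₗ u x
  let πₗ : F.presheaf.stalk x →ₗ[X.presheaf.stalk x] (cokernel u).presheaf.stalk x :=
    Groth.Agent.Lib.QCoh.stalkMapₗ (cokernel.π u) x
  have hπsurj : Function.Surjective πₗ :=
    Groth.Agent.Lib.QCoh.stalkMap_surjective_of_epi (cokernel.π u) x
  have hexact : Function.Exact uₗ πₗ := by
    let T : ShortComplex X.Modules := ShortComplex.mk u (cokernel.π u) (cokernel.condition u)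
    have hT : T.Exact := ShortComplex.exact_of_g_is_cokernel _ (cokernelIsCokernel u)
    have hE := hT.map (Groth.Agent.Lib.QCoh.stalkFunctor X x)
    rw [ShortComplex.ab_exact_iff] at hE
    intro m
    constructor
    · intro hm
      obtain ⟨m₁, hm₁⟩ := hE m hm
      exact ⟨m₁, hm₁⟩
    · rintro ⟨m₁, rfl⟩
      have h1 : Groth.Agent.Lib.QCoh.stalkMap u x ≫
          Groth.Agent.Lib.QCoh.stalkMap (cokernel.π u) x = 0 := by
        have h2 := (Groth.Agent.Lib.QCoh.stalkFunctor X x).map_comp u (cokernel.π u)
        rw [cokernel.condition, (Groth.Agent.Lib.QCoh.stalkFunctor X x).map_zero] at h2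
        exact h2.symm
      exact congr($h1 m₁)
  constructor
  · rintro ⟨hinj, hfl⟩ m hm
    haveI : Module.Flat (Y.presheaf.stalk (f x)) ((cokernel u).presheaf.stalk x) := hfl
    have hinj' : Function.Injective uₗ := hinj
    exact Groth.Agent.Lib.Helper54.FlatCoker.mem_map_smul_top_of_flat_coker uₗ πₗ hinj' hexact
      hπsurj (IsLocalRing.maximalIdeal (Y.presheaf.stalk (f x))) m hm
  · intro h
    obtain ⟨c1, c2⟩ := Groth.Agent.S2107.result (R := Y.presheaf.stalk (f x))
      (S := X.presheaf.stalk x) (M := F'.presheaf.stalk x) (N := F.presheaf.stalk x) hess uₗ h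
    refine ⟨c1, ?_⟩
    have hker : LinearMap.range uₗ = LinearMap.ker πₗ := (LinearMap.exact_iff.1 hexact).symm
    let e : (F.presheaf.stalk x ⧸ LinearMap.range uₗ) ≃ₗ[X.presheaf.stalk x]
        (cokernel u).presheaf.stalk x :=
      (Submodule.quotEquivOfEq _ _ hker).trans (LinearMap.quotKerEquivOfSurjective πₗ hπsurj)
    exact Module.Flat.of_linearEquiv (e.restrictScalars (Y.presheaf.stalk (f x))).symm

end Groth.Agent.S4850
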