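import Groth.Statements.S4863
import Mathlib
import Groth.Agent.S0387
import Groth.Agent.Lib.QCoh.Helper74_FlatOver
import Groth.Agent.Lib.QCoh.Helper49_FP

set_option autoImplicit false
universe u
open EGA43

namespace Groth.Agent.S4863
open CategoryTheory CategoryTheory.Limits AlgebraicGeometry Opposite TopologicalSpace
open Groth.Agent.Lib.QCoh Scheme.Modules FlatMod

open Groth.Agent.Lib.QCoh Scheme.Modules FlatMod

variable {X S : Scheme.{u}}

/-- pointwise dictionary -/
theorem isFlatOverAt_iff_localized (f : X ⟶ S) (F : X.Modules) [F.IsQuasicoherent]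
    {U : S.Opens} {V : X.Opens} (e : V ≤ f ⁻¹ᵁ U) (hU : IsAffineOpen U) (hV : IsAffineOpen V)
    (x : X) (hx : x ∈ V) :
    letI := sectionsModuleOver f F e
    letI : Algebra Γ(S, U) Γ(X, V) := (f.appLE U V e).hom.toAlgebra
    haveI : IsScalarTower Γ(S, U) Γ(X, V) Γ(F, V) := .of_algebraMap_smul fun _ _ => rfl
    IsFlatOverAt f F x ↔ Module.Flat Γ(S, U)
      (LocalizedModule (hV.primeIdealOf ⟨x, hx⟩).asIdeal.primeCompl Γ(F, V)) := by
  let _ := sectionsModuleOver f F e
  let _ : Algebra Γ(S, U) Γ(X, V) := (f.appLE U V e).hom.toAlgebra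
  have : IsScalarTower Γ(S, U) Γ(X, V) Γ(F, V) := .of_algebraMap_smul fun _ _ => rfl
  let _ := stalkModuleOfOpen F V x hx
  let _ : Module Γ(S, U) (F.presheaf.stalk x) := Module.compHom _ (algebraMap Γ(S, U) Γ(X, V))
  have : IsScalarTower Γ(S, U) Γ(X, V) (F.presheaf.stalk x) :=
    .of_algebraMap_smul fun _ _ => rfl
  let _ := moduleStalkOver f F x
  let _ := S.presheaf.algebra_section_stalk ⟨f x, e hx⟩
  have : IsScalarTower Γ(S, U) (S.presheaf.stalk (f x)) (F.presheaf.stalk x) :=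
    .of_algebraMap_smul fun a m => by
      change (f.stalkMap x (S.presheaf.germ U (f x) (e hx) a)) • m =
        (X.presheaf.germ V x hx (f.appLE U V e a)) • m
      rw [germ_appLE_apply]
  have hloc := isLocalizedModule_germ F hV x hx
  have := hU.isLocalization_stalk ⟨f x, e hx⟩
  have h1 : IsFlatOverAt f F x ↔ Module.Flat Γ(S, U) (F.presheaf.stalk x) :=
    Module.flat_iff_of_isLocalization (S.presheaf.stalk (f x))
      (hU.primeIdealOf ⟨f x, e hx⟩).asIdeal.primeCompl _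
  rw [h1]
  let eq : LocalizedModule (hV.primeIdealOf ⟨x, hx⟩).asIdeal.primeCompl Γ(F, V) ≃ₗ[Γ(X, V)]
      F.presheaf.stalk x :=
    IsLocalizedModule.iso (hV.primeIdealOf ⟨x, hx⟩).asIdeal.primeCompl (germₗ F V x hx)
  exact ⟨fun _ => Module.Flat.of_linearEquiv (eq.restrictScalars Γ(S, U)),
    fun _ => Module.Flat.of_linearEquiv (eq.restrictScalars Γ(S, U)).symm⟩


open AlgebraicGeometry CategoryTheory Limits in
/-- First assertion, for a module: let f : X ⟶ Y be locally of finite presentation and F a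
quasi-coherent O_X-module of finite presentation. Then the set of points of X at which F is f-flat
is open. -/
theorem result {X Y : Scheme.{u}} (f : X ⟶ Y)
    [LocallyOfFinitePresentation f] (F : X.Modules) [Coh.IsQCoh F] (hF : CohB1.IsFP F) :
    IsOpen {x : X | FlatMod.IsFlatOverAt f F x} := by
  classical
  haveI : F.IsQuasicoherent := ‹Coh.IsQCoh F›
  haveI : F.IsFinitePresentation := hF
  rw [isOpen_iff_forall_mem_open]
  intro x hx
  obtain ⟨_, ⟨U, hU : IsAffineOpen U, rfl⟩, hfxU, -⟩ :=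
    (Y.isBasis_affineOpens).exists_subset_of_mem_open (Set.mem_univ (f x)) isOpen_univ
  obtain ⟨ι, W, hW, hP⟩ := exists_isOpenCover_presentation_of_isFinitePresentation F
  have hxW : x ∈ (⨆ i, W i : X.Opens) := by rw [hW.iSup_eq_top]; trivial
  obtain ⟨i, hi⟩ := Opens.mem_iSup.1 hxW
  have hxWU : x ∈ (W i ⊓ f ⁻¹ᵁ U : X.Opens) := ⟨hi, hfxU⟩
  obtain ⟨_, ⟨V, hV : IsAffineOpen V, rfl⟩, hxV, hVsub⟩ :=
    (X.isBasis_affineOpens).exists_subset_of_mem_open hxWU (W i ⊓ f ⁻¹ᵁ U).2
  have hVW : V ≤ W i := fun y hy => (hVsub hy).1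
  have e : V ≤ f ⁻¹ᵁ U := fun y hy => (hVsub hy).2
  have hfpM : Module.FinitePresentation Γ(X, V) Γ(F, V) :=
    finitePresentation_Γ_of_presentation_restrict hV F (exists_presentation_of_le hVW F (hP i))
  letI := sectionsModuleOver f F e
  letI : Algebra Γ(Y, U) Γ(X, V) := (f.appLE U V e).hom.toAlgebra
  haveI : IsScalarTower Γ(Y, U) Γ(X, V) Γ(F, V) := .of_algebraMap_smul fun _ _ => rfl
  haveI : Algebra.FinitePresentation Γ(Y, U) Γ(X, V) :=
    f.finitePresentation_appLE hU hV e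
  have hopen := Groth.Agent.S0387.result (R := Γ(Y, U)) (S := Γ(X, V)) (M := Γ(F, V))
  refine ⟨hV.fromSpec '' {q : PrimeSpectrum Γ(X, V) |
      Module.Flat Γ(Y, U) (LocalizedModule q.asIdeal.primeCompl Γ(F, V))}, ?_,
    hV.fromSpec.isOpenEmbedding.isOpenMap _ hopen, ?_⟩
  · rintro _ ⟨q, hq, rfl⟩
    have hy : hV.fromSpec q ∈ V := by
      have : hV.fromSpec q ∈ Set.range hV.fromSpec := ⟨q, rfl⟩
      rwa [hV.range_fromSpec] at this
    have hq' : hV.primeIdealOf ⟨hV.fromSpec q, hy⟩ = q :=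
      hV.fromSpec.isOpenEmbedding.injective (hV.fromSpec_primeIdealOf ⟨_, hy⟩)
    refine (isFlatOverAt_iff_localized f F e hU hV (hV.fromSpec q) hy).mpr ?_
    rw [hq']
    exact hq
  · refine ⟨hV.primeIdealOf ⟨x, hxV⟩, ?_, hV.fromSpec_primeIdealOf ⟨x, hxV⟩⟩
    exact (isFlatOverAt_iff_localized f F e hU hV x hxV).mp hx

end Groth.Agent.S4863
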