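import Groth.Statements.S4851
import Groth.Agent.S4863
import Groth.Agent.Lib.Helper54.FpKer2
import Groth.Agent.Lib.QCoh.Helper50_FPExtA
import Groth.Agent.Lib.QCoh.Helper50_AffineDict
import Groth.Agent.Lib.QCoh.Helper74_FlatOver
import Groth.Agent.Lib.QCoh.Helper49_FP
import Groth.Agent.Lib.QCoh.FinitePresentation
import Groth.Agent.Lib.QCoh.Helper18_StalkLoc
import Groth.Agent.Lib.QCoh.Helper18_StalkLinear

set_option maxHeartbeats 1000000
set_option linter.style.haveILetI false

set_option autoImplicit false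
universe u
open EGA43

namespace Groth.Agent.S4851

/-- If the range of a linear map from a finite module is finitely presented, its kernel is
finitely generated. -/
theorem fg_ker_of_fp_range {B M N : Type*} [CommRing B] [AddCommGroup M] [AddCommGroup N]
    [Module B M] [Module B N] [Module.Finite B M] (l : M →ₗ[B] N)
    (h : Module.FinitePresentation B (LinearMap.range l)) : (LinearMap.ker l).FG := by
  have := Module.FinitePresentation.fg_ker (N := LinearMap.range l) l.rangeRestrict
    l.surjective_rangeRestrict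
  rwa [LinearMap.ker_rangeRestrict] at this

/-- A finitely generated submodule all of whose elements are killed by some element of a
submonoid is killed by a single element of the submonoid. -/
theorem exists_smul_eq_zero_of_fg {B M : Type*} [CommRing B] [AddCommGroup M] [Module B M]
    (S : Submonoid B) (K : Submodule B M) (hK : K.FG)
    (h : ∀ k ∈ K, ∃ s : S, (s : B) • k = 0) : ∃ g : S, ∀ k ∈ K, (g : B) • k = 0 := by
  classical
  obtain ⟨T, hT⟩ := hK
  have h1 : ∀ k ∈ T, ∃ s : S, (s : B) • k = 0 := fun k hk =>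
    h k (hT ▸ Submodule.subset_span hk)
  choose! s hs using h1
  refine ⟨∏ k ∈ T, s k, fun k hk => ?_⟩
  rw [← hT] at hk
  refine Submodule.span_induction ?_ ?_ ?_ ?_ hk
  · intro k hk
    have h2 : (∏ k' ∈ T, s k') = (∏ k' ∈ T.erase k, s k') * s k :=
      (Finset.prod_erase_mul T s hk).symm
    rw [h2, Submonoid.coe_mul, mul_smul, hs k hk, smul_zero]
  · exact smul_zero _
  · intro a b _ _ ha hb
    rw [smul_add, ha, hb, add_zero]
  · intro c a _ ha
    rw [smul_comm, ha, smul_zero]

open AlgebraicGeometry CategoryTheory Limits Groth.Agent.Lib.QCoh Groth.Agent.Lib.QCoh.FPExt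
  Groth.Agent.Lib.Helper54 in
/-- The kernel of `u` on sections over a small affine open in the flat locus of `Coker u` is
finitely generated. -/
theorem fg_ker_sections {X Y : Scheme.{u}} (f : X ⟶ Y) [LocallyOfFinitePresentation f]
    (F F' : X.Modules) [F.IsQuasicoherent] [F'.IsQuasicoherent] [F.IsFinitePresentation]
    [F'.IsFinitePresentation] (u : F' ⟶ F)
    {U : X.Opens} {V : Y.Opens} (hU : IsAffineOpen U) (hV : IsAffineOpen V) (e : U ≤ f ⁻¹ᵁ V)
    (hflat : ∀ y ∈ U, FlatMod.IsFlatOverAt f (cokernel u) y) :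
    (LinearMap.ker (appLinear u U)).FG := by
  letI : Algebra Γ(Y, V) Γ(X, U) := (f.appLE V U e).hom.toAlgebra
  haveI : Algebra.FinitePresentation Γ(Y, V) Γ(X, U) :=
    HasRingHomProperty.appLE (P := @LocallyOfFinitePresentation) f ‹_› ⟨V, hV⟩ ⟨U, hU⟩ e
  haveI : (cokernel u).IsQuasicoherent := isQuasicoherent_cokernel u
  letI := sectionsModuleOver f (cokernel u) e
  haveI : IsScalarTower Γ(Y, V) Γ(X, U) Γ(cokernel u, U) := .of_algebraMap_smul fun _ _ => rfl
  haveI : Module.Flat Γ(Y, V) Γ(cokernel u, U) :=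
    flat_Γ_of_forall_isFlatOverAt f (cokernel u) e hV hU hflat
  haveI := finitePresentation_Γ_of_isAffineOpen hU F
  haveI := finitePresentation_Γ_of_isAffineOpen hU F'
  haveI : Module.FinitePresentation Γ(X, U) Γ(cokernel u, U) :=
    fp_sections_cokernel u hU inferInstance inferInstance
  have hsurj : Function.Surjective (appLinear (cokernel.π u) U) :=
    surjective_app_of_epi (cokernel.π u) hU
  have hfp : Module.FinitePresentation Γ(X, U) (LinearMap.ker (appLinear (cokernel.π u) U)) :=
    FpKer2.fp_ker_of_flat Γ(Y, V) Γ(X, U) Γ(F, U) Γ(cokernel u, U)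
      (appLinear (cokernel.π u) U) hsurj
  have hker : LinearMap.ker (appLinear (cokernel.π u) U) = LinearMap.range (appLinear u U) :=
    ker_cokernel_π_eq_range u hU
  have hfp' : Module.FinitePresentation Γ(X, U) (LinearMap.range (appLinear u U)) :=
    FpKer1.fp_of_equiv (LinearMap.ker (appLinear (cokernel.π u) U))
      (LinearMap.range (appLinear u U)) (LinearEquiv.ofEq _ _ hker) hfp
  exact fg_ker_of_fp_range (appLinear u U) hfp'

open AlgebraicGeometry CategoryTheory Limits Groth.Agent.Lib.QCoh in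
/-- If `u_x` is injective, every element of the kernel of `u` on sections over an affine open
neighbourhood is killed by a function not vanishing at `x`. -/
theorem exists_smul_eq_zero_of_injective {X : Scheme.{u}} (F F' : X.Modules) [F'.IsQuasicoherent]
    (u : F' ⟶ F) {U : X.Opens} (hU : IsAffineOpen U) (x : X) (hx : x ∈ U)
    (hinj : Function.Injective (stalkMap u x)) (k : Γ(F', U))
    (hk : k ∈ LinearMap.ker (appLinear u U)) :
    ∃ s : (hU.primeIdealOf ⟨x, hx⟩).asIdeal.primeCompl, (s : Γ(X, U)) • k = 0 := by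
  letI := stalkModuleOfOpen F' U x hx
  haveI := isLocalizedModule_germ F' hU x hx
  have h1 : germₗ F' U x hx k = 0 := by
    apply hinj
    rw [germₗ_apply, stalkMap_germ, map_zero]
    have h2 : u.app U k = 0 := hk
    rw [h2, map_zero]
  exact (IsLocalizedModule.eq_zero_iff (hU.primeIdealOf ⟨x, hx⟩).asIdeal.primeCompl
    (germₗ F' U x hx)).1 h1

open AlgebraicGeometry CategoryTheory Limits Groth.Agent.Lib.QCoh in
/-- If the kernel of `u` on sections over an affine open `U` is killed by `g`, then `u_y` is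
injective at all points `y ∈ U` where `g` does not vanish. -/
theorem stalkMap_injective_of_smul_eq_zero {X : Scheme.{u}} (F F' : X.Modules)
    [F.IsQuasicoherent] [F'.IsQuasicoherent]
    (u : F' ⟶ F) {U : X.Opens} (hU : IsAffineOpen U) (y : X) (hy : y ∈ U) (g : Γ(X, U))
    (hgy : g ∉ (hU.primeIdealOf ⟨y, hy⟩).asIdeal)
    (hg : ∀ k ∈ LinearMap.ker (appLinear u U), g • k = 0) :
    Function.Injective (stalkMap u y) := by
  letI i1 := stalkModuleOfOpen F' U y hy
  letI i2 := stalkModuleOfOpen F U y hy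
  haveI := isLocalizedModule_germ F' hU y hy
  haveI := isLocalizedModule_germ F hU y hy
  have hlin : Function.Injective (stalkMapₗ u y) := by
    rw [injective_iff_map_eq_zero]
    intro z hz
    have hz' : stalkMap u y z = 0 := hz
    obtain ⟨⟨m, s⟩, hms⟩ := IsLocalizedModule.surj (hU.primeIdealOf ⟨y, hy⟩).asIdeal.primeCompl
      (germₗ F' U y hy) z
    have hms' : X.presheaf.germ U y hy (s : Γ(X, U)) • z = F'.presheaf.germ U y hy m := hms
    have h1 : germₗ F U y hy (appLinear u U m) = 0 := by
      rw [germₗ_apply, appLinear_apply, ← stalkMap_germ, ← hms', stalkMap_smul, hz', smul_zero]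
    obtain ⟨t, ht⟩ := (IsLocalizedModule.eq_zero_iff (hU.primeIdealOf ⟨y, hy⟩).asIdeal.primeCompl
      (germₗ F U y hy)).1 h1
    have h2 : (t : Γ(X, U)) • m ∈ LinearMap.ker (appLinear u U) := by
      rw [LinearMap.mem_ker, map_smul]
      exact ht
    have h3 : g • ((t : Γ(X, U)) • m) = 0 := hg _ h2
    have h4 : germₗ F' U y hy m = 0 := by
      have h5 : germₗ F' U y hy (g • ((t : Γ(X, U)) • m)) = 0 := by rw [h3, map_zero]
      rw [map_smul, map_smul] at h5
      have h6 : (t : Γ(X, U)) • germₗ F' U y hy m = 0 := by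
        apply IsLocalizedModule.smul_injective (germₗ F' U y hy)
          (⟨g, hgy⟩ : (hU.primeIdealOf ⟨y, hy⟩).asIdeal.primeCompl)
        show g • ((t : Γ(X, U)) • germₗ F' U y hy m) = g • (0 : F'.presheaf.stalk y)
        rw [h5, smul_zero]
      apply IsLocalizedModule.smul_injective (germₗ F' U y hy) t
      show (t : Γ(X, U)) • germₗ F' U y hy m = (t : Γ(X, U)) • (0 : F'.presheaf.stalk y)
      rw [h6, smul_zero]
    have h8 : (s : Γ(X, U)) • z = 0 := by
      have : (s : Γ(X, U)) • z = germₗ F' U y hy m := hms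
      rw [this, h4]
    apply IsLocalizedModule.smul_injective (germₗ F' U y hy) s
    show (s : Γ(X, U)) • z = (s : Γ(X, U)) • (0 : F'.presheaf.stalk y)
    rw [h8, smul_zero]
  exact hlin

open AlgebraicGeometry CategoryTheory Limits in
/-- Let f : X ⟶ Y be locally of finite presentation, F and F' quasi-coherent O_X-modules of finite
presentation and u : F' ⟶ F a homomorphism. Then the set of points x of X at which the stalk map u_x
is injective and Coker u is f-flat at x is open in X. (No flatness hypothesis on F is made; the form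
of this openness statement in which F is moreover assumed f-flat is a special case.) -/
theorem result {X Y : Scheme.{u}} (f : X ⟶ Y)
    [LocallyOfFinitePresentation f] (F F' : X.Modules) [Coh.IsQCoh F] [Coh.IsQCoh F']
    (hF : CohB1.IsFP F) (hF' : CohB1.IsFP F') (u : F' ⟶ F) :
    IsOpen {x : X | Function.Injective ((TopCat.Presheaf.stalkFunctor Ab x).map (Scheme.Modules.Hom.mapPresheaf u)) ∧
      FlatMod.IsFlatOverAt f (cokernel u) x} := by
  haveI : F.IsFinitePresentation := hF
  haveI : F'.IsFinitePresentation := hF'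
  haveI : F.IsQuasicoherent := ‹Coh.IsQCoh F›
  haveI : F'.IsQuasicoherent := ‹Coh.IsQCoh F'›
  haveI hCq : (cokernel u).IsQuasicoherent := Groth.Agent.Lib.QCoh.isQuasicoherent_cokernel u
  haveI : Coh.IsQCoh (cokernel u) := hCq
  have hC : CohB1.IsFP (cokernel u) :=
    Groth.Agent.Lib.QCoh.isFinitePresentation_of_forall_finitePresentation (cokernel u) fun A =>
      Groth.Agent.Lib.QCoh.FPExt.fp_sections_cokernel u A.2
        (haveI := Groth.Agent.Lib.QCoh.finitePresentation_Γ_of_isAffineOpen A.2 F'; inferInstance)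
        (Groth.Agent.Lib.QCoh.finitePresentation_Γ_of_isAffineOpen A.2 F)
  have hW : IsOpen {y : X | FlatMod.IsFlatOverAt f (cokernel u) y} :=
    Groth.Agent.S4863.result f (cokernel u) hC
  rw [isOpen_iff_forall_mem_open]
  rintro x ⟨hinj, hflatx⟩
  obtain ⟨_, ⟨V, hV : IsAffineOpen V, rfl⟩, hxV, -⟩ :=
    (Y.isBasis_affineOpens).exists_subset_of_mem_open (Set.mem_univ (f x)) isOpen_univ
  obtain ⟨_, ⟨U, hU : IsAffineOpen U, rfl⟩, hxU, hUVW⟩ :=
    (X.isBasis_affineOpens).exists_subset_of_mem_open
      (show x ∈ ((f ⁻¹ᵁ V : X.Opens) : Set X) ∩ {y : X | FlatMod.IsFlatOverAt f (cokernel u) y}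
        from ⟨hxV, hflatx⟩) ((f ⁻¹ᵁ V).2.inter hW)
  have e : U ≤ f ⁻¹ᵁ V := fun y hy => (hUVW hy).1
  have hflatU : ∀ y ∈ U, FlatMod.IsFlatOverAt f (cokernel u) y := fun y hy => (hUVW hy).2
  have hK := fg_ker_sections f F F' u hU hV e hflatU
  obtain ⟨g, hg⟩ := exists_smul_eq_zero_of_fg (hU.primeIdealOf ⟨x, hxU⟩).asIdeal.primeCompl
    (LinearMap.ker (Groth.Agent.Lib.QCoh.appLinear u U)) hK
    (fun k hk => exists_smul_eq_zero_of_injective F F' u hU x hxU hinj k hk)
  refine ⟨X.basicOpen (g : Γ(X, U)), ?_, (X.basicOpen (g : Γ(X, U))).2,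
    (Groth.Agent.Lib.QCoh.notMem_primeIdealOf_iff hU x hxU g).1 g.2⟩
  intro y hy
  have hyU : y ∈ U := X.basicOpen_le _ hy
  exact ⟨stalkMap_injective_of_smul_eq_zero F F' u hU y hyU g
    ((Groth.Agent.Lib.QCoh.notMem_primeIdealOf_iff hU y hyU g).2 hy) hg, hflatU y hyU⟩

end Groth.Agent.S4851
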