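import Groth.Statements.S4853
import Groth.Agent.Lib.Helper7.NilFree

set_option autoImplicit false
universe u
open TensorProduct
open EGA43

namespace Groth.Agent.S4853

/-- Let A be a commutative ring and M an A-module such that (A/J) ⊗_A M is free over A/J for some
nilpotent ideal J of A. Then among the ideals R of A such that (A/R) ⊗_A M is free over A/R there is
a least one, R₀, which is also the least ideal R such that (A/R) ⊗_A M is flat over A/R; and for
every commutative A-algebra A', the module A' ⊗_A M is free over A' if and only if it is flat over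
A', if and only if R₀ generates the zero ideal of A'. -/
theorem result {A : Type u} [CommRing A]
    (M : Type u) [AddCommGroup M] [Module A M]
    (J : Ideal A) (hJ : IsNilpotent J) (hfree : Module.Free (A ⧸ J) ((A ⧸ J) ⊗[A] M)) :
    ∃ R₀ : Ideal A,
      IsLeast {R : Ideal A | Module.Free (A ⧸ R) ((A ⧸ R) ⊗[A] M)} R₀ ∧
      IsLeast {R : Ideal A | Module.Flat (A ⧸ R) ((A ⧸ R) ⊗[A] M)} R₀ ∧
      ∀ (A' : Type u) [CommRing A'] [Algebra A A'],
        (Module.Free A' (A' ⊗[A] M) ↔ Ideal.map (algebraMap A A') R₀ = ⊥) ∧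
        (Module.Flat A' (A' ⊗[A] M) ↔ Ideal.map (algebraMap A A') R₀ = ⊥) := by
  classical
  haveI := hfree
  let b := Module.Free.chooseBasis (A ⧸ J) ((A ⧸ J) ⊗[A] M)
  obtain ⟨m, hm⟩ := Groth.Agent.Lib.Helper7.NilFree.exists_lift_basis J b
  have hbij := Groth.Agent.Lib.Helper7.NilFree.bijective_baseChange_linearCombination J m b hm
  have hsurj := Groth.Agent.Lib.Helper7.NilFree.surjective_of_baseChange_surjective J hJ _ hbij.2
  have key : ∀ (A' : Type u) [CommRing A'] [Algebra A A'],
      (Module.Free A' (A' ⊗[A] M) ↔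
        Ideal.map (algebraMap A A') (Groth.Agent.Lib.Helper7.NilFree.contentIdeal m) = ⊥) ∧
      (Module.Flat A' (A' ⊗[A] M) ↔
        Ideal.map (algebraMap A A') (Groth.Agent.Lib.Helper7.NilFree.contentIdeal m) = ⊥) := by
    intro A' _ _
    have h1 : Ideal.map (algebraMap A A') (Groth.Agent.Lib.Helper7.NilFree.contentIdeal m) = ⊥ →
        Module.Free A' (A' ⊗[A] M) :=
      Groth.Agent.Lib.Helper7.NilFree.free_baseChange_of_map_contentIdeal_eq_bot m hsurj A'
    have h2 : Module.Flat A' (A' ⊗[A] M) →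
        Ideal.map (algebraMap A A') (Groth.Agent.Lib.Helper7.NilFree.contentIdeal m) = ⊥ := by
      intro h
      exact Groth.Agent.Lib.Helper7.NilFree.map_contentIdeal_eq_bot_of_flat J m hJ hbij A'
    refine ⟨⟨fun h => h2 ?_, h1⟩, ⟨h2, fun h => ?_⟩⟩
    · haveI := h
      exact Module.Flat.of_free
    · haveI := h1 h
      exact Module.Flat.of_free
  have hquot : ∀ R : Ideal A,
      Ideal.map (algebraMap A (A ⧸ R)) (Groth.Agent.Lib.Helper7.NilFree.contentIdeal m) = ⊥ ↔
        Groth.Agent.Lib.Helper7.NilFree.contentIdeal m ≤ R := by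
    intro R
    rw [Ideal.map_eq_bot_iff_le_ker, Ideal.Quotient.algebraMap_eq, Ideal.mk_ker]
  refine ⟨Groth.Agent.Lib.Helper7.NilFree.contentIdeal m, ⟨?_, ?_⟩, ⟨?_, ?_⟩, key⟩
  · exact (key (A ⧸ _)).1.mpr ((hquot _).mpr le_rfl)
  · intro R hR
    exact (hquot R).mp ((key (A ⧸ R)).1.mp hR)
  · exact (key (A ⧸ _)).2.mpr ((hquot _).mpr le_rfl)
  · intro R hR
    exact (hquot R).mp ((key (A ⧸ R)).2.mp hR)

end Groth.Agent.S4853
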