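import Groth.Statements.S4859
import Mathlib.Tactic.TFAE
import Mathlib.Topology.Sets.Opens

set_option autoImplicit false
universe u
open EGA43

namespace Groth.Agent.S4859

/-- Conditions a), a′), b) (quasi-homeomorphisms): for a continuous map f : X₀ → X the following are
equivalent: taking preimages is a bijection from the open subsets of X onto the open subsets of X₀;
taking preimages is a bijection from the closed subsets of X onto the closed subsets of X₀; the
topology of X₀ is induced from X through f and the image f(X₀) is very dense in X, in the sense that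
two open subsets of X with the same trace on f(X₀) coincide. -/
theorem result {X₀ X : Type u} [TopologicalSpace X₀] [TopologicalSpace X]
    (f : X₀ → X) (hf : Continuous f) :
    [Function.Bijective (fun U : TopologicalSpace.Opens X =>
        (⟨f ⁻¹' (U : Set X), U.isOpen.preimage hf⟩ : TopologicalSpace.Opens X₀)),
      Function.Bijective (fun F : TopologicalSpace.Closeds X =>
        (⟨f ⁻¹' (F : Set X), F.isClosed.preimage hf⟩ : TopologicalSpace.Closeds X₀)),
      Topology.IsInducing f ∧
        ∀ U V : Set X, IsOpen U → IsOpen V → U ∩ Set.range f = V ∩ Set.range f → U = V].TFAE := by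
  tfae_have 1 → 2 := by
    rintro ⟨hinj, hsurj⟩
    constructor
    · intro F F' h
      have h' : f ⁻¹' (F : Set X) = f ⁻¹' (F' : Set X) := congrArg SetLike.coe h
      have := @hinj ⟨(F : Set X)ᶜ, F.isClosed.isOpen_compl⟩ ⟨(F' : Set X)ᶜ, F'.isClosed.isOpen_compl⟩
        (by
          apply TopologicalSpace.Opens.ext
          change f ⁻¹' (F : Set X)ᶜ = f ⁻¹' (F' : Set X)ᶜ
          rw [Set.preimage_compl, Set.preimage_compl, h'])
      apply TopologicalSpace.Closeds.ext
      have h2 : (F : Set X)ᶜ = (F' : Set X)ᶜ := congrArg SetLike.coe this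
      exact compl_injective h2
    · intro W
      obtain ⟨U, hU⟩ := hsurj ⟨(W : Set X₀)ᶜ, W.isClosed.isOpen_compl⟩
      refine ⟨⟨(U : Set X)ᶜ, U.isOpen.isClosed_compl⟩, ?_⟩
      apply TopologicalSpace.Closeds.ext
      change f ⁻¹' (U : Set X)ᶜ = (W : Set X₀)
      have h2 : f ⁻¹' (U : Set X) = (W : Set X₀)ᶜ := congrArg SetLike.coe hU
      rw [Set.preimage_compl, h2, compl_compl]
  tfae_have 2 → 1 := by
    rintro ⟨hinj, hsurj⟩
    constructor
    · intro U V h
      have h' : f ⁻¹' (U : Set X) = f ⁻¹' (V : Set X) := congrArg SetLike.coe h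
      have := @hinj ⟨(U : Set X)ᶜ, U.isOpen.isClosed_compl⟩ ⟨(V : Set X)ᶜ, V.isOpen.isClosed_compl⟩
        (by
          apply TopologicalSpace.Closeds.ext
          change f ⁻¹' (U : Set X)ᶜ = f ⁻¹' (V : Set X)ᶜ
          rw [Set.preimage_compl, Set.preimage_compl, h'])
      apply TopologicalSpace.Opens.ext
      have h2 : (U : Set X)ᶜ = (V : Set X)ᶜ := congrArg SetLike.coe this
      exact compl_injective h2
    · intro W
      obtain ⟨F, hF⟩ := hsurj ⟨(W : Set X₀)ᶜ, W.isOpen.isClosed_compl⟩
      refine ⟨⟨(F : Set X)ᶜ, F.isClosed.isOpen_compl⟩, ?_⟩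
      apply TopologicalSpace.Opens.ext
      change f ⁻¹' (F : Set X)ᶜ = (W : Set X₀)
      have h2 : f ⁻¹' (F : Set X) = (W : Set X₀)ᶜ := congrArg SetLike.coe hF
      rw [Set.preimage_compl, h2, compl_compl]
  tfae_have 1 → 3 := by
    rintro ⟨hinj, hsurj⟩
    refine ⟨⟨le_antisymm hf.le_induced ?_⟩, ?_⟩
    · intro s hs
      obtain ⟨U, hU⟩ := hsurj ⟨s, hs⟩
      have h2 : f ⁻¹' (U : Set X) = s := congrArg SetLike.coe hU
      exact isOpen_induced_iff.mpr ⟨U, U.isOpen, h2⟩
    · intro U V hU hV h
      have := @hinj ⟨U, hU⟩ ⟨V, hV⟩ (by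
        apply TopologicalSpace.Opens.ext
        change f ⁻¹' U = f ⁻¹' V
        ext x
        constructor
        · intro hx
          have : f x ∈ U ∩ Set.range f := ⟨hx, x, rfl⟩
          rw [h] at this
          exact this.1
        · intro hx
          have : f x ∈ V ∩ Set.range f := ⟨hx, x, rfl⟩
          rw [← h] at this
          exact this.1)
      exact congrArg SetLike.coe this
  tfae_have 3 → 1 := by
    rintro ⟨hind, hdense⟩
    constructor
    · intro U V h
      have h' : f ⁻¹' (U : Set X) = f ⁻¹' (V : Set X) := congrArg SetLike.coe h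
      apply TopologicalSpace.Opens.ext
      apply hdense _ _ U.isOpen V.isOpen
      ext y
      constructor
      · rintro ⟨hyU, x, rfl⟩
        refine ⟨?_, x, rfl⟩
        have : x ∈ f ⁻¹' (U : Set X) := hyU
        rw [h'] at this
        exact this
      · rintro ⟨hyV, x, rfl⟩
        refine ⟨?_, x, rfl⟩
        have : x ∈ f ⁻¹' (V : Set X) := hyV
        rw [← h'] at this
        exact this
    · intro W
      obtain ⟨U, hU, hUW⟩ := hind.isOpen_iff.mp W.isOpen
      exact ⟨⟨U, hU⟩, TopologicalSpace.Opens.ext hUW⟩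
  tfae_finish

end Groth.Agent.S4859
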