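import Groth.Statements.S4860
import Groth.Agent.Lib.Helper25.Goldman
import Mathlib.Tactic.TFAE

set_option autoImplicit false
universe u
open EGA43

namespace Groth.Agent.S4860

/-- For an integral domain B the following are equivalent: a) the localization B_f is a field for some
nonzero f; b) the fraction field of B is a finitely generated B-algebra; c) there is a field
containing B (an injective algebra map from B) which is a finitely generated B-algebra; d) the
generic point of Spec B is open. -/
theorem result (B : Type u) [CommRing B] [IsDomain B] :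
    [∃ f : B, f ≠ 0 ∧ IsField (Localization.Away f),
      Algebra.FiniteType B (FractionRing B),
      ∃ (K : Type u) (_ : Field K) (_ : Algebra B K), Function.Injective (algebraMap B K) ∧ Algebra.FiniteType B K,
      IsOpen ({⟨⊥, Ideal.bot_prime⟩} : Set (PrimeSpectrum B))].TFAE := by
  tfae_have 1 → 2 := by
    rintro ⟨f, hf0, hfield⟩
    have hinj : Function.Injective (algebraMap B (Localization.Away f)) :=
      IsLocalization.injective _ (powers_le_nonZeroDivisors_of_noZeroDivisors hf0)
    have hunit : ∀ y : Submonoid.powers f, IsUnit ((Algebra.ofId B (FractionRing B)) y) := by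
      rintro ⟨_, n, rfl⟩
      refine IsUnit.mk0 _ ?_
      change algebraMap B (FractionRing B) (f ^ n) ≠ 0
      rw [map_pow]
      exact pow_ne_zero n ((map_ne_zero_iff _ (IsFractionRing.injective B _)).mpr hf0)
    let φ : Localization.Away f →ₐ[B] FractionRing B :=
      IsLocalization.liftAlgHom (M := Submonoid.powers f) (S := Localization.Away f)
        (f := Algebra.ofId B (FractionRing B)) hunit
    have hφ : Function.Surjective φ := by
      intro x
      obtain ⟨a, b, hb, rfl⟩ := IsFractionRing.div_surjective (A := B) x
      have hb0 : b ≠ 0 := nonZeroDivisors.ne_zero hb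
      have hb' : algebraMap B (Localization.Away f) b ≠ 0 := (map_ne_zero_iff _ hinj).mpr hb0
      obtain ⟨c, hc⟩ := hfield.mul_inv_cancel hb'
      refine ⟨algebraMap B (Localization.Away f) a * c, ?_⟩
      have h1 : φ (algebraMap B (Localization.Away f) b) = algebraMap B (FractionRing B) b :=
        φ.commutes b
      have h2 : φ (algebraMap B (Localization.Away f) a) = algebraMap B (FractionRing B) a :=
        φ.commutes a
      have h3 : algebraMap B (FractionRing B) b * φ c = 1 := by
        rw [← h1, ← map_mul, hc, map_one]
      have hbK : algebraMap B (FractionRing B) b ≠ 0 :=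
        (map_ne_zero_iff _ (IsFractionRing.injective B _)).mpr hb0
      rw [map_mul, h2, eq_div_iff hbK, mul_assoc, mul_comm (φ c), h3, mul_one]
    exact Algebra.FiniteType.of_surjective φ hφ
  tfae_have 2 → 3 := by
    intro h
    exact ⟨FractionRing B, inferInstance, inferInstance, IsFractionRing.injective B _, h⟩
  tfae_have 3 → 1 := by
    rintro ⟨K, _, _, hinj, hft⟩
    exact Groth.Agent.Lib.Helper25.exists_away_isField_of_finiteType_field B K hinj
  tfae_have 1 → 4 := by
    rintro ⟨f, hf0, hfield⟩
    have h := (Groth.Agent.Lib.Helper25.away_isField_iff B hf0).mp hfield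
    have : ({⟨⊥, Ideal.bot_prime⟩} : Set (PrimeSpectrum B)) = PrimeSpectrum.basicOpen f := by
      ext q
      simp only [Set.mem_singleton_iff, SetLike.mem_coe, PrimeSpectrum.mem_basicOpen]
      constructor
      · rintro rfl
        exact fun hmem => hf0 ((Ideal.mem_bot).mp hmem)
      · intro hq
        exact PrimeSpectrum.ext (h q.asIdeal q.isPrime hq)
    rw [this]
    exact (PrimeSpectrum.basicOpen f).isOpen
  tfae_have 4 → 1 := by
    intro hopen
    obtain ⟨_, ⟨f, rfl⟩, hmem, hsub⟩ :=
      PrimeSpectrum.isTopologicalBasis_basic_opens.isOpen_iff.mp hopen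
        ⟨⊥, Ideal.bot_prime⟩ (Set.mem_singleton _)
    have hf0 : f ≠ 0 := by
      rintro rfl
      exact hmem (Ideal.zero_mem _)
    refine ⟨f, hf0, (Groth.Agent.Lib.Helper25.away_isField_iff B hf0).mpr ?_⟩
    intro q hq hfq
    have : (⟨q, hq⟩ : PrimeSpectrum B) ∈ ({⟨⊥, Ideal.bot_prime⟩} : Set (PrimeSpectrum B)) :=
      hsub hfq
    exact congrArg PrimeSpectrum.asIdeal (Set.mem_singleton_iff.mp this)
  tfae_finish

end Groth.Agent.S4860
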