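import Groth.Statements.S4861
import Groth.Agent.Lib.Helper25.Goldman
import Mathlib.Tactic.TFAE
import Mathlib.RingTheory.Ideal.KrullsHeightTheorem
import Mathlib.RingTheory.Ideal.MinimalPrime.Noetherian
import Mathlib.RingTheory.Ideal.Height

set_option autoImplicit false
set_option linter.style.haveILetI false
universe u
open EGA43

namespace Groth.Agent.S4861


/-- In a Noetherian domain in which every nonzero prime contains `f ≠ 0`, every nonzero prime is
minimal over `(f)`. -/
lemma mem_minimalPrimes_of_forall {B : Type u} [CommRing B] [IsDomain B] [IsNoetherianRing B]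
    (f : B) (hf : f ≠ 0) (h : ∀ q : Ideal B, q.IsPrime → f ∉ q → q = ⊥)
    (p : Ideal B) (hp : p.IsPrime) (hp0 : p ≠ ⊥) : p ∈ (Ideal.span {f}).minimalPrimes := by
  classical
  have hfp : f ∈ p := by
    by_contra hfp
    exact hp0 (h p hp hfp)
  have hfin : (Ideal.span {f}).minimalPrimes.Finite :=
    Ideal.finite_minimalPrimes_of_isNoetherianRing B _
  by_contra hpS
  have hle : Ideal.span {f} ≤ p := (Ideal.span_singleton_le_iff_mem _).mpr hfp
  -- Step 1: `p` is not contained in the union of the minimal primes over `(f)`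
  have h1 : ¬ ((p : Set B) ⊆ ⋃ q ∈ (hfin.toFinset : Set (Ideal B)), ((q : Ideal B) : Set B)) := by
    intro hsub
    rw [Ideal.subset_union_prime (f := fun q : Ideal B => q) ⊥ ⊥
      (fun q hq _ _ => (hfin.mem_toFinset.mp hq).1.1)] at hsub
    obtain ⟨q, hq, hpq⟩ := hsub
    have hqm := hfin.mem_toFinset.mp hq
    have hqp : q ≤ p := hqm.2 ⟨hp, hle⟩ hpq
    exact hpS (le_antisymm hpq hqp ▸ hqm)
  obtain ⟨x, hxp, hxn⟩ := Set.not_subset.mp h1
  have hx0 : x ≠ 0 := by
    rintro rfl
    obtain ⟨q, hq, _⟩ := Ideal.exists_minimalPrimes_le hle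
    apply hxn
    simp only [Set.mem_iUnion]
    exact ⟨q, hfin.mem_toFinset.mpr hq, q.zero_mem⟩
  obtain ⟨q', hq', hq'p⟩ := Ideal.exists_minimalPrimes_le (I := Ideal.span {x}) (J := p)
    ((Ideal.span_singleton_le_iff_mem _).mpr hxp)
  haveI : q'.IsPrime := hq'.1.1
  have hxq' : x ∈ q' := hq'.1.2 (Ideal.mem_span_singleton_self x)
  have hq'0 : q' ≠ ⊥ := fun h0 => hx0 (by rw [h0] at hxq'; exact hxq')
  have hht : q'.height ≤ 1 :=
    Ideal.height_le_one_of_isPrincipal_of_mem_minimalPrimes (Ideal.span {x}) q' hq'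
  have hfq' : f ∈ q' := by
    by_contra hfq'
    exact hq'0 (h q' inferInstance hfq')
  obtain ⟨q, hq, hqq'⟩ := Ideal.exists_minimalPrimes_le (I := Ideal.span {f}) (J := q')
    ((Ideal.span_singleton_le_iff_mem _).mpr hfq')
  haveI : q.IsPrime := hq.1.1
  have hq0 : q ≠ ⊥ := fun h0 => hf (by
    have := hq.1.2 (Ideal.mem_span_singleton_self f)
    rw [h0] at this
    exact this)
  have hqeq : q = q' := by
    by_contra hne
    have hlt : q < q' := lt_of_le_of_ne hqq' hne
    have h2 := Ideal.height_add_one_le_of_lt_of_isPrime hlt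
    have h3 : q.height ≠ 0 := fun h0 => hq0 (Ideal.height_eq_zero_iff_eq_bot.mp h0)
    have h4 : (1 : ℕ∞) ≤ q.height := Order.one_le_iff_pos.mpr (pos_iff_ne_zero.mpr h3)
    have h5 : (1 : ℕ∞) + 1 ≤ q'.height := le_trans (add_le_add_left h4 1) h2
    have h6 : (1 : ℕ∞) + 1 ≤ 1 := le_trans h5 hht
    exact absurd h6 (by decide)
  apply hxn
  simp only [Set.mem_iUnion]
  exact ⟨q, hfin.mem_toFinset.mpr hq, hqeq ▸ hxq'⟩

/-- If a domain has only finitely many nonzero primes, some `B_f` with `f ≠ 0` is a field. -/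
lemma exists_away_isField_of_finite {B : Type u} [CommRing B] [IsDomain B]
    (hfin : {p : Ideal B | p.IsPrime ∧ p ≠ ⊥}.Finite) :
    ∃ f : B, f ≠ 0 ∧ IsField (Localization.Away f) := by
  classical
  have hex : ∀ p : Ideal B, ∃ x : B, p ≠ ⊥ → x ∈ p ∧ x ≠ 0 := by
    intro p
    by_cases hp : p = ⊥
    · exact ⟨0, fun h => absurd hp h⟩
    · obtain ⟨x, hx, hx0⟩ := Submodule.exists_mem_ne_zero_of_ne_bot hp
      exact ⟨x, fun _ => ⟨hx, hx0⟩⟩
  choose x hx using hex
  have hf0 : ∏ p ∈ hfin.toFinset, x p ≠ 0 := by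
    rw [Finset.prod_ne_zero_iff]
    intro p hp
    exact (hx p (hfin.mem_toFinset.mp hp).2).2
  refine ⟨∏ p ∈ hfin.toFinset, x p, hf0,
    (Groth.Agent.Lib.Helper25.away_isField_iff B hf0).mpr ?_⟩
  intro q hq hfq
  by_contra hq0
  apply hfq
  have hmem : q ∈ hfin.toFinset := hfin.mem_toFinset.mpr ⟨hq, hq0⟩
  exact Ideal.mem_of_dvd q (Finset.dvd_prod_of_mem x hmem) (hx q hq0).1

/-- For a Noetherian integral domain B the following are equivalent (and hence equivalent to: the
fraction field of B is a finitely generated B-algebra; the generic point of Spec B is open): a) the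
localization B_f is a field for some nonzero f; e) Spec B is finite; f) B is semi-local (finitely
many maximal ideals) of Krull dimension at most 1. -/
theorem result (B : Type u) [CommRing B] [IsDomain B]
    [IsNoetherianRing B] :
    [∃ f : B, f ≠ 0 ∧ IsField (Localization.Away f),
      Finite (PrimeSpectrum B),
      Finite (MaximalSpectrum B) ∧ ringKrullDim B ≤ 1].TFAE := by
  have key : (∃ f : B, f ≠ 0 ∧ IsField (Localization.Away f)) →
      ∃ f : B, f ≠ 0 ∧ ∀ p : Ideal B, p.IsPrime → p ≠ ⊥ → p ∈ (Ideal.span {f}).minimalPrimes := by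
    rintro ⟨f, hf0, hfield⟩
    exact ⟨f, hf0, mem_minimalPrimes_of_forall f hf0
      ((Groth.Agent.Lib.Helper25.away_isField_iff B hf0).mp hfield)⟩
  tfae_have 1 → 2 := by
    intro h
    obtain ⟨f, hf0, hmin⟩ := key h
    have hfin : (Ideal.span {f}).minimalPrimes.Finite :=
      Ideal.finite_minimalPrimes_of_isNoetherianRing B _
    have : Set.Finite (Set.univ : Set (PrimeSpectrum B)) := by
      have hsub : (Set.univ : Set (PrimeSpectrum B)) ⊆
          PrimeSpectrum.asIdeal ⁻¹' (insert ⊥ (Ideal.span {f}).minimalPrimes) := by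
        intro p _
        by_cases hp : p.asIdeal = ⊥
        · exact Set.mem_insert_iff.mpr (Or.inl hp)
        · exact Set.mem_insert_iff.mpr (Or.inr (hmin p.asIdeal p.isPrime hp))
      refine Set.Finite.subset ((hfin.insert ⊥).preimage ?_) hsub
      intro p _ q _ hpq
      exact PrimeSpectrum.ext hpq
    exact Set.finite_univ_iff.mp this
  tfae_have 2 → 1 := by
    intro h
    apply exists_away_isField_of_finite
    have : {p : Ideal B | p.IsPrime ∧ p ≠ ⊥} ⊆ Set.range (PrimeSpectrum.asIdeal (R := B)) := by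
      rintro p ⟨hp, _⟩
      exact ⟨⟨p, hp⟩, rfl⟩
    exact (Set.finite_range _).subset this
  tfae_have 1 → 3 := by
    intro h
    obtain ⟨f, hf0, hmin⟩ := key h
    have hfin : (Ideal.span {f}).minimalPrimes.Finite :=
      Ideal.finite_minimalPrimes_of_isNoetherianRing B _
    constructor
    · have : Set.Finite (Set.univ : Set (MaximalSpectrum B)) := by
        have hsub : (Set.univ : Set (MaximalSpectrum B)) ⊆
            MaximalSpectrum.asIdeal ⁻¹' (insert ⊥ (Ideal.span {f}).minimalPrimes) := by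
          intro p _
          by_cases hp : p.asIdeal = ⊥
          · exact Set.mem_insert_iff.mpr (Or.inl hp)
          · exact Set.mem_insert_iff.mpr (Or.inr (hmin p.asIdeal p.isMaximal.isPrime hp))
        refine Set.Finite.subset ((hfin.insert ⊥).preimage ?_) hsub
        intro p _ q _ hpq
        exact MaximalSpectrum.ext hpq
      exact Set.finite_univ_iff.mp this
    · rw [ringKrullDim_le_iff_height_le]
      intro p hp
      by_cases hp0 : p = ⊥
      · rw [hp0, Ideal.height_bot]
        exact_mod_cast (zero_le : (0 : ℕ∞) ≤ 1)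
      · have := Ideal.height_le_one_of_isPrincipal_of_mem_minimalPrimes (Ideal.span {f}) p
          (hmin p hp hp0)
        exact_mod_cast this
  tfae_have 3 → 1 := by
    rintro ⟨hfin, hdim⟩
    apply exists_away_isField_of_finite
    have hsub : {p : Ideal B | p.IsPrime ∧ p ≠ ⊥} ⊆ Set.range (MaximalSpectrum.asIdeal (R := B)) := by
      rintro p ⟨hp, hp0⟩
      obtain ⟨m, hm, hpm⟩ := Ideal.exists_le_maximal p hp.ne_top
      have hpm' : p = m := by
        by_contra hne
        have hlt : p < m := lt_of_le_of_ne hpm hne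
        haveI := hm.isPrime
        have h2 := Ideal.height_add_one_le_of_lt_of_isPrime hlt
        have h3 : p.height ≠ 0 := fun h0 => hp0 (Ideal.height_eq_zero_iff_eq_bot.mp h0)
        have h4 : (1 : ℕ∞) ≤ p.height := Order.one_le_iff_pos.mpr (pos_iff_ne_zero.mpr h3)
        have h5 : (1 : ℕ∞) + 1 ≤ m.height := le_trans (add_le_add_left h4 1) h2
        have h6 : m.height ≤ 1 := by
          have := (ringKrullDim_le_iff_height_le (R := B) 1).mp hdim hm.isPrime
          exact_mod_cast this
        exact absurd (le_trans h5 h6) (by decide)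
      exact ⟨⟨m, hm⟩, hpm'.symm⟩
    exact (Set.finite_range _).subset hsub
  tfae_finish

end Groth.Agent.S4861
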