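import Groth.Statements.S4862
import Groth.Agent.Lib.Helper25.Goldman
import Mathlib.Tactic.TFAE
import Mathlib.RingTheory.Ideal.GoingUp

set_option autoImplicit false
set_option linter.style.haveILetI false
universe u
open EGA43

namespace Groth.Agent.S4862

/-- For a commutative ring A the following are equivalent: a) A is a Jacobson ring; b) for every prime
ideal p of A which is not maximal and every nonzero f of B = A/p, the localization B_f is not a
field; b′) every finitely generated A-algebra which is a field is a finite A-module. -/
theorem result (A : Type u) [CommRing A] :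
    [IsJacobsonRing A,
      ∀ (p : Ideal A) [p.IsPrime], ¬ p.IsMaximal → ∀ f : A ⧸ p, f ≠ 0 → ¬ IsField (Localization.Away f),
      ∀ (K : Type u) [Field K] [Algebra A K], Algebra.FiniteType A K → Module.Finite A K].TFAE := by
  tfae_have 1 → 3 := by
    intro hJ K _ _ hft
    exact finite_of_finite_type_of_isJacobsonRing A K
  tfae_have 3 → 1 := by
    intro h3
    rw [isJacobsonRing_iff_prime_eq]
    intro P hP
    refine le_antisymm ?_ Ideal.le_jacobson
    intro a ha
    by_contra haP
    have hf0 : Ideal.Quotient.mk P a ≠ 0 := fun h => haP (Ideal.Quotient.eq_zero_iff_mem.mp h)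
    have hinj : Function.Injective (algebraMap (A ⧸ P) (Localization.Away (Ideal.Quotient.mk P a))) :=
      IsLocalization.injective _ (powers_le_nonZeroDivisors_of_noZeroDivisors hf0)
    have hnt : Nontrivial (Localization.Away (Ideal.Quotient.mk P a)) := hinj.nontrivial
    obtain ⟨n, hn⟩ := Ideal.exists_maximal (Localization.Away (Ideal.Quotient.mk P a))
    letI := Ideal.Quotient.field n
    have hft1 : Algebra.FiniteType A (A ⧸ P) :=
      Algebra.FiniteType.of_surjective (Ideal.Quotient.mkₐ A P) (Ideal.Quotient.mkₐ_surjective A P)
    have hft2 : Algebra.FiniteType A (Localization.Away (Ideal.Quotient.mk P a)) :=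
      Algebra.FiniteType.trans hft1 inferInstance
    have hft3 : Algebra.FiniteType A (Localization.Away (Ideal.Quotient.mk P a) ⧸ n) :=
      Algebra.FiniteType.of_surjective (Ideal.Quotient.mkₐ A n) (Ideal.Quotient.mkₐ_surjective A n)
    have hfin : Module.Finite A (Localization.Away (Ideal.Quotient.mk P a) ⧸ n) := h3 _ hft3
    have hint : Algebra.IsIntegral A (Localization.Away (Ideal.Quotient.mk P a) ⧸ n) :=
      Algebra.IsIntegral.of_finite A _
    have hmax : (RingHom.ker (algebraMap A (Localization.Away (Ideal.Quotient.mk P a) ⧸ n))).IsMaximal := by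
      have := Ideal.isMaximal_comap_of_isIntegral_of_isMaximal (R := A)
        (⊥ : Ideal (Localization.Away (Ideal.Quotient.mk P a) ⧸ n))
      exact this
    have hPm : P ≤ RingHom.ker (algebraMap A (Localization.Away (Ideal.Quotient.mk P a) ⧸ n)) := by
      intro x hx
      rw [RingHom.mem_ker]
      have : algebraMap A (Localization.Away (Ideal.Quotient.mk P a) ⧸ n) x =
          Ideal.Quotient.mk n (algebraMap (A ⧸ P) _ (Ideal.Quotient.mk P x)) := rfl
      rw [this, Ideal.Quotient.eq_zero_iff_mem.mpr hx, map_zero, map_zero]
    have ham : a ∈ RingHom.ker (algebraMap A (Localization.Away (Ideal.Quotient.mk P a) ⧸ n)) := by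
      rw [Ideal.jacobson, Ideal.mem_sInf] at ha
      exact ha ⟨hPm, hmax⟩
    rw [RingHom.mem_ker] at ham
    have h1 : algebraMap A (Localization.Away (Ideal.Quotient.mk P a) ⧸ n) a =
        Ideal.Quotient.mk n (algebraMap (A ⧸ P) _ (Ideal.Quotient.mk P a)) := rfl
    have hu : IsUnit (algebraMap (A ⧸ P) (Localization.Away (Ideal.Quotient.mk P a))
        (Ideal.Quotient.mk P a)) := IsLocalization.Away.algebraMap_isUnit _
    have hu' := hu.map (Ideal.Quotient.mk n)
    rw [← h1, ham] at hu'
    exact not_isUnit_zero hu'
  tfae_have 3 → 2 := by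
    intro h3 p hp hpmax f hf0 hfield
    have hinj : Function.Injective (algebraMap (A ⧸ p) (Localization.Away f)) :=
      IsLocalization.injective _ (powers_le_nonZeroDivisors_of_noZeroDivisors hf0)
    letI := hfield.toField
    have hft1 : Algebra.FiniteType A (A ⧸ p) :=
      Algebra.FiniteType.of_surjective (Ideal.Quotient.mkₐ A p) (Ideal.Quotient.mkₐ_surjective A p)
    have hft2 : Algebra.FiniteType A (Localization.Away f) :=
      Algebra.FiniteType.trans hft1 inferInstance
    have hfin : Module.Finite A (Localization.Away f) := h3 _ hft2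
    have hfin' : Module.Finite (A ⧸ p) (Localization.Away f) :=
      Module.Finite.of_restrictScalars_finite A (A ⧸ p) (Localization.Away f)
    have hint : Algebra.IsIntegral (A ⧸ p) (Localization.Away f) := Algebra.IsIntegral.of_finite _ _
    have : IsField (A ⧸ p) := isField_of_isIntegral_of_isField hinj hfield
    exact hpmax (Ideal.Quotient.maximal_of_isField p this)
  tfae_have 2 → 3 := by
    intro h2 K _ _ hft
    have hp : (RingHom.ker (algebraMap A K)).IsPrime := RingHom.ker_isPrime _
    letI : Algebra (A ⧸ RingHom.ker (algebraMap A K)) K :=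
      (RingHom.kerLift (algebraMap A K)).toAlgebra
    haveI : IsScalarTower A (A ⧸ RingHom.ker (algebraMap A K)) K :=
      IsScalarTower.of_algebraMap_eq (fun x => rfl)
    have hinj : Function.Injective (algebraMap (A ⧸ RingHom.ker (algebraMap A K)) K) :=
      RingHom.kerLift_injective _
    haveI : Algebra.FiniteType (A ⧸ RingHom.ker (algebraMap A K)) K :=
      Algebra.FiniteType.of_restrictScalars_finiteType A _ K
    obtain ⟨f, hf0, hfield⟩ :=
      Groth.Agent.Lib.Helper25.exists_away_isField_of_finiteType_field
        (A ⧸ RingHom.ker (algebraMap A K)) K hinj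
    have hmax : (RingHom.ker (algebraMap A K)).IsMaximal := by
      by_contra hnm
      exact h2 _ hnm f hf0 hfield
    letI := Ideal.Quotient.field (RingHom.ker (algebraMap A K))
    haveI : Module.Finite (A ⧸ RingHom.ker (algebraMap A K)) K :=
      finite_of_finite_type_of_isJacobsonRing _ K
    haveI : Module.Finite A (A ⧸ RingHom.ker (algebraMap A K)) :=
      Module.Finite.of_surjective (Algebra.linearMap A _) Ideal.Quotient.mk_surjective
    exact Module.Finite.trans (A ⧸ RingHom.ker (algebraMap A K)) K
  tfae_finish

end Groth.Agent.S4862
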