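import Groth.Statements.S4864
import Mathlib
import Groth.Agent.S4863
import Groth.Agent.Lib.Helper38.QCClosure

set_option autoImplicit false
universe u
open EGA43

namespace Groth.Agent.S4864


open AlgebraicGeometry CategoryTheory Limits in
/-- Let f : X ⟶ Y and g : Y ⟶ Z be morphisms of finite presentation and F a quasi-coherent O_X-module of
finite presentation. Then the set U of points y of Y such that, for every generization y' of y, F is
(f ≫ g)-flat at every point of X above y', is open in Y. -/
theorem result {X Y Z : Scheme.{u}} (f : X ⟶ Y) (g : Y ⟶ Z)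
    [LocallyOfFinitePresentation f] [QuasiCompact f] [QuasiSeparated f]
    [LocallyOfFinitePresentation g] [QuasiCompact g] [QuasiSeparated g]
    (F : X.Modules) [Coh.IsQCoh F] (hF : CohB1.IsFP F) :
    IsOpen {y : Y | ∀ y' : Y, y' ⤳ y → ∀ x : X, f x = y' → FlatMod.IsFlatOverAt (f ≫ g) F x} := by
  have hW : IsOpen {x : X | FlatMod.IsFlatOverAt (f ≫ g) F x} :=
    Groth.Agent.S4863.result (f ≫ g) F hF
  set W := {x : X | FlatMod.IsFlatOverAt (f ≫ g) F x} with hWdef
  have hC : IsClosed Wᶜ := hW.isClosed_compl
  have hset : {y : Y | ∀ y' : Y, y' ⤳ y → ∀ x : X, f x = y' → FlatMod.IsFlatOverAt (f ≫ g) F x} =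
      (closure (f '' Wᶜ))ᶜ := by
    ext y
    simp only [Set.mem_setOf_eq, Set.mem_compl_iff]
    constructor
    · intro h hy
      obtain ⟨c, hc, hcy⟩ :=
        Groth.Agent.Lib.Helper38.QCClosure.exists_specializes_of_mem_closure_image f Wᶜ hC y hy
      exact hc (h (f c) hcy c rfl)
    · intro h y' hy' x hx
      by_contra hxW
      apply h
      have h1 : y' ∈ closure (f '' Wᶜ) := subset_closure ⟨x, hxW, hx⟩
      exact hy'.mem_closed isClosed_closure h1
  rw [hset]
  exact isClosed_closure.isOpen_compl

end Groth.Agent.S4864
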