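import Groth.Statements.S4866
import Groth.Agent.S4850
import Groth.Agent.S4851
import Groth.Agent.S4863
import Groth.Agent.Lib.QCoh.Local
import Groth.Agent.Lib.QCoh.Coherent
import Groth.Agent.Lib.QCoh.FinitePresentation

set_option maxHeartbeats 1000000
set_option linter.style.haveILetI false

set_option autoImplicit false
universe u
open EGA43

namespace Groth.Agent.S4866


section Algebra

variable {B N C : Type*} [CommRing B] [AddCommGroup N] [Module B N] [AddCommGroup C] [Module B C]

/-- `(N/JN)/g(N/JN) ≅ C/JC` for `C = N/gN`. -/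
theorem exists_quotSMulTop_equiv (J : Ideal B) (g : B) (uₗ : N →ₗ[B] N) (hu : ∀ n, uₗ n = g • n)
    (πₗ : N →ₗ[B] C) (hπ : Function.Surjective πₗ) (hex : Function.Exact uₗ πₗ) :
    Nonempty (QuotSMulTop g (N ⧸ (J • ⊤ : Submodule B N)) ≃ₗ[B] (C ⧸ (J • ⊤ : Submodule B C))) := by
  let φ₁ : N →ₗ[B] (C ⧸ (J • ⊤ : Submodule B C)) := (Submodule.mkQ _) ∘ₗ πₗ
  let φ₂ : N →ₗ[B] QuotSMulTop g (N ⧸ (J • ⊤ : Submodule B N)) :=
    (Submodule.mkQ _) ∘ₗ (Submodule.mkQ (J • ⊤ : Submodule B N))
  have h₁ : Function.Surjective φ₁ := (Submodule.mkQ_surjective _).comp hπ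
  have h₂ : Function.Surjective φ₂ :=
    (Submodule.mkQ_surjective _).comp (Submodule.mkQ_surjective _)
  have hk₁ : ∀ n, φ₁ n = 0 ↔ ∃ a ∈ (J • ⊤ : Submodule B N), ∃ b, n = a + g • b := by
    intro n
    change Submodule.Quotient.mk (πₗ n) = 0 ↔ _
    rw [Submodule.Quotient.mk_eq_zero]
    constructor
    · intro h
      have hmap : (J • ⊤ : Submodule B C) = Submodule.map πₗ (J • ⊤ : Submodule B N) := by
        rw [Submodule.map_smul'', Submodule.map_top, LinearMap.range_eq_top.2 hπ]
      rw [hmap] at h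
      obtain ⟨a, ha, hae⟩ := h
      have : πₗ (n - a) = 0 := by rw [map_sub, hae, sub_self]
      obtain ⟨b, hb⟩ := (hex (n - a)).1 this
      refine ⟨a, ha, b, ?_⟩
      rw [← hu, hb]; abel
    · rintro ⟨a, ha, b, rfl⟩
      have h0 : πₗ (g • b) = 0 := by rw [← hu]; exact (hex _).2 ⟨b, rfl⟩
      rw [map_add, h0, add_zero]
      exact Submodule.smul_top_le_comap_smul_top J πₗ ha
  have hk₂ : ∀ n, φ₂ n = 0 ↔ ∃ a ∈ (J • ⊤ : Submodule B N), ∃ b, n = a + g • b := by
    intro n
    change Submodule.Quotient.mk (Submodule.Quotient.mk n) = 0 ↔ _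
    rw [Submodule.Quotient.mk_eq_zero]
    constructor
    · intro h
      obtain ⟨y, hy⟩ := (Submodule.mem_smul_pointwise_iff_exists _ _ _).1 h
      obtain ⟨_, hyn⟩ := hy
      obtain ⟨b, rfl⟩ := Submodule.Quotient.mk_surjective _ y
      have : (Submodule.Quotient.mk (n - g • b) : N ⧸ (J • ⊤ : Submodule B N)) = 0 := by
        rw [Submodule.Quotient.mk_sub, Submodule.Quotient.mk_smul, ← hyn, sub_self]
      rw [Submodule.Quotient.mk_eq_zero] at this
      exact ⟨n - g • b, this, b, by abel⟩
    · rintro ⟨a, ha, b, rfl⟩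
      rw [Submodule.Quotient.mk_add, Submodule.Quotient.mk_smul,
        (Submodule.Quotient.mk_eq_zero _).2 ha, zero_add]
      exact Submodule.smul_mem_pointwise_smul _ _ _ Submodule.mem_top
  have hker : LinearMap.ker φ₂ = LinearMap.ker φ₁ := by
    ext n
    rw [LinearMap.mem_ker, LinearMap.mem_ker, hk₁, hk₂]
  exact ⟨(LinearMap.quotKerEquivOfSurjective φ₂ h₂).symm ≪≫ₗ
    (Submodule.quotEquivOfEq _ _ hker) ≪≫ₗ (LinearMap.quotKerEquivOfSurjective φ₁ h₁)⟩

/-- regularity on the quotient `N/JN`, elementwise. -/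
theorem isSMulRegular_quot_iff (J : Ideal B) (g : B) :
    IsSMulRegular (N ⧸ (J • ⊤ : Submodule B N)) g ↔
      ∀ m : N, g • m ∈ (J • ⊤ : Submodule B N) → m ∈ (J • ⊤ : Submodule B N) := by
  constructor
  · intro h m hm
    have h0 : g • (Submodule.Quotient.mk m : N ⧸ (J • ⊤ : Submodule B N)) = g • 0 := by
      rw [smul_zero, ← Submodule.Quotient.mk_smul, Submodule.Quotient.mk_eq_zero]
      exact hm
    exact (Submodule.Quotient.mk_eq_zero _).1 (h h0)
  · intro h a b hab
    obtain ⟨a, rfl⟩ := Submodule.Quotient.mk_surjective _ a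
    obtain ⟨b, rfl⟩ := Submodule.Quotient.mk_surjective _ b
    have h1 : g • (a - b) ∈ (J • ⊤ : Submodule B N) := by
      rw [← Submodule.Quotient.mk_eq_zero, Submodule.Quotient.mk_smul, Submodule.Quotient.mk_sub,
        smul_sub]
      exact sub_eq_zero.2 hab
    have := h _ h1
    rw [← Submodule.Quotient.mk_eq_zero, Submodule.Quotient.mk_sub] at this
    exact sub_eq_zero.1 this

end Algebra

section Geom

open AlgebraicGeometry CategoryTheory Limits Opposite Groth.Agent.Lib.QCoh

variable {X : Scheme.{u}}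

/-- multiplication by a global function, on sections. -/
noncomputable def mulFun (F : X.Modules) (g : Γ(X, ⊤)) (U : X.Opens) : Γ(F, U) →+ Γ(F, U) :=
  DistribSMul.toAddMonoidHom Γ(F, U)
    (X.presheaf.map (homOfLE (le_top : U ≤ ⊤)).op g : Γ(X, U))

theorem mulFun_apply (F : X.Modules) (g : Γ(X, ⊤)) (U : X.Opens) (s : Γ(F, U)) :
    mulFun F g U s = (X.presheaf.map (homOfLE (le_top : U ≤ ⊤)).op g : Γ(X, U)) • s := rfl

theorem mulFun_smul (F : X.Modules) (g : Γ(X, ⊤)) (U : X.Opens) (r : Γ(X, U)) (s : Γ(F, U)) :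
    mulFun F g U (r • s) = r • mulFun F g U s := by
  rw [mulFun_apply, mulFun_apply, smul_comm]

theorem mulFun_map (F : X.Modules) (g : Γ(X, ⊤)) {U V : X.Opens} (i : V ⟶ U) (s : Γ(F, U)) :
    mulFun F g V (F.presheaf.map i.op s) = F.presheaf.map i.op (mulFun F g U s) := by
  rw [mulFun_apply, mulFun_apply, Scheme.Modules.map_smul]
  congr 1
  have h : (homOfLE (le_top : V ≤ ⊤)).op = (homOfLE (le_top : U ≤ ⊤)).op ≫ i.op := rfl
  rw [h, Functor.map_comp]
  rfl

/-- multiplication by a global function on an `O_X`-module. -/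
noncomputable def mulEnd (F : X.Modules) (g : Γ(X, ⊤)) : F ⟶ F :=
  ⟨PresheafOfModules.homMk
    { app := fun U => AddCommGrpCat.ofHom (mulFun F g U.unop)
      naturality := fun {U V} i => by
        ext s
        exact mulFun_map F g i.unop s }
    (fun U r s => mulFun_smul F g U.unop r s)⟩

theorem mulEnd_app (F : X.Modules) (g : Γ(X, ⊤)) (U : X.Opens) (s : Γ(F, U)) :
    (mulEnd F g).app U s = (X.presheaf.map (homOfLE (le_top : U ≤ ⊤)).op g : Γ(X, U)) • s := rfl

theorem stalkMap_mulEnd (F : X.Modules) (g : Γ(X, ⊤)) (x : X) (m : F.presheaf.stalk x) :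
    stalkMap (mulEnd F g) x m = (X.presheaf.germ ⊤ x trivial g) • m := by
  obtain ⟨U, hx, s, rfl⟩ := F.presheaf.exists_germ_eq m
  rw [stalkMap_germ, mulEnd_app, germ_smul, TopCat.Presheaf.germ_res_apply]

end Geom

section Main

open AlgebraicGeometry CategoryTheory Limits Opposite Groth.Agent.Lib.QCoh

/-- the open set for a not necessarily flat coherent module (flat locus ∩ fibrewise weakly regular
locus), by induction on the length of the sequence. -/
theorem isOpen_aux {X Y : Scheme.{u}} (f : X ⟶ Y) [LocallyOfFinitePresentation f]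
    [IsLocallyNoetherian X] (n : ℕ) :
    ∀ (g : Fin n → Γ(X, ⊤)) (F : X.Modules) (_ : Coh.IsCoh F),
    IsOpen {x : X | FlatMod.IsFlatOverAt f F x ∧
      RingTheory.Sequence.IsWeaklyRegular
        (↑(F.presheaf.stalk x) ⧸ (Ideal.map (f.stalkMap x).hom (IsLocalRing.maximalIdeal ↑(Y.presheaf.stalk (f x))) •
          (⊤ : Submodule ↑(X.presheaf.stalk x) ↑(F.presheaf.stalk x))))
        (List.ofFn fun i => (X.presheaf.germ ⊤ x trivial) (g i))} := by
  induction n with
  | zero =>
    intro g F hF
    haveI : F.IsQuasicoherent := hF.1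
    haveI : F.IsFiniteType := hF.2
    haveI : Coh.IsQCoh F := hF.1
    have hFP : CohB1.IsFP F := isFinitePresentation_of_isLocallyNoetherian F
    have h := Groth.Agent.S4863.result f F hFP
    convert h using 2
    ext x
    constructor
    · exact fun hx => hx.1
    · intro hx
      refine ⟨hx, ?_⟩
      rw [List.ofFn_zero]
      exact RingTheory.Sequence.IsWeaklyRegular.nil _ _
  | succ n ih =>
    intro g F hF
    haveI : F.IsQuasicoherent := hF.1
    haveI : F.IsFiniteType := hF.2
    haveI : Coh.IsQCoh F := hF.1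
    have hFP : CohB1.IsFP F := isFinitePresentation_of_isLocallyNoetherian F
    let u : F ⟶ F := mulEnd F (g 0)
    haveI : (cokernel u).IsQuasicoherent := isQuasicoherent_cokernel u
    haveI : (cokernel u).IsFiniteType := isFiniteType_of_epi (cokernel.π u)
    have hC : Coh.IsCoh (cokernel u) := ⟨inferInstance, inferInstance⟩
    have h1 := Groth.Agent.S4863.result f F hFP
    have h2 := Groth.Agent.S4851.result f F F hFP hFP u
    have h3 := ih (fun i => g i.succ) (cokernel u) hC
    convert (h1.inter h2).inter h3 using 1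
    ext x
    -- stalk data at `x`
    let uₗ : F.presheaf.stalk x →ₗ[X.presheaf.stalk x] F.presheaf.stalk x := stalkMapₗ u x
    let πₗ : F.presheaf.stalk x →ₗ[X.presheaf.stalk x] (cokernel u).presheaf.stalk x :=
      stalkMapₗ (cokernel.π u) x
    have hu : ∀ m, uₗ m = (X.presheaf.germ ⊤ x trivial (g 0)) • m :=
      fun m => stalkMap_mulEnd F (g 0) x m
    have hπsurj : Function.Surjective πₗ := stalkMap_surjective_of_epi (cokernel.π u) x
    have hexact : Function.Exact uₗ πₗ := by
      let T : ShortComplex X.Modules := ShortComplex.mk u (cokernel.π u) (cokernel.condition u)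
      have hT : T.Exact := ShortComplex.exact_of_g_is_cokernel _ (cokernelIsCokernel u)
      have hE := hT.map (stalkFunctor X x)
      rw [ShortComplex.ab_exact_iff] at hE
      intro m
      constructor
      · intro hm
        obtain ⟨m₁, hm₁⟩ := hE m hm
        exact ⟨m₁, hm₁⟩
      · rintro ⟨m₁, rfl⟩
        have h1 : stalkMap u x ≫ stalkMap (cokernel.π u) x = 0 := by
          have h2 := (stalkFunctor X x).map_comp u (cokernel.π u)
          rw [cokernel.condition, (stalkFunctor X x).map_zero] at h2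
          exact h2.symm
        exact congr($h1 m₁)
    obtain ⟨e⟩ := exists_quotSMulTop_equiv
      (Ideal.map (f.stalkMap x).hom (IsLocalRing.maximalIdeal ↑(Y.presheaf.stalk (f x))))
      (X.presheaf.germ ⊤ x trivial (g 0)) uₗ hu πₗ hπsurj hexact
    have hlist : (List.ofFn fun i : Fin (n + 1) => (X.presheaf.germ ⊤ x trivial) (g i)) =
        (X.presheaf.germ ⊤ x trivial) (g 0) ::
          List.ofFn fun i : Fin n => (X.presheaf.germ ⊤ x trivial) (g i.succ) :=
      List.ofFn_succ
    constructor
    · rintro ⟨hflat, hw⟩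
      rw [hlist, RingTheory.Sequence.isWeaklyRegular_cons_iff] at hw
      obtain ⟨hreg, hrest⟩ := hw
      have h4 := (Groth.Agent.S4850.result f F F hFP hFP u x hflat).2 (by
        intro m hm
        have hm' : (X.presheaf.germ ⊤ x trivial (g 0)) • m ∈
            ((Ideal.map (f.stalkMap x).hom (IsLocalRing.maximalIdeal ↑(Y.presheaf.stalk (f x)))) •
              (⊤ : Submodule ↑(X.presheaf.stalk x) ↑(F.presheaf.stalk x))) := by
          rw [← hu m]; exact hm
        exact (isSMulRegular_quot_iff _ _).1 hreg m hm')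
      refine ⟨⟨hflat, h4⟩, h4.2, ?_⟩
      exact (e.isWeaklyRegular_congr _).1 hrest
    · rintro ⟨⟨hflat, h4⟩, -, hrestC⟩
      refine ⟨hflat, ?_⟩
      rw [hlist, RingTheory.Sequence.isWeaklyRegular_cons_iff]
      refine ⟨(isSMulRegular_quot_iff _ _).2 ?_, (e.isWeaklyRegular_congr _).2 hrestC⟩
      intro m hm
      have h5 := (Groth.Agent.S4850.result f F F hFP hFP u x hflat).1 h4 m
      apply h5
      change uₗ m ∈ _
      rw [hu m]
      exact hm

end Main

open AlgebraicGeometry CategoryTheory Limits in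
/-- Let Y be a locally Noetherian scheme, f : X ⟶ Y locally of finite type, F a coherent f-flat
O_X-module and g₁, …, gₙ sections of O_X over X. Then the set of points x of X, with y = f x, such
that the germs (gᵢ)_x form a weakly regular sequence on the fibre module F_x / m_y F_x (each gᵢ is a
non-zero-divisor on the quotient by the preceding ones; the quotient by all of them may be zero) is
open in X. -/
theorem result {X Y : Scheme.{u}} [IsLocallyNoetherian Y] (f : X ⟶ Y)
    [LocallyOfFiniteType f] (F : X.Modules) (hF : Coh.IsCoh F) (hflat : FlatMod.IsFlatOver f F)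
    (n : ℕ) (g : Fin n → Γ(X, ⊤)) :
    IsOpen {x : X |
      RingTheory.Sequence.IsWeaklyRegular
        (↑(F.presheaf.stalk x) ⧸ (Ideal.map (f.stalkMap x).hom (IsLocalRing.maximalIdeal ↑(Y.presheaf.stalk (f x))) •
          (⊤ : Submodule ↑(X.presheaf.stalk x) ↑(F.presheaf.stalk x))))
        (List.ofFn fun i => (X.presheaf.germ ⊤ x trivial) (g i))} := by
  haveI : LocallyOfFinitePresentation f := by
    rw [HasRingHomProperty.iff_appLE (P := @LocallyOfFinitePresentation)]
    intro U V e
    have h1 : RingHom.FiniteType (f.appLE U V e).hom :=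
      HasRingHomProperty.appLE (P := @LocallyOfFiniteType) f inferInstance U V e
    have : IsNoetherianRing Γ(Y, U) := IsLocallyNoetherian.component_noetherian U
    exact RingHom.FinitePresentation.of_finiteType.1 h1
  haveI : IsLocallyNoetherian X := LocallyOfFiniteType.isLocallyNoetherian f
  have h := isOpen_aux f n g F hF
  convert h using 2
  ext x
  exact ⟨fun hx => ⟨hflat x, hx⟩, fun hx => hx.2⟩

end Groth.Agent.S4866
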