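import Groth.Statements.S4872
import Mathlib.AlgebraicGeometry.AffineSpace
import Mathlib.AlgebraicGeometry.Morphisms.Separated
import Mathlib.AlgebraicGeometry.Morphisms.ClosedImmersion
import Mathlib.Tactic.TFAE

set_option autoImplicit false
universe u
open CategoryTheory AlgebraicGeometry
open EGA43

namespace Groth.Agent.S4872

/-- Conditions b), c), d) (schematically dominant families): let p : X ⟶ S be a morphism and (f_i : Z_i
⟶ X) a family of morphisms. The following are equivalent: b) for every open V of X, a section of O_X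
over V whose images in all the Γ(f_i⁻¹(V), O_{Z_i}) are zero is zero; c) for every open U of X, a
closed immersion j : Y ⟶ U through which each restriction f_i⁻¹(U) ⟶ U factors is an isomorphism; d)
for every separated S-scheme X', every open U of X and every pair of S-morphisms u, v : U ⟶ X'
having the same composite with each f_i⁻¹(U) ⟶ U, one has u = v. -/
theorem result {X S : Scheme.{u}} (p : X ⟶ S) {ι : Type u} (Z : ι → Scheme.{u})
    (f : ∀ i, Z i ⟶ X) :
    [(∀ (V : (X).Opens) (t : Γ(X, V)), (∀ i, (f i).app V t = 0) → t = 0),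
      ∀ (U : X.Opens) (Y : Scheme.{u}) (j : Y ⟶ (U : Scheme.{u})), IsClosedImmersion j →
        (∀ i, ∃ g : ((f i) ⁻¹ᵁ U : Scheme.{u}) ⟶ Y, g ≫ j = (f i) ∣_ U) → IsIso j,
      ∀ (X' : Scheme.{u}) (q : X' ⟶ S), IsSeparated q → ∀ (U : X.Opens) (u v : (U : Scheme.{u}) ⟶ X'),
        u ≫ q = U.ι ≫ p → v ≫ q = U.ι ≫ p → (∀ i, ((f i) ∣_ U) ≫ u = ((f i) ∣_ U) ≫ v) → u = v].TFAE := by
  have aux : ∀ {A B : Scheme.{u}} (φ ψ : A ⟶ B) (_ : φ = ψ) (W : B.Opens) (t : Γ(B, W)),
      φ.app W t = 0 → ψ.app W t = 0 := by
    rintro A B φ _ rfl W t h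
    exact h
  tfae_have 1 → 2 := by
    intro h U Y j hj hfac
    rw [IsClosedImmersion.isIso_iff_ker_eq_bot]
    apply Scheme.IdealSheafData.ext
    funext W
    rw [Scheme.IdealSheafData.ideal_bot, Pi.bot_apply, eq_bot_iff]
    intro t ht
    have ht' : j.app W t = 0 := RingHom.mem_ker.mp (j.ideal_ker_le W ht)
    rw [Submodule.mem_bot]
    apply h (U.ι ''ᵁ W) t
    intro i
    obtain ⟨g, hg⟩ := hfac i
    have h1 : ((f i) ∣_ U).app W t = 0 := by
      apply aux _ _ hg
      change g.app (j ⁻¹ᵁ W) (j.app W t) = 0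
      rw [ht', map_zero]
    rw [morphismRestrict_app] at h1
    exact (map_eq_zero_iff _ (ConcreteCategory.bijective_of_isIso
      ((Z i).presheaf.map (eqToHom (image_morphismRestrict_preimage (f i) U W)).op)).1).mp h1
  tfae_have 2 → 3 := by
    intro h X' q hq U u v hu hv huv
    let X'' : Over S := Over.mk (u ≫ q)
    let Y'' : Over S := Over.mk q
    let u' : X'' ⟶ Y'' := Over.homMk u
    let v' : X'' ⟶ Y'' := Over.homMk v (by simp [X'', Y'', hu, hv])
    have : IsSeparated Y''.hom := hq
    have hcl : IsClosedImmersion (Limits.equalizer.ι u' v').left := inferInstance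
    have hiso : IsIso (Limits.equalizer.ι u' v').left := by
      apply h U _ _ hcl
      intro i
      let W'' : Over S := Over.mk (((f i) ∣_ U) ≫ u ≫ q)
      let ι' : W'' ⟶ X'' := Over.homMk ((f i) ∣_ U)
      refine ⟨(Limits.equalizer.lift ι' ?_).left, ?_⟩
      · ext1
        exact huv i
      · rw [← Over.comp_left, Limits.equalizer.lift_ι]
        rfl
    rw [← cancel_epi (Limits.equalizer.ι u' v').left]
    exact congr($(Limits.equalizer.condition u' v').left)
  tfae_have 3 → 1 := by
    intro h V t ht
    let n : Type u := PUnit.{u+1}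
    let t' : Γ(↑V, ⊤) := V.topIso.inv t
    let u : (V : Scheme.{u}) ⟶ 𝔸(n; S) := AffineSpace.homOfVector (V.ι ≫ p) (fun _ => t')
    let v : (V : Scheme.{u}) ⟶ 𝔸(n; S) := AffineSpace.homOfVector (V.ι ≫ p) (fun _ => 0)
    have huv : u = v := by
      apply h 𝔸(n; S) (𝔸(n; S) ↘ S) inferInstance V u v
        (AffineSpace.homOfVector_over _ _) (AffineSpace.homOfVector_over _ _)
      intro i
      simp only [u, v]
      rw [AffineSpace.comp_homOfVector, AffineSpace.comp_homOfVector]
      congr 1
      funext _
      simp only [Function.comp_apply, map_zero]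
      -- `(f i ∣_ V).appTop t' = 0`
      have key : ∀ (V' : X.Opens) (e : V' = V),
          (f i).app V' (X.presheaf.map (eqToHom e).op t) = 0 := by
        rintro V' rfl
        simpa using ht i
      have := key (V.ι ''ᵁ ⊤) V.ι_image_top
      refine (ConcreteCategory.congr_hom (morphismRestrict_appTop (f i) V) t').trans ?_
      change (Z i).presheaf.map _ ((f i).app (V.ι ''ᵁ ⊤) (X.presheaf.map (eqToHom V.ι_image_top).op t)) = 0
      rw [this, map_zero]
    have h1 : u.appTop (AffineSpace.coord S PUnit.unit) = t' :=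
      AffineSpace.homOfVector_appTop_coord _ _ _
    have h2 : v.appTop (AffineSpace.coord S PUnit.unit) = 0 :=
      AffineSpace.homOfVector_appTop_coord _ _ _
    rw [huv, h2] at h1
    have h3 : V.topIso.hom t' = t := by
      simp only [t']
      rw [← CommRingCat.comp_apply, Iso.inv_hom_id]
      rfl
    rw [← h3, ← h1, map_zero]
  tfae_finish

end Groth.Agent.S4872
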