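import Groth.Statements.S4873
-- import your own Groth.Agent.* helpers here

set_option autoImplicit false
universe u
open CategoryTheory AlgebraicGeometry
open EGA43

namespace Groth.Agent.S4873

/-- Let (f_i : Z_i ⟶ X) be a family of morphisms. If the family is schematically dominant, i.e. a
section of O_X over an open V whose pullback to every f_i⁻¹(V) vanishes is zero, then the union of
the images f_i(Z_i) is dense in X. Conversely, if X is reduced and this union is dense, the family
is schematically dominant. -/
theorem result {X : Scheme.{u}} {ι : Type u} (Z : ι → Scheme.{u})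
    (f : ∀ i, Z i ⟶ X) :
    ((∀ (V : (X).Opens) (t : Γ(X, V)), (∀ i, (f i).app V t = 0) → t = 0) → Dense (⋃ i, Set.range (f i))) ∧
    (IsReduced X → Dense (⋃ i, Set.range (f i)) → (∀ (V : (X).Opens) (t : Γ(X, V)), (∀ i, (f i).app V t = 0) → t = 0)) := by
  constructor
  · intro h
    rw [dense_iff_closure_eq]
    set S : Set X := ⋃ i, Set.range (f i) with hS
    let V : X.Opens := ⟨(closure S)ᶜ, isClosed_closure.isOpen_compl⟩
    have hV : ∀ i, (f i) ⁻¹ᵁ V = ⊥ := by
      intro i
      ext z
      simp only [Scheme.Hom.mem_preimage, TopologicalSpace.Opens.coe_bot, Set.mem_empty_iff_false,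
        iff_false, SetLike.mem_coe]
      intro hz
      exact hz (subset_closure (Set.mem_iUnion.mpr ⟨i, z, rfl⟩))
    have h1 : (1 : Γ(X, V)) = 0 := by
      apply h V 1
      intro i
      have : Subsingleton Γ(Z i, (f i) ⁻¹ᵁ V) := by
        rw [hV i]
        infer_instance
      exact Subsingleton.elim _ _
    have h2 : V = ⊥ := by
      rw [← X.basicOpen_of_isUnit (U := V) isUnit_one, h1, X.basicOpen_zero]
    have h3 : (closure S)ᶜ = ∅ := congrArg (fun W : X.Opens => (W : Set X)) h2
    rw [Set.compl_empty_iff] at h3
    exact h3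
  · intro hred hdense V t ht
    rw [← basicOpen_eq_bot_iff]
    by_contra hne
    have hne' : (X.basicOpen t : Set X).Nonempty := by
      rw [Set.nonempty_iff_ne_empty]
      intro he
      exact hne (TopologicalSpace.Opens.ext he)
    obtain ⟨x, hx1, hx2⟩ := hdense.inter_open_nonempty _ (X.basicOpen t).isOpen hne'
    obtain ⟨i, z, rfl⟩ := Set.mem_iUnion.mp hx2
    have : z ∈ (f i) ⁻¹ᵁ (X.basicOpen t) := hx1
    rw [Scheme.preimage_basicOpen, ht i, Scheme.basicOpen_zero] at this
    exact this

end Groth.Agent.S4873
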