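import Groth.Statements.S4874
-- import your own Groth.Agent.* helpers here

set_option autoImplicit false
universe u
open CategoryTheory AlgebraicGeometry
open EGA43

namespace Groth.Agent.S4874

/-- Let (f_i : Z_i ⟶ X) be a family of morphisms, g : X' ⟶ X a faithfully flat morphism and f'_i : Z_i
×_X X' ⟶ X' the base changes. If the family (f'_i) is schematically dominant, then so is the family
(f_i). (Schematically dominant: a section of the structure sheaf over an open whose pullback along
every member of the family vanishes is zero.) -/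
theorem result {X X' : Scheme.{u}} {ι : Type u} (Z : ι → Scheme.{u})
    (f : ∀ i, Z i ⟶ X) (g : X' ⟶ X) [Flat g] [Surjective g]
    (h : (∀ (V : (X').Opens) (t : Γ(X', V)), (∀ i, (Limits.pullback.snd (f i) g).app V t = 0) → t = 0)) :
    (∀ (V : (X).Opens) (t : Γ(X, V)), (∀ i, (f i).app V t = 0) → t = 0) := by
  intro V t ht
  -- pull back `t` along `g`
  have ht' : g.app V t = 0 := by
    apply h (g ⁻¹ᵁ V) (g.app V t)
    intro i
    have hc : Limits.pullback.fst (f i) g ≫ f i = Limits.pullback.snd (f i) g ≫ g :=
      Limits.pullback.condition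
    have aux : ∀ (φ ψ : Limits.pullback (f i) g ⟶ X) (_ : φ = ψ), φ.app V t = 0 → ψ.app V t = 0 := by
      rintro φ _ rfl h
      exact h
    have h1 := aux _ _ hc (by
      change (Limits.pullback.fst (f i) g).app ((f i) ⁻¹ᵁ V) ((f i).app V t) = 0
      rw [ht i, map_zero])
    exact h1
  -- now check on stalks
  apply TopCat.Presheaf.section_ext X.sheaf V t 0
  intro x hx
  obtain ⟨x', rfl⟩ := ‹Surjective g›.surj x
  have hinj : Function.Injective (g.stalkMap x') := by
    algebraize [(g.stalkMap x').hom]
    have : Module.FaithfullyFlat (X.presheaf.stalk (g x')) (X'.presheaf.stalk x') :=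
      @Module.FaithfullyFlat.of_flat_of_isLocalHom _ _ _ _ _ _ _
        (Flat.stalkMap g x') (g.toLRSHom.prop x')
    exact ‹RingHom.FaithfullyFlat _›.injective
  apply hinj
  change g.stalkMap x' (X.presheaf.germ V (g x') hx t) = g.stalkMap x' (X.presheaf.germ V (g x') hx 0)
  rw [Scheme.Hom.germ_stalkMap_apply, Scheme.Hom.germ_stalkMap_apply, ht']
  simp only [map_zero]

end Groth.Agent.S4874
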