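import Groth.Statements.S4911
import Mathlib
import Groth.Agent.Lib.Helper65.Sep7
import Groth.Agent.Lib.QCoh.Helper50_SepArtin
import Groth.Agent.Lib.Helper61.QCohSections

set_option autoImplicit false
universe u
open CategoryTheory AlgebraicGeometry
open EGA43

namespace Groth.Agent.S4911

open Groth.Agent.Lib.Helper65.Sep TensorProduct TopologicalSpace

attribute [local instance] Algebra.TensorProduct.rightAlgebra

/-- `GoodK.all` for a commutative ring that is a field. -/
theorem goodK_of_isField (K : Type u) [CommRing K] (hK : IsField K) (B A : Type u) [CommRing B]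
    [Algebra K B] [CommRing A] [Algebra K A] : Good A (B ⊗[K] A) := by
  letI := hK.toField
  exact GoodK.all K B A

open CategoryTheory.Limits in
lemma affine_inf {k : Type u} [Field k] {X S' : Scheme.{u}}
    (p : X ⟶ Spec (CommRingCat.of k)) (q : S' ⟶ Spec (CommRingCat.of k))
    {W : X.Opens} {U : S'.Opens} (hW : IsAffineOpen W) (hU : IsAffineOpen U) :
    IsAffineOpen (pullback.fst p q ⁻¹ᵁ W ⊓ pullback.snd p q ⁻¹ᵁ U) := by
  have H : IsPullback (pullback.fst p q) (pullback.snd p q) p q := IsPullback.of_hasPullback p q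
  have hT : IsAffineOpen (⊤ : (Spec (CommRingCat.of k)).Opens) := isAffineOpen_top _
  have : IsAffine (⊤ : (Spec (CommRingCat.of k)).Opens).toScheme := hT
  have : IsAffine U.toScheme := hU
  have : IsAffine W.toScheme := hW
  exact .of_isIso (Scheme.Hom.isPullback_resLE H (US := ⊤) (UT := U) (UX := W)
    (by simp) (by simp) rfl).isoPullback.hom


open CategoryTheory.Limits in
set_option maxHeartbeats 1600000 in
lemma good_sections {k : Type u} [Field k] {X S' : Scheme.{u}}
    (p : X ⟶ Spec (CommRingCat.of k)) (q : S' ⟶ Spec (CommRingCat.of k))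
    {W : X.Opens} {U : S'.Opens} (hW : IsAffineOpen W) (hU : IsAffineOpen U)
    (hh : Γ(pullback p q, pullback.fst p q ⁻¹ᵁ W ⊓ pullback.snd p q ⁻¹ᵁ U))
    (e : (pullback p q).basicOpen hh ≤ pullback.fst p q ⁻¹ᵁ W) :
    @Good Γ(X, W) Γ(pullback p q, (pullback p q).basicOpen hh) _ _
      ((pullback.fst p q).appLE W _ e).hom.toAlgebra := by
  have H : IsPullback (pullback.fst p q) (pullback.snd p q) p q := IsPullback.of_hasPullback p q
  have hT : IsAffineOpen (⊤ : (Spec (CommRingCat.of k)).Opens) := isAffineOpen_top _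
  have hP := affine_inf p q hW hU
  have hUST : U ≤ q ⁻¹ᵁ ⊤ := by simp
  have hUSX : W ≤ p ⁻¹ᵁ ⊤ := by simp
  have hpo := (AlgebraicGeometry.isIso_pushoutSection_iff H hUST hUSX rfl).mp
    (AlgebraicGeometry.isIso_pushoutSection_of_isAffineOpen H hUST hUSX rfl hT hU hW)
  letI aKA : Algebra Γ(Spec (CommRingCat.of k), ⊤) Γ(X, W) := (p.appLE ⊤ W hUSX).hom.toAlgebra
  letI aKB : Algebra Γ(Spec (CommRingCat.of k), ⊤) Γ(S', U) := (q.appLE ⊤ U hUST).hom.toAlgebra
  letI aAC : Algebra Γ(X, W)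
      Γ(pullback p q, pullback.fst p q ⁻¹ᵁ W ⊓ pullback.snd p q ⁻¹ᵁ U) :=
    ((pullback.fst p q).appLE W _ inf_le_left).hom.toAlgebra
  letI aBC : Algebra Γ(S', U)
      Γ(pullback p q, pullback.fst p q ⁻¹ᵁ W ⊓ pullback.snd p q ⁻¹ᵁ U) :=
    ((pullback.snd p q).appLE U _ inf_le_right).hom.toAlgebra
  letI aKC : Algebra Γ(Spec (CommRingCat.of k), ⊤)
      Γ(pullback p q, pullback.fst p q ⁻¹ᵁ W ⊓ pullback.snd p q ⁻¹ᵁ U) :=
    (((pullback.fst p q).appLE W _ inf_le_left).hom.comp (p.appLE ⊤ W hUSX).hom).toAlgebra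
  haveI t1 : IsScalarTower Γ(Spec (CommRingCat.of k), ⊤) Γ(X, W)
      Γ(pullback p q, pullback.fst p q ⁻¹ᵁ W ⊓ pullback.snd p q ⁻¹ᵁ U) :=
    IsScalarTower.of_algebraMap_eq (fun _ => rfl)
  haveI t2 : IsScalarTower Γ(Spec (CommRingCat.of k), ⊤) Γ(S', U)
      Γ(pullback p q, pullback.fst p q ⁻¹ᵁ W ⊓ pullback.snd p q ⁻¹ᵁ U) := by
    refine IsScalarTower.of_algebraMap_eq (fun x => ?_)
    have := hpo.w
    exact congr(($this).hom x)
  have hpo' : Algebra.IsPushout Γ(Spec (CommRingCat.of k), ⊤) Γ(X, W) Γ(S', U)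
      Γ(pullback p q, pullback.fst p q ⁻¹ᵁ W ⊓ pullback.snd p q ⁻¹ᵁ U) :=
    CommRingCat.isPushout_iff_isPushout.mp hpo
  have hK : IsField Γ(Spec (CommRingCat.of k), ⊤) :=
    MulEquiv.isField (Field.toIsField k)
      (Scheme.ΓSpecIso (CommRingCat.of k)).commRingCatIsoToRingEquiv.toMulEquiv
  have hgoodC : Good Γ(X, W)
      Γ(pullback p q, pullback.fst p q ⁻¹ᵁ W ⊓ pullback.snd p q ⁻¹ᵁ U) :=
    Good.of_algEquiv
      ((Algebra.IsPushout.equiv Γ(Spec (CommRingCat.of k), ⊤) Γ(X, W) Γ(S', U) _).symm.trans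
        (Algebra.TensorProduct.commRight Γ(Spec (CommRingCat.of k), ⊤) Γ(X, W) Γ(S', U)))
      (goodK_of_isField _ hK Γ(S', U) Γ(X, W))
  letI aAC' : Algebra Γ(X, W) Γ(pullback p q, (pullback p q).basicOpen hh) :=
    ((pullback.fst p q).appLE W _ e).hom.toAlgebra
  letI aCC' : Algebra Γ(pullback p q, pullback.fst p q ⁻¹ᵁ W ⊓ pullback.snd p q ⁻¹ᵁ U)
      Γ(pullback p q, (pullback p q).basicOpen hh) :=
    Groth.Agent.Lib.Helper61.QCohSections.resAlgebra (X := pullback p q)
      ((pullback p q).basicOpen_le hh)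
  haveI t3 : IsScalarTower Γ(X, W)
      Γ(pullback p q, pullback.fst p q ⁻¹ᵁ W ⊓ pullback.snd p q ⁻¹ᵁ U)
      Γ(pullback p q, (pullback p q).basicOpen hh) := by
    refine IsScalarTower.of_algebraMap_eq (fun x => ?_)
    have := Scheme.Hom.appLE_map (pullback.fst p q) (inf_le_left :
      pullback.fst p q ⁻¹ᵁ W ⊓ pullback.snd p q ⁻¹ᵁ U ≤ pullback.fst p q ⁻¹ᵁ W)
      (homOfLE ((pullback p q).basicOpen_le hh)).op
    exact congr(($this).hom x).symm
  haveI : IsLocalization.Away hh Γ(pullback p q, (pullback p q).basicOpen hh) :=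
    hP.isLocalization_basicOpen hh
  exact Good.of_isLocalization_away hh hgoodC


open CategoryTheory.Limits in
/-- Case Z_λ = X: let k be a field, X a k-scheme, u_i : F ⟶ G_i a separating family of homomorphisms of
quasi-coherent O_X-modules (a section of F over an open subset killed by every u_i is zero) and S'
an arbitrary k-scheme. Then the family pulled back to X ×_k S' is separating. (The published
statement allows homomorphisms into direct images (f_λ)_*G_λ; this row is the case Z_λ = X.) -/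
theorem result {k : Type u} [Field k] {X S' : Scheme.{u}}
    (p : X ⟶ Spec (CommRingCat.of k)) (q : S' ⟶ Spec (CommRingCat.of k))
    (F : X.Modules) [Coh.IsQCoh F] {ι : Type u} (G : ι → X.Modules) [∀ i, Coh.IsQCoh (G i)] (u : ∀ i, F ⟶ G i)
    (h : (∀ (V : (X).Opens) (t : ↑((F).presheaf.obj (Opposite.op V))), (∀ i, (Scheme.Modules.Hom.mapPresheaf (u i)).app (Opposite.op V) t = 0) → t = 0)) :
    (∀ (V : (pullback p q).Opens) (t : ↑(((Scheme.Modules.pullback (pullback.fst p q)).obj F).presheaf.obj (Opposite.op V))), (∀ i, (Scheme.Modules.Hom.mapPresheaf ((Scheme.Modules.pullback (pullback.fst p q)).map (u i))).app (Opposite.op V) t = 0) → t = 0) := by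
  intro V t ht
  haveI : F.IsQuasicoherent := ‹Coh.IsQCoh F›
  haveI : ∀ i, (G i).IsQuasicoherent := fun i => ‹∀ i, Coh.IsQCoh (G i)› i
  -- the basis
  have hbasis : Opens.IsBasis (Set.range (fun i : {W' : (pullback p q).Opens //
      ∃ (W : X.Opens) (U : S'.Opens) (_ : IsAffineOpen W) (_ : IsAffineOpen U)
        (hh : Γ(pullback p q, pullback.fst p q ⁻¹ᵁ W ⊓ pullback.snd p q ⁻¹ᵁ U)),
        W' = (pullback p q).basicOpen hh} => i.1)) := by
    rw [Opens.isBasis_iff_nbhd]
    intro V x hx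
    obtain ⟨W, hW, hxW, -⟩ := Opens.isBasis_iff_nbhd.1 X.isBasis_affineOpens
      (show (pullback.fst p q).base x ∈ (⊤ : X.Opens) from trivial)
    obtain ⟨U, hU, hxU, -⟩ := Opens.isBasis_iff_nbhd.1 S'.isBasis_affineOpens
      (show (pullback.snd p q).base x ∈ (⊤ : S'.Opens) from trivial)
    have hP := affine_inf p q hW hU
    obtain ⟨hh, hle, hxh⟩ := hP.exists_basicOpen_le (V := V) ⟨x, hx⟩ ⟨hxW, hxU⟩
    exact ⟨_, ⟨⟨_, W, U, hW, hU, hh, rfl⟩, rfl⟩, hxh, hle⟩
  apply Groth.Agent.Lib.QCoh.section_ext_of_isBasis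
    ((Scheme.Modules.pullback (pullback.fst p q)).obj F) _ hbasis t 0
  rintro ⟨W', W, U, hW, hU, hh, rfl⟩ hW'V
  rw [map_zero]
  change ((Scheme.Modules.pullback (pullback.fst p q)).obj F).presheaf.map (homOfLE hW'V).op t = 0
  have hP := affine_inf p q hW hU
  have hW' : IsAffineOpen ((pullback p q).basicOpen hh) := hP.basicOpen hh
  have e : (pullback p q).basicOpen hh ≤ pullback.fst p q ⁻¹ᵁ W :=
    ((pullback p q).basicOpen_le hh).trans inf_le_left
  have hgood := good_sections p q hW hU hh e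
  letI : Algebra Γ(X, W) Γ(pullback p q, (pullback p q).basicOpen hh) :=
    ((pullback.fst p q).appLE W _ e).hom.toAlgebra
  obtain ⟨κ₀, -, hκ₀, -, -⟩ :=
    Groth.Agent.Lib.QCoh.exists_linearEquiv_pullback_map (pullback.fst p q) e hW hW' (𝟙 F)
  set t' := ((Scheme.Modules.pullback (pullback.fst p q)).obj F).presheaf.map
    (homOfLE hW'V).op t with ht'
  obtain ⟨x, hx⟩ := κ₀.surjective t'
  suffices hx0 : x = 0 by rw [← hx, hx0, map_zero]
  -- separation on the affine open W
  have hsep : SepP Γ(X, W) (kerSet (fun i => Groth.Agent.Lib.QCoh.appLinear (u i) W)) := by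
    intro f m hm
    apply Groth.Agent.Lib.Helper22.exists_pow_smul_eq_zero_of_isAffineOpen F hW f m
    apply h (X.basicOpen f)
    intro i
    obtain ⟨n, hn⟩ := hm i
    have hn' : (u i).app W (f ^ n • m) = 0 := hn
    change (u i).app (X.basicOpen f) (F.presheaf.map (homOfLE (X.basicOpen_le f)).op m) = 0
    rw [Groth.Agent.Lib.QCoh.app_naturality_apply (u i) (homOfLE (X.basicOpen_le f)) m]
    have h1 : f ^ n • (u i).app W m = 0 := by
      have : Groth.Agent.Lib.QCoh.appLinear (u i) W (f ^ n • m) = 0 := hn'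
      rwa [map_smul] at this
    have h2 := congrArg ((G i).presheaf.map (homOfLE (X.basicOpen_le f)).op) h1
    rw [Scheme.Modules.map_smul, map_zero, map_pow] at h2
    have hunit : IsUnit (X.presheaf.map (homOfLE (X.basicOpen_le f)).op f) :=
      RingedSpace.isUnit_res_basicOpen _ f
    exact ((hunit.pow n).smul_eq_zero).mp h2
  obtain ⟨n, hn⟩ := hgood Γ(F, W) ι (fun i => Γ(G i, W))
    (fun i => Groth.Agent.Lib.QCoh.appLinear (u i) W) hsep 1 x (fun i => by
    refine ⟨0, ?_⟩
    change (Groth.Agent.Lib.QCoh.appLinear (u i) W).baseChange _ ((1 : Γ(pullback p q,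
      (pullback p q).basicOpen hh)) ^ 0 • x) = 0
    rw [pow_zero, one_smul]
    obtain ⟨κ, κ', hκ, -, hκκ'⟩ :=
      Groth.Agent.Lib.QCoh.exists_linearEquiv_pullback_map (pullback.fst p q) e hW hW' (u i)
    have hκeq : κ x = κ₀ x := by
      refine Groth.Agent.Lib.QCoh.apply_eq_of_one_tmul (t := κ.toLinearMap)
        (t' := κ₀.toLinearMap) ?_ x
      intro m
      change κ (1 ⊗ₜ m) = κ₀ (1 ⊗ₜ m)
      rw [hκ m, hκ₀ m]
    have h1 := hκκ' x
    rw [hκeq, hx, ht'] at h1
    rw [Groth.Agent.Lib.QCoh.app_naturality_apply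
      ((Scheme.Modules.pullback (pullback.fst p q)).map (u i)) (homOfLE hW'V) t] at h1
    have h2 : ((Scheme.Modules.pullback (pullback.fst p q)).map (u i)).app V t = 0 := ht i
    rw [h2, map_zero] at h1
    exact κ'.injective (h1.symm.trans (map_zero κ').symm))
  rw [one_pow, one_smul] at hn
  exact hn

end Groth.Agent.S4911
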