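import Groth.Statements.S4877
import Mathlib
import Groth.Agent.S4911

set_option autoImplicit false
universe u
open CategoryTheory AlgebraicGeometry
open EGA43

namespace Groth.Agent.S4877

open Groth.Agent.Lib.Helper65.Sep TensorProduct TopologicalSpace

/-- Sections of the structure sheaf vanish if they vanish on the members of a basis. -/
lemma eq_zero_of_isBasis {Y : Scheme.{u}} {κ : Type*} (B : κ → Y.Opens)
    (hB : Opens.IsBasis (Set.range B)) {V : Y.Opens} (s : Γ(Y, V))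
    (h : ∀ (i : κ) (hiV : B i ≤ V), Y.presheaf.map (homOfLE hiV).op s = 0) : s = 0 := by
  refine TopCat.Sheaf.eq_of_locally_eq' Y.sheaf (fun i : {i : κ // B i ≤ V} => B i.1) V
    (fun i => homOfLE i.2) ?_ s 0 (fun i => ?_)
  · intro x hx
    obtain ⟨_, ⟨i, rfl⟩, hxi, hiV⟩ := Opens.isBasis_iff_nbhd.1 hB hx
    exact Opens.mem_iSup.2 ⟨⟨i, hiV⟩, hxi⟩
  · rw [map_zero]; exact h i.1 i.2

/-- Separation on an affine open of the base, from schematic dominance. -/
lemma sep_of_dominant {X : Scheme.{u}} {ι : Type u} (Z : ι → Scheme.{u}) (f : ∀ i, Z i ⟶ X)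
    (h : (∀ (V : (X).Opens) (t : Γ(X, V)), (∀ i, (f i).app V t = 0) → t = 0))
    {W : X.Opens} (hW : IsAffineOpen W) (a m : Γ(X, W))
    (hm : ∀ (i : ι) (Zα : (Z i).Opens) (_ : IsAffineOpen Zα) (hle : Zα ≤ f i ⁻¹ᵁ W),
      ∃ n : ℕ, (f i).appLE W Zα hle (a ^ n * m) = 0) :
    ∃ n : ℕ, a ^ n * m = 0 := by
  have hres : X.presheaf.map (homOfLE (X.basicOpen_le a)).op m = 0 := by
    apply h (X.basicOpen a)
    intro i
    apply eq_zero_of_isBasis (fun U : (Z i).affineOpens => U.1)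
      (by rw [Subtype.range_coe]; exact (Z i).isBasis_affineOpens)
    intro Zα hZαle
    have hle : Zα.1 ≤ f i ⁻¹ᵁ W :=
      hZαle.trans ((f i).preimage_mono (X.basicOpen_le a))
    obtain ⟨n, hn⟩ := hm i Zα.1 Zα.2 hle
    have hfac : X.presheaf.map (homOfLE (X.basicOpen_le a)).op ≫
        (f i).appLE (X.basicOpen a) Zα.1 hZαle = (f i).appLE W Zα.1 hle :=
      Scheme.Hom.map_appLE _ _ _
    have hunit : IsUnit (X.presheaf.map (homOfLE (X.basicOpen_le a)).op a) :=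
      RingedSpace.isUnit_res_basicOpen _ a
    rw [← hfac, CommRingCat.comp_apply, map_mul, map_pow, map_mul, map_pow] at hn
    have h2 := ((hunit.map ((f i).appLE (X.basicOpen a) Zα.1 hZαle).hom).pow n).mul_right_eq_zero.mp hn
    rw [Scheme.Hom.appLE, CommRingCat.comp_apply] at h2
    exact h2
  haveI := hW.isLocalization_basicOpen a
  obtain ⟨⟨_, n, rfl⟩, hc⟩ :=
    (IsLocalization.map_eq_zero_iff (Submonoid.powers a) Γ(X, X.basicOpen a) m).mp hres
  exact ⟨n, hc⟩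

open CategoryTheory.Limits in
set_option maxHeartbeats 1600000 in
lemma tmul_one_eq_zero {k : Type u} [Field k] {X S' : Scheme.{u}}
    (p : X ⟶ Spec (CommRingCat.of k)) (q : S' ⟶ Spec (CommRingCat.of k))
    {Zi : Scheme.{u}} (fi : Zi ⟶ X)
    {W : X.Opens} (hW : IsAffineOpen W) {W' : (pullback p q).Opens} (hW' : IsAffineOpen W')
    (e : W' ≤ pullback.fst p q ⁻¹ᵁ W)
    {Zα : Zi.Opens} (hZα : IsAffineOpen Zα) (hle : Zα ≤ fi ⁻¹ᵁ W)
    (t' : Γ(pullback p q, W'))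
    (ht' : (pullback.map (fi ≫ p) q p q fi (𝟙 S') (𝟙 _) (Category.comp_id _)
      ((Category.comp_id _).trans (Category.id_comp _).symm)).app W' t' = 0) :
    letI : Algebra Γ(X, W) Γ(pullback p q, W') := ((pullback.fst p q).appLE W W' e).hom.toAlgebra
    letI : Algebra Γ(X, W) Γ(Zi, Zα) := (fi.appLE W Zα hle).hom.toAlgebra
    (t' ⊗ₜ[Γ(X, W)] (1 : Γ(Zi, Zα))) = 0 := by
  set f' := pullback.map (fi ≫ p) q p q fi (𝟙 S') (𝟙 _) (Category.comp_id _)
      ((Category.comp_id _).trans (Category.id_comp _).symm) with hf'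
  have H : IsPullback f' (pullback.fst (fi ≫ p) q) (pullback.fst p q) fi := by
    refine IsPullback.of_right (h₁₂ := pullback.snd p q) (h₂₂ := p) (v₁₃ := q) ?_ ?_
      (IsPullback.of_hasPullback p q).flip
    · have : f' ≫ pullback.snd p q = pullback.snd (fi ≫ p) q := by
        rw [hf', pullback.map, pullback.lift_snd, Category.comp_id]
      rw [this]
      exact (IsPullback.of_hasPullback (fi ≫ p) q).flip
    · rw [hf', pullback.map, pullback.lift_fst]
  have hpo := (AlgebraicGeometry.isIso_pushoutSection_iff H hle e rfl).mp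
    (AlgebraicGeometry.isIso_pushoutSection_of_isAffineOpen H hle e rfl hW hZα hW')
  letI aAC : Algebra Γ(X, W) Γ(pullback p q, W') :=
    ((pullback.fst p q).appLE W W' e).hom.toAlgebra
  letI aAN : Algebra Γ(X, W) Γ(Zi, Zα) := (fi.appLE W Zα hle).hom.toAlgebra
  letI aCΩ : Algebra Γ(pullback p q, W')
      Γ(pullback (fi ≫ p) q, f' ⁻¹ᵁ W' ⊓ pullback.fst (fi ≫ p) q ⁻¹ᵁ Zα) :=
    (f'.appLE W' _ inf_le_left).hom.toAlgebra
  letI aNΩ : Algebra Γ(Zi, Zα)
      Γ(pullback (fi ≫ p) q, f' ⁻¹ᵁ W' ⊓ pullback.fst (fi ≫ p) q ⁻¹ᵁ Zα) :=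
    ((pullback.fst (fi ≫ p) q).appLE Zα _ inf_le_right).hom.toAlgebra
  letI aAΩ : Algebra Γ(X, W)
      Γ(pullback (fi ≫ p) q, f' ⁻¹ᵁ W' ⊓ pullback.fst (fi ≫ p) q ⁻¹ᵁ Zα) :=
    ((f'.appLE W' _ inf_le_left).hom.comp ((pullback.fst p q).appLE W W' e).hom).toAlgebra
  haveI t1 : IsScalarTower Γ(X, W) Γ(pullback p q, W')
      Γ(pullback (fi ≫ p) q, f' ⁻¹ᵁ W' ⊓ pullback.fst (fi ≫ p) q ⁻¹ᵁ Zα) :=
    IsScalarTower.of_algebraMap_eq (fun _ => rfl)
  haveI t2 : IsScalarTower Γ(X, W) Γ(Zi, Zα)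
      Γ(pullback (fi ≫ p) q, f' ⁻¹ᵁ W' ⊓ pullback.fst (fi ≫ p) q ⁻¹ᵁ Zα) := by
    refine IsScalarTower.of_algebraMap_eq (fun x => ?_)
    have := hpo.w
    exact congr(($this).hom x)
  have hpo' : Algebra.IsPushout Γ(X, W) Γ(pullback p q, W') Γ(Zi, Zα)
      Γ(pullback (fi ≫ p) q, f' ⁻¹ᵁ W' ⊓ pullback.fst (fi ≫ p) q ⁻¹ᵁ Zα) :=
    CommRingCat.isPushout_iff_isPushout.mp hpo
  have key := Algebra.IsPushout.equiv_symm_algebraMap_left Γ(X, W) Γ(pullback p q, W') Γ(Zi, Zα)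
    Γ(pullback (fi ≫ p) q, f' ⁻¹ᵁ W' ⊓ pullback.fst (fi ≫ p) q ⁻¹ᵁ Zα) t'
  have hz : algebraMap Γ(pullback p q, W')
      Γ(pullback (fi ≫ p) q, f' ⁻¹ᵁ W' ⊓ pullback.fst (fi ≫ p) q ⁻¹ᵁ Zα) t' = 0 := by
    change (f'.appLE W' _ inf_le_left) t' = 0
    rw [Scheme.Hom.appLE, CommRingCat.comp_apply, ht', map_zero]
  rw [hz, map_zero] at key
  exact key.symm

open CategoryTheory.Limits in
set_option maxHeartbeats 1600000 in
/-- Let k be a field, X a k-scheme, (f_i : Z_i ⟶ X) a schematically dominant family of morphisms and S'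
an arbitrary k-scheme. Then the family of base changes Z_i ×_k S' ⟶ X ×_k S' is schematically
dominant. (Schematically dominant: a section of the structure sheaf over an open whose pullback
along every member vanishes is zero.) -/
theorem result {k : Type u} [Field k] {X S' : Scheme.{u}}
    (p : X ⟶ Spec (CommRingCat.of k)) (q : S' ⟶ Spec (CommRingCat.of k))
    {ι : Type u} (Z : ι → Scheme.{u}) (f : ∀ i, Z i ⟶ X)
    (h : (∀ (V : (X).Opens) (t : Γ(X, V)), (∀ i, (f i).app V t = 0) → t = 0)) :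
    (∀ (V : (Limits.pullback p q).Opens) (t : Γ(Limits.pullback p q, V)), (∀ i, (Limits.pullback.map (f i ≫ p) q p q (f i) (𝟙 S') (𝟙 _) (Category.comp_id _) ((Category.comp_id _).trans (Category.id_comp _).symm)).app V t = 0) → t = 0) := by
  intro V t ht
  -- the basis
  have hbasis : Opens.IsBasis (Set.range (fun i : {W' : (pullback p q).Opens //
      ∃ (W : X.Opens) (U : S'.Opens) (_ : IsAffineOpen W) (_ : IsAffineOpen U)
        (hh : Γ(pullback p q, pullback.fst p q ⁻¹ᵁ W ⊓ pullback.snd p q ⁻¹ᵁ U)),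
        W' = (pullback p q).basicOpen hh} => i.1)) := by
    rw [Opens.isBasis_iff_nbhd]
    intro V x hx
    obtain ⟨W, hW, hxW, -⟩ := Opens.isBasis_iff_nbhd.1 X.isBasis_affineOpens
      (show (pullback.fst p q).base x ∈ (⊤ : X.Opens) from trivial)
    obtain ⟨U, hU, hxU, -⟩ := Opens.isBasis_iff_nbhd.1 S'.isBasis_affineOpens
      (show (pullback.snd p q).base x ∈ (⊤ : S'.Opens) from trivial)
    have hP := Groth.Agent.S4911.affine_inf p q hW hU
    obtain ⟨hh, hle, hxh⟩ := hP.exists_basicOpen_le (V := V) ⟨x, hx⟩ ⟨hxW, hxU⟩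
    exact ⟨_, ⟨⟨_, W, U, hW, hU, hh, rfl⟩, rfl⟩, hxh, hle⟩
  apply eq_zero_of_isBasis _ hbasis t
  rintro ⟨W', W, U, hW, hU, hh, rfl⟩ hW'V
  have hP := Groth.Agent.S4911.affine_inf p q hW hU
  have hW' : IsAffineOpen ((pullback p q).basicOpen hh) := hP.basicOpen hh
  have e : (pullback p q).basicOpen hh ≤ pullback.fst p q ⁻¹ᵁ W :=
    ((pullback p q).basicOpen_le hh).trans inf_le_left
  have hgood := Groth.Agent.S4911.good_sections p q hW hU hh e
  letI : Algebra Γ(X, W) Γ(pullback p q, (pullback p q).basicOpen hh) :=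
    ((pullback.fst p q).appLE W _ e).hom.toAlgebra
  change (pullback p q).presheaf.map (homOfLE hW'V).op t = 0
  set t' := (pullback p q).presheaf.map (homOfLE hW'V).op t with ht'def
  -- the index type: affine opens of the `Z i` mapping into `W`
  let J := Σ i : ι, {Zα : (Z i).Opens // IsAffineOpen Zα ∧ Zα ≤ f i ⁻¹ᵁ W}
  letI algN : ∀ j : J, Algebra Γ(X, W) Γ(Z j.1, j.2.1) :=
    fun j => ((f j.1).appLE W j.2.1 j.2.2.2).hom.toAlgebra
  have hsep : SepP Γ(X, W)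
      (kerSet (fun j : J => Algebra.linearMap Γ(X, W) Γ(Z j.1, j.2.1))) := by
    intro a m hm
    obtain ⟨n, hn⟩ := sep_of_dominant Z f h hW a m (fun i Zα hZα hle => by
      obtain ⟨n, hn⟩ := hm ⟨i, Zα, hZα, hle⟩
      exact ⟨n, hn⟩)
    exact ⟨n, hn⟩
  obtain ⟨n, hn⟩ := hgood Γ(X, W) J (fun j => Γ(Z j.1, j.2.1))
    (fun j => Algebra.linearMap Γ(X, W) Γ(Z j.1, j.2.1)) hsep 1
    (t' ⊗ₜ[Γ(X, W)] (1 : Γ(X, W))) (fun j => by
    refine ⟨0, ?_⟩
    change (Algebra.linearMap Γ(X, W) Γ(Z j.1, j.2.1)).baseChange _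
      ((1 : Γ(pullback p q, (pullback p q).basicOpen hh)) ^ 0 •
        (t' ⊗ₜ[Γ(X, W)] (1 : Γ(X, W)))) = 0
    rw [pow_zero, one_smul, LinearMap.baseChange_tmul, Algebra.linearMap_apply, map_one]
    refine tmul_one_eq_zero p q (f j.1) hW hW' e j.2.2.1 j.2.2.2 t' ?_
    rw [ht'def]
    have hnat := Scheme.Hom.naturality (pullback.map (f j.1 ≫ p) q p q (f j.1) (𝟙 S') (𝟙 _)
      (Category.comp_id _) ((Category.comp_id _).trans (Category.id_comp _).symm))
      (homOfLE hW'V).op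
    have h3 := congr(($hnat).hom t)
    simp only [CommRingCat.hom_comp, RingHom.comp_apply] at h3
    rw [ht j.1, map_zero] at h3
    exact h3)
  rw [one_pow, one_smul] at hn
  have h4 := congrArg (TensorProduct.rid Γ(X, W) _) hn
  simpa using h4

end Groth.Agent.S4877
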