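import Groth.Statements.S4878
-- import your own Groth.Agent.* helpers here

set_option autoImplicit false
universe u
open TensorProduct
open EGA43

namespace Groth.Agent.S4878

/-- Let A be a commutative ring, (u_i : M → M_i) a family of A-linear maps whose kernels have zero
intersection, and N a projective A-module. Then the kernels of the maps u_i ⊗ 1 : M ⊗_A N → M_i ⊗_A
N have zero intersection. -/
theorem result {A : Type u} [CommRing A]
    {M : Type u} [AddCommGroup M] [Module A M] {ι : Type u} (M' : ι → Type u)
    [∀ i, AddCommGroup (M' i)] [∀ i, Module A (M' i)] (u : ∀ i, M →ₗ[A] M' i)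
    (hu : ⨅ i, LinearMap.ker (u i) = ⊥)
    (N : Type u) [AddCommGroup N] [Module A N] [Module.Projective A N] :
    ⨅ i, LinearMap.ker ((u i).rTensor N) = ⊥ := by
  classical
  obtain ⟨s, hs⟩ := Module.projective_def'.mp (inferInstance : Module.Projective A N)
  rw [eq_bot_iff]
  intro x hx
  rw [Submodule.mem_iInf] at hx
  rw [Submodule.mem_bot]
  -- the coordinates
  set g : N →₀ M := TensorProduct.finsuppScalarRight A A M N (s.lTensor M x) with hg
  have hnat : ∀ (i : ι) (t : M ⊗[A] (N →₀ A)) (n : N),
      TensorProduct.finsuppScalarRight A A (M' i) N ((u i).rTensor (N →₀ A) t) n =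
        u i (TensorProduct.finsuppScalarRight A A M N t n) := by
    intro i t n
    induction t using TensorProduct.induction_on with
    | zero => simp
    | tmul m p =>
      simp [TensorProduct.finsuppScalarRight_apply_tmul_apply]
    | add a b ha hb =>
      simp only [map_add, Finsupp.add_apply, ha, hb]
  have hg0 : g = 0 := by
    ext n
    have hmem : g n ∈ ⨅ i, LinearMap.ker (u i) := by
      rw [Submodule.mem_iInf]
      intro i
      rw [LinearMap.mem_ker, hg, ← hnat i]
      have h1 : (u i).rTensor (N →₀ A) (s.lTensor M x) = s.lTensor (M' i) ((u i).rTensor N x) := by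
        rw [← LinearMap.comp_apply, ← LinearMap.comp_apply, LinearMap.rTensor_comp_lTensor,
          LinearMap.lTensor_comp_rTensor]
      rw [h1, LinearMap.mem_ker.mp (hx i)]
      simp
    rw [hu, Submodule.mem_bot] at hmem
    simpa using hmem
  have hy : s.lTensor M x = 0 := by
    have := (TensorProduct.finsuppScalarRight A A M N).injective
    apply this
    rw [map_zero]
    exact hg0
  have hx' : x = (Finsupp.linearCombination A id).lTensor M (s.lTensor M x) := by
    rw [← LinearMap.comp_apply, ← LinearMap.lTensor_comp, hs]
    simp
  rw [hx', hy, map_zero]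

end Groth.Agent.S4878
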