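import Groth.Statements.S4880
import Groth.Agent.Lib.Helper25.GenericOpen
import Mathlib.Tactic.TFAE

set_option autoImplicit false
universe u
open CategoryTheory AlgebraicGeometry
open EGA43

namespace Groth.Agent.S4880

/-- For a Noetherian irreducible scheme X the following are equivalent: a) the generic point of X is an
isolated point; b) the underlying set of X is finite; c) X has dimension at most 1 and finitely many
closed points. -/
theorem result (X : Scheme.{u}) [IsNoetherian X]
    [IrreducibleSpace X] :
    [IsOpen ({genericPoint X} : Set X),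
      Finite X,
      topologicalKrullDim X ≤ 1 ∧ {x : X | IsClosed ({x} : Set X)}.Finite].TFAE := by
  have hη : IsGenericPoint (genericPoint X) (Set.univ : Set X) := genericPoint_spec X
  have hex : ∀ x : X, ∃ W : X.Opens, IsAffineOpen W ∧ x ∈ W := fun x => by
    obtain ⟨W, hW, hxW, _⟩ := exists_isAffineOpen_mem_and_subset (TopologicalSpace.Opens.mem_top x)
    exact ⟨W, hW, hxW⟩
  tfae_have 1 → 2 := by
    intro h
    have := Lib.Helper25.finite_of_isIrreducible_isClosed_of_relOpen_singleton X Set.univ
      isClosed_univ (IrreducibleSpace.isIrreducible_univ X) (genericPoint X) _ h (by simp)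
    exact Set.finite_univ_iff.mp this
  tfae_have 2 → 1 := by
    intro h
    exact Lib.Helper25.isOpen_singleton_of_finite_of_isGenericPoint hη
  tfae_have 2 → 3 := by
    intro h
    refine ⟨?_, Set.toFinite _⟩
    apply Lib.Helper25.topologicalKrullDim_le_of_forall_exists_open
    intro x
    obtain ⟨W, hW, hxW⟩ := hex x
    refine ⟨W, W.isOpen, hxW, ?_⟩
    have : Finite W := Subtype.finite
    exact Lib.Helper25.topologicalKrullDim_le_one_of_finite_affineOpen X W hW
  tfae_have 3 → 2 := by
    rintro ⟨hdim, hfin⟩
    exact Lib.Helper25.finite_of_dim_le_one_of_finite_closedPoints hη hdim hfin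
  tfae_finish

end Groth.Agent.S4880
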