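import Groth.Statements.S4881
import Groth.Agent.Lib.Helper73.SubspaceDim

set_option autoImplicit false
universe u
open CategoryTheory AlgebraicGeometry
open EGA43

namespace Groth.Agent.S4881

open Groth.Agent.Lib.Helper73.SchemeDim Groth.Agent.Lib.Helper73.RelHt

/-- Let X be a locally Noetherian scheme which is Jacobson, whose local rings are universally catenary,
and whose irreducible components X' are equidimensional in the sense that for every closed point x
of X' the dimension of X' equals the dimension of the set of generizations of x in X'. Then for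
every dense open subset U of X, dim U = dim X. -/
theorem result (X : Scheme.{u}) [IsLocallyNoetherian X] [JacobsonSpace X]
    (h2 : ∀ x : X, CAlg.IsUniversallyCatenary (X.presheaf.stalk x))
    (h3 : ∀ X' ∈ irreducibleComponents (X : Type u), ∀ x ∈ X', IsClosed ({x} : Set X) →
      topologicalKrullDim (↥X' : Type u) = topologicalKrullDim ↥{t : X | t ∈ X' ∧ t ⤳ x})
    (U : Set X) (hU : IsOpen U) (hd : Dense U) :
    topologicalKrullDim ↥U = topologicalKrullDim X := by
  refine le_antisymm (topologicalKrullDim_subspace_le X U) ?_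
  haveI : QuasiSober ↥U := hU.isOpenEmbedding_subtypeVal.quasiSober
  rw [← krullDim_eq_topologicalKrullDim]
  apply iSup_le
  intro c
  -- the irreducible component through the generic end of the chain
  set X' := irreducibleComponent c.last with hX'
  have hX'mem : X' ∈ irreducibleComponents (X : Type u) :=
    irreducibleComponent_mem_irreducibleComponents _
  have hX'cl : IsClosed X' := isClosed_irreducibleComponent
  obtain ⟨ξ', hξ'⟩ := QuasiSober.sober (isIrreducible_irreducibleComponent (x := c.last)) hX'cl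
  have hX'eq : X' = closure {ξ'} := hξ'.def.symm
  have hξ'last : ξ' ⤳ c.last := by
    rw [specializes_iff_mem_closure, ← hX'eq]; exact mem_irreducibleComponent
  have hmax : ∀ x' : X, x' ⤳ ξ' → x' = ξ' := by
    rw [← Groth.Agent.S9682.closure_singleton_mem_irreducibleComponents_iff, ← hX'eq]
    exact hX'mem
  have hξ'U : ξ' ∈ U := mem_of_dense_of_isOpen_of_maximal hU hd hmax
  have hξ'X' : ξ' ∈ X' := by rw [hX'eq]; exact subset_closure rfl
  -- a closed point of `X` in `U ∩ X'`
  obtain ⟨x₀, ⟨hx₀U, hx₀X'⟩, hx₀cl⟩ := nonempty_inter_closedPoints (X := X) (Z := U ∩ X')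
    ⟨ξ', hξ'U, hξ'X'⟩ (hU.isLocallyClosed.inter hX'cl.isLocallyClosed)
  -- a closed point below the chain
  obtain ⟨x₁, hx₁cl, hx₁⟩ := exists_isClosed_specializes c.head
  have hheadlast : c.last ⤳ c.head := LTSeries.head_le_last c
  have hx₁X' : x₁ ∈ X' := by
    rw [hX'eq]
    exact specializes_iff_mem_closure.mp ((hξ'last.trans hheadlast).trans hx₁)
  have e1 := h3 X' hX'mem x₁ hx₁X' hx₁cl
  rw [topologicalKrullDim_generalizations_eq_relHt X' ξ' x₁ hX'eq hx₁X'] at e1
  have e0 := h3 X' hX'mem x₀ hx₀X' hx₀cl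
  rw [topologicalKrullDim_generalizations_eq_relHt X' ξ' x₀ hX'eq hx₀X'] at e0
  have heq : relHt x₁ ξ' = relHt x₀ ξ' := WithBot.coe_injective (e1.symm.trans e0)
  have h5 : (c.length : ℕ∞) ≤ relHt x₁ ξ' :=
    length_le_relHt_of_le_of_le (anti X) c (a := x₁) (b := ξ') hx₁ hξ'last
  have hξ'x₀ : ξ' ⤳ x₀ := by
    rw [specializes_iff_mem_closure, ← hX'eq]; exact hx₀X'
  obtain ⟨c₀, hc₀1, hc₀2, hc₀3⟩ := exists_length_eq_relHt (show x₀ ≤ ξ' from hξ'x₀) (anti X x₀ ξ')
    (relHt_lt_top hξ'x₀)
  have hc₀U : ∀ i, c₀ i ∈ U := by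
    intro i
    have h6 : c₀.head ≤ c₀ i := c₀.monotone (Fin.zero_le i)
    rw [hc₀1] at h6
    exact (show c₀ i ⤳ x₀ from h6).mem_open hU hx₀U
  have h7 := length_le_topologicalKrullDim_subtype U c₀ hc₀U
  refine le_trans ?_ h7
  rw [heq, ← hc₀3] at h5
  exact_mod_cast h5

end Groth.Agent.S4881
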