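import Groth.Statements.S4882
import Groth.Agent.Lib.Helper25.QuasiHomeo

set_option autoImplicit false
universe u
open EGA43

namespace Groth.Agent.S4882

/-- Let X be a Jacobson space and Z a locally quasi-constructible subset of X, i.e. every point of X has
an open neighbourhood U such that U ∩ Z is a finite union of locally closed subsets of X. Then the
subspace Z is a Jacobson space, and a point of Z is closed in Z if and only if it is closed in X. -/
theorem result {X : Type u} [TopologicalSpace X] [JacobsonSpace X]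
    (Z : Set X)
    (hZ : ∀ x : X, ∃ U : Set X, IsOpen U ∧ x ∈ U ∧
      ∃ T : Set (Set X), T.Finite ∧ (∀ t ∈ T, IsLocallyClosed t) ∧ U ∩ Z = ⋃₀ T) :
    JacobsonSpace ↥Z ∧ ∀ z : ↥Z, IsClosed ({z} : Set ↥Z) ↔ IsClosed ({(z : X)} : Set X) := by
  classical
  have hZ' : Lib.Helper25.IsLQC Z := hZ
  have hC : Lib.Helper25.IsVeryDense (closedPoints X) := fun W hW hne =>
    nonempty_inter_closedPoints hne hW
  have hA : ∀ z : ↥Z, IsClosed ({z} : Set ↥Z) ↔ IsClosed ({(z : X)} : Set X) := by
    intro z
    constructor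
    · intro hz
      -- `{z}` closed in `Z` means `{z} = closure {z} ∩ Z`
      have h1 : closure ({(z : X)} : Set X) ∩ Z = {(z : X)} := by
        apply Set.Subset.antisymm
        · rintro x ⟨hx1, hx2⟩
          have : (⟨x, hx2⟩ : ↥Z) ∈ closure ({z} : Set ↥Z) := by
            rw [Topology.IsInducing.subtypeVal.closure_eq_preimage_closure_image]
            simpa using hx1
          rw [hz.closure_eq] at this
          simp only [Set.mem_singleton_iff] at this ⊢
          rw [← this]
        · rintro x rfl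
          exact ⟨subset_closure rfl, z.2⟩
      have h2 : Lib.Helper25.IsLQC (closure ({(z : X)} : Set X) ∩ Z) :=
        Lib.Helper25.IsLQC.inter
          (Lib.Helper25.IsQC.isLQC (isClosed_closure.isLocallyClosed.isQC')) hZ'
      rw [h1] at h2
      obtain ⟨y, hy1, hy2⟩ := hC.nonempty_of_isLQC h2 (Set.singleton_nonempty _)
      rw [Set.mem_singleton_iff] at hy1
      subst hy1
      exact hy2
    · intro hz
      have : ({z} : Set ↥Z) = Subtype.val ⁻¹' ({(z : X)} : Set X) := by
        ext w
        simp [Subtype.ext_iff]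
      rw [this]
      exact hz.preimage continuous_subtype_val
  refine ⟨?_, hA⟩
  rw [jacobsonSpace_iff_locallyClosed]
  intro W hWne hW
  obtain ⟨W', hW', rfl⟩ := Topology.IsInducing.subtypeVal.isLocallyClosed_iff.mp hW
  have h2 : Lib.Helper25.IsLQC (W' ∩ Z) :=
    Lib.Helper25.IsLQC.inter (Lib.Helper25.IsQC.isLQC hW'.isQC') hZ'
  obtain ⟨w, hw⟩ := hWne
  obtain ⟨y, ⟨hy1, hy2⟩, hy3⟩ := hC.nonempty_of_isLQC h2 ⟨w.1, hw, w.2⟩
  exact ⟨⟨y, hy2⟩, hy1, (hA ⟨y, hy2⟩).mpr hy3⟩

end Groth.Agent.S4882
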