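import Groth.Statements.S4883
import Groth.Agent.Lib.Helper25.GenericOpen

set_option autoImplicit false
universe u
open CategoryTheory AlgebraicGeometry
open EGA43

namespace Groth.Agent.S4883

/-- Let X be a Noetherian scheme. Then the set of points x of X whose closure is finite is very dense in
X: every nonempty locally closed subset of X contains a point with finite closure. -/
theorem result (X : Scheme.{u}) [IsNoetherian X]
    (Z : Set X) (hZ : IsLocallyClosed Z) (hne : Z.Nonempty) :
    ∃ x ∈ Z, (closure ({x} : Set X)).Finite := by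
  have hcpt : IsCompact Z := TopologicalSpace.NoetherianSpace.isCompact Z
  have : CompactSpace ↥Z := isCompact_iff_compactSpace.mp hcpt
  have hne' : (Set.univ : Set ↥Z).Nonempty := by
    obtain ⟨x, hx⟩ := hne
    exact ⟨⟨x, hx⟩, Set.mem_univ _⟩
  obtain ⟨z, -, hz⟩ := (isClosed_univ (X := ↥Z)).exists_closed_singleton hne'
  obtain ⟨U, F, hU, hF, rfl⟩ := hZ
  refine ⟨z.1, z.2, ?_⟩
  apply Lib.Helper25.finite_of_isIrreducible_isClosed_of_relOpen_singleton X
    (closure ({(z : X)} : Set X)) isClosed_closure isIrreducible_singleton.closure (z : X) U hU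
  apply Set.Subset.antisymm
  · rintro x ⟨hxU, hxY⟩
    have hYF : closure ({(z : X)} : Set X) ⊆ F :=
      closure_minimal (Set.singleton_subset_iff.mpr z.2.2) hF
    have hxZ : x ∈ U ∩ F := ⟨hxU, hYF hxY⟩
    have : (⟨x, hxZ⟩ : ↥(U ∩ F)) ∈ closure ({z} : Set ↥(U ∩ F)) := by
      rw [Topology.IsInducing.subtypeVal.closure_eq_preimage_closure_image]
      simpa using hxY
    rw [hz.closure_eq, Set.mem_singleton_iff] at this
    rw [Set.mem_singleton_iff, ← this]
  · rintro x rfl
    exact ⟨z.2.1, subset_closure rfl⟩

end Groth.Agent.S4883
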