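import Groth.Statements.S4885
import Mathlib.RingTheory.FinitePresentation
import Mathlib.RingTheory.IntegralClosure.IsIntegralClosure.Basic
import Mathlib.RingTheory.Ideal.Quotient.Operations

set_option autoImplicit false
set_option linter.style.haveILetI false
universe u
open EGA43

namespace Groth.Agent.S4885

/-- Every finite algebra A' over a commutative ring A is a directed colimit (filtered inductive limit)
of A-algebras which are finite and of finite presentation over A. -/
theorem result (A A' : Type u) [CommRing A] [CommRing A']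
    [Algebra A A'] [Module.Finite A A'] :
    ∃ (ι : Type u) (_ : Preorder ι) (G : ι → Type u) (_ : ∀ i, CommRing (G i)) (_ : ∀ i, Algebra A (G i))
      (g : ∀ i j, i ≤ j → G i →ₐ[A] G j) (_ : ∀ i, Algebra (G i) A') (_ : ∀ i, IsScalarTower A (G i) A'),
      FlatCA.IsDirectedColimitRing G (fun i j h => (g i j h).toRingHom) A' ∧
        ∀ i, Module.Finite A (G i) ∧ Algebra.FinitePresentation A (G i) := by
  classical
  -- generators of `A'` as a module
  obtain ⟨s, hs⟩ := (Module.finite_def.mp (inferInstance : Module.Finite A A'))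
  let σ : Type u := {x : A' // x ∈ s}
  let P : Type u := MvPolynomial σ A
  let π : P →ₐ[A] A' := MvPolynomial.aeval (fun x : σ => x.1)
  have hπsurj : Function.Surjective π := by
    intro a
    have ha : a ∈ Submodule.span A (s : Set A') := by rw [hs]; trivial
    have hle : Submodule.span A (s : Set A') ≤ Subalgebra.toSubmodule π.range := by
      rw [Submodule.span_le]
      intro x hx
      exact ⟨MvPolynomial.X (⟨x, hx⟩ : σ), MvPolynomial.aeval_X _ _⟩
    exact hle ha
  -- monic equations
  have hint : ∀ x : σ, ∃ p : Polynomial A, p.Monic ∧ Polynomial.aeval x.1 p = 0 := fun x =>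
    Algebra.IsIntegral.isIntegral (R := A) x.1
  choose p hpm hp0 using hint
  let q : σ → P := fun x => Polynomial.aeval (MvPolynomial.X x : P) (p x)
  have hπq : ∀ x, π (q x) = 0 := by
    intro x
    simp only [q]
    rw [← Polynomial.aeval_algHom_apply]
    have : π (MvPolynomial.X x) = x.1 := MvPolynomial.aeval_X _ _
    rw [this]
    exact hp0 x
  let J : Ideal P := RingHom.ker (π : P →+* A')
  let J₀ : Ideal P := Ideal.span (Set.range q)
  have hJ₀fg : J₀.FG := Submodule.fg_span (Set.finite_range q)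
  have hJ₀J : J₀ ≤ J := by
    rw [Ideal.span_le]
    rintro _ ⟨x, rfl⟩
    exact hπq x
  let ι : Type u := {I : Ideal P // I.FG ∧ J₀ ≤ I ∧ I ≤ J}
  let G : ι → Type u := fun I => P ⧸ I.1
  have hker : ∀ (I : ι) (a : P), a ∈ I.1 → π a = 0 := fun I a ha => I.2.2.2 ha
  let toA' : ∀ I : ι, G I →ₐ[A] A' := fun I => Ideal.Quotient.liftₐ I.1 π (hker I)
  letI algG : ∀ I : ι, Algebra (G I) A' := fun I => (toA' I).toRingHom.toAlgebra
  have htower : ∀ I : ι, IsScalarTower A (G I) A' := fun I =>
    IsScalarTower.of_algebraMap_eq fun a => ((toA' I).commutes a).symm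
  have halg : ∀ (I : ι) (a : P), algebraMap (G I) A' (Ideal.Quotient.mk I.1 a) = π a :=
    fun I a => rfl
  refine ⟨ι, inferInstance, G, inferInstance, inferInstance,
    fun I I' h => Ideal.Quotient.factorₐ A (show I.1 ≤ I'.1 from h), algG, htower, ?_, ?_⟩
  · refine ⟨⟨fun I I' => ⟨⟨I.1 ⊔ I'.1, Submodule.FG.sup I.2.1 I'.2.1, le_sup_of_le_left I.2.2.1,
      sup_le I.2.2.2 I'.2.2.2⟩, (le_sup_left : I.1 ≤ I.1 ⊔ I'.1), (le_sup_right : I'.1 ≤ I.1 ⊔ I'.1)⟩⟩, ⟨⟨J₀, hJ₀fg, le_rfl, hJ₀J⟩⟩, ?_, ?_, ?_, ?_, ?_⟩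
    · intro I
      apply Ideal.Quotient.ringHom_ext
      apply RingHom.ext
      intro a
      rfl
    · intro I I' I'' h h'
      apply Ideal.Quotient.ringHom_ext
      apply RingHom.ext
      intro a
      rfl
    · intro I I' h
      apply Ideal.Quotient.ringHom_ext
      apply RingHom.ext
      intro a
      rfl
    · intro a
      obtain ⟨b, rfl⟩ := hπsurj a
      exact ⟨⟨J₀, hJ₀fg, le_rfl, hJ₀J⟩, Ideal.Quotient.mk J₀ b, rfl⟩
    · intro I x hx
      obtain ⟨b, rfl⟩ := Ideal.Quotient.mk_surjective x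
      have hb : b ∈ J := hx
      refine ⟨⟨I.1 ⊔ Ideal.span {b}, Submodule.FG.sup I.2.1 (Submodule.fg_span (Set.finite_singleton b)),
        le_sup_of_le_left I.2.2.1, sup_le I.2.2.2 ((Ideal.span_singleton_le_iff_mem _).mpr hb)⟩,
        (le_sup_left : I.1 ≤ I.1 ⊔ Ideal.span {b}), ?_⟩
      change Ideal.Quotient.mk _ b = 0
      rw [Ideal.Quotient.eq_zero_iff_mem]
      exact Ideal.mem_sup_right (Ideal.mem_span_singleton_self b)
  · intro I
    have hfp : Algebra.FinitePresentation A (G I) :=
      Algebra.FinitePresentation.quotient (A := P) I.2.1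
    refine ⟨?_, hfp⟩
    -- finiteness: generated by integral elements
    have hgen : Algebra.adjoin A (Set.range fun x : σ => (Ideal.Quotient.mk I.1 (MvPolynomial.X x) : G I)) = ⊤ := by
      have h1 : (Algebra.adjoin A (Set.range (MvPolynomial.X : σ → P))).map (Ideal.Quotient.mkₐ A I.1) = ⊤ := by
        rw [MvPolynomial.adjoin_range_X, Algebra.map_top, AlgHom.range_eq_top]
        exact Ideal.Quotient.mkₐ_surjective A I.1
      rw [AlgHom.map_adjoin, ← Set.range_comp] at h1
      exact h1
    have hfg := fg_adjoin_of_finite (R := A)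
      (Set.finite_range fun x : σ => (Ideal.Quotient.mk I.1 (MvPolynomial.X x) : G I)) (by
        rintro _ ⟨x, rfl⟩
        refine ⟨p x, hpm x, ?_⟩
        have : Polynomial.aeval (Ideal.Quotient.mkₐ A I.1 (MvPolynomial.X x)) (p x) =
            Ideal.Quotient.mkₐ A I.1 (q x) := Polynomial.aeval_algHom_apply _ _ _
        change Polynomial.aeval (Ideal.Quotient.mkₐ A I.1 (MvPolynomial.X x)) (p x) = 0
        rw [this]
        change Ideal.Quotient.mk I.1 (q x) = 0
        rw [Ideal.Quotient.eq_zero_iff_mem]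
        exact I.2.2.1 (Ideal.subset_span ⟨x, rfl⟩))
    rw [hgen] at hfg
    exact Module.finite_def.mpr hfg

end Groth.Agent.S4885
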