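import Groth.Statements.S4886
import Groth.Agent.Lib.Helper25.FiniteTypeZ
import Mathlib.AlgebraicGeometry.Morphisms.Finite
import Mathlib.AlgebraicGeometry.ResidueField

set_option autoImplicit false
universe u
open CategoryTheory AlgebraicGeometry
open EGA43

namespace Groth.Agent.S4886

/-- Let Y be a scheme of finite type over ℤ. (i) A point y of Y is closed if and only if the residue
field k(y) is finite. (ii) For every prime number p and every integer d ≥ 1, the set of points y of
Y such that k(y) is an extension of 𝔽_p of degree dividing d, i.e. admits a ring homomorphism into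
the field with p^d elements, is finite. -/
theorem result (Y : Scheme.{u}) [CompactSpace Y]
    [LocallyOfFiniteType (Limits.IsTerminal.from specULiftZIsTerminal Y)] :
    (∀ y : Y, IsClosed ({y} : Set Y) ↔ Finite ↑(Y.residueField y)) ∧
    ∀ (p d : ℕ) [Fact p.Prime], 0 < d →
      {y : Y | Nonempty (↑(Y.residueField y) →+* GaloisField p d)}.Finite := by
  classical
  set T : Scheme.{u} := Spec (.of (ULift.{u} ℤ)) with hT
  set f : Y ⟶ T := Limits.IsTerminal.from specULiftZIsTerminal Y with hf
  -- `Γ(T, ⊤) ≃+* ℤ`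
  let eT : Γ(T, ⊤) ≃+* ℤ :=
    (Scheme.ΓSpecIso (.of (ULift.{u} ℤ))).commRingCatIsoToRingEquiv.trans ULift.ringEquiv
  have hJ : IsJacobsonRing (ULift.{u} ℤ) :=
    Lib.Helper25.isJacobsonRing_of_ringEquiv_int ULift.ringEquiv
  have : JacobsonSpace T := inferInstanceAs (JacobsonSpace (Spec (.of (ULift.{u} ℤ))))
  have : JacobsonSpace Y := LocallyOfFiniteType.jacobsonSpace f
  refine ⟨fun y => ⟨fun hy => ?_, fun hy => ?_⟩, ?_⟩
  · -- closed point has finite residue field
    have h1 : LocallyOfFiniteType (Y.fromSpecResidueField y) :=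
      isClosed_singleton_iff_locallyOfFiniteType.mp hy
    have h2 : IsFinite (Y.fromSpecResidueField y ≫ f) :=
      (isFinite_iff_locallyOfFiniteType_of_jacobsonSpace
        (f := Y.fromSpecResidueField y ≫ f)).mpr inferInstance
    have h3 := (Y.fromSpecResidueField y ≫ f).finite_appTop
    let eK : Γ(Spec (Y.residueField y), ⊤) ≃+* Y.residueField y :=
      (Scheme.ΓSpecIso (Y.residueField y)).commRingCatIsoToRingEquiv
    have h4 : ((eK : Γ(Spec (Y.residueField y), ⊤) →+* Y.residueField y).comp
        (Y.fromSpecResidueField y ≫ f).appTop.hom).Finite :=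
      (RingHom.Finite.of_surjective _ eK.surjective).comp h3
    exact Lib.Helper25.finite_of_finite_ringHom_of_ringEquiv_int eT _ h4
  · -- finite residue field implies closed
    apply isClosed_singleton_iff_locallyOfFiniteType.mpr
    have : LocallyOfFiniteType (Y.fromSpecResidueField y ≫ f) := by
      obtain ⟨ψ, hψ⟩ := Spec.map_surjective (Y.fromSpecResidueField y ≫ f)
      rw [← hψ, HasRingHomProperty.Spec_iff (P := @LocallyOfFiniteType)]
      have : Finite ↑(Y.residueField y) := hy
      apply RingHom.FiniteType.of_finite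
      exact @Module.Finite.of_finite _ _ _ _ ψ.hom.toAlgebra.toModule hy
    exact locallyOfFiniteType_of_comp (Y.fromSpecResidueField y) f
  · intro p d _ hd
    -- finite affine cover
    have hex : ∀ x : Y, ∃ W : Y.Opens, IsAffineOpen W ∧ x ∈ W := fun x => by
      obtain ⟨W, hW, hxW, _⟩ := exists_isAffineOpen_mem_and_subset (TopologicalSpace.Opens.mem_top x)
      exact ⟨W, hW, hxW⟩
    choose W hW hxW using hex
    obtain ⟨t, ht⟩ := isCompact_univ.elim_nhds_subcover (fun x => (W x : Set Y))
      (fun x _ => (W x).isOpen.mem_nhds (hxW x))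
    have hsub : {y : Y | Nonempty (↑(Y.residueField y) →+* GaloisField p d)} ⊆
        ⋃ x ∈ t, {y : Y | y ∈ W x ∧ Nonempty (↑(Y.residueField y) →+* GaloisField p d)} := by
      intro y hy
      obtain ⟨x, hxt, hyx⟩ := Set.mem_iUnion₂.mp (ht.2 (Set.mem_univ y))
      exact Set.mem_iUnion₂.mpr ⟨x, hxt, hyx, hy⟩
    refine Set.Finite.subset (Set.Finite.biUnion t.finite_toSet fun x _ => ?_) hsub
    -- the affine case
    have hft : (f.appLE ⊤ (W x) le_top).hom.FiniteType :=
      f.finiteType_appLE (isAffineOpen_top T) (hW x) le_top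
    have : Subsingleton (Γ(T, ⊤) →+* GaloisField p d) := by
      constructor
      intro a b
      have : a.comp (eT.symm : ℤ →+* Γ(T, ⊤)) = b.comp (eT.symm : ℤ →+* Γ(T, ⊤)) :=
        Subsingleton.elim _ _
      ext r
      have h := RingHom.congr_fun this (eT r)
      rwa [RingHom.comp_apply, RingHom.comp_apply, RingEquiv.coe_toRingHom,
        RingEquiv.symm_apply_apply] at h
    have : Finite (GaloisField p d) := by
      have : Fintype (GaloisField p d) := Fintype.ofFinite _
      infer_instance
    have hfinHom : Finite (Γ(Y, W x) →+* GaloisField p d) :=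
      Lib.Helper25.finite_ringHom_of_finiteType _ hft
    rw [← Set.finite_coe_iff]
    let F : {y : Y | y ∈ W x ∧ Nonempty (↑(Y.residueField y) →+* GaloisField p d)} →
        (Γ(Y, W x) →+* GaloisField p d) := fun y =>
      (Classical.choice y.2.2).comp (Y.evaluation (W x) y.1 y.2.1).hom
    refine Finite.of_injective F ?_
    rintro ⟨y₁, hy₁W, hy₁⟩ ⟨y₂, hy₂W, hy₂⟩ h
    rw [Subtype.mk.injEq]
    by_contra hne
    -- separate the points by a basic open
    have key : ∀ (a b : Y) (haW : a ∈ W x) (hbW : b ∈ W x)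
        (ha : Nonempty (↑(Y.residueField a) →+* GaloisField p d))
        (hb : Nonempty (↑(Y.residueField b) →+* GaloisField p d)),
        F ⟨a, haW, ha⟩ = F ⟨b, hbW, hb⟩ → ∀ V : Y.Opens, a ∈ V → b ∈ V := by
      intro a b haW hbW ha hb hab V haV
      obtain ⟨r, hrV, har⟩ := (hW x).exists_basicOpen_le ⟨a, haV⟩ haW
      apply hrV
      rw [← Y.evaluation_ne_zero_iff_mem_basicOpen b hbW]
      rw [← Y.evaluation_ne_zero_iff_mem_basicOpen a haW] at har
      intro hb0
      apply har
      have h1 := RingHom.congr_fun hab r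
      simp only [F, RingHom.comp_apply] at h1
      rw [hb0, map_zero] at h1
      exact (map_eq_zero _).mp h1
    obtain ⟨V, hV, hxor⟩ := exists_isOpen_xor_mem hne
    rcases hxor with ⟨h1, h2⟩ | ⟨h1, h2⟩
    · exact h2 (key y₁ y₂ hy₁W hy₂W hy₁ hy₂ h ⟨V, hV⟩ h1)
    · exact h2 (key y₂ y₁ hy₂W hy₁W hy₂ hy₁ h.symm ⟨V, hV⟩ h1)

end Groth.Agent.S4886
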