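import Groth.Statements.S4887
import Groth.Agent.Lib.Helper54.FpKer2
import Groth.Agent.Lib.QCoh.Helper50_FPExtA
import Groth.Agent.Lib.QCoh.Helper50_AffineDict
import Groth.Agent.Lib.QCoh.Helper74_FlatOver
import Groth.Agent.Lib.QCoh.Helper49_FP
import Groth.Agent.Lib.QCoh.FinitePresentation

set_option maxHeartbeats 1000000
set_option linter.style.haveILetI false

set_option autoImplicit false
universe u
open EGA43

namespace Groth.Agent.S4887

open AlgebraicGeometry CategoryTheory Limits Groth.Agent.Lib.QCoh Groth.Agent.Lib.QCoh.FPExt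
  Groth.Agent.Lib.Helper54 in
/-- Affine-local form: sections of the kernel over a small affine open are finitely presented. -/
theorem fp_sections_kernel {X Y : Scheme.{u}} (f : X ⟶ Y) [LocallyOfFinitePresentation f]
    (G H : X.Modules) [G.IsQuasicoherent] [H.IsQuasicoherent] [G.IsFinitePresentation]
    [H.IsFinitePresentation] (hflat : FlatMod.IsFlatOver f H) (p : G ⟶ H) [Epi p]
    {U : X.Opens} {V : Y.Opens} (hU : IsAffineOpen U) (hV : IsAffineOpen V) (e : U ≤ f ⁻¹ᵁ V) :
    Module.FinitePresentation Γ(X, U) Γ(kernel p, U) := by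
  letI : Algebra Γ(Y, V) Γ(X, U) := (f.appLE V U e).hom.toAlgebra
  haveI : Algebra.FinitePresentation Γ(Y, V) Γ(X, U) :=
    HasRingHomProperty.appLE (P := @LocallyOfFinitePresentation) f ‹_› ⟨V, hV⟩ ⟨U, hU⟩ e
  letI := sectionsModuleOver f H e
  haveI : IsScalarTower Γ(Y, V) Γ(X, U) Γ(H, U) := .of_algebraMap_smul fun _ _ => rfl
  haveI : Module.Flat Γ(Y, V) Γ(H, U) :=
    flat_Γ_of_forall_isFlatOverAt f H e hV hU (fun y _ => hflat y)
  haveI := finitePresentation_Γ_of_isAffineOpen hU G
  haveI := finitePresentation_Γ_of_isAffineOpen hU H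
  have hsurj : Function.Surjective (appLinear p U) := surjective_app_of_epi p hU
  have hfp : Module.FinitePresentation Γ(X, U) (LinearMap.ker (appLinear p U)) :=
    FpKer2.fp_ker_of_flat Γ(Y, V) Γ(X, U) Γ(G, U) Γ(H, U) (appLinear p U) hsurj
  have hinj : Function.Injective (appLinear (kernel.ι p) U) :=
    app_injective_of_mono (kernel.ι p) U
  have heq : LinearMap.range (appLinear (kernel.ι p) U) = LinearMap.ker (appLinear p U) :=
    (ker_appLinear_eq_range p U).symm
  exact FpKer1.fp_of_equiv (LinearMap.ker (appLinear p U)) Γ(kernel p, U)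
    ((LinearEquiv.ofInjective (appLinear (kernel.ι p) U) hinj).trans
      (LinearEquiv.ofEq _ _ heq)).symm hfp

open AlgebraicGeometry CategoryTheory Limits in
/-- Let f : X ⟶ Y be locally of finite presentation, G and H quasi-coherent O_X-modules of finite
presentation with H f-flat, and p : G ⟶ H an epimorphism. Then Ker p is an O_X-module of finite
presentation. -/
theorem result {X Y : Scheme.{u}} (f : X ⟶ Y) [LocallyOfFinitePresentation f]
    (G H : X.Modules) [Coh.IsQCoh G] [Coh.IsQCoh H] (hG : CohB1.IsFP G) (hH : CohB1.IsFP H)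
    (hflat : FlatMod.IsFlatOver f H) (p : G ⟶ H) [Epi p] :
    CohB1.IsFP (kernel p) := by
  haveI : G.IsFinitePresentation := hG
  haveI : H.IsFinitePresentation := hH
  haveI : G.IsQuasicoherent := ‹Coh.IsQCoh G›
  haveI : H.IsQuasicoherent := ‹Coh.IsQCoh H›
  haveI : (kernel p).IsQuasicoherent := Groth.Agent.Lib.QCoh.isQuasicoherent_kernel p
  refine Groth.Agent.Lib.QCoh.isFinitePresentation_of_isOpenCover (kernel p)
    (fun i : {U : X.Opens // IsAffineOpen U ∧ ∃ V : Y.Opens, IsAffineOpen V ∧ U ≤ f ⁻¹ᵁ V} => i.1)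
    ?_ ?_
  · refine TopologicalSpace.IsOpenCover.mk (top_le_iff.1 ?_)
    intro x _
    obtain ⟨_, ⟨V, hV : IsAffineOpen V, rfl⟩, hxV, -⟩ :=
      (Y.isBasis_affineOpens).exists_subset_of_mem_open (Set.mem_univ (f x)) isOpen_univ
    obtain ⟨_, ⟨U, hU : IsAffineOpen U, rfl⟩, hxU, hUV⟩ :=
      (X.isBasis_affineOpens).exists_subset_of_mem_open (show x ∈ f ⁻¹ᵁ V from hxV) (f ⁻¹ᵁ V).2
    exact TopologicalSpace.Opens.mem_iSup.2 ⟨⟨U, hU, V, hV, hUV⟩, hxU⟩
  · rintro ⟨U, hU, V, hV, e⟩
    exact Groth.Agent.Lib.QCoh.exists_presentation_restrict_of_finitePresentation hU (kernel p)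
      (fp_sections_kernel f G H hflat p hU hV e)

end Groth.Agent.S4887
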