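import Groth.Statements.S4894
-- import your own Groth.Agent.* helpers here

set_option autoImplicit false
universe u
open EGA43

namespace Groth.Agent.S4894

/-- Let f : X → Y be continuous and (W_i) an open covering of Y such that every restriction f⁻¹(W_i) →
W_i is a quasi-homeomorphism (taking preimages is a bijection on open subsets). Then f is a
quasi-homeomorphism. -/
theorem result {X Y : Type u} [TopologicalSpace X]
    [TopologicalSpace Y] (f : X → Y) (hf : Continuous f) {ι : Type u} (W : ι → Set Y)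
    (hWo : ∀ i, IsOpen (W i)) (hWc : ⋃ i, W i = Set.univ)
    (h : ∀ i, ((∀ U₁ U₂ : Set ↥(W i), IsOpen U₁ → IsOpen U₂ → ((W i).restrictPreimage f) ⁻¹' U₁ = ((W i).restrictPreimage f) ⁻¹' U₂ → U₁ = U₂) ∧ (∀ V : Set ↥(f ⁻¹' W i), IsOpen V → ∃ U : Set ↥(W i), IsOpen U ∧ ((W i).restrictPreimage f) ⁻¹' U = V))) :
    ((∀ U₁ U₂ : Set Y, IsOpen U₁ → IsOpen U₂ → (f) ⁻¹' U₁ = (f) ⁻¹' U₂ → U₁ = U₂) ∧ (∀ V : Set X, IsOpen V → ∃ U : Set Y, IsOpen U ∧ (f) ⁻¹' U = V)) := by
  constructor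
  · intro U₁ U₂ hU₁ hU₂ heq
    have key : ∀ i, U₁ ∩ W i = U₂ ∩ W i := by
      intro i
      have h1 := (h i).1 (Subtype.val ⁻¹' U₁) (Subtype.val ⁻¹' U₂)
        (hU₁.preimage continuous_subtype_val) (hU₂.preimage continuous_subtype_val) (by
          ext ⟨x, hx⟩
          change f x ∈ U₁ ↔ f x ∈ U₂
          have : x ∈ f ⁻¹' U₁ ↔ x ∈ f ⁻¹' U₂ := by rw [heq]
          exact this)
      ext y
      constructor
      · rintro ⟨hy1, hyW⟩
        have : (⟨y, hyW⟩ : ↥(W i)) ∈ Subtype.val ⁻¹' U₁ := hy1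
        rw [h1] at this
        exact ⟨this, hyW⟩
      · rintro ⟨hy2, hyW⟩
        have : (⟨y, hyW⟩ : ↥(W i)) ∈ Subtype.val ⁻¹' U₂ := hy2
        rw [← h1] at this
        exact ⟨this, hyW⟩
    ext y
    have hy : y ∈ ⋃ i, W i := hWc ▸ Set.mem_univ y
    obtain ⟨i, hi⟩ := Set.mem_iUnion.mp hy
    constructor
    · intro hy1
      have : y ∈ U₁ ∩ W i := ⟨hy1, hi⟩
      rw [key i] at this
      exact this.1
    · intro hy2
      have : y ∈ U₂ ∩ W i := ⟨hy2, hi⟩
      rw [← key i] at this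
      exact this.1
  · intro V hV
    have hex := fun i => (h i).2 (Subtype.val ⁻¹' V) (hV.preimage continuous_subtype_val)
    choose U hUo hUV using hex
    refine ⟨⋃ i, Subtype.val '' (U i), isOpen_iUnion fun i =>
      (hWo i).isOpenMap_subtype_val _ (hUo i), ?_⟩
    ext x
    simp only [Set.mem_preimage, Set.mem_iUnion, Set.mem_image, Subtype.exists, exists_and_right,
      exists_eq_right]
    constructor
    · rintro ⟨i, hxW, hxU⟩
      have : (⟨x, hxW⟩ : ↥(f ⁻¹' W i)) ∈ ((W i).restrictPreimage f) ⁻¹' (U i) := hxU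
      rw [hUV i] at this
      exact this
    · intro hxV
      have hy : f x ∈ ⋃ i, W i := hWc ▸ Set.mem_univ (f x)
      obtain ⟨i, hi⟩ := Set.mem_iUnion.mp hy
      refine ⟨i, hi, ?_⟩
      have : (⟨x, hi⟩ : ↥(f ⁻¹' W i)) ∈ Subtype.val ⁻¹' V := hxV
      rw [← hUV i] at this
      exact this

end Groth.Agent.S4894
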