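import Groth.Statements.S4908
import Groth.Agent.Lib.QCoh.Helper50_FpqcZero

set_option autoImplicit false
universe u
open CategoryTheory AlgebraicGeometry
open EGA43

namespace Groth.Agent.S4908

/-- Case Z_λ = X: let X be a scheme, u_i : F ⟶ G_i a family of homomorphisms of quasi-coherent
O_X-modules and g : X' ⟶ X a faithfully flat morphism. If the family (g^*u_i : g^*F ⟶ g^*G_i) is
separating — a section of g^*F over an open subset killed by every g^*u_i is zero — then the family
(u_i) is separating. (The published statement allows homomorphisms into direct images (f_λ)_*G_λ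
along morphisms f_λ : Z_λ ⟶ X; this row is the case Z_λ = X, to which the general case reduces.) -/
theorem result {X X' : Scheme.{u}} (F : X.Modules) [Coh.IsQCoh F] {ι : Type u}
    (G : ι → X.Modules) [∀ i, Coh.IsQCoh (G i)] (u : ∀ i, F ⟶ G i) (g : X' ⟶ X) [Flat g] [Surjective g]
    (h : (∀ (V : (X').Opens) (t : ↑(((Scheme.Modules.pullback g).obj F).presheaf.obj (Opposite.op V))), (∀ i, (Scheme.Modules.Hom.mapPresheaf ((Scheme.Modules.pullback g).map (u i))).app (Opposite.op V) t = 0) → t = 0)) :
    (∀ (V : (X).Opens) (t : ↑((F).presheaf.obj (Opposite.op V))), (∀ i, (Scheme.Modules.Hom.mapPresheaf (u i)).app (Opposite.op V) t = 0) → t = 0) := by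
  intro V t ht
  apply Groth.Agent.Lib.QCoh.section_ext_of_affine F t 0
  intro W hWV
  rw [map_zero]
  refine Groth.Agent.Lib.QCoh.eq_zero_of_pullbackSectionsMap_eq_zero g F W.2 _ fun W' hW' e => ?_
  apply h W'
  intro i
  have h1 := Groth.Agent.Lib.QCoh.pullbackSectionsMap_naturality g e (u i)
    (F.presheaf.map (homOfLE hWV).op t)
  have h2 : (u i).app W (F.presheaf.map (homOfLE hWV).op t) = 0 := by
    rw [Groth.Agent.Lib.QCoh.app_naturality_apply (u i) (homOfLE hWV) t]
    have : (u i).app V t = 0 := ht i
    rw [this, map_zero]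
  rw [h2, map_zero] at h1
  exact h1.symm

end Groth.Agent.S4908
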