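import Groth.Statements.S4912
import Groth.Agent.Lib.QCoh.Helper50_SepArtin

set_option autoImplicit false
universe u
open CategoryTheory AlgebraicGeometry
open EGA43

namespace Groth.Agent.S4912

/-- Case Z_λ = X: let X be an Artinian scheme (Noetherian of dimension ≤ 0), u_i : F ⟶ G_i a separating
family of homomorphisms of quasi-coherent O_X-modules (a section of F over an open subset killed by
every u_i is zero) and g : X' ⟶ X a flat morphism; for instance X the spectrum of a field and g
arbitrary. Then the family (g^*u_i) on X' is separating. (The published statement allows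
homomorphisms into direct images (f_λ)_*G_λ; this row is the case Z_λ = X, to which the general case
reduces.) -/
theorem result {X X' : Scheme.{u}} [IsNoetherian X]
    (hX : topologicalKrullDim X ≤ 0) (F : X.Modules) [Coh.IsQCoh F] {ι : Type u}
    (G : ι → X.Modules) [∀ i, Coh.IsQCoh (G i)] (u : ∀ i, F ⟶ G i) (g : X' ⟶ X) [Flat g]
    (h : (∀ (V : (X).Opens) (t : ↑((F).presheaf.obj (Opposite.op V))), (∀ i, (Scheme.Modules.Hom.mapPresheaf (u i)).app (Opposite.op V) t = 0) → t = 0)) :
    (∀ (V : (X').Opens) (t : ↑(((Scheme.Modules.pullback g).obj F).presheaf.obj (Opposite.op V))), (∀ i, (Scheme.Modules.Hom.mapPresheaf ((Scheme.Modules.pullback g).map (u i))).app (Opposite.op V) t = 0) → t = 0) := by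
  intro V t ht
  haveI : IsLocallyArtinian X := IsLocallyArtinian.of_topologicalKrullDim_le_zero hX
  apply Groth.Agent.Lib.QCoh.section_ext_of_isBasis ((Scheme.Modules.pullback g).obj F) _
    (Groth.Agent.Lib.QCoh.isBasis_smallAffine g) t 0
  rintro ⟨W', hW', W, hW, e⟩ hW'V
  rw [map_zero]
  change ((Scheme.Modules.pullback g).obj F).presheaf.map (homOfLE hW'V).op t = 0
  haveI : IsArtinianRing Γ(X, W) := IsLocallyArtinian.isArtinianRing_presheaf_obj ⟨W, hW⟩
  letI : Algebra Γ(X, W) Γ(X', W') := (g.appLE W W' e).hom.toAlgebra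
  haveI : Module.Flat Γ(X, W) Γ(X', W') := g.flat_appLE hW hW' e
  haveI : F.IsQuasicoherent := ‹Coh.IsQCoh F›
  haveI : ∀ i, (G i).IsQuasicoherent := fun i => ‹∀ i, Coh.IsQCoh (G i)› i
  obtain ⟨κ₀, -, hκ₀, -, -⟩ :=
    Groth.Agent.Lib.QCoh.exists_linearEquiv_pullback_map g e hW hW' (𝟙 F)
  set t' := ((Scheme.Modules.pullback g).obj F).presheaf.map (homOfLE hW'V).op t with ht'
  obtain ⟨x, hx⟩ := κ₀.surjective t'
  suffices hx0 : x = 0 by rw [← hx, hx0, map_zero]
  refine Groth.Agent.Lib.QCoh.SepArtin.eq_zero_of_forall_lTensor_eq_zero Γ(X', W')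
    (fun i => Groth.Agent.Lib.QCoh.appLinear (u i) W) ?_ x ?_
  · intro m hm
    apply h W m
    intro i
    exact hm i
  · intro i
    obtain ⟨κ, κ', hκ, -, hκκ'⟩ :=
      Groth.Agent.Lib.QCoh.exists_linearEquiv_pullback_map g e hW hW' (u i)
    have hκeq : κ x = κ₀ x := by
      refine Groth.Agent.Lib.QCoh.apply_eq_of_one_tmul (t := κ.toLinearMap)
        (t' := κ₀.toLinearMap) ?_ x
      intro m
      change κ (1 ⊗ₜ m) = κ₀ (1 ⊗ₜ m)
      rw [hκ m, hκ₀ m]
    have h1 := hκκ' x
    rw [hκeq, hx, ht'] at h1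
    rw [Groth.Agent.Lib.QCoh.app_naturality_apply ((Scheme.Modules.pullback g).map (u i))
      (homOfLE hW'V) t] at h1
    have h2 : ((Scheme.Modules.pullback g).map (u i)).app V t = 0 := ht i
    rw [h2, map_zero] at h1
    have h3 := κ'.injective (h1.symm.trans (map_zero κ').symm)
    rw [← LinearMap.baseChange_eq_ltensor]
    exact h3

end Groth.Agent.S4912
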