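import Groth.Statements.S4914
import Groth.Agent.Lib.Helper78.OpenAt

set_option autoImplicit false
open CategoryTheory AlgebraicGeometry
universe u v w
open EGA43

namespace Groth.Agent.S4914

/-- Let ψ : X → Y be a continuous map, x a point of X, and (Y_i) a locally finite covering of Y by
closed subsets. If for every index i with ψ x ∈ Y_i the restriction ψ⁻¹(Y_i) → Y_i of ψ is open at
x, then ψ is open at x. -/
theorem result {α : Type u} {β : Type v} {ι : Type w} [TopologicalSpace α]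
    [TopologicalSpace β] (ψ : α → β) (hψ : Continuous ψ) (x : α) (Y : ι → Set β) (hY : LocallyFinite Y)
    (hcl : ∀ i, IsClosed (Y i)) (hcov : ⋃ i, Y i = Set.univ)
    (h : ∀ i, ∀ hi : ψ x ∈ Y i, EGA43.IsOpenAt ((Y i).restrictPreimage ψ) ⟨x, hi⟩) :
    EGA43.IsOpenAt ψ x := by
  intro U hU
  obtain ⟨W, hW, hfin⟩ := hY (ψ x)
  have key : ∀ i, ∃ V ∈ nhds (ψ x), V ∩ Y i ⊆ ψ '' U := by
    intro i
    by_cases hi : ψ x ∈ Y i
    · have hU' : (Subtype.val ⁻¹' U : Set ↥(ψ ⁻¹' Y i)) ∈ nhds (⟨x, hi⟩ : ↥(ψ ⁻¹' Y i)) :=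
        continuous_subtype_val.continuousAt hU
      have h1 := h i hi _ hU'
      rw [mem_nhds_subtype] at h1
      obtain ⟨V, hV, hVsub⟩ := h1
      refine ⟨V, hV, ?_⟩
      rintro z ⟨hzV, hzY⟩
      have h2 := hVsub (show (⟨z, hzY⟩ : ↥(Y i)) ∈ Subtype.val ⁻¹' V from hzV)
      obtain ⟨⟨u, hu⟩, huU, hueq⟩ := h2
      exact ⟨u, huU, congrArg Subtype.val hueq⟩
    · refine ⟨(Y i)ᶜ, (hcl i).isOpen_compl.mem_nhds hi, ?_⟩
      rintro z ⟨h1, h2⟩
      exact absurd h2 h1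
  choose V hV hVsub using key
  have hmem : W ∩ ⋂ i ∈ hfin.toFinset, V i ∈ nhds (ψ x) :=
    Filter.inter_mem hW ((Filter.biInter_finset_mem hfin.toFinset).mpr fun i _ => hV i)
  refine Filter.mem_of_superset hmem ?_
  rintro z ⟨hzW, hzV⟩
  have hz : z ∈ ⋃ i, Y i := by rw [hcov]; trivial
  obtain ⟨i, hzi⟩ := Set.mem_iUnion.mp hz
  have hiF : i ∈ hfin.toFinset := hfin.mem_toFinset.mpr ⟨z, hzi, hzW⟩
  have h3 := Set.mem_iInter₂.mp hzV i hiF
  exact hVsub i ⟨h3, hzi⟩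

end Groth.Agent.S4914
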