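import Groth.Statements.S4917
import Groth.Agent.Lib.Helper73.OpenAtPoint2
import Groth.Agent.Lib.Helper73.ClosureFibreDim
import Groth.Agent.S3456
-- import your own Groth.Agent.* helpers here

set_option autoImplicit false
open CategoryTheory AlgebraicGeometry
universe u v w
open EGA43

namespace Groth.Agent.S4917
open Groth.Agent.Lib.Helper73.SchemeDim Groth.Agent.Lib.Helper73.RelHt

/-- Assume Y is a locally Noetherian scheme and X is an irreducible scheme, and consider a dominant
morphism f : X ⟶ Y that is locally of finite type. Fix a point x of X and write y = f x. If, for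
every irreducible component of the fibre X_y that contains x, the morphism f is open at the generic
point of that component, then f is equidimensional at x. -/
theorem result {X Y : Scheme.{u}} [IsLocallyNoetherian Y]
    [IrreducibleSpace X] (f : X ⟶ Y) [LocallyOfFiniteType f] [IsDominant f] (x : X)
    (h : ∀ z : ↥(f.fiber (f.base x)), f.asFiber x ∈ closure {z} →
      (∀ z' : ↥(f.fiber (f.base x)), z ∈ closure {z'} → z' = z) →
      EGA43.IsOpenAt f.base ((f.fiberι (f.base x)).base z)) :
    EGA43.IsEquidimAt f x := by
  haveI : IsLocallyNoetherian X := LocallyOfFiniteType.isLocallyNoetherian f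
  rw [Groth.Agent.S3456.result]
  set ξ := genericPoint X with hξdef
  have hξcl : closure ({ξ} : Set X) = Set.univ := (genericPoint_spec X).def
  have hξall : ∀ t : X, ξ ⤳ t := genericPoint_specializes
  obtain ⟨nξ, hnξ⟩ := exists_trdeg_residueField_eq_nat' f ξ
  have hfξcl : closure ({f.base ξ} : Set Y) = Set.univ := by
    have h1 : closure (f.base '' closure ({ξ} : Set X)) = closure {f.base ξ} := by
      rw [closure_image_closure f.continuous, Set.image_singleton]
    rw [← h1, hξcl, Set.image_univ]
    exact f.denseRange.closure_range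
  have hfξmax : ∀ η' : Y, η' ⤳ f.base ξ → η' = f.base ξ := by
    intro η' hη'
    have : f.base ξ ⤳ η' := by
      rw [specializes_iff_mem_closure, hfξcl]; trivial
    exact (hη'.antisymm this).eq
  refine ⟨nξ, fun Xj hXj hx => ?_⟩
  rw [irreducibleComponents_eq_singleton, Set.mem_singleton_iff] at hXj
  subst hXj
  refine ⟨?_, ?_, ?_⟩
  · rw [Set.image_univ, f.denseRange.closure_range, ← hfξcl]
    exact closure_singleton_mem_irreducibleComponents_of_maximal _ hfξmax
  · intro η hη
    rw [Set.image_univ, f.denseRange.closure_range, ← hfξcl] at hη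
    have hηeq : η = f.base ξ := by
      have h1 : η ⤳ f.base ξ := by
        rw [specializes_iff_mem_closure, hη]; exact subset_closure rfl
      have h2 : f.base ξ ⤳ η := by
        rw [specializes_iff_mem_closure, ← hη]; exact subset_closure rfl
      exact (h1.antisymm h2).eq
    rw [hηeq, ← hξcl]
    exact topologicalKrullDim_closure_inter_fibre f ξ nξ hnξ
  · obtain ⟨-, t, k, -, htx, htf, hnt, hL⟩ :=
      localDim_closed_inter_fibre f Set.univ isClosed_univ x ⟨hx, Set.mem_singleton (f.base x)⟩
    rw [hL]
    have hlow : nξ ≤ k := by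
      have hmem : x ∈ closure ({ξ} : Set X) ∩ f.base ⁻¹' {f.base x} := ⟨(hξall x).mem_closure, rfl⟩
      have h1 := trdeg_le_localDim_closure_inter_fibre f (hξall x) nξ hnξ hmem
      have h2 : ∀ (T : Set X) (_ : T = Set.univ) (hm : x ∈ T ∩ f.base ⁻¹' {f.base x}),
          FlatMor.localDim ↥(T ∩ f.base ⁻¹' {f.base x}) ⟨x, hm⟩ = (k : WithBot ℕ∞) := by
        intro T hT
        subst hT
        intro _
        exact hL
      rw [h2 _ hξcl hmem] at h1
      exact_mod_cast h1
    have hup : k ≤ nξ := by
      obtain ⟨z, nz, hzt, hzf, hzmax, hnz, hFt⟩ := exists_maximal_in_fibre_trdeg_eq_fibreDimAt f t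
      have hknz : k ≤ nz := by
        have := trdeg_le_fibreDimAt_of_fibre' f (specializes_refl t) rfl k hnt
        rw [hFt] at this
        exact_mod_cast this
      have hopen := isOpenAt_of_maximal_in_fibre f x h z (hzt.trans htx) (hzf.trans htf) hzmax
      have hξz : f.base ξ ⤳ f.base z := (hξall z).map f.continuous
      obtain ⟨ξ₁, m, hξ₁z, hfξ₁, hnξ₁, hnzm⟩ :=
        exists_specializes_trdeg_ge_of_isOpenAt f z nz hnz hopen (f.base ξ) hξz
      have hmnξ : m ≤ nξ :=
        trdeg_le_trdeg_of_specializes_of_fibre' f (hξall ξ₁) hfξ₁.symm nξ m hnξ hnξ₁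
      omega
    rw [le_antisymm hup hlow]

end Groth.Agent.S4917
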