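import Groth.Statements.S4920
import Groth.Agent.Lib.Helper73.OpenAtPoint3
import Groth.Agent.Lib.Helper73.FibreComponents
-- import your own Groth.Agent.* helpers here

set_option autoImplicit false
open CategoryTheory AlgebraicGeometry
universe u v w
open EGA43

namespace Groth.Agent.S4920
open Groth.Agent.Lib.Helper73.SchemeDim Groth.Agent.Lib.Helper73.RelHt

/-- Let Y be an irreducible locally Noetherian scheme with generic point η, f : X ⟶ Y a morphism locally
of finite type and y a point of Y such that f is open at every point of the fibre over y. For z in Y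
write E(z) for the set of dimensions of the irreducible components of the fibre X_z. Then E(y) ⊆
E(η), and consequently dim X_y ≤ dim X_η. -/
theorem result {X Y : Scheme.{u}} [IrreducibleSpace Y] [IsLocallyNoetherian Y]
    (f : X ⟶ Y) [LocallyOfFiniteType f] (y : Y) (h : ∀ x : X, f.base x = y → EGA43.IsOpenAt f.base x) :
    letI E : Y → Set (WithBot ℕ∞) := fun z =>
      (fun Z : Set ↥(f.fiber z) => topologicalKrullDim ↥Z) '' irreducibleComponents ↥(f.fiber z)
    E y ⊆ E (genericPoint Y) ∧
      topologicalKrullDim ↥(f.fiber y) ≤ topologicalKrullDim ↥(f.fiber (genericPoint Y)) := by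
  have hηmax : ∀ η' : Y, η' ⤳ genericPoint Y → η' = genericPoint Y := fun η' hη' =>
    (hη'.antisymm (genericPoint_specializes η')).eq
  constructor
  · rintro _ ⟨Z, hZ, rfl⟩
    obtain ⟨z, hzmax, rfl⟩ := exists_maximal_closure_eq_of_mem_irreducibleComponents hZ
    set ζ : X := (f.fiberι y).base z with hζ
    have hfζ : f.base ζ = y := base_fiberι' f y z
    have hindy := (f.fiberι y).isEmbedding.isInducing
    have hζmax : ∀ t : X, t ⤳ ζ → f.base t = f.base ζ → t = ζ := by
      intro t ht hft
      obtain ⟨t', rfl⟩ := exists_fiberι_eq f (hft.trans hfζ)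
      rw [hzmax t' (hindy.specializes_iff.mp ht)]
    obtain ⟨e, he⟩ := exists_trdeg_residueField_eq_nat' f ζ
    obtain ⟨ξ, hξmax, -, hfξ, hnξ⟩ := exists_maximal_over_of_isOpenAt f ζ hζmax e he (h ζ hfζ)
      (genericPoint Y) hηmax (genericPoint_specializes _)
    obtain ⟨ω, hω⟩ := exists_fiberι_eq f hfξ
    have hindη := (f.fiberι (genericPoint Y)).isEmbedding.isInducing
    have hωmax : ∀ ω' : ↥(f.fiber (genericPoint Y)), ω' ⤳ ω → ω' = ω := by
      intro ω' hω'
      apply (f.fiberι (genericPoint Y)).isEmbedding.injective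
      rw [hω]
      apply hξmax
      rw [← hω]
      exact hω'.map (f.fiberι (genericPoint Y)).continuous
    refine ⟨closure {ω}, closure_singleton_mem_irreducibleComponents_of_maximal ω hωmax, ?_⟩
    change topologicalKrullDim ↥(closure ({ω} : Set ↥(f.fiber (genericPoint Y)))) =
      topologicalKrullDim ↥(closure ({z} : Set ↥(f.fiber y)))
    rw [topologicalKrullDim_closure_singleton_fiber f y z e he,
      topologicalKrullDim_closure_singleton_fiber f (genericPoint Y) ω e
        (by rw [← trdeg_residueFieldMap_congr_pt f hω.symm]; exact hnξ)]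
  · -- comparison of dimensions
    have hle : ∀ a b : WithBot ℕ∞, (∀ n : ℕ, (n : WithBot ℕ∞) ≤ a → (n : WithBot ℕ∞) ≤ b) → a ≤ b := by
      intro a b hab
      cases a with
      | bot => exact bot_le
      | coe c =>
        have h0 := hab 0 (by exact_mod_cast (bot_le : (0 : ℕ∞) ≤ c))
        cases b with
        | bot => exact absurd h0 (by simp)
        | coe c' =>
          have : c ≤ c' := by
            apply ENat.forall_natCast_le_iff_le.mp
            intro n hn
            have h2 : ((n : ℕ∞) : WithBot ℕ∞) ≤ (c : WithBot ℕ∞) := by exact_mod_cast hn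
            have h3 := hab n h2
            exact_mod_cast h3
          exact_mod_cast this
    apply hle
    intro n hn
    rw [natCast_le_topologicalKrullDim_fiber_iff] at hn ⊢
    obtain ⟨x, hx, hnx⟩ := hn
    obtain ⟨ζ, e', hζx, hζf, hnζ, hF⟩ := exists_specializes_trdeg_eq_fibreDimAt f x
    have hfζ : f.base ζ = y := hζf.trans hx
    obtain ⟨ξ, m, -, hfξ, hnξ, he'm⟩ := exists_specializes_trdeg_ge_of_isOpenAt f ζ e' hnζ (h ζ hfζ)
      (genericPoint Y) (genericPoint_specializes _)
    refine ⟨ξ, hfξ, ?_⟩
    have h1 := trdeg_le_fibreDimAt' f (specializes_refl ξ) m hnξ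
    rw [hF] at hnx
    refine le_trans hnx (le_trans ?_ h1)
    exact_mod_cast he'm

end Groth.Agent.S4920
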