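import Groth.Statements.S4921
import Groth.Agent.Lib.Helper73.OpenAtPoint2
-- import your own Groth.Agent.* helpers here

set_option autoImplicit false
open CategoryTheory AlgebraicGeometry
universe u v w
open EGA43

namespace Groth.Agent.S4921
open Groth.Agent.Lib.Helper73.SchemeDim Groth.Agent.Lib.Helper73.RelHt

/-- Let Y be a locally Noetherian scheme, f : X ⟶ Y a proper morphism and y a point of Y such that f is
open at every point of the fibre over y. Then the function z ↦ dim X_z is constant on a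
neighbourhood of y. -/
theorem result {X Y : Scheme.{u}} [IsLocallyNoetherian Y] (f : X ⟶ Y)
    [IsProper f] (y : Y) (h : ∀ x : X, f.base x = y → EGA43.IsOpenAt f.base x) :
    ∃ V ∈ nhds y, ∀ z ∈ V, topologicalKrullDim ↥(f.fiber z) = topologicalKrullDim ↥(f.fiber y) := by
  have hclosedmap : IsClosedMap f.base := f.isClosedMap
  -- equality from comparisons with natural numbers
  have heq : ∀ a b : WithBot ℕ∞, (∀ n : ℕ, (n : WithBot ℕ∞) ≤ a ↔ (n : WithBot ℕ∞) ≤ b) → a = b := by
    intro a b hab
    cases a with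
    | bot =>
      cases b with
      | bot => rfl
      | coe c =>
        have := (hab 0).mpr (by exact_mod_cast (bot_le : (0 : ℕ∞) ≤ c))
        exact absurd this (by simp)
    | coe c =>
      cases b with
      | bot =>
        have := (hab 0).mp (by exact_mod_cast (bot_le : (0 : ℕ∞) ≤ c))
        exact absurd this (by simp)
      | coe c' =>
        congr 1
        apply ENat.eq_of_forall_natCast_le_iff
        intro n
        have := hab n
        constructor
        · intro h1
          have h2 : ((n : ℕ∞) : WithBot ℕ∞) ≤ (c : WithBot ℕ∞) := by exact_mod_cast h1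
          have h3 := this.mp h2
          exact_mod_cast h3
        · intro h1
          have h2 : ((n : ℕ∞) : WithBot ℕ∞) ≤ (c' : WithBot ℕ∞) := by exact_mod_cast h1
          have h3 := this.mpr h2
          exact_mod_cast h3
  -- a uniform bound on the fibre over `y`
  have hbound : ∃ e₀ : ℕ, ¬ ((e₀ : WithBot ℕ∞) ≤ topologicalKrullDim ↥(f.fiber y)) := by
    have hK : IsCompact (f.base ⁻¹' {y}) := f.isCompact_preimage_singleton y
    have hcover : f.base ⁻¹' {y} ⊆ ⋃ n : ℕ, {x : X | FlatMor.fibreDimAt f x ≤ (n : WithBot ℕ∞)} := by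
      intro x _
      obtain ⟨-, m, -, -, -, hm⟩ := exists_specializes_trdeg_eq_fibreDimAt f x
      exact Set.mem_iUnion.mpr ⟨m, le_of_eq hm⟩
    obtain ⟨n, hn⟩ := hK.elim_directed_cover _ (fun n => isOpen_setOf_fibreDimAt_le f n) hcover
      (directed_of_isDirected_le (fun a b hab x (hx : FlatMor.fibreDimAt f x ≤ a) =>
        show FlatMor.fibreDimAt f x ≤ b from hx.trans (by exact_mod_cast hab)))
    refine ⟨n + 1, ?_⟩
    rw [natCast_le_topologicalKrullDim_fiber_iff]
    rintro ⟨x, hx, hle⟩
    have h1 : FlatMor.fibreDimAt f x ≤ (n : WithBot ℕ∞) := hn hx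
    have h2 := hle.trans h1
    have : n + 1 ≤ n := by exact_mod_cast h2
    omega
  classical
  let k := Nat.find hbound
  have hk : ¬ ((k : WithBot ℕ∞) ≤ topologicalKrullDim ↥(f.fiber y)) := Nat.find_spec hbound
  have hklt : ∀ n < k, (n : WithBot ℕ∞) ≤ topologicalKrullDim ↥(f.fiber y) := by
    intro n hn
    by_contra hcon
    exact Nat.find_min hbound hn hcon
  -- upper bound neighbourhood
  have hV₁ : {z : Y | (k : WithBot ℕ∞) ≤ topologicalKrullDim ↥(f.fiber z)}ᶜ ∈ nhds y :=
    (isClosed_setOf_le_topologicalKrullDim_fiber f hclosedmap k).isOpen_compl.mem_nhds hk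
  -- lower bound neighbourhood
  have hV₂ : ∀ n < k, {z : Y | (n : WithBot ℕ∞) ≤ topologicalKrullDim ↥(f.fiber z)} ∈ nhds y := by
    intro n hn
    have hcl := isClosed_setOf_le_topologicalKrullDim_fiber f hclosedmap n
    obtain ⟨x, hx, hle⟩ := (natCast_le_topologicalKrullDim_fiber_iff f y n).mp (hklt n hn)
    obtain ⟨ζ, e', hζx, hζf, hnζ, hF⟩ := exists_specializes_trdeg_eq_fibreDimAt f x
    have hfζ : f.base ζ = y := hζf.trans hx
    have hopen := h ζ hfζ
    have hgen : ∀ y' : Y, y' ⤳ y → y' ∈ {z : Y | (n : WithBot ℕ∞) ≤ topologicalKrullDim ↥(f.fiber z)} := by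
      intro y' hy'
      obtain ⟨r, hr⟩ := ENat.ne_top_iff_exists.mp (relHt_lt_top (hfζ ▸ hy' : y' ⤳ f.base ζ)).ne
      obtain ⟨ξ, -, hfξ, hξF⟩ := exists_specializes_fibreDimAt_of_isOpenAt f ζ e' hnζ hopen r y'
        (hfζ ▸ hy') hr.symm
      change (n : WithBot ℕ∞) ≤ topologicalKrullDim ↥(f.fiber y')
      rw [natCast_le_topologicalKrullDim_fiber_iff]
      refine ⟨ξ, hfξ, le_trans ?_ hξF⟩
      rw [hF] at hle
      exact hle
    obtain ⟨Φ, U, hyU, hΦ, hU⟩ := exists_finset_generic_points Y y
    refine Filter.mem_of_superset (U.isOpen.mem_nhds hyU) ?_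
    intro u hu
    obtain ⟨φ, hφ, hφu⟩ := hU u hu
    exact hφu.mem_closed hcl (hgen φ (hΦ φ hφ))
  by_cases hk0 : k = 0
  · refine ⟨_, hV₁, fun z hz => heq _ _ fun n => ?_⟩
    have hz' : ¬ ((k : WithBot ℕ∞) ≤ topologicalKrullDim ↥(f.fiber z)) := hz
    constructor
    · intro hn
      exact absurd (le_trans (by exact_mod_cast (by omega : k ≤ n)) hn) hz'
    · intro hn
      exact absurd (le_trans (by exact_mod_cast (by omega : k ≤ n)) hn) hk
  · refine ⟨_, Filter.inter_mem hV₁ (hV₂ (k - 1) (by omega)), fun z hz => heq _ _ fun n => ?_⟩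
    have hz1 : ¬ ((k : WithBot ℕ∞) ≤ topologicalKrullDim ↥(f.fiber z)) := hz.1
    have hz2 : ((k - 1 : ℕ) : WithBot ℕ∞) ≤ topologicalKrullDim ↥(f.fiber z) := hz.2
    by_cases hnk : n < k
    · constructor
      · intro _; exact hklt n hnk
      · intro _
        exact le_trans (by exact_mod_cast (by omega : n ≤ k - 1)) hz2
    · constructor
      · intro hn
        exact absurd (le_trans (by exact_mod_cast (by omega : k ≤ n)) hn) hz1
      · intro hn
        exact absurd (le_trans (by exact_mod_cast (by omega : k ≤ n)) hn) hk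

end Groth.Agent.S4921
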