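import Groth.Statements.S4922
import Groth.Agent.Lib.Helper73.OpenAtPoint3
import Groth.Agent.Lib.Helper73.FibreDimGen2
import Groth.Agent.Lib.Helper73.ConstructibleNhds
-- import your own Groth.Agent.* helpers here

set_option autoImplicit false
open CategoryTheory AlgebraicGeometry
universe u v w
open EGA43

namespace Groth.Agent.S4922
open Groth.Agent.Lib.Helper73.SchemeDim Groth.Agent.Lib.Helper73.RelHt Groth.Agent.Lib.Helper73.ConstructibleNhds

/-- Let Y be a locally Noetherian scheme, f : X ⟶ Y an open morphism of finite type and y a point of Y.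
If dim X_y = dim X_{η} for the generic point η of every irreducible component of Y containing y,
then z ↦ dim X_z is constant on a neighbourhood of y. -/
theorem result {X Y : Scheme.{u}} [IsLocallyNoetherian Y]
    (f : X ⟶ Y) [LocallyOfFiniteType f] [QuasiCompact f] (hf : IsOpenMap f.base) (y : Y)
    (h : ∀ η : Y, y ∈ closure {η} → closure {η} ∈ irreducibleComponents (Y : Type u) →
      topologicalKrullDim ↥(f.fiber y) = topologicalKrullDim ↥(f.fiber η)) :
    ∃ V ∈ nhds y, ∀ z ∈ V, topologicalKrullDim ↥(f.fiber z) = topologicalKrullDim ↥(f.fiber y) := by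
  haveI : IsLocallyNoetherian X := LocallyOfFiniteType.isLocallyNoetherian f
  have hopenAt : ∀ x : X, EGA43.IsOpenAt f.base x := fun x U hU => hf.image_mem_nhds hU
  -- level sets are locally constructible
  have hG : ∀ n : ℕ, Topology.IsLocallyConstructible
      {z : Y | (n : WithBot ℕ∞) ≤ topologicalKrullDim ↥(f.fiber z)} := by
    intro n
    have : {z : Y | (n : WithBot ℕ∞) ≤ topologicalKrullDim ↥(f.fiber z)} =
        f.base '' {x : X | (n : WithBot ℕ∞) ≤ FlatMor.fibreDimAt f x} := by
      ext z
      simp only [Set.mem_ofPred_eq, Set.mem_image]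
      rw [natCast_le_topologicalKrullDim_fiber_iff]
      constructor
      · rintro ⟨c, hc, hj⟩; exact ⟨c, hj, hc⟩
      · rintro ⟨c, hj, hc⟩; exact ⟨c, hc, hj⟩
    rw [this]
    exact f.isLocallyConstructible_image
      (isLocallyConstructible_of_isClosed (isClosed_setOf_le_fibreDimAt f n))
  -- claim A
  have hA : ∀ y' z : Y, z ⤳ y' → ∀ n : ℕ, (n : WithBot ℕ∞) ≤ topologicalKrullDim ↥(f.fiber y') →
      (n : WithBot ℕ∞) ≤ topologicalKrullDim ↥(f.fiber z) := by
    intro y' z hz n hn
    rw [natCast_le_topologicalKrullDim_fiber_iff] at hn ⊢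
    obtain ⟨x, hx, hnx⟩ := hn
    obtain ⟨ζ, e', hζx, hζf, hnζ, hF⟩ := exists_specializes_trdeg_eq_fibreDimAt f x
    have hfζ : f.base ζ = y' := hζf.trans hx
    obtain ⟨ξ, m, -, hfξ, hnξ, he'm⟩ := exists_specializes_trdeg_ge_of_isOpenAt f ζ e' hnζ (hopenAt ζ)
      z (hfζ ▸ hz)
    refine ⟨ξ, hfξ, ?_⟩
    have h1 := trdeg_le_fibreDimAt' f (specializes_refl ξ) m hnξ
    rw [hF] at hnx
    refine le_trans hnx (le_trans ?_ h1)
    exact_mod_cast he'm
  -- claim B
  have hB : ∀ z : Y, z ⤳ y → ∀ n : ℕ, (n : WithBot ℕ∞) ≤ topologicalKrullDim ↥(f.fiber z) →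
      (n : WithBot ℕ∞) ≤ topologicalKrullDim ↥(f.fiber y) := by
    intro z hz n hn
    obtain ⟨η, hηmax, hηz⟩ := exists_maximal_specializes z
    have hcomp := closure_singleton_mem_irreducibleComponents_of_maximal η hηmax
    have hyη : y ∈ closure {η} := specializes_iff_mem_closure.mp (hηz.trans hz)
    rw [h η hyη hcomp]
    exact hA z η hηz n hn
  -- equality from comparisons with natural numbers
  have heq : ∀ a b : WithBot ℕ∞, (∀ n : ℕ, (n : WithBot ℕ∞) ≤ a ↔ (n : WithBot ℕ∞) ≤ b) → a = b := by
    intro a b hab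
    cases a with
    | bot =>
      cases b with
      | bot => rfl
      | coe c =>
        have := (hab 0).mpr (by exact_mod_cast (bot_le : (0 : ℕ∞) ≤ c))
        exact absurd this (by simp)
    | coe c =>
      cases b with
      | bot =>
        have := (hab 0).mp (by exact_mod_cast (bot_le : (0 : ℕ∞) ≤ c))
        exact absurd this (by simp)
      | coe c' =>
        congr 1
        apply ENat.eq_of_forall_natCast_le_iff
        intro n
        have := hab n
        constructor
        · intro h1
          have h2 : ((n : ℕ∞) : WithBot ℕ∞) ≤ (c : WithBot ℕ∞) := by exact_mod_cast h1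
          have h3 := this.mp h2
          exact_mod_cast h3
        · intro h1
          have h2 : ((n : ℕ∞) : WithBot ℕ∞) ≤ (c' : WithBot ℕ∞) := by exact_mod_cast h1
          have h3 := this.mpr h2
          exact_mod_cast h3
  -- a uniform bound on the fibre over `y`
  have hbound : ∃ e₀ : ℕ, ¬ ((e₀ : WithBot ℕ∞) ≤ topologicalKrullDim ↥(f.fiber y)) := by
    have hK : IsCompact (f.base ⁻¹' {y}) := f.isCompact_preimage_singleton y
    have hcover : f.base ⁻¹' {y} ⊆ ⋃ n : ℕ, {x : X | FlatMor.fibreDimAt f x ≤ (n : WithBot ℕ∞)} := by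
      intro x _
      obtain ⟨-, m, -, -, -, hm⟩ := exists_specializes_trdeg_eq_fibreDimAt f x
      exact Set.mem_iUnion.mpr ⟨m, le_of_eq hm⟩
    obtain ⟨n, hn⟩ := hK.elim_directed_cover _ (fun n => isOpen_setOf_fibreDimAt_le f n) hcover
      (directed_of_isDirected_le (fun a b hab x (hx : FlatMor.fibreDimAt f x ≤ a) =>
        show FlatMor.fibreDimAt f x ≤ b from hx.trans (by exact_mod_cast hab)))
    refine ⟨n + 1, ?_⟩
    rw [natCast_le_topologicalKrullDim_fiber_iff]
    rintro ⟨x, hx, hle⟩
    have h1 : FlatMor.fibreDimAt f x ≤ (n : WithBot ℕ∞) := hn hx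
    have h2 := hle.trans h1
    have : n + 1 ≤ n := by exact_mod_cast h2
    omega
  classical
  let k := Nat.find hbound
  have hk : ¬ ((k : WithBot ℕ∞) ≤ topologicalKrullDim ↥(f.fiber y)) := Nat.find_spec hbound
  have hklt : ∀ n < k, (n : WithBot ℕ∞) ≤ topologicalKrullDim ↥(f.fiber y) := by
    intro n hn
    by_contra hcon
    exact Nat.find_min hbound hn hcon
  -- upper bound neighbourhood
  have hV₁ : {z : Y | (k : WithBot ℕ∞) ≤ topologicalKrullDim ↥(f.fiber z)}ᶜ ∈ nhds y := by
    refine mem_nhds_of_isLocallyConstructible (isLocallyConstructible_compl (hG k)) y ?_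
    intro z hz hzk
    exact hk (hB z hz k hzk)
  -- lower bound neighbourhood
  have hV₂ : ∀ n < k, {z : Y | (n : WithBot ℕ∞) ≤ topologicalKrullDim ↥(f.fiber z)} ∈ nhds y := by
    intro n hn
    refine mem_nhds_of_isLocallyConstructible (hG n) y ?_
    intro z hz
    exact hA y z hz n (hklt n hn)
  by_cases hk0 : k = 0
  · refine ⟨_, hV₁, fun z hz => heq _ _ fun n => ?_⟩
    have hz' : ¬ ((k : WithBot ℕ∞) ≤ topologicalKrullDim ↥(f.fiber z)) := hz
    constructor
    · intro hn
      exact absurd (le_trans (by exact_mod_cast (by omega : k ≤ n)) hn) hz'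
    · intro hn
      exact absurd (le_trans (by exact_mod_cast (by omega : k ≤ n)) hn) hk
  · refine ⟨_, Filter.inter_mem hV₁ (hV₂ (k - 1) (by omega)), fun z hz => heq _ _ fun n => ?_⟩
    have hz1 : ¬ ((k : WithBot ℕ∞) ≤ topologicalKrullDim ↥(f.fiber z)) := hz.1
    have hz2 : ((k - 1 : ℕ) : WithBot ℕ∞) ≤ topologicalKrullDim ↥(f.fiber z) := hz.2
    by_cases hnk : n < k
    · constructor
      · intro _; exact hklt n hnk
      · intro _
        exact le_trans (by exact_mod_cast (by omega : n ≤ k - 1)) hz2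
    · constructor
      · intro hn
        exact absurd (le_trans (by exact_mod_cast (by omega : k ≤ n)) hn) hz1
      · intro hn
        exact absurd (le_trans (by exact_mod_cast (by omega : k ≤ n)) hn) hk

end Groth.Agent.S4922
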