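import Groth.Statements.S4923
import Groth.Agent.Lib.Helper73.ComponentDims
import Groth.Agent.Lib.Helper73.ConstructibleNhds
-- import your own Groth.Agent.* helpers here

set_option autoImplicit false
open CategoryTheory AlgebraicGeometry
universe u v w
open EGA43

namespace Groth.Agent.S4923
open Groth.Agent.Lib.Helper73.SchemeDim Groth.Agent.Lib.Helper73.RelHt Groth.Agent.Lib.Helper73.ConstructibleNhds

/-- Let Y be a locally Noetherian scheme, f : X ⟶ Y an open morphism of finite type and y a point of Y;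
for z in Y let E(z) be the set of dimensions of the irreducible components of the fibre X_z. If E(y)
= E(η) for the generic point η of every irreducible component of Y containing y, then E is constant
on a neighbourhood of y. -/
theorem result {X Y : Scheme.{u}}
    [IsLocallyNoetherian Y] (f : X ⟶ Y) [LocallyOfFiniteType f] [QuasiCompact f] (hf : IsOpenMap f.base) (y : Y) :
    letI E : Y → Set (WithBot ℕ∞) := fun z =>
      (fun Z : Set ↥(f.fiber z) => topologicalKrullDim ↥Z) '' irreducibleComponents ↥(f.fiber z)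
    (∀ η : Y, y ∈ closure {η} → closure {η} ∈ irreducibleComponents (Y : Type u) → E y = E η) →
      ∃ V ∈ nhds y, ∀ z ∈ V, E z = E y := by
  intro h
  set E : Y → Set (WithBot ℕ∞) := fun z =>
      (fun Z : Set ↥(f.fiber z) => topologicalKrullDim ↥Z) '' irreducibleComponents ↥(f.fiber z) with hEdef
  haveI : IsLocallyNoetherian X := LocallyOfFiniteType.isLocallyNoetherian f
  have hopenAt : ∀ x : X, EGA43.IsOpenAt f.base x := fun x U hU => hf.image_mem_nhds hU
  set H : ℕ → Set Y := fun e => {z : Y | ∃ x : X, f.base x = z ∧ FlatMor.fibreDimAt f x = (e : WithBot ℕ∞)}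
    with hHdef
  have hEiff : ∀ (z : Y) (w : WithBot ℕ∞), w ∈ E z ↔ ∃ e : ℕ, z ∈ H e ∧ w = (e : WithBot ℕ∞) := by
    intro z w
    rw [mem_componentDims_iff]
    constructor
    · rintro ⟨e, x, hx, hF, hw⟩; exact ⟨e, ⟨x, hx, hF⟩, hw⟩
    · rintro ⟨e, ⟨x, hx, hF⟩, hw⟩; exact ⟨e, x, hx, hF, hw⟩
  -- local constructibility
  have hH : ∀ e : ℕ, Topology.IsLocallyConstructible (H e) := by
    intro e
    have : H e = f.base '' ({x : X | (e : WithBot ℕ∞) ≤ FlatMor.fibreDimAt f x} ∩
        {x : X | FlatMor.fibreDimAt f x ≤ (e : WithBot ℕ∞)}) := by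
      ext z
      simp only [hHdef, Set.mem_ofPred_eq, Set.mem_image, Set.mem_inter_iff]
      constructor
      · rintro ⟨x, hx, hF⟩; exact ⟨x, ⟨hF.ge, hF.le⟩, hx⟩
      · rintro ⟨x, ⟨h1, h2⟩, hx⟩; exact ⟨x, hx, le_antisymm h2 h1⟩
    rw [this]
    refine f.isLocallyConstructible_image (Topology.IsLocallyConstructible.inter ?_ ?_)
    · exact isLocallyConstructible_of_isClosed (isClosed_setOf_le_fibreDimAt f e)
    · have hopen := isOpen_setOf_fibreDimAt_le f e
      have := isLocallyConstructible_compl (isLocallyConstructible_of_isClosed hopen.isClosed_compl)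
      rwa [compl_compl] at this
  have hG : ∀ n : ℕ, Topology.IsLocallyConstructible
      {z : Y | (n : WithBot ℕ∞) ≤ topologicalKrullDim ↥(f.fiber z)} := by
    intro n
    have : {z : Y | (n : WithBot ℕ∞) ≤ topologicalKrullDim ↥(f.fiber z)} =
        f.base '' {x : X | (n : WithBot ℕ∞) ≤ FlatMor.fibreDimAt f x} := by
      ext z
      simp only [Set.mem_ofPred_eq, Set.mem_image]
      rw [natCast_le_topologicalKrullDim_fiber_iff]
      constructor
      · rintro ⟨c, hc, hj⟩; exact ⟨c, hj, hc⟩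
      · rintro ⟨c, hj, hc⟩; exact ⟨c, hc, hj⟩
    rw [this]
    exact f.isLocallyConstructible_image
      (isLocallyConstructible_of_isClosed (isClosed_setOf_le_fibreDimAt f n))
  -- generization
  have hsub : ∀ y' z : Y, z ⤳ y' → ∀ e : ℕ, y' ∈ H e → z ∈ H e := by
    rintro y' z hz e ⟨x, hx, hF⟩
    obtain ⟨ζ, n, hζx, hζf, hζmax, hn, hF'⟩ := exists_maximal_in_fibre_trdeg_eq_fibreDimAt f x
    have hne : n = e := by
      have : (n : WithBot ℕ∞) = (e : WithBot ℕ∞) := by rw [← hF', hF]
      exact_mod_cast this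
    have hfζ : f.base ζ = y' := hζf.trans hx
    obtain ⟨ξ, hξmax, -, hfξ, hnξ⟩ := exists_maximal_in_fibre_over_of_isOpenAt f ζ hζmax n hn
      (hopenAt ζ) z (hfζ ▸ hz)
    refine ⟨ξ, hfξ, ?_⟩
    rw [fibreDimAt_eq_trdeg_of_maximal_in_fibre f ξ hξmax n hnξ, hne]
  have hgen : ∀ z : Y, z ⤳ y → ∀ e : ℕ, z ∈ H e → y ∈ H e := by
    intro z hz e hze
    obtain ⟨η, hηmax, hηz⟩ := exists_maximal_specializes z
    have hcomp := closure_singleton_mem_irreducibleComponents_of_maximal η hηmax
    have hyη : y ∈ closure {η} := specializes_iff_mem_closure.mp (hηz.trans hz)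
    have hηe : η ∈ H e := hsub z η hηz e hze
    have h1 : ((e : ℕ) : WithBot ℕ∞) ∈ E η := (hEiff η _).mpr ⟨e, hηe, rfl⟩
    rw [← h η hyη hcomp] at h1
    obtain ⟨e', hye', hee'⟩ := (hEiff y _).mp h1
    have : e = e' := by exact_mod_cast hee'
    rw [this]; exact hye'
  have hHle : ∀ (z : Y) (e : ℕ), z ∈ H e → (e : WithBot ℕ∞) ≤ topologicalKrullDim ↥(f.fiber z) := by
    rintro z e ⟨x, hx, hF⟩
    rw [natCast_le_topologicalKrullDim_fiber_iff]
    exact ⟨x, hx, hF.ge⟩
  -- claim B
  have hB : ∀ z : Y, z ⤳ y → ∀ n : ℕ, (n : WithBot ℕ∞) ≤ topologicalKrullDim ↥(f.fiber z) →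
      (n : WithBot ℕ∞) ≤ topologicalKrullDim ↥(f.fiber y) := by
    intro z hz n hn
    rw [natCast_le_topologicalKrullDim_fiber_iff] at hn
    obtain ⟨x, hx, hnx⟩ := hn
    obtain ⟨-, m, -, -, -, hm⟩ := exists_specializes_trdeg_eq_fibreDimAt f x
    have hzm : z ∈ H m := ⟨x, hx, hm⟩
    have hym := hgen z hz m hzm
    refine le_trans ?_ (hHle y m hym)
    rw [← hm]; exact hnx
  -- a uniform bound on the fibre over `y`
  have hbound : ∃ e₀ : ℕ, ¬ ((e₀ : WithBot ℕ∞) ≤ topologicalKrullDim ↥(f.fiber y)) := by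
    have hK : IsCompact (f.base ⁻¹' {y}) := f.isCompact_preimage_singleton y
    have hcover : f.base ⁻¹' {y} ⊆ ⋃ n : ℕ, {x : X | FlatMor.fibreDimAt f x ≤ (n : WithBot ℕ∞)} := by
      intro x _
      obtain ⟨-, m, -, -, -, hm⟩ := exists_specializes_trdeg_eq_fibreDimAt f x
      exact Set.mem_iUnion.mpr ⟨m, le_of_eq hm⟩
    obtain ⟨n, hn⟩ := hK.elim_directed_cover _ (fun n => isOpen_setOf_fibreDimAt_le f n) hcover
      (directed_of_isDirected_le (fun a b hab x (hx : FlatMor.fibreDimAt f x ≤ a) =>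
        show FlatMor.fibreDimAt f x ≤ b from hx.trans (by exact_mod_cast hab)))
    refine ⟨n + 1, ?_⟩
    rw [natCast_le_topologicalKrullDim_fiber_iff]
    rintro ⟨x, hx, hle⟩
    have h1 : FlatMor.fibreDimAt f x ≤ (n : WithBot ℕ∞) := hn hx
    have h2 := hle.trans h1
    have : n + 1 ≤ n := by exact_mod_cast h2
    omega
  obtain ⟨k, hk⟩ := hbound
  have hV₁ : {z : Y | (k : WithBot ℕ∞) ≤ topologicalKrullDim ↥(f.fiber z)}ᶜ ∈ nhds y := by
    refine mem_nhds_of_isLocallyConstructible (isLocallyConstructible_compl (hG k)) y ?_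
    intro z hz hzk
    exact hk (hB z hz k hzk)
  classical
  have hV₂ : ∀ e ∈ Finset.range k, (if y ∈ H e then H e else (H e)ᶜ) ∈ nhds y := by
    intro e _
    split_ifs with hye
    · exact mem_nhds_of_isLocallyConstructible (hH e) y (fun z hz => hsub y z hz e hye)
    · exact mem_nhds_of_isLocallyConstructible (isLocallyConstructible_compl (hH e)) y
        (fun z hz hze => hye (hgen z hz e hze))
  refine ⟨_, Filter.inter_mem hV₁ ((Filter.biInter_finset_mem (Finset.range k)).mpr hV₂), ?_⟩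
  rintro z ⟨hz1, hz2⟩
  have hz1' : ¬ ((k : WithBot ℕ∞) ≤ topologicalKrullDim ↥(f.fiber z)) := hz1
  rw [Set.mem_iInter₂] at hz2
  ext w
  rw [hEiff, hEiff]
  constructor
  · rintro ⟨e, hze, rfl⟩
    have hek : e < k := by
      by_contra hcon
      push Not at hcon
      exact hz1' (le_trans (by exact_mod_cast hcon) (hHle z e hze))
    have := hz2 e (Finset.mem_range.mpr hek)
    by_cases hye : y ∈ H e
    · exact ⟨e, hye, rfl⟩
    · rw [if_neg hye] at this
      exact absurd hze this
  · rintro ⟨e, hye, rfl⟩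
    have hek : e < k := by
      by_contra hcon
      push Not at hcon
      exact hk (le_trans (by exact_mod_cast hcon) (hHle y e hye))
    have := hz2 e (Finset.mem_range.mpr hek)
    rw [if_pos hye] at this
    exact ⟨e, this, rfl⟩

end Groth.Agent.S4923
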