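import Groth.Statements.S4924
import Groth.Agent.Lib.Helper73.OpenFibreDim
import Groth.Agent.Lib.Helper73.ConstructibleNhds
-- import your own Groth.Agent.* helpers here

set_option autoImplicit false
open CategoryTheory AlgebraicGeometry
universe u v w
open EGA43

namespace Groth.Agent.S4924
open Groth.Agent.Lib.Helper73.SchemeDim Groth.Agent.Lib.Helper73.RelHt Groth.Agent.Lib.Helper73.ConstructibleNhds

/-- Let Y be a locally Noetherian scheme, f : X ⟶ Y an open morphism of finite type and y a point of Y.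
Then there is an open neighbourhood U of the fibre f⁻¹(y) in X such that the function z ↦ dim (U ∩
f⁻¹(z)) is constant on a neighbourhood of y. -/
theorem result {X Y : Scheme.{u}} [IsLocallyNoetherian Y]
    (f : X ⟶ Y) [LocallyOfFiniteType f] [QuasiCompact f] (hf : IsOpenMap f.base) (y : Y) :
    ∃ U : X.Opens, f.base ⁻¹' {y} ⊆ (U : Set X) ∧ ∃ V ∈ nhds y, ∀ z ∈ V,
      topologicalKrullDim ↥((U : Set X) ∩ f.base ⁻¹' {z}) = topologicalKrullDim ↥((U : Set X) ∩ f.base ⁻¹' {y}) := by
  haveI : IsLocallyNoetherian X := LocallyOfFiniteType.isLocallyNoetherian f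
  have hopenAt : ∀ x : X, EGA43.IsOpenAt f.base x := fun x U hU => hf.image_mem_nhds hU
  set H : ℕ → Set Y := fun e => {z : Y | ∃ x : X, f.base x = z ∧ FlatMor.fibreDimAt f x = (e : WithBot ℕ∞)}
    with hHdef
  have hH : ∀ e : ℕ, Topology.IsLocallyConstructible (H e) := by
    intro e
    have : H e = f.base '' ({x : X | (e : WithBot ℕ∞) ≤ FlatMor.fibreDimAt f x} ∩
        {x : X | FlatMor.fibreDimAt f x ≤ (e : WithBot ℕ∞)}) := by
      ext z
      simp only [hHdef, Set.mem_ofPred_eq, Set.mem_image, Set.mem_inter_iff]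
      constructor
      · rintro ⟨x, hx, hF⟩; exact ⟨x, ⟨hF.ge, hF.le⟩, hx⟩
      · rintro ⟨x, ⟨h1, h2⟩, hx⟩; exact ⟨x, hx, le_antisymm h2 h1⟩
    rw [this]
    refine f.isLocallyConstructible_image (Topology.IsLocallyConstructible.inter ?_ ?_)
    · exact isLocallyConstructible_of_isClosed (isClosed_setOf_le_fibreDimAt f e)
    · have hopen := isOpen_setOf_fibreDimAt_le f e
      have := isLocallyConstructible_compl (isLocallyConstructible_of_isClosed hopen.isClosed_compl)
      rwa [compl_compl] at this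
  have hsub : ∀ y' z : Y, z ⤳ y' → ∀ e : ℕ, y' ∈ H e → z ∈ H e := by
    rintro y' z hz e ⟨x, hx, hF⟩
    obtain ⟨ζ, n, hζx, hζf, hζmax, hn, hF'⟩ := exists_maximal_in_fibre_trdeg_eq_fibreDimAt f x
    have hne : n = e := by
      have : (n : WithBot ℕ∞) = (e : WithBot ℕ∞) := by rw [← hF', hF]
      exact_mod_cast this
    have hfζ : f.base ζ = y' := hζf.trans hx
    obtain ⟨ξ, hξmax, -, hfξ, hnξ⟩ := exists_maximal_in_fibre_over_of_isOpenAt f ζ hζmax n hn
      (hopenAt ζ) z (hfζ ▸ hz)
    refine ⟨ξ, hfξ, ?_⟩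
    rw [fibreDimAt_eq_trdeg_of_maximal_in_fibre f ξ hξmax n hnξ, hne]
  -- a uniform bound on the fibre over `y`
  have hbound : ∃ e₀ : ℕ, ¬ ((e₀ : WithBot ℕ∞) ≤ topologicalKrullDim ↥(f.fiber y)) := by
    have hK : IsCompact (f.base ⁻¹' {y}) := f.isCompact_preimage_singleton y
    have hcover : f.base ⁻¹' {y} ⊆ ⋃ n : ℕ, {x : X | FlatMor.fibreDimAt f x ≤ (n : WithBot ℕ∞)} := by
      intro x _
      obtain ⟨-, m, -, -, -, hm⟩ := exists_specializes_trdeg_eq_fibreDimAt f x
      exact Set.mem_iUnion.mpr ⟨m, le_of_eq hm⟩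
    obtain ⟨n, hn⟩ := hK.elim_directed_cover _ (fun n => isOpen_setOf_fibreDimAt_le f n) hcover
      (directed_of_isDirected_le (fun a b hab x (hx : FlatMor.fibreDimAt f x ≤ a) =>
        show FlatMor.fibreDimAt f x ≤ b from hx.trans (by exact_mod_cast hab)))
    refine ⟨n + 1, ?_⟩
    rw [natCast_le_topologicalKrullDim_fiber_iff]
    rintro ⟨x, hx, hle⟩
    have h1 : FlatMor.fibreDimAt f x ≤ (n : WithBot ℕ∞) := hn hx
    have h2 := hle.trans h1
    have : n + 1 ≤ n := by exact_mod_cast h2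
    omega
  classical
  let k := Nat.find hbound
  have hk : ¬ ((k : WithBot ℕ∞) ≤ topologicalKrullDim ↥(f.fiber y)) := Nat.find_spec hbound
  have hklt : ∀ n < k, (n : WithBot ℕ∞) ≤ topologicalKrullDim ↥(f.fiber y) := by
    intro n hn
    by_contra hcon
    exact Nat.find_min hbound hn hcon
  -- points over `y` have local fibre dimension `< k`
  have hfib : ∀ x : X, f.base x = y → ∀ m : ℕ, FlatMor.fibreDimAt f x = (m : WithBot ℕ∞) → m < k := by
    intro x hx m hm
    by_contra hcon
    push Not at hcon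
    apply hk
    rw [natCast_le_topologicalKrullDim_fiber_iff]
    exact ⟨x, hx, by rw [hm]; exact_mod_cast hcon⟩
  by_cases hk0 : k = 0
  · refine ⟨⊥, ?_, Set.univ, Filter.univ_mem, fun z _ => ?_⟩
    · intro x hx
      obtain ⟨-, m, -, -, -, hm⟩ := exists_specializes_trdeg_eq_fibreDimAt f x
      have := hfib x hx m hm
      omega
    · have hbot : ∀ z' : Y, topologicalKrullDim ↥(((⊥ : X.Opens) : Set X) ∩ f.base ⁻¹' {z'}) = ⊥ := by
        intro z'
        haveI := quasiSober_open_inter_fibre f z' ((⊥ : X.Opens) : Set X) (⊥ : X.Opens).isOpen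
        rw [← le_bot_iff]
        refine topologicalKrullDim_subtype_le _ _ (fun c hc => ?_)
        exact absurd (hc 0).1 (Set.notMem_empty _)
      rw [hbot, hbot]
  · obtain ⟨n, hn⟩ : ∃ n, k = n + 1 := ⟨k - 1, by omega⟩
    have hUo : IsOpen {x : X | FlatMor.fibreDimAt f x ≤ (n : WithBot ℕ∞)} := isOpen_setOf_fibreDimAt_le f n
    have hyH : y ∈ H n := by
      have h1 := hklt n (by omega)
      rw [natCast_le_topologicalKrullDim_fiber_iff] at h1
      obtain ⟨x, hx, hle⟩ := h1
      obtain ⟨-, m, -, -, -, hm⟩ := exists_specializes_trdeg_eq_fibreDimAt f x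
      have h2 := hfib x hx m hm
      rw [hm] at hle
      have h3 : n ≤ m := by exact_mod_cast hle
      have : m = n := by omega
      exact ⟨x, hx, by rw [hm, this]⟩
    refine ⟨⟨_, hUo⟩, ?_, H n, ?_, fun z hz => ?_⟩
    · intro x hx
      obtain ⟨-, m, -, -, -, hm⟩ := exists_specializes_trdeg_eq_fibreDimAt f x
      have := hfib x hx m hm
      change FlatMor.fibreDimAt f x ≤ (n : WithBot ℕ∞)
      rw [hm]
      exact_mod_cast (by omega : m ≤ n)
    · exact mem_nhds_of_isLocallyConstructible (hH n) y (fun z hz => hsub y z hz n hyH)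
    · change topologicalKrullDim ↥({x : X | FlatMor.fibreDimAt f x ≤ (n : WithBot ℕ∞)} ∩ f.base ⁻¹' {z}) =
        topologicalKrullDim ↥({x : X | FlatMor.fibreDimAt f x ≤ (n : WithBot ℕ∞)} ∩ f.base ⁻¹' {y})
      rw [topologicalKrullDim_setOf_fibreDimAt_le_inter_fibre f n z hz,
        topologicalKrullDim_setOf_fibreDimAt_le_inter_fibre f n y hyH]

end Groth.Agent.S4924
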