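import Groth.Statements.S4928
import Groth.Agent.S3404
import Groth.Agent.Lib.Helper96.UnivOpenAt
open CategoryTheory.Limits

set_option autoImplicit false
open CategoryTheory AlgebraicGeometry
universe u v w
open EGA43

namespace Groth.Agent.S4928

open CategoryTheory.Limits in
theorem aux {X Y : Scheme.{u}} (f : X ⟶ Y) [LocallyOfFinitePresentation f]
    (x : X) (j : Spec (Y.presheaf.stalk (f.base x)) ⟶ Y) (hj : j = Y.fromSpecStalk (f.base x))
    (x₁ : ↥(pullback f j)) (hx₁ : (pullback.fst f j).base x₁ = x) :
    EGA43.IsUnivOpenAt f x ↔ EGA43.IsUnivOpenAt (pullback.snd f j) x₁ := by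
  constructor
  · -- base change
    intro hf Y'' g₁ x'' hx''
    have paste : IsPullback (pullback.fst (pullback.snd f j) g₁ ≫ pullback.fst f j)
        (pullback.snd (pullback.snd f j) g₁) f (g₁ ≫ j) :=
      (IsPullback.of_hasPullback (pullback.snd f j) g₁).paste_horiz (IsPullback.of_hasPullback f j)
    refine Groth.Agent.Lib.Helper96.UnivOpenAt.isOpenAt_of_isPullback_of_isUnivOpenAt paste x hf x'' ?_
    rw [Scheme.Hom.comp_apply, hx'', hx₁]
  · intro hf₁ Y' g x' hx'
    have hlfp : LocallyOfFinitePresentation (pullback.snd f g) := inferInstance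
    refine Groth.Agent.S3404.isOpenAt_of_lift_gen (pullback.snd f g) x' ?_
    intro y'' hy''
    obtain ⟨y', hy'⟩ : ∃ y' : Y', y' = (pullback.snd f g).base x' := ⟨_, rfl⟩
    rw [← hy'] at hy''
    have hgy : g.base y' = f.base x := by
      rw [hy', ← hx', ← Scheme.Hom.comp_apply, ← Scheme.Hom.comp_apply, pullback.condition]
    obtain ⟨jT, hjT⟩ : ∃ jT : Spec (Y'.presheaf.stalk y') ⟶ Y', jT = Y'.fromSpecStalk y' :=
      ⟨_, rfl⟩
    have hmem : y'' ∈ Set.range jT := by
      rw [hjT, Scheme.range_fromSpecStalk]; exact hy''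
    obtain ⟨t'', ht''⟩ := hmem
    have hspec : g.base y' ⤳ f.base x := specializes_of_eq hgy
    obtain ⟨k, hk⟩ : ∃ k : Spec (Y'.presheaf.stalk y') ⟶ Spec (Y.presheaf.stalk (f.base x)),
        k ≫ j = jT ≫ g := by
      refine ⟨Spec.map (g.stalkMap y') ≫ Spec.map (Y.presheaf.stalkSpecializes hspec), ?_⟩
      rw [hj, hjT, Category.assoc, Scheme.SpecMap_stalkSpecializes_fromSpecStalk,
        Scheme.SpecMap_stalkMap_fromSpecStalk]
    have paste : IsPullback (pullback.fst (pullback.snd f j) k ≫ pullback.fst f j)
        (pullback.snd (pullback.snd f j) k) f (k ≫ j) :=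
      (IsPullback.of_hasPullback (pullback.snd f j) k).paste_horiz (IsPullback.of_hasPullback f j)
    obtain ⟨m, hm1, hm2⟩ : ∃ m : pullback (pullback.snd f j) k ⟶ pullback f g,
        m ≫ pullback.fst f g = pullback.fst (pullback.snd f j) k ≫ pullback.fst f j ∧
        m ≫ pullback.snd f g = pullback.snd (pullback.snd f j) k ≫ jT := by
      refine ⟨pullback.lift (pullback.fst (pullback.snd f j) k ≫ pullback.fst f j)
        (pullback.snd (pullback.snd f j) k ≫ jT) ?_, pullback.lift_fst _ _ _,
        pullback.lift_snd _ _ _⟩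
      rw [Category.assoc, Category.assoc, ← hk, pullback.condition, pullback.condition_assoc]
    have big : IsPullback (m ≫ pullback.fst f g) (pullback.snd (pullback.snd f j) k) f
        (jT ≫ g) := by
      rw [hm1, ← hk]; exact paste
    have sq : IsPullback m (pullback.snd (pullback.snd f j) k) (pullback.snd f g) jT :=
      IsPullback.of_right big hm2 (IsPullback.of_hasPullback f g)
    have hcl : (pullback.snd f g).base x' = jT.base (IsLocalRing.closedPoint _) := by
      rw [hjT, Scheme.fromSpecStalk_closedPoint, hy']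
    obtain ⟨z, hz1, hz2⟩ :=
      Groth.Agent.Lib.Helper96.UnivOpenAt.exists_preimage_of_isPullback sq x' _ hcl
    have hinj : Function.Injective (pullback.fst f j).base := by
      have : IsPreimmersion j := by rw [hj]; infer_instance
      have : IsPreimmersion (pullback.fst f j) := inferInstance
      exact (pullback.fst f j).isEmbedding.injective
    have hzx₁ : (pullback.fst (pullback.snd f j) k).base z = x₁ := by
      apply hinj
      have h1 : (pullback.fst f j).base ((pullback.fst (pullback.snd f j) k).base z) =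
          (pullback.fst f g).base (m.base z) := by
        rw [← Scheme.Hom.comp_apply, ← Scheme.Hom.comp_apply, hm1]
      exact h1.trans ((congrArg _ hz1).trans (hx'.trans hx₁.symm))
    have hopen := hf₁ _ k z hzx₁
    have hspec2 : t'' ⤳ (pullback.snd (pullback.snd f j) k).base z := by
      rw [hz2]; exact IsLocalRing.specializes_closedPoint _
    obtain ⟨z'', hz''z, hz''⟩ := Groth.Agent.S3404.lift_gen _ z hopen t'' hspec2
    refine ⟨m.base z'', ?_, ?_⟩
    · rw [← hz1]; exact hz''z.map m.continuous
    · rw [← Scheme.Hom.comp_apply, hm2, Scheme.Hom.comp_apply, hz'', ht'']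



/-- Let f : X ⟶ Y be locally of finite presentation, x a point of X, y = f x, and f₁ : X ×_Y Spec
O_{Y,y} ⟶ Spec O_{Y,y} the base change of f to the local scheme of Y at y. Then for every point x₁
of X ×_Y Spec O_{Y,y} projecting to x, f is universally open at x if and only if f₁ is universally
open at x₁. -/
theorem result {X Y : Scheme.{u}} (f : X ⟶ Y) [LocallyOfFinitePresentation f]
    (x : X) (x₁ : ↥(pullback f (Y.fromSpecStalk (f.base x))))
    (hx₁ : (pullback.fst f (Y.fromSpecStalk (f.base x))).base x₁ = x) :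
    EGA43.IsUnivOpenAt f x ↔ EGA43.IsUnivOpenAt (pullback.snd f (Y.fromSpecStalk (f.base x))) x₁ := by
  exact aux f x _ rfl x₁ hx₁

end Groth.Agent.S4928
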