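import Groth.Statements.S4930
import Groth.Agent.S2587

set_option autoImplicit false
open CategoryTheory AlgebraicGeometry
universe u v w
open EGA43

namespace Groth.Agent.S4930

open CategoryTheory.Limits in
/-- Let Y be a locally Noetherian scheme, f : X ⟶ Y a morphism locally of finite type and y a point of
Y. Then f is universally open at all points of the fibre over y if and only if, for every discrete
valuation ring A and every morphism g : Spec A ⟶ Y mapping the closed point to y, every irreducible
component of X ×_Y Spec A dominates Spec A. -/
theorem result {X Y : Scheme.{u}} [IsLocallyNoetherian Y] (f : X ⟶ Y)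
    [LocallyOfFiniteType f] (y : Y) :
    (∀ x : X, f.base x = y → EGA43.IsUnivOpenAt f x) ↔
      ∀ (A : Type u) [CommRing A] [IsDomain A] [IsDiscreteValuationRing A] (g : Spec (CommRingCat.of A) ⟶ Y),
        g.base (IsLocalRing.closedPoint A) = y →
        ∀ Z ∈ irreducibleComponents (↥(pullback f g) : Type u), Dense ((pullback.snd f g).base '' Z) := by
  constructor
  · intro H A _ _ _ g hg Z hZ
    obtain ⟨ζ, hζ⟩ := QuasiSober.sober hZ.1
      (isClosed_of_mem_irreducibleComponents Z hZ)
    -- the generic point of `Z` lies over the generic point
    have hne : (pullback.snd f g).base ζ ≠ IsLocalRing.closedPoint A := by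
      intro hs
      have hfx : f.base ((pullback.fst f g).base ζ) = y := by
        rw [← hg, ← hs, ← Scheme.Hom.comp_apply, ← Scheme.Hom.comp_apply, pullback.condition]
      have hU := H _ hfx
      have hgx : g.base (IsLocalRing.closedPoint A) = f.base ((pullback.fst f g).base ζ) :=
        hg.trans hfx.symm
      obtain ⟨z', hz', hz'ne⟩ := (Groth.Agent.S2587.result f _).mp hU A g hgx ζ rfl hs
      -- `z'` is a generization of the generic point of an irreducible component
      have hsub : Z ⊆ closure {z'} := by
        rw [← hζ.def]
        exact closure_minimal (Set.singleton_subset_iff.mpr hz'.mem_closure) isClosed_closure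
      have hirr : IsIrreducible (closure ({z'} : Set ↥(pullback f g))) :=
        isIrreducible_singleton.closure
      have hZeq : closure ({z'} : Set ↥(pullback f g)) = Z :=
        (hZ.2 hirr hsub).antisymm hsub
      have hz'gen : IsGenericPoint z' Z := hZeq
      have : z' = ζ := hz'gen.eq hζ
      exact hz'ne (this ▸ hs)
    have hbot : ((pullback.snd f g).base ζ).asIdeal = ⊥ :=
      Groth.Agent.Lib.Helper25.UnivOpenAt.asIdeal_eq_bot_of_ne_closedPoint _ hne
    rw [dense_iff_closure_eq, Set.eq_univ_iff_forall]
    intro p
    have h1 : ({(pullback.snd f g).base ζ} : Set ↥(Spec (CommRingCat.of A))) ⊆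
        (pullback.snd f g).base '' Z := Set.singleton_subset_iff.mpr ⟨ζ, hζ.mem, rfl⟩
    have hsp : (pullback.snd f g).base ζ ⤳ p :=
      (PrimeSpectrum.le_iff_specializes ((pullback.snd f g).base ζ : PrimeSpectrum A)
        (p : PrimeSpectrum A)).mp (by
          show ((pullback.snd f g).base ζ).asIdeal ≤ p.asIdeal
          rw [hbot]; exact bot_le)
    exact closure_mono h1 hsp.mem_closure
  · intro H x hx
    refine (Groth.Agent.S2587.result f x).mpr ?_
    intro A _ _ _ g hg x' hx'1 hx'2
    have hZ := irreducibleComponent_mem_irreducibleComponents x'
    obtain ⟨ζ, hζ⟩ := QuasiSober.sober hZ.1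
      (isClosed_of_mem_irreducibleComponents _ hZ)
    have hdense := H A g (hg.trans hx) _ hZ
    refine ⟨ζ, ?_, ?_⟩
    · rw [specializes_iff_mem_closure, hζ.def]
      exact mem_irreducibleComponent
    · intro hs
      -- the image of the component is contained in the closed point
      have hsub : (pullback.snd f g).base '' irreducibleComponent x' ⊆
          {IsLocalRing.closedPoint A} := by
        rintro _ ⟨w, hw, rfl⟩
        rw [← hζ.def, ← specializes_iff_mem_closure] at hw
        have := hw.map (pullback.snd f g).base.hom.continuous
        rw [hs] at this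
        have hcl : IsClosed ({IsLocalRing.closedPoint A} : Set (PrimeSpectrum A)) :=
          IsLocalRing.isClosed_singleton_closedPoint A
        exact this.mem_closed hcl rfl
      have huniv : ({IsLocalRing.closedPoint A} : Set (PrimeSpectrum A)) = Set.univ := by
        have hcl : IsClosed ({IsLocalRing.closedPoint A} : Set (PrimeSpectrum A)) :=
          IsLocalRing.isClosed_singleton_closedPoint A
        exact Set.eq_univ_of_univ_subset
          (hdense.closure_eq ▸ closure_minimal hsub hcl)
      let η : PrimeSpectrum A := ⟨⊥, Ideal.isPrime_bot⟩
      have hη : η ∈ ({IsLocalRing.closedPoint A} : Set (PrimeSpectrum A)) := huniv ▸ Set.mem_univ _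
      have : (⊥ : Ideal A) = IsLocalRing.maximalIdeal A := congrArg PrimeSpectrum.asIdeal hη
      exact IsDiscreteValuationRing.not_a_field A this.symm

end Groth.Agent.S4930
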