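import Groth.Statements.S4935
import Groth.Agent.Lib.Helper86.UnibranchGD

set_option autoImplicit false
universe u
open EGA43

namespace Groth.Agent.S4935

/-- Let A be a unibranch local domain, B a domain containing A and integral over A, and 𝔫 a prime ideal
of B lying over the maximal ideal of A. Then Spec B_𝔫 → Spec A is surjective: for every prime ideal
𝔭 of A there is a prime ideal 𝔮 ⊆ 𝔫 of B with 𝔮 ∩ A = 𝔭. -/
theorem result {A B : Type u} [CommRing A] [IsDomain A]
    [IsLocalRing A] (hA : CAlg2.IsUnibranch A) [CommRing B] [IsDomain B] [Algebra A B]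
    (hinj : Function.Injective (algebraMap A B)) [Algebra.IsIntegral A B] (n : Ideal B) [n.IsPrime]
    (hn : n.comap (algebraMap A B) = IsLocalRing.maximalIdeal A) (p : Ideal A) [p.IsPrime] :
    ∃ q : Ideal B, q.IsPrime ∧ q ≤ n ∧ q.comap (algebraMap A B) = p := by
  classical
  haveI : IsDomain (CAlg2.red A) := hA.1
  have hnil : nilradical A = ⊥ := nilradical_eq_zero A
  have hker : ∀ a : A, a ∈ nilradical A → algebraMap A B a = 0 := by
    intro a ha
    rw [hnil, Ideal.mem_bot] at ha
    rw [ha, map_zero]
  letI : Algebra (CAlg2.red A) B :=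
    (Ideal.Quotient.lift (nilradical A) (algebraMap A B) hker).toAlgebra
  haveI : IsScalarTower A (CAlg2.red A) B := IsScalarTower.of_algebraMap_eq fun a => rfl
  have hinjR : Function.Injective (algebraMap (CAlg2.red A) B) := by
    apply RingHom.lift_injective_of_ker_le_ideal
    rw [(RingHom.injective_iff_ker_eq_bot _).mp hinj]
    exact bot_le
  haveI : Algebra.IsIntegral (CAlg2.red A) B :=
    Algebra.IsIntegral.tower_top (R := A) (S := CAlg2.red A) (T := B)
  have hsurj : Function.Surjective (Ideal.Quotient.mk (nilradical A)) := Ideal.Quotient.mk_surjective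
  have hcomap : ∀ I : Ideal B, (I.comap (algebraMap (CAlg2.red A) B)).comap
      (Ideal.Quotient.mk (nilradical A)) = I.comap (algebraMap A B) := by
    intro I
    rw [Ideal.comap_comap]
    rfl
  have hn' : (n.comap (algebraMap (CAlg2.red A) B)).IsMaximal := by
    have h1 : n.comap (algebraMap (CAlg2.red A) B) =
        (IsLocalRing.maximalIdeal A).map (Ideal.Quotient.mk (nilradical A)) := by
      rw [← hn, ← hcomap, Ideal.map_comap_of_surjective _ hsurj]
    rcases Ideal.map_eq_top_or_isMaximal_of_surjective (Ideal.Quotient.mk (nilradical A)) hsurj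
      (IsLocalRing.maximalIdeal.isMaximal A) with h | h
    · exfalso
      have hprime : (n.comap (algebraMap (CAlg2.red A) B)).IsPrime := Ideal.comap_isPrime _ _
      exact hprime.ne_top (h1.trans h)
    · rw [h1]; exact h
  have hkerle : RingHom.ker (Ideal.Quotient.mk (nilradical A)) ≤ p := by
    rw [Ideal.mk_ker, hnil]; exact bot_le
  haveI : (p.map (Ideal.Quotient.mk (nilradical A))).IsPrime :=
    Ideal.map_isPrime_of_surjective hsurj hkerle
  obtain ⟨q, hq, hqn, hqp⟩ :=
    Groth.Agent.Lib.Helper86.UnibranchGD.exists_prime_le_of_isLocalRing_integralClosure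
      hinjR hA.2 n hn' (p.map (Ideal.Quotient.mk (nilradical A)))
  refine ⟨q, hq, hqn, ?_⟩
  rw [← hcomap, hqp, Ideal.comap_map_of_surjective _ hsurj]
  rw [← RingHom.ker_eq_comap_bot]
  exact sup_eq_left.mpr hkerle

end Groth.Agent.S4935
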