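import Groth.Statements.S4938
import Mathlib
import Groth.Agent.Lib.Helper82.ChevalleyFibre2
-- import your own Groth.Agent.* helpers here

set_option autoImplicit false
open CategoryTheory AlgebraicGeometry
universe u v w
open EGA43

namespace Groth.Agent.S4938
set_option linter.style.haveILetI false
open Groth.Agent.Lib.Helper82.ChevalleyPt Groth.Agent.Lib.Helper82.ChevalleyComp
open Groth.Agent.Lib.Helper82.ChevalleyOpen Groth.Agent.Lib.Helper82.ChevalleyFibre
open Groth.Agent.Lib.Helper82.ChevalleyFibre2
open Groth.Agent.Lib.Helper73.SchemeDim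

/-- Let Y be a locally Noetherian scheme, f : X ⟶ Y a morphism locally of finite type, and y a
geometrically unibranch point of Y, lying on the unique irreducible component Y₀ of Y with generic
point η. The following are equivalent: a) f is universally open at every point of X_y; b) every
point x of X_y lies on an irreducible component Z of X dominating Y₀ with dim_x(Z ∩ X_y) = dim(Z ∩
X_η); b'') for every open subset U of X, dim(U ∩ X_η) ≥ dim(U ∩ X_y); c) f is open at every point of
X_y. (The published statement assumes Y locally Noetherian only for c) and also lists b′), the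
pointwise form of b″) (for every x in X_y and every open U ∋ x, dim(U ∩ X_η) ≥ dim_x(U ∩ X_y)); over
the spectrum of an infinite product of copies of a field, the inclusion of a non-open closed point
satisfies b) and b″) but not a), so this row takes Y locally Noetherian throughout, and b′) is not
listed.) -/
theorem result {X Y : Scheme.{u}} [IsLocallyNoetherian Y] (f : X ⟶ Y)
    [LocallyOfFiniteType f] (y : Y) (hy : CAlg2.IsGeomUnibranch (Y.presheaf.stalk y)) :
    List.TFAE [∀ x : X, f.base x = y → EGA43.IsUnivOpenAt f x,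
      ∀ x : X, f.base x = y → ∀ Y₀ ∈ irreducibleComponents (Y : Type u), y ∈ Y₀ →
        ∃ Z ∈ irreducibleComponents (X : Type u), ∃ hx : x ∈ Z, closure (f.base '' Z) = Y₀ ∧
          ∀ η : Y, closure ({η} : Set Y) = Y₀ →
            FlatMor.localDim ↥(Z ∩ f.base ⁻¹' {f.base x}) ⟨x, ⟨hx, rfl⟩⟩ = topologicalKrullDim ↥(Z ∩ f.base ⁻¹' {η}),
      ∀ U : X.Opens, ∀ Y₀ ∈ irreducibleComponents (Y : Type u), y ∈ Y₀ → ∀ η : Y, closure ({η} : Set Y) = Y₀ →
        topologicalKrullDim ↥((U : Set X) ∩ f.base ⁻¹' {y}) ≤ topologicalKrullDim ↥((U : Set X) ∩ f.base ⁻¹' {η}),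
      ∀ x : X, f.base x = y → EGA43.IsOpenAt f.base x] := by
  tfae_have 1 → 2 := component_of_isUnivOpenAt f y
  tfae_have 2 → 1 := by
    intro hb x hxy
    obtain ⟨Z, hZ, hx, hcl, hη⟩ := hb x hxy (irreducibleComponent y)
      (irreducibleComponent_mem_irreducibleComponents y) mem_irreducibleComponent
    exact isUnivOpenAt_of_component_fibre f x (isGeomUnibranch_stalk_congr hxy.symm hy) _
      (irreducibleComponent_mem_irreducibleComponents y) Z hZ hx hcl hη
  tfae_have 1 → 3 := by
    intro ha U Y₀ hY₀ hyY₀ η hη
    refine dim_fibre_le_of_isUnivOpenAt f y ha U η ?_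
    rw [specializes_iff_mem_closure, hη]
    exact hyY₀
  tfae_have 3 → 1 := by
    intro hb x hxy
    obtain ⟨η₀, hη₀max, hclη₀⟩ := exists_maximal_closure_eq_of_mem_irreducibleComponents
      (irreducibleComponent_mem_irreducibleComponents y)
    have hη₀y : η₀ ⤳ y := by
      rw [specializes_iff_mem_closure, hclη₀]
      exact mem_irreducibleComponent
    refine isUnivOpenAt_of_dim_fibre_le f x (isGeomUnibranch_stalk_congr hxy.symm hy) η₀ hη₀max
      (by rw [hxy]; exact hη₀y) (fun U => ?_)
    rw [hxy]
    exact hb U (irreducibleComponent y) (irreducibleComponent_mem_irreducibleComponents y)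
      mem_irreducibleComponent η₀ hclη₀
  tfae_have 1 → 4 := fun h x hx => isOpenAt_of_isUnivOpenAt f x (h x hx)
  tfae_have 4 → 1 := fun h x hx =>
    isUnivOpenAt_of_forall_isOpenAt f x (isGeomUnibranch_stalk_congr hx.symm hy)
      (fun ζ _ hζf => h ζ (hζf.trans hx))
  tfae_finish

end Groth.Agent.S4938
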