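import Groth.Statements.S4945
import Mathlib
import Groth.Agent.Lib.Helper82.ChevalleyComp
-- import your own Groth.Agent.* helpers here

set_option autoImplicit false
open CategoryTheory AlgebraicGeometry
universe u v w
open EGA43

namespace Groth.Agent.S4945
set_option linter.style.haveILetI false
open Groth.Agent.Lib.Helper82.ChevalleyPt Groth.Agent.Lib.Helper82.ChevalleyComp
open Groth.Agent.Lib.Helper73.SchemeDim

/-- the generization data extracted from condition c) at an arbitrary point of the fibre. -/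
private theorem data_of_c {X Y : Scheme.{u}} [IrreducibleSpace Y]
    [IsLocallyNoetherian Y] (f : X ⟶ Y) [LocallyOfFiniteType f] (y : Y)
    (hc : ∀ z : X, ∀ hzy : f.base z = y, (∀ z' : X, f.base z' = y → z ∈ closure {z'} → z' = z) →
        ∃ Z ∈ irreducibleComponents (X : Type u), ∃ hz : z ∈ Z, Dense (f.base '' Z) ∧
          FlatMor.localDim ↥(Z ∩ f.base ⁻¹' {y}) ⟨z, ⟨hz, hzy⟩⟩ = topologicalKrullDim ↥(Z ∩ f.base ⁻¹' {genericPoint Y}))
    (x : X) (hxy : f.base x = y) :
    ∃ (ξ : X) (e : ℕ), ξ ⤳ x ∧ (∀ η' : Y, η' ⤳ f.base ξ → η' = f.base ξ) ∧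
      @Algebra.trdeg (Y.residueField (f.base ξ)) (X.residueField ξ) _ _
        (f.residueFieldMap ξ).hom.toAlgebra = e ∧ FlatMor.fibreDimAt f x = (e : WithBot ℕ∞) := by
  obtain ⟨ζ, m, hζx, hζf, hζmax, hmζ, hfd⟩ := exists_maximal_in_fibre_trdeg_eq_fibreDimAt f x
  have hζy : f.base ζ = y := hζf.trans hxy
  have hζmax' : ∀ z' : X, f.base z' = y → ζ ∈ closure {z'} → z' = ζ := fun z' hz'y hmem =>
    hζmax z' (specializes_iff_mem_closure.mpr hmem) (hz'y.trans hζy.symm)
  obtain ⟨Z, hZ, hζZ, hdense, hdim⟩ := hc ζ hζy hζmax'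
  obtain ⟨ξ, e, hξζ, hfξ, htrξ, htrζ⟩ :=
    exists_generization_of_component f ζ y hζy hζmax' Z hZ hζZ hdense hdim
  have hem : e = m := by
    have : ((e : ℕ) : Cardinal.{u}) = m := by rw [← htrζ, ← hmζ]
    exact_mod_cast this
  subst hem
  exact ⟨ξ, e, hξζ.trans hζx, maximal_of_eq_genericPoint _ hfξ, htrξ, hfd⟩

/-- Let Y be an irreducible locally Noetherian scheme with generic point η, f : X ⟶ Y a morphism locally
of finite type and y a geometrically unibranch point of Y. The following are equivalent: a) f is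
universally open at every point of X_y; b) f is open at every point of X_y; c) for every maximal
point z of X_y there is an irreducible component Z of X containing z and dominating Y with dim_z(Z ∩
X_y) = dim(Z ∩ X_η); d) for every point x closed in X_y there are an irreducible reduced scheme T
and an immersion T ⟶ X with image containing x such that T ⟶ Y is quasi-finite and dominant. -/
theorem result {X Y : Scheme.{u}} [IrreducibleSpace Y]
    [IsLocallyNoetherian Y] (f : X ⟶ Y) [LocallyOfFiniteType f] (y : Y) (hy : CAlg2.IsGeomUnibranch (Y.presheaf.stalk y)) :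
    List.TFAE [∀ x : X, f.base x = y → EGA43.IsUnivOpenAt f x,
      ∀ x : X, f.base x = y → EGA43.IsOpenAt f.base x,
      ∀ z : X, ∀ hzy : f.base z = y, (∀ z' : X, f.base z' = y → z ∈ closure {z'} → z' = z) →
        ∃ Z ∈ irreducibleComponents (X : Type u), ∃ hz : z ∈ Z, Dense (f.base '' Z) ∧
          FlatMor.localDim ↥(Z ∩ f.base ⁻¹' {y}) ⟨z, ⟨hz, hzy⟩⟩ = topologicalKrullDim ↥(Z ∩ f.base ⁻¹' {genericPoint Y}),
      ∀ x : X, f.base x = y → (∀ x' : X, f.base x' = y → x ⤳ x' → x' = x) →
        ∃ (T : Scheme.{u}) (i : T ⟶ X), IsImmersion i ∧ IrreducibleSpace ↥T ∧ IsReduced T ∧ x ∈ Set.range i.base ∧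
        LocallyOfFiniteType (i ≫ f) ∧ LocallyQuasiFinite (i ≫ f) ∧ QuasiCompact (i ≫ f) ∧ IsDominant (i ≫ f)] := by
  tfae_have 1 → 2 := fun h x hx => isOpenAt_of_isUnivOpenAt f x (h x hx)
  tfae_have 2 → 3 := fun h z hzy hzmax => component_of_isOpenAt f y h z hzy hzmax
  tfae_have 3 → 1 := by
    intro hc x hxy
    obtain ⟨ξ, e, hξx, hfξmax, htrξ, hfd⟩ := data_of_c f y hc x hxy
    exact isUnivOpenAt_of_component f x (isGeomUnibranch_stalk_congr hxy.symm hy) ξ hξx hfξmax e
      htrξ hfd
  tfae_have 3 → 4 := by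
    intro hc x hxy hxcl
    obtain ⟨ξ, e, hξx, hfξmax, htrξ, hfd⟩ := data_of_c f y hc x hxy
    let W : TopologicalSpace.Closeds X := ⟨closure {ξ}, isClosed_closure⟩
    let ι := (Scheme.IdealSheafData.vanishingIdeal W).subschemeι
    have hrange : Set.range ι.base = closure {ξ} := by
      rw [Scheme.IdealSheafData.range_subschemeι, Scheme.IdealSheafData.coe_support_vanishingIdeal]
      rfl
    obtain ⟨w, hw⟩ : x ∈ Set.range ι.base := by
      rw [hrange]; exact specializes_iff_mem_closure.mp hξx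
    have hEq := isEquidimAt_component f x ξ hfξmax e htrξ hfd ι hrange w hw
    have hwcl : ∀ w' : ↥(Scheme.IdealSheafData.vanishingIdeal W).subscheme,
        (ι ≫ f).base w' = (ι ≫ f).base w → w ⤳ w' → w' = w := by
      intro w' hw'f hsp
      apply ι.isEmbedding.injective
      have h1 : ι.base w ⤳ ι.base w' := hsp.map ι.continuous
      rw [hw] at h1 ⊢
      refine hxcl _ ?_ h1
      rw [Scheme.Hom.comp_apply, Scheme.Hom.comp_apply, hw, hxy] at hw'f
      exact hw'f
    obtain ⟨T, i, hi, hTirr, hTred, ⟨t, ht⟩, hlft, hlqf, hqc, hdom⟩ :=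
      Groth.Agent.S4944.result (ι ≫ f) w hEq hwcl
    haveI := hi
    refine ⟨T, i ≫ ι, inferInstance, hTirr, hTred, ⟨t, ?_⟩, ?_, ?_, ?_, ?_⟩
    · rw [Scheme.Hom.comp_apply, ht, hw]
    · rw [Category.assoc]; exact hlft
    · rw [Category.assoc]; exact hlqf
    · rw [Category.assoc]; exact hqc
    · rw [Category.assoc]; exact hdom
  tfae_have 4 → 2 := fun hd => isOpenAt_of_quasiFinite_through_closed f y hy hd
  tfae_finish

end Groth.Agent.S4945
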