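import Groth.Statements.S4946
import Mathlib
import Groth.Agent.Lib.Helper82.CurveThrough2
import Groth.Agent.S0558
-- import your own Groth.Agent.* helpers here

set_option autoImplicit false
open CategoryTheory AlgebraicGeometry
universe u v w
open EGA43

namespace Groth.Agent.S4946

set_option linter.style.haveILetI false
open Groth.Agent.Lib.Helper82.CurveThrough2 Groth.Agent.Lib.Helper21.RedSubscheme TopologicalSpace

/-- Let Y be an irreducible locally Noetherian scheme which is regular of dimension 1 (all local rings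
regular of dimension at most 1), f : X ⟶ Y a morphism locally of finite type and y a point of Y.
Then the following are equivalent: d) every irreducible component of X meeting the fibre X_y
dominates Y; e) for every point x closed in X_y and every irreducible component X_i of X containing
x, there are an irreducible reduced scheme T and an immersion T ⟶ X with image containing x and
contained in X_i, such that T ⟶ Y is quasi-finite and dominant. -/
theorem result {X Y : Scheme.{u}} [IrreducibleSpace Y]
    [IsLocallyNoetherian Y] (hY : ∀ y : Y, IsRegularLocalRing (Y.presheaf.stalk y) ∧ ringKrullDim (Y.presheaf.stalk y) ≤ 1)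
    (f : X ⟶ Y) [LocallyOfFiniteType f] (y : Y) :
    (∀ Z ∈ irreducibleComponents (X : Type u), (Z ∩ f.base ⁻¹' {y}).Nonempty → Dense (f.base '' Z)) ↔
      ∀ x : X, f.base x = y → (∀ x' : X, f.base x' = y → x ⤳ x' → x' = x) →
        ∀ Xi ∈ irreducibleComponents (X : Type u), x ∈ Xi →
          ∃ (T : Scheme.{u}) (i : T ⟶ X), IsImmersion i ∧ IrreducibleSpace ↥T ∧ IsReduced T ∧ x ∈ Set.range i.base ∧
            Set.range i.base ⊆ Xi ∧
            LocallyOfFiniteType (i ≫ f) ∧ LocallyQuasiFinite (i ≫ f) ∧ QuasiCompact (i ≫ f) ∧ IsDominant (i ≫ f) := by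
  haveI : ∀ y : Y, _root_.IsReduced (Y.presheaf.stalk y) := fun y => by
    haveI := (hY y).1
    haveI : IsDomain (Y.presheaf.stalk y) := Groth.Agent.S0558.result _
    infer_instance
  haveI : IsReduced Y := isReduced_of_isReduced_stalk Y
  haveI : IsIntegral Y := isIntegral_of_irreducibleSpace_of_isReduced Y
  haveI : IsLocallyNoetherian X := LocallyOfFiniteType.isLocallyNoetherian f
  constructor
  · -- (d) ⟹ (e)
    intro hd x hfx hcl Xi hXi hxXi
    have hdense : Dense (f.base '' Xi) := hd Xi hXi ⟨x, hxXi, hfx⟩
    have hXicl : IsClosed Xi := isClosed_of_mem_irreducibleComponents Xi hXi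
    obtain ⟨Z, hZ⟩ : ∃ Z : Closeds X, (Z : Set X) = Xi := ⟨⟨Xi, hXicl⟩, rfl⟩
    have hZirr : IsIrreducible (Z : Set X) := hZ ▸ hXi.1
    haveI : IsIntegral (Scheme.IdealSheafData.vanishingIdeal Z).subscheme :=
      isIntegral_vanishingIdeal_subscheme Z hZirr
    obtain ⟨j, hj⟩ : ∃ j : (Scheme.IdealSheafData.vanishingIdeal Z).subscheme ⟶ X,
        j = (Scheme.IdealSheafData.vanishingIdeal Z).subschemeι := ⟨_, rfl⟩
    haveI : IsClosedImmersion j := hj ▸ inferInstance
    have hrange : Set.range j = Xi := by
      rw [hj, range_subschemeι_vanishingIdeal, hZ]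
    have hjinj : Function.Injective j := j.isEmbedding.injective
    haveI : IsLocallyNoetherian (Scheme.IdealSheafData.vanishingIdeal Z).subscheme :=
      LocallyOfFiniteType.isLocallyNoetherian j
    obtain ⟨w, hw⟩ : x ∈ Set.range j := by rw [hrange]; exact hxXi
    -- dominance
    have hdom : (j ≫ f) (genericPoint (Scheme.IdealSheafData.vanishingIdeal Z).subscheme) =
        genericPoint Y := by
      refine IsGenericPoint.eq ?_ (genericPoint_spec Y)
      show closure {_} = ⊤
      rw [Set.top_eq_univ, Set.eq_univ_iff_forall]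
      intro z
      have h1 : (j ≫ f) '' closure {genericPoint (Scheme.IdealSheafData.vanishingIdeal Z).subscheme}
          ⊆ closure {(j ≫ f) (genericPoint (Scheme.IdealSheafData.vanishingIdeal Z).subscheme)} := by
        have := image_closure_subset_closure_image
          (s := {genericPoint (Scheme.IdealSheafData.vanishingIdeal Z).subscheme})
          (j ≫ f).continuous
        rwa [Set.image_singleton] at this
      rw [(genericPoint_spec (Scheme.IdealSheafData.vanishingIdeal Z).subscheme).def,
        Set.image_univ] at h1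
      have h2 : Set.range (j ≫ f) = f.base '' Xi := by
        rw [← hrange]
        ext z
        constructor
        · rintro ⟨t, rfl⟩
          exact ⟨j t, ⟨t, rfl⟩, rfl⟩
        · rintro ⟨_, ⟨t, rfl⟩, rfl⟩
          exact ⟨t, rfl⟩
      rw [h2] at h1
      exact closure_minimal h1 isClosed_closure (hdense z)
    have hcl' : ∀ w', (j ≫ f) w' = (j ≫ f) w → w ⤳ w' → w' = w := by
      intro w' hw' hs
      apply hjinj
      rw [hw]
      apply hcl
      · have : f.base (j w') = f.base (j w) := hw'
        rw [this, hw, hfx]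
      · rw [← hw]
        exact hs.map j.continuous
    obtain ⟨T, i, hi1, hi2, hi3, hi4, hi5, hi6, hi7⟩ :=
      exists_curve_scheme (fun y => (hY y).1) (fun y => (hY y).2) (j ≫ f) hdom w hcl'
    refine ⟨T, i ≫ j, inferInstance, inferInstance, inferInstance, ?_, ?_, ?_, ?_, ?_, ?_⟩
    · obtain ⟨t, ht⟩ := hi3
      exact ⟨t, by show j (i t) = x; rw [ht, hw]⟩
    · rintro _ ⟨t, rfl⟩
      rw [← hrange]
      exact ⟨i t, rfl⟩
    · rw [Category.assoc]; exact hi4
    · rw [Category.assoc]; exact hi5
    · rw [Category.assoc]; exact hi6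
    · rw [Category.assoc]; exact hi7
  · -- (e) ⟹ (d)
    intro he Z hZ hne
    have hZcl : IsClosed Z := isClosed_of_mem_irreducibleComponents Z hZ
    obtain ⟨x, hxZ, hfx, hcl⟩ := exists_mem_closed_in_fibre f y Z hZcl hne
    obtain ⟨T, i, -, -, -, -, hsub, -, -, -, hdom⟩ := he x hfx hcl Z hZ hxZ
    have hd : DenseRange (i ≫ f) := hdom.1
    refine Dense.mono ?_ hd
    rintro _ ⟨t, rfl⟩
    exact ⟨i t, hsub ⟨t, rfl⟩, rfl⟩

end Groth.Agent.S4946
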