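import Groth.Statements.S4947
import Groth.Agent.Lib.Helper15.OrdVal4
import Groth.Agent.S0559
import Groth.Agent.S5802

set_option autoImplicit false
universe u
open EGA43

namespace Groth.Agent.S4947

open Groth.Agent.Lib.Helper15.OrdVal IsLocalRing in
theorem aux (A : Type u) [CommRing A] [IsLocalRing A] [IsNoetherianRing A] [IsDomain A] (e : ℕ)
    (x : Fin (e + 1) → A) (hx : Ideal.span (Set.range x) = maximalIdeal A)
    (hq : CAlgX.IsQuasiRegular x) :
    ∃ (V : Subalgebra A (FractionRing A)) (_ : IsDomain V) (_ : IsDiscreteValuationRing V), IsFractionRing V (FractionRing A) ∧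
      (IsLocalRing.maximalIdeal V).comap (algebraMap A V) = IsLocalRing.maximalIdeal A ∧
      ∃ (φ : IsLocalRing.ResidueField A →+* IsLocalRing.ResidueField V),
        φ.comp (IsLocalRing.residue A) = (IsLocalRing.residue V).comp (algebraMap A V) ∧
        letI := φ.toAlgebra
        ∃ (ι : Type u) (t : ι → IsLocalRing.ResidueField V), AlgebraicIndependent (IsLocalRing.ResidueField A) t ∧
          IntermediateField.adjoin (IsLocalRing.ResidueField A) (Set.range t) = ⊤ := by
  have hdvr := isDiscreteValuationRing_ordRing x hx hq (FractionRing A)
  refine ⟨ordRing x hx hq (FractionRing A), inferInstance, hdvr, inferInstance,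
    comap_maximalIdeal x hx hq (FractionRing A), phi x hx hq (FractionRing A),
    phi_comp_residue x hx hq (FractionRing A), ?_⟩
  let _ := (phi x hx hq (FractionRing A)).toAlgebra
  refine ⟨ULift.{u} (Fin e), fun j => residue _ (tau x hx hq (FractionRing A) j.down), ?_, ?_⟩
  · exact (algebraicIndependent_equiv Equiv.ulift
      (f := fun j => residue _ (tau x hx hq (FractionRing A) j))).mpr
      (algebraicIndependent_residue_tau x hx hq (FractionRing A))
  · have h := adjoin_residue_tau_eq_top x hx hq (FractionRing A)
    have hr : (Set.range fun j : ULift.{u} (Fin e) =>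
        residue _ (tau x hx hq (FractionRing A) j.down)) =
        Set.range fun j => residue _ (tau x hx hq (FractionRing A) j) := by
      ext y
      constructor
      · rintro ⟨j, rfl⟩; exact ⟨j.down, rfl⟩
      · rintro ⟨j, rfl⟩; exact ⟨⟨j⟩, rfl⟩
    rw [hr]
    exact h

/-- Let A be a regular local ring which is not a field, K its fraction field and k its residue field.
Then there is a discrete valuation ring V between A and K, with fraction field K, dominating A,
whose residue field is a purely transcendental extension of k: for some ring map from k compatible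
with A → V there is an algebraically independent family generating the residue field of V as a field
over k. -/
theorem result (A : Type u) [CommRing A] [IsRegularLocalRing A]
    (hA : ¬ IsField A) :
    ∃ (V : Subalgebra A (FractionRing A)) (_ : IsDomain V) (_ : IsDiscreteValuationRing V), IsFractionRing V (FractionRing A) ∧
      (IsLocalRing.maximalIdeal V).comap (algebraMap A V) = IsLocalRing.maximalIdeal A ∧
      ∃ (φ : IsLocalRing.ResidueField A →+* IsLocalRing.ResidueField V),
        φ.comp (IsLocalRing.residue A) = (IsLocalRing.residue V).comp (algebraMap A V) ∧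
        letI := φ.toAlgebra
        ∃ (ι : Type u) (t : ι → IsLocalRing.ResidueField V), AlgebraicIndependent (IsLocalRing.ResidueField A) t ∧
          IntermediateField.adjoin (IsLocalRing.ResidueField A) (Set.range t) = ⊤ := by
  have : IsDomain A := Groth.Agent.S0558.result A
  obtain ⟨d, x, hx, hd⟩ : ∃ (d : ℕ) (x : Fin d → A),
      Ideal.span (Set.range x) = IsLocalRing.maximalIdeal A ∧
        (IsLocalRing.maximalIdeal A).spanFinrank = d := by
    obtain ⟨s, hs1, hs2⟩ := Submodule.FG.exists_span_finset_card_eq_spanFinrank
      (IsLocalRing.maximalIdeal A).fg_of_isNoetherianRing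
    refine ⟨_, fun i => ((s.equivFinOfCardEq hs1).symm i : A), ?_, rfl⟩
    have hr : (Set.range fun i => ((s.equivFinOfCardEq hs1).symm i : A)) = (s : Set A) := by
      ext y
      constructor
      · rintro ⟨i, rfl⟩
        exact ((s.equivFinOfCardEq hs1).symm i).2
      · intro hy
        exact ⟨s.equivFinOfCardEq hs1 ⟨y, hy⟩, by simp⟩
    rw [hr]
    exact hs2
  have hreg := Groth.Agent.S0559.isRegular_aux d A hd x hx
  have hq := Groth.Agent.S5802.result A d x hreg.toIsWeaklyRegular
  cases d with
  | zero =>
    exfalso
    apply hA
    rw [IsLocalRing.isField_iff_maximalIdeal_eq, ← hx]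
    have : Set.range x = ∅ := Set.range_eq_empty x
    rw [this, Ideal.span_empty]
  | succ e => exact aux A e x hx hq

end Groth.Agent.S4947
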