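import Groth.Statements.S4951
import Mathlib.Topology.NoetherianSpace
import Mathlib.Topology.Sober
import Mathlib.Topology.GDelta.Basic
import Mathlib.Topology.Connected.Basic
import Mathlib.Topology.Inseparable
import Mathlib.Tactic
-- import your own Groth.Agent.* helpers here

set_option autoImplicit false
universe u
open EGA43

namespace Groth.Agent.S4951

open Set TopologicalSpace

theorem claimB {X : Type u} [TopologicalSpace X] [QuasiSober X]
    (hloc : ∀ x : X, ∃ U ∈ nhds x, TopologicalSpace.NoetherianSpace ↥U)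
    (E : Set X) (hE : IsOpen E) (x : X) (hx : x ∈ closure E) : ∃ η ∈ E, η ⤳ x := by
  obtain ⟨V, hV, hVn⟩ := hloc x
  set W := E ∩ interior V with hW
  have hWo : IsOpen W := hE.inter isOpen_interior
  have hWV : W ⊆ V := inter_subset_right.trans interior_subset
  have hWn : NoetherianSpace ↥W := NoetherianSpace.of_subset hWV
  have hWq : QuasiSober ↥W := hWo.isOpenEmbedding_subtypeVal.quasiSober
  have hxW : x ∈ closure W := by
    rw [mem_closure_iff]
    intro o ho hxo
    have hxV : x ∈ interior V := mem_interior_iff_mem_nhds.2 hV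
    obtain ⟨y, hy1, hy2⟩ := mem_closure_iff.1 hx (o ∩ interior V) (ho.inter isOpen_interior)
      ⟨hxo, hxV⟩
    exact ⟨y, hy1.1, hy2, hy1.2⟩
  obtain ⟨S, hSf, hSc, hSi, hSU⟩ := NoetherianSpace.exists_finite_set_isClosed_irreducible
    (isClosed_univ : IsClosed (Set.univ : Set ↥W))
  have hWU : W = ⋃ t ∈ S, Subtype.val '' t := by
    ext y
    constructor
    · intro hy
      have : (⟨y, hy⟩ : ↥W) ∈ ⋃₀ S := by rw [← hSU]; trivial
      obtain ⟨t, ht, hyt⟩ := this
      exact mem_iUnion₂.2 ⟨t, ht, ⟨⟨y, hy⟩, hyt, rfl⟩⟩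
    · intro hy
      obtain ⟨t, ht, ⟨z, hz, rfl⟩⟩ := mem_iUnion₂.1 hy
      exact z.2
  rw [hWU, hSf.closure_biUnion] at hxW
  obtain ⟨t, ht, hxt⟩ := mem_iUnion₂.1 hxW
  obtain ⟨η, hη⟩ := QuasiSober.sober (hSi t ht) (hSc t ht)
  refine ⟨η.1, η.2.1, ?_⟩
  rw [specializes_iff_mem_closure]
  have hsub : Subtype.val '' t ⊆ closure {η.1} := by
    rw [← hη.def]
    refine (image_closure_subset_closure_image continuous_subtype_val).trans ?_
    simp
  exact closure_minimal hsub isClosed_closure hxt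

theorem claimA {X : Type u} [TopologicalSpace X] [QuasiSober X] [T0Space X]
    (W : Set X) (hW : IsClosed W) (hne : W.Nonempty) :
    ∃ x ∈ W, ∀ x' ∈ W, x' ⤳ x → x' = x := by
  obtain ⟨w₀, hw₀⟩ := hne
  have hq : QuasiSober ↥W := hW.isClosedEmbedding_subtypeVal.quasiSober
  obtain ⟨ξ, hξ⟩ := QuasiSober.sober
    (isIrreducible_irreducibleComponent (x := (⟨w₀, hw₀⟩ : ↥W)))
    (isClosed_irreducibleComponent)
  refine ⟨ξ.1, ξ.2, fun x' hx' hsp => ?_⟩
  have hsp' : (⟨x', hx'⟩ : ↥W) ⤳ ξ := (subtype_specializes_iff _ _).2 hsp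
  have hsub : irreducibleComponent (⟨w₀, hw₀⟩ : ↥W) ⊆ closure {(⟨x', hx'⟩ : ↥W)} := by
    rw [← hξ.def]
    exact closure_minimal (singleton_subset_iff.2 hsp'.mem_closure) isClosed_closure
  have hmax := (irreducibleComponent_property (⟨w₀, hw₀⟩ : ↥W)).2.2
    (closure {(⟨x', hx'⟩ : ↥W)}) (isIrreducible_singleton.closure.isPreirreducible) hsub
  have hcl : closure {(⟨x', hx'⟩ : ↥W)} = closure {ξ} := by rw [hmax, hξ.def]
  have hins : Inseparable (⟨x', hx'⟩ : ↥W) ξ := inseparable_iff_closure_eq.2 hcl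
  exact congrArg Subtype.val hins.eq

/-- Let X be a locally Noetherian topological space in which every irreducible closed subset has a
unique generic point (X quasi-sober and T₀), and Z a closed nowhere dense subset of X such that for
every point x of Z the set of generizations of x distinct from x is connected (possibly empty). If X
is connected, then X − Z is connected. (Uniqueness of generic points, automatic for the underlying
space of a scheme, is needed: in the four-point space {u, v, z₁, z₂} whose open sets are ∅, {u},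
{v}, {u, v} and the whole space, the closed nowhere dense set Z = {z₁, z₂} satisfies the hypothesis,
since z₂ is a generization of z₁ and conversely, yet X − Z = {u, v} is not connected.) -/
theorem result {X : Type u} [TopologicalSpace X]
    [QuasiSober X] [T0Space X] (hloc : ∀ x : X, ∃ U ∈ nhds x, TopologicalSpace.NoetherianSpace ↥U) [ConnectedSpace X]
    (Z : Set X) (hZ : IsClosed Z) (hZn : IsNowhereDense Z)
    (hgen : ∀ x ∈ Z, IsPreconnected ({x' : X | x' ⤳ x} \ {x})) :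
    IsConnected Zᶜ := by
  have hUo : IsOpen Zᶜ := hZ.isOpen_compl
  have hUd : Dense Zᶜ := (isClosed_isNowhereDense_iff_compl.1 ⟨hZ, hZn⟩).2
  refine ⟨hUd.nonempty, ?_⟩
  intro u v hu hv hsub hnu hnv
  by_contra hcon
  have hdisj : Zᶜ ∩ (u ∩ v) = ∅ := Set.not_nonempty_iff_eq_empty.1 hcon
  set U₁ := Zᶜ ∩ u with hU₁
  set U₂ := Zᶜ ∩ v with hU₂
  have hU₁o : IsOpen U₁ := hUo.inter hu
  have hU₂o : IsOpen U₂ := hUo.inter hv
  have hU12 : U₁ ∩ U₂ = ∅ := by
    rw [← hdisj]
    ext y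
    simp only [hU₁, hU₂, mem_inter_iff]
    tauto
  have hUU : Zᶜ = U₁ ∪ U₂ := by
    ext y
    constructor
    · intro hy
      rcases hsub hy with h | h
      · exact Or.inl ⟨hy, h⟩
      · exact Or.inr ⟨hy, h⟩
    · rintro (h | h) <;> exact h.1
  have hcov : closure U₁ ∪ closure U₂ = univ := by
    rw [← closure_union, ← hUU]
    exact hUd.closure_eq
  -- a point in both closures
  have hX : IsPreconnected (univ : Set X) := isPreconnected_univ
  obtain ⟨x₀, -, hx₀⟩ := isPreconnected_closed_iff.1 hX (closure U₁) (closure U₂)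
    isClosed_closure isClosed_closure (by rw [hcov])
    (by
      obtain ⟨y, hy⟩ := hnu
      exact ⟨y, trivial, subset_closure hy⟩)
    (by
      obtain ⟨y, hy⟩ := hnv
      exact ⟨y, trivial, subset_closure hy⟩)
  obtain ⟨x, hxW, hxmax⟩ := claimA (closure U₁ ∩ closure U₂)
    (isClosed_closure.inter isClosed_closure) ⟨x₀, hx₀⟩
  -- x ∈ Z
  have hxZ : x ∈ Z := by
    by_contra hxZ
    have hxU : x ∈ Zᶜ := hxZ
    rw [hUU] at hxU
    rcases hxU with h | h
    · obtain ⟨y, hy1, hy2⟩ := mem_closure_iff.1 hxW.2 U₁ hU₁o h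
      have : y ∈ U₁ ∩ U₂ := ⟨hy1, hy2⟩
      rw [hU12] at this
      exact this
    · obtain ⟨y, hy1, hy2⟩ := mem_closure_iff.1 hxW.1 U₂ hU₂o h
      have : y ∈ U₁ ∩ U₂ := ⟨hy2, hy1⟩
      rw [hU12] at this
      exact this
  have hG := hgen x hxZ
  obtain ⟨η₁, hη₁U, hη₁⟩ := claimB hloc U₁ hU₁o x hxW.1
  obtain ⟨η₂, hη₂U, hη₂⟩ := claimB hloc U₂ hU₂o x hxW.2
  have hη₁x : η₁ ≠ x := fun h => hη₁U.1 (h ▸ hxZ)
  have hη₂x : η₂ ≠ x := fun h => hη₂U.1 (h ▸ hxZ)
  have hη₁F : η₁ ∈ (closure U₂)ᶜ := by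
    intro hmem
    obtain ⟨y, hy1, hy2⟩ := mem_closure_iff.1 hmem U₁ hU₁o hη₁U
    have : y ∈ U₁ ∩ U₂ := ⟨hy1, hy2⟩
    rw [hU12] at this
    exact this
  have hη₂F : η₂ ∈ (closure U₁)ᶜ := by
    intro hmem
    obtain ⟨y, hy1, hy2⟩ := mem_closure_iff.1 hmem U₂ hU₂o hη₂U
    have : y ∈ U₁ ∩ U₂ := ⟨hy2, hy1⟩
    rw [hU12] at this
    exact this
  have hGsub : ({x' : X | x' ⤳ x} \ {x}) ⊆ (closure U₂)ᶜ ∪ (closure U₁)ᶜ := by
    rintro x' ⟨hx'1, hx'2⟩
    by_contra hnot
    simp only [mem_union, mem_compl_iff, not_or, not_not] at hnot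
    exact hx'2 (hxmax x' ⟨hnot.2, hnot.1⟩ hx'1)
  obtain ⟨z, -, hz1, hz2⟩ := hG (closure U₂)ᶜ (closure U₁)ᶜ isClosed_closure.isOpen_compl
    isClosed_closure.isOpen_compl hGsub ⟨η₁, ⟨hη₁, hη₁x⟩, hη₁F⟩ ⟨η₂, ⟨hη₂, hη₂x⟩, hη₂F⟩
  have : z ∈ closure U₁ ∪ closure U₂ := by rw [hcov]; trivial
  rcases this with h | h
  · exact hz2 h
  · exact hz1 h

end Groth.Agent.S4951
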