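import Groth.Statements.S4958
import Groth.Agent.Lib.Helper73.FibreComponents
import Groth.Agent.S9682
-- import your own Groth.Agent.* helpers here

set_option autoImplicit false
open CategoryTheory AlgebraicGeometry
universe u v w
open EGA43

namespace Groth.Agent.S4958
open Groth.Agent.Lib.Helper73.SchemeDim Groth.Agent.Lib.Helper73.RelHt

/-- Let Y be an irreducible locally Noetherian scheme with generic point η, f : X ⟶ Y a morphism of
finite type and y a point of Y whose local ring O_{Y,y} is universally catenary. Suppose that dim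
O_{X,z} = dim O_{Y,y} for every maximal point z of the fibre X_y. For z' in Y let E(z') be the set
of dimensions of the irreducible components of X_{z'}. Then E(y) ⊆ E(η), and hence dim X_y ≤ dim
X_η. -/
theorem result {X Y : Scheme.{u}} [IrreducibleSpace Y]
    [IsLocallyNoetherian Y] (f : X ⟶ Y) [LocallyOfFiniteType f] [QuasiCompact f] (y : Y)
    (hcat : CAlg.IsUniversallyCatenary (Y.presheaf.stalk y))
    (hb : ∀ z : X, f.base z = y → (∀ z' : X, f.base z' = y → z ∈ closure {z'} → z' = z) →
      ringKrullDim (X.presheaf.stalk z) = ringKrullDim (Y.presheaf.stalk y)) :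
    letI E : Y → Set (WithBot ℕ∞) := fun z =>
      (fun Z : Set ↥(f.fiber z) => topologicalKrullDim ↥Z) '' irreducibleComponents ↥(f.fiber z)
    E y ⊆ E (genericPoint Y) ∧
      topologicalKrullDim ↥(f.fiber y) ≤ topologicalKrullDim ↥(f.fiber (genericPoint Y)) := by
  have : IsLocallyNoetherian X := LocallyOfFiniteType.isLocallyNoetherian f
  -- the key: a maximal point of the fibre over `y` has a maximal generalization over the generic
  -- point with the same residue transcendence degree
  have hgen : ∀ z : X, f.base z = y → (∀ z' : X, f.base z' = y → z' ⤳ z → z' = z) →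
      ∀ nz : ℕ, (letI := (f.residueFieldMap z).hom.toAlgebra
        Algebra.trdeg (Y.residueField (f.base z)) (X.residueField z) = nz) →
      ∃ ξ' : f.fiber (genericPoint Y), f.fiberι _ ξ' ⤳ z ∧
        (∀ x' : X, x' ⤳ f.fiberι _ ξ' → x' = f.fiberι _ ξ') ∧
        (letI := (f.residueFieldMap (f.fiberι _ ξ')).hom.toAlgebra
        Algebra.trdeg (Y.residueField (f.base (f.fiberι _ ξ'))) (X.residueField (f.fiberι _ ξ')) = nz) := by
    intro z hz hmax nz hnz
    subst hz
    have hdfin : Order.coheight z < ⊤ := by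
      have h1 : ringKrullDim (X.presheaf.stalk z) < ⊤ := ringKrullDim_lt_top
      rw [ringKrullDim_stalk_eq_coheight, ← WithBot.coe_top] at h1
      exact WithBot.coe_lt_coe.mp h1
    have hbz := hb z rfl (fun z' h1 h2 => hmax z' h1 (specializes_iff_mem_closure.mpr h2))
    rw [ringKrullDim_stalk_eq_coheight, ringKrullDim_stalk_eq_coheight] at hbz
    have hbz' : Order.coheight z = Order.coheight (f.base z) := WithBot.coe_injective hbz
    obtain ⟨ξ, hzξ, hξ⟩ := exists_relHt_eq_coheight z hdfin
    obtain ⟨D, hD⟩ := ENat.ne_top_iff_exists.mp hdfin.ne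
    have hkey := relHt_le_relHt_base_of_maximal f hzξ (fun w' _ h2 h3 => hmax w' h3 h2)
    have hup : relHt (f.base z) (f.base ξ) ≤ Order.coheight (f.base z) := relHt_le_coheight _ _
    have hrel : relHt (f.base z) (f.base ξ) = (D : ℕ∞) := by
      apply le_antisymm
      · rw [hD, hbz']; exact hup
      · rw [hD, ← hξ]; exact hkey
    have hfξ : f.base ξ = genericPoint Y := by
      by_contra hne
      have hη : genericPoint Y ⤳ f.base ξ := genericPoint_specializes _
      have hlt : f.base ξ < genericPoint Y := by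
        rw [lt_iff_le_not_ge]
        exact ⟨hη, fun h => hne (anti Y _ _ hη h)⟩
      have h1 := relHt_add_one_le (anti Y) (show f.base z ≤ f.base ξ from hzξ.map f.continuous) hlt
        (by rw [hrel]; exact ENat.natCast_lt_top D)
      have h2 : relHt (f.base z) (genericPoint Y) ≤ (D : ℕ∞) := by
        rw [hD, hbz']; exact relHt_le_coheight _ _
      rw [hrel] at h1
      have h3 := le_trans h1 h2
      have : D + 1 ≤ D := by exact_mod_cast h3
      omega
    obtain ⟨nξ, hnξ⟩ := exists_trdeg_residueField_eq_nat f ξ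
    have hform := (relHt_add_trdeg_aux f hzξ nξ nz hnξ hnz).2 hcat
    rw [hrel, hξ, ← hD] at hform
    have hnum : D + nz = D + nξ := by exact_mod_cast hform
    have hnum' : nξ = nz := by omega
    rw [hnum'] at hnξ
    have hξmax : ∀ x' : X, x' ⤳ ξ → x' = ξ := by
      intro x' hx'
      by_contra hne
      have hlt : ξ < x' := by
        rw [lt_iff_le_not_ge]
        exact ⟨hx', fun h => hne (anti X _ _ h hx')⟩
      have h1 := relHt_add_one_le (anti X) (show z ≤ ξ from hzξ) hlt
        (by rw [hξ, ← hD]; exact ENat.natCast_lt_top D)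
      have h2 : relHt z x' ≤ (D : ℕ∞) := by rw [hD]; exact relHt_le_coheight _ _
      rw [hξ, ← hD] at h1
      have h3 := le_trans h1 h2
      have : D + 1 ≤ D := by exact_mod_cast h3
      omega
    obtain ⟨ξ', rfl⟩ : ∃ ξ' : f.fiber (genericPoint Y), f.fiberι _ ξ' = ξ :=
      ⟨(f.fiberHomeo _).symm ⟨ξ, hfξ⟩, f.fiberι_fiberHomeo_symm _ ⟨ξ, hfξ⟩⟩
    exact ⟨ξ', hzξ, hξmax, hnξ⟩
  -- generic points of components of the fibre are maximal points of the fibre
  have hmaxpt : ∀ z' : f.fiber y, closure {z'} ∈ irreducibleComponents ↥(f.fiber y) →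
      ∀ z₁ : X, f.base z₁ = y → z₁ ⤳ f.fiberι y z' → z₁ = f.fiberι y z' := by
    intro z' hz' z₁ h1 h2
    have hι : f.fiberι y ((f.fiberHomeo y).symm ⟨z₁, h1⟩) = z₁ :=
      f.fiberι_fiberHomeo_symm y ⟨z₁, h1⟩
    have h3 : (f.fiberHomeo y).symm ⟨z₁, h1⟩ ⤳ z' := by
      rw [← (f.fiberι y).isEmbedding.isInducing.specializes_iff, hι]
      exact h2
    have h4 := (Groth.Agent.S9682.closure_singleton_mem_irreducibleComponents_iff z').mp hz' _ h3
    rw [← hι, h4]
  constructor
  · rintro _ ⟨Z, hZ, rfl⟩
    obtain ⟨z', hz'⟩ := QuasiSober.sober hZ.1 (isClosed_of_mem_irreducibleComponents Z hZ)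
    have hZeq : closure {z'} = Z := hz'.def
    have hcomp : closure {z'} ∈ irreducibleComponents ↥(f.fiber y) := by rw [hZeq]; exact hZ
    obtain ⟨nz, hnz⟩ := exists_trdeg_residueField_eq_nat f (f.fiberι y z')
    obtain ⟨ξ', -, hξmax, hnξ⟩ := hgen (f.fiberι y z') (base_fiberι f y z') (hmaxpt z' hcomp) nz hnz
    refine ⟨closure {ξ'}, ?_, ?_⟩
    · rw [Groth.Agent.S9682.closure_singleton_mem_irreducibleComponents_iff]
      intro x' hx'
      apply (f.fiberι _).isEmbedding.injective
      exact hξmax _ (hx'.map (f.fiberι _).continuous)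
    · change topologicalKrullDim ↥(closure {ξ'}) = topologicalKrullDim ↥Z
      rw [← hZeq, topologicalKrullDim_closure_singleton_fiber f _ ξ' nz hnξ,
        topologicalKrullDim_closure_singleton_fiber f y z' nz hnz]
  · refine topologicalKrullDim_fiber_le f y _ (fun c hc => ?_)
    set z₀' := (f.fiberHomeo y).symm ⟨c.last, hc _⟩ with hz₀'
    have hι : f.fiberι y z₀' = c.last := f.fiberι_fiberHomeo_symm y ⟨c.last, hc _⟩
    obtain ⟨z', hz'⟩ := QuasiSober.sober (isIrreducible_irreducibleComponent (x := z₀'))
      isClosed_irreducibleComponent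
    have hcomp : closure {z'} ∈ irreducibleComponents ↥(f.fiber y) := by
      rw [hz'.def]; exact irreducibleComponent_mem_irreducibleComponents z₀'
    have hsp : z' ⤳ z₀' := by
      rw [specializes_iff_mem_closure, hz'.def]; exact mem_irreducibleComponent
    obtain ⟨nz, hnz⟩ := exists_trdeg_residueField_eq_nat f (f.fiberι y z')
    obtain ⟨ξ', -, -, hnξ⟩ := hgen (f.fiberι y z') (base_fiberι f y z') (hmaxpt z' hcomp) nz hnz
    have h1 : c.length ≤ nz := by
      refine length_le_trdeg_of_fibre f c (f.fiberι y z') ?_ ?_ nz hnz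
      · change f.fiberι y z' ⤳ c.last
        rw [← hι]
        exact hsp.map (f.fiberι y).continuous
      · rw [base_fiberι]; exact hc 0
    have h2 := trdeg_le_topologicalKrullDim_fiber f (f.fiberι _ ξ') nz hnξ
    rw [base_fiberι] at h2
    refine le_trans ?_ h2
    exact_mod_cast h1

end Groth.Agent.S4958
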