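import Groth.Statements.S4959
import Mathlib.AlgebraicGeometry.Morphisms.Flat
import Mathlib.AlgebraicGeometry.Morphisms.Proper
import Mathlib.AlgebraicGeometry.Morphisms.UnderlyingMap
-- import your own Groth.Agent.* helpers here

set_option autoImplicit false
open CategoryTheory AlgebraicGeometry
universe u v w
open EGA43

namespace Groth.Agent.S4959

open CategoryTheory.Limits in
/-- Let f : X ⟶ Y be a morphism of schemes and g : Y' ⟶ Y a surjective morphism which is either proper,
or flat and quasi-compact. If the base change f' : X ×_Y Y' ⟶ Y' is universally submersive (all of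
its base changes are topological quotient maps), then f is universally submersive. -/
theorem result {X Y Y' : Scheme.{u}} (f : X ⟶ Y) (g : Y' ⟶ Y) [Surjective g]
    (hg : IsProper g ∨ (Flat g ∧ QuasiCompact g))
    (h : MorphismProperty.universally (topologically @Topology.IsQuotientMap) (pullback.snd f g)) :
    MorphismProperty.universally (topologically @Topology.IsQuotientMap) f := by
  intro XT T i₁ i₂ fT hsq
  -- T' = T ×_Y Y'
  let p : pullback i₂ g ⟶ T := pullback.fst i₂ g
  let q : pullback i₂ g ⟶ Y' := pullback.snd i₂ g
  let a : pullback fT p ⟶ XT := pullback.fst fT p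
  let b : pullback fT p ⟶ pullback i₂ g := pullback.snd fT p
  have hw : (a ≫ i₁) ≫ f = (b ≫ q) ≫ g := by
    rw [Category.assoc, ← hsq.w, ← Category.assoc, pullback.condition, Category.assoc,
      pullback.condition, Category.assoc]
  let c : pullback fT p ⟶ pullback f g := pullback.lift (a ≫ i₁) (b ≫ q) hw
  have hc1 : c ≫ pullback.fst f g = a ≫ i₁ := pullback.lift_fst _ _ _
  have hc2 : c ≫ pullback.snd f g = b ≫ q := pullback.lift_snd _ _ _
  have sq1 : IsPullback b a p fT := (IsPullback.of_hasPullback fT p).flip
  have big : IsPullback b (a ≫ i₁) (p ≫ i₂) f := sq1.paste_vert hsq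
  have hpq : p ≫ i₂ = q ≫ g := pullback.condition
  rw [hpq, ← hc1] at big
  have sq3 : IsPullback (pullback.snd f g) (pullback.fst f g) g f :=
    (IsPullback.of_hasPullback f g).flip
  have top : IsPullback b c q (pullback.snd f g) := IsPullback.of_bot big hc2.symm sq3
  have hb : Topology.IsQuotientMap b.base := h c q b top
  -- p is a quotient map
  have hp : Topology.IsQuotientMap p.base := by
    have hsurj : Function.Surjective p.base := (inferInstance : Surjective p).surj
    rcases hg with hg | ⟨hg1, hg2⟩
    · have : IsProper p := inferInstance
      exact IsClosedMap.isQuotientMap p.isClosedMap p.continuous hsurj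
    · have : Flat p := inferInstance
      have : QuasiCompact p := inferInstance
      exact Flat.isQuotientMap_of_surjective p
  have hcomp : Topology.IsQuotientMap (fT.base ∘ a.base) := by
    have : fT.base ∘ a.base = p.base ∘ b.base := by
      have e : a ≫ fT = b ≫ p := pullback.condition
      ext x
      have := congrArg (fun φ => φ.base x) e
      simpa using this
    rw [this]
    exact hp.comp hb
  exact Topology.IsQuotientMap.of_comp a.continuous fT.continuous hcomp

end Groth.Agent.S4959
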