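import Groth.Statements.S4965
import Mathlib
import Groth.Agent.S4969
import Groth.Agent.Lib.Helper11.LimFibreDim
import Groth.Agent.Lib.Helper73.ConstructibleNhds
import Groth.Agent.Lib.Helper21.FibreTd
import Groth.Agent.Lib.Helper96.UnivOpenAt
-- import your own Groth.Agent.* helpers here

set_option autoImplicit false
set_option linter.style.haveILetI false
set_option linter.unusedSectionVars false
set_option linter.unusedVariables false
open CategoryTheory AlgebraicGeometry
universe u v w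
open EGA43

namespace Groth.Agent.S4965

open CategoryTheory AlgebraicGeometry Topology
open Groth.Agent.Lib.Helper21.FieldDim Groth.Agent.Lib.Helper21.FibreClosureDim
open Groth.Agent.Lib.Helper21 Groth.Agent.Lib.Helper21.ValTrdeg
open CategoryTheory.Limits
open Groth.Agent.Lib.QCoh

section Helpers

variable {X Y : Scheme.{u}} (f : X ⟶ Y) [LocallyOfFiniteType f]

/-- irreducible components of a fibre-type space of given dimension correspond to maximal points
of given residue transcendence degree. -/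
theorem exists_irreducibleComponent_dim_iff {T : Type*} [TopologicalSpace T] [QuasiSober T]
    (j : T → X) (hj : IsEmbedding j) (y : Y) (C : Set X) (hC : IsClosed C)
    (hr : Set.range j = f ⁻¹' {y} ∩ C) (n : ℕ) :
    (∃ Zc ∈ irreducibleComponents T, topologicalKrullDim ↥Zc = (n : WithBot ℕ∞)) ↔
      ∃ x ∈ f ⁻¹' {y} ∩ C, (∀ x' ∈ f ⁻¹' {y} ∩ C, x' ⤳ x → x ⤳ x') ∧ tdR f x = n := by
  have hind := hj.isInducing
  -- dimension of the closure of a point
  have hdim : ∀ t₀ : T, topologicalKrullDim ↥(closure ({t₀} : Set T)) =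
      ((tdR f (j t₀) : ℕ) : WithBot ℕ∞) := by
    intro t₀
    have e := hj.homeomorphImage (closure ({t₀} : Set T))
    rw [e.isHomeomorph.topologicalKrullDim_eq]
    have hjt : j t₀ ∈ f ⁻¹' {y} ∩ C := by rw [← hr]; exact ⟨t₀, rfl⟩
    have hgen : ∀ x ∈ j '' closure ({t₀} : Set T), j t₀ ⤳ x := by
      rintro _ ⟨t, ht, rfl⟩
      rw [hind.specializes_iff]
      exact specializes_iff_mem_closure.mpr ht
    have hcl : f ⁻¹' {y} ∩ closure (j '' closure ({t₀} : Set T)) = j '' closure ({t₀} : Set T) := by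
      apply Set.Subset.antisymm
      · rintro x ⟨hxy, hx⟩
        have h1 : closure (j '' closure ({t₀} : Set T)) ⊆ closure ({j t₀} : Set X) := by
          apply closure_minimal _ isClosed_closure
          intro x' hx'
          exact specializes_iff_mem_closure.mp (hgen x' hx')
        have h2 : j t₀ ⤳ x := specializes_iff_mem_closure.mpr (h1 hx)
        have h3 : x ∈ C := h2.mem_closed hC hjt.2
        have h4 : x ∈ Set.range j := by rw [hr]; exact ⟨hxy, h3⟩
        obtain ⟨t, rfl⟩ := h4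
        refine ⟨t, ?_, rfl⟩
        rw [hind.specializes_iff] at h2
        exact specializes_iff_mem_closure.mp h2
      · rintro _ ⟨t, ht, rfl⟩
        refine ⟨?_, subset_closure ⟨t, ht, rfl⟩⟩
        have : j t ∈ f ⁻¹' {y} ∩ C := by rw [← hr]; exact ⟨t, rfl⟩
        exact this.1
    exact Groth.Agent.S4952.dim_eq_tdR f y _ hcl (j t₀) ⟨t₀, subset_closure rfl, rfl⟩ hgen
  constructor
  · rintro ⟨Zc, hZc, hd⟩
    have hZcl : IsClosed Zc := isClosed_of_mem_irreducibleComponents Zc hZc
    have hZirr : IsIrreducible Zc := hZc.1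
    obtain ⟨t₀, ht₀⟩ := QuasiSober.sober hZirr hZcl
    have hZeq : closure ({t₀} : Set T) = Zc := ht₀.def
    refine ⟨j t₀, by rw [← hr]; exact ⟨t₀, rfl⟩, ?_, ?_⟩
    · intro x' hx' hsp
      rw [← hr] at hx'
      obtain ⟨t', rfl⟩ := hx'
      rw [hind.specializes_iff] at hsp ⊢
      have h1 : Zc ⊆ closure ({t'} : Set T) := by
        rw [← hZeq]
        apply closure_minimal _ isClosed_closure
        rw [Set.singleton_subset_iff]
        exact specializes_iff_mem_closure.mp hsp
      have h2 : closure ({t'} : Set T) ⊆ Zc :=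
        hZc.2 (isIrreducible_singleton.closure) h1
      have h3 : t' ∈ Zc := h2 (subset_closure rfl)
      rw [← hZeq] at h3
      exact specializes_iff_mem_closure.mpr h3
    · have := hdim t₀
      rw [hZeq, hd] at this
      exact_mod_cast this.symm
  · rintro ⟨x, hx, hmax, htd⟩
    rw [← hr] at hx
    obtain ⟨t₀, rfl⟩ := hx
    refine ⟨closure ({t₀} : Set T), ⟨isIrreducible_singleton.closure, ?_⟩, ?_⟩
    · intro W hW hle
      obtain ⟨w, hw⟩ := QuasiSober.sober hW.closure isClosed_closure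
      have hwdef : closure ({w} : Set T) = closure W := hw.def
      have h1 : t₀ ∈ closure ({w} : Set T) := by
        rw [hwdef]; exact subset_closure (hle (subset_closure rfl))
      have h2 : w ⤳ t₀ := specializes_iff_mem_closure.mpr h1
      have h3 : j w ⤳ j t₀ := by rw [hind.specializes_iff]; exact h2
      have h4 : j t₀ ⤳ j w := hmax (j w) (by rw [← hr]; exact ⟨w, rfl⟩) h3
      rw [hind.specializes_iff] at h4
      have h5 : closure ({w} : Set T) ⊆ closure ({t₀} : Set T) := by
        apply closure_minimal _ isClosed_closure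
        rw [Set.singleton_subset_iff]
        exact specializes_iff_mem_closure.mp h4
      exact (subset_closure.trans (hwdef ▸ h5 : closure W ⊆ closure ({t₀} : Set T)))
    · rw [hdim t₀, htd]

/-- maximal points of the fibre of a closed subset of given transcendence degree vs. points of
given local fibre dimension of a closed subscheme. -/
theorem exists_maximal_iff_exists_fibreDimAt {Z : Scheme.{u}} (ι : Z ⟶ X) [IsClosedImmersion ι]
    [LocallyOfFiniteType (ι ≫ f)] (y : Y) (n : ℕ) :
    (∃ x ∈ f ⁻¹' {y} ∩ Set.range ι, (∀ x' ∈ f ⁻¹' {y} ∩ Set.range ι, x' ⤳ x → x ⤳ x') ∧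
        tdR f x = n) ↔
      ∃ z : Z, (ι ≫ f) z = y ∧ FlatMor.fibreDimAt (ι ≫ f) z = (n : WithBot ℕ∞) := by
  have hind := ι.isEmbedding.isInducing
  constructor
  · rintro ⟨x, ⟨hxy, ⟨z, rfl⟩⟩, hmax, htd⟩
    have hgz : (ι ≫ f) z = y := hxy
    refine ⟨z, hgz, le_antisymm ?_ ?_⟩
    · rw [fibreDimAt_le_iff]
      intro ξ hξ hfξ
      have h1 : ι ξ ⤳ ι z := hξ.map ι.continuous
      have h2 : ι ξ ∈ f ⁻¹' {y} ∩ Set.range ι := ⟨by
        change f (ι ξ) = y
        rw [← Scheme.Hom.comp_apply, hfξ, hgz], ξ, rfl⟩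
      have h3 : ι z ⤳ ι ξ := hmax _ h2 h1
      rw [hind.specializes_iff] at h3
      have h4 : ξ = z := (hξ.antisymm h3).eq
      rw [h4, Groth.Agent.S4952.tdR_comp_closedImmersion, htd]
    · have := tdR_le_fibreDimAt (ι ≫ f) z
      rw [Groth.Agent.S4952.tdR_comp_closedImmersion, htd] at this
      exact this
  · rintro ⟨z, hgz, hn⟩
    obtain ⟨ζ, m, hζz, hfib, htd, hF⟩ :=
      Groth.Agent.Lib.Helper73.SchemeDim.exists_specializes_trdeg_eq_fibreDimAt (ι ≫ f) z
    have hmζ : tdR (ι ≫ f) ζ = m := tdR_eq_of_trdegAt_eq (ι ≫ f) htd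
    have hmn : m = n := by
      have : ((m : ℕ) : WithBot ℕ∞) = ((n : ℕ) : WithBot ℕ∞) := by rw [← hF, hn]
      exact_mod_cast this
    subst hmn
    have hgζ : (ι ≫ f) ζ = y := hfib.trans hgz
    refine ⟨ι ζ, ⟨hgζ, ζ, rfl⟩, ?_, ?_⟩
    · rintro x' ⟨hx'y, ⟨ζ', rfl⟩⟩ hsp
      rw [hind.specializes_iff] at hsp
      have hgζ' : (ι ≫ f) ζ' = y := hx'y
      have : ζ' = ζ := by
        by_contra hne
        have h1 := tdR_lt_of_specializes (ι ≫ f) hsp hne (hgζ'.trans hgζ.symm)
        have h2 : ((tdR (ι ≫ f) ζ' : ℕ) : WithBot ℕ∞) ≤ FlatMor.fibreDimAt (ι ≫ f) z :=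
          (fibreDimAt_le_iff (ι ≫ f) z _).mp le_rfl ζ' (hsp.trans hζz) (hgζ'.trans hgz.symm)
        rw [hF] at h2
        have h3 : tdR (ι ≫ f) ζ' ≤ m := by exact_mod_cast h2
        omega
      rw [this]
    · rw [← Groth.Agent.S4952.tdR_comp_closedImmersion, hmζ]

/-- generization step over a valuation ring. -/
theorem exists_fibreDimAt_eq_of_specializes (F : X.Modules) [F.IsQuasicoherent] [F.IsFiniteType]
    (hfl : FlatMod.IsFlatOver f F) {Z : Scheme.{u}} (ι : Z ⟶ X) [IsClosedImmersion ι]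
    (hrange : Set.range ι = CohB1.support F) [LocallyOfFiniteType (ι ≫ f)] {y' y : Y}
    (hs : y' ⤳ y) (z : Z) (hz : (ι ≫ f) z = y) (n : ℕ)
    (hn : FlatMor.fibreDimAt (ι ≫ f) z = (n : WithBot ℕ∞)) :
    ∃ z' : Z, (ι ≫ f) z' = y' ∧ FlatMor.fibreDimAt (ι ≫ f) z' = (n : WithBot ℕ∞) := by
  obtain ⟨R, _, _, _, φ, hφm, hφη⟩ :=
    Groth.Agent.Lib.Helper21.OpenGeneralizing.exists_valuationRing_of_specializes hs
  set m : Spec (CommRingCat.of R) := IsLocalRing.closedPoint R with hm
  -- the base change of the closed subscheme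
  have hsq : IsPullback (pullback.fst ι (pullback.fst f φ))
      (pullback.snd ι (pullback.fst f φ) ≫ pullback.snd f φ) (ι ≫ f) φ :=
    ((IsPullback.of_hasPullback ι (pullback.fst f φ)).flip.paste_horiz
      (IsPullback.of_hasPullback f φ).flip).flip
  haveI : LocallyOfFiniteType (pullback.snd ι (pullback.fst f φ) ≫ pullback.snd f φ) :=
    MorphismProperty.of_isPullback hsq inferInstance
  have hfd := fun q => Groth.Agent.Lib.Helper11.LimFibreDim.fibreDimAt_of_isPullback hsq q
  obtain ⟨q, hq1, hq2⟩ := Groth.Agent.Lib.Helper96.UnivOpenAt.exists_preimage_of_isPullback hsq z m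
    (hz.trans hφm.symm)
  have hq3 := hfd q
  rw [hq1, hn] at hq3
  obtain ⟨c₀, k, hc₀q, hc₀f, hc₀td, hc₀F⟩ :=
    Groth.Agent.Lib.Helper73.SchemeDim.exists_specializes_trdeg_eq_fibreDimAt
      (pullback.snd ι (pullback.fst f φ) ≫ pullback.snd f φ) q
  have hkc : tdR (pullback.snd ι (pullback.fst f φ) ≫ pullback.snd f φ) c₀ = k :=
    tdR_eq_of_trdegAt_eq _ hc₀td
  have hkn : k = n := by
    have : ((k : ℕ) : WithBot ℕ∞) = ((n : ℕ) : WithBot ℕ∞) := by rw [← hc₀F, hq3]
    exact_mod_cast this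
  subst hkn
  have hc₀fd : FlatMor.fibreDimAt (pullback.snd ι (pullback.fst f φ) ≫ pullback.snd f φ) c₀ =
      (k : WithBot ℕ∞) := by
    apply le_antisymm
    · rw [← hq3]
      exact Groth.Agent.S4952.fibreDimAt_mono _ _ _ hc₀q
    · have := tdR_le_fibreDimAt (pullback.snd ι (pullback.fst f φ) ≫ pullback.snd f φ) c₀
      rwa [hkc] at this
  -- the image of `c₀` in `P` lies in the support of the pulled back module
  have hGqc : ((Scheme.Modules.pullback (pullback.fst f φ)).obj F).IsQuasicoherent :=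
    isQuasicoherent_pullback _ F
  have hGfl : FlatMod.IsFlatOver (pullback.snd f φ)
      ((Scheme.Modules.pullback (pullback.fst f φ)).obj F) :=
    isFlatOver_pullback_of_isPullback f φ (pullback.fst f φ) (pullback.snd f φ)
      (IsPullback.of_hasPullback f φ) F hfl
  have hsupp := support_pullback (pullback.fst f φ) F
  have hc₀G : (pullback.snd ι (pullback.fst f φ)) c₀ ∈
      CohB1.support ((Scheme.Modules.pullback (pullback.fst f φ)).obj F) := by
    rw [hsupp]
    change (pullback.fst f φ) ((pullback.snd ι (pullback.fst f φ)) c₀) ∈ CohB1.support F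
    rw [← Scheme.Hom.comp_apply, ← pullback.condition, Scheme.Hom.comp_apply, ← hrange]
    exact ⟨_, rfl⟩
  obtain ⟨ζ', hζ'c, hζ'η, hζ'G⟩ :=
    Groth.Agent.S1416.exists_generization_support (pullback.snd f φ) _ hGfl _ hc₀G
  have hζ'F : (pullback.fst f φ) ζ' ∈ Set.range ι := by
    rw [hrange]
    rw [hsupp] at hζ'G
    exact hζ'G
  obtain ⟨z₁, hz₁⟩ := hζ'F
  obtain ⟨ζ₀, hζ₀1, hζ₀2⟩ := Groth.Agent.Lib.Helper96.UnivOpenAt.exists_preimage_of_isPullback
    (IsPullback.of_hasPullback ι (pullback.fst f φ)) z₁ ζ' hz₁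
  have hζ₀c : ζ₀ ⤳ c₀ := by
    rw [← (pullback.snd ι (pullback.fst f φ)).isEmbedding.isInducing.specializes_iff, hζ₀2]
    exact hζ'c
  have hζ₀fd : FlatMor.fibreDimAt (pullback.snd ι (pullback.fst f φ) ≫ pullback.snd f φ) ζ₀ =
      (k : WithBot ℕ∞) := by
    apply le_antisymm
    · rw [← hc₀fd]
      exact Groth.Agent.S4952.fibreDimAt_mono _ _ _ hζ₀c
    · obtain ⟨ζ₁, k₁, hζ₁ζ₀, -, htd₁, hF₁⟩ :=
        Groth.Agent.Lib.Helper73.SchemeDim.exists_specializes_trdeg_eq_fibreDimAt
          (pullback.snd ι (pullback.fst f φ) ≫ pullback.snd f φ) ζ₀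
      have hk₁ : tdR (pullback.snd ι (pullback.fst f φ) ≫ pullback.snd f φ) ζ₁ = k₁ :=
        tdR_eq_of_trdegAt_eq _ htd₁
      have h1 := tdR_le_of_valuation' (pullback.snd ι (pullback.fst f φ) ≫ pullback.snd f φ)
        (hζ₁ζ₀.trans hζ₀c)
      rw [hkc, hk₁] at h1
      rw [hF₁]
      exact_mod_cast h1
  refine ⟨(pullback.fst ι (pullback.fst f φ)) ζ₀, ?_, ?_⟩
  · rw [← Scheme.Hom.comp_apply, hsq.w, Scheme.Hom.comp_apply]
    apply hφη
    rw [Scheme.Hom.comp_apply, hζ₀2]
    exact hζ'η
  · rw [← hfd ζ₀, hζ₀fd]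

theorem le_and_not_succ_le_iff (a : WithBot ℕ∞) (n : ℕ) :
    ((n : WithBot ℕ∞) ≤ a ∧ ¬ ((n + 1 : ℕ) : WithBot ℕ∞) ≤ a) ↔ a = n := by
  constructor
  · rintro ⟨h1, h2⟩; exact Groth.Agent.S4969.eq_of_le_of_not_succ_le a n h1 h2
  · rintro rfl
    refine ⟨le_rfl, ?_⟩
    intro h
    have : n + 1 ≤ n := by exact_mod_cast h
    omega

end Helpers

/-- Let f : X ⟶ Y be a proper morphism of finite presentation and F a finitely presented O_X-module
which is f-flat; for y in Y write F_y for the restriction of F to the fibre X_y. Let Φ be a finite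
set of natural numbers. Then the set of points y of Y such that the set of dimensions of the
irreducible components of Supp(F_y) contains Φ is open in Y. -/
theorem result {X Y : Scheme.{u}} (f : X ⟶ Y) [IsProper f]
    [LocallyOfFinitePresentation f] (F : X.Modules) (hF : CohB1.IsFP F) (hflat : FlatMod.IsFlatOver f F) (Φ : Finset ℕ) :
    IsOpen {y : Y | ∀ n ∈ Φ, ∃ Z ∈ irreducibleComponents ↥{z : ↥(f.fiber y) | Nontrivial (((Scheme.Modules.pullback (f.fiberι y)).obj F).presheaf.stalk z)},
      topologicalKrullDim ↥Z = (n : WithBot ℕ∞)} := by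
  haveI : F.IsFinitePresentation := hF
  haveI : F.IsQuasicoherent := by
    obtain ⟨σ, _⟩ := SheafOfModules.IsFinitePresentation.exists_quasicoherentData (R := X.ringCatSheaf) F
    exact σ.isQuasicoherent
  haveI : F.IsFiniteType := by
    obtain ⟨σ, hσ⟩ :=
      SheafOfModules.IsFinitePresentation.exists_quasicoherentData (R := X.ringCatSheaf) F
    have h2 : σ.localGeneratorsData.IsFiniteType := by
      constructor
      intro i
      have := hσ.isFinite_presentation i
      exact (inferInstance : (σ.presentation i).generators.IsFiniteType)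
    constructor
    exact ⟨σ.localGeneratorsData, h2⟩
  have hcl : IsClosed (CohB1.support F) := isClosed_support_of_isFT F inferInstance
  have hI : ∀ V : X.affineOpens, ((Fitt.sheafIdeal F 0).ideal V).FG :=
    Groth.Agent.Lib.QCoh.FittSheaf74.isFiniteTypeIdeal_sheafIdeal F 0
  haveI : LocallyOfFinitePresentation (Fitt.sheafIdeal F 0).subschemeι :=
    Groth.Agent.Lib.QCoh.SubschemeLFP.locallyOfFinitePresentation_subschemeι _ hI
  haveI : IsProper ((Fitt.sheafIdeal F 0).subschemeι ≫ f) := inferInstance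
  haveI : LocallyOfFinitePresentation ((Fitt.sheafIdeal F 0).subschemeι ≫ f) := inferInstance
  haveI : LocallyOfFiniteType ((Fitt.sheafIdeal F 0).subschemeι ≫ f) := inferInstance
  haveI : LocallyOfFiniteType f := inferInstance
  have hrange : Set.range (Fitt.sheafIdeal F 0).subschemeι = CohB1.support F := by
    rw [Scheme.IdealSheafData.range_subschemeι, Groth.Agent.Lib.QCoh.FittSheaf74.support_zero_eq]
  -- pointwise reformulation
  have hkey : ∀ (n : ℕ) (y : Y),
      (∃ Z ∈ irreducibleComponents ↥{z : ↥(f.fiber y) | Nontrivial (((Scheme.Modules.pullback (f.fiberι y)).obj F).presheaf.stalk z)},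
        topologicalKrullDim ↥Z = (n : WithBot ℕ∞)) ↔
      y ∈ ((Fitt.sheafIdeal F 0).subschemeι ≫ f) '' {z | FlatMor.fibreDimAt ((Fitt.sheafIdeal F 0).subschemeι ≫ f) z = (n : WithBot ℕ∞)} := by
    intro n y
    have hmem : ∀ z : f.fiber y, f (f.fiberι y z) = y := by
      intro z
      have : f.fiberι y z ∈ Set.range (f.fiberι y) := ⟨z, rfl⟩
      rw [Scheme.Hom.range_fiberι] at this
      exact this
    have hset : {z : ↥(f.fiber y) | Nontrivial (((Scheme.Modules.pullback (f.fiberι y)).obj F).presheaf.stalk z)} =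
        (f.fiberι y) ⁻¹' (CohB1.support F) := by
      ext z
      have h1 := support_pullback (f.fiberι y) F
      have h2 : z ∈ CohB1.support ((Scheme.Modules.pullback (f.fiberι y)).obj F) ↔
          (f.fiberι y) z ∈ CohB1.support F := by rw [h1]; rfl
      constructor
      · intro hz
        exact h2.mp (not_subsingleton_iff_nontrivial.mpr hz)
      · intro hz
        exact not_subsingleton_iff_nontrivial.mp (h2.mpr hz)
    have hclN : IsClosed {z : ↥(f.fiber y) | Nontrivial (((Scheme.Modules.pullback (f.fiberι y)).obj F).presheaf.stalk z)} := by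
      rw [hset]; exact hcl.preimage (f.fiberι y).continuous
    haveI : QuasiSober ↥{z : ↥(f.fiber y) | Nontrivial (((Scheme.Modules.pullback (f.fiberι y)).obj F).presheaf.stalk z)} :=
      hclN.isClosedEmbedding_subtypeVal.quasiSober
    have hj : IsEmbedding (fun t : ↥{z : ↥(f.fiber y) | Nontrivial (((Scheme.Modules.pullback (f.fiberι y)).obj F).presheaf.stalk z)} => (f.fiberι y) t.1) :=
      (f.fiberι y).isEmbedding.comp IsEmbedding.subtypeVal
    have hr : Set.range (fun t : ↥{z : ↥(f.fiber y) | Nontrivial (((Scheme.Modules.pullback (f.fiberι y)).obj F).presheaf.stalk z)} => (f.fiberι y) t.1) =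
        f ⁻¹' {y} ∩ CohB1.support F := by
      ext x
      constructor
      · rintro ⟨t, rfl⟩
        have ht : t.1 ∈ (f.fiberι y) ⁻¹' (CohB1.support F) := hset ▸ t.2
        exact ⟨hmem t.1, ht⟩
      · rintro ⟨hxy, hxF⟩
        have : x ∈ Set.range (f.fiberι y) := by rw [Scheme.Hom.range_fiberι]; exact hxy
        obtain ⟨z, rfl⟩ := this
        exact ⟨⟨z, by rw [hset]; exact hxF⟩, rfl⟩
    rw [exists_irreducibleComponent_dim_iff f _ hj y (CohB1.support F) hcl hr n, ← hrange,
      exists_maximal_iff_exists_fibreDimAt f (Fitt.sheafIdeal F 0).subschemeι y n]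
    constructor
    · rintro ⟨z, hz, hn⟩; exact ⟨z, hn, hz⟩
    · rintro ⟨z, hn, hz⟩; exact ⟨z, hz, hn⟩
  have hopen : ∀ n : ℕ, IsOpen (((Fitt.sheafIdeal F 0).subschemeι ≫ f) ''
      {z | FlatMor.fibreDimAt ((Fitt.sheafIdeal F 0).subschemeι ≫ f) z = (n : WithBot ℕ∞)}) := by
    intro n
    apply Groth.Agent.S4969.isOpen_of_isLocallyConstructible_of_stableUnderGeneralization
    · apply Scheme.Hom.isLocallyConstructible_image
      have h1 := Groth.Agent.Lib.Helper73.FibreDimCons.isLocallyConstructible_setOf_le_fibreDimAt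
        ((Fitt.sheafIdeal F 0).subschemeι ≫ f) n
      have h2 := Groth.Agent.Lib.Helper73.ConstructibleNhds.isLocallyConstructible_compl
        (Groth.Agent.Lib.Helper73.FibreDimCons.isLocallyConstructible_setOf_le_fibreDimAt
          ((Fitt.sheafIdeal F 0).subschemeι ≫ f) (n + 1))
      convert h1.inter h2 using 1
      ext z
      simp only [Set.mem_ofPred_eq, Set.mem_inter_iff, Set.mem_compl_iff]
      exact (le_and_not_succ_le_iff _ n).symm
    · rintro y y' hy ⟨z, hz, rfl⟩
      obtain ⟨z', hz'1, hz'2⟩ := exists_fibreDimAt_eq_of_specializes f F hflat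
        (Fitt.sheafIdeal F 0).subschemeι hrange hy z rfl n hz
      exact ⟨z', hz'2, hz'1⟩
  have hEq : {y : Y | ∀ n ∈ Φ, ∃ Z ∈ irreducibleComponents ↥{z : ↥(f.fiber y) | Nontrivial (((Scheme.Modules.pullback (f.fiberι y)).obj F).presheaf.stalk z)},
      topologicalKrullDim ↥Z = (n : WithBot ℕ∞)} =
      ⋂ n ∈ Φ, ((Fitt.sheafIdeal F 0).subschemeι ≫ f) ''
        {z | FlatMor.fibreDimAt ((Fitt.sheafIdeal F 0).subschemeι ≫ f) z = (n : WithBot ℕ∞)} := by
    ext y
    simp only [Set.mem_ofPred_eq, Set.mem_iInter]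
    exact forall₂_congr fun n _ => hkey n y
  rw [hEq]
  exact isOpen_biInter_finset fun n _ => hopen n

end Groth.Agent.S4965
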