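import Groth.Statements.S4971
import Mathlib.RingTheory.Nakayama
import Mathlib.RingTheory.Jacobson.Ideal

set_option autoImplicit false
universe u
open EGA43

namespace Groth.Agent.S4971

/-- Let B be a Noetherian local ring, M, N, P three B-modules with N finitely generated, u : M → N and v
: N → P linear maps with v ∘ u = 0, and t an element of the maximal ideal of B which is P-regular.
If the induced sequence M/tM → N/tN → P/tP is exact, then M → N → P is exact. -/
theorem result {B : Type u} [CommRing B] [IsNoetherianRing B] [IsLocalRing B]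
    {M N P : Type u} [AddCommGroup M] [Module B M] [AddCommGroup N] [Module B N] [Module.Finite B N]
    [AddCommGroup P] [Module B P] (u : M →ₗ[B] N) (v : N →ₗ[B] P) (huv : v ∘ₗ u = 0) (t : B)
    (ht : t ∈ IsLocalRing.maximalIdeal B) (hreg : IsSMulRegular P t)
    (hu : (Ideal.span {t} • ⊤ : Submodule B M) ≤ (Ideal.span {t} • ⊤ : Submodule B N).comap u)
    (hv : (Ideal.span {t} • ⊤ : Submodule B N) ≤ (Ideal.span {t} • ⊤ : Submodule B P).comap v)
    (hex : LinearMap.ker ((Ideal.span {t} • ⊤ : Submodule B N).mapQ (Ideal.span {t} • ⊤ : Submodule B P) v hv) ≤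
      LinearMap.range ((Ideal.span {t} • ⊤ : Submodule B M).mapQ (Ideal.span {t} • ⊤ : Submodule B N) u hu)) :
    LinearMap.ker v ≤ LinearMap.range u := by
  have hRK : LinearMap.range u ≤ LinearMap.ker v := by
    rintro _ ⟨m, rfl⟩
    have := LinearMap.congr_fun huv m
    simpa using this
  have hKfg : (LinearMap.ker v).FG := IsNoetherian.noetherian _
  have hjac : Ideal.span {t} ≤ Ideal.jacobson (⊥ : Ideal B) := by
    rw [Ideal.span_singleton_le_iff_mem, IsLocalRing.jacobson_eq_maximalIdeal ⊥ bot_ne_top]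
    exact ht
  refine Submodule.le_of_le_smul_of_le_jacobson_bot hKfg hjac ?_
  intro n hn
  have hn0 : v n = 0 := hn
  have hmem : Submodule.Quotient.mk n ∈
      LinearMap.ker ((Ideal.span {t} • ⊤ : Submodule B N).mapQ (Ideal.span {t} • ⊤ : Submodule B P) v hv) := by
    rw [LinearMap.mem_ker, Submodule.mapQ_apply, hn0, Submodule.Quotient.mk_zero]
  obtain ⟨mbar, hmbar⟩ := hex hmem
  obtain ⟨m₀, rfl⟩ := Submodule.Quotient.mk_surjective _ mbar
  rw [Submodule.mapQ_apply, Submodule.Quotient.eq] at hmbar
  rw [Submodule.ideal_span_singleton_smul, Submodule.mem_smul_pointwise_iff_exists] at hmbar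
  obtain ⟨n₁, -, hn₁⟩ := hmbar
  have hvn₁ : v n₁ = 0 := by
    apply hreg
    show t • v n₁ = t • 0
    rw [smul_zero, ← map_smul, hn₁, map_sub, hn0]
    have := LinearMap.congr_fun huv m₀
    simp only [LinearMap.comp_apply, LinearMap.zero_apply] at this
    rw [this, sub_zero]
  have hneq : n = u m₀ - t • n₁ := by rw [hn₁]; abel
  rw [hneq]
  refine Submodule.sub_mem _ (Submodule.mem_sup_left ⟨m₀, rfl⟩) (Submodule.mem_sup_right ?_)
  exact Submodule.smul_mem_smul (Ideal.mem_span_singleton_self t) hvn₁

end Groth.Agent.S4971
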