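import Groth.Statements.S4972
import Mathlib
import Groth.Agent.Lib.Helper21.FibreClosureDim
-- import your own Groth.Agent.* helpers here

set_option autoImplicit false
open CategoryTheory AlgebraicGeometry
universe u v w
open EGA43

namespace Groth.Agent.S4972
open Groth.Agent.Lib.Helper21.FieldDim Groth.Agent.Lib.Helper21.ValTrdeg Groth.Agent.Lib.Helper21.OpenGeneralizing Groth.Agent.Lib.Helper21.FibreClosureDim CategoryTheory.Limits

/-- Let f : X ⟶ S be a morphism of finite type, (g_i : Y_i ⟶ S) a family of universally open morphisms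
and (u_i : Y_i ⟶ X) a family of S-morphisms. For s in S let Z(s) be the closure, in the fibre f⁻¹(s)
(with the topology induced from X), of the union of the sets u_i(Y_i) ∩ f⁻¹(s) (the images of the
fibres of the Y_i over s), and let d(s) = dim Z(s). Then for every point s of S and every
generization s' of s one has d(s) ≤ d(s'). -/
theorem result {X S : Scheme.{u}} (f : X ⟶ S) [LocallyOfFiniteType f]
    [QuasiCompact f] {ι : Type u} (Y : ι → Scheme.{u}) (g : ∀ i, Y i ⟶ S) [∀ i, UniversallyOpen (g i)]
    (v : ∀ i, Y i ⟶ X) (hv : ∀ i, v i ≫ f = g i) (s s' : S) (hs : s' ⤳ s) :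
    letI d : S → WithBot ℕ∞ := fun t =>
      topologicalKrullDim ↥(f.base ⁻¹' {t} ∩ closure ((⋃ i, Set.range (v i).base) ∩ f.base ⁻¹' {t}))
    d s ≤ d s' := by
  classical
  set E : Set X := ⋃ i, Set.range (v i).base with hE
  change topologicalKrullDim ↥(f.base ⁻¹' {s} ∩ closure (E ∩ f.base ⁻¹' {s})) ≤
    topologicalKrullDim ↥(f.base ⁻¹' {s'} ∩ closure (E ∩ f.base ⁻¹' {s'}))
  rw [dim_fibre_inter_le_iff f s _ isClosed_closure]
  intro w hwcl hws
  obtain ⟨A, _, _, _, φ, hφm, hφη⟩ := exists_valuationRing_of_specializes hs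
  set m : Spec (CommRingCat.of A) := IsLocalRing.closedPoint A with hm
  set η : Spec (CommRingCat.of A) := (⟨⊥, Ideal.isPrime_bot⟩ : PrimeSpectrum A) with hη
  have hφη' : φ η = s' := hφη η rfl
  have hcond : ∀ z : ↑(pullback f φ), f (pullback.fst f φ z) = φ (pullback.snd f φ z) := by
    intro z
    exact congrArg (fun k : pullback f φ ⟶ S => k z) (pullback.condition (f := f) (g := φ))
  obtain ⟨w', hw'1, hw'2, hw'td⟩ := exists_tdR_snd_eq f φ w m (hws.trans hφm.symm)
  have hL6 := mem_closure_preimage_inter_fibre f φ E w' (by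
    rw [hw'1, hw'2, hφm]; exact hwcl)
  rw [hw'2] at hL6
  set G : Set ↑(pullback f φ) := (pullback.fst f φ) ⁻¹' E ∩ (pullback.snd f φ) ⁻¹' {η} with hG
  have hηm : η ⤳ m := (PrimeSpectrum.le_iff_specializes _ _).mp bot_le
  have hsub : (pullback.fst f φ) ⁻¹' E ∩ (pullback.snd f φ) ⁻¹' {m} ⊆ closure G := by
    rintro e ⟨heE, het⟩
    obtain ⟨i, y, hy⟩ := Set.mem_iUnion.mp heE
    obtain ⟨y', hy'1, hy'2⟩ := Scheme.Pullback.exists_preimage_pullback (f := v i)
      (g := pullback.fst f φ) y e hy
    have hpb : IsPullback (pullback.fst (v i) (pullback.fst f φ))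
        (pullback.snd (v i) (pullback.fst f φ) ≫ pullback.snd f φ) (v i ≫ f) φ :=
      (IsPullback.of_hasPullback (v i) (pullback.fst f φ)).paste_vert
        (IsPullback.of_hasPullback f φ)
    rw [hv i] at hpb
    have huo : UniversallyOpen (pullback.snd (v i) (pullback.fst f φ) ≫ pullback.snd f φ) :=
      MorphismProperty.of_isPullback hpb (inferInstance : UniversallyOpen (g i))
    have hgen := generalizingMap_of_isOpenMap _
      (pullback.snd (v i) (pullback.fst f φ) ≫ pullback.snd f φ).isOpenMap
    have hy't : (pullback.snd (v i) (pullback.fst f φ) ≫ pullback.snd f φ) y' = m := by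
      change pullback.snd f φ (pullback.snd (v i) (pullback.fst f φ) y') = m
      rw [hy'2]; exact het
    obtain ⟨y'', hy''sp, hy''η⟩ := hgen (a := y') (b := η) (by rw [hy't]; exact hηm)
    have he' : pullback.snd (v i) (pullback.fst f φ) y'' ∈ G := by
      refine ⟨?_, ?_⟩
      · change pullback.fst f φ (pullback.snd (v i) (pullback.fst f φ) y'') ∈ E
        have hc : pullback.fst f φ (pullback.snd (v i) (pullback.fst f φ) y'') =
            v i (pullback.fst (v i) (pullback.fst f φ) y'') :=
          (congrArg (fun k : pullback (v i) (pullback.fst f φ) ⟶ X => k y'')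
            (pullback.condition (f := v i) (g := pullback.fst f φ))).symm
        rw [hc]
        exact Set.mem_iUnion.mpr ⟨i, _, rfl⟩
      · exact hy''η
    have hsp : pullback.snd (v i) (pullback.fst f φ) y'' ⤳ e := by
      have := hy''sp.map (pullback.snd (v i) (pullback.fst f φ)).continuous
      rwa [hy'2] at this
    exact hsp.mem_closed isClosed_closure (subset_closure he')
  have hw'G : w' ∈ closure G := closure_minimal hsub isClosed_closure hL6
  obtain ⟨ζ, hζsp, hζη, hζcl⟩ := exists_specializes_of_mem_closure_of_fibre (pullback.snd f φ) η G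
    Set.inter_subset_right w' hw'G
  have h3 : tdR (pullback.snd f φ) w' ≤ tdR (pullback.snd f φ) ζ :=
    tdR_le_of_valuation (R := CommRingCat.of A) (pullback.snd f φ) hζsp (by rw [hζη])
  have h4 := tdR_snd_le f φ ζ
  have h5 : f (pullback.fst f φ ζ) = s' := by rw [hcond, hζη, hφη']
  have h6 : pullback.fst f φ ζ ∈ closure (E ∩ f.base ⁻¹' {s'}) := by
    have := image_closure_subset_closure_image (pullback.fst f φ).continuous ⟨ζ, hζcl, rfl⟩
    refine closure_mono ?_ this
    rintro _ ⟨g0, ⟨hgE, hgη⟩, rfl⟩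
    refine ⟨hgE, ?_⟩
    change f (pullback.fst f φ g0) = s'
    rw [hcond, hgη, hφη']
  have hD := (dim_fibre_inter_le_iff f s' _ isClosed_closure _).mp le_rfl (pullback.fst f φ ζ) h6 h5
  refine le_trans ?_ hD
  have : tdR f w ≤ tdR f (pullback.fst f φ ζ) := by
    rw [← hw'td]; exact h3.trans h4
  exact_mod_cast this

end Groth.Agent.S4972
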