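import Groth.Statements.S4973
import Groth.Agent.Lib.Helper61.GraphClosure
import Mathlib

set_option autoImplicit false
open CategoryTheory AlgebraicGeometry
universe u v w
open EGA43

namespace Groth.Agent.S4973

open CategoryTheory.Limits in
/-- Let Y₀ and Y be integral schemes, g : Y ⟶ Y₀ a dominant morphism, f₀ : X₀ ⟶ Y₀ a dominant morphism
whose fibre over the generic point of Y₀ is irreducible, and X'₀ an irreducible component of X₀
meeting that generic fibre (it is unique), regarded as a reduced closed subscheme of X₀. If X = X₀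
×_{Y₀} Y is an integral scheme, then the morphism X'₀ ×_{Y₀} Y ⟶ X induced by the inclusion of X'₀
is an isomorphism. -/
theorem result {X₀ Y₀ Y : Scheme.{u}} [IsIntegral Y₀] [IsIntegral Y]
    (g : Y ⟶ Y₀) [IsDominant g] (f₀ : X₀ ⟶ Y₀) [IsDominant f₀]
    (hirr : IsIrreducible (f₀.base ⁻¹' {genericPoint Y₀}))
    (C : TopologicalSpace.Closeds X₀) (hC : (C : Set X₀) ∈ irreducibleComponents (X₀ : Type u))
    (hCη : ((C : Set X₀) ∩ f₀.base ⁻¹' {genericPoint Y₀}).Nonempty) [IsIntegral (pullback f₀ g)]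
    (e₁ : ((Scheme.IdealSheafData.vanishingIdeal C).subschemeι ≫ f₀) ≫ 𝟙 Y₀ =
      (Scheme.IdealSheafData.vanishingIdeal C).subschemeι ≫ f₀) (e₂ : g ≫ 𝟙 Y₀ = 𝟙 Y ≫ g) :
    IsIso (pullback.map ((Scheme.IdealSheafData.vanishingIdeal C).subschemeι ≫ f₀) g f₀ g
      (Scheme.IdealSheafData.vanishingIdeal C).subschemeι (𝟙 Y) (𝟙 Y₀) e₁ e₂) := by
  classical
  have hm : IsClosedImmersion (pullback.map ((Scheme.IdealSheafData.vanishingIdeal C).subschemeι ≫ f₀)
      g f₀ g (Scheme.IdealSheafData.vanishingIdeal C).subschemeι (𝟙 Y) (𝟙 Y₀) e₁ e₂) :=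
    MorphismProperty.pullbackMap (P := @IsClosedImmersion)
      (f := (Scheme.IdealSheafData.vanishingIdeal C).subschemeι ≫ f₀) (g := g) (f' := f₀) (g' := g)
      (i₁ := (Scheme.IdealSheafData.vanishingIdeal C).subschemeι) (i₂ := 𝟙 Y)
      inferInstance inferInstance rfl (Category.id_comp g).symm
  have hr : Set.range (pullback.map ((Scheme.IdealSheafData.vanishingIdeal C).subschemeι ≫ f₀)
      g f₀ g (Scheme.IdealSheafData.vanishingIdeal C).subschemeι (𝟙 Y) (𝟙 Y₀) e₁ e₂) =
      pullback.fst f₀ g ⁻¹' (C : Set X₀) := by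
    rw [Scheme.Pullback.range_map,
      Groth.Agent.Lib.Helper61.GraphClosure.range_subschemeι_vanishingIdeal]
    have : Set.range (𝟙 Y : Y ⟶ Y) = Set.univ := by
      ext y; simp
    rw [this, Set.preimage_univ, Set.inter_univ]
  -- the generic fibre is contained in `C`
  have hFC : f₀.base ⁻¹' {genericPoint Y₀} ⊆ (C : Set X₀) := by
    obtain ⟨c, hc⟩ := QuasiSober.sober hC.1 C.isClosed
    obtain ⟨z, hzC, hzF⟩ := hCη
    have hcz : c ⤳ z := hc.specializes hzC
    have h1 : f₀ c ⤳ f₀ z := hcz.map f₀.continuous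
    have hz' : f₀ z = genericPoint Y₀ := hzF
    have h2 : f₀ c = genericPoint Y₀ := by
      rw [hz'] at h1
      exact (h1.antisymm (genericPoint_specializes _)).eq
    have hcF : c ∈ f₀.base ⁻¹' {genericPoint Y₀} := h2
    have hirr' : IsIrreducible (closure (f₀.base ⁻¹' {genericPoint Y₀})) := hirr.closure
    have hCle : (C : Set X₀) ≤ closure (f₀.base ⁻¹' {genericPoint Y₀}) := by
      rw [← hc.def]
      exact closure_mono (Set.singleton_subset_iff.mpr hcF)
    have := hC.2 hirr' hCle
    exact subset_closure.trans this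
  have hgη : g (genericPoint Y) = genericPoint Y₀ :=
    Groth.Agent.Lib.Helper61.GraphClosure.map_genericPoint_of_isDominant g
  -- the generic point of the pullback lies over the generic point of `Y`
  obtain ⟨z, hz⟩ := hirr.nonempty
  have hz' : f₀ z = g (genericPoint Y) := by rw [hgη]; exact hz
  obtain ⟨w, hw1, hw2⟩ := Scheme.Pullback.exists_preimage_pullback z (genericPoint Y) hz'
  have hξw : genericPoint ↥(pullback f₀ g) ⤳ w := genericPoint_specializes w
  have h2 : pullback.snd f₀ g (genericPoint ↥(pullback f₀ g)) = genericPoint Y := by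
    have h3 := hξw.map (pullback.snd f₀ g).continuous
    rw [hw2] at h3
    exact (h3.antisymm (genericPoint_specializes _)).eq
  have h4 : f₀ (pullback.fst f₀ g (genericPoint ↥(pullback f₀ g))) = genericPoint Y₀ := by
    rw [← Scheme.Hom.comp_apply, pullback.condition, Scheme.Hom.comp_apply, h2, hgη]
  have h5 : genericPoint ↥(pullback f₀ g) ∈ Set.range (pullback.map
      ((Scheme.IdealSheafData.vanishingIdeal C).subschemeι ≫ f₀)
      g f₀ g (Scheme.IdealSheafData.vanishingIdeal C).subschemeι (𝟙 Y) (𝟙 Y₀) e₁ e₂) := by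
    rw [hr]
    exact hFC h4
  have hcl : IsClosed (Set.range (pullback.map
      ((Scheme.IdealSheafData.vanishingIdeal C).subschemeι ≫ f₀)
      g f₀ g (Scheme.IdealSheafData.vanishingIdeal C).subschemeι (𝟙 Y) (𝟙 Y₀) e₁ e₂)) :=
    (Scheme.Hom.isClosedEmbedding _).isClosed_range
  have hsurj : Surjective (pullback.map
      ((Scheme.IdealSheafData.vanishingIdeal C).subschemeι ≫ f₀)
      g f₀ g (Scheme.IdealSheafData.vanishingIdeal C).subschemeι (𝟙 Y) (𝟙 Y₀) e₁ e₂) := by
    constructor
    rw [← Set.range_eq_univ, ← Set.univ_subset_iff, ← (genericPoint_spec ↥(pullback f₀ g)).def]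
    exact hcl.closure_subset_iff.mpr (Set.singleton_subset_iff.mpr h5)
  exact isIso_of_isClosedImmersion_of_surjective _

end Groth.Agent.S4973
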