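import Groth.Statements.S4974
import Mathlib
import Groth.Agent.Lib.Helper82.CurveThrough4
import Groth.Agent.Lib.Helper61.HenselIsolatedScheme
-- import your own Groth.Agent.* helpers here

set_option autoImplicit false
open CategoryTheory AlgebraicGeometry
universe u v w
open EGA43

namespace Groth.Agent.S4974

set_option linter.style.haveILetI false
open TopologicalSpace IsLocalRing
open Groth.Agent.Lib.Helper82.CurveThrough Groth.Agent.Lib.Helper82.CurveThrough4

theorem henselianLocalRing_of_complete (A : Type u) [CommRing A] [IsLocalRing A]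
    [IsAdicComplete (IsLocalRing.maximalIdeal A) A] : HenselianLocalRing A where
  is_henselian := by
    intro f hf a₀ h₁ h₂
    exact HenselianRing.is_henselian f hf a₀ h₁ (h₂.map _)


/-- Consider a complete Noetherian local domain A and put Y = Spec A. Suppose f : X ⟶ Y is locally of
finite type, and take a point x ∈ X mapping to the closed point of Y, where f is equidimensional at
x and x is closed in the fibre containing it. Then one can find a local domain A' that contains A
and is finite as an A-algebra, together with a Y-morphism h : Spec A' ⟶ X that is an immersion and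
has x in its image. -/
theorem result {A : Type u} [CommRing A] [IsDomain A]
    [IsNoetherianRing A] [IsLocalRing A] [IsAdicComplete (IsLocalRing.maximalIdeal A) A] {X : Scheme.{u}}
    (f : X ⟶ Spec (CommRingCat.of A)) [LocallyOfFiniteType f] (x : X) (hx : f.base x = IsLocalRing.closedPoint A)
    (hf : EGA43.IsEquidimAt f x) (hcl : ∀ x' : X, f.base x' = f.base x → x ⤳ x' → x' = x) :
    ∃ (A' : Type u) (_ : CommRing A') (_ : IsDomain A') (_ : IsLocalRing A') (_ : Algebra A A') (_ : Module.Finite A A'),
      Function.Injective (algebraMap A A') ∧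
      ∃ h : Spec (CommRingCat.of A') ⟶ X, h ≫ f = Spec.map (CommRingCat.ofHom (algebraMap A A')) ∧
        IsImmersion h ∧ x ∈ Set.range h.base := by
  haveI : HenselianLocalRing A := henselianLocalRing_of_complete A
  haveI : IrreducibleSpace (Spec (CommRingCat.of A)) := inferInstance
  haveI : IsLocallyNoetherian (Spec (CommRingCat.of A)) := inferInstance
  obtain ⟨T, i, t, hi, hT, hTa, hit, hlft, hlqf, hqc, hdom⟩ := exists_quasiSection_affine f x hf hcl
  obtain ⟨g, hg⟩ : ∃ g : T ⟶ Spec (CommRingCat.of A), g = i ≫ f := ⟨_, rfl⟩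
  rw [← hg] at hlft hlqf hqc hdom
  haveI : IsSeparated g := inferInstance
  have hgt : g t = closedPoint A := by
    rw [hg, Scheme.Hom.comp_apply, hit]
    exact hx
  have hqf : g.QuasiFiniteAt t := g.quasiFiniteAt t
  obtain ⟨hfin, hoi, -⟩ :=
    Groth.Agent.Lib.Helper61.HenselIsolated.fromSpecStalk_of_quasiFiniteAt A g t hgt hqf
  obtain ⟨φ, hφ⟩ : ∃ φ : CommRingCat.of A ⟶ T.presheaf.stalk t,
      φ = (Scheme.ΓSpecIso (CommRingCat.of A)).inv ≫ g.appTop ≫ T.presheaf.germ ⊤ t trivial :=
    ⟨_, rfl⟩
  rw [← hφ] at hfin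
  letI : Algebra A (T.presheaf.stalk t) := φ.hom.toAlgebra
  have hcomp : T.fromSpecStalk t ≫ g = Spec.map φ := by
    apply ext_of_isAffine
    have h1 : (Spec.map φ).appTop = (Scheme.ΓSpecIso (CommRingCat.of A)).hom ≫ φ ≫
        (Scheme.ΓSpecIso (T.presheaf.stalk t)).inv := by
      rw [Scheme.ΓSpecIso_inv_naturality, Iso.hom_inv_id_assoc]
    rw [Scheme.Hom.comp_appTop, Scheme.fromSpecStalk_appTop, h1, hφ]
    simp only [Category.assoc, Iso.hom_inv_id_assoc]
    congr 2
  -- injectivity
  have hinj : Function.Injective (algebraMap A (T.presheaf.stalk t)) := by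
    rw [injective_iff_map_eq_zero]
    intro a ha
    obtain ⟨P₀, hP₀⟩ : ∃ P₀ : Spec (T.presheaf.stalk t), P₀.asIdeal = ⊥ :=
      ⟨(⟨⊥, Ideal.isPrime_bot⟩ : PrimeSpectrum (T.presheaf.stalk t)), rfl⟩
    have h1 : (T.fromSpecStalk t ≫ g) P₀ = g (genericPoint T) := by
      rw [Scheme.Hom.comp_apply, fromSpecStalk_eq_genericPoint t P₀ hP₀]
    have h2 : a ∈ ((Spec.map φ) P₀).asIdeal := by
      show φ.hom a ∈ P₀.asIdeal
      rw [hP₀]
      exact ha
    rw [← hcomp, h1] at h2
    obtain ⟨Q₀, hQ₀⟩ : ∃ Q₀ : Spec (CommRingCat.of A), Q₀.asIdeal = ⊥ :=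
      ⟨(⟨⊥, Ideal.isPrime_bot⟩ : PrimeSpectrum A), rfl⟩
    have h3 : g (genericPoint T) ⤳ Q₀ := by
      rw [specializes_iff_mem_closure]
      have hd : DenseRange g := hdom.1
      have h4 : Set.range g ⊆ closure {g (genericPoint T)} := by
        rintro _ ⟨t', rfl⟩
        exact (specializes_iff_mem_closure.1 ((genericPoint_specializes t').map g.continuous))
      exact closure_minimal h4 isClosed_closure (hd Q₀)
    have h5 : (g (genericPoint T)).asIdeal ≤ Q₀.asIdeal :=
      (PrimeSpectrum.le_iff_specializes _ _).2 h3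
    have h6 := h5 h2
    rw [hQ₀] at h6
    exact h6
  refine ⟨T.presheaf.stalk t, inferInstance, inferInstance, inferInstance, inferInstance, hfin, hinj,
    T.fromSpecStalk t ≫ i, ?_, ?_, ?_⟩
  · rw [Category.assoc, ← hg, hcomp]
    rfl
  · infer_instance
  · refine ⟨closedPoint (T.presheaf.stalk t), ?_⟩
    show i (T.fromSpecStalk t (closedPoint (T.presheaf.stalk t))) = x
    rw [Scheme.fromSpecStalk_closedPoint, hit]


end Groth.Agent.S4974
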