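import Groth.Statements.S4988
import Mathlib
-- import your own Groth.Agent.* helpers here

set_option autoImplicit false
universe u
open CategoryTheory CategoryTheory.Limits AlgebraicGeometry TopologicalSpace
open Unram17

namespace Groth.Agent.S4988

/-- The open locus where two morphisms over `S` into an `S`-scheme with open diagonal agree. -/
theorem eqLocus_open' {X Y S : Scheme.{u}} (p : Y ⟶ S) [IsOpenImmersion (pullback.diagonal p)]
    (f g : X ⟶ Y) (hfg : f ≫ p = g ≫ p) :
    ∃ U : X.Opens, U.ι ≫ f = U.ι ≫ g ∧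
      (U : Set X) = (pullback.lift f g hfg) ⁻¹' Set.range (pullback.diagonal p) := by
  let Δ := pullback.diagonal p
  let fg : X ⟶ pullback p p := pullback.lift f g hfg
  refine ⟨fg ⁻¹ᵁ Δ.opensRange, ?_, rfl⟩
  have hr : Set.range ((fg ⁻¹ᵁ Δ.opensRange).ι ≫ fg) ⊆ Set.range Δ := by
    rintro _ ⟨t, rfl⟩
    exact t.2
  let k := IsOpenImmersion.lift Δ ((fg ⁻¹ᵁ Δ.opensRange).ι ≫ fg) hr
  have hk : k ≫ Δ = (fg ⁻¹ᵁ Δ.opensRange).ι ≫ fg := IsOpenImmersion.lift_fac _ _ _
  have h1 : (fg ⁻¹ᵁ Δ.opensRange).ι ≫ f = k := by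
    have := congr($hk ≫ pullback.fst p p)
    simp only [Category.assoc, Δ, pullback.diagonal_fst, Category.comp_id, fg, pullback.lift_fst] at this
    exact this.symm
  have h2 : (fg ⁻¹ᵁ Δ.opensRange).ι ≫ g = k := by
    have := congr($hk ≫ pullback.snd p p)
    simp only [Category.assoc, Δ, pullback.diagonal_snd, Category.comp_id, fg, pullback.lift_snd] at this
    exact this.symm
  rw [h1, h2]

/-- Let h : Y ⟶ S be formally unramified, locally of finite type and separated, let f, g : X ⟶ Y be
morphisms over S whose common composite X ⟶ S is both open and closed as a map of topological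
spaces, and let s be a point of S. If f and g have the same restriction to the scheme-theoretic
fibre of X over s, then there is an open and closed subset V of S containing s such that f and g
agree on the preimage of V; in particular f = g when S is connected. -/
theorem result {X Y S : Scheme.{u}} (h : Y ⟶ S)
    [FormallyUnramified h] [LocallyOfFiniteType h] [IsSeparated h]
    (f g : X ⟶ Y) (w : g ≫ h = f ≫ h)
    (ho : IsOpenMap (f ≫ h).base) (hc : IsClosedMap (f ≫ h).base) (s : ↥S)
    (hs : (f ≫ h).fiberι s ≫ f = (f ≫ h).fiberι s ≫ g) :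
    ∃ V : S.Opens, IsClosed (V : Set ↥S) ∧ s ∈ V ∧
      ((f ≫ h) ⁻¹ᵁ V).ι ≫ f = ((f ≫ h) ⁻¹ᵁ V).ι ≫ g := by
  obtain ⟨U, hU, hUeq⟩ := eqLocus_open' h f g w.symm
  have hUclosed : IsClosed (U : Set X) := by
    rw [hUeq]
    exact (pullback.diagonal h).isClosedEmbedding.isClosed_range.preimage
      (pullback.lift f g w.symm).continuous
  have hfib : ∀ x : X, (f ≫ h) x = s → x ∈ U := by
    intro x hx
    have : x ∈ Set.range ((f ≫ h).fiberι s) := by rw [Scheme.Hom.range_fiberι]; exact hx
    obtain ⟨x', rfl⟩ := this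
    change _ ∈ (U : Set X)
    rw [hUeq]
    have key : (f ≫ h).fiberι s ≫ pullback.lift f g w.symm =
        ((f ≫ h).fiberι s ≫ f) ≫ pullback.diagonal h := by
      apply pullback.hom_ext
      · simp only [Category.assoc, pullback.lift_fst, pullback.diagonal_fst, Category.comp_id]
      · simp only [Category.assoc, pullback.lift_snd, pullback.diagonal_snd, Category.comp_id, hs]
    change (pullback.lift f g w.symm) _ ∈ Set.range (pullback.diagonal h)
    rw [← Scheme.Hom.comp_apply, key, Scheme.Hom.comp_apply]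
    exact ⟨_, rfl⟩
  have hclosed : IsClosed ((f ≫ h) '' (U : Set X)ᶜ) := hc _ U.isOpen.isClosed_compl
  have hopen : IsOpen ((f ≫ h) '' (U : Set X)ᶜ) := ho _ hUclosed.isOpen_compl
  let V : S.Opens := ⟨((f ≫ h) '' (U : Set X)ᶜ)ᶜ, hclosed.isOpen_compl⟩
  have hsV : s ∈ V := by
    rintro ⟨x, hxU, hx⟩
    exact hxU (hfib x hx)
  have hle : (f ≫ h) ⁻¹ᵁ V ≤ U := by
    intro x hx
    by_contra hxU
    exact hx ⟨x, hxU, rfl⟩
  refine ⟨V, hopen.isClosed_compl, hsV, ?_⟩
  rw [← X.homOfLE_ι hle, Category.assoc, Category.assoc, hU]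

end Groth.Agent.S4988
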