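import Groth.Statements.S4991
import Groth.Agent.Lib.Helper73.SmoothFibreReg
import Groth.Agent.S0565
-- import your own Groth.Agent.* helpers here

set_option autoImplicit false
universe u
open CategoryTheory CategoryTheory.Limits AlgebraicGeometry TopologicalSpace
open Unram17

namespace Groth.Agent.S4991

/-- Let Y be locally Noetherian and f : X ⟶ Y locally of finite type, smooth on an open neighbourhood of
a point x with image y. Then the local ring of X at x is regular if and only if the local ring of Y
at y is regular. -/
theorem result {X Y : Scheme.{u}} (f : X ⟶ Y)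
    [IsLocallyNoetherian Y] [LocallyOfFiniteType f] (x : ↥X)
    (hx : ∃ U : X.Opens, x ∈ U ∧ Smooth (U.ι ≫ f)) :
    IsRegularLocalRing ↑(X.presheaf.stalk x) ↔ IsRegularLocalRing ↑(Y.presheaf.stalk (f.base x)) := by
  obtain ⟨U, hxU, hsm⟩ := hx
  set g := U.ι ≫ f with hg
  let x' : U.toScheme := ⟨x, hxU⟩
  haveI : IsLocallyNoetherian U.toScheme := LocallyOfFiniteType.isLocallyNoetherian g
  have e : X.presheaf.stalk x ≃+* U.toScheme.presheaf.stalk x' :=
    (asIso (U.ι.stalkMap x')).commRingCatIsoToRingEquiv
  letI : Algebra (Y.presheaf.stalk (g.base x')) (U.toScheme.presheaf.stalk x') :=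
    (g.stalkMap x').hom.toAlgebra
  haveI : IsLocalHom (algebraMap (Y.presheaf.stalk (g.base x')) (U.toScheme.presheaf.stalk x')) := by
    rw [RingHom.algebraMap_toAlgebra]; infer_instance
  haveI : Module.Flat (Y.presheaf.stalk (g.base x')) (U.toScheme.presheaf.stalk x') :=
    Flat.stalkMap g x'
  constructor
  · intro h
    haveI : IsRegularLocalRing (U.toScheme.presheaf.stalk x') := IsRegularLocalRing.of_ringEquiv e
    exact Groth.Agent.S0565.result (Y.presheaf.stalk (g.base x')) (U.toScheme.presheaf.stalk x')
  · intro h
    haveI : IsRegularLocalRing (Y.presheaf.stalk (g.base x')) := h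
    haveI := Groth.Agent.Lib.Helper73.SmoothFibreReg.isRegularLocalRing_fibre_of_smooth g x'
    haveI := Groth.Agent.Lib.Helper49.RegAscent.isRegularLocalRing_of_flat_of_fibre
      (Y.presheaf.stalk (g.base x')) (U.toScheme.presheaf.stalk x')
      (Groth.Agent.Lib.Helper67.FibreStalk.fibreIdeal g x') rfl
    exact IsRegularLocalRing.of_ringEquiv e.symm

end Groth.Agent.S4991
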