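import Groth.Statements.S4998
import Mathlib.Tactic
import Mathlib.RingTheory.Etale.Field

set_option autoImplicit false
universe u
open Unram17

namespace Groth.Agent.S4998

open Polynomial in
/-- A commutative algebra over a field all of whose elements are separable is formally unramified. -/
theorem formallyUnramified_of_isSeparable (K A : Type u) [Field K] [CommRing A] [Algebra K A]
    [Algebra.IsSeparable K A] : Algebra.FormallyUnramified K A := by
  rw [Algebra.FormallyUnramified.iff_comp_injective]
  intro B _ _ I hI f₁ f₂ e
  ext x
  have : f₁ x - f₂ x ∈ I := by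
    simpa [Ideal.Quotient.mk_eq_mk_iff_sub_mem] using AlgHom.congr_fun e x
  have := Polynomial.eval_add_of_sq_eq_zero ((minpoly K x).map (algebraMap K B)) (f₂ x)
    (f₁ x - f₂ x) (show (f₁ x - f₂ x) ^ 2 ∈ ⊥ from hI ▸ Ideal.pow_mem_pow this 2)
  simp only [add_sub_cancel, eval_map_algebraMap, aeval_algHom_apply, minpoly.aeval, map_zero,
    derivative_map, zero_add] at this
  have hsep : (minpoly K x).Separable := Algebra.IsSeparable.isSeparable K x
  obtain ⟨a, b, hab⟩ := hsep
  have hunit : IsUnit (aeval x (derivative (minpoly K x))) := by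
    have h1 := congrArg (aeval x) hab
    simp only [map_add, map_mul, minpoly.aeval, mul_zero, zero_add, map_one] at h1
    exact IsUnit.of_mul_eq_one _ (by rw [mul_comm]; exact h1)
  rwa [eq_comm, (hunit.map f₂).mul_right_eq_zero, sub_eq_zero] at this

open Polynomial in
/-- Elements of a finite product of separable field extensions are separable. -/
theorem isSeparable_pi (K : Type u) [Field K] (I : Type u) [Finite I] (Ai : I → Type u)
    [∀ i, Field (Ai i)] [∀ i, Algebra K (Ai i)] (h : ∀ i, Algebra.IsSeparable K (Ai i)) :
    Algebra.IsSeparable K (Π i, Ai i) := by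
  classical
  have := Fintype.ofFinite I
  refine ⟨fun x ↦ ?_⟩
  let s : Finset K[X] := Finset.image (fun i ↦ minpoly K (x i)) Finset.univ
  have hint : ∀ i, IsIntegral K (x i) := fun i ↦ ((h i).isSeparable' (x i)).isIntegral
  have hsep : (∏ p ∈ s, p).Separable := by
    refine separable_prod' (f := fun p : K[X] ↦ p) ?_ ?_
    · intro p hp q hq hpq
      obtain ⟨i, -, rfl⟩ := Finset.mem_image.mp hp
      obtain ⟨j, -, rfl⟩ := Finset.mem_image.mp hq
      rw [(minpoly.irreducible (hint i)).coprime_iff_not_dvd]
      intro hdvd
      apply hpq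
      have hassoc : Associated (minpoly K (x i)) (minpoly K (x j)) :=
        (minpoly.irreducible (hint i)).associated_of_dvd (minpoly.irreducible (hint j)) hdvd
      exact eq_of_monic_of_associated (minpoly.monic (hint i)) (minpoly.monic (hint j)) hassoc
    · intro p hp
      obtain ⟨i, -, rfl⟩ := Finset.mem_image.mp hp
      exact (h i).isSeparable' (x i)
  have hzero : aeval x (∏ p ∈ s, p) = 0 := by
    funext i
    have h1 : aeval x (∏ p ∈ s, p) i = aeval (x i) (∏ p ∈ s, p) := by
      have := Polynomial.aeval_algHom_apply (Pi.evalAlgHom K Ai i) x (∏ p ∈ s, p)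
      simpa using this.symm
    rw [h1]
    have hdvd : minpoly K (x i) ∣ ∏ p ∈ s, p :=
      Finset.dvd_prod_of_mem (fun p : K[X] ↦ p) (Finset.mem_image.mpr ⟨i, Finset.mem_univ _, rfl⟩)
    obtain ⟨c, hc⟩ := hdvd
    rw [hc, map_mul, minpoly.aeval, zero_mul]
    rfl
  exact hsep.of_dvd (minpoly.dvd K x hzero)

/-- Let A be an algebra of finite type over a field k. Then A is formally unramified over k if and only
if A is finite over k and every element of A has separable minimal polynomial over k (equivalently,
A is a finite product of finite separable extensions of k). -/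
theorem result (k A : Type u) [Field k] [CommRing A]
    [Algebra k A] [Algebra.FiniteType k A] :
    Algebra.FormallyUnramified k A ↔ Module.Finite k A ∧ Algebra.IsSeparable k A := by
  constructor
  · intro h
    have hfin : Module.Finite k A := Algebra.FormallyUnramified.finite_of_free k A
    refine ⟨hfin, ?_⟩
    have het : Algebra.FormallyEtale k A := Algebra.FormallyEtale.of_formallyUnramified_of_field k A
    obtain ⟨I, hI, Ai, hF, hAlg, e, hsep⟩ := (Algebra.FormallyEtale.iff_exists_algEquiv_prod k A).mp het
    have hpi := isSeparable_pi k I Ai hsep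
    refine ⟨fun x ↦ ?_⟩
    have := hpi.isSeparable' (e x)
    unfold IsSeparable at this ⊢
    rwa [minpoly.algEquiv_eq] at this
  · rintro ⟨_, hsep⟩
    exact formallyUnramified_of_isSeparable k A

end Groth.Agent.S4998
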