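import Groth.Statements.S5001
import Groth.Agent.Lib.Helper62.DimLoc5
import Mathlib.RingTheory.Unramified.LocalRing
import Mathlib.RingTheory.MvPolynomial.Ideal
import Mathlib.RingTheory.Smooth.StandardSmooth
import Mathlib.RingTheory.Etale.StandardEtale

set_option autoImplicit false
set_option linter.style.haveILetI false
universe u
open Unram17

namespace Groth.Agent.S5001


theorem idealOfVars_isMaximal (k : Type u) [Field k] (σ : Type*) :
    (MvPolynomial.idealOfVars σ k).IsMaximal := by
  have h : MvPolynomial.idealOfVars σ k = RingHom.ker (MvPolynomial.constantCoeff (σ := σ) (R := k)) := by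
    ext f
    have := MvPolynomial.mem_pow_idealOfVars_iff' (σ := σ) (R := k) 1 f
    rw [pow_one] at this
    rw [this, RingHom.mem_ker]
    constructor
    · intro h
      exact h 0 (by simp)
    · intro h x hx
      have hx0 : x = 0 := by
        have : Finsupp.degree x = 0 := by omega
        exact (Finsupp.degree_eq_zero_iff x).mp this
      subst hx0
      exact h
  rw [h]
  exact RingHom.ker_isMaximal_of_surjective _ (fun x => ⟨MvPolynomial.C x, by simp⟩)

/-- Let k be a field, A a k-algebra of finite type equipped with a k-algebra map from the polynomial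
ring in n variables, with images g_i of the variables, and p a prime of A such that Spec A has local
dimension n at p, the residue field of p is a finite separable extension of k, and every g_i lies in
p. Then A is etale over the polynomial ring at p if and only if the images of the g_i generate the
maximal ideal of the local ring A_p. -/
theorem result (k A : Type u) [Field k] [CommRing A] [Algebra k A]
    [Algebra.FiniteType k A] (n : ℕ) [Algebra (MvPolynomial (Fin n) k) A]
    [IsScalarTower k (MvPolynomial (Fin n) k) A] (p : Ideal A) [p.IsPrime]
    (hn : FlatMor.localDim (PrimeSpectrum A) ⟨p, inferInstance⟩ = (n : WithBot ℕ∞))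
    [Module.Finite k p.ResidueField] [Algebra.IsSeparable k p.ResidueField]
    (hg : ∀ i : Fin n, algebraMap (MvPolynomial (Fin n) k) A (MvPolynomial.X i) ∈ p) :
    Algebra.IsEtaleAt (MvPolynomial (Fin n) k) p ↔
      Ideal.span (Set.range fun i : Fin n =>
        algebraMap A (Localization.AtPrime p) (algebraMap (MvPolynomial (Fin n) k) A (MvPolynomial.X i))) =
        IsLocalRing.maximalIdeal (Localization.AtPrime p) := by
  classical
  have hmax := idealOfVars_isMaximal k (Fin n)
  have hP0 : p.under (MvPolynomial (Fin n) k) = MvPolynomial.idealOfVars (Fin n) k := by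
    symm
    apply hmax.eq_of_le (Ideal.IsPrime.ne_top inferInstance)
    rw [MvPolynomial.idealOfVars, Ideal.span_le]
    rintro _ ⟨i, rfl⟩
    exact hg i
  haveI : Algebra.FiniteType (MvPolynomial (Fin n) k) A :=
    Algebra.FiniteType.of_restrictScalars_finiteType k _ A
  letI := Localization.AtPrime.algebraOfLiesOver (p.under (MvPolynomial (Fin n) k)) p
  have key := Algebra.isUnramifiedAt_iff_map_eq (MvPolynomial (Fin n) k)
    (p.under (MvPolynomial (Fin n) k)) p
  have hsep : Algebra.IsSeparable (p.under (MvPolynomial (Fin n) k)).ResidueField
      p.ResidueField := by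
    haveI : IsScalarTower k (p.under (MvPolynomial (Fin n) k)).ResidueField p.ResidueField :=
      inferInstance
    exact Algebra.isSeparable_tower_top_of_isSeparable k _ _
  have hmap : (p.under (MvPolynomial (Fin n) k)).map
      (algebraMap (MvPolynomial (Fin n) k) (Localization.AtPrime p)) =
      Ideal.span (Set.range fun i : Fin n =>
        algebraMap A (Localization.AtPrime p)
          (algebraMap (MvPolynomial (Fin n) k) A (MvPolynomial.X i))) := by
    rw [hP0, MvPolynomial.idealOfVars, Ideal.map_span, ← Set.range_comp]
    congr 2
  rw [← hmap]
  haveI : Module.Free (MvPolynomial (Fin n) k) (KaehlerDifferential k (MvPolynomial (Fin n) k)) :=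
    Module.Free.of_basis (KaehlerDifferential.mvPolynomialBasis k (Fin n))
  have hrank : Module.finrank (MvPolynomial (Fin n) k)
      (KaehlerDifferential k (MvPolynomial (Fin n) k)) = n := by
    rw [Module.finrank_eq_card_basis (KaehlerDifferential.mvPolynomialBasis k (Fin n))]
    simp
  constructor
  · intro h
    haveI : Algebra.IsEtaleAt (MvPolynomial (Fin n) k) p := h
    haveI : Algebra.IsUnramifiedAt (MvPolynomial (Fin n) k) p := inferInstance
    exact (key.mp inferInstance).2
  · intro h
    haveI : Algebra.IsUnramifiedAt (MvPolynomial (Fin n) k) p := key.mpr ⟨hsep, h⟩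
    exact Groth.Agent.Lib.Helper62.DimLoc.isEtaleAt_of_isUnramifiedAt k (MvPolynomial (Fin n) k) A n
      hrank p (le_of_eq hn.symm)

end Groth.Agent.S5001
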