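import Groth.Statements.S5002
import Groth.Agent.Lib.Helper79.FiniteNilpQuot

set_option autoImplicit false
universe u
open PP16

namespace Groth.Agent.S5002

/-- Suppose A is a commutative ring and B is a finite-type A-algebra. For each n, the ring of principal
parts of order n of B over A is then finitely generated as a B-module, where B acts via the first
factor. -/
theorem result (n : ℕ) (A B : Type u) [CommRing A] [CommRing B] [Algebra A B]
    [Algebra.FiniteType A B] : Module.Finite B (PP16.P n A B) := by
  have hfg : (KaehlerDifferential.ideal A B).FG := KaehlerDifferential.ideal_fg A B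
  have : Module.Finite B ((TensorProduct A B B) ⧸ KaehlerDifferential.ideal A B) := by
    refine Module.Finite.of_surjective
      (Algebra.linearMap B ((TensorProduct A B B) ⧸ KaehlerDifferential.ideal A B)) ?_
    intro x
    obtain ⟨r, rfl⟩ := Ideal.Quotient.mk_surjective x
    refine ⟨Algebra.TensorProduct.lmul' A r, ?_⟩
    rw [Algebra.linearMap_apply, IsScalarTower.algebraMap_apply B (TensorProduct A B B)
      ((TensorProduct A B B) ⧸ KaehlerDifferential.ideal A B), Ideal.Quotient.algebraMap_eq,
      Ideal.Quotient.eq]
    change _ ∈ RingHom.ker _
    rw [RingHom.mem_ker, map_sub, Algebra.TensorProduct.algebraMap_apply]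
    simp
  exact Groth.Agent.Lib.Helper79.finite_quotient_pow (KaehlerDifferential.ideal A B) hfg (n + 1)

end Groth.Agent.S5002
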