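import Groth.Statements.S5006
import Mathlib.Tactic
import Mathlib.RingTheory.Noetherian.Nilpotent
import Mathlib.RingTheory.Finiteness.Ideal
import Mathlib.RingTheory.Nakayama
import Mathlib.RingTheory.Localization.AtPrime.Basic

set_option autoImplicit false
universe u
open Nrm16

namespace Groth.Agent.S5006

/-- Let A be a commutative ring, I a finitely generated ideal and p a prime ideal containing I. Then
some basic open neighbourhood of p in Spec A is contained in the closed set V(I) (so that V(I) ⟶
Spec A is a local homeomorphism onto an open set near p) if and only if there is an integer n > 0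
with I^n A_p = I^(n+1) A_p in the local ring at p. Affine form. -/
theorem result (A : Type u) [CommRing A] (I : Ideal A) (hI : I.FG)
    (p : Ideal A) [p.IsPrime] (hp : I ≤ p) :
    (∃ f : A, f ∉ p ∧ ∀ q : Ideal A, q.IsPrime → f ∉ q → I ≤ q) ↔
      ∃ n : ℕ, 0 < n ∧
        (I ^ n).map (algebraMap A (Localization.AtPrime p)) =
          (I ^ (n + 1)).map (algebraMap A (Localization.AtPrime p)) := by
  classical
  constructor
  · rintro ⟨f, hfp, hf⟩
    -- I * (f) is contained in the nilradical
    have hle : I * Ideal.span {f} ≤ nilradical A := by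
      rw [nilradical_eq_sInf]
      refine le_sInf fun q hq ↦ ?_
      have hqp : q.IsPrime := hq
      by_cases hfq : f ∈ q
      · exact Ideal.mul_le_right.trans ((Ideal.span_singleton_le_iff_mem q).mpr hfq)
      · exact Ideal.mul_le_left.trans (hf q hqp hfq)
    have hfg : (I * Ideal.span {f}).FG := hI.mul (Submodule.fg_span_singleton f)
    obtain ⟨N, hN⟩ := (Ideal.FG.isNilpotent_iff_le_nilradical hfg).mpr hle
    have hbot : (I ^ N).map (algebraMap A (Localization.AtPrime p)) = ⊥ := by
      have h1 : ((I * Ideal.span {f}) ^ N).map (algebraMap A (Localization.AtPrime p)) = ⊥ := by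
        change (I * Ideal.span {f}) ^ N = ⊥ at hN
        rw [hN, Ideal.map_bot]
      rw [mul_pow, Ideal.map_mul, Ideal.span_singleton_pow, Ideal.map_span, Set.image_singleton] at h1
      have hu : IsUnit (algebraMap A (Localization.AtPrime p) (f ^ N)) :=
        IsLocalization.map_units (Localization.AtPrime p)
          (⟨f ^ N, p.primeCompl.pow_mem hfp N⟩ : p.primeCompl)
      rw [Ideal.span_singleton_eq_top.mpr hu, Ideal.mul_top] at h1
      exact h1
    refine ⟨N + 1, Nat.succ_pos _, ?_⟩
    have h2 : ∀ k, N ≤ k → (I ^ k).map (algebraMap A (Localization.AtPrime p)) = ⊥ := by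
      intro k hk
      rw [eq_bot_iff, ← hbot]
      exact Ideal.map_mono (Ideal.pow_le_pow_right hk)
    rw [h2 (N + 1) (by omega), h2 (N + 1 + 1) (by omega)]
  · rintro ⟨n, hn, heq⟩
    set J := (I ^ n).map (algebraMap A (Localization.AtPrime p)) with hJ
    have hJfg : J.FG := (hI.pow (n := n)).map _
    have hJle : J ≤ I.map (algebraMap A (Localization.AtPrime p)) • J := by
      rw [smul_eq_mul, hJ, ← Ideal.map_mul, ← pow_succ', ← heq]
    have hIle : I.map (algebraMap A (Localization.AtPrime p)) ≤ Ideal.jacobson ⊥ := by
      rw [IsLocalRing.jacobson_eq_maximalIdeal ⊥ bot_ne_top]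
      rw [← Localization.AtPrime.map_eq_maximalIdeal]
      exact Ideal.map_mono hp
    have hJbot : J = ⊥ := Submodule.eq_bot_of_le_smul_of_le_jacobson_bot _ _ hJfg hJle hIle
    have hker : ∀ x ∈ I ^ n, ∃ m : p.primeCompl, (m : A) * x = 0 := by
      intro x hx
      have : algebraMap A (Localization.AtPrime p) x ∈ J := Ideal.mem_map_of_mem _ hx
      rw [hJbot, Ideal.mem_bot] at this
      exact (IsLocalization.map_eq_zero_iff p.primeCompl _ x).mp this
    obtain ⟨T, hT⟩ := (hI.pow (n := n))
    have hfin : ∀ S : Finset A, (∀ t ∈ S, t ∈ I ^ n) → ∃ f : A, f ∉ p ∧ ∀ t ∈ S, f * t = 0 := by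
      intro S
      induction S using Finset.induction_on with
      | empty => exact fun _ ↦ ⟨1, fun h ↦ (Ideal.IsPrime.ne_top inferInstance) ((Ideal.eq_top_iff_one p).mpr h), by simp⟩
      | insert a S ha ih =>
        intro hS
        obtain ⟨f, hfp, hf⟩ := ih (fun t ht ↦ hS t (Finset.mem_insert_of_mem ht))
        obtain ⟨m, hm⟩ := hker a (hS a (Finset.mem_insert_self a S))
        refine ⟨m * f, ?_, ?_⟩
        · intro hmem
          rcases (Ideal.IsPrime.mem_or_mem inferInstance hmem) with h | h
          · exact m.2 h
          · exact hfp h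
        · intro t ht
          rcases Finset.mem_insert.mp ht with rfl | ht
          · rw [mul_right_comm, hm, zero_mul]
          · rw [mul_assoc, hf t ht, mul_zero]
    obtain ⟨f, hfp, hf⟩ := hfin T (fun t ht ↦ by rw [← hT]; exact Ideal.subset_span ht)
    have hfall : ∀ x ∈ I ^ n, f * x = 0 := by
      intro x hx
      rw [← hT] at hx
      induction hx using Submodule.span_induction with
      | mem x hx => exact hf x hx
      | zero => simp
      | add x y _ _ hx hy => rw [mul_add, hx, hy, add_zero]
      | smul a x _ hx => rw [smul_eq_mul, mul_left_comm, hx, mul_zero]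
    refine ⟨f, hfp, fun q hq hfq a ha ↦ ?_⟩
    have h1 : f * a ^ n = 0 := hfall _ (Ideal.pow_mem_pow ha n)
    have h2 : f * a ^ n ∈ q := by rw [h1]; exact zero_mem _
    rcases hq.mem_or_mem h2 with h | h
    · exact absurd h hfq
    · exact hq.mem_of_pow_mem n h

end Groth.Agent.S5006
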