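import Groth.Statements.S5007
import Groth.Agent.S9697
import Groth.Agent.Lib.Helper35.EtaleLocalScheme

set_option autoImplicit false
universe u
open CategoryTheory CategoryTheory.Limits AlgebraicGeometry TopologicalSpace
open Unram17

namespace Groth.Agent.S5007

section Helpers
open Groth.Agent.Lib.Helper35 AlgebraicGeometry CategoryTheory CategoryTheory.Limits

theorem formallyUnramified_of_stalkMap {X Y : Scheme.{u}} (f : X ⟶ Y) [LocallyOfFiniteType f]
    (H : ∀ x : X, (f.stalkMap x).hom.FormallyUnramified) : FormallyUnramified f := by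
  have key : ∀ x : X, ∃ V : X.Opens, x ∈ V ∧ FormallyUnramified (V.ι ≫ f) := fun x =>
    exists_formallyUnramified_nhd_of_stalkMap f x (H x)
  choose V hxV hV using key
  refine IsZariskiLocalAtSource.of_iSup_eq_top (P := @FormallyUnramified) V ?_ hV
  rw [eq_top_iff]
  intro x _
  exact TopologicalSpace.Opens.mem_iSup.mpr ⟨x, hxV x⟩

end Helpers

/-- Let g : Y ⟶ S and h : X ⟶ S be locally of finite presentation and f : X ⟶ Y a morphism over S. Then
f is (formally) unramified if and only if for every point s of S the base change of f along the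
fibre Y_s ⟶ Y, which is the fibre map X_s ⟶ Y_s, is (formally) unramified. -/
theorem result {X Y S : Scheme.{u}} (g : Y ⟶ S) (h : X ⟶ S)
    [LocallyOfFinitePresentation g] [LocallyOfFinitePresentation h] (f : X ⟶ Y) (w : f ≫ g = h) :
    FormallyUnramified f ↔ ∀ s : ↥S, FormallyUnramified (pullback.snd f (g.fiberι s)) := by
  haveI : LocallyOfFiniteType (f ≫ g) := by rw [w]; infer_instance
  haveI : LocallyOfFiniteType f := locallyOfFiniteType_of_comp f g
  constructor
  · intro hf s
    exact MorphismProperty.pullback_snd (P := @FormallyUnramified) f (g.fiberι s) hf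
  · intro H
    apply formallyUnramified_of_stalkMap
    intro x
    obtain ⟨y', hy'⟩ : ∃ y' : g.fiber (g (f x)), g.fiberι (g (f x)) y' = f x := by
      have : f x ∈ Set.range (g.fiberι (g (f x))) := by
        rw [Scheme.Hom.range_fiberι]
        rfl
      exact this
    obtain ⟨x', hx'1, hx'2⟩ := Scheme.Pullback.exists_preimage_pullback (f := f)
      (g := g.fiberι (g (f x))) x y' hy'.symm
    have h1 := FormallyUnramified.stalkMap (pullback.snd f (g.fiberι (g (f x)))) x'
    rw [Groth.Agent.S9697.formallyUnramified_stalkMap_baseChange_iff, hx'1] at h1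
    exact h1

end Groth.Agent.S5007
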