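import Groth.Statements.S5008
import Mathlib.RingTheory.Smooth.Locus
import Mathlib.RingTheory.Etale.Basic
import Mathlib.RingTheory.LocalRing.Module

set_option autoImplicit false
universe u
open CategoryTheory CategoryTheory.Limits AlgebraicGeometry TopologicalSpace
open Unram17

namespace Groth.Agent.S5008

section Helpers
open IsLocalRing

theorem exists_factor {X : Scheme.{u}} {B : Type u} [CommRing B] [IsLocalRing B]
    (γ : Spec (CommRingCat.of B) ⟶ X) {V : X.Opens} (hV : IsAffineOpen V)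
    (h : γ.base (IsLocalRing.closedPoint B) ∈ V) :
    ∃ c : Γ(X, V) ⟶ CommRingCat.of B, γ = Spec.map c ≫ hV.fromSpec := by
  have hle : (⊤ : (Spec (CommRingCat.of B)).Opens) ≤ γ ⁻¹ᵁ V :=
    (Scheme.preimage_eq_top_of_closedPoint_mem γ h).ge
  have := IsAffineOpen.SpecMap_appLE_fromSpec γ hV (isAffineOpen_top _) hle
  rw [IsAffineOpen.fromSpec_top, Iso.eq_inv_comp, Scheme.isoSpec_Spec_hom] at this
  refine ⟨γ.appLE V ⊤ hle ≫ (Scheme.ΓSpecIso _).hom, ?_⟩
  rw [Spec.map_comp, Category.assoc]
  exact this.symm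

theorem point_iff {X : Scheme.{u}} {B : Type u} [CommRing B] [IsLocalRing B] {V : X.Opens}
    (hV : IsAffineOpen V) (a : Γ(X, V) ⟶ CommRingCat.of B) (x : X) (hx : x ∈ V) :
    (Spec.map a ≫ hV.fromSpec).base (IsLocalRing.closedPoint B) = x ↔
      (IsLocalRing.maximalIdeal B).comap a.hom = (hV.primeIdealOf ⟨x, hx⟩).asIdeal := by
  constructor
  · intro h
    have h2 : hV.fromSpec.base ((Spec.map a).base (closedPoint B)) =
        hV.fromSpec.base (hV.primeIdealOf ⟨x, hx⟩) := by
      rw [hV.fromSpec_primeIdealOf ⟨x, hx⟩]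
      exact h
    have h3 := hV.fromSpec.isOpenEmbedding.injective h2
    exact congr(($h3).asIdeal)
  · intro h
    have h3 : (Spec.map a).base (closedPoint B) = hV.primeIdealOf ⟨x, hx⟩ :=
      PrimeSpectrum.ext h
    show hV.fromSpec.base ((Spec.map a).base (closedPoint B)) = x
    rw [h3, hV.fromSpec_primeIdealOf ⟨x, hx⟩]

theorem ring_forward {R S : Type u} [CommRing R] [CommRing S] [Algebra R S] (q : Ideal S) [q.IsPrime]
    (hsm : Algebra.IsSmoothAt R q) (B B' : Type u) [CommRing B] [CommRing B'] [IsLocalRing B]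
    [IsLocalRing B'] (φ : B' →+* B)
    (hφ : Function.Surjective φ) (hker : RingHom.ker φ ^ 2 = ⊥)
    (a : S →+* B) (b : R →+* B') (ha : (maximalIdeal B).comap a = q)
    (hab : φ.comp b = a.comp (algebraMap R S)) :
    ∃ c : S →+* B', φ.comp c = a ∧ c.comp (algebraMap R S) = b := by
  letI : Algebra R B' := b.toAlgebra
  letI : Algebra R B := (φ.comp b).toAlgebra
  let π : B' →ₐ[R] B := { toRingHom := φ, commutes' := fun r => rfl }
  let g : S →ₐ[R] B := { toRingHom := a, commutes' := fun r => (congr($hab r)).symm }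
  haveI : Algebra.FormallySmooth R (Localization.AtPrime q) := hsm
  have hunit : ∀ y : q.primeCompl, IsUnit (g y) := by
    intro y
    by_contra hy
    have : (y : S) ∈ (maximalIdeal B).comap a := (mem_maximalIdeal _).mpr hy
    rw [ha] at this
    exact y.2 this
  let ĝ : Localization.AtPrime q →ₐ[R] B :=
    IsLocalization.liftAlgHom (M := q.primeCompl) (f := g) hunit
  have hπ : Function.Surjective π := hφ
  have hnil : IsNilpotent (RingHom.ker (π : B' →+* B)) := ⟨2, hker⟩
  let G := Algebra.FormallySmooth.liftOfSurjective ĝ π hπ hnil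
  have hG : π.comp G = ĝ := Algebra.FormallySmooth.comp_liftOfSurjective ĝ π hπ hnil
  refine ⟨(G : Localization.AtPrime q →+* B').comp (algebraMap S (Localization.AtPrime q)), ?_, ?_⟩
  · ext s
    have := congr($hG (algebraMap S (Localization.AtPrime q) s))
    simpa [ĝ, π, g] using this
  · ext r
    show G (algebraMap S (Localization.AtPrime q) (algebraMap R S r)) = b r
    rw [← IsScalarTower.algebraMap_apply R S (Localization.AtPrime q), G.commutes]
    rfl

theorem core {R P T : Type u} [CommRing R] [CommRing P] [CommRing T] [Algebra R P] [Algebra R T]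
    [IsLocalRing P] [Nontrivial T] (σA : P →ₐ[R] T) (hσA : Function.Surjective σA) :
    ∃ (_ : IsLocalRing (P ⧸ RingHom.ker σA.toRingHom ^ 2)),
      Function.Surjective σA.kerSquareLift ∧
      RingHom.ker (σA.kerSquareLift : (P ⧸ RingHom.ker σA.toRingHom ^ 2) →+* T) ^ 2 = ⊥ := by
  have hJtop : RingHom.ker σA.toRingHom ^ 2 ≠ ⊤ := by
    intro h
    have h1 : (1 : P) ∈ RingHom.ker σA.toRingHom :=
      Ideal.pow_le_self two_ne_zero (h ▸ Submodule.mem_top)
    rw [RingHom.mem_ker, map_one] at h1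
    exact one_ne_zero h1
  haveI : Nontrivial (P ⧸ RingHom.ker σA.toRingHom ^ 2) := Ideal.Quotient.nontrivial_iff.mpr hJtop
  refine ⟨IsLocalRing.of_surjective' (Ideal.Quotient.mk _) Ideal.Quotient.mk_surjective,
    Ideal.Quotient.lift_surjective_of_surjective _ _ hσA, ?_⟩
  show RingHom.ker σA.kerSquareLift.toRingHom ^ 2 = ⊥
  rw [AlgHom.ker_kerSquareLift, Ideal.cotangentIdeal_square]

theorem core2 {R S P T : Type u} [CommRing R] [CommRing S] [CommRing P] [CommRing T]
    [Algebra R S] [Algebra R P] [Algebra R T] [Algebra S T] [IsScalarTower R S T]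
    [IsLocalRing P] [IsLocalRing T] [Algebra.FormallySmooth R P]
    (q : Ideal S) [q.IsPrime] [IsLocalization.AtPrime T q]
    (σA : P →ₐ[R] T) (hσA : Function.Surjective σA)
    (H : ∀ (B B' : Type u) [CommRing B] [CommRing B'] [IsLocalRing B] [IsLocalRing B']
      (φ : B' →+* B), Function.Surjective φ → RingHom.ker φ ^ 2 = ⊥ →
      ∀ (a : S →+* B) (b : R →+* B'), (maximalIdeal B).comap a = q →
        φ.comp b = a.comp (algebraMap R S) →
        ∃ c : S →+* B', φ.comp c = a ∧ c.comp (algebraMap R S) = b) :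
    Algebra.FormallySmooth R T := by
  obtain ⟨hloc, hΦ, hΦker⟩ := core σA hσA
  obtain ⟨c, hc1, hc2⟩ := H T (P ⧸ RingHom.ker σA.toRingHom ^ 2)
    (σA.kerSquareLift : (P ⧸ RingHom.ker σA.toRingHom ^ 2) →+* T)
    hΦ hΦker (algebraMap S T) (algebraMap R (P ⧸ RingHom.ker σA.toRingHom ^ 2))
    (IsLocalization.AtPrime.comap_maximalIdeal T q)
    (by
      ext r
      show σA.kerSquareLift (algebraMap R _ r) = algebraMap S T (algebraMap R S r)
      rw [σA.kerSquareLift.commutes, ← IsScalarTower.algebraMap_apply])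
  haveI hΦloc : IsLocalHom (σA.kerSquareLift : (P ⧸ RingHom.ker σA.toRingHom ^ 2) →+* T) :=
    IsLocalHom.of_surjective _ hΦ
  let cA : S →ₐ[R] (P ⧸ RingHom.ker σA.toRingHom ^ 2) :=
    { toRingHom := c, commutes' := fun r => congr($hc2 r) }
  have hunit : ∀ y : q.primeCompl, IsUnit (cA y) := by
    intro y
    have h1 : IsUnit (algebraMap S T (y : S)) := IsLocalization.map_units T y
    have h2 : σA.kerSquareLift (c y) = algebraMap S T y := congr($hc1 y)
    rw [← h2] at h1
    exact isUnit_of_map_unit (σA.kerSquareLift : (P ⧸ RingHom.ker σA.toRingHom ^ 2) →+* T) _ h1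
  let ĉ : T →ₐ[R] (P ⧸ RingHom.ker σA.toRingHom ^ 2) :=
    IsLocalization.liftAlgHom (M := q.primeCompl) (f := cA) hunit
  refine Algebra.FormallySmooth.of_split σA ĉ ?_
  apply AlgHom.coe_ringHom_injective
  refine IsLocalization.ringHom_ext q.primeCompl ?_
  ext s
  show σA.kerSquareLift (ĉ (algebraMap S _ s)) = algebraMap S _ s
  have : ĉ (algebraMap S _ s) = c s := by
    show IsLocalization.lift (M := q.primeCompl) (g := (cA : S →+* (P ⧸ RingHom.ker σA.toRingHom ^ 2))) hunit (algebraMap S T s) = c s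
    rw [IsLocalization.lift_eq]
    rfl
  rw [this]
  exact congr($hc1 s)

theorem ring_backward {R S : Type u} [CommRing R] [CommRing S] [Algebra R S]
    [Algebra.FiniteType R S] (q : Ideal S) [q.IsPrime]
    (H : ∀ (B B' : Type u) [CommRing B] [CommRing B'] [IsLocalRing B] [IsLocalRing B']
      (φ : B' →+* B), Function.Surjective φ → RingHom.ker φ ^ 2 = ⊥ →
      ∀ (a : S →+* B) (b : R →+* B'), (maximalIdeal B).comap a = q →
        φ.comp b = a.comp (algebraMap R S) →
        ∃ c : S →+* B', φ.comp c = a ∧ c.comp (algebraMap R S) = b) :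
    Algebra.IsSmoothAt R q := by
  obtain ⟨n, ψ, hψ⟩ := (Algebra.FiniteType.iff_quotient_mvPolynomial''
    (R := R) (S := S)).mp inferInstance
  let Q : Ideal (MvPolynomial (Fin n) R) := q.comap (ψ : MvPolynomial (Fin n) R →+* S)
  haveI : Q.IsPrime := Ideal.comap_isPrime _ _
  let σ : Localization.AtPrime Q →+* Localization.AtPrime q :=
    Localization.localRingHom Q q (ψ : MvPolynomial (Fin n) R →+* S) rfl
  have hσ : Function.Surjective σ := by
    intro z
    obtain ⟨s, t, rfl⟩ := IsLocalization.exists_mk'_eq q.primeCompl z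
    obtain ⟨a, rfl⟩ := hψ s
    obtain ⟨b, hb⟩ := hψ t.1
    have hbQ : b ∈ Q.primeCompl := by
      show b ∉ Q
      intro hbq
      apply t.2
      rw [← hb]
      exact hbq
    refine ⟨IsLocalization.mk' _ a ⟨b, hbQ⟩, ?_⟩
    rw [Localization.localRingHom_mk']
    congr 1
    exact Subtype.ext hb
  have hσR : ∀ r : R, σ (algebraMap R (Localization.AtPrime Q) r) =
      algebraMap R (Localization.AtPrime q) r := by
    intro r
    rw [IsScalarTower.algebraMap_apply R (MvPolynomial (Fin n) R) (Localization.AtPrime Q),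
        Localization.localRingHom_to_map,
        IsScalarTower.algebraMap_apply R S (Localization.AtPrime q)]
    simp
  let σA : Localization.AtPrime Q →ₐ[R] Localization.AtPrime q :=
    { toRingHom := σ, commutes' := hσR }
  have hσA : Function.Surjective σA := hσ
  haveI : Algebra.FormallySmooth R (Localization.AtPrime Q) :=
    Algebra.FormallySmooth.comp R (MvPolynomial (Fin n) R) (Localization.AtPrime Q)
  exact core2 q σA hσA H

theorem scheme_forward {X Y : Scheme.{u}} (f : X ⟶ Y) [LocallyOfFinitePresentation f] (x : X)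
    (hx : x ∈ f.smoothLocus)
    (B B' : Type u) [CommRing B] [CommRing B'] [IsLocalRing B] [IsLocalRing B'] (φ : B' →+* B)
    (hφ : Function.Surjective φ) (hker : RingHom.ker φ ^ 2 = ⊥)
    (α : Spec (CommRingCat.of B) ⟶ X) (β : Spec (CommRingCat.of B') ⟶ Y)
    (hα : α.base (IsLocalRing.closedPoint B) = x)
    (hαβ : Spec.map (CommRingCat.ofHom φ) ≫ β = α ≫ f) :
    ∃ γ : Spec (CommRingCat.of B') ⟶ X, Spec.map (CommRingCat.ofHom φ) ≫ γ = α ∧ γ ≫ f = β := by
  obtain ⟨_, ⟨U, hU, rfl⟩, hxU, -⟩ :=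
    Y.isBasis_affineOpens.exists_subset_of_mem_open (Set.mem_univ (f x)) isOpen_univ
  obtain ⟨_, ⟨V, hV, rfl⟩, hxV, hVU⟩ :=
    X.isBasis_affineOpens.exists_subset_of_mem_open hxU (U.2.preimage f.continuous)
  haveI : IsLocalHom (CommRingCat.ofHom φ).hom := IsLocalHom.of_surjective φ hφ
  have hβpt : β.base (closedPoint B') = f.base x := by
    have h1 : (Spec.map (CommRingCat.ofHom φ)).base (closedPoint B) = closedPoint B' :=
      Spec_closedPoint (f := CommRingCat.ofHom φ)
    rw [← h1, ← Scheme.Hom.comp_apply, hαβ, Scheme.Hom.comp_apply, hα]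
  obtain ⟨a, ha⟩ := exists_factor α hV (hα ▸ hxV)
  obtain ⟨b, hb⟩ := exists_factor β hU (hβpt ▸ hxU)
  have hab : b ≫ CommRingCat.ofHom φ = f.appLE U V hVU ≫ a := by
    apply Spec.map_injective
    rw [← cancel_mono hU.fromSpec, Spec.map_comp, Spec.map_comp, Category.assoc, Category.assoc,
      ← hb, hαβ, ha, Category.assoc, IsAffineOpen.SpecMap_appLE_fromSpec]
  letI := (f.appLE U V hVU).hom.toAlgebra
  have hsm : Algebra.IsSmoothAt Γ(Y, U) (hV.primeIdealOf ⟨x, hxV⟩).asIdeal :=
    (formallySmooth_stalkMap_iff U hU V hV hVU hxV).mp hx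
  obtain ⟨c, hc1, hc2⟩ := ring_forward (hV.primeIdealOf ⟨x, hxV⟩).asIdeal hsm B B' φ hφ hker
    a.hom b.hom ((point_iff hV a x hxV).mp (ha ▸ hα)) (congr(($hab).hom))
  refine ⟨Spec.map (CommRingCat.ofHom c) ≫ hV.fromSpec, ?_, ?_⟩
  · rw [ha, ← Category.assoc, ← Spec.map_comp]
    congr 2
    ext t
    exact congr($hc1 t)
  · rw [hb, Category.assoc, ← IsAffineOpen.SpecMap_appLE_fromSpec f hU hV hVU, ← Category.assoc,
      ← Spec.map_comp]
    congr 2
    ext t
    exact congr($hc2 t)

theorem scheme_backward {X Y : Scheme.{u}} (f : X ⟶ Y) [LocallyOfFinitePresentation f] (x : X)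
    (H : ∀ (B B' : Type u) [CommRing B] [CommRing B'] [IsLocalRing B] [IsLocalRing B'] (φ : B' →+* B),
      Function.Surjective φ → RingHom.ker φ ^ 2 = ⊥ →
      ∀ (α : Spec (CommRingCat.of B) ⟶ X) (β : Spec (CommRingCat.of B') ⟶ Y),
        α.base (IsLocalRing.closedPoint B) = x → Spec.map (CommRingCat.ofHom φ) ≫ β = α ≫ f →
        ∃ γ : Spec (CommRingCat.of B') ⟶ X, Spec.map (CommRingCat.ofHom φ) ≫ γ = α ∧ γ ≫ f = β) :
    x ∈ f.smoothLocus := by
  obtain ⟨_, ⟨U, hU, rfl⟩, hxU, -⟩ :=
    Y.isBasis_affineOpens.exists_subset_of_mem_open (Set.mem_univ (f x)) isOpen_univ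
  obtain ⟨_, ⟨V, hV, rfl⟩, hxV, hVU⟩ :=
    X.isBasis_affineOpens.exists_subset_of_mem_open hxU (U.2.preimage f.continuous)
  have hfp := f.finitePresentation_appLE hU hV hVU
  letI := (f.appLE U V hVU).hom.toAlgebra
  haveI : Algebra.FinitePresentation Γ(Y, U) Γ(X, V) := hfp
  haveI : Algebra.FiniteType Γ(Y, U) Γ(X, V) := inferInstance
  rw [Scheme.Hom.mem_smoothLocus, formallySmooth_stalkMap_iff U hU V hV hVU hxV]
  show Algebra.IsSmoothAt Γ(Y, U) (hV.primeIdealOf ⟨x, hxV⟩).asIdeal
  apply ring_backward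
  intro B B' _ _ _ _ φ hφ hker a b ha hab
  haveI : IsLocalHom (CommRingCat.ofHom φ).hom := IsLocalHom.of_surjective φ hφ
  obtain ⟨γ, h1, h2⟩ := H B B' φ hφ hker (Spec.map (CommRingCat.ofHom a) ≫ hV.fromSpec)
    (Spec.map (CommRingCat.ofHom b) ≫ hU.fromSpec) ((point_iff hV _ x hxV).mpr ha) (by
      rw [Category.assoc, ← IsAffineOpen.SpecMap_appLE_fromSpec f hU hV hVU, ← Category.assoc,
        ← Category.assoc, ← Spec.map_comp, ← Spec.map_comp]
      congr 2
      ext t
      exact congr($hab t))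
  have hγpt : γ.base (closedPoint B') = x := by
    have h3 : (Spec.map (CommRingCat.ofHom φ)).base (closedPoint B) = closedPoint B' :=
      Spec_closedPoint (f := CommRingCat.ofHom φ)
    rw [← h3, ← Scheme.Hom.comp_apply, h1]
    exact (point_iff hV _ x hxV).mpr ha
  obtain ⟨c, hc⟩ := exists_factor γ hV (hγpt ▸ hxV)
  refine ⟨c.hom, ?_, ?_⟩
  · have : c ≫ CommRingCat.ofHom φ = CommRingCat.ofHom a := by
      apply Spec.map_injective
      rw [← cancel_mono hV.fromSpec, Spec.map_comp, Category.assoc, ← hc, h1]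
    exact congr(($this).hom)
  · have : f.appLE U V hVU ≫ c = CommRingCat.ofHom b := by
      apply Spec.map_injective
      rw [← cancel_mono hU.fromSpec, Spec.map_comp, Category.assoc,
        IsAffineOpen.SpecMap_appLE_fromSpec f hU hV hVU, ← Category.assoc, ← hc, h2]
    exact congr(($this).hom)

end Helpers

/-- Let f : X ⟶ Y be locally of finite presentation and x a point of X. Then f is smooth at x if and
only if for every surjection of local rings B' → B with square-zero kernel, every morphism Spec B ⟶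
X sending the closed point to x and every morphism Spec B' ⟶ Y making the square commute, there is a
lift Spec B' ⟶ X compatible with both. (No Noetherian hypothesis on Y.) -/
theorem result {X Y : Scheme.{u}} (f : X ⟶ Y)
    [LocallyOfFinitePresentation f] (x : ↥X) :
    x ∈ f.smoothLocus ↔ ∀ (B B' : Type u) [CommRing B] [CommRing B'] [IsLocalRing B] [IsLocalRing B'] (φ : B' →+* B),
      Function.Surjective φ → RingHom.ker φ ^ 2 = ⊥ →
      ∀ (α : Spec (CommRingCat.of B) ⟶ X) (β : Spec (CommRingCat.of B') ⟶ Y),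
        α.base (IsLocalRing.closedPoint B) = x → Spec.map (CommRingCat.ofHom φ) ≫ β = α ≫ f →
        ∃ γ : Spec (CommRingCat.of B') ⟶ X, Spec.map (CommRingCat.ofHom φ) ≫ γ = α ∧ γ ≫ f = β := by
  constructor
  · intro hx B B' _ _ _ _ φ hφ hker α β hα hαβ
    exact scheme_forward f x hx B B' φ hφ hker α β hα hαβ
  · intro H
    exact scheme_backward f x H

end Groth.Agent.S5008
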