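import Groth.Statements.S5009
import Groth.Agent.S5008
import Groth.Agent.Lib.Helper35.ArtinLift
import Groth.Agent.Lib.Helper35.StalkChart
import Groth.Agent.Lib.Helper35.EtaleLocalScheme

set_option autoImplicit false
universe u
open CategoryTheory CategoryTheory.Limits AlgebraicGeometry TopologicalSpace
open Unram17

namespace Groth.Agent.S5009

section Helpers
open IsLocalRing TensorProduct Groth.Agent.Lib.Helper35

theorem ring_forward {R S : Type u} [CommRing R] [CommRing S] [Algebra R S] (q : Ideal S) [q.IsPrime]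
    (hun : Algebra.IsUnramifiedAt R q) (B B' : Type u) [CommRing B] [CommRing B'] [IsLocalRing B]
    [IsLocalRing B'] (φ : B' →+* B)
    (hφ : Function.Surjective φ) (hker : RingHom.ker φ ^ 2 = ⊥)
    (a : S →+* B) (b : R →+* B') (ha : (maximalIdeal B).comap a = q)
    (c₁ c₂ : S →+* B') (h1 : φ.comp c₁ = a) (h1' : c₁.comp (algebraMap R S) = b)
    (h2 : φ.comp c₂ = a) (h2' : c₂.comp (algebraMap R S) = b) : c₁ = c₂ := by
  letI : Algebra R B' := b.toAlgebra
  haveI : Algebra.FormallyUnramified R (Localization.AtPrime q) := hun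
  haveI : IsLocalHom φ := IsLocalHom.of_surjective φ hφ
  let C₁ : S →ₐ[R] B' := { toRingHom := c₁, commutes' := fun r => congr($h1' r) }
  let C₂ : S →ₐ[R] B' := { toRingHom := c₂, commutes' := fun r => congr($h2' r) }
  have hunit : ∀ (c : S →+* B'), φ.comp c = a → ∀ y : q.primeCompl, IsUnit (c y) := by
    intro c hc y
    have hu : IsUnit (a y) := by
      by_contra hy
      have : (y : S) ∈ (maximalIdeal B).comap a := (mem_maximalIdeal _).mpr hy
      rw [ha] at this
      exact y.2 this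
    have : φ (c y) = a y := congr($hc y)
    rw [← this] at hu
    exact isUnit_of_map_unit φ _ hu
  let Ĉ₁ : Localization.AtPrime q →ₐ[R] B' :=
    IsLocalization.liftAlgHom (M := q.primeCompl) (f := C₁) (hunit c₁ h1)
  let Ĉ₂ : Localization.AtPrime q →ₐ[R] B' :=
    IsLocalization.liftAlgHom (M := q.primeCompl) (f := C₂) (hunit c₂ h2)
  have hĈ₁ : ∀ s : S, Ĉ₁ (algebraMap S _ s) = c₁ s := fun s => by
    show IsLocalization.lift (M := q.primeCompl) (g := (C₁ : S →+* B')) (hunit c₁ h1)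
      (algebraMap S _ s) = c₁ s
    rw [IsLocalization.lift_eq]
    rfl
  have hĈ₂ : ∀ s : S, Ĉ₂ (algebraMap S _ s) = c₂ s := fun s => by
    show IsLocalization.lift (M := q.primeCompl) (g := (C₂ : S →+* B')) (hunit c₂ h2)
      (algebraMap S _ s) = c₂ s
    rw [IsLocalization.lift_eq]
    rfl
  have key : Ĉ₁ = Ĉ₂ := by
    refine Algebra.FormallyUnramified.lift_unique_of_ringHom φ ⟨2, hker⟩ Ĉ₁ Ĉ₂ ?_
    refine IsLocalization.ringHom_ext q.primeCompl ?_
    ext s
    show φ (Ĉ₁ (algebraMap S _ s)) = φ (Ĉ₂ (algebraMap S _ s))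
    rw [hĈ₁, hĈ₂]
    exact (congr($h1 s)).trans (congr($h2 s)).symm
  ext s
  rw [← hĈ₁, ← hĈ₂, key]

theorem formallyUnramified_of_derivation_eq_zero {A B : Type u} [CommRing A] [CommRing B]
    [IsLocalRing B] [Algebra A B] [Algebra.EssFiniteType A B]
    (H : ∀ D : Derivation A B (ResidueField B), D = 0) : Algebra.FormallyUnramified A B := by
  have hl : ∀ l : Ω[B⁄A] →ₗ[B] ResidueField B, l = 0 := by
    intro l
    apply (KaehlerDifferential.linearMapEquivDerivation A B).injective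
    rw [H (KaehlerDifferential.linearMapEquivDerivation A B l), map_zero]
  have hdual : ∀ ψ : Module.Dual (ResidueField B) (ResidueField B ⊗[B] Ω[B⁄A]), ψ = 0 := by
    intro ψ
    have h1 : ψ.restrictScalars B = 0 := by
      apply TensorProduct.ext'
      intro k ω
      have h2 : (ψ.restrictScalars B) ∘ₗ (TensorProduct.mk B (ResidueField B) Ω[B⁄A] 1) = 0 := hl _
      have h3 : ψ (1 ⊗ₜ ω) = 0 := congr($h2 ω)
      have h4 : k ⊗ₜ[B] ω = k • ((1 : ResidueField B) ⊗ₜ[B] ω) := by
        rw [TensorProduct.smul_tmul', smul_eq_mul, mul_one]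
      simp only [LinearMap.restrictScalars_apply, LinearMap.zero_apply]
      rw [h4, map_smul, h3, smul_zero]
    exact LinearMap.ext fun v => congr($h1 v)
  have hsub : Subsingleton (ResidueField B ⊗[B] Ω[B⁄A]) := by
    refine ⟨fun v w => ?_⟩
    have hv : ∀ v : ResidueField B ⊗[B] Ω[B⁄A], v = 0 := fun v =>
      (Module.forall_dual_apply_eq_zero_iff (ResidueField B) v).mp (fun ψ => by rw [hdual ψ]; rfl)
    rw [hv v, hv w]
  exact ⟨IsLocalRing.subsingleton_tensorProduct.mp hsub⟩

open TrivSqZeroExt in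
theorem ring_backward {R S : Type u} [CommRing R] [CommRing S] [Algebra R S]
    [Algebra.FiniteType R S] (q : Ideal S) [q.IsPrime]
    (H : ∀ (B B' : Type u) [CommRing B] [CommRing B'] [IsLocalRing B] [IsLocalRing B']
      (φ : B' →+* B), Function.Surjective φ → RingHom.ker φ ^ 2 = ⊥ →
      ∀ (a : S →+* B) (b : R →+* B'), (maximalIdeal B).comap a = q →
        φ.comp b = a.comp (algebraMap R S) →
        ∀ c₁ c₂ : S →+* B', φ.comp c₁ = a → c₁.comp (algebraMap R S) = b →
          φ.comp c₂ = a → c₂.comp (algebraMap R S) = b → c₁ = c₂) :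
    Algebra.IsUnramifiedAt R q := by
  show Algebra.FormallyUnramified R (Localization.AtPrime q)
  haveI : Algebra.EssFiniteType R (Localization.AtPrime q) :=
    Algebra.EssFiniteType.comp R S (Localization.AtPrime q)
  apply formallyUnramified_of_derivation_eq_zero
  intro D
  obtain ⟨T, hT⟩ : ∃ T : Type u, T = Localization.AtPrime q := ⟨_, rfl⟩
  let κ := ResidueField (Localization.AtPrime q)
  let g₁ : Localization.AtPrime q →+* DualNumber κ :=
    (TrivSqZeroExt.inlHom κ κ).comp (residue (Localization.AtPrime q))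
  let g₂ : Localization.AtPrime q →+* DualNumber κ := derivToDual D
  let φ : DualNumber κ →+* κ := (TrivSqZeroExt.fstHom κ κ κ : DualNumber κ →+* κ)
  have hφ : Function.Surjective φ := fun k => ⟨TrivSqZeroExt.inl k, rfl⟩
  have hker : RingHom.ker φ ^ 2 = ⊥ := by
    rw [eq_bot_iff, pow_two]
    refine Ideal.mul_le.mpr fun x hx y hy => ?_
    rw [RingHom.mem_ker] at hx hy
    have hx' : x.fst = 0 := hx
    have hy' : y.fst = 0 := hy
    rw [Ideal.mem_bot]
    ext <;> simp [hx', hy']
  have hc := H κ (DualNumber κ) φ hφ hker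
    ((residue (Localization.AtPrime q)).comp (algebraMap S (Localization.AtPrime q)))
    (g₁.comp (algebraMap R (Localization.AtPrime q)))
    (by
      rw [← Ideal.comap_comap, IsLocalRing.maximalIdeal_comap (residue (Localization.AtPrime q))]
      exact IsLocalization.AtPrime.comap_maximalIdeal (Localization.AtPrime q) q)
    (by
      ext r
      show (g₁ (algebraMap R _ r)).fst = residue _ (algebraMap S _ (algebraMap R S r))
      rw [← IsScalarTower.algebraMap_apply]
      rfl)
    (g₁.comp (algebraMap S (Localization.AtPrime q)))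
    (g₂.comp (algebraMap S (Localization.AtPrime q)))
    rfl
    (by
      refine RingHom.ext fun r => ?_
      show g₁ (algebraMap S _ (algebraMap R S r)) = g₁ (algebraMap R _ r)
      rw [← IsScalarTower.algebraMap_apply])
    (by
      ext s
      show (g₂ (algebraMap S _ s)).fst = residue _ (algebraMap S _ s)
      simp [g₂, derivToDual])
    (by
      refine RingHom.ext fun r => ?_
      show g₂ (algebraMap S _ (algebraMap R S r)) = g₁ (algebraMap R _ r)
      rw [← IsScalarTower.algebraMap_apply]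
      ext <;> simp [g₁, g₂, derivToDual])
  have hDS : ∀ s : S, D (algebraMap S _ s) = 0 := by
    intro s
    have h3 := congr(TrivSqZeroExt.snd ($hc s))
    simpa [g₁, g₂, derivToDual] using h3.symm
  ext t
  obtain ⟨s, u, rfl⟩ := IsLocalization.exists_mk'_eq q.primeCompl t
  have h4 : algebraMap S (Localization.AtPrime q) u * IsLocalization.mk' _ s u =
      algebraMap S _ s := by
    rw [mul_comm, IsLocalization.mk'_spec]
  have h5 := congr(D $h4)
  rw [Derivation.leibniz, hDS, hDS, smul_zero, add_zero] at h5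
  have hu : IsUnit (algebraMap S (Localization.AtPrime q) (u : S)) :=
    IsLocalization.map_units _ u
  have h6 : IsUnit (residue _ (algebraMap S (Localization.AtPrime q) (u : S))) := hu.map _
  have h7 : residue _ (algebraMap S (Localization.AtPrime q) (u : S)) *
      D (IsLocalization.mk' (Localization.AtPrime q) s u) = 0 := h5
  simpa using (h6.mul_right_eq_zero).mp h7

theorem scheme_forward {X Y : Scheme.{u}} (f : X ⟶ Y) [LocallyOfFinitePresentation f] (x : X)
    (hx : (f.stalkMap x).hom.FormallyUnramified)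
    (B B' : Type u) [CommRing B] [CommRing B'] [IsLocalRing B] [IsLocalRing B'] (φ : B' →+* B)
    (hφ : Function.Surjective φ) (hker : RingHom.ker φ ^ 2 = ⊥)
    (α : Spec (CommRingCat.of B) ⟶ X) (β : Spec (CommRingCat.of B') ⟶ Y)
    (hα : α.base (IsLocalRing.closedPoint B) = x)
    (hαβ : Spec.map (CommRingCat.ofHom φ) ≫ β = α ≫ f)
    (γ₁ γ₂ : Spec (CommRingCat.of B') ⟶ X)
    (h1 : Spec.map (CommRingCat.ofHom φ) ≫ γ₁ = α) (h1' : γ₁ ≫ f = β)
    (h2 : Spec.map (CommRingCat.ofHom φ) ≫ γ₂ = α) (h2' : γ₂ ≫ f = β) : γ₁ = γ₂ := by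
  obtain ⟨_, ⟨U, hU, rfl⟩, hxU, -⟩ :=
    Y.isBasis_affineOpens.exists_subset_of_mem_open (Set.mem_univ (f x)) isOpen_univ
  obtain ⟨_, ⟨V, hV, rfl⟩, hxV, hVU⟩ :=
    X.isBasis_affineOpens.exists_subset_of_mem_open hxU (U.2.preimage f.continuous)
  haveI : IsLocalHom (CommRingCat.ofHom φ).hom := IsLocalHom.of_surjective φ hφ
  have h3 : (Spec.map (CommRingCat.ofHom φ)).base (closedPoint B) = closedPoint B' :=
    Spec_closedPoint (f := CommRingCat.ofHom φ)
  have hβpt : β.base (closedPoint B') = f.base x := by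
    rw [← h3, ← Scheme.Hom.comp_apply, hαβ, Scheme.Hom.comp_apply, hα]
  have hγ₁pt : γ₁.base (closedPoint B') = x := by
    rw [← h3, ← Scheme.Hom.comp_apply, h1, hα]
  have hγ₂pt : γ₂.base (closedPoint B') = x := by
    rw [← h3, ← Scheme.Hom.comp_apply, h2, hα]
  obtain ⟨a, ha⟩ := Groth.Agent.S5008.exists_factor α hV (hα ▸ hxV)
  obtain ⟨b, hb⟩ := Groth.Agent.S5008.exists_factor β hU (hβpt ▸ hxU)
  obtain ⟨c₁, hc₁⟩ := Groth.Agent.S5008.exists_factor γ₁ hV (hγ₁pt ▸ hxV)
  obtain ⟨c₂, hc₂⟩ := Groth.Agent.S5008.exists_factor γ₂ hV (hγ₂pt ▸ hxV)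
  have e1 : ∀ (γ : Spec (CommRingCat.of B') ⟶ X) (c : Γ(X, V) ⟶ CommRingCat.of B'),
      γ = Spec.map c ≫ hV.fromSpec → Spec.map (CommRingCat.ofHom φ) ≫ γ = α →
      c ≫ CommRingCat.ofHom φ = a := by
    intro γ c hc h
    apply Spec.map_injective
    rw [← cancel_mono hV.fromSpec, Spec.map_comp, Category.assoc, ← hc, h, ha]
  have e2 : ∀ (γ : Spec (CommRingCat.of B') ⟶ X) (c : Γ(X, V) ⟶ CommRingCat.of B'),
      γ = Spec.map c ≫ hV.fromSpec → γ ≫ f = β →
      f.appLE U V hVU ≫ c = b := by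
    intro γ c hc h
    apply Spec.map_injective
    rw [← cancel_mono hU.fromSpec, Spec.map_comp, Category.assoc,
      IsAffineOpen.SpecMap_appLE_fromSpec f hU hV hVU, ← Category.assoc, ← hc, h, hb]
  letI := (f.appLE U V hVU).hom.toAlgebra
  have hun : Algebra.IsUnramifiedAt Γ(Y, U) (hV.primeIdealOf ⟨x, hxV⟩).asIdeal :=
    (formallyUnramified_stalkMap_iff U hU V hV hVU hxV).mp hx
  have key := ring_forward (hV.primeIdealOf ⟨x, hxV⟩).asIdeal hun B B' φ hφ hker
    a.hom b.hom ((Groth.Agent.S5008.point_iff hV a x hxV).mp (ha ▸ hα)) c₁.hom c₂.hom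
    (congr(($(e1 γ₁ c₁ hc₁ h1)).hom)) (congr(($(e2 γ₁ c₁ hc₁ h1')).hom))
    (congr(($(e1 γ₂ c₂ hc₂ h2)).hom)) (congr(($(e2 γ₂ c₂ hc₂ h2')).hom))
  have : c₁ = c₂ := CommRingCat.hom_ext key
  rw [hc₁, hc₂, this]

theorem scheme_backward {X Y : Scheme.{u}} (f : X ⟶ Y) [LocallyOfFinitePresentation f] (x : X)
    (H : ∀ (B B' : Type u) [CommRing B] [CommRing B'] [IsLocalRing B] [IsLocalRing B'] (φ : B' →+* B),
      Function.Surjective φ → RingHom.ker φ ^ 2 = ⊥ →
      ∀ (α : Spec (CommRingCat.of B) ⟶ X) (β : Spec (CommRingCat.of B') ⟶ Y),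
        α.base (IsLocalRing.closedPoint B) = x → Spec.map (CommRingCat.ofHom φ) ≫ β = α ≫ f →
        ∀ γ₁ γ₂ : Spec (CommRingCat.of B') ⟶ X,
          Spec.map (CommRingCat.ofHom φ) ≫ γ₁ = α → γ₁ ≫ f = β →
          Spec.map (CommRingCat.ofHom φ) ≫ γ₂ = α → γ₂ ≫ f = β → γ₁ = γ₂) :
    (f.stalkMap x).hom.FormallyUnramified := by
  obtain ⟨_, ⟨U, hU, rfl⟩, hxU, -⟩ :=
    Y.isBasis_affineOpens.exists_subset_of_mem_open (Set.mem_univ (f x)) isOpen_univ
  obtain ⟨_, ⟨V, hV, rfl⟩, hxV, hVU⟩ :=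
    X.isBasis_affineOpens.exists_subset_of_mem_open hxU (U.2.preimage f.continuous)
  have hfp := f.finitePresentation_appLE hU hV hVU
  letI := (f.appLE U V hVU).hom.toAlgebra
  haveI : Algebra.FinitePresentation Γ(Y, U) Γ(X, V) := hfp
  haveI : Algebra.FiniteType Γ(Y, U) Γ(X, V) := inferInstance
  rw [formallyUnramified_stalkMap_iff U hU V hV hVU hxV]
  apply ring_backward
  intro B B' _ _ _ _ φ hφ hker a b ha hab c₁ c₂ h1 h1' h2 h2'
  have e1 : ∀ c : Γ(X, V) →+* B', φ.comp c = a →
      Spec.map (CommRingCat.ofHom φ) ≫ Spec.map (CommRingCat.ofHom c) ≫ hV.fromSpec =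
        Spec.map (CommRingCat.ofHom a) ≫ hV.fromSpec := by
    intro c hc
    rw [← Category.assoc, ← Spec.map_comp]
    congr 2
    ext t
    exact congr($hc t)
  have e2 : ∀ c : Γ(X, V) →+* B', c.comp (algebraMap Γ(Y, U) Γ(X, V)) = b →
      (Spec.map (CommRingCat.ofHom c) ≫ hV.fromSpec) ≫ f =
        Spec.map (CommRingCat.ofHom b) ≫ hU.fromSpec := by
    intro c hc
    rw [Category.assoc, ← IsAffineOpen.SpecMap_appLE_fromSpec f hU hV hVU, ← Category.assoc,
      ← Spec.map_comp]
    congr 2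
    ext t
    exact congr($hc t)
  have key := H B B' φ hφ hker (Spec.map (CommRingCat.ofHom a) ≫ hV.fromSpec)
    (Spec.map (CommRingCat.ofHom b) ≫ hU.fromSpec)
    ((Groth.Agent.S5008.point_iff hV _ x hxV).mpr ha) (by
      rw [Category.assoc, ← IsAffineOpen.SpecMap_appLE_fromSpec f hU hV hVU, ← Category.assoc,
        ← Category.assoc, ← Spec.map_comp, ← Spec.map_comp]
      congr 2
      ext t
      exact congr($hab t))
    (Spec.map (CommRingCat.ofHom c₁) ≫ hV.fromSpec) (Spec.map (CommRingCat.ofHom c₂) ≫ hV.fromSpec)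
    (e1 c₁ h1) (e2 c₁ h1') (e1 c₂ h2) (e2 c₂ h2')
  rw [cancel_mono] at key
  have := Spec.map_injective key
  exact congr(($this).hom)

end Helpers

/-- Let f : X ⟶ Y be locally of finite presentation and x a point of X. Then f is (formally) unramified
on an open neighbourhood of x if and only if for every surjection of local rings B' → B with
square-zero kernel, every morphism Spec B ⟶ X sending the closed point to x and every morphism Spec
B' ⟶ Y making the square commute, any two lifts Spec B' ⟶ X compatible with both are equal. -/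
theorem result {X Y : Scheme.{u}} (f : X ⟶ Y)
    [LocallyOfFinitePresentation f] (x : ↥X) :
    (∃ U : X.Opens, x ∈ U ∧ FormallyUnramified (U.ι ≫ f)) ↔
      ∀ (B B' : Type u) [CommRing B] [CommRing B'] [IsLocalRing B] [IsLocalRing B'] (φ : B' →+* B),
      Function.Surjective φ → RingHom.ker φ ^ 2 = ⊥ →
      ∀ (α : Spec (CommRingCat.of B) ⟶ X) (β : Spec (CommRingCat.of B') ⟶ Y),
        α.base (IsLocalRing.closedPoint B) = x → Spec.map (CommRingCat.ofHom φ) ≫ β = α ≫ f →
        ∀ γ₁ γ₂ : Spec (CommRingCat.of B') ⟶ X,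
          Spec.map (CommRingCat.ofHom φ) ≫ γ₁ = α → γ₁ ≫ f = β →
          Spec.map (CommRingCat.ofHom φ) ≫ γ₂ = α → γ₂ ≫ f = β → γ₁ = γ₂ := by
  constructor
  · rintro ⟨U, hxU, hU⟩ B B' _ _ _ _ φ hφ hker α β hα hαβ γ₁ γ₂ h1 h1' h2 h2'
    exact scheme_forward f x (Groth.Agent.Lib.Helper35.stalkMap_of_formallyUnramified_nhd f x U hxU) B B' φ hφ hker α β hα hαβ
      γ₁ γ₂ h1 h1' h2 h2'
  · intro H
    exact Groth.Agent.Lib.Helper35.exists_formallyUnramified_nhd_of_stalkMap f x (scheme_backward f x H)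

end Groth.Agent.S5009
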