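import Groth.Statements.S5010
import Mathlib
import Groth.Agent.S3807
-- import your own Groth.Agent.* helpers here

set_option autoImplicit false
universe u
open PP16
open scoped TensorProduct

namespace Groth.Agent.S5010

section aux

variable (A : Type u) [CommRing A] (σ : Type)

local notation "B" => MvPolynomial σ A

/-- `b ⊗ c ↦ C b * c(T + U)`. -/
noncomputable def Theta : B ⊗[A] B →ₐ[B] MvPolynomial σ B :=
  Algebra.TensorProduct.lift (Algebra.ofId B (MvPolynomial σ B))
    (MvPolynomial.aeval (fun i => MvPolynomial.C (MvPolynomial.X i : B) +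
      (MvPolynomial.X i : MvPolynomial σ B)))
    (fun _ _ => Commute.all _ _)

/-- `U_i ↦ 1 ⊗ T_i - T_i ⊗ 1`. -/
noncomputable def Xi : MvPolynomial σ B →ₐ[B] B ⊗[A] B :=
  MvPolynomial.aeval (fun i => (1 : B) ⊗ₜ[A] (MvPolynomial.X i : B) - (MvPolynomial.X i : B) ⊗ₜ[A] (1 : B))

theorem Theta_one_tmul_X (i : σ) :
    Theta A σ ((1 : B) ⊗ₜ[A] (MvPolynomial.X i : B)) =
      MvPolynomial.C (MvPolynomial.X i : B) + (MvPolynomial.X i : MvPolynomial σ B) := by
  simp [Theta, Algebra.TensorProduct.lift_tmul]

theorem Theta_tmul_one (b : B) :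
    Theta A σ (b ⊗ₜ[A] (1 : B)) = MvPolynomial.C b := by
  simp [Theta, Algebra.TensorProduct.lift_tmul, Algebra.ofId_apply, MvPolynomial.algebraMap_eq]

theorem Theta_Xi : (Theta A σ).comp (Xi A σ) = AlgHom.id B (MvPolynomial σ B) := by
  apply MvPolynomial.algHom_ext
  intro i
  simp [Xi, Theta_one_tmul_X, Theta_tmul_one]

theorem Xi_Theta : (Xi A σ).comp (Theta A σ) = AlgHom.id B (B ⊗[A] B) := by
  apply Algebra.TensorProduct.ext_ring
  apply MvPolynomial.algHom_ext
  intro i
  simp [Theta_one_tmul_X, Xi]

/-- The `B`-algebra isomorphism `B ⊗_A B ≃ B[U]`. -/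
noncomputable def ThetaEquiv : (B ⊗[A] B) ≃ₐ[B] MvPolynomial σ B :=
  AlgEquiv.ofAlgHom (Theta A σ) (Xi A σ) (Theta_Xi A σ) (Xi_Theta A σ)

theorem lmul_Xi (p : MvPolynomial σ B) :
    Algebra.TensorProduct.lmul' A (Xi A σ p) = MvPolynomial.constantCoeff p := by
  have : ((Algebra.TensorProduct.lmul' A : B ⊗[A] B →ₐ[A] B) : B ⊗[A] B →+* B).comp
      (Xi A σ : MvPolynomial σ B →+* B ⊗[A] B) = MvPolynomial.constantCoeff := by
    apply MvPolynomial.ringHom_ext
    · intro b
      simp [Xi]
    · intro i
      simp [Xi]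
  exact congrFun (congrArg DFunLike.coe this) p

theorem mem_ideal_iff (x : B ⊗[A] B) :
    x ∈ KaehlerDifferential.ideal A B ↔ Theta A σ x ∈ MvPolynomial.idealOfVars σ B := by
  have hx : x = Xi A σ (Theta A σ x) := by
    have := congrFun (congrArg DFunLike.coe (Xi_Theta A σ)) x
    simpa using this.symm
  have h1 : Theta A σ x ∈ MvPolynomial.idealOfVars σ B ↔
      MvPolynomial.constantCoeff (Theta A σ x) = 0 := by
    have := MvPolynomial.mem_pow_idealOfVars_iff' (σ := σ) (R := B) 1 (Theta A σ x)
    rw [pow_one] at this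
    rw [this]
    constructor
    · intro h
      have := h 0 (by simp)
      simpa [MvPolynomial.constantCoeff_eq] using this
    · intro h d hd
      have : d = 0 := by
        have : Finsupp.degree d = 0 := by omega
        exact (Finsupp.degree_eq_zero_iff d).mp this
      subst this
      simpa [MvPolynomial.constantCoeff_eq] using h
  rw [h1, ← lmul_Xi, ← hx]
  rfl

theorem ideal_map_eq :
    (KaehlerDifferential.ideal A B).map (ThetaEquiv A σ : B ⊗[A] B →+* MvPolynomial σ B) =
      MvPolynomial.idealOfVars σ B := by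
  apply le_antisymm
  · rw [Ideal.map_le_iff_le_comap]
    intro x hx
    exact (mem_ideal_iff A σ x).mp hx
  · intro p hp
    have hp' : p = Theta A σ (Xi A σ p) := by
      have := congrFun (congrArg DFunLike.coe (Theta_Xi A σ)) p
      simpa using this.symm
    rw [hp'] at hp ⊢
    exact Ideal.mem_map_of_mem _ ((mem_ideal_iff A σ _).mpr hp)

/-- `φ_B : B[U] → P^n_{B/A}`, `U_i ↦ d^n T_i - T_i`. -/
noncomputable def phiB (n : ℕ) : MvPolynomial σ B →ₐ[B] P n A B :=
  MvPolynomial.aeval (fun i => dn n A B (MvPolynomial.X i) - algebraMap B (P n A B) (MvPolynomial.X i))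

theorem phiB_eq (n : ℕ) (p : MvPolynomial σ B) :
    phiB A σ n p = Ideal.Quotient.mk _ (Xi A σ p) := by
  have : phiB A σ n = (Ideal.Quotient.mkₐ B ((KaehlerDifferential.ideal A B) ^ (n + 1))).comp (Xi A σ) := by
    apply MvPolynomial.algHom_ext
    intro i
    simp only [phiB, Xi, MvPolynomial.aeval_X, AlgHom.comp_apply, Ideal.Quotient.mkₐ_eq_mk, map_sub]
    rfl
  rw [this]
  rfl

theorem phiB_surjective (n : ℕ) : Function.Surjective (phiB A σ n) := by
  intro y
  obtain ⟨x, rfl⟩ := Ideal.Quotient.mk_surjective y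
  refine ⟨Theta A σ x, ?_⟩
  rw [phiB_eq]
  have := congrFun (congrArg DFunLike.coe (Xi_Theta A σ)) x
  simp only [AlgHom.comp_apply, AlgHom.id_apply] at this
  rw [this]

theorem phiB_eq_zero_iff (n : ℕ) (p : MvPolynomial σ B) :
    phiB A σ n p = 0 ↔ p ∈ (Ideal.span (Set.range (MvPolynomial.X : σ → MvPolynomial σ B))) ^ (n + 1) := by
  rw [phiB_eq, Ideal.Quotient.eq_zero_iff_mem]
  have h1 : (Ideal.span (Set.range (MvPolynomial.X : σ → MvPolynomial σ B))) = MvPolynomial.idealOfVars σ B := rfl
  rw [h1, ← ideal_map_eq, ← Ideal.map_pow]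
  have hp' : p = ThetaEquiv A σ (Xi A σ p) := by
    have := congrFun (congrArg DFunLike.coe (Theta_Xi A σ)) p
    change p = Theta A σ (Xi A σ p)
    simpa using this.symm
  constructor
  · intro h
    rw [hp']
    exact Ideal.mem_map_of_mem _ h
  · intro h
    rw [hp'] at h
    have := Ideal.mem_map_of_mem ((ThetaEquiv A σ).symm : MvPolynomial σ B →+* B ⊗[A] B) h
    rw [Ideal.map_map] at this
    have h2 : ((ThetaEquiv A σ).symm : MvPolynomial σ B →+* B ⊗[A] B).comp
        (ThetaEquiv A σ : B ⊗[A] B →+* MvPolynomial σ B) = RingHom.id _ := by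
      ext x <;> simp
    rw [h2, Ideal.map_id] at this
    simpa using this

end aux

section loc

attribute [local instance] PP16.mapAlgebra PP16.isScalarTower_mapAlgebra

variable (k : Type u) [Field k] (r n : ℕ)

local notation "B" => MvPolynomial (Fin r) k
local notation "K" => FractionRing (MvPolynomial (Fin r) k)

/-- `φ_K : K[U] → P^n_{K/k}`, `U_i ↦ d^n T_i - T_i`. -/
noncomputable def phiK : MvPolynomial (Fin r) K →ₐ[K] P n k K :=
  MvPolynomial.aeval (fun i : Fin r => dn n k K (algebraMap B K (MvPolynomial.X i)) -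
    algebraMap K (P n k K) (algebraMap B K (MvPolynomial.X i)))

theorem map_phiB (p : MvPolynomial (Fin r) B) :
    PP16.map n k B k K (phiB k (Fin r) n p) = phiK k r n (MvPolynomial.map (algebraMap B K) p) := by
  have : ((PP16.map n k B k K : P n k B →+* P n k K).comp
        (phiB k (Fin r) n : MvPolynomial (Fin r) B →+* P n k B)) =
      ((phiK k r n : MvPolynomial (Fin r) K →+* P n k K).comp (MvPolynomial.map (algebraMap B K))) := by
    apply MvPolynomial.ringHom_ext
    · intro b
      simp only [RingHom.comp_apply, RingHom.coe_coe, MvPolynomial.map_C]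
      rw [← MvPolynomial.algebraMap_eq, ← MvPolynomial.algebraMap_eq, AlgHom.commutes, AlgHom.commutes,
        map_algebraMap]
    · intro i
      simp only [RingHom.comp_apply, RingHom.coe_coe, MvPolynomial.map_X]
      simp only [phiB, phiK, MvPolynomial.aeval_X, map_sub, map_dn, map_algebraMap]
  exact congrFun (congrArg DFunLike.coe this) p

theorem phiK_C (c : K) : phiK k r n (MvPolynomial.C c) = algebraMap K (P n k K) c := by
  rw [← MvPolynomial.algebraMap_eq, AlgHom.commutes]

theorem phiK_surjective : Function.Surjective (phiK k r n) := by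
  haveI := Groth.Agent.S3807.result n k B K (nonZeroDivisors B)
  intro y
  obtain ⟨⟨x, s'⟩, hxs⟩ := IsLocalization.surj ((nonZeroDivisors B).map (algebraMap B (P n k B))) y
  obtain ⟨s, hs, hs'⟩ := s'.2
  obtain ⟨p, rfl⟩ := phiB_surjective k (Fin r) n x
  have hsK : algebraMap B K s ≠ 0 := by
    intro h0
    have := (IsFractionRing.injective B K) (h0.trans (map_zero _).symm)
    exact (nonZeroDivisors.ne_zero hs) this
  have h1 : algebraMap (P n k B) (P n k K) (s' : P n k B) = algebraMap K (P n k K) (algebraMap B K s) := by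
    rw [← hs']
    exact map_algebraMap n k B k K s
  have h2 : algebraMap (P n k B) (P n k K) (phiB k (Fin r) n p) =
      phiK k r n (MvPolynomial.map (algebraMap B K) p) := map_phiB k r n p
  simp only at hxs
  rw [h1, h2] at hxs
  refine ⟨MvPolynomial.map (algebraMap B K) p * MvPolynomial.C (algebraMap B K s)⁻¹, ?_⟩
  rw [map_mul, ← hxs, phiK_C, mul_assoc, ← map_mul, mul_inv_cancel₀ hsK, map_one, mul_one]

theorem phiK_ker : RingHom.ker (phiK k r n).toRingHom =
    (Ideal.span (Set.range (MvPolynomial.X : Fin r → MvPolynomial (Fin r) K))) ^ (n + 1) := by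
  haveI := Groth.Agent.S3807.result n k B K (nonZeroDivisors B)
  have hJ : (Ideal.span (Set.range (MvPolynomial.X : Fin r → MvPolynomial (Fin r) K))) ^ (n + 1) =
      ((Ideal.span (Set.range (MvPolynomial.X : Fin r → MvPolynomial (Fin r) B))) ^ (n + 1)).map
        (MvPolynomial.map (algebraMap B K)) := by
    rw [Ideal.map_pow, Ideal.map_span, ← Set.range_comp]
    congr 3
    ext1 i
    simp
  have hunit : ∀ s ∈ nonZeroDivisors B, IsUnit (MvPolynomial.C (algebraMap B K s) : MvPolynomial (Fin r) K) := by
    intro s hs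
    apply IsUnit.map
    rw [isUnit_iff_ne_zero]
    intro h0
    have := (IsFractionRing.injective B K) (h0.trans (map_zero _).symm)
    exact (nonZeroDivisors.ne_zero hs) this
  apply le_antisymm
  · intro f hf
    rw [RingHom.mem_ker] at hf
    have hloc := @MvPolynomial.isLocalization (Fin r) B _ (nonZeroDivisors B) K _ _ _
    obtain ⟨⟨g, c'⟩, hgc⟩ := hloc.toIsLocalizationMap.surj f
    obtain ⟨s, hs, hs'⟩ := c'.2
    replace hgc : f * MvPolynomial.map (algebraMap B K) (c' : MvPolynomial (Fin r) B) =
      MvPolynomial.map (algebraMap B K) g := hgc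
    rw [← hs', MvPolynomial.map_C] at hgc
    -- φ_K (map g) = 0
    have h3 : PP16.map n k B k K (phiB k (Fin r) n g) = 0 := by
      rw [map_phiB, ← hgc, map_mul]
      have : (phiK k r n) f = 0 := hf
      rw [this, zero_mul]
    have h4 : algebraMap (P n k B) (P n k K) (phiB k (Fin r) n g) = algebraMap (P n k B) (P n k K) 0 := by
      rw [map_zero]; exact h3
    obtain ⟨⟨t', ht'⟩, ht⟩ := (IsLocalization.eq_iff_exists ((nonZeroDivisors B).map (algebraMap B (P n k B))) (P n k K)).mp h4
    obtain ⟨t, htm, rfl⟩ := ht'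
    simp only [mul_zero] at ht
    have h5 : phiB k (Fin r) n (MvPolynomial.C t * g) = 0 := by
      rw [map_mul, ← MvPolynomial.algebraMap_eq, AlgHom.commutes]
      exact ht
    rw [phiB_eq_zero_iff] at h5
    have h6 := Ideal.mem_map_of_mem (MvPolynomial.map (algebraMap B K)) h5
    rw [← hJ, map_mul, ← hgc, MvPolynomial.map_C] at h6
    have hu := (hunit t htm).mul (hunit s hs)
    rw [← mul_assoc, mul_comm _ f, mul_assoc] at h6
    exact (Ideal.mul_unit_mem_iff_mem _ hu).mp h6
  · rw [hJ, Ideal.map_le_iff_le_comap]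
    intro p hp
    rw [Ideal.mem_comap, RingHom.mem_ker]
    change phiK k r n _ = 0
    rw [← map_phiB, (phiB_eq_zero_iff k (Fin r) n p).mpr hp, map_zero]

end loc


/-- Let k be a field and K the field of fractions of the polynomial ring k[T_1, ..., T_r]. For every n,
the K-algebra map from the polynomial ring K[U_1, ..., U_r] to the ring of principal parts of order
n of K over k (a K-algebra through the first factor) that sends U_i to d^n(T_i) − T_i · 1 is
surjective, and its kernel is the (n+1)-st power of the ideal generated by the U_i. -/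
theorem result (k : Type u) [Field k] (r n : ℕ) :
    Function.Surjective
        (MvPolynomial.aeval (R := FractionRing (MvPolynomial (Fin r) k))
          (S₁ := PP16.P n k (FractionRing (MvPolynomial (Fin r) k)))
          (fun i : Fin r =>
            PP16.dn n k (FractionRing (MvPolynomial (Fin r) k))
                (algebraMap (MvPolynomial (Fin r) k) (FractionRing (MvPolynomial (Fin r) k)) (MvPolynomial.X i)) -
              algebraMap (FractionRing (MvPolynomial (Fin r) k)) (PP16.P n k (FractionRing (MvPolynomial (Fin r) k)))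
                (algebraMap (MvPolynomial (Fin r) k) (FractionRing (MvPolynomial (Fin r) k)) (MvPolynomial.X i)))) ∧
      RingHom.ker
          (MvPolynomial.aeval (R := FractionRing (MvPolynomial (Fin r) k))
            (S₁ := PP16.P n k (FractionRing (MvPolynomial (Fin r) k)))
            (fun i : Fin r =>
              PP16.dn n k (FractionRing (MvPolynomial (Fin r) k))
                  (algebraMap (MvPolynomial (Fin r) k) (FractionRing (MvPolynomial (Fin r) k)) (MvPolynomial.X i)) -
                algebraMap (FractionRing (MvPolynomial (Fin r) k)) (PP16.P n k (FractionRing (MvPolynomial (Fin r) k)))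
                  (algebraMap (MvPolynomial (Fin r) k) (FractionRing (MvPolynomial (Fin r) k)) (MvPolynomial.X i)))).toRingHom =
        (Ideal.span (Set.range (MvPolynomial.X : Fin r → MvPolynomial (Fin r) (FractionRing (MvPolynomial (Fin r) k))))) ^ (n + 1) := by
  exact ⟨phiK_surjective k r n, phiK_ker k r n⟩

end Groth.Agent.S5010
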