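import Groth.Statements.S5012
import Groth.Agent.Lib.Helper62.GenRed
import Mathlib.RingTheory.Smooth.Locus
import Mathlib.RingTheory.Spectrum.Prime.FreeLocus
import Mathlib.RingTheory.Ideal.MinimalPrime.Localization

set_option autoImplicit false
set_option linter.style.haveILetI false
universe u
open Unram17

namespace Groth.Agent.S5012


section Helpers

variable (k A : Type u) [Field k] [CommRing A] [Algebra k A]

/-- the local rings of `A_f` are local rings of `A`. -/
noncomputable def atPrimeAwayEquiv (f : A) (q' : Ideal (Localization.Away f)) [q'.IsPrime] :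
    Localization.AtPrime (q'.comap (algebraMap A (Localization.Away f))) ≃ₐ[k]
      Localization.AtPrime q' := by
  haveI : IsLocalization.AtPrime (Localization.AtPrime q')
      (q'.comap (algebraMap A (Localization.Away f))) :=
    IsLocalization.isLocalization_isLocalization_atPrime_isLocalization (.powers f) _ q'
  exact (IsLocalization.algEquiv (q'.comap (algebraMap A (Localization.Away f))).primeCompl
    _ _).restrictScalars k

theorem geomReduced_atPrime_of_away (f : A) (q' : Ideal (Localization.Away f)) [q'.IsPrime]
    (p : Ideal A) [p.IsPrime] (hp : q'.comap (algebraMap A (Localization.Away f)) = p)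
    [Algebra.IsGeometricallyReduced k (Localization.AtPrime q')] :
    Algebra.IsGeometricallyReduced k (Localization.AtPrime p) := by
  subst hp
  exact Algebra.IsGeometricallyReduced.of_injective (atPrimeAwayEquiv k A f q').toAlgHom
    (atPrimeAwayEquiv k A f q').injective

theorem geomReduced_away_of_atPrime (f : A) (q' : Ideal (Localization.Away f)) [q'.IsPrime]
    (p : Ideal A) [p.IsPrime] (hp : q'.comap (algebraMap A (Localization.Away f)) = p)
    [Algebra.IsGeometricallyReduced k (Localization.AtPrime p)] :
    Algebra.IsGeometricallyReduced k (Localization.AtPrime q') := by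
  subst hp
  exact Algebra.IsGeometricallyReduced.of_injective (atPrimeAwayEquiv k A f q').symm.toAlgHom
    (atPrimeAwayEquiv k A f q').symm.injective

end Helpers

/-- Let A be an algebra of finite type over a field k. Then Spec A has a dense open subset consisting of
points at which A is smooth over k if and only if, for every minimal prime p of A, the local ring
A_p is geometrically reduced over k (that is, A_p is a field and a separable extension of k). -/
theorem result (k A : Type u) [Field k] [CommRing A] [Algebra k A]
    [Algebra.FiniteType k A] :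
    (∃ U : TopologicalSpace.Opens (PrimeSpectrum A), Dense (U : Set (PrimeSpectrum A)) ∧
        ∀ p ∈ U, Algebra.IsSmoothAt k p.asIdeal) ↔
      ∀ (p : Ideal A) [p.IsPrime], p ∈ minimalPrimes A →
        Algebra.IsGeometricallyReduced k (Localization.AtPrime p) := by
  classical
  haveI : Algebra.FinitePresentation k A :=
    Algebra.FinitePresentation.of_finiteType.mp inferInstance
  haveI : IsNoetherianRing A := Algebra.FiniteType.isNoetherianRing k A
  have hfin : (minimalPrimes A).Finite := minimalPrimes.finite_of_isNoetherianRing A
  constructor
  · rintro ⟨U, hUd, hUs⟩ p hp hpmin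
    have hpU : (⟨p, hp⟩ : PrimeSpectrum A) ∈ U := by
      have hDopen : IsOpen
          (⋃ q ∈ minimalPrimes A \ {p}, PrimeSpectrum.zeroLocus (q : Set A))ᶜ := by
        rw [isOpen_compl_iff]
        exact (hfin.subset Set.sdiff_subset).isClosed_biUnion
          fun q _ => PrimeSpectrum.isClosed_zeroLocus _
      have hpD : (⟨p, hp⟩ : PrimeSpectrum A) ∈
          (⋃ q ∈ minimalPrimes A \ {p}, PrimeSpectrum.zeroLocus (q : Set A))ᶜ := by
        simp only [Set.mem_compl_iff, Set.mem_iUnion, not_exists, PrimeSpectrum.mem_zeroLocus,
          SetLike.coe_subset_coe]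
        rintro q ⟨hq, hne⟩ hqp
        exact hne (le_antisymm hqp (hpmin.2 ⟨hq.1.1, bot_le⟩ hqp))
      obtain ⟨y, hyD, hyU⟩ := hUd.inter_open_nonempty _ hDopen ⟨_, hpD⟩
      obtain ⟨q, hq, hqy⟩ := Ideal.exists_minimalPrimes_le (J := y.asIdeal) bot_le
      have hqp : q = p := by
        by_contra hne
        apply hyD
        simp only [Set.mem_iUnion, PrimeSpectrum.mem_zeroLocus, SetLike.coe_subset_coe]
        exact ⟨q, ⟨hq, hne⟩, hqy⟩
      rw [hqp] at hqy
      have hspec : (⟨p, hp⟩ : PrimeSpectrum A) ⤳ y :=
        (PrimeSpectrum.le_iff_specializes _ _).mp hqy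
      exact hspec.mem_open U.isOpen hyU
    haveI hsm : Algebra.IsSmoothAt k p := hUs _ hpU
    obtain ⟨f, hfp, hfsm⟩ := Algebra.IsSmoothAt.exists_notMem_smooth k p
    have hdisj : Disjoint (Submonoid.powers f : Set A) (p : Set A) := by
      rw [Set.disjoint_left]
      rintro _ ⟨m, rfl⟩ hm
      exact hfp (hp.mem_of_pow_mem m hm)
    haveI : (p.map (algebraMap A (Localization.Away f))).IsPrime :=
      IsLocalization.isPrime_of_isPrime_disjoint (.powers f) _ p hp hdisj
    have hcomap : (p.map (algebraMap A (Localization.Away f))).comap
        (algebraMap A (Localization.Away f)) = p :=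
      IsLocalization.under_map_of_isPrime_disjoint (.powers f) _ hp hdisj
    haveI := Groth.Agent.Lib.Helper62.GenRed.isGeometricallyReduced_localization_of_smooth k
      (Localization.Away f) (p.map (algebraMap A (Localization.Away f)))
    exact geomReduced_atPrime_of_away k A f _ p hcomap
  · intro hmin
    refine ⟨⟨Algebra.smoothLocus k A, Algebra.isOpen_smoothLocus⟩, ?_, fun p hp => hp⟩
    have hminsm : ∀ (p : Ideal A) [hp : p.IsPrime], p ∈ minimalPrimes A →
        (⟨p, hp⟩ : PrimeSpectrum A) ∈ Algebra.smoothLocus k A := by
      intro p hp hpmin
      haveI := hmin p hpmin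
      haveI : IsReduced (Localization.AtPrime p) :=
        Algebra.isReduced_of_isGeometricallyReduced (k := k)
      haveI : Ring.KrullDimLE 0 (Localization.AtPrime p) :=
        Ring.KrullDimLE.of_isLocalization p hpmin _
      have hfield : IsField (Localization.AtPrime p) := Ring.KrullDimLE.isField_of_isReduced
      have hfree : (⟨p, hp⟩ : PrimeSpectrum A) ∈ Module.freeLocus A (KaehlerDifferential k A) := by
        rw [Module.mem_freeLocus]
        letI := hfield.toField
        exact Module.Free.of_divisionRing _ _
      obtain ⟨_, ⟨_, ⟨f, rfl⟩, rfl⟩, hxf, hf⟩ :=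
        PrimeSpectrum.isBasis_basic_opens.exists_subset_of_mem_open hfree Module.isOpen_freeLocus
      rw [Module.basicOpen_subset_freeLocus_iff] at hf
      haveI : Module.Projective (Localization.Away f)
          (KaehlerDifferential k (Localization.Away f)) := by
        have e := IsLocalizedModule.iso (.powers f)
          (KaehlerDifferential.map k k A (Localization.Away f))
        have e' := e.extendScalarsOfIsLocalization (.powers f) (Localization.Away f)
        exact Module.Projective.of_equiv e'
      haveI : Algebra.FiniteType A (Localization.Away f) := IsLocalization.finiteType_of_monoid_fg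
        (Submonoid.powers f) _
      haveI : Algebra.FiniteType k (Localization.Away f) := Algebra.FiniteType.trans
        (inferInstance : Algebra.FiniteType k A) inferInstance
      haveI : Algebra.Smooth k (Localization.Away f) := by
        apply Groth.Agent.Lib.Helper62.GenRed.smooth_of_projective_of_geomReduced
        intro q' hq' hq'min
        have hqmin : q'.comap (algebraMap A (Localization.Away f)) ∈ minimalPrimes A := by
          have := IsLocalization.minimalPrimes_map (.powers f) (Localization.Away f)
            (⊥ : Ideal A)
          rw [Ideal.map_bot] at this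
          have h2 : q' ∈ (⊥ : Ideal (Localization.Away f)).minimalPrimes := hq'min
          rw [this] at h2
          exact h2
        haveI := hmin _ hqmin
        exact geomReduced_away_of_atPrime k A f q' _ rfl
      exact (Algebra.basicOpen_subset_smoothLocus_iff_smooth.mpr inferInstance) hxf
    rw [dense_iff_inter_open]
    rintro W hW ⟨y, hyW⟩
    obtain ⟨q, hq, hqy⟩ := Ideal.exists_minimalPrimes_le (J := y.asIdeal) bot_le
    haveI hqprime : q.IsPrime := hq.1.1
    have hspec : (⟨q, hqprime⟩ : PrimeSpectrum A) ⤳ y :=
      (PrimeSpectrum.le_iff_specializes _ _).mp hqy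
    exact ⟨⟨q, hqprime⟩, hspec.mem_open hW hyW, hminsm q hq⟩

end Groth.Agent.S5012
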