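import Groth.Statements.S5014
import Mathlib

set_option autoImplicit false
universe u
open Unram17

namespace Groth.Agent.S5014

section Helpers
open TensorProduct KaehlerDifferential

/-- Bijectivity of a linear map from a module with a finite basis, in terms of the images. -/
theorem bijective_iff_basis_image {S M N ι : Type*} [CommRing S] [AddCommGroup M] [Module S M]
    [AddCommGroup N] [Module S N] (b : Module.Basis ι S M) (f : M →ₗ[S] N) :
    Function.Bijective f ↔
      LinearIndependent S (fun i => f (b i)) ∧ Submodule.span S (Set.range fun i => f (b i)) = ⊤ := by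
  constructor
  · intro hf
    refine ⟨b.linearIndependent.map' f (LinearMap.ker_eq_bot.2 hf.1), ?_⟩
    have : (Set.range fun i => f (b i)) = f '' (Set.range b) := by
      rw [← Set.range_comp]; rfl
    rw [this, ← Submodule.map_span, b.span_eq, Submodule.map_top, LinearMap.range_eq_top]
    exact hf.2
  · rintro ⟨hli, hsp⟩
    let b' := Module.Basis.mk hli hsp.ge
    have hf : f = (b'.repr.symm.toLinearMap ∘ₗ b.repr.toLinearMap) := by
      apply b.ext
      intro i
      simp [b']
    rw [hf]
    exact (b.repr.trans b'.repr.symm).bijective

end Helpers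

/-- Let C be a smooth algebra over a commutative ring A, equipped with an A-algebra map from the
polynomial ring in r variables (images s_i of the variables), and let q be a prime of C. Then C is
etale at q over the polynomial ring if and only if the differentials of the s_i are linearly
independent and generate the module of differentials of the local ring C_q over A, i.e. form a basis
of it. -/
theorem result (A C : Type u) [CommRing A] [CommRing C]
    [Algebra A C] [Algebra.Smooth A C] (r : ℕ) [Algebra (MvPolynomial (Fin r) A) C]
    [IsScalarTower A (MvPolynomial (Fin r) A) C] (q : Ideal C) [q.IsPrime] :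
    Algebra.IsEtaleAt (MvPolynomial (Fin r) A) q ↔
      LinearIndependent (Localization.AtPrime q)
          (fun i : Fin r => KaehlerDifferential.D A (Localization.AtPrime q)
            (algebraMap C (Localization.AtPrime q) (algebraMap (MvPolynomial (Fin r) A) C (MvPolynomial.X i)))) ∧
        Submodule.span (Localization.AtPrime q)
          (Set.range fun i : Fin r => KaehlerDifferential.D A (Localization.AtPrime q)
            (algebraMap C (Localization.AtPrime q) (algebraMap (MvPolynomial (Fin r) A) C (MvPolynomial.X i)))) = ⊤ := by
  classical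
  let P := MvPolynomial (Fin r) A
  let S := Localization.AtPrime q
  have hsm : Algebra.FormallySmooth A S := by
    have : Algebra.FormallyEtale C S := Algebra.FormallyEtale.of_isLocalization q.primeCompl
    exact Algebra.FormallySmooth.comp A C S
  have hH1 : Subsingleton (Algebra.H1Cotangent A S) := hsm.subsingleton_h1Cotangent
  let b : Module.Basis (Fin r) S (TensorProduct P S (Ω[P⁄A])) :=
    (KaehlerDifferential.mvPolynomialBasis A (Fin r)).baseChange S
  let f : TensorProduct P S (Ω[P⁄A]) →ₗ[S] Ω[S⁄A] := KaehlerDifferential.mapBaseChange A P S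
  have hfb : ∀ i, f (b i) = KaehlerDifferential.D A S
      (algebraMap C S (algebraMap P C (MvPolynomial.X i))) := by
    intro i
    have hb : b i = (1 : S) ⊗ₜ[P] KaehlerDifferential.D A P (MvPolynomial.X i) := by
      simp only [b, Module.Basis.baseChange_apply, KaehlerDifferential.mvPolynomialBasis_apply]
      rfl
    rw [hb]
    show KaehlerDifferential.mapBaseChange A P S ((1 : S) ⊗ₜ[P] KaehlerDifferential.D A P (MvPolynomial.X i)) = _
    rw [KaehlerDifferential.mapBaseChange_tmul, one_smul, KaehlerDifferential.map_D,
      ← IsScalarTower.algebraMap_apply]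
  have key := bijective_iff_basis_image b f
  simp only [hfb] at key
  rw [← key]
  unfold Algebra.IsEtaleAt
  rw [Algebra.formallyEtale_iff]
  constructor
  · rintro ⟨h1, h2⟩
    constructor
    · rw [← LinearMap.ker_eq_bot, LinearMap.ker_eq_bot']
      intro x hx
      obtain ⟨y, rfl⟩ := (Algebra.H1Cotangent.exact_δ_mapBaseChange A P S x).1 hx
      rw [Subsingleton.elim y 0, map_zero]
    · intro y
      exact (KaehlerDifferential.exact_mapBaseChange_map A P S y).1 (Subsingleton.elim _ _)
  · intro hf
    constructor
    · refine ⟨fun x y => ?_⟩
      obtain ⟨x', rfl⟩ := KaehlerDifferential.map_surjective A P S x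
      obtain ⟨y', rfl⟩ := KaehlerDifferential.map_surjective A P S y
      obtain ⟨x'', rfl⟩ := hf.2 x'
      obtain ⟨y'', rfl⟩ := hf.2 y'
      rw [(KaehlerDifferential.exact_mapBaseChange_map A P S _).2 ⟨x'', rfl⟩,
        (KaehlerDifferential.exact_mapBaseChange_map A P S _).2 ⟨y'', rfl⟩]
    · have hδ0 : ∀ x, Algebra.H1Cotangent.δ A P S x = 0 := by
        intro x
        apply hf.1
        rw [map_zero]
        exact (Algebra.H1Cotangent.exact_δ_mapBaseChange A P S _).2 ⟨x, rfl⟩
      refine ⟨fun x y => ?_⟩
      obtain ⟨x', rfl⟩ := (Algebra.H1Cotangent.exact_map_δ A P S x).1 (hδ0 x)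
      obtain ⟨y', rfl⟩ := (Algebra.H1Cotangent.exact_map_δ A P S y).1 (hδ0 y)
      rw [Subsingleton.elim x' y']

end Groth.Agent.S5014
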