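import Groth.Statements.S5016
import Groth.Agent.Lib.QCoh.Helper50_DiffCompatSections
import Groth.Agent.Lib.QCoh.Helper50_KaehlerAlg
import Groth.Agent.Lib.QCoh.Helper50_AffineDict
import Groth.Agent.S18057

set_option autoImplicit false
universe u
open CategoryTheory CategoryTheory.Limits AlgebraicGeometry TopologicalSpace
open Unram17

namespace Groth.Agent.S5016

/-- Let g : Y ⟶ S, h : X ⟶ S and f : X ⟶ Y with f ≫ g = h, and suppose f is formally smooth. Given
sheaves of differentials of Y over S and of X over S (universal derivations) and the canonical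
compatible map c from the pullback of the former to the latter, c is a monomorphism of O_X-modules.
(The published statement also identifies the cokernel of this map with the sheaf of differentials of
X over Y and splits the sequence locally; this row states only that the map is injective.) -/
theorem result {X Y S : Scheme.{u}} (g : Y ⟶ S) (h : X ⟶ S)
    (f : X ⟶ Y) (w : f ≫ g = h) (hf : MoreMor.IsFormallySmoothHom f)
    (ΩY : Y.Modules) (dY : OmegaSh.Der g ΩY) (hY : OmegaSh.IsUniversal dY)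
    (ΩX : X.Modules) (dX : OmegaSh.Der h ΩX) (hX : OmegaSh.IsUniversal dX)
    (c : (Scheme.Modules.pullback f).obj ΩY ⟶ ΩX) (hc : OmegaSh.IsDiffCompat f dY dX c) :
    Mono c := by
  have hq : ΩY.IsQuasicoherent :=
    Groth.Agent.Lib.QCoh.ReceptacleLocal.isQuasicoherent_of_isUniversal dY hY
  let Idx := {p : X.Opens × Y.Opens × S.Opens // IsAffineOpen p.1 ∧ IsAffineOpen p.2.1 ∧
    IsAffineOpen p.2.2 ∧ p.1 ≤ f ⁻¹ᵁ p.2.1 ∧ p.2.1 ≤ g ⁻¹ᵁ p.2.2}
  refine Groth.Agent.Lib.QCoh.mono_of_injective_of_isBasis (fun i : Idx => i.1.1) ?_ c fun i => ?_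
  · rw [TopologicalSpace.Opens.isBasis_iff_nbhd]
    intro N x hx
    obtain ⟨V, hV, hxV⟩ := Groth.Agent.Lib.QCoh.ReceptacleLocal.exists_affine_nbhd (g (f x))
    obtain ⟨_, ⟨U, hU : IsAffineOpen U, rfl⟩, hxU, hUV⟩ :=
      (Y.isBasis_affineOpens).exists_subset_of_mem_open
        (show f x ∈ ((g ⁻¹ᵁ V : Y.Opens) : Set Y) from hxV) (g ⁻¹ᵁ V).2
    obtain ⟨_, ⟨W, hW : IsAffineOpen W, rfl⟩, hxW, hWN⟩ :=
      (X.isBasis_affineOpens).exists_subset_of_mem_open
        (show x ∈ ((N ⊓ f ⁻¹ᵁ U : X.Opens) : Set X) from ⟨hx, hxU⟩) (N ⊓ f ⁻¹ᵁ U).2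
    exact ⟨W, ⟨⟨(W, U, V), hW, hU, hV, fun y hy => (hWN hy).2, hUV⟩, rfl⟩, hxW,
      fun y hy => (hWN hy).1⟩
  · obtain ⟨⟨W, U, V⟩, hW, hU, hV, e, hUV⟩ := i
    subst w
    have hWV : W ≤ (f ≫ g) ⁻¹ᵁ V := fun x hx => hUV (e hx)
    have fac : 𝟙 Γ(S, V) ≫ (f ≫ g).appLE V W hWV = g.appLE V U hUV ≫ f.appLE U W e := by
      rw [Category.id_comp, Scheme.Hom.appLE_comp_appLE]
    exact Groth.Agent.Lib.QCoh.DiffCompatSections.injective_app_of_injective_algMap f dY dX c e hUV
      hWV fac hY hX hc hU hW hV hV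
      (Groth.Agent.Lib.QCoh.KaehlerAlg.transp_injective_of_formallySmooth fac
        (Groth.Agent.S18057.formallySmooth_appLE f hf hU hW e))

end Groth.Agent.S5016
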