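import Groth.Statements.S5018
import Groth.Agent.Lib.Helper45.RestrictDer
import Groth.Agent.Lib.QCoh.Helper50_OmegaFT
import Groth.Agent.Lib.QCoh.Helper74_LocFree
import Groth.Agent.S18057

set_option autoImplicit false
universe u
open CategoryTheory CategoryTheory.Limits AlgebraicGeometry TopologicalSpace
open Unram17

section S5018helpers
set_option linter.style.haveILetI false
open CategoryTheory.Limits TopologicalSpace Opposite
namespace Groth.Agent.S5018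

open Groth.Agent.Lib.QCoh Groth.Agent.Lib.Helper45.RestrictDer

variable {X Y : Scheme.{u}}

theorem main (f : X ⟶ Y)
    (hf : MoreMor.IsFormallySmoothHom f) [LocallyOfFiniteType f]
    (Ω' : X.Modules) (d : OmegaSh.Der f Ω') (hd : OmegaSh.IsUniversal d) :
    FlatMod.IsFinLocFree Ω' := by
  intro x
  obtain ⟨U₀, hU₀, hfx⟩ : ∃ U₀ : Y.Opens, IsAffineOpen U₀ ∧ f x ∈ U₀ := by
    obtain ⟨_, ⟨U₀, hU₀ : IsAffineOpen U₀, rfl⟩, hfx, -⟩ :=
      (Y.isBasis_affineOpens).exists_subset_of_mem_open (Set.mem_univ (f x)) isOpen_univ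
    exact ⟨U₀, hU₀, hfx⟩
  obtain ⟨V, hV, hxV, e⟩ : ∃ V : X.Opens, IsAffineOpen V ∧ x ∈ V ∧ V ≤ f ⁻¹ᵁ U₀ := by
    obtain ⟨_, ⟨V, hV : IsAffineOpen V, rfl⟩, hxV, e⟩ :=
      (X.isBasis_affineOpens).exists_subset_of_mem_open (show x ∈ ((f ⁻¹ᵁ U₀ : X.Opens) : Set X)
        from hfx) (f ⁻¹ᵁ U₀).2
    exact ⟨V, hV, hxV, e⟩
  haveI : IsAffine (↑V : Scheme) := hV
  obtain ⟨i₁⟩ := nonempty_restrict_iso_omega d hd V
  have e' : (⊤ : (↑V : Scheme).Opens) ≤ (V.ι ≫ f) ⁻¹ᵁ U₀ := by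
    rw [Scheme.Hom.comp_preimage]
    exact le_trans (by rw [Scheme.Opens.ι_preimage_self]) (V.ι.preimage_mono e)
  have h1 : (V.ι ≫ f).appLE U₀ ⊤ e' = f.appLE U₀ V e ≫ V.topIso.inv := by
    have e₂ : (⊤ : (↑V : Scheme).Opens) ≤ V.ι ⁻¹ᵁ V := by rw [Scheme.Opens.ι_preimage_self]
    rw [← Scheme.Hom.appLE_comp_appLE V.ι f U₀ V ⊤ e e₂]
    congr 1
    rw [Scheme.Opens.ι_appLE, Scheme.Opens.topIso_inv]
    rfl
  have hfs : ((V.ι ≫ f).appLE U₀ ⊤ e').hom.FormallySmooth := by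
    rw [h1]
    exact RingHom.FormallySmooth.respectsIso.left _
      V.topIso.symm.commRingCatIsoToRingEquiv
      (Groth.Agent.S18057.formallySmooth_appLE f hf hU₀ hV e)
  have hft : ((V.ι ≫ f).appLE U₀ ⊤ e').hom.FiniteType :=
    Scheme.Hom.finiteType_appLE (V.ι ≫ f) hU₀ (isAffineOpen_top _) e'
  have hg : FlatMod.IsFinLocFree (Omega.sheaf (V.ι ≫ f)) := by
    apply isFinLocFree_of_exists_affineOpen
    intro y
    refine ⟨⊤, isAffineOpen_top _, trivial, ?_⟩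
    letI : Algebra Γ(Y, U₀) Γ(↑V, ⊤) := ((V.ι ≫ f).appLE U₀ ⊤ e').hom.toAlgebra
    haveI : Algebra.FormallySmooth Γ(Y, U₀) Γ(↑V, ⊤) := hfs
    haveI : Algebra.FiniteType Γ(Y, U₀) Γ(↑V, ⊤) := hft
    let T : Ω[Γ(↑V, ⊤)⁄Γ(Y, U₀)] ≃ₗ[Γ(↑V, ⊤)] Γ(Omega.sheaf (V.ι ≫ f), ⊤) :=
      LinearEquiv.ofBijective (OmAff.toSect (V.ι ≫ f) U₀ ⊤ e').hom
        (OmAffGen.bijective_toSect (V.ι ≫ f) (isAffineOpen_top _) hU₀ e')
    exact ⟨Module.Finite.equiv T, Module.Projective.of_equiv T⟩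
  obtain ⟨W, n, hxW, ⟨i₂⟩⟩ := hg ⟨x, hxV⟩
  let j := W.ι ≫ V.ι
  let i : Ω'.restrict j ≅ FlatMod.freeMod (↑W) n :=
    (Scheme.Modules.restrictFunctorComp W.ι V.ι).app Ω' ≪≫
      (Scheme.Modules.restrictFunctor W.ι).mapIso i₁ ≪≫ i₂
  exact ⟨j.opensRange, n, ⟨⟨⟨x, hxV⟩, hxW⟩, rfl⟩, ⟨trivOpensRange j i⟩⟩


end Groth.Agent.S5018
end S5018helpers

namespace Groth.Agent.S5018

/-- Let f : X ⟶ Y be formally smooth and locally of finite type, and let (Ω', d) be a sheaf of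
differentials of X over Y, i.e. d a universal Y-derivation of O_X into Ω'. Then Ω' is finite locally
free. (The published statement also shows that the sheaf of differentials is locally projective for
every formally smooth f; this row states only the case of f locally of finite type.) -/
theorem result {X Y : Scheme.{u}} (f : X ⟶ Y)
    (hf : MoreMor.IsFormallySmoothHom f) [LocallyOfFiniteType f]
    (Ω' : X.Modules) (d : OmegaSh.Der f Ω') (hd : OmegaSh.IsUniversal d) :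
    FlatMod.IsFinLocFree Ω' := by
  exact main f hf Ω' d hd

end Groth.Agent.S5018
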