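import Groth.Statements.S5020
import Groth.Agent.Lib.QCoh.Helper50_ConormalMono
import Groth.Agent.Lib.QCoh.Helper50_AffineDict

set_option autoImplicit false
universe u
open CategoryTheory CategoryTheory.Limits AlgebraicGeometry TopologicalSpace
open Unram17

namespace Groth.Agent.S5020

/-- Let j : X' ⟶ X be a quasi-compact immersion and f : X ⟶ Y a morphism with j ≫ f formally smooth. Let
(Ω', d) be a sheaf of differentials of X over Y (d universal) and φ the canonical map from the
conormal sheaf of j to the pullback of Ω' along j (the O_{X'}-linear map sending the class of a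
local section s of the ideal of j to the pullback of d s). Then φ is a monomorphism. (The published
statement allows any immersion j and also asserts that the sequence conormal sheaf → pullback of Ω'
→ differentials of X' over Y is short exact and locally split; this row assumes j quasi-compact, the
case in which the conormal sheaf used here is known to be the conormal sheaf of j, and states only
that the first map is injective.) -/
theorem result {X' X Y : Scheme.{u}} (j : X' ⟶ X)
    [IsImmersion j] [QuasiCompact j] (f : X ⟶ Y) (hf : MoreMor.IsFormallySmoothHom (j ≫ f))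
    (Ω' : X.Modules) (d : OmegaSh.Der f Ω') (hd : OmegaSh.IsUniversal d)
    (φ : Omega.conormal j ⟶ (Scheme.Modules.pullback j).obj Ω') (hφ : OmegaSh.IsConormalDiff j d φ) :
    Mono φ := by
  let Idx := {p : Groth.Agent.Lib.Helper25.ImmDer.IIdx j × Y.Opens //
    IsAffineOpen p.2 ∧ p.1.U ≤ f ⁻¹ᵁ p.2}
  refine Groth.Agent.Lib.QCoh.mono_of_injective_of_isBasis (fun i : Idx => j ⁻¹ᵁ i.1.1.U) ?_ φ
    fun i => ?_
  · rw [TopologicalSpace.Opens.isBasis_iff_nbhd]
    intro N x hx
    obtain ⟨W₀, rfl⟩ := Groth.Agent.Lib.Helper25.ImmDer.exists_opens_eq j N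
    obtain ⟨V₀, hV₀, hxV₀⟩ := Groth.Agent.Lib.QCoh.ReceptacleLocal.exists_affine_nbhd (f (j x))
    obtain ⟨i, hxi, hi⟩ := Groth.Agent.Lib.Helper25.ImmDer.exists_iidx j x (W₀ ⊓ f ⁻¹ᵁ V₀)
      ⟨hx, hxV₀⟩
    exact ⟨j ⁻¹ᵁ i.U, ⟨⟨(i, V₀), hV₀, fun y hy => (hi hy).2⟩, rfl⟩, hxi,
      j.preimage_mono (fun y hy => (hi hy).1)⟩
  · obtain ⟨⟨i, V₀⟩, hV₀, hle⟩ := i
    exact Groth.Agent.Lib.QCoh.ConormalMono.injective_app j f d hd φ hφ hf i.hU i.le hV₀ hle

end Groth.Agent.S5020
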