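import Groth.Statements.S5022
import Groth.Agent.Lib.Helper45.SmoothOmegaFree

set_option autoImplicit false
universe u
open CategoryTheory CategoryTheory.Limits AlgebraicGeometry TopologicalSpace
open Unram17


section S5022helpers
set_option linter.style.haveILetI false
open CategoryTheory.Limits TopologicalSpace Opposite
namespace Groth.Agent.S5022

open Groth.Agent.Lib.Helper45.SmoothOmegaFree Groth.Agent.Lib.Helper73.FibreDimRetro

theorem main {X Y : Scheme.{u}} (f : X ⟶ Y)
    [LocallyOfFinitePresentation f] (Ω' : X.Modules) (d : OmegaSh.Der f Ω') (hd : OmegaSh.IsUniversal d) (x : ↥X) :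
    x ∈ f.smoothLocus ↔
      (f.stalkMap x).hom.Flat ∧
        ∃ (U : X.Opens) (n : ℕ), x ∈ U ∧ Nonempty (Ω'.restrict U.ι ≅ FlatMod.freeMod (↑U) n) ∧
          FlatMor.fibreDimAt f x = (n : WithBot ℕ∞) := by
  constructor
  · intro hx
    refine ⟨?_, exists_free_of_mem_smoothLocus f Ω' d hd x hx⟩
    obtain ⟨U₀, hxU₀, hsm⟩ := Groth.Agent.S2757.exists_smooth_nhd_of_stalkMap f x hx
    haveI := hsm
    exact (Groth.Agent.S2757.stalkMap_of_smooth_nhd f x U₀ hxU₀).1
  · rintro ⟨hflat, U, n, hxU, ⟨e⟩, hdim⟩
    obtain ⟨W, j, fj, hfj, hj, hqs, hlfp, w, hjw, hw⟩ :=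
      exists_affine_chart_of_free f Ω' d hd x U n hxU e
    subst hfj
    haveI := hj
    haveI := hqs
    haveI := hlfp
    have hflat' : ((j ≫ f).stalkMap w).hom.Flat := by
      rw [Groth.Agent.Lib.Helper35.stalkMap_comp_openImmersion_iff RingHom.Flat.respectsIso j f w,
        hjw]
      exact hflat
    have hdim' : FlatMor.fibreDimAt (j ≫ f) w = (n : WithBot ℕ∞) := by
      rw [fibreDimAt_comp_openImmersion j f w]
      change FlatMor.fibreDimAt f (j w) = _
      rw [hjw]
      exact hdim
    have h := mem_smoothLocus_of_flat_of_fitt (j ≫ f) n w hflat' hw hdim'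
    rw [← Scheme.Hom.preimage_smoothLocus_eq] at h
    have h' : j w ∈ f.smoothLocus := h
    rwa [hjw] at h'

end Groth.Agent.S5022
end S5022helpers

namespace Groth.Agent.S5022

/-- Let f : X ⟶ Y be locally of finite presentation, (Ω', d) a sheaf of differentials of X over Y (d
universal) and x a point of X. Then f is smooth at x if and only if the stalk map at x is flat and
there are an open neighbourhood U of x and an integer n with Ω' free of rank n on U and n equal to
the local dimension at x of the fibre of f through x. -/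
theorem result {X Y : Scheme.{u}} (f : X ⟶ Y)
    [LocallyOfFinitePresentation f] (Ω' : X.Modules) (d : OmegaSh.Der f Ω') (hd : OmegaSh.IsUniversal d) (x : ↥X) :
    x ∈ f.smoothLocus ↔
      (f.stalkMap x).hom.Flat ∧
        ∃ (U : X.Opens) (n : ℕ), x ∈ U ∧ Nonempty (Ω'.restrict U.ι ≅ FlatMod.freeMod (↑U) n) ∧
          FlatMor.fibreDimAt f x = (n : WithBot ℕ∞) := by
  exact main f Ω' d hd x

end Groth.Agent.S5022
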