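import Groth.Statements.S5023
import Groth.Agent.Lib.QCoh.Helper50_DiffCompatSections2
import Groth.Agent.Lib.QCoh.Helper50_KaehlerAlg3
import Groth.Agent.Lib.QCoh.Helper50_IsoAffineCover
import Groth.Agent.Lib.QCoh.Helper50_OmegaBC
import Groth.Agent.Lib.QCoh.Helper74_LocFreeBiprod

set_option autoImplicit false
universe u
open CategoryTheory CategoryTheory.Limits AlgebraicGeometry TopologicalSpace
open Nrm16

namespace Groth.Agent.S5023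

/-- Let a : X ⟶ S and b : Y ⟶ S be morphisms and Z a fibre product of X and Y over S with projections p,
q and structure morphism h. Given sheaves of differentials (universal derivations) of X, Y and Z
over S and the canonical compatible maps c₁ : p^*Ω_X ⟶ Ω_Z and c₂ : q^*Ω_Y ⟶ Ω_Z, the induced map
from the coproduct p^*Ω_X ⨿ q^*Ω_Y to Ω_Z is an isomorphism. -/
theorem result {X Y S Z : Scheme.{u}} (a : X ⟶ S) (b : Y ⟶ S)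
    (p : Z ⟶ X) (q : Z ⟶ Y) (h : Z ⟶ S) (wp : p ≫ a = h) (wq : q ≫ b = h) (hZ : IsPullback p q a b)
    (ΩX : X.Modules) (dX : OmegaSh.Der a ΩX) (hX : OmegaSh.IsUniversal dX)
    (ΩY : Y.Modules) (dY : OmegaSh.Der b ΩY) (hY : OmegaSh.IsUniversal dY)
    (ΩZ : Z.Modules) (dZ : OmegaSh.Der h ΩZ) (hZu : OmegaSh.IsUniversal dZ)
    (c₁ : (Scheme.Modules.pullback p).obj ΩX ⟶ ΩZ) (hc₁ : OmegaSh.IsDiffCompat p dX dZ c₁)
    (c₂ : (Scheme.Modules.pullback q).obj ΩY ⟶ ΩZ) (hc₂ : OmegaSh.IsDiffCompat q dY dZ c₂) :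
    IsIso (coprod.desc c₁ c₂) := by
  have hqX : ΩX.IsQuasicoherent :=
    Groth.Agent.Lib.QCoh.ReceptacleLocal.isQuasicoherent_of_isUniversal dX hX
  have hqY : ΩY.IsQuasicoherent :=
    Groth.Agent.Lib.QCoh.ReceptacleLocal.isQuasicoherent_of_isUniversal dY hY
  have hqZ : ΩZ.IsQuasicoherent :=
    Groth.Agent.Lib.QCoh.ReceptacleLocal.isQuasicoherent_of_isUniversal dZ hZu
  have hq1 : ((Scheme.Modules.pullback p).obj ΩX).IsQuasicoherent :=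
    Groth.Agent.Lib.QCoh.isQuasicoherent_pullback p ΩX
  have hq2 : ((Scheme.Modules.pullback q).obj ΩY).IsQuasicoherent :=
    Groth.Agent.Lib.QCoh.isQuasicoherent_pullback q ΩY
  have hqb : ((Scheme.Modules.pullback p).obj ΩX ⊞ (Scheme.Modules.pullback q).obj ΩY).IsQuasicoherent :=
    Groth.Agent.Lib.QCoh.isQuasicoherent_biprod _ _
  -- reduce to the biproduct
  suffices hbi : IsIso (biprod.desc c₁ c₂) by
    have e : (biprod.isoCoprod _ _).inv ≫ biprod.desc c₁ c₂ = coprod.desc c₁ c₂ := by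
      apply coprod.hom_ext
      · rw [biprod.isoCoprod_inv, coprod.inl_desc_assoc, biprod.inl_desc, coprod.inl_desc]
      · rw [biprod.isoCoprod_inv, coprod.inr_desc_assoc, biprod.inr_desc, coprod.inr_desc]
    rw [← e]
    infer_instance
  let 𝒲 : Set Z.Opens := {W | ∃ (U : X.Opens) (U' : Y.Opens) (V : S.Opens),
    IsAffineOpen U ∧ IsAffineOpen U' ∧ IsAffineOpen V ∧ U ≤ a ⁻¹ᵁ V ∧ U' ≤ b ⁻¹ᵁ V ∧
      W = p ⁻¹ᵁ U ⊓ q ⁻¹ᵁ U'}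
  have key : ∀ W ∈ 𝒲, IsAffineOpen W ∧ Function.Bijective ((biprod.desc c₁ c₂).app W) := by
    rintro _ ⟨U, U', V, hU, hU', hV, hUV, hU'V, rfl⟩
    have hW : IsAffineOpen (p ⁻¹ᵁ U ⊓ q ⁻¹ᵁ U') := by
      have : IsAffine V := hV
      have : IsAffine U' := hU'
      have : IsAffine U := hU
      exact .of_isIso (Scheme.Hom.isPullback_resLE hZ hU'V hUV rfl).isoPullback.hom
    have hpo : IsPushout (a.appLE V U hUV) (b.appLE V U' hU'V)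
        (p.appLE U (p ⁻¹ᵁ U ⊓ q ⁻¹ᵁ U') inf_le_left)
        (q.appLE U' (p ⁻¹ᵁ U ⊓ q ⁻¹ᵁ U') inf_le_right) := by
      have h := isIso_pushoutSection_of_isAffineOpen hZ hU'V hUV
        (UY := p ⁻¹ᵁ U ⊓ q ⁻¹ᵁ U') rfl hV hU' hU
      exact (isIso_pushoutSection_iff hZ hU'V hUV rfl).1 h
    refine ⟨hW, ?_⟩
    have hWV : p ⁻¹ᵁ U ⊓ q ⁻¹ᵁ U' ≤ h ⁻¹ᵁ V := by
      subst wp
      exact fun x hx => hUV hx.1
    have hcongr : ∀ (r : Z ⟶ S) (_ : r = h) (hle : p ⁻¹ᵁ U ⊓ q ⁻¹ᵁ U' ≤ r ⁻¹ᵁ V),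
        r.appLE V (p ⁻¹ᵁ U ⊓ q ⁻¹ᵁ U') hle = h.appLE V (p ⁻¹ᵁ U ⊓ q ⁻¹ᵁ U') hWV := by
      rintro r rfl hle
      rfl
    have fac₁ : 𝟙 Γ(S, V) ≫ h.appLE V (p ⁻¹ᵁ U ⊓ q ⁻¹ᵁ U') hWV =
        a.appLE V U hUV ≫ p.appLE U (p ⁻¹ᵁ U ⊓ q ⁻¹ᵁ U') inf_le_left := by
      rw [Category.id_comp, Scheme.Hom.appLE_comp_appLE]
      exact (hcongr _ wp _).symm
    have fac₂ : 𝟙 Γ(S, V) ≫ h.appLE V (p ⁻¹ᵁ U ⊓ q ⁻¹ᵁ U') hWV =
        b.appLE V U' hU'V ≫ q.appLE U' (p ⁻¹ᵁ U ⊓ q ⁻¹ᵁ U') inf_le_right := by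
      rw [Category.id_comp, Scheme.Hom.appLE_comp_appLE]
      exact (hcongr _ wq _).symm
    obtain ⟨G₁, hG₁, hc₁'⟩ :=
      Groth.Agent.Lib.QCoh.DiffCompatSections.exists_factorisation_toSec p dX dZ c₁ inf_le_left hUV
        hWV fac₁ hX hc₁ hU hW hV
    obtain ⟨G₂, hG₂, hc₂'⟩ :=
      Groth.Agent.Lib.QCoh.DiffCompatSections.exists_factorisation_toSec q dY dZ c₂ inf_le_right hU'V
        hWV fac₂ hY hc₂ hU' hW hV
    have hT := Groth.Agent.Lib.QCoh.ReceptacleSections.bijective_toSec dZ hZu hW hV hWV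
    have hsum := Groth.Agent.Lib.QCoh.KaehlerAlg.transp_add_bijective fac₁ fac₂ hpo
    have hform : ∀ t t', (biprod.desc c₁ c₂).app (p ⁻¹ᵁ U ⊓ q ⁻¹ᵁ U')
        ((Groth.Agent.Lib.QCoh.ΓbiprodLinearEquiv _ _ (p ⁻¹ᵁ U ⊓ q ⁻¹ᵁ U')).symm (G₁ t, G₂ t')) =
        Groth.Agent.Lib.QCoh.ReceptacleSections.toSec dZ V (p ⁻¹ᵁ U ⊓ q ⁻¹ᵁ U') hWV
          (Groth.Agent.Lib.QCoh.KaehlerAlg.transp fac₁ t +
            Groth.Agent.Lib.QCoh.KaehlerAlg.transp fac₂ t') := by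
      intro t t'
      rw [Groth.Agent.Lib.QCoh.biprod_desc_app_apply]
      have e1 := (Groth.Agent.Lib.QCoh.ΓbiprodLinearEquiv ((Scheme.Modules.pullback p).obj ΩX)
        ((Scheme.Modules.pullback q).obj ΩY) (p ⁻¹ᵁ U ⊓ q ⁻¹ᵁ U')).apply_symm_apply (G₁ t, G₂ t')
      have e1a := congrArg Prod.fst e1
      have e1b := congrArg Prod.snd e1
      have e2 : (Groth.Agent.Lib.QCoh.ReceptacleSections.toSec dZ V (p ⁻¹ᵁ U ⊓ q ⁻¹ᵁ U') hWV).hom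
          (Groth.Agent.Lib.QCoh.KaehlerAlg.transp fac₁ t +
            Groth.Agent.Lib.QCoh.KaehlerAlg.transp fac₂ t') = _ := map_add _ _ _
      refine Eq.trans ?_ e2.symm
      refine congrArg₂ (· + ·) ?_ ?_
      · exact (congrArg (fun z => c₁.app (p ⁻¹ᵁ U ⊓ q ⁻¹ᵁ U') z) e1a).trans (hc₁' t)
      · exact (congrArg (fun z => c₂.app (p ⁻¹ᵁ U ⊓ q ⁻¹ᵁ U') z) e1b).trans (hc₂' t')
    constructor
    · intro s s' hss'
      obtain ⟨⟨x, x'⟩, rfl⟩ := (Groth.Agent.Lib.QCoh.ΓbiprodLinearEquiv _ _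
        (p ⁻¹ᵁ U ⊓ q ⁻¹ᵁ U')).symm.surjective s
      obtain ⟨⟨y, y'⟩, rfl⟩ := (Groth.Agent.Lib.QCoh.ΓbiprodLinearEquiv _ _
        (p ⁻¹ᵁ U ⊓ q ⁻¹ᵁ U')).symm.surjective s'
      obtain ⟨t, rfl⟩ := hG₁.2 x
      obtain ⟨t', rfl⟩ := hG₂.2 x'
      obtain ⟨u, rfl⟩ := hG₁.2 y
      obtain ⟨u', rfl⟩ := hG₂.2 y'
      rw [hform, hform] at hss'
      have h3 := hsum.1 (a₁ := (t, t')) (a₂ := (u, u')) (hT.1 hss')
      rw [Prod.mk.injEq] at h3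
      rw [h3.1, h3.2]
    · intro y
      obtain ⟨ω, rfl⟩ := hT.2 y
      obtain ⟨⟨t, t'⟩, rfl⟩ := hsum.2 ω
      exact ⟨_, hform t t'⟩
  refine Groth.Agent.Lib.QCoh.IsoAffineCover.isIso_of_bijective_affine_cover (biprod.desc c₁ c₂) 𝒲 ?_
    (fun W hW => (key W hW).1) (fun W hW => (key W hW).2)
  intro x
  obtain ⟨V, hV, hxV⟩ := Groth.Agent.Lib.QCoh.ReceptacleLocal.exists_affine_nbhd (a (p x))
  obtain ⟨_, ⟨U, hU : IsAffineOpen U, rfl⟩, hxU, hUV⟩ :=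
    (X.isBasis_affineOpens).exists_subset_of_mem_open
      (show p x ∈ ((a ⁻¹ᵁ V : X.Opens) : Set X) from hxV) (a ⁻¹ᵁ V).2
  have hx' : b (q x) ∈ V := by
    have : b (q x) = a (p x) := by
      rw [← Scheme.Hom.comp_apply, ← Scheme.Hom.comp_apply, hZ.w]
    rw [this]; exact hxV
  obtain ⟨_, ⟨U', hU' : IsAffineOpen U', rfl⟩, hxU', hU'V⟩ :=
    (Y.isBasis_affineOpens).exists_subset_of_mem_open
      (show q x ∈ ((b ⁻¹ᵁ V : Y.Opens) : Set Y) from hx') (b ⁻¹ᵁ V).2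
  exact ⟨p ⁻¹ᵁ U ⊓ q ⁻¹ᵁ U', ⟨U, U', V, hU, hU', hV, hUV, hU'V, rfl⟩, ⟨hxU, hxU'⟩⟩

end Groth.Agent.S5023
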