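import Groth.Statements.S5024
import Groth.Agent.Lib.Helper73.SmoothSkRk
-- import your own Groth.Agent.* helpers here

set_option autoImplicit false
universe u
open CategoryTheory CategoryTheory.Limits AlgebraicGeometry TopologicalSpace
open Unram17

namespace Groth.Agent.S5024

/-- Let Y be locally Noetherian and f : X ⟶ Y locally of finite type, smooth on an open neighbourhood of
a point x with image y. Then for every n the local ring of X at x has Serre's property (S_n),
respectively (R_n), if and only if the local ring of Y at y has it. -/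
theorem result {X Y : Scheme.{u}} (f : X ⟶ Y)
    [IsLocallyNoetherian Y] [LocallyOfFiniteType f] (x : ↥X)
    (hx : ∃ U : X.Opens, x ∈ U ∧ Smooth (U.ι ≫ f)) (n : ℕ) :
    (LocCoh.HasSk n ↑(X.presheaf.stalk x) ↑(X.presheaf.stalk x) ↔
        LocCoh.HasSk n ↑(Y.presheaf.stalk (f.base x)) ↑(Y.presheaf.stalk (f.base x))) ∧
      (LocCoh.HasRk n ↑(X.presheaf.stalk x) ↔ LocCoh.HasRk n ↑(Y.presheaf.stalk (f.base x))) := by
  obtain ⟨U, hxU, hsm⟩ := hx
  set g := U.ι ≫ f with hg
  let x' : U.toScheme := ⟨x, hxU⟩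
  haveI : IsLocallyNoetherian X := LocallyOfFiniteType.isLocallyNoetherian f
  haveI : IsLocallyNoetherian U.toScheme := LocallyOfFiniteType.isLocallyNoetherian g
  have e : X.presheaf.stalk x ≃+* U.toScheme.presheaf.stalk x' :=
    (asIso (U.ι.stalkMap x')).commRingCatIsoToRingEquiv
  haveI : IsNoetherianRing (X.presheaf.stalk x) := inferInstance
  haveI : IsNoetherianRing (U.toScheme.presheaf.stalk x') := inferInstance
  have key := Groth.Agent.Lib.Helper73.SmoothSkRk.hasSk_hasRk_stalk_iff_of_smooth g x' n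
  change (LocCoh.HasSk n (U.toScheme.presheaf.stalk x') (U.toScheme.presheaf.stalk x') ↔
        LocCoh.HasSk n (Y.presheaf.stalk (f.base x)) (Y.presheaf.stalk (f.base x))) ∧
      (LocCoh.HasRk n (U.toScheme.presheaf.stalk x') ↔
        LocCoh.HasRk n (Y.presheaf.stalk (f.base x))) at key
  refine ⟨Iff.trans ⟨Groth.Agent.S2694.hasSk_self_of_ringEquiv e n,
    Groth.Agent.S2694.hasSk_self_of_ringEquiv e.symm n⟩ key.1,
    Iff.trans ⟨Groth.Agent.Lib.Helper73.SmoothSkRk.hasRk_of_ringEquiv e n,
      Groth.Agent.Lib.Helper73.SmoothSkRk.hasRk_of_ringEquiv e.symm n⟩ key.2⟩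

end Groth.Agent.S5024
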