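import Groth.Statements.S5025
import Groth.Agent.Lib.Helper73.SmoothFibreReg
import Groth.Agent.Lib.Helper29.RegHom
import Groth.Agent.Lib.Helper49.FibreSk
import Groth.Agent.Lib.Helper49.Serre4
import Groth.Agent.S5671
-- import your own Groth.Agent.* helpers here

set_option autoImplicit false
universe u
open CategoryTheory CategoryTheory.Limits AlgebraicGeometry TopologicalSpace
open Unram17

namespace Groth.Agent.S5025

/-- Let Y be locally Noetherian and f : X ⟶ Y locally of finite type, smooth on an open neighbourhood of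
a point x with image y. Then the local rings of X at x and of Y at y have the same codepth (Krull
dimension minus depth); written without subtraction: dim O_{X,x} + depth O_{Y,y} = dim O_{Y,y} +
depth O_{X,x}. -/
theorem result {X Y : Scheme.{u}} (f : X ⟶ Y)
    [IsLocallyNoetherian Y] [LocallyOfFiniteType f] (x : ↥X)
    (hx : ∃ U : X.Opens, x ∈ U ∧ Smooth (U.ι ≫ f)) :
    ringKrullDim ↑(X.presheaf.stalk x) +
        ((LocCoh.depth ↑(Y.presheaf.stalk (f.base x)) ↑(Y.presheaf.stalk (f.base x)) : ℕ∞) : WithBot ℕ∞) =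
      ringKrullDim ↑(Y.presheaf.stalk (f.base x)) +
        ((LocCoh.depth ↑(X.presheaf.stalk x) ↑(X.presheaf.stalk x) : ℕ∞) : WithBot ℕ∞) := by
  obtain ⟨U, hxU, hsm⟩ := hx
  set g := U.ι ≫ f with hg
  let x' : U.toScheme := ⟨x, hxU⟩
  haveI : IsLocallyNoetherian X := LocallyOfFiniteType.isLocallyNoetherian f
  haveI : IsLocallyNoetherian U.toScheme := LocallyOfFiniteType.isLocallyNoetherian g
  have e : X.presheaf.stalk x ≃+* U.toScheme.presheaf.stalk x' :=
    (asIso (U.ι.stalkMap x')).commRingCatIsoToRingEquiv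
  letI : Algebra (Y.presheaf.stalk (g.base x')) (U.toScheme.presheaf.stalk x') :=
    (g.stalkMap x').hom.toAlgebra
  haveI : IsLocalHom (algebraMap (Y.presheaf.stalk (g.base x')) (U.toScheme.presheaf.stalk x')) := by
    rw [RingHom.algebraMap_toAlgebra]; infer_instance
  haveI : Module.Flat (Y.presheaf.stalk (g.base x')) (U.toScheme.presheaf.stalk x') :=
    Flat.stalkMap g x'
  haveI hreg := Groth.Agent.Lib.Helper73.SmoothFibreReg.isRegularLocalRing_fibre_of_smooth g x'
  have hdim := Groth.Agent.Lib.Helper29.RegHom.ringKrullDim_eq_add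
    (Y.presheaf.stalk (g.base x')) (U.toScheme.presheaf.stalk x')
  have hdepth := Groth.Agent.Lib.Helper49.FibreSk.depth_eq_add_depth_fibre
    (Y.presheaf.stalk (g.base x')) (U.toScheme.presheaf.stalk x')
    (Groth.Agent.Lib.Helper67.FibreStalk.fibreIdeal g x') rfl
  have hCM := Groth.Agent.S5671.isCM_of_regular
    (U.toScheme.presheaf.stalk x' ⧸ Groth.Agent.Lib.Helper67.FibreStalk.fibreIdeal g x')
  unfold LocCoh.IsCohenMacaulayModule at hCM
  rw [Module.supportDim_self_eq_ringKrullDim] at hCM
  rw [ringKrullDim_eq_of_ringEquiv e, Groth.Agent.Lib.Helper49.Serre.depth_eq_of_ringEquiv e]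
  change ringKrullDim (U.toScheme.presheaf.stalk x') +
      ((LocCoh.depth (Y.presheaf.stalk (g.base x')) (Y.presheaf.stalk (g.base x')) : ℕ∞) : WithBot ℕ∞) =
    ringKrullDim (Y.presheaf.stalk (g.base x')) +
      ((LocCoh.depth (U.toScheme.presheaf.stalk x') (U.toScheme.presheaf.stalk x') : ℕ∞) : WithBot ℕ∞)
  rw [hdim, hdepth]
  change _ + ringKrullDim (U.toScheme.presheaf.stalk x' ⧸
    Groth.Agent.Lib.Helper67.FibreStalk.fibreIdeal g x') + _ = _
  rw [hCM]
  push_cast
  abel

end Groth.Agent.S5025
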