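import Groth.Statements.S5026
import Groth.Agent.Lib.Helper62.DimLoc8
import Groth.Agent.Lib.Helper62.SmoothReg7
import Mathlib.RingTheory.Etale.Kaehler
import Mathlib.RingTheory.RegularLocalRing.Defs

set_option autoImplicit false
set_option linter.style.haveILetI false
universe u
open Unram17

namespace Groth.Agent.S5026


open IsLocalRing KaehlerDifferential TensorProduct Function

section Local

variable (k : Type u) [Field k] (B : Type u) [CommRing B] [IsLocalRing B] [Algebra k B]
  (n r : ℕ) (x : Fin n → B)

/-- L1: if the `1 ⊗ d x_i` span `κ ⊗ Ω_{B/k}` and `x_i ∈ m` for `i < r`, then the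
`d (residue x_i)`, `i ≥ r`, span `Ω_{κ/k}`. -/
theorem span_D_residue (hx : ∀ i : Fin n, (i : ℕ) < r → x i ∈ maximalIdeal B)
    (hspan : Submodule.span (ResidueField B)
      (Set.range fun i => (1 : ResidueField B) ⊗ₜ[B] D k B (x i)) = ⊤) :
    Submodule.span (ResidueField B)
      ((fun i : Fin n => D k (ResidueField B) (residue B (x i))) '' {i : Fin n | r ≤ (i : ℕ)}) =
      ⊤ := by
  have hsurj : Surjective (mapBaseChange k B (ResidueField B)) :=
    KaehlerDifferential.mapBaseChange_surjective k B (ResidueField B) residue_surjective
  have h1 : Submodule.map (mapBaseChange k B (ResidueField B)) ⊤ = ⊤ := by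
    rw [Submodule.map_top, LinearMap.range_eq_top]
    exact hsurj
  rw [← hspan, Submodule.map_span, ← Set.range_comp] at h1
  rw [eq_top_iff, ← h1, Submodule.span_le]
  rintro _ ⟨i, rfl⟩
  simp only [comp, mapBaseChange_tmul, map_D, one_smul]
  by_cases hi : (i : ℕ) < r
  · have h0 : algebraMap B (ResidueField B) (x i) = 0 :=
      (residue_eq_zero_iff _).mpr (hx i hi)
    rw [h0, map_zero]
    exact zero_mem _
  · exact Submodule.subset_span ⟨i, not_lt.mp hi, rfl⟩

/-- L2: in a regular local ring of dimension `r`, `r` elements of the maximal ideal whose images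
under a linear map out of the cotangent space are linearly independent generate the maximal
ideal. -/
theorem span_eq_maximalIdeal_of_linearIndependent [IsRegularLocalRing B]
    (hr : ringKrullDim B = (r : WithBot ℕ∞)) (I : Ideal B) (hI : I = maximalIdeal B)
    (V : Type*) [AddCommGroup V] [Module B V] [Module (ResidueField B) V]
    [IsScalarTower B (ResidueField B) V] (f : I.Cotangent →ₗ[B] V)
    (ι : Type) [Fintype ι] (hι : Fintype.card ι = r) (y : ι → I)
    (hli : LinearIndependent (ResidueField B) fun j => f (I.toCotangent (y j))) :
    Ideal.span (Set.range fun j => (y j : B)) = maximalIdeal B := by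
  subst hI
  have hfin : Module.finrank (ResidueField B) (CotangentSpace B) = r := by
    have := (IsRegularLocalRing.iff_finrank_cotangentSpace B).mp inferInstance
    rw [hr] at this
    exact_mod_cast this
  have hli' : LinearIndependent (ResidueField B)
      fun j => (maximalIdeal B).toCotangent (y j) :=
    LinearIndependent.of_comp (LinearMap.extendScalarsOfSurjective residue_surjective f) hli
  have hspan : Submodule.span (ResidueField B)
      (Set.range fun j => (maximalIdeal B).toCotangent (y j)) = ⊤ :=
    hli'.span_eq_top_of_card_eq_finrank' (by rw [hι, hfin])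
  have h2 : Submodule.span (ResidueField B)
      ((maximalIdeal B).toCotangent '' (Set.range y)) = ⊤ := by
    rw [← Set.range_comp]
    exact hspan
  rw [CotangentSpace.span_image_eq_top_iff] at h2
  have h3 := congrArg (Submodule.map (maximalIdeal B).subtype) h2
  rw [Submodule.map_span, Submodule.map_top, Submodule.range_subtype, ← Set.range_comp] at h3
  exact h3

/-- if `(x_i)_{i<r}` generate the maximal ideal, and the `d (residue x_i)`, `i ≥ r`, span
`Ω_{κ/k}`, then the `1 ⊗ d x_i` span `κ ⊗ Ω_{B/k}`. -/
theorem span_one_tmul_D_eq_top
    (hgen : Ideal.span (x '' {i : Fin n | (i : ℕ) < r}) = maximalIdeal B)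
    (hspan : Submodule.span (ResidueField B)
      ((fun i : Fin n => D k (ResidueField B) (residue B (x i))) '' {i : Fin n | r ≤ (i : ℕ)}) =
      ⊤) :
    Submodule.span (ResidueField B)
      (Set.range fun i => (1 : ResidueField B) ⊗ₜ[B] D k B (x i)) = ⊤ := by
  have hexact := KaehlerDifferential.exact_kerCotangentToTensor_mapBaseChange k B (ResidueField B)
    residue_surjective
  -- the image of the cotangent space lies in `W`
  have hker : ∀ y : B, y ∈ maximalIdeal B → (1 : ResidueField B) ⊗ₜ[B] D k B y ∈
      Submodule.span (ResidueField B)
        (Set.range fun i => (1 : ResidueField B) ⊗ₜ[B] D k B (x i)) := by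
    intro y hy
    have hy' : y ∈ Ideal.span (x '' {i : Fin n | (i : ℕ) < r}) := by rw [hgen]; exact hy
    clear hy
    have key : y ∈ maximalIdeal B ∧ (1 : ResidueField B) ⊗ₜ[B] D k B y ∈
        Submodule.span (ResidueField B)
          (Set.range fun i => (1 : ResidueField B) ⊗ₜ[B] D k B (x i)) := by
      induction hy' using Submodule.span_induction with
      | mem z hz =>
        obtain ⟨i, hi, rfl⟩ := hz
        refine ⟨?_, Submodule.subset_span ⟨i, rfl⟩⟩
        rw [← hgen]
        exact Ideal.subset_span ⟨i, hi, rfl⟩
      | zero => exact ⟨zero_mem _, by simp⟩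
      | add a b _ _ ha hb =>
        refine ⟨add_mem ha.1 hb.1, ?_⟩
        rw [map_add, TensorProduct.tmul_add]
        exact add_mem ha.2 hb.2
      | smul c a _ ha =>
        refine ⟨Ideal.mul_mem_left _ _ ha.1, ?_⟩
        rw [smul_eq_mul, Derivation.leibniz, TensorProduct.tmul_add, TensorProduct.tmul_smul,
          TensorProduct.tmul_smul]
        have h0 : algebraMap B (ResidueField B) a = 0 := (residue_eq_zero_iff _).mpr ha.1
        have e1 : c • ((1 : ResidueField B) ⊗ₜ[B] D k B a) =
            algebraMap B (ResidueField B) c • ((1 : ResidueField B) ⊗ₜ[B] D k B a) := by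
          rw [algebraMap_smul]
        have e2 : a • ((1 : ResidueField B) ⊗ₜ[B] D k B c) = 0 := by
          rw [← algebraMap_smul (ResidueField B) a, h0, zero_smul]
        rw [e1, e2, add_zero]
        exact Submodule.smul_mem _ _ ha.2
    exact key.2
  rw [eq_top_iff]
  rintro v -
  -- hit `g v` by an element of `W`
  have hgv : mapBaseChange k B (ResidueField B) v ∈ Submodule.map (mapBaseChange k B (ResidueField B))
      (Submodule.span (ResidueField B)
        (Set.range fun i => (1 : ResidueField B) ⊗ₜ[B] D k B (x i))) := by
    rw [Submodule.map_span, ← Set.range_comp]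
    have : Submodule.span (ResidueField B)
        ((fun i : Fin n => D k (ResidueField B) (residue B (x i))) '' {i : Fin n | r ≤ (i : ℕ)}) ≤
        Submodule.span (ResidueField B)
          (Set.range ((mapBaseChange k B (ResidueField B)) ∘
            fun i => (1 : ResidueField B) ⊗ₜ[B] D k B (x i))) := by
      apply Submodule.span_mono
      rintro _ ⟨i, -, rfl⟩
      refine ⟨i, ?_⟩
      simp only [comp, mapBaseChange_tmul, map_D, one_smul]
      rfl
    apply this
    rw [hspan]
    trivial
  obtain ⟨w, hw, hwv⟩ := hgv
  have hdiff : mapBaseChange k B (ResidueField B) (v - w) = 0 := by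
    rw [map_sub, hwv, sub_self]
  obtain ⟨c, hc⟩ := (hexact (v - w)).mp hdiff
  obtain ⟨⟨y, hy⟩, rfl⟩ := Ideal.toCotangent_surjective _ c
  rw [kerCotangentToTensor_toCotangent] at hc
  have hy' : y ∈ maximalIdeal B := by
    rw [RingHom.mem_ker] at hy
    exact (residue_eq_zero_iff _).mp hy
  have := hker y hy'
  rw [hc] at this
  have hv : v = (v - w) + w := by abel
  rw [hv]
  exact add_mem this hw

end Local

/-- Let k be a field, A a k-algebra of finite type equipped with a k-algebra map from the polynomial
ring in n variables (images g_i of the variables), p a prime of A such that Spec A has local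
dimension n at p, r the Krull dimension of the local ring A_p, and suppose g_i ∈ p for the indices i
< r. Then A is etale at p over the polynomial ring if and only if the images of the g_i with i < r
generate the maximal ideal of A_p and the differentials of the residue classes of the g_i with i ≥ r
generate the module of differentials of the residue field κ(p) over k. (The published statement adds
that these conditions imply that A is smooth at p over k and that κ(p) is separable over k; this row
does not state that consequence.) -/
theorem result (k A : Type u) [Field k]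
    [CommRing A] [Algebra k A] [Algebra.FiniteType k A] (n r : ℕ) [Algebra (MvPolynomial (Fin n) k) A]
    [IsScalarTower k (MvPolynomial (Fin n) k) A] (p : Ideal A) [p.IsPrime]
    (hn : FlatMor.localDim (PrimeSpectrum A) ⟨p, inferInstance⟩ = (n : WithBot ℕ∞))
    (hr : ringKrullDim (Localization.AtPrime p) = (r : WithBot ℕ∞))
    (hg : ∀ i : Fin n, (i : ℕ) < r → algebraMap (MvPolynomial (Fin n) k) A (MvPolynomial.X i) ∈ p) :
    Algebra.IsEtaleAt (MvPolynomial (Fin n) k) p ↔
      Ideal.span ((fun i : Fin n =>
          algebraMap A (Localization.AtPrime p) (algebraMap (MvPolynomial (Fin n) k) A (MvPolynomial.X i))) ''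
            {i : Fin n | (i : ℕ) < r}) = IsLocalRing.maximalIdeal (Localization.AtPrime p) ∧
        Submodule.span p.ResidueField ((fun i : Fin n =>
          KaehlerDifferential.D k p.ResidueField
            (IsLocalRing.residue (Localization.AtPrime p)
              (algebraMap A (Localization.AtPrime p) (algebraMap (MvPolynomial (Fin n) k) A (MvPolynomial.X i))))) ''
            {i : Fin n | r ≤ (i : ℕ)}) = ⊤ := by
  classical
  haveI : IsNoetherianRing A := Algebra.FiniteType.isNoetherianRing k A
  haveI : Module.Free (MvPolynomial (Fin n) k) (KaehlerDifferential k (MvPolynomial (Fin n) k)) :=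
    Module.Free.of_basis (KaehlerDifferential.mvPolynomialBasis k (Fin n))
  have hrank : Module.finrank (MvPolynomial (Fin n) k)
      (KaehlerDifferential k (MvPolynomial (Fin n) k)) = n := by
    rw [Module.finrank_eq_card_basis (KaehlerDifferential.mvPolynomialBasis k (Fin n))]
    simp
  have hrn : r ≤ n := by
    have h := Groth.Agent.Lib.Helper62.DimLoc.localDim_eq_ringKrullDim_add k A p
    rw [hn, hr] at h
    have h0 : (0 : WithBot ℕ∞) ≤ ringKrullDim (A ⧸ p) := ringKrullDim_nonneg_of_nontrivial
    have h1 : (r : WithBot ℕ∞) ≤ (n : WithBot ℕ∞) := by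
      rw [h]
      exact le_add_of_nonneg_right h0
    exact_mod_cast h1
  have hxm : ∀ i : Fin n, (i : ℕ) < r →
      algebraMap A (Localization.AtPrime p)
        (algebraMap (MvPolynomial (Fin n) k) A (MvPolynomial.X i)) ∈
        maximalIdeal (Localization.AtPrime p) := by
    intro i hi
    exact (IsLocalization.AtPrime.to_map_mem_maximal_iff _ p _).mpr (hg i hi)
  haveI : Algebra.EssFiniteType k (Localization.AtPrime p) :=
    Algebra.EssFiniteType.comp k A _
  constructor
  · intro het
    haveI : Algebra.FormallyEtale (MvPolynomial (Fin n) k) (Localization.AtPrime p) := het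
    haveI : Algebra.FormallySmooth k (Localization.AtPrime p) :=
      Algebra.FormallySmooth.comp k (MvPolynomial (Fin n) k) _
    haveI : IsRegularLocalRing (Localization.AtPrime p) :=
      Groth.Agent.Lib.Helper62.SmoothReg.isRegularLocalRing_of_isSmoothAt k A p inferInstance
    let b1 : Module.Basis (Fin n) (Localization.AtPrime p) Ω[Localization.AtPrime p⁄k] :=
      ((KaehlerDifferential.mvPolynomialBasis k (Fin n)).baseChange (Localization.AtPrime p)).map
        (tensorKaehlerEquivOfFormallyEtale k (MvPolynomial (Fin n) k) (Localization.AtPrime p))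
    have hb1 : ∀ i, b1 i = D k (Localization.AtPrime p)
        (algebraMap A (Localization.AtPrime p)
          (algebraMap (MvPolynomial (Fin n) k) A (MvPolynomial.X i))) := by
      intro i
      simp only [b1, Module.Basis.map_apply, Module.Basis.baseChange_apply,
        KaehlerDifferential.mvPolynomialBasis_apply, tensorKaehlerEquivOfFormallyEtale_apply,
        mapBaseChange_tmul, map_D, one_smul]
      rw [← IsScalarTower.algebraMap_apply]
    let b2 := b1.baseChange (ResidueField (Localization.AtPrime p))
    have hb2 : ∀ i, b2 i = (1 : ResidueField (Localization.AtPrime p)) ⊗ₜ[Localization.AtPrime p]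
        D k (Localization.AtPrime p) (algebraMap A (Localization.AtPrime p)
          (algebraMap (MvPolynomial (Fin n) k) A (MvPolynomial.X i))) := by
      intro i
      simp only [b2, Module.Basis.baseChange_apply, hb1]
    refine ⟨?_, ?_⟩
    · have hker : RingHom.ker (algebraMap (Localization.AtPrime p)
          (ResidueField (Localization.AtPrime p))) = maximalIdeal (Localization.AtPrime p) :=
        IsLocalRing.ker_residue
      have hι : Fintype.card {i : Fin n // (i : ℕ) < r} = r := by
        rw [Fintype.card_subtype, Fin.card_filter_val_lt]
        exact min_eq_right hrn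
      have hmem : ∀ j : {i : Fin n // (i : ℕ) < r},
          algebraMap A (Localization.AtPrime p)
            (algebraMap (MvPolynomial (Fin n) k) A (MvPolynomial.X j.1)) ∈
          RingHom.ker (algebraMap (Localization.AtPrime p)
            (ResidueField (Localization.AtPrime p))) := by
        intro j
        rw [hker]
        exact hxm j.1 j.2
      have hli : LinearIndependent (ResidueField (Localization.AtPrime p))
          fun j : {i : Fin n // (i : ℕ) < r} =>
            kerCotangentToTensor k (Localization.AtPrime p) (ResidueField (Localization.AtPrime p))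
              (Ideal.toCotangent _ ⟨_, hmem j⟩) := by
        have h1 : LinearIndependent (ResidueField (Localization.AtPrime p))
            (fun j : {i : Fin n // (i : ℕ) < r} => b2 j.1) :=
          b2.linearIndependent.comp _ Subtype.val_injective
        convert h1 using 1
        funext j
        rw [kerCotangentToTensor_toCotangent, hb2]
      have := span_eq_maximalIdeal_of_linearIndependent (B := Localization.AtPrime p) (r := r) hr
        _ hker _
        (kerCotangentToTensor k (Localization.AtPrime p) (ResidueField (Localization.AtPrime p)))
        {i : Fin n // (i : ℕ) < r} hι (fun j => ⟨_, hmem j⟩) hli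
      rw [← this]
      congr 1
      ext z
      constructor
      · rintro ⟨i, hi, rfl⟩
        exact ⟨⟨i, hi⟩, rfl⟩
      · rintro ⟨⟨i, hi⟩, rfl⟩
        exact ⟨i, hi, rfl⟩
    · apply span_D_residue k (Localization.AtPrime p) n r _ hxm
      rw [← b2.span_eq]
      congr 1
      ext z
      constructor
      · rintro ⟨i, rfl⟩
        exact ⟨i, hb2 i⟩
      · rintro ⟨i, rfl⟩
        exact ⟨i, (hb2 i).symm⟩
  · rintro ⟨hC1, hC2⟩
    have hW := span_one_tmul_D_eq_top k (Localization.AtPrime p) n r _ hC1 hC2
    have hspanB : Submodule.span (Localization.AtPrime p) (Set.range fun i : Fin n =>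
        D k (Localization.AtPrime p) (algebraMap (MvPolynomial (Fin n) k) (Localization.AtPrime p)
          (MvPolynomial.X i))) = ⊤ := by
      rw [← IsLocalRing.map_tensorProduct_mk_eq_top, Submodule.map_span,
        ← Submodule.restrictScalars_span (Localization.AtPrime p)
          (ResidueField (Localization.AtPrime p)) Ideal.Quotient.mk_surjective,
        Submodule.restrictScalars_eq_top_iff, ← Set.range_comp]
      exact hW
    haveI : Subsingleton Ω[Localization.AtPrime p⁄MvPolynomial (Fin n) k] :=
      (Groth.Agent.Lib.Helper62.DimLoc.subsingleton_kaehler_iff_span_eq_top k n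
        (Localization.AtPrime p)).mpr hspanB
    haveI : Algebra.IsUnramifiedAt (MvPolynomial (Fin n) k) p := ⟨inferInstance⟩
    exact Groth.Agent.Lib.Helper62.DimLoc.isEtaleAt_of_isUnramifiedAt k (MvPolynomial (Fin n) k) A n
      hrank p (le_of_eq hn.symm)

end Groth.Agent.S5026
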