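import Groth.Statements.S5027
import Groth.Agent.Lib.Helper62.DimLoc8
import Mathlib.RingTheory.RegularLocalRing.Defs

set_option autoImplicit false
set_option linter.style.haveILetI false
universe u
open Unram17

namespace Groth.Agent.S5027

/-- Let A be an algebra of finite type over a field k, p a prime of A such that Spec A has local
dimension n at p, and r the Krull dimension of the local ring A_p. Then A_p is regular and the
residue field κ(p) is a separable extension of k (geometrically reduced over k) if and only if there
exist n elements of the local ring A_p (germs at p in place of sections over an open neighbourhood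
of p, which is equivalent) of which those with index < r generate the maximal ideal and the residue
classes of the remaining ones have differentials generating the module of differentials of κ(p) over
k. -/
theorem result (k A : Type u) [Field k]
    [CommRing A] [Algebra k A] [Algebra.FiniteType k A] (n r : ℕ) (p : Ideal A) [p.IsPrime]
    (hn : FlatMor.localDim (PrimeSpectrum A) ⟨p, inferInstance⟩ = (n : WithBot ℕ∞))
    (hr : ringKrullDim (Localization.AtPrime p) = (r : WithBot ℕ∞)) :
    (IsRegularLocalRing (Localization.AtPrime p) ∧ Algebra.IsGeometricallyReduced k p.ResidueField) ↔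
      ∃ g : Fin n → Localization.AtPrime p,
        Ideal.span (g '' {i : Fin n | (i : ℕ) < r}) = IsLocalRing.maximalIdeal (Localization.AtPrime p) ∧
          Submodule.span p.ResidueField ((fun i : Fin n =>
            KaehlerDifferential.D k p.ResidueField (IsLocalRing.residue (Localization.AtPrime p) (g i))) ''
              {i : Fin n | r ≤ (i : ℕ)}) = ⊤ := by
  classical
  haveI : IsNoetherianRing A := Algebra.FiniteType.isNoetherianRing k A
  haveI : IsNoetherianRing (Localization.AtPrime p) :=
    IsLocalization.isNoetherianRing p.primeCompl _ inferInstance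
  haveI : Algebra.FiniteType k (A ⧸ p) :=
    Algebra.FiniteType.of_surjective (Ideal.Quotient.mkₐ k p) (Ideal.Quotient.mkₐ_surjective k p)
  -- dimensions
  obtain ⟨d, -, hdC, -, -⟩ :=
    Groth.Agent.Lib.Helper73.DimFormula.exists_trdeg_eq_ringKrullDim k (A ⧸ p)
  have hnd : r + d = n := by
    have h := Groth.Agent.Lib.Helper62.DimLoc.localDim_eq_ringKrullDim_add k A p
    rw [hn, hr, hdC] at h
    exact_mod_cast h.symm
  have hrn : r ≤ n := by omega
  have hι : Fintype.card {i : Fin n // (i : ℕ) < r} = r := by
    rw [Fintype.card_subtype, Fin.card_filter_val_lt]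
    exact min_eq_right hrn
  haveI : Algebra.EssFiniteType k p.ResidueField := Algebra.EssFiniteType.comp k A _
  haveI : Module.Finite p.ResidueField Ω[p.ResidueField⁄k] := inferInstance
  constructor
  · rintro ⟨hreg, hgr⟩
    -- generators of the maximal ideal
    have hsf : (IsLocalRing.maximalIdeal (Localization.AtPrime p)).spanFinrank = r := by
      have := hreg.spanFinrank_maximalIdeal
      rw [hr] at this
      exact_mod_cast this
    obtain ⟨s1, hs1card, hs1span⟩ := Submodule.FG.exists_span_finset_card_eq_spanFinrank
      (IsLocalRing.maximalIdeal (Localization.AtPrime p)).fg_of_isNoetherianRing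
    have hcard : Fintype.card {i : Fin n // (i : ℕ) < r} = Fintype.card s1 := by
      rw [hι, Fintype.card_coe, hs1card, hsf]
    let e' : {i : Fin n // (i : ℕ) < r} ≃ s1 := Fintype.equivOfCardEq hcard
    -- differentials of the residue field
    have hfinrank : Module.finrank p.ResidueField Ω[p.ResidueField⁄k] = d := by
      have := Groth.Agent.Lib.Helper62.DimLoc.finrank_kaehler_fractionField_of_geomReduced k
        (A ⧸ p) p.ResidueField
      rw [hdC] at this
      exact_mod_cast this
    have hspanD : Submodule.span p.ResidueField (Set.range (KaehlerDifferential.D k p.ResidueField)) = ⊤ :=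
      KaehlerDifferential.span_range_derivation k p.ResidueField
    haveI : Module.Finite p.ResidueField
        (Submodule.span p.ResidueField (Set.range (KaehlerDifferential.D k p.ResidueField))) := by
      rw [hspanD]
      infer_instance
    obtain ⟨f, hfmem, hfspan, -⟩ := Submodule.exists_fun_fin_finrank_span_eq p.ResidueField
      (Set.range (KaehlerDifferential.D k p.ResidueField))
    have hfin2 : Module.finrank p.ResidueField
        (Submodule.span p.ResidueField (Set.range (KaehlerDifferential.D k p.ResidueField))) = d := by
      rw [hspanD, finrank_top, hfinrank]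
    have hex : ∀ j : Fin d, ∃ b : Localization.AtPrime p,
        KaehlerDifferential.D k p.ResidueField (IsLocalRing.residue (Localization.AtPrime p) b) =
          f (Fin.cast hfin2.symm j) := by
      intro j
      obtain ⟨c, hc⟩ := hfmem (Fin.cast hfin2.symm j)
      obtain ⟨b, rfl⟩ := IsLocalRing.residue_surjective c
      exact ⟨b, hc⟩
    choose b hb using hex
    refine ⟨fun i => if h : (i : ℕ) < r then ((e' ⟨i, h⟩ : s1) : Localization.AtPrime p)
      else b ⟨(i : ℕ) - r, by omega⟩, ?_, ?_⟩
    · rw [← hs1span]
      congr 1
      ext z
      constructor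
      · rintro ⟨i, hi, rfl⟩
        have hi' : (i : ℕ) < r := hi
        simp only [dif_pos hi']
        exact (e' ⟨i, hi'⟩).2
      · intro hz
        obtain ⟨⟨i, hi⟩, hei⟩ := e'.surjective ⟨z, hz⟩
        refine ⟨i, hi, ?_⟩
        simp only [dif_pos hi]
        rw [hei]
    · rw [eq_top_iff, ← hspanD, ← hfspan, Submodule.span_le]
      rintro _ ⟨j, rfl⟩
      apply Submodule.subset_span
      have hj : ((Fin.cast hfin2 j : Fin d) : ℕ) < d := (Fin.cast hfin2 j).2
      refine ⟨⟨r + (j : ℕ), by simpa using (by omega : r + ((Fin.cast hfin2 j : Fin d) : ℕ) < n)⟩,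
        (by simp : r ≤ r + (j : ℕ)), ?_⟩
      have hnot : ¬ (r + (j : ℕ) < r) := by omega
      simp only [dif_neg hnot]
      have hidx : (⟨r + (j : ℕ) - r, by simpa using hj⟩ : Fin d) = Fin.cast hfin2 j :=
        Fin.ext (by simp)
      rw [hidx, hb]
      congr 1
  · rintro ⟨g, hC1, hC2⟩
    refine ⟨?_, ?_⟩
    · apply IsRegularLocalRing.of_spanFinrank_maximalIdeal_le
      rw [hr, ← hC1]
      have hfinite : (g '' {i : Fin n | (i : ℕ) < r}).Finite := Set.toFinite _
      have h1 := Submodule.spanFinrank_span_le_ncard_of_finite (R := Localization.AtPrime p) hfinite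
      have h2 : (g '' {i : Fin n | (i : ℕ) < r}).ncard ≤ r := by
        refine le_trans (Set.ncard_image_le (Set.toFinite _)) ?_
        rw [Set.ncard_eq_toFinset_card']
        simp only [Set.toFinset_ofPred]
        rw [Fin.card_filter_val_lt]
        exact min_le_right _ _
      exact_mod_cast le_trans h1 h2
    · rw [Groth.Agent.Lib.Helper62.DimLoc.geomReduced_fractionField_iff k (A ⧸ p) p.ResidueField,
        hdC]
      have h1 : Module.finrank p.ResidueField Ω[p.ResidueField⁄k] ≤ d := by
        rw [← finrank_top p.ResidueField Ω[p.ResidueField⁄k], ← hC2, Set.image_eq_range]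
        refine le_trans (finrank_range_le_card _) ?_
        have : Fintype.card {i : Fin n // r ≤ (i : ℕ)} = d := by
          rw [Fintype.card_subtype]
          have h3 := Finset.card_filter_add_card_filter_not (s := (Finset.univ : Finset (Fin n)))
            (fun i : Fin n => (i : ℕ) < r)
          rw [Fin.card_filter_val_lt, min_eq_right hrn, Finset.card_univ, Fintype.card_fin] at h3
          have h4 : (Finset.filter (fun i : Fin n => ¬ (i : ℕ) < r) Finset.univ) =
              Finset.filter (fun i : Fin n => r ≤ (i : ℕ)) Finset.univ := by
            ext i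
            simp
          rw [h4] at h3
          omega
        exact le_of_eq this
      exact_mod_cast h1

end Groth.Agent.S5027
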