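import Groth.Statements.S5029
import Mathlib.AlgebraicGeometry.Morphisms.Smooth
import Groth.Agent.Lib.Helper42.SymAlg2
import Groth.Agent.Lib.QCoh.Helper74_LocFree
import Groth.Agent.Lib.Helper28.SymSmooth

set_option autoImplicit false
universe u
open CategoryTheory CategoryTheory.Limits AlgebraicGeometry TopologicalSpace
open Unram17

namespace Groth.Agent.S5029

set_option backward.isDefEq.respectTransparency.types false in
lemma aux {S : Scheme.{u}} (E : S.Modules) (hE : Coh.IsQCoh E)
    (hlf : FlatMod.IsFinLocFree E) (A : RelSpec.QCAlg S) (j : E ⟶ A.toModule)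
    (hA : RelSpec.IsSymAlg E A j) :
    Smooth A.π := by
  have : E.IsQuasicoherent := hE
  refine (IsZariskiLocalAtSource.iff_of_openCover (P := @Smooth) (f := A.π)
    A.glueData.cover).mpr ?_
  intro U
  change Smooth (A.ι U.1 U.2 ≫ A.π)
  rw [A.ι_π]
  have hft : Smooth (Spec.map (A.str.app (Opposite.op U.1))) := by
    rw [HasRingHomProperty.Spec_iff (P := @Smooth)]
    obtain ⟨hfin, hproj⟩ := Groth.Agent.Lib.QCoh.finite_projective_Γ_of_isAffineOpen hlf U.2
    haveI : Module.Finite Γ(S, U.1) Γ(E, U.1) := hfin
    haveI : Module.Projective Γ(S, U.1) Γ(E, U.1) := hproj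
    have hbij := Groth.Agent.Lib.Helper42.SymAlg.bijective_tauU E hA U.1 U.2
    have hcomp : (A.str.app (Opposite.op U.1)).hom =
        (Groth.Agent.Lib.Helper42.SymAlg.tauU E A j U.1).comp
          (algebraMap Γ(S, U.1) (Groth.Agent.Lib.Helper42.SymAlg.SymU E U.1)) := by
      ext r
      exact (Groth.Agent.Lib.Helper42.SymLoc.liftRing_algebraMap (A.str.app (Opposite.op U.1)).hom
        (Groth.Agent.Lib.Helper42.SymAlg.phiU E A j U.1)
        (Groth.Agent.Lib.Helper42.SymAlg.phiU_smul E A j U.1) r).symm
    rw [hcomp]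
    refine RingHom.Smooth.comp ?_ (RingHom.Smooth.of_bijective hbij)
    exact (RingHom.smooth_algebraMap).mpr
      (Groth.Agent.Lib.Helper28.SymSmooth.smooth_symmetricAlgebra Γ(S, U.1) Γ(E, U.1))
  infer_instance

/-- Let S be a scheme and E a quasi-coherent O_S-module that is finite locally free. If A is a
quasi-coherent O_S-algebra which is the symmetric algebra of E (through j : E ⟶ A), then the
structure morphism of the relative spectrum of A, i.e. of the vector bundle V(E), is smooth. -/
theorem result {S : Scheme.{u}} (E : S.Modules) (hE : Coh.IsQCoh E)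
    (hlf : FlatMod.IsFinLocFree E) (A : RelSpec.QCAlg S) (j : E ⟶ A.toModule) (hA : RelSpec.IsSymAlg E A j) :
    Smooth A.π := by
  exact aux E hE hlf A j hA

end Groth.Agent.S5029
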