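import Groth.Statements.S5033
import Mathlib
import Groth.Agent.Lib.Helper83.RegQuot

set_option autoImplicit false
universe u
open CInt

namespace Groth.Agent.S5033

/-- Let A be a Noetherian local ring and J an ideal such that A/J is a regular local ring. Then A is a
regular local ring if and only if J is generated by a regular sequence of A. -/
theorem result (A : Type u) [CommRing A] [IsNoetherianRing A]
    [IsLocalRing A] (J : Ideal A) [IsRegularLocalRing (A ⧸ J)] :
    IsRegularLocalRing A ↔ CInt.IsRegularIdeal J := by
  classical
  constructor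
  · intro hreg
    obtain ⟨rs, h1, h2⟩ :=
      Groth.Agent.Lib.Helper83.RegQuot.exists_isRegular_of_isRegularLocalRing_quotient J
    exact ⟨rs, h1, h2⟩
  · rintro ⟨rs, hrs, hJ⟩
    have hdim : ringKrullDim (A ⧸ J) + rs.length = ringKrullDim A := by
      rw [← hJ]
      exact ringKrullDim_add_length_eq_ringKrullDim_of_isRegular rs hrs
    have hμ : ((IsLocalRing.maximalIdeal (A ⧸ J)).spanFinrank : WithBot ℕ∞) =
        ringKrullDim (A ⧸ J) := IsRegularLocalRing.spanFinrank_maximalIdeal
    obtain ⟨t, htcard, htm, htspan⟩ :=
      Groth.Agent.Lib.Helper83.RegQuot.exists_finset_span_sup_eq J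
    have hJspan : Ideal.span ((rs.toFinset : Finset A) : Set A) = J := by
      rw [← hJ, List.coe_toFinset]
    have hspan2 : Ideal.span ((t ∪ rs.toFinset : Finset A) : Set A) =
        IsLocalRing.maximalIdeal A := by
      rw [Finset.coe_union, Ideal.span_union, hJspan, htspan]
    have hμA : (IsLocalRing.maximalIdeal A).spanFinrank ≤ (t ∪ rs.toFinset).card := by
      have h1 := Submodule.spanFinrank_span_le_ncard_of_finite (R := A)
        (Finset.finite_toSet (t ∪ rs.toFinset))
      rw [Set.ncard_coe_finset] at h1
      change (Ideal.span ((t ∪ rs.toFinset : Finset A) : Set A)).spanFinrank ≤ _ at h1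
      rwa [hspan2] at h1
    have hunion := Finset.card_union_le t rs.toFinset
    have hlen := List.toFinset_card_le rs
    apply IsRegularLocalRing.of_spanFinrank_maximalIdeal_le
    rw [← hdim, ← hμ]
    have : (IsLocalRing.maximalIdeal A).spanFinrank ≤
        (IsLocalRing.maximalIdeal (A ⧸ J)).spanFinrank + rs.length := by omega
    exact_mod_cast this

end Groth.Agent.S5033
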