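import Groth.Statements.S5039
import Groth.Agent.Lib.Helper88.HensNagata2
import Groth.Agent.S0567
-- import your own Groth.Agent.* helpers here

set_option autoImplicit false
universe u
open Hensel

namespace Groth.Agent.S5039

/-- Let R be a Noetherian local ring and S its henselization. Then S is universally Japanese if and only
if R is. -/
theorem result (R S : Type u) [CommRing R] [IsLocalRing R] [IsNoetherianRing R]
    [CommRing S] [IsLocalRing S] [Algebra R S] [IsLocalHom (algebraMap R S)] [Hensel.IsHenselization R S] :
    CAlg.IsUniversallyJapanese S ↔ CAlg.IsUniversallyJapanese R := by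
  haveI : IsNoetherianRing S :=
    (Groth.Agent.Lib.Helper37.Hz.isNoetherianRing_iff_of_isHenselization R S).mp inferInstance
  have hR := Groth.Agent.S0567.result R
  have hS := Groth.Agent.S0567.result S
  constructor
  · intro h
    have h1 : CAlg.IsNagata S := hS.mpr ⟨inferInstance, h⟩
    exact (hR.mp
      (Groth.Agent.Lib.Helper88.HensNagata.isNagata_of_isNagata_henselization R S h1)).2
  · intro h
    have h1 : CAlg.IsNagata R := hR.mpr ⟨inferInstance, h⟩
    exact (hS.mp (Groth.Agent.Lib.Helper88.HensNagata.isNagata_henselization R S h1)).2

end Groth.Agent.S5039
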