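import Groth.Statements.S5040
import Groth.Agent.Lib.Helper37.Hz62

set_option autoImplicit false
universe u
open Hensel

namespace Groth.Agent.S5040

/-- Let R be a Noetherian local ring with henselization S. If R is formally catenary (the completion of
R/p is equidimensional for every prime ideal p), then S is formally catenary. -/
theorem result (R S : Type u) [CommRing R] [IsLocalRing R] [IsNoetherianRing R]
    [CommRing S] [IsLocalRing S] [Algebra R S] [IsLocalHom (algebraMap R S)] [Hensel.IsHenselization R S]
    (h : EGA4.IsFormallyCatenary R) : EGA4.IsFormallyCatenary S := by
  intro q hq
  exact Groth.Agent.Lib.Helper37.Hz.FormCat.isFormallyEquidim_quotient R S q (h _)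

end Groth.Agent.S5040
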