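import Groth.Statements.S5043
import Groth.Agent.Lib.Helper37.Hz24

set_option autoImplicit false
universe u
open Hensel

namespace Groth.Agent.S5043

/-- Let R be a Noetherian local ring with henselization S. A prime ideal P of S is an associated prime
of S if and only if its inverse image in R is an associated prime of R. -/
theorem result (R S : Type u) [CommRing R] [IsLocalRing R] [IsNoetherianRing R]
    [CommRing S] [IsLocalRing S] [Algebra R S] [IsLocalHom (algebraMap R S)] [Hensel.IsHenselization R S]
    (P : Ideal S) [P.IsPrime] :
    P ∈ associatedPrimes S S ↔ P.comap (algebraMap R S) ∈ associatedPrimes R R := by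
  have : IsNoetherianRing S := (Groth.Agent.Lib.Helper37.Hz.isNoetherianRing_iff_of_isHenselization R S).mp inferInstance
  have : Module.FaithfullyFlat R S := Groth.Agent.Lib.Helper37.Hz.faithfullyFlat_of_isHenselization R S
  exact (Groth.Agent.Lib.Helper37.Hz.fieldFibres_of_isHenselization R S).mem_associatedPrimes_iff P

end Groth.Agent.S5043
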