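import Groth.Statements.S5046
-- import your own Groth.Agent.* helpers here
import Groth.Agent.Lib.Helper15.PuncConn2
import Groth.Agent.Lib.Helper49.GlobConn
import Groth.Agent.Lib.Helper69.GUTransport
set_option linter.style.haveILetI false

set_option autoImplicit false
open CategoryTheory AlgebraicGeometry
universe u
open Unram

namespace Groth.Agent.S5046

/-- the stalk of `Spec A` at the closed point of a local ring is `A` -/
theorem nonempty_stalkEquiv (A : Type u) [CommRing A] [IsLocalRing A]
    (y : Spec (CommRingCat.of A)) (hy : y = IsLocalRing.closedPoint A) :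
    Nonempty (A ≃+* (Spec (CommRingCat.of A)).presheaf.stalk y) := by
  subst hy
  letI : Algebra A ((Spec (CommRingCat.of A)).presheaf.stalk (IsLocalRing.closedPoint A)) :=
    StructureSheaf.stalkAlgebra (R := A) (IsLocalRing.closedPoint A)
  haveI : IsLocalization.AtPrime
      ((Spec (CommRingCat.of A)).presheaf.stalk (IsLocalRing.closedPoint A))
      (IsLocalRing.closedPoint A).asIdeal :=
    StructureSheaf.IsLocalization.to_stalk (R := A) (IsLocalRing.closedPoint A)
  have hM : (IsLocalRing.closedPoint A).asIdeal.primeCompl ≤ IsUnit.submonoid A := by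
    intro a ha
    by_contra hu
    exact ha ((IsLocalRing.mem_maximalIdeal a).mpr hu)
  exact ⟨(IsLocalization.atUnits A (IsLocalRing.closedPoint A).asIdeal.primeCompl hM).toRingEquiv⟩

/-- Local-to-global principle for connectedness of complements (after helper49 `GlobConn`). -/
theorem isConnected_compl_of_stalk {X : Scheme.{u}} [IsLocallyNoetherian X] [ConnectedSpace ↥X]
    (T : Set ↥X)
    (hloc : ∀ x : X, _root_.IsConnected
      (((X.fromSpecStalk x) ⁻¹' T)ᶜ : Set (PrimeSpectrum (X.presheaf.stalk x)))) :
    _root_.IsConnected Tᶜ := by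
  have hgen : ∀ x : X, ∃ x' : X, x' ⤳ x ∧ x' ∉ T := by
    intro x
    obtain ⟨P, hP⟩ := (hloc x).nonempty
    refine ⟨X.fromSpecStalk x P, ?_, hP⟩
    have : X.fromSpecStalk x P ∈ Set.range (X.fromSpecStalk x) := ⟨P, rfl⟩
    rw [Scheme.range_fromSpecStalk] at this
    exact this
  refine ⟨?_, ?_⟩
  · obtain ⟨x⟩ := (inferInstance : Nonempty X)
    obtain ⟨x', -, hx'⟩ := hgen x
    exact ⟨x', hx'⟩
  · rintro u v hu hv huv ⟨a, haT, hau⟩ ⟨b, hbT, hbv⟩
    by_contra hcon
    have hdisj : ∀ z : X, z ∉ T → z ∈ u → z ∈ v → False := fun z hz hzu hzv =>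
      hcon ⟨z, hz, hzu, hzv⟩
    let C1 : Set X := {x | ∃ x' : X, x' ⤳ x ∧ x' ∉ T ∧ x' ∈ u}
    let C2 : Set X := {x | ∃ x' : X, x' ⤳ x ∧ x' ∉ T ∧ x' ∈ v}
    have hcover : ∀ x : X, x ∈ C1 ∨ x ∈ C2 := by
      intro x
      obtain ⟨x', hx', hx'T⟩ := hgen x
      rcases huv hx'T with h | h
      · exact Or.inl ⟨x', hx', hx'T, h⟩
      · exact Or.inr ⟨x', hx', hx'T, h⟩
    have hdisjC : ∀ x : X, x ∈ C1 → x ∈ C2 → False := by
      rintro x ⟨x1, hx1, hx1T, hx1u⟩ ⟨x2, hx2, hx2T, hx2v⟩
      have hr1 : x1 ∈ Set.range (X.fromSpecStalk x) := by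
        rw [Scheme.range_fromSpecStalk]; exact hx1
      have hr2 : x2 ∈ Set.range (X.fromSpecStalk x) := by
        rw [Scheme.range_fromSpecStalk]; exact hx2
      obtain ⟨P1, rfl⟩ := hr1
      obtain ⟨P2, rfl⟩ := hr2
      have hpre := (hloc x).isPreconnected ((X.fromSpecStalk x) ⁻¹' u) ((X.fromSpecStalk x) ⁻¹' v)
        (hu.preimage (X.fromSpecStalk x).continuous) (hv.preimage (X.fromSpecStalk x).continuous)
        (fun P hP => huv (show (X.fromSpecStalk x) P ∈ Tᶜ from hP))
        ⟨P1, hx1T, hx1u⟩ ⟨P2, hx2T, hx2v⟩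
      obtain ⟨P, hPT, hPu, hPv⟩ := hpre
      exact hdisj _ hPT hPu hPv
    have hC1spec : StableUnderSpecialization C1 := by
      rintro x y hxy ⟨x', hx', h1, h2⟩
      exact ⟨x', hx'.trans hxy, h1, h2⟩
    have hC2spec : StableUnderSpecialization C2 := by
      rintro x y hxy ⟨x', hx', h1, h2⟩
      exact ⟨x', hx'.trans hxy, h1, h2⟩
    have hC1gen : StableUnderGeneralization C1 := by
      intro x y hyx hx
      rcases hcover y with h | h
      · exact h
      · exact (hdisjC x hx (hC2spec hyx h)).elim
    have hopen : IsOpen C1 :=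
      Groth.Agent.Lib.Helper49.GlobConn.isOpen_of_stable_scheme X C1 hC1spec hC1gen
    have hC2gen : StableUnderGeneralization C2 := by
      intro x y hyx hx
      rcases hcover y with h | h
      · exact (hdisjC x (hC1spec hyx h) hx).elim
      · exact h
    have hopen2 : IsOpen C2 :=
      Groth.Agent.Lib.Helper49.GlobConn.isOpen_of_stable_scheme X C2 hC2spec hC2gen
    have hclopen : IsClopen C1 := by
      refine ⟨?_, hopen⟩
      have : C1 = C2ᶜ := by
        ext x
        constructor
        · intro h1 h2; exact hdisjC x h1 h2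
        · intro h2
          rcases hcover x with h | h
          · exact h
          · exact (h2 h).elim
      rw [this]
      exact hopen2.isClosed_compl
    rcases isClopen_iff.mp hclopen with h | h
    · have : a ∈ C1 := ⟨a, specializes_rfl, haT, hau⟩
      rw [h] at this
      exact this
    · have hb : b ∈ C1 := by rw [h]; trivial
      exact hdisjC b hb ⟨b, specializes_rfl, hbT, hbv⟩


/-- Let A be a Noetherian local domain of Krull dimension at least 2 which is geometrically unibranch, X
a connected locally Noetherian scheme and f : X ⟶ Spec A a flat morphism. Then for every closed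
subset T of X lying over the closed point of Spec A, the complement of T in X is connected. -/
theorem result (A : Type u) [CommRing A]
    [IsNoetherianRing A] [IsLocalRing A] [IsDomain A] (hA : CAlg2.IsGeomUnibranch A) (hdim : 2 ≤ ringKrullDim A)
    {X : Scheme.{u}} [IsLocallyNoetherian X] [ConnectedSpace ↥X] (f : X ⟶ Spec (CommRingCat.of A)) [Flat f]
    (T : Set ↥X) (hT : IsClosed T) (hTy : ∀ x ∈ T, f.base x = IsLocalRing.closedPoint A) :
    IsConnected Tᶜ := by
  classical
  apply isConnected_compl_of_stalk T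
  intro x
  by_cases hxT : x ∈ T
  · -- the local statement over the closed point
    have hfx : f.base x = IsLocalRing.closedPoint A := hTy x hxT
    obtain ⟨e₀⟩ := nonempty_stalkEquiv A (f.base x) hfx
    letI := (f.stalkMap x).hom.toAlgebra
    haveI : IsLocalHom (algebraMap ((Spec (CommRingCat.of A)).presheaf.stalk (f.base x))
        (X.presheaf.stalk x)) := inferInstanceAs (IsLocalHom (f.stalkMap x).hom)
    haveI : Module.Flat ((Spec (CommRingCat.of A)).presheaf.stalk (f.base x))
        (X.presheaf.stalk x) := Flat.stalkMap f x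
    haveI : IsDomain ((Spec (CommRingCat.of A)).presheaf.stalk (f.base x)) :=
      e₀.toMulEquiv.isDomain_iff.mp inferInstance
    haveI : IsNoetherianRing ((Spec (CommRingCat.of A)).presheaf.stalk (f.base x)) :=
      isNoetherianRing_of_ringEquiv A e₀
    have hAy : CAlg2.IsGeomUnibranch ((Spec (CommRingCat.of A)).presheaf.stalk (f.base x)) :=
      Groth.Agent.Lib.Helper69.GUTransport.isGeomUnibranch_of_ringEquiv e₀ hA
    have hdimy : 2 ≤ ringKrullDim ((Spec (CommRingCat.of A)).presheaf.stalk (f.base x)) := by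
      rw [← ringKrullDim_eq_of_ringEquiv e₀]; exact hdim
    refine Groth.Agent.Lib.Helper15.PuncConn.isConnected_compl_of_isGeomUnibranch
      ((Spec (CommRingCat.of A)).presheaf.stalk (f.base x)) (X.presheaf.stalk x) hAy hdimy _
      (hT.preimage (X.fromSpecStalk x).continuous) ?_
    intro P hP
    let P' : ↥(Spec (X.presheaf.stalk x)) := P
    have hP' : (X.fromSpecStalk x) P' ∈ T := hP
    have h0 := Scheme.SpecMap_stalkMap_fromSpecStalk (f := f) (x := x)
    have h1 : (Spec.map (f.stalkMap x) ≫ (Spec (CommRingCat.of A)).fromSpecStalk (f.base x)) P' =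
        (X.fromSpecStalk x ≫ f) P' := by rw [h0]
    rw [Scheme.Hom.comp_apply, Scheme.Hom.comp_apply] at h1
    have h2 : f.base ((X.fromSpecStalk x) P') = f.base x := by
      rw [hTy _ hP', hfx]
    have h3 : ((Spec (CommRingCat.of A)).fromSpecStalk (f.base x)) ((Spec.map (f.stalkMap x)) P') =
        ((Spec (CommRingCat.of A)).fromSpecStalk (f.base x))
          (IsLocalRing.closedPoint ((Spec (CommRingCat.of A)).presheaf.stalk (f.base x))) := by
      rw [Scheme.fromSpecStalk_closedPoint]
      exact h1.trans h2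
    have h4 : (Spec.map (f.stalkMap x)) P' =
        IsLocalRing.closedPoint ((Spec (CommRingCat.of A)).presheaf.stalk (f.base x)) :=
      ((Spec (CommRingCat.of A)).fromSpecStalk (f.base x)).isEmbedding.injective h3
    have h5 := congrArg PrimeSpectrum.asIdeal h4
    exact h5.ge
  · -- nothing removed: the spectrum of a local ring is connected
    have hempty : ((X.fromSpecStalk x) ⁻¹' T : Set (PrimeSpectrum (X.presheaf.stalk x))) = ∅ := by
      rw [Set.eq_empty_iff_forall_notMem]
      intro P hP
      have hr : X.fromSpecStalk x P ∈ Set.range (X.fromSpecStalk x) := ⟨P, rfl⟩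
      rw [Scheme.range_fromSpecStalk] at hr
      exact hxT ((hr : _ ⤳ x).mem_closed hT hP)
    rw [hempty, Set.compl_empty]
    haveI : ConnectedSpace (PrimeSpectrum (X.presheaf.stalk x)) :=
      (Groth.Agent.Lib.Helper49.AdicNormal.connectedSpace_iff _).2
        ⟨inferInstance, fun e he =>
          Groth.Agent.Lib.Helper15.PuncConn.idem_zero_or_one e he.eq⟩
    exact isConnected_univ

end Groth.Agent.S5046
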