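import Groth.Statements.S5048
import Groth.Agent.Lib.Helper21.IrrCompProduct
-- import your own Groth.Agent.* helpers here

set_option autoImplicit false
open CategoryTheory AlgebraicGeometry
universe u
open Unram

namespace Groth.Agent.S5048

/-- Let Y be an irreducible scheme with generic point η and f : X ⟶ Y flat, locally of finite type and
locally quasi-finite. Then a point x of X maps to η if and only if its closure is an irreducible
component of X; thus the irreducible components of X are in canonical bijection with the fibre over
η. -/
theorem result {X Y : Scheme.{u}} [IrreducibleSpace ↥Y] (f : X ⟶ Y)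
    [Flat f] [LocallyOfFiniteType f] [LocallyQuasiFinite f] (x : X) :
    f.base x = genericPoint Y ↔ closure ({x} : Set ↥X) ∈ irreducibleComponents ↥X := by
  have hgen : GeneralizingMap f := Flat.generalizingMap f
  constructor
  · intro hx
    have hmax : ∀ x' : X, x' ⤳ x → x' = x := by
      intro x' hx'
      have h1 : f x' ⤳ f x := hx'.map f.continuous
      have h2 : f x' = genericPoint Y := by
        rw [hx] at h1
        exact (h1.antisymm (genericPoint_specializes _)).eq
      have hd := f.isDiscrete_preimage_singleton (genericPoint Y)
      have hdt : DiscreteTopology ↥(f ⁻¹' {genericPoint Y}) := hd.to_subtype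
      have hsp : (⟨x', h2⟩ : ↥(f ⁻¹' {genericPoint Y})) ⤳ ⟨x, hx⟩ :=
        Topology.IsInducing.subtypeVal.specializes_iff.1 hx'
      exact congrArg Subtype.val (specializes_iff_eq.1 hsp)
    refine ⟨isIrreducible_singleton.closure, ?_⟩
    intro Z hZ hle
    have hx' : IsGenericPoint hZ.genericPoint (closure Z) := hZ.isGenericPoint_genericPoint_closure
    have hxZ : x ∈ closure Z := subset_closure (hle (subset_closure rfl))
    have h3 : hZ.genericPoint = x := hmax _ (hx'.specializes hxZ)
    have h4 : closure Z = closure {x} := by
      rw [← hx'.def, h3]
    rw [← h4]
    exact subset_closure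
  · intro hx
    have hmax : ∀ z : X, z ⤳ x → x ⤳ z := by
      intro z hz
      have h1 : closure {x} ⊆ closure {z} :=
        (isClosed_closure.closure_subset_iff).2
          (Set.singleton_subset_iff.2 (specializes_iff_mem_closure.1 hz))
      have h2 : closure {z} ⊆ closure {x} := hx.2 isIrreducible_singleton.closure h1
      exact specializes_iff_mem_closure.2 (h2 (subset_closure rfl))
    have h3 : f x ⤳ genericPoint Y :=
      Groth.Agent.Lib.Helper21.specializes_of_generalizingMap_of_maximal hgen f.continuous hmax
        (genericPoint_specializes (f x))
    exact (h3.antisymm (genericPoint_specializes _)).eq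

end Groth.Agent.S5048
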