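import Groth.Statements.S5049
import Groth.Agent.Lib.Helper21.MaximalPoints
import Groth.Agent.Lib.Helper21.IrrCompProduct
-- import your own Groth.Agent.* helpers here

set_option autoImplicit false
open CategoryTheory AlgebraicGeometry
universe u
open Unram

namespace Groth.Agent.S5049

/-- Let f : X ⟶ Y be flat, locally of finite type and locally quasi-finite. If the irreducible
components of Y form a locally finite family of subsets, then so do the irreducible components of X. -/
theorem result {X Y : Scheme.{u}} (f : X ⟶ Y)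
    [Flat f] [LocallyOfFiniteType f] [LocallyQuasiFinite f]
    (hY : LocallyFinite (fun Z : ↥(irreducibleComponents ↥Y) => (Z : Set ↥Y))) :
    LocallyFinite (fun Z : ↥(irreducibleComponents ↥X) => (Z : Set ↥X)) := by
  classical
  have hgen : GeneralizingMap f := Flat.generalizingMap f
  intro x
  obtain ⟨t, ht, hfin⟩ := hY (f x)
  -- affine open `V'` with `f x ∈ V' ⊆ t`
  obtain ⟨t₀, ht₀t, ht₀open, hxt₀⟩ := mem_nhds_iff.1 ht
  obtain ⟨_, ⟨V'₀, hV', rfl⟩, hyV', hV't₀⟩ :=
    Y.isBasis_affineOpens.exists_subset_of_mem_open hxt₀ ht₀open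
  let V' : Y.Opens := V'₀
  have hV'a : IsAffineOpen V' := hV'
  -- affine open `U` with `x ∈ U ⊆ f⁻¹ V'`
  obtain ⟨_, ⟨U₀, hU, rfl⟩, hxU, hUV'⟩ :=
    X.isBasis_affineOpens.exists_subset_of_mem_open (show x ∈ ((f ⁻¹ᵁ V' : X.Opens) : Set X) from hyV')
      (f ⁻¹ᵁ V').isOpen
  let U : X.Opens := U₀
  have hUa : IsAffineOpen U := hU
  have hUle : U ≤ f ⁻¹ᵁ V' := hUV'
  let g : (↑U : Scheme.{u}) ⟶ ↑V' := f.resLE V' U hUle
  have hgι : g ≫ V'.ι = U.ι ≫ f := Scheme.Hom.resLE_comp_ι f hUle
  have hgapp : ∀ u : ↥(↑U : Scheme.{u}), (g u).1 = f u.1 := by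
    intro u
    have := congrArg (fun ψ : (↑U : Scheme.{u}) ⟶ Y => ψ u) hgι
    exact this
  have hUaff : IsAffine (↑U : Scheme.{u}) := hUa
  have hV'aff : IsAffine (↑V' : Scheme.{u}) := hV'a
  have hgaff : IsAffineHom g := isAffineHom_of_isAffine g
  have hgqc : QuasiCompact g := inferInstance
  have hglqf : LocallyQuasiFinite g := inferInstance
  refine ⟨(U : Set X), U.isOpen.mem_nhds hxU, ?_⟩
  -- the finite set of candidate generic points
  let SY : Set ↥(irreducibleComponents ↥Y) := {W | ((W : Set ↥Y) ∩ t).Nonempty}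
  let piece : ↥(irreducibleComponents ↥Y) → Set X := fun W =>
    {u : X | u ∈ U ∧ f u = W.2.1.genericPoint}
  have hpiece : ∀ W, (piece W).Finite := by
    intro W
    by_cases hη : W.2.1.genericPoint ∈ V'
    · have h1 : (g ⁻¹' {⟨W.2.1.genericPoint, hη⟩}).Finite := g.finite_preimage_singleton _
      refine (h1.image (fun u : ↥(↑U : Scheme.{u}) => u.1)).subset ?_
      rintro u ⟨huU, hfu⟩
      refine ⟨⟨u, huU⟩, ?_, rfl⟩
      apply Subtype.ext
      exact (hgapp ⟨u, huU⟩).trans hfu
    · have : piece W = ∅ := by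
        ext u
        simp only [piece, Set.mem_ofPred_eq, Set.mem_empty_iff_false, iff_false, not_and]
        intro huU hfu
        apply hη
        rw [← hfu]
        exact hUle huU
      rw [this]
      exact Set.finite_empty
  have hP : (⋃ W ∈ SY, piece W).Finite := hfin.biUnion (fun W _ => hpiece W)
  -- generic points
  let gp : ↥(irreducibleComponents ↥X) → X := fun Z => Z.2.1.genericPoint
  have hgp : ∀ Z : ↥(irreducibleComponents ↥X), IsGenericPoint (gp Z) (Z : Set ↥X) := fun Z =>
    Z.2.1.isGenericPoint_genericPoint (isClosed_of_mem_irreducibleComponents _ Z.2)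
  have hinj : Function.Injective gp := by
    intro Z Z' h
    apply Subtype.ext
    rw [← (hgp Z).def, ← (hgp Z').def, h]
  refine (hP.preimage (Set.injOn_of_injective hinj)).subset ?_
  rintro Z ⟨z, hzZ, hzU⟩
  -- the generic point of `Z` lies in `U`
  have hξU : gp Z ∈ U := ((hgp Z).specializes hzZ).mem_open U.isOpen hzU
  have hmaxX : ∀ z' : X, z' ⤳ gp Z → gp Z ⤳ z' := by
    apply Groth.Agent.Lib.Helper21.maximal_of_closure_singleton_mem_irreducibleComponents
    rw [(hgp Z).def]
    exact Z.2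
  have hmaxY : ∀ y' : Y, y' ⤳ f (gp Z) → f (gp Z) ⤳ y' := fun y' hy' =>
    Groth.Agent.Lib.Helper21.specializes_of_generalizingMap_of_maximal hgen f.continuous hmaxX hy'
  have hW : closure ({f (gp Z)} : Set Y) ∈ irreducibleComponents ↥Y :=
    Groth.Agent.Lib.Helper21.closure_singleton_mem_irreducibleComponents_of_maximal hmaxY
  let W : ↥(irreducibleComponents ↥Y) := ⟨_, hW⟩
  have hWgen : W.2.1.genericPoint = f (gp Z) := by
    have h1 : IsGenericPoint W.2.1.genericPoint (closure ({f (gp Z)} : Set Y)) :=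
      W.2.1.isGenericPoint_genericPoint isClosed_closure
    have h2 : IsGenericPoint (f (gp Z)) (closure ({f (gp Z)} : Set Y)) := rfl
    exact h1.eq h2
  have hWS : W ∈ SY := ⟨f (gp Z), subset_closure rfl, ht₀t (hV't₀ (hUle hξU))⟩
  exact Set.mem_biUnion hWS ⟨hξU, hWgen.symm⟩

end Groth.Agent.S5049
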