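import Groth.Statements.S5050
import Mathlib.RingTheory.Filtration

set_option autoImplicit false
universe u v
open CInt

namespace Groth.Agent.S5050

/-- Let A be a Noetherian ring, N a finitely generated A-module, E and F submodules of N and Q an ideal
of A. For every natural number k there is h > 0 with E ⊓ (F ⊔ Q^h N) ≤ (E ⊓ F) ⊔ Q^k N. -/
theorem result {A : Type u} [CommRing A] [IsNoetherianRing A] {N : Type v} [AddCommGroup N]
    [Module A N] [Module.Finite A N] (E F : Submodule A N) (Q : Ideal A) (k : ℕ) :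
    ∃ h : ℕ, 0 < h ∧ E ⊓ (F ⊔ Q ^ h • (⊤ : Submodule A N)) ≤ (E ⊓ F) ⊔ Q ^ k • (⊤ : Submodule A N) := by
  classical
  obtain ⟨c, hc⟩ := Ideal.exists_pow_inf_eq_pow_smul Q (E.map F.mkQ)
  refine ⟨k + c + 1, Nat.succ_pos _, ?_⟩
  intro x hx
  obtain ⟨hxE, hxF⟩ := hx
  -- image of x in N ⧸ F
  have h1 : F.mkQ x ∈ (Q ^ (k + c + 1) • ⊤ : Submodule A (N ⧸ F)) := by
    have h2 : F.mkQ x ∈ (F ⊔ Q ^ (k + c + 1) • (⊤ : Submodule A N)).map F.mkQ :=
      Submodule.mem_map_of_mem hxF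
    rw [Submodule.map_sup, Submodule.map_smul''] at h2
    have h3 : F.map F.mkQ = ⊥ := by
      rw [eq_bot_iff]
      rintro _ ⟨z, hz, rfl⟩
      simpa using hz
    rw [h3, bot_sup_eq] at h2
    exact Submodule.smul_mono le_rfl le_top h2
  have h4 : F.mkQ x ∈ (Q ^ (k + c + 1) • ⊤ ⊓ E.map F.mkQ : Submodule A (N ⧸ F)) :=
    ⟨h1, Submodule.mem_map_of_mem hxE⟩
  rw [hc (k + c + 1) (by omega)] at h4
  have h5 : (Q ^ (k + c + 1 - c) • (Q ^ c • ⊤ ⊓ E.map F.mkQ) : Submodule A (N ⧸ F)) ≤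
      (Q ^ k • E).map F.mkQ := by
    rw [Submodule.map_smul'']
    refine Submodule.smul_mono ?_ inf_le_right
    exact Ideal.pow_le_pow_right (by omega)
  obtain ⟨y, hy, hyx⟩ := h5 h4
  have hyE : y ∈ E := Submodule.smul_le_right hy
  have hyQ : y ∈ (Q ^ k • ⊤ : Submodule A N) := Submodule.smul_mono le_rfl le_top hy
  have hxyF : x - y ∈ F := by
    rw [← F.ker_mkQ, LinearMap.mem_ker, map_sub, hyx, sub_self]
  have : x = (x - y) + y := by abel
  rw [this]
  exact Submodule.add_mem_sup ⟨E.sub_mem hxE hyE, hxyF⟩ hyQ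

end Groth.Agent.S5050
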