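import Groth.Statements.S5051
import Groth.Agent.Lib.Helper70.GeomCount2

set_option autoImplicit false
open CategoryTheory AlgebraicGeometry
universe u
open Unram

namespace Groth.Agent.S5051

/-- Let f : X ⟶ Y be étale, separated and of finite type. Then y ↦ (number of points of the geometric
fibre of f at y) is lower semicontinuous on Y. -/
theorem result {X Y : Scheme.{u}} (f : X ⟶ Y) [Etale f] [IsSeparated f]
    [LocallyOfFiniteType f] [QuasiCompact f] :
    LowerSemicontinuous (fun y : Y => ENat.card ↥(MoreMor.geomFiber f y)) := by
  have : LocallyQuasiFinite f :=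
    Groth.Agent.Lib.Helper70.WeightingLSC.locallyQuasiFinite_of_etale f
  exact Groth.Agent.Lib.Helper70.GeomCount2.lowerSemicontinuous_card_geomFiber f

end Groth.Agent.S5051
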