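import Groth.Statements.S5057
import Mathlib
-- import your own Groth.Agent.* helpers here

set_option autoImplicit false
open CategoryTheory CategoryTheory.Limits AlgebraicGeometry
universe u
open Hensel

namespace Groth.Agent.S5057
open CategoryTheory AlgebraicGeometry Limits TopologicalSpace



/-- Let i : S₀ ⟶ S be a closed immersion such that for every finite morphism g : S' ⟶ S every
open-closed subset of S' ×_S S₀ is the inverse image under the first projection of exactly one
open-closed subset of S'. Then for every finite morphism g : S' ⟶ S, every open subset of S'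
containing the image of S' ×_S S₀ is all of S'. -/
theorem result {S S₀ : Scheme.{u}} (i : S₀ ⟶ S) [IsClosedImmersion i]
    (ha : ∀ (S' : Scheme.{u}) (g : S' ⟶ S), IsFinite g →
      ∀ V : Set ↥(pullback g i), IsClopen V → ∃! U : Set ↥S', IsClopen U ∧ (pullback.fst g i).base ⁻¹' U = V)
    {S' : Scheme.{u}} (g : S' ⟶ S) [IsFinite g] (U : Set ↥S') (hU : IsOpen U)
    (hU₀ : Set.range (pullback.fst g i).base ⊆ U) : U = Set.univ := by
  let Zc : Closeds S' := ⟨Uᶜ, hU.isClosed_compl⟩
  let I := Scheme.IdealSheafData.vanishingIdeal Zc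
  have hrange : Set.range I.subschemeι = Uᶜ := by
    rw [Scheme.IdealSheafData.range_subschemeι]
    exact Scheme.IdealSheafData.coe_support_vanishingIdeal Zc
  have hempty : IsEmpty ↥(pullback (I.subschemeι ≫ g) i) := by
    constructor
    intro w
    have hc := congrArg (fun φ => φ.base w) (pullback.condition (f := I.subschemeι ≫ g) (g := i))
    simp only [Scheme.Hom.comp_base, TopCat.hom_comp, ContinuousMap.comp_apply] at hc
    obtain ⟨z, hz, -⟩ := Scheme.Pullback.exists_preimage_pullback (f := g) (g := i)
      (I.subschemeι ((pullback.fst (I.subschemeι ≫ g) i) w)) ((pullback.snd (I.subschemeι ≫ g) i) w) hc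
    have h1 : I.subschemeι ((pullback.fst (I.subschemeι ≫ g) i) w) ∈ U := hU₀ ⟨z, hz⟩
    have h2 : I.subschemeι ((pullback.fst (I.subschemeι ≫ g) i) w) ∈ Uᶜ := hrange ▸ ⟨_, rfl⟩
    exact h2 h1
  obtain ⟨W, -, hW⟩ := ha I.subscheme (I.subschemeι ≫ g) inferInstance ∅ isClopen_empty
  have e1 := hW ∅ ⟨isClopen_empty, by simp⟩
  have e2 := hW Set.univ ⟨isClopen_univ, by
    ext w; exact (hempty.false w).elim⟩
  have hZ : IsEmpty I.subscheme := by
    constructor
    intro z
    have : z ∈ (Set.univ : Set I.subscheme) := trivial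
    rw [e2, ← e1] at this
    exact this
  rw [← compl_compl U, ← hrange]
  simp [Set.range_eq_empty]

end Groth.Agent.S5057
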