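import Groth.Statements.S5060
import Groth.Agent.Lib.Helper54.NFConv2

set_option maxHeartbeats 1000000
set_option linter.style.haveILetI false

set_option autoImplicit false
universe u
open CInt

namespace Groth.Agent.S5060

open Groth.Agent.Lib.Helper54.GFClosed1 Groth.Agent.Lib.Helper54.NFStep
  Groth.Agent.Lib.Helper54.NFConv2 Groth.Agent.Lib.Helper54.NFLoc

/-- associated primes of `A/Q` over `A` give associated primes over `A/R` (`R ≤ Q`). -/
theorem assoc_map {A : Type u} [CommRing A] [IsNoetherianRing A] (R Q : Ideal A) (hRQ : R ≤ Q)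
    (q : Ideal A) (hq : q ∈ associatedPrimes A (A ⧸ Q)) :
    R ≤ q ∧ (∀ a : A, Ideal.Quotient.mk R a ∈ q.map (Ideal.Quotient.mk R) ↔ a ∈ q) ∧
      ∃ _ : (q.map (Ideal.Quotient.mk R)).IsPrime,
      q.map (Ideal.Quotient.mk R) ∈
        associatedPrimes (A ⧸ R) ((A ⧸ R) ⧸ Q.map (Ideal.Quotient.mk R)) := by
  obtain ⟨hprime, x, hx⟩ := isAssociatedPrime_iff.1 hq
  obtain ⟨b, rfl⟩ := Ideal.Quotient.mk_surjective x
  have hmem : ∀ a : A, a ∈ q ↔ a * b ∈ Q := fun a => by
    rw [hx, Submodule.mem_colon_singleton, Submodule.mem_bot]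
    rw [← Ideal.Quotient.eq_zero_iff_mem, map_mul]
    rfl
  have hRq : R ≤ q := fun r hr => (hmem r).2 (hRQ (R.mul_mem_right b hr))
  have hcm : ∀ (J : Ideal A), R ≤ J → ∀ a : A,
      Ideal.Quotient.mk R a ∈ J.map (Ideal.Quotient.mk R) ↔ a ∈ J := by
    intro J hJ a
    rw [← Ideal.mem_comap, Ideal.comap_map_of_surjective _ Ideal.Quotient.mk_surjective,
      ← RingHom.ker_eq_comap_bot, Ideal.mk_ker, sup_eq_left.2 hJ]
  have hp : (q.map (Ideal.Quotient.mk R)).IsPrime :=
    Ideal.map_isPrime_of_surjective Ideal.Quotient.mk_surjective (by rw [Ideal.mk_ker]; exact hRq)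
  refine ⟨hRq, hcm q hRq, hp, ?_⟩
  refine isAssociatedPrime_iff.2 ⟨hp,
    Ideal.Quotient.mk (Q.map (Ideal.Quotient.mk R)) (Ideal.Quotient.mk R b), ?_⟩
  ext a'
  obtain ⟨a, rfl⟩ := Ideal.Quotient.mk_surjective a'
  rw [hcm q hRq, hmem, Submodule.mem_colon_singleton, Submodule.mem_bot, ← hcm Q hRQ,
    ← Ideal.Quotient.eq_zero_iff_mem, map_mul, map_mul]
  rfl

/-- flatness of the localised graded piece gives flatness of the graded piece of the localisation
(as `A/R`-modules). -/
theorem flat_gr_localized {A : Type u} [CommRing A] (R q : Ideal A) [q.IsPrime]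
    (M : Type u) [AddCommGroup M] [Module A M] (k : ℕ)
    (hcm : ∀ a : A, Ideal.Quotient.mk R a ∈ q.map (Ideal.Quotient.mk R) ↔ a ∈ q)
    [(q.map (Ideal.Quotient.mk R)).IsPrime]
    (h : Module.Flat (Localization.AtPrime (q.map (Ideal.Quotient.mk R)))
      (LocalizedModule (q.map (Ideal.Quotient.mk R)).primeCompl (Gr R M k))) :
    Module.Flat (A ⧸ R) (Gr R (LocalizedModule q.primeCompl M) k) := by
  have hsub : Algebra.algebraMapSubmonoid (A ⧸ R) q.primeCompl =
      (q.map (Ideal.Quotient.mk R)).primeCompl := by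
    ext x
    obtain ⟨a, rfl⟩ := Ideal.Quotient.mk_surjective x
    constructor
    · rintro ⟨a', ha', h'⟩
      change Ideal.Quotient.mk R a' = _ at h'
      rw [← h']
      intro hmem
      exact ha' ((hcm a').1 hmem)
    · intro ha
      exact ⟨a, fun haq => ha ((hcm a).2 haq), rfl⟩
  let lam := grLoc q.primeCompl (LocalizedModule.mkLinearMap q.primeCompl M) R k
  let lamB : Gr R M k →ₗ[A ⧸ R] Gr R (LocalizedModule q.primeCompl M) k :=
    lam.extendScalarsOfSurjective Ideal.Quotient.mk_surjective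
  haveI : IsLocalizedModule q.primeCompl (lamB.restrictScalars A) :=
    (inferInstance : IsLocalizedModule q.primeCompl lam)
  have h3 : IsLocalizedModule (Algebra.algebraMapSubmonoid (A ⧸ R) q.primeCompl) lamB :=
    IsLocalizedModule.of_restrictScalars q.primeCompl lamB
  rw [hsub] at h3
  let e := IsLocalizedModule.iso (q.map (Ideal.Quotient.mk R)).primeCompl lamB
  haveI : Module.Flat (A ⧸ R)
      (LocalizedModule (q.map (Ideal.Quotient.mk R)).primeCompl (Gr R M k)) :=
    Module.Flat.trans (A ⧸ R) (Localization.AtPrime (q.map (Ideal.Quotient.mk R))) _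
  exact Module.Flat.of_linearEquiv e.symm

theorem ofList_ofFn {A : Type u} [CommRing A] {n : ℕ} (f : Fin n → A) :
    Ideal.ofList (List.ofFn f) = Ideal.span (Set.range f) := by
  unfold Ideal.ofList
  congr 1
  ext x
  simp [List.mem_ofFn]

/-- a) iff d) in the Noetherian case: let A be a Noetherian ring, R an ideal, f_1, …, f_n elements of
the Jacobson radical of A forming a regular sequence on A/R and on every R^k/R^(k+1), Q = R + (f_1,
…, f_n), and M a finitely generated A-module. Then every R^k M / R^(k+1) M is flat over A/R if and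
only if every Q^k M / Q^(k+1) M is flat over A/Q and, for every associated prime p of A/Q viewed as
an (A/R)-module, every localized piece (R^k M / R^(k+1) M)_p is flat over (A/R)_p. -/
theorem result (A : Type u) [CommRing A] [IsNoetherianRing A]
    (R : Ideal A) {n : ℕ} (f : Fin n → A) (hrad : ∀ i, f i ∈ (⊥ : Ideal A).jacobson)
    (hreg : RingTheory.Sequence.IsWeaklyRegular (A ⧸ R) (List.ofFn f))
    (hreggr : ∀ k : ℕ, RingTheory.Sequence.IsWeaklyRegular (↥(R ^ k • (⊤ : Submodule A A)) ⧸ (R • (⊤ : Submodule A ↥(R ^ k • (⊤ : Submodule A A))))) (List.ofFn f))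
    (M : Type u) [AddCommGroup M] [Module A M] [Module.Finite A M] :
    EGA4.IsNormallyFlat R M ↔
      EGA4.IsNormallyFlat (R ⊔ Ideal.span (Set.range f)) M ∧
        ∀ (p : Ideal (A ⧸ R)) [p.IsPrime],
          p ∈ associatedPrimes (A ⧸ R) ((A ⧸ R) ⧸ Ideal.map (Ideal.Quotient.mk R) (R ⊔ Ideal.span (Set.range f))) →
            ∀ k : ℕ, Module.Flat (Localization.AtPrime p) (LocalizedModule p.primeCompl (↥(R ^ k • (⊤ : Submodule A M)) ⧸ (R • (⊤ : Submodule A ↥(R ^ k • (⊤ : Submodule A M)))))) := by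
  have hspan := ofList_ofFn f
  constructor
  · intro h
    refine ⟨?_, ?_⟩
    · have h1 := flat_gr_sup_ofList M (List.ofFn f) R hreg h
      rw [hspan] at h1
      exact h1
    · intro p _ _ k
      haveI := h k
      infer_instance
  · rintro ⟨h1, h2⟩
    rw [← hspan] at h1 h2
    refine conv_ofList M R (List.ofFn f) (fun g hg => ?_) hreg h1 ?_
    · obtain ⟨i, rfl⟩ := (List.mem_ofFn' f g).1 hg
      exact hrad i
    · intro q hq
      haveI hqprime : q.IsPrime := hq.isPrime
      refine ⟨q, hqprime, le_rfl, fun k => ?_⟩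
      obtain ⟨_, hcm, hp, hass⟩ := assoc_map R (R ⊔ Ideal.ofList (List.ofFn f)) le_sup_left q hq
      exact flat_gr_localized R q M k hcm (h2 _ hass k)

end Groth.Agent.S5060
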