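import Groth.Statements.S5063
import Groth.Agent.Lib.Helper35.BaseChangeDescent
import Groth.Agent.Lib.Helper35.StalkChart
import Groth.Agent.Lib.Helper35.PullbackChart
import Groth.Agent.Lib.Helper35.EtaleLocalScheme2
import Mathlib.AlgebraicGeometry.Morphisms.Etale
import Mathlib.AlgebraicGeometry.Morphisms.FormallyUnramified
import Mathlib.RingTheory.Unramified.LocalStructure

set_option autoImplicit false
open CategoryTheory CategoryTheory.Limits AlgebraicGeometry
universe u
open Unram

namespace Groth.Agent.S5063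

section Helpers
open Opposite

set_option backward.defeqAttrib.useBackward true in
set_option backward.isDefEq.respectTransparency false in
/-- Local structure of unramified morphisms: around every point, after an étale base change, an open
piece of the base change is a closed immersion into the new base. -/
theorem exists_etale_closedImmersion_nhd {X Y : Scheme.{u}} (f : X ⟶ Y)
    [LocallyOfFiniteType f] [FormallyUnramified f] (x : X) :
    ∃ (Y' : Scheme.{u}) (g : Y' ⟶ Y) (W : (pullback f g).Opens), Etale g ∧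
      x ∈ (pullback.fst f g).base '' (W : Set ↥(pullback f g)) ∧
      IsClosedImmersion (W.ι ≫ pullback.snd f g) := by
  obtain ⟨_, ⟨U, hU, rfl⟩, hxU, -⟩ :=
    Y.isBasis_affineOpens.exists_subset_of_mem_open (Set.mem_univ (f x)) isOpen_univ
  obtain ⟨_, ⟨V, hV, rfl⟩, hxV, hVU⟩ :=
    X.isBasis_affineOpens.exists_subset_of_mem_open hxU (U.2.preimage f.continuous)
  have hft := f.finiteType_appLE hU hV hVU
  have hur : (f.appLE U V hVU).hom.FormallyUnramified :=
    HasRingHomProperty.appLE (P := @FormallyUnramified) f inferInstance ⟨U, hU⟩ ⟨V, hV⟩ hVU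
  algebraize [(f.appLE U V hVU).hom]
  obtain ⟨s, hsq, P, φ, hφ⟩ := Algebra.IsUnramifiedAt.exists_hasStandardEtaleSurjectionOn
    (R := Γ(Y, U)) (hV.primeIdealOf ⟨x, hxV⟩).asIdeal
  have hxs : x ∈ X.basicOpen s := by
    rwa [← PrimeSpectrum.mem_basicOpen, IsAffineOpen.primeIdealOf,
      ← hV.fromSpec_preimage_basicOpen, Scheme.Hom.mem_preimage, ← Scheme.Hom.comp_apply,
      IsAffineOpen.isoSpec_hom, IsAffineOpen.toSpecΓ_fromSpec] at hsq
  have hVs : IsAffineOpen (X.basicOpen s) := hV.basicOpen s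
  have hsU : X.basicOpen s ≤ f ⁻¹ᵁ U := (X.basicOpen_le s).trans hVU
  have := hV.isLocalization_basicOpen s
  let e := IsLocalization.algEquiv (.powers s) (Localization.Away s) Γ(X, X.basicOpen s)
  let ψ : P.Ring →+* Γ(X, X.basicOpen s) := (e : Localization.Away s →+* Γ(X, X.basicOpen s)).comp φ
  have hψ : Function.Surjective ψ := e.surjective.comp hφ
  have hψc : ψ.comp (algebraMap Γ(Y, U) P.Ring) = (f.appLE U (X.basicOpen s) hsU).hom := by
    ext r
    simp only [ψ, RingHom.comp_apply, AlgHom.coe_toRingHom, AlgHom.commutes]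
    rw [IsScalarTower.algebraMap_apply Γ(Y, U) Γ(X, V) (Localization.Away s)]
    erw [AlgEquiv.commutes]
    simp only [RingHom.algebraMap_toAlgebra, ← CommRingCat.comp_apply, Scheme.Hom.appLE_map]
  let E : Scheme.{u} := Spec (.of P.Ring)
  let π : E ⟶ Y := Spec.map (CommRingCat.ofHom (algebraMap Γ(Y, U) P.Ring)) ≫ hU.fromSpec
  have hπ : Etale π := by
    haveI : Etale (Spec.map (CommRingCat.ofHom (algebraMap Γ(Y, U) P.Ring))) := by
      rw [HasRingHomProperty.Spec_iff (P := @Etale)]
      exact RingHom.etale_algebraMap.mpr inferInstance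
    infer_instance
  let Z : Scheme.{u} := Spec Γ(X, X.basicOpen s)
  let i : Z ⟶ E := Spec.map (CommRingCat.ofHom ψ)
  have hi : IsClosedImmersion i := IsClosedImmersion.spec_of_surjective _ hψ
  let j : Z ⟶ X := hVs.fromSpec
  have w : j ≫ f = i ≫ π := by
    simp only [i, j, π, ← Spec.map_comp_assoc, ← CommRingCat.ofHom_comp, hψc]
    exact (hU.SpecMap_appLE_fromSpec f hVs hsU).symm
  let γ : Z ⟶ pullback f π := pullback.lift j i w
  have hγ : IsOpenImmersion γ := by
    haveI : IsOpenImmersion (pullback.diagonal π) := inferInstance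
    let γ₁ : Z ⟶ pullback (i ≫ π) π := pullback.lift (𝟙 Z) i (by simp)
    haveI hγ₁ : IsOpenImmersion γ₁ :=
      MorphismProperty.of_isPullback (P := @IsOpenImmersion)
        (pullback_lift_diagonal_isPullback i π) inferInstance
    let γ₂ : pullback (i ≫ π) π ⟶ pullback f π :=
      pullback.map (i ≫ π) π f π j (𝟙 E) (𝟙 Y) (by simp [w]) (by simp)
    haveI hγ₂ : IsOpenImmersion γ₂ := inferInstance
    have hγeq : γ = γ₁ ≫ γ₂ := by
      apply pullback.hom_ext <;> simp [γ, γ₁, γ₂]
    rw [hγeq]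
    infer_instance
  refine ⟨E, π, γ.opensRange, hπ, ?_, ?_⟩
  · have hxr : x ∈ Set.range j := by
      rw [hVs.range_fromSpec]
      exact hxs
    obtain ⟨z, hz⟩ := hxr
    refine ⟨γ z, ⟨z, rfl⟩, ?_⟩
    rw [← Scheme.Hom.comp_apply, pullback.lift_fst]
    exact hz
  · have h1 : γ.opensRange.ι ≫ pullback.snd f π = γ.isoOpensRange.inv ≫ i := by
      rw [← cancel_epi γ.isoOpensRange.hom, Iso.hom_inv_id_assoc,
        ← Category.assoc, Scheme.Hom.isoOpensRange_hom_ι, pullback.lift_snd]
    rw [h1]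
    infer_instance

/-- Unramified analogue of S2758: descent of "unramified near a point" along a base change that is
flat at the image point. -/
theorem formallyUnramified_nhd_of_baseChange_flat_at {X Y Y' : Scheme.{u}} (f : X ⟶ Y)
    [LocallyOfFiniteType f]
    (g : Y' ⟶ Y) (x' : ↑(pullback f g))
    (hg : (g.stalkMap ((pullback.snd f g).base x')).hom.Flat)
    (hur' : ((pullback.snd f g).stalkMap x').hom.FormallyUnramified) :
    ∃ U : X.Opens, (pullback.fst f g).base x' ∈ U ∧ FormallyUnramified (U.ι ≫ f) := by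
  set x : X := pullback.fst f g x' with hxdef
  set y' : Y' := pullback.snd f g x' with hy'def
  have hxy : f x = g y' := by
    simp only [hxdef, hy'def, ← Scheme.Hom.comp_apply, pullback.condition]
  -- charts
  obtain ⟨_, ⟨U, hU, rfl⟩, hxU, -⟩ :=
    Y.isBasis_affineOpens.exists_subset_of_mem_open (Set.mem_univ (f x)) isOpen_univ
  obtain ⟨_, ⟨V, hV, rfl⟩, hxV, hVU⟩ :=
    X.isBasis_affineOpens.exists_subset_of_mem_open hxU (U.2.preimage f.continuous)
  have hy'U : g y' ∈ U := hxy ▸ hxU
  obtain ⟨_, ⟨U', hU', rfl⟩, hy'U', hU'U⟩ :=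
    Y'.isBasis_affineOpens.exists_subset_of_mem_open hy'U (U.2.preimage g.continuous)
  have H : IsPullback (pullback.fst f g) (pullback.snd f g) f g := IsPullback.of_hasPullback f g
  let W : (pullback f g).Opens := pullback.fst f g ⁻¹ᵁ V ⊓ pullback.snd f g ⁻¹ᵁ U'
  have hW : IsAffineOpen W :=
    Groth.Agent.Lib.Helper35.isAffineOpen_pullback_chart H hU'U hVU rfl hU hU' hV
  have hpush := Groth.Agent.Lib.Helper35.isPushout_appLE_of_isAffineOpen H (UT := U') hU'U hVU
    (UY := W) rfl hU hU' hV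
  have hx'W : x' ∈ W := ⟨hxV, hy'U'⟩
  have hWV : W ≤ pullback.fst f g ⁻¹ᵁ V := inf_le_left
  have hWU' : W ≤ pullback.snd f g ⁻¹ᵁ U' := inf_le_right
  -- ring-level set up
  let a : Γ(Y, U) →+* Γ(X, V) := (f.appLE U V hVU).hom
  let b : Γ(Y, U) →+* Γ(Y', U') := (g.appLE U U' hU'U).hom
  let c : Γ(X, V) →+* Γ(pullback f g, W) := ((pullback.fst f g).appLE V W hWV).hom
  let d : Γ(Y', U') →+* Γ(pullback f g, W) := ((pullback.snd f g).appLE U' W hWU').hom
  have hw : c.comp a = d.comp b := congrArg CommRingCat.Hom.hom hpush.w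
  letI : Algebra Γ(Y, U) Γ(X, V) := a.toAlgebra
  letI : Algebra Γ(Y, U) Γ(Y', U') := b.toAlgebra
  letI : Algebra Γ(X, V) Γ(pullback f g, W) := c.toAlgebra
  letI : Algebra Γ(Y', U') Γ(pullback f g, W) := d.toAlgebra
  letI : Algebra Γ(Y, U) Γ(pullback f g, W) := (d.comp b).toAlgebra
  haveI : IsScalarTower Γ(Y, U) Γ(Y', U') Γ(pullback f g, W) := IsScalarTower.of_algebraMap_eq' rfl
  haveI : IsScalarTower Γ(Y, U) Γ(X, V) Γ(pullback f g, W) := IsScalarTower.of_algebraMap_eq' hw.symm
  haveI hP : Algebra.IsPushout Γ(Y, U) Γ(X, V) Γ(Y', U') Γ(pullback f g, W) :=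
    (CommRingCat.isPushout_iff_isPushout.mp hpush.flip).symm
  let q' := (hW.primeIdealOf ⟨x', hx'W⟩).asIdeal
  let q := (hV.primeIdealOf ⟨x, hxV⟩).asIdeal
  let p' := (hU'.primeIdealOf ⟨y', hy'U'⟩).asIdeal
  haveI : q'.LiesOver q :=
    ⟨congr($(IsAffineOpen.comap_primeIdealOf_appLE V hV W hW hWV hx'W).1).symm⟩
  haveI : q'.LiesOver p' :=
    ⟨congr($(IsAffineOpen.comap_primeIdealOf_appLE U' hU' W hW hWU' hx'W).1).symm⟩
  haveI h1 : Module.Flat Γ(Y, U) (Localization.AtPrime p') :=
    (Groth.Agent.Lib.Helper35.flat_stalkMap_iff U hU U' hU' hU'U hy'U').mp hg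
  haveI h3 : Algebra.FormallyUnramified Γ(Y', U') (Localization.AtPrime q') :=
    (Groth.Agent.Lib.Helper35.formallyUnramified_stalkMap_iff U' hU' W hW hWU' hx'W).mp hur'
  haveI hS : Module.Flat Γ(X, V) (Localization.AtPrime q') :=
    Groth.Agent.Lib.Helper35.flat_atPrime_of_isPushout (R := Γ(Y, U)) (S := Γ(X, V))
      (R' := Γ(Y', U')) (S' := Γ(pullback f g, W)) p' q'
  have h5 : Algebra.FormallyUnramified Γ(Y, U) (Localization.AtPrime q) :=
    Groth.Agent.Lib.Helper35.formallyUnramified_atPrime_of_isPushout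
    (R := Γ(Y, U)) (S := Γ(X, V)) (R' := Γ(Y', U')) (S' := Γ(pullback f g, W)) q q'
  exact Groth.Agent.Lib.Helper35.exists_formallyUnramified_nhd_of_stalkMap f x
    ((Groth.Agent.Lib.Helper35.formallyUnramified_stalkMap_iff U hU V hV hVU hxV).mpr h5)

end Helpers

/-- Let f : X ⟶ Y be locally of finite presentation. If f is unramified then there are étale morphisms
g_a : Y'_a ⟶ Y and opens U_a of the fibre products X ×_Y Y'_a whose images under the first
projections cover X, such that each U_a ⟶ Y'_a (inclusion followed by the second projection) is a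
closed immersion. Conversely, the existence of such a family with the g_a only assumed flat implies
that f is unramified. -/
theorem result {X Y : Scheme.{u}} (f : X ⟶ Y) [LocallyOfFinitePresentation f] :
    (FormallyUnramified f → ∃ (ι : Type u) (Y' : ι → Scheme.{u}) (g : ∀ a, Y' a ⟶ Y) (U : ∀ a, (pullback f (g a)).Opens),
      (∀ a, Etale (g a)) ∧ (∀ x : X, ∃ a, x ∈ (pullback.fst f (g a)).base '' (U a : Set ↥(pullback f (g a)))) ∧
        ∀ a, IsClosedImmersion ((U a).ι ≫ pullback.snd f (g a))) ∧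
    ((∃ (ι : Type u) (Y' : ι → Scheme.{u}) (g : ∀ a, Y' a ⟶ Y) (U : ∀ a, (pullback f (g a)).Opens),
      (∀ a, Flat (g a)) ∧ (∀ x : X, ∃ a, x ∈ (pullback.fst f (g a)).base '' (U a : Set ↥(pullback f (g a)))) ∧
        ∀ a, IsClosedImmersion ((U a).ι ≫ pullback.snd f (g a))) → FormallyUnramified f) := by
  constructor
  · intro hf
    choose Y' g W hg hx hW using exists_etale_closedImmersion_nhd f
    exact ⟨X, Y', g, W, hg, fun x => ⟨x, hx x⟩, hW⟩
  · rintro ⟨ι, Y', g, U, hg, hcov, hU⟩
    have key : ∀ x : X, ∃ V : X.Opens, x ∈ V ∧ FormallyUnramified (V.ι ≫ f) := by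
      intro x
      obtain ⟨a, x', hx'U, rfl⟩ := hcov x
      haveI := hg a
      haveI := hU a
      haveI : FormallyUnramified ((U a).ι ≫ pullback.snd f (g a)) := inferInstance
      exact formallyUnramified_nhd_of_baseChange_flat_at f (g a) x' (Flat.stalkMap (g a) _)
        (Groth.Agent.Lib.Helper35.stalkMap_of_formallyUnramified_nhd (pullback.snd f (g a)) x' (U a) hx'U)
    choose V hxV hV using key
    refine IsZariskiLocalAtSource.of_iSup_eq_top (P := @FormallyUnramified) V ?_ hV
    rw [eq_top_iff]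
    intro x _
    exact TopologicalSpace.Opens.mem_iSup.mpr ⟨x, hxV x⟩

end Groth.Agent.S5063
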