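import Groth.Statements.S5065
import Groth.Agent.Lib.Helper7.EtNormal

open TensorProduct
set_option maxHeartbeats 400000

set_option autoImplicit false
universe u
open Unram

namespace Groth.Agent.S5065

/-- Let A ⊆ A' be integrally closed domains, L a field algebraic over the fraction field of A in which A
embeds and whose integral closure C over A is an étale A-algebra, and L₁ a field in which A' and L
both embed, compatibly over A, and which is generated as a field by the images of A' and L (a
compositum of L with the fraction field of A'; the map A' → L₁ is injective, so that the fraction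
field of A' is a subfield of L₁). Then the integral closure of A' in L₁ is an étale A'-algebra and
coincides with the A'-subalgebra generated by the image of C. -/
theorem result (A A' L L₁ : Type u) [CommRing A] [IsDomain A]
    [IsIntegrallyClosed A] [CommRing A'] [IsDomain A'] [IsIntegrallyClosed A'] [Algebra A A']
    [Field L] [Algebra A L] [Algebra.IsAlgebraic A L] (hinj : Function.Injective (algebraMap A L))
    [Algebra.Etale A ↥(integralClosure A L)]
    [Field L₁] [Algebra A' L₁] [Algebra L L₁] [Algebra A L₁] [IsScalarTower A A' L₁] [IsScalarTower A L L₁]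
    (hinj' : Function.Injective (algebraMap A' L₁))
    (hgen : Subfield.closure (Set.range (algebraMap A' L₁) ∪ Set.range (algebraMap L L₁)) = ⊤) :
    Algebra.Etale A' ↥(integralClosure A' L₁) ∧
      integralClosure A' L₁ = Algebra.adjoin A' ((algebraMap L L₁) '' {x : L | IsIntegral A x}) := by
  classical
  let C : Subalgebra A L := integralClosure A L
  let ψ : C →ₐ[A] L₁ := (IsScalarTower.toAlgHom A L L₁).comp C.val
  let φ : (A' ⊗[A] C) →ₐ[A'] L₁ :=
    Algebra.TensorProduct.lift (Algebra.ofId A' L₁) ψ (fun _ _ => Commute.all _ _)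
  have hφ : ∀ (a : A') (c : C), φ (a ⊗ₜ[A] c) = algebraMap A' L₁ a * algebraMap L L₁ (c : L) := by
    intro a c
    simp [φ, ψ, Algebra.ofId_apply]
  -- range of φ is the adjoin
  have hrange : φ.range = Algebra.adjoin A' ((algebraMap L L₁) '' {x : L | IsIntegral A x}) := by
    apply le_antisymm
    · rintro _ ⟨s, rfl⟩
      induction s using TensorProduct.induction_on with
      | zero => simp
      | tmul a c =>
        change φ (a ⊗ₜ[A] c) ∈ _
        rw [hφ, ← Algebra.smul_def]
        have hc : algebraMap L L₁ (c : L) ∈ (algebraMap L L₁) '' {x : L | IsIntegral A x} :=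
          ⟨(c : L), c.2, rfl⟩
        exact Subalgebra.smul_mem _ (Algebra.subset_adjoin hc) a
      | add x y hx hy =>
        change φ (x + y) ∈ _
        rw [map_add]
        exact Subalgebra.add_mem _ hx hy
    · rw [Algebra.adjoin_le_iff]
      rintro _ ⟨x, hx, rfl⟩
      refine ⟨(1 : A') ⊗ₜ[A] (⟨x, hx⟩ : C), ?_⟩
      change φ _ = _
      rw [hφ]; simp
  have hinjA : Function.Injective (algebraMap L L₁) := (algebraMap L L₁).injective
  have hgen' : Subfield.closure (Set.range φ) = ⊤ := by
    rw [eq_top_iff, ← hgen, Subfield.closure_le]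
    rintro x (⟨a, rfl⟩ | ⟨l, rfl⟩)
    · apply Subfield.subset_closure
      refine ⟨a ⊗ₜ[A] (1 : C), ?_⟩
      rw [hφ]; simp
    · obtain ⟨y, hy0, hy⟩ := IsAlgebraic.exists_integral_multiple (Algebra.IsAlgebraic.isAlgebraic (R := A) l)
      have hyL : algebraMap A L y ≠ 0 := fun h => hy0 (hinj (by rw [h, map_zero]))
      have hyL₁ : algebraMap L L₁ (algebraMap A L y) ≠ 0 := fun h =>
        hyL (hinjA (by rw [h, map_zero]))
      have h1 : algebraMap L L₁ (y • l) ∈ Subfield.closure (Set.range φ) := by
        apply Subfield.subset_closure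
        refine ⟨(1 : A') ⊗ₜ[A] (⟨y • l, hy⟩ : C), ?_⟩
        rw [hφ]; simp
      have h2 : algebraMap L L₁ (algebraMap A L y) ∈ Subfield.closure (Set.range φ) := by
        apply Subfield.subset_closure
        refine ⟨(1 : A') ⊗ₜ[A] (⟨algebraMap A L y, isIntegral_algebraMap⟩ : C), ?_⟩
        rw [hφ]; simp
      have h3 : algebraMap L L₁ l =
          algebraMap L L₁ (y • l) / algebraMap L L₁ (algebraMap A L y) := by
        rw [Algebra.smul_def, map_mul, mul_div_cancel_left₀ _ hyL₁]
      rw [h3]
      exact Subfield.div_mem _ h1 h2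
  obtain ⟨h1, h2⟩ := Groth.Agent.Lib.Helper7.EtNormal.range_eq_and_etale hinj' φ hgen'
  exact ⟨h2, by rw [← h1, hrange]⟩

end Groth.Agent.S5065
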