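import Groth.Statements.S5066
import Groth.Agent.Lib.Helper37.HenselHom
import Groth.Agent.Lib.Helper37.HenselFinite

set_option autoImplicit false
universe u
open Hensel

namespace Groth.Agent.S5066

/-- Case of a local ring, affine étale schemes: a local ring A with maximal ideal m is henselian if and
only if, for every finite A-algebra C and every étale A-algebra E, composing with the projection C →
C/mC is a bijection from the set of A-algebra homomorphisms E → C onto the set of A-algebra
homomorphisms E → C/mC. -/
theorem result (A : Type u) [CommRing A] [IsLocalRing A] :
    HenselianLocalRing A ↔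
      ∀ (C : Type u) [CommRing C] [Algebra A C] [Module.Finite A C] (E : Type u) [CommRing E] [Algebra A E] [Algebra.Etale A E],
        Function.Bijective (fun φ : E →ₐ[A] C =>
          (Ideal.Quotient.mkₐ A (Ideal.map (algebraMap A C) (IsLocalRing.maximalIdeal A))).comp φ) := by
  constructor
  · intro hA C _ _ _ E _ _ _
    have : Algebra.IsIntegral A C := Algebra.IsIntegral.of_finite A C
    exact Groth.Agent.Lib.Helper37.algHom_comp_mk_bijective (IsLocalRing.maximalIdeal A) C E
  · intro h
    have hm : (IsLocalRing.maximalIdeal A).map (algebraMap A A) = IsLocalRing.maximalIdeal A := by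
      rw [Algebra.algebraMap_self, Ideal.map_id]
    have : HenselianRing A (IsLocalRing.maximalIdeal A) := by
      refine Groth.Agent.Lib.Helper37.henselianRing_of_etale_lift _ ?_
      intro A' _ _ _ σ
      let e := Ideal.quotientEquivAlgOfEq A hm.symm
      obtain ⟨φ, hφ⟩ := (h A A').2 (e.toAlgHom.comp σ)
      refine ⟨φ, ?_⟩
      ext x
      apply e.injective
      have := congr($hφ x)
      simp only [AlgHom.comp_apply] at this
      rw [AlgHom.comp_apply]
      exact this
    exact Groth.Agent.Lib.Helper37.henselianLocalRing_of_henselianRing A

end Groth.Agent.S5066
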