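import Groth.Statements.S5071
import Groth.Agent.Lib.Helper9.QRegBaseChange
import Groth.Agent.Lib.Helper12.FlatExact
import Groth.Agent.Lib.Helper83.FlatLoc

set_option autoImplicit false
universe u
open CInt

namespace Groth.Agent.S5071

theorem flat_quot_pow' {A B : Type u} [CommRing A] [CommRing B] [Algebra A B] (rs : List B)
    (hrs : RegImm.IsTransRegularSeq A B rs) (n : ℕ) :
    Module.Flat A (B ⧸ Ideal.ofList rs ^ n) := by
  have hI : Ideal.span (Set.range rs.get) = Ideal.ofList rs := by
    rw [← Groth.Agent.Lib.Helper77.QuasiReg.ofList_ofFn, List.ofFn_get]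
  have hq : CAlgX.IsQuasiRegular rs.get :=
    Groth.Agent.Lib.Helper77.QuasiReg.isQuasiRegular_of_isWeaklyRegular _ _
      (by rw [List.ofFn_get]; exact hrs.1)
  have h1 : Module.Flat A (B ⧸ Ideal.ofList rs) := by
    have := hrs.2 rs.length le_rfl
    rwa [List.take_length] at this
  rw [← hI] at h1 ⊢
  haveI := h1
  exact Groth.Agent.Lib.Helper9.QRegBaseChange.flat_quot_pow rs.get hq n

theorem flat_restrictScalars {A B : Type u} [CommRing A] [CommRing B] [Algebra A B] (X : Type u)
    [AddCommGroup X] [Module B X] [Module A X] [IsScalarTower A B X] [Module.Flat A X] :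
    Module.Flat A (RestrictScalars A B X) :=
  Module.Flat.of_linearEquiv
    { RestrictScalars.addEquiv A B X with
      map_smul' := fun a x => by
        simp only [AddEquiv.toFun_eq_coe, RingHom.id_apply]
        rw [RestrictScalars.addEquiv_map_smul, algebraMap_smul] }

theorem flat_loc {A B : Type u} [CommRing A] [CommRing B] [Algebra A B] (L : Ideal B)
    (S : Submonoid B) [Module.Flat A ↥L] :
    Module.Flat A (RestrictScalars A B (LocalizedModule S ↥L)) := by
  haveI : Module.Flat A (LocalizedModule S ↥L) :=
    Groth.Agent.Lib.Helper83.flat_of_isLocalizedModule_tower S (LocalizedModule.mkLinearMap S ↥L)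
  exact flat_restrictScalars (LocalizedModule S ↥L)

theorem flat_sub_quot {A B : Type u} [CommRing A] [CommRing B] [Algebra A B] (K L : Ideal B)
    (hKL : K ≤ L) [Module.Flat A (B ⧸ K)] [Module.Flat A (B ⧸ L)] :
    Module.Flat A (RestrictScalars A B (↥L ⧸ Submodule.comap L.subtype K)) := by
  let gB : (↥L ⧸ Submodule.comap L.subtype K) →ₗ[B] B ⧸ K :=
    Submodule.mapQ (Submodule.comap L.subtype K) K L.subtype le_rfl
  let fB : (B ⧸ K) →ₗ[B] B ⧸ L := Submodule.mapQ K L LinearMap.id hKL
  have hg : Function.Injective gB := by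
    rw [injective_iff_map_eq_zero]
    intro x hx
    obtain ⟨y, rfl⟩ := Submodule.Quotient.mk_surjective _ x
    rw [Submodule.mapQ_apply, Submodule.Quotient.mk_eq_zero] at hx
    rw [Submodule.Quotient.mk_eq_zero]
    exact hx
  have hf : Function.Surjective fB := by
    intro y
    obtain ⟨b, rfl⟩ := Submodule.Quotient.mk_surjective _ y
    exact ⟨Submodule.Quotient.mk b, rfl⟩
  have hex : Function.Exact gB fB := by
    intro y
    constructor
    · intro hy
      obtain ⟨b, rfl⟩ := Submodule.Quotient.mk_surjective _ y
      rw [Submodule.mapQ_apply, Submodule.Quotient.mk_eq_zero] at hy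
      exact ⟨Submodule.Quotient.mk ⟨b, hy⟩, rfl⟩
    · rintro ⟨x, rfl⟩
      obtain ⟨z, rfl⟩ := Submodule.Quotient.mk_surjective _ x
      rw [Submodule.mapQ_apply, Submodule.mapQ_apply, Submodule.Quotient.mk_eq_zero]
      exact z.2
  haveI : Module.Flat A (↥L ⧸ Submodule.comap L.subtype K) :=
    Groth.Agent.Lib.Helper12.flat_of_exact_left (gB.restrictScalars A)
      (fB.restrictScalars A) hg hf hex
  exact flat_restrictScalars _

theorem flat_ideal {A B : Type u} [CommRing A] [CommRing B] [Algebra A B] (L : Ideal B)
    [Module.Flat A B] [Module.Flat A (B ⧸ L)] : Module.Flat A ↥L :=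
  Groth.Agent.Lib.Helper12.flat_of_exact_left (L.subtype.restrictScalars A)
    ((Submodule.mkQ L).restrictScalars A) Subtype.val_injective (Submodule.mkQ_surjective L)
    (LinearMap.exact_subtype_mkQ L)

/-- Let B be an A-algebra and J an ideal of B generated by a sequence which is transversally regular
relative to A. Then for n < m the module J^n/J^m is flat over A, and for every prime q of B
containing J the localisation (J^n)_q is flat over A (modules regarded as A-modules by restriction
of scalars). -/
theorem result (A B : Type u) [CommRing A] [CommRing B] [Algebra A B]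
    (rs : List B) (hrs : RegImm.IsTransRegularSeq A B rs) (n m : ℕ) (hnm : n < m) :
    Module.Flat A (RestrictScalars A B
      (↥(Ideal.ofList rs ^ n) ⧸ (Submodule.comap (Ideal.ofList rs ^ n).subtype (Ideal.ofList rs ^ m)))) ∧
      ∀ (q : Ideal B) [q.IsPrime], Ideal.ofList rs ≤ q →
        Module.Flat A (RestrictScalars A B (LocalizedModule q.primeCompl ↥(Ideal.ofList rs ^ n))) := by
  have hfl : ∀ k, Module.Flat A (B ⧸ Ideal.ofList rs ^ k) := flat_quot_pow' rs hrs
  haveI : Module.Flat A B := by
    haveI h0 := hrs.2 0 (Nat.zero_le _)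
    have hb : Ideal.ofList (rs.take 0) = ⊥ := by rw [List.take_zero, Ideal.ofList_nil]
    exact Module.Flat.of_linearEquiv
      ((Submodule.quotEquivOfEqBot _ hb).restrictScalars A).symm
  refine ⟨?_, ?_⟩
  · haveI := hfl m
    haveI := hfl n
    exact flat_sub_quot _ _ (Ideal.pow_le_pow_right hnm.le)
  · intro q _ _
    haveI := hfl n
    haveI : Module.Flat A ↥(Ideal.ofList rs ^ n) := flat_ideal _
    exact flat_loc _ _

end Groth.Agent.S5071
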