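import Groth.Statements.S5073
import Mathlib.RingTheory.KrullDimension.Zero
import Mathlib.RingTheory.Ideal.MinimalPrime.Noetherian
import Mathlib.RingTheory.Ideal.MinimalPrime.Localization

set_option autoImplicit false
universe u
open EGA418

namespace Groth.Agent.S5073


theorem ker_not_le_minimal (A : Type u) [CommRing A] (p : Ideal A) [p.IsPrime]
    (q : Ideal A) (hq : q ∈ minimalPrimes A) (hqp : ¬ q ≤ p) :
    ¬ RingHom.ker (algebraMap A (Localization.AtPrime p)) ≤ q := by
  haveI : q.IsPrime := hq.1.1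
  obtain ⟨t, htq, htp⟩ := SetLike.not_le_iff_exists.mp hqp
  haveI : Ring.KrullDimLE 0 (Localization.AtPrime q) :=
    Ring.KrullDimLE.of_isLocalization q hq (Localization.AtPrime q)
  have h1 : algebraMap A (Localization.AtPrime q) t ∈
      IsLocalRing.maximalIdeal (Localization.AtPrime q) :=
    (IsLocalization.AtPrime.to_map_mem_maximal_iff (Localization.AtPrime q) q t).mpr htq
  obtain ⟨n, hn⟩ := (Ring.KrullDimLE.isNilpotent_iff_mem_maximalIdeal).mpr h1
  rw [← map_pow] at hn
  obtain ⟨m, hm⟩ := (IsLocalization.map_eq_zero_iff q.primeCompl (Localization.AtPrime q) (t ^ n)).mp hn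
  intro hle
  have hmker : (m : A) ∈ RingHom.ker (algebraMap A (Localization.AtPrime p)) := by
    rw [RingHom.mem_ker]
    refine (IsLocalization.map_eq_zero_iff p.primeCompl (Localization.AtPrime p) (m : A)).mpr ?_
    refine ⟨⟨t ^ n, ?_⟩, ?_⟩
    · exact fun h => htp (Ideal.IsPrime.mem_of_pow_mem inferInstance n h)
    · simpa [mul_comm] using hm
  exact m.2 (hle hmker)

/-- Let A be a Noetherian local ring, p a prime ideal and x an element of A. Then there is an element x'
of A whose image in A_p equals that of x and which belongs to no minimal prime ideal of A not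
contained in p. -/
theorem result (A : Type u) [CommRing A] [IsNoetherianRing A] [IsLocalRing A]
    (p : Ideal A) [p.IsPrime] (x : A) :
    ∃ x' : A, algebraMap A (Localization.AtPrime p) x' = algebraMap A (Localization.AtPrime p) x ∧
      ∀ q ∈ minimalPrimes A, ¬ q ≤ p → x' ∉ q := by
  classical
  set I := RingHom.ker (algebraMap A (Localization.AtPrime p)) with hI
  set S : Finset (Ideal A) := (minimalPrimes.finite_of_isNoetherianRing A).toFinset with hS
  set T : Finset (Ideal A) := S.filter (fun q => ¬ q ≤ p ∧ x ∈ q) with hT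
  set T' : Finset (Ideal A) := S.filter (fun q => ¬ q ≤ p ∧ x ∉ q) with hT'
  have hmemS : ∀ q, q ∈ S ↔ q ∈ minimalPrimes A := fun q => by simp [hS]
  have hnot : ¬ (((I ⊓ T'.inf id : Ideal A) : Set A) ⊆ ⋃ q ∈ (↑T : Set (Ideal A)), (id q : Ideal A)) := by
    rw [Ideal.subset_union_prime (f := id) ⊥ ⊥]
    · rintro ⟨q, hqT, hle⟩
      rw [hT, Finset.mem_filter, hmemS] at hqT
      obtain ⟨hqmin, hqp, hxq⟩ := hqT
      have hqprime : q.IsPrime := hqmin.1.1
      rcases (Ideal.IsPrime.inf_le hqprime).mp hle with h | h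
      · exact ker_not_le_minimal A p q hqmin hqp h
      · obtain ⟨q', hq'T, hq'q⟩ := (Ideal.IsPrime.inf_le' hqprime).mp h
        rw [hT', Finset.mem_filter, hmemS] at hq'T
        obtain ⟨hq'min, -, hxq'⟩ := hq'T
        have : q ≤ q' := hqmin.2 ⟨hq'min.1.1, bot_le⟩ hq'q
        exact hxq' (this hxq)
    · intro q hqT _ _
      rw [hT, Finset.mem_filter, hmemS] at hqT
      exact hqT.1.1.1
  obtain ⟨a, haJ, haU⟩ := Set.not_subset.mp hnot
  have haI : a ∈ I := haJ.1
  have haT' : ∀ q ∈ T', a ∈ q := fun q hq => by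
    have : (T'.inf id : Ideal A) ≤ q := Finset.inf_le (f := id) hq
    exact this haJ.2
  have haT : ∀ q ∈ T, a ∉ q := fun q hq haq => by
    apply haU
    simp only [Set.mem_iUnion]
    exact ⟨q, hq, haq⟩
  refine ⟨x + a, ?_, ?_⟩
  · rw [map_add, (RingHom.mem_ker).mp haI, add_zero]
  · intro q hqmin hqp hmem
    by_cases hxq : x ∈ q
    · have hqT : q ∈ T := by
        rw [hT, Finset.mem_filter, hmemS]; exact ⟨hqmin, hqp, hxq⟩
      apply haT q hqT
      have := q.sub_mem hmem hxq
      simpa using this
    · have hqT' : q ∈ T' := by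
        rw [hT', Finset.mem_filter, hmemS]; exact ⟨hqmin, hqp, hxq⟩
      apply hxq
      have := q.sub_mem hmem (haT' q hqT')
      simpa using this

end Groth.Agent.S5073
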