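import Groth.Statements.S5075
import Groth.Agent.Lib.Helper89.EtaleDescent
import Mathlib.AlgebraicGeometry.Morphisms.Finite

set_option autoImplicit false
open CategoryTheory AlgebraicGeometry
universe u
open Unram

namespace Groth.Agent.S5075

/-- Let p : X ⟶ S be étale, g : S' ⟶ S a morphism and i : S'₀ ⟶ S' a surjective closed immersion (a
closed subscheme with the same underlying space). Then for every f₀ : S'₀ ⟶ X over S there is
exactly one f : S' ⟶ X over S with i ≫ f = f₀. -/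
theorem result {X S S' S'₀ : Scheme.{u}} (p : X ⟶ S) [Etale p]
    (g : S' ⟶ S) (i : S'₀ ⟶ S') [IsClosedImmersion i] [Surjective i]
    (f₀ : S'₀ ⟶ X) (h₀ : f₀ ≫ p = i ≫ g) :
    ∃! f : S' ⟶ X, f ≫ p = g ∧ i ≫ f = f₀ := by
  have : IsIntegralHom i := inferInstance
  have : UniversallyInjective i := inferInstance
  obtain ⟨t0, ht0_fst, ht0_snd⟩ : ∃ t0 : S'₀ ⟶ Limits.pullback p g,
      t0 ≫ Limits.pullback.fst p g = f₀ ∧ t0 ≫ Limits.pullback.snd p g = i :=
    ⟨Limits.pullback.lift f₀ i h₀, Limits.pullback.lift_fst _ _ _, Limits.pullback.lift_snd _ _ _⟩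
  obtain ⟨τ, hτ_fst, hτ_snd⟩ : ∃ τ : S'₀ ⟶ Limits.pullback (Limits.pullback.snd p g) i,
      τ ≫ Limits.pullback.fst _ _ = t0 ∧ τ ≫ Limits.pullback.snd _ _ = 𝟙 _ :=
    ⟨Limits.pullback.lift t0 (𝟙 _) (by rw [ht0_snd, Category.id_comp]),
      Limits.pullback.lift_fst _ _ _, Limits.pullback.lift_snd _ _ _⟩
  obtain ⟨σ, hσ1, hσ2⟩ := Groth.Agent.Lib.Helper89.EtaleDescent.exists_section_descent i
    (Limits.pullback.snd p g) τ hτ_snd
  refine ⟨σ ≫ Limits.pullback.fst p g, ⟨?_, ?_⟩, ?_⟩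
  · rw [Category.assoc, Limits.pullback.condition, ← Category.assoc, hσ1, Category.id_comp]
  · rw [← Category.assoc, hσ2, hτ_fst, ht0_fst]
  · rintro f' ⟨hf'1, hf'2⟩
    refine Groth.Agent.Lib.Helper89.EtaleDescent.eq_of_comp_eq_of_unramified p f' _ ?_ i
      i.surjective ?_
    · rw [hf'1, Category.assoc, Limits.pullback.condition, ← Category.assoc, hσ1, Category.id_comp]
    · rw [hf'2, ← Category.assoc, hσ2, hτ_fst, ht0_fst]

end Groth.Agent.S5075
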