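import Groth.Statements.S5076
import Mathlib

set_option autoImplicit false
universe u
open Unram

namespace Groth.Agent.S5076

/-- Let A be a local ring with maximal ideal m, C a finite A-algebra, r a maximal ideal of C, and u an
element of C which lies in every maximal ideal of C other than r, does not lie in r, and whose image
generates C_r modulo m C_r as an A-algebra. Let B = A[u] be the A-subalgebra of C generated by u and
n the inverse image of r in B. Then the canonical homomorphism B_n → C_r is bijective. -/
theorem result (A C : Type u) [CommRing A] [IsLocalRing A]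
    [CommRing C] [Algebra A C] [Module.Finite A C] (r : Ideal C) [r.IsMaximal] (u : C)
    (hu₁ : ∀ r' : Ideal C, r'.IsMaximal → r' ≠ r → u ∈ r') (hu₂ : u ∉ r)
    (hu₃ : Subalgebra.toSubmodule (Algebra.adjoin A {algebraMap C (Localization.AtPrime r) u}) ⊔
        Submodule.restrictScalars A (Ideal.map (algebraMap A (Localization.AtPrime r)) (IsLocalRing.maximalIdeal A)) = ⊤) :
    Function.Bijective (Localization.localRingHom (Ideal.comap (Algebra.adjoin A ({u} : Set C)).val.toRingHom r) r
      (Algebra.adjoin A ({u} : Set C)).val.toRingHom rfl) := by
  classical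
  haveI : Module.Finite (Algebra.adjoin A ({u} : Set C)) C :=
    Module.Finite.of_restrictScalars_finite A _ C
  haveI hlo : r.LiesOver (Ideal.comap (Algebra.adjoin A ({u} : Set C)).val.toRingHom r) := ⟨rfl⟩
  have hnmax : (Ideal.comap (Algebra.adjoin A ({u} : Set C)).val.toRingHom r).IsMaximal :=
    Ideal.isMaximal_comap_of_isIntegral_of_isMaximal (R := Algebra.adjoin A ({u} : Set C)) r
  have hq : (Ideal.comap (Algebra.adjoin A ({u} : Set C)).val.toRingHom r).primesOver C = {r} := by
    ext q
    constructor
    · rintro ⟨hqp, hqo⟩
      have hqmax : q.IsMaximal := by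
        apply Ideal.isMaximal_of_isIntegral_of_isMaximal_comap (R := Algebra.adjoin A ({u} : Set C)) q
        have := hqo.over
        rw [Ideal.under] at this
        rw [← this]
        exact hnmax
      by_contra hne
      have huq : u ∈ q := hu₁ q hqmax hne
      have h1 : (⟨u, Algebra.subset_adjoin rfl⟩ : Algebra.adjoin A ({u} : Set C)) ∈
          Ideal.comap (Algebra.adjoin A ({u} : Set C)).val.toRingHom r := by
        rw [hqo.over]
        exact huq
      exact hu₂ h1
    · rintro rfl
      exact ⟨inferInstance, hlo⟩
  constructor
  · exact Localization.localRingHom_injective_of_primesOver_eq_singleton hq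
  · letI := Localization.AtPrime.algebraOfLiesOver
      (Ideal.comap (Algebra.adjoin A ({u} : Set C)).val.toRingHom r) r
    haveI := Localization.finite_of_primesOver_eq_singleton hq
    change Function.Surjective (Algebra.linearMap
      (Localization.AtPrime (Ideal.comap (Algebra.adjoin A ({u} : Set C)).val.toRingHom r))
      (Localization.AtPrime r))
    rw [← LinearMap.range_eq_top, ← top_le_iff]
    apply Submodule.le_of_le_smul_of_le_jacobson_bot Module.Finite.fg_top
      (IsLocalRing.maximalIdeal_le_jacobson _)
    rintro x -
    have hx : x ∈ (⊤ : Submodule A (Localization.AtPrime r)) := Submodule.mem_top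
    rw [← hu₃] at hx
    obtain ⟨a, ha, z, hz, rfl⟩ := Submodule.mem_sup.mp hx
    refine Submodule.add_mem_sup ?_ ?_
    · have hle : Algebra.adjoin A {algebraMap C (Localization.AtPrime r) u} ≤
          (IsScalarTower.toAlgHom A (Localization.AtPrime
            (Ideal.comap (Algebra.adjoin A ({u} : Set C)).val.toRingHom r))
            (Localization.AtPrime r)).range := by
        rw [Algebra.adjoin_le_iff, Set.singleton_subset_iff]
        refine ⟨algebraMap _ _ (⟨u, Algebra.subset_adjoin rfl⟩ : Algebra.adjoin A ({u} : Set C)), ?_⟩
        exact Localization.localRingHom_to_map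
          (Ideal.comap (Algebra.adjoin A ({u} : Set C)).val.toRingHom r) r
          (algebraMap (Algebra.adjoin A ({u} : Set C)) C) Ideal.LiesOver.over
          (⟨u, Algebra.subset_adjoin rfl⟩ : Algebra.adjoin A ({u} : Set C))
      obtain ⟨y, hy⟩ := hle ha
      exact ⟨y, hy⟩
    · rw [Ideal.smul_top_eq_map]
      change z ∈ Ideal.map _ _
      have hz' : z ∈ Ideal.map (algebraMap A (Localization.AtPrime r))
          (IsLocalRing.maximalIdeal A) := hz
      refine (?_ : Ideal.map (algebraMap A (Localization.AtPrime r))
          (IsLocalRing.maximalIdeal A) ≤ _) hz'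
      rw [Ideal.map_le_iff_le_comap]
      intro a' ha'
      rw [Ideal.mem_comap, IsScalarTower.algebraMap_apply A (Localization.AtPrime
            (Ideal.comap (Algebra.adjoin A ({u} : Set C)).val.toRingHom r))
            (Localization.AtPrime r)]
      apply Ideal.mem_map_of_mem
      rw [IsScalarTower.algebraMap_apply A (Algebra.adjoin A ({u} : Set C)),
        IsLocalization.AtPrime.to_map_mem_maximal_iff _
          (Ideal.comap (Algebra.adjoin A ({u} : Set C)).val.toRingHom r)]
      have hrA : r.comap (algebraMap A C) = IsLocalRing.maximalIdeal A :=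
        IsLocalRing.eq_maximalIdeal (Ideal.isMaximal_comap_of_isIntegral_of_isMaximal r)
      have : a' ∈ r.comap (algebraMap A C) := hrA ▸ ha'
      exact this

end Groth.Agent.S5076
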