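import Groth.Statements.S5077
import Mathlib

set_option autoImplicit false
universe u
open Unram


namespace Groth.Agent.S5077

open TensorProduct Polynomial

theorem mem_smul_top_of_one_tmul_eq_zero {A K B : Type*} [CommRing A] [CommRing K] [Algebra A K]
    [AddCommGroup B] [Module A B] (hs : Function.Surjective (algebraMap A K)) (b : B)
    (hb : (1 : K) ⊗ₜ[A] b = 0) :
    b ∈ (RingHom.ker (algebraMap A K)) • (⊤ : Submodule A B) := by
  let e : (A ⧸ RingHom.ker (Algebra.ofId A K)) ≃ₗ[A] K :=
    (Ideal.quotientKerAlgEquivOfSurjective (f := Algebra.ofId A K) hs).toLinearEquiv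
  have h1 : (e.symm.rTensor B) ((1 : K) ⊗ₜ[A] b) = 0 := by rw [hb, map_zero]
  rw [LinearEquiv.rTensor_tmul] at h1
  have h3 : e.symm 1 = 1 := by
    rw [LinearEquiv.symm_apply_eq]
    exact (map_one (Ideal.quotientKerAlgEquivOfSurjective (f := Algebra.ofId A K) hs)).symm
  have h2 := congrArg (TensorProduct.quotTensorEquivQuotSMul B (RingHom.ker (Algebra.ofId A K))) h1
  rw [h3, TensorProduct.quotTensorEquivQuotSMul_mk_one_tmul, map_zero] at h2
  exact (Submodule.Quotient.mk_eq_zero _).mp h2

theorem deriv_ne_zero_aux {K T : Type*} [Field K] [CommRing T] [Algebra K T] [Module.Finite K T]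
    (Q : Ideal T) [Q.IsPrime] [Algebra.IsUnramifiedAt K Q] (x : T) (p : K[X])
    (hp0 : aeval x p = 0)
    (h2 : ¬ minpoly K (algebraMap T Q.ResidueField x) ^ 2 ∣ p) :
    algebraMap T Q.ResidueField (aeval x (derivative p)) ≠ 0 := by
  haveI : IsArtinianRing T := IsArtinianRing.of_finite K _
  haveI : Q.IsMaximal := IsArtinianRing.isMaximal_of_isPrime Q
  have hTsurj : Function.Surjective (algebraMap T Q.ResidueField) :=
    Q.algebraMap_residueField_surjective
  haveI : Module.Finite K Q.ResidueField :=
    Module.Finite.of_surjective (IsScalarTower.toAlgHom K T Q.ResidueField).toLinearMap hTsurj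
  haveI : Algebra.FormallyUnramified K Q.ResidueField :=
    Algebra.FormallyUnramified.of_surjective
      (IsScalarTower.toAlgHom K (Localization.AtPrime Q) Q.ResidueField)
      IsLocalRing.residue_surjective
  haveI : Algebra.IsSeparable K Q.ResidueField := Algebra.FormallyUnramified.isSeparable K _
  set θ := algebraMap T Q.ResidueField x with hθ
  have hqsep : (minpoly K θ).Separable := Algebra.IsSeparable.isSeparable K θ
  have hθ0 : aeval θ p = 0 := by
    rw [hθ, aeval_algebraMap_apply, hp0, map_zero]
  obtain ⟨h, hh⟩ := minpoly.dvd K θ hθ0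
  have hhθ : aeval θ h ≠ 0 := by
    intro h0
    obtain ⟨h', hh'⟩ := minpoly.dvd K θ h0
    apply h2
    rw [hh, hh', pow_two, ← mul_assoc]
    exact dvd_mul_right _ _
  rw [← aeval_algebraMap_apply, hh, derivative_mul, map_add, map_mul, map_mul, minpoly.aeval,
    zero_mul, add_zero]
  exact mul_ne_zero (hqsep.aeval_derivative_ne_zero (minpoly.aeval K θ)) hhθ

end Groth.Agent.S5077

namespace Groth.Agent.S5077

/-- Let A be a local ring and B a finite A-algebra generated by a single element u. Then there is a
monic polynomial F with coefficients in A such that F(u) = 0 and F'(u) does not belong to any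
maximal ideal n of B at which B is unramified over A. -/
theorem result (A B : Type u) [CommRing A] [IsLocalRing A]
    [CommRing B] [Algebra A B] [Module.Finite A B] (u : B) (hu : Algebra.adjoin A ({u} : Set B) = ⊤) :
    ∃ F : Polynomial A, F.Monic ∧ Polynomial.aeval u F = 0 ∧
      ∀ (n : Ideal B) [n.IsMaximal], Algebra.IsUnramifiedAt A n → Polynomial.aeval u (Polynomial.derivative F) ∉ n := by
  classical
  have hKs : Function.Surjective (algebraMap A (IsLocalRing.maximalIdeal A).ResidueField) :=
    (IsLocalRing.maximalIdeal A).algebraMap_residueField_surjective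
  have hker : RingHom.ker (algebraMap A (IsLocalRing.maximalIdeal A).ResidueField) =
      IsLocalRing.maximalIdeal A := Ideal.ker_algebraMap_residueField _
  set K := (IsLocalRing.maximalIdeal A).ResidueField with hK
  let x : TensorProduct A K B := 1 ⊗ₜ u
  have haeval : ∀ G : Polynomial A, Polynomial.aeval x (G.map (algebraMap A K)) =
      (1 : K) ⊗ₜ[A] Polynomial.aeval u G := by
    intro G
    rw [Polynomial.aeval_map_algebraMap]
    exact Polynomial.aeval_algHom_apply
      (Algebra.TensorProduct.includeRight : B →ₐ[A] TensorProduct A K B) u G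
  have hsurj : Function.Surjective (Polynomial.aeval (R := K) x) := by
    intro t
    induction t using TensorProduct.induction_on with
    | zero => exact ⟨0, map_zero _⟩
    | tmul c b =>
      have hb : b ∈ Algebra.adjoin A {u} := hu ▸ Algebra.mem_top
      rw [Algebra.adjoin_singleton_eq_range_aeval] at hb
      obtain ⟨G, rfl⟩ := hb
      refine ⟨Polynomial.C c * G.map (algebraMap A K), ?_⟩
      rw [map_mul, Polynomial.aeval_C, haeval, Algebra.TensorProduct.algebraMap_apply,
        Algebra.algebraMap_self, RingHom.id_apply, Algebra.TensorProduct.tmul_mul_tmul, mul_one,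
        one_mul]
      rfl
    | add t₁ t₂ h₁ h₂ =>
      obtain ⟨G₁, rfl⟩ := h₁
      obtain ⟨G₂, rfl⟩ := h₂
      exact ⟨G₁ + G₂, map_add _ _ _⟩
  have hint : IsIntegral K x := Algebra.IsIntegral.isIntegral x
  set g := minpoly K x with hg
  set d := g.natDegree with hd
  have hgm : g.Monic := minpoly.monic hint
  have hxpow : ∀ i : ℕ, x ^ i = (1 : K) ⊗ₜ[A] (u ^ i) := by
    intro i
    rw [Algebra.TensorProduct.tmul_pow, one_pow]
  -- Nakayama: powers of u below d span B
  have hN : Submodule.span A (Set.range fun i : Fin d => u ^ (i : ℕ)) = ⊤ := by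
    rw [eq_top_iff]
    apply Submodule.le_of_le_smul_of_le_jacobson_bot (I := IsLocalRing.maximalIdeal A)
      Module.Finite.fg_top (IsLocalRing.maximalIdeal_le_jacobson ⊥)
    intro b _
    obtain ⟨G, hG⟩ := hsurj ((1 : K) ⊗ₜ[A] b)
    have hR : Polynomial.aeval x (G %ₘ g) = (1 : K) ⊗ₜ[A] b := by
      rw [Polynomial.aeval_modByMonic_eq_self_of_root (minpoly.aeval K x), hG]
    choose a ha using fun i : ℕ => hKs ((G %ₘ g).coeff i)
    have hsum : (1 : K) ⊗ₜ[A] (∑ i ∈ Finset.range d, a i • u ^ i) = (1 : K) ⊗ₜ[A] b := by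
      by_cases hR0 : G %ₘ g = 0
      · rw [← hR, hR0, map_zero]
        have : ∀ i, a i • u ^ i ∈ (IsLocalRing.maximalIdeal A) • (⊤ : Submodule A B) := by
          intro i
          refine Submodule.smul_mem_smul ?_ Submodule.mem_top
          rw [← hker, RingHom.mem_ker, ha i, hR0, Polynomial.coeff_zero]
        rw [TensorProduct.tmul_sum]
        refine Finset.sum_eq_zero fun i _ => ?_
        rw [TensorProduct.tmul_smul, ← algebraMap_smul K (a i), ha i, hR0, Polynomial.coeff_zero,
          zero_smul]
      · have hlt : (G %ₘ g).natDegree < d :=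
          Polynomial.natDegree_lt_natDegree hR0 (Polynomial.degree_modByMonic_lt G hgm)
        rw [← hR, Polynomial.aeval_eq_sum_range' hlt, TensorProduct.tmul_sum]
        refine Finset.sum_congr rfl fun i _ => ?_
        rw [TensorProduct.tmul_smul, ← algebraMap_smul K (a i), ha i, hxpow]
    have hdiff : b - ∑ i ∈ Finset.range d, a i • u ^ i ∈
        (IsLocalRing.maximalIdeal A) • (⊤ : Submodule A B) := by
      rw [← hker]
      apply Groth.Agent.S5077.mem_smul_top_of_one_tmul_eq_zero hKs
      rw [TensorProduct.tmul_sub, hsum, sub_self]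
    have hb' : ∑ i ∈ Finset.range d, a i • u ^ i ∈
        Submodule.span A (Set.range fun i : Fin d => u ^ (i : ℕ)) := by
      refine Submodule.sum_mem _ fun i hi => Submodule.smul_mem _ _ (Submodule.subset_span ?_)
      exact ⟨⟨i, Finset.mem_range.mp hi⟩, rfl⟩
    have : b = ∑ i ∈ Finset.range d, a i • u ^ i + (b - ∑ i ∈ Finset.range d, a i • u ^ i) := by
      ring
    rw [this]
    exact Submodule.add_mem_sup hb' hdiff
  have hud : u ^ d ∈ Submodule.span A (Set.range fun i : Fin d => u ^ (i : ℕ)) :=
    hN ▸ Submodule.mem_top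
  obtain ⟨c, hc⟩ := (Submodule.mem_span_range_iff_exists_fun A).mp hud
  have hSdeg : (∑ i : Fin d, Polynomial.C (c i) * Polynomial.X ^ (i : ℕ)).degree <
      (d : WithBot ℕ) := Polynomial.degree_sum_fin_lt c
  have hFm : (Polynomial.X ^ d -
      ∑ i : Fin d, Polynomial.C (c i) * Polynomial.X ^ (i : ℕ)).Monic :=
    Polynomial.monic_X_pow_sub hSdeg
  have hFnat : (Polynomial.X ^ d -
      ∑ i : Fin d, Polynomial.C (c i) * Polynomial.X ^ (i : ℕ)).natDegree = d := by
    apply Polynomial.natDegree_eq_of_degree_eq_some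
    rw [Polynomial.degree_sub_eq_left_of_degree_lt, Polynomial.degree_X_pow]
    rw [Polynomial.degree_X_pow]
    exact hSdeg
  have hFu : Polynomial.aeval u (Polynomial.X ^ d -
      ∑ i : Fin d, Polynomial.C (c i) * Polynomial.X ^ (i : ℕ)) = 0 := by
    rw [map_sub, map_pow, Polynomial.aeval_X, map_sum, ← hc, sub_eq_zero]
    refine (Finset.sum_congr rfl fun i _ => ?_).symm
    rw [map_mul, Polynomial.aeval_C, map_pow, Polynomial.aeval_X, Algebra.smul_def]
  set F := Polynomial.X ^ d -
      ∑ i : Fin d, Polynomial.C (c i) * Polynomial.X ^ (i : ℕ) with hF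
  have hFbar0 : Polynomial.aeval x (F.map (algebraMap A K)) = 0 := by
    rw [haeval, hFu, TensorProduct.tmul_zero]
  have hFg : F.map (algebraMap A K) = g :=
    Polynomial.eq_of_monic_of_dvd_of_natDegree_le hgm (hFm.map _) (minpoly.dvd K x hFbar0)
      (by rw [hFm.natDegree_map, hFnat])
  refine ⟨F, hFm, hFu, ?_⟩
  intro n hn hunr hmem
  haveI hnP : n.LiesOver (IsLocalRing.maximalIdeal A) := by
    constructor
    have : (n.comap (algebraMap A B)).IsMaximal :=
      Ideal.isMaximal_comap_of_isIntegral_of_isMaximal n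
    exact (IsLocalRing.eq_maximalIdeal this).symm
  let Qs : PrimeSpectrum ((IsLocalRing.maximalIdeal A).Fiber B) :=
    PrimeSpectrum.primesOverOrderIsoFiber A B (IsLocalRing.maximalIdeal A)
      ⟨n, hn.isPrime, hnP⟩
  have hQ' : n = Qs.asIdeal.comap Algebra.TensorProduct.includeRight.toRingHom := by
    have h0 := (PrimeSpectrum.primesOverOrderIsoFiber A B
      (IsLocalRing.maximalIdeal A)).symm_apply_apply ⟨n, hn.isPrime, hnP⟩
    have h2 := congrArg Subtype.val h0
    rw [PrimeSpectrum.coe_primesOverOrderIsoFiber_symm_apply] at h2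
    exact h2.symm
  haveI : Algebra.IsUnramifiedAt A n := hunr
  have h1 : Algebra.IsUnramifiedAt K Qs.asIdeal :=
    Algebra.IsUnramifiedAt.residueField (IsLocalRing.maximalIdeal A) n Qs.asIdeal hQ'
  have hp₁ : Ideal.span {F.map (algebraMap A K)} =
      RingHom.ker (Polynomial.aeval x).toRingHom := by
    rw [hFg]
    ext p
    rw [Ideal.mem_span_singleton, RingHom.mem_ker, minpoly.dvd_iff]
    rfl
  have h2 := Algebra.IsUnramifiedAt.not_minpoly_sq_dvd Qs.asIdeal x (F.map (algebraMap A K))
    hp₁ hsurj
  have hder := Groth.Agent.S5077.deriv_ne_zero_aux Qs.asIdeal x (F.map (algebraMap A K)) hFbar0 h2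
  apply hder
  rw [Polynomial.derivative_map, haeval, Ideal.algebraMap_residueField_eq_zero]
  have : Polynomial.aeval u (Polynomial.derivative F) ∈
      Qs.asIdeal.comap Algebra.TensorProduct.includeRight.toRingHom := hQ' ▸ hmem
  exact this

end Groth.Agent.S5077
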