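import Groth.Statements.S5079
-- import your own Groth.Agent.* helpers here
import Groth.Agent.Lib.Helper15.PuncSec
set_option linter.style.haveILetI false

set_option autoImplicit false
open CategoryTheory AlgebraicGeometry Opposite
universe u
open Unram

namespace Groth.Agent.S5079

open Groth.Agent.Lib.Helper15.PuncSec IsLocalRing

section SchemePart

variable (A : Type u) [CommRing A] [IsLocalRing A]

theorem basicOpen_le_punctured (a : A) (ha : a ∈ maximalIdeal A) :
    (Spec (CommRingCat.of A)).basicOpen ((Scheme.ΓSpecIso (CommRingCat.of A)).inv a) ≤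
      FEt.puncturedSpec A := by
  rw [basicOpen_eq_of_affine]
  intro x hx hxc
  have hxc' : x = IsLocalRing.closedPoint A := hxc
  have hx' : a ∉ (IsLocalRing.closedPoint A).asIdeal := by
    rw [← hxc']; exact hx
  exact hx' ha

theorem eq_bot_of_inf_basicOpen_eq_bot (V : (Spec (CommRingCat.of A)).Opens) (t : A)
    (ht : ∀ q ∈ minimalPrimes A, t ∉ q)
    (h : V ⊓ (Spec (CommRingCat.of A)).basicOpen ((Scheme.ΓSpecIso (CommRingCat.of A)).inv t) = ⊥) :
    V = ⊥ := by
  rw [basicOpen_eq_of_affine] at h
  rw [eq_bot_iff]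
  intro x hx
  obtain ⟨q, hq, hqx⟩ := Ideal.exists_minimalPrimes_le (I := ⊥)
    (J := (show PrimeSpectrum A from x).asIdeal) bot_le
  let y : PrimeSpectrum A := ⟨q, hq.1.1⟩
  have hyx : y ⤳ (show PrimeSpectrum A from x) := (PrimeSpectrum.le_iff_specializes y _).1 hqx
  have hyV : (show (Spec (CommRingCat.of A)) from y) ∈ V := hyx.mem_open V.2 hx
  have hyD : y ∈ PrimeSpectrum.basicOpen t := ht q hq
  have : y ∈ (V ⊓ PrimeSpectrum.basicOpen t : (Spec (CommRingCat.of A)).Opens) := ⟨hyV, hyD⟩
  rw [h] at this
  exact this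

theorem exists_psi [IsNoetherianRing A] [IsReduced A] (t : A) (htm : t ∈ maximalIdeal A)
    (ht : ∀ q ∈ minimalPrimes A, t ∉ q) :
    ∃ ψ : ↑((Spec (CommRingCat.of A)).presheaf.obj (op (FEt.puncturedSpec A))) →+* FractionRing A,
      Function.Injective ψ ∧
      ψ.comp (((Spec (CommRingCat.of A)).presheaf.map
          (homOfLE (le_top : FEt.puncturedSpec A ≤ ⊤)).op).hom.comp
        (Scheme.ΓSpecIso (CommRingCat.of A)).inv.hom) = algebraMap A (FractionRing A) ∧
      ∀ s, ∀ a ∈ maximalIdeal A, ∃ (N : ℕ) (b : A),
        algebraMap A (FractionRing A) (a ^ N) * ψ s = algebraMap A (FractionRing A) b := by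
  set X := Spec (CommRingCat.of A) with hX
  set U := FEt.puncturedSpec A with hU
  haveI : IsReduced X := by rw [hX]; infer_instance
  let iso := Scheme.ΓSpecIso (CommRingCat.of A)
  let t' : Γ(X, ⊤) := iso.inv.hom t
  have hDU : X.basicOpen t' ≤ U := basicOpen_le_punctured A t htm
  haveI : IsLocalization.Away t' Γ(X, X.basicOpen t') := inferInstance
  let g : Γ(X, ⊤) →+* FractionRing A := (algebraMap A (FractionRing A)).comp iso.hom.hom
  have hginv : ∀ a : A, g (iso.inv.hom a) = algebraMap A (FractionRing A) a := by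
    intro a
    change algebraMap A (FractionRing A) ((iso.inv ≫ iso.hom).hom a) = _
    rw [Iso.inv_hom_id]; rfl
  have hginj : Function.Injective g := by
    intro b b' hbb'
    have h1 := IsFractionRing.injective A (FractionRing A) hbb'
    have h2 : Function.Injective iso.hom.hom := by
      have := (ConcreteCategory.bijective_of_isIso iso.hom).1
      exact this
    exact h2 h1
  have hgt : IsUnit (g t') := by
    rw [hginv]
    exact IsLocalization.map_units (FractionRing A)
      (⟨t, mem_nonZeroDivisors_of_forall_notMem t ht⟩ : nonZeroDivisors A)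
  let lam : Γ(X, X.basicOpen t') →+* FractionRing A := IsLocalization.Away.lift t' hgt
  let resU : Γ(X, ⊤) →+* Γ(X, U) := (X.presheaf.map (homOfLE (le_top : U ≤ ⊤)).op).hom
  let resD : Γ(X, U) →+* Γ(X, X.basicOpen t') := (X.presheaf.map (homOfLE hDU).op).hom
  let ψ : Γ(X, U) →+* FractionRing A := lam.comp resD
  have hψres : ∀ b' : Γ(X, ⊤), ψ (resU b') = g b' := by
    intro b'
    have h1 : resD (resU b') = algebraMap Γ(X, ⊤) Γ(X, X.basicOpen t') b' := by
      change (X.presheaf.map _ ≫ X.presheaf.map _).hom b' = _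
      rw [← Functor.map_comp]
      rfl
    change lam (resD (resU b')) = _
    rw [h1]
    exact IsLocalization.Away.lift_eq t' hgt b'
  have hψinj : Function.Injective ψ := by
    rw [injective_iff_map_eq_zero]
    intro s hs
    have hres0 : resD s = 0 := by
      obtain ⟨n, b', hb'⟩ := IsLocalization.Away.surj t' (resD s)
      have h1 := congrArg lam hb'
      rw [map_mul, map_pow, IsLocalization.Away.lift_eq, IsLocalization.Away.lift_eq] at h1
      have hs' : lam (resD s) = 0 := hs
      rw [hs', zero_mul] at h1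
      have hb0 : b' = 0 := hginj (by rw [← h1, map_zero])
      rw [hb0, map_zero] at hb'
      have hu : IsUnit (algebraMap Γ(X, ⊤) Γ(X, X.basicOpen t') t') :=
        IsLocalization.Away.algebraMap_isUnit t'
      exact (hu.pow n).mul_left_eq_zero.1 hb'
    apply eq_zero_of_basicOpen_eq_bot
    apply eq_bot_of_inf_basicOpen_eq_bot A _ t ht
    have h2 : X.basicOpen (resD s) = ⊥ := by rw [hres0]; exact Scheme.basicOpen_zero _ _
    rw [Scheme.basicOpen_res] at h2
    rw [inf_comm]; exact h2
  have hden : ∀ s, ∀ a ∈ maximalIdeal A, ∃ (N : ℕ) (b : A),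
      algebraMap A (FractionRing A) (a ^ N) * ψ s = algebraMap A (FractionRing A) b := by
    intro s a ha
    let a' : Γ(X, ⊤) := iso.inv.hom a
    have hDaU : X.basicOpen a' ≤ U := basicOpen_le_punctured A a ha
    let resDa : Γ(X, U) →+* Γ(X, X.basicOpen a') := (X.presheaf.map (homOfLE hDaU).op).hom
    obtain ⟨N, b', hb'⟩ := IsLocalization.Away.surj a' (resDa s)
    have hcomp : ∀ c : Γ(X, ⊤), resDa (resU c) =
        algebraMap Γ(X, ⊤) Γ(X, X.basicOpen a') c := by
      intro c
      change (X.presheaf.map _ ≫ X.presheaf.map _).hom c = _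
      rw [← Functor.map_comp]; rfl
    set σ : Γ(X, U) := s * resU a' ^ N - resU b' with hσ
    have hσ0 : resDa σ = 0 := by
      rw [hσ, map_sub, map_mul, map_pow, hcomp, hcomp, hb', sub_self]
    have hprod : resU a' * σ = 0 := by
      apply eq_zero_of_basicOpen_eq_bot
      rw [Scheme.basicOpen_mul]
      have h2 : X.basicOpen (resDa σ) = ⊥ := by rw [hσ0]; exact Scheme.basicOpen_zero _ _
      rw [Scheme.basicOpen_res] at h2
      have h3 : X.basicOpen (resU a') = U ⊓ X.basicOpen a' := Scheme.basicOpen_res _ _ _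
      rw [h3, inf_assoc, h2, inf_bot_eq]
    refine ⟨N + 1, a * iso.hom.hom b', ?_⟩
    have h4 := congrArg ψ hprod
    rw [map_mul, hσ, map_sub, map_mul, map_pow, hψres, hψres, map_zero, hginv] at h4
    have hgb : g b' = algebraMap A (FractionRing A) (iso.hom.hom b') := rfl
    rw [hgb] at h4
    rw [pow_succ, map_mul, map_mul, map_pow]
    linear_combination h4
  refine ⟨ψ, hψinj, ?_, hden⟩
  ext a
  change ψ (resU (iso.inv.hom a)) = _
  rw [hψres, hginv]

end SchemePart

/-- Let A be a reduced Noetherian local ring, A' the integral closure of A in its total ring of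
fractions and U the punctured spectrum of A. Assume that for every maximal ideal m' of A' lying over
the maximal ideal of A the local ring A'_{m'} has dimension at least 2. Then, writing ρ for the
restriction map A = Γ(Spec A, O) → Γ(U, O), the ring Γ(U, O) is integral over A via ρ and there is
an injective ring homomorphism Γ(U, O) → A' compatible with ρ and the inclusion of A in A'. -/
theorem result (A : Type u) [CommRing A] [IsNoetherianRing A]
    [IsLocalRing A] [IsReduced A]
    (hdim : ∀ (m' : Ideal ↥(integralClosure A (FractionRing A))) [m'.IsMaximal],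
      m'.comap (algebraMap A ↥(integralClosure A (FractionRing A))) = IsLocalRing.maximalIdeal A →
        2 ≤ ringKrullDim (Localization.AtPrime m')) :
    (((Spec (CommRingCat.of A)).presheaf.map (homOfLE (le_top : FEt.puncturedSpec A ≤ ⊤)).op).hom.comp
        (Scheme.ΓSpecIso (CommRingCat.of A)).inv.hom).IsIntegral ∧
      ∃ φ : ↑((Spec (CommRingCat.of A)).presheaf.obj (op (FEt.puncturedSpec A))) →+* ↥(integralClosure A (FractionRing A)),
        Function.Injective φ ∧
          φ.comp (((Spec (CommRingCat.of A)).presheaf.map (homOfLE (le_top : FEt.puncturedSpec A ≤ ⊤)).op).hom.comp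
            (Scheme.ΓSpecIso (CommRingCat.of A)).inv.hom) = algebraMap A ↥(integralClosure A (FractionRing A)) := by
  classical
  have hdim' : ∀ (m' : Ideal ↥(integralClosure A (FractionRing A))) [m'.IsMaximal],
      m'.comap (algebraMap A ↥(integralClosure A (FractionRing A))) = maximalIdeal A →
        2 ≤ m'.height := by
    intro m' _ hm'
    have h1 := hdim m' hm'
    rw [IsLocalization.AtPrime.ringKrullDim_eq_height m' (Localization.AtPrime m')] at h1
    exact WithBot.coe_le_coe.1 h1
  have hmnot : maximalIdeal A ∉ minimalPrimes A := by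
    intro hmin
    have hinj : Function.Injective (algebraMap A ↥(integralClosure A (FractionRing A))) := by
      intro a b hab
      apply IsFractionRing.injective A (FractionRing A)
      exact congrArg Subtype.val hab
    obtain ⟨m', hm'max, hm'⟩ := Ideal.exists_ideal_over_maximal_of_isIntegral
      (S := ↥(integralClosure A (FractionRing A))) (maximalIdeal A)
      (by rw [(RingHom.injective_iff_ker_eq_bot _).1 hinj]; exact bot_le)
    have h2 := hdim' m' hm'
    have h3 := Groth.Agent.Lib.Helper73.height_le_height_under_of_isIntegral (R := A) m'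
    have h4 : m'.under A = maximalIdeal A := hm'
    rw [h4, Ideal.height_eq_zero_iff.2 hmin] at h3
    have : (2 : ℕ∞) ≤ 0 := h2.trans h3
    exact absurd this (by decide)
  -- a nonzerodivisor in the maximal ideal
  obtain ⟨t, htm, ht⟩ : ∃ t ∈ maximalIdeal A, ∀ q ∈ minimalPrimes A, t ∉ q := by
    have hfin := minimalPrimes.finite_of_isNoetherianRing A
    have hd : ¬ ((maximalIdeal A : Set A) ⊆
        ⋃ q ∈ (hfin.toFinset : Set (Ideal A)), (q : Set A)) := by
      rw [Ideal.subset_union_prime (maximalIdeal A) (maximalIdeal A)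
        (fun q hq _ _ => (hfin.mem_toFinset.1 hq).1.1)]
      rintro ⟨q, hq, hmq⟩
      have hq' := hfin.mem_toFinset.1 hq
      have : q = maximalIdeal A :=
        le_antisymm (IsLocalRing.le_maximalIdeal hq'.1.1.ne_top) hmq
      exact hmnot (this ▸ hq')
    obtain ⟨t, htm, htq⟩ := Set.not_subset.1 hd
    refine ⟨t, htm, fun q hq htq' => htq ?_⟩
    simp only [Set.mem_iUnion]
    exact ⟨q, hfin.mem_toFinset.2 hq, htq'⟩
  obtain ⟨ψ, hψinj, hψρ, hden⟩ := exists_psi A t htm ht
  have hint : ∀ s, IsIntegral A (ψ s) := by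
    intro s
    obtain ⟨n, hn⟩ := exists_pow_of_forall_exists_pow (ψ s) (hden s)
    exact isIntegral_of_pow_smul_mem A hdim' (ψ s) n hn
  refine ⟨?_, ?_⟩
  · intro s
    obtain ⟨f, hf, hfs⟩ := hint s
    refine ⟨f, hf, ?_⟩
    apply hψinj
    rw [map_zero, Polynomial.hom_eval₂, hψρ]
    exact hfs
  · refine ⟨RingHom.codRestrict ψ (integralClosure A (FractionRing A)) hint, ?_, ?_⟩
    · intro s s' hss'
      exact hψinj (congrArg Subtype.val hss')
    · ext a
      exact congrArg (fun f : A →+* FractionRing A => f a) hψρ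

end Groth.Agent.S5079
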