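import Groth.Statements.S5081
import Mathlib.RingTheory.Kaehler.Basic
import Mathlib.Algebra.Polynomial.Derivation
import Mathlib.RingTheory.Adjoin.Polynomial.Basic

set_option autoImplicit false
universe u
open Unram

namespace Groth.Agent.S5081


open Polynomial in
theorem exists_aeval_eq (A B : Type u) [CommRing A] [CommRing B] [Algebra A B]
    (u : B) (hu : Algebra.adjoin A ({u} : Set B) = ⊤) (b : B) :
    ∃ G : Polynomial A, Polynomial.aeval u G = b := by
  have hb : b ∈ Algebra.adjoin A ({u} : Set B) := by rw [hu]; trivial
  rw [Algebra.adjoin_singleton_eq_range_aeval] at hb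
  exact hb

open Polynomial in
/-- the derivation `B → B ⧸ (F'(u))`, `G(u) ↦ G'(u)`. -/
theorem exists_derivation (A B : Type u) [CommRing A] [CommRing B] [Algebra A B]
    (u : B) (hu : Algebra.adjoin A ({u} : Set B) = ⊤) (F : Polynomial A)
    (hker : RingHom.ker (Polynomial.aeval u : Polynomial A →ₐ[A] B) = Ideal.span {F}) :
    ∃ d : Derivation A B (B ⧸ Ideal.span {Polynomial.aeval u (Polynomial.derivative F)}),
      d u = 1 := by
  classical
  set J : Ideal B := Ideal.span {Polynomial.aeval u (Polynomial.derivative F)} with hJ
  have hFu : Polynomial.aeval u F = 0 := by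
    have : F ∈ RingHom.ker (Polynomial.aeval u : Polynomial A →ₐ[A] B) := by
      rw [hker]; exact Ideal.mem_span_singleton_self F
    exact this
  -- the linear map on polynomials
  let δ₀ : Polynomial A →ₗ[A] (B ⧸ J) :=
    ((Ideal.Quotient.mkₐ A J).toLinearMap.comp (Polynomial.aeval u : Polynomial A →ₐ[A] B).toLinearMap).comp
      (Polynomial.derivative : Polynomial A →ₗ[A] Polynomial A)
  have hδ₀ : ∀ G, δ₀ G = Ideal.Quotient.mk J (Polynomial.aeval u (Polynomial.derivative G)) := fun G => rfl
  have hsurj : Function.Surjective (Polynomial.aeval u : Polynomial A →ₐ[A] B).toLinearMap :=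
    fun b => exists_aeval_eq A B u hu b
  have hkerle : LinearMap.ker (Polynomial.aeval u : Polynomial A →ₐ[A] B).toLinearMap ≤ LinearMap.ker δ₀ := by
    intro G hG
    have hG' : G ∈ RingHom.ker (Polynomial.aeval u : Polynomial A →ₐ[A] B) := hG
    rw [hker, Ideal.mem_span_singleton] at hG'
    obtain ⟨H, rfl⟩ := hG'
    rw [LinearMap.mem_ker, hδ₀, Polynomial.derivative_mul, map_add, map_mul, map_mul, hFu, zero_mul,
      add_zero, Ideal.Quotient.eq_zero_iff_mem]
    exact Ideal.mul_mem_right _ _ (Ideal.mem_span_singleton_self _)
  -- descend to B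
  let e := (Polynomial.aeval u : Polynomial A →ₐ[A] B).toLinearMap.quotKerEquivOfSurjective hsurj
  let δ : B →ₗ[A] (B ⧸ J) :=
    ((LinearMap.ker (Polynomial.aeval u : Polynomial A →ₐ[A] B).toLinearMap).liftQ δ₀ hkerle).comp
      e.symm.toLinearMap
  have hδ : ∀ G : Polynomial A, δ (Polynomial.aeval u G) =
      Ideal.Quotient.mk J (Polynomial.aeval u (Polynomial.derivative G)) := by
    intro G
    have h1 : e.symm (Polynomial.aeval u G) =
        (LinearMap.ker (Polynomial.aeval u : Polynomial A →ₐ[A] B).toLinearMap).mkQ G := by
      rw [LinearEquiv.symm_apply_eq]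
      rfl
    change ((LinearMap.ker (Polynomial.aeval u : Polynomial A →ₐ[A] B).toLinearMap).liftQ δ₀ hkerle)
      (e.symm (Polynomial.aeval u G)) = _
    rw [h1]
    rfl
  refine ⟨Derivation.mk' δ ?_, ?_⟩
  · intro b c
    obtain ⟨G, rfl⟩ := exists_aeval_eq A B u hu b
    obtain ⟨H, rfl⟩ := exists_aeval_eq A B u hu c
    rw [← map_mul, hδ, hδ, hδ, Polynomial.derivative_mul, map_add, map_mul, map_mul, map_add]
    rw [Algebra.smul_def, Algebra.smul_def, Ideal.Quotient.algebraMap_eq, map_mul, map_mul]
    ring
  · have := hδ Polynomial.X
    simpa using this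

/-- Let B be a finite A-algebra generated by a single element u and F a polynomial with coefficients in
A such that F(u) = 0. Then the ideal generated by F'(u) is contained in the annihilator of the
module of differentials of B over A, and equals it when the kernel of the surjection A[T] → B
sending T to u is generated by F. -/
theorem result (A B : Type u) [CommRing A] [CommRing B] [Algebra A B]
    [Module.Finite A B] (u : B) (hu : Algebra.adjoin A ({u} : Set B) = ⊤) (F : Polynomial A) (hF : Polynomial.aeval u F = 0) :
    Ideal.span {Polynomial.aeval u (Polynomial.derivative F)} ≤ Module.annihilator B (KaehlerDifferential A B) ∧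
      (RingHom.ker (Polynomial.aeval u : Polynomial A →ₐ[A] B) = Ideal.span {F} →
        Module.annihilator B (KaehlerDifferential A B) = Ideal.span {Polynomial.aeval u (Polynomial.derivative F)}) := by
  constructor
  · rw [Ideal.span_le]
    intro b hb
    rw [Set.mem_singleton_iff] at hb
    subst hb
    rw [SetLike.mem_coe, Module.mem_annihilator]
    intro ω
    have hω : ω ∈ Submodule.span B (Set.range (KaehlerDifferential.D A B)) := by
      rw [KaehlerDifferential.span_range_derivation]; trivial
    induction hω using Submodule.span_induction with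
    | mem x hx =>
      obtain ⟨b, rfl⟩ := hx
      obtain ⟨G, rfl⟩ := exists_aeval_eq A B u hu b
      rw [Derivation.map_aeval, smul_smul, mul_comm, ← smul_smul, ← Derivation.map_aeval, hF,
        map_zero, smul_zero]
    | zero => simp
    | add x y _ _ hx hy => rw [smul_add, hx, hy, add_zero]
    | smul a x _ hx => rw [smul_comm, hx, smul_zero]
  · intro hker
    refine le_antisymm ?_ ?_
    · intro b hb
      obtain ⟨d, hd⟩ := exists_derivation A B u hu F hker
      have h1 : b • KaehlerDifferential.D A B u = 0 := Module.mem_annihilator.mp hb _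
      have h2 := congrArg d.liftKaehlerDifferential h1
      rw [map_smul, Derivation.liftKaehlerDifferential_comp_D, hd, map_zero] at h2
      rw [Algebra.smul_def, mul_one, Ideal.Quotient.algebraMap_eq,
        Ideal.Quotient.eq_zero_iff_mem] at h2
      exact h2
    · rw [Ideal.span_le]
      intro b hb
      rw [Set.mem_singleton_iff] at hb
      subst hb
      rw [SetLike.mem_coe, Module.mem_annihilator]
      intro ω
      have hω : ω ∈ Submodule.span B (Set.range (KaehlerDifferential.D A B)) := by
        rw [KaehlerDifferential.span_range_derivation]; trivial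
      induction hω using Submodule.span_induction with
      | mem x hx =>
        obtain ⟨b, rfl⟩ := hx
        obtain ⟨G, rfl⟩ := exists_aeval_eq A B u hu b
        rw [Derivation.map_aeval, smul_smul, mul_comm, ← smul_smul, ← Derivation.map_aeval, hF,
          map_zero, smul_zero]
      | zero => simp
      | add x y _ _ hx hy => rw [smul_add, hx, hy, add_zero]
      | smul a x _ hx => rw [smul_comm, hx, smul_zero]

end Groth.Agent.S5081
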