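import Groth.Statements.S5082
import Groth.Agent.Lib.Helper48.DivDepth
import Groth.Agent.Lib.Helper29.DepthZero
-- import your own Groth.Agent.* helpers here

set_option autoImplicit false
universe u
open CategoryTheory CategoryTheory.Limits AlgebraicGeometry TopologicalSpace
open Mero

namespace Groth.Agent.S5082

section Aux
open Groth.Agent.Lib.Helper48 Groth.Agent.Lib.Helper48.DivDepth

variable (A : Type u) [CommRing A] [IsLocalRing A]

local notation "𝕏" => Spec (CommRingCat.of A)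

theorem aux1
    (hD : ∀ D : Mero.Divisor (Spec (CommRingCat.of A)), D = 1) (x : A)
    (hxm : x ∈ IsLocalRing.maximalIdeal A) (hreg : IsSMulRegular A x) : False := by
  have hxnz : x ∈ nonZeroDivisors A := mem_nonZeroDivisors_iff_right.mpr fun t ht =>
    isSMulRegular_iff_right_eq_zero_of_smul.mp hreg t ((mul_comm x t).trans ht)
  let s : Γ(𝕏, ⊤) := (Scheme.ΓSpecIso (CommRingCat.of A)).inv x
  have hinj : Function.Injective (Scheme.ΓSpecIso (CommRingCat.of A)).hom.hom :=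
    ((Scheme.ΓSpecIso (CommRingCat.of A)).commRingCatIsoToRingEquiv).injective
  have hsx : (Scheme.ΓSpecIso (CommRingCat.of A)).hom.hom s = x :=
    Iso.inv_hom_id_apply (Scheme.ΓSpecIso (CommRingCat.of A)) x
  have hsnz : s ∈ nonZeroDivisors Γ(𝕏, ⊤) := by
    apply mem_nonZeroDivisors_of_injective hinj
    rw [hsx]
    exact hxnz
  have hs : s ∈ Mero.regSub 𝕏 ⊤ := by
    intro z
    show (𝕏).presheaf.germ ⊤ z.1 z.2 s ∈ nonZeroDivisors ((𝕏).presheaf.stalk z.1)
    letI az : Algebra Γ(𝕏, ⊤) ((𝕏).presheaf.stalk z.1) :=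
      TopCat.Presheaf.algebra_section_stalk (𝕏).presheaf z
    haveI lz : IsLocalization.AtPrime ((𝕏).presheaf.stalk z.1)
        ((isAffineOpen_top 𝕏).primeIdealOf z).asIdeal :=
      (isAffineOpen_top 𝕏).isLocalization_stalk z
    exact IsLocalization.map_nonZeroDivisors_le
      ((isAffineOpen_top 𝕏).primeIdealOf z).asIdeal.primeCompl ((𝕏).presheaf.stalk z.1)
      (Submonoid.mem_map_of_mem _ hsnz)
  let f : (Γ(Mero.kmod 𝕏, ⊤))ˣ := (MeroGlue.isUnit_toK_of_regSub ⊤ s hs).unit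
  let x₀ : 𝕏 := IsLocalRing.closedPoint A
  have h1 : (Mero.div f).1 x₀ = 1 :=
    congrArg (fun D : Mero.Divisor 𝕏 => D.1 x₀) (hD (Mero.div f))
  have hF : ((Units.map (Mero.evalK 𝕏 ⊤ ⟨x₀, Opens.mem_top x₀⟩).toMonoidHom f :
      (Mero.KStalk 𝕏 x₀)ˣ) : Mero.KStalk 𝕏 x₀) =
      LocalizedModule.mk ((Mero.regGerm ⟨x₀, Opens.mem_top x₀⟩ ⟨s, hs⟩ : Mero.regStalk 𝕏 x₀) :
        (𝕏).presheaf.stalk x₀) (1 : Mero.regStalk 𝕏 x₀) := rfl
  obtain ⟨T, hT⟩ := (dvd_of_eq_one (Mero.regGerm ⟨x₀, Opens.mem_top x₀⟩ ⟨s, hs⟩)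
    (1 : Mero.regStalk 𝕏 x₀) _ hF h1).2
  have hunit : IsUnit ((𝕏).presheaf.germ ⊤ x₀ trivial s) :=
    IsUnit.of_mul_eq_one T hT.symm
  have hmem : x₀ ∈ (𝕏).basicOpen s := (Scheme.mem_basicOpen_top _ s x₀).mpr hunit
  rw [basicOpen_eq_of_affine] at hmem
  exact hmem hxm

theorem aux2
    (h : ∀ x ∈ IsLocalRing.maximalIdeal A, ¬ IsSMulRegular A x)
    (D : Mero.Divisor (Spec (CommRingCat.of A))) : D = 1 := by
  let x₀ : 𝕏 := IsLocalRing.closedPoint A
  obtain ⟨U, hU, hxU, a, b, hrep⟩ := exists_rep D x₀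
  have hUtop : U = ⊤ := top_unique fun z _ =>
    (IsLocalRing.specializes_closedPoint (R := A) z).mem_open U.isOpen hxU
  subst hUtop
  have hinj : Function.Injective (Scheme.ΓSpecIso (CommRingCat.of A)).hom.hom :=
    ((Scheme.ΓSpecIso (CommRingCat.of A)).commRingCatIsoToRingEquiv).injective
  have key : ∀ c : Mero.regSub 𝕏 ⊤, IsUnit c.1 := by
    intro c
    have hc : c.1 ∈ nonZeroDivisors Γ(𝕏, ⊤) := by
      rw [mem_nonZeroDivisors_iff_right]
      intro t ht
      apply TopCat.Presheaf.section_ext (𝕏).sheaf ⊤ t 0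
      intro z hz
      have e := congrArg ((𝕏).presheaf.germ ⊤ z hz) ht
      rw [map_mul, map_zero] at e
      show (𝕏).presheaf.germ ⊤ z hz t = (𝕏).presheaf.germ ⊤ z hz 0
      rw [map_zero]
      exact (mul_right_mem_nonZeroDivisors_eq_zero_iff (c.2 ⟨z, hz⟩)).mp e
    have hc'reg : IsSMulRegular A ((Scheme.ΓSpecIso (CommRingCat.of A)).hom.hom c.1) := by
      rw [isSMulRegular_iff_right_eq_zero_of_smul]
      intro t ht
      have ht' : (Scheme.ΓSpecIso (CommRingCat.of A)).hom.hom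
          ((Scheme.ΓSpecIso (CommRingCat.of A)).inv.hom t * c.1) = 0 := by
        rw [map_mul]
        have e1 : (Scheme.ΓSpecIso (CommRingCat.of A)).hom.hom
            ((Scheme.ΓSpecIso (CommRingCat.of A)).inv.hom t) = t :=
          Iso.inv_hom_id_apply (Scheme.ΓSpecIso (CommRingCat.of A)) t
        rw [e1, mul_comm]
        exact ht
      have h0 : (Scheme.ΓSpecIso (CommRingCat.of A)).inv.hom t * c.1 = 0 :=
        hinj (ht'.trans (map_zero _).symm)
      have h1 := (mul_right_mem_nonZeroDivisors_eq_zero_iff hc).mp h0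
      have h2 := congrArg (Scheme.ΓSpecIso (CommRingCat.of A)).hom.hom h1
      have e1 : (Scheme.ΓSpecIso (CommRingCat.of A)).hom.hom
          ((Scheme.ΓSpecIso (CommRingCat.of A)).inv.hom t) = t :=
        Iso.inv_hom_id_apply (Scheme.ΓSpecIso (CommRingCat.of A)) t
      rw [e1, map_zero] at h2
      exact h2
    have hunit : IsUnit ((Scheme.ΓSpecIso (CommRingCat.of A)).hom.hom c.1) := by
      by_contra hnu
      exact h _ ((IsLocalRing.mem_maximalIdeal _).mpr hnu) hc'reg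
    have h3 := hunit.map (Scheme.ΓSpecIso (CommRingCat.of A)).inv.hom
    have e2 : (Scheme.ΓSpecIso (CommRingCat.of A)).inv.hom
        ((Scheme.ΓSpecIso (CommRingCat.of A)).hom.hom c.1) = c.1 :=
      Iso.hom_inv_id_apply (Scheme.ΓSpecIso (CommRingCat.of A)) c.1
    rw [e2] at h3
    exact h3
  apply Subtype.ext
  funext z
  obtain ⟨F, hDF, hF⟩ := hrep z (Opens.mem_top z)
  have hau : IsUnit ((𝕏).presheaf.germ ⊤ z (Opens.mem_top z) a.1) :=
    (key a).map ((𝕏).presheaf.germ ⊤ z (Opens.mem_top z)).hom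
  have hbu : IsUnit ((𝕏).presheaf.germ ⊤ z (Opens.mem_top z) b.1) :=
    (key b).map ((𝕏).presheaf.germ ⊤ z (Opens.mem_top z)).hom
  show (D.1 z : Mero.Germ 𝕏 z) = 1
  refine hDF.trans (eq_one_of_dvd (Mero.regGerm ⟨z, Opens.mem_top z⟩ a)
    (Mero.regGerm ⟨z, Opens.mem_top z⟩ b) F hF ?_ ?_)
  · obtain ⟨β, hβ⟩ := hbu
    refine ⟨((β⁻¹ : ((𝕏).presheaf.stalk z)ˣ) : (𝕏).presheaf.stalk z) *
      (𝕏).presheaf.germ ⊤ z (Opens.mem_top z) a.1, ?_⟩
    show (𝕏).presheaf.germ ⊤ z (Opens.mem_top z) a.1 =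
      (𝕏).presheaf.germ ⊤ z (Opens.mem_top z) b.1 * _
    rw [← hβ, ← mul_assoc, Units.mul_inv, one_mul]
  · obtain ⟨α, hα⟩ := hau
    refine ⟨((α⁻¹ : ((𝕏).presheaf.stalk z)ˣ) : (𝕏).presheaf.stalk z) *
      (𝕏).presheaf.germ ⊤ z (Opens.mem_top z) b.1, ?_⟩
    show (𝕏).presheaf.germ ⊤ z (Opens.mem_top z) b.1 =
      (𝕏).presheaf.germ ⊤ z (Opens.mem_top z) a.1 * _
    rw [← hα, ← mul_assoc, Units.mul_inv, one_mul]

end Aux

/-- Let A be a Noetherian local ring. Then the group of divisors of Spec A is trivial (every divisor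
equals the unit divisor, divisors being written multiplicatively) if and only if A has depth 0, that
is, if and only if every element of the maximal ideal of A is a zero-divisor. -/
theorem result (A : Type u) [CommRing A] [IsNoetherianRing A] [IsLocalRing A] :
    (∀ D : Mero.Divisor (Spec (CommRingCat.of A)), D = 1) ↔ LocCoh.depth A A = 0 := by
  have htop : IsLocalRing.maximalIdeal A • (⊤ : Submodule A A) ≠ ⊤ := by
    rw [smul_eq_mul, Ideal.mul_top]
    exact (IsLocalRing.maximalIdeal.isMaximal A).ne_top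
  rw [Groth.Agent.Lib.Helper29.depth_eq_zero_iff_forall_not_isSMulRegular A A htop]
  constructor
  · intro hD x hxm hreg
    exact aux1 A hD x hxm hreg
  · intro h D
    exact aux2 A h D

end Groth.Agent.S5082
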