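import Groth.Statements.S5083
import Mathlib
import Groth.Agent.Lib.Helper48.MeroDivMod
-- import your own Groth.Agent.* helpers here

set_option autoImplicit false
universe u
open CategoryTheory CategoryTheory.Limits AlgebraicGeometry TopologicalSpace
open Mero

namespace Groth.Agent.S5083

/-- Let X be a scheme and D, D' divisors on X (global sections of the sheaf of units of K_X modulo units
of O_X, written multiplicatively). If D and D' are linearly equivalent, i.e. D · D'⁻¹ is the divisor
of a unit of the ring of global sections of K_X, then the O_X-modules O_X(D) and O_X(D') are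
isomorphic. (The published statement is an equivalence: O_X(D) and O_X(D') are isomorphic if and
only if D and D' are linearly equivalent; this row states only that linearly equivalent divisors
have isomorphic modules.) -/
theorem result (X : Scheme.{u}) (D D' : Mero.Divisor X) (h : Mero.LinEquiv D D') :
    Nonempty (Mero.divMod D ≅ Mero.divMod D') := by
  obtain ⟨f, hf⟩ := h
  have hpt : ∀ x : X, D.1 x = D'.1 x *
      QuotientGroup.mk (Units.map (Mero.evalK X ⊤ ⟨x, trivial⟩).toMonoidHom f) := by
    intro x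
    have h2 : D.1 x * (D'.1 x)⁻¹ =
        QuotientGroup.mk (Units.map (Mero.evalK X ⊤ ⟨x, trivial⟩).toMonoidHom f) :=
      congrArg (fun E : Mero.Divisor X => E.1 x) hf
    rw [← h2, mul_comm (D.1 x), mul_inv_cancel_left]
  refine Groth.Agent.Lib.Helper48.MeroDivMod.nonempty_iso_of_mul D D' f ?_ ?_
  · intro x t ht g' hg'
    have hD : D.1 x = QuotientGroup.mk
        (g' * Units.map (Mero.evalK X ⊤ ⟨x, trivial⟩).toMonoidHom f) := by
      rw [hpt x, hg']; rfl
    have h3 := ht _ hD
    have e : t * (f : Γ(Mero.kmod X, ⊤)).1 ⟨x, trivial⟩ * (g' : Mero.KStalk X x) =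
        t * ((g' * Units.map (Mero.evalK X ⊤ ⟨x, trivial⟩).toMonoidHom f :
          (Mero.KStalk X x)ˣ) : Mero.KStalk X x) := by
      rw [Units.val_mul, mul_assoc, mul_comm ((f : Γ(Mero.kmod X, ⊤)).1 ⟨x, trivial⟩)]
      rfl
    rw [e]
    exact h3
  · intro x t ht g hg
    have hD' : D'.1 x = QuotientGroup.mk
        (g * (Units.map (Mero.evalK X ⊤ ⟨x, trivial⟩).toMonoidHom f)⁻¹) := by
      have h4 : D'.1 x = D.1 x *
          (QuotientGroup.mk (Units.map (Mero.evalK X ⊤ ⟨x, trivial⟩).toMonoidHom f))⁻¹ := by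
        rw [hpt x, mul_inv_cancel_right]
      rw [h4, hg]; rfl
    have h3 := ht _ hD'
    have e : t * (↑f⁻¹ : Γ(Mero.kmod X, ⊤)).1 ⟨x, trivial⟩ * (g : Mero.KStalk X x) =
        t * ((g * (Units.map (Mero.evalK X ⊤ ⟨x, trivial⟩).toMonoidHom f)⁻¹ :
          (Mero.KStalk X x)ˣ) : Mero.KStalk X x) := by
      rw [Units.val_mul, mul_assoc, mul_comm ((↑f⁻¹ : Γ(Mero.kmod X, ⊤)).1 ⟨x, trivial⟩)]
      rfl
    rw [e]
    exact h3

end Groth.Agent.S5083
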