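import Groth.Statements.S5085
import Mathlib
-- import your own Groth.Agent.* helpers here

set_option autoImplicit false
universe u
open CategoryTheory CategoryTheory.Limits AlgebraicGeometry TopologicalSpace
open Mero

namespace Groth.Agent.S5085


section Aux

theorem aux (X : Scheme.{u}) (U V : X.Opens) (hVU : V ≤ U)
    (hV : ∀ W : X.Opens, W ≤ U →
      Function.Injective ⇑(X.presheaf.map (homOfLE (inf_le_left : W ⊓ V ≤ W)).op))
    (f g : Γ(Mero.kmod X, U))
    (hfg : (Mero.kmod X).presheaf.map (homOfLE hVU).op f =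
      (Mero.kmod X).presheaf.map (homOfLE hVU).op g) :
    f = g := by
  have hpt : ∀ (y : X) (hyV : y ∈ V), f.1 ⟨y, hVU hyV⟩ = g.1 ⟨y, hVU hyV⟩ := by
    intro y hyV
    exact congrArg (fun h : Γ(Mero.kmod X, V) => h.1 ⟨y, hyV⟩) hfg
  apply Subtype.ext
  funext x
  obtain ⟨Va, ma, ia, a, b, wa⟩ := f.2 x
  obtain ⟨Vb, mb, ib, c, d, wb⟩ := g.2 x
  have hWU : Va ⊓ Vb ≤ U := inf_le_left.trans ia.le
  have hf : ∀ (y : X) (hy : y ∈ Va), f.1 ⟨y, ia.le hy⟩ =
      LocalizedModule.mk (X.presheaf.germ Va y hy a) (Mero.regGerm ⟨y, hy⟩ b) :=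
    fun y hy => wa ⟨y, hy⟩
  have hg : ∀ (y : X) (hy : y ∈ Vb), g.1 ⟨y, ib.le hy⟩ =
      LocalizedModule.mk (X.presheaf.germ Vb y hy c) (Mero.regGerm ⟨y, hy⟩ d) :=
    fun y hy => wb ⟨y, hy⟩
  have key : ∀ (y : X) (hy : y ∈ Va ⊓ Vb),
      (f.1 ⟨y, hWU hy⟩ = g.1 ⟨y, hWU hy⟩ ↔
        X.presheaf.germ Va y hy.1 a * X.presheaf.germ Vb y hy.2 d.1 -
          X.presheaf.germ Vb y hy.2 c * X.presheaf.germ Va y hy.1 b.1 = 0) := by
    intro y hy
    have e1 : f.1 ⟨y, hWU hy⟩ = LocalizedModule.mk (X.presheaf.germ Va y hy.1 a)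
        (Mero.regGerm ⟨y, hy.1⟩ b) := hf y hy.1
    have e2 : g.1 ⟨y, hWU hy⟩ = LocalizedModule.mk (X.presheaf.germ Vb y hy.2 c)
        (Mero.regGerm ⟨y, hy.2⟩ d) := hg y hy.2
    rw [e1, e2, LocalizedModule.mk_eq, sub_eq_zero]
    constructor
    · rintro ⟨u, hu⟩
      simp only [Submonoid.smul_def, smul_eq_mul] at hu
      have hu' := (mul_cancel_left_mem_nonZeroDivisors
        (Mero.regStalk_le_nonZeroDivisors y u.2)).mp hu
      exact (mul_comm _ _).trans (hu'.trans (mul_comm _ _))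
    · intro h
      refine ⟨1, ?_⟩
      simp only [Submonoid.smul_def, smul_eq_mul, one_mul, Submonoid.coe_one]
      exact (mul_comm _ _).trans (h.trans (mul_comm _ _))
  obtain ⟨E, hE⟩ : ∃ E : Γ(X, Va ⊓ Vb), ∀ (y : X) (hy : y ∈ Va ⊓ Vb),
      X.presheaf.germ (Va ⊓ Vb) y hy E =
        X.presheaf.germ Va y hy.1 a * X.presheaf.germ Vb y hy.2 d.1 -
          X.presheaf.germ Vb y hy.2 c * X.presheaf.germ Va y hy.1 b.1 :=
    ⟨X.presheaf.map (homOfLE (inf_le_left : Va ⊓ Vb ≤ Va)).op a *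
        X.presheaf.map (homOfLE (inf_le_right : Va ⊓ Vb ≤ Vb)).op d.1 -
      X.presheaf.map (homOfLE (inf_le_right : Va ⊓ Vb ≤ Vb)).op c *
        X.presheaf.map (homOfLE (inf_le_left : Va ⊓ Vb ≤ Va)).op b.1, fun y hy => by
      rw [map_sub, map_mul, map_mul, TopCat.Presheaf.germ_res_apply,
        TopCat.Presheaf.germ_res_apply, TopCat.Presheaf.germ_res_apply,
        TopCat.Presheaf.germ_res_apply]⟩
  have hE0 : E = 0 := by
    apply hV (Va ⊓ Vb) hWU
    have hloc : ∀ (y : X) (hy : y ∈ (Va ⊓ Vb) ⊓ V),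
        X.presheaf.germ _ y hy (X.presheaf.map (homOfLE (inf_le_left :
          (Va ⊓ Vb) ⊓ V ≤ Va ⊓ Vb)).op E) =
        X.presheaf.germ _ y hy (X.presheaf.map (homOfLE (inf_le_left :
          (Va ⊓ Vb) ⊓ V ≤ Va ⊓ Vb)).op 0) := by
      intro y hy
      rw [TopCat.Presheaf.germ_res_apply, TopCat.Presheaf.germ_res_apply, map_zero, hE y hy.1]
      exact (key y hy.1).mp (hpt y hy.2)
    exact TopCat.Presheaf.section_ext X.sheaf _ _ _ hloc
  have hx : x.1 ∈ Va ⊓ Vb := ⟨ma, mb⟩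
  have h0 : X.presheaf.germ Va x.1 hx.1 a * X.presheaf.germ Vb x.1 hx.2 d.1 -
      X.presheaf.germ Vb x.1 hx.2 c * X.presheaf.germ Va x.1 hx.1 b.1 = 0 := by
    rw [← hE x.1 hx, hE0, map_zero]
  exact (key x.1 hx).mpr h0

end Aux

/-- Let X be a scheme, U an open subset and V an open subset of U which is schematically dense in U (for
every open W ⊆ U, restriction of functions from W to W ∩ V is injective). Then restriction of
sections of the sheaf of meromorphic functions K_X from U to V is injective: the canonical map from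
meromorphic functions to pseudo-functions is injective. -/
theorem result (X : Scheme.{u}) (U V : X.Opens) (hVU : V ≤ U)
    (hV : ∀ W : X.Opens, W ≤ U →
      Function.Injective ⇑(X.presheaf.map (homOfLE (inf_le_left : W ⊓ V ≤ W)).op)) :
    Function.Injective ⇑((Mero.kmod X).presheaf.map (homOfLE hVU).op) := by
  intro f g hfg
  exact aux X U V hVU hV f g hfg

end Groth.Agent.S5085
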