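import Groth.Statements.S5090
import Mathlib
import Groth.Agent.Lib.Helper91.GenPrime4

set_option autoImplicit false
universe u
open CategoryTheory CategoryTheory.Limits AlgebraicGeometry TopologicalSpace
open Div21

namespace Groth.Agent.S5090

/-- Equivalence of conditions a'') and c): let X be a locally Noetherian scheme which is reduced at each
of its isolated points (for every point x such that {x} is open, the local ring O_{X,x} is reduced).
Then the following are equivalent. (a'') Every integral closed subscheme of X of codimension 1 is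
regularly immersed in X: for every point ζ whose local ring has dimension 1 and every specialization
x of ζ, the ideal of O_{X,x} defining the closure of ζ with its reduced structure (the preimage of
the maximal ideal of O_{X,ζ} under the specialization map) is generated by one non-zero-divisor of
O_{X,x}. (c) X is locally factorial: every local ring of X is a unique factorisation domain. -/
theorem result (X : Scheme.{u}) [IsLocallyNoetherian X]
    (hred : ∀ x : ↥X, IsOpen ({x} : Set ↥X) → IsReduced ↑(X.presheaf.stalk x)) :
    (∀ ζ : ↥X, ringKrullDim ↑(X.presheaf.stalk ζ) = 1 → ∀ (x : ↥X) (h : ζ ⤳ x),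
        ∃ t : ↑(X.presheaf.stalk x), t ∈ nonZeroDivisors ↑(X.presheaf.stalk x) ∧
          (IsLocalRing.maximalIdeal ↑(X.presheaf.stalk ζ)).comap (X.presheaf.stalkSpecializes h).hom =
            Ideal.span {t}) ↔
      ∀ x : ↥X, ∃ _ : IsDomain ↑(X.presheaf.stalk x), UniqueFactorizationMonoid ↑(X.presheaf.stalk x) := by
  have hA : (∀ ζ : ↥X, ringKrullDim ↑(X.presheaf.stalk ζ) = 1 → ∀ (x : ↥X) (h : ζ ⤳ x),
        ∃ t : ↑(X.presheaf.stalk x), t ∈ nonZeroDivisors ↑(X.presheaf.stalk x) ∧
          (IsLocalRing.maximalIdeal ↑(X.presheaf.stalk ζ)).comap (X.presheaf.stalkSpecializes h).hom =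
            Ideal.span {t}) → ∀ x : X, 1 ≤ ringKrullDim (X.presheaf.stalk x) →
      IsDomain (X.presheaf.stalk x) := by
    intro H x hx
    obtain ⟨ζ, h, hdim⟩ := Groth.Agent.Lib.Helper91.GenPrime.exists_specializes_dim_one x hx
    obtain ⟨t, ht, hspan⟩ := H ζ hdim x h
    have hprime : (Ideal.span {t}).IsPrime := by
      rw [← hspan]
      exact (inferInstance : (Groth.Agent.Lib.Helper91.GenPrime.primeOf h).IsPrime)
    exact Groth.Agent.Lib.Helper91.GenPrime.isDomain_of_principal_prime t ht hprime
  constructor
  · intro H
    have hdom : ∀ x : X, IsDomain (X.presheaf.stalk x) := by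
      intro x
      by_cases hx : 1 ≤ ringKrullDim (X.presheaf.stalk x)
      · exact hA H x hx
      · have hx0 : ringKrullDim (X.presheaf.stalk x) = 0 := by
          have h1 := ringKrullDim_stalk_eq_coheight x
          rw [h1] at hx ⊢
          have h2 : ¬ (1 : ℕ∞) ≤ Order.coheight x := by exact_mod_cast hx
          have h3 : Order.coheight x = 0 := by
            rw [not_le] at h2
            exact ENat.lt_one_iff_eq_zero.mp h2
          rw [h3]; rfl
        by_cases hop : IsOpen ({x} : Set X)
        · haveI := hred x hop
          haveI : Ring.KrullDimLE 0 (X.presheaf.stalk x) := by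
            rw [Ring.krullDimLE_iff, hx0]; rfl
          letI := (Ring.KrullDimLE.isField_of_isReduced (R := X.presheaf.stalk x)).toField
          infer_instance
        · obtain ⟨y, hxy, hne⟩ := Groth.Agent.Lib.Helper91.GenPrime.exists_specialization_ne x hx0 hop
          have hlt : y < x := ⟨hxy, fun h => hne (hxy.antisymm h).eq.symm⟩
          have hy1 : 1 ≤ ringKrullDim (X.presheaf.stalk y) := by
            rw [ringKrullDim_stalk_eq_coheight y]
            have := Order.coheight_add_one_le hlt
            have h4 : (1 : ℕ∞) ≤ Order.coheight y := le_trans (by simp) this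
            exact_mod_cast h4
          haveI := hA H y hy1
          exact Groth.Agent.Lib.Helper91.GenPrime.isDomain_of_specializes hxy
    intro x
    refine ⟨hdom x, ?_⟩
    haveI := hdom x
    rw [UniqueFactorizationMonoid.iff_forall_isPrincipal_of_height_eq_one]
    intro p hp hp1
    obtain ⟨ζ, h, rfl⟩ := Groth.Agent.Lib.Helper91.GenPrime.exists_specializes_primeOf_eq x p
    have hdim : ringKrullDim (X.presheaf.stalk ζ) = 1 := by
      rw [Groth.Agent.Lib.Helper91.GenPrime.ringKrullDim_stalk_eq_height h, hp1]; rfl
    obtain ⟨t, -, hspan⟩ := H ζ hdim x h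
    exact ⟨⟨t, hspan⟩⟩
  · intro G ζ hdim x h
    obtain ⟨hdom, hufd⟩ := G x
    have hp1 : (Groth.Agent.Lib.Helper91.GenPrime.primeOf h).height = 1 := by
      have := Groth.Agent.Lib.Helper91.GenPrime.ringKrullDim_stalk_eq_height h
      rw [hdim] at this
      exact_mod_cast this.symm
    obtain ⟨t, ht⟩ := UniqueFactorizationMonoid.isPrincipal_of_height_eq_one hp1
    refine ⟨t, ?_, ht⟩
    apply mem_nonZeroDivisors_of_ne_zero
    rintro rfl
    apply Ideal.ne_bot_of_height_eq_one hp1
    rw [ht]
    simp

end Groth.Agent.S5090
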