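import Groth.Statements.S5091
import Groth.Agent.Lib.Helper18.DepthOne
import Groth.Agent.Lib.QCoh.Helper18_SchDenseSep
import Groth.Agent.S1699

set_option autoImplicit false
universe u
open CategoryTheory CategoryTheory.Limits AlgebraicGeometry TopologicalSpace
open Div21

namespace Groth.Agent.S5091

/-- Let X be a locally Noetherian scheme, Y a closed subset and U = X − Y, with j : U → X the inclusion.
Then O_X → j_*O_U is injective — restriction of functions from every open V to V ∩ U is injective,
i.e. U is schematically dense in X — if and only if the local ring of X at every point of Y has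
depth at least 1. -/
theorem result (X : Scheme.{u}) [IsLocallyNoetherian X] (U : X.Opens) :
    CInt.IsSchematicallyDense U ↔
      ∀ x : ↥X, x ∉ U → (1 : ℕ∞) ≤ LocCoh.depth ↑(X.presheaf.stalk x) ↑(X.presheaf.stalk x) := by
  constructor
  · intro hdense x hx
    rw [Groth.Agent.Lib.Helper18.one_le_depth_iff_exists_regular]
    apply Groth.Agent.Lib.Helper18.exists_regular_mem_maximalIdeal_of_not_isAssociatedPrime
    intro hass
    exact hx ((Groth.Agent.S1699.result X U).1 hdense x hass)
  · intro h
    apply Groth.Agent.Lib.QCoh.isSchematicallyDense_of_regular_mem_maximalIdeal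
    intro z hz
    exact (Groth.Agent.Lib.Helper18.one_le_depth_iff_exists_regular _).1 (h z hz)

end Groth.Agent.S5091
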