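import Groth.Statements.S5097
import Mathlib
-- import your own Groth.Agent.* helpers here

set_option autoImplicit false
universe u
open CategoryTheory CategoryTheory.Limits AlgebraicGeometry TopologicalSpace
open Mero

namespace Groth.Agent.S5097


section Aux

open AlgebraicGeometry CategoryTheory TopologicalSpace Opposite

variable {X : Scheme.{u}}

theorem divCond_inv_of_germOf {U : X.Opens} (D : Mero.Divisor X) (f : (Γ(Mero.kmod X, U))ˣ)
    (y : U) (hf : D.1 y.1 = Mero.germOf f y) :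
    Mero.DivCond D y.1 ((↑f⁻¹ : Γ(Mero.kmod X, U)).1 y) := by
  intro k hk
  have hk' : (QuotientGroup.mk (Units.map (Mero.evalK X U y).toMonoidHom f) : Mero.Germ X y.1) =
      QuotientGroup.mk k := hf.symm.trans hk
  rw [QuotientGroup.eq] at hk'
  obtain ⟨u, hu⟩ := hk'
  refine ⟨(u : X.presheaf.stalk y.1), ?_⟩
  have := congrArg Units.val hu
  exact this

end Aux

/-- Injectivity of the canonical homomorphism from divisors to invertible fractional ideals: let X be a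
scheme and D, D' two divisors on X such that, over every open subset U, a section t of the sheaf of
meromorphic functions lies in O_X(D) (t_x · g ∈ O_{X,x} for a representative g of the germ of D at
x, for all x in U) if and only if it lies in O_X(D'). Then D = D'. -/
theorem result (X : Scheme.{u}) (D D' : Mero.Divisor X)
    (h : ∀ (U : X.Opens) (t : Γ(Mero.kmod X, U)),
      (∀ x : ↥U, Mero.DivCond D x.1 (t.1 x)) ↔ (∀ x : ↥U, Mero.DivCond D' x.1 (t.1 x))) :
    D = D' := by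
  apply Subtype.ext
  funext x
  obtain ⟨U, hxU, f, hf⟩ := D.2 x
  obtain ⟨V, hxV, g, hg⟩ := D'.2 x
  have hW1 : U ⊓ V ≤ U := inf_le_left
  have hW2 : U ⊓ V ≤ V := inf_le_right
  have hxW : x ∈ U ⊓ V := ⟨hxU, hxV⟩
  have h1 := (h (U ⊓ V) ((Mero.kmod X).presheaf.map (homOfLE hW1).op
      (↑f⁻¹ : Γ(Mero.kmod X, U)))).mp
    (fun y => divCond_inv_of_germOf D f ⟨y.1, y.2.1⟩ (hf ⟨y.1, y.2.1⟩))
  have h2 := (h (U ⊓ V) ((Mero.kmod X).presheaf.map (homOfLE hW2).op
      (↑g⁻¹ : Γ(Mero.kmod X, V)))).mpr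
    (fun y => divCond_inv_of_germOf D' g ⟨y.1, y.2.2⟩ (hg ⟨y.1, y.2.2⟩))
  have h1x := h1 ⟨x, hxW⟩
  have h2x := h2 ⟨x, hxW⟩
  obtain ⟨fx, hfx⟩ : ∃ fx : (Mero.KStalk X x)ˣ,
      fx = Units.map (Mero.evalK X U ⟨x, hxU⟩).toMonoidHom f := ⟨_, rfl⟩
  obtain ⟨gx, hgx⟩ : ∃ gx : (Mero.KStalk X x)ˣ,
      gx = Units.map (Mero.evalK X V ⟨x, hxV⟩).toMonoidHom g := ⟨_, rfl⟩
  have hDx : D.1 x = QuotientGroup.mk fx := by rw [hfx]; exact hf ⟨x, hxU⟩
  have hD'x : D'.1 x = QuotientGroup.mk gx := by rw [hgx]; exact hg ⟨x, hxV⟩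
  obtain ⟨a, ha⟩ := h1x gx hD'x
  obtain ⟨b, hb⟩ := h2x fx hDx
  have ha' : algebraMap (X.presheaf.stalk x) (Mero.KStalk X x) a =
      ((fx⁻¹ * gx : (Mero.KStalk X x)ˣ) : Mero.KStalk X x) := by
    rw [hfx]; exact ha
  have hb' : algebraMap (X.presheaf.stalk x) (Mero.KStalk X x) b =
      ((gx⁻¹ * fx : (Mero.KStalk X x)ˣ) : Mero.KStalk X x) := by
    rw [hgx]; exact hb
  have hab : a * b = 1 := by
    apply Mero.algebraMap_KStalk_injective x
    rw [map_mul, map_one, ha', hb', ← Units.val_mul]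
    have : (fx⁻¹ * gx) * (gx⁻¹ * fx) = 1 := by
      rw [mul_assoc, mul_inv_cancel_left, inv_mul_cancel]
    rw [this, Units.val_one]
  show D.1 x = D'.1 x
  rw [hDx, hD'x, QuotientGroup.eq]
  refine ⟨⟨a, b, hab, (mul_comm b a).trans hab⟩, Units.ext ?_⟩
  exact ha'

end Groth.Agent.S5097
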