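import Groth.Statements.S5102
import Mathlib
import Groth.Agent.Lib.Helper48.InvGen
import Groth.Agent.Lib.Helper48.MeroGlue
import Groth.Agent.Lib.QCoh.Affine
-- import your own Groth.Agent.* helpers here

set_option autoImplicit false
universe u
open CategoryTheory CategoryTheory.Limits AlgebraicGeometry TopologicalSpace
open Mero

namespace Groth.Agent.S5102


section Aux

open Groth.Agent.Lib.Helper48.MeroGlue Groth.Agent.Lib.Ample Opposite

variable {X : Scheme.{u}} {J : X.Modules}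

theorem smul_eq_toK_mul {V : X.Opens} (r : Γ(X, V)) (t : Γ(Mero.kmod X, V)) :
    r • t = Mero.toK X V r * t := by
  apply Subtype.ext
  funext y
  show X.presheaf.germ V y.1 y.2 r • t.1 y =
    (LocalizedModule.mk (X.presheaf.germ V y.1 y.2 r) 1 : Mero.KStalk X y.1) * t.1 y
  rw [Algebra.smul_def]
  rfl

theorem app_smul_res (ι : J ⟶ Mero.kmod X) {U V : X.Opens} (hVU : V ≤ U) (e : Γ(J, U))
    (r : Γ(X, V)) :
    ι.app V (r • J.presheaf.map (homOfLE hVU).op e) =
      Mero.toK X V r * (Mero.kmod X).presheaf.map (homOfLE hVU).op (ι.app U e) := by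
  rw [Scheme.Modules.Hom.app_smul, Groth.Agent.Lib.QCoh.app_naturality_apply ι (homOfLE hVU) e,
    smul_eq_toK_mul]

theorem isInvertible_of_local (ι : J ⟶ Mero.kmod X) [Mono ι]
    (h : ∀ x : ↥X, ∃ (U : X.Opens) (_ : x ∈ U) (f : (Γ(Mero.kmod X, U))ˣ),
      ∀ (V : X.Opens) (hV : V ≤ U),
        Set.range ⇑(ι.val.app (Opposite.op V)) =
          {t : Γ(Mero.kmod X, V) | ∃ r : Γ(X, V),
            t = Mero.toK X V r *
              (Mero.kmod X).presheaf.map (homOfLE hV).op (f : Γ(Mero.kmod X, U))}) :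
    PicF.IsInvertible J := by
  refine Groth.Agent.Lib.Helper48.InvGen.isInvertible_of_isGenerator J (fun x => ?_)
  obtain ⟨U, hxU, f, hf⟩ := h x
  have hinj : ∀ V : X.Opens, Function.Injective (ι.app V) :=
    fun V => Groth.Agent.Lib.QCoh.app_injective_of_mono ι V
  have hmem : (Mero.toK X U 1 * (Mero.kmod X).presheaf.map (homOfLE (le_refl U)).op
      (f : Γ(Mero.kmod X, U))) ∈ Set.range ⇑(ι.val.app (Opposite.op U)) := by
    rw [hf U le_rfl]; exact ⟨1, rfl⟩
  obtain ⟨e, he⟩ := hmem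
  have he' : ι.app U e = (f : Γ(Mero.kmod X, U)) := by
    refine (he : ι.app U e = _).trans ?_
    rw [map_one, one_mul]
    rfl
  refine ⟨U, hxU, e, ?_⟩
  rw [isGenerator_iff]
  intro V hV
  have hunit : IsUnit ((Mero.kmod X).presheaf.map (homOfLE hV).op (f : Γ(Mero.kmod X, U))) := by
    refine IsUnit.of_mul_eq_one ((Mero.kmod X).presheaf.map (homOfLE hV).op
      (↑f⁻¹ : Γ(Mero.kmod X, U))) ?_
    apply Subtype.ext
    funext y
    exact congrArg (fun w : Γ(Mero.kmod X, U) => w.1 ⟨y.1, hV y.2⟩) f.mul_inv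
  constructor
  · intro a a' haa'
    have h1 : ι.app V (a • J.presheaf.map (homOfLE hV).op e) =
        ι.app V (a' • J.presheaf.map (homOfLE hV).op e) := congrArg (ι.app V) haa'
    rw [app_smul_res ι hV e a, app_smul_res ι hV e a', he'] at h1
    exact toK_injective V (hunit.mul_left_injective h1)
  · intro j
    have hj : ι.app V j ∈ Set.range ⇑(ι.val.app (Opposite.op V)) := ⟨j, rfl⟩
    rw [hf V hV] at hj
    obtain ⟨r, hr⟩ := hj
    refine ⟨r, ?_⟩
    apply hinj V
    show ι.app V (r • J.presheaf.map (homOfLE hV).op e) = ι.app V j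
    rw [app_smul_res ι hV e r, he', hr]

theorem local_of_isInvertible (ι : J ⟶ Mero.kmod X) [Mono ι] (hJ : PicF.IsInvertible J) (x : X) :
    ∃ (U : X.Opens) (_ : x ∈ U) (f : (Γ(Mero.kmod X, U))ˣ),
      ∀ (V : X.Opens) (hV : V ≤ U),
        Set.range ⇑(ι.val.app (Opposite.op V)) =
          {t : Γ(Mero.kmod X, V) | ∃ r : Γ(X, V),
            t = Mero.toK X V r *
              (Mero.kmod X).presheaf.map (homOfLE hV).op (f : Γ(Mero.kmod X, U))} := by
  obtain ⟨U, hxU, e, he⟩ := exists_isGenerator_of_isInvertible hJ x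
  have hinj : ∀ V : X.Opens, Function.Injective (ι.app V) :=
    fun V => Groth.Agent.Lib.QCoh.app_injective_of_mono ι V
  obtain ⟨W, mW, i, a, b, hw⟩ := (ι.app U e).2 ⟨x, hxU⟩
  have hWU : W ≤ U := i.le
  have hfW : ∀ (y : X) (hy : y ∈ W), (ι.app U e).1 ⟨y, hWU hy⟩ =
      LocalizedModule.mk (X.presheaf.germ W y hy a) (Mero.regGerm ⟨y, hy⟩ b) :=
    fun y hy => hw ⟨y, hy⟩
  have ha : a ∈ Mero.regSub X W := by
    intro y
    show X.presheaf.germ W y.1 y.2 a ∈ nonZeroDivisors _
    rw [mem_nonZeroDivisors_iff_left]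
    intro c hc
    obtain ⟨W₁, hW₁W, mW₁, c₁, hc₁⟩ := X.presheaf.exists_le_germ_eq c y.2
    have h0 : X.presheaf.germ W₁ y.1 mW₁ (X.presheaf.map (homOfLE hW₁W).op a * c₁) =
        X.presheaf.germ W₁ y.1 mW₁ 0 := by
      rw [map_mul, map_zero, TopCat.Presheaf.germ_res_apply, hc₁]
      exact hc
    obtain ⟨W₂, mW₂, i1, i2, e2⟩ := X.presheaf.germ_eq y.1 mW₁ mW₁ _ _ h0
    have hW₂U : W₂ ≤ U := (i1.le.trans hW₁W).trans hWU
    have hz : X.presheaf.map i1.op c₁ • J.presheaf.map (homOfLE hW₂U).op e = 0 := by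
      apply hinj W₂
      rw [app_smul_res ι hW₂U e, map_zero]
      apply Subtype.ext
      funext z
      have hzW : z.1 ∈ W := hW₁W (i1.le z.2)
      show (LocalizedModule.mk (X.presheaf.germ W₂ z.1 z.2 (X.presheaf.map i1.op c₁)) 1 :
        Mero.KStalk X z.1) * (ι.app U e).1 ⟨z.1, hW₂U z.2⟩ = 0
      rw [hfW z.1 hzW]
      refine LocalizedModule.mk_mul_mk.trans ?_
      have e3 := congrArg (X.presheaf.germ W₂ z.1 z.2) e2
      simp only [map_mul, map_zero, TopCat.Presheaf.germ_res_apply] at e3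
      rw [TopCat.Presheaf.germ_res_apply, mul_comm, e3, LocalizedModule.zero_mk]
    have hc₂ : X.presheaf.map i1.op c₁ = 0 := by
      apply (he.bijective hW₂U).1
      show X.presheaf.map i1.op c₁ • J.presheaf.map (homOfLE hW₂U).op e =
        (0 : Γ(X, W₂)) • J.presheaf.map (homOfLE hW₂U).op e
      rw [hz, zero_smul]
    have h3 := congrArg (X.presheaf.germ W₂ y.1 mW₂) hc₂
    rw [TopCat.Presheaf.germ_res_apply, hc₁, map_zero] at h3
    exact h3
  obtain ⟨g, hg⟩ : ∃ g : Γ(Mero.kmod X, W), g = Mero.toK X W a * invReg W b := ⟨_, rfl⟩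
  have hgval : ∀ (y : X) (hy : y ∈ W), g.1 ⟨y, hy⟩ = (ι.app U e).1 ⟨y, hWU hy⟩ := by
    intro y hy
    rw [hfW y hy, hg]
    show (LocalizedModule.mk (X.presheaf.germ W y hy a) 1 : Mero.KStalk X y) *
      LocalizedModule.mk 1 (Mero.regGerm ⟨y, hy⟩ b) = _
    exact LocalizedModule.mk_mul_mk.trans (Mero.mk_congr (mul_one _) (by rw [one_mul]))
  have h1a : Mero.toK X W a * invReg W ⟨a, ha⟩ = 1 := toK_mul_invReg W ⟨a, ha⟩
  have h1b : Mero.toK X W b.1 * invReg W b = 1 := toK_mul_invReg W b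
  have hgu : g * (Mero.toK X W b.1 * invReg W ⟨a, ha⟩) = 1 := by
    rw [hg]
    calc Mero.toK X W a * invReg W b * (Mero.toK X W b.1 * invReg W ⟨a, ha⟩)
        = (Mero.toK X W a * invReg W ⟨a, ha⟩) * (Mero.toK X W b.1 * invReg W b) := by ring
      _ = 1 := by rw [h1a, h1b, one_mul]
  refine ⟨W, mW, ⟨g, _, hgu, (mul_comm _ _).trans hgu⟩, ?_⟩
  intro V hV
  have hVU : V ≤ U := hV.trans hWU
  have hfV : (Mero.kmod X).presheaf.map (homOfLE hVU).op (ι.app U e) =
      (Mero.kmod X).presheaf.map (homOfLE hV).op g := by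
    apply Subtype.ext
    funext z
    exact (hgval z.1 (hV z.2)).symm
  ext t
  constructor
  · rintro ⟨j, rfl⟩
    obtain ⟨r, hr⟩ := (he.bijective hVU).2 j
    refine ⟨r, ?_⟩
    have hr' : r • J.presheaf.map (homOfLE hVU).op e = j := hr
    show ι.app V j = _
    rw [← hr', app_smul_res ι hVU e r, hfV]
  · rintro ⟨r, rfl⟩
    refine ⟨r • J.presheaf.map (homOfLE hVU).op e, ?_⟩
    show ι.app V _ = _
    rw [app_smul_res ι hVU e r, hfV]

end Aux

/-- Let X be a scheme and J a fractional ideal, i.e. a sub-O_X-module of the sheaf of meromorphic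
functions K_X (given by a monomorphism J → K_X). Then J is an invertible O_X-module if and only if
every point of X has an open neighbourhood U together with a unit f of the ring Γ(U, K_X) such that
J|_U = O_U · f: over every open subset V of U, the sections of J are exactly the r · f|_V with r a
function on V. -/
theorem result (X : Scheme.{u}) (J : X.Modules)
    (ι : J ⟶ Mero.kmod X) [Mono ι] :
    PicF.IsInvertible J ↔ ∀ x : ↥X, ∃ (U : X.Opens) (_ : x ∈ U) (f : (Γ(Mero.kmod X, U))ˣ),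
      ∀ (V : X.Opens) (hV : V ≤ U),
        Set.range ⇑(ι.val.app (Opposite.op V)) =
          {t : Γ(Mero.kmod X, V) | ∃ r : Γ(X, V),
            t = Mero.toK X V r * (Mero.kmod X).presheaf.map (homOfLE hV).op (f : Γ(Mero.kmod X, U))} := by
  constructor
  · intro hJ x
    exact local_of_isInvertible ι hJ x
  · intro h
    exact isInvertible_of_local ι h

end Groth.Agent.S5102
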