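import Groth.Statements.S5103
import Groth.Agent.Lib.QCoh.Helper74_Div21d
import Groth.Agent.Lib.Helper91.CDivFact6
import Groth.Agent.S8923
import Groth.Agent.Lib.Helper22.TensorOrd
import Groth.Agent.Lib.Helper48.UfdPicGlue
import Groth.Agent.Lib.Helper38.PicPnE

set_option autoImplicit false
universe u
open CategoryTheory CategoryTheory.Limits AlgebraicGeometry TopologicalSpace
open Div21

namespace Groth.Agent.S5103


open Groth.Agent.Lib.Ample Groth.Agent.Lib.Helper22.InvStalk Groth.Agent.Lib.Helper91.CDivSupp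
  Groth.Agent.Lib.QCoh.Div21h74 in
/-- local normalized generators -/
theorem exists_normalized_generator (X : Scheme.{u}) [IsIntegral X] [IsLocallyNoetherian X]
    (hX : Pi1.IsNormalScheme X) (L : X.Modules) (hL : PicF.IsInvertible L)
    (s : Cyc.secFibre L (genericPoint ↥X)) (hs : s ≠ 0) (f : ↑X.functionField) (hf : f ≠ 0)
    (h : ∀ x : ↥X, Order.coheight x = 1 →
      Cyc.secOrdAt L (genericPoint ↥X) x (genericPoint_specializes x) s = Scheme.ord f x)
    (x : X) :
    ∃ (W : X.Opens) (_ : x ∈ W) (ε : Γ(L, W)), IsGenerator L W ε ∧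
      ∀ hη : genericPoint X ∈ W,
        (Submodule.Quotient.mk (L.presheaf.germ W (genericPoint X) hη ε) :
          Cyc.secFibre L (genericPoint X)) =
          (show X.presheaf.stalk (genericPoint X) from f⁻¹) • s := by
  classical
  obtain ⟨U, hxU, e, he⟩ := exists_isGenerator_of_isInvertible hL x
  obtain ⟨_, ⟨W₀, hW₀, rfl⟩, hxW₀, hW₀U⟩ :=
    X.isBasis_affineOpens.exists_subset_of_mem_open hxU U.isOpen
  have he₀ : IsGenerator L W₀ (resSec L hW₀U e) := he.mono hW₀U
  set e₀ := resSec L hW₀U e with he₀def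
  have hηW₀ : genericPoint X ∈ W₀ := (genericPoint_specializes x).mem_open W₀.isOpen hxW₀
  have hbasis := Groth.Agent.Lib.Helper22.TensorOrd.isBasis_germ hL he₀ (genericPoint X) hηW₀
  obtain ⟨φ, hφ⟩ := hbasis.1 s
  have hφ0 : (show X.functionField from φ) ≠ 0 := by
    intro h0
    apply hs
    rw [hφ]
    have : φ = 0 := h0
    rw [this, zero_smul]
  -- orders of φ and f agree on W₀
  have hord : ∀ x' : X, x' ∈ W₀ → Order.coheight x' = 1 →
      Scheme.ord (show X.functionField from φ) x' = Scheme.ord f x' := by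
    intro x' hx'W hx'
    have hsp : genericPoint X ⤳ x' := genericPoint_specializes x'
    obtain ⟨a, φx, hau, hres, hordx⟩ :=
      Groth.Agent.S8923.secOrdAt_triv hL he₀ hsp hx'W s φ hφ
    have h1 := h x' hx'
    rw [hordx, ordAt_generic_eq_ord x' hx' hsp φx] at h1
    have h2 : (show X.functionField from φ) =
        (show X.functionField from φx) * algebraMap (X.presheaf.stalk x') X.functionField a := by
      apply (RingHom.injective ((X.residue (genericPoint X)).hom :
        X.functionField →+* X.residueField (genericPoint X)))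
      rw [map_mul]
      exact hres
    have hφx0 : (show X.functionField from φx) ≠ 0 := by
      intro h0
      apply hφ0
      rw [h2, h0, zero_mul]
    have ha0 : algebraMap (X.presheaf.stalk x') X.functionField a ≠ 0 := by
      intro h0
      apply hφ0
      rw [h2, h0, mul_zero]
    rw [h2, Scheme.ord_mul hφx0 ha0, ord_algebraMap_of_isUnit hau, add_zero, h1]
  -- g = φ / f has order zero on W₀
  have hg0 : (show X.functionField from φ) * f⁻¹ ≠ 0 := mul_ne_zero hφ0 (inv_ne_zero hf)
  have hordg : ∀ x' : X, x' ∈ W₀ → Order.coheight x' = 1 →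
      Scheme.ord ((show X.functionField from φ) * f⁻¹) x' = 0 := by
    intro x' hx'W hx'
    rw [Scheme.ord_mul hφ0 (inv_ne_zero hf), ord_inv x' hf, hord x' hx'W hx']
    omega
  obtain ⟨b, hb⟩ := mem_range_of_ord_nonneg hX hW₀ hxW₀ hg0
    (fun z hz _ hz1 => (hordg z hz hz1).ge)
  obtain ⟨b', hb'⟩ := mem_range_of_ord_nonneg hX hW₀ hxW₀ (inv_ne_zero hg0)
    (fun z hz _ hz1 => by rw [ord_inv z hg0, hordg z hz hz1]; simp)
  have hbb' : b * b' = 1 := by
    apply IsFractionRing.injective (X.presheaf.stalk x) X.functionField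
    rw [map_mul, hb, hb', map_one, mul_inv_cancel₀ hg0]
  have hbu : IsUnit b := IsUnit.of_mul_eq_one b' hbb'
  obtain ⟨W₁, hxW₁, β, hβ⟩ := TopCat.Presheaf.exists_germ_eq X.presheaf b
  have hxβ : x ∈ X.basicOpen β := by
    rw [Scheme.mem_basicOpen _ _ _ hxW₁, hβ]
    exact hbu
  have hxW : x ∈ W₀ ⊓ X.basicOpen β := ⟨hxW₀, hxβ⟩
  have hWW₁ : W₀ ⊓ X.basicOpen β ≤ W₁ := inf_le_right.trans (X.basicOpen_le β)
  have hu : IsUnit (resFn hWW₁ β) := by
    have h1 : IsUnit (X.presheaf.map (homOfLE (X.basicOpen_le β)).op β) :=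
      RingedSpace.isUnit_res_basicOpen _ β
    have h2 := h1.map (X.presheaf.map
      (homOfLE (inf_le_right : W₀ ⊓ X.basicOpen β ≤ X.basicOpen β)).op).hom
    convert h2 using 1
    show X.presheaf.map (homOfLE hWW₁).op β = _
    rw [← CommRingCat.comp_apply, ← Functor.map_comp]
    rfl
  have hε : IsGenerator L (W₀ ⊓ X.basicOpen β)
      (resFn hWW₁ β • resSec L (inf_le_left : W₀ ⊓ X.basicOpen β ≤ W₀) e₀) :=
    Groth.Agent.Lib.Helper48.UfdPic.IsGenerator.unit_smul (he₀.mono inf_le_left) hu
  refine ⟨W₀ ⊓ X.basicOpen β, hxW, _, hε, ?_⟩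
  intro hη
  have h1 := Groth.Agent.Lib.QCoh.germ_smul L (genericPoint X) (W₀ ⊓ X.basicOpen β) hη
    (resFn hWW₁ β) (resSec L (inf_le_left : W₀ ⊓ X.basicOpen β ≤ W₀) e₀)
  have h2 := germ_resSec (L := L) (inf_le_left : W₀ ⊓ X.basicOpen β ≤ W₀) (genericPoint X) hη e₀
  have h3 : X.presheaf.germ (W₀ ⊓ X.basicOpen β) (genericPoint X) hη (resFn hWW₁ β) =
      (show X.presheaf.stalk (genericPoint X) from (show X.functionField from φ) * f⁻¹) := by
    rw [germ_resFn hWW₁ (genericPoint X) hη β,
      ← spO_germ (genericPoint_specializes x) hxW₁ β, hβ]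
    exact hb
  rw [h1, h2, Submodule.Quotient.mk_smul, h3]
  conv_rhs => rw [hφ]
  rw [smul_smul]
  congr 1
  exact mul_comm _ _

/-- For an integral scheme (the canonical homomorphism Pic(X) → Cl(X) to the group of codimension-1
cycle classes is injective): let X be a normal locally Noetherian integral scheme, L an invertible
O_X-module and s a nonzero rational section of L (a nonzero element of the fibre of L at the generic
point). If the Weil divisor of s is principal — there is a nonzero rational function f whose order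
of vanishing at every point of codimension 1 (coheight 1 in the specialization order) equals the
order of s there — then L is isomorphic to O_X. -/
theorem result (X : Scheme.{u}) [IsIntegral X] [IsLocallyNoetherian X]
    (hX : Pi1.IsNormalScheme X) (L : X.Modules) (hL : PicF.IsInvertible L)
    (s : Cyc.secFibre L (genericPoint ↥X)) (hs : s ≠ 0) (f : ↑X.functionField) (hf : f ≠ 0)
    (h : ∀ x : ↥X, Order.coheight x = 1 →
      Cyc.secOrdAt L (genericPoint ↥X) x (genericPoint_specializes x) s = Scheme.ord f x) :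
    Nonempty (L ≅ Coh.structureModule X) := by
  classical
  have hloc := exists_normalized_generator X hX L hL s hs f hf h
  choose W hxW ε hε hεη using hloc
  have hηW : ∀ x, genericPoint X ∈ W x := fun x =>
    (genericPoint_specializes x).mem_open (W x).isOpen (hxW x)
  obtain ⟨g₀, hg₀, -⟩ := Groth.Agent.Lib.Helper22.InvStalk.secOrdAt_eq hL
    (specializes_rfl : genericPoint X ⤳ genericPoint X)
  have hmax : IsLocalRing.maximalIdeal (X.presheaf.stalk (genericPoint X)) = ⊥ :=
    IsLocalRing.isField_iff_maximalIdeal_eq.1 (Field.toIsField X.functionField)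
  have hcancel : ∀ c : X.presheaf.stalk (genericPoint X), c • s = 0 → c = 0 := by
    intro c hc
    obtain ⟨φ, hφ⟩ := hg₀.1 s
    rw [hφ, smul_smul] at hc
    have h1 := hg₀.2 _ hc
    rw [hmax, Ideal.mem_bot] at h1
    rcases mul_eq_zero.1 h1 with h | h
    · exact h
    · exfalso
      apply hs
      rw [hφ, h, zero_smul]
  obtain ⟨ε₀, hε₀⟩ := Groth.Agent.Lib.Helper48.UfdPic.exists_isGenerator_of_cover L W ⊤
    (fun _ => le_top) (fun x _ => Opens.mem_iSup.2 ⟨x, hxW x⟩) ε hε (by
      intro i j
      have hi := (hε i).mono (inf_le_left : W i ⊓ W j ≤ W i)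
      have hj := (hε j).mono (inf_le_right : W i ⊓ W j ≤ W j)
      obtain ⟨a, hau, ha⟩ := Groth.Agent.Lib.Helper48.UfdPic.exists_unit_smul hi hj
      have hηV : genericPoint X ∈ W i ⊓ W j := ⟨hηW i, hηW j⟩
      have h1 := congrArg (fun t => (Submodule.Quotient.mk
        (L.presheaf.germ (W i ⊓ W j) (genericPoint X) hηV t) :
          Cyc.secFibre L (genericPoint X))) ha
      simp only at h1
      rw [Groth.Agent.Lib.Helper22.InvStalk.germ_resSec, hεη j (hηW j),
        Groth.Agent.Lib.QCoh.germ_smul, Submodule.Quotient.mk_smul,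
        Groth.Agent.Lib.Helper22.InvStalk.germ_resSec, hεη i (hηW i)] at h1
      have ha1 : X.presheaf.germ (W i ⊓ W j) (genericPoint X) hηV a = 1 := by
        have h2 : (X.presheaf.germ (W i ⊓ W j) (genericPoint X) hηV a - 1) *
            (show X.presheaf.stalk (genericPoint X) from f⁻¹) = 0 :=
          hcancel _ (by rw [mul_smul, sub_smul, one_smul, ← h1, sub_self])
        rcases mul_eq_zero.1 h2 with h | h
        · exact sub_eq_zero.1 h
        · exact absurd h (inv_ne_zero hf)
      have ha' : a = 1 := by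
        apply germ_injective_of_isIntegral X (genericPoint X) hηV
        rw [ha1, map_one]
      rw [ha, ha', one_smul])
  exact Groth.Agent.Lib.Helper38.PicPn.nonempty_iso_unit_of_isGenerator L ε₀ hε₀

end Groth.Agent.S5103
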