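import Groth.Statements.S5110
import Mathlib.AlgebraicGeometry.AffineTransitionLimit
import Mathlib.AlgebraicGeometry.Properties
import Mathlib.Topology.Sober

set_option autoImplicit false
universe u
open CategoryTheory CategoryTheory.Limits AlgebraicGeometry TopologicalSpace
open Lim8

namespace Groth.Agent.S5110

section Top
variable {X : Type*} [TopologicalSpace X]

theorem exists_max_gen [QuasiSober X] [T0Space X] (x : X) :
    ∃ η : X, η ⤳ x ∧ ∀ z : X, z ⤳ η → z = η := by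
  have hZ : IsIrreducible (irreducibleComponent x) := isIrreducible_irreducibleComponent
  have hc : IsClosed (irreducibleComponent x) := isClosed_irreducibleComponent
  refine ⟨hZ.genericPoint, ?_, ?_⟩
  · rw [specializes_iff_mem_closure, hZ.closure_genericPoint hc]
    exact mem_irreducibleComponent
  · intro z hz
    rw [specializes_iff_closure_subset, hZ.closure_genericPoint hc] at hz
    have h1 : closure ({z} : Set X) = irreducibleComponent x :=
      eq_irreducibleComponent (isIrreducible_singleton.closure).2 hz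
    have h2 : closure ({z} : Set X) = closure {hZ.genericPoint} := by
      rw [h1, hZ.closure_genericPoint hc]
    exact (inseparable_iff_closure_eq.mpr h2).eq

theorem dense_of_max [QuasiSober X] [T0Space X] (U : Set X)
    (hU : ∀ s : X, (∀ z : X, z ⤳ s → z = s) → s ∈ U) : Dense U := by
  rw [dense_iff_inter_open]
  rintro O hO ⟨x, hx⟩
  obtain ⟨η, h1, h2⟩ := exists_max_gen x
  exact ⟨η, h1.mem_open hO hx, hU η h2⟩

theorem max_mem_of_dense [QuasiSober X] [T0Space X]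
    (hfin : {s : X | ∀ z : X, z ⤳ s → z = s}.Finite) (U : Set X) (hUo : IsOpen U) (hU : Dense U)
    (η : X) (hη : ∀ z : X, z ⤳ η → z = η) : η ∈ U := by
  classical
  let F : Set X := {s : X | (∀ z : X, z ⤳ s → z = s) ∧ s ≠ η}
  have hF : F.Finite := hfin.subset (fun s hs => hs.1)
  let C : Set X := ⋃ s ∈ F, closure {s}
  have hC : IsClosed C := hF.isClosed_biUnion (fun _ _ => isClosed_closure)
  have hηC : η ∉ C := by
    intro h
    simp only [C, Set.mem_iUnion] at h
    obtain ⟨s, hs, hsη⟩ := h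
    rw [← specializes_iff_mem_closure] at hsη
    exact hs.2 (hη s hsη)
  obtain ⟨y, hyC, hyU⟩ := (dense_iff_inter_open.mp hU) Cᶜ hC.isOpen_compl ⟨η, hηC⟩
  obtain ⟨ζ, h1, h2⟩ := exists_max_gen y
  have : ζ = η := by
    by_contra hne
    apply hyC
    simp only [C, Set.mem_iUnion]
    exact ⟨ζ, ⟨h2, hne⟩, specializes_iff_mem_closure.mp h1⟩
  rw [this] at h1
  exact h1.mem_open hUo hyU

theorem exists_open_disjoint_of_max [QuasiSober X] [T0Space X]
    (hfin : {s : X | ∀ z : X, z ⤳ s → z = s}.Finite) (U : Set X) (hUo : IsOpen U)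
    (η : X) (hη : ∀ z : X, z ⤳ η → z = η) (hηU : η ∉ U) :
    ∃ O : Set X, IsOpen O ∧ η ∈ O ∧ Disjoint O U := by
  let F : Set X := {s : X | (∀ z : X, z ⤳ s → z = s) ∧ s ∈ U}
  have hF : F.Finite := hfin.subset (fun s hs => hs.1)
  let C : Set X := ⋃ s ∈ F, closure {s}
  have hC : IsClosed C := hF.isClosed_biUnion (fun _ _ => isClosed_closure)
  have hηC : η ∉ C := by
    intro h
    simp only [C, Set.mem_iUnion] at h
    obtain ⟨s, hs, hsη⟩ := h
    rw [← specializes_iff_mem_closure] at hsη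
    have := hη s hsη
    rw [this] at hs
    exact hηU hs.2
  refine ⟨Cᶜ, hC.isOpen_compl, hηC, ?_⟩
  rw [Set.disjoint_left]
  intro y hyC hyU
  apply hyC
  obtain ⟨ζ, h1, h2⟩ := exists_max_gen y
  simp only [C, Set.mem_iUnion]
  exact ⟨ζ, ⟨h2, h1.mem_open hUo hyU⟩, specializes_iff_mem_closure.mp h1⟩
end Top


theorem exists_compact_open {X : Scheme.{u}} (F : Set X) (hF : F.Finite) (O : X.Opens)
    (hFO : F ⊆ (O : Set X)) :
    ∃ B : X.Opens, IsCompact (B : Set X) ∧ F ⊆ (B : Set X) ∧ B ≤ O := by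
  have h1 : ∀ η : F, ∃ B : X.Opens, IsCompact (B : Set X) ∧ η.1 ∈ B ∧ B ≤ O := by
    intro η
    obtain ⟨_, ⟨B, hB, rfl⟩, hzB, hBO⟩ :=
      X.isBasis_affineOpens.exists_subset_of_mem_open (hFO η.2) O.2
    exact ⟨B, IsAffineOpen.isCompact hB, hzB, hBO⟩
  choose B hB1 hB2 hB3 using h1
  have : Finite F := hF.to_subtype
  refine ⟨⨆ η : F, B η, ?_, ?_, ?_⟩
  · rw [TopologicalSpace.Opens.coe_iSup]
    exact isCompact_iUnion hB1
  · intro η hη
    rw [TopologicalSpace.Opens.coe_iSup]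
    exact Set.mem_iUnion.mpr ⟨⟨η, hη⟩, hB2 ⟨η, hη⟩⟩
  · exact iSup_le hB3

/-- Let (S_i) be a cofiltered system of schemes with affine transition morphisms and S its limit, such
that every S_i has finitely many maximal points and the transition morphisms send maximal points to
maximal points; let S_{i₀} be quasi-compact and V₀ an open subset of S_{i₀}, with inverse images V_i
in the S_i over i₀ and V in S. If V₀ is dense in S_{i₀} then every V_i and V are dense. Conversely,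
if V is dense in S and S has only finitely many maximal points, then V_i is dense in S_i for some i
over i₀. -/
theorem result {I : Type u} [SmallCategory I] [IsCofiltered I]
    (D : I ⥤ Scheme.{u}) (c : Limits.Cone D) (hc : Limits.IsLimit c)
    [∀ (i j : I) (g : i ⟶ j), IsAffineHom (D.map g)]
    (hfin : ∀ i : I, {s : ↥(D.obj i) | ∀ z : ↥(D.obj i), z ⤳ s → z = s}.Finite)
    (hsys : ∀ (i j : I) (g : i ⟶ j) (s : ↥(D.obj i)), (∀ z : ↥(D.obj i), z ⤳ s → z = s) →
      ∀ z : ↥(D.obj j), z ⤳ D.map g s → z = D.map g s)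
    (i₀ : I) [CompactSpace ↥(D.obj i₀)] (V₀ : (D.obj i₀).Opens) :
    (Dense (V₀ : Set ↥(D.obj i₀)) →
        (∀ (i : I) (g : i ⟶ i₀), Dense (((D.map g) ⁻¹ᵁ V₀ : (D.obj i).Opens) : Set ↥(D.obj i))) ∧
          Dense (((c.π.app i₀) ⁻¹ᵁ V₀ : c.pt.Opens) : Set ↥c.pt)) ∧
      (Dense (((c.π.app i₀) ⁻¹ᵁ V₀ : c.pt.Opens) : Set ↥c.pt) →
        {s : ↥c.pt | ∀ z : ↥c.pt, z ⤳ s → z = s}.Finite →
          ∃ (i : I) (g : i ⟶ i₀), Dense (((D.map g) ⁻¹ᵁ V₀ : (D.obj i).Opens) : Set ↥(D.obj i))) := by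
  have hmaxV : ∀ (i : I) (g : i ⟶ i₀), Dense (V₀ : Set ↥(D.obj i₀)) →
      ∀ s : ↥(D.obj i), (∀ z : ↥(D.obj i), z ⤳ s → z = s) → D.map g s ∈ V₀ := by
    intro i g hd s hs
    exact max_mem_of_dense (hfin i₀) _ V₀.2 hd _ (hsys i i₀ g s hs)
  refine ⟨fun hd => ⟨fun i g => dense_of_max _ (fun s hs => hmaxV i g hd s hs), ?_⟩, ?_⟩
  · rw [dense_iff_inter_open]
    rintro U hU ⟨x, hx⟩
    obtain ⟨_, ⟨_, ⟨j, W, hW, rfl⟩, rfl⟩, hxW, hWU⟩ :=
      (isBasis_preimage_isAffineOpen D c hc).exists_subset_of_mem_open hx hU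
    let k := IsCofiltered.min j i₀
    let a : k ⟶ j := IsCofiltered.minToLeft j i₀
    let b : k ⟶ i₀ := IsCofiltered.minToRight j i₀
    have hπW : ∀ y : ↥c.pt, D.map a (c.π.app k y) = c.π.app j y := by
      intro y
      rw [← Scheme.Hom.comp_apply, c.w a]
    have hπV : ∀ y : ↥c.pt, D.map b (c.π.app k y) = c.π.app i₀ y := by
      intro y
      rw [← Scheme.Hom.comp_apply, c.w b]
    let F : Set ↥(D.obj k) := {η | (∀ z : ↥(D.obj k), z ⤳ η → z = η) ∧ D.map a η ∈ W}
    have hFfin : F.Finite := (hfin k).subset (fun s hs => hs.1)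
    have hFO : F ⊆ (((D.map a) ⁻¹ᵁ W ⊓ (D.map b) ⁻¹ᵁ V₀ : (D.obj k).Opens) : Set ↥(D.obj k)) := by
      intro η hη
      exact ⟨hη.2, hmaxV k b hd η hη.1⟩
    obtain ⟨B, hBc, hFB, hBO⟩ := exists_compact_open F hFfin _ hFO
    by_cases hne : ((c.π.app k ⁻¹ᵁ B : c.pt.Opens) : Set ↥c.pt).Nonempty
    · obtain ⟨y, hy⟩ := hne
      have hy' := hBO hy
      refine ⟨y, hWU ?_, ?_⟩
      · change c.π.app j y ∈ W
        rw [← hπW]
        exact hy'.1
      · change c.π.app i₀ y ∈ V₀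
        rw [← hπV]
        exact hy'.2
    · exfalso
      have H : c.π.app k ⁻¹ᵁ B ≤ c.π.app k ⁻¹ᵁ (⊥ : (D.obj k).Opens) := by
        intro y hy
        exact absurd ⟨y, hy⟩ hne
      obtain ⟨l, h, hl⟩ := exists_map_preimage_le_map_preimage D c hc hBc H
      obtain ⟨ζ, hζ1, hζ2⟩ := exists_max_gen (c.π.app l x)
      have hζF : D.map h ζ ∈ F := by
        refine ⟨hsys l k h ζ hζ2, ?_⟩
        have h1 : D.map h ζ ⤳ D.map h (c.π.app l x) := hζ1.map (D.map h).continuous
        have h2 : D.map h (c.π.app l x) = c.π.app k x := by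
          rw [← Scheme.Hom.comp_apply, c.w h]
        rw [h2] at h1
        have h3 : D.map a (D.map h ζ) ⤳ D.map a (c.π.app k x) := h1.map (D.map a).continuous
        rw [hπW] at h3
        exact h3.mem_open W.2 hxW
      have : ζ ∈ (D.map h) ⁻¹ᵁ B := hFB hζF
      exact hl this
  · intro hVd _
    by_contra hcon
    push Not at hcon
    let M : Set ↥(D.obj i₀) := {s | (∀ z : ↥(D.obj i₀), z ⤳ s → z = s) ∧ s ∉ V₀}
    have hMfin : M.Finite := (hfin i₀).subset (fun s hs => hs.1)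
    let Q : (D.obj i₀).Opens := ⟨interior ((V₀ : Set ↥(D.obj i₀))ᶜ), isOpen_interior⟩
    have hMQ : M ⊆ (Q : Set ↥(D.obj i₀)) := by
      intro z hz
      obtain ⟨O, hO1, hO2, hO3⟩ := exists_open_disjoint_of_max (hfin i₀) _ V₀.2 z hz.1 hz.2
      exact mem_interior.mpr ⟨O, fun y hy hyV => Set.disjoint_left.mp hO3 hy hyV, hO1, hO2⟩
    obtain ⟨B, hBc, hMB, hBQ⟩ := exists_compact_open M hMfin Q hMQ
    have H : c.π.app i₀ ⁻¹ᵁ B ≤ c.π.app i₀ ⁻¹ᵁ (⊥ : (D.obj i₀).Opens) := by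
      intro y hy
      exfalso
      obtain ⟨w, hw1, hw2⟩ := (dense_iff_inter_open.mp hVd) _ (c.π.app i₀ ⁻¹ᵁ B).2 ⟨y, hy⟩
      have h1 : c.π.app i₀ w ∈ interior ((V₀ : Set ↥(D.obj i₀))ᶜ) := hBQ hw1
      exact interior_subset h1 hw2
    obtain ⟨l, h, hl⟩ := exists_map_preimage_le_map_preimage D c hc hBc H
    apply hcon l h
    apply dense_of_max
    intro s hs
    by_contra hsV
    have hsM : D.map h s ∈ M := ⟨hsys l i₀ h s hs, hsV⟩
    have : s ∈ (D.map h) ⁻¹ᵁ B := hMB hsM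
    exact hl this

end Groth.Agent.S5110
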