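import Groth.Statements.S5106
import Groth.Agent.S5110
import Mathlib.RingTheory.Ideal.MinimalPrime.Localization
import Mathlib.RingTheory.Localization.AtPrime.Basic
import Mathlib.RingTheory.Nilpotent.Lemmas

set_option autoImplicit false
universe u
open CategoryTheory CategoryTheory.Limits AlgebraicGeometry TopologicalSpace
open Lim8

namespace Groth.Agent.S5106

theorem L1 {A : Type*} [CommRing A] (p : Ideal A) (hp : p ∈ minimalPrimes A) (f : A) (hf : f ∈ p) :
    ∃ g : A, g ∉ p ∧ ∃ N : ℕ, g * f ^ N = 0 := by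
  have : p.IsPrime := hp.1.1
  have hsub := IsLocalization.subsingleton_primeSpectrum_of_mem_minimalPrimes p hp
    (Localization.AtPrime p)
  have hnil : algebraMap A (Localization.AtPrime p) f ∈ nilradical (Localization.AtPrime p) := by
    rw [nilradical_eq_sInf, Ideal.mem_sInf]
    intro J hJ
    have hJ' : J.IsPrime := hJ
    have : (⟨J, hJ'⟩ : PrimeSpectrum (Localization.AtPrime p)) =
        ⟨IsLocalRing.maximalIdeal _, inferInstance⟩ := Subsingleton.elim _ _
    have hJm : J = IsLocalRing.maximalIdeal (Localization.AtPrime p) :=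
      congrArg PrimeSpectrum.asIdeal this
    rw [hJm]
    exact (IsLocalization.AtPrime.to_map_mem_maximal_iff (Localization.AtPrime p) p f).mpr hf
  obtain ⟨N, hN⟩ := mem_nilradical.mp hnil
  rw [← map_pow, IsLocalization.map_eq_zero_iff p.primeCompl] at hN
  obtain ⟨m, hm⟩ := hN
  exact ⟨m.1, m.2, N, hm⟩

theorem L2 {S : Scheme.{u}} {W : S.Opens} (hW : IsAffineOpen W) (s : S) (hsW : s ∈ W)
    (hmax : ∀ z : S, z ⤳ s → z = s) (f : Γ(S, W)) (hf : s ∉ S.basicOpen f) :
    ∃ g : Γ(S, W), s ∈ S.basicOpen g ∧ S.basicOpen g ⊓ S.basicOpen f = ⊥ := by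
  have hp : hW.fromSpec (hW.primeIdealOf ⟨s, hsW⟩) = s := hW.fromSpec_primeIdealOf ⟨s, hsW⟩
  have hinj : Function.Injective hW.fromSpec := hW.fromSpec.isOpenEmbedding.injective
  have hmem : ∀ g : Γ(S, W), g ∉ (hW.primeIdealOf ⟨s, hsW⟩).asIdeal ↔ s ∈ S.basicOpen g := by
    intro g
    have h1 : hW.primeIdealOf ⟨s, hsW⟩ ∈ hW.fromSpec ⁻¹ᵁ S.basicOpen g ↔
        hW.fromSpec (hW.primeIdealOf ⟨s, hsW⟩) ∈ S.basicOpen g := Iff.rfl
    rw [hp, hW.fromSpec_preimage_basicOpen] at h1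
    rw [← h1]
    exact (PrimeSpectrum.mem_basicOpen _ _).symm
  have hmin : (hW.primeIdealOf ⟨s, hsW⟩).asIdeal ∈ minimalPrimes Γ(S, W) := by
    refine ⟨⟨(hW.primeIdealOf ⟨s, hsW⟩).isPrime, bot_le⟩, ?_⟩
    intro q hq hqp
    have hq' : q.IsPrime := hq.1
    have h1 : (⟨q, hq'⟩ : PrimeSpectrum Γ(S, W)) ≤ hW.primeIdealOf ⟨s, hsW⟩ := hqp
    rw [PrimeSpectrum.le_iff_specializes] at h1
    have h2 := h1.map hW.fromSpec.continuous
    rw [hp] at h2
    have h3 := hmax _ h2
    rw [← hp] at h3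
    have h4 := hinj h3
    rw [← h4]
  have hfp : f ∈ (hW.primeIdealOf ⟨s, hsW⟩).asIdeal := by
    by_contra h
    exact hf ((hmem f).mp h)
  obtain ⟨g, hg, N, hN⟩ := L1 _ hmin f hfp
  refine ⟨g, (hmem g).mp hg, ?_⟩
  have h5 : g * f ^ (N + 1) = 0 := by rw [pow_succ, ← mul_assoc, hN, zero_mul]
  have h6 := S.basicOpen_mul g (f ^ (N + 1))
  rw [h5, S.basicOpen_zero, S.basicOpen_pow f (Nat.succ_pos N)] at h6
  exact h6.symm


open Groth.Agent.S5110 in
/-- the hard direction: the image of a maximal point of the limit is maximal. -/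
theorem forward {I : Type u} [SmallCategory I] [IsCofiltered I]
    (D : I ⥤ Scheme.{u}) (c : Limits.Cone D) (hc : Limits.IsLimit c)
    [∀ (i j : I) (g : i ⟶ j), IsAffineHom (D.map g)]
    (hfin : ∀ i : I, {s : ↥(D.obj i) | ∀ z : ↥(D.obj i), z ⤳ s → z = s}.Finite)
    (hsys : ∀ (i j : I) (g : i ⟶ j) (s : ↥(D.obj i)), (∀ z : ↥(D.obj i), z ⤳ s → z = s) →
      ∀ z : ↥(D.obj j), z ⤳ D.map g s → z = D.map g s)
    (s : ↥c.pt) (hs : ∀ z : ↥c.pt, z ⤳ s → z = s) (i : I) :
    ∀ z : ↥(D.obj i), z ⤳ c.π.app i s → z = c.π.app i s := by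
  classical
  by_contra hcon
  -- an affine open neighbourhood of the image
  obtain ⟨_, ⟨W, hW, rfl⟩, hxW, -⟩ :=
    (D.obj i).isBasis_affineOpens.exists_subset_of_mem_open
      (Set.mem_univ (c.π.app i s)) isOpen_univ
  have hWaff : IsAffineOpen W := hW
  have : IsAffineHom (c.π.app i) := isAffineHom_π_app D c hc i
  have hWS : IsAffineOpen (c.π.app i ⁻¹ᵁ W) := hWaff.preimage (c.π.app i)
  -- the maximal generizations of the image
  let G : Set ↥(D.obj i) := {η | (∀ z : ↥(D.obj i), z ⤳ η → z = η) ∧ η ⤳ c.π.app i s}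
  have hGfin : G.Finite := (hfin i).subset (fun η hη => hη.1)
  have hGne : ∀ η ∈ G, η ∉ closure ({c.π.app i s} : Set ↥(D.obj i)) := by
    intro η hη hcl
    rw [← specializes_iff_mem_closure] at hcl
    have := hη.1 _ hcl
    apply hcon
    rw [this]
    exact hη.1
  have hGW : ∀ η ∈ G, η ∈ W := fun η hη => hη.2.mem_open W.2 hxW
  -- functions separating them from the image
  have hf : ∀ η : G, ∃ f : Γ(D.obj i, W), η.1 ∈ (D.obj i).basicOpen f ∧
      c.π.app i s ∉ (D.obj i).basicOpen f := by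
    intro η
    let V : (D.obj i).Opens := ⟨(closure ({c.π.app i s} : Set ↥(D.obj i)))ᶜ,
      isClosed_closure.isOpen_compl⟩
    obtain ⟨f, hf1, hf2⟩ := hWaff.exists_basicOpen_le (V := V) ⟨η.1, hGne η.1 η.2⟩ (hGW η.1 η.2)
    refine ⟨f, hf2, fun h => ?_⟩
    exact hf1 h (subset_closure rfl)
  choose f hf1 hf2 using hf
  -- neighbourhoods of `s` in the limit disjoint from the preimages of the `D(f η)`
  have hg : ∀ η : G, ∃ O : Set ↥c.pt, IsOpen O ∧ s ∈ O ∧
      ∀ y ∈ O, c.π.app i y ∉ (D.obj i).basicOpen (f η) := by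
    intro η
    have hsf : s ∉ c.pt.basicOpen ((c.π.app i).app W (f η)) := by
      rw [← Scheme.preimage_basicOpen]
      exact hf2 η
    obtain ⟨g, hg1, hg2⟩ := L2 hWS s hxW hs _ hsf
    refine ⟨c.pt.basicOpen g, (c.pt.basicOpen g).2, hg1, ?_⟩
    intro y hy hyf
    have : y ∈ c.pt.basicOpen g ⊓ c.pt.basicOpen ((c.π.app i).app W (f η)) := by
      refine ⟨hy, ?_⟩
      rw [← Scheme.preimage_basicOpen]
      exact hyf
    exact hg2.le this
  choose O hO1 hO2 hO3 using hg
  have : Finite G := hGfin.to_subtype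
  have hOopen : IsOpen (⋂ η : G, O η) := isOpen_iInter_of_finite hO1
  have hsO : s ∈ ⋂ η : G, O η := Set.mem_iInter.mpr hO2
  obtain ⟨_, ⟨_, ⟨j, W', hW', rfl⟩, rfl⟩, hsW', hW'O⟩ :=
    (isBasis_preimage_isAffineOpen D c hc).exists_subset_of_mem_open hsO hOopen
  let k := IsCofiltered.min j i
  let a : k ⟶ j := IsCofiltered.minToLeft j i
  let b : k ⟶ i := IsCofiltered.minToRight j i
  have hπa : ∀ y : ↥c.pt, D.map a (c.π.app k y) = c.π.app j y := by
    intro y
    rw [← Scheme.Hom.comp_apply, c.w a]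
  have hπb : ∀ y : ↥c.pt, D.map b (c.π.app k y) = c.π.app i y := by
    intro y
    rw [← Scheme.Hom.comp_apply, c.w b]
  let Gk : Set ↥(D.obj k) := {ζ | (∀ z : ↥(D.obj k), z ⤳ ζ → z = ζ) ∧ ζ ⤳ c.π.app k s}
  have hGkfin : Gk.Finite := (hfin k).subset (fun η hη => hη.1)
  let E : (D.obj i).Opens := ⨆ η : G, (D.obj i).basicOpen (f η)
  have hGkO : Gk ⊆ (((D.map a) ⁻¹ᵁ W' ⊓ (D.map b) ⁻¹ᵁ E : (D.obj k).Opens) : Set ↥(D.obj k)) := by
    intro ζ hζ
    constructor
    · have h1 : D.map a ζ ⤳ D.map a (c.π.app k s) := hζ.2.map (D.map a).continuous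
      rw [hπa] at h1
      exact h1.mem_open W'.2 hsW'
    · have h1 : D.map b ζ ⤳ D.map b (c.π.app k s) := hζ.2.map (D.map b).continuous
      rw [hπb] at h1
      have h2 : D.map b ζ ∈ G := ⟨hsys k i b ζ hζ.1, h1⟩
      change D.map b ζ ∈ E
      exact TopologicalSpace.Opens.mem_iSup.mpr ⟨⟨_, h2⟩, hf1 ⟨_, h2⟩⟩
  obtain ⟨T, hTc, hGkT, hTO⟩ := exists_compact_open Gk hGkfin _ hGkO
  have H : c.π.app k ⁻¹ᵁ T ≤ c.π.app k ⁻¹ᵁ (⊥ : (D.obj k).Opens) := by
    intro y hy
    exfalso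
    have hy' := hTO hy
    have h1 : y ∈ ⋂ η : G, O η := by
      apply hW'O
      change c.π.app j y ∈ W'
      rw [← hπa]
      exact hy'.1
    have h2 : c.π.app i y ∈ E := by
      rw [← hπb]
      exact hy'.2
    obtain ⟨η, hη⟩ := TopologicalSpace.Opens.mem_iSup.mp h2
    exact hO3 η y (Set.mem_iInter.mp h1 η) hη
  obtain ⟨l, h, hl⟩ := exists_map_preimage_le_map_preimage D c hc hTc H
  obtain ⟨ζ, hζ1, hζ2⟩ := exists_max_gen (c.π.app l s)
  have hζG : D.map h ζ ∈ Gk := by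
    refine ⟨hsys l k h ζ hζ2, ?_⟩
    have h1 : D.map h ζ ⤳ D.map h (c.π.app l s) := hζ1.map (D.map h).continuous
    have h2 : D.map h (c.π.app l s) = c.π.app k s := by
      rw [← Scheme.Hom.comp_apply, c.w h]
    rwa [h2] at h1
  have : ζ ∈ (D.map h) ⁻¹ᵁ T := hGkT hζG
  exact hl this

/-- Let (S_i) be a cofiltered system of schemes with affine transition morphisms and S its limit.
Suppose that every S_i has only finitely many maximal points (points with no proper generization,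
i.e. generic points of irreducible components) and that the transition morphisms send maximal points
to maximal points. Then the set of maximal points of S is the limit of the sets of maximal points of
the S_i: a point of S is maximal if and only if its image in every S_i is a maximal point of S_i. -/
theorem result {I : Type u} [SmallCategory I] [IsCofiltered I]
    (D : I ⥤ Scheme.{u}) (c : Limits.Cone D) (hc : Limits.IsLimit c)
    [∀ (i j : I) (g : i ⟶ j), IsAffineHom (D.map g)]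
    (hfin : ∀ i : I, {s : ↥(D.obj i) | ∀ z : ↥(D.obj i), z ⤳ s → z = s}.Finite)
    (hsys : ∀ (i j : I) (g : i ⟶ j) (s : ↥(D.obj i)), (∀ z : ↥(D.obj i), z ⤳ s → z = s) →
      ∀ z : ↥(D.obj j), z ⤳ D.map g s → z = D.map g s)
    (s : ↥c.pt) :
    (∀ z : ↥c.pt, z ⤳ s → z = s) ↔ ∀ (i : I) (z : ↥(D.obj i)), z ⤳ c.π.app i s → z = c.π.app i s := by
  constructor
  · intro hs i
    exact forward D c hc hfin hsys s hs i
  · intro h z hz
    have hzi : ∀ i : I, c.π.app i z = c.π.app i s := by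
      intro i
      exact h i _ (hz.map (c.π.app i).continuous)
    have hsz : s ⤳ z := by
      rw [specializes_iff_forall_open]
      intro U hU hzU
      obtain ⟨_, ⟨_, ⟨j, W', hW', rfl⟩, rfl⟩, hzW', hW'U⟩ :=
        (isBasis_preimage_isAffineOpen D c hc).exists_subset_of_mem_open hzU hU
      apply hW'U
      change c.π.app j s ∈ W'
      rw [← hzi]
      exact hzW'
    exact (hz.antisymm hsz).eq

end Groth.Agent.S5106
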