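import Groth.Statements.S5107
import Mathlib
import Groth.Agent.S7631
import Groth.Agent.S4764
import Groth.Agent.Lib.Helper24.Lim8Descend

set_option autoImplicit false
universe u
open CategoryTheory CategoryTheory.Limits AlgebraicGeometry TopologicalSpace
open Lim8

set_option linter.style.haveILetI false
open AlgebraicGeometry.Scheme
open Groth.Agent.Lib.Helper24.Lim8

namespace Groth.Agent.S5107

theorem inj_congr {X : Scheme.{u}} {V W W' : X.Opens} (h : W = W') (h1 : W ≤ V) (h2 : W' ≤ V) :
    Function.Injective (X.presheaf.map (homOfLE h1).op) ↔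
      Function.Injective (X.presheaf.map (homOfLE h2).op) := by
  subst h; rfl

theorem dense_iff {X : Scheme.{u}} (U : X.Opens) [QuasiCompact U.ι] :
    CInt.IsSchematicallyDense U ↔ U.ι.ker = ⊥ := by
  have key : ∀ V : X.Opens, Function.Injective (U.ι.app V) ↔
      Function.Injective (X.presheaf.map (homOfLE (inf_le_left : V ⊓ U ≤ V)).op) := by
    intro V
    rw [Scheme.Opens.ι_app]
    refine inj_congr ?_ _ _
    rw [Scheme.Hom.image_preimage_eq_opensRange_inf, Scheme.Opens.opensRange_ι]
    exact inf_comm _ _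
  constructor
  · intro h
    ext V : 2
    rw [Scheme.Hom.ker_apply, IdealSheafData.ideal_bot]
    exact (RingHom.injective_iff_ker_eq_bot _).1 ((key V.1).2 (h V.1))
  · intro h V
    haveI : IsSchemeTheoreticallyDominant U.ι := ⟨h⟩
    exact (key V).1 (U.ι.app_injective V)

/-- flat base change of the kernel of an open immersion -/
theorem ker_preimage_ι {X X' : Scheme.{u}} (g : X' ⟶ X) [Flat g] (U : X.Opens) [QuasiCompact U.ι] :
    (g ⁻¹ᵁ U).ι.ker = U.ι.ker.comap g :=
  Groth.Agent.S7631.ker_of_isPullback_of_flat (isPullback_morphismRestrict g U)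

theorem comap_eq_bot_iff {X T : Scheme.{u}} (t : T ⟶ X) (K : X.IdealSheafData) :
    K.comap t = ⊥ ↔ IsIso (pullback.fst t K.subschemeι) := by
  change (pullback.fst t K.subschemeι).ker = ⊥ ↔ _
  constructor
  · intro h
    refine IsClosedImmersion.isIso_of_ker_eq (pullback.fst t K.subschemeι) (𝟙 T) _
      (Category.comp_id _) ?_
    rw [h]
    simp
  · intro h
    simp


theorem descend_comap_bot {I : Type u} [SmallCategory I] [IsCofiltered I] (D : I ⥤ Scheme.{u})
    (c : Limits.Cone D) (hc : Limits.IsLimit c)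
    [∀ {i j : I} (g : i ⟶ j), IsAffineHom (D.map g)] (i₀ : I) [IsNoetherian (D.obj i₀)]
    (K : (D.obj i₀).IdealSheafData) (h : K.comap (c.π.app i₀) = ⊥) :
    ∃ (j : I) (φ : j ⟶ i₀), K.comap (D.map φ) = ⊥ := by
  have h1 : IsIso (pullback.fst (c.π.app i₀) K.subschemeι) := (comap_eq_bot_iff _ _).1 h
  haveI : LocallyOfFinitePresentation K.subschemeι :=
    LocallyOfFinitePresentation.iff_locallyOfFiniteType.2 inferInstance
  have hdesc := descends_isomorphisms D c hc i₀ K.subschemeι (𝟙 _)
  have h2 : MorphismProperty.isomorphisms Scheme.{u} (bcMap (c.π.app i₀) K.subschemeι (𝟙 _)) :=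
    (bcMap_iff_of_isPullback (IsPullback.of_id_snd)
      (IsPullback.of_hasPullback (c.π.app i₀) K.subschemeι).flip).2 h1
  obtain ⟨j, φ, h3⟩ := hdesc h2
  have h4 : IsIso (pullback.fst (D.map φ) K.subschemeι) :=
    (bcMap_iff_of_isPullback (P := MorphismProperty.isomorphisms Scheme.{u}) (IsPullback.of_id_snd)
      (IsPullback.of_hasPullback (D.map φ) K.subschemeι).flip).1 h3
  exact ⟨j, φ, (comap_eq_bot_iff _ _).2 h4⟩

theorem qc_ι (X : Scheme.{u}) [IsLocallyNoetherian X] (W : X.Opens) : QuasiCompact W.ι :=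
  instQuasiCompactOfIsLocallyNoetherianOfIsOpenImmersion

theorem main {I : Type u} [SmallCategory I]
    [IsCofiltered I] (D : I ⥤ Scheme.{u}) (c : Limits.Cone D) (hc : Limits.IsLimit c)
    [∀ (i j : I) (g : i ⟶ j), IsAffineHom (D.map g)] [∀ (i j : I) (g : i ⟶ j), Flat (D.map g)]
    [∀ i : I, IsNoetherian (D.obj i)] [IsNoetherian c.pt] (i₀ : I) (U₀ : (D.obj i₀).Opens) :
    CInt.IsSchematicallyDense ((c.π.app i₀) ⁻¹ᵁ U₀) ↔
      ∃ (i : I) (g : i ⟶ i₀), CInt.IsSchematicallyDense ((D.map g) ⁻¹ᵁ U₀) := by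
  have hflatπ : ∀ i : I, Flat (c.π.app i) := fun i =>
    Groth.Agent.S4764.result D c hc i (fun j φ => inferInstance)
  haveI hqc : ∀ W : c.pt.Opens, QuasiCompact W.ι := fun W => qc_ι c.pt W
  constructor
  · intro h
    rw [dense_iff] at h
    haveI := hflatπ i₀
    rw [ker_preimage_ι] at h
    obtain ⟨j, φ, hj⟩ := descend_comap_bot D c hc i₀ _ h
    refine ⟨j, φ, ?_⟩
    rw [dense_iff, ker_preimage_ι, hj]
  · rintro ⟨i, g, h⟩
    rw [dense_iff] at h
    haveI := hflatπ i
    have e : (c.π.app i₀) ⁻¹ᵁ U₀ = (c.π.app i) ⁻¹ᵁ ((D.map g) ⁻¹ᵁ U₀) := by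
      rw [← Scheme.Hom.comp_preimage, c.w]
    rw [e, dense_iff, ker_preimage_ι, h]
    exact (IdealSheafData.map_gc _).l_bot

end Groth.Agent.S5107

namespace Groth.Agent.S5107

/-- Let (X_i) be a cofiltered system of Noetherian schemes with affine and flat transition morphisms, X
its limit, assumed Noetherian as well, and U₀ an open subset of X_{i₀}, with inverse images U_i in
X_i (for i over i₀) and U in X. Then U is schematically dense in X if and only if there is an index
i over i₀ such that U_i is schematically dense in X_i (and then, the transition morphisms being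
flat, U_j is schematically dense in X_j for every j over i). -/
theorem result {I : Type u} [SmallCategory I]
    [IsCofiltered I] (D : I ⥤ Scheme.{u}) (c : Limits.Cone D) (hc : Limits.IsLimit c)
    [∀ (i j : I) (g : i ⟶ j), IsAffineHom (D.map g)] [∀ (i j : I) (g : i ⟶ j), Flat (D.map g)]
    [∀ i : I, IsNoetherian (D.obj i)] [IsNoetherian c.pt] (i₀ : I) (U₀ : (D.obj i₀).Opens) :
    CInt.IsSchematicallyDense ((c.π.app i₀) ⁻¹ᵁ U₀) ↔
      ∃ (i : I) (g : i ⟶ i₀), CInt.IsSchematicallyDense ((D.map g) ⁻¹ᵁ U₀) := by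

  exact Groth.Agent.S5107.main D c hc i₀ U₀

end Groth.Agent.S5107
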