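import Groth.Statements.S5112
import Groth.Agent.Lib.QCoh.Helper74_Div21c
import Groth.Agent.S12049

set_option autoImplicit false
universe u
open CategoryTheory CategoryTheory.Limits AlgebraicGeometry TopologicalSpace
open Div21

namespace Groth.Agent.S5112


open Groth.Agent.Lib.QCoh.Div21h74 Groth.Agent.Lib.QCoh.ParaFact74 Groth.Agent.Lib.Helper91.GenPrime
  Groth.Agent.Lib.Helper91.CDivSupp in
/-- the point of dimension one: a power of a uniformizer -/
theorem exists_ord_eq (X : Scheme.{u}) [IsIntegral X] [IsLocallyNoetherian X]
    (hX : Pi1.IsNormalScheme X) (x : ↥X) (hx : Order.coheight x = 1) (n : ℤ) :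
    ∃ f : ↑X.functionField, f ≠ 0 ∧ Scheme.ord f x = n := by
  have := isDiscreteValuationRing_of_coheight_eq_one hX hx
  obtain ⟨ϖ, hϖ⟩ := IsDiscreteValuationRing.exists_irreducible (X.presheaf.stalk x)
  have hϖ0 : algebraMap (X.presheaf.stalk x) X.functionField ϖ ≠ 0 :=
    algebraMap_ne_zero hϖ.ne_zero
  refine ⟨(algebraMap (X.presheaf.stalk x) X.functionField ϖ) ^ n, zpow_ne_zero n hϖ0, ?_⟩
  rw [Scheme.ord_eq_iff hx (zpow_ne_zero n hϖ0), map_zpow₀]
  have h1 : Scheme.ordHom x hx (algebraMap (X.presheaf.stalk x) X.functionField ϖ) =
      WithZero.exp 1 := by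
    have : Ring.KrullDimLE 1 (X.presheaf.stalk x) := AlgebraicGeometry.krullDimLE_of_coheight_le hx.le
    exact Ring.ordFrac_irreducible hϖ
  rw [h1, ← WithZero.exp_zsmul]
  simp [WithZero.exp_eq_coe_ofAdd]

/-- The implication from (b) to (a), for an integral scheme (a normal locally Noetherian scheme is the
disjoint union of its integral components): let X be a normal locally Noetherian integral scheme and
S a subset of X. A codimension-1 cycle Z (an integer-valued function on points, zero off the points
of codimension 1, i.e. of coheight 1, with locally finite support) is principal at a point x when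
there is a nonzero rational function whose order at every codimension-1 point generizing x is the
value of Z there (the trace of Z on Spec O_{X,x} is a principal divisor). Suppose (b): for every
point x of X which is not a generization of a point of S (the closure of x does not meet S) and
whose local ring has dimension at least 2, the local ring O_{X,x} is parafactorial. Then (a): every
codimension-1 cycle which is principal at all points of S is principal at every point of X (it is
locally principal). (The published statement asserts that (a) and (b) are equivalent. The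
implication from (a) to (b) fails: on the quotient of the real 2-sphere x² + y² + z² = 1 by (x, y,
z) ↦ (−x, −y, z), a normal Noetherian integral surface with exactly two singular points and divisor
class group of order 2, take S to be one singular point; every cycle principal there is principal
everywhere, while the local ring at the other singular point has dimension 2 and is not
parafactorial. This row states the implication from (b) to (a), which the published argument does
prove.) -/
theorem result (X : Scheme.{u}) [IsIntegral X]
    [IsLocallyNoetherian X] (hX : Pi1.IsNormalScheme X) (S : Set ↥X)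
    (hpar : ∀ x : ↥X, closure {x} ∩ S = ∅ → (2 : WithBot ℕ∞) ≤ ringKrullDim ↑(X.presheaf.stalk x) →
        ParaF.IsParafactorialLocalRing ↑(X.presheaf.stalk x))
    (Z : ↥X → ℤ) (hZ : ∀ x : ↥X, Order.coheight x ≠ 1 → Z x = 0)
    (hZfin : ∀ x : ↥X, ∃ W : X.Opens, x ∈ W ∧ {z : ↥X | z ∈ W ∧ Z z ≠ 0}.Finite)
    (hS : ∀ s : ↥X, s ∈ S →
        ∃ f : ↑X.functionField, f ≠ 0 ∧ ∀ x' : ↥X, Order.coheight x' = 1 → x' ⤳ s → Z x' = Scheme.ord f x')
    (x : ↥X) :
    ∃ f : ↑X.functionField, f ≠ 0 ∧ ∀ x' : ↥X, Order.coheight x' = 1 → x' ⤳ x → Z x' = Scheme.ord f x' := by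
  classical
  have key : ∀ n : ℕ, ∀ x : ↥X, ringKrullDim ↑(X.presheaf.stalk x) = n →
      ∃ f : ↑X.functionField, f ≠ 0 ∧
        ∀ x' : ↥X, Order.coheight x' = 1 → x' ⤳ x → Z x' = Scheme.ord f x' := by
    intro n
    induction n using Nat.strong_induction_on with
    | _ n ih =>
      intro x hn
      by_cases hxS : closure {x} ∩ S = ∅
      swap
      · obtain ⟨s, hs1, hs2⟩ := Set.nonempty_iff_ne_empty.2 hxS
        obtain ⟨f, hf0, hf⟩ := hS s hs2
        have hxs : x ⤳ s := specializes_iff_mem_closure.2 hs1
        exact ⟨f, hf0, fun x' hx' hx'x => hf x' hx' (hx'x.trans hxs)⟩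
      have hdimx' : ∀ x' : ↥X, Order.coheight x' = 1 → ringKrullDim ↑(X.presheaf.stalk x') = 1 := by
        intro x' hx'
        rw [AlgebraicGeometry.ringKrullDim_stalk_eq_coheight, hx']
        rfl
      rcases (by omega : n = 0 ∨ n = 1 ∨ 2 ≤ n) with rfl | rfl | hn2
      · refine ⟨1, one_ne_zero, ?_⟩
        intro x' hx' hx'x
        exfalso
        have h1 := hdimx' x' hx'
        by_cases hne : x' = x
        · rw [hne, hn] at h1
          norm_num at h1
        · have h2 := Groth.Agent.S12049.dim_lt_of_specializes x' x hx'x hne
          rw [h1, hn] at h2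
          norm_num at h2
      · have hx1 : Order.coheight x = 1 := by
          have h1 := AlgebraicGeometry.ringKrullDim_stalk_eq_coheight (X := X) x
          rw [hn] at h1
          have h2 : ((1 : ℕ∞) : WithBot ℕ∞) = ((Order.coheight x : ℕ∞) : WithBot ℕ∞) := by
            exact_mod_cast h1
          exact (WithBot.coe_inj.1 h2).symm
        obtain ⟨f, hf0, hf⟩ := exists_ord_eq X hX x hx1 (Z x)
        refine ⟨f, hf0, ?_⟩
        intro x' hx' hx'x
        have : x' = x := Groth.Agent.S12049.fact1 x' x (hdimx' x' hx') (by rw [hn]; rfl) hx'x
        rw [this, hf]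
      · have hdim : (2 : WithBot ℕ∞) ≤ ringKrullDim ↑(X.presheaf.stalk x) := by
          rw [hn]
          exact_mod_cast hn2
        apply Groth.Agent.Lib.QCoh.Div21h74.principal_at_of_parafactorial hX x hdim
          (hpar x hxS hdim) Z
        · obtain ⟨W, hxW, hfin⟩ := hZfin x
          exact hfin.subset (fun z hz => ⟨hz.2.1.mem_open W.isOpen hxW, hz.2.2⟩)
        · intro y hyx hne
          have hyne : y ≠ x := by
            rintro rfl
            apply hne
            unfold Groth.Agent.Lib.Helper91.GenPrime.primeOf
            rw [TopCat.Presheaf.stalkSpecializes_refl]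
            rfl
          obtain ⟨k, hk⟩ := Groth.Agent.Lib.QCoh.ParaFact74.exists_nat_dim (X.presheaf.stalk y)
          have h1 := Groth.Agent.S12049.dim_lt_of_specializes y x hyx hyne
          rw [hk, hn] at h1
          have h2 : k + 1 ≤ n := by exact_mod_cast h1
          exact ih k (by omega) y hk
  obtain ⟨k, hk⟩ := Groth.Agent.Lib.QCoh.ParaFact74.exists_nat_dim (X.presheaf.stalk x)
  exact key k x hk

end Groth.Agent.S5112
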