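import Groth.Statements.S5114
import Mathlib
import Groth.Agent.S17447
-- import your own Groth.Agent.* helpers here

set_option autoImplicit false
universe u
open SGA1

namespace Groth.Agent.S5114
open CategoryTheory CategoryTheory.Limits AlgebraicGeometry


theorem henselianLocalRing_of_isAdicComplete (R : Type*) [CommRing R] [IsLocalRing R]
    [IsAdicComplete (IsLocalRing.maximalIdeal R) R] : HenselianLocalRing R where
  is_henselian f hf a₀ h₁ h₂ := by
    refine HenselianRing.is_henselian (I := IsLocalRing.maximalIdeal R) f hf a₀ h₁ ?_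
    exact h₂.map (Ideal.Quotient.mk (IsLocalRing.maximalIdeal R))

/-- points of a finite fibre are quasi-finite points -/
theorem quasiFiniteAt_of_finite_fibre {X Y : Scheme.{u}} (f : X ⟶ Y) [LocallyOfFiniteType f]
    (x : X) (hfin : (f ⁻¹' {f x}).Finite) : f.QuasiFiniteAt x := by
  rw [Scheme.Hom.quasiFiniteAt_iff_isOpen_singleton_asFiber]
  have hlft : LocallyOfFiniteType (f.fiberToSpecResidueField (f x)) := by
    unfold Scheme.Hom.fiberToSpecResidueField
    exact MorphismProperty.pullback_snd _ _ inferInstance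
  have hfinfib : Finite (f.fiber (f x)) := by
    have : Finite (f ⁻¹' {f x}) := hfin
    exact Finite.of_equiv _ (f.fiberHomeo (f x)).symm.toEquiv
  have : LocallyQuasiFinite (f.fiberToSpecResidueField (f x)) :=
    LocallyQuasiFinite.of_finite_preimage_singleton _ fun _ => Set.toFinite _
  have hd := (f.fiberToSpecResidueField (f x)).isDiscrete_preimage_singleton
    ((f.fiberToSpecResidueField (f x)) (f.asFiber x))
  have hmem : f.asFiber x ∈ (f.fiberToSpecResidueField (f x)) ⁻¹'
      {(f.fiberToSpecResidueField (f x)) (f.asFiber x)} := rfl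
  have huniv : (f.fiberToSpecResidueField (f x)) ⁻¹'
      {(f.fiberToSpecResidueField (f x)) (f.asFiber x)} = Set.univ := by
    ext z
    simp only [Set.mem_preimage, Set.mem_singleton_iff, Set.mem_univ, iff_true]
    exact Subsingleton.elim _ _
  rw [huniv] at hd
  have : DiscreteTopology (f.fiber (f x)) := by
    rwa [← isDiscrete_univ_iff]
  exact isOpen_discrete _


/-- a finite jointly surjective family of finite morphisms factoring through `g` makes `g`
universally submersive -/
theorem univSubmersive_of_finite_family {X Y : Scheme.{u}} (g : X ⟶ Y)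
    {ι : Type*} [Finite ι] (T : ι → Scheme.{u}) (a : ∀ j, T j ⟶ X)
    (hfinite : ∀ j, IsFinite (a j ≫ g))
    (hsurj : ∀ y : Y, ∃ j, ∃ t : T j, (a j ≫ g) t = y) :
    SGA1.UnivSubmersive g := by
  intro X' Y' i₁ i₂ g' h
  show Topology.IsQuotientMap g'
  -- base changes of the finite maps
  have hp : ∀ j, IsClosedMap (pullback.snd (a j ≫ g) i₂) := by
    intro j
    have : IsFinite (pullback.snd (a j ≫ g) i₂) :=
      MorphismProperty.pullback_snd _ _ (hfinite j)
    exact (pullback.snd (a j ≫ g) i₂).isClosedMap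
  have hcond : ∀ j, pullback.snd (a j ≫ g) i₂ ≫ i₂ = (pullback.fst (a j ≫ g) i₂ ≫ a j) ≫ g := by
    intro j
    rw [Category.assoc]; exact pullback.condition.symm
  have hφ : ∀ j, ∃ φ : pullback (a j ≫ g) i₂ ⟶ X', φ ≫ g' = pullback.snd (a j ≫ g) i₂ := by
    intro j
    exact ⟨h.lift (pullback.snd (a j ≫ g) i₂) (pullback.fst (a j ≫ g) i₂ ≫ a j) (hcond j),
      h.lift_fst _ _ _⟩
  choose φ hφ using hφ
  have hcover : ∀ y' : Y', ∃ j, y' ∈ Set.range (pullback.snd (a j ≫ g) i₂) := by
    intro y'
    obtain ⟨j, t, ht⟩ := hsurj (i₂ y')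
    obtain ⟨z, -, hz⟩ := Scheme.Pullback.exists_preimage_pullback (f := a j ≫ g) (g := i₂) t y' ht
    exact ⟨j, z, hz⟩
  have hsurjg' : Function.Surjective g' := by
    intro y'
    obtain ⟨j, z, hz⟩ := hcover y'
    refine ⟨φ j z, ?_⟩
    rw [← Scheme.Hom.comp_apply, hφ j, hz]
  rw [Topology.isQuotientMap_iff_isClosed]
  refine ⟨hsurjg', fun Z => ⟨fun hZ => hZ.preimage g'.continuous, fun hZ => ?_⟩⟩
  have hZeq : Z = ⋃ j, (pullback.snd (a j ≫ g) i₂) '' ((φ j) ⁻¹' (g' ⁻¹' Z)) := by
    ext y'
    simp only [Set.mem_iUnion, Set.mem_image, Set.mem_preimage]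
    constructor
    · intro hy'
      obtain ⟨j, z, hz⟩ := hcover y'
      refine ⟨j, z, ?_, hz⟩
      rw [← Scheme.Hom.comp_apply, hφ j, hz]
      exact hy'
    · rintro ⟨j, z, hz, rfl⟩
      rw [← Scheme.Hom.comp_apply, hφ j] at hz
      exact hz
  rw [hZeq]
  exact isClosed_iUnion_of_finite fun j => hp j _ (hZ.preimage (φ j).continuous)



open AlgebraicGeometry CategoryTheory CategoryTheory.Limits in
/-- Let A be a complete Noetherian local ring, S = Spec A, and g : S' ⟶ S a surjective morphism of
finite type whose fibre over the closed point s is finite. If every point of S' specialises to some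
point of the fibre over s (equivalently: the disjoint union of the spectra of the local rings of S'
at the points over s maps onto S'), then g is universally submersive. (The published statement
asserts an equivalence and does not mention surjectivity of g; the converse fails: for A a complete
discrete valuation ring with fraction field K, S' = S ⊔ Spec K ⟶ S has a section, hence is
universally submersive, while the isolated point Spec K specialises to no point over s. This row
states the implication the published proof establishes, with the surjectivity it uses.) -/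
theorem result (A : Type u) [CommRing A]
    [IsNoetherianRing A] [IsLocalRing A] [IsAdicComplete (IsLocalRing.maximalIdeal A) A]
    {S' : Scheme.{u}} (g : S' ⟶ Spec (CommRingCat.of A)) [LocallyOfFiniteType g] [QuasiCompact g]
    [Surjective g]
    (hfin : (g.base ⁻¹' {IsLocalRing.closedPoint A}).Finite)
    (hsp : ∀ t : S', ∃ s' : S', g.base s' = IsLocalRing.closedPoint A ∧ t ⤳ s') :
    SGA1.UnivSubmersive g := by
  haveI := henselianLocalRing_of_isAdicComplete A
  have hqf : ∀ t : S', g.QuasiFiniteAt t := by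
    intro t
    obtain ⟨s', hs', hts'⟩ := hsp t
    have h1 : g.QuasiFiniteAt s' := by
      apply quasiFiniteAt_of_finite_fibre g s'
      have : g s' = IsLocalRing.closedPoint A := hs'
      rw [this]; exact hfin
    exact hts'.mem_open g.isOpen_quasiFiniteAt h1
  haveI : LocallyQuasiFinite g := by
    rw [← Scheme.Hom.quasiFiniteLocus_eq_top_iff]
    exact top_le_iff.mp fun x _ => hqf x
  haveI : CompactSpace S' := QuasiCompact.compactSpace_of_compactSpace g
  let 𝒰 := S'.affineCover.finiteSubcover
  have haff : ∀ j, IsAffine (𝒰.X j) := fun j => by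
    dsimp [𝒰, Scheme.OpenCover.finiteSubcover]; infer_instance
  have key : ∀ j : 𝒰.I₀, ∃ W : (𝒰.X j).Opens, IsClosed (W : Set (𝒰.X j)) ∧
      IsFinite (W.ι ≫ (𝒰.f j ≫ g)) ∧
      ∀ x : 𝒰.X j, (𝒰.f j ≫ g).base x = IsLocalRing.closedPoint A → x ∈ W := by
    intro j
    haveI := haff j
    haveI : QuasiCompact (𝒰.f j ≫ g) := by
      haveI : IsAffineHom (𝒰.f j ≫ g) := isAffineHom_of_isAffine _
      infer_instance
    haveI : IsSeparated (𝒰.f j ≫ g) := by
      haveI : IsAffineHom (𝒰.f j ≫ g) := isAffineHom_of_isAffine _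
      infer_instance
    obtain ⟨W, hW, -⟩ := Groth.Agent.S17447.result A (𝒰.f j ≫ g)
    exact ⟨W, hW⟩
  choose W hWcl hWfin hWmem using key
  refine univSubmersive_of_finite_family g (fun j => ((W j : (𝒰.X j).Opens) : Scheme.{u}))
    (fun j => (W j).ι ≫ 𝒰.f j) (fun j => by rw [Category.assoc]; exact hWfin j) ?_
  intro y
  obtain ⟨t, rfl⟩ := Surjective.surj (f := g) y
  obtain ⟨s', hs', hts'⟩ := hsp t
  obtain ⟨j, x, hx⟩ := 𝒰.exists_eq s'
  have hxW : x ∈ W j := by
    apply hWmem j x
    show (𝒰.f j ≫ g) x = _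
    rw [Scheme.Hom.comp_apply, hx]; exact hs'
  -- t lies in the image of W j as the image is open
  have hopen : IsOpen (Set.range ((W j).ι ≫ 𝒰.f j)) := ((W j).ι ≫ 𝒰.f j).isOpenEmbedding.isOpen_range
  have hs'mem : s' ∈ Set.range ((W j).ι ≫ 𝒰.f j) := ⟨⟨x, hxW⟩, by
    rw [Scheme.Hom.comp_apply]; exact hx⟩
  obtain ⟨w, hw⟩ := hts'.mem_open hopen hs'mem
  exact ⟨j, w, by rw [Scheme.Hom.comp_apply, hw]⟩

end Groth.Agent.S5114
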