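import Groth.Statements.S5118
import Mathlib.RingTheory.Etale.StandardEtale
import Mathlib.Algebra.TrivSqZeroExt.Ideal
import Mathlib.Algebra.Polynomial.Taylor
import Mathlib.RingTheory.Unramified.Basic

set_option autoImplicit false
universe u
open SGA1t

namespace Groth.Agent.S5118

open Polynomial in
/-- If `A[X]/(f)` is formally unramified over `A`, then `f'(x)` kills no nonzero element of any
module. -/
theorem aux (A : Type u) [CommRing A] (f : A[X])
    [Algebra.FormallyUnramified A (AdjoinRoot f)]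
    (M : Type u) [AddCommGroup M] [Module (AdjoinRoot f) M] [Module (AdjoinRoot f)ᵐᵒᵖ M]
    [IsCentralScalar (AdjoinRoot f) M] [Module A M] [IsScalarTower A (AdjoinRoot f) M]
    [IsScalarTower A (AdjoinRoot f)ᵐᵒᵖ M]
    (m : M) (hdm : aeval (AdjoinRoot.root f) (derivative f) • m = 0) : m = 0 := by
  have hxf : aeval (AdjoinRoot.root f) f = 0 := by
    rw [AdjoinRoot.aeval_eq, AdjoinRoot.mk_self]
  have hy : eval₂ (↑(Algebra.ofId A (TrivSqZeroExt (AdjoinRoot f) M)) : A →+* _)
      (TrivSqZeroExt.inl (AdjoinRoot.root f) + TrivSqZeroExt.inr m) f = 0 := by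
    have h1 : eval₂ (↑(Algebra.ofId A (TrivSqZeroExt (AdjoinRoot f) M)) : A →+* _)
      (TrivSqZeroExt.inl (AdjoinRoot.root f) + TrivSqZeroExt.inr m) f
        = aeval (TrivSqZeroExt.inl (AdjoinRoot.root f) + TrivSqZeroExt.inr m :
            TrivSqZeroExt (AdjoinRoot f) M) f := rfl
    rw [h1]
    have hsq : (TrivSqZeroExt.inr m : TrivSqZeroExt (AdjoinRoot f) M) ^ 2 = 0 := by
      rw [pow_two, TrivSqZeroExt.inr_mul_inr]
    rw [aeval_add_of_sq_eq_zero _ _ _ hsq]
    have e1 : ∀ q : A[X], aeval (TrivSqZeroExt.inl (AdjoinRoot.root f) :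
        TrivSqZeroExt (AdjoinRoot f) M) q = TrivSqZeroExt.inl (aeval (AdjoinRoot.root f) q) := by
      intro q
      exact (aeval_algHom_apply (TrivSqZeroExt.inlAlgHom A (AdjoinRoot f) M) (AdjoinRoot.root f) q)
    rw [e1, e1, hxf, TrivSqZeroExt.inl_zero, zero_add, TrivSqZeroExt.inl_mul_inr, hdm,
      TrivSqZeroExt.inr_zero]
  have hg : TrivSqZeroExt.inlAlgHom A (AdjoinRoot f) M =
      AdjoinRoot.liftAlgHom f (Algebra.ofId A (TrivSqZeroExt (AdjoinRoot f) M))
        (TrivSqZeroExt.inl (AdjoinRoot.root f) + TrivSqZeroExt.inr m) hy := by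
    have key : (TrivSqZeroExt.fstHom A (AdjoinRoot f) M).comp
          (TrivSqZeroExt.inlAlgHom A (AdjoinRoot f) M) =
        (TrivSqZeroExt.fstHom A (AdjoinRoot f) M).comp
          (AdjoinRoot.liftAlgHom f (Algebra.ofId A (TrivSqZeroExt (AdjoinRoot f) M))
            (TrivSqZeroExt.inl (AdjoinRoot.root f) + TrivSqZeroExt.inr m) hy) := by
      apply AdjoinRoot.algHom_ext
      simp
    apply Algebra.FormallyUnramified.ext (TrivSqZeroExt.kerIdeal (AdjoinRoot f) M)
      ⟨2, TrivSqZeroExt.kerIdeal_sq (AdjoinRoot f) M⟩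
    intro b
    rw [Ideal.Quotient.mk_eq_mk_iff_sub_mem]
    change _ ∈ RingHom.ker (TrivSqZeroExt.fstHom (AdjoinRoot f) (AdjoinRoot f) M)
    rw [RingHom.mem_ker, map_sub, sub_eq_zero]
    exact congrArg (fun φ => φ b) key
  have hxy := congrArg (fun φ => TrivSqZeroExt.snd (φ (AdjoinRoot.root f))) hg
  simpa using hxy.symm

open Polynomial in
/-- If `A[X]/(f)` is formally unramified over `A` then `f'` is a unit in it. -/
theorem isUnit_deriv_of_unramified (A : Type u) [CommRing A] (f : A[X])
    [Algebra.FormallyUnramified A (AdjoinRoot f)] :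
    IsUnit (aeval (AdjoinRoot.root f) (derivative f)) := by
  have h5 := aux A f (AdjoinRoot f ⧸ Ideal.span {aeval (AdjoinRoot.root f) (derivative f)})
    (Ideal.Quotient.mk _ 1) (by
      rw [← Ideal.Quotient.mk_eq_mk, ← Submodule.Quotient.mk_smul, Ideal.Quotient.mk_eq_mk]
      rw [Ideal.Quotient.eq_zero_iff_mem, smul_eq_mul, mul_one]
      exact Ideal.mem_span_singleton_self _)
  have h6 : (1 : AdjoinRoot f) ∈ Ideal.span {aeval (AdjoinRoot.root f) (derivative f)} :=
    Ideal.Quotient.eq_zero_iff_mem.mp h5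
  rw [Ideal.mem_span_singleton'] at h6
  obtain ⟨a, ha⟩ := h6
  exact IsUnit.of_mul_eq_one a (by rw [mul_comm]; exact ha)

open Polynomial in
/-- the standard étale pair for `X^n - 1` when `n` is invertible. -/
noncomputable def pair (A : Type u) [CommRing A] (n : ℕ) (hn : 1 ≤ n) (u : A) (hu : (n : A) * u = 1) :
    StandardEtalePair A where
  f := X ^ n - 1
  monic_f := by
    have := monic_X_pow_sub_C (1 : A) (n := n) (by omega)
    simpa using this
  g := 1
  cond := by
    refine ⟨C u * X, -1, 0, ?_⟩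
    rw [derivative_sub, derivative_X_pow, derivative_one, sub_zero, pow_zero]
    have hX : (X : A[X]) ^ (n - 1) * X = X ^ n := by
      rw [← pow_succ]
      congr 1
      omega
    have hC : (C (n : A) : A[X]) * C u = 1 := by rw [← C_mul, hu, C_1]
    calc C (n : A) * X ^ (n - 1) * (C u * X) + (X ^ n - 1) * -1
        = (C (n : A) * C u) * (X ^ (n - 1) * X) - (X ^ n - 1) := by ring
      _ = 1 := by rw [hC, hX]; ring

open Polynomial in
/-- The etaleness criterion for the Kummer group scheme: Let A be a commutative ring and n ≥ 1. The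
group scheme μ_n over Spec A is the spectrum of A[t]/(t^n − 1), a free A-module of rank n; it is
etale over A if and only if n is a unit of A (equivalently, n is prime to the characteristic of the
residue field at every point of Spec A). -/
theorem result (A : Type u) [CommRing A] (n : ℕ) (hn : 1 ≤ n) :
    Algebra.Etale A (AdjoinRoot ((X : A[X]) ^ n - 1)) ↔ IsUnit ((n : ℕ) : A) := by
  constructor
  · intro h
    have hunr : Algebra.FormallyUnramified A (AdjoinRoot ((X : A[X]) ^ n - 1)) := inferInstance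
    have hd := isUnit_deriv_of_unramified A ((X : A[X]) ^ n - 1)
    rw [derivative_sub, derivative_X_pow, derivative_one, sub_zero] at hd
    rw [map_mul, aeval_C, map_natCast] at hd
    have hn' : IsUnit ((n : ℕ) : AdjoinRoot ((X : A[X]) ^ n - 1)) := isUnit_of_mul_isUnit_left hd
    let ρ : AdjoinRoot ((X : A[X]) ^ n - 1) →ₐ[A] A :=
      AdjoinRoot.liftAlgHom _ (AlgHom.id A A) 1 (by simp [eval₂_sub, eval₂_pow])
    have := hn'.map ρ
    rwa [map_natCast] at this
  · intro h
    obtain ⟨u, hu⟩ := h.exists_right_inv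
    let P := pair A n hn u hu
    let B := AdjoinRoot ((X : A[X]) ^ n - 1)
    have hroot : aeval (AdjoinRoot.root ((X : A[X]) ^ n - 1)) P.f = 0 := by
      change aeval (AdjoinRoot.root ((X : A[X]) ^ n - 1)) ((X : A[X]) ^ n - 1) = 0
      rw [AdjoinRoot.aeval_eq, AdjoinRoot.mk_self]
    let e1 : P.Ring →ₐ[A] B := P.lift (AdjoinRoot.root _) ⟨hroot, by
      change IsUnit (aeval (AdjoinRoot.root ((X : A[X]) ^ n - 1)) (1 : A[X]))
      rw [map_one]; exact isUnit_one⟩
    let e2 : B →ₐ[A] P.Ring := AdjoinRoot.liftAlgHom _ (Algebra.ofId A P.Ring) P.X P.hasMap_X.1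
    have h12 : e1.comp e2 = AlgHom.id A B := by
      apply AdjoinRoot.algHom_ext
      change e1 (e2 (AdjoinRoot.root _)) = AdjoinRoot.root _
      rw [show e2 (AdjoinRoot.root _) = P.X from AdjoinRoot.liftAlgHom_root _ _ _ _]
      exact P.lift_X _ _
    have h21 : e2.comp e1 = AlgHom.id A P.Ring := by
      apply StandardEtalePair.hom_ext
      change e2 (e1 P.X) = P.X
      rw [show e1 P.X = AdjoinRoot.root _ from P.lift_X _ _]
      exact AdjoinRoot.liftAlgHom_root _ _ _ _
    exact Algebra.Etale.of_equiv (AlgEquiv.ofAlgHom e1 e2 h12 h21)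

end Groth.Agent.S5118
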