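import Groth.Statements.S5119
import Mathlib.Algebra.MonoidAlgebra.MapDomain

set_option autoImplicit false
universe u
open scoped LaurentPolynomial
open SGA1t

namespace Groth.Agent.S5119

theorem mulinj (n : ℕ) (hn : 1 ≤ n) : Function.Injective (fun m : ℤ => (n : ℤ) * m) := by
  intro a b hab
  have h0 : (n : ℤ) ≠ 0 := by exact_mod_cast (Nat.pos_iff_ne_zero.mp hn)
  exact mul_left_cancel₀ h0 hab

/-- coefficient formula -/
theorem coeff_formula (A : Type u) [CommRing A] (n : ℕ) (hn : 1 ≤ n) (c : Fin n → A[T;T⁻¹])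
    (m : ℤ) (i : Fin n) :
    (∑ j : Fin n, (AddMonoidAlgebra.mapDomainRingHom A (AddMonoidHom.mulLeft (n : ℤ)) :
        A[T;T⁻¹] →+* A[T;T⁻¹]) (c j) * LaurentPolynomial.T (j : ℤ)).coeff ((n : ℤ) * m + i)
      = (c i).coeff m := by
  rw [AddMonoidAlgebra.coeff_sum, Finsupp.finsetSum_apply]
  rw [Finset.sum_eq_single i]
  · rw [LaurentPolynomial.T, AddMonoidAlgebra.coeff_mul_single_apply, mul_one]
    rw [AddMonoidAlgebra.mapDomainRingHom_apply, AddMonoidAlgebra.coeff_mapDomain]
    have : (n : ℤ) * m + (i : ℤ) + -(i : ℤ) = (AddMonoidHom.mulLeft (n : ℤ)) m := by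
      simp
    rw [this]
    exact Finsupp.mapDomain_apply (mulinj n hn) _ _
  · intro j _ hji
    rw [LaurentPolynomial.T, AddMonoidAlgebra.coeff_mul_single_apply, mul_one]
    rw [AddMonoidAlgebra.mapDomainRingHom_apply, AddMonoidAlgebra.coeff_mapDomain]
    apply Finsupp.mapDomain_of_notMem_range
    rintro ⟨k, hk⟩
    have hk' : (n : ℤ) * k = (n : ℤ) * m + (i : ℤ) + -(j : ℤ) := by simpa using hk
    have hi := i.2
    have hj := j.2
    have hdvd : (n : ℤ) ∣ (i : ℤ) - (j : ℤ) := ⟨k - m, by linarith [hk']⟩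
    have hne : (i : ℤ) - (j : ℤ) ≠ 0 := by
      intro h
      apply hji
      apply Fin.ext
      omega
    have hlt : |(i : ℤ) - (j : ℤ)| < (n : ℤ) := by
      rw [abs_lt]; constructor <;> omega
    exact hne (Int.eq_zero_of_abs_lt_dvd hdvd hlt)
  · intro h; exact absurd (Finset.mem_univ i) h

/-- The computation behind the exactness of the Kummer sequence 0 → μ_n → G_m → G_m → 0, i.e. faithful
flatness of the n-th power map u_n of G_m: Let A be a commutative ring and n ≥ 1, and let u_n be the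
ring endomorphism of A[t, t⁻¹] with u_n(t) = t^n (on monomials, t^k ↦ t^{nk}). Then A[t, t⁻¹] is
free of rank n over itself via u_n, with basis 1, t, …, t^{n−1}: every Laurent polynomial q can be
written in exactly one way as Σ_{i<n} u_n(c_i) t^i. -/
theorem result (A : Type u) [CommRing A] (n : ℕ) (hn : 1 ≤ n) (q : A[T;T⁻¹]) :
    ∃! c : Fin n → A[T;T⁻¹],
      q = ∑ i : Fin n, (AddMonoidAlgebra.mapDomainRingHom A (AddMonoidHom.mulLeft (n : ℤ)) : A[T;T⁻¹] →+* A[T;T⁻¹]) (c i) *
        LaurentPolynomial.T (i : ℤ) := by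
  have hinj := mulinj n hn
  have hnpos : (0 : ℤ) < n := by exact_mod_cast hn
  have hinj' : ∀ i : Fin n, Function.Injective (fun m : ℤ => (n : ℤ) * m + (i : ℤ)) := by
    intro i a b hab
    apply hinj
    simpa using hab
  refine ⟨fun i => AddMonoidAlgebra.comapDomain (fun m : ℤ => (n : ℤ) * m + (i : ℤ)) (hinj' i) q, ?_, ?_⟩
  · apply AddMonoidAlgebra.coeff_injective
    apply Finsupp.ext
    intro k
    have hk : k = (n : ℤ) * (k / n) + ((⟨(k % n).toNat, by
        have := Int.emod_lt_of_pos k hnpos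
        have := Int.emod_nonneg k (ne_of_gt hnpos)
        omega⟩ : Fin n) : ℤ) := by
      have h1 := Int.emod_nonneg k (ne_of_gt hnpos)
      have h2 := Int.mul_ediv_add_emod k n
      simp only [Int.toNat_of_nonneg h1]
      linarith
    conv_rhs => rw [hk]
    rw [coeff_formula A n hn]
    rw [AddMonoidAlgebra.coeff_comapDomain, Finsupp.comapDomain_apply]
    congr 1
  · intro c' hc'
    funext i
    apply AddMonoidAlgebra.coeff_injective
    apply Finsupp.ext
    intro m
    rw [AddMonoidAlgebra.coeff_comapDomain, Finsupp.comapDomain_apply]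
    rw [hc', coeff_formula A n hn]

end Groth.Agent.S5119
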