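import Groth.Statements.S5120
import Mathlib.Algebra.Polynomial.Div
import Mathlib.Algebra.Polynomial.Inductions
import Mathlib.Algebra.Polynomial.Degree.Lemmas
import Mathlib.Algebra.CharP.Basic

set_option autoImplicit false
universe u
open SGA1t

namespace Groth.Agent.S5120

open Polynomial in
/-- the candidate map. -/
noncomputable def Phi {A : Type u} [CommRing A] (g : A[X]) (d : ℕ) (c : Fin d → A[X]) : A[X] :=
  ∑ i : Fin d, (c i).comp (-g) * X ^ (i : ℕ)

open Polynomial in
/-- remainder part. -/
noncomputable def Rem {A : Type u} [CommRing A] (d : ℕ) (a : Fin d → A) : A[X] :=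
  ∑ i : Fin d, C (a i) * X ^ (i : ℕ)

open Polynomial in
theorem Phi_step {A : Type u} [CommRing A] (g : A[X]) (d : ℕ) (c' : Fin d → A[X]) (a : Fin d → A) :
    Phi g d (fun i => X * c' i + C (a i)) = Rem d a + g * (-(Phi g d c')) := by
  unfold Phi Rem
  simp only [add_comp, mul_comp, X_comp, C_comp, add_mul]
  rw [Finset.sum_add_distrib, add_comm]
  congr 1
  rw [mul_neg, ← neg_mul, Finset.mul_sum]
  apply Finset.sum_congr rfl
  intro i _
  ring

open Polynomial in
theorem Phi_sub {A : Type u} [CommRing A] (g : A[X]) (d : ℕ) (c c' : Fin d → A[X]) :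
    Phi g d (c - c') = Phi g d c - Phi g d c' := by
  unfold Phi
  rw [← Finset.sum_sub_distrib]
  apply Finset.sum_congr rfl
  intro i _
  rw [Pi.sub_apply, sub_comp, sub_mul]

open Polynomial in
theorem coeff_Rem {A : Type u} [CommRing A] (d : ℕ) (a : Fin d → A) (j : ℕ) :
    (Rem d a).coeff j = if h : j < d then a ⟨j, h⟩ else 0 := by
  unfold Rem
  rw [finsetSum_coeff]
  simp only [coeff_C_mul_X_pow]
  split_ifs with h
  · rw [Finset.sum_eq_single ⟨j, h⟩]
    · simp
    · intro b _ hb
      rw [if_neg]
      intro hj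
      apply hb
      apply Fin.ext
      simp [hj]
    · intro h'; exact absurd (Finset.mem_univ _) h'
  · apply Finset.sum_eq_zero
    intro i _
    rw [if_neg]
    intro hj
    apply h
    rw [hj]; exact i.2

open Polynomial in
theorem Rem_eq_zero {A : Type u} [CommRing A] (d : ℕ) (a : Fin d → A) (h : Rem d a = 0) : a = 0 := by
  funext i
  have := coeff_Rem d a i
  rw [h, dif_pos i.2] at this
  simpa using this.symm

open Polynomial in
theorem Rem_surj {A : Type u} [CommRing A] (d : ℕ) (r : A[X]) (hr : r.degree < d) :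
    Rem d (fun i => r.coeff i) = r := by
  ext j
  rw [coeff_Rem]
  split_ifs with h
  · rfl
  · symm
    apply coeff_eq_zero_of_degree_lt
    refine lt_of_lt_of_le hr ?_
    exact_mod_cast (not_lt.mp h)

open Polynomial in
theorem degree_Rem_lt {A : Type u} [CommRing A] (d : ℕ) (a : Fin d → A) : (Rem d a).degree < d :=
  degree_sum_fin_lt a

open Polynomial in
theorem Phi_inj_aux {A : Type u} [CommRing A] (g : A[X]) (hg : g.Monic) (d : ℕ)
    (hd : g.degree = d) :
    ∀ N : ℕ, ∀ c : Fin d → A[X], (∀ i m, N ≤ m → (c i).coeff m = 0) → Phi g d c = 0 → c = 0 := by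
  intro N
  induction N with
  | zero =>
    intro c hc _
    funext i
    ext m
    simpa using hc i m (Nat.zero_le _)
  | succ N ih =>
    intro c hc h0
    have hdecomp : c = fun i => X * divX (c i) + C ((c i).coeff 0) := by
      funext i
      rw [mul_comm]
      exact (divX_mul_X_add (c i)).symm
    rw [hdecomp, Phi_step] at h0
    have huniq := div_modByMonic_unique (f := (0 : A[X])) (g := g)
      (-(Phi g d (fun i => divX (c i)))) (Rem d (fun i => (c i).coeff 0)) hg
      ⟨h0, by rw [hd]; exact degree_Rem_lt _ _⟩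
    rw [zero_divByMonic, zero_modByMonic] at huniq
    have h1 : Phi g d (fun i => divX (c i)) = 0 := by
      have := huniq.1
      rw [eq_comm, neg_eq_zero] at this
      exact this
    have h2 := Rem_eq_zero d _ huniq.2.symm
    have h3 := ih (fun i => divX (c i)) (by
      intro i m hm
      rw [coeff_divX]
      exact hc i (m+1) (by omega)) h1
    rw [hdecomp]
    funext i
    have h3i : divX (c i) = 0 := congrFun h3 i
    have h2i : (c i).coeff 0 = 0 := congrFun h2 i
    simp [h3i, h2i]

open Polynomial in
theorem Phi_inj {A : Type u} [CommRing A] (g : A[X]) (hg : g.Monic) (d : ℕ)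
    (hd : g.degree = d) (c : Fin d → A[X]) (h : Phi g d c = 0) : c = 0 := by
  refine Phi_inj_aux g hg d hd ((Finset.univ.sup fun i => (c i).natDegree) + 1) c ?_ h
  intro i m hm
  apply coeff_eq_zero_of_natDegree_lt
  have : (c i).natDegree ≤ Finset.univ.sup fun i => (c i).natDegree :=
    Finset.le_sup (f := fun i => (c i).natDegree) (Finset.mem_univ i)
  omega

open Polynomial in
theorem Phi_surj {A : Type u} [CommRing A] [Nontrivial A] (g : A[X]) (hg : g.Monic) (d : ℕ)
    (hd : g.natDegree = d) (hd0 : 0 < d) :
    ∀ N : ℕ, ∀ q : A[X], q.natDegree = N → ∃ c : Fin d → A[X], q = Phi g d c := by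
  have hdeg : g.degree = d := by rw [degree_eq_natDegree hg.ne_zero, hd]
  intro N
  induction N using Nat.strong_induction_on with
  | _ N ih =>
    intro q hq
    by_cases hlt : q.natDegree < d
    · refine ⟨fun i => C (q.coeff i), ?_⟩
      have : Phi g d (fun i => C (q.coeff i)) = Rem d (fun i => q.coeff i) := by
        unfold Phi Rem
        simp only [C_comp]
      rw [this, Rem_surj]
      refine lt_of_le_of_lt degree_le_natDegree ?_
      exact_mod_cast hlt
    · have hge : d ≤ q.natDegree := not_lt.mp hlt
      have hnd : (-(q /ₘ g)).natDegree < N := by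
        rw [natDegree_neg, natDegree_divByMonic q hg, hd]
        omega
      obtain ⟨c', hc'⟩ := ih _ hnd (-(q /ₘ g)) rfl
      refine ⟨fun i => X * c' i + C ((q %ₘ g).coeff i), ?_⟩
      rw [Phi_step, ← hc', neg_neg, Rem_surj, modByMonic_add_div]
      rw [← hdeg]
      exact degree_modByMonic_lt q hg

open Polynomial in
theorem general {A : Type u} [CommRing A] [Nontrivial A] (g : A[X]) (hg : g.Monic) (d : ℕ)
    (hd : g.natDegree = d) (hd0 : 0 < d) (q : A[X]) :
    ∃! c : Fin d → A[X], q = Phi g d c := by
  have hdeg : g.degree = d := by rw [degree_eq_natDegree hg.ne_zero, hd]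
  obtain ⟨c, hc⟩ := Phi_surj g hg d hd hd0 _ q rfl
  refine ⟨c, hc, ?_⟩
  intro c' hc'
  have : Phi g d (c' - c) = 0 := by rw [Phi_sub, ← hc, ← hc', sub_self]
  have := Phi_inj g hg d hdeg _ this
  exact sub_eq_zero.mp this

open Polynomial in
/-- The computation behind the exactness of the Artin-Schreier sequence 0 → Z/p → G_a → G_a → 0 in
characteristic p, i.e. faithful flatness of ℘ = id − F: Let p be a prime and A a ring of
characteristic p. Then A[t] is free of rank p over itself via the endomorphism t ↦ t − t^p, with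
basis 1, t, …, t^{p−1}: every polynomial q can be written in exactly one way as Σ_{i<p} c_i(t − t^p)
t^i. -/
theorem result (p : ℕ) [Fact p.Prime] (A : Type u) [CommRing A] [CharP A p]
    (q : A[X]) :
    ∃! c : Fin p → A[X], q = ∑ i : Fin p, aeval (X - X ^ p : A[X]) (c i) * X ^ (i : ℕ) := by
  have hp : p.Prime := Fact.out
  have : Nontrivial A := CharP.nontrivial_of_char_ne_one (R := A) hp.ne_one
  have hmonic : (X ^ p - X : A[X]).Monic := by
    apply monic_X_pow_sub
    rw [degree_X]
    exact_mod_cast hp.one_lt
  have hnat : (X ^ p - X : A[X]).natDegree = p := by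
    have h1 : (X : A[X]).degree < (X ^ p : A[X]).degree := by
      rw [degree_X_pow, degree_X]
      exact_mod_cast hp.one_lt
    rw [natDegree_eq_of_degree_eq (degree_sub_eq_left_of_degree_lt h1), natDegree_X_pow]
  have hgen := general (X ^ p - X : A[X]) hmonic p hnat hp.pos q
  have hconv : ∀ c : Fin p → A[X], Phi (X ^ p - X : A[X]) p c
      = ∑ i : Fin p, aeval (X - X ^ p : A[X]) (c i) * X ^ (i : ℕ) := by
    intro c
    unfold Phi
    apply Finset.sum_congr rfl
    intro i _
    rw [neg_sub, comp_eq_aeval]
  simpa only [hconv] using hgen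

end Groth.Agent.S5120
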