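import Groth.Statements.S5128
import Groth.Agent.Lib.Helper89.EtaleDescent

set_option autoImplicit false
universe u
open SGA1

namespace Groth.Agent.S5128

open AlgebraicGeometry CategoryTheory CategoryTheory.Limits in
/-- Let X and Y be S-schemes with Y etale over S. The map f ↦ Γ_f sending an S-morphism f : X ⟶ Y to the
subset of X ×_S Y underlying its graph is a bijection from Hom_S(X, Y) onto the set of open subsets
Γ of X ×_S Y for which the restriction Γ → X of the first projection is radicial (universally
injective) and surjective. Stated as: the graph of every S-morphism is an open immersion, and every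
such open Γ is the image of the graph of exactly one S-morphism. -/
theorem result {S X Y : Scheme.{u}} (p : X ⟶ S)
    (q : Y ⟶ S) [Etale q] :
    (∀ f : {f : X ⟶ Y // f ≫ q = p},
      IsOpenImmersion (pullback.lift (𝟙 X) f.1 ((Category.id_comp p).trans f.2.symm) : X ⟶ pullback p q)) ∧
    ∀ Γ : (pullback p q).Opens, UniversallyInjective (Γ.ι ≫ pullback.fst p q) → Surjective (Γ.ι ≫ pullback.fst p q) →
      ∃! f : {f : X ⟶ Y // f ≫ q = p},
        Set.range (pullback.lift (𝟙 X) f.1 ((Category.id_comp p).trans f.2.symm) : X ⟶ pullback p q).base =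
          (Γ : Set ↥(pullback p q)) := by
  have hgraph : ∀ f : {f : X ⟶ Y // f ≫ q = p},
      IsOpenImmersion (pullback.lift (𝟙 X) f.1 ((Category.id_comp p).trans f.2.symm) :
        X ⟶ pullback p q) := fun f =>
    Groth.Agent.Lib.Helper89.FEtFF.isOpenImmersion_of_section _ (pullback.fst p q)
      (pullback.lift_fst _ _ _)
  refine ⟨hgraph, ?_⟩
  intro Γ hΓ1 hΓ2
  obtain ⟨r, hr⟩ : ∃ r : (Γ : Scheme.{u}) ⟶ X, r = Γ.ι ≫ pullback.fst p q := ⟨_, rfl⟩
  rw [← hr] at hΓ1 hΓ2
  have : Etale r := by rw [hr]; infer_instance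
  have hd : Surjective (pullback.diagonal r) := (UniversallyInjective.iff_diagonal r).mp hΓ1
  have : IsIso r := Groth.Agent.Lib.Helper89.FEtFF.isIso_of_etale_of_surjective_of_diagonal r
    r.surjective (pullback.diagonal r).surjective
  have hf : (inv r ≫ Γ.ι ≫ pullback.snd p q) ≫ q = p := by
    rw [Category.assoc, Category.assoc, ← pullback.condition, ← Category.assoc Γ.ι, ← hr,
      IsIso.inv_hom_id_assoc]
  have hγ : (pullback.lift (𝟙 X) (inv r ≫ Γ.ι ≫ pullback.snd p q)
      ((Category.id_comp p).trans hf.symm) : X ⟶ pullback p q) = inv r ≫ Γ.ι := by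
    apply pullback.hom_ext
    · rw [pullback.lift_fst, Category.assoc, ← hr, IsIso.inv_hom_id]
    · rw [pullback.lift_snd, Category.assoc]
  have hrange : Set.range (inv r ≫ Γ.ι).base = (Γ : Set ↥(pullback p q)) := by
    rw [← Scheme.Opens.range_ι Γ]
    simp only [Scheme.Hom.comp_base, TopCat.hom_comp, ContinuousMap.coe_comp]
    rw [Set.range_comp, Set.range_eq_univ.mpr (inv r).surjective, Set.image_univ]
  refine ⟨⟨inv r ≫ Γ.ι ≫ pullback.snd p q, hf⟩, ?_, ?_⟩
  · show Set.range (pullback.lift (𝟙 X) (inv r ≫ Γ.ι ≫ pullback.snd p q) _).base = _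
    rw [hγ, hrange]
  · intro f' hf'
    have h1 := hgraph f'
    have h2 := hgraph ⟨inv r ≫ Γ.ι ≫ pullback.snd p q, hf⟩
    have hr' : Set.range (pullback.lift (𝟙 X) f'.1 ((Category.id_comp p).trans f'.2.symm) :
        X ⟶ pullback p q).base = Set.range (pullback.lift (𝟙 X) (inv r ≫ Γ.ι ≫ pullback.snd p q)
          ((Category.id_comp p).trans hf.symm) : X ⟶ pullback p q).base := by
      rw [hf', hγ, hrange]
    have hfac := IsOpenImmersion.isoOfRangeEq_hom_fac _ _ hr'
    have hid : (IsOpenImmersion.isoOfRangeEq _ _ hr').hom = 𝟙 X := by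
      have := congrArg (· ≫ pullback.fst p q) hfac
      simp only [Category.assoc, pullback.lift_fst, Category.comp_id] at this
      exact this
    rw [hid, Category.id_comp] at hfac
    apply Subtype.ext
    have := congrArg (· ≫ pullback.snd p q) hfac
    simp only [pullback.lift_snd] at this
    exact this.symm

end Groth.Agent.S5128
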