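import Groth.Statements.S5136
import Groth.Agent.S4666
import Groth.Agent.S4667
-- import your own Groth.Agent.* helpers here

set_option autoImplicit false
open CategoryTheory CategoryTheory.Limits AlgebraicGeometry
universe u
open SGA1

namespace Groth.Agent.S5136

lemma map_comap_eq_of_flat_of_surjective {X Y : Scheme.{u}} (f : X ⟶ Y) [Flat f] [Surjective f]
    (J : Y.IdealSheafData) : (J.comap f).map f = J := by
  rw [Scheme.IdealSheafData.map, ← Scheme.IdealSheafData.comapIso_hom_fst, Category.assoc,
    pullback.condition, ← Category.assoc, Scheme.Hom.ker_comp]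
  haveI : Flat ((J.comapIso f).hom ≫ pullback.snd f J.subschemeι) := inferInstance
  haveI : Surjective ((J.comapIso f).hom ≫ pullback.snd f J.subschemeι) := inferInstance
  rw [Groth.Agent.S4666.ker_eq_bot_of_flat_of_surjective, Scheme.IdealSheafData.map_bot,
    Scheme.IdealSheafData.ker_subschemeι]

/-- The existence half of the exactness of H(S) ⟶ H(S') ⇉ H(S'') for closed subschemes: for g : S' ⟶ S
flat, surjective and quasi-compact, a quasi-coherent ideal sheaf on S' whose pullbacks along the two
projections of S' ×_S S' agree is the pullback of a quasi-coherent ideal sheaf on S. (Injectivity of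
the pullback of ideal sheaves along g is the other half.) -/
theorem result {S S' : Scheme.{u}} (g : S' ⟶ S) [Flat g] [Surjective g]
    [QuasiCompact g] (J' : S'.IdealSheafData)
    (h : J'.comap (pullback.fst g g) = J'.comap (pullback.snd g g)) :
    ∃ J : S.IdealSheafData, J.comap g = J' := by
  refine ⟨J'.map g, ?_⟩
  set ι' := J'.subschemeι with hι'
  have h1 : (J'.map g).comap g = (pullback.snd (ι' ≫ g) g).ker := by
    rw [Groth.Agent.S4667.result (ι' ≫ g) g]
    rfl
  set e := pullbackRightPullbackFstIso g g ι' with he
  have h2 : pullback.snd (ι' ≫ g) g =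
      (e.inv ≫ pullback.snd ι' (pullback.fst g g)) ≫ pullback.snd g g := by
    rw [Category.assoc, pullbackRightPullbackFstIso_inv_snd_snd]
  have h3 : (e.inv ≫ pullback.snd ι' (pullback.fst g g)).ker = J'.comap (pullback.fst g g) := by
    rw [Scheme.Hom.ker_comp, Scheme.Hom.ker_eq_bot e.inv, Scheme.IdealSheafData.map_bot,
      Groth.Agent.S4667.result ι' (pullback.fst g g), hι', Scheme.IdealSheafData.ker_subschemeι]
  rw [h1, h2, Scheme.Hom.ker_comp, h3, h]
  exact map_comap_eq_of_flat_of_surjective (pullback.snd g g) J'

end Groth.Agent.S5136
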