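import Groth.Statements.S5138
import Groth.Agent.Lib.Helper89.EtaleSource

set_option autoImplicit false
open CategoryTheory AlgebraicGeometry
universe u
open SGA1

namespace Groth.Agent.S5138

/-- For X ⟶ X' ⟶ Y locally of finite type over a locally Noetherian Y and a point x of X, if X ⟶ X' and
the composite X ⟶ Y are both etale near x then X' ⟶ Y is etale near the image of x; 'etale near a
point' is membership in the etale locus, the union of the opens on which the morphism is etale. (The
published statement takes the morphisms of finite type; quasi-compactness plays no role in this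
assertion about single points, so only local finiteness is assumed.) -/
theorem result {X X' Y : Scheme.{u}} (f : X ⟶ X') (g : X' ⟶ Y)
    [IsLocallyNoetherian Y] [LocallyOfFiniteType f] [LocallyOfFiniteType g] (x : X)
    (hf : x ∈ Pi1X.etaleLocus f) (hfg : x ∈ Pi1X.etaleLocus (f ≫ g)) : f.base x ∈ Pi1X.etaleLocus g := by
  unfold Pi1X.etaleLocus at hf hfg ⊢
  rw [TopologicalSpace.Opens.mem_sSup] at hf hfg ⊢
  obtain ⟨U, hU, hxU⟩ := hf
  obtain ⟨U', hU', hxU'⟩ := hfg
  have hU : Etale (Scheme.Opens.ι U ≫ f) := hU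
  have hU' : Etale (Scheme.Opens.ι U' ≫ f ≫ g) := hU'
  -- restrict to the intersection
  let W : X.Opens := U ⊓ U'
  have hW1 : Etale (W.ι ≫ f) := by
    have e : W.ι = X.homOfLE (inf_le_left : W ≤ U) ≫ Scheme.Opens.ι U := (X.homOfLE_ι _).symm
    rw [e, Category.assoc]
    infer_instance
  have hW2 : Etale (W.ι ≫ f ≫ g) := by
    have e : W.ι = X.homOfLE (inf_le_right : W ≤ U') ≫ Scheme.Opens.ι U' := (X.homOfLE_ι _).symm
    rw [e, Category.assoc]
    infer_instance
  have hW2' : Etale ((W.ι ≫ f) ≫ g) := by rwa [Category.assoc]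
  obtain ⟨V, hV, hVet⟩ := Groth.Agent.Lib.Helper89.EtaleSource.exists_opens_etale (W.ι ≫ f) g
  refine ⟨V, hVet, ?_⟩
  show f.base x ∈ (V : Set X')
  rw [hV]
  exact ⟨⟨x, hxU, hxU'⟩, rfl⟩

end Groth.Agent.S5138
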