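import Groth.Statements.S5145
import Groth.Agent.Lib.Helper89.GalUniq

set_option autoImplicit false
universe u v w
open CategoryTheory PreGaloisCategory
open Pi1

namespace Groth.Agent.S5145

open CategoryTheory.Limits in
/-- (iii) ⇒ (i): on a Galois category with fibre functor F, a functor F' to finite sets that preserves
finite limits, preserves binary coproducts and takes nonempty values on non-initial objects is
isomorphic to F (existence of an isomorphism of functors; in particular F' is a fibre functor). -/
theorem result {C : Type u} [Category.{v} C] [GaloisCategory C]
    (F : C ⥤ FintypeCat.{w}) [FiberFunctor F] (F' : C ⥤ FintypeCat.{w}) [PreservesFiniteLimits F']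
    [PreservesColimitsOfShape (Discrete WalkingPair) F']
    (h : ∀ X : C, IsEmpty (F'.obj X) → Nonempty (IsInitial X)) : Nonempty (F' ≅ F) := by
  refine Groth.Agent.Lib.Helper89.GalUniq.nonempty_iso_of_leftExact (F := F) (F' := F') ?_
  intro A hA
  by_contra hne
  obtain ⟨hi⟩ := h A (not_nonempty_iff.mp hne)
  exact IsConnected.notInitial hi

end Groth.Agent.S5145
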