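import Groth.Statements.S5146
import Mathlib.CategoryTheory.Galois.Full

set_option autoImplicit false
universe u v w
open CategoryTheory PreGaloisCategory
open Pi1

namespace Groth.Agent.S5146

open CategoryTheory.Limits in
/-- For an exact functor H : C ⥤ C' of Galois categories with compatible fibre functors F' and F' ∘ H,
the induced homomorphism u of fundamental groups and a pointed connected object (X, a) of C with
stabilizer U of a: the image of u lies in U if and only if H(X) has a section from the final object
of C' sending the point to a. -/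
theorem result {C C' : Type u} [Category.{v} C] [Category.{v} C']
    [GaloisCategory C] [GaloisCategory C'] (H : C ⥤ C') [PreservesFiniteLimits H] [PreservesFiniteColimits H]
    (F' : C' ⥤ FintypeCat.{w}) [FiberFunctor F'] [FiberFunctor (H ⋙ F')] (X : C) [IsConnected X]
    (a : (H ⋙ F').obj X) :
    (Pi1X.autWhisker H F').range ≤ MulAction.stabilizer (Aut (H ⋙ F')) a ↔
      ∃ s : ⊤_ C' ⟶ H.obj X, ∀ t : F'.obj (⊤_ C'), F'.map s t = a := by
  constructor
  · intro h
    have hfix : ∀ σ : Aut F', σ.hom.app (H.obj X) a = a := by
      intro σ
      have hmem : Pi1X.autWhisker H F' σ ∈ (Pi1X.autWhisker H F').range := ⟨σ, rfl⟩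
      have := h hmem
      rw [MulAction.mem_stabilizer_iff] at this
      exact this
    let φ : (functorToAction F').obj (⊤_ C') ⟶ (functorToAction F').obj (H.obj X) :=
      { hom := FintypeCat.homMk (fun _ => a)
        comm := fun σ => by
          ext t
          exact (hfix σ).symm }
    obtain ⟨s, hs⟩ := (functorToAction F').map_surjective φ
    refine ⟨s, fun t => ?_⟩
    have h1 : ((functorToAction F').map s).hom = φ.hom := by rw [hs]
    have h2 := congrArg (fun g : F'.obj (⊤_ C') ⟶ F'.obj (H.obj X) => g t) h1
    exact h2
  · rintro ⟨s, hs⟩ τ ⟨σ, rfl⟩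
    rw [MulAction.mem_stabilizer_iff]
    show σ.hom.app (H.obj X) a = a
    have t : F'.obj (⊤_ C') :=
      ((Limits.terminalIsTerminal (C := C')).isTerminalObj F' (⊤_ C')).from
        (FintypeCat.of PUnit.{w + 1}) PUnit.unit
    have h1 := mulAction_naturality F' σ s t
    rw [mulAction_def, mulAction_def] at h1
    calc σ.hom.app (H.obj X) a = σ.hom.app (H.obj X) (F'.map s t) := by rw [hs t]
      _ = F'.map s (σ.hom.app (⊤_ C') t) := h1
      _ = a := hs _

end Groth.Agent.S5146
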