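import Groth.Statements.S5149
import Groth.Agent.Lib.Helper89.GalOpen

set_option autoImplicit false
universe u v w
open CategoryTheory PreGaloisCategory
open Pi1

namespace Groth.Agent.S5149

open CategoryTheory.Limits in
/-- For exact functors H : C ⥤ C', H' : C' ⥤ C'' of Galois categories with compatible fibre functors and
induced homomorphisms u' and u of fundamental groups, the kernel of u is contained in the image of
u' if and only if every pointed connected object (X', a') of C' for which H'(X') has a section from
the final object through a' admits a morphism from a connected subobject of some H(X). (The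
published statement writes this inclusion as Ker u ⊇ Im u', which is the condition that u ∘ u' be
trivial; this row states Ker u ⊆ Im u', which is what the published argument establishes.) -/
theorem result {C C' C'' : Type u} [Category.{v} C] [Category.{v} C'] [Category.{v} C'']
    [GaloisCategory C] [GaloisCategory C'] [GaloisCategory C'']
    (H : C ⥤ C') [PreservesFiniteLimits H] [PreservesFiniteColimits H]
    (H' : C' ⥤ C'') [PreservesFiniteLimits H'] [PreservesFiniteColimits H']
    (F'' : C'' ⥤ FintypeCat.{w}) [FiberFunctor F''] [FiberFunctor (H' ⋙ F'')] [FiberFunctor (H ⋙ (H' ⋙ F''))] :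
    (Pi1X.autWhisker H (H' ⋙ F'')).ker ≤ (Pi1X.autWhisker H' F'').range ↔
      ∀ (X' : C') (a' : (H' ⋙ F'').obj X'), IsConnected X' →
        (∃ s : ⊤_ C'' ⟶ H'.obj X', ∀ t : F''.obj (⊤_ C''), F''.map s t = a') →
          ∃ (X : C) (Y' : C') (i : Y' ⟶ H.obj X) (q : Y' ⟶ X'), Mono i ∧ IsConnected Y' := by
  constructor
  · intro hle X' a' hX' ⟨s, hs⟩
    have hker : (Pi1X.autWhisker H (H' ⋙ F'')).ker ≤ MulAction.stabilizer (Aut (H' ⋙ F'')) a' := by
      intro τ hτ
      obtain ⟨σ, rfl⟩ := hle hτ
      obtain ⟨t⟩ := Groth.Agent.Lib.Helper89.GalFunctor.nonempty_obj_terminal F''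
      rw [MulAction.mem_stabilizer_iff]
      change σ.hom.app (H'.obj X') a' = a'
      rw [← hs t, FunctorToFintypeCat.naturality F'' F'' σ.hom s t, hs, hs]
    exact Groth.Agent.Lib.Helper89.GalKer.exists_of_ker_le H (H' ⋙ F'') X' a' hker
  · intro hall τ hτ
    by_contra hτR
    have hclosed : IsClosed (((Pi1X.autWhisker H' F'').range : Subgroup (Aut (H' ⋙ F''))) :
        Set (Aut (H' ⋙ F''))) := by
      rw [MonoidHom.coe_range]
      exact (isCompact_range
        (Groth.Agent.Lib.Helper89.GalKer.continuous_autWhisker H' F'')).isClosed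
    obtain ⟨V, hVo, hRV, hτV⟩ :=
      Groth.Agent.Lib.Helper89.GalOpen.exists_open_subgroup_of_not_mem (H' ⋙ F'') _ hclosed τ hτR
    obtain ⟨X', a', hX', hstab⟩ :=
      Groth.Agent.Lib.Helper89.GalOpen.exists_connected_with_stabilizer (H' ⋙ F'') V hVo
    have hfix : ∀ σ : Aut F'', σ.hom.app (H'.obj X') a' = a' := by
      intro σ
      have : Pi1X.autWhisker H' F'' σ ∈ MulAction.stabilizer (Aut (H' ⋙ F'')) a' := by
        rw [hstab]
        exact hRV ⟨σ, rfl⟩
      exact this
    obtain ⟨s, hs⟩ := Groth.Agent.Lib.Helper89.GalOpen.exists_section_of_fixed F'' (H'.obj X') a' hfix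
    obtain ⟨X, Y', i, q, hi, hY'⟩ := hall X' a' hX' ⟨s, hs⟩
    have hq : Function.Surjective ((H' ⋙ F'').map q) :=
      surjective_of_nonempty_fiber_of_isConnected (H' ⋙ F'') q
    have := Groth.Agent.Lib.Helper89.GalKer.ker_smul_eq_of_exists H (H' ⋙ F'') hτ i q hq a'
    apply hτV
    rw [← hstab]
    exact this

end Groth.Agent.S5149
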