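import Groth.Statements.S5153
import Groth.Agent.Lib.Helper48.TopConn
import Groth.Agent.S0335
-- import your own Groth.Agent.* helpers here

set_option autoImplicit false
universe u
open AlgebraicGeometry
open LocCoh

namespace Groth.Agent.S5153

section Aux

open AlgebraicGeometry IsLocalRing Topology TopologicalSpace

variable {X : Scheme.{u}}

/-- The proper generizations of a point whose local ring has depth at least two form a connected
set (Hartshorne). -/
theorem isConnected_generizations [IsLocallyNoetherian X] (x : X)
    (hd : (2 : ℕ∞) ≤ LocCoh.depth (X.presheaf.stalk x) (X.presheaf.stalk x)) :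
    IsConnected {y : X | y ⤳ x ∧ y ≠ x} := by
  have h1 := Groth.Agent.S0335.result (X.presheaf.stalk x) hd
  have h2 := h1.image (X.fromSpecStalk x) (X.fromSpecStalk x).continuous.continuousOn
  convert h2 using 1
  ext y
  constructor
  · rintro ⟨hyx, hne⟩
    have hy : y ∈ Set.range (X.fromSpecStalk x) := by
      rw [Scheme.range_fromSpecStalk]; exact hyx
    obtain ⟨p, rfl⟩ := hy
    refine ⟨p, ?_, rfl⟩
    intro hp
    apply hne
    have hpc : p = closedPoint (X.presheaf.stalk x) := PrimeSpectrum.ext hp
    rw [hpc, Scheme.fromSpecStalk_closedPoint]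
  · rintro ⟨p, hp, rfl⟩
    refine ⟨?_, ?_⟩
    · have hr : X.fromSpecStalk x p ∈ Set.range (X.fromSpecStalk x) := ⟨p, rfl⟩
      rw [Scheme.range_fromSpecStalk] at hr
      exact hr
    · intro heq
      apply hp
      have hinj : Function.Injective (X.fromSpecStalk x) :=
        (X.fromSpecStalk x).isEmbedding.injective
      have hpc : p = closedPoint (X.presheaf.stalk x) :=
        hinj (heq.trans Scheme.fromSpecStalk_closedPoint.symm)
      exact congrArg PrimeSpectrum.asIdeal hpc

/-- Every point has a generization in `U`. -/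
theorem exists_generization_mem [IsLocallyNoetherian X] (U : X.Opens)
    (h : ∀ x : X, x ∉ (U : Set X) →
      (2 : ℕ∞) ≤ LocCoh.depth (X.presheaf.stalk x) (X.presheaf.stalk x)) (x0 : X) :
    ∃ η : X, η ∈ (U : Set X) ∧ η ⤳ x0 := by
  obtain ⟨η, hη0, hmax⟩ := Groth.Agent.Lib.Helper48.TopConn.exists_max_generization_univ x0
  refine ⟨η, ?_, hη0⟩
  by_contra hηU
  obtain ⟨y, hyη, hne⟩ := (isConnected_generizations η (h η hηU)).nonempty
  exact hne (hmax y hyη)

theorem exists_noetherian_nhd [IsLocallyNoetherian X] (x : X) (N : Set X) (hN : IsOpen N)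
    (hx : x ∈ N) : ∃ V : Set X, IsOpen V ∧ x ∈ V ∧ V ⊆ N ∧ NoetherianSpace ↥V := by
  obtain ⟨_, ⟨V, hVaff, rfl⟩, hxV, hVN⟩ :=
    X.isBasis_affineOpens.exists_subset_of_mem_open hx hN
  haveI : IsNoetherianRing Γ(X, V) := IsLocallyNoetherian.component_noetherian ⟨V, hVaff⟩
  exact ⟨(V : Set X), V.isOpen, hxV, hVN, noetherianSpace_of_isAffineOpen V hVaff⟩

theorem exists_specializes_of_mem_closure [IsLocallyNoetherian X] (W : Set X) (hW : IsOpen W)
    (x : X) (hx : x ∈ closure W) : ∃ w ∈ W, w ⤳ x := by
  obtain ⟨V, hVopen, hxV, -, hVnoeth⟩ := exists_noetherian_nhd x Set.univ isOpen_univ trivial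
  haveI := hVnoeth
  exact Groth.Agent.Lib.Helper48.TopConn.exists_specializes_of_mem_closure V hVopen W hW x hxV hx

end Aux

/-- Let X be a locally Noetherian scheme and Y = X − U a closed subset such that depth O_{X,x} ≥ 2 for
every x ∈ Y. Then the inclusion U → X induces a bijection on sets of connected components. -/
theorem result (X : Scheme.{u}) [IsLocallyNoetherian X] (U : X.Opens) (h : ∀ x : X, x ∉ (U : Set X) → (2 : ℕ∞) ≤ LocCoh.depth (X.presheaf.stalk x) (X.presheaf.stalk x)) : Function.Bijective (Continuous.connectedComponentsMap (continuous_subtype_val : Continuous (fun x : U => (x : X)))) := by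
  classical
  have hT3 := exists_generization_mem U h
  have hdense : ∀ x : X, x ∈ closure (U : Set X) := fun x => by
    obtain ⟨η, hηU, hηx⟩ := hT3 x
    exact closure_mono (Set.singleton_subset_iff.mpr hηU) hηx.mem_closure
  haveI hlc : LocallyConnectedSpace X :=
    Groth.Agent.Lib.Helper48.TopConn.locallyConnectedSpace_of_noetherian_basis
      (fun x N hN hx => exists_noetherian_nhd x N hN hx)
  haveI hlcU : LocallyConnectedSpace ↥U := U.isOpen.locallyConnectedSpace
  constructor
  · -- injectivity
    intro c1 c2 hc
    obtain ⟨a, rfl⟩ := ConnectedComponents.surjective_coe c1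
    obtain ⟨b, rfl⟩ := ConnectedComponents.surjective_coe c2
    have hab : (a : X) ∈ connectedComponent (b : X) := ConnectedComponents.coe_eq_coe'.mp hc
    rw [ConnectedComponents.coe_eq_coe']
    have hTopen : IsOpen (connectedComponent b) := isOpen_connectedComponent
    have hTclosed : IsClosed (connectedComponent b) := isClosed_connectedComponent
    set W : Set X := Subtype.val '' (connectedComponent b) with hWdef
    set W' : Set X := Subtype.val '' (connectedComponent b)ᶜ with hW'def
    have hWopen : IsOpen W := U.isOpen.isOpenMap_subtype_val _ hTopen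
    have hW'open : IsOpen W' := U.isOpen.isOpenMap_subtype_val _ hTclosed.isOpen_compl
    have hdisj : Disjoint W W' := by
      rw [Set.disjoint_left]
      rintro _ ⟨y, hy, rfl⟩ ⟨z, hz, hzy⟩
      have hzy' : z = y := Subtype.ext hzy
      exact hz (hzy' ▸ hy)
    have hunion : (U : Set X) = W ∪ W' := by
      ext y; constructor
      · intro hy
        by_cases hyT : (⟨y, hy⟩ : U) ∈ connectedComponent b
        · exact Or.inl ⟨⟨y, hy⟩, hyT, rfl⟩
        · exact Or.inr ⟨⟨y, hy⟩, hyT, rfl⟩
      · rintro (⟨z, -, rfl⟩ | ⟨z, -, rfl⟩) <;> exact z.2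
    have hWU : W ⊆ (U : Set X) := by rw [hunion]; exact Set.subset_union_left
    have hW'U : W' ⊆ (U : Set X) := by rw [hunion]; exact Set.subset_union_right
    have hcover : closure W ∪ closure W' = Set.univ := by
      rw [← closure_union, ← hunion]; exact Set.eq_univ_of_forall hdense
    have hkey : closure W ∩ closure W' = ∅ := by
      by_contra hne
      obtain ⟨x0, hx0⟩ := Set.nonempty_iff_ne_empty.mpr hne
      obtain ⟨x, hxF, -, hmax⟩ := Groth.Agent.Lib.Helper48.TopConn.exists_max_generization
        (closure W ∩ closure W') (isClosed_closure.inter isClosed_closure) x0 hx0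
      have hxU : x ∉ (U : Set X) := by
        intro hxU
        rw [hunion] at hxU
        rcases hxU with hxW | hxW'
        · exact Set.disjoint_left.mp (hdisj.symm.closure_left hWopen) hxF.2 hxW
        · exact Set.disjoint_left.mp (hdisj.closure_left hW'open) hxF.1 hxW'
      have hconn := isConnected_generizations x (h x hxU)
      obtain ⟨w, hwW, hwx⟩ := exists_specializes_of_mem_closure W hWopen x hxF.1
      obtain ⟨w', hw'W', hw'x⟩ := exists_specializes_of_mem_closure W' hW'open x hxF.2
      have hwne : w ≠ x := fun e => hxU (e ▸ hWU hwW)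
      have hw'ne : w' ≠ x := fun e => hxU (e ▸ hW'U hw'W')
      obtain ⟨y, ⟨hyx, hyne⟩, hy1, hy2⟩ := isPreconnected_closed_iff.mp hconn.isPreconnected
        (closure W) (closure W') isClosed_closure isClosed_closure
        (by intro y _; rw [hcover]; trivial)
        ⟨w, ⟨hwx, hwne⟩, subset_closure hwW⟩ ⟨w', ⟨hw'x, hw'ne⟩, subset_closure hw'W'⟩
      exact hyne (hmax y ⟨hy1, hy2⟩ hyx)
    have hclopen : IsClopen (closure W) := by
      refine ⟨isClosed_closure, ?_⟩
      have heq : closure W = (closure W')ᶜ := by
        ext y; constructor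
        · intro hy hy'
          have hyy : y ∈ closure W ∩ closure W' := ⟨hy, hy'⟩
          rw [hkey] at hyy
          exact hyy
        · intro hy
          have hyy : y ∈ closure W ∪ closure W' := by rw [hcover]; trivial
          exact hyy.resolve_right hy
      rw [heq]; exact isClosed_closure.isOpen_compl
    have hbW : (b : X) ∈ closure W := subset_closure ⟨b, mem_connectedComponent, rfl⟩
    have hsub : connectedComponent (b : X) ⊆ closure W := hclopen.connectedComponent_subset hbW
    have haW : (a : X) ∈ closure W := hsub hab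
    by_contra haT
    have haW' : (a : X) ∈ W' := ⟨a, haT, rfl⟩
    exact Set.disjoint_left.mp (hdisj.closure_left hW'open) haW haW'
  · -- surjectivity
    intro c
    obtain ⟨x, rfl⟩ := ConnectedComponents.surjective_coe c
    obtain ⟨η, hηU, hηx⟩ := hT3 x
    refine ⟨ConnectedComponents.mk ⟨η, hηU⟩, ?_⟩
    show ((η : X) : ConnectedComponents X) = x
    rw [ConnectedComponents.coe_eq_coe']
    exact (isConnected_singleton.closure.isPreconnected.subset_connectedComponent
      hηx.mem_closure) (subset_closure rfl)

end Groth.Agent.S5153
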