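import Groth.Statements.S5155
import Groth.Agent.Lib.Helper2.InjHull3
import Groth.Agent.S5170
-- import your own Groth.Agent.* helpers here

set_option autoImplicit false
universe u
open Matlis

namespace Groth.Agent.S5155

open IsLocalRing Groth.Agent.Lib.Helper2 in
/-- Converse: an injective `m`-power torsion module with `Hom(k, E)` simple is a hull of `k`. -/
theorem exists_hull_of_simple (A : Type u) [CommRing A] [IsLocalRing A]
    (E : Type u) [AddCommGroup E] [Module A E] (hinj : Module.Injective A E)
    (htors : LocCoh.IsPowerTorsion (IsLocalRing.maximalIdeal A) E)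
    (hsimple : IsSimpleModule A (IsLocalRing.ResidueField A →ₗ[A] E)) :
    ∃ f : IsLocalRing.ResidueField A →ₗ[A] E, InjHull.IsInjectiveHull f := by
  rw [isSimpleModule_iff_toSpanSingleton_surjective] at hsimple
  obtain ⟨hnt, hsurj⟩ := hsimple
  obtain ⟨f₀, hf₀⟩ := exists_ne (0 : IsLocalRing.ResidueField A →ₗ[A] E)
  have hone : ∀ a : A, IsLocalRing.residue A a = a • (1 : IsLocalRing.ResidueField A) := by
    intro a
    rw [Algebra.smul_def, mul_one]; rfl
  have hext : ∀ g h : IsLocalRing.ResidueField A →ₗ[A] E, g 1 = h 1 → g = h := by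
    intro g h hgh
    ext x
    obtain ⟨a, rfl⟩ := IsLocalRing.residue_surjective x
    rw [hone, map_smul, map_smul, hgh]
  have hf₀1 : f₀ 1 ≠ 0 := by
    intro h
    apply hf₀
    apply hext
    rw [h]; rfl
  refine ⟨f₀, isInjectiveHull_mk ?_ ?_ hinj⟩
  · rw [injective_iff_map_eq_zero]
    intro x hx
    by_contra hx0
    obtain ⟨a, ha⟩ := IsLocalRing.residue_surjective x⁻¹
    apply hf₀1
    have : (1 : IsLocalRing.ResidueField A) = a • x := by
      rw [Algebra.smul_def]
      change 1 = IsLocalRing.residue A a * x
      rw [ha, inv_mul_cancel₀ hx0]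
    rw [this, map_smul, hx, smul_zero]
  · intro e he
    obtain ⟨r, hr0, hr⟩ := essIn_socle_of_isPowerTorsion (IsLocalRing.maximalIdeal A) htors e
      Submodule.mem_top he
    refine ⟨r, hr0, ?_⟩
    -- `s = r • e` lies in the socle
    have hs : ∀ a ∈ IsLocalRing.maximalIdeal A, a • (r • e) = 0 := by
      intro a ha
      have := (Submodule.mem_torsionBySet_iff _ _).mp hr ⟨a, ha⟩
      exact this
    have hle : (IsLocalRing.maximalIdeal A : Submodule A A) ≤
        LinearMap.ker (LinearMap.toSpanSingleton A E (r • e)) := by
      intro a ha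
      rw [LinearMap.mem_ker, LinearMap.toSpanSingleton_apply]
      exact hs a ha
    let h₀ : (A ⧸ IsLocalRing.maximalIdeal A) →ₗ[A] E :=
      Submodule.liftQ (IsLocalRing.maximalIdeal A) (LinearMap.toSpanSingleton A E (r • e)) hle
    let h : IsLocalRing.ResidueField A →ₗ[A] E := h₀
    have hh1 : h 1 = r • e := by
      change h₀ (Submodule.Quotient.mk (1 : A)) = r • e
      rw [Submodule.liftQ_apply, LinearMap.toSpanSingleton_apply, one_smul]
    obtain ⟨a, ha⟩ := hsurj f₀ hf₀ h
    refine ⟨a • (1 : IsLocalRing.ResidueField A), ?_⟩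
    rw [map_smul, ← hh1, ← ha]
    rfl

/-- Let A be a Noetherian local ring with residue field k. An A-module E is an injective hull of k if
and only if E is injective, E is m-power torsion, and Hom_A(k, E) is simple (one-dimensional over
k). (The torsion condition is needed: for a prime p ≠ m the module E(k) ⊕ E(A/p) is injective with
Hom_A(k, −) simple, represents the same functor on modules of finite length, and is not an injective
hull of k; the published definition of a dualizing module leaves this condition implicit and the
published proof uses it.) -/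
theorem result (A : Type u) [CommRing A] [IsLocalRing A] [IsNoetherianRing A] (E : Type u) [AddCommGroup E] [Module A E] : (∃ f : IsLocalRing.ResidueField A →ₗ[A] E, InjHull.IsInjectiveHull f) ↔ (Module.Injective A E ∧ LocCoh.IsPowerTorsion (IsLocalRing.maximalIdeal A) E ∧ IsSimpleModule A (IsLocalRing.ResidueField A →ₗ[A] E)) := by
  constructor
  · rintro ⟨f, hf⟩
    exact ⟨hf.isInjective, Groth.Agent.Lib.Helper2.isPowerTorsion_of_isInjectiveHull f hf,
      Groth.Agent.S5170.isSimple_hom_residue f hf.toIsEssentialInj⟩
  · rintro ⟨hinj, htors, hsimple⟩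
    exact exists_hull_of_simple A E hinj htors hsimple

end Groth.Agent.S5155
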