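import Groth.Statements.S5164
-- import your own Groth.Agent.* helpers here
import Groth.Agent.Lib.Helper41.RelCodim
import Groth.Agent.Lib.Helper41.GorTransfer

set_option autoImplicit false
universe u
open LocCoh

namespace Groth.Agent.S5164

/-- Affine form. Let A be a Noetherian ring which is a quotient of a regular ring, I an ideal, M a
finite A-module and i ≥ 0; c(p) denotes the codimension of V(p) ∩ V(I) in V(p). Then the hypothesis
of the finiteness criterion — H^{i−c(p)}_{pA_p}(M_p) = 0 for all primes p ⊉ I — is equivalent to its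
codimension-one case: H^{i−1}_{pA_p}(M_p) = 0 for all primes p ⊉ I with c(p) = 1. -/
theorem result (R : Type u) [CommRing R] [IsRegularRing R] (A : Type u) [CommRing A] [IsNoetherianRing A] (π : R →+* A) (hπ : Function.Surjective π) (I : Ideal A) (M : Type u) [AddCommGroup M] [Module A M] [Module.Finite A M] (i : ℕ) : (∀ p : PrimeSpectrum A, ¬ I ≤ p.asIdeal → ∀ (c j : ℕ), SGA2.relCodim I p = c → j + c = i → Subsingleton (LocCoh.H (IsLocalRing.maximalIdeal (Localization.AtPrime p.asIdeal)) j (LocalizedModule p.asIdeal.primeCompl M))) ↔ (∀ p : PrimeSpectrum A, ¬ I ≤ p.asIdeal → SGA2.relCodim I p = 1 → ∀ j : ℕ, j + 1 = i → Subsingleton (LocCoh.H (IsLocalRing.maximalIdeal (Localization.AtPrime p.asIdeal)) j (LocalizedModule p.asIdeal.primeCompl M))) := by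
  constructor
  · intro h p hp hc j hj
    exact h p hp 1 j (by rw [hc]; rfl) hj
  · intro h p hp c j hc hj
    have hc1 : 1 ≤ c := by
      have := Groth.Agent.Lib.Helper41.RelCodim.one_le_relCodim I p hp
      rw [hc] at this
      exact_mod_cast this
    obtain ⟨k, rfl⟩ : ∃ k, c = k + 1 := ⟨c - 1, by omega⟩
    obtain ⟨p', q, hpp', -, -, hnI, hrel, hht⟩ :=
      Groth.Agent.Lib.Helper41.RelCodim.exists_covBy_of_relCodim_eq I p k hc
    have h1 := h p' hnI hrel (j + k) (by omega)
    haveI : LocCoh.IsGorensteinRing R :=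
      ⟨fun P _ => Groth.Agent.S0342.result (Localization.AtPrime P)⟩
    letI : Algebra R A := π.toAlgebra
    letI : Module R M := Module.compHom M π
    haveI : IsScalarTower R A M := IsScalarTower.of_algebraMap_smul fun _ _ => rfl
    have hk : (p'.asIdeal.map (Ideal.Quotient.mk p.asIdeal)).height = k := by
      rw [← Groth.Agent.Lib.Helper41.RelCodim.height_Ici_eq p p' hpp', hht]
    exact Groth.Agent.Lib.Helper41.GorTransfer.subsingleton_H_of_le R A hπ M p.asIdeal p'.asIdeal
      hpp' k hk j h1

end Groth.Agent.S5164
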