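import Groth.Statements.S5166
import Mathlib
import Groth.Agent.S3433
-- import your own Groth.Agent.* helpers here

set_option autoImplicit false
universe u
open LocCoh

namespace Groth.Agent.S5166

/-- In its local form at a point y ∈ Y (A = O_{X,y}). Let A be a Noetherian local ring and I ≠ A an
ideal contained in no minimal prime of A. Then some prime p ⊉ I has dim A/p = 1. -/
theorem result (A : Type u) [CommRing A] [IsLocalRing A] [IsNoetherianRing A] (I : Ideal A) (hI : I ≠ ⊤) (hdense : ∀ q ∈ minimalPrimes A, ¬ I ≤ q) : ∃ p : PrimeSpectrum A, ¬ I ≤ p.asIdeal ∧ ringKrullDim (A ⧸ p.asIdeal) = 1 := by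
  obtain ⟨hJ, hcl⟩ := Groth.Agent.S3433.result A
  haveI := hJ
  obtain ⟨q, hq⟩ := (⊥ : Ideal A).nonempty_minimalPrimes bot_ne_top
  have hqI : ¬ I ≤ q := hdense q hq
  have hqp : q.IsPrime := Ideal.minimalPrimes_isPrime hq
  have hIm : I ≤ IsLocalRing.maximalIdeal A := IsLocalRing.le_maximalIdeal hI
  have hZo : IsOpen ((Subtype.val ⁻¹' (PrimeSpectrum.zeroLocus (I : Set A))ᶜ :
      Set ↥({IsLocalRing.closedPoint A}ᶜ : Set (PrimeSpectrum A)))) :=
    ((PrimeSpectrum.isClosed_zeroLocus _).isOpen_compl).preimage continuous_subtype_val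
  have hqY : (⟨q, hqp⟩ : PrimeSpectrum A) ∈
      ({IsLocalRing.closedPoint A}ᶜ : Set (PrimeSpectrum A)) := by
    intro h
    have h2 : q = IsLocalRing.maximalIdeal A := congrArg PrimeSpectrum.asIdeal h
    exact hqI (h2 ▸ hIm)
  have hZne : ((Subtype.val ⁻¹' (PrimeSpectrum.zeroLocus (I : Set A))ᶜ :
      Set ↥({IsLocalRing.closedPoint A}ᶜ : Set (PrimeSpectrum A)))).Nonempty :=
    ⟨⟨⟨q, hqp⟩, hqY⟩, fun h => hqI (SetLike.coe_subset_coe.mp
      ((PrimeSpectrum.mem_zeroLocus _ _).mp h))⟩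
  obtain ⟨⟨p, hpY⟩, hpZ, hpc⟩ := nonempty_inter_closedPoints hZne hZo.isLocallyClosed
  refine ⟨p, fun h => hpZ ((PrimeSpectrum.mem_zeroLocus _ _).mpr
    (SetLike.coe_subset_coe.mpr h)), (hcl ⟨p, hpY⟩).mp hpc⟩

end Groth.Agent.S5166
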