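import Groth.Statements.S5167
-- import your own Groth.Agent.* helpers here
import Groth.Agent.S2934
import Groth.Agent.Lib.Helper41.DepthVanish

set_option autoImplicit false
universe u
open LocCoh

namespace Groth.Agent.S5167

/-- Let A be a Noetherian local ring which is a quotient of a regular local ring, m its maximal ideal, M
a finite A-module and n ≥ 0. Then H^i_m(M) is of finite length for all i ≤ n if and only if
depth(M_p) > n − dim(A/p) for every prime p ≠ m. -/
theorem result (R : Type u) [CommRing R] [IsRegularLocalRing R] (A : Type u) [CommRing A] [IsLocalRing A] [IsNoetherianRing A] (π : R →+* A) (hπ : Function.Surjective π) (M : Type u) [AddCommGroup M] [Module A M] [Module.Finite A M] (n : ℕ) : (∀ i : ℕ, i ≤ n → IsFiniteLength A (LocCoh.H (IsLocalRing.maximalIdeal A) i M)) ↔ ∀ p : PrimeSpectrum A, p.asIdeal ≠ IsLocalRing.maximalIdeal A → ∀ e : ℕ, ringKrullDim (A ⧸ p.asIdeal) = e → (n : ℕ∞) < LocCoh.depth (Localization.AtPrime p.asIdeal) (LocalizedModule p.asIdeal.primeCompl M) + e := by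
  constructor
  · intro h p hp e he
    by_contra hlt
    rw [not_lt] at hlt
    have htop : LocCoh.depth (Localization.AtPrime p.asIdeal)
        (LocalizedModule p.asIdeal.primeCompl M) ≠ ⊤ := by
      intro htop
      rw [htop, top_add] at hlt
      exact absurd hlt (not_le.mpr (ENat.natCast_lt_top n))
    obtain ⟨t, ht⟩ := ENat.ne_top_iff_exists.mp htop
    rw [← ht] at hlt
    have hte : t + e ≤ n := by exact_mod_cast hlt
    have h1 := (Groth.Agent.S2934.result R A π hπ M (t + e)).mp (h (t + e) hte) p hp e t he rfl
    have h2 := (Groth.Agent.Lib.Helper41.LC.depth_atPrime_eq_iff p.asIdeal M t).mp ht.symm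
    exact h2.2 ((Groth.Agent.Lib.Helper41.LC.lz_H_iff p.asIdeal M t).mpr h1)
  · intro h i hi
    rw [Groth.Agent.S2934.result R A π hπ M i]
    intro p hp e j he hj
    have h1 := h p hp e he
    apply Groth.Agent.Lib.Helper41.DepthVanish.subsingleton_H_of_lt_depth
    by_cases htop : LocCoh.depth (Localization.AtPrime p.asIdeal)
        (LocalizedModule p.asIdeal.primeCompl M) = ⊤
    · rw [htop]; exact ENat.natCast_lt_top j
    · obtain ⟨t, ht⟩ := ENat.ne_top_iff_exists.mp htop
      rw [← ht] at h1 ⊢
      have : n < t + e := by exact_mod_cast h1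
      have : j < t := by omega
      exact_mod_cast this

end Groth.Agent.S5167
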