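import Groth.Statements.S5171
-- import your own Groth.Agent.* helpers here
import Groth.Agent.Lib.Helper41.Grade

set_option autoImplicit false
universe u
open LocCoh

namespace Groth.Agent.S5171

/-- Let A be a Noetherian ring, J an ideal, n ≥ 0 and G a finite Cohen–Macaulay A-module (each
localization G_p is zero or Cohen–Macaulay). Then H^i_J(G) = 0 for i < n if and only if codim(V(J) ∩
Supp G, Supp G) ≥ n, i.e. dim Supp(G_p) ≥ n for every p ∈ V(J) ∩ Supp G. -/
theorem result (A : Type u) [CommRing A] [IsNoetherianRing A] (J : Ideal A) (G : Type u) [AddCommGroup G] [Module A G] [Module.Finite A G] (hCM : ∀ p : PrimeSpectrum A, Subsingleton (LocalizedModule p.asIdeal.primeCompl G) ∨ LocCoh.IsCohenMacaulayModule (Localization.AtPrime p.asIdeal) (LocalizedModule p.asIdeal.primeCompl G)) (n : ℕ) : (∀ i : ℕ, i < n → Subsingleton (LocCoh.H J i G)) ↔ ∀ p : PrimeSpectrum A, J ≤ p.asIdeal → p ∈ Module.support A G → (n : WithBot ℕ∞) ≤ Module.supportDim (Localization.AtPrime p.asIdeal) (LocalizedModule p.asIdeal.primeCompl G) := by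
  rw [Groth.Agent.Lib.Helper41.LC.subsingleton_H_iff_le_depth J G n]
  refine forall_congr' fun p => forall_congr' fun hJp => forall_congr' fun hp => ?_
  have hnt : ¬ Subsingleton (LocalizedModule p.asIdeal.primeCompl G) := by
    rw [Module.mem_support_iff] at hp
    exact not_subsingleton_iff_nontrivial.2 hp
  rcases hCM p with h | h
  · exact absurd h hnt
  · unfold LocCoh.IsCohenMacaulayModule at h
    rw [h]
    have hc : (n : WithBot ℕ∞) = ((n : ℕ∞) : WithBot ℕ∞) := rfl
    rw [hc, WithBot.coe_le_coe]

end Groth.Agent.S5171
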