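import Groth.Statements.S5175
import Mathlib
import Groth.Agent.Lib.Helper32.Matlis
-- import your own Groth.Agent.* helpers here

set_option autoImplicit false
universe u
open Matlis

namespace Groth.Agent.S5175


open CategoryTheory IsLocalRing Groth.Agent.Lib.Helper32

section coext

variable (k₀ : Type u) [Field k₀] (A : Type u) [CommRing A] [Algebra k₀ A]

noncomputable abbrev HH := ((ModuleCat.coextendScalars (algebraMap k₀ A)).obj (ModuleCat.of k₀ k₀))

/-- identity equivalence between `A` with restricted scalars and `A` as a `k₀`-module. -/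
noncomputable def eA :
    ((ModuleCat.restrictScalars (algebraMap k₀ A)).obj (ModuleCat.of A A)) ≃ₗ[k₀] A where
  toFun x := x
  invFun x := x
  map_add' _ _ := rfl
  map_smul' r x := by
    have h : ∀ y : A, algebraMap k₀ A r • y = r • y := fun y => by
      rw [Algebra.smul_def r y, smul_eq_mul]
    exact h x
  left_inv _ := rfl
  right_inv _ := rfl

/-- build element of coextension from a `k₀`-linear form on `A`. -/
noncomputable def mkH (g : A →ₗ[k₀] k₀) : HH k₀ A :=
  (ModuleCat.CoextendScalars.equiv (algebraMap k₀ A) (ModuleCat.of k₀ k₀)).symm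
    (g.comp (eA k₀ A).toLinearMap)

/-- read an element of the coextension as a linear form on `A`. -/
noncomputable def rdH (h : HH k₀ A) : A →ₗ[k₀] k₀ :=
  ((ModuleCat.CoextendScalars.equiv (algebraMap k₀ A) (ModuleCat.of k₀ k₀)) h).comp
    (eA k₀ A).symm.toLinearMap

theorem rdH_mkH (g : A →ₗ[k₀] k₀) : rdH k₀ A (mkH k₀ A g) = g := by
  ext x; rfl

theorem mkH_rdH (h : HH k₀ A) : mkH k₀ A (rdH k₀ A h) = h := rfl

theorem rdH_smul (a : A) (h : HH k₀ A) (x : A) : rdH k₀ A (a • h) x = rdH k₀ A h (x * a) := rfl

theorem rdH_add (h h' : HH k₀ A) : rdH k₀ A (h + h') = rdH k₀ A h + rdH k₀ A h' := rfl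

theorem rdH_zero : rdH k₀ A (0 : HH k₀ A) = 0 := rfl

theorem rdH_injective : Function.Injective (rdH k₀ A) := by
  intro h h' hh
  rw [← mkH_rdH k₀ A h, ← mkH_rdH k₀ A h', hh]

theorem coext_injective : Module.Injective A (HH k₀ A) := by
  have h0 : Module.Injective k₀ k₀ := Module.injective_of_isSemisimpleRing k₀ k₀
  have h1 : CategoryTheory.Injective (ModuleCat.of k₀ k₀) :=
    Module.injective_object_of_injective_module k₀ k₀
  have h2 : CategoryTheory.Injective
      ((ModuleCat.coextendScalars (algebraMap k₀ A)).obj (ModuleCat.of k₀ k₀)) :=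
    Injective.injective_of_adjoint (ModuleCat.restrictCoextendScalarsAdj (algebraMap k₀ A)) _
  exact Module.injective_module_of_injective_object A _

end coext


section main

variable (k₀ : Type u) [Field k₀] (A : Type u) [CommRing A] [IsLocalRing A] [Algebra k₀ A]

/-- the residue map as a `k₀`-linear map -/
noncomputable def resLin : A →ₗ[k₀] ResidueField A :=
  (IsScalarTower.toAlgHom k₀ A (ResidueField A)).toLinearMap

theorem resLin_apply (x : A) : resLin k₀ A x = residue A x := rfl

theorem resLin_surjective : Function.Surjective (resLin k₀ A) := IsLocalRing.residue_surjective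

/-- the form `x ↦ l (c * residue x)` -/
noncomputable def gform (l : ResidueField A →ₗ[k₀] k₀) (c : ResidueField A) : A →ₗ[k₀] k₀ :=
  l ∘ₗ LinearMap.mulLeft k₀ c ∘ₗ resLin k₀ A

theorem gform_apply (l : ResidueField A →ₗ[k₀] k₀) (c : ResidueField A) (x : A) :
    gform k₀ A l c x = l (c * residue A x) := rfl

noncomputable def f0 (l : ResidueField A →ₗ[k₀] k₀) : ResidueField A →ₗ[A] HH k₀ A where
  toFun c := mkH k₀ A (gform k₀ A l c)
  map_add' c c' := by
    apply rdH_injective
    rw [rdH_add, rdH_mkH, rdH_mkH, rdH_mkH]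
    ext x
    simp only [gform_apply, LinearMap.add_apply, add_mul, map_add]
  map_smul' a c := by
    apply rdH_injective
    ext x
    rw [RingHom.id_apply, rdH_smul, rdH_mkH, rdH_mkH, gform_apply, gform_apply]
    congr 1
    rw [Algebra.smul_def, (residue A).map_mul]
    have : algebraMap A (ResidueField A) a = residue A a := rfl
    rw [this]
    ring

theorem rdH_f0 (l : ResidueField A →ₗ[k₀] k₀) (c : ResidueField A) (x : A) :
    rdH k₀ A (f0 k₀ A l c) x = l (c * residue A x) := by
  show rdH k₀ A (mkH k₀ A (gform k₀ A l c)) x = _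
  rw [rdH_mkH, gform_apply]

theorem f0_injective (l : ResidueField A →ₗ[k₀] k₀) (hl : l 1 = 1) :
    Function.Injective (f0 k₀ A l) := by
  rw [injective_iff_map_eq_zero]
  intro c hc
  by_contra hc0
  obtain ⟨x, hx⟩ := IsLocalRing.residue_surjective (c⁻¹)
  have h1 := rdH_f0 k₀ A l c x
  rw [hc, rdH_zero, hx, mul_inv_cancel₀ hc0, hl] at h1
  simp at h1

theorem f0_soc [Module.Finite k₀ (ResidueField A)] (l : ResidueField A →ₗ[k₀] k₀) (hl : l 1 = 1)
    (h : HH k₀ A) (hh : ∀ a ∈ maximalIdeal A, a • h = 0) : h ∈ LinearMap.range (f0 k₀ A l) := by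
  -- the functional g := rdH h vanishes on m
  set g := rdH k₀ A h with hg
  have hgm : ∀ a ∈ maximalIdeal A, g a = 0 := by
    intro a ha
    have := rdH_smul k₀ A a h 1
    rw [hh a ha, rdH_zero, one_mul] at this
    exact this.symm
  have hker : LinearMap.ker (resLin k₀ A) ≤ LinearMap.ker g := by
    intro a ha
    rw [LinearMap.mem_ker, resLin_apply, IsLocalRing.residue_eq_zero_iff] at ha
    exact hgm a ha
  -- descend g to the residue field
  let e := LinearMap.quotKerEquivOfSurjective (resLin k₀ A) (resLin_surjective k₀ A)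
  let gbar : ResidueField A →ₗ[k₀] k₀ :=
    (LinearMap.ker (resLin k₀ A)).liftQ g hker ∘ₗ e.symm.toLinearMap
  have hgbar : ∀ x : A, gbar (residue A x) = g x := by
    intro x
    have : e.symm (residue A x) = Submodule.Quotient.mk x := by
      rw [LinearEquiv.symm_apply_eq]
      rfl
    show (LinearMap.ker (resLin k₀ A)).liftQ g hker (e.symm (residue A x)) = g x
    rw [this]
    rfl
  -- the map c ↦ l (c * ·) is injective hence surjective
  let Φ : ResidueField A →ₗ[k₀] Module.Dual k₀ (ResidueField A) :=
    { toFun := fun c => l ∘ₗ LinearMap.mulLeft k₀ c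
      map_add' := fun c c' => by
        ext y
        simp [add_mul]
      map_smul' := fun r c => by
        ext y
        simp }
  have hΦinj : Function.Injective Φ := by
    rw [injective_iff_map_eq_zero]
    intro c hc
    by_contra hc0
    have h1 : Φ c c⁻¹ = l (c * c⁻¹) := rfl
    rw [hc, mul_inv_cancel₀ hc0, hl] at h1
    simp at h1
  have hΦsurj : Function.Surjective Φ :=
    (LinearMap.injective_iff_surjective_of_finrank_eq_finrank
      (Subspace.dual_finrank_eq (K := k₀) (V := ResidueField A)).symm).mp hΦinj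
  obtain ⟨c, hc⟩ := hΦsurj gbar
  refine ⟨c, ?_⟩
  apply rdH_injective
  ext x
  rw [rdH_f0, ← hg, ← hgbar x, ← hc]
  rfl

end main

/-- Let k₀ be a field and A a Noetherian local k₀-algebra with [k : k₀] finite, k the residue field.
Then the topological dual A' = colim_n Hom_{k₀}(A/m^n, k₀), i.e. the submodule of Hom_{k₀}(A, k₀) of
forms killing some power of m (A acting through the source), is an injective hull of k (it is the
dualizing module of A). -/
theorem result (k₀ : Type u) [Field k₀] (A : Type u) [CommRing A] [IsLocalRing A] [IsNoetherianRing A] [Algebra k₀ A] [Module.Finite k₀ (A ⧸ IsLocalRing.maximalIdeal A)] : ∃ f : IsLocalRing.ResidueField A →ₗ[A] ↥(⨆ n : ℕ, Submodule.torsionBySet A ((ModuleCat.coextendScalars (algebraMap k₀ A)).obj (ModuleCat.of k₀ k₀)) ((IsLocalRing.maximalIdeal A ^ n : Ideal A) : Set A)), InjHull.IsInjectiveHull f := by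
  have hfin : Module.Finite k₀ (ResidueField A) :=
    ‹Module.Finite k₀ (A ⧸ IsLocalRing.maximalIdeal A)›
  -- a functional with l 1 = 1
  have hinj1 : Function.Injective (LinearMap.toSpanSingleton k₀ (ResidueField A) 1) := by
    intro r s hrs
    have : r • (1 : ResidueField A) = s • 1 := hrs
    rw [Algebra.smul_def, Algebra.smul_def, mul_one, mul_one] at this
    exact (algebraMap k₀ (ResidueField A)).injective this
  obtain ⟨l, hl⟩ := LinearMap.exists_leftInverse_of_injective _
    (LinearMap.ker_eq_bot.mpr hinj1)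
  have hl1 : l 1 = 1 := by
    have := LinearMap.congr_fun hl 1
    simpa using this
  exact isInjectiveHull_powTors (HH k₀ A) (coext_injective k₀ A) (f0 k₀ A l)
    (f0_injective k₀ A l hl1) (f0_soc k₀ A l hl1)

end Groth.Agent.S5175
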