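import Groth.Statements.S5178
import Mathlib
import Groth.Agent.S2169
import Groth.Agent.Lib.Helper83.FlatLocalDim

set_option autoImplicit false
universe u
open CInt

namespace Groth.Agent.S5178

open IsLocalRing RingTheory.Sequence Groth.Agent.Lib.Helper65.CIPres

/-- Let A be a Noetherian local ring of dimension d, and let the completion of A be presented as B/I
with B a regular local ring of dimension e and I an ideal whose minimal number of generators is q,
so that e − q is the geometric depth of A (this number does not depend on the presentation). Then e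
− q ≤ d, and equality holds if and only if A is a complete intersection, i.e. its completion is a
regular local ring modulo an ideal generated by a regular sequence. -/
theorem result (A : Type u) [CommRing A] [IsLocalRing A] [IsNoetherianRing A] (B : Type u) [CommRing B] [IsRegularLocalRing B] (I : Ideal B) (hpres : Nonempty (AdicCompletion (IsLocalRing.maximalIdeal A) A ≃+* B ⧸ I)) (d e : ℕ) (hd : ringKrullDim A = (d : WithBot ℕ∞)) (he : ringKrullDim B = (e : WithBot ℕ∞)) : (e : ℤ) - (I.spanFinrank : ℤ) ≤ (d : ℤ) ∧ ((e : ℤ) - (I.spanFinrank : ℤ) = (d : ℤ) ↔ Pi1.IsCompleteIntersection A) := by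
  obtain ⟨ε⟩ := hpres
  haveI : IsNoetherianRing (AdicCompletion (maximalIdeal A) A) :=
    Groth.Agent.Lib.Helper83.isNoetherianRing_adicCompletion (maximalIdeal A)
  have hdimc : ringKrullDim (AdicCompletion (maximalIdeal A) A) = d := by
    rw [Groth.Agent.Lib.Helper83.ringKrullDim_adicCompletion_eq (maximalIdeal A)
      (Ideal.IsPrime.ne_top inferInstance), hd]
  have hdimq : ringKrullDim (B ⧸ I) = d := by
    rw [← ringKrullDim_eq_of_ringEquiv ε, hdimc]
  have hne : I ≠ ⊤ := by
    intro h
    haveI : Nontrivial (B ⧸ I) := ε.symm.toRingHom.domain_nontrivial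
    exact (Ideal.Quotient.nontrivial_iff.1 inferInstance) h
  have hkrull := ringKrullDim_le_ringKrullDim_quotient_add_spanFinrank I
    (by
      rw [IsLocalRing.ringJacobson_eq_maximalIdeal]
      exact IsLocalRing.le_maximalIdeal hne)
  rw [he, hdimq] at hkrull
  have hk : e ≤ d + I.spanFinrank := by exact_mod_cast hkrull
  have hCIiff : IsCI B I ↔ I.spanFinrank + d ≤ e := by
    unfold IsCI
    rw [hdimq, he]
    constructor
    · intro h; exact_mod_cast h
    · intro h; exact_mod_cast h
  refine ⟨by omega, ?_⟩
  haveI := isCM_of_isRegularLocalRing B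
  constructor
  · intro h
    have hCI : IsCI B I := hCIiff.2 (by omega)
    obtain ⟨rs, hreg, hrs⟩ := (isCI_iff B I hne).1 hCI
    refine ⟨B, inferInstance, inferInstance, rs, ?_, hreg, ⟨ε.trans (Ideal.quotEquivOfEq hrs.symm)⟩⟩
    intro r hr
    have : r ∈ I := by rw [← hrs]; exact Ideal.subset_span hr
    exact IsLocalRing.le_maximalIdeal hne this
  · intro h
    obtain ⟨B', _, _, g, hg, hCI⟩ := Groth.Agent.S2169.exists_pres_of_isCompleteIntersection A h
    have hker : RingHom.ker (ε.symm.toRingHom.comp (Ideal.Quotient.mk I)) = I := by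
      ext y
      rw [RingHom.mem_ker]
      show ε.symm (Ideal.Quotient.mk I y) = 0 ↔ _
      rw [map_eq_zero_iff _ ε.symm.injective, Ideal.Quotient.eq_zero_iff_mem]
    have h1 := Groth.Agent.S2169.isCI_of_isCI (AdicCompletion (maximalIdeal A) A) B B'
      (ε.symm.toRingHom.comp (Ideal.Quotient.mk I))
      (ε.symm.surjective.comp Ideal.Quotient.mk_surjective) g hg hCI
    rw [hker] at h1
    have := hCIiff.1 h1
    omega

end Groth.Agent.S5178
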