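import Groth.Statements.S5179
import Mathlib
import Groth.Agent.Lib.Helper65.CINum2

set_option autoImplicit false
universe u

namespace Groth.Agent.S5179

open CInt
open IsLocalRing Groth.Agent.Lib.Helper15.Koszul Groth.Agent.Lib.Helper65.KH1
  Groth.Agent.Lib.Helper65.CINum

/-- the invariant `e - μ(I)` of a presentation of the completion, in terms of `kh` -/
theorem pres_invariant (A : Type u) [CommRing A] [IsLocalRing A] [IsNoetherianRing A]
    {n : ℕ} (y : Fin n → A) (hy : Ideal.span (Set.range y) = maximalIdeal A)
    (B : Type u) [CommRing B] [IsRegularLocalRing B] (I : Ideal B)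
    (hpres : Nonempty (AdicCompletion (IsLocalRing.maximalIdeal A) A ≃+* B ⧸ I)) (e : ℕ)
    (he : ringKrullDim B = (e : WithBot ℕ∞)) :
    kh (relMap y A) + e = (I.spanFinrank : ℕ∞) + n := by
  obtain ⟨E⟩ := hpres
  obtain ⟨f, hfdef⟩ : ∃ f : B →+* AdicCompletion (maximalIdeal A) A,
    f = (E.symm.toRingHom).comp (Ideal.Quotient.mk I) := ⟨_, rfl⟩
  have hfa : ∀ b, f b = E.symm (Ideal.Quotient.mk I b) := fun b => by rw [hfdef]; rfl
  have hf : Function.Surjective f := by
    intro z
    obtain ⟨b, hb⟩ := Ideal.Quotient.mk_surjective (E z)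
    exact ⟨b, by rw [hfa, hb, E.symm_apply_apply]⟩
  have hker : RingHom.ker f = I := by
    ext b
    rw [RingHom.mem_ker, hfa, map_eq_zero_iff _ E.symm.injective, Ideal.Quotient.eq_zero_iff_mem]
  have h := kh_add_dim y hy B f hf e he
  rw [hker] at h
  exact h

/-- Let A → A' be a flat local homomorphism of Noetherian local rings such that m_A A' is the maximal
ideal of A' and the residue field of A' is a separable extension of the residue field k of A
(separable in the sense that it is formally smooth over k; so A' ⊗_A k is a field separable over k).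
Present the completions as Â ≅ B/I and Â' ≅ B'/I' with B, B' regular local rings of dimensions e,
e'. Then e − μ(I) = e' − μ(I'), μ denoting the minimal number of generators: A and A' have the same
geometric depth. -/
theorem result (A A' : Type u) [CommRing A] [IsLocalRing A] [IsNoetherianRing A] [CommRing A'] [IsLocalRing A'] [IsNoetherianRing A'] [Algebra A A'] [IsLocalHom (algebraMap A A')] [Module.Flat A A'] (hmax : Ideal.map (algebraMap A A') (IsLocalRing.maximalIdeal A) = IsLocalRing.maximalIdeal A') (hsep : Algebra.FormallySmooth (IsLocalRing.ResidueField A) (IsLocalRing.ResidueField A')) (B B' : Type u) [CommRing B] [IsRegularLocalRing B] [CommRing B'] [IsRegularLocalRing B'] (I : Ideal B) (I' : Ideal B') (hpres : Nonempty (AdicCompletion (IsLocalRing.maximalIdeal A) A ≃+* B ⧸ I)) (hpres' : Nonempty (AdicCompletion (IsLocalRing.maximalIdeal A') A' ≃+* B' ⧸ I')) (e e' : ℕ) (he : ringKrullDim B = (e : WithBot ℕ∞)) (he' : ringKrullDim B' = (e' : WithBot ℕ∞)) : (e : ℤ) - (I.spanFinrank : ℤ) = (e' : ℤ) - (I'.spanFinrank : ℤ) := by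
  obtain ⟨n, y, hy⟩ := exists_gens A (maximalIdeal A)
  have hy' : Ideal.span (Set.range fun i => algebraMap A A' (y i)) = maximalIdeal A' := by
    rw [← range_relMap, range_relMap_eq y hy A' hmax]
  have h1 := pres_invariant A y hy B I hpres e he
  have h2 := pres_invariant A' (fun i => algebraMap A A' (y i)) hy' B' I' hpres' e' he'
  rw [kh_relMap_algebraMap A' hmax y] at h2
  have hfin : kh (relMap y A) ≠ ⊤ := by
    intro h
    rw [h, top_add] at h1
    exact absurd h1.symm (by exact_mod_cast ENat.coe_ne_top _)
  obtain ⟨c, hc⟩ := ENat.ne_top_iff_exists.1 hfin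
  rw [← hc] at h1 h2
  have h1' : c + e = I.spanFinrank + n := by exact_mod_cast h1
  have h2' : c + e' = I'.spanFinrank + n := by exact_mod_cast h2
  omega

end Groth.Agent.S5179
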