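import Groth.Statements.S5182
import Mathlib
import Groth.Agent.Lib.Helper32.WeakReg
-- import your own Groth.Agent.* helpers here

set_option autoImplicit false
universe u
open CInt

namespace Groth.Agent.S5182


open RingTheory.Sequence Function Groth.Agent.Lib.Helper32

theorem part2 (A : Type u) [CommRing A] (J : Ideal A) (k : ℕ)
    (hflat : Module.Flat (A ⧸ J) (↥(J ^ k) ⧸ (J • (⊤ : Submodule A ↥(J ^ k)))))
    (fs : List A) (hreg : IsWeaklyRegular (A ⧸ J) fs) :
    IsWeaklyRegular (↥(J ^ k) ⧸ (J • (⊤ : Submodule A ↥(J ^ k)))) fs := by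
  have h1 : IsWeaklyRegular (A ⧸ J) (fs.map (algebraMap A (A ⧸ J))) :=
    (isWeaklyRegular_map_algebraMap_iff (A ⧸ J) (A ⧸ J) fs).mpr hreg
  have h2 := h1.isWeaklyRegular_rTensor (M₂ := ↥(J ^ k) ⧸ (J • (⊤ : Submodule A ↥(J ^ k))))
  have h3 := ((TensorProduct.lid (A ⧸ J) (↥(J ^ k) ⧸ (J • (⊤ : Submodule A ↥(J ^ k))))).isWeaklyRegular_congr _).mp h2
  exact (isWeaklyRegular_map_algebraMap_iff (A ⧸ J) _ fs).mp h3

theorem mem_pow_smul_top_iff {A : Type u} [CommRing A] (J : Ideal A) (k n : ℕ) (x : ↥(J ^ k)) :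
    x ∈ (J ^ n • ⊤ : Submodule A ↥(J ^ k)) ↔ (x : A) ∈ J ^ (k + n) := by
  rw [Submodule.mem_smul_top_iff, smul_eq_mul, ← pow_add, add_comm]

theorem step (A : Type u) [CommRing A] (J : Ideal A) (k n : ℕ) (fs : List A)
    (hgr : IsWeaklyRegular (↥(J ^ (k + n)) ⧸ (J • (⊤ : Submodule A ↥(J ^ (k + n))))) fs)
    (ih : IsWeaklyRegular (↥(J ^ k) ⧸ (J ^ n • ⊤ : Submodule A ↥(J ^ k))) fs) :
    IsWeaklyRegular (↥(J ^ k) ⧸ (J ^ (n + 1) • ⊤ : Submodule A ↥(J ^ k))) fs := by
  have hle : J ^ (k + n) ≤ J ^ k := Ideal.pow_le_pow_right (Nat.le_add_right k n)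
  have hle2 : (J ^ (n + 1) • ⊤ : Submodule A ↥(J ^ k)) ≤ (J ^ n • ⊤ : Submodule A ↥(J ^ k)) :=
    Submodule.smul_mono_left (Ideal.pow_le_pow_right (Nat.le_succ n))
  let φ : ↥(J ^ (k + n)) →ₗ[A] (↥(J ^ k) ⧸ (J ^ (n + 1) • ⊤ : Submodule A ↥(J ^ k))) :=
    (J ^ (n + 1) • ⊤ : Submodule A ↥(J ^ k)).mkQ ∘ₗ Submodule.inclusion hle
  have hker : (J • (⊤ : Submodule A ↥(J ^ (k + n)))) = LinearMap.ker φ := by
    ext y
    rw [LinearMap.mem_ker, LinearMap.comp_apply, Submodule.mkQ_apply,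
      Submodule.Quotient.mk_eq_zero, mem_pow_smul_top_iff, Submodule.mem_smul_top_iff,
      smul_eq_mul, ← pow_succ', add_assoc]
    rfl
  let ψ := (J • (⊤ : Submodule A ↥(J ^ (k + n)))).liftQ φ (le_of_eq hker)
  let π := Submodule.factor hle2
  refine isWeaklyRegular_of_exact fs ψ π ?_ (Submodule.factor_surjective hle2) ?_ hgr ih
  · exact LinearMap.ker_eq_bot.mp (Submodule.ker_liftQ_eq_bot' _ φ hker)
  · intro z
    obtain ⟨x, rfl⟩ := Submodule.mkQ_surjective _ z
    constructor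
    · intro hz
      have hx : x ∈ (J ^ n • ⊤ : Submodule A ↥(J ^ k)) := by
        have : π ((J ^ (n + 1) • ⊤ : Submodule A ↥(J ^ k)).mkQ x) =
            (J ^ n • ⊤ : Submodule A ↥(J ^ k)).mkQ x := rfl
        rw [this] at hz
        simpa using hz
      rw [mem_pow_smul_top_iff] at hx
      refine ⟨Submodule.Quotient.mk ⟨(x : A), hx⟩, ?_⟩
      show (J ^ (n + 1) • ⊤ : Submodule A ↥(J ^ k)).mkQ (Submodule.inclusion hle ⟨(x : A), hx⟩) = _
      congr 1
    · rintro ⟨w, hw⟩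
      obtain ⟨y, rfl⟩ := Submodule.mkQ_surjective _ w
      rw [← hw]
      show (J ^ n • ⊤ : Submodule A ↥(J ^ k)).mkQ (Submodule.inclusion hle y) = 0
      rw [Submodule.mkQ_apply, Submodule.Quotient.mk_eq_zero, mem_pow_smul_top_iff]
      exact y.2

/-- In the local algebraic form to which its proof reduces. Let A be a Noetherian local ring, J a proper
ideal such that A is normally flat along J, i.e. every J^k/J^{k+1} is a flat (equivalently free)
A/J-module, and f_1, …, f_r elements of A whose images form a weakly regular sequence on A/J (each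
f_i a non-zero-divisor on A/J modulo the preceding ones). Then for every k ≥ 0 the f_i form a weakly
regular sequence on the A-module J^k and on the A-module J^k/J^{k+1}; in particular (k = 0) on A
itself, so that they are regular on the Rees algebra ⊕ J^k and on the associated graded ring ⊕
J^k/J^{k+1}. -/
theorem result (A : Type u) [CommRing A] [IsLocalRing A] [IsNoetherianRing A] (J : Ideal A) (hJ : J ≠ ⊤) (hflat : ∀ k : ℕ, Module.Flat (A ⧸ J) (↥(J ^ k) ⧸ (J • (⊤ : Submodule A ↥(J ^ k))))) (fs : List A) (hreg : RingTheory.Sequence.IsWeaklyRegular (A ⧸ J) fs) (k : ℕ) : RingTheory.Sequence.IsWeaklyRegular (↥(J ^ k)) fs ∧ RingTheory.Sequence.IsWeaklyRegular (↥(J ^ k) ⧸ (J • (⊤ : Submodule A ↥(J ^ k)))) fs := by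
  have hgr : ∀ k : ℕ, IsWeaklyRegular (↥(J ^ k) ⧸ (J • (⊤ : Submodule A ↥(J ^ k)))) fs :=
    fun k => part2 A J k (hflat k) fs hreg
  refine ⟨?_, hgr k⟩
  have hJjac : J ≤ Ideal.jacobson ⊥ :=
    (IsLocalRing.le_maximalIdeal hJ).trans (IsLocalRing.maximalIdeal_le_jacobson _)
  apply isWeaklyRegular_of_forall_quot_pow J hJjac
  intro n
  induction n with
  | zero =>
    have : Subsingleton (↥(J ^ k) ⧸ (J ^ 0 • ⊤ : Submodule A ↥(J ^ k))) := by
      rw [pow_zero, Ideal.one_eq_top, Submodule.top_smul]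
      exact Submodule.Quotient.subsingleton_iff.mpr rfl
    exact isWeaklyRegular_of_subsingleton _ fs
  | succ n ih => exact step A J k n fs (hgr (k + n)) ih

end Groth.Agent.S5182
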