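import Groth.Statements.S5189
import Groth.Agent.Lib.Cohomology.helper5_HomologyComparisonBelow
import Groth.Agent.Lib.Helper34.EtLocCohLES

set_option autoImplicit false
universe u
open CategoryTheory CategoryTheory.Limits AlgebraicGeometry Opposite
open EtDepth

namespace Groth.Agent.S5189

section Aux

open Groth.Agent.Lib.Cohomology.HomCmp Groth.Agent.Lib.Helper34 Groth.Agent.Lib.Helper47

variable {X U : Scheme.{u}} (j : U ⟶ X) [IsOpenImmersion j]

/-- global sections on the small étale site -/
noncomputable abbrev Γet (X : Scheme.{u}) : EtCoh.Ab X ⥤ AddCommGrpCat.{u + 1} :=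
  sheafToPresheaf X.smallEtaleTopology AddCommGrpCat.{u + 1} ⋙
    (evaluation X.Etaleᵒᵖ AddCommGrpCat.{u + 1}).obj (op (EtCoh.top X))

/-- for `I` injective, `Γ(X, I) → Γ(X, j_* j⁻¹ I)` is surjective -/
lemma epi_Γ_unit (I : EtCoh.Ab X) [Injective I] :
    Epi ((Γet X).map ((EtCoh.pullPushAdj j).unit.app I)) := by
  have h := Adjunction.unit_leftAdjointUniq_hom_app (EtCoh.pullPushAdj j)
    (EtRestr.restrPushAdj j) I
  have hs : Epi ((Γet X).map ((EtRestr.restrPushAdj j).unit.app I)) := by
    rw [AddCommGrpCat.epi_iff_surjective]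
    change Function.Surjective ⇑(ConcreteCategory.hom
      (((EtRestr.restrPushAdj j).unit.app I).hom.app (op (EtCoh.top X))))
    rw [EtOpenUnit.unit_app_hom_app]
    have := EtOpenUnit.mono_counit j (EtCoh.top X)
    exact SiteFree.surjective_map_of_injective.{u + 1} X.smallEtaleTopology I
      ((EtRestr.compBcAdj j).counit.app (EtCoh.top X))
  have e1 : (Γet X).map ((EtCoh.pullPushAdj j).unit.app I) ≫
      (Γet X).map ((EtCoh.push j).map ((Adjunction.leftAdjointUniq (EtCoh.pullPushAdj j)
        (EtRestr.restrPushAdj j)).hom.app I)) =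
      (Γet X).map ((EtRestr.restrPushAdj j).unit.app I) := by
    rw [← Functor.map_comp, h]
  have e2 : (Γet X).map ((EtCoh.pullPushAdj j).unit.app I) =
      (Γet X).map ((EtRestr.restrPushAdj j).unit.app I) ≫
        inv ((Γet X).map ((EtCoh.push j).map ((Adjunction.leftAdjointUniq (EtCoh.pullPushAdj j)
          (EtRestr.restrPushAdj j)).hom.app I))) := by
    rw [← e1, Category.assoc, IsIso.hom_inv_id, Category.comp_id]
  rw [e2]
  infer_instance

/-- `Γ_Y` of an injective sheaf is acyclic for global sections -/
theorem rAcyc_secSupp_injective (I : EtCoh.Ab X) [hI : Injective I] :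
    RAcyc (Γet X) ((EtDual.secSupp j).obj I) := by
  have hS := (EtLocCohLES.T j).exact I hI
  have hI₃ : Injective ((EtCoh.push j).obj ((EtCoh.pull j).obj I)) := by
    have := EtRestr.injective_pull j I
    exact EtRestr.injective_push j _
  exact rAcyc_X₁_of_injective (Γet X) _ hS hI hI₃ (epi_Γ_unit j I)

theorem main (F : EtCoh.Ab X) (n : ℕ) (h : EtDepth.DepthGE j F n) :
    IsIso (RDer.edgeOut (EtDual.secSupp j) (Γet X) n F) := by
  have hK : IsIso (RDer.homologyComparison (Γet X)
      (((EtDual.secSupp j).mapHomologicalComplex _).obj (injectiveResolution F).cocomplex) n) := by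
    apply isIso_homologyComparison_of_vanishing_below (rAcycClass (Γet X)) _ ?_
      (rAcyc_of_isZero (Γet X)) n ?_
    · intro m
      have : Injective ((injectiveResolution F).cocomplex.X m) := (injectiveResolution F).injective m
      exact rAcyc_secSupp_injective j _
    · intro m hm
      have hz : IsZero (((EtDual.secSupp j).rightDerived m).obj F) := h m hm
      exact IsZero.of_iso hz ((injectiveResolution F).isoRightDerivedObj (EtDual.secSupp j) m).symm
  unfold RDer.edgeOut
  have h2 : IsIso ((Γet X).map
      ((injectiveResolution F).isoRightDerivedObj (EtDual.secSupp j) n).inv) := inferInstance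
  have h3 : IsIso ((injectiveResolution F).isoRightDerivedObj
      (EtDual.secSupp j ⋙ Γet X) n).hom := inferInstance
  exact IsIso.comp_isIso' h3 (IsIso.comp_isIso' hK h2)

end Aux


/-- For an abelian sheaf. Let X be a scheme, j : U → X an open immersion with closed complement Y, F an
abelian sheaf on the small étale site of X and n ≥ 0, and suppose the Y-étale depth of F is ≥ n (the
local cohomology sheaves H^p_Y(F) vanish for p < n). Then the edge homomorphism H^n_Y(X, F) → H^0(X,
H^n_Y(F)) of the spectral sequence of the composite functor Γ(X, −) ∘ Γ_Y, from the n-th local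
cohomology group to the group of global sections of the n-th local cohomology sheaf, is an
isomorphism. -/
theorem result {X U : Scheme.{u}} (j : U ⟶ X) [IsOpenImmersion j] [EtCoh.BCCont j] (F : EtCoh.Ab X) (n : ℕ) (h : EtDepth.DepthGE j F n) : IsIso (RDer.edgeOut (EtDual.secSupp j) (sheafToPresheaf X.smallEtaleTopology AddCommGrpCat.{u+1} ⋙ (evaluation X.Etaleᵒᵖ AddCommGrpCat.{u+1}).obj (op (EtCoh.top X))) n F) := by
  exact main j F n h

end Groth.Agent.S5189
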