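import Groth.Statements.S5204
-- import your own Groth.Agent.* helpers here

set_option autoImplicit false
open CategoryTheory CategoryTheory.Limits
universe w v₁ u₁
open DescCat

namespace Groth.Agent.S5204

/-- the two-step descent used for the composite. -/
theorem key {C : Type u₁} [Category.{v₁} C] [HasPullbacks C]
    {U T S : C} (v : U ⟶ T) (u : T ⟶ S) [EffectiveEpi v]
    (hv : MorphismProperty.universally (MorphismProperty.epimorphisms C) v)
    {W : C} (e' : T ⟶ W)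
    (h : ∀ {Z : C} (g₁ g₂ : Z ⟶ U), g₁ ≫ (v ≫ u) = g₂ ≫ (v ≫ u) → g₁ ≫ v ≫ e' = g₂ ≫ v ≫ e')
    {Z : C} (h₁ h₂ : Z ⟶ T) (hh : h₁ ≫ u = h₂ ≫ u) : h₁ ≫ e' = h₂ ≫ e' := by
  have e1 : Epi (pullback.fst h₁ v) :=
    hv (pullback.snd h₁ v) h₁ (pullback.fst h₁ v) (IsPullback.of_hasPullback h₁ v)
  have e2 : Epi (pullback.fst (pullback.fst h₁ v ≫ h₂) v) :=
    hv (pullback.snd (pullback.fst h₁ v ≫ h₂) v) (pullback.fst h₁ v ≫ h₂)
      (pullback.fst (pullback.fst h₁ v ≫ h₂) v) (IsPullback.of_hasPullback _ v)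
  have key := h (pullback.fst (pullback.fst h₁ v ≫ h₂) v ≫ pullback.snd h₁ v)
    (pullback.snd (pullback.fst h₁ v ≫ h₂) v) (by
      have c1 := pullback.condition (f := h₁) (g := v)
      have c2 := pullback.condition (f := pullback.fst h₁ v ≫ h₂) (g := v)
      simp only [Category.assoc]
      rw [← reassoc_of% c1, ← reassoc_of% c2, hh])
  have c1 := pullback.condition (f := h₁) (g := v)
  have c2 := pullback.condition (f := pullback.fst h₁ v ≫ h₂) (g := v)
  simp only [Category.assoc] at key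
  rw [← reassoc_of% c1, ← reassoc_of% c2] at key
  rw [cancel_epi, cancel_epi] at key
  exact key

/-- In a category with pullbacks: if `u` and `v` are effective epimorphisms and `v` is a universal
epimorphism (all its base changes are epimorphisms), then the composite `v ≫ u` is an effective
epimorphism. -/
theorem result {C : Type u₁} [Category.{v₁} C] [HasPullbacks C]
    {U T S : C} (v : U ⟶ T) (u : T ⟶ S) [EffectiveEpi u] [EffectiveEpi v]
    (hv : MorphismProperty.universally (MorphismProperty.epimorphisms C) v) :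
    EffectiveEpi (v ≫ u) := by
  classical
  have hrel : ∀ {W : C} (e : U ⟶ W)
      (h : ∀ {Z : C} (g₁ g₂ : Z ⟶ U), g₁ ≫ (v ≫ u) = g₂ ≫ (v ≫ u) → g₁ ≫ e = g₂ ≫ e)
      {Z : C} (g₁ g₂ : Z ⟶ U), g₁ ≫ v = g₂ ≫ v → g₁ ≫ e = g₂ ≫ e := by
    intro W e h Z g₁ g₂ hg
    apply h
    rw [← Category.assoc, hg, Category.assoc]
  have hrel2 : ∀ {W : C} (e : U ⟶ W)
      (h : ∀ {Z : C} (g₁ g₂ : Z ⟶ U), g₁ ≫ (v ≫ u) = g₂ ≫ (v ≫ u) → g₁ ≫ e = g₂ ≫ e)
      {Z : C} (h₁ h₂ : Z ⟶ T), h₁ ≫ u = h₂ ≫ u →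
        h₁ ≫ EffectiveEpi.desc v e (hrel e h) = h₂ ≫ EffectiveEpi.desc v e (hrel e h) := by
    intro W e h Z h₁ h₂ hh
    refine key v u hv _ ?_ h₁ h₂ hh
    intro Z' g₁ g₂ hg
    rw [EffectiveEpi.fac]
    exact h g₁ g₂ hg
  refine ⟨⟨{ desc := fun e h => EffectiveEpi.desc u (EffectiveEpi.desc v e (hrel e h)) (hrel2 e h)
             fac := ?_
             uniq := ?_ }⟩⟩
  · intro W e h
    rw [Category.assoc, EffectiveEpi.fac, EffectiveEpi.fac]
  · intro W e h m hm
    apply EffectiveEpi.uniq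
    apply EffectiveEpi.uniq
    rw [← Category.assoc]
    exact hm

end Groth.Agent.S5204
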