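import Groth.Statements.S5206
-- import your own Groth.Agent.* helpers here

set_option autoImplicit false
open CategoryTheory CategoryTheory.Limits
universe w v₁ u₁
open DescCat

namespace Groth.Agent.S5206

/-- If `v ≫ u` is a universal effective epimorphism, then `u` is an effective epimorphism. -/
theorem core {C : Type u₁} [Category.{v₁} C] [HasPullbacks C]
    {U T S : C} (v : U ⟶ T) (u : T ⟶ S)
    (h : (MorphismProperty.universally (fun (A B : C) (p : A ⟶ B) => EffectiveEpi p)) (v ≫ u)) :
    EffectiveEpi u := by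
  have hvu : EffectiveEpi (v ≫ u) := MorphismProperty.universally_le _ _ h
  have hfst : EffectiveEpi (pullback.fst u (v ≫ u)) :=
    h _ _ _ (IsPullback.of_hasPullback u (v ≫ u))
  have hrel : ∀ {W : C} (e : T ⟶ W)
      (_ : ∀ {Z : C} (g₁ g₂ : Z ⟶ T), g₁ ≫ u = g₂ ≫ u → g₁ ≫ e = g₂ ≫ e)
      {Z : C} (g₁ g₂ : Z ⟶ U), g₁ ≫ (v ≫ u) = g₂ ≫ (v ≫ u) → g₁ ≫ (v ≫ e) = g₂ ≫ (v ≫ e) := by
    intro W e he Z g₁ g₂ hg
    rw [← Category.assoc, ← Category.assoc]
    apply he
    simpa only [Category.assoc] using hg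
  refine ⟨⟨{ desc := fun e he => EffectiveEpi.desc (v ≫ u) (v ≫ e) (hrel e he)
             fac := ?_
             uniq := ?_ }⟩⟩
  · intro W e he
    rw [← cancel_epi (pullback.fst u (v ≫ u))]
    have c := pullback.condition (f := u) (g := v ≫ u)
    rw [reassoc_of% c]
    have := EffectiveEpi.fac (v ≫ u) (v ≫ e) (hrel e he)
    rw [Category.assoc] at this
    rw [this]
    have h2 := he (pullback.fst u (v ≫ u)) (pullback.snd u (v ≫ u) ≫ v)
      (by rw [c, Category.assoc])
    rw [h2, Category.assoc]
  · intro W e he m hm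
    apply EffectiveEpi.uniq
    rw [Category.assoc, hm]

/-- Second assertion: in a category with pullbacks: if `v ≫ u` is a universal effective epimorphism (all
base changes are effective epimorphisms), then so is `u`; nothing is assumed about `v`. -/
theorem result {C : Type u₁} [Category.{v₁} C] [HasPullbacks C]
    {U T S : C} (v : U ⟶ T) (u : T ⟶ S)
    (h : (MorphismProperty.universally (fun (A B : C) (p : A ⟶ B) => EffectiveEpi p)) (v ≫ u)) :
    (MorphismProperty.universally (fun (A B : C) (p : A ⟶ B) => EffectiveEpi p)) u := by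
  intro X' Y' i₁ i₂ f' H
  have hsq : IsPullback (pullback.fst i₁ v ≫ f') (pullback.snd i₁ v) i₂ (v ≫ u) :=
    (IsPullback.of_hasPullback i₁ v).paste_horiz H
  refine core (pullback.fst i₁ v) f' ?_
  exact fun _ _ _ _ _ H' => h _ _ _ (H'.paste_vert hsq)

end Groth.Agent.S5206
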