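import Groth.Statements.S5209
import Groth.Agent.Lib.Helper8.UEE

set_option autoImplicit false
open CategoryTheory CategoryTheory.Limits
universe w v₁ u₁
open DescCat

namespace Groth.Agent.S5209

/-- In a category with pullbacks, let `f : S' ⟶ S` be a universal effective epimorphism, that is, a
morphism all of whose base changes are effective epimorphisms. Then a morphism `g` over `S` is an
isomorphism (resp. a monomorphism) if and only if its base change along `f` is. -/
theorem result {C : Type u₁} [Category.{v₁} C] [HasPullbacks C]
    {S' S : C} (f : S' ⟶ S) (hf : (MorphismProperty.universally (fun (A B : C) (p : A ⟶ B) => EffectiveEpi p)) f) {X Y : Over S} (g : X ⟶ Y) :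
    (IsIso g ↔ IsIso ((Over.pullback f).map g)) ∧ (Mono g ↔ Mono ((Over.pullback f).map g)) := by
  have hS : ∀ (W : Over S), IsPullback (pullback.fst W.hom f) (pullback.snd W.hom f) W.hom f :=
    fun W => IsPullback.of_hasPullback _ _
  have hfY : Lib.Helper8.UEE C (pullback.fst Y.hom f) := Lib.Helper8.UEE.pullback_fst Y.hom hf
  have sq : IsPullback (pullback.fst X.hom f) ((Over.pullback f).map g).left g.left
      (pullback.fst Y.hom f) := by
    refine IsPullback.of_bot ?_ ?_ (hS Y)
    · have h1 : ((Over.pullback f).map g).left ≫ pullback.snd Y.hom f = pullback.snd X.hom f := by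
        simp only [Over.pullback_map_left]; exact pullback.lift_snd _ _ _
      have h2 : g.left ≫ Y.hom = X.hom := Over.w g
      rw [h1, h2]
      exact hS X
    · simp only [Over.pullback_map_left]; exact (pullback.lift_fst _ _ _).symm
  constructor
  · constructor
    · intro h
      infer_instance
    · intro h
      have : IsIso ((Over.pullback f).map g).left :=
        (Over.forget S').map_isIso ((Over.pullback f).map g)
      have : IsIso g.left := Lib.Helper8.isIso_of_isPullback_of_UEE sq hfY
      exact (isIso_iff_of_reflects_iso g (Over.forget S)).1 this
  · constructor
    · intro h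
      infer_instance
    · intro h
      have : Mono ((Over.pullback f).map g).left := inferInstance
      have : Mono g.left := Lib.Helper8.mono_of_isPullback_of_UEE sq hfY
      exact Over.mono_of_mono_left g

end Groth.Agent.S5209
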