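import Groth.Statements.S5210
import Groth.Agent.Lib.Helper8.UEE

set_option autoImplicit false
open CategoryTheory CategoryTheory.Limits
universe w v₁ u₁
open DescCat

namespace Groth.Agent.S5210

/-- In a category with pullbacks, let `f : S' ⟶ S` be a universal effective epimorphism (all of its base
changes are effective epimorphisms) and `Y ⟶ S` a monomorphism. Then an object `X` over `S` admits a
morphism to `Y` over `S` if and only if it does so after base change along `f`. -/
theorem result {C : Type u₁} [Category.{v₁} C] [HasPullbacks C]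
    {S' S : C} (f : S' ⟶ S) (hf : (MorphismProperty.universally (fun (A B : C) (p : A ⟶ B) => EffectiveEpi p)) f) (X Y : Over S) [Mono Y.hom] :
    Nonempty (X ⟶ Y) ↔ Nonempty ((Over.pullback f).obj X ⟶ (Over.pullback f).obj Y) := by
  constructor
  · rintro ⟨k⟩
    exact ⟨(Over.pullback f).map k⟩
  · rintro ⟨k⟩
    have ht : Lib.Helper8.UEE C (pullback.fst X.hom f) := Lib.Helper8.UEE.pullback_fst X.hom hf
    have := ht.effectiveEpi
    have hk : k.left ≫ pullback.snd Y.hom f = pullback.snd X.hom f := Over.w k
    have key : k.left ≫ pullback.fst Y.hom f ≫ Y.hom = pullback.fst X.hom f ≫ X.hom := by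
      rw [pullback.condition, ← Category.assoc, hk, ← pullback.condition]
    let m : X.left ⟶ Y.left :=
      EffectiveEpi.desc (pullback.fst X.hom f) (k.left ≫ pullback.fst Y.hom f) (by
        intro Z g₁ g₂ hg
        rw [← cancel_mono Y.hom]
        simp only [Category.assoc, key]
        rw [reassoc_of% hg])
    have hm : pullback.fst X.hom f ≫ m = k.left ≫ pullback.fst Y.hom f := EffectiveEpi.fac _ _ _
    refine ⟨Over.homMk m ?_⟩
    rw [← cancel_epi (pullback.fst X.hom f), reassoc_of% hm, key]

end Groth.Agent.S5210
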