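import Groth.Statements.S5211
import Groth.Agent.Lib.Helper8.UEE

set_option autoImplicit false
open CategoryTheory CategoryTheory.Limits
universe w v₁ u₁
open DescCat

namespace Groth.Agent.S5211

/-- In a category with pullbacks: if `f : S' ⟶ S` is a universal effective epimorphism and the canonical
map `S' ×_S S' ⟶ S' ×_T S'` induced by `g : S ⟶ T` is an isomorphism, then `g` is a monomorphism. -/
theorem result {C : Type u₁} [Category.{v₁} C] [HasPullbacks C]
    {S' S T : C} (f : S' ⟶ S) (hf : (MorphismProperty.universally (fun (A B : C) (p : A ⟶ B) => EffectiveEpi p)) f) (g : S ⟶ T)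
    [IsIso (pullback.mapDesc f f g)] : Mono g := by
  apply Lib.Helper8.mono_of_UEE_of_forall hf g
  intro W x y hxy
  let m : W ⟶ pullback (f ≫ g) (f ≫ g) := pullback.lift x y hxy
  let n : W ⟶ pullback f f := m ≫ inv (pullback.mapDesc f f g)
  have h1 : n ≫ pullback.fst f f = x := by
    have : pullback.mapDesc f f g ≫ pullback.fst (f ≫ g) (f ≫ g) = pullback.fst f f := by
      rw [pullback.lift_fst, Category.comp_id]
    rw [← this]
    simp only [n, m, Category.assoc, IsIso.inv_hom_id_assoc]
    exact pullback.lift_fst _ _ _
  have h2 : n ≫ pullback.snd f f = y := by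
    have : pullback.mapDesc f f g ≫ pullback.snd (f ≫ g) (f ≫ g) = pullback.snd f f := by
      rw [pullback.lift_snd, Category.comp_id]
    rw [← this]
    simp only [n, m, Category.assoc, IsIso.inv_hom_id_assoc]
    exact pullback.lift_snd _ _ _
  calc x ≫ f = (n ≫ pullback.fst f f) ≫ f := by rw [h1]
    _ = (n ≫ pullback.snd f f) ≫ f := by simp only [Category.assoc, pullback.condition]
    _ = y ≫ f := by rw [h2]

end Groth.Agent.S5211
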