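import Groth.Statements.S5212
import Mathlib

set_option autoImplicit false
universe u
open GrpQ

namespace Groth.Agent.S5212

/-- an element of a finite free algebra is a unit iff its norm is -/
theorem isUnit_iff_isUnit_norm {R B : Type*} [CommRing R] [CommRing B] [Algebra R B]
    [Module.Free R B] [Module.Finite R B] (b : B) : IsUnit b ↔ IsUnit (Algebra.norm R b) := by
  constructor
  · intro h
    exact h.map (Algebra.norm R)
  · intro h
    rw [Algebra.norm_apply, ← LinearMap.isUnit_iff_isUnit_det] at h
    obtain ⟨c, hc⟩ := (Module.End.isUnit_iff _).mp h |>.2 1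
    exact IsUnit.of_mul_eq_one c (by simpa using hc)

end Groth.Agent.S5212

namespace Groth.Agent.S5212

/-- For `A'` finite and free as an `A`-module, a prime `p` of `A` and `a ∈ A'`, the element `a` belongs
to some prime of `A'` lying over `p` if and only if its norm belongs to `p`. (The published
statement allows `A'` projective of constant rank over `A`; this row takes `A'` free, where the norm
is the determinant of multiplication.) -/
theorem result {A A' : Type u} [CommRing A] [CommRing A'] [Algebra A A']
    [Module.Free A A'] [Module.Finite A A'] (p : Ideal A) [p.IsPrime] (a : A') :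
    (∃ q : Ideal A', q.IsPrime ∧ q.LiesOver p ∧ a ∈ q) ↔ Algebra.norm A a ∈ p := by
  classical
  set M := p.primeCompl with hM
  let Rₘ := Localization.AtPrime p
  let Sₘ := Localization (Algebra.algebraMapSubmonoid A' M)
  -- freeness and finiteness of the localization
  let b := Module.Free.chooseBasis A A'
  have hfree : Module.Free Rₘ Sₘ := Module.Free.of_basis (b.localizationLocalization Rₘ M Sₘ)
  have hfin : Module.Finite Rₘ Sₘ := Module.Finite.of_basis (b.localizationLocalization Rₘ M Sₘ)
  have hnorm : Algebra.norm Rₘ (algebraMap A' Sₘ a) = algebraMap A Rₘ (Algebra.norm A a) :=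
    Algebra.norm_localization A M a
  have hunit : IsUnit (algebraMap A' Sₘ a) ↔ Algebra.norm A a ∉ p := by
    rw [isUnit_iff_isUnit_norm (R := Rₘ), hnorm, IsLocalization.AtPrime.isUnit_to_map_iff Rₘ p]
    rfl
  have hint : Algebra.IsIntegral Rₘ Sₘ := Algebra.IsIntegral.of_finite Rₘ Sₘ
  constructor
  · rintro ⟨q, hq, hqp, haq⟩
    by_contra hN
    have hu := hunit.mpr hN
    have hdisj : Disjoint (Algebra.algebraMapSubmonoid A' M : Set A') (q : Set A') := by
      rw [Set.disjoint_left]
      rintro _ ⟨s, hs, rfl⟩ hsq
      apply hs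
      rw [hqp.over]
      exact hsq
    have hQ := IsLocalization.isPrime_of_isPrime_disjoint (Algebra.algebraMapSubmonoid A' M) Sₘ q hq hdisj
    apply hQ.ne_top
    exact Ideal.eq_top_of_isUnit_mem _ (Ideal.mem_map_of_mem _ haq) hu
  · intro hN
    have hnu : ¬ IsUnit (algebraMap A' Sₘ a) := fun hu => hunit.mp hu hN
    obtain ⟨Q, hQmax, haQ⟩ := exists_max_ideal_of_mem_nonunits (mem_nonunits_iff.mpr hnu)
    refine ⟨Q.comap (algebraMap A' Sₘ), hQmax.isPrime.comap _, ?_, haQ⟩
    have hc : (Q.comap (algebraMap Rₘ Sₘ)).IsMaximal := Ideal.isMaximal_comap_of_isIntegral_of_isMaximal Q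
    have hcm : Q.comap (algebraMap Rₘ Sₘ) = IsLocalRing.maximalIdeal Rₘ := IsLocalRing.eq_maximalIdeal hc
    constructor
    have h1 : (Q.comap (algebraMap A' Sₘ)).under A = (Q.comap (algebraMap Rₘ Sₘ)).comap (algebraMap A Rₘ) := by
      rw [Ideal.under_def, Ideal.comap_comap, Ideal.comap_comap]
      congr 1
      rw [← IsScalarTower.algebraMap_eq, ← IsScalarTower.algebraMap_eq]
    rw [h1, hcm]
    exact (Localization.AtPrime.under_maximalIdeal (I := p)).symm

end Groth.Agent.S5212
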