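import Groth.Statements.S5213
import Mathlib
import Groth.Agent.Lib.Helper45.CyclicFibre

set_option autoImplicit false
universe u
open GrpQ

namespace Groth.Agent.S5213

open TensorProduct

/-- a module over a local ring with infinite residue field is not a finite union of proper submodules
containing `m N` -/
theorem exists_notMem_of_forall_ne_top {B : Type*} [CommRing B] [IsLocalRing B]
    [Infinite (IsLocalRing.ResidueField B)] {N : Type*} [AddCommGroup N] [Module B N] {ι : Type*} [Finite ι]
    (P : ι → Submodule B N) (hm : ∀ j, ∀ b ∈ IsLocalRing.maximalIdeal B, ∀ y : N, b • y ∈ P j)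
    (hne : ∀ j, P j ≠ ⊤) : ∃ y : N, ∀ j, y ∉ P j := by
  classical
  have hfin : Fintype ι := Fintype.ofFinite ι
  by_contra hcon
  push Not at hcon
  have hcov : ⋃ j ∈ (Finset.univ : Finset ι), (P j : Set N) = Set.univ := by
    rw [Set.eq_univ_iff_forall]
    intro y
    obtain ⟨j, hj⟩ := hcon y
    exact Set.mem_biUnion (Finset.mem_univ j) hj
  obtain ⟨k, -, hk⟩ := Submodule.exists_finiteIndex_of_cover hcov
  have hfinq : Finite (N ⧸ P k) := AddSubgroup.finite_quotient_of_finiteIndex
  obtain ⟨y₀, hy₀⟩ : ∃ y₀ : N, y₀ ∉ P k := by
    by_contra h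
    push Not at h
    exact hne k (eq_top_iff.mpr fun y _ => h y)
  let f : B →ₗ[B] N ⧸ P k := (P k).mkQ ∘ₗ LinearMap.toSpanSingleton B N y₀
  have hker : LinearMap.ker f = IsLocalRing.maximalIdeal B := by
    apply (IsLocalRing.eq_maximalIdeal ?_)
    have hle : IsLocalRing.maximalIdeal B ≤ LinearMap.ker f := by
      intro b hb
      rw [LinearMap.mem_ker]
      change (P k).mkQ (b • y₀) = 0
      exact (Submodule.Quotient.mk_eq_zero _).mpr (hm k b hb y₀)
    have hne' : LinearMap.ker f ≠ ⊤ := by
      intro htop
      have : (1 : B) ∈ LinearMap.ker f := by rw [htop]; exact Submodule.mem_top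
      rw [LinearMap.mem_ker] at this
      have h1 : (P k).mkQ ((1 : B) • y₀) = 0 := this
      rw [one_smul] at h1
      exact hy₀ ((Submodule.Quotient.mk_eq_zero _).mp h1)
    exact (IsLocalRing.maximalIdeal.isMaximal B).eq_of_le hne' hle ▸ IsLocalRing.maximalIdeal.isMaximal B
  have hinf : Infinite (B ⧸ LinearMap.ker f) := by
    rw [hker]
    exact ‹Infinite (IsLocalRing.ResidueField B)›
  have e := f.quotKerEquivRange
  have hinf2 : Infinite (LinearMap.range f) := Infinite.of_injective e e.injective
  have hinf3 : Infinite (N ⧸ P k) := Infinite.of_injective (Subtype.val : LinearMap.range f → N ⧸ P k) Subtype.val_injective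
  exact not_finite (N ⧸ P k)

end Groth.Agent.S5213

namespace Groth.Agent.S5213

open TensorProduct
open Groth.Agent.Lib.Helper45 Groth.Agent.Lib.Helper45.Fitting Groth.Agent.Lib.Helper45.Semilocal

/-- Let `B` be a local ring with infinite residue field, `A` a semi-local ring, `B → A` a ring map
carrying the maximal ideal of `B` into the Jacobson radical of `A`, `M` a finite free `A`-module and
`N` a `B`-submodule of `M` generating `M` as an `A`-module. Then `N` contains a basis of `M` over
`A`. -/
theorem result {B A M : Type u} [CommRing B] [CommRing A]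
    [IsLocalRing B] [Infinite (IsLocalRing.ResidueField B)] [Algebra B A]
    [Finite (MaximalSpectrum A)]
    (hBA : (IsLocalRing.maximalIdeal B).map (algebraMap B A) ≤ (⊥ : Ideal A).jacobson)
    [AddCommGroup M] [Module A M] [Module B M] [IsScalarTower B A M]
    [Module.Free A M] [Module.Finite A M]
    (N : Submodule B M) (hN : Submodule.span A (N : Set M) = ⊤) :
    ∃ b : Module.Basis (Fin (Module.finrank A M)) A M, ∀ i, b i ∈ N := by
  classical
  set n := Module.finrank A M with hn
  rcases subsingleton_or_nontrivial A with hA | hA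
  · -- trivial ring
    have hM : Subsingleton M := Module.subsingleton A M
    have hli : LinearIndependent A (fun _ : Fin n => (0 : M)) := by
      have : Subsingleton (Fin n →₀ A) := ⟨fun a b => Finsupp.ext fun i => Subsingleton.elim _ _⟩
      exact Function.injective_of_subsingleton _
    refine ⟨Module.Basis.mk hli (fun x _ => by rw [Subsingleton.elim x 0]; exact Submodule.zero_mem _), fun i => ?_⟩
    rw [Subsingleton.elim (Module.Basis.mk hli _ i) 0]; exact N.zero_mem
  -- fibre dimensions
  have hdim : ∀ j : MaximalSpectrum A, Module.finrank j.asIdeal.ResidueField (j.asIdeal.ResidueField ⊗[A] M) = n := by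
    intro j
    have h1 := fibreDim_eq_rankAtStalk (R := A) (M := M) ⟨j.asIdeal, j.isMaximal.isPrime⟩
    rw [Module.rankAtStalk_eq_finrank_of_free] at h1
    exact h1
  -- the maximal ideal of B acts as zero on the fibres
  have hzero : ∀ (j : MaximalSpectrum A) (b : B), b ∈ IsLocalRing.maximalIdeal B → ∀ y : M,
      (1 : j.asIdeal.ResidueField) ⊗ₜ[A] (b • y) = 0 := by
    intro j b hb y
    have h1 : algebraMap B A b ∈ j.asIdeal := by
      have h2 : algebraMap B A b ∈ (⊥ : Ideal A).jacobson := hBA (Ideal.mem_map_of_mem _ hb)
      rw [Ideal.jacobson, Ideal.mem_sInf] at h2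
      exact h2 ⟨bot_le, j.isMaximal⟩
    rw [← algebraMap_smul A b y, one_tmul_smul, Ideal.algebraMap_residueField_eq_zero.mpr h1, zero_smul]
  -- every pure tensor lies in the span of the image of N
  have hspanN : ∀ (j : MaximalSpectrum A) (W : Submodule j.asIdeal.ResidueField (j.asIdeal.ResidueField ⊗[A] M)),
      (∀ y ∈ N, (1 : j.asIdeal.ResidueField) ⊗ₜ[A] y ∈ W) → W = ⊤ := by
    intro j W hW
    rw [eq_top_iff]
    rintro z -
    have hall : ∀ m : M, (1 : j.asIdeal.ResidueField) ⊗ₜ[A] m ∈ W := by
      intro m
      have hm : m ∈ Submodule.span A (N : Set M) := by rw [hN]; exact Submodule.mem_top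
      induction hm using Submodule.span_induction with
      | mem x hx => exact hW x hx
      | zero => simp
      | add a c _ _ ha hc => rw [TensorProduct.tmul_add]; exact W.add_mem ha hc
      | smul a c _ hc => rw [one_tmul_smul]; exact W.smul_mem _ hc
    induction z using TensorProduct.induction_on with
    | zero => exact W.zero_mem
    | add a c ha hc => exact W.add_mem ha hc
    | tmul c m =>
      have : c ⊗ₜ[A] m = c • ((1 : j.asIdeal.ResidueField) ⊗ₜ[A] m) := by
        rw [TensorProduct.smul_tmul', smul_eq_mul, mul_one]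
      rw [this]; exact W.smul_mem _ (hall m)
  -- inductive choice
  have key : ∀ i, i ≤ n → ∃ x : Fin i → N, ∀ j : MaximalSpectrum A,
      LinearIndependent j.asIdeal.ResidueField (fun l => (1 : j.asIdeal.ResidueField) ⊗ₜ[A] (x l : M)) := by
    intro i
    induction i with
    | zero => intro _; exact ⟨Fin.elim0, fun j => linearIndependent_empty_type⟩
    | succ i ih =>
      intro hi
      obtain ⟨x, hx⟩ := ih (by omega)
      let P : MaximalSpectrum A → Submodule B N := fun j =>
        { carrier := {y | (1 : j.asIdeal.ResidueField) ⊗ₜ[A] (y : M) ∈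
            Submodule.span j.asIdeal.ResidueField
              (Set.range fun l => (1 : j.asIdeal.ResidueField) ⊗ₜ[A] (x l : M))}
          zero_mem' := by simp
          add_mem' := fun {a c} ha hc => by
            simp only [Set.mem_ofPred_eq, Submodule.coe_add, TensorProduct.tmul_add] at ha hc ⊢
            exact Submodule.add_mem _ ha hc
          smul_mem' := fun b a ha => by
            simp only [Set.mem_ofPred_eq, Submodule.coe_smul] at ha ⊢
            rw [← algebraMap_smul A b (a : M), one_tmul_smul]
            exact Submodule.smul_mem _ _ ha }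
      have hPmem : ∀ j (y : N), y ∈ P j ↔ (1 : j.asIdeal.ResidueField) ⊗ₜ[A] (y : M) ∈
            Submodule.span j.asIdeal.ResidueField
              (Set.range fun l => (1 : j.asIdeal.ResidueField) ⊗ₜ[A] (x l : M)) := fun j y => Iff.rfl
      have hPm : ∀ j, ∀ b ∈ IsLocalRing.maximalIdeal B, ∀ y : N, b • y ∈ P j := by
        intro j b hb y
        rw [hPmem, Submodule.coe_smul, hzero j b hb]
        exact Submodule.zero_mem _
      have hPne : ∀ j, P j ≠ ⊤ := by
        intro j htop
        have h1 := hspanN j (Submodule.span j.asIdeal.ResidueField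
              (Set.range fun l => (1 : j.asIdeal.ResidueField) ⊗ₜ[A] (x l : M))) (by
          intro y hy
          have : (⟨y, hy⟩ : N) ∈ P j := by rw [htop]; exact Submodule.mem_top
          exact (hPmem j ⟨y, hy⟩).mp this)
        have h2 : Module.finrank j.asIdeal.ResidueField (Submodule.span j.asIdeal.ResidueField
              (Set.range fun l => (1 : j.asIdeal.ResidueField) ⊗ₜ[A] (x l : M))) ≤ i := by
          have := finrank_span_le_card (R := j.asIdeal.ResidueField)
            (Set.range fun l : Fin i => (1 : j.asIdeal.ResidueField) ⊗ₜ[A] (x l : M))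
          refine this.trans ?_
          rw [Set.toFinset_range]
          exact (Finset.card_image_le).trans (by simp)
        rw [h1, finrank_top, hdim j] at h2
        omega
      obtain ⟨y, hy⟩ := exists_notMem_of_forall_ne_top P hPm hPne
      refine ⟨Fin.cons y x, fun j => ?_⟩
      have hfun : (fun l => (1 : j.asIdeal.ResidueField) ⊗ₜ[A] ((Fin.cons y x : Fin (i + 1) → N) l : M)) =
          Fin.cons ((1 : j.asIdeal.ResidueField) ⊗ₜ[A] (y : M))
            (fun l => (1 : j.asIdeal.ResidueField) ⊗ₜ[A] (x l : M)) := by
        funext l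
        refine Fin.cases ?_ (fun l' => ?_) l
        · simp
        · simp
      rw [hfun, linearIndependent_finCons]
      exact ⟨hx j, fun h => hy j ((hPmem j y).mpr h)⟩
  obtain ⟨x, hx⟩ := key n le_rfl
  let s : Fin n → M := fun l => (x l : M)
  have hsp : ∀ p : PrimeSpectrum A, SpansFibre s p.asIdeal := by
    intro p
    obtain ⟨m, hmmax, hpm⟩ := Ideal.exists_le_maximal p.asIdeal p.2.ne_top
    have hmp : m.IsPrime := hmmax.isPrime
    have hsm : SpansFibre s m := by
      have := (hx ⟨m, hmmax⟩).span_eq_top_of_card_eq_finrank' (by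
        rw [Fintype.card_fin]; exact (hdim ⟨m, hmmax⟩).symm)
      exact this
    exact hsm.of_le hpm
  have hspan := span_eq_top_of_forall_spansFibre s hsp
  have hrk : ∀ p : PrimeSpectrum A, Module.rankAtStalk M p = n := by
    intro p
    rw [Module.rankAtStalk_eq_finrank_of_free]; rfl
  have hli := linearIndependent_of_span_of_rankAtStalk n hrk s hspan
  refine ⟨Module.Basis.mk hli hspan.ge, fun i => ?_⟩
  rw [Module.Basis.mk_apply]
  exact (x i).2

end Groth.Agent.S5213
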