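import Groth.Statements.S5214
import Groth.Agent.Lib.Helper8.UEE

set_option autoImplicit false
open CategoryTheory CategoryTheory.Limits
universe w v₁ u₁
open DescCat

namespace Groth.Agent.S5214

set_option backward.isDefEq.respectTransparency false in
open CategoryTheory CategoryTheory.Limits in
theorem isPullback_prod_snd_with_id {C : Type u₁} [Category.{v₁} C] {A B : C} (f : A ⟶ B) (X : C)
    [HasBinaryProduct X A] [HasBinaryProduct X B] :
    IsPullback prod.snd (prod.map (𝟙 X) f) f prod.snd where
  w := by simp
  isLimit' := ⟨PullbackCone.isLimitAux' _ (fun s ↦ by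
    refine ⟨prod.lift (s.snd ≫ prod.fst) s.fst, ?_, ?_, ?_⟩
    · simp
    · ext
      · simp
      · simp [PullbackCone.condition]
    · intro m h₁ h₂
      dsimp at m h₁ h₂ ⊢
      apply Limits.prod.hom_ext
      · simp [← h₂]
      · simpa using h₁)⟩

/-- In a category with pullbacks and binary products: the product `u × u'` of two universal effective
epimorphisms (morphisms all of whose base changes are effective epimorphisms) is a universal
effective epimorphism. -/
theorem result {C : Type u₁} [Category.{v₁} C] [HasPullbacks C] [HasBinaryProducts C]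
    {X Y X' Y' : C} (u : X ⟶ Y) (u' : X' ⟶ Y')
    (hu : (MorphismProperty.universally (fun (A B : C) (p : A ⟶ B) => EffectiveEpi p)) u) (hu' : (MorphismProperty.universally (fun (A B : C) (p : A ⟶ B) => EffectiveEpi p)) u') :
    (MorphismProperty.universally (fun (A B : C) (p : A ⟶ B) => EffectiveEpi p)) (prod.map u u') := by
  have h1 : Lib.Helper8.UEE C (prod.map u (𝟙 X')) :=
    Lib.Helper8.UEE.of_isPullback (IsPullback.of_prod_fst_with_id u X') hu
  have h2 : Lib.Helper8.UEE C (prod.map (𝟙 Y) u') :=
    Lib.Helper8.UEE.of_isPullback (isPullback_prod_snd_with_id u' Y) hu'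
  have h3 : prod.map u u' = prod.map u (𝟙 X') ≫ prod.map (𝟙 Y) u' := by simp
  rw [h3]
  exact Lib.Helper8.UEE.comp h1 h2

end Groth.Agent.S5214
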