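import Groth.Statements.S5220
-- import your own Groth.Agent.* helpers here

set_option autoImplicit false
open CategoryTheory CategoryTheory.Limits
universe w v₁ u₁
open GrpQ

namespace Groth.Agent.S5220

/-- In a category with pullbacks: let `d₀ d₁ : X₁ ⇉ X₀` admit a common section and let `f₀ : Y₀ ⟶ X₀` be
an effective epimorphism which is also a universal epimorphism. For the inverse-image pair `Y₁ :=
(Y₀ ×_{X₀,d₁} X₁) ×_{d₀,X₀} Y₀ ⇉ Y₀`, every morphism out of `Y₀` equalized by the two projections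
descends uniquely to a morphism out of `X₀` equalized by `d₀, d₁`. (Only the common section of the
groupoid structure is used.) -/
theorem result {C : Type u₁} [Category.{v₁} C] [HasPullbacks C]
    {X₁ X₀ Y₀ : C} (d₀ d₁ : X₁ ⟶ X₀) (s : X₀ ⟶ X₁) (hs₀ : s ≫ d₀ = 𝟙 X₀) (hs₁ : s ≫ d₁ = 𝟙 X₀)
    (f₀ : Y₀ ⟶ X₀) [EffectiveEpi f₀]
    (hf : MorphismProperty.universally (MorphismProperty.epimorphisms C) f₀)
    {T : C} (g : Y₀ ⟶ T)
    (hg : (pullback.fst (pullback.snd f₀ d₁ ≫ d₀) f₀ ≫ pullback.fst f₀ d₁) ≫ g =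
      pullback.snd (pullback.snd f₀ d₁ ≫ d₀) f₀ ≫ g) :
    ∃! h : X₀ ⟶ T, d₁ ≫ h = d₀ ≫ h ∧ f₀ ≫ h = g := by
  -- notation
  set P := pullback f₀ d₁ with hP
  set a : P ⟶ Y₀ := pullback.fst f₀ d₁ with ha
  set b : P ⟶ X₁ := pullback.snd f₀ d₁ with hb
  have hab : a ≫ f₀ = b ≫ d₁ := pullback.condition
  set c : pullback (b ≫ d₀) f₀ ⟶ P := pullback.fst (b ≫ d₀) f₀ with hc
  set e₀ : pullback (b ≫ d₀) f₀ ⟶ Y₀ := pullback.snd (b ≫ d₀) f₀ with he₀
  have hce : c ≫ b ≫ d₀ = e₀ ≫ f₀ := pullback.condition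
  -- epimorphisms
  have epi_of : ∀ {A B : C} (k : A ⟶ B), MorphismProperty.universally (MorphismProperty.epimorphisms C) k → Epi k :=
    fun k hk => MorphismProperty.universally_le _ _ hk
  have hf₀ : Epi f₀ := inferInstance
  have hbepi : Epi b := epi_of b
    (MorphismProperty.of_isPullback (P := (MorphismProperty.epimorphisms C).universally)
      (IsPullback.of_hasPullback f₀ d₁) hf)
  have hcepi : Epi c := epi_of c
    (MorphismProperty.of_isPullback (P := (MorphismProperty.epimorphisms C).universally)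
      (IsPullback.of_hasPullback (b ≫ d₀) f₀).flip hf)
  -- descent of g along f₀
  have hdesc : ∀ {Z : C} (y y' : Z ⟶ Y₀), y ≫ f₀ = y' ≫ f₀ → y ≫ g = y' ≫ g := by
    intro Z y y' hyy
    let p : Z ⟶ P := pullback.lift y (y ≫ f₀ ≫ s) (by simp [hs₁])
    have hp1 : p ≫ a = y := pullback.lift_fst _ _ _
    have hp2 : p ≫ b = y ≫ f₀ ≫ s := pullback.lift_snd _ _ _
    let q : Z ⟶ pullback (b ≫ d₀) f₀ := pullback.lift p y' (by
      rw [reassoc_of% hp2]; simp [hs₀, hyy])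
    have hq1 : q ≫ c = p := pullback.lift_fst _ _ _
    have hq2 : q ≫ e₀ = y' := pullback.lift_snd _ _ _
    have := congrArg (q ≫ ·) hg
    simp only [← Category.assoc] at this
    rw [hq2] at this
    rw [← this]
    simp only [Category.assoc]
    rw [← Category.assoc q, hq1, ← Category.assoc, hp1]
  let h : X₀ ⟶ T := EffectiveEpi.desc f₀ g (fun y y' hyy => hdesc y y' hyy)
  have hh : f₀ ≫ h = g := EffectiveEpi.fac _ _ _
  refine ⟨h, ⟨?_, hh⟩, ?_⟩
  · rw [← cancel_epi b, ← cancel_epi c]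
    have h1 : c ≫ b ≫ d₁ ≫ h = (c ≫ a) ≫ g := by
      rw [← reassoc_of% hab, hh, Category.assoc]
    have h2 : c ≫ b ≫ d₀ ≫ h = e₀ ≫ g := by
      rw [reassoc_of% hce, hh]
    rw [h1, h2]
    exact hg
  · rintro h' ⟨-, hh'⟩
    rw [← cancel_epi f₀, hh, hh']

end Groth.Agent.S5220
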