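import Groth.Statements.S5221
import Groth.Agent.S5220

set_option autoImplicit false
open CategoryTheory CategoryTheory.Limits
universe w v₁ u₁
open GrpQ

namespace Groth.Agent.S5221

/-- Existence part: in a category with pullbacks: with `d₀ d₁ : X₁ ⇉ X₀` admitting a common section and
`f₀ : Y₀ ⟶ X₀` an effective and universal epimorphism, the pair `(d₀, d₁)` has a coequalizer if and
only if its inverse-image pair on `Y₀` has one. -/
theorem result {C : Type u₁} [Category.{v₁} C] [HasPullbacks C]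
    {X₁ X₀ Y₀ : C} (d₀ d₁ : X₁ ⟶ X₀) (s : X₀ ⟶ X₁) (hs₀ : s ≫ d₀ = 𝟙 X₀) (hs₁ : s ≫ d₁ = 𝟙 X₀)
    (f₀ : Y₀ ⟶ X₀) [EffectiveEpi f₀]
    (hf : MorphismProperty.universally (MorphismProperty.epimorphisms C) f₀) :
    HasCoequalizer d₁ d₀ ↔
      HasCoequalizer (pullback.fst (pullback.snd f₀ d₁ ≫ d₀) f₀ ≫ pullback.fst f₀ d₁)
        (pullback.snd (pullback.snd f₀ d₁ ≫ d₀) f₀) := by
  have hf₀ : Epi f₀ := inferInstance
  -- the two composites agree after f₀ up to d₁, d₀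
  have hE₁ : (pullback.fst (pullback.snd f₀ d₁ ≫ d₀) f₀ ≫ pullback.fst f₀ d₁) ≫ f₀ =
      pullback.fst (pullback.snd f₀ d₁ ≫ d₀) f₀ ≫ pullback.snd f₀ d₁ ≫ d₁ := by
    rw [Category.assoc, pullback.condition]
  have hE₀ : pullback.snd (pullback.snd f₀ d₁ ≫ d₀) f₀ ≫ f₀ =
      pullback.fst (pullback.snd f₀ d₁ ≫ d₀) f₀ ≫ pullback.snd f₀ d₁ ≫ d₀ := by
    rw [← pullback.condition]
  have hconv : ∀ {T : C} (t : X₀ ⟶ T), d₁ ≫ t = d₀ ≫ t →
      (pullback.fst (pullback.snd f₀ d₁ ≫ d₀) f₀ ≫ pullback.fst f₀ d₁) ≫ f₀ ≫ t =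
        pullback.snd (pullback.snd f₀ d₁ ≫ d₀) f₀ ≫ f₀ ≫ t := by
    intro T t ht
    have e1 := congrArg (· ≫ t) hE₁
    have e0 := congrArg (· ≫ t) hE₀
    simp only [Category.assoc] at e1 e0 ⊢
    rw [e1, e0, ht]
  constructor
  · intro hco
    refine HasColimit.mk ⟨Cofork.ofπ (f₀ ≫ coequalizer.π d₁ d₀)
      (hconv _ (coequalizer.condition d₁ d₀)), Cofork.IsColimit.ofExistsUnique (fun c => ?_)⟩
    obtain ⟨h, ⟨hd, hf'⟩, huniq⟩ := Groth.Agent.S5220.result d₀ d₁ s hs₀ hs₁ f₀ hf c.π c.condition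
    refine ⟨coequalizer.desc h hd, ?_, ?_⟩
    · show (f₀ ≫ coequalizer.π d₁ d₀) ≫ coequalizer.desc h hd = c.π
      rw [Category.assoc, coequalizer.π_desc, hf']
    · intro m hm
      have hm' : (f₀ ≫ coequalizer.π d₁ d₀) ≫ m = c.π := hm
      have h1 : coequalizer.π d₁ d₀ ≫ m = h := by
        apply huniq
        refine ⟨?_, ?_⟩
        · rw [← Category.assoc, coequalizer.condition, Category.assoc]
        · rw [← Category.assoc, hm']
      exact (cancel_epi (coequalizer.π d₁ d₀)).1 (by rw [h1, coequalizer.π_desc])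
  · intro hco
    obtain ⟨h, ⟨hd, hf'⟩, huniq⟩ := Groth.Agent.S5220.result d₀ d₁ s hs₀ hs₁ f₀ hf
      (coequalizer.π (pullback.fst (pullback.snd f₀ d₁ ≫ d₀) f₀ ≫ pullback.fst f₀ d₁)
        (pullback.snd (pullback.snd f₀ d₁ ≫ d₀) f₀)) (coequalizer.condition _ _)
    refine HasColimit.mk ⟨Cofork.ofπ h hd, Cofork.IsColimit.ofExistsUnique (fun c => ?_)⟩
    have hc' : d₁ ≫ c.π = d₀ ≫ c.π := c.condition
    refine ⟨coequalizer.desc (f₀ ≫ c.π) (hconv _ hc'), ?_, ?_⟩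
    · show h ≫ coequalizer.desc (f₀ ≫ c.π) (hconv _ hc') = c.π
      rw [← cancel_epi f₀, ← Category.assoc, hf', coequalizer.π_desc]
    · intro m hm
      have hm' : h ≫ m = c.π := hm
      exact (cancel_epi (coequalizer.π (pullback.fst (pullback.snd f₀ d₁ ≫ d₀) f₀ ≫ pullback.fst f₀ d₁)
        (pullback.snd (pullback.snd f₀ d₁ ≫ d₀) f₀))).1 (by
        rw [coequalizer.π_desc, ← hf', Category.assoc, hm'])

end Groth.Agent.S5221
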