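import Groth.Statements.S5223
import Groth.Agent.S1347
import Groth.Agent.Lib.Helper67.FlatAtBC

set_option autoImplicit false
open CategoryTheory CategoryTheory.Limits AlgebraicGeometry
universe u
open GrpQ

namespace Groth.Agent.S5223

/-- In a cartesian square of schemes `F₂ = F₁ ×_{X₀} X₁` whose bottom map `u : X₁ ⟶ X₀` is flat, the
base-changed map `d' : F₂ ⟶ X₁` is flat at a point `x` if and only if `d : F₁ ⟶ X₀` is flat at the
image of `x` in `F₁`. -/
theorem result {F₂ F₁ X₁ X₀ : Scheme.{u}}
    {v : F₂ ⟶ F₁} {d' : F₂ ⟶ X₁} {d : F₁ ⟶ X₀} {u : X₁ ⟶ X₀}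
    (h : IsPullback v d' d u) [Flat u] (x : F₂) :
    (d'.stalkMap x).hom.Flat ↔ (d.stalkMap (v.base x)).hom.Flat := by
  constructor
  · intro hd'
    -- `u` is flat at `d' x`, `v` is flat at `x` (base change of the flat `u`)
    have hu : (u.stalkMap (d' x)).hom.Flat := Flat.stalkMap u (d' x)
    haveI : Flat v := MorphismProperty.of_isPullback h.flip inferInstance
    have hv : (v.stalkMap x).hom.Flat := Flat.stalkMap v x
    exact Groth.Agent.S1347.flat_of_square d d' v u h.w x hu hd' hv
  · intro hd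
    exact Groth.Agent.Lib.Helper67.FlatAtBC.flat_stalkMap_of_isPullback h.flip x hd

end Groth.Agent.S5223
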