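import Groth.Statements.S5224
-- import your own Groth.Agent.* helpers here
import Groth.Agent.Lib.Helper40.QuotShEff
import Groth.Agent.Lib.Helper40.AlgSpLocal

set_option autoImplicit false
open CategoryTheory CategoryTheory.Limits AlgebraicGeometry
universe u
open GrpQ

namespace Groth.Agent.S5224

/-- For the fppf topology: let `s, t : R ⇉ U` be an equivalence relation of schemes over `S` with `s`
faithfully flat and locally of finite presentation. A morphism `q : U ⟶ Y` over `S` is a faithfully
flat, locally finitely presented quotient with kernel pair `R` if and only if `q` identifies `h_Y`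
with the fppf quotient sheaf `U/R`. -/
theorem result {S : Scheme.{u}} {R U Y : Over S} (s t : R ⟶ U)
    [IsEquivalenceRelation s t]
    [Flat s.left] [Surjective s.left] [LocallyOfFinitePresentation s.left]
    (q : U ⟶ Y) :
    (IsKernelPair q s t ∧ Flat q.left ∧ Surjective q.left ∧ LocallyOfFinitePresentation q.left) ↔
      QuotSh.IsQuotient Scheme.fppfPrecoverage s t q := by
  classical
  have hIsos := Groth.Agent.Lib.Helper40.AlgSpBasic.fppf_hasIsos.{u}
  constructor
  · rintro ⟨hk, hfl, hsurj, hlfp⟩
    apply Groth.Agent.Lib.Helper40.QuotShApi.isQuotient_of_isKernelPair _ hk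
    intro T y
    have sq : IsPullback (pullback.fst y q).left (pullback.snd y q).left y.left q.left :=
      (IsPullback.of_hasPullback y q).map (Over.forget S)
    have h1 : Flat (pullback.fst y q).left := MorphismProperty.of_isPullback sq.flip hfl
    have h2 : Surjective (pullback.fst y q).left := MorphismProperty.of_isPullback sq.flip hsurj
    have h3 : LocallyOfFinitePresentation (pullback.fst y q).left :=
      MorphismProperty.of_isPullback sq.flip hlfp
    exact Groth.Agent.Lib.Helper40.QuotShApi.mem_J_of_singleton _ _ (pullback.fst y q)
      ⟨pullback.snd y q, pullback.condition.symm⟩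
      (Scheme.Hom.singleton_mem_fppfPrecoverage _)
  · intro h
    have hk := Groth.Agent.Lib.Helper40.QuotShApi.isKernelPair_of_isQuotient _ h
    have hq := ((Groth.Agent.Lib.Helper40.QuotShApi.isQuotient_iff _ s t q).mp h).2.1
    have := Groth.Agent.Lib.Helper40.QuotShApi.flat_isLocalAtTarget_fppf.{u}
    have := Groth.Agent.Lib.Helper40.FppfLocal.locallyOfFinitePresentation_isLocalAtTarget_fppf.{u}
    have := Groth.Agent.Lib.Helper40.FppfLocal.surjective_isLocalAtTarget_fppf.{u}
    refine ⟨hk, ?_, ?_, ?_⟩
    · exact Groth.Agent.Lib.Helper40.QuotShApi.property_of_isKernelPair _ @Flat hk hq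
        ((Groth.Agent.Lib.Helper40.QuotShApi.flat_left_iff s t).mpr inferInstance)
    · exact Groth.Agent.Lib.Helper40.QuotShApi.property_of_isKernelPair _ @Surjective hk hq
        ((Groth.Agent.Lib.Helper40.QuotShApi.surjective_left_iff s t).mpr inferInstance)
    · exact Groth.Agent.Lib.Helper40.QuotShApi.property_of_isKernelPair _
        @LocallyOfFinitePresentation hk hq
        ((Groth.Agent.Lib.Helper40.QuotShApi.lfp_left_iff s t).mpr inferInstance)

end Groth.Agent.S5224
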