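import Groth.Statements.S5225
-- import your own Groth.Agent.* helpers here
import Groth.Agent.Lib.Helper40.QuotShEff

set_option autoImplicit false
open CategoryTheory CategoryTheory.Limits AlgebraicGeometry
universe u
open GrpQ

namespace Groth.Agent.S5225

/-- For the étale topology: let `s, t : R ⇉ U` be an equivalence relation of schemes over `S` with `s`
étale and surjective. A morphism `q : U ⟶ Y` over `S` is an étale surjective quotient with kernel
pair `R` if and only if `q` identifies `h_Y` with the étale quotient sheaf `U/R`. -/
theorem result {S : Scheme.{u}} {R U Y : Over S} (s t : R ⟶ U)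
    [IsEquivalenceRelation s t] [Etale s.left] [Surjective s.left]
    (q : U ⟶ Y) :
    (IsKernelPair q s t ∧ Etale q.left ∧ Surjective q.left) ↔
      QuotSh.IsQuotient Scheme.etalePrecoverage s t q := by
  classical
  constructor
  · rintro ⟨hk, het, hsurj⟩
    apply Groth.Agent.Lib.Helper40.QuotShApi.isQuotient_of_isKernelPair _ hk
    intro T y
    have sq : IsPullback (pullback.fst y q).left (pullback.snd y q).left y.left q.left :=
      (IsPullback.of_hasPullback y q).map (Over.forget S)
    have h1 : Etale (pullback.fst y q).left := MorphismProperty.of_isPullback sq.flip het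
    have h2 : Surjective (pullback.fst y q).left := MorphismProperty.of_isPullback sq.flip hsurj
    exact Groth.Agent.Lib.Helper40.QuotShApi.mem_J_of_singleton _ _ (pullback.fst y q)
      ⟨pullback.snd y q, pullback.condition.symm⟩
      (Groth.Agent.Lib.Helper40.QuotShApi.singleton_mem_etalePrecoverage _)
  · intro h
    have hk := Groth.Agent.Lib.Helper40.QuotShApi.isKernelPair_of_isQuotient _ h
    have hq := ((Groth.Agent.Lib.Helper40.QuotShApi.isQuotient_iff _ s t q).mp h).2.1
    have hl1 := Groth.Agent.Lib.Helper40.QuotShApi.etale_isLocalAtTarget_etale.{u}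
    have hl2 := Groth.Agent.Lib.Helper40.QuotShApi.surjective_isLocalAtTarget_etale.{u}
    refine ⟨hk, ?_, ?_⟩
    · exact Groth.Agent.Lib.Helper40.QuotShApi.property_of_isKernelPair _ @Etale hk hq
        ((Groth.Agent.Lib.Helper40.QuotShApi.etale_left_iff s t).mpr inferInstance)
    · exact Groth.Agent.Lib.Helper40.QuotShApi.property_of_isKernelPair _ @Surjective hk hq
        ((Groth.Agent.Lib.Helper40.QuotShApi.surjective_left_iff s t).mpr inferInstance)

end Groth.Agent.S5225
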