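import Groth.Statements.S5228
import Groth.Agent.Lib.Helper27.ComodDiag

set_option autoImplicit false
universe w u
open HopfRep

namespace Groth.Agent.S5228
open Groth.Agent.Lib.Helper27.ComodDiag

/-- Over an affine base, in comodule form: for a representation `V` of a diagonalizable group `D(M)`
over a commutative ring `k` (a `k[M]`-comodule), every sub-representation which is a direct summand
as a `k`-module is a direct summand as a representation. (The published statement: a short exact
sequence of quasi-coherent `D(M)`-modules that splits as a sequence of modules splits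
equivariantly.) -/
theorem result {k : Type u} [CommRing k] {M : Type u} [CommGroup M]
    (V : Type w) [AddCommGroup V] [Module k V] [HopfRep.Comod k (MonoidAlgebra k M) V]
    (W : Submodule k V) (hW : HopfRep.IsSubcomod (k := k) (A := MonoidAlgebra k M) W)
    (hsplit : ∃ W' : Submodule k V, IsCompl W W') :
    ∃ W'' : Submodule k V, HopfRep.IsSubcomod (k := k) (A := MonoidAlgebra k M) W'' ∧ IsCompl W W'' := by
  classical
  obtain ⟨W', hW'⟩ := hsplit
  -- the linear projection onto `W`
  set P : V →ₗ[k] V := W.subtype ∘ₗ W.projectionOnto W' hW' with hP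
  have hPmem : ∀ v, P v ∈ W := fun v => (W.projectionOnto W' hW' v).2
  have hPid : ∀ w ∈ W, P w = w := by
    intro w hw
    change ((W.projectionOnto W' hW' w : W) : V) = w
    rw [Submodule.projectionOnto_apply_left hW' ⟨w, hw⟩]
  set Q : V →ₗ[k] V := (Finsupp.lsum k (fun m : M => pr k m ∘ₗ P)) ∘ₗ dec k (M := M) with hQ
  have hQsum : ∀ (v : V) (s : Finset M), (dec k (M := M) v).support ⊆ s →
      Q v = ∑ m ∈ s, pr k m (P (pr k m v)) := by
    intro v s hs
    have h1 : Q v = ∑ m ∈ (dec k (M := M) v).support, pr k m (P (pr k m v)) := by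
      rw [hQ, LinearMap.comp_apply, Finsupp.lsum_apply, Finsupp.sum]
      exact Finset.sum_congr rfl fun m _ => by rw [LinearMap.comp_apply, dec_apply]
    rw [h1]
    refine Finset.sum_subset hs fun m _ hm => ?_
    rw [pr_eq_zero_of_notMem hm, map_zero, map_zero]
  have hQmem : ∀ v, Q v ∈ W := by
    intro v
    rw [hQsum v _ (Finset.Subset.refl _)]
    exact Submodule.sum_mem _ fun m _ => pr_mem_of_isSubcomod hW m (hPmem _)
  have hQid : ∀ w ∈ W, Q w = w := by
    intro w hw
    rw [hQsum w _ (Finset.Subset.refl _)]
    conv_rhs => rw [← sum_pr (k := k) (M := M) w]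
    refine Finset.sum_congr rfl fun m _ => ?_
    rw [hPid _ (pr_mem_of_isSubcomod hW m hw), pr_pr, if_pos rfl]
  have hQpr : ∀ (n : M) (v : V), Q (pr k n v) = pr k n (Q v) := by
    intro n v
    have hL : Q (pr k n v) = pr k n (P (pr k n v)) := by
      rw [hQsum (pr k n v) ((dec k (M := M) (pr k n v)).support ∪ {n}) Finset.subset_union_left]
      rw [Finset.sum_eq_single n]
      · rw [pr_pr, if_pos rfl]
      · intro m _ hmn
        rw [pr_pr, if_neg hmn, map_zero, map_zero]
      · intro h
        exact absurd (Finset.mem_union_right _ (Finset.mem_singleton_self n)) h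
    have hR : pr k n (Q v) = pr k n (P (pr k n v)) := by
      rw [hQsum v ((dec k (M := M) v).support ∪ {n}) Finset.subset_union_left, map_sum]
      rw [Finset.sum_eq_single n]
      · rw [pr_pr, if_pos rfl]
      · intro m _ hmn
        rw [pr_pr, if_neg (Ne.symm hmn)]
      · intro h
        exact absurd (Finset.mem_union_right _ (Finset.mem_singleton_self n)) h
    rw [hL, hR]
  set Q' : V →ₗ[k] W := Q.codRestrict W hQmem with hQ'
  have hQ'id : ∀ x : W, Q' x = x := fun x => Subtype.ext (hQid x.1 x.2)
  refine ⟨LinearMap.ker Q', ?_, LinearMap.isCompl_of_proj hQ'id⟩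
  apply isSubcomod_of_pr_mem
  intro m u hu
  rw [LinearMap.mem_ker] at hu ⊢
  apply Subtype.ext
  change Q (pr k m u) = 0
  have hu0 : Q u = 0 := congrArg Subtype.val hu
  rw [hQpr, hu0, map_zero]

end Groth.Agent.S5228
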