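import Groth.Statements.S5229
-- import your own Groth.Agent.* helpers here

set_option autoImplicit false
open CategoryTheory CategoryTheory.Limits
universe v₁ u₁
open DescCat

namespace Groth.Agent.S5229

/-- For universal effective epimorphisms, in a category with pullbacks and binary products: for two
universally effective equivalence relations `R ⇉ X` and `R' ⇉ X'` with quotient maps `π` and `π'`,
the product relation `R × R' ⇉ X × X'` is the kernel pair of `π × π'`. (Together with the fact that
a product of two universal effective epimorphisms is again one, this says that `(X × X')/(R × R')`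
is `(X/R) × (X'/R')`; only the kernel-pair assertion is stated here.) -/
theorem result {C : Type u₁} [Category.{v₁} C]
    [HasPullbacks C] [HasBinaryProducts C]
    {R X R' X' : C} {p₁ p₂ : R ⟶ X} {p₁' p₂' : R' ⟶ X'}
    (e : UniversallyEffectiveEquivalenceRelation p₁ p₂)
    (e' : UniversallyEffectiveEquivalenceRelation p₁' p₂') :
    IsKernelPair (prod.map e.π e'.π) (prod.map p₁ p₁') (prod.map p₂ p₂') := by
  have h := e.isKernelPair
  have h' := e'.isKernelPair
  refine ⟨⟨?_⟩, ⟨?_⟩⟩
  · ext
    · simp [h.w]
    · simp [h'.w]
  · refine PullbackCone.IsLimit.mk _
      (fun s => prod.lift (h.lift (s.fst ≫ prod.fst) (s.snd ≫ prod.fst) ?_)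
        (h'.lift (s.fst ≫ prod.snd) (s.snd ≫ prod.snd) ?_)) ?_ ?_ ?_
    · have := s.condition =≫ prod.fst
      simpa using this
    · have := s.condition =≫ prod.snd
      simpa using this
    · intro s
      apply Limits.prod.hom_ext
      · simp only [Category.assoc, prod.map_fst, prod.lift_fst_assoc, IsKernelPair.lift_fst]
      · simp only [Category.assoc, prod.map_snd, prod.lift_snd_assoc, IsKernelPair.lift_fst]
    · intro s
      apply Limits.prod.hom_ext
      · simp only [Category.assoc, prod.map_fst, prod.lift_fst_assoc, IsKernelPair.lift_snd]
      · simp only [Category.assoc, prod.map_snd, prod.lift_snd_assoc, IsKernelPair.lift_snd]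
    · intro s m h₁ h₂
      apply Limits.prod.hom_ext
      · simp only [prod.lift_fst]
        apply h.hom_ext
        · simp only [IsKernelPair.lift_fst, ← h₁, Category.assoc, prod.map_fst]
        · simp only [IsKernelPair.lift_snd, ← h₂, Category.assoc, prod.map_fst]
      · simp only [prod.lift_snd]
        apply h'.hom_ext
        · simp only [IsKernelPair.lift_fst, ← h₁, Category.assoc, prod.map_snd]
        · simp only [IsKernelPair.lift_snd, ← h₂, Category.assoc, prod.map_snd]

end Groth.Agent.S5229
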