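import Groth.Statements.S5231
import Mathlib.CategoryTheory.Sites.Limits
import Mathlib.CategoryTheory.Limits.Constructions.EpiMono
import Mathlib.CategoryTheory.Limits.FunctorCategory.EpiMono

set_option autoImplicit false
open CategoryTheory
universe w v₁ u₁
open ShfCat

namespace Groth.Agent.S5231


open Opposite Limits in
/-- a monomorphism of sheaves of sets is injective on sections (no sheafification needed) -/
theorem injective_app_of_mono {D : Type u₁} [Category.{v₁} D]
    (K : GrothendieckTopology D) {F G : Sheaf K (Type w)} (f : F ⟶ G) [Mono f] (U : Dᵒᵖ) :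
    Function.Injective (f.hom.app U) := by
  have h1 : Mono ((sheafToPresheaf K (Type w)).map f) := inferInstance
  have h2 : Mono (((evaluation Dᵒᵖ (Type w)).obj U).map ((sheafToPresheaf K (Type w)).map f)) :=
    inferInstance
  exact (mono_iff_injective _).mp h2

/-- (iii) ⇒ (i): a morphism `f` of sheaves of sets on a site is a monomorphism (resp. an epimorphism) as
soon as, for every object `S`, the morphisms `T ⟶ S` over which the restriction of `f` to the
induced site `C/T` is a monomorphism (resp. an epimorphism) form a covering sieve. No sheafification
is assumed. (The published statement also treats isomorphisms in the same way; that case is left out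
here.) -/
theorem result {C : Type u₁} [Category.{v₁} C]
    (J : GrothendieckTopology C) {F G : Sheaf J (Type w)} (f : F ⟶ G) :
    ((∀ S : C, ∃ R : Sieve S, R ∈ J S ∧ ∀ ⦃T : C⦄ (g : T ⟶ S), R g →
        Mono ((J.overPullback (Type w) T).map f)) → Mono f) ∧
    ((∀ S : C, ∃ R : Sieve S, R ∈ J S ∧ ∀ ⦃T : C⦄ (g : T ⟶ S), R g →
        Epi ((J.overPullback (Type w) T).map f)) → Epi f) := by
  constructor
  · intro h
    have : Mono f.hom := by
      apply (config := {allowSynthFailures := true}) NatTrans.mono_of_mono_app
      intro U
      rw [mono_iff_injective]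
      intro x y hxy
      obtain ⟨R, hR, hR'⟩ := h U.unop
      have hF := (isSheaf_iff_isSheaf_of_type J F.obj).mp F.property
      refine (hF R hR).isSeparatedFor.ext ?_
      intro T g hg
      have := hR' g hg
      have hinj := injective_app_of_mono (J.over T) ((J.overPullback (Type w) T).map f)
        (Opposite.op (Over.mk (𝟙 T)))
      apply hinj
      have h1 := NatTrans.naturality_apply f.hom g.op x
      have h2 := NatTrans.naturality_apply f.hom g.op y
      show f.hom.app (Opposite.op T) (F.obj.map g.op x) = f.hom.app (Opposite.op T) (F.obj.map g.op y)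
      rw [h1, h2, hxy]
    exact Sheaf.Hom.mono_of_presheaf_mono J (Type w) f
  · intro h
    constructor
    intro H a b hab
    apply Sheaf.hom_ext
    ext U x
    obtain ⟨R, hR, hR'⟩ := h U.unop
    have hH := (isSheaf_iff_isSheaf_of_type J H.obj).mp H.property
    refine (hH R hR).isSeparatedFor.ext ?_
    intro T g hg
    have := hR' g hg
    have hab' : (J.overPullback (Type w) T).map a = (J.overPullback (Type w) T).map b := by
      rw [← cancel_epi ((J.overPullback (Type w) T).map f), ← Functor.map_comp, ← Functor.map_comp,
        hab]
    have hT : a.hom.app (Opposite.op T) = b.hom.app (Opposite.op T) :=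
      congr_arg (fun φ => φ.hom.app (Opposite.op (Over.mk (𝟙 T)))) hab'
    have h1 := NatTrans.naturality_apply a.hom g.op x
    have h2 := NatTrans.naturality_apply b.hom g.op x
    exact h1.symm.trans ((congr_arg (fun φ => (ConcreteCategory.hom φ)
      ((ConcreteCategory.hom (G.obj.map g.op)) x)) hT).trans h2)

end Groth.Agent.S5231
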