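import Groth.Statements.S5234
-- import your own Groth.Agent.* helpers here
import Groth.Agent.Lib.Helper40.TorsorTriv

set_option autoImplicit false
open CategoryTheory CategoryTheory.Limits AlgebraicGeometry MonoidalCategory
universe u
open RedSub

namespace Groth.Agent.S5234

open CartesianMonoidalCategory SemiCartesianMonoidalCategory in
/-- (ii) ⇔ (iii), for schemes with the fppf topology: let `G` be an `S`-group scheme which is faithfully
flat and locally of finite presentation over `S`, acting on `X` so that `X` is formally principal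
homogeneous. Then `X` is a torsor (its structure map is faithfully flat and locally of finite
presentation) if and only if `X` has a point over some faithfully flat, locally finitely presented
`S' ⟶ S`. -/
theorem result {S : Scheme.{u}} {G X : Over S} [GrpObj G]
    (a : AlgGrp.Action G X)
    [Flat G.hom] [Surjective G.hom] [LocallyOfFinitePresentation G.hom]
    (hX : IsIso (lift a.act (snd G X))) :
    RedSub.IsTorsor a ↔
      ∃ S' : Over S, Surjective S'.hom ∧ Flat S'.hom ∧ LocallyOfFinitePresentation S'.hom ∧
        Nonempty (S' ⟶ X) := by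
  constructor
  · rintro ⟨h1, h2, h3, -⟩
    exact ⟨X, h1, h2, h3, ⟨𝟙 X⟩⟩
  · rintro ⟨S', h1, h2, h3, ⟨σ⟩⟩
    have hq : Groth.Agent.Lib.Helper40.FpqcCov.IsQCov S'.hom :=
      Groth.Agent.Lib.Helper40.FpqcCov.IsQCov.of_fppf S'.hom
    have hloc : NonAbH1.IsLocallyTrivialFor Scheme.fpqcPrecoverage X :=
      ⟨Presieve.singleton S'.hom, hq.singleton_mem_fpqcPrecoverage, by
        intro T f hf
        cases hf
        exact ⟨σ.left, Over.w σ⟩⟩
    have ht : NonAbH1.IsTorsorFor Scheme.fpqcPrecoverage a := ⟨hX, hloc⟩
    exact ⟨Groth.Agent.Lib.Helper40.TorsorTriv.surjective_hom_of_isTorsorFor_fpqc a ht,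
      Groth.Agent.Lib.Helper40.TorsorTriv.flat_hom_of_isTorsorFor_fpqc a ht,
      Groth.Agent.Lib.Helper40.TorsorTriv.locallyOfFinitePresentation_hom_of_isTorsorFor_fpqc a ht,
      hX⟩

end Groth.Agent.S5234
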