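import Groth.Statements.S5235
import Mathlib.AlgebraicGeometry.Morphisms.Flat
import Mathlib.AlgebraicGeometry.PullbackCarrier
import Mathlib.CategoryTheory.Subobject.Basic

set_option autoImplicit false
open CategoryTheory CategoryTheory.Limits AlgebraicGeometry
universe u
open GrpQ

namespace Groth.Agent.S5235

lemma range_pullback_arrow {Z X : Scheme.{u}} (f : Z ⟶ X) (Y : Subobject X) :
    Set.range ((Subobject.pullback f).obj Y).arrow = f ⁻¹' Set.range Y.arrow := by
  have h := Subobject.isPullback f Y
  rw [← Scheme.Pullback.range_snd Y.arrow f]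
  have e : ((Subobject.pullback f).obj Y).arrow = h.isoPullback.hom ≫ pullback.snd Y.arrow f := by
    simp
  rw [e, Scheme.Hom.comp_base, TopCat.coe_comp, Set.range_comp]
  have hs : Function.Surjective h.isoPullback.hom :=
    (Scheme.homeoOfIso h.isoPullback).surjective
  rw [hs.range_eq, Set.image_univ]

lemma isOpenImmersion_pullback_arrow {Z X : Scheme.{u}} (f : Z ⟶ X) (Y : Subobject X)
    [IsOpenImmersion Y.arrow] : IsOpenImmersion ((Subobject.pullback f).obj Y).arrow :=
  MorphismProperty.of_isPullback (P := @IsOpenImmersion) (Subobject.isPullback f Y) inferInstance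

lemma eq_of_range_eq {X : Scheme.{u}} (Y₁ Y₂ : Subobject X) [IsOpenImmersion Y₁.arrow]
    [IsOpenImmersion Y₂.arrow] (h : Set.range Y₁.arrow = Set.range Y₂.arrow) : Y₁ = Y₂ :=
  Subobject.eq_of_comm (IsOpenImmersion.isoOfRangeEq _ _ h)
    (IsOpenImmersion.isoOfRangeEq_hom_fac _ _ h)

/-- For schemes, with (M) the faithfully flat quasi-compact morphisms and (N) the open immersions: if `π
: X ⟶ X'` is flat, surjective and quasi-compact, then `Y' ↦ π⁻¹(Y')` is a bijection from open
subschemes of `X'` onto the open subschemes of `X` stable under the kernel pair of `π`. -/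
theorem result {X X' : Scheme.{u}} (π : X ⟶ X')
    [Flat π] [Surjective π] [QuasiCompact π] :
    Set.BijOn (Subobject.pullback π).obj
      {Y' : Subobject X' | IsOpenImmersion Y'.arrow}
      {Y : Subobject X | IsOpenImmersion Y.arrow ∧
        (Subobject.pullback (pullback.fst π π)).obj Y = (Subobject.pullback (pullback.snd π π)).obj Y} := by
  refine ⟨?_, ?_, ?_⟩
  · intro Y' hY'
    have : IsOpenImmersion Y'.arrow := hY'
    refine ⟨isOpenImmersion_pullback_arrow π Y', ?_⟩
    rw [← Subobject.pullback_comp, ← Subobject.pullback_comp, pullback.condition]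
  · intro Y₁ h₁ Y₂ h₂ h
    have : IsOpenImmersion Y₁.arrow := h₁
    have : IsOpenImmersion Y₂.arrow := h₂
    apply eq_of_range_eq
    have h' := congrArg (fun Y : Subobject X => Set.range Y.arrow) h
    simp only [range_pullback_arrow] at h'
    have hsurj : Function.Surjective π := π.surjective
    exact hsurj.preimage_injective h'
  · rintro Y ⟨hY, hst⟩
    have : IsOpenImmersion Y.arrow := hY
    set U : Set X := Set.range Y.arrow with hU
    have hUo : IsOpen U := Y.arrow.isOpenEmbedding.isOpen_range
    have hsat : π ⁻¹' (π '' U) = U := by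
      apply Set.Subset.antisymm _ (Set.subset_preimage_image _ _)
      rintro x' ⟨x, hx, hxx'⟩
      obtain ⟨z, hz1, hz2⟩ := Scheme.Pullback.exists_preimage_pullback (f := π) (g := π) x x' hxx'
      have h' := congrArg (fun Y : Subobject (pullback π π) => Set.range Y.arrow) hst
      simp only [range_pullback_arrow] at h'
      have hz : z ∈ (pullback.fst π π) ⁻¹' U := by
        rw [Set.mem_preimage, hz1]; exact hx
      rw [h'] at hz
      rw [Set.mem_preimage, hz2] at hz
      exact hz
    have hq : Topology.IsQuotientMap π := Flat.isQuotientMap_of_surjective π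
    have hVo : IsOpen (π '' U) := by
      rw [← hq.isOpen_preimage, hsat]; exact hUo
    let V : X'.Opens := ⟨π '' U, hVo⟩
    refine ⟨Subobject.mk V.ι, ?_, ?_⟩
    · change IsOpenImmersion (Subobject.mk V.ι).arrow
      rw [← Subobject.underlyingIso_hom_comp_eq_mk]
      infer_instance
    · have : IsOpenImmersion (Subobject.mk V.ι).arrow := by
        rw [← Subobject.underlyingIso_hom_comp_eq_mk]
        infer_instance
      have : IsOpenImmersion ((Subobject.pullback π).obj (Subobject.mk V.ι)).arrow :=
        isOpenImmersion_pullback_arrow π _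
      apply eq_of_range_eq
      rw [range_pullback_arrow]
      have hr : Set.range (Subobject.mk V.ι).arrow = π '' U := by
        rw [← Subobject.underlyingIso_hom_comp_eq_mk, Scheme.Hom.comp_base, TopCat.coe_comp,
          Set.range_comp]
        have hs : Function.Surjective (Subobject.underlyingIso V.ι).hom :=
          (Scheme.homeoOfIso (Subobject.underlyingIso V.ι)).surjective
        rw [hs.range_eq, Set.image_univ]
        exact V.range_ι
      rw [hr, hsat]

end Groth.Agent.S5235
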