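import Groth.Statements.S5372
-- import your own Groth.Agent.* helpers here
import Groth.Agent.Lib.Helper40.FpqcCovOver

set_option autoImplicit false
universe u
open CategoryTheory CategoryTheory.Limits MonoidalCategory CartesianMonoidalCategory MonObj GrpObj AlgebraicGeometry
open SGA3

namespace Groth.Agent.S5372

/-- Let u : G' → G be a monomorphism of S-group schemes which is normal, and p : G → G'' a morphism of
S-schemes which is covering for the fpqc topology (some Z → G'' which is flat, surjective, with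
every affine open of G'' the image of a quasi-compact open of Z, factors through p) and such that
the square (g, h) ↦ g·u(h), first projection G ×_S G' → G, p, p is cartesian, so that G'' represents
the fpqc quotient sheaf G/G'. Then there is a structure of S-group scheme on G'' for which p is a
homomorphism, and it is unique: any morphism m : G'' ×_S G'' → G'' with (p × p) followed by m equal
to the multiplication of G followed by p is its multiplication. -/
theorem result (S : Scheme.{u}) (G G' G'' : Over S) [GrpObj G] [GrpObj G']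
    (u : G' ⟶ G) [IsMonHom u] [Mono u] (p : G ⟶ G'')
    (hcov : (∃ (Z : Scheme.{u}) (q : Z ⟶ G''.left) (r : Z ⟶ G.left), r ≫ p.left = q ∧ Surjective q ∧ Flat q ∧
        ∀ V : G''.left.Opens, IsAffineOpen V → ∃ W : Z.Opens, IsCompact (W : Set Z) ∧ q.base '' (W : Set Z) = (V : Set G''.left)))
    (hsq : IsPullback ((G ◁ u) ≫ μ[G]) (fst G G') p p) (hN : AlgGrp.IsNormalHom u) :
    ∃ _ : GrpObj G'', IsMonHom p ∧ ∀ m : G'' ⊗ G'' ⟶ G'', (p ⊗ₘ p) ≫ m = μ[G] ≫ p → m = μ[G''] := by
  classical
  have hp : Groth.Agent.Lib.Helper40.FpqcCov.IsCov p.left := hcov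
  have hpp := Groth.Agent.Lib.Helper40.FpqcCov.isCov_tensorHom hp hp
  have hppp := Groth.Agent.Lib.Helper40.FpqcCov.isCov_tensorHom hpp hp
  have epi1 : Epi p := Groth.Agent.Lib.Helper40.FpqcCov.epi_of_isCov_left hp
  have epi2 : Epi (p ⊗ₘ p) := Groth.Agent.Lib.Helper40.FpqcCov.epi_of_isCov_left hpp
  have epi3 : Epi ((p ⊗ₘ p) ⊗ₘ p) := Groth.Agent.Lib.Helper40.FpqcCov.epi_of_isCov_left hppp
  have epiL : Epi (𝟙_ (Over S) ◁ p) := Groth.Agent.Lib.Helper40.FpqcCov.epi_of_isCov_left
    (Groth.Agent.Lib.Helper40.FpqcCov.isCov_whiskerLeft _ hp)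
  have epiR : Epi (p ▷ 𝟙_ (Over S)) := Groth.Agent.Lib.Helper40.FpqcCov.epi_of_isCov_left
    (Groth.Agent.Lib.Helper40.FpqcCov.isCov_whiskerRight hp _)
  -- the equivalence relation defined by `p`
  have hmulu : ∀ {T : Over S} (y : T ⟶ G) (h : T ⟶ G'),
      lift y h ≫ (G ◁ u) ≫ μ[G] = y * (h ≫ u) := by
    intro T y h
    rw [← Category.assoc, lift_whiskerLeft]
    rfl
  have factA1 : ∀ {T : Over S} (x y : T ⟶ G), x ≫ p = y ≫ p →
      ∃ h : T ⟶ G', x = y * (h ≫ u) := by
    intro T x y hxy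
    have hz1 : hsq.lift x y hxy ≫ ((G ◁ u) ≫ μ[G]) = x := hsq.lift_fst _ _ _
    have hz2 : hsq.lift x y hxy ≫ fst G G' = y := hsq.lift_snd _ _ _
    refine ⟨hsq.lift x y hxy ≫ snd G G', ?_⟩
    have hz : hsq.lift x y hxy = lift y (hsq.lift x y hxy ≫ snd G G') := by
      apply CartesianMonoidalCategory.hom_ext
      · rw [lift_fst, hz2]
      · rw [lift_snd]
    rw [← hmulu, ← hz, hz1]
  have factA2 : ∀ {T : Over S} (y : T ⟶ G) (h : T ⟶ G'), (y * (h ≫ u)) ≫ p = y ≫ p := by
    intro T y h
    rw [← hmulu, Category.assoc, Category.assoc, ← Category.assoc (G ◁ u), hsq.w,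
      ← Category.assoc, lift_fst]
  -- the multiplication descends
  have hmulcompat : ∀ (R : Over S) (a b : R ⟶ G ⊗ G), a ≫ (p ⊗ₘ p) = b ≫ (p ⊗ₘ p) →
      a ≫ (μ[G] ≫ p) = b ≫ (μ[G] ≫ p) := by
    intro R a b hab
    have h1 : (a ≫ fst G G) ≫ p = (b ≫ fst G G) ≫ p := by
      have := congrArg (· ≫ fst G'' G'') hab
      simpa only [Category.assoc, tensorHom_fst] using this
    have h2 : (a ≫ snd G G) ≫ p = (b ≫ snd G G) ≫ p := by
      have := congrArg (· ≫ snd G'' G'') hab
      simpa only [Category.assoc, tensorHom_snd] using this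
    obtain ⟨k1, hk1⟩ := factA1 _ _ h1
    obtain ⟨k2, hk2⟩ := factA1 _ _ h2
    have ha : a ≫ μ[G] = (a ≫ fst G G) * (a ≫ snd G G) := by
      show a ≫ μ[G] = lift (a ≫ fst G G) (a ≫ snd G G) ≫ μ[G]
      congr 1
      apply CartesianMonoidalCategory.hom_ext
      · rw [lift_fst]
      · rw [lift_snd]
    have hb : b ≫ μ[G] = (b ≫ fst G G) * (b ≫ snd G G) := by
      show b ≫ μ[G] = lift (b ≫ fst G G) (b ≫ snd G G) ≫ μ[G]
      congr 1
      apply CartesianMonoidalCategory.hom_ext
      · rw [lift_fst]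
      · rw [lift_snd]
    obtain ⟨n', hn'⟩ := hN R (b ≫ snd G G)⁻¹ k1
    rw [← Category.assoc, ← Category.assoc, ha, hb, hk1, hk2]
    have e : (b ≫ fst G G) * (k1 ≫ u) * ((b ≫ snd G G) * (k2 ≫ u)) =
        ((b ≫ fst G G) * (b ≫ snd G G)) * ((n' * k2) ≫ u) := by
      rw [MonObj.mul_comp, ← hn']
      group
    rw [e, factA2]
  obtain ⟨m'', hm''⟩ := Groth.Agent.Lib.Helper40.FpqcCov.exists_desc_over hpp (μ[G] ≫ p) hmulcompat
  -- the inverse descends
  have hinvcompat : ∀ (R : Over S) (a b : R ⟶ G), a ≫ p = b ≫ p →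
      a ≫ (ι[G] ≫ p) = b ≫ (ι[G] ≫ p) := by
    intro R a b hab
    obtain ⟨k, hk⟩ := factA1 a b hab
    obtain ⟨n', hn'⟩ := hN R b k⁻¹
    rw [← Category.assoc, ← Category.assoc]
    show a⁻¹ ≫ p = b⁻¹ ≫ p
    have e : a⁻¹ = b⁻¹ * (n' ≫ u) := by
      rw [hk, ← hn', GrpObj.inv_comp]
      group
    rw [e, factA2]
  obtain ⟨i'', hi''⟩ := Groth.Agent.Lib.Helper40.FpqcCov.exists_desc_over hp (ι[G] ≫ p) hinvcompat
  have hm''' : ∀ {Z : Over S} (h : G'' ⟶ Z), (p ⊗ₘ p) ≫ m'' ≫ h = μ[G] ≫ p ≫ h := by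
    intro Z h
    rw [← Category.assoc, hm'', Category.assoc]
  let inst : GrpObj G'' :=
    { one := η[G] ≫ p
      mul := m''
      one_mul := by
        rw [← cancel_epi (𝟙_ (Over S) ◁ p), ← Category.assoc, whisker_exchange,
          comp_whiskerRight, Category.assoc, Category.assoc, ← Category.assoc (p ▷ G),
          ← MonoidalCategory.tensorHom_def, hm'', ← Category.assoc, MonObj.one_mul,
          leftUnitor_naturality]
      mul_one := by
        rw [← cancel_epi (p ▷ 𝟙_ (Over S)), ← Category.assoc, ← whisker_exchange,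
          MonoidalCategory.whiskerLeft_comp, Category.assoc, Category.assoc,
          ← Category.assoc (G ◁ p), ← MonoidalCategory.tensorHom_def', hm'', ← Category.assoc,
          MonObj.mul_one, rightUnitor_naturality]
      mul_assoc := by
        rw [← cancel_epi ((p ⊗ₘ p) ⊗ₘ p)]
        have e1 : ((p ⊗ₘ p) ⊗ₘ p) ≫ m'' ▷ G'' ≫ m'' = (μ[G] ▷ G) ≫ μ[G] ≫ p := by
          rw [← tensorHom_id, ← Category.assoc, tensorHom_comp_tensorHom, hm'',
            Category.comp_id, ← Category.id_comp p, ← tensorHom_comp_tensorHom,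
            Category.id_comp, Category.assoc, hm'', tensorHom_id]
        have e2 : ((p ⊗ₘ p) ⊗ₘ p) ≫ (α_ G'' G'' G'').hom ≫ G'' ◁ m'' ≫ m'' =
            (α_ G G G).hom ≫ (G ◁ μ[G]) ≫ μ[G] ≫ p := by
          rw [← Category.assoc, associator_naturality, Category.assoc, ← id_tensorHom,
            ← Category.assoc (p ⊗ₘ p ⊗ₘ p), tensorHom_comp_tensorHom, hm'',
            Category.comp_id, ← Category.id_comp p, ← tensorHom_comp_tensorHom,
            Category.id_comp, Category.assoc, hm'', id_tensorHom]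
        rw [e1, e2, ← Category.assoc, MonObj.mul_assoc, Category.assoc, Category.assoc]
      inv := i''
      left_inv := by
        have e : lift (ι[G] ≫ p) p = lift ι[G] (𝟙 G) ≫ (p ⊗ₘ p) := by
          rw [lift_map, Category.id_comp]
        rw [← cancel_epi p, ← Category.assoc, comp_lift, hi'', Category.comp_id, e,
          Category.assoc, hm'', ← Category.assoc, GrpObj.left_inv, Category.assoc,
          ← Category.assoc p]
        congr 1
        exact toUnit_unique _ _
      right_inv := by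
        have e : lift p (ι[G] ≫ p) = lift (𝟙 G) ι[G] ≫ (p ⊗ₘ p) := by
          rw [lift_map, Category.id_comp]
        rw [← cancel_epi p, ← Category.assoc, comp_lift, hi'', Category.comp_id, e,
          Category.assoc, hm'', ← Category.assoc, GrpObj.right_inv, Category.assoc,
          ← Category.assoc p]
        congr 1
        exact toUnit_unique _ _ }
  refine ⟨inst, ⟨rfl, hm''.symm⟩, fun m hm => ?_⟩
  exact (cancel_epi (p ⊗ₘ p)).mp (hm.trans hm''.symm)

end Groth.Agent.S5372
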