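import Groth.Statements.S5236
-- import your own Groth.Agent.* helpers here
import Groth.Agent.Lib.Helper40.FpqcCovOver
import Groth.Agent.S5372

set_option autoImplicit false
open CategoryTheory CategoryTheory.Limits AlgebraicGeometry MonoidalCategory
universe u
open RedSub

namespace Groth.Agent.S5236

/-- For group schemes and the fppf topology: if `i : H ⟶ G` is a normal monomorphism of `S`-group
schemes and `q : G ⟶ Q` exhibits `Q` as the fppf quotient `G/H`, then there is exactly one
group-scheme structure on `Q` over `S` making `q` a homomorphism. -/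
theorem result {S : Scheme.{u}} {H G Q : Over S} [GrpObj H] [hG : GrpObj G]
    (i : H ⟶ G) [IsMonHom i] [Mono i] (hn : AlgGrp.IsNormalHom i)
    (q : G ⟶ Q) (hq : RedSub.IsQuotient i q) :
    ∃! s : GrpObj Q, @IsMonHom (Over S) _ _ G Q hG.toMonObj s.toMonObj q := by
  classical
  obtain ⟨hs, hf, hlfp, hsq⟩ := hq
  have hcov : ∃ (Z : Scheme.{u}) (q' : Z ⟶ Q.left) (r : Z ⟶ G.left), r ≫ q.left = q' ∧
      Surjective q' ∧ Flat q' ∧ ∀ V : Q.left.Opens, IsAffineOpen V →
        ∃ W : Z.Opens, IsCompact (W : Set Z) ∧ q'.base '' (W : Set Z) = (V : Set Q.left) :=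
    ⟨G.left, q.left, 𝟙 _, Category.id_comp _, hs, hf,
      (Groth.Agent.Lib.Helper40.FpqcCov.IsQCov.of_fppf q.left).qc⟩
  obtain ⟨inst, hmon, huniq⟩ := Groth.Agent.S5372.result S G H Q i q hcov hsq.flip hn
  refine ⟨inst, hmon, fun s' hs' => ?_⟩
  apply GrpObj.ext
  apply MonObj.ext
  exact huniq s'.mul hs'.mul_hom.symm

end Groth.Agent.S5236
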