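import Groth.Statements.S5237
-- import your own Groth.Agent.* helpers here
import Groth.Agent.Lib.Helper40.FpqcCovOver

set_option autoImplicit false
open CategoryTheory CategoryTheory.Limits AlgebraicGeometry MonoidalCategory
universe u
open RedSub

namespace Groth.Agent.S5237

open MonObj GrpObj CartesianMonoidalCategory in
/-- For group schemes and the fppf topology: if `q : G ⟶ Q = G/H` is the fppf quotient of `G` by a
normal subgroup `H`, with its group structure, then a homomorphism `G ⟶ K` that kills `H` factors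
uniquely through `q`, and the factorisation is a homomorphism. -/
theorem result {S : Scheme.{u}} {H G Q K : Over S}
    [GrpObj H] [GrpObj G] [GrpObj Q] [GrpObj K]
    (i : H ⟶ G) [IsMonHom i] [Mono i] (hn : AlgGrp.IsNormalHom i)
    (q : G ⟶ Q) [IsMonHom q] (hq : RedSub.IsQuotient i q)
    (f : G ⟶ K) [IsMonHom f] (hf : i ≫ f = 1) :
    ∃! g : Q ⟶ K, q ≫ g = f ∧ IsMonHom g := by
  classical
  obtain ⟨hs, hfl, hlfp, hsq⟩ := hq
  have hcov : Groth.Agent.Lib.Helper40.FpqcCov.IsCov q.left :=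
    (Groth.Agent.Lib.Helper40.FpqcCov.IsQCov.of_fppf q.left).isCov
  have hepi : Epi q := Groth.Agent.Lib.Helper40.FpqcCov.epi_of_isCov_left hcov
  have hdesc : ∀ (R : Over S) (a b : R ⟶ G), a ≫ q = b ≫ q → a ≫ f = b ≫ f := by
    intro R a b hab
    obtain ⟨c, hc1, hc2⟩ : ∃ c : R ⟶ G ⊗ H, c ≫ fst G H = a ∧ c ≫ ((G ◁ i) ≫ μ[G]) = b :=
      ⟨hsq.lift a b hab, hsq.lift_fst _ _ _, hsq.lift_snd _ _ _⟩
    have hb : b = a * ((c ≫ snd G H) ≫ i) := by
      rw [← hc2, ← hc1]
      have : c = lift (c ≫ fst G H) (c ≫ snd G H) := by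
        apply CartesianMonoidalCategory.hom_ext <;> simp
      conv_lhs => rw [this]
      rw [← Category.assoc, lift_whiskerLeft]
      rfl
    rw [hb, MonObj.mul_comp, Category.assoc, hf, MonObj.comp_one, _root_.mul_one]
  obtain ⟨g, hg⟩ := Groth.Agent.Lib.Helper40.FpqcCov.exists_desc_over hcov f hdesc
  have hepi2 : Epi (q ⊗ₘ q) :=
    Groth.Agent.Lib.Helper40.FpqcCov.epi_of_isCov_left
      (Groth.Agent.Lib.Helper40.FpqcCov.isCov_tensorHom hcov hcov)
  have hmon : IsMonHom g := by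
    refine ⟨?_, ?_⟩
    · rw [← IsMonHom.one_hom (f := q), Category.assoc, hg, IsMonHom.one_hom]
    · rw [← cancel_epi (q ⊗ₘ q), ← Category.assoc, ← IsMonHom.mul_hom (f := q), Category.assoc, hg,
        IsMonHom.mul_hom, ← Category.assoc, MonoidalCategory.tensorHom_comp_tensorHom, hg]
  refine ⟨g, ⟨hg, hmon⟩, fun g' hg' => ?_⟩
  rw [← cancel_epi q, hg, hg'.1]

end Groth.Agent.S5237
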