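import Groth.Statements.S5238
-- import your own Groth.Agent.* helpers here
import Mathlib
import Groth.Agent.S9432

set_option autoImplicit false
open CategoryTheory AlgebraicGeometry
universe w u
open GrpQ

namespace Groth.Agent.S5238

open CategoryTheory AlgebraicGeometry Limits

abbrev P0 : MorphismProperty Scheme.{u} := @Flat ⊓ @LocallyOfFinitePresentation

theorem fppf_eq : Scheme.fppfTopology.{u} = Scheme.propQCTopology P0 := by
  have h : Scheme.propQCPrecoverage P0 = Scheme.fppfPrecoverage.{u} := by
    change Scheme.qcPrecoverage ⊓ Scheme.precoverage P0 = Scheme.precoverage P0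
    rw [inf_eq_right]
    exact Scheme.precoverage_le_qcPrecoverage_of_isOpenMap fun X Y f ⟨_, _⟩ ↦ f.isOpenMap
  unfold Scheme.fppfTopology Scheme.propQCTopology
  rw [h]

instance : (P0 : MorphismProperty Scheme.{u}).IsMultiplicative where
  id_mem X := ⟨inferInstanceAs (Flat (𝟙 X)), inferInstanceAs (LocallyOfFinitePresentation (𝟙 X))⟩
  comp_mem f g hf hg := by
    haveI : Flat f := hf.1
    haveI : Flat g := hg.1
    haveI : LocallyOfFinitePresentation f := hf.2
    haveI : LocallyOfFinitePresentation g := hg.2
    exact ⟨inferInstanceAs (Flat (f ≫ g)), inferInstanceAs (LocallyOfFinitePresentation (f ≫ g))⟩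

instance : (P0 : MorphismProperty Scheme.{u}).IsStableUnderBaseChange :=
  inferInstanceAs ((@Flat ⊓ @LocallyOfFinitePresentation : MorphismProperty Scheme.{u}).IsStableUnderBaseChange)

instance : IsZariskiLocalAtSource (P0 : MorphismProperty Scheme.{u}) :=
  inferInstanceAs (IsZariskiLocalAtSource (@Flat ⊓ @LocallyOfFinitePresentation : MorphismProperty Scheme.{u}))

theorem separated_aux (F : Scheme.{u}ᵒᵖ ⥤ Type w)
    (hzar : Presieve.IsSheaf Scheme.zariskiTopology F)
    (H : ∀ (T S : Scheme.{u}) [IsAffine T] [IsAffine S] (f : T ⟶ S)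
          [Flat f] [Surjective f] [LocallyOfFinitePresentation f] [LocallyQuasiFinite f],
          Presieve.IsSheafFor F (Presieve.singleton f))
    {T' S Y0 : Scheme.{u}} [IsAffine T'] [IsAffine S] (h : T' ⟶ S) [Flat h] [Surjective h]
    [LocallyOfFinitePresentation h] [LocallyQuasiFinite h] (f' : Y0 ⟶ S) :
    Presieve.IsSeparatedFor F
      ((Sieve.generate (Presieve.singleton h)).pullback f' : Presieve Y0) := by
  intro x t₁ t₂ h1 h2
  have hcov := Scheme.Cover.mem_grothendieckTopology Y0.affineCover
  have hsep : Presieve.IsSeparatedFor F (Presieve.ofArrows Y0.affineCover.X Y0.affineCover.f) :=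
    Presieve.isSeparatedFor_iff_generate.mpr (hzar _ hcov).isSeparatedFor
  apply hsep.ext
  rintro V a ⟨i⟩
  set ι := Y0.affineCover.f i with hι
  haveI : IsAffine (Y0.affineCover.X i) := inferInstance
  let p := pullback.fst (ι ≫ f') h
  have hp := (H _ _ p).isSeparatedFor
  apply hp.ext
  rintro V' a' ⟨⟩
  rw [← FunctorToTypes.map_comp_apply, ← FunctorToTypes.map_comp_apply, ← op_comp]
  have hmem : ((Sieve.generate (Presieve.singleton h)).pullback f') (p ≫ ι) := by
    refine ⟨_, pullback.snd (ι ≫ f') h, h, Presieve.singleton.mk, ?_⟩
    rw [Category.assoc, pullback.condition]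
  rw [h1 _ hmem, h2 _ hmem]

/-- A presheaf of sets on schemes is a sheaf for the fppf topology (the topology generated by jointly
surjective families of flat morphisms locally of finite presentation) if and only if it is a Zariski
sheaf and satisfies the sheaf condition for every single morphism of affine schemes `T ⟶ S` which is
flat, surjective, locally of finite presentation and locally quasi-finite. (Between affine schemes
such a morphism is faithfully flat, of finite presentation and quasi-finite; that these quasi-finite
covers suffice rests on the existence of quasi-finite flat quasi-sections of flat surjective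
morphisms locally of finite presentation.) -/
theorem result (F : Scheme.{u}ᵒᵖ ⥤ Type w) :
    Presheaf.IsSheaf Scheme.fppfTopology F ↔
      Presheaf.IsSheaf Scheme.zariskiTopology F ∧
        ∀ (T S : Scheme.{u}) [IsAffine T] [IsAffine S] (f : T ⟶ S)
          [Flat f] [Surjective f] [LocallyOfFinitePresentation f] [LocallyQuasiFinite f],
          Presieve.IsSheafFor F (Presieve.singleton f) := by
  rw [isSheaf_iff_isSheaf_of_type, isSheaf_iff_isSheaf_of_type]
  constructor
  · intro hF
    refine ⟨Presieve.isSheaf_of_le _
      (Precoverage.toGrothendieck_mono Scheme.zariskiPrecoverage_le_fppfPrecoverage) hF, ?_⟩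
    intro T S _ _ f _ _ _ _
    apply hF.isSheafFor
    exact Precoverage.generate_mem_toGrothendieck (Scheme.Hom.singleton_mem_fppfPrecoverage f)
  · rintro ⟨hzar, H⟩
    rw [fppf_eq, isSheaf_type_propQCTopology_iff]
    refine ⟨hzar, ?_⟩
    intro R S f hf hs
    set g := Spec.map f with hg
    haveI : Flat g := hf.1
    haveI : LocallyOfFinitePresentation g := hf.2
    haveI : Surjective g := hs
    haveI : CompactSpace ↥(Spec R) := inferInstanceAs (CompactSpace (PrimeSpectrum R))
    obtain ⟨T', hT', h, m, hmh, hfl, hfp, hqf, hsurj⟩ :=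
      Groth.Agent.S9432.exists_affine_refinement g
    have hSh : Presieve.IsSheafFor F (Presieve.singleton h) := H T' (Spec R) h
    rw [Presieve.isSheafFor_iff_generate]
    refine Presieve.isSheafFor_subsieve_aux F (S := Sieve.generate (Presieve.singleton h)) ?_
      ((Presieve.isSheafFor_iff_generate _).mp hSh) ?_
    · rintro Y a ⟨W, b, c, ⟨⟩, rfl⟩
      exact ⟨_, b ≫ m, g, Presieve.singleton.mk, by rw [Category.assoc, hmh]⟩
    · intro Y f' _
      exact separated_aux F hzar H h f'

end Groth.Agent.S5238
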