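import Groth.Statements.S5240
import Groth.Agent.Lib.Helper27.MultRigid2

set_option autoImplicit false
universe u
open TensorProduct SGA3b
open SGA3b

namespace Groth.Agent.S5240

/-- Case of an affine target group: Let R be a ring, I a nilpotent ideal of R, H = Spec A an R-group of
multiplicative type, G = Spec C an affine R-group and u : H ⟶ G a homomorphism, given by the
bialgebra map φ : C → A. If the reduction of u modulo I is the unit homomorphism (φ c and ε(c)·1
have the same image in (R/I) ⊗ A for every c), then u is the unit homomorphism: φ c = ε(c)·1 for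
every c. (The published statement allows any S-group G; this row takes G affine.) (Affine group
schemes over an affine base are taken in Hopf-algebra form; base change is the tensor product; a
homomorphism of groups Spec A ⟶ Spec C is a bialgebra map C → A.) -/
theorem result (R : Type u) [CommRing R] (I : Ideal R) (hI : IsNilpotent I)
    (A : Type u) [CommRing A] [HopfAlgebra R A] (hH : IsMultType R A)
    (C : Type u) [CommRing C] [HopfAlgebra R C] (φ : C →ₐc[R] A)
    (h0 : ∀ c : C, (1 : R ⧸ I) ⊗ₜ[R] (φ c) = (1 : R ⧸ I) ⊗ₜ[R] (algebraMap R A (Coalgebra.counit c))) :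
    ∀ c : C, φ c = algebraMap R A (Coalgebra.counit c) := by
  intro c
  set ψ : C →ₐc[R] A := (Bialgebra.unitBialgHom R A).comp (Bialgebra.counitBialgHom R C) with hψ
  have hψapp : ∀ c : C, ψ c = algebraMap R A (Coalgebra.counit c) := fun c => rfl
  refine Groth.Agent.Lib.Helper27.MultRigid.rigid_multType I hI hH (φ : C →ₗc[R] A)
    (ψ : C →ₗc[R] A) h0 ?_ c
  intro R' _ _ g hg
  have hgψ : ∀ c : C, g (ψ c) = Coalgebra.counit (R := R) c • g 1 := by
    intro c
    rw [hψapp, Algebra.algebraMap_eq_smul_one, map_smul]
  rcases hg with hg | hg
  · have : WithConv.toConv (g ∘ₗ (ψ : C →ₗc[R] A).toLinearMap) = 0 := by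
      apply WithConv.ofConv_injective
      ext c
      change g (ψ c) = 0
      rw [hgψ, hg, smul_zero]
    rw [this]
    exact Commute.zero_right _
  · have : WithConv.toConv (g ∘ₗ (ψ : C →ₗc[R] A).toLinearMap) = 1 := by
      apply WithConv.ofConv_injective
      ext c
      change g (ψ c) = algebraMap R R' (Coalgebra.counit c)
      rw [hgψ, hg, Algebra.algebraMap_eq_smul_one]
    rw [this]
    exact Commute.one_right _

end Groth.Agent.S5240
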