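import Groth.Statements.S5244
import Groth.Agent.Lib.Helper27.DiagQuot
import Mathlib.RingTheory.HopfAlgebra.Quotient

set_option autoImplicit false
universe u
open TensorProduct SGA3b
open SGA3b

namespace Groth.Agent.S5244

/-- Case of a group of multiplicative type, assertion on the subgroup; G is taken of finite type, the
case the printed proof treats in full before a limit argument: Let k be a field, G = Spec A a
k-group of multiplicative type and of finite type, and H = Spec (A/J) a closed subgroup scheme of G
(J a Hopf ideal). Then H is of multiplicative type. (Affine group schemes over an affine base are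
taken in Hopf-algebra form; base change is the tensor product; a homomorphism of groups Spec A ⟶
Spec C is a bialgebra map C → A.) -/
theorem result (k : Type u) [Field k] (A : Type u) [CommRing A] [HopfAlgebra k A]
    (hft : Algebra.FiniteType k A) (h : IsMultType k A) (J : Ideal A) [J.IsHopfIdeal k] :
    IsMultType k (A ⧸ J) := by
  obtain ⟨s, hs, hmt⟩ := h
  have hex : ∃ f ∈ s, f ≠ 0 := by
    by_contra hne
    push_neg at hne
    have hbot : Ideal.span s = ⊥ := by rw [Ideal.span_eq_bot]; exact hne
    rw [hbot] at hs
    exact bot_ne_top hs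
  obtain ⟨f, hfs, hf0⟩ := hex
  obtain ⟨R', _, _, hff, M, _, ⟨e⟩⟩ := hmt f hfs
  refine ⟨{f}, Ideal.span_singleton_eq_top.2 (isUnit_iff_ne_zero.2 hf0), ?_⟩
  rintro g hg
  rw [Set.mem_singleton_iff] at hg
  subst hg
  -- `K = k_f` is a field
  have hunits : Submonoid.powers g ≤ IsUnit.submonoid k := by
    rintro x ⟨n, rfl⟩
    exact (isUnit_iff_ne_zero.2 hf0).pow n
  have eK : k ≃ₐ[k] Localization.Away g :=
    IsLocalization.atUnits k (Submonoid.powers g) hunits
  have hK : IsField (Localization.Away g) :=
    (eK.symm.toMulEquiv).isField (Field.toIsField k)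
  haveI : Nontrivial (Localization.Away g) := hK.nontrivial
  haveI : Nontrivial R' := by
    by_contra hnt
    rw [not_nontrivial_iff_subsingleton] at hnt
    obtain ⟨m₀, hm₀⟩ := Ideal.exists_maximal (Localization.Away g)
    exact hff.submodule_ne_top hm₀ (Subsingleton.elim _ _)
  obtain ⟨m, hm⟩ := Ideal.exists_maximal R'
  set π : (Localization.Away g ⊗[k] A) →ₐc[Localization.Away g] (Localization.Away g ⊗[k] (A ⧸ J)) :=
    Bialgebra.TensorProduct.map (BialgHom.id (Localization.Away g) (Localization.Away g))
      (Bialgebra.Quotient.mkBialgHom J) with hπdef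
  have hπ : Function.Surjective π := by
    intro y
    induction y using TensorProduct.induction_on with
    | zero => exact ⟨0, map_zero _⟩
    | tmul c q =>
      obtain ⟨a, rfl⟩ := Ideal.Quotient.mk_surjective q
      exact ⟨c ⊗ₜ a, rfl⟩
    | add x y hx hy =>
      obtain ⟨a, rfl⟩ := hx
      obtain ⟨b, rfl⟩ := hy
      exact ⟨a + b, map_add _ _ _⟩
  refine ⟨R' ⧸ m, inferInstance, inferInstance, ?_,
    Groth.Agent.Lib.Helper27.MultRigid.isDiag_quot π hπ e m⟩
  letI : Field (Localization.Away g) := hK.toField
  haveI : Nontrivial (R' ⧸ m) := Ideal.Quotient.nontrivial_iff.2 hm.ne_top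
  infer_instance

end Groth.Agent.S5244
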