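import Groth.Statements.S5245
import Groth.Agent.Lib.Helper27.MultRigidLocal

set_option autoImplicit false
universe u
open TensorProduct SGA3b
open SGA3b

namespace Groth.Agent.S5245

/-- Over a local base, where an open neighbourhood of the closed point is the whole base; affine target
group: Let R be a local ring with maximal ideal 𝔪, H = Spec A an R-group of multiplicative type and
of finite type, G = Spec C an affine R-group, with R Noetherian or C of finite presentation over R,
and u : H ⟶ G a homomorphism given by the bialgebra map φ : C → A. If the restriction of u to the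
closed fibre is the unit homomorphism (φ c − ε(c)·1 ∈ 𝔪A for every c), then u is the unit
homomorphism. (Affine group schemes over an affine base are taken in Hopf-algebra form; base change
is the tensor product; a homomorphism of groups Spec A ⟶ Spec C is a bialgebra map C → A.) -/
theorem result (R : Type u) [CommRing R] [IsLocalRing R]
    (A : Type u) [CommRing A] [HopfAlgebra R A] (hft : Algebra.FiniteType R A) (hH : IsMultType R A)
    (C : Type u) [CommRing C] [HopfAlgebra R C] (hC : IsNoetherianRing R ∨ Algebra.FinitePresentation R C)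
    (φ : C →ₐc[R] A)
    (hs : ∀ c : C, φ c - algebraMap R A (Coalgebra.counit c) ∈ Ideal.map (algebraMap R A) (IsLocalRing.maximalIdeal R)) :
    ∀ c : C, φ c = algebraMap R A (Coalgebra.counit c) := by
  classical
  intro c
  set ψ : C →ₐc[R] A := (Bialgebra.unitBialgHom R A).comp (Bialgebra.counitBialgHom R C) with hψ
  have hψapp : ∀ c : C, ψ c = algebraMap R A (Coalgebra.counit c) := fun c => rfl
  have hmod : ∀ c, (φ : C →ₗc[R] A) c - (ψ : C →ₗc[R] A) c ∈
      (IsLocalRing.maximalIdeal R) • (⊤ : Submodule R A) := fun c =>
    Groth.Agent.Lib.Helper27.MultRigidLocal.mem_smul_top_of_mem_map _ _ (hs c)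
  have hfin : ∃ t : Finset C, ∀ c, (φ : C →ₗc[R] A) c - (ψ : C →ₗc[R] A) c ∈
      Ideal.span ((fun c => (φ : C →ₗc[R] A) c - (ψ : C →ₗc[R] A) c) '' (t : Set C)) := by
    rcases hC with hN | hfp
    · have : IsNoetherianRing A := Algebra.FiniteType.isNoetherianRing R A
      exact Groth.Agent.Lib.Helper27.MultRigidLocal.exists_finset_of_noeth
        (fun c => (φ : C →ₗc[R] A) c - (ψ : C →ₗc[R] A) c)
    · exact Groth.Agent.Lib.Helper27.MultRigidLocal.exists_finset_of_finiteType
        (@Algebra.FiniteType.of_finitePresentation R C _ _ _ hfp) (φ : C →ₐ[R] A) (ψ : C →ₐ[R] A)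
  obtain ⟨t, ht⟩ := hfin
  refine Groth.Agent.Lib.Helper27.MultRigidLocal.rigid_local hH (φ : C →ₗc[R] A)
    (ψ : C →ₗc[R] A) hmod t ht ?_ c
  intro R' _ _ g hg
  have hgψ : ∀ c : C, g (ψ c) = Coalgebra.counit (R := R) c • g 1 := by
    intro c
    rw [hψapp, Algebra.algebraMap_eq_smul_one, map_smul]
  rcases hg with hg | hg
  · have : WithConv.toConv (g ∘ₗ (ψ : C →ₗc[R] A).toLinearMap) = 0 := by
      apply WithConv.ofConv_injective
      ext c
      change g (ψ c) = 0
      rw [hgψ, hg, smul_zero]
    rw [this]
    exact Commute.zero_right _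
  · have : WithConv.toConv (g ∘ₗ (ψ : C →ₗc[R] A).toLinearMap) = 1 := by
      apply WithConv.ofConv_injective
      ext c
      change g (ψ c) = algebraMap R R' (Coalgebra.counit c)
      rw [hgψ, hg, Algebra.algebraMap_eq_smul_one]
    rw [this]
    exact Commute.one_right _

end Groth.Agent.S5245
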