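import Groth.Statements.S5252
import Groth.Agent.Lib.Helper27.HopfNilLiftC
import Groth.Agent.S2969

set_option autoImplicit false
universe u
open TensorProduct SGA3b
open SGA3b

namespace Groth.Agent.S5252

section aux

open Groth.Agent.Lib.Helper17.MultLift Groth.Agent.Lib.Helper17.MultBC
  Groth.Agent.Lib.Helper27.HopfNilLift

/-- isotrivial implies of multiplicative type -/
theorem isMultType_of_isIsotrivial (A : Type u) [CommRing A] (C : Type u) [CommRing C]
    [HopfAlgebra A C] (h : IsIsotrivial A C) : IsMultType A C := by
  obtain ⟨R', _, _, -, -, hFF, N, _, ⟨e⟩⟩ := h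
  haveI := hFF
  refine ⟨{1}, by rw [Ideal.span_singleton_one], ?_⟩
  intro f hf
  obtain rfl : f = 1 := hf
  refine ⟨Localization.Away (1 : A) ⊗[A] R', inferInstance, inferInstance, inferInstance, ?_⟩
  letI iP : Algebra R' (Localization.Away (1 : A) ⊗[A] R') := Algebra.TensorProduct.rightAlgebra
  haveI : IsScalarTower A R' (Localization.Away (1 : A) ⊗[A] R') :=
    IsScalarTower.of_algebraMap_eq (fun x => by
      rw [Algebra.TensorProduct.algebraMap_apply, Algebra.TensorProduct.right_algebraMap_apply,
        Algebra.algebraMap_eq_smul_one, Algebra.algebraMap_eq_smul_one, TensorProduct.smul_tmul])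
  obtain ⟨c4⟩ := nonempty_bialgEquiv_of_tower (k := A) (P := R')
    (S' := Localization.Away (1 : A) ⊗[A] R') (C := C) e
  exact ⟨N, inferInstance,
    ⟨(cancelBaseChangeBialg A (Localization.Away (1 : A))
      (Localization.Away (1 : A) ⊗[A] R') C).trans c4⟩⟩

theorem isIsotrivial_main (A : Type u) [CommRing A] [IsArtinianRing A] [IsLocalRing A]
    (C : Type u) [CommRing C] [HopfAlgebra A C] [Module.Flat A C] (hft : Algebra.FiniteType A C)
    (h0 : IsMultType (IsLocalRing.ResidueField A) (IsLocalRing.ResidueField A ⊗[A] C)) :
    IsIsotrivial A C := by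
  haveI := hft
  obtain ⟨k', _, _, hfin, hsep, hD⟩ := Groth.Agent.S2969.result (IsLocalRing.ResidueField A)
    (IsLocalRing.ResidueField A ⊗[A] C) inferInstance h0
  haveI := hfin
  haveI := hsep
  haveI : Algebra.FormallyEtale (IsLocalRing.ResidueField A) k' :=
    Algebra.FormallyEtale.of_isSeparable _ _
  haveI : Algebra.FinitePresentation (IsLocalRing.ResidueField A) k' :=
    Algebra.FinitePresentation.of_finiteType.1 inferInstance
  haveI : Algebra.Etale (IsLocalRing.ResidueField A) k' := ⟨inferInstance, inferInstance⟩
  haveI : Module.FaithfullyFlat (IsLocalRing.ResidueField A) k' := inferInstance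
  have hsurj : Function.Surjective (algebraMap A (IsLocalRing.ResidueField A)) :=
    Ideal.Quotient.mk_surjective
  have hnil : IsNilpotent (RingHom.ker (algebraMap A (IsLocalRing.ResidueField A))) := by
    have h1 : RingHom.ker (algebraMap A (IsLocalRing.ResidueField A)) =
        IsLocalRing.maximalIdeal A := by
      rw [IsLocalRing.ResidueField.algebraMap_eq]
      exact IsLocalRing.ker_residue
    rw [h1, ← IsLocalRing.jacobson_eq_maximalIdeal (⊥ : Ideal A) bot_ne_top]
    exact IsArtinianRing.isNilpotent_jacobson_bot
  have hD' : IsDiag k' (k' ⊗[IsLocalRing.ResidueField A] (IsLocalRing.ResidueField A ⊗[A] C)) := by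
    obtain ⟨M, _, -, hM⟩ := hD
    exact ⟨M, inferInstance, hM⟩
  obtain ⟨R', _, _, h1, h2, h3, h4⟩ := exists_etale_diag hsurj hnil hD'
  exact ⟨R', inferInstance, inferInstance, h1, h3 inferInstance, h2, h4⟩

end aux

/-- Let A be an Artinian local ring with residue field k and H = Spec C an affine A-group with C flat
and of finite type over A, whose closed fibre Spec (k ⊗ C) is a k-group of multiplicative type. Then
H is of multiplicative type and isotrivial. (Affine group schemes over an affine base are taken in
Hopf-algebra form; base change is the tensor product; a homomorphism of groups Spec A ⟶ Spec C is a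
bialgebra map C → A.) -/
theorem result (A : Type u) [CommRing A] [IsArtinianRing A] [IsLocalRing A]
    (C : Type u) [CommRing C] [HopfAlgebra A C] [Module.Flat A C] (hft : Algebra.FiniteType A C)
    (h0 : IsMultType (IsLocalRing.ResidueField A) (IsLocalRing.ResidueField A ⊗[A] C)) :
    IsMultType A C ∧ IsIsotrivial A C := by
  have h := isIsotrivial_main A C hft h0
  exact ⟨isMultType_of_isIsotrivial A C h, h⟩

end Groth.Agent.S5252
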