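import Groth.Statements.S5254
import Groth.Agent.Lib.Helper17.TorsionMT2

set_option autoImplicit false
universe u
open TensorProduct SGA3b
open SGA3b

namespace Groth.Agent.S5254

/-- Over a local base, where an open neighbourhood of the closed point is the whole base: Let R be a
local ring with maximal ideal 𝔪, H = Spec A an R-group of multiplicative type and of finite type,
and K = Spec (A/J) a closed subgroup scheme of H (J a Hopf ideal) with A/J of finite presentation
over R. If the closed fibre of K is the unit group, i.e. J + 𝔪A = Ker ε + 𝔪A with ε the counit, then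
K is the unit group: J = Ker ε. (Affine group schemes over an affine base are taken in Hopf-algebra
form; base change is the tensor product; a homomorphism of groups Spec A ⟶ Spec C is a bialgebra map
C → A.) -/
theorem result (R : Type u) [CommRing R] [IsLocalRing R]
    (A : Type u) [CommRing A] [HopfAlgebra R A] (hft : Algebra.FiniteType R A) (hH : IsMultType R A)
    (J : Ideal A) [J.IsHopfIdeal R] (hK : Algebra.FinitePresentation R (A ⧸ J))
    (hs : J ⊔ Ideal.map (algebraMap R A) (IsLocalRing.maximalIdeal R) =
      RingHom.ker (Bialgebra.counitAlgHom R A) ⊔ Ideal.map (algebraMap R A) (IsLocalRing.maximalIdeal R)) :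
    J = RingHom.ker (Bialgebra.counitAlgHom R A) := by
  have hJε : J ≤ RingHom.ker (Bialgebra.counitAlgHom R A) := by
    intro x hx
    rw [RingHom.mem_ker]
    exact Submodule.IsCoideal.counit_eq_zero (I := J.restrictScalars R) hx
  refine le_antisymm hJε ?_
  -- the quotient map
  have hπs : Function.Surjective (Bialgebra.Quotient.mkBialgHom (R := R) J) :=
    Ideal.Quotient.mk_surjective
  have hπ0 : ∀ a, Bialgebra.Quotient.mkBialgHom (R := R) J a = 0 ↔ a ∈ J := fun a =>
    Ideal.Quotient.eq_zero_iff_mem
  -- Nakayama step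
  have hstep : ∀ n : ℕ, 0 < n →
      RingHom.ker (Bialgebra.counitAlgHom R A) ≤ J ⊔ torsionIdeal R A n := by
    intro n hn
    haveI := Groth.Agent.Lib.Helper17.TorsionMT2.finite_quot_torsionIdeal A hft hH n hn
    refine Groth.Agent.Lib.Helper17.TorsionMT2.ker_counit_le_sup A J (torsionIdeal R A n) hJε
      (Groth.Agent.Lib.Helper17.TorsionMT2.torsionIdeal_le_ker_counit n) ?_
    rw [hs]
    exact le_sup_left
  -- torsion ideals of the quotient
  have hT : ∀ n : ℕ, 0 < n → torsionIdeal R (A ⧸ J) n =
      RingHom.ker (Bialgebra.counitAlgHom R (A ⧸ J)) := by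
    intro n hn
    rw [← Groth.Agent.Lib.Helper17.TorsionMT.map_torsionIdeal_of_surjective
      (Bialgebra.Quotient.mkBialgHom (R := R) J) hπs n,
      ← Groth.Agent.Lib.Helper17.TorsionMT2.map_ker_counit_of_surjective
      (Bialgebra.Quotient.mkBialgHom (R := R) J) hπs]
    apply le_antisymm
    · exact Ideal.map_mono (Groth.Agent.Lib.Helper17.TorsionMT2.torsionIdeal_le_ker_counit n)
    · refine (Ideal.map_mono (hstep n hn)).trans ?_
      rw [Ideal.map_sup]
      refine sup_le ?_ le_rfl
      rw [Ideal.map_le_iff_le_comap]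
      intro x hx
      rw [Ideal.mem_comap]
      have : Bialgebra.Quotient.mkBialgHom (R := R) J x = 0 := (hπ0 x).2 hx
      rw [show ((Bialgebra.Quotient.mkBialgHom (R := R) J : A →ₐ[R] A ⧸ J) x) =
        Bialgebra.Quotient.mkBialgHom (R := R) J x from rfl, this]
      exact Ideal.zero_mem _
  have hbot := Groth.Agent.Lib.Helper17.TorsionMT2.ker_counit_eq_bot_of_torsion hH
    (Bialgebra.Quotient.mkBialgHom (R := R) J) hπs hK hT
  intro a ha
  rw [RingHom.mem_ker] at ha
  have h1 : Bialgebra.Quotient.mkBialgHom (R := R) J a ∈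
      RingHom.ker (Bialgebra.counitAlgHom R (A ⧸ J)) := by
    rw [RingHom.mem_ker]
    exact (CoalgHomClass.counit_comp_apply (Bialgebra.Quotient.mkBialgHom (R := R) J) a).trans ha
  rw [hbot, Ideal.mem_bot] at h1
  exact (hπ0 a).1 h1

end Groth.Agent.S5254
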