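import Groth.Statements.S5270
import Mathlib.RingTheory.AdicCompletion.Noetherian
import Mathlib.RingTheory.Flat.FaithfullyFlat.Algebra
import Mathlib.LinearAlgebra.TensorProduct.Quotient
import Mathlib.Algebra.MonoidAlgebra.Module

set_option autoImplicit false
universe u
open TensorProduct SGA3b
open SGA3b

namespace Groth.Agent.S5270


/-- separatedness core: if `R'` is a finite faithfully flat `A`-algebra (`A` Noetherian, `I` in the
Jacobson radical) and `R' ⊗ B` is `A`-linearly a module of finitely supported functions into `R'`,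
then an element of `B` lying in `I^n B` for all `n` is zero. -/
theorem sep_core (A : Type u) [CommRing A] [IsNoetherianRing A] (I : Ideal A)
    (hI : I ≤ Ideal.jacobson ⊥)
    (B : Type u) [AddCommGroup B] [Module A B]
    (R' : Type u) [CommRing R'] [Algebra A R'] [Module.Finite A R'] [Module.FaithfullyFlat A R']
    (M : Type u) (e : (R' ⊗[A] B) →ₗ[A] (M →₀ R')) (he : Function.Injective e)
    (b : B) (hb : ∀ n : ℕ, b ∈ (I ^ n • ⊤ : Submodule A B)) : b = 0 := by
  apply Module.FaithfullyFlat.tensorProduct_mk_injective (A := A) (B := R') B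
  rw [map_zero]
  apply he
  rw [map_zero]
  ext m
  let g : B →ₗ[A] R' := (Finsupp.lapply (R := A) (M := R') m) ∘ₗ e ∘ₗ (TensorProduct.mk A R' B 1)
  have hg : ∀ n : ℕ, g b ∈ (I ^ n • ⊤ : Submodule A R') := by
    intro n
    have h1 : (I ^ n • ⊤ : Submodule A B).map g ≤ I ^ n • ⊤ := by
      rw [Submodule.map_smul'']
      exact Submodule.smul_mono le_rfl le_top
    exact h1 (Submodule.mem_map_of_mem (hb n))
  have h2 : g b ∈ (⨅ i : ℕ, I ^ i • ⊤ : Submodule A R') := by
    rw [Submodule.mem_iInf]
    exact hg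
  rw [Ideal.iInf_pow_smul_eq_bot_of_le_jacobson I hI] at h2
  rw [Submodule.mem_bot] at h2
  exact h2

/-- Injectivity of the map to formal homomorphisms. Let A be a Noetherian ring, separated and complete
for the I-adic topology, H = Spec B an isotrivial A-group of multiplicative type and G = Spec C an
affine A-group. If two homomorphisms H ⟶ G, given by bialgebra maps φ, ψ : C → B, have the same
reduction modulo I^(n+1) for every n ≥ 0, then φ = ψ. (Affine group schemes over an affine base are
taken in Hopf-algebra form; base change is the tensor product; a homomorphism of groups Spec A ⟶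
Spec C is a bialgebra map C → A.) -/
theorem result (A : Type u) [CommRing A] [IsNoetherianRing A] (I : Ideal A) [IsAdicComplete I A]
    (B : Type u) [CommRing B] [HopfAlgebra A B] (hH : IsIsotrivial A B)
    (C : Type u) [CommRing C] [HopfAlgebra A C] (φ ψ : C →ₐc[A] B)
    (h : ∀ (n : ℕ) (c : C), (1 : A ⧸ I ^ (n + 1)) ⊗ₜ[A] (φ c) = (1 : A ⧸ I ^ (n + 1)) ⊗ₜ[A] (ψ c)) :
    φ = ψ := by
  obtain ⟨R', _, _, _, hfin, hff, M, _, ⟨e⟩⟩ := hH
  apply BialgHom.ext
  intro c
  rw [← sub_eq_zero]
  have hI : I ≤ Ideal.jacobson ⊥ := IsAdicComplete.le_jacobson_bot I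
  let e' : (R' ⊗[A] B) →ₗ[A] (M →₀ R') :=
    ((MonoidAlgebra.coeffLinearEquiv R').toLinearMap ∘ₗ
      (e : (R' ⊗[A] B) ≃ₗ[R'] MonoidAlgebra R' M).toLinearMap).restrictScalars A
  refine sep_core A I hI B R' M e' ?_ _ ?_
  · intro x y hxy
    have h1 : (MonoidAlgebra.coeffLinearEquiv R') (e x) = (MonoidAlgebra.coeffLinearEquiv R') (e y) := hxy
    exact e.injective ((MonoidAlgebra.coeffLinearEquiv R').injective h1)
  · intro n
    rcases n with _ | n
    · rw [pow_zero, Ideal.one_eq_top, Submodule.top_smul]
      exact Submodule.mem_top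
    · have h1 := h n c
      have h2 : (1 : A ⧸ I ^ (n + 1)) ⊗ₜ[A] (φ c - ψ c) = 0 := by
        rw [TensorProduct.tmul_sub, h1, sub_self]
      have h3 := congr_arg (TensorProduct.quotTensorEquivQuotSMul B (I ^ (n + 1))) h2
      rw [TensorProduct.quotTensorEquivQuotSMul_mk_one_tmul, map_zero,
        Submodule.Quotient.mk_eq_zero] at h3
      exact h3

end Groth.Agent.S5270
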