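import Groth.Statements.S5278
import Mathlib.AlgebraicGeometry.Morphisms.QuasiFinite
import Mathlib.AlgebraicGeometry.Morphisms.UniversallyOpen
import Mathlib.AlgebraicGeometry.Morphisms.Proper
import Mathlib.Topology.Connected.Clopen

set_option autoImplicit false
open CategoryTheory AlgebraicGeometry
universe u
open SGA3x

namespace Groth.Agent.S5278


/-- topological core: an open and closed map with a finite fibre onto a connected space: every
connected component of the source meets that fibre. -/
theorem top_core {α β : Type*} [TopologicalSpace α] [TopologicalSpace β] [PreconnectedSpace β]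
    (f : α → β) (hopen : IsOpenMap f) (hclosed : IsClosedMap f) (x : β)
    (hfin : (f ⁻¹' {x}).Finite) (c : α) :
    ∃ x' : α, f x' = x ∧ x' ∈ connectedComponent c := by
  -- (A) every nonempty clopen subset meets the fibre
  have hA : ∀ V : Set α, IsClopen V → V.Nonempty → ∃ x' ∈ V, f x' = x := by
    intro V hV hne
    have h1 : IsClopen (f '' V) := ⟨hclosed _ hV.1, hopen _ hV.2⟩
    have h2 : f '' V = Set.univ := h1.eq_univ (hne.image f)
    have : x ∈ f '' V := h2 ▸ Set.mem_univ x
    obtain ⟨x', hx', rfl⟩ := this
    exact ⟨x', hx', rfl⟩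
  have key : ∀ n : ℕ, ∀ U : Set α, IsClopen U → c ∈ U → (U ∩ f ⁻¹' {x}).ncard = n →
      ∃ x' : α, f x' = x ∧ x' ∈ connectedComponent c := by
    intro n
    induction n using Nat.strong_induction_on with
    | _ n ih =>
      intro U hU hc hn
      by_cases hpre : _root_.IsPreconnected U
      · obtain ⟨x', hx', hfx⟩ := hA U hU ⟨c, hc⟩
        exact ⟨x', hfx, hpre.subset_connectedComponent hc hx'⟩
      · -- split U
        have hsplit : ∃ V W : Set α, IsClopen V ∧ IsClopen W ∧ c ∈ V ∧ V ⊆ U ∧ W ⊆ U ∧
            Disjoint V W ∧ W.Nonempty := by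
          unfold _root_.IsPreconnected at hpre
          push Not at hpre
          obtain ⟨u, v, hu, hv, hUuv, hUu, hUv, hUuv'⟩ := hpre
          have hUuv'' : U ∩ (u ∩ v) = ∅ := hUuv'
          have hV : U ∩ u = U \ v := by
            ext y
            constructor
            · rintro ⟨hy1, hy2⟩
              refine ⟨hy1, fun hy3 => ?_⟩
              have : y ∈ U ∩ (u ∩ v) := ⟨hy1, hy2, hy3⟩
              rw [hUuv''] at this
              exact this
            · rintro ⟨hy1, hy2⟩
              refine ⟨hy1, ?_⟩
              rcases hUuv hy1 with h | h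
              · exact h
              · exact absurd h hy2
          have hW : U ∩ v = U \ u := by
            ext y
            constructor
            · rintro ⟨hy1, hy2⟩
              refine ⟨hy1, fun hy3 => ?_⟩
              have : y ∈ U ∩ (u ∩ v) := ⟨hy1, hy3, hy2⟩
              rw [hUuv''] at this
              exact this
            · rintro ⟨hy1, hy2⟩
              refine ⟨hy1, ?_⟩
              rcases hUuv hy1 with h | h
              · exact absurd h hy2
              · exact h
          have hVc : IsClopen (U ∩ u) := ⟨hV ▸ hU.1.sdiff hv, hU.2.inter hu⟩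
          have hWc : IsClopen (U ∩ v) := ⟨hW ▸ hU.1.sdiff hu, hU.2.inter hv⟩
          have hdisj : Disjoint (U ∩ u) (U ∩ v) := by
            rw [Set.disjoint_iff]
            rintro y ⟨⟨hy1, hy2⟩, ⟨_, hy3⟩⟩
            have : y ∈ U ∩ (u ∩ v) := ⟨hy1, hy2, hy3⟩
            rw [hUuv''] at this
            exact this
          rcases hUuv hc with h | h
          · exact ⟨U ∩ u, U ∩ v, hVc, hWc, ⟨hc, h⟩, Set.inter_subset_left, Set.inter_subset_left,
              hdisj, hUv⟩
          · exact ⟨U ∩ v, U ∩ u, hWc, hVc, ⟨hc, h⟩, Set.inter_subset_left, Set.inter_subset_left,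
              hdisj.symm, hUu⟩
        obtain ⟨V, W, hV, hW, hcV, hVU, hWU, hdisj, hWne⟩ := hsplit
        obtain ⟨w, hwW, hfw⟩ := hA W hW hWne
        have hlt : (V ∩ f ⁻¹' {x}).ncard < (U ∩ f ⁻¹' {x}).ncard := by
          apply Set.ncard_lt_ncard
          · refine ⟨Set.inter_subset_inter_left _ hVU, fun hsub => ?_⟩
            have hw1 : w ∈ U ∩ f ⁻¹' {x} := ⟨hWU hwW, hfw⟩
            have hw2 : w ∈ V := (hsub hw1).1
            exact (Set.disjoint_iff.mp hdisj) ⟨hw2, hwW⟩
          · exact hfin.subset Set.inter_subset_right
        exact ih _ (hn ▸ hlt) V hV hcV rfl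
  exact key _ Set.univ isClopen_univ (Set.mem_univ c) rfl

/-- Let X be a connected scheme, f : X' ⟶ X a finite etale morphism and x a point of X. Then every
connected component of X' meets the fibre of f over x; equivalently the map from the connected
components of the fibre (or of the geometric fibre) to those of X' is surjective. -/
theorem result {X X' : Scheme.{u}} [ConnectedSpace X] (f : X' ⟶ X)
    [IsFinite f] [Etale f] (x : X) (c : X') :
    ∃ x' : X', f.base x' = x ∧ x' ∈ connectedComponent c := by
  exact top_core f.base f.isOpenMap f.isClosedMap x (f.finite_preimage_singleton x) c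

end Groth.Agent.S5278
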