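import Groth.Statements.S5280
import Groth.Agent.S5279
import Mathlib

set_option autoImplicit false
open CategoryTheory MonoidalCategory CartesianMonoidalCategory MonObj GrpObj AlgebraicGeometry
universe u
open SGA3x

namespace Groth.Agent.S5280

variable {S : Scheme.{u}} {G H : Over S} [GrpObj G] [GrpObj H] (u : G ⟶ H) [IsMonHom u]

/-- the conjugation action morphism -/
noncomputable def cact : G ⊗ H ⟶ H := (fst G H ≫ u) * snd G H * (fst G H ≫ u)⁻¹

lemma comp_cact {Z : Over S} (w : Z ⟶ G ⊗ H) :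
    w ≫ cact u = (w ≫ fst G H ≫ u) * (w ≫ snd G H) * (w ≫ fst G H ≫ u)⁻¹ := by
  unfold cact
  rw [MonObj.comp_mul, MonObj.comp_mul, GrpObj.comp_inv]

lemma lift_cact {Z : Over S} (g : Z ⟶ G) (h : Z ⟶ H) :
    lift g h ≫ cact u = (g ≫ u) * h * (g ≫ u)⁻¹ := by
  rw [comp_cact, lift_fst_assoc, lift_snd]

noncomputable def conjAction : AlgGrp.Action G H where
  act := cact u
  one_act := by
    rw [comp_cact, whiskerRight_fst_assoc, whiskerRight_snd, leftUnitor_hom]
    have : fst (𝟙_ (Over S)) H ≫ η[G] ≫ u = 1 := by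
      rw [← Category.assoc]
      have : fst (𝟙_ (Over S)) H ≫ η[G] = 1 := by
        rw [MonObj.one_eq_one, MonObj.comp_one]
      rw [this, MonObj.one_comp]
    rw [this]
    simp
  mul_act := by
    have e1 : (μ[G] ▷ H) ≫ fst G H ≫ u =
        ((fst (G ⊗ G) H ≫ fst G G) ≫ u) * ((fst (G ⊗ G) H ≫ snd G G) ≫ u) := by
      rw [whiskerRight_fst_assoc, MonObj.mul_eq_mul, ← Category.assoc, MonObj.comp_mul,
        MonObj.mul_comp]
    have e2 : (μ[G] ▷ H) ≫ snd G H = snd (G ⊗ G) H := whiskerRight_snd _ _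
    have e3 : ((α_ G G H).hom ≫ (G ◁ cact u)) ≫ fst G H ≫ u =
        (fst (G ⊗ G) H ≫ fst G G) ≫ u := by
      simp
    have e4 : ((α_ G G H).hom ≫ snd G (G ⊗ H)) ≫ fst G H ≫ u =
        (fst (G ⊗ G) H ≫ snd G G) ≫ u := by
      simp
    have e5 : ((α_ G G H).hom ≫ snd G (G ⊗ H)) ≫ snd G H = snd (G ⊗ G) H := by
      simp
    have e6 : ((α_ G G H).hom ≫ (G ◁ cact u)) ≫ snd G H =
        ((α_ G G H).hom ≫ snd G (G ⊗ H)) ≫ cact u := by
      simp
    rw [comp_cact, ← Category.assoc (α_ G G H).hom, comp_cact, e1, e2, e3, e6, comp_cact, e4, e5]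
    group

theorem main_aux {S S₀ : Scheme.{u}} (i₀ : S₀ ⟶ S) [IsClosedImmersion i₀]
    (hnil : ∀ x : S, ∃ U : S.affineOpens, x ∈ (U : S.Opens) ∧ IsNilpotent (i₀.ker.ideal U))
    (G H : Over S) [GrpObj G] [GrpObj H] (hG : TwC.Locally S TwC.Topology.fpqc (fun S' f => ∃ (M : Type) (_ : AddCommGroup M), Nonempty (Grp.mk (Red.bc f G) ≅ Grp.mk (Red.DS S' M))))
    (u : G ⟶ H) [IsMonHom u]
    (h0 : ∀ (Y : Over S) (_ : Y ⟶ Over.mk i₀) (g : Y ⟶ G) (h : Y ⟶ H), (g ≫ u) * h = h * (g ≫ u)) :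
    ∀ (Y : Over S) (g : Y ⟶ G) (h : Y ⟶ H), (g ≫ u) * h = h * (g ≫ u) := by
  have key := Groth.Agent.S5279.main_aux i₀ hnil G H hG (conjAction u) (by
    intro Y p g x
    show lift g x ≫ cact u = x
    rw [lift_cact, h0 Y p g x]
    group)
  intro Y g h
  have h1 := key Y g h
  change lift g h ≫ cact u = h at h1
  rw [lift_cact] at h1
  exact mul_inv_eq_iff_eq_mul.mp h1

/-- Let i₀ : S₀ ⟶ S be a closed immersion whose ideal is locally nilpotent (nilpotent on each member of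
an affine open cover of S; in particular S₀ and S have the same underlying space), u : G ⟶ H a
homomorphism of S-groups with G of multiplicative type (fpqc-locally on S isomorphic, as a group, to
diagonalisable groups D(M), M allowed to vary and taken in Type 0) and H locally of finite
presentation over S. If the restriction u₀ of u to S₀ is central (u(g) commutes with h for all
points g of G and h of H defined over an S₀-scheme), then u is central. -/
theorem result {S S₀ : Scheme.{u}} (i₀ : S₀ ⟶ S) [IsClosedImmersion i₀]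
    (hnil : ∀ x : S, ∃ U : S.affineOpens, x ∈ (U : S.Opens) ∧ IsNilpotent (i₀.ker.ideal U))
    (G H : Over S) [GrpObj G] [GrpObj H] (hG : TwC.Locally S TwC.Topology.fpqc (fun S' f => ∃ (M : Type) (_ : AddCommGroup M), Nonempty (Grp.mk (Red.bc f G) ≅ Grp.mk (Red.DS S' M))))
    [LocallyOfFinitePresentation H.hom] (u : G ⟶ H) [IsMonHom u]
    (h0 : ∀ (Y : Over S) (p : Y ⟶ Over.mk i₀) (g : Y ⟶ G) (h : Y ⟶ H), (g ≫ u) * h = h * (g ≫ u)) :
    ∀ (Y : Over S) (g : Y ⟶ G) (h : Y ⟶ H), (g ≫ u) * h = h * (g ≫ u) := by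
  exact main_aux i₀ hnil G H hG u h0

end Groth.Agent.S5280
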