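import Groth.Statements.S5308
import Groth.Agent.Lib.Helper89.TwC2
import Groth.Agent.S5266

set_option autoImplicit false
open CategoryTheory MonoidalCategory CartesianMonoidalCategory MonObj GrpObj AlgebraicGeometry
universe u
open SGA3x

namespace Groth.Agent.S5308

/-- (i) ⇒ (ii). Let R be a commutative twisted constant S-group which is isotrivial (it becomes a
constant group over the open and closed pieces of one finite etale surjective S' ⟶ S). Then R is a
union of open and closed subschemes which are quasi-compact, indeed finite, over S: every point of R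
has an open and closed neighbourhood U in R with U ⟶ S finite. -/
theorem result {S : Scheme.{u}} (R : Over S) [GrpObj R]
    (hcomm : ∀ (X : Over S) (a b : X ⟶ R), a * b = b * a) (hR : TwC.IsTwConstGrp TwC.Topology.finiteEtale R) (x : R.left) :
    ∃ U : R.left.Opens, x ∈ U ∧ IsClosed (U : Set R.left) ∧ IsFinite (U.ι ≫ R.hom) := by
  obtain ⟨S', f, hfin, het, hsurj, hloc⟩ := hR
  have hloc' : ∀ s' : S', ∃ U : S'.Opens, s' ∈ U ∧ IsClosed (U : Set S') ∧
      ∃ I : Type u, Nonempty (Red.bc (U.ι ≫ f) R ≅ TwC.const U I) := by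
    intro s'
    obtain ⟨U, h1, h2, M, _, e, _⟩ := hloc s'
    exact ⟨U, h1, h2, M, ⟨e⟩⟩
  have hTw : TwC.IsTwConst TwC.Topology.fpqc R := by
    refine ⟨S', f, inferInstance, hsurj, ?_, ?_⟩
    · intro V hV
      exact ⟨f ⁻¹ᵁ V, (hV.preimage f).isCompact, Set.image_preimage_eq _ f.surjective⟩
    · intro s'
      obtain ⟨U, h1, _, I, he⟩ := hloc' s'
      exact ⟨U, h1, I, he⟩
  obtain ⟨W, hxW, hWc, hqc⟩ := Groth.Agent.Lib.Helper89.TwC1.exists_clopen_quasiCompact R f hloc' x
  refine ⟨W, hxW, hWc, ?_⟩
  have : IsClosedImmersion W.ι := IsClosedImmersion.of_isPreimmersion _ (by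
    rw [Scheme.Opens.range_ι]; exact hWc)
  exact Groth.Agent.S5266.result R hTw W.ι

end Groth.Agent.S5308
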