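import Groth.Statements.S5311
import Groth.Agent.Lib.Helper98.GrpUnivOpen

set_option autoImplicit false
universe u
open CategoryTheory CategoryTheory.Limits MonoidalCategory CartesianMonoidalCategory MonObj GrpObj AlgebraicGeometry
open SGA3

namespace Groth.Agent.S5311

/-- Let u : G → H be a homomorphism of S-group schemes with G or H universally open over S, and let V be
the largest open subscheme of G on which the restriction of u is universally open. Then the image U
of V in S is open and V is an open subgroup scheme of G over U: V contains the unit point of every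
fibre of G that it meets, V is stable under the inversion of G, and the product of a point of G ×_S
G whose two projections lie in V lies in V. -/
theorem result (S : Scheme.{u}) (G H : Over S) [GrpObj G] [GrpObj H]
    (u : G ⟶ H) [IsMonHom u] (hG : UniversallyOpen G.hom ∨ UniversallyOpen H.hom)
    (V : G.left.Opens) (hV : UniversallyOpen (V.ι ≫ u.left))
    (hmax : ∀ W : G.left.Opens, UniversallyOpen (W.ι ≫ u.left) → W ≤ V) :
    IsOpen (G.hom.base '' (V : Set G.left)) ∧
    (∀ g ∈ V, ∀ p : ↥(𝟙_ (Over S)).left, (𝟙_ (Over S)).hom.base p = G.hom.base g → η[G].left.base p ∈ V) ∧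
    (∀ g ∈ V, ι[G].left.base g ∈ V) ∧
    (∀ z : ↥(G ⊗ G).left, (fst G G).left.base z ∈ V → (snd G G).left.base z ∈ V → μ[G].left.base z ∈ V) := by
  classical
  -- the open `V` as an object over `S`
  let Vo : Over S := Over.mk (V.ι ≫ G.hom)
  let j : Vo ⟶ G := Over.homMk V.ι rfl
  have hjl : j.left = V.ι := rfl
  -- `V ⟶ S` is universally open
  have hπ : UniversallyOpen Vo.hom := by
    show UniversallyOpen (V.ι ≫ G.hom)
    rcases hG with hG | hH
    · infer_instance
    · have : V.ι ≫ G.hom = (V.ι ≫ u.left) ≫ H.hom := by rw [Category.assoc, Over.w u]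
      rw [this]; infer_instance
  have hju : UniversallyOpen (j ≫ u).left := by rw [Over.comp_left, hjl]; exact hV
  have hjo : UniversallyOpen j.left := by rw [hjl]; infer_instance
  -- the multiplication map on `V ×_S V`
  let Φ : Vo ⊗ Vo ⟶ G := (fst Vo Vo ≫ j) * (snd Vo Vo ≫ j)
  have hΦ : UniversallyOpen Φ.left := Lib.Helper98.GrpUnivOpen.univOpen_mul j j
  have hΦu : UniversallyOpen (Φ ≫ u).left := by
    have e : Φ ≫ u = (fst Vo Vo ≫ (j ≫ u)) * (snd Vo Vo ≫ (j ≫ u)) := by
      rw [MonObj.mul_comp, Category.assoc, Category.assoc]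
    rw [e]
    exact Lib.Helper98.GrpUnivOpen.univOpen_mul (j ≫ u) (j ≫ u)
  -- its (open) image
  let W : G.left.Opens := ⟨Set.range Φ.left.base, Φ.left.isOpenMap.isOpen_range⟩
  have hWV : W ≤ V := by
    apply hmax
    have hsub : Set.range Φ.left.base ⊆ Set.range W.ι.base := by
      rw [Scheme.Opens.range_ι]; exact subset_rfl
    let p : (Vo ⊗ Vo).left ⟶ (W : Scheme.{u}) := IsOpenImmersion.lift W.ι Φ.left hsub
    have hp : p ≫ W.ι = Φ.left := IsOpenImmersion.lift_fac _ _ _
    have hps : Surjective p := by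
      constructor
      intro y
      obtain ⟨z, hz⟩ : (W.ι.base y) ∈ Set.range Φ.left.base := y.2
      refine ⟨z, ?_⟩
      apply W.ι.isOpenEmbedding.injective
      rw [← Scheme.Hom.comp_apply, hp]
      exact hz
    have : UniversallyOpen (p ≫ (W.ι ≫ u.left)) := by
      rw [← Category.assoc, hp, ← Over.comp_left]; exact hΦu
    exact Lib.Helper98.GrpUnivOpen.univOpen_of_comp_surjective p (W.ι ≫ u.left)
  -- inversion
  have hιι : ι[G] ≫ ι[G] = 𝟙 G := by
    rw [GrpObj.inv_eq_inv, GrpObj.comp_inv, Category.comp_id, _root_.inv_inv]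
  have hιu : ι[G] ≫ u = u ≫ ι[H] := by
    rw [GrpObj.inv_eq_inv, GrpObj.inv_comp, Category.id_comp, Hom.inv_def]
  have hinv : ∀ g ∈ V, ι[G].left.base g ∈ V := by
    intro g hg
    have hιiso : IsIso ι[G].left := ⟨ι[G].left, by rw [← Over.comp_left, hιι]; rfl,
      by rw [← Over.comp_left, hιι]; rfl⟩
    have hιHiso : IsIso ι[H].left := by
      have hH : ι[H] ≫ ι[H] = 𝟙 H := by
        rw [GrpObj.inv_eq_inv, GrpObj.comp_inv, Category.comp_id, _root_.inv_inv]
      exact ⟨ι[H].left, by rw [← Over.comp_left, hH]; rfl, by rw [← Over.comp_left, hH]; rfl⟩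
    let V' : G.left.Opens := ι[G].left ⁻¹ᵁ V
    have hV' : V' ≤ V := by
      apply hmax
      have e : V'.ι ≫ u.left = (ι[G].left ∣_ V) ≫ (V.ι ≫ u.left) ≫ ι[H].left := by
        have h1 : (ι[G].left ∣_ V) ≫ V.ι = V'.ι ≫ ι[G].left := morphismRestrict_ι _ _
        have h2 : ι[G].left ≫ u.left ≫ ι[H].left = u.left := by
          rw [← Over.comp_left, ← Over.comp_left, ← hιu, ← Category.assoc, hιι, Category.id_comp]
        calc V'.ι ≫ u.left = V'.ι ≫ ι[G].left ≫ u.left ≫ ι[H].left := by rw [h2]
          _ = ((ι[G].left ∣_ V) ≫ V.ι) ≫ u.left ≫ ι[H].left := by rw [h1, Category.assoc]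
          _ = _ := by simp only [Category.assoc]
      rw [e]
      infer_instance
    apply hV'
    show ι[G].left.base (ι[G].left.base g) ∈ V
    have : ι[G].left.base (ι[G].left.base g) = g := by
      rw [← Scheme.Hom.comp_apply, ← Over.comp_left, hιι]; rfl
    rw [this]; exact hg
  -- product
  have hmul : ∀ z : ↥(G ⊗ G).left, (fst G G).left.base z ∈ V → (snd G G).left.base z ∈ V →
      μ[G].left.base z ∈ V := by
    intro z h1 h2
    apply hWV
    -- lift `z` to `G ⊗ Vo`
    have hp1 := Lib.Helper98.GrpUnivOpen.isPullback_whiskerLeft' G j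
    have hp2 := Lib.Helper98.GrpUnivOpen.isPullback_whiskerRight' Vo j
    obtain ⟨v₂, hv₂⟩ : (snd G G).left.base z ∈ Set.range V.ι.base := by
      rw [Scheme.Opens.range_ι]; exact h2
    obtain ⟨v₁, hv₁⟩ : (fst G G).left.base z ∈ Set.range V.ι.base := by
      rw [Scheme.Opens.range_ι]; exact h1
    obtain ⟨z₁, hz₁, -⟩ := Scheme.exists_preimage_of_isPullback hp1 z v₂ hv₂.symm
    have hf : (fst G Vo).left.base z₁ = j.left.base v₁ := by
      have : (fst G Vo).left = (G ◁ j).left ≫ (fst G G).left := by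
        rw [← Over.comp_left, whiskerLeft_fst]
      rw [this, Scheme.Hom.comp_base, TopCat.comp_app, hz₁]
      exact hv₁.symm
    obtain ⟨z', hz', -⟩ := Scheme.exists_preimage_of_isPullback hp2 z₁ v₁ hf
    have hΦe : Φ = (j ▷ Vo) ≫ (G ◁ j) ≫ μ[G] := by
      have : (j ▷ Vo) ≫ (G ◁ j) = lift (fst Vo Vo ≫ j) (snd Vo Vo ≫ j) := by
        ext <;> simp
      rw [← Category.assoc, this]; rfl
    refine ⟨z', ?_⟩
    rw [hΦe, Over.comp_left, Over.comp_left, Scheme.Hom.comp_base, Scheme.Hom.comp_base,
      TopCat.comp_app, TopCat.comp_app, hz', hz₁]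
  refine ⟨?_, ?_, hinv, hmul⟩
  · have : G.hom.base '' (V : Set G.left) = Set.range (V.ι ≫ G.hom).base := by
      rw [Scheme.Hom.comp_base, TopCat.coe_comp, Set.range_comp, Scheme.Opens.range_ι]
    rw [this]
    haveI : UniversallyOpen (V.ι ≫ G.hom) := hπ
    exact (Scheme.Hom.isOpenMap (V.ι ≫ G.hom)).isOpen_range
  · intro g hg p hp
    have hpg : p = G.hom.base g := hp
    subst hpg
    let z : ↥(G ⊗ G).left := (lift (𝟙 G) ι[G]).left.base g
    have hz1 : (fst G G).left.base z = g := by
      show (fst G G).left.base ((lift (𝟙 G) ι[G]).left.base g) = g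
      rw [← Scheme.Hom.comp_apply, ← Over.comp_left, lift_fst]; rfl
    have hz2 : (snd G G).left.base z = ι[G].left.base g := by
      show (snd G G).left.base ((lift (𝟙 G) ι[G]).left.base g) = _
      rw [← Scheme.Hom.comp_apply, ← Over.comp_left, lift_snd]
    have hz3 : μ[G].left.base z = η[G].left.base (G.hom.base g) := by
      show μ[G].left.base ((lift (𝟙 G) ι[G]).left.base g) = _
      rw [← Scheme.Hom.comp_apply, ← Over.comp_left, GrpObj.right_inv, Over.comp_left,
        Scheme.Hom.comp_apply]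
      rfl
    rw [← hz3]
    exact hmul z (by rw [hz1]; exact hg) (by rw [hz2]; exact hinv g hg)

end Groth.Agent.S5311
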