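import Groth.Statements.S5315
import Groth.Agent.Lib.Helper73.GrpHomFibreDim
-- import your own Groth.Agent.* helpers here

set_option autoImplicit false
universe u
open CategoryTheory CategoryTheory.Limits MonoidalCategory CartesianMonoidalCategory MonObj GrpObj AlgebraicGeometry
open SGA3

namespace Groth.Agent.S5315

/-- Let u : G → H be a homomorphism of S-group schemes which is locally of finite type, and suppose
every fibre G_s is locally of finite type over κ(s). Then the set U of points s of S such that u_s :
G_s → H_s is locally quasi-finite is open in S, and the set of points of G at which u is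
quasi-finite (u is locally quasi-finite on some open neighbourhood) is the inverse image of U in G.
(The published statement assumes u locally of finite type only near the unit section for the
openness of U; this row assumes it on all of G, the case in which the second assertion is stated.) -/
theorem result (S : Scheme.{u}) (G H : Over S) [GrpObj G] [GrpObj H] (u : G ⟶ H)
    [IsMonHom u] [LocallyOfFiniteType u.left] (hG : ∀ s : S, LocallyOfFiniteType (G.hom.fiberToSpecResidueField s)) :
    IsOpen {s : S | LocallyQuasiFinite ((Over.pullback (S.fromSpecResidueField s)).map u).left} ∧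
    {x : G.left | ∃ W : G.left.Opens, x ∈ W ∧ LocallyQuasiFinite (W.ι ≫ u.left)} =
      G.hom.base ⁻¹' {s : S | LocallyQuasiFinite ((Over.pullback (S.fromSpecResidueField s)).map u).left} := by
  refine ⟨Groth.Agent.Lib.Helper73.GrpHomFibreDim.isOpen_setOf_locallyQuasiFinite_fibre u, ?_⟩
  ext x
  have h1 := Groth.Agent.Lib.Helper98.AlgSpLqf.lqfNear_iff_quasiFiniteAt u.left x
  have h2 := Groth.Agent.Lib.Helper73.GrpHomFibreDim.quasiFiniteAt_iff_fibre u x
  constructor
  · rintro ⟨W, hxW, hW⟩
    exact h2.mp (h1.mp ⟨W, hxW, hW, inferInstance⟩)
  · intro hx
    obtain ⟨W, hxW, hW, -⟩ := h1.mpr (h2.mpr hx)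
    exact ⟨W, hxW, hW⟩

end Groth.Agent.S5315
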