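import Groth.Statements.S5318
import Groth.Agent.S0346
import Groth.Agent.Lib.Helper79.TrivGrpFibre
import Groth.Agent.Lib.Helper84.DiagLfp2

set_option autoImplicit false
universe u
open CategoryTheory CategoryTheory.Limits MonoidalCategory CartesianMonoidalCategory MonObj GrpObj AlgebraicGeometry
open SGA3

namespace Groth.Agent.S5318

/-- (ii) ⟺ (iii) and, for G locally of finite presentation over S, (ii) ⟺ (iv): let G be an S-group
scheme. The unit section of G is an open immersion if and only if G is locally of finite
presentation over S on some open containing the unit section and every fibre G_s is unramified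
(formally unramified and locally of finite presentation) over κ(s). If G is locally of finite
presentation over S, the unit section is an open immersion if and only if G is unramified over S. -/
theorem result (S : Scheme.{u}) (G : Over S) [GrpObj G] :
    (IsOpenImmersion η[G].left ↔
      ((∃ W : G.left.Opens, (∀ p : ↥(𝟙_ (Over S)).left, η[G].left.base p ∈ W) ∧ LocallyOfFinitePresentation (W.ι ≫ G.hom)) ∧
        ∀ s : S, FormallyUnramified (G.hom.fiberToSpecResidueField s) ∧ LocallyOfFinitePresentation (G.hom.fiberToSpecResidueField s))) ∧
    (LocallyOfFinitePresentation G.hom → (IsOpenImmersion η[G].left ↔ FormallyUnramified G.hom)) := by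
  have hdiag : IsOpenImmersion (Limits.pullback.diagonal G.hom) ↔ IsOpenImmersion η[G].left :=
    Groth.Agent.S0346.iff_aux S G @IsOpenImmersion
  have hw : η[G].left ≫ G.hom = 𝟙 S := by
    simp
  refine ⟨⟨fun h => ?_, fun h => ?_⟩, fun hlfp => ⟨fun h => ?_, fun h => ?_⟩⟩
  · -- unit section open immersion ⇒ local finite presentation near it and unramified fibres
    have hD : IsOpenImmersion (Limits.pullback.diagonal G.hom) := hdiag.mpr h
    have hFU : FormallyUnramified G.hom := inferInstance
    refine ⟨⟨η[G].left.opensRange, fun p => ⟨p, rfl⟩, ?_⟩, fun s => ⟨?_, ?_⟩⟩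
    · let i := IsOpenImmersion.isoOfRangeEq η[G].left (η[G].left.opensRange).ι (by simp)
      have hi : i.hom ≫ (η[G].left.opensRange).ι = η[G].left :=
        IsOpenImmersion.isoOfRangeEq_hom_fac _ _ _
      have h1 : i.hom ≫ ((η[G].left.opensRange).ι ≫ G.hom) = 𝟙 _ := by
        rw [← Category.assoc, hi, hw]
        rfl
      have h2 : (η[G].left.opensRange).ι ≫ G.hom = i.inv := by
        rw [← cancel_epi i.hom, h1, Iso.hom_inv_id]
      rw [h2]
      infer_instance
    · exact MorphismProperty.pullback_snd (P := @FormallyUnramified) _ _ hFU
    · have hDs : IsOpenImmersion (Limits.pullback.diagonal (G.hom.fiberToSpecResidueField s)) :=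
        MorphismProperty.pullback_snd (P := .diagonal @IsOpenImmersion) _ _ hD
      exact Groth.Agent.Lib.Helper84.DiagLfp.lfp_of_isOpenImmersion_diagonal (S.residueField s)
        (Field.toIsField _) (G.hom.fiberToSpecResidueField s)
  · -- converse
    obtain ⟨⟨W, hW, hWlfp⟩, hfib⟩ := h
    have hlft : LocallyOfFiniteType (W.ι ≫ G.hom) := inferInstance
    have hFUW : FormallyUnramified (W.ι ≫ G.hom) := by
      apply Groth.Agent.Lib.Helper79.TrivGrpFibre.formallyUnramified_of_fiber
      intro s
      let g := S.fromSpecResidueField s
      let e := Limits.pullbackRightPullbackFstIso G.hom g W.ι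
      let q : Limits.pullback G.hom g ⟶ Spec (S.residueField s) := Limits.pullback.snd G.hom g
      have hq : FormallyUnramified q := (hfib s).1
      have he : (W.ι ≫ G.hom).fiberToSpecResidueField s =
          e.inv ≫ Limits.pullback.snd W.ι (Limits.pullback.fst G.hom g) ≫ q := by
        change Limits.pullback.snd (W.ι ≫ G.hom) g = _
        rw [Iso.eq_inv_comp]
        exact Limits.pullbackRightPullbackFstIso_hom_snd _ _ _
      rw [he]
      have h1 : FormallyUnramified (Limits.pullback.snd W.ι (Limits.pullback.fst G.hom g)) :=
        inferInstance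
      have h2 : FormallyUnramified e.inv := inferInstance
      exact MorphismProperty.comp_mem @FormallyUnramified _ _ h2
        (MorphismProperty.comp_mem _ _ _ h1 hq)
    let eW : S ⟶ W := IsOpenImmersion.lift W.ι η[G].left (by
      rw [Scheme.Opens.range_ι]
      rintro _ ⟨p, rfl⟩
      exact hW p)
    have heW : eW ≫ W.ι = η[G].left := IsOpenImmersion.lift_fac _ _ _
    have hsec : eW ≫ (W.ι ≫ G.hom) = 𝟙 S := by rw [← Category.assoc, heW, hw]
    have hDW : IsOpenImmersion (Limits.pullback.diagonal (W.ι ≫ G.hom)) := inferInstance
    have heWo : IsOpenImmersion eW := by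
      have hpost : (@IsOpenImmersion).HasOfPostcompProperty
          (MorphismProperty.diagonal @IsOpenImmersion) :=
        MorphismProperty.hasOfPostcompProperty_iff_le_diagonal.mpr le_rfl
      exact MorphismProperty.of_postcomp (W := @IsOpenImmersion)
        (W' := MorphismProperty.diagonal @IsOpenImmersion) eW (W.ι ≫ G.hom) hDW
        (by rw [hsec]; exact inferInstanceAs (IsOpenImmersion (𝟙 S)))
    rw [← heW]
    infer_instance
  · have := hdiag.mpr h
    infer_instance
  · have hlft : LocallyOfFiniteType G.hom := inferInstance
    exact hdiag.mp inferInstance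

end Groth.Agent.S5318
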