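import Groth.Statements.S5319
import Groth.Agent.Lib.Helper73.GrpHomFibreDim
import Groth.Agent.Lib.Helper73.QFAt2
import Groth.Agent.Lib.Helper98.AlgSpLqf
-- import your own Groth.Agent.* helpers here

set_option autoImplicit false
universe u
open CategoryTheory CategoryTheory.Limits MonoidalCategory CartesianMonoidalCategory MonObj GrpObj AlgebraicGeometry
open SGA3

namespace Groth.Agent.S5319

/-- Let u : G → H be a homomorphism of S-group schemes which is locally of finite type, with every fibre
G_s locally of finite type over κ(s), and let i : K → G be the kernel of u (the square i, u, unit of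
H is cartesian). The following are equivalent: u is locally quasi-finite; every fibre u_s : G_s →
H_s is locally quasi-finite; K is locally quasi-finite over S; every fibre of K over S is a discrete
space. -/
theorem result (S : Scheme.{u}) (G H : Over S) [GrpObj G] [GrpObj H] (u : G ⟶ H) [IsMonHom u]
    [LocallyOfFiniteType u.left] (hG : ∀ s : S, LocallyOfFiniteType (G.hom.fiberToSpecResidueField s)) (K : Over S) [GrpObj K] (i : K ⟶ G) [IsMonHom i] (hK : AlgGrp.IsKernel i u) :
    (LocallyQuasiFinite u.left ↔ ∀ s : S, LocallyQuasiFinite ((Over.pullback (S.fromSpecResidueField s)).map u).left) ∧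
    (LocallyQuasiFinite u.left ↔ LocallyQuasiFinite K.hom) ∧
    (LocallyQuasiFinite u.left ↔ ∀ s : S, DiscreteTopology ↥(K.hom.base ⁻¹' {s})) := by
  have hsq : IsPullback i.left K.hom u.left η[H].left := by
    have h1 := hK.map (Over.forget S)
    have h2 : (Over.forget S).map (toUnit K) = K.hom := by
      have := Over.w (toUnit K)
      simpa using this
    simpa [h2] using h1
  haveI : LocallyOfFiniteType K.hom :=
    MorphismProperty.of_isPullback (P := @LocallyOfFiniteType) hsq inferInstance
  have ha : LocallyQuasiFinite u.left ↔
      ∀ s : S, LocallyQuasiFinite ((Over.pullback (S.fromSpecResidueField s)).map u).left := by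
    constructor
    · intro hq s
      rw [Groth.Agent.Lib.Helper73.GrpHomFibreDim.locallyQuasiFinite_fibre_iff_quasiFiniteAt]
      exact u.left.quasiFiniteAt _
    · intro hs
      apply Groth.Agent.Lib.Helper73.QFAt.locallyQuasiFinite_of_forall_quasiFiniteAt
      intro x
      rw [Groth.Agent.Lib.Helper73.GrpHomFibreDim.quasiFiniteAt_iff_fibre]
      exact hs _
  have hb : LocallyQuasiFinite u.left ↔ LocallyQuasiFinite K.hom := by
    constructor
    · intro hq
      exact MorphismProperty.of_isPullback (P := @LocallyQuasiFinite) hsq hq
    · intro hq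
      rw [ha]
      intro s
      rw [Groth.Agent.Lib.Helper73.GrpHomFibreDim.locallyQuasiFinite_fibre_iff_quasiFiniteAt]
      have h1 : K.hom.QuasiFiniteAt (η[K].left s) := K.hom.quasiFiniteAt _
      rw [← Groth.Agent.Lib.Helper98.AlgSpLqf.lqfNear_iff_quasiFiniteAt,
        Groth.Agent.Lib.Helper98.AlgSpLqf.lqfNear_baseChange_iff u.left i.left K.hom η[H].left hsq,
        Groth.Agent.Lib.Helper98.AlgSpLqf.lqfNear_iff_quasiFiniteAt] at h1
      have h2 : i.left (η[K].left s) = η[G].left s := by
        rw [← Scheme.Hom.comp_apply, ← Over.comp_left, IsMonHom.one_hom]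
      rw [h2] at h1
      exact h1
  refine ⟨ha, hb, ?_⟩
  rw [hb, locallyQuasiFinite_iff_isDiscrete_preimage_singleton]
  exact forall_congr' fun s => isDiscrete_iff_discreteTopology

end Groth.Agent.S5319
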