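import Groth.Statements.S5320
import Groth.Agent.Lib.Helper73.GrpUnitDiag
-- import your own Groth.Agent.* helpers here

set_option autoImplicit false
universe u
open CategoryTheory CategoryTheory.Limits MonoidalCategory CartesianMonoidalCategory MonObj GrpObj AlgebraicGeometry
open SGA3

namespace Groth.Agent.S5320

/-- Let u : G → H be a homomorphism of S-group schemes which is locally of finite presentation, with
every fibre G_s locally of finite type over κ(s), and let i : K → G be the kernel of u (the square
i, u, unit of H is cartesian, K with the group structure making i a homomorphism). The following are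
equivalent: u is unramified (formally unramified); every fibre u_s : G_s → H_s is unramified; K is
unramified over S; the unit section of K is an open immersion. -/
theorem result (S : Scheme.{u}) (G H : Over S) [GrpObj G] [GrpObj H] (u : G ⟶ H) [IsMonHom u]
    [LocallyOfFinitePresentation u.left] (hG : ∀ s : S, LocallyOfFiniteType (G.hom.fiberToSpecResidueField s)) (K : Over S) [GrpObj K] (i : K ⟶ G) [IsMonHom i] (hK : AlgGrp.IsKernel i u) :
    (FormallyUnramified u.left ↔ ∀ s : S, FormallyUnramified ((Over.pullback (S.fromSpecResidueField s)).map u).left) ∧
    (FormallyUnramified u.left ↔ FormallyUnramified K.hom) ∧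
    (FormallyUnramified u.left ↔ IsOpenImmersion η[K].left) := by
  have hsq : IsPullback i.left K.hom u.left η[H].left := hK.map (Over.forget S)
  have hKft : LocallyOfFiniteType K.hom :=
    MorphismProperty.of_isPullback (P := @LocallyOfFiniteType) hsq inferInstance
  have hunit : ∀ s : S, i.left (η[K].left s) = η[G].left s := by
    intro s
    have := congrArg (fun m : 𝟙_ (Over S) ⟶ G => m.left s) (IsMonHom.one_hom i)
    exact this
  have key : FormallyUnramified u.left ↔
      ∀ s : S, (u.left.stalkMap (η[G].left s)).hom.FormallyUnramified := by
    rw [Groth.Agent.Lib.Helper73.GrpHomUnram.formallyUnramified_iff_forall_stalkMap]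
    constructor
    · intro h s
      exact h _
    · intro h x
      rw [Groth.Agent.Lib.Helper73.GrpHomUnram.unram_stalkMap_iff_unit u x]
      exact h _
  have h1 : FormallyUnramified u.left ↔ ∀ s : S,
      FormallyUnramified ((Over.pullback (S.fromSpecResidueField s)).map u).left := by
    rw [key]
    exact forall_congr' fun s =>
      (Groth.Agent.Lib.Helper73.GrpHomUnram.unram_fibre_iff u s).symm
  have h2 : FormallyUnramified u.left ↔ FormallyUnramified K.hom := by
    constructor
    · intro h
      exact MorphismProperty.of_isPullback (P := @FormallyUnramified) hsq h
    · intro h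
      rw [key]
      intro s
      have hbc := Groth.Agent.S16765.formallyUnramified_stalkMap_iff_of_isPullback hsq
        (η[K].left s)
      have h3 := hbc.mp (FormallyUnramified.stalkMap K.hom _)
      exact Eq.subst (motive := fun y => (u.left.stalkMap y).hom.FormallyUnramified) (hunit s) h3
  exact ⟨h1, h2, h2.trans
    (Groth.Agent.Lib.Helper73.GrpUnitDiag.formallyUnramified_iff_isOpenImmersion_unit K)⟩

end Groth.Agent.S5320
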