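import Groth.Statements.S5384
import Groth.Agent.Lib.Helper23.ImmClosed
import Groth.Agent.Lib.Helper23.FibreHomFlat
import Groth.Agent.S5335

set_option autoImplicit false
universe u
open CategoryTheory CategoryTheory.Limits MonoidalCategory CartesianMonoidalCategory MonObj GrpObj AlgebraicGeometry
open SGA3

namespace Groth.Agent.S5384

/-- Let A be a local artinian ring, G an A-group scheme and u : H → G a homomorphism of A-group schemes
which is an immersion (a subgroup scheme; no finiteness is assumed). Then u is a closed immersion. -/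
theorem result (A : Type u) [CommRing A] [IsArtinianRing A] [IsLocalRing A] (G H : Over (Spec (CommRingCat.of A))) [GrpObj G] [GrpObj H]
    (u : H ⟶ G) [IsMonHom u] [IsImmersion u.left] : IsClosedImmersion u.left := by
  refine IsClosedImmersion.of_isPreimmersion u.left ?_
  rw [← closure_subset_iff_isClosed]
  intro ξ hξ
  -- base change to the residue field of `ξ`
  let t : Spec (G.left.residueField ξ) ⟶ Spec (CommRingCat.of A) :=
    G.left.fromSpecResidueField ξ ≫ G.hom
  let GT : Over (Spec (G.left.residueField ξ)) := Red.bc t G
  let HT : Over (Spec (G.left.residueField ξ)) := Red.bc t H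
  let uT : HT ⟶ GT := (Over.pullback t).map u
  haveI : IsMonHom uT := inferInstance
  have sq := Groth.Agent.Lib.Helper23.FibreHomFlat.isPullback_bc_map t u
  haveI : IsImmersion uT.left := MorphismProperty.of_isPullback (P := @IsImmersion) sq inferInstance
  haveI hUOH : UniversallyOpen H.hom := Groth.Agent.S5335.universallyOpen_over_artinian A H.hom
  haveI hUOt : UniversallyOpen t := Groth.Agent.S5335.universallyOpen_over_artinian A t
  haveI : UniversallyOpen HT.hom :=
    (inferInstance : UniversallyOpen (Limits.pullback.snd H.hom t))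
  haveI hss : Subsingleton ↥(𝟙_ (Over (Spec (G.left.residueField ξ)))).left :=
    (inferInstanceAs (Subsingleton (PrimeSpectrum (G.left.residueField ξ))))
  let x' : 𝟙_ (Over (Spec (G.left.residueField ξ))) ⟶ GT :=
    Over.homMk (Limits.pullback.lift (G.left.fromSpecResidueField ξ) (𝟙 _) (by simp [t])) (by
      show Limits.pullback.lift _ _ _ ≫ Limits.pullback.snd G.hom t = 𝟙 _
      exact Limits.pullback.lift_snd _ _ _)
  let p : GT.left ⟶ G.left := Limits.pullback.fst G.hom t
  have hx'p : x'.left ≫ p = G.left.fromSpecResidueField ξ := Limits.pullback.lift_fst _ _ _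
  let pt : ↥(𝟙_ (Over (Spec (G.left.residueField ξ)))).left :=
    (IsLocalRing.closedPoint (G.left.residueField ξ) : PrimeSpectrum (G.left.residueField ξ))
  have hpξ : p (x'.left pt) = ξ := by
    rw [← Scheme.Hom.comp_apply, hx'p]
    exact Scheme.fromSpecResidueField_apply _ _
  have hpopen : IsOpenMap p := (Limits.pullback.fst G.hom t).isOpenMap
  -- preimage of the range
  have hpre : p ⁻¹' Set.range u.left = Set.range uT.left := by
    ext z
    constructor
    · rintro ⟨h, hh⟩
      obtain ⟨w, hw1, hw2⟩ :=
        Groth.Agent.Lib.Helper23.GrpDominant.exists_preimage_of_isPullback sq.flip z h hh.symm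
      exact ⟨w, hw1⟩
    · rintro ⟨w, rfl⟩
      refine ⟨Limits.pullback.fst H.hom t w, ?_⟩
      show u.left (Limits.pullback.fst H.hom t w) = p (uT.left w)
      rw [← Scheme.Hom.comp_apply, ← Scheme.Hom.comp_apply, sq.w]
  have hmem : x'.left pt ∈ closure (Set.range uT.left) := by
    rw [← hpre, ← hpopen.preimage_closure_eq_closure_preimage p.continuous]
    show p (x'.left pt) ∈ closure (Set.range u.left)
    rw [hpξ]
    exact hξ
  have hres := Groth.Agent.Lib.Helper23.ImmClosed.mem_range_of_mem_closure uT
    uT.left.isLocallyClosed_range x' pt hmem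
  rw [← hpre] at hres
  have : p (x'.left pt) ∈ Set.range u.left := hres
  rwa [hpξ] at this

end Groth.Agent.S5384
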