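import Groth.Statements.S5327
import Groth.Agent.S5384
import Groth.Agent.Lib.Helper23.FibreHomFlat

set_option autoImplicit false
universe u
open CategoryTheory CategoryTheory.Limits MonoidalCategory CartesianMonoidalCategory MonObj GrpObj AlgebraicGeometry
open SGA3

namespace Groth.Agent.S5327

/-- Let G be an S-group scheme whose fibres are locally of finite type over κ(s), and let i : H → G be a
homomorphism of S-group schemes which is an open immersion (an open subgroup scheme). Then the union
G⁰ of the neutral components of the fibres of G is contained in the image of i, and G⁰ is the image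
under i of the union H⁰ of the neutral components of the fibres of H. -/
theorem result (S : Scheme.{u}) (G H : Over S) [GrpObj G] [GrpObj H]
    (hG : ∀ s : S, LocallyOfFiniteType (G.hom.fiberToSpecResidueField s)) (i : H ⟶ G) [IsMonHom i]
    [IsOpenImmersion i.left] :
    SGA3x.neutralSet G ⊆ Set.range i.left.base ∧ i.left.base '' SGA3x.neutralSet H = SGA3x.neutralSet G := by
  -- the fibrewise statement
  have key : ∀ p : ↥(𝟙_ (Over S)).left,
      connectedComponentIn (G.hom.base ⁻¹' {(𝟙_ (Over S)).hom.base p}) (η[G].left.base p) ⊆
          Set.range i.left.base ∧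
        i.left.base '' connectedComponentIn (H.hom.base ⁻¹' {(𝟙_ (Over S)).hom.base p})
            (η[H].left.base p) =
          connectedComponentIn (G.hom.base ⁻¹' {(𝟙_ (Over S)).hom.base p}) (η[G].left.base p) := by
    intro p
    set s : S := (𝟙_ (Over S)).hom.base p with hs
    set FG : Set G.left := G.hom.base ⁻¹' {s} with hFG
    set FH : Set H.left := H.hom.base ⁻¹' {s} with hFH
    set eG : G.left := η[G].left.base p with heG
    set eH : H.left := η[H].left.base p with heH
    have hie : i.left.base eH = eG := by
      have h1 : η[H] ≫ i = η[G] := IsMonHom.one_hom i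
      exact congrArg (fun t => t.left.base p) h1
    have heGF : eG ∈ FG := by
      have h1 : η[G].left ≫ G.hom = (𝟙_ (Over S)).hom := Over.w η[G]
      exact congrArg (fun t => t.base p) h1
    have heHF : eH ∈ FH := by
      have h1 : η[H].left ≫ H.hom = (𝟙_ (Over S)).hom := Over.w η[H]
      exact congrArg (fun t => t.base p) h1
    have hiF : i.left.base ⁻¹' FG = FH := by
      ext x
      have h1 : i.left ≫ G.hom = H.hom := Over.w i
      have h2 : G.hom.base (i.left.base x) = H.hom.base x := congrArg (fun t => t.base x) h1
      simp only [hFG, hFH, Set.mem_preimage, Set.mem_singleton_iff, h2]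
    have hVopen : IsOpen (Set.range i.left.base) := i.left.isOpenEmbedding.isOpen_range
    -- `V ∩ FG` is relatively closed in `FG`
    obtain ⟨Z, hZc, hZ⟩ : ∃ Z : Set G.left, IsClosed Z ∧ Z ∩ FG = Set.range i.left.base ∩ FG := by
      let φ := S.fromSpecResidueField s
      let Gs : Over (Spec (S.residueField s)) := Red.bc φ G
      let Hs : Over (Spec (S.residueField s)) := Red.bc φ H
      let is : Hs ⟶ Gs := (Over.pullback φ).map i
      haveI : IsMonHom is := inferInstance
      have sq := Groth.Agent.Lib.Helper23.FibreHomFlat.isPullback_bc_map φ i
      haveI : IsOpenImmersion is.left :=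
        MorphismProperty.of_isPullback (P := @IsOpenImmersion) sq inferInstance
      haveI : IsImmersion is.left := inferInstance
      haveI hart : IsArtinianRing ↑(S.residueField s) := by
        have := @DivisionRing.instIsArtinianRing ↑(S.residueField s) _
        exact this
      have hloc : IsLocalRing ↑(S.residueField s) := inferInstance
      have hmon : IsMonHom is := inferInstance
      have himm : IsImmersion is.left := inferInstance
      have hci : IsClosedImmersion is.left :=
        @Groth.Agent.S5384.result (S.residueField s) _ hart hloc Gs Hs (Red.grpObj_bc φ G)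
          (Red.grpObj_bc φ H) is hmon himm
      have hcl : IsClosed (Set.range is.left.base) := is.left.isClosedEmbedding.isClosed_range
      let q : Gs.left ⟶ G.left := pullback.fst G.hom φ
      have hqemb : Topology.IsEmbedding q.base := (G.hom.fiberι s).isEmbedding
      have hqrange : Set.range q.base = FG := G.hom.range_fiberι s
      have hpre : q.base ⁻¹' Set.range i.left.base = Set.range is.left.base := by
        ext z
        constructor
        · rintro ⟨h, hh⟩
          obtain ⟨w, hw1, hw2⟩ :=
            Groth.Agent.Lib.Helper23.GrpDominant.exists_preimage_of_isPullback sq.flip z h hh.symm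
          exact ⟨w, hw1⟩
        · rintro ⟨w, rfl⟩
          refine ⟨(pullback.fst H.hom φ).base w, ?_⟩
          exact congrArg (fun f => f.base w) sq.w
      rw [← hpre] at hcl
      obtain ⟨Z, hZc, hZpre⟩ := hqemb.isInducing.isClosed_iff.mp hcl
      refine ⟨Z, hZc, ?_⟩
      ext x
      constructor
      · rintro ⟨hxZ, hxF⟩
        refine ⟨?_, hxF⟩
        rw [← hqrange] at hxF
        obtain ⟨y, rfl⟩ := hxF
        have : y ∈ q.base ⁻¹' Z := hxZ
        rw [hZpre] at this
        exact this
      · rintro ⟨hxV, hxF⟩
        refine ⟨?_, hxF⟩
        rw [← hqrange] at hxF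
        obtain ⟨y, rfl⟩ := hxF
        have : y ∈ q.base ⁻¹' Set.range i.left.base := hxV
        rw [← hZpre] at this
        exact this
    -- the component lies in `V`
    have hC : connectedComponentIn FG eG ⊆ Set.range i.left.base := by
      have hpre : _root_.IsPreconnected (connectedComponentIn FG eG) := isPreconnected_connectedComponentIn
      have hsub : connectedComponentIn FG eG ⊆ FG := connectedComponentIn_subset _ _
      have hcov : connectedComponentIn FG eG ⊆ Set.range i.left.base ∪ Zᶜ := by
        intro x hx
        by_cases hxV : x ∈ Set.range i.left.base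
        · exact Or.inl hxV
        · refine Or.inr fun hxZ => hxV ?_
          have : x ∈ Z ∩ FG := ⟨hxZ, hsub hx⟩
          rw [hZ] at this
          exact this.1
      have hdisj : connectedComponentIn FG eG ∩ (Set.range i.left.base ∩ Zᶜ) = ∅ := by
        rw [Set.eq_empty_iff_forall_notMem]
        rintro x ⟨hx, hxV, hxZ⟩
        have : x ∈ Set.range i.left.base ∩ FG := ⟨hxV, hsub hx⟩
        rw [← hZ] at this
        exact hxZ this.1
      rcases isPreconnected_iff_subset_of_disjoint.mp hpre (Set.range i.left.base) Zᶜ hVopen
          hZc.isOpen_compl hcov hdisj with h | h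
      · exact h
      · exfalso
        have h1 : eG ∈ connectedComponentIn FG eG := mem_connectedComponentIn heGF
        have h2 : eG ∈ Z ∩ FG := by
          rw [hZ]; exact ⟨⟨eH, hie⟩, heGF⟩
        exact h h1 h2.1
    refine ⟨hC, ?_⟩
    apply Set.Subset.antisymm
    · have h1 := (i.left.continuous.continuousOn (s := FH)).image_connectedComponentIn_subset heHF
      refine h1.trans ?_
      rw [hie]
      apply connectedComponentIn_mono
      rintro _ ⟨x, hx, rfl⟩
      rw [← hiF] at hx
      exact hx
    · have hD : _root_.IsPreconnected (i.left.base ⁻¹' connectedComponentIn FG eG) :=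
        isPreconnected_connectedComponentIn.preimage_of_isOpenMap
          i.left.isOpenEmbedding.injective i.left.isOpenEmbedding.isOpenMap hC
      have hDsub : i.left.base ⁻¹' connectedComponentIn FG eG ⊆ connectedComponentIn FH eH := by
        refine hD.subset_connectedComponentIn ?_ ?_
        · show i.left.base eH ∈ connectedComponentIn FG eG
          rw [hie]; exact mem_connectedComponentIn heGF
        · rw [← hiF]
          exact Set.preimage_mono (connectedComponentIn_subset _ _)
      rw [← Set.image_preimage_eq_of_subset hC]
      exact Set.image_mono hDsub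
  constructor
  · intro x hx
    simp only [SGA3x.neutralSet, Set.mem_iUnion] at hx
    obtain ⟨p, hp⟩ := hx
    exact (key p).1 hp
  · simp only [SGA3x.neutralSet, Set.image_iUnion]
    exact Set.iUnion_congr fun p => (key p).2

end Groth.Agent.S5327
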