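import Groth.Statements.S5328
import Groth.Agent.Lib.Helper23.NeutralFlat
import Groth.Agent.Lib.Helper23.FibreHomFlat2
import Groth.Agent.Lib.Helper24.LfpOfComp

set_option autoImplicit false
universe u
open CategoryTheory CategoryTheory.Limits MonoidalCategory CartesianMonoidalCategory MonObj GrpObj AlgebraicGeometry
open SGA3

namespace Groth.Agent.S5328

/-- Let u : G → H be a homomorphism between S-group schemes locally of finite presentation over S, and
let G⁰, H⁰ be the unions of the neutral components of the fibres. If u is flat then u(G⁰) = H⁰.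
Conversely, if G is flat over S, the fibres H_s are reduced and u(G⁰) = H⁰, then u is flat. -/
theorem result (S : Scheme.{u}) (G H : Over S) [GrpObj G] [GrpObj H]
    [LocallyOfFinitePresentation G.hom] [LocallyOfFinitePresentation H.hom] (u : G ⟶ H) [IsMonHom u] :
    (Flat u.left → u.left.base '' SGA3x.neutralSet G = SGA3x.neutralSet H) ∧
    (Flat G.hom → (∀ s : S, IsReduced (H.hom.fiber s)) → u.left.base '' SGA3x.neutralSet G = SGA3x.neutralSet H →
      Flat u.left) := by
  have hw : u.left ≫ H.hom = G.hom := Over.w u
  -- the image of the neutral set lies in the neutral set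
  have hsub : u.left.base '' SGA3x.neutralSet G ⊆ SGA3x.neutralSet H := by
    rintro _ ⟨x, hx, rfl⟩
    simp only [SGA3x.neutralSet, Set.mem_iUnion] at hx ⊢
    obtain ⟨p, hp⟩ := hx
    refine ⟨p, ?_⟩
    set s : S := (𝟙_ (Over S)).hom.base p with hs
    set FG : Set G.left := G.hom.base ⁻¹' {s} with hFG
    set FH : Set H.left := H.hom.base ⁻¹' {s} with hFH
    set eG : G.left := η[G].left.base p with heG
    set eH : H.left := η[H].left.base p with heH
    have hie : u.left.base eG = eH := by
      have h1 : η[G] ≫ u = η[H] := IsMonHom.one_hom u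
      exact congrArg (fun t => t.left.base p) h1
    have heGF : eG ∈ FG := by
      have h1 : η[G].left ≫ G.hom = (𝟙_ (Over S)).hom := Over.w η[G]
      exact congrArg (fun t => t.base p) h1
    have h1 := (u.left.continuous.continuousOn (s := FG)).image_connectedComponentIn_subset heGF
    have h2 : u.left.base '' FG ⊆ FH := by
      rintro _ ⟨z, hz, rfl⟩
      have h3 : H.hom.base (u.left.base z) = G.hom.base z := congrArg (fun t => t.base z) hw
      simp only [hFH, Set.mem_preimage, Set.mem_singleton_iff, h3]
      exact hz
    have h4 := h1 ⟨x, hp, rfl⟩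
    rw [hie] at h4
    exact connectedComponentIn_mono _ h2 h4
  haveI : LocallyOfFinitePresentation (u.left ≫ H.hom) := by rw [hw]; infer_instance
  haveI : LocallyOfFinitePresentation u.left :=
    Groth.Agent.Lib.Helper24.locallyOfFinitePresentation_of_comp u.left H.hom
  constructor
  · intro hflat
    apply Set.Subset.antisymm hsub
    intro y hy
    set s := H.hom y with hs
    let φ := S.fromSpecResidueField s
    let Gs : Over (Spec (S.residueField s)) := Red.bc φ G
    let Hs : Over (Spec (S.residueField s)) := Red.bc φ H
    let us : Gs ⟶ Hs := (Over.pullback φ).map u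
    haveI : IsMonHom us := inferInstance
    have sq := Groth.Agent.Lib.Helper23.FibreHomFlat.isPullback_bc_map φ u
    haveI : Flat us.left := MorphismProperty.of_isPullback (P := @Flat) sq hflat
    haveI : LocallyOfFinitePresentation us.left :=
      MorphismProperty.of_isPullback (P := @LocallyOfFinitePresentation) sq inferInstance
    have hopen : IsOpenMap us.left := us.left.isOpenMap
    haveI : LocallyOfFiniteType Gs.hom :=
      inferInstanceAs (LocallyOfFiniteType (pullback.snd G.hom φ))
    have hy_range : y ∈ Set.range (pullback.fst H.hom φ) := by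
      rw [Scheme.Pullback.range_fst, Scheme.range_fromSpecResidueField]
      rfl
    obtain ⟨y', hy'⟩ := hy_range
    have hy'n : y' ∈ SGA3x.neutralSet Hs := by
      rw [Groth.Agent.Lib.Helper79.NeutralBC.neutralSet_bc φ H]
      show (pullback.fst H.hom φ) y' ∈ SGA3x.neutralSet H
      rw [hy']; exact hy
    obtain ⟨x', hx'n, hx'⟩ :=
      Groth.Agent.Lib.Helper23.NeutralFlat.neutralSet_subset_image (k := S.residueField s) us hopen hy'n
    rw [Groth.Agent.Lib.Helper79.NeutralBC.neutralSet_bc φ G] at hx'n
    refine ⟨(pullback.fst G.hom φ) x', hx'n, ?_⟩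
    have h1 : u.left ((pullback.fst G.hom φ) x') = (pullback.fst H.hom φ) (us.left x') :=
      congrArg (fun t => t.base x') sq.w
    exact h1.trans ((congrArg _ hx').trans hy')
  · intro hGflat hred himg
    haveI : Flat (u.left ≫ H.hom) := by rw [hw]; infer_instance
    have key := (Groth.Agent.S1386.result u.left H.hom).1
    rw [Flat.iff_flat_stalkMap]
    intro x
    refine ((key x).1 ⟨Flat.stalkMap _ x, ?_⟩).2
    haveI : Flat (MoreMor.fiberMap u.left H.hom (H.hom (u.left x))) := by
      apply Groth.Agent.Lib.Helper23.NeutralFlat.flat_fiberMap_of_flat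
      set s := H.hom (u.left x) with hs
      let φ := S.fromSpecResidueField s
      let Gs : Over (Spec (S.residueField s)) := Red.bc φ G
      let Hs : Over (Spec (S.residueField s)) := Red.bc φ H
      let us : Gs ⟶ Hs := (Over.pullback φ).map u
      haveI : IsMonHom us := inferInstance
      have sq := Groth.Agent.Lib.Helper23.FibreHomFlat.isPullback_bc_map φ u
      haveI : Flat Gs.hom := inferInstanceAs (Flat (pullback.snd G.hom φ))
      haveI : IsReduced Hs.left := hred s
      show Flat us.left
      apply Groth.Agent.Lib.Helper23.NeutralFlat.flat_of_neutralSet_subset_range (k := S.residueField s) us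
      intro y' hy'
      rw [Groth.Agent.Lib.Helper79.NeutralBC.neutralSet_bc φ H] at hy'
      have hy'' : (pullback.fst H.hom φ) y' ∈ SGA3x.neutralSet H := hy'
      rw [← himg] at hy''
      obtain ⟨x0, -, hx0⟩ := hy''
      obtain ⟨w, -, hw2⟩ :=
        Groth.Agent.Lib.Helper23.GrpDominant.exists_preimage_of_isPullback sq x0 y' hx0
      exact ⟨w, hw2⟩
    exact Flat.stalkMap _ _

end Groth.Agent.S5328
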