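import Groth.Statements.S5329
import Mathlib
import Groth.Agent.S4965
import Groth.Agent.Lib.Helper73.GrpFibreDim
import Groth.Agent.Lib.Helper73.FibreDimCons
import Groth.Agent.Lib.Helper78.LocConstr
-- import your own Groth.Agent.* helpers here

set_option autoImplicit false
set_option linter.style.haveILetI false
set_option linter.unusedSectionVars false
set_option linter.unusedVariables false
universe u
open CategoryTheory CategoryTheory.Limits MonoidalCategory CartesianMonoidalCategory MonObj GrpObj AlgebraicGeometry
open SGA3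

namespace Groth.Agent.S5329

open CategoryTheory CategoryTheory.Limits MonoidalCategory CartesianMonoidalCategory MonObj GrpObj
  AlgebraicGeometry Topology

/-- Let G be an S-group scheme locally of finite type over S. Then (i) s ↦ dim G_s is upper
semicontinuous on S; (ii) if G is locally of finite presentation over S, this function is locally
constructible: every point of S has an open neighbourhood V on which it takes finitely many values
and on which each of its level sets is constructible. (The published statement is for an S-scheme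
locally of finite type with a section ε such that dim G_s = dim_{ε(s)} G_s for all s; this row takes
the case of a group scheme, where that condition holds.) -/
theorem result (S : Scheme.{u}) (G : Over S) [GrpObj G] [LocallyOfFiniteType G.hom] :
    UpperSemicontinuous (fun s : S => topologicalKrullDim ↥(G.hom.base ⁻¹' {s})) ∧
    (LocallyOfFinitePresentation G.hom → ∀ s : S, ∃ V : S.Opens, s ∈ V ∧
      ((fun t : S => topologicalKrullDim ↥(G.hom.base ⁻¹' {t})) '' (V : Set S)).Finite ∧
      ∀ d : WithBot ℕ∞, Topology.IsConstructible {t : V | topologicalKrullDim ↥(G.hom.base ⁻¹' {(t : S)}) = d}) := by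
  have hD : ∀ s : S, topologicalKrullDim ↥(G.hom.base ⁻¹' {s}) =
      FlatMor.fibreDimAt G.hom (η[G].left s) := by
    intro s
    rw [← Groth.Agent.Lib.Helper73.GrpFibreDim.dim_fiber_eq_fibreDimAt_unit G s]
    exact ((G.hom.fiberHomeo s).isHomeomorph.topologicalKrullDim_eq).symm
  have hnat : ∀ s : S, ∃ n : ℕ, topologicalKrullDim ↥(G.hom.base ⁻¹' {s}) = (n : WithBot ℕ∞) := by
    intro s
    obtain ⟨_, n, -, -, -, hn⟩ :=
      Groth.Agent.Lib.Helper73.SchemeDim.exists_specializes_trdeg_eq_fibreDimAt G.hom (η[G].left s)
    exact ⟨n, (hD s).trans hn⟩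
  have hopen : ∀ n : ℕ, IsOpen {s : S | topologicalKrullDim ↥(G.hom.base ⁻¹' {s}) ≤ (n : WithBot ℕ∞)} := by
    intro n
    have h : {s : S | topologicalKrullDim ↥(G.hom.base ⁻¹' {s}) ≤ (n : WithBot ℕ∞)} =
        η[G].left ⁻¹' {x | FlatMor.fibreDimAt G.hom x ≤ n} := by
      ext s
      simp only [Set.mem_ofPred_eq, Set.mem_preimage]
      rw [hD]
    rw [h]
    exact (Groth.Agent.Lib.Helper73.SchemeDim.isOpen_setOf_fibreDimAt_le G.hom n).preimage
      η[G].left.continuous
  refine ⟨?_, ?_⟩
  · intro s b hb
    obtain ⟨n, hn⟩ := hnat s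
    have hs : s ∈ {s : S | topologicalKrullDim ↥(G.hom.base ⁻¹' {s}) ≤ (n : WithBot ℕ∞)} := hn.le
    filter_upwards [(hopen n).mem_nhds hs] with s' hs'
    exact lt_of_le_of_lt hs' (hn ▸ hb)
  · intro hlfp s
    obtain ⟨_, ⟨V, hV : IsAffineOpen V, rfl⟩, hsV, -⟩ :=
      (S.isBasis_affineOpens).exists_subset_of_mem_open (Set.mem_univ s) isOpen_univ
    refine ⟨V, hsV, ?_, ?_⟩
    · -- bound
      have hcov : (V : Set S) ⊆ ⋃ N : ℕ, {s : S | topologicalKrullDim ↥(G.hom.base ⁻¹' {s}) ≤ (N : WithBot ℕ∞)} := by
        intro t _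
        obtain ⟨n, hn⟩ := hnat t
        exact Set.mem_iUnion.mpr ⟨n, hn.le⟩
      obtain ⟨T, hT⟩ := hV.isCompact.elim_finite_subcover _ hopen hcov
      apply Set.Finite.subset ((Finset.range (T.sup id + 1)).finite_toSet.image
        (fun n : ℕ => (n : WithBot ℕ∞)))
      rintro _ ⟨t, ht, rfl⟩
      obtain ⟨n, hn⟩ := hnat t
      obtain ⟨N, hNT, hz⟩ := Set.mem_iUnion₂.mp (hT ht)
      refine ⟨n, ?_, hn.symm⟩
      have h1 : ((n : ℕ) : WithBot ℕ∞) ≤ (N : WithBot ℕ∞) := by
        have hz' : topologicalKrullDim ↥(G.hom.base ⁻¹' {t}) ≤ (N : WithBot ℕ∞) := hz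
        rw [hn] at hz'; exact hz'
      have h2 : n ≤ N := by exact_mod_cast h1
      have h3 : N ≤ T.sup id := Finset.le_sup (f := id) hNT
      simp only [Finset.coe_range, Set.mem_Iio]
      omega
    · intro d
      have hLC : IsLocallyConstructible {t : S | topologicalKrullDim ↥(G.hom.base ⁻¹' {t}) = d} := by
        by_cases hd : ∃ n : ℕ, d = (n : WithBot ℕ∞)
        · obtain ⟨n, rfl⟩ := hd
          have h1 := Groth.Agent.Lib.Helper73.FibreDimCons.isLocallyConstructible_setOf_le_fibreDimAt
            G.hom n
          have h2 := Groth.Agent.Lib.Helper73.ConstructibleNhds.isLocallyConstructible_compl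
            (Groth.Agent.Lib.Helper73.FibreDimCons.isLocallyConstructible_setOf_le_fibreDimAt
              G.hom (n + 1))
          have h3 : IsLocallyConstructible ((η[G].left ⁻¹'
              ({x | (n : WithBot ℕ∞) ≤ FlatMor.fibreDimAt G.hom x} ∩
                {x | ((n + 1 : ℕ) : WithBot ℕ∞) ≤ FlatMor.fibreDimAt G.hom x}ᶜ)) : Set S) :=
            Groth.Agent.Lib.Helper78.LocConstr.isLocallyConstructible_preimage η[G].left
              (h1.inter h2)
          convert h3 using 1
          ext t
          simp only [Set.mem_ofPred_eq, Set.mem_preimage, Set.mem_inter_iff, Set.mem_compl_iff]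
          rw [hD]
          exact (Groth.Agent.S4965.le_and_not_succ_le_iff _ n).symm
        · convert IsLocallyConstructible.empty using 1
          ext t
          simp only [Set.mem_ofPred_eq, Set.mem_empty_iff_false, iff_false]
          intro h
          obtain ⟨n, hn⟩ := hnat t
          exact hd ⟨n, h.symm.trans hn⟩
      have h4 := hLC.preimage_of_isOpenEmbedding V.isOpen.isOpenEmbedding_subtypeVal
      haveI : CompactSpace ↥V := isCompact_iff_compactSpace.mp hV.isCompact
      haveI : QuasiSeparatedSpace ↥V :=
        (isQuasiSeparated_iff_quasiSeparatedSpace (V : Set S) V.isOpen).mp hV.isQuasiSeparated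
      haveI : PrespectralSpace ↥V := inferInstanceAs (PrespectralSpace ↥(V : Scheme.{u}))
      exact h4.isConstructible

end Groth.Agent.S5329
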