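import Groth.Statements.S5331
import Mathlib
import Groth.Agent.S0346
-- import your own Groth.Agent.* helpers here

set_option autoImplicit false
universe u
open CategoryTheory CategoryTheory.Limits MonoidalCategory CartesianMonoidalCategory MonObj GrpObj AlgebraicGeometry
open SGA3

namespace Groth.Agent.S5331


theorem section_closed {S X : Scheme.{u}} [DiscreteTopology S] (f : X ⟶ S) (g : S ⟶ X)
    (hg : g ≫ f = 𝟙 S) : IsClosedImmersion g := by
  let U : S → X.Opens := fun s => f ⁻¹ᵁ ⟨{s}, isOpen_discrete _⟩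
  have hU : iSup U = ⊤ := by
    rw [eq_top_iff]
    intro x _
    rw [TopologicalSpace.Opens.mem_iSup]
    exact ⟨f x, rfl⟩
  rw [IsZariskiLocalAtTarget.iff_of_iSup_eq_top (P := @IsClosedImmersion) U hU]
  intro s
  have hmem : ∀ x : S, x ∈ g ⁻¹ᵁ U s → x = s := by
    intro x hx
    have : f (g x) = s := hx
    rw [← Scheme.Hom.comp_apply, hg] at this
    simpa using this
  have hsub : Subsingleton ↑(g ⁻¹ᵁ U s) := by
    constructor
    intro a b
    apply Subtype.ext
    exact (hmem a.1 a.2).trans (hmem b.1 b.2).symm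
  have hr : Set.range ((U s).ι ≫ f) ⊆ Set.range (g ⁻¹ᵁ U s).ι := by
    rintro _ ⟨y, rfl⟩
    rw [Scheme.Opens.range_ι]
    have hy : f y.1 = s := y.2
    show g (((U s).ι ≫ f) y) ∈ U s
    rw [Scheme.Hom.comp_apply]
    show f (g (f y.1)) = s
    rw [hy]
    have := congrArg (fun h => h s) (congrArg (fun h : S ⟶ S => (h : S → S)) hg)
    simpa using this
  let f' : (U s).toScheme ⟶ (g ⁻¹ᵁ U s).toScheme := IsOpenImmersion.lift (g ⁻¹ᵁ U s).ι ((U s).ι ≫ f) hr
  refine isClosedImmersion_of_comp_eq_id f' (g ∣_ U s) ?_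
  rw [← cancel_mono (g ⁻¹ᵁ U s).ι]
  simp only [f', Category.assoc, IsOpenImmersion.lift_fac, Category.id_comp]
  rw [morphismRestrict_ι_assoc, hg, Category.comp_id]


/-- Let S be a scheme whose underlying topological space is discrete. Then every S-group scheme is
separated over S. -/
theorem result (S : Scheme.{u}) [DiscreteTopology S] (G : Over S) [GrpObj G] :
    IsSeparated G.hom := by
  rw [(Groth.Agent.S0346.result S G).1]
  exact section_closed G.hom η[G].left (by simp)

end Groth.Agent.S5331
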