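import Groth.Statements.S5333
-- import your own Groth.Agent.* helpers here
import Groth.Agent.S2285
import Groth.Agent.Lib.Helper81.SepCrit

set_option autoImplicit false
universe u
open CategoryTheory CategoryTheory.Limits MonoidalCategory CartesianMonoidalCategory MonObj GrpObj AlgebraicGeometry
open SGA3

namespace Groth.Agent.S5333


/-- A morphism from a reduced scheme whose range lies in the range of an immersion factors
through the immersion. -/
lemma exists_factor_immersion_of_isReduced {U Y P : Scheme.{u}} [IsReduced U] (u : U ⟶ P)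
    (i : Y ⟶ P) [IsImmersion i] (h : Set.range u ⊆ Set.range i) : ∃ g : U ⟶ Y, g ≫ i = u := by
  have h1 : Set.range u ⊆ Set.range i.coborderRange.ι := by
    rw [Scheme.Opens.range_ι]
    exact h.trans subset_coborder
  let u' : U ⟶ i.coborderRange := IsOpenImmersion.lift i.coborderRange.ι u h1
  have hu' : u' ≫ i.coborderRange.ι = u := IsOpenImmersion.lift_fac _ _ _
  have h2 : Set.range u' ⊆ Set.range i.liftCoborder := by
    rintro _ ⟨x, rfl⟩
    obtain ⟨y, hy⟩ := h ⟨x, rfl⟩
    refine ⟨y, ?_⟩
    apply i.coborderRange.ι.isEmbedding.injective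
    rw [← Scheme.Hom.comp_apply, ← Scheme.Hom.comp_apply, hu', i.liftCoborder_ι]
    exact hy
  obtain ⟨g, hg⟩ := Groth.Agent.S2285.exists_factor_of_isReduced u' i.liftCoborder h2
  refine ⟨g, ?_⟩
  rw [← i.liftCoborder_ι, ← Category.assoc, hg, hu']

lemma isSeparated_of_forall_reduced {X S : Scheme.{u}} (f : X ⟶ S)
    (H : ∀ (T : Scheme.{u}) [IsReduced T] (g₁ g₂ : T ⟶ X) (U : T.Opens), g₁ ≫ f = g₂ ≫ f →
      Dense (U : Set T) → U.ι ≫ g₁ = U.ι ≫ g₂ → g₁ = g₂) : IsSeparated f := by
  refine ⟨IsClosedImmersion.of_isPreimmersion _ ?_⟩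
  set Δ := pullback.diagonal f with hΔ
  let C : TopologicalSpace.Closeds ↥(pullback f f) := ⟨closure (Set.range Δ), isClosed_closure⟩
  let I := Scheme.IdealSheafData.vanishingIdeal C
  haveI : IsReduced I.subscheme := Groth.Agent.S2285.isReduced_vanishingIdeal_subscheme C
  have hrange : Set.range I.subschemeι = closure (Set.range Δ) := by
    rw [Scheme.IdealSheafData.range_subschemeι, Scheme.IdealSheafData.coe_support_vanishingIdeal]
    rfl
  let U : I.subscheme.Opens := I.subschemeι ⁻¹ᵁ Δ.coborderRange
  have hUmem : ∀ t : I.subscheme, t ∈ U ↔ I.subschemeι t ∈ Set.range Δ := by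
    intro t
    change I.subschemeι t ∈ coborder (Set.range Δ) ↔ _
    constructor
    · intro ht
      have h1 : I.subschemeι t ∈ closure (Set.range Δ) := by
        rw [← hrange]; exact ⟨t, rfl⟩
      by_contra hn
      exact ht ⟨h1, hn⟩
    · intro ht
      exact subset_coborder ht
  have hUdense : Dense (U : Set I.subscheme) := by
    rw [I.subschemeι.isEmbedding.isInducing.dense_iff]
    intro t
    have h1 : I.subschemeι '' (U : Set I.subscheme) = Set.range Δ := by
      ext p
      constructor
      · rintro ⟨t, ht, rfl⟩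
        exact (hUmem t).mp ht
      · intro hp
        have : p ∈ Set.range I.subschemeι := by rw [hrange]; exact subset_closure hp
        obtain ⟨t, rfl⟩ := this
        exact ⟨t, (hUmem t).mpr hp, rfl⟩
    rw [h1, ← hrange]
    exact ⟨t, rfl⟩
  have hUr : Set.range (U.ι ≫ I.subschemeι) ⊆ Set.range Δ := by
    rintro _ ⟨x, rfl⟩
    rw [Scheme.Hom.comp_apply]
    apply (hUmem _).mp
    have : U.ι x ∈ Set.range U.ι := ⟨x, rfl⟩
    rw [Scheme.Opens.range_ι] at this
    exact this
  obtain ⟨g, hg⟩ := exists_factor_immersion_of_isReduced (U.ι ≫ I.subschemeι) Δ hUr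
  have key := H I.subscheme (I.subschemeι ≫ pullback.fst f f) (I.subschemeι ≫ pullback.snd f f) U
    (by rw [Category.assoc, Category.assoc, pullback.condition]) hUdense
    (by
      rw [← Category.assoc, ← Category.assoc, ← hg, Category.assoc, Category.assoc, hΔ,
        pullback.diagonal_fst, pullback.diagonal_snd])
  have hfac : I.subschemeι = (I.subschemeι ≫ pullback.fst f f) ≫ Δ := by
    apply pullback.hom_ext
    · rw [Category.assoc, hΔ, pullback.diagonal_fst, Category.comp_id]
    · rw [Category.assoc, hΔ, pullback.diagonal_snd, Category.comp_id, key]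
  have hsub : closure (Set.range Δ) ⊆ Set.range Δ := by
    rw [← hrange]
    rintro _ ⟨t, rfl⟩
    rw [hfac, Scheme.Hom.comp_apply]
    exact ⟨_, rfl⟩
  exact closure_eq_iff_isClosed.mp (subset_antisymm hsub subset_closure)


/-- (i) ⟺ (iii) ⟺ (iv'): let f : X → S be a morphism of schemes. Then X is separated over S if and only
if for every reduced scheme T and every two morphisms T → X with the same composite to S which agree
on a dense open subscheme of T are equal; and X is separated over S if and only if every two points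
of X in the same fibre over S lie in a common open subscheme of X which is separated over S. -/
theorem result (X S : Scheme.{u}) (f : X ⟶ S) :
    (IsSeparated f ↔ ∀ (T : Scheme.{u}) [IsReduced T] (g₁ g₂ : T ⟶ X) (U : T.Opens), g₁ ≫ f = g₂ ≫ f →
      Dense (U : Set T) → U.ι ≫ g₁ = U.ι ≫ g₂ → g₁ = g₂) ∧
    (IsSeparated f ↔ ∀ x₁ x₂ : X, f.base x₁ = f.base x₂ →
      ∃ V : X.Opens, x₁ ∈ V ∧ x₂ ∈ V ∧ IsSeparated (V.ι ≫ f)) := by
  refine ⟨⟨fun hf T _ g₁ g₂ U h12 hU hUg => ?_, isSeparated_of_forall_reduced f⟩,
    ⟨fun hf x₁ x₂ _ => ⟨⊤, trivial, trivial, inferInstance⟩, fun H => ?_⟩⟩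
  · haveI : IsDominant U.ι := by
      rw [isDominant_iff, DenseRange, Scheme.Opens.range_ι]
      exact hU
    exact ext_of_isDominant_of_isSeparated f h12 U.ι hUg
  · apply Groth.Agent.Lib.Helper81.SepCrit.isSeparated_of_forall
    intro z
    left
    have hz : f.base ((pullback.fst f f).base z) = f.base ((pullback.snd f f).base z) := by
      have := congrArg (fun g : pullback f f ⟶ S => g.base z) (pullback.condition (f := f) (g := f))
      simpa using this
    exact H _ _ hz


end Groth.Agent.S5333
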