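import Groth.Statements.S5337
import Groth.Agent.Lib.Helper73.GrpHomLofp
-- import your own Groth.Agent.* helpers here

set_option autoImplicit false
universe u
open CategoryTheory CategoryTheory.Limits MonoidalCategory CartesianMonoidalCategory MonObj GrpObj AlgebraicGeometry
open SGA3

namespace Groth.Agent.S5337

/-- Quasi-finite, unramified, smooth and etale cases: let A be a local artinian ring, G an A-group
scheme which is flat and locally of finite type over A, and u : G → H a homomorphism of A-group
schemes. If u is locally quasi-finite (resp. unramified, that is formally unramified and locally of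
finite presentation, resp. smooth, resp. etale) on some nonempty open subscheme of G, then u is
locally quasi-finite (resp. unramified, resp. smooth, resp. etale). (Here u is automatically locally
of finite type.) -/
theorem result (A : Type u) [CommRing A] [IsArtinianRing A] [IsLocalRing A] (G H : Over (Spec (CommRingCat.of A))) [GrpObj G] [GrpObj H]
    [Flat G.hom] [LocallyOfFiniteType G.hom] (u : G ⟶ H) [IsMonHom u] (W : G.left.Opens) (hW : (W : Set G.left).Nonempty) :
    (LocallyQuasiFinite (W.ι ≫ u.left) → LocallyQuasiFinite u.left) ∧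
    (FormallyUnramified (W.ι ≫ u.left) → LocallyOfFinitePresentation (W.ι ≫ u.left) →
      FormallyUnramified u.left ∧ LocallyOfFinitePresentation u.left) ∧
    (Smooth (W.ι ≫ u.left) → Smooth u.left) ∧ (Etale (W.ι ≫ u.left) → Etale u.left) := by
  obtain ⟨x₀, hx₀⟩ := hW
  have hsub : Subsingleton (Spec (CommRingCat.of A)) :=
    inferInstanceAs (Subsingleton (PrimeSpectrum A))
  have hnoeth : IsLocallyNoetherian (Spec (CommRingCat.of A)) := inferInstance
  have hGfp : LocallyOfFinitePresentation G.hom :=
    Groth.Agent.Lib.Helper78.AlgSpMisc.lofp_of_loft_of_isLocallyNoetherian G.hom inferInstance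
  have hu1 : LocallyOfFiniteType (u.left ≫ H.hom) := by rw [Over.w]; infer_instance
  have huft : LocallyOfFiniteType u.left := locallyOfFiniteType_of_comp u.left H.hom
  -- local finite presentation
  have hLofp : LocallyOfFinitePresentation (W.ι ≫ u.left) → LocallyOfFinitePresentation u.left := by
    intro h
    rw [Groth.Agent.Lib.Helper73.GrpHomLofp.lofp_iff_forall_lofpNear]
    exact Groth.Agent.Lib.Helper73.GrpHomLofp.forall_of_subsingleton _
      (Groth.Agent.Lib.Helper73.GrpHomLofp.lofpNear_iff_unit u) x₀ ⟨W, hx₀, h⟩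
  -- unramified
  have hUnr : FormallyUnramified (W.ι ≫ u.left) → FormallyUnramified u.left := by
    intro h
    rw [Groth.Agent.Lib.Helper73.GrpHomUnram.formallyUnramified_iff_forall_stalkMap]
    exact Groth.Agent.Lib.Helper73.GrpHomLofp.forall_of_subsingleton _
      (Groth.Agent.Lib.Helper73.GrpHomUnram.unram_stalkMap_iff_unit u) x₀
      (Groth.Agent.Lib.Helper35.stalkMap_of_formallyUnramified_nhd u.left x₀ W hx₀)
  -- smooth
  have hSm : Smooth (W.ι ≫ u.left) → Smooth u.left := by
    intro h
    have hfp : LocallyOfFinitePresentation u.left := hLofp inferInstance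
    rw [Groth.Agent.Lib.Helper73.GrpHomSmooth.smooth_iff_forall_smoothNear]
    exact Groth.Agent.Lib.Helper73.GrpHomLofp.forall_of_subsingleton _
      (Groth.Agent.Lib.Helper73.GrpHomSmooth.smoothNear_iff_unit u) x₀ ⟨W, hx₀, h⟩
  refine ⟨?_, fun h1 h2 => ⟨hUnr h1, hLofp h2⟩, hSm, ?_⟩
  · intro h
    apply Groth.Agent.Lib.Helper73.QFAt.locallyQuasiFinite_of_forall_quasiFiniteAt
    have key : ∀ x : G.left, FlatMor.fibreDimAt u.left x = 0 := by
      refine Groth.Agent.Lib.Helper73.GrpHomLofp.forall_of_subsingleton
        (fun x => FlatMor.fibreDimAt u.left x = 0) (fun x => ?_) x₀ ?_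
      · rw [Groth.Agent.Lib.Helper73.GrpHomFibreDim.fibreDimAt_eq_unit u x]
      · rw [← Groth.Agent.Lib.Helper73.QFAt.quasiFiniteAt_iff_fibreDimAt_eq_zero]
        exact (Groth.Agent.Lib.Helper98.AlgSpLqf.lqfNear_iff_quasiFiniteAt u.left x₀).mp
          ⟨W, hx₀, h, inferInstance⟩
    intro x
    rw [Groth.Agent.Lib.Helper73.QFAt.quasiFiniteAt_iff_fibreDimAt_eq_zero]
    exact key x
  · intro h
    rw [Groth.Agent.Lib.Helper73.GrpHomSmooth.etale_iff_smooth_and_unram]
    exact ⟨hSm inferInstance, hUnr inferInstance⟩

end Groth.Agent.S5337
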