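import Groth.Statements.S5338
import Groth.Agent.Lib.Helper7.NilFin

set_option autoImplicit false
universe u
open CategoryTheory CategoryTheory.Limits MonoidalCategory CartesianMonoidalCategory MonObj GrpObj AlgebraicGeometry
open SGA3

namespace Groth.Agent.S5338

/-- Let A → B → C be homomorphisms of commutative rings and n a nilpotent ideal of A; write nB and nC
for the extended ideals. (i) If C/nC is a (B/nB)-algebra of finite type, then C is a B-algebra of
finite type. (ii) If moreover C is flat over A and C/nC is a (B/nB)-algebra of finite presentation,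
then C is a B-algebra of finite presentation. -/
theorem result (A B C : Type u) [CommRing A] [CommRing B] [CommRing C]
    [Algebra A B] [Algebra B C] [Algebra A C] [IsScalarTower A B C] (n : Ideal A) (hn : IsNilpotent n) :
    (Algebra.FiniteType (B ⧸ n.map (algebraMap A B)) (C ⧸ (n.map (algebraMap A B)).map (algebraMap B C)) →
      Algebra.FiniteType B C) ∧
    (Module.Flat A C →
      Algebra.FinitePresentation (B ⧸ n.map (algebraMap A B)) (C ⧸ (n.map (algebraMap A B)).map (algebraMap B C)) →
      Algebra.FinitePresentation B C) := by
  have hnB : IsNilpotent (n.map (algebraMap A B)) := by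
    obtain ⟨m, hm⟩ := hn
    refine ⟨m, ?_⟩
    rw [← Ideal.map_pow, hm]
    exact Ideal.map_bot
  refine ⟨fun h => ?_, fun hflat hfp => ?_⟩
  · exact Groth.Agent.Lib.Helper7.NilFin.finiteType_of_quotient_nilpotent _ hnB h
  · haveI := hflat
    exact Groth.Agent.Lib.Helper7.NilFin.finitePresentation_of_flat_of_nilpotent n hn hfp

end Groth.Agent.S5338
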