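import Groth.Statements.S5339
import Groth.Agent.Lib.Helper73.GrpLoftArt
import Groth.Agent.S5337
-- import your own Groth.Agent.* helpers here

set_option autoImplicit false
universe u
open CategoryTheory CategoryTheory.Limits MonoidalCategory CartesianMonoidalCategory MonObj GrpObj AlgebraicGeometry
open SGA3

namespace Groth.Agent.S5339

/-- Let A be a local artinian ring and G a flat A-group scheme (not assumed locally of finite type). If
G is locally quasi-finite and locally of finite type (resp. unramified, resp. smooth, resp. etale)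
over A on some nonempty open subscheme, then G is locally quasi-finite and locally of finite type
(resp. unramified, resp. smooth, resp. etale) over A. -/
theorem result (A : Type u) [CommRing A] [IsArtinianRing A] [IsLocalRing A] (G : Over (Spec (CommRingCat.of A))) [GrpObj G] [Flat G.hom]
    (W : G.left.Opens) (hW : (W : Set G.left).Nonempty) :
    (LocallyQuasiFinite (W.ι ≫ G.hom) → LocallyOfFiniteType (W.ι ≫ G.hom) → LocallyQuasiFinite G.hom ∧ LocallyOfFiniteType G.hom) ∧
    (FormallyUnramified (W.ι ≫ G.hom) → LocallyOfFinitePresentation (W.ι ≫ G.hom) →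
      FormallyUnramified G.hom ∧ LocallyOfFinitePresentation G.hom) ∧
    (Smooth (W.ι ≫ G.hom) → Smooth G.hom) ∧ (Etale (W.ι ≫ G.hom) → Etale G.hom) := by
  have hLoft : LocallyOfFiniteType (W.ι ≫ G.hom) → LocallyOfFiniteType G.hom := fun h =>
    Groth.Agent.Lib.Helper73.GrpLoftArt.loft_of_nonempty_open_artinian A G W hW h
  have e : (toUnit G).left = G.hom := Over.toUnit_left
  have key : LocallyOfFiniteType G.hom →
      ((LocallyQuasiFinite (W.ι ≫ G.hom) → LocallyQuasiFinite G.hom) ∧
      (FormallyUnramified (W.ι ≫ G.hom) → LocallyOfFinitePresentation (W.ι ≫ G.hom) →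
        FormallyUnramified G.hom ∧ LocallyOfFinitePresentation G.hom) ∧
      (Smooth (W.ι ≫ G.hom) → Smooth G.hom) ∧ (Etale (W.ι ≫ G.hom) → Etale G.hom)) := by
    intro hG
    have := @Groth.Agent.S5337.result A _ _ _ G (𝟙_ (Over (Spec (CommRingCat.of A)))) _ _ _ hG
      (toUnit G) _ W hW
    rw [e] at this
    exact this
  refine ⟨fun h1 h2 => ?_, fun h1 h2 => ?_, fun h => ?_, fun h => ?_⟩
  · have hG := hLoft h2
    exact ⟨(key hG).1 h1, hG⟩
  · have hG := hLoft inferInstance
    exact (key hG).2.1 h1 h2
  · have hG := hLoft inferInstance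
    exact (key hG).2.2.1 h
  · have hG := hLoft inferInstance
    exact (key hG).2.2.2 h

end Groth.Agent.S5339
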