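import Groth.Statements.S5343
import Mathlib
-- import your own Groth.Agent.* helpers here

set_option autoImplicit false
universe u
open CategoryTheory CategoryTheory.Limits MonoidalCategory CartesianMonoidalCategory MonObj GrpObj AlgebraicGeometry
open SGA3

namespace Groth.Agent.S5343



/-- Let R be a commutative ring and B a commutative R-algebra which is projective as an R-module. Then
the image of Spec B → Spec R is an open and closed subset of Spec R. (The published statement
concerns a quasi-coherent algebra on any scheme which is a direct summand of a free module; this row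
is the affine case.) -/
theorem result (R B : Type u) [CommRing R] [CommRing B] [Algebra R B] [Module.Projective R B] :
    IsClopen (Set.range (PrimeSpectrum.comap (algebraMap R B))) := by
  classical
  obtain ⟨s, hs⟩ := (Module.projective_def'.1 ‹Module.Projective R B›)
  have hs' : ∀ x : B, Finsupp.linearCombination R id (s x) = x := fun x => by
    have := LinearMap.congr_fun hs x
    simpa using this
  set c := s 1 with hc
  let I : Ideal R := Ideal.span ((c.support.image c : Finset R) : Set R)
  have hcI : ∀ b, c b ∈ I := by
    intro b
    by_cases hb : b ∈ c.support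
    · exact Ideal.subset_span (by simpa using ⟨b, by simpa using hb, rfl⟩)
    · have : c b = 0 := by simpa using hb
      rw [this]; exact I.zero_mem
  have hb : ∀ (J : Ideal R) (x : B), x ∈ J.map (algebraMap R B) → ∀ b, s x b ∈ J := by
    intro J x hx
    have hx' : x ∈ J • (⊤ : Submodule R B) := by
      rw [Ideal.smul_top_eq_map]; exact hx
    refine Submodule.smul_induction_on hx' ?_ ?_
    · intro r hr n _ b
      rw [map_smul]
      simpa using J.mul_mem_right _ hr
    · intro x y hx hy b
      rw [map_add]
      simpa using J.add_mem (hx b) (hy b)
  have ha : (1 : B) ∈ I.map (algebraMap R B) := by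
    have h1 := hs' 1
    rw [← hc, Finsupp.linearCombination_apply] at h1
    rw [← h1]
    refine Ideal.sum_mem _ fun b _ => ?_
    simp only [id]
    rw [Algebra.smul_def]
    exact Ideal.mul_mem_right _ _ (Ideal.mem_map_of_mem _ (hcI b))
  have hI : IsIdempotentElem I := by
    refine le_antisymm Ideal.mul_le_right ?_
    have h1 : (1 : B) ∈ (I * I).map (algebraMap R B) := by
      rw [Ideal.map_mul]
      simpa using Ideal.mul_mem_mul ha ha
    have h2 := hb _ _ h1
    refine Ideal.span_le.2 ?_
    intro r hr
    simp only [Finset.coe_image, Set.mem_image] at hr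
    obtain ⟨b, _, rfl⟩ := hr
    exact h2 b
  have hfg : I.FG := ⟨c.support.image c, rfl⟩
  obtain ⟨e, he, hIe⟩ := (Ideal.isIdempotentElem_iff_of_fg I hfg).1 hI
  have key : Set.range (PrimeSpectrum.comap (algebraMap R B)) = (PrimeSpectrum.zeroLocus (I : Set R))ᶜ := by
    ext p
    rw [PrimeSpectrum.mem_range_comap_iff, Set.mem_compl_iff, PrimeSpectrum.mem_zeroLocus]
    constructor
    · intro h hIp
      have : (1 : R) ∈ (p.asIdeal.map (algebraMap R B)).comap (algebraMap R B) := by
        rw [Ideal.mem_comap, map_one]
        exact Ideal.map_mono hIp ha
      rw [h] at this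
      exact p.2.ne_top ((Ideal.eq_top_iff_one _).2 this)
    · intro h
      refine le_antisymm ?_ Ideal.le_comap_map
      intro a haa
      rw [Ideal.mem_comap] at haa
      have h2 := hb _ _ haa
      obtain ⟨r, hrI, hrp⟩ := Set.not_subset.1 h
      -- r ∈ I not in p; so some c b ∉ p
      have : ∃ b, c b ∉ p.asIdeal := by
        by_contra hcon
        push_neg at hcon
        apply hrp
        have : I ≤ p.asIdeal := by
          refine Ideal.span_le.2 ?_
          intro r hr
          simp only [Finset.coe_image, Set.mem_image] at hr
          obtain ⟨b, _, rfl⟩ := hr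
          exact hcon b
        exact this hrI
      obtain ⟨b, hbp⟩ := this
      have h3 := h2 b
      rw [Algebra.algebraMap_eq_smul_one, map_smul] at h3
      have h4 : a * c b ∈ p.asIdeal := by simpa using h3
      exact (p.2.mem_or_mem h4).resolve_right hbp
  rw [key, hIe]
  rw [PrimeSpectrum.zeroLocus_span]
  exact (PrimeSpectrum.isClopen_iff_zeroLocus.2 ⟨e, he, rfl⟩).compl

end Groth.Agent.S5343
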