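import Groth.Statements.S5344
import Mathlib
import Groth.Agent.S5335
import Groth.Agent.S5342

set_option autoImplicit false
set_option linter.style.haveILetI false
universe u
open CategoryTheory CategoryTheory.Limits MonoidalCategory CartesianMonoidalCategory MonObj GrpObj AlgebraicGeometry
open SGA3

namespace Groth.Agent.S5344
open CategoryTheory CategoryTheory.Limits MonoidalCategory CartesianMonoidalCategory MonObj GrpObj AlgebraicGeometry
open TopologicalSpace

section CA

variable (A : Type u) [CommRing A] [IsArtinianRing A] [IsLocalRing A]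

theorem subsingleton_spec : Subsingleton (Spec (CommRingCat.of A)) := by
  refine ⟨fun p q => ?_⟩
  have hp : p.asIdeal = IsLocalRing.maximalIdeal A :=
    IsLocalRing.eq_maximalIdeal (IsArtinianRing.isMaximal_of_isPrime p.asIdeal)
  have hq : q.asIdeal = IsLocalRing.maximalIdeal A :=
    IsLocalRing.eq_maximalIdeal (IsArtinianRing.isMaximal_of_isPrime q.asIdeal)
  exact PrimeSpectrum.ext (hp.trans hq.symm)

/-- connected schemes over a local artinian ring, one with a section, have connected product. -/
theorem connectedSpace_pullback {X Y : Scheme.{u}} (f : X ⟶ Spec (CommRingCat.of A))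
    (g : Y ⟶ Spec (CommRingCat.of A)) [ConnectedSpace X] [ConnectedSpace Y]
    (σ : Spec (CommRingCat.of A) ⟶ X) (hσ : σ ≫ f = 𝟙 _) : ConnectedSpace ↥(pullback f g) := by
  let k := IsLocalRing.ResidueField A
  let r : Spec (CommRingCat.of k) ⟶ Spec (CommRingCat.of A) :=
    Spec.map (CommRingCat.ofHom (IsLocalRing.residue A))
  have hsub := subsingleton_spec A
  have h2 : IsClosedImmersion r :=
    IsClosedImmersion.spec_of_surjective _ IsLocalRing.residue_surjective
  have h3 : Surjective r := ⟨fun x => ⟨IsLocalRing.closedPoint k, Subsingleton.elim _ _⟩⟩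
  -- X_k, Y_k connected
  have hconn : ∀ {W : Scheme.{u}} (w : W ⟶ Spec (CommRingCat.of A)) [ConnectedSpace W],
      ConnectedSpace ↥(pullback w r) := by
    intro W w _
    have hemb : Topology.IsClosedEmbedding (pullback.fst w r) :=
      (pullback.fst w r).isClosedEmbedding
    let e := hemb.isEmbedding.toHomeomorphOfSurjective (pullback.fst w r).surjective
    exact e.symm.surjective.connectedSpace e.symm.continuous
  have hX := hconn f
  have hY := hconn g
  let x : Spec (CommRingCat.of k) ⟶ pullback f r :=
    pullback.lift (r ≫ σ) (𝟙 _) (by rw [Category.assoc, hσ, Category.comp_id, Category.id_comp])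
  have hx : x ≫ pullback.snd f r = 𝟙 _ := pullback.lift_snd _ _ _
  have hXY := S5342.result k (pullback f r) (pullback g r) (pullback.snd f r) (pullback.snd g r) x hx
  let j := pullback.map (pullback.snd f r) (pullback.snd g r) f g (pullback.fst f r)
    (pullback.fst g r) r pullback.condition.symm pullback.condition.symm
  have hj : Function.Surjective j := by
    rw [← Set.range_eq_univ, Scheme.Pullback.range_map]
    rw [Set.range_eq_univ.mpr (pullback.fst f r).surjective,
      Set.range_eq_univ.mpr (pullback.fst g r).surjective]
    simp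
  exact hj.connectedSpace j.continuous

end CA

theorem isOpen_connectedComponent (A : Type u) [CommRing A] [IsArtinianRing A] [IsLocalRing A]
    (G : Over (Spec (CommRingCat.of A))) [GrpObj G] [LocallyOfFiniteType G.hom]
    (g : G.left) : IsOpen (connectedComponent g) := by
  let k := IsLocalRing.ResidueField A
  let K := AlgebraicClosure k
  let φ : A →+* K := (algebraMap k K).comp (IsLocalRing.residue A)
  let gg : Spec (CommRingCat.of K) ⟶ Spec (CommRingCat.of A) := Spec.map (CommRingCat.ofHom φ)
  let i1 : GrpObj (Over.mk G.hom) := ‹GrpObj G›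
  let i2 : GrpObj (Over.mk (pullback.snd G.hom gg)) := Over.grpObjMkPullbackSnd
  let H : Over (Spec (CommRingCat.of K)) := Over.mk (pullback.snd G.hom gg)
  let π : H.left ⟶ G.left := pullback.fst G.hom gg
  have hHlft : LocallyOfFiniteType H.hom :=
    inferInstanceAs (LocallyOfFiniteType (pullback.snd G.hom gg))
  -- properties of gg
  have hφint : φ.IsIntegral :=
    RingHom.IsIntegral.trans _ _ (RingHom.isIntegral_of_surjective _ IsLocalRing.residue_surjective)
      (algebraMap_isIntegral_iff.mpr inferInstance)
  have hgint : IsIntegralHom gg := IsIntegralHom.SpecMap_iff.mpr hφint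
  have hsub : Subsingleton (Spec (CommRingCat.of A)) := by
    refine ⟨fun p q => ?_⟩
    have hp : p.asIdeal = IsLocalRing.maximalIdeal A :=
      IsLocalRing.eq_maximalIdeal (IsArtinianRing.isMaximal_of_isPrime p.asIdeal)
    have hq : q.asIdeal = IsLocalRing.maximalIdeal A :=
      IsLocalRing.eq_maximalIdeal (IsArtinianRing.isMaximal_of_isPrime q.asIdeal)
    exact PrimeSpectrum.ext (hp.trans hq.symm)
  have hgsurj : Surjective gg := ⟨fun x => ⟨IsLocalRing.closedPoint K, Subsingleton.elim _ _⟩⟩
  have hguo : UniversallyOpen gg := by
    have h1 : gg = Spec.map (CommRingCat.ofHom (algebraMap k K)) ≫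
        Spec.map (CommRingCat.ofHom (IsLocalRing.residue A)) := by
      rw [← Spec.map_comp]; rfl
    have h2 : IsClosedImmersion (Spec.map (CommRingCat.ofHom (IsLocalRing.residue A))) :=
      IsClosedImmersion.spec_of_surjective _ IsLocalRing.residue_surjective
    have h3 : Surjective (Spec.map (CommRingCat.ofHom (IsLocalRing.residue A))) :=
      ⟨fun x => ⟨IsLocalRing.closedPoint k, Subsingleton.elim _ _⟩⟩
    have h4 := S5345.universallyOpen_of_isClosedImmersion_of_surjective
      (Spec.map (CommRingCat.ofHom (IsLocalRing.residue A)))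
    rw [h1]
    infer_instance
  have hπo : IsOpenMap π := (pullback.fst G.hom gg).isOpenMap
  have hπc : IsClosedMap π := (pullback.fst G.hom gg).isClosedMap
  have hπs : Function.Surjective π := (pullback.fst G.hom gg).surjective
  -- the identity component of H
  obtain ⟨h1, h2, -⟩ := Groth.Agent.Lib.Helper62.GrpComp.main_algClosed H
  have hLN : IsLocallyNoetherian H.left := LocallyOfFiniteType.isLocallyNoetherian H.hom
  have hJ : JacobsonSpace H.left := LocallyOfFiniteType.jacobsonSpace H.hom
  have hopen : IsOpen (connectedComponent (S1864.e₀ H)) := by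
    show IsOpen (connectedComponent (η[H].left (IsLocalRing.closedPoint K)))
    rw [h1]
    exact S5345.isOpen_of_mem_irreducibleComponents (S0350.uniqueComp_all H)
      (irreducibleComponent_mem_irreducibleComponents _)
  have hcomp : IsCompact (connectedComponent (S1864.e₀ H)) := by
    show IsCompact (connectedComponent (η[H].left (IsLocalRing.closedPoint K)))
    rw [h1]
    exact h2
  -- closed point over the component of g
  have hne : (π ⁻¹' connectedComponent g).Nonempty := by
    obtain ⟨y, hy⟩ := hπs g
    exact ⟨y, by rw [Set.mem_preimage, hy]; exact mem_connectedComponent⟩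
  have hcl : IsClosed (π ⁻¹' connectedComponent g) :=
    isClosed_connectedComponent.preimage π.continuous
  obtain ⟨y, hyC, hycl⟩ := nonempty_inter_closedPoints hne hcl.isLocallyClosed
  have hycl' : IsClosed ({y} : Set H.left) := hycl
  let τ := S1864.Lh H y hycl'
  let D : Set G.left := π '' (τ.hom '' connectedComponent (S1864.e₀ H))
  have hτhomeo : IsHomeomorph τ.hom := (Scheme.homeoOfIso τ).isHomeomorph
  have hDcomp : IsCompact D :=
    (hcomp.image τ.hom.continuous).image π.continuous
  have hDclopen : IsClopen D :=
    ⟨hπc _ (hτhomeo.isClosedMap _ isClosed_connectedComponent),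
      hπo _ (hτhomeo.isOpenMap _ hopen)⟩
  have hyD : π y ∈ D := ⟨y, ⟨S1864.e₀ H, mem_connectedComponent, S1864.Lh_unit H y hycl'⟩, rfl⟩
  have hDconn : _root_.IsConnected D :=
    ((isConnected_connectedComponent.image _ τ.hom.continuous.continuousOn).image _
      π.continuous.continuousOn)
  have hDsub : D ⊆ connectedComponent (π y) :=
    hDconn.isPreconnected.subset_connectedComponent hyD
  have hDeq : connectedComponent g = D := by
    rw [connectedComponent_eq (show π y ∈ connectedComponent g from hyC)]
    exact Set.Subset.antisymm (hDclopen.connectedComponent_subset hyD) hDsub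
  rw [hDeq]
  exact hDclopen.2


section main

variable (A : Type u) [CommRing A] [IsArtinianRing A] [IsLocalRing A]
  (G : Over (Spec (CommRingCat.of A))) [GrpObj G] [LocallyOfFiniteType G.hom]

/-- the product of the identity component with any connected component is connected. -/
theorem isConnected_box (pt : ↥(𝟙_ (Over (Spec (CommRingCat.of A)))).left) (x : G.left) :
    _root_.IsConnected
      ((pullback.fst G.hom G.hom).base ⁻¹' connectedComponent (η[G].left.base pt) ∩
        (pullback.snd G.hom G.hom).base ⁻¹' connectedComponent x) := by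
  have hsub := subsingleton_spec A
  let G0 : G.left.Opens := ⟨connectedComponent (η[G].left.base pt), isOpen_connectedComponent A G _⟩
  let Cx : G.left.Opens := ⟨connectedComponent x, isOpen_connectedComponent A G _⟩
  have hG0 : ConnectedSpace ↥G0.toScheme :=
    isConnected_iff_connectedSpace.mp isConnected_connectedComponent
  have hCx : ConnectedSpace ↥Cx.toScheme :=
    isConnected_iff_connectedSpace.mp isConnected_connectedComponent
  have hrange : Set.range η[G].left ⊆ Set.range G0.ι := by
    rintro _ ⟨p, rfl⟩
    rw [Scheme.Opens.range_ι]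
    have : p = pt := @Subsingleton.elim _ hsub p pt
    rw [this]
    exact mem_connectedComponent
  let σ : Spec (CommRingCat.of A) ⟶ G0.toScheme := IsOpenImmersion.lift G0.ι η[G].left hrange
  have hσ : σ ≫ (G0.ι ≫ G.hom) = 𝟙 _ := by
    rw [← Category.assoc, IsOpenImmersion.lift_fac]
    exact Over.w η[G]
  have hconn := connectedSpace_pullback A (G0.ι ≫ G.hom) (Cx.ι ≫ G.hom) σ hσ
  let j := pullback.map (G0.ι ≫ G.hom) (Cx.ι ≫ G.hom) G.hom G.hom G0.ι Cx.ι (𝟙 _)
    (by simp) (by simp)
  have hj : Set.range j = (pullback.fst G.hom G.hom).base ⁻¹' connectedComponent (η[G].left.base pt) ∩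
        (pullback.snd G.hom G.hom).base ⁻¹' connectedComponent x := by
    rw [Scheme.Pullback.range_map, Scheme.Opens.range_ι, Scheme.Opens.range_ι]
    rfl
  rw [← hj]
  exact isConnected_range j.continuous

omit [IsArtinianRing A] [IsLocalRing A] [GrpObj G] [LocallyOfFiniteType G.hom] in
theorem mem_fst_preimage {T : Over (Spec (CommRingCat.of A))} (w : T ⟶ G ⊗ G) (t : T.left)
    (s : Set G.left) (h : (w ≫ fst G G).left.base t ∈ s) :
    w.left.base t ∈ (pullback.fst G.hom G.hom).base ⁻¹' s := h

omit [IsArtinianRing A] [IsLocalRing A] [GrpObj G] [LocallyOfFiniteType G.hom] in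
theorem mem_snd_preimage {T : Over (Spec (CommRingCat.of A))} (w : T ⟶ G ⊗ G) (t : T.left)
    (s : Set G.left) (h : (w ≫ snd G G).left.base t ∈ s) :
    w.left.base t ∈ (pullback.snd G.hom G.hom).base ⁻¹' s := h

theorem main (pt : ↥(𝟙_ (Over (Spec (CommRingCat.of A)))).left) :
    IsOpen (connectedComponent (η[G].left.base pt)) ∧
    (∀ (T : Over (Spec (CommRingCat.of A))) (g h : T ⟶ G),
      Set.range g.left.base ⊆ connectedComponent (η[G].left.base pt) →
      Set.range h.left.base ⊆ connectedComponent (η[G].left.base pt) →
      Set.range (g * h⁻¹).left.base ⊆ connectedComponent (η[G].left.base pt)) ∧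
    ∀ (T : Over (Spec (CommRingCat.of A))) (g n : T ⟶ G),
      Set.range n.left.base ⊆ connectedComponent (η[G].left.base pt) →
      Set.range (g * n * g⁻¹).left.base ⊆ connectedComponent (η[G].left.base pt) := by
  have hsub := subsingleton_spec A
  have he : ∀ p : ↥(𝟙_ (Over (Spec (CommRingCat.of A)))).left,
      η[G].left.base p = η[G].left.base pt := fun p =>
    congrArg _ (@Subsingleton.elim _ hsub p pt)
  refine ⟨isOpen_connectedComponent A G _, ?_, ?_⟩
  · intro T g h hg hh
    let d : G ⊗ G ⟶ G := fst G G * (snd G G)⁻¹
    have hd : g * h⁻¹ = lift g h ≫ d := by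
      simp only [d, MonObj.comp_mul, GrpObj.comp_inv, lift_fst, lift_snd]
    have hB := isConnected_box A G pt (η[G].left.base pt)
    have hdB : d.left.base '' ((pullback.fst G.hom G.hom).base ⁻¹'
        connectedComponent (η[G].left.base pt) ∩
        (pullback.snd G.hom G.hom).base ⁻¹' connectedComponent (η[G].left.base pt)) ⊆
        connectedComponent (η[G].left.base pt) := by
      apply IsPreconnected.subset_connectedComponent
        (hB.isPreconnected.image _ d.left.continuous.continuousOn)
      refine ⟨(lift η[G] η[G]).left.base pt, ⟨?_, ?_⟩, ?_⟩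
      · refine mem_fst_preimage A G (lift η[G] η[G]) pt _ ?_
        rw [lift_fst]
        exact mem_connectedComponent
      · refine mem_snd_preimage A G (lift η[G] η[G]) pt _ ?_
        rw [lift_snd]
        exact mem_connectedComponent
      · show ((lift η[G] η[G]) ≫ d).left.base pt = _
        have : lift η[G] η[G] ≫ d = toUnit _ ≫ η[G] := by
          simp only [d, MonObj.comp_mul, GrpObj.comp_inv, lift_fst, lift_snd, mul_inv_cancel]
          rfl
        rw [this]
        exact he _
    rintro _ ⟨t, rfl⟩
    rw [hd]
    refine hdB ⟨(lift g h).left.base t, ⟨?_, ?_⟩, rfl⟩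
    · refine mem_fst_preimage A G (lift g h) t _ ?_
      rw [lift_fst]
      exact hg ⟨t, rfl⟩
    · refine mem_snd_preimage A G (lift g h) t _ ?_
      rw [lift_snd]
      exact hh ⟨t, rfl⟩
  · intro T g n hn
    let cj : G ⊗ G ⟶ G := snd G G * fst G G * (snd G G)⁻¹
    have hcj : g * n * g⁻¹ = lift n g ≫ cj := by
      simp only [cj, MonObj.comp_mul, GrpObj.comp_inv, lift_fst, lift_snd]
    rintro _ ⟨t, rfl⟩
    set x := g.left.base t with hx
    have hB := isConnected_box A G pt x
    have hcB : cj.left.base '' ((pullback.fst G.hom G.hom).base ⁻¹'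
        connectedComponent (η[G].left.base pt) ∩
        (pullback.snd G.hom G.hom).base ⁻¹' connectedComponent x) ⊆
        connectedComponent (η[G].left.base pt) := by
      apply IsPreconnected.subset_connectedComponent
        (hB.isPreconnected.image _ cj.left.continuous.continuousOn)
      refine ⟨(lift (toUnit G ≫ η[G]) (𝟙 G)).left.base x, ⟨?_, ?_⟩, ?_⟩
      · refine mem_fst_preimage A G (lift (toUnit G ≫ η[G]) (𝟙 G)) x _ ?_
        rw [lift_fst]
        have h1 : (toUnit G ≫ η[G]).left.base x = η[G].left.base pt := he _
        rw [h1]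
        exact mem_connectedComponent
      · refine mem_snd_preimage A G (lift (toUnit G ≫ η[G]) (𝟙 G)) x _ ?_
        rw [lift_snd]
        exact mem_connectedComponent
      · show ((lift (toUnit G ≫ η[G]) (𝟙 G)) ≫ cj).left.base x = _
        have : lift (toUnit G ≫ η[G]) (𝟙 G) ≫ cj = toUnit _ ≫ η[G] := by
          simp only [cj, MonObj.comp_mul, GrpObj.comp_inv, lift_fst, lift_snd]
          rw [← Hom.one_def, _root_.mul_one, mul_inv_cancel]
        rw [this]
        exact he _
    rw [hcj]
    refine hcB ⟨(lift n g).left.base t, ⟨?_, ?_⟩, rfl⟩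
    · refine mem_fst_preimage A G (lift n g) t _ ?_
      rw [lift_fst]
      exact hn ⟨t, rfl⟩
    · refine mem_snd_preimage A G (lift n g) t _ ?_
      rw [lift_snd]
      exact mem_connectedComponent

end main


/-- Let A be a local artinian ring and G an A-group scheme locally of finite type, and let G⁰ be the
connected component of the unit point. Then G⁰ is open in G; it is stable under the group law: for
every A-scheme T and all points g, h : T → G whose images lie in G⁰, the image of g h⁻¹ lies in G⁰
(so G⁰ carries an open subgroup scheme, the neutral component); and it is normal: for every A-scheme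
T, every point g : T → G and every point n : T → G whose image lies in G⁰, the image of g n g⁻¹ lies
in G⁰. -/
theorem result (A : Type u) [CommRing A] [IsArtinianRing A] [IsLocalRing A] (G : Over (Spec (CommRingCat.of A))) [GrpObj G] [LocallyOfFiniteType G.hom]
    (pt : ↥(𝟙_ (Over (Spec (CommRingCat.of A)))).left) :
    IsOpen (connectedComponent (η[G].left.base pt)) ∧
    (∀ (T : Over (Spec (CommRingCat.of A))) (g h : T ⟶ G), Set.range g.left.base ⊆ connectedComponent (η[G].left.base pt) →
      Set.range h.left.base ⊆ connectedComponent (η[G].left.base pt) →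
      Set.range (g * h⁻¹).left.base ⊆ connectedComponent (η[G].left.base pt)) ∧
    ∀ (T : Over (Spec (CommRingCat.of A))) (g n : T ⟶ G), Set.range n.left.base ⊆ connectedComponent (η[G].left.base pt) →
      Set.range (g * n * g⁻¹).left.base ⊆ connectedComponent (η[G].left.base pt) := by
  exact main A G pt

end Groth.Agent.S5344
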