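import Groth.Statements.S5349
import Mathlib
import Groth.Agent.Lib.Helper62.HomogComp

set_option autoImplicit false
set_option linter.style.haveILetI false
universe u
open CategoryTheory CategoryTheory.Limits MonoidalCategory CartesianMonoidalCategory MonObj GrpObj AlgebraicGeometry
open SGA3

namespace Groth.Agent.S5349
open TopologicalSpace
open Groth.Agent.S0350 Groth.Agent.Lib.Helper62.HomogComp

theorem isCompact_unitComp {k : Type u} [Field k] (G : Over (Spec (CommRingCat.of k))) [GrpObj G] :
    IsCompact (irreducibleComponent (η[G].left (IsLocalRing.closedPoint k))) := by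
  obtain ⟨h1, h2⟩ := Groth.Agent.Lib.Helper62.GrpComp.main G
  have hsub : irreducibleComponent (η[G].left (IsLocalRing.closedPoint k)) ⊆
      connectedComponent (η[G].left (IsLocalRing.closedPoint k)) :=
    isIrreducible_irreducibleComponent.isConnected.isPreconnected.subset_connectedComponent
      mem_irreducibleComponent
  have hsup : connectedComponent (η[G].left (IsLocalRing.closedPoint k)) ⊆
      irreducibleComponent (η[G].left (IsLocalRing.closedPoint k)) :=
    subset_of_uniqueComp (uniqueComp_all G _) (irreducibleComponent_mem_irreducibleComponents _)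
      mem_irreducibleComponent h1 mem_connectedComponent
  rw [Set.Subset.antisymm hsub hsup]; exact h2

theorem main (k : Type u) [Field k] (G X : Over (Spec (CommRingCat.of k))) [GrpObj G] (a : AlgGrp.Action G X) (hΦ : Surjective (lift a.act (snd G X)).left)
    [IrreducibleSpace X.left] : CompactSpace X.left := by
  obtain ⟨C0, hC0def⟩ : ∃ C0, C0 = irreducibleComponent (η[G].left (IsLocalRing.closedPoint k)) :=
    ⟨_, rfl⟩
  have hC0 : C0 ∈ irreducibleComponents G.left :=
    hC0def ▸ irreducibleComponent_mem_irreducibleComponents _
  have he : ∀ s, η[G].left s ∈ C0 := fun s => by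
    have : s = IsLocalRing.closedPoint k := Subsingleton.elim (α := ↥(Spec (CommRingCat.of k))) _ _
    rw [this, hC0def]; exact mem_irreducibleComponent
  have hcomp : IsCompact C0 := hC0def ▸ isCompact_unitComp G
  obtain ⟨x₀⟩ : Nonempty X.left := inferInstance
  obtain ⟨U, hU, hxU, -⟩ := Opens.isBasis_iff_nbhd.mp X.left.isBasis_affineOpens
    (Opens.mem_top x₀)
  have hsat : sat (U : Set X.left) = Set.univ := by
    ext x
    simp only [Set.mem_univ, iff_true]
    refine ⟨x₀, ?_, hxU⟩
    have : irreducibleComponent x = Set.univ := by
      apply Set.eq_univ_of_univ_subset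
      exact (irreducibleComponent_mem_irreducibleComponents x).2
        (IrreducibleSpace.isIrreducible_univ _) (Set.subset_univ _)
    rw [this]; trivial
  have horb := orb_eq_sat a hΦ C0 hC0 he U
  rw [hsat] at horb
  have hE : IsCompact {z : ↥(G ⊗ X).left | (fst G X).left z ∈ C0 ∧ (snd G X).left z ∈ (U : Set X.left)} := by
    have hC0cl := isClosed_of_mem_irreducibleComponents C0 hC0
    let I := Scheme.IdealSheafData.vanishingIdeal ⟨C0, hC0cl⟩
    have hr : Set.range I.subschemeι = C0 := by
      rw [I.range_subschemeι]; simp [I]
    have : CompactSpace I.subscheme := by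
      rw [← isCompact_univ_iff, I.subschemeι.isEmbedding.isCompact_iff, Set.image_univ, hr]
      exact hcomp
    have : CompactSpace (U : X.left.Opens) := isCompact_iff_compactSpace.mp hU.isCompact
    have : QuasiCompact (I.subschemeι ≫ G.hom) :=
      (HasAffineProperty.iff_of_isAffine (P := @QuasiCompact)).mpr ‹_›
    have hc : CompactSpace ↑(pullback (I.subschemeι ≫ G.hom) ((Scheme.Opens.ι U) ≫ X.hom)) := inferInstance
    have := Scheme.Pullback.range_map (I.subschemeι ≫ G.hom) ((Scheme.Opens.ι U) ≫ X.hom) G.hom X.hom
      I.subschemeι (Scheme.Opens.ι U) (𝟙 _) (by simp) (by simp)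
    rw [hr, Scheme.Opens.range_ι] at this
    show IsCompact (pullback.fst G.hom X.hom ⁻¹' C0 ∩ pullback.snd G.hom X.hom ⁻¹' (U : Set X.left))
    rw [← this]
    exact isCompact_range (Scheme.Hom.continuous _)
  have h3 := hE.image (Scheme.Hom.continuous a.act.left)
  rw [show a.act.left '' _ = orb a C0 (U : Set X.left) from rfl, horb] at h3
  exact isCompact_univ_iff.mp h3


/-- Let G be a group scheme over a field k (not assumed of finite type) acting on an irreducible
k-scheme X so that the morphism G ×_k X → X ×_k X, (g, x) ↦ (gx, x), is surjective. Then X is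
quasi-compact. -/
theorem result (k : Type u) [Field k] (G X : Over (Spec (CommRingCat.of k))) [GrpObj G] (a : AlgGrp.Action G X) (hΦ : Surjective (lift a.act (snd G X)).left)
    [IrreducibleSpace X.left] : CompactSpace X.left := by
  exact main k G X a hΦ

end Groth.Agent.S5349
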