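import Groth.Statements.S5353
import Mathlib
import Groth.Agent.Lib.Helper73.LofpSrcDescent
import Groth.Agent.Lib.Helper73.GrpUnitDiag
import Groth.Agent.Lib.Helper40.FlatDescentSrc

set_option autoImplicit false
universe u
open CategoryTheory CategoryTheory.Limits MonoidalCategory CartesianMonoidalCategory MonObj GrpObj AlgebraicGeometry
open SGA3

namespace Groth.Agent.S5353

/-- Let A be a local artinian ring, G an A-group scheme which is flat and locally of finite type, i : G⁰
→ G an open subgroup scheme whose image is the connected component of the unit (the neutral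
component), and p : G → Q a homomorphism of A-group schemes which is surjective, flat and locally of
finite presentation with kernel G⁰ (Q is the quotient of G by G⁰). Then Q is etale over A. -/
theorem result (A : Type u) [CommRing A] [IsArtinianRing A] [IsLocalRing A] (G0 G Q : Over (Spec (CommRingCat.of A))) [GrpObj G0] [GrpObj G] [GrpObj Q]
    [Flat G.hom] [LocallyOfFiniteType G.hom] (i : G0 ⟶ G) [IsMonHom i] [IsOpenImmersion i.left]
    (pt : ↥(𝟙_ (Over (Spec (CommRingCat.of A)))).left) (hi : Set.range i.left.base = connectedComponent (η[G].left.base pt))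
    (p : G ⟶ Q) [IsMonHom p] [Surjective p.left] [Flat p.left] [LocallyOfFinitePresentation p.left]
    (hK : AlgGrp.IsKernel i p) : Etale Q.hom := by
  haveI : IsNoetherianRing A := inferInstance
  haveI hNS : IsLocallyNoetherian (Spec (CommRingCat.of A)) := inferInstance
  haveI : LocallyOfFinitePresentation G.hom := inferInstance
  have hw : p.left ≫ Q.hom = G.hom := Over.w p
  haveI : LocallyOfFinitePresentation (p.left ≫ Q.hom) := by rw [hw]; infer_instance
  haveI : Flat (p.left ≫ Q.hom) := by rw [hw]; infer_instance
  -- Q is flat over A
  haveI hflat : Flat Q.hom :=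
    Groth.Agent.Lib.Helper40.FlatDescentSrc.flat_of_comp_of_flat_surjective p.left Q.hom
  -- Q is locally of finite presentation over A
  haveI hlfp : LocallyOfFinitePresentation Q.hom := by
    have : IsZariskiLocalAtSource @LocallyOfFinitePresentation.{u} :=
      HasRingHomProperty.instIsZariskiLocalAtSource (Q := RingHom.FinitePresentation)
    have hex : ∀ q : Q.left, ∃ V : Q.left.Opens, q ∈ V ∧ LocallyOfFinitePresentation (V.ι ≫ Q.hom) := by
      intro q
      obtain ⟨g, rfl⟩ := p.left.surjective q
      exact Groth.Agent.Lib.Helper73.LofpSrcDescent.exists_lofp_nhd_of_comp p.left Q.hom g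
    choose V hV1 hV2 using hex
    have hsup : iSup V = ⊤ := by
      rw [eq_top_iff]
      intro q _
      exact TopologicalSpace.Opens.mem_iSup.mpr ⟨q, hV1 q⟩
    exact (IsZariskiLocalAtSource.iff_of_iSup_eq_top (P := @LocallyOfFinitePresentation) V hsup).mpr hV2
  haveI : LocallyOfFiniteType Q.hom := inferInstance
  -- the unit section of Q is an open immersion, by descent along p
  have sq : IsPullback i.left (toUnit G0).left p.left η[Q].left := hK.map (Over.forget _)
  have hη : IsOpenImmersion η[Q].left := by
    refine MorphismProperty.of_isPullback_of_descendsAlong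
      (P := @IsOpenImmersion) (Q := @Surjective ⊓ @Flat ⊓ @LocallyOfFinitePresentation)
      sq ⟨⟨inferInstance, inferInstance⟩, inferInstance⟩ ?_
    infer_instance
  haveI : FormallyUnramified Q.hom :=
    (Groth.Agent.Lib.Helper73.GrpUnitDiag.formallyUnramified_iff_isOpenImmersion_unit Q).mpr hη
  exact Etale.of_formallyUnramified_of_flat Q.hom

end Groth.Agent.S5353
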