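import Groth.Statements.S5356
import Groth.Agent.Lib.Helper2.LocalFlat4
import Groth.Agent.Lib.Helper40.FlatDescentSrc

set_option autoImplicit false
universe u
open CategoryTheory CategoryTheory.Limits MonoidalCategory CartesianMonoidalCategory MonObj GrpObj AlgebraicGeometry
open SGA3

namespace Groth.Agent.S5356

open TensorProduct in
/-- Projectivity is preserved by pushouts of commutative rings. -/
theorem projective_of_isPushout {R A B C : CommRingCat.{u}} (a : R ⟶ A) (b : R ⟶ B) (c : A ⟶ C)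
    (d : B ⟶ C) (h : IsPushout a b c d)
    (hproj : letI := a.hom.toAlgebra; Module.Projective R A) :
    letI := d.hom.toAlgebra; Module.Projective B C := by
  letI := a.hom.toAlgebra
  letI := b.hom.toAlgebra
  letI := d.hom.toAlgebra
  have hT := CommRingCat.isPushout_tensorProduct R B A
  let e : (C : CommRingCat.{u}) ≅ CommRingCat.of (B ⊗[R] A) := h.flip.isoIsPushout _ _ hT
  have he : d ≫ e.hom = CommRingCat.ofHom (Algebra.TensorProduct.includeLeft (R := R) (S := R) (A := B) (B := A)).toRingHom :=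
    IsPushout.inl_isoIsPushout_hom _ _ h.flip hT
  have he' : ∀ x : B, e.inv.hom (x ⊗ₜ[R] (1 : A)) = d.hom x := by
    intro x
    have h1 : CommRingCat.ofHom (Algebra.TensorProduct.includeLeft (R := R) (S := R) (A := B) (B := A)).toRingHom ≫ e.inv = d := by
      rw [← he, Category.assoc, e.hom_inv_id, Category.comp_id]
    have := congrArg (fun φ => φ.hom x) h1
    simpa using this
  haveI : Module.Projective R A := hproj
  haveI : Module.Projective B (B ⊗[R] A) := inferInstance
  let e' : (B ⊗[R] A) ≃ₗ[B] C :=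
    { toFun := e.inv.hom
      map_add' := map_add _
      map_smul' := fun x t => by
        show e.inv.hom (x • t) = d.hom x * e.inv.hom t
        have : x • t = (x ⊗ₜ[R] (1 : A)) * t := by
          rw [Algebra.smul_def]; rfl
        rw [this, map_mul, he']
      invFun := e.hom.hom
      left_inv := fun t => by
        have := congrArg (fun φ => φ.hom t) e.inv_hom_id
        simpa using this
      right_inv := fun t => by
        have := congrArg (fun φ => φ.hom t) e.hom_inv_id
        simpa using this }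
  exact Module.Projective.of_equiv e'

/-- (a): essentially free morphisms are flat. -/
theorem flat_of_essFree {X S : Scheme.{u}} (f : X ⟶ S) (h : SGA3x.IsEssentiallyFree f) : Flat f := by
  haveI : IsZariskiLocalAtTarget (@Flat.{u}) :=
    HasRingHomProperty.instIsZariskiLocalAtTarget (P := @Flat.{u}) (Q := RingHom.Flat)
  haveI : IsZariskiLocalAtSource (@Flat.{u}) :=
    HasRingHomProperty.instIsZariskiLocalAtSource (P := @Flat.{u}) (Q := RingHom.Flat)
  refine IsZariskiLocalAtTarget.of_forall_exists_morphismRestrict (P := @Flat.{u}) (f := f) ?_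
  intro s
  obtain ⟨U, hsU, hU, S', hS', g, hgf, hgs, hcov⟩ := h s
  refine ⟨U, hsU, ?_⟩
  have hsnd : Flat (pullback.snd f (g ≫ U.ι)) := by
    choose V hxV hV hproj using hcov
    have hsup : (⨆ x, V x) = ⊤ := by
      rw [eq_top_iff]
      intro x _
      exact TopologicalSpace.Opens.mem_iSup.mpr ⟨x, hxV x⟩
    rw [IsZariskiLocalAtSource.iff_of_iSup_eq_top (P := @Flat) V hsup]
    intro x
    haveI : IsAffine (V x).toScheme := hV x
    rw [HasRingHomProperty.iff_of_isAffine (P := @Flat)]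
    letI := ((V x).ι ≫ pullback.snd f (g ≫ U.ι)).appTop.hom.toAlgebra
    have hp := hproj x
    show Module.Flat _ _
    infer_instance
  have w : (pullback.snd f (g ≫ U.ι) ≫ g) ≫ U.ι = pullback.fst f (g ≫ U.ι) ≫ f := by
    rw [Category.assoc, pullback.condition]
  let p := (isPullback_morphismRestrict f U).lift (pullback.snd f (g ≫ U.ι) ≫ g)
    (pullback.fst f (g ≫ U.ι)) w
  have hp1 : p ≫ (f ∣_ U) = pullback.snd f (g ≫ U.ι) ≫ g := IsPullback.lift_fst _ _ _ _
  have hp2 : p ≫ (f ⁻¹ᵁ U).ι = pullback.fst f (g ≫ U.ι) := IsPullback.lift_snd _ _ _ _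
  have sq : IsPullback p (pullback.snd f (g ≫ U.ι)) (f ∣_ U) g := by
    refine IsPullback.of_right ?_ hp1 (isPullback_morphismRestrict f U).flip
    rw [hp2]
    exact IsPullback.of_hasPullback f (g ≫ U.ι)
  haveI : Flat p := MorphismProperty.of_isPullback (P := @Flat) sq.flip hgf
  haveI : Surjective p := MorphismProperty.of_isPullback (P := @Surjective) sq.flip hgs
  haveI : Flat (p ≫ (f ∣_ U)) := by
    rw [hp1]
    infer_instance
  exact Groth.Agent.Lib.Helper40.FlatDescentSrc.flat_of_comp_of_flat_surjective p (f ∣_ U)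


/-- (b): over an artinian ring, flat schemes are essentially free. -/
theorem essFree_of_flat_artinian (A : Type u) [CommRing A] [IsArtinianRing A] (X : Scheme.{u})
    (f : X ⟶ Spec (CommRingCat.of A)) (hf : Flat f) : SGA3x.IsEssentiallyFree f := by
  intro s
  haveI : IsLocallyArtinian (Spec (CommRingCat.of A)) :=
    Scheme.isLocallyArtinianScheme_Spec.mpr ‹IsArtinianRing A›
  haveI : DiscreteTopology ↥(Spec (CommRingCat.of A)) := inferInstance
  let W : (Spec (CommRingCat.of A)).Opens := ⟨{s}, isOpen_discrete _⟩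
  obtain ⟨U, hU, hsU, hUW⟩ : ∃ U : (Spec (CommRingCat.of A)).Opens,
      U ∈ (Spec (CommRingCat.of A)).affineOpens ∧ s ∈ U ∧ U ≤ W :=
    TopologicalSpace.Opens.isBasis_iff_nbhd.mp
      (Scheme.isBasis_affineOpens (Spec (CommRingCat.of A))) (show s ∈ W from rfl)
  haveI : IsAffine U.toScheme := hU
  refine ⟨U, hsU, hU, U.toScheme, hU, 𝟙 _, inferInstance, inferInstance, ?_⟩
  haveI : IsArtinianRing Γ(U.toScheme, ⊤) := inferInstance
  haveI hsub : Subsingleton ↥U.toScheme :=
    ⟨fun a b => Subtype.ext ((hUW a.2).trans (hUW b.2).symm)⟩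
  haveI : Nonempty ↥U.toScheme := ⟨⟨s, hsU⟩⟩
  haveI : Nontrivial Γ(U.toScheme, ⊤) :=
    @Scheme.component_nontrivial U.toScheme ⊤ ⟨⟨⟨s, hsU⟩, trivial⟩⟩
  haveI hsubP : Subsingleton (PrimeSpectrum Γ(U.toScheme, ⊤)) := by
    let e := U.toScheme.isoSpec
    have h3 : ∀ r : ↥(Spec Γ(U.toScheme, ⊤)), e.hom (e.inv r) = r := fun r => by
      rw [← Scheme.Hom.comp_apply, e.inv_hom_id]; rfl
    have h4 : ∀ p q : ↥(Spec Γ(U.toScheme, ⊤)), p = q := fun p q => by
      have h1 : e.inv p = e.inv q := Subsingleton.elim _ _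
      rw [← h3 p, ← h3 q, h1]
    exact ⟨h4⟩
  haveI : IsLocalRing Γ(U.toScheme, ⊤) := by
    obtain ⟨M, hM⟩ := Ideal.exists_maximal Γ(U.toScheme, ⊤)
    refine IsLocalRing.of_unique_max_ideal ⟨M, hM, fun M' hM' => ?_⟩
    have := Subsingleton.elim (⟨M', hM'.isPrime⟩ : PrimeSpectrum _) ⟨M, hM.isPrime⟩
    exact congrArg PrimeSpectrum.asIdeal this
  have hnil : IsNilpotent (IsLocalRing.maximalIdeal Γ(U.toScheme, ⊤)) := by
    rw [← IsLocalRing.jacobson_eq_maximalIdeal ⊥ bot_ne_top]
    exact IsArtinianRing.isNilpotent_jacobson_bot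
  intro x
  obtain ⟨V, hV, hxV, -⟩ : ∃ V : (pullback f (𝟙 _ ≫ U.ι)).Opens,
      V ∈ (pullback f (𝟙 _ ≫ U.ι)).affineOpens ∧ x ∈ V ∧ V ≤ ⊤ :=
    TopologicalSpace.Opens.isBasis_iff_nbhd.mp
      (Scheme.isBasis_affineOpens (pullback f (𝟙 _ ≫ U.ι)))
      (show x ∈ (⊤ : (pullback f (𝟙 _ ≫ U.ι)).Opens) from trivial)
  refine ⟨V, hxV, hV, ?_⟩
  haveI : IsAffine V.toScheme := hV
  letI := (V.ι ≫ pullback.snd f (𝟙 _ ≫ U.ι)).appTop.hom.toAlgebra
  haveI : Flat (V.ι ≫ pullback.snd f (𝟙 _ ≫ U.ι)) := inferInstance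
  haveI : Module.Flat Γ(U.toScheme, ⊤) Γ(V.toScheme, ⊤) :=
    Scheme.Hom.flat_appTop (V.ι ≫ pullback.snd f (𝟙 _ ≫ U.ι))
  haveI : Module.Flat Γ(U.toScheme, ⊤)
      (TensorProduct Γ(U.toScheme, ⊤) Γ(U.toScheme, ⊤) Γ(V.toScheme, ⊤)) := inferInstance
  haveI : Module.Free Γ(U.toScheme, ⊤) Γ(V.toScheme, ⊤) :=
    Groth.Agent.Lib.Helper2.free_of_flat_baseChange_of_nilpotent (S := Γ(U.toScheme, ⊤)) hnil
      Function.injective_id
  infer_instance

/-- (c): schemes over a field are essentially free. -/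
theorem essFree_field (k : Type u) [Field k] (X : Scheme.{u}) (f : X ⟶ Spec (CommRingCat.of k)) :
    SGA3x.IsEssentiallyFree f := by
  haveI : Subsingleton ↥(Spec (CommRingCat.of k)) :=
    inferInstanceAs (Subsingleton (PrimeSpectrum k))
  exact essFree_of_flat_artinian k X f inferInstance

/-- (d): essential freeness is stable under base change. -/
theorem essFree_baseChange {X S S' : Scheme.{u}} (f : X ⟶ S) (g : S' ⟶ S)
    (hf : SGA3x.IsEssentiallyFree f) : SGA3x.IsEssentiallyFree (pullback.snd f g) := by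
  intro s'
  obtain ⟨U, hsU, hU, T, hT, h, hflat, hsurj, hcov⟩ := hf (g s')
  obtain ⟨U', hU', hsU', hUU'⟩ : ∃ U' : S'.Opens, U' ∈ S'.affineOpens ∧ s' ∈ U' ∧ U' ≤ g ⁻¹ᵁ U :=
    TopologicalSpace.Opens.isBasis_iff_nbhd.mp (Scheme.isBasis_affineOpens S')
      (show s' ∈ g ⁻¹ᵁ U from hsU)
  haveI : IsAffine U.toScheme := hU
  haveI : IsAffine U'.toScheme := hU'
  haveI : IsAffine T := hT
  let g' : U'.toScheme ⟶ U.toScheme := g.resLE U U' hUU'
  have hg' : g' ≫ U.ι = U'.ι ≫ g := Scheme.Hom.resLE_comp_ι _ _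
  let T' := pullback h g'
  let h' : T' ⟶ U'.toScheme := pullback.snd h g'
  haveI hT'aff : IsAffine T' := inferInstance
  haveI : Flat h' := inferInstance
  haveI : Surjective h' :=
    MorphismProperty.of_isPullback (P := @Surjective) (IsPullback.of_hasPullback h g') hsurj
  refine ⟨U', hsU', hU', T', hT'aff, h', inferInstance, inferInstance, ?_⟩
  let f' := pullback.snd f g
  let fst' := pullback.fst f' (h' ≫ U'.ι)
  let snd' := pullback.snd f' (h' ≫ U'.ι)
  have c1 : pullback.snd h g' ≫ g' = pullback.fst h g' ≫ h := pullback.condition.symm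
  have c2 : pullback.fst f g ≫ f = f' ≫ g := pullback.condition
  have c3 : fst' ≫ f' = snd' ≫ (h' ≫ U'.ι) := pullback.condition
  have hbot : (h' ≫ U'.ι) ≫ g = pullback.fst h g' ≫ (h ≫ U.ι) := by
    calc (h' ≫ U'.ι) ≫ g = h' ≫ (g' ≫ U.ι) := by rw [Category.assoc, hg']
      _ = (pullback.snd h g' ≫ g') ≫ U.ι := by rw [Category.assoc]
      _ = (pullback.fst h g' ≫ h) ≫ U.ι := by rw [c1]
      _ = _ := by rw [Category.assoc]
  have hcond : (fst' ≫ pullback.fst f g) ≫ f = (snd' ≫ pullback.fst h g') ≫ (h ≫ U.ι) := by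
    calc (fst' ≫ pullback.fst f g) ≫ f = fst' ≫ (f' ≫ g) := by rw [Category.assoc, c2]
      _ = (fst' ≫ f') ≫ g := by rw [Category.assoc]
      _ = (snd' ≫ (h' ≫ U'.ι)) ≫ g := by rw [c3]
      _ = snd' ≫ ((h' ≫ U'.ι) ≫ g) := by rw [Category.assoc]
      _ = _ := by rw [hbot, Category.assoc]
  let q : pullback f' (h' ≫ U'.ι) ⟶ pullback f (h ≫ U.ι) :=
    pullback.lift (fst' ≫ pullback.fst f g) (snd' ≫ pullback.fst h g') hcond
  have hq1 : q ≫ pullback.fst f (h ≫ U.ι) = fst' ≫ pullback.fst f g := pullback.lift_fst _ _ _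
  have hq2 : q ≫ pullback.snd f (h ≫ U.ι) = snd' ≫ pullback.fst h g' := pullback.lift_snd _ _ _
  have big : IsPullback (fst' ≫ pullback.fst f g) snd' f ((h' ≫ U'.ι) ≫ g) :=
    (IsPullback.of_hasPullback f' (h' ≫ U'.ι)).paste_horiz (IsPullback.of_hasPullback f g)
  have sqL : IsPullback q snd' (pullback.snd f (h ≫ U.ι)) (pullback.fst h g') := by
    refine IsPullback.of_right ?_ hq2 (IsPullback.of_hasPullback f (h ≫ U.ι))
    rw [hq1, ← hbot]
    exact big
  intro x'
  obtain ⟨V, hxV, hV, hproj⟩ := hcov (q x')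
  haveI : IsAffine V.toScheme := hV
  have sqV : IsPullback (q ∣_ V) ((q ⁻¹ᵁ V).ι ≫ snd')
      (V.ι ≫ pullback.snd f (h ≫ U.ι)) (pullback.fst h g') :=
    (isPullback_morphismRestrict q V).paste_vert sqL
  haveI hV' : IsAffine (q ⁻¹ᵁ V).toScheme := IsAffine.of_isPullback sqV
  refine ⟨q ⁻¹ᵁ V, hxV, hV', ?_⟩
  have hpo := isPushout_appTop_of_isPullback sqV
  exact projective_of_isPushout _ _ _ _ hpo hproj

/-- b), c) (first assertion of c)): (a) an essentially free morphism f : X → S is flat, and conversely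
if S is the spectrum of an artinian ring every flat S-scheme is essentially free over S; (b) every
scheme over a field is essentially free over it; (c) if X is essentially free over S then X ×_S S'
is essentially free over S' for every S' → S. -/
theorem result :
    (∀ (X S : Scheme.{u}) (f : X ⟶ S), SGA3x.IsEssentiallyFree f → Flat f) ∧
    (∀ (A : Type u) [CommRing A] [IsArtinianRing A] (X : Scheme.{u}) (f : X ⟶ Spec (CommRingCat.of A)),
      Flat f → SGA3x.IsEssentiallyFree f) ∧
    (∀ (k : Type u) [Field k] (X : Scheme.{u}) (f : X ⟶ Spec (CommRingCat.of k)), SGA3x.IsEssentiallyFree f) ∧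
    (∀ (X S S' : Scheme.{u}) (f : X ⟶ S) (g : S' ⟶ S), SGA3x.IsEssentiallyFree f →
      SGA3x.IsEssentiallyFree (pullback.snd f g)) := by
  exact ⟨fun X S f h => flat_of_essFree f h,
    fun A _ _ X f hf => essFree_of_flat_artinian A X f hf,
    fun k _ X f => essFree_field k X f,
    fun X S S' f g h => essFree_baseChange f g h⟩

end Groth.Agent.S5356
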