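import Groth.Statements.S5362
import Mathlib
import Groth.Agent.Lib.Helper49.WordClosure
import Groth.Agent.Lib.Helper23.GrpDominant
import Groth.Agent.Lib.Helper23.FreeDense
import Groth.Agent.S5354
import Groth.Agent.S4629
-- import your own Groth.Agent.* helpers here

set_option autoImplicit false
universe u
open CategoryTheory CategoryTheory.Limits MonoidalCategory CartesianMonoidalCategory MonObj GrpObj AlgebraicGeometry
open SGA3

namespace Groth.Agent.S5362

open Groth.Agent.Lib.Helper49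
open Groth.Agent.Lib.Helper23.GrpDominant (mem_range_of_isMaxPt isMaxPt_of_mem_irreducibleComponents
  exists_preimage_of_isPullback isPullback_whiskerLeft_snd isPullback_whiskerRight_fst)

variable {k : Type u} [Field k]

/-- every point of `H` is the value of `(u' ⊗ u') ≫ μ` for a quasi-compact dominant `u' : Z ⟶ H` -/
theorem exists_mul_preimage {Z H : Over (Spec (CommRingCat.of k))} [GrpObj H] (u' : Z ⟶ H)
    [QuasiCompact u'.left] (hd : DenseRange u'.left.base) (x : H.left) :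
    ∃ w : ↥(Z ⊗ Z).left, ((u' ⊗ₘ u') ≫ μ[H]).left.base w = x := by
  obtain ⟨z, hz, h1, h2⟩ := Groth.Agent.S5354.result k H x
  obtain ⟨g₁, hg₁⟩ := mem_range_of_isMaxPt u'.left hd _
    (isMaxPt_of_mem_irreducibleComponents _ h1)
  obtain ⟨g₂, hg₂⟩ := mem_range_of_isMaxPt u'.left hd _
    (isMaxPt_of_mem_irreducibleComponents _ h2)
  have sq1 := (isPullback_whiskerRight_fst H u').map (Over.forget _)
  have sq2 := (isPullback_whiskerLeft_snd Z u').map (Over.forget _)
  obtain ⟨z', hz'1, hz'2⟩ := exists_preimage_of_isPullback sq1 z g₁ hg₁.symm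
  have h3 : (snd Z H).left.base z' = u'.left.base g₂ := by
    rw [hg₂]
    have e : (u' ▷ H) ≫ snd H H = snd Z H := whiskerRight_snd _ _
    have e2 : (snd H H).left.base ((u' ▷ H).left.base z') = (snd Z H).left.base z' :=
      congrArg (fun t => t.left.base z') e
    rw [← e2]
    exact congrArg (snd H H).left.base hz'1
  obtain ⟨w, hw1, hw2⟩ := exists_preimage_of_isPullback sq2 z' g₂ h3
  refine ⟨w, ?_⟩
  have e : (u' ⊗ₘ u') ≫ μ[H] = ((Z ◁ u') ≫ (u' ▷ H)) ≫ μ[H] := by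
    rw [tensorHom_def']
  have e2 : ((u' ⊗ₘ u') ≫ μ[H]).left.base w =
      μ[H].left.base ((u' ▷ H).left.base ((Z ◁ u').left.base w)) :=
    congrArg (fun t => t.left.base w) e
  refine e2.trans ?_
  rw [← hz]
  have e3 : (u' ▷ H).left.base ((Z ◁ u').left.base w) = z :=
    (congrArg (u' ▷ H).left.base hw1).trans hz'1
  rw [e3]

section
variable {G A B : Over (Spec (CommRingCat.of k))} [GrpObj G] [GrpObj A] [GrpObj B]
  (a : A ⟶ G) (b : B ⟶ G)

lemma u_eq : (a ⊗ₘ b) ≫ μ[G] = (fst A B ≫ a) * (snd A B ≫ b) := by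
  rw [Hom.mul_def, ← lift_fst_comp_snd_comp]

lemma lift_u {T : Over (Spec (CommRingCat.of k))} (x : T ⟶ A) (y : T ⟶ B) :
    lift x y ≫ (a ⊗ₘ b) ≫ μ[G] = (x ≫ a) * (y ≫ b) := by
  rw [u_eq, MonObj.comp_mul, ← Category.assoc, ← Category.assoc, lift_fst, lift_snd]

end


/-- Let G be a group scheme locally of finite type over a field k, and a : A → G, b : B → G two closed
subgroup schemes which are smooth and of finite type over k, such that B normalizes A (conjugating a
point of A by a point of B gives a point of A). Let i : Γ → G be the smallest closed subgroup scheme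
of G through which both a and b factor. Then Γ is reduced and its underlying set is A·B, the image
of A ×_k B under (x, y) ↦ a(x) b(y). -/
theorem result (k : Type u) [Field k] (G A B : Over (Spec (CommRingCat.of k))) [GrpObj G] [GrpObj A] [GrpObj B]
    [LocallyOfFiniteType G.hom] (a : A ⟶ G) [IsMonHom a] [IsClosedImmersion a.left] (b : B ⟶ G) [IsMonHom b]
    [IsClosedImmersion b.left] [Smooth A.hom] [QuasiCompact A.hom] [Smooth B.hom] [QuasiCompact B.hom]
    (hN : ∀ (T : Over (Spec (CommRingCat.of k))) (y : T ⟶ B) (x : T ⟶ A), ∃ x' : T ⟶ A, (y ≫ b) * (x ≫ a) * (y ≫ b)⁻¹ = x' ≫ a)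
    (Γ : Over (Spec (CommRingCat.of k))) [GrpObj Γ] (i : Γ ⟶ G) [IsMonHom i] [IsClosedImmersion i.left]
    (ha : ∃ a' : A ⟶ Γ, a' ≫ i = a) (hb : ∃ b' : B ⟶ Γ, b' ≫ i = b)
    (hmin : ∀ (Γ' : Over (Spec (CommRingCat.of k))) (_ : GrpObj Γ') (i' : Γ' ⟶ G), IsMonHom i' → IsClosedImmersion i'.left →
        (∃ a'' : A ⟶ Γ', a'' ≫ i' = a) → (∃ b'' : B ⟶ Γ', b'' ≫ i' = b) → ∃ j : Γ ⟶ Γ', j ≫ i' = i) :
    IsReduced Γ.left ∧ Set.range i.left.base = Set.range ((a ⊗ₘ b) ≫ μ[G]).left.base := by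
  classical
  haveI : Subsingleton ↥(Spec (CommRingCat.of k)) :=
    inferInstanceAs (Subsingleton (PrimeSpectrum k))
  obtain ⟨u, hu⟩ : ∃ u : A ⊗ B ⟶ G, u = (a ⊗ₘ b) ≫ μ[G] := ⟨_, rfl⟩
  have hlift : ∀ {T : Over (Spec (CommRingCat.of k))} (x : T ⟶ A) (y : T ⟶ B),
      lift x y ≫ u = (x ≫ a) * (y ≫ b) := by
    intro T x y
    rw [hu]
    exact lift_u a b x y
  have hucomp : ∀ {T : Over (Spec (CommRingCat.of k))} (t : T ⟶ A ⊗ B),
      t ≫ u = ((t ≫ fst A B) ≫ a) * ((t ≫ snd A B) ≫ b) := by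
    intro T t
    rw [← hlift]
    congr 1
    ext <;> simp
  have hone : Set.range η[G].left ⊆ Set.range u.left := by
    rintro _ ⟨y, rfl⟩
    have hη : η[G] = (1 : 𝟙_ (Over (Spec (CommRingCat.of k))) ⟶ G) := by
      rw [Hom.one_def, toUnit_unique (toUnit (𝟙_ (Over (Spec (CommRingCat.of k))))) (𝟙 _),
        Category.id_comp]
    have e : lift (1 : 𝟙_ (Over (Spec (CommRingCat.of k))) ⟶ A) (1 : 𝟙_ _ ⟶ B) ≫ u = η[G] := by
      rw [hlift, MonObj.one_comp, MonObj.one_comp, _root_.one_mul, hη]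
    rw [← e]
    exact ⟨_, rfl⟩
  have hmul : ∀ _ _ : Unit, Set.range ((u ⊗ₘ u) ≫ μ[G]).left ⊆ Set.range u.left := by
    intro _ _
    rintro _ ⟨y, rfl⟩
    obtain ⟨xa, hxa⟩ : ∃ t : (A ⊗ B) ⊗ (A ⊗ B) ⟶ A, t = fst _ _ ≫ fst A B := ⟨_, rfl⟩
    obtain ⟨yb, hyb⟩ : ∃ t : (A ⊗ B) ⊗ (A ⊗ B) ⟶ B, t = fst _ _ ≫ snd A B := ⟨_, rfl⟩
    obtain ⟨xa', hxa'⟩ : ∃ t : (A ⊗ B) ⊗ (A ⊗ B) ⟶ A, t = snd _ _ ≫ fst A B := ⟨_, rfl⟩
    obtain ⟨yb', hyb'⟩ : ∃ t : (A ⊗ B) ⊗ (A ⊗ B) ⟶ B, t = snd _ _ ≫ snd A B := ⟨_, rfl⟩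
    obtain ⟨x'', hx''⟩ := hN _ yb xa'
    have e : (u ⊗ₘ u) ≫ μ[G] = lift (xa * x'') (yb * yb') ≫ u := by
      rw [hlift, MonObj.mul_comp, MonObj.mul_comp, ← hx'']
      have h1 : (u ⊗ₘ u) ≫ μ[G] = (fst (A ⊗ B) (A ⊗ B) ≫ u) * (snd (A ⊗ B) (A ⊗ B) ≫ u) := by
        rw [Hom.mul_def, ← lift_fst_comp_snd_comp]
      rw [h1, hucomp, hucomp, ← hxa, ← hyb, ← hxa', ← hyb']
      group
    rw [e]
    exact ⟨_, rfl⟩
  have hinv : ∀ _ : Unit, Set.range (u ≫ ι[G]).left ⊆ Set.range u.left := by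
    intro _
    rintro _ ⟨y, rfl⟩
    obtain ⟨x'', hx''⟩ := hN _ (snd A B)⁻¹ (fst A B)⁻¹
    have e : u ≫ ι[G] = lift x'' (snd A B)⁻¹ ≫ u := by
      rw [hlift, ← hx'']
      have h1 : u ≫ ι[G] = u⁻¹ := rfl
      have hu2 : u = (fst A B ≫ a) * (snd A B ≫ b) := by
        rw [hu]
        exact u_eq a b
      rw [h1, hu2, GrpObj.inv_comp, GrpObj.inv_comp]
      group
    rw [e]
    exact ⟨_, rfl⟩
  -- geometric reducedness
  haveI : GeometricallyReduced A.hom :=
    Groth.Agent.Lib.Helper23.FreeDense.geometricallyReduced_of_smooth A.hom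
  haveI : GeometricallyReduced B.hom :=
    Groth.Agent.Lib.Helper23.FreeDense.geometricallyReduced_of_smooth B.hom
  have hgrZ : GeometricallyReduced (A ⊗ B).hom := by
    show GeometricallyReduced (Limits.pullback.fst A.hom B.hom ≫ A.hom)
    exact Groth.Agent.S4629.result A.hom B.hom
  obtain ⟨H', instH', incl, hMon, hcl, hgrH', hredH', hrange, hfac⟩ :=
    WordClosure.exists_closedSubgroup G (fun _ : Unit => A ⊗ B) (fun _ => u)
      (fun _ => hgrZ) (Set.range u.left) (by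
        ext p
        simp only [Set.mem_iUnion, exists_const]) hone hmul hinv
  haveI := hMon
  haveI := hcl
  obtain ⟨u', hu'⟩ := hfac ()
  -- `a` and `b` factor through `H'`
  have ha' : ∃ a'' : A ⟶ H', a'' ≫ incl = a := by
    refine ⟨lift (𝟙 A) 1 ≫ u', ?_⟩
    rw [Category.assoc, hu', hlift, Category.id_comp, MonObj.one_comp, _root_.mul_one]
  have hb' : ∃ b'' : B ⟶ H', b'' ≫ incl = b := by
    refine ⟨lift 1 (𝟙 B) ≫ u', ?_⟩
    rw [Category.assoc, hu', hlift, Category.id_comp, MonObj.one_comp, _root_.one_mul]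
  obtain ⟨j, hj⟩ := hmin H' instH' incl hMon hcl ha' hb'
  -- `W ⊆ range i`
  obtain ⟨a', ha'i⟩ := ha
  obtain ⟨b', hb'i⟩ := hb
  have hWi : Set.range u.left ⊆ Set.range i.left := by
    rintro _ ⟨y, rfl⟩
    have e : u = ((fst A B ≫ a') * (snd A B ≫ b')) ≫ i := by
      rw [MonObj.mul_comp, Category.assoc, Category.assoc, ha'i, hb'i, hu]
      exact u_eq a b
    rw [e]
    exact ⟨((fst A B ≫ a') * (snd A B ≫ b')).left y, rfl⟩
  have hicl : IsClosed (Set.range i.left) := i.left.isClosedEmbedding.isClosed_range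
  obtain ⟨j₁, hj₁⟩ := Groth.Agent.Lib.Helper60.AbGen.exists_lift_of_isReduced incl.left i.left (by
    rw [hrange]
    exact hicl.closure_subset_iff.mpr hWi)
  have hr1 : Set.range i.left ⊆ Set.range incl.left := by
    rintro _ ⟨y, rfl⟩
    refine ⟨j.left y, ?_⟩
    rw [← hj]
    rfl
  have hr2 : Set.range incl.left ⊆ Set.range i.left := by
    rintro _ ⟨y, rfl⟩
    refine ⟨j₁ y, ?_⟩
    rw [← hj₁]
    rfl
  -- `W` is closed
  haveI : IsLocallyNoetherian G.left := LocallyOfFiniteType.isLocallyNoetherian G.hom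
  haveI : QuasiCompact (A ⊗ B).hom := by
    show QuasiCompact (Limits.pullback.fst A.hom B.hom ≫ A.hom)
    infer_instance
  haveI : CompactSpace ↥(A ⊗ B).left := QuasiCompact.compactSpace_of_compactSpace (A ⊗ B).hom
  haveI : QuasiCompact u.left := inferInstance
  haveI : QuasiCompact (u'.left ≫ incl.left) := by
    rw [← Over.comp_left, hu']
    infer_instance
  haveI : QuasiCompact u'.left := QuasiCompact.of_comp u'.left incl.left
  have hdense : DenseRange u'.left.base := by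
    rw [DenseRange, dense_iff_closure_eq]
    have hemb := incl.left.isClosedEmbedding
    have h1 : incl.left '' (closure (Set.range u'.left.base)) = Set.univ.image incl.left := by
      rw [← hemb.closure_image_eq, Set.image_univ, hrange]
      congr 1
      rw [← Set.range_comp]
      rw [← hu']
      rfl
    exact hemb.injective.image_injective h1
  have hWcl : Set.range incl.left ⊆ Set.range u.left := by
    rintro _ ⟨x, rfl⟩
    obtain ⟨w, hw⟩ := exists_mul_preimage u' hdense x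
    apply hmul () ()
    refine ⟨w, ?_⟩
    have e : (u ⊗ₘ u) ≫ μ[G] = ((u' ⊗ₘ u') ≫ μ[H']) ≫ incl := by
      rw [Category.assoc, IsMonHom.mul_hom, ← Category.assoc, tensorHom_comp_tensorHom, hu']
    rw [e, ← hw]
    rfl
  refine ⟨?_, ?_⟩
  · haveI : Mono i.left := inferInstance
    haveI : Mono incl.left := inferInstance
    have h1 : j.left ≫ j₁ = 𝟙 _ := by
      rw [← cancel_mono i.left, Category.assoc, hj₁, Category.id_comp, ← Over.comp_left, hj]
    have h2 : j₁ ≫ j.left = 𝟙 _ := by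
      rw [← cancel_mono incl.left, Category.assoc, ← Over.comp_left, hj, hj₁, Category.id_comp]
    haveI : IsIso j₁ := ⟨j.left, h2, h1⟩
    exact isReduced_of_isOpenImmersion (inv j₁)
  · show Set.range i.left = Set.range ((a ⊗ₘ b) ≫ μ[G]).left
    rw [← hu]
    refine le_antisymm (hr1.trans hWcl) ?_
    have : Set.range u.left ⊆ Set.range incl.left := by
      rw [hrange]
      exact subset_closure
    exact this.trans hr2

end Groth.Agent.S5362
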