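import Groth.Statements.S5366
import Groth.Agent.Lib.Helper23.WordLaws

set_option autoImplicit false
universe u
open CategoryTheory CategoryTheory.Limits MonoidalCategory CartesianMonoidalCategory MonObj GrpObj AlgebraicGeometry
open SGA3

namespace Groth.Agent.S5366


open scoped commutatorElement
open Groth.Agent.Lib.Helper23.WordLaws

section Aux

variable {k : Type u} [Field k] {G : Over (Spec (CommRingCat.of k))} [GrpObj G] [Smooth G.hom]

/-- The iterated commutator word of the derived series. -/
noncomputable def dW : ℕ → Word G
  | 0 => Word.base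
  | n + 1 => (dW n).comm (dW n)

/-- The iterated commutator word of the lower central series. -/
noncomputable def cW : ℕ → Word G
  | 0 => Word.base
  | n + 1 => (cW n).comm Word.base

theorem conjInv_dW (n : ℕ) (T : Over (Spec (CommRingCat.of k))) :
    ConjInv ((dW (G := G) n).val T) := by
  induction n with
  | zero => show ConjInv ((Word.base (G := G)).val T); rw [Word.val_base]; exact conjInv_univ
  | succ n ih =>
    show ConjInv (((dW n).comm (dW n)).val T)
    rw [Word.val_comm]
    exact conjInv_commSet ih ih

theorem conjInv_cW (n : ℕ) (T : Over (Spec (CommRingCat.of k))) :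
    ConjInv ((cW (G := G) n).val T) := by
  induction n with
  | zero => show ConjInv ((Word.base (G := G)).val T); rw [Word.val_base]; exact conjInv_univ
  | succ n ih =>
    show ConjInv (((cW n).comm Word.base).val T)
    rw [Word.val_comm, Word.val_base]
    exact conjInv_commSet ih conjInv_univ

theorem derivedSeries_le (n : ℕ) (T : Over (Spec (CommRingCat.of k))) :
    derivedSeries (T ⟶ G) n ≤ Subgroup.closure ((dW (G := G) n).val T) := by
  induction n with
  | zero =>
    show _ ≤ Subgroup.closure ((Word.base (G := G)).val T)
    rw [Word.val_base, Subgroup.closure_univ]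
    exact le_top
  | succ n ih =>
    show _ ≤ Subgroup.closure (((dW n).comm (dW n)).val T)
    rw [derivedSeries_succ, Word.val_comm]
    exact (Subgroup.commutator_mono ih ih).trans
      (commutator_closure_le (conjInv_dW n T) (conjInv_dW n T))

theorem val_dW_le (n : ℕ) (T : Over (Spec (CommRingCat.of k))) :
    (dW (G := G) n).val T ⊆ derivedSeries (T ⟶ G) n := by
  induction n with
  | zero => intro g _; rw [derivedSeries_zero]; exact Subgroup.mem_top g
  | succ n ih =>
    show ((dW n).comm (dW n)).val T ⊆ _
    rw [Word.val_comm, derivedSeries_succ]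
    rintro _ ⟨a, ha, b, hb, rfl⟩
    exact Subgroup.commutator_mem_commutator (ih ha) (ih hb)

theorem lowerCentralSeries_le (n : ℕ) (T : Over (Spec (CommRingCat.of k))) :
    Subgroup.lowerCentralSeries (⊤ : Subgroup (T ⟶ G)) n ≤
      Subgroup.closure ((cW (G := G) n).val T) := by
  induction n with
  | zero =>
    show _ ≤ Subgroup.closure ((Word.base (G := G)).val T)
    rw [Word.val_base, Subgroup.closure_univ]
    exact le_top
  | succ n ih =>
    show _ ≤ Subgroup.closure (((cW n).comm Word.base).val T)
    rw [Subgroup.lowerCentralSeries_succ, Word.val_comm, Word.val_base]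
    have h2 : (⊤ : Subgroup (T ⟶ G)) ≤ Subgroup.closure (Set.univ : Set (T ⟶ G)) := by
      rw [Subgroup.closure_univ]
    exact (Subgroup.commutator_mono ih h2).trans
      (commutator_closure_le (conjInv_cW n T) conjInv_univ)

theorem val_cW_le (n : ℕ) (T : Over (Spec (CommRingCat.of k))) :
    (cW (G := G) n).val T ⊆ Subgroup.lowerCentralSeries (⊤ : Subgroup (T ⟶ G)) n := by
  induction n with
  | zero => intro g _; exact Subgroup.mem_top g
  | succ n ih =>
    show ((cW n).comm Word.base).val T ⊆ _
    rw [Word.val_comm, Subgroup.lowerCentralSeries_succ]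
    rintro _ ⟨a, ha, b, _, rfl⟩
    exact Subgroup.commutator_mem_commutator (ih ha) (Subgroup.mem_top b)

end Aux

/-- (i) ⟺ (iii): let G be a smooth group scheme of finite type over a field k, Ω an algebraically closed
extension field of k and n a natural number. Then G is solvable of class n (the n-th term of the
derived series of the group G(T) is trivial for every k-scheme T) if and only if the n-th term of
the derived series of the group of Ω-points G(Ω) is trivial; and G is nilpotent of class n (the n-th
term of the lower central series of G(T) is trivial for every T) if and only if the n-th term of the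
lower central series of G(Ω) is trivial. -/
theorem result (k : Type u) [Field k] (G : Over (Spec (CommRingCat.of k))) [GrpObj G]
    [Smooth G.hom] [QuasiCompact G.hom] (Ω : Type u) [Field Ω] [Algebra k Ω] [IsAlgClosed Ω] (n : ℕ) :
    ((∀ T : Over (Spec (CommRingCat.of k)), derivedSeries (T ⟶ G) n = ⊥) ↔ derivedSeries ((Over.mk (Spec.map (CommRingCat.ofHom (algebraMap k Ω))) : Over (Spec (CommRingCat.of k))) ⟶ G) n = ⊥) ∧
    ((∀ T : Over (Spec (CommRingCat.of k)), Subgroup.lowerCentralSeries (⊤ : Subgroup (T ⟶ G)) n = ⊥) ↔ Subgroup.lowerCentralSeries (⊤ : Subgroup (((Over.mk (Spec.map (CommRingCat.ofHom (algebraMap k Ω))) : Over (Spec (CommRingCat.of k))) ⟶ G))) n = ⊥) := by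
  have hsc : IsSepClosed Ω := inferInstance
  refine ⟨⟨fun h => h _, fun h T => ?_⟩, ⟨fun h => h _, fun h T => ?_⟩⟩
  · rw [eq_bot_iff]
    refine (derivedSeries_le n T).trans ?_
    rw [Subgroup.closure_le]
    refine (Word.val_subset_one Ω (dW n) ?_ T).trans ?_
    · refine (val_dW_le n _).trans ?_
      rw [h]
      intro g hg
      exact Subgroup.mem_bot.mp hg
    · intro g hg
      rw [Set.mem_singleton_iff.mp hg]
      exact one_mem _
  · rw [eq_bot_iff]
    refine (lowerCentralSeries_le n T).trans ?_
    rw [Subgroup.closure_le]
    refine (Word.val_subset_one Ω (cW n) ?_ T).trans ?_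
    · refine (val_cW_le n _).trans ?_
      rw [h]
      intro g hg
      exact Subgroup.mem_bot.mp hg
    · intro g hg
      rw [Set.mem_singleton_iff.mp hg]
      exact one_mem _

end Groth.Agent.S5366
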