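import Groth.Statements.S5373
-- import your own Groth.Agent.* helpers here
import Groth.Agent.Lib.Helper40.FpqcCovOver

set_option autoImplicit false
universe u
open CategoryTheory CategoryTheory.Limits MonoidalCategory CartesianMonoidalCategory MonObj GrpObj AlgebraicGeometry
open SGA3

namespace Groth.Agent.S5373

/-- Let p : X → Y be a morphism of S-schemes and v : X ×_Y X → X ×_S X the canonical monomorphism (the
graph of the effective equivalence relation defined by p). Then (i) v is an immersion, and a closed
immersion if Y is separated over S; (ii) if p is covering for the fpqc topology (some Z → Y which is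
flat, surjective, with every affine open of Y the image of a quasi-compact open of Z, factors
through p), so that Y represents the quotient sheaf of X by this equivalence relation, and v is a
closed immersion, then Y is separated over S. -/
theorem result (S : Scheme.{u}) (X Y : Over S) (p : X ⟶ Y) :
    letI v : (pullback p p) ⟶ X ⊗ X := lift (pullback.fst p p) (pullback.snd p p)
    IsImmersion v.left ∧ (IsSeparated Y.hom → IsClosedImmersion v.left) ∧
    ((∃ (Z : Scheme.{u}) (q : Z ⟶ Y.left) (r : Z ⟶ X.left), r ≫ p.left = q ∧ Surjective q ∧ Flat q ∧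
        ∀ V : Y.left.Opens, IsAffineOpen V → ∃ W : Z.Opens, IsCompact (W : Set Z) ∧ q.base '' (W : Set Z) = (V : Set Y.left)) →
      IsClosedImmersion v.left → IsSeparated Y.hom) := by
  classical
  set v : pullback p p ⟶ X ⊗ X := lift (pullback.fst p p) (pullback.snd p p) with hvdef
  have hvfst : v ≫ fst X X = pullback.fst p p := by rw [hvdef, lift_fst]
  have hvsnd : v ≫ snd X X = pullback.snd p p := by rw [hvdef, lift_snd]
  have hw : v ≫ (p ⊗ₘ p) = (pullback.fst p p ≫ p) ≫ lift (𝟙 Y) (𝟙 Y) := by
    apply CartesianMonoidalCategory.hom_ext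
    · rw [Category.assoc, tensorHom_fst, ← Category.assoc, hvfst, Category.assoc, lift_fst,
        Category.comp_id]
    · rw [Category.assoc, tensorHom_snd, ← Category.assoc, hvsnd, Category.assoc, lift_snd,
        Category.comp_id, pullback.condition]
  have hcond : ∀ s : PullbackCone (p ⊗ₘ p) (lift (𝟙 Y) (𝟙 Y)),
      (s.fst ≫ fst X X) ≫ p = s.snd ∧ (s.fst ≫ snd X X) ≫ p = s.snd := by
    intro s
    have h1 := congrArg (· ≫ fst Y Y) s.condition
    have h2 := congrArg (· ≫ snd Y Y) s.condition
    simp only [Category.assoc, tensorHom_fst, tensorHom_snd, lift_fst, lift_snd,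
      Category.comp_id] at h1 h2
    exact ⟨by rw [Category.assoc]; exact h1, by rw [Category.assoc]; exact h2⟩
  have hsq : IsPullback v (pullback.fst p p ≫ p) (p ⊗ₘ p) (lift (𝟙 Y) (𝟙 Y)) := by
    refine ⟨⟨hw⟩, ⟨PullbackCone.IsLimit.mk hw
      (fun s => pullback.lift (s.fst ≫ fst X X) (s.fst ≫ snd X X)
        ((hcond s).1.trans (hcond s).2.symm)) ?_ ?_ ?_⟩⟩
    · intro s
      apply CartesianMonoidalCategory.hom_ext
      · rw [Category.assoc, hvfst, pullback.lift_fst]
      · rw [Category.assoc, hvsnd, pullback.lift_snd]
    · intro s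
      rw [← Category.assoc, pullback.lift_fst]
      exact (hcond s).1
    · intro s m h1 h2
      apply pullback.hom_ext
      · rw [pullback.lift_fst, ← h1, Category.assoc, hvfst]
      · rw [pullback.lift_snd, ← h1, Category.assoc, hvsnd]
  have hsqS : IsPullback v.left (pullback.fst p p ≫ p).left (p ⊗ₘ p).left
      (lift (𝟙 Y) (𝟙 Y)).left := hsq.map (Over.forget S)
  have hdiag : (lift (𝟙 Y) (𝟙 Y)).left = pullback.diagonal Y.hom := by
    apply pullback.hom_ext
    · rw [pullback.diagonal_fst]
      exact congrArg (fun t => t.left) (lift_fst (𝟙 Y) (𝟙 Y))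
    · rw [pullback.diagonal_snd]
      exact congrArg (fun t => t.left) (lift_snd (𝟙 Y) (𝟙 Y))
  rw [hdiag] at hsqS
  refine ⟨?_, ?_, ?_⟩
  · exact MorphismProperty.of_isPullback (P := @IsImmersion) hsqS.flip inferInstance
  · intro hsep
    exact MorphismProperty.of_isPullback (P := @IsClosedImmersion) hsqS.flip inferInstance
  · intro hcov hv
    have hp : Groth.Agent.Lib.Helper40.FpqcCov.IsCov p.left := hcov
    have hpp := Groth.Agent.Lib.Helper40.FpqcCov.isCov_tensorHom hp hp
    exact ⟨hpp.isClosedImmersion_of_isPullback hsqS hv⟩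

end Groth.Agent.S5373
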