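import Groth.Statements.S5369
-- import your own Groth.Agent.* helpers here
import Groth.Agent.Lib.Helper40.FpqcCovOver
import Groth.Agent.S5373

set_option autoImplicit false
universe u
open CategoryTheory CategoryTheory.Limits MonoidalCategory CartesianMonoidalCategory MonObj GrpObj AlgebraicGeometry
open SGA3

namespace Groth.Agent.S5369

/-- Let u : G' → G be a monomorphism of S-group schemes and p : G → G'' a morphism of S-schemes which is
covering for the fpqc topology (some Z → G'' which is flat, surjective, with every affine open of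
G'' the image of a quasi-compact open of Z, factors through p) and such that the square (g, h) ↦
g·u(h), first projection G ×_S G' → G, p, p is cartesian, so that G'' represents the fpqc quotient
sheaf G/G'. Let ε'' be the composite of the unit section of G with p. Then the square formed by u,
the structure morphism G' → S, p and ε'' is cartesian; u is an immersion; and G'' is separated over
S if and only if u is a closed immersion, if and only if ε'' is a closed immersion. -/
theorem result (S : Scheme.{u}) (G G' G'' : Over S) [GrpObj G] [GrpObj G']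
    (u : G' ⟶ G) [IsMonHom u] [Mono u] (p : G ⟶ G'')
    (hcov : (∃ (Z : Scheme.{u}) (q : Z ⟶ G''.left) (r : Z ⟶ G.left), r ≫ p.left = q ∧ Surjective q ∧ Flat q ∧
        ∀ V : G''.left.Opens, IsAffineOpen V → ∃ W : Z.Opens, IsCompact (W : Set Z) ∧ q.base '' (W : Set Z) = (V : Set G''.left)))
    (hsq : IsPullback ((G ◁ u) ≫ μ[G]) (fst G G') p p) :
    IsPullback u (toUnit G') p (η[G] ≫ p) ∧ IsImmersion u.left ∧
    (IsSeparated G''.hom ↔ IsClosedImmersion u.left) ∧ (IsClosedImmersion u.left ↔ IsClosedImmersion (η[G] ≫ p).left) := by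
  classical
  have hp : Groth.Agent.Lib.Helper40.FpqcCov.IsCov p.left := hcov
  -- the equivalence relation defined by `p`
  have hmulu : ∀ {T : Over S} (y : T ⟶ G) (h : T ⟶ G'),
      lift y h ≫ (G ◁ u) ≫ μ[G] = y * (h ≫ u) := by
    intro T y h
    rw [← Category.assoc, lift_whiskerLeft]
    rfl
  have factA1 : ∀ {T : Over S} (x y : T ⟶ G), x ≫ p = y ≫ p →
      ∃ h : T ⟶ G', x = y * (h ≫ u) := by
    intro T x y hxy
    have hz1 : hsq.lift x y hxy ≫ ((G ◁ u) ≫ μ[G]) = x := hsq.lift_fst _ _ _
    have hz2 : hsq.lift x y hxy ≫ fst G G' = y := hsq.lift_snd _ _ _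
    refine ⟨hsq.lift x y hxy ≫ snd G G', ?_⟩
    have hz : hsq.lift x y hxy = lift y (hsq.lift x y hxy ≫ snd G G') := by
      apply CartesianMonoidalCategory.hom_ext
      · rw [lift_fst, hz2]
      · rw [lift_snd]
    rw [← hmulu, ← hz, hz1]
  have factA2 : ∀ {T : Over S} (y : T ⟶ G) (h : T ⟶ G'), (y * (h ≫ u)) ≫ p = y ≫ p := by
    intro T y h
    rw [← hmulu, Category.assoc, Category.assoc, ← Category.assoc (G ◁ u), hsq.w,
      ← Category.assoc, lift_fst]
  -- the kernel square
  have hw : u ≫ p = toUnit G' ≫ η[G] ≫ p := by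
    have h1 : u = (1 : G' ⟶ G) * (𝟙 G' ≫ u) := by rw [Category.id_comp, _root_.one_mul]
    rw [h1, factA2, CategoryTheory.Hom.one_def, Category.assoc]
  have hl : ∀ s : PullbackCone p (η[G] ≫ p), ∃ d : s.pt ⟶ G', d ≫ u = s.fst := by
    intro s
    have h1 : s.fst ≫ p = (1 : s.pt ⟶ G) ≫ p := by
      rw [s.condition, CategoryTheory.Hom.one_def, Category.assoc]
      congr 1
      exact toUnit_unique _ _
    obtain ⟨h, hh⟩ := factA1 _ _ h1
    exact ⟨h, by rw [hh, _root_.one_mul]⟩
  have hker : IsPullback u (toUnit G') p (η[G] ≫ p) := by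
    refine ⟨⟨hw⟩, ⟨PullbackCone.IsLimit.mk hw (fun s => (hl s).choose) ?_ ?_ ?_⟩⟩
    · intro s
      exact (hl s).choose_spec
    · intro s
      exact toUnit_unique _ _
    · intro s m₀ hm₀ _
      rw [← cancel_mono u, hm₀]
      exact (hl s).choose_spec.symm
  have hkerS : IsPullback u.left (toUnit G').left p.left (η[G] ≫ p).left :=
    hker.map (Over.forget S)
  -- the unit section of `G''` is an immersion
  have hεimm : IsImmersion (η[G] ≫ p).left := by
    have h1 : (η[G] ≫ p).left ≫ G''.hom = (𝟙_ (Over S)).hom := CategoryTheory.Over.w (η[G] ≫ p)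
    have h2 : IsImmersion ((η[G] ≫ p).left ≫ G''.hom) := by
      rw [h1]
      show IsImmersion (𝟙 S)
      infer_instance
    exact IsImmersion.of_comp (η[G] ≫ p).left G''.hom
  have huimm : IsImmersion u.left :=
    MorphismProperty.of_isPullback (P := @IsImmersion) hkerS.flip hεimm
  -- closed immersion transfers
  have hb : IsClosedImmersion (η[G] ≫ p).left → IsClosedImmersion u.left := fun h =>
    MorphismProperty.of_isPullback (P := @IsClosedImmersion) hkerS.flip h
  have hc : IsClosedImmersion u.left → IsClosedImmersion (η[G] ≫ p).left := fun h =>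
    hp.isClosedImmersion_of_isPullback hkerS h
  have ha : IsSeparated G''.hom → IsClosedImmersion (η[G] ≫ p).left := by
    intro hsep
    have h1 : (η[G] ≫ p).left ≫ G''.hom = (𝟙_ (Over S)).hom := CategoryTheory.Over.w (η[G] ≫ p)
    have h2 : IsClosedImmersion ((η[G] ≫ p).left ≫ G''.hom) := by
      rw [h1]
      show IsClosedImmersion (𝟙 S)
      infer_instance
    exact IsClosedImmersion.of_comp (f := (η[G] ≫ p).left) (g := G''.hom)
  -- the graph of the equivalence relation is a base change of `u`
  have hd : IsClosedImmersion u.left → IsSeparated G''.hom := by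
    intro hu
    let w : G ⊗ G' ⟶ G ⊗ G := lift ((G ◁ u) ≫ μ[G]) (fst G G')
    let d : G ⊗ G ⟶ G := (snd G G)⁻¹ * fst G G
    have hmu : (G ◁ u) ≫ μ[G] = fst G G' * (snd G G' ≫ u) := by
      rw [← hmulu, ← Category.assoc]
      have : lift (fst G G') (snd G G') = 𝟙 (G ⊗ G') := by
        apply CartesianMonoidalCategory.hom_ext
        · rw [lift_fst, Category.id_comp]
        · rw [lift_snd, Category.id_comp]
      rw [this, Category.id_comp]
    have hwd : w ≫ d = snd G G' ≫ u := by
      show w ≫ ((snd G G)⁻¹ * fst G G) = _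
      rw [MonObj.comp_mul, GrpObj.comp_inv, lift_fst, lift_snd, hmu]
      group
    have hl2 : ∀ s : PullbackCone d u, lift (s.fst ≫ snd G G) s.snd ≫ w = s.fst := by
      intro s
      have h1 : (s.fst ≫ snd G G)⁻¹ * (s.fst ≫ fst G G) = s.snd ≫ u := by
        rw [← s.condition]
        show _ = s.fst ≫ ((snd G G)⁻¹ * fst G G)
        rw [MonObj.comp_mul, GrpObj.comp_inv]
      apply CartesianMonoidalCategory.hom_ext
      · rw [Category.assoc, lift_fst, hmulu, ← h1]
        group
      · rw [Category.assoc, lift_snd, lift_fst]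
    have hwsq : IsPullback w (snd G G') d u := by
      refine ⟨⟨hwd⟩, ⟨PullbackCone.IsLimit.mk hwd
        (fun s => lift (s.fst ≫ snd G G) s.snd) ?_ ?_ ?_⟩⟩
      · intro s
        exact hl2 s
      · intro s
        rw [lift_snd]
      · intro s m₀ h1 h2
        apply CartesianMonoidalCategory.hom_ext
        · rw [lift_fst, ← h1, Category.assoc, lift_snd]
        · rw [lift_snd, h2]
    have hwS : IsPullback w.left (snd G G').left d.left u.left := hwsq.map (Over.forget S)
    have hwcl : IsClosedImmersion w.left :=
      MorphismProperty.of_isPullback (P := @IsClosedImmersion) hwS.flip hu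
    have hev : hsq.isoPullback.hom ≫ lift (pullback.fst p p) (pullback.snd p p) = w := by
      apply CartesianMonoidalCategory.hom_ext
      · rw [Category.assoc, lift_fst, lift_fst, IsPullback.isoPullback_hom_fst]
      · rw [Category.assoc, lift_snd, lift_snd, IsPullback.isoPullback_hom_snd]
    have hv : IsClosedImmersion (lift (pullback.fst p p) (pullback.snd p p)).left := by
      have h1 : (lift (pullback.fst p p) (pullback.snd p p)).left =
          hsq.isoPullback.inv.left ≫ w.left := by
        rw [← Over.comp_left, ← hev, ← Category.assoc, Iso.inv_hom_id, Category.id_comp]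
      rw [h1]
      have : IsIso hsq.isoPullback.inv.left :=
        (inferInstance : IsIso ((Over.forget S).map hsq.isoPullback.inv))
      infer_instance
    exact (Groth.Agent.S5373.result S G G'' p).2.2 hcov hv
  exact ⟨hker, huimm, ⟨fun h => hb (ha h), hd⟩, ⟨hc, hb⟩⟩

end Groth.Agent.S5369
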