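import Groth.Statements.S5370
-- import your own Groth.Agent.* helpers here
import Groth.Agent.Lib.Helper40.FpqcCovOver
import Groth.Agent.Lib.Helper40.EpiSections
import Groth.Agent.Lib.Helper40.FlatDescentSrc
import Groth.Agent.S5369

set_option autoImplicit false
universe u
open CategoryTheory CategoryTheory.Limits MonoidalCategory CartesianMonoidalCategory MonObj GrpObj AlgebraicGeometry
open SGA3

namespace Groth.Agent.S5370

/-- Let u : G' → G be a monomorphism of S-group schemes and p : G → G'' a morphism of S-schemes which is
covering for the fpqc topology (some Z → G'' which is flat, surjective, with every affine open of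
G'' the image of a quasi-compact open of Z, factors through p) and such that the square (g, h) ↦
g·u(h), first projection G ×_S G' → G, p, p is cartesian, so that G'' represents the fpqc quotient
sheaf G/G'. Then: (ix) if G is reduced, G'' is reduced; (xi) G' is flat over S if and only if p is
flat, and in that case G'' is flat over S if and only if G is flat over S. -/
theorem result (S : Scheme.{u}) (G G' G'' : Over S) [GrpObj G] [GrpObj G']
    (u : G' ⟶ G) [IsMonHom u] [Mono u] (p : G ⟶ G'')
    (hcov : (∃ (Z : Scheme.{u}) (q : Z ⟶ G''.left) (r : Z ⟶ G.left), r ≫ p.left = q ∧ Surjective q ∧ Flat q ∧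
        ∀ V : G''.left.Opens, IsAffineOpen V → ∃ W : Z.Opens, IsCompact (W : Set Z) ∧ q.base '' (W : Set Z) = (V : Set G''.left)))
    (hsq : IsPullback ((G ◁ u) ≫ μ[G]) (fst G G') p p) :
    (IsReduced G.left → IsReduced G''.left) ∧
    (Flat G'.hom ↔ Flat p.left) ∧ (Flat p.left → (Flat G''.hom ↔ Flat G.hom)) := by
  classical
  have hp : Groth.Agent.Lib.Helper40.FpqcCov.IsCov p.left := hcov
  have hker : IsPullback u (toUnit G') p (η[G] ≫ p) :=
    (Groth.Agent.S5369.result S G G' G'' u p hcov hsq).1
  have hkerS : IsPullback u.left (toUnit G').left p.left (η[G] ≫ p).left :=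
    hker.map (Over.forget S)
  have hsqS : IsPullback ((G ◁ u) ≫ μ[G]).left (fst G G').left p.left p.left :=
    hsq.map (Over.forget S)
  have hpsurj : Surjective p.left := hp.surjective
  refine ⟨?_, ⟨?_, ?_⟩, ?_⟩
  · -- reducedness
    intro hred
    have hloc : ∀ i, IsReduced (G''.left.affineCover.X i) := by
      intro i
      let j := G''.left.affineCover.f i
      have hcov_i : Groth.Agent.Lib.Helper40.FpqcCov.IsCov (pullback.snd p.left j) :=
        hp.of_isPullback (IsPullback.of_hasPullback p.left j).flip
      have hepi : Epi (pullback.snd p.left j) := hcov_i.epi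
      have hredX : IsReduced (pullback p.left j) :=
        isReduced_of_isOpenImmersion (pullback.fst p.left j)
      have hinj := Groth.Agent.Lib.Helper40.EpiSections.injective_appTop_of_epi
        (pullback.snd p.left j)
      have : _root_.IsReduced Γ(G''.left.affineCover.X i, ⊤) :=
        isReduced_of_injective _ hinj
      exact isReduced_of_isAffine_isReduced _
    exact AlgebraicGeometry.IsReduced.of_openCover _ G''.left.affineCover
  · -- `G'` flat ⇒ `p` flat
    intro hflat
    obtain ⟨Z, q, r, hrq, hq⟩ := hp.exists_isQCov
    have := hq.flat
    have := hq.surj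
    have hfst : Flat (fst G G').left := by
      rw [Over.fst_left]
      infer_instance
    have big : IsPullback (pullback.snd r (fst G G').left ≫ ((G ◁ u) ≫ μ[G]).left)
        (pullback.fst r (fst G G').left) p.left q := by
      rw [← hrq]
      exact (IsPullback.of_hasPullback r (fst G G').left).flip.paste_horiz hsqS
    have h1 : Flat (pullback.snd r (fst G G').left ≫ ((G ◁ u) ≫ μ[G]).left) :=
      MorphismProperty.of_isPullback (P := @Flat) big.flip inferInstance
    have h2 : Surjective (pullback.snd r (fst G G').left ≫ ((G ◁ u) ≫ μ[G]).left) :=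
      MorphismProperty.of_isPullback (P := @Surjective) big.flip inferInstance
    have h3 : Flat ((pullback.snd r (fst G G').left ≫ ((G ◁ u) ≫ μ[G]).left) ≫ p.left) := by
      rw [big.w]
      infer_instance
    exact Groth.Agent.Lib.Helper40.FlatDescentSrc.flat_of_comp_of_flat_surjective
      (pullback.snd r (fst G G').left ≫ ((G ◁ u) ≫ μ[G]).left) p.left
  · -- `p` flat ⇒ `G'` flat
    intro hflat
    exact MorphismProperty.of_isPullback (P := @Flat) hkerS hflat
  · intro hflat
    constructor
    · intro h
      rw [← CategoryTheory.Over.w p]
      infer_instance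
    · intro h
      have : Flat (p.left ≫ G''.hom) := by
        rw [CategoryTheory.Over.w p]
        exact h
      exact Groth.Agent.Lib.Helper40.FlatDescentSrc.flat_of_comp_of_flat_surjective
        p.left G''.hom

end Groth.Agent.S5370
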