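import Groth.Statements.S5375
import Groth.Agent.Lib.Helper75.ComodCoeff
import Groth.Agent.Lib.Helper27.HopfAntipode

set_option autoImplicit false
universe u
open CategoryTheory CategoryTheory.Limits MonoidalCategory CartesianMonoidalCategory MonObj GrpObj AlgebraicGeometry
open SGA3

namespace Groth.Agent.S5375

open Groth.Agent.Lib.Helper75 Groth.Agent.Lib.Helper27.HopfAnt TensorProduct

/-- Let A be a commutative Hopf algebra over a field k (an affine k-group, not necessarily of finite
type) and x an element of A. Then there is a subalgebra B of A of finite type over k containing x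
which is a sub-Hopf-algebra: the comultiplication sends B into B ⊗ B and the antipode preserves B. -/
theorem result (k : Type u) [Field k] (A : Type u) [CommRing A] [HopfAlgebra k A] (x : A) :
    ∃ B : Subalgebra k A, x ∈ B ∧ B.FG ∧ SGA3.IsHopfSubalgebra k A B := by
  classical
  -- finite-dimensional subcomodule containing `x` and its coefficient coalgebra
  set W : Submodule k A := orbit k A x with hW
  have hWsub : HopfRep.IsSubcomod (k := k) (A := A) W := isSubcomod_orbit x
  haveI hWfin : Module.Finite k W := finite_orbit x
  have hxW : x ∈ W := self_mem_orbit x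
  set D : Submodule k A := coeffSpace A W with hD
  have hDco : IsSubcoalg D := isSubcoalg_coeffSpace W hWsub
  haveI hDfin : Module.Finite k D := finite_coeffSpace W
  have hxD : x ∈ D := le_coeffSpace_regular W hxW
  let S : A →ₗ[k] A := HopfAlgebra.antipode k
  set B : Subalgebra k A := Algebra.adjoin k ((D : Set A) ∪ S '' (D : Set A)) with hB
  have hDB : ∀ d ∈ D, d ∈ B := fun d hd => Algebra.subset_adjoin (Or.inl hd)
  have hSDB : ∀ d ∈ D, S d ∈ B := fun d hd => Algebra.subset_adjoin (Or.inr ⟨d, hd, rfl⟩)
  refine ⟨B, hDB x hxD, ?_, ?_, ?_⟩
  · -- finitely generated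
    obtain ⟨t, ht⟩ : D.FG := (Submodule.fg_top D).1 Module.Finite.fg_top
    refine ⟨t ∪ t.image S, ?_⟩
    apply le_antisymm
    · apply Algebra.adjoin_mono
      intro a ha
      simp only [Finset.coe_union, Finset.coe_image, Set.mem_union] at ha
      rcases ha with ha | ⟨b, hb, rfl⟩
      · left; rw [← ht]; exact Submodule.subset_span ha
      · right; exact ⟨b, by rw [← ht]; exact Submodule.subset_span hb, rfl⟩
    · apply Algebra.adjoin_le
      rintro a (ha | ⟨d, hd, rfl⟩)
      · have : D ≤ Subalgebra.toSubmodule (Algebra.adjoin k ((t ∪ t.image S : Finset A) : Set A)) := by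
          rw [← ht, Submodule.span_le]
          intro b hb
          exact Algebra.subset_adjoin (by simp [hb])
        exact this ha
      · have : D ≤ (Subalgebra.toSubmodule
            (Algebra.adjoin k ((t ∪ t.image S : Finset A) : Set A))).comap S := by
          rw [← ht, Submodule.span_le]
          intro b hb
          exact Algebra.subset_adjoin (by simp; right; exact ⟨b, hb, rfl⟩)
        exact this hd
  · -- comultiplication
    let T : Subalgebra k A := Subalgebra.comap (Bialgebra.comulAlgHom k A)
      (Algebra.TensorProduct.map B.val B.val).range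
    have hT : ∀ b, b ∈ T ↔ Coalgebra.comul (R := k) b ∈
        LinearMap.range (TensorProduct.map B.val.toLinearMap B.val.toLinearMap) := by
      intro b
      rfl
    suffices h : B ≤ T by
      intro b hb
      exact (hT b).1 (h hb)
    let jD : D →ₗ[k] B := LinearMap.codRestrict (Subalgebra.toSubmodule B) D.subtype
      (fun d => hDB d d.2)
    let jS : D →ₗ[k] B := LinearMap.codRestrict (Subalgebra.toSubmodule B) (S ∘ₗ D.subtype)
      (fun d => hSDB d d.2)
    apply Algebra.adjoin_le
    rintro a (ha | ⟨d, hd, rfl⟩)
    · rw [SetLike.mem_coe, hT]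
      obtain ⟨z, hz⟩ := hDco a ha
      refine ⟨TensorProduct.map jD jD z, ?_⟩
      rw [← hz, ← LinearMap.comp_apply, ← TensorProduct.map_comp]
      rfl
    · rw [SetLike.mem_coe, hT]
      obtain ⟨z, hz⟩ := hDco d hd
      have key : (TensorProduct.map S S) ∘ₗ (TensorProduct.comm k A A).toLinearMap ∘ₗ
          (TensorProduct.map D.subtype D.subtype) =
          (TensorProduct.map B.val.toLinearMap B.val.toLinearMap) ∘ₗ (TensorProduct.map jS jS) ∘ₗ
            (TensorProduct.comm k D D).toLinearMap := by
        apply TensorProduct.ext'
        intro a b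
        rfl
      refine ⟨(TensorProduct.map jS jS) (TensorProduct.comm k D D z), ?_⟩
      change _ = Coalgebra.comul (R := k) (HopfAlgebra.antipode k d)
      rw [comul_antipode, ← hz]
      exact (LinearMap.congr_fun key z).symm
  · -- antipode
    let T' : Subalgebra k A := Subalgebra.comap (HopfAlgebra.antipodeAlgHom k A) B
    suffices h : B ≤ T' by
      intro b hb
      exact h hb
    apply Algebra.adjoin_le
    rintro a (ha | ⟨d, hd, rfl⟩)
    · exact hSDB a ha
    · change HopfAlgebra.antipode k (HopfAlgebra.antipode k d) ∈ B
      rw [antipode_antipode]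
      exact hDB d hd

end Groth.Agent.S5375
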