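import Groth.Statements.S5376
import Groth.Agent.Lib.Helper75.ComodCoeff

set_option autoImplicit false
universe u
open CategoryTheory CategoryTheory.Limits MonoidalCategory CartesianMonoidalCategory MonObj GrpObj AlgebraicGeometry
open SGA3

namespace Groth.Agent.S5376

open Groth.Agent.Lib.Helper75 TensorProduct

/-- Nullstellensatz: points separate elements of a reduced f.g. algebra over an algebraically
closed field. -/
theorem exists_point_ne_zero (k : Type u) [Field k] [IsAlgClosed k] (A : Type u) [CommRing A]
    [Algebra k A] [Algebra.FiniteType k A] [IsReduced A] (a : A) (ha : a ≠ 0) :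
    ∃ g : A →ₐ[k] k, g a ≠ 0 := by
  haveI : IsJacobsonRing A := isJacobsonRing_of_finiteType (A := k) (B := A)
  have hjac : (⊥ : Ideal A).jacobson = ⊥ := by
    apply IsJacobsonRing.out inferInstance
    exact Ideal.radical_eq_iff.mp (by simpa using (nilradical_eq_zero A))
  have hna : a ∉ (⊥ : Ideal A).jacobson := by
    rw [hjac]; simpa using ha
  rw [Ideal.jacobson, Submodule.mem_sInf] at hna
  push Not at hna
  obtain ⟨m, ⟨-, hm⟩, ham⟩ := hna
  haveI := hm
  letI : Field (A ⧸ m) := Ideal.Quotient.field m
  haveI : Algebra.FiniteType k (A ⧸ m) :=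
    Algebra.FiniteType.of_surjective (Ideal.Quotient.mkₐ k m) (Ideal.Quotient.mkₐ_surjective k m)
  haveI : Module.Finite k (A ⧸ m) := finite_of_finite_type_of_isJacobsonRing k (A ⧸ m)
  have hbij : Function.Bijective (algebraMap k (A ⧸ m)) :=
    IsAlgClosed.algebraMap_bijective_of_isIntegral
  let e : k ≃ₐ[k] (A ⧸ m) := AlgEquiv.ofBijective (Algebra.ofId k (A ⧸ m)) hbij
  refine ⟨(e.symm : (A ⧸ m) →ₐ[k] k).comp (Ideal.Quotient.mkₐ k m), ?_⟩
  intro h
  apply ham
  rw [← Ideal.Quotient.eq_zero_iff_mem]
  have h2 : e.symm (Ideal.Quotient.mk m a) = 0 := h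
  exact (map_eq_zero_iff _ e.symm.injective).mp h2

/-- Let k be an algebraically closed field, A a finitely generated commutative Hopf algebra over k which
is reduced (a reduced affine algebraic k-group G), V a finite-dimensional A-comodule and v a vector
of V. Let E be the k-subspace of V spanned by the vectors g·v for g running over the k-points of G
(algebra maps A → k). Then E is a subcomodule of V containing v, and it is the smallest one. -/
theorem result (k : Type u) [Field k] [IsAlgClosed k] (A : Type u) [CommRing A] [HopfAlgebra k A]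
    [Algebra.FiniteType k A] [IsReduced A] (V : Type u) [AddCommGroup V] [Module k V] [HopfRep.Comod k A V]
    [Module.Finite k V] (v : V) :
    letI E : Submodule k V := Submodule.span k (Set.range fun g : A →ₐ[k] k => HopfRep.Comod.act k A V g v)
    HopfRep.IsSubcomod (k := k) (A := A) E ∧ v ∈ E ∧
      ∀ W : Submodule k V, HopfRep.IsSubcomod (k := k) (A := A) W → v ∈ W → E ≤ W := by
  set E : Submodule k V :=
    Submodule.span k (Set.range fun g : A →ₐ[k] k => HopfRep.Comod.act k A V g v) with hE
  have hbridge : ∀ g : A →ₐ[k] k, HopfRep.Comod.act k A V g = act g.toLinearMap := fun g => rfl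
  have hgen : ∀ g : A →ₐ[k] k, act g.toLinearMap v ∈ E := fun g =>
    Submodule.subset_span ⟨g, hbridge g ▸ rfl⟩
  -- every functional maps `v` into `E`
  have hall : ∀ f : A →ₗ[k] k, act f v ∈ E := by
    intro f
    by_contra hf
    obtain ⟨φ, hφE, hφf⟩ : ∃ φ : V →ₗ[k] k, (∀ e ∈ E, φ e = 0) ∧ φ (act f v) ≠ 0 := by
      obtain ⟨φ, hφ1, hφ2⟩ := Submodule.exists_le_ker_of_notMem hf
      exact ⟨φ, fun e he => hφ2 he, hφ1⟩
    set c : A := cf (A := A) φ v with hc
    have hc0 : c = 0 := by
      by_contra hne
      obtain ⟨g, hg⟩ := exists_point_ne_zero k A c hne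
      apply hg
      have := contract_comm g.toLinearMap φ (coactMap k A V v)
      change φ (act g.toLinearMap v) = g c at this
      rw [← this]
      exact hφE _ (hgen g)
    apply hφf
    have := contract_comm f φ (coactMap k A V v)
    change φ (act f v) = f c at this
    rw [this, hc0, map_zero]
  refine ⟨?_, ?_, ?_⟩
  · rw [isSubcomod_iff]
    intro f e he
    have : E ≤ E.comap (act f) := by
      rw [hE, Submodule.span_le]
      rintro _ ⟨g, rfl⟩
      change act f (HopfRep.Comod.act k A V g v) ∈ E
      rw [hbridge, act_act]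
      exact hall _
    exact this he
  · have h1 : act (Bialgebra.counitAlgHom k A).toLinearMap v = v := act_counit v
    rw [← h1]
    exact hgen _
  · intro W hW hv
    rw [hE, Submodule.span_le]
    rintro _ ⟨g, rfl⟩
    change HopfRep.Comod.act k A V g v ∈ W
    rw [hbridge]
    exact (isSubcomod_iff W).1 hW _ v hv

end Groth.Agent.S5376
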