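import Groth.Statements.S5377
-- import your own Groth.Agent.* helpers here

set_option autoImplicit false
universe u
open CategoryTheory CategoryTheory.Limits MonoidalCategory CartesianMonoidalCategory MonObj GrpObj AlgebraicGeometry
open SGA3

namespace Groth.Agent.S5377

section Aux

variable {J : Type u} [SmallCategory J] [IsFiltered J]

theorem exists_lift_fam (F : J ⥤ CommRingCat.{u}) {κ : Type*} [Finite κ]
    (x : κ → (colimit F : CommRingCat.{u})) :
    ∃ (j : J) (x' : κ → F.obj j), ∀ i, (colimit.ι F j).hom (x' i) = x i := by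
  classical
  cases nonempty_fintype κ
  choose j0 y hy using fun i => Concrete.colimit_exists_rep F (x i)
  obtain ⟨S, hS⟩ := IsFiltered.sup_objs_exists (Finset.univ.image j0)
  have u : ∀ i, j0 i ⟶ S := fun i => (hS (Finset.mem_image_of_mem _ (Finset.mem_univ i))).some
  refine ⟨S, fun i => (F.map (u i)).hom (y i), fun i => ?_⟩
  rw [← hy i]
  have := colimit.w F (u i)
  exact congrArg (fun f => f.hom (y i)) this

theorem exists_map_eq_of_ι_eq (F : J ⥤ CommRingCat.{u}) {j : J} (a b : F.obj j)
    (h : (colimit.ι F j).hom a = (colimit.ι F j).hom b) :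
    ∃ (j' : J) (u : j ⟶ j'), (F.map u).hom a = (F.map u).hom b := by
  obtain ⟨k, f, g, hfg⟩ := Concrete.colimit_exists_of_rep_eq F a b h
  refine ⟨IsFiltered.coeq f g, f ≫ IsFiltered.coeqHom f g, ?_⟩
  have h1 : (F.map (f ≫ IsFiltered.coeqHom f g)).hom a =
      (F.map (IsFiltered.coeqHom f g)).hom ((F.map f).hom a) := by
    rw [F.map_comp]; rfl
  have h2 : (F.map (f ≫ IsFiltered.coeqHom f g)).hom b =
      (F.map (IsFiltered.coeqHom f g)).hom ((F.map g).hom b) := by
    rw [IsFiltered.coeq_condition f g, F.map_comp]; rfl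
  rw [h1, h2]
  exact congrArg _ hfg

end Aux

/-- Let (C_i → A_i)_i be a filtered direct system of homomorphisms of commutative rings, each of which
is faithfully flat. Then the induced homomorphism colim C_i → colim A_i is faithfully flat. -/
theorem result (J : Type u) [SmallCategory J] [IsFiltered J]
    (C A : J ⥤ CommRingCat.{u}) (φ : C ⟶ A) (h : ∀ j : J, (φ.app j).hom.FaithfullyFlat) :
    (colimMap φ).hom.FaithfullyFlat := by
  set f : (colimit C : CommRingCat.{u}) →+* (colimit A : CommRingCat.{u}) := (colimMap φ).hom with hf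
  -- naturality facts
  have N1 : ∀ (j : J) (c : C.obj j),
      f ((colimit.ι C j).hom c) = (colimit.ι A j).hom ((φ.app j).hom c) := by
    intro j c
    have := ι_colimMap φ j
    exact congrArg (fun g => g.hom c) this
  have N2 : ∀ {j j' : J} (u : j ⟶ j') (c : C.obj j),
      (A.map u).hom ((φ.app j).hom c) = (φ.app j').hom ((C.map u).hom c) := by
    intro j j' u c
    have := φ.naturality u
    exact (congrArg (fun g => g.hom c) this).symm
  have wC : ∀ {j j' : J} (u : j ⟶ j') (c : C.obj j),
      (colimit.ι C j').hom ((C.map u).hom c) = (colimit.ι C j).hom c := by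
    intro j j' u c
    exact congrArg (fun g => g.hom c) (colimit.w C u)
  have wA : ∀ {j j' : J} (u : j ⟶ j') (c : A.obj j),
      (colimit.ι A j').hom ((A.map u).hom c) = (colimit.ι A j).hom c := by
    intro j j' u c
    exact congrArg (fun g => g.hom c) (colimit.w A u)
  change @Module.FaithfullyFlat _ _ _ _ f.toAlgebra.toModule
  letI alg : Algebra (colimit C : CommRingCat.{u}) (colimit A : CommRingCat.{u}) := f.toAlgebra
  have hsmul : ∀ (c : (colimit C : CommRingCat.{u})) (a : (colimit A : CommRingCat.{u})),
      c • a = f c * a := fun c a => rfl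
  rw [Module.FaithfullyFlat.iff_flat_and_ideal_smul_eq_top]
  refine ⟨?_, ?_⟩
  · apply Module.Flat.of_forall_isTrivialRelation
    intro l c x hcx
    obtain ⟨j1, c1, hc1⟩ := exists_lift_fam C c
    obtain ⟨j2, x2, hx2⟩ := exists_lift_fam A x
    -- common stage
    let j0 := IsFiltered.max j1 j2
    let c0 : Fin l → C.obj j0 := fun i => (C.map (IsFiltered.leftToMax j1 j2)).hom (c1 i)
    let x0 : Fin l → A.obj j0 := fun i => (A.map (IsFiltered.rightToMax j1 j2)).hom (x2 i)
    have hc0 : ∀ i, (colimit.ι C j0).hom (c0 i) = c i := fun i => by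
      rw [← hc1 i]; exact wC _ _
    have hx0 : ∀ i, (colimit.ι A j0).hom (x0 i) = x i := fun i => by
      rw [← hx2 i]; exact wA _ _
    let e : A.obj j0 := ∑ i, (φ.app j0).hom (c0 i) * x0 i
    have he : (colimit.ι A j0).hom e = (colimit.ι A j0).hom 0 := by
      rw [map_zero, map_sum, ← hcx]
      apply Finset.sum_congr rfl
      intro i _
      rw [map_mul, ← N1, hc0, hx0, hsmul]
    obtain ⟨j', u, hu⟩ := exists_map_eq_of_ι_eq A e 0 he
    let c' : Fin l → C.obj j' := fun i => (C.map u).hom (c0 i)
    let x' : Fin l → A.obj j' := fun i => (A.map u).hom (x0 i)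
    have hc' : ∀ i, (colimit.ι C j').hom (c' i) = c i := fun i => by
      rw [← hc0 i]; exact wC _ _
    have hx' : ∀ i, (colimit.ι A j').hom (x' i) = x i := fun i => by
      rw [← hx0 i]; exact wA _ _
    have hff := h j'
    letI algj : Algebra (C.obj j') (A.obj j') := (φ.app j').hom.toAlgebra
    have hff' : Module.FaithfullyFlat (C.obj j') (A.obj j') := hff
    haveI : Module.Flat (C.obj j') (A.obj j') := hff'.toFlat
    have hrel : ∑ i, c' i • x' i = 0 := by
      have h9 : (A.map u).hom e = 0 := by rw [hu, map_zero]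
      rw [← h9, map_sum]
      apply Finset.sum_congr rfl
      intro i _
      rw [map_mul, N2]
      rfl
    obtain ⟨k, a, y, hxy, hca⟩ := Module.Flat.isTrivialRelation_of_sum_smul_eq_zero hrel
    refine ⟨k, fun i j => (colimit.ι C j').hom (a i j), fun j => (colimit.ι A j').hom (y j), ?_, ?_⟩
    · intro i
      rw [← hx' i, hxy i, map_sum]
      apply Finset.sum_congr rfl
      intro j _
      rw [hsmul, N1, ← map_mul]
      rfl
    · intro j
      have := congrArg (colimit.ι C j').hom (hca j)
      rw [map_sum, map_zero] at this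
      rw [← this]
      apply Finset.sum_congr rfl
      intro i _
      rw [map_mul, hc' i]
  · intro I hI
    rw [Ideal.eq_top_iff_one]
    have h1 : (1 : (colimit A : CommRingCat.{u})) ∈
        I • (⊤ : Submodule (colimit C : CommRingCat.{u}) (colimit A : CommRingCat.{u})) := by
      rw [hI]; trivial
    let K : ∀ j : J, Ideal (C.obj j) := fun j => Ideal.comap (colimit.ι C j).hom I
    let P : ∀ _ : (colimit A : CommRingCat.{u}), Prop := fun z =>
      ∃ (j : J) (z' : A.obj j), (colimit.ι A j).hom z' = z ∧ z' ∈ Ideal.map (φ.app j).hom (K j)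
    -- transport along a morphism
    have T : ∀ {j j' : J} (u : j ⟶ j') (z' : A.obj j), z' ∈ Ideal.map (φ.app j).hom (K j) →
        (A.map u).hom z' ∈ Ideal.map (φ.app j').hom (K j') := by
      intro j j' u z' hz'
      have h2 : (A.map u).hom z' ∈ Ideal.map (A.map u).hom (Ideal.map (φ.app j).hom (K j)) :=
        Ideal.mem_map_of_mem _ hz'
      rw [Ideal.map_map] at h2
      have h3 : (A.map u).hom.comp (φ.app j).hom = (φ.app j').hom.comp (C.map u).hom := by
        ext c; exact N2 u c
      rw [h3, ← Ideal.map_map] at h2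
      refine Ideal.map_mono ?_ h2
      rw [Ideal.map_le_iff_le_comap]
      intro c hc
      change (colimit.ι C j').hom ((C.map u).hom c) ∈ I
      rw [wC]
      exact hc
    have hP : P 1 := by
      refine Submodule.smul_induction_on (p := P) h1 ?_ ?_
      · intro c hc a _
        obtain ⟨j1, c1, hc1⟩ := Concrete.colimit_exists_rep C c
        obtain ⟨j2, a2, ha2⟩ := Concrete.colimit_exists_rep A a
        refine ⟨IsFiltered.max j1 j2,
          (φ.app _).hom ((C.map (IsFiltered.leftToMax j1 j2)).hom c1) *
            (A.map (IsFiltered.rightToMax j1 j2)).hom a2, ?_, ?_⟩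
        · rw [map_mul, ← N1, wC, wA, hsmul]
          congr 1
          · exact congrArg f hc1
        · refine Ideal.mul_mem_right _ _ (Ideal.mem_map_of_mem _ ?_)
          change (colimit.ι C _).hom ((C.map _).hom c1) ∈ I
          rw [wC]
          have : (colimit.ι C j1).hom c1 = c := hc1
          rw [this]; exact hc
      · rintro x y ⟨j1, x1, hx1, hx1'⟩ ⟨j2, y2, hy2, hy2'⟩
        refine ⟨IsFiltered.max j1 j2, (A.map (IsFiltered.leftToMax j1 j2)).hom x1 +
          (A.map (IsFiltered.rightToMax j1 j2)).hom y2, ?_, ?_⟩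
        · rw [map_add, wA, wA, hx1, hy2]
        · exact Ideal.add_mem _ (T _ _ hx1') (T _ _ hy2')
    obtain ⟨j, z', hz1, hz2⟩ := hP
    have h4 : (colimit.ι A j).hom z' = (colimit.ι A j).hom 1 := by rw [hz1, map_one]
    obtain ⟨j', u, hu⟩ := exists_map_eq_of_ι_eq A z' 1 h4
    have h5 : (1 : A.obj j') ∈ Ideal.map (φ.app j').hom (K j') := by
      have := T u z' hz2
      rw [hu, map_one] at this
      exact this
    have h6 : K j' = ⊤ := by
      have hff := h j'
      letI := (φ.app j').hom.toAlgebra
      have hff' : Module.FaithfullyFlat (C.obj j') (A.obj j') := hff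
      rw [Module.FaithfullyFlat.iff_flat_and_ideal_smul_eq_top] at hff'
      apply hff'.2
      rw [Ideal.smul_top_eq_map]
      have : Ideal.map (algebraMap (C.obj j') (A.obj j')) (K j') = ⊤ := by
        rw [Ideal.eq_top_iff_one]; exact h5
      rw [this]; rfl
    have h7 : (1 : C.obj j') ∈ K j' := by rw [h6]; trivial
    have h8 : (colimit.ι C j').hom 1 ∈ I := h7
    rwa [map_one] at h8

end Groth.Agent.S5377
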