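import Groth.Statements.S5380
import Groth.Agent.Lib.Helper54.LocalFlat5
import Mathlib.RingTheory.Flat.TorsionFree

set_option autoImplicit false
universe u
open CategoryTheory CategoryTheory.Limits MonoidalCategory CartesianMonoidalCategory MonObj GrpObj AlgebraicGeometry
open SGA3

namespace Groth.Agent.S5380

/-- Let R be a discrete valuation ring with uniformizer π, A a flat commutative R-algebra and M an
A-module which is flat over R. Suppose that M/πM is a flat module over A/πA and that M ⊗_R K is a
flat module over A ⊗_R K, K the fraction field of R (equivalently, M[1/π] is flat over A[1/π], the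
form used here). Then M is a flat A-module. -/
theorem result (R : Type u) [CommRing R] [IsDomain R] [IsDiscreteValuationRing R]
    (π : R) (hπ : Irreducible π) (A : Type u) [CommRing A] [Algebra R A] [Module.Flat R A]
    (M : Type u) [AddCommGroup M] [Module A M] [Module R M] [IsScalarTower R A M] [Module.Flat R M]
    (h1 : Module.Flat (A ⧸ Ideal.span {algebraMap R A π}) (M ⧸ (Ideal.span {algebraMap R A π} • (⊤ : Submodule A M))))
    (h2 : Module.Flat (Localization.Away (algebraMap R A π)) (LocalizedModule (Submonoid.powers (algebraMap R A π)) M)) :
    Module.Flat A M := by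
  classical
  have hπ0 : π ≠ 0 := hπ.ne_zero
  have hπR : π ∈ nonZeroDivisors R := mem_nonZeroDivisors_of_ne_zero hπ0
  have hregA : IsSMulRegular A π := Module.Flat.isSMulRegular_of_nonZeroDivisors hπR
  have hregM : IsSMulRegular M π := Module.Flat.isSMulRegular_of_nonZeroDivisors hπR
  have hA : algebraMap R A π ∈ nonZeroDivisors A := by
    rw [mem_nonZeroDivisors_iff_right]
    intro x hx
    apply hregA
    change π • x = π • 0
    rw [smul_zero, Algebra.smul_def, mul_comm]
    exact hx
  have hM' : ∀ x : M, algebraMap R A π • x = 0 → x = 0 := by
    intro x hx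
    apply hregM
    change π • x = π • 0
    rw [smul_zero, ← hx, algebraMap_smul]
  have hbc : IsBaseChange (Localization.Away (algebraMap R A π))
      (LocalizedModule.mkLinearMap (Submonoid.powers (algebraMap R A π)) M) :=
    (isLocalizedModule_iff_isBaseChange (Submonoid.powers (algebraMap R A π))
      (Localization.Away (algebraMap R A π)) _).1 inferInstance
  haveI : Module.Flat (Localization.Away (algebraMap R A π))
      (TensorProduct A (Localization.Away (algebraMap R A π)) M) := by
    haveI := h2
    exact Module.Flat.of_linearEquiv hbc.equiv
  let e : TensorProduct A (A ⧸ Ideal.span {algebraMap R A π}) M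
      ≃ₗ[A ⧸ Ideal.span {algebraMap R A π}]
      M ⧸ (Ideal.span {algebraMap R A π} • (⊤ : Submodule A M)) :=
    (TensorProduct.quotTensorEquivQuotSMul M
      (Ideal.span {algebraMap R A π})).extendScalarsOfSurjective Ideal.Quotient.mk_surjective
  haveI : Module.Flat (A ⧸ Ideal.span {algebraMap R A π})
      (TensorProduct A (A ⧸ Ideal.span {algebraMap R A π}) M) := by
    haveI := h1
    exact Module.Flat.of_linearEquiv e
  exact Groth.Agent.Lib.Helper54.LocalFlat.flat_of_regular (algebraMap R A π) M hA hM'

end Groth.Agent.S5380
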