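import Groth.Statements.S5381
-- import your own Groth.Agent.* helpers here

set_option autoImplicit false
universe u
open CategoryTheory CategoryTheory.Limits MonoidalCategory CartesianMonoidalCategory MonObj GrpObj AlgebraicGeometry
open SGA3

namespace Groth.Agent.S5381

/-- For S the spectrum of a Dedekind domain R: let X be a scheme which is flat, quasi-compact and
quasi-separated over R. Then the ring of global sections Γ(X, O_X) is a flat R-module. (The
published remark takes S locally noetherian and regular of dimension 1 and also observes, when S is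
local with closed point s and uniformizer π, that Γ(X, O_X)/πΓ(X, O_X) → Γ(X_s, O_{X_s}) is
injective; this row takes S the spectrum of a Dedekind domain and omits the injectivity.) -/
theorem result (R : Type u) [CommRing R] [IsDedekindDomain R]
    (X : Scheme.{u}) (f : X ⟶ Spec (CommRingCat.of R)) [Flat f] [QuasiCompact f] [QuasiSeparated f] :
    letI := ((Scheme.ΓSpecIso (CommRingCat.of R)).inv ≫ f.appTop).hom.toAlgebra
    Module.Flat R Γ(X, ⊤) := by
  letI alg := ((Scheme.ΓSpecIso (CommRingCat.of R)).inv ≫ f.appTop).hom.toAlgebra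
  rw [IsDedekindDomain.flat_iff_torsion_eq_bot, Submodule.eq_bot_iff]
  intro s hs
  rw [Submodule.mem_torsion_iff] at hs
  obtain ⟨⟨r, hr⟩, hrs⟩ := hs
  have hrs' : ((Scheme.ΓSpecIso (CommRingCat.of R)).inv ≫ f.appTop).hom r * s = 0 := hrs
  refine X.sheaf.eq_of_locally_eq' (fun U : X.affineOpens => (U : X.Opens)) ⊤
    (fun U => homOfLE le_top) ?_ s 0 ?_
  · rw [iSup_affineOpens_eq_top]
  · intro U
    have hflat : (f.appLE ⊤ U le_top).hom.Flat :=
      HasRingHomProperty.appLE (P := @Flat) f inferInstance ⟨⊤, isAffineOpen_top _⟩ U le_top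
    rw [map_zero]
    let ρ : Γ(X, ⊤) ⟶ Γ(X, U) := X.presheaf.map (homOfLE (le_top : (U : X.Opens) ≤ ⊤)).op
    change ρ.hom s = 0
    let ψ : R →+* Γ(X, U) := (f.appLE ⊤ U le_top).hom.comp (Scheme.ΓSpecIso (CommRingCat.of R)).inv.hom
    have hψ : ψ.Flat := by
      refine RingHom.Flat.comp ?_ hflat
      exact RingHom.Flat.of_bijective
        (ConcreteCategory.bijective_of_isIso (Scheme.ΓSpecIso (CommRingCat.of R)).inv)
    letI := ψ.toAlgebra
    haveI : Module.Flat R Γ(X, U) := hψ
    have hreg : IsSMulRegular Γ(X, U) r := Module.Flat.isSMulRegular_of_nonZeroDivisors hr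
    apply hreg
    change ψ r * ρ.hom s = ψ r * 0
    rw [mul_zero]
    have h1 : ρ.hom (((Scheme.ΓSpecIso (CommRingCat.of R)).inv ≫ f.appTop).hom r * s) = 0 := by
      rw [hrs', map_zero]
    rw [map_mul] at h1
    convert h1 using 2
    rfl

end Groth.Agent.S5381
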