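import Groth.Statements.S5385
import Mathlib
import Groth.Agent.Lib.Helper33.CMLocusArt

set_option maxHeartbeats 1600000
set_option backward.isDefEq.respectTransparency.types false

set_option autoImplicit false
universe u
open CategoryTheory CategoryTheory.Limits MonoidalCategory CartesianMonoidalCategory MonObj GrpObj AlgebraicGeometry
open SGA3

namespace Groth.Agent.S5385


open TopologicalSpace in
theorem finiteType_chart' {X : Scheme.{u}} {K : Type u} [CommRing K]
    (p : X ⟶ Spec (CommRingCat.of K)) [LocallyOfFiniteType p] {U : X.Opens} (hU : IsAffineOpen U) :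
    letI := ((Scheme.ΓSpecIso (CommRingCat.of K)).inv ≫ p.appLE ⊤ U le_top).hom.toAlgebra
    Algebra.FiniteType K Γ(X, U) := by
  have h1 : RingHom.FiniteType (p.appLE ⊤ U le_top).hom :=
    HasRingHomProperty.appLE (P := @LocallyOfFiniteType) p inferInstance
      ⟨⊤, isAffineOpen_top _⟩ ⟨U, hU⟩ le_top
  have h2 : RingHom.FiniteType
      ((Scheme.ΓSpecIso (CommRingCat.of K)).inv ≫ p.appLE ⊤ U le_top).hom := by
    rw [CommRingCat.hom_comp]
    exact h1.comp (RingHom.FiniteType.of_surjective _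
      (ConcreteCategory.bijective_of_isIso (Scheme.ΓSpecIso (CommRingCat.of K)).inv).surjective)
  exact h2

open TopologicalSpace in
/-- The Cohen–Macaulay locus of a scheme locally of finite type over an Artinian ring is open. -/
theorem isOpen_cmLocus_art {X : Scheme.{u}} {K : Type u} [CommRing K] [IsArtinianRing K]
    (p : X ⟶ Spec (CommRingCat.of K)) [LocallyOfFiniteType p] :
    IsOpen {x : X | LocCoh.IsCohenMacaulayLocalRing (X.presheaf.stalk x)} := by
  rw [isOpen_iff_forall_mem_open]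
  intro x hx
  obtain ⟨U, hU, hxU⟩ : ∃ U : X.Opens, IsAffineOpen U ∧ x ∈ U := by
    obtain ⟨U, hU, hxU, -⟩ := Opens.isBasis_iff_nbhd.mp X.isBasis_affineOpens
      (Opens.mem_top x)
    exact ⟨U, hU, hxU⟩
  letI : Algebra K Γ(X, U) :=
    ((Scheme.ΓSpecIso (CommRingCat.of K)).inv ≫ p.appLE ⊤ U le_top).hom.toAlgebra
  haveI : Algebra.FiniteType K Γ(X, U) := finiteType_chart' p hU
  have hT := Groth.Agent.Lib.Helper33.CMLocusArt.isOpen_cmLocus K Γ(X, U)
  refine ⟨hU.fromSpec.base '' {q : PrimeSpectrum Γ(X, U) |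
    LocCoh.IsCohenMacaulayLocalRing (Localization.AtPrime q.asIdeal)}, ?_, ?_, ?_⟩
  · rintro _ ⟨q, hq, rfl⟩
    obtain ⟨e⟩ := Groth.Agent.Lib.Helper33.CMLocusFT.nonempty_stalk_equiv hU q
    exact (Groth.Agent.Lib.Helper33.CMComp.cm_ringEquiv_iff e).2 hq
  · exact hU.fromSpec.isOpenEmbedding.isOpenMap _ hT
  · have : x ∈ Set.range hU.fromSpec.base := by rw [hU.range_fromSpec]; exact hxU
    obtain ⟨q, rfl⟩ := this
    refine ⟨q, ?_, rfl⟩
    obtain ⟨e⟩ := Groth.Agent.Lib.Helper33.CMLocusFT.nonempty_stalk_equiv hU q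
    exact (Groth.Agent.Lib.Helper33.CMComp.cm_ringEquiv_iff e).1 hx

/-- Let A be an artinian ring and X a nonempty scheme locally of finite type over A. Then X has a closed
point whose local ring is Cohen–Macaulay. -/
theorem result (A : Type u) [CommRing A] [IsArtinianRing A] (X : Scheme.{u})
    (f : X ⟶ Spec (CommRingCat.of A)) [LocallyOfFiniteType f] [Nonempty X] :
    ∃ x : X, IsClosed ({x} : Set X) ∧ LocCoh.IsCohenMacaulayLocalRing (X.presheaf.stalk x) := by
  haveI : JacobsonSpace X := LocallyOfFiniteType.jacobsonSpace f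
  haveI : IsLocallyNoetherian X := LocallyOfFiniteType.isLocallyNoetherian f
  have hopen : IsOpen {x : X | LocCoh.IsCohenMacaulayLocalRing (X.presheaf.stalk x)} :=
    isOpen_cmLocus_art f
  obtain ⟨x0, hx0⟩ := Groth.Agent.Lib.Helper33.CMLocusFT.exists_cm_stalk (X := X)
  obtain ⟨x, hx, hxc⟩ := nonempty_inter_closedPoints
    (Z := {x : X | LocCoh.IsCohenMacaulayLocalRing (X.presheaf.stalk x)}) ⟨x0, hx0⟩
    hopen.isLocallyClosed
  exact ⟨x, hxc, hx⟩

end Groth.Agent.S5385
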