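import Groth.Statements.S5387
import Mathlib.AlgebraicGeometry.AlgClosed.Basic

set_option autoImplicit false
universe u
open CategoryTheory CategoryTheory.Limits MonoidalCategory CartesianMonoidalCategory MonObj GrpObj AlgebraicGeometry
open SGA3

namespace Groth.Agent.S5387

/-- Let k be an algebraically closed field, G a group scheme locally of finite type over k and x a
closed point of G. Then the local ring of G at x is isomorphic to the local ring of G at the unit
point (an isomorphism is induced by a translation; this row asserts the existence of an isomorphism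
of rings). -/
theorem result (k : Type u) [Field k] [IsAlgClosed k] (G : Over (Spec (CommRingCat.of k))) [GrpObj G]
    [LocallyOfFiniteType G.hom] (pt : ↥(𝟙_ (Over (Spec (CommRingCat.of k)))).left) (x : G.left) (hx : IsClosed ({x} : Set G.left)) :
    Nonempty (G.left.presheaf.stalk (η[G].left.base pt) ≅ G.left.presheaf.stalk x) := by
  let p : Spec (CommRingCat.of k) ⟶ G.left := pointOfClosedPoint G.hom x hx
  have hp : p ≫ G.hom = 𝟙 _ := pointOfClosedPoint_comp G.hom x hx
  let p' : 𝟙_ (Over (Spec (CommRingCat.of k))) ⟶ G := Over.homMk p (by simpa using hp)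
  let a : G ⟶ G := toUnit G ≫ p'
  let t : G ⟶ G := a * 𝟙 G
  let t' : G ⟶ G := a⁻¹ * 𝟙 G
  have hta : ∀ (b : G ⟶ G), b ≫ a = a := by
    intro b
    change b ≫ toUnit G ≫ p' = toUnit G ≫ p'
    rw [← Category.assoc]
    congr 1
    exact toUnit_unique _ _
  have h1 : t ≫ t' = 𝟙 G := by
    change t ≫ (a⁻¹ * 𝟙 G) = 𝟙 G
    rw [MonObj.comp_mul, GrpObj.comp_inv, hta, Category.comp_id]
    change a⁻¹ * (a * 𝟙 G) = 𝟙 G
    rw [inv_mul_cancel_left]
  have h2 : t' ≫ t = 𝟙 G := by
    change t' ≫ (a * 𝟙 G) = 𝟙 G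
    rw [MonObj.comp_mul, hta, Category.comp_id]
    change a * (a⁻¹ * 𝟙 G) = 𝟙 G
    rw [mul_inv_cancel_left]
  have ht : η[G] ≫ t = p' := by
    change η[G] ≫ (a * 𝟙 G) = p'
    rw [MonObj.comp_mul, Category.comp_id]
    change (η[G] ≫ toUnit G ≫ p') * η[G] = p'
    have h3 : η[G] ≫ toUnit G = 𝟙 _ := toUnit_unique _ _
    rw [← Category.assoc, h3, Category.id_comp]
    have h4 : (η[G] : 𝟙_ _ ⟶ G) = 1 := by
      rw [Hom.one_def]
      have : toUnit (𝟙_ (Over (Spec (CommRingCat.of k)))) = 𝟙 _ := toUnit_unique _ _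
      rw [this, Category.id_comp]
    rw [h4, _root_.mul_one]
  let tIso : G ≅ G := ⟨t, t', h1, h2⟩
  let φ : G.left ≅ G.left := (Over.forget _).mapIso tIso
  have hφ : φ.hom = t.left := rfl
  set e : G.left := η[G].left.base pt with he
  have hx' : φ.hom.base e = x := by
    have h5 : (η[G] ≫ t).left = p := by rw [ht]; rfl
    have h6 : (η[G] ≫ t).left = η[G].left ≫ t.left := rfl
    rw [h6] at h5
    have h7 : (η[G].left ≫ t.left).base pt = p.base pt := by rw [h5]
    rw [hφ]
    change (η[G].left ≫ t.left).base pt = x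
    rw [h7]
    exact pointOfClosedPoint_apply G.hom x hx pt
  haveI : IsIso (φ.hom.stalkMap e) := inferInstance
  exact ⟨(asIso (φ.hom.stalkMap e)).symm ≪≫
    G.left.presheaf.stalkCongr (Inseparable.of_eq hx')⟩

end Groth.Agent.S5387
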