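import Groth.Statements.S5388
import Groth.Agent.Lib.Helper7.GrpSmooth
import Groth.Agent.S4366

set_option autoImplicit false
universe u
open CategoryTheory CategoryTheory.Limits MonoidalCategory CartesianMonoidalCategory MonObj GrpObj AlgebraicGeometry
open SGA3

namespace Groth.Agent.S5388


/-- Stalk-level descent of reducedness: if `P ⟶ X` is flat and a monomorphism with `P` reduced, the
stalk of `X` at any image point is reduced. -/
theorem isReduced_stalk_of_flat_mono {P X : Scheme.{u}} (h : P ⟶ X) [Flat h] [Mono h]
    [AlgebraicGeometry.IsReduced P] (t : P) : _root_.IsReduced (X.presheaf.stalk (h t)) := by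
  have := Groth.Agent.S4366.isIso_stalkMap_of_flat_of_mono h t
  exact isReduced_of_injective (h.stalkMap t).hom
    ((ConcreteCategory.bijective_of_isIso (h.stalkMap t)).injective)

/-- The ring-level input: for `X` over a field `k`, a point `x`, and a field extension `K`, if
`K ⊗_k O_{X,x}` is reduced then the local ring of `X_K` at any point over `x` ... at some point
over `x` is reduced. -/
theorem exists_isReduced_stalk_pullback (k : Type u) [Field k] {X : Scheme.{u}}
    (f : X ⟶ Spec (CommRingCat.of k)) (x : X) (K : Type u) [Field K] [Algebra k K]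
    (hred : letI := ((Scheme.ΓSpecIso (CommRingCat.of k)).inv ≫ f.appTop ≫
        X.presheaf.germ ⊤ x trivial).hom.toAlgebra
      _root_.IsReduced (TensorProduct k K (X.presheaf.stalk x))) :
    ∃ z : ↥(pullback f (Spec.map (CommRingCat.ofHom (algebraMap k K)))),
      _root_.IsReduced ((pullback f (Spec.map (CommRingCat.ofHom (algebraMap k K)))).presheaf.stalk z) := by
  letI := ((Scheme.ΓSpecIso (CommRingCat.of k)).inv ≫ f.appTop ≫
        X.presheaf.germ ⊤ x trivial).hom.toAlgebra
  let g := Spec.map (CommRingCat.ofHom (algebraMap k K))
  let O := X.presheaf.stalk x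
  -- the structure morphism of `Spec O_{X,x}` is `Spec` of the algebra map
  have hfac : X.fromSpecStalk x ≫ f = Spec.map (CommRingCat.ofHom (algebraMap k O)) := by
    apply ext_of_isAffine
    rw [Scheme.Hom.comp_appTop, Scheme.fromSpecStalk_appTop]
    rw [RingHom.algebraMap_toAlgebra, CommRingCat.ofHom_hom]
    rw [← cancel_epi (Scheme.ΓSpecIso (CommRingCat.of k)).inv]
    rw [← Scheme.ΓSpecIso_inv_naturality]
    simp
  -- `P = Spec O ×_X X_K`
  let P := pullback (X.fromSpecStalk x) (pullback.fst f g)
  have hflat : Flat (X.fromSpecStalk x) := Groth.Agent.S4366.flat_fromSpecStalk X x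
  have hPred : AlgebraicGeometry.IsReduced P := by
    have h0 : _root_.IsReduced (TensorProduct k O K) :=
      isReduced_of_injective (Algebra.TensorProduct.comm k O K).toAlgHom
        (Algebra.TensorProduct.comm k O K).injective
    have h1 : AlgebraicGeometry.IsReduced (Spec (CommRingCat.of (TensorProduct k O K))) :=
      inferInstance
    let e1 := pullbackRightPullbackFstIso f g (X.fromSpecStalk x)
    let e2 : pullback (X.fromSpecStalk x ≫ f) g ≅
        pullback (Spec.map (CommRingCat.ofHom (algebraMap k O))) g :=
      pullback.congrHom hfac rfl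
    let e3 := pullbackSpecIso k O K
    exact isReduced_of_isOpenImmersion (e1 ≪≫ e2 ≪≫ e3).hom
  obtain ⟨y, hy⟩ := (pullback.fst f g).surjective x
  obtain ⟨t, -, ht⟩ := Scheme.Pullback.exists_preimage_pullback
    (f := X.fromSpecStalk x) (g := pullback.fst f g) (IsLocalRing.closedPoint O) y
    (by rw [hy]; exact Scheme.fromSpecStalk_closedPoint)
  exact ⟨_, isReduced_stalk_of_flat_mono (pullback.snd (X.fromSpecStalk x) (pullback.fst f g)) t⟩

/-- Let G be a group scheme locally of finite type over a field k, e its unit point and K a perfect
extension field of k. If K ⊗_k O_{G,e} is a reduced ring, then G is smooth over k. (The published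
statement is for a group flat and locally of finite type over a local artinian ring, with K the
perfect closure of the residue field; this row is the case of a base field, with K any perfect
extension.) -/
theorem result (k : Type u) [Field k] (G : Over (Spec (CommRingCat.of k))) [GrpObj G]
    [LocallyOfFiniteType G.hom] (pt : ↥(𝟙_ (Over (Spec (CommRingCat.of k)))).left) (K : Type u) [Field K] [Algebra k K] [PerfectField K] :
    letI := ((Scheme.ΓSpecIso (CommRingCat.of k)).inv ≫ G.hom.appTop ≫ G.left.presheaf.germ ⊤ (η[G].left.base pt) trivial).hom.toAlgebra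
    IsReduced (TensorProduct k K (G.left.presheaf.stalk (η[G].left.base pt))) → Smooth G.hom := by
  intro hred
  obtain ⟨z, hz⟩ := exists_isReduced_stalk_pullback k G.hom (η[G].left.base pt) K hred
  let g : Spec (.of K) ⟶ Spec (.of k) := Spec.map (CommRingCat.ofHom <| algebraMap k K)
  apply MorphismProperty.of_pullback_snd_of_descendsAlong
    (Q := @Surjective ⊓ @Flat ⊓ @QuasiCompact) (g := g)
  · exact ⟨⟨inferInstance, inferInstance⟩, inferInstance⟩
  · let : GrpObj (Over.mk G.hom) := inferInstanceAs (GrpObj G)
    let : GrpObj (Over.mk (Limits.pullback.snd G.hom g)) := Over.grpObjMkPullbackSnd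
    exact Groth.Agent.Lib.Helper7.GrpSmooth.smooth_of_isReduced_stalk_of_perfectField
      (Limits.pullback.snd G.hom g) z

end Groth.Agent.S5388
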