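import Groth.Statements.S5389
import Groth.Agent.Lib.Helper38.ActionMaxOpen

set_option autoImplicit false
universe u
open CategoryTheory CategoryTheory.Limits MonoidalCategory CartesianMonoidalCategory MonObj GrpObj AlgebraicGeometry
open SGA3

namespace Groth.Agent.S5389

/-- Let P be a property of morphisms of schemes which is local on the target for the fpqc topology
(stable under base change, Zariski-local on the target, and descending along flat surjective
quasi-compact morphisms). Let u : G → H be a homomorphism of S-group schemes with G flat and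
universally open over S, W the largest open subscheme of H over which the restriction of u has P,
and V = u⁻¹(W). Then the image U of V in S is open and V is an open subgroup scheme of G over U: V
contains the unit point of every fibre of G that it meets, V is stable under the inversion of G, and
the product of a point of G ×_S G whose two projections lie in V lies in V. -/
theorem result (P : MorphismProperty Scheme.{u}) [P.IsStableUnderBaseChange] [IsZariskiLocalAtTarget P]
    [P.DescendsAlong (@Flat ⊓ @Surjective ⊓ @QuasiCompact)]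
    (S : Scheme.{u}) (G H : Over S) [GrpObj G] [GrpObj H] (u : G ⟶ H) [IsMonHom u] [Flat G.hom] [UniversallyOpen G.hom]
    (W : H.left.Opens) (hW : P (u.left ∣_ W)) (hmax : ∀ W' : H.left.Opens, P (u.left ∣_ W') → W' ≤ W) :
    letI V : G.left.Opens := u.left ⁻¹ᵁ W
    IsOpen (G.hom.base '' (V : Set G.left)) ∧
    (∀ g ∈ V, ∀ p : ↥(𝟙_ (Over S)).left, (𝟙_ (Over S)).hom.base p = G.hom.base g → η[G].left.base p ∈ V) ∧
    (∀ g ∈ V, ι[G].left.base g ∈ V) ∧
    (∀ z : ↥(G ⊗ G).left, (fst G G).left.base z ∈ V → (snd G G).left.base z ∈ V → μ[G].left.base z ∈ V) := by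
  have hstab := Groth.Agent.Lib.Helper38.ActionMaxOpen.preimage_snd_le_preimage_act
    (Groth.Agent.Lib.Helper38.ActionMaxOpen.selfAction G)
    (Groth.Agent.Lib.Helper38.ActionMaxOpen.homAction u) u
    (Groth.Agent.Lib.Helper38.ActionMaxOpen.homAction_equivariant u) P W hW hmax
  have key : ∀ {T : Over S} (t : T ⟶ G ⊗ H) (x : T.left),
      (t ≫ snd G H).left.base x ∈ W → (t ≫ (u ▷ H) ≫ μ[H]).left.base x ∈ W := by
    intro T t x hx
    exact hstab (show t.left.base x ∈ (snd G H).left ⁻¹ᵁ W from hx)
  have hmul : ∀ z : ↥(G ⊗ G).left, (snd G G).left.base z ∈ u.left ⁻¹ᵁ W →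
      μ[G].left.base z ∈ u.left ⁻¹ᵁ W := by
    intro z hz
    have h := key (G ◁ u) z (by rw [whiskerLeft_snd]; exact hz)
    have e : (G ◁ u) ≫ (u ▷ H) ≫ μ[H] = μ[G] ≫ u :=
      Groth.Agent.Lib.Helper38.ActionMaxOpen.homAction_equivariant u
    rw [e] at h
    exact h
  have hone : ∀ g ∈ u.left ⁻¹ᵁ W, (toUnit G ≫ η[G]).left.base g ∈ u.left ⁻¹ᵁ W := by
    intro g hg
    have h := hmul ((lift ι[G] (𝟙 G)).left.base g) (by
      have e : lift ι[G] (𝟙 G) ≫ snd G G = 𝟙 G := lift_snd _ _
      have : (lift ι[G] (𝟙 G) ≫ snd G G).left.base g ∈ u.left ⁻¹ᵁ W := by rw [e]; exact hg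
      exact this)
    have e : lift ι[G] (𝟙 G) ≫ μ[G] = toUnit G ≫ η[G] := GrpObj.left_inv G
    rw [← e]
    exact h
  have hinv : ∀ g ∈ u.left ⁻¹ᵁ W, ι[G].left.base g ∈ u.left ⁻¹ᵁ W := by
    intro g hg
    have h := key (lift ι[G] (toUnit G ≫ η[H])) g (by
      have e : lift ι[G] (toUnit G ≫ η[H]) ≫ snd G H = (toUnit G ≫ η[G]) ≫ u := by
        rw [lift_snd, Category.assoc, IsMonHom.one_hom]
      rw [e]
      exact hone g hg)
    have e : lift ι[G] (toUnit G ≫ η[H]) ≫ (u ▷ H) ≫ μ[H] = ι[G] ≫ u := by
      rw [lift_whiskerRight_assoc, lift_comp_one_right]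
    rw [e] at h
    exact h
  refine ⟨?_, ?_, hinv, fun z _ hz ↦ hmul z hz⟩
  · exact G.hom.isOpenMap _ (u.left ⁻¹ᵁ W).2
  · intro g hg p hp
    have hiso : IsIso (𝟙_ (Over S)).hom := inferInstanceAs (IsIso (𝟙 S))
    have hp' : p = (toUnit G).left.base g := by
      apply (𝟙_ (Over S)).hom.isOpenEmbedding.injective
      rw [hp]
      have := Over.w (toUnit G)
      exact (congrArg (fun φ : G.left ⟶ S => φ.base g) this).symm
    rw [hp']
    exact hone g hg

end Groth.Agent.S5389
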