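import Groth.Statements.S5394
import Groth.Agent.Lib.Helper98.GrpFppfMul
import Groth.Agent.Lib.Helper24.LfpOfComp

set_option autoImplicit false
universe u
open CategoryTheory CategoryTheory.Limits MonoidalCategory CartesianMonoidalCategory MonObj GrpObj AlgebraicGeometry
open SGA3

namespace Groth.Agent.S5394

/-- Let G be an S-group scheme which is flat and locally of finite presentation over S and f : X → G a
morphism of S-schemes with X locally of finite presentation over S. Suppose that for every point s
of S and every maximal point g of the fibre G_s (generic point of an irreducible component) there is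
a point x of X with f(x) = g at which f is flat. Let V be the open subscheme of X where f is flat.
Then the morphism V ×_S V → G, (x, y) ↦ f(x)·f(y), is flat, locally of finite presentation and
surjective; in particular X ×_S X → G, (x, y) ↦ f(x)·f(y), is covering for the fppf topology. (The
published statement does not assume G flat over S and asserts only the covering property; this row
assumes G flat over S, as the flatness step of the printed proof does, and concludes the flat,
locally finitely presented, surjective form that proof establishes. Without flatness of G the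
flatness conclusion fails, e.g. for the identity of the closed subgroup tx = 0 of the additive group
over k[t].) -/
theorem result (S : Scheme.{u}) (G X : Over S) [GrpObj G] [LocallyOfFinitePresentation G.hom] [Flat G.hom]
    [LocallyOfFinitePresentation X.hom] (f : X ⟶ G)
    (hf : ∀ (s : S) (g : ↥(G.hom.base ⁻¹' {s})), closure {g} ∈ irreducibleComponents ↥(G.hom.base ⁻¹' {s}) →
      ∃ x : X.left, f.left.base x = g.1 ∧ (f.left.stalkMap x).hom.Flat)
    (V : X.left.Opens) (hV : (V : Set X.left) = {x : X.left | (f.left.stalkMap x).hom.Flat}) :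
    letI fV : Over.mk (V.ι ≫ X.hom) ⟶ G := Over.homMk (V.ι ≫ f.left) ((Category.assoc _ _ _).trans (congrArg (V.ι ≫ ·) (Over.w f)))
    Flat ((fV ⊗ₘ fV) ≫ μ[G]).left ∧ LocallyOfFinitePresentation ((fV ⊗ₘ fV) ≫ μ[G]).left ∧
      Surjective ((fV ⊗ₘ fV) ≫ μ[G]).left := by
  classical
  let fV : Over.mk (V.ι ≫ X.hom) ⟶ G := Over.homMk (V.ι ≫ f.left)
    ((Category.assoc _ _ _).trans (congrArg (V.ι ≫ ·) (Over.w f)))
  show Flat ((fV ⊗ₘ fV) ≫ μ[G]).left ∧ LocallyOfFinitePresentation ((fV ⊗ₘ fV) ≫ μ[G]).left ∧
      Surjective ((fV ⊗ₘ fV) ≫ μ[G]).left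
  let Vo : Over S := Over.mk (V.ι ≫ X.hom)
  have hfVl : fV.left = V.ι ≫ f.left := rfl
  -- `fV` is flat
  have hfVflat : Flat fV.left := by
    rw [hfVl]
    apply Flat.of_stalkMap
    intro x
    rw [Scheme.Hom.stalkMap_comp]
    refine RingHom.Flat.comp ?_ (Flat.stalkMap V.ι x)
    have hx : (V.ι.base x) ∈ (V : Set X.left) := x.2
    rw [hV] at hx
    exact hx
  have hVoflat : Flat Vo.hom := by
    have : Vo.hom = fV.left ≫ G.hom := (Over.w fV).symm
    rw [this]; infer_instance
  have hVolfp : LocallyOfFinitePresentation Vo.hom := by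
    show LocallyOfFinitePresentation (V.ι ≫ X.hom)
    infer_instance
  have hfVlfp : LocallyOfFinitePresentation fV.left := by
    haveI : LocallyOfFinitePresentation (fV.left ≫ G.hom) := by rw [Over.w fV]; exact hVolfp
    exact Groth.Agent.Lib.Helper24.locallyOfFinitePresentation_of_comp fV.left G.hom
  have hΦe : (fV ⊗ₘ fV) ≫ μ[G] = (fst Vo Vo ≫ fV) * (snd Vo Vo ≫ fV) := by
    have : (fV ⊗ₘ fV) = lift (fst Vo Vo ≫ fV) (snd Vo Vo ≫ fV) := by
      ext <;> simp <;> rfl
    rw [this]; rfl
  have hΦe2 : (fV ⊗ₘ fV) ≫ μ[G] = (fV ▷ Vo) ≫ (G ◁ fV) ≫ μ[G] := by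
    rw [← Category.assoc, ← MonoidalCategory.tensorHom_def]
  refine ⟨?_, ?_, ?_⟩
  · rw [hΦe]
    exact Lib.Helper98.GrpFppfMul.flat_mul fV fV
  · haveI : LocallyOfFinitePresentation (((fV ⊗ₘ fV) ≫ μ[G]).left ≫ G.hom) := by
      rw [Over.w]
      show LocallyOfFinitePresentation (Vo ⊗ Vo).hom
      rw [Over.tensorObj_hom]
      infer_instance
    exact Groth.Agent.Lib.Helper24.locallyOfFinitePresentation_of_comp _ G.hom
  · constructor
    intro g
    -- the open image of `fV`
    have hfVo : UniversallyOpen fV.left := inferInstance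
    let U : G.left.Opens := ⟨Set.range fV.left.base, fV.left.isOpenMap.isOpen_range⟩
    have hmaxU : ∀ g' : ↥(G.hom.base ⁻¹' {G.hom.base g}),
        closure {g'} ∈ irreducibleComponents ↥(G.hom.base ⁻¹' {G.hom.base g}) → g'.1 ∈ U := by
      intro g' hg'
      obtain ⟨x, hx1, hx2⟩ := hf (G.hom.base g) g' hg'
      have hxV : x ∈ (V : Set X.left) := by rw [hV]; exact hx2
      refine ⟨⟨x, hxV⟩, ?_⟩
      rw [hfVl, Scheme.Hom.comp_base, TopCat.comp_app]
      exact hx1
    have hF := Lib.Helper98.GrpFppfMul.dense_fiber_of_maximal G.hom U (G.hom.base g) hmaxU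
    have hD := Lib.Helper98.GrpFppfMul.dense_preimage_fst G U g hF
    let K' : Over S := Over.mk (G.left.fromSpecResidueField g ≫ G.hom)
    let gK : K' ⟶ G := Over.homMk (G.left.fromSpecResidueField g) rfl
    have hpt : ∀ t : K'.left, gK.left.base t = g := fun t =>
      Scheme.fromSpecResidueField_apply g t
    have hne : Nonempty (G ⊗ K').left := by
      have : Nonempty K'.left := by
        show Nonempty (Spec (G.left.residueField g))
        infer_instance
      obtain ⟨t⟩ := this
      exact ⟨(lift gK (𝟙 K')).left.base t⟩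
    obtain ⟨z, hz1, hz2, hz3⟩ := Lib.Helper98.GrpFppfMul.exists_mul_of_dense' G U U g K' gK hpt hD
      hD.nonempty
    -- lift `z` to `Vo ⊗ Vo`
    have hp1 := Lib.Helper98.GrpUnivOpen.isPullback_whiskerLeft' G fV
    have hp2 := Lib.Helper98.GrpUnivOpen.isPullback_whiskerRight' Vo fV
    obtain ⟨v₂, hv₂⟩ : (snd G G).left.base z ∈ Set.range fV.left.base := hz2
    obtain ⟨v₁, hv₁⟩ : (fst G G).left.base z ∈ Set.range fV.left.base := hz1
    obtain ⟨z₁, hz₁, -⟩ := Scheme.exists_preimage_of_isPullback hp1 z v₂ hv₂.symm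
    have hfz : (fst G Vo).left.base z₁ = fV.left.base v₁ := by
      have : (fst G Vo).left = (G ◁ fV).left ≫ (fst G G).left := by
        rw [← Over.comp_left, whiskerLeft_fst]
      rw [this, Scheme.Hom.comp_base, TopCat.comp_app, hz₁]
      exact hv₁.symm
    obtain ⟨z', hz', -⟩ := Scheme.exists_preimage_of_isPullback hp2 z₁ v₁ hfz
    refine ⟨z', ?_⟩
    rw [hΦe2, Over.comp_left, Over.comp_left, Scheme.Hom.comp_base, Scheme.Hom.comp_base,
      TopCat.comp_app, TopCat.comp_app, hz', hz₁]
    exact hz3

end Groth.Agent.S5394
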