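import Groth.Statements.S5395
import Mathlib
import Groth.Agent.Lib.Helper23.GrpSeparated

set_option autoImplicit false
universe u
open CategoryTheory CategoryTheory.Limits MonoidalCategory CartesianMonoidalCategory MonObj GrpObj AlgebraicGeometry
open SGA3

namespace Groth.Agent.S5395


open Topology Set in
theorem exists_isLocallyClosed_mem_of_isConstructible {X : Type*} [TopologicalSpace X] {s : Set X}
    (hs : IsConstructible s) : ∀ a ∈ s, ∃ Z ⊆ s, a ∈ Z ∧ IsLocallyClosed Z := by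
  refine BooleanSubalgebra.closure_sdiff_sup_induction
    (s := {U : Set X | IsOpen U ∧ IsRetrocompact U})
    (p := fun s _ => ∀ a ∈ s, ∃ Z ⊆ s, a ∈ Z ∧ IsLocallyClosed Z)
    ⟨?_, ?_⟩ ⟨isOpen_empty, IsRetrocompact.empty⟩ ⟨isOpen_univ, IsRetrocompact.univ⟩
    ?_ ?_ s hs
  · intro a ha b hb
    exact ⟨ha.1.union hb.1, ha.2.union hb.2⟩
  · intro a ha b hb
    exact ⟨ha.1.inter hb.1, ha.2.inter_isOpen hb.2 hb.1⟩
  · intro x hx y hy a ha
    refine ⟨x \ y, subset_rfl, ha, ?_⟩
    exact ⟨x, yᶜ, hx.1, hy.1.isClosed_compl, rfl⟩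
  · intro x _ y _ ihx ihy a ha
    rcases ha with hz | hz
    · obtain ⟨Z, hZ, h1, h2⟩ := ihx a hz
      exact ⟨Z, hZ.trans subset_union_left, h1, h2⟩
    · obtain ⟨Z, hZ, h1, h2⟩ := ihy a hz
      exact ⟨Z, hZ.trans subset_union_right, h1, h2⟩

open Topology Set in
theorem exists_isLocallyClosed_mem_of_isIndConstructible {X : Type*} [TopologicalSpace X]
    {E : Set X} (hE : ProCons.IsIndConstructible E) {a : X} (ha : a ∈ E) :
    ∃ L ⊆ E, a ∈ L ∧ IsLocallyClosed L := by
  obtain ⟨U, hUo, haU, S, hS, hES⟩ := hE a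
  have ha' : (⟨a, haU⟩ : ↥U) ∈ (Subtype.val ⁻¹' E : Set ↥U) := ha
  rw [hES] at ha'
  obtain ⟨T, hTS, haT⟩ := ha'
  obtain ⟨U₂, hU₂, hU₂o, hC⟩ := hS T hTS ⟨a, haU⟩
  have haU₂ : (⟨a, haU⟩ : ↥U) ∈ U₂ := mem_of_mem_nhds hU₂
  obtain ⟨Z, hZ, haZ, hZlc⟩ := exists_isLocallyClosed_mem_of_isConstructible hC
    (⟨⟨a, haU⟩, haU₂⟩ : ↥U₂) haT
  have h1 : IsLocallyClosed (Subtype.val '' Z : Set ↥U) := by
    refine hZlc.image IsInducing.subtypeVal ?_
    rw [Subtype.range_coe]
    exact hU₂o.isLocallyClosed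
  have h2 : IsLocallyClosed (Subtype.val '' (Subtype.val '' Z : Set ↥U) : Set X) := by
    refine h1.image IsInducing.subtypeVal ?_
    rw [Subtype.range_coe]
    exact hUo.isLocallyClosed
  have hamem : a ∈ (Subtype.val '' (Subtype.val '' Z : Set ↥U) : Set X) := by
    refine ⟨⟨a, haU⟩, ?_, rfl⟩
    exact ⟨⟨⟨a, haU⟩, haU₂⟩, haZ, rfl⟩
  refine ⟨_, ?_, hamem, h2⟩
  rintro _ ⟨u, ⟨v, hv, rfl⟩, rfl⟩
  have hvT : v.1 ∈ T := hZ hv
  have : v.1 ∈ (Subtype.val ⁻¹' E : Set ↥U) := by
    rw [hES]; exact ⟨T, hTS, hvT⟩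
  exact this

/-- Let k be an algebraically closed field, G a group scheme locally of finite type over k, and A, B two
ind-constructible subsets of G. Let A·B be the image under the multiplication of the set of points
of G ×_k G whose two projections lie in A and B. Then every closed point z of G lying in A·B is the
product of a closed point of G ×_k G whose two projections lie in A and B (and are then closed
points): the rational points of A·B are the products of rational points of A and of B. -/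
theorem result (k : Type u) [Field k] [IsAlgClosed k] (G : Over (Spec (CommRingCat.of k))) [GrpObj G]
    [LocallyOfFiniteType G.hom] (A B : Set G.left) (hA : ProCons.IsIndConstructible A) (hB : ProCons.IsIndConstructible B)
    (z : G.left) (hz : IsClosed ({z} : Set G.left))
    (hzAB : z ∈ μ[G].left.base '' {w : ↥(G ⊗ G).left | (fst G G).left.base w ∈ A ∧ (snd G G).left.base w ∈ B}) :
    ∃ w : ↥(G ⊗ G).left, IsClosed ({w} : Set ↥(G ⊗ G).left) ∧ (fst G G).left.base w ∈ A ∧ (snd G G).left.base w ∈ B ∧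
      μ[G].left.base w = z := by
  obtain ⟨w₀, ⟨hw₀A, hw₀B⟩, hw₀z⟩ := hzAB
  haveI : IsSeparated G.hom := Groth.Agent.Lib.Helper23.GrpSeparated.isSeparated_of_field G
  haveI hJ : JacobsonSpace ↥G.left := LocallyOfFiniteType.jacobsonSpace G.hom
  -- the rational point z
  let zs : Spec (CommRingCat.of k) ⟶ G.left := pointOfClosedPoint G.hom z hz
  have hzs1 : zs ≫ G.hom = 𝟙 _ := pointOfClosedPoint_comp G.hom z hz
  have hzs2 : ∀ a, zs a = z := pointOfClosedPoint_apply G.hom z hz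
  let zpt : 𝟙_ (Over (Spec (CommRingCat.of k))) ⟶ G := Over.homMk zs hzs1
  -- ρ : g ↦ g⁻¹ z and the graph
  let ρ : G ⟶ G := (𝟙 G)⁻¹ * (toUnit G ≫ zpt)
  let Γ : G ⟶ G ⊗ G := lift (𝟙 G) ρ
  have hΓ1 : Γ ≫ fst G G = 𝟙 G := lift_fst _ _
  have hΓ2 : Γ ≫ snd G G = ρ := lift_snd _ _
  have hΓ3 : Γ ≫ μ[G] = toUnit G ≫ zpt := by
    have h1 : Γ ≫ μ[G] = 𝟙 G * ρ := rfl
    rw [h1]
    exact mul_inv_cancel_left _ _
  -- the fibre of μ over z
  let Ps := pullback μ[G].left zs
  let P : Over (Spec (CommRingCat.of k)) := Over.mk (pullback.fst μ[G].left zs ≫ (G ⊗ G).hom)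
  let ιP : P ⟶ G ⊗ G := Over.homMk (pullback.fst μ[G].left zs) rfl
  have hιμ : ιP ≫ μ[G] = toUnit P ≫ zpt := by
    apply Over.OverMorphism.ext
    rw [Over.comp_left, Over.comp_left]
    show pullback.fst μ[G].left zs ≫ μ[G].left = (toUnit P).left ≫ zs
    rw [pullback.condition]
    congr 1
    have h1 : pullback.snd μ[G].left zs = pullback.snd μ[G].left zs ≫ zs ≫ G.hom := by
      rw [hzs1, Category.comp_id]
    have h2 : (toUnit P).left = (toUnit P).left ≫ (𝟙_ (Over (Spec (CommRingCat.of k)))).hom := by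
      exact (Category.comp_id _).symm
    rw [h1, h2, Over.w (toUnit P), ← Category.assoc, ← pullback.condition, Category.assoc]
    have h3 : μ[G].left ≫ G.hom = (G ⊗ G).hom := Over.w μ[G]
    rw [h3]
    rfl
  have hιΓ : ιP ≫ fst G G ≫ Γ = ιP := by
    apply CartesianMonoidalCategory.hom_ext
    · rw [Category.assoc, Category.assoc, hΓ1, Category.comp_id]
    · rw [Category.assoc, Category.assoc, hΓ2]
      have e1 : ιP ≫ snd G G = (ιP ≫ fst G G)⁻¹ * (ιP ≫ μ[G]) := by
        have : ιP ≫ μ[G] = (ιP ≫ fst G G) * (ιP ≫ snd G G) := by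
          rw [← MonObj.comp_mul]
          congr 1
          rw [Hom.mul_def, lift_fst_snd, Category.id_comp]
        rw [this, inv_mul_cancel_left]
      have e2 : ιP ≫ fst G G ≫ ρ = (ιP ≫ fst G G)⁻¹ * (toUnit P ≫ zpt) := by
        rw [← Category.assoc]
        show (ιP ≫ fst G G) ≫ ((𝟙 G)⁻¹ * (toUnit G ≫ zpt)) = _
        rw [MonObj.comp_mul, GrpObj.comp_inv, Category.comp_id, ← Category.assoc]
        congr 2
      rw [e2, e1, hιμ]
  -- w₀ lies in the fibre
  obtain ⟨pt⟩ : Nonempty ↥(Spec (CommRingCat.of k)) := inferInstance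
  have hw₀ : μ[G].left w₀ = zs pt := by
    rw [hzs2]; exact hw₀z
  obtain ⟨p₀, hp₀, -⟩ := Scheme.Pullback.exists_preimage_pullback w₀ pt hw₀
  set a := (fst G G).left w₀ with ha
  have hΓa : Γ.left a = w₀ := by
    have h1 := congrArg (fun m => m.left.base p₀) hιΓ
    have h2 : Γ.left ((fst G G).left (ιP.left p₀)) = ιP.left p₀ := h1
    have h3 : ιP.left p₀ = w₀ := hp₀
    rw [h3] at h2
    exact h2
  have hρa : ρ.left a = (snd G G).left w₀ := by
    have h1 : (snd G G).left (Γ.left a) = ρ.left a := congrArg (fun m => m.left.base a) hΓ2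
    rw [← h1, hΓa]
  -- locally closed neighbourhoods inside A and B
  obtain ⟨LA, hLA, haLA, hLAlc⟩ := exists_isLocallyClosed_mem_of_isIndConstructible hA hw₀A
  obtain ⟨LB, hLB, hbLB, hLBlc⟩ := exists_isLocallyClosed_mem_of_isIndConstructible hB hw₀B
  have hL : IsLocallyClosed (LA ∩ ρ.left ⁻¹' LB) :=
    hLAlc.inter (hLBlc.preimage ρ.left.continuous)
  have haL : a ∈ LA ∩ ρ.left ⁻¹' LB := ⟨haLA, by
    show ρ.left a ∈ LB
    rw [hρa]; exact hbLB⟩
  obtain ⟨g, ⟨hgA, hgB⟩, hgc⟩ := nonempty_inter_closedPoints ⟨a, haL⟩ hL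
  -- Γ is a closed immersion
  haveI : IsSeparated (fst G G).left := by
    rw [Over.fst_left]; infer_instance
  haveI : IsClosedImmersion (Γ.left ≫ (fst G G).left) := by
    rw [← Over.comp_left, hΓ1]
    exact inferInstanceAs (IsClosedImmersion (𝟙 G.left))
  haveI : IsClosedImmersion Γ.left := IsClosedImmersion.of_comp Γ.left (fst G G).left
  refine ⟨Γ.left g, ?_, ?_, ?_, ?_⟩
  · have := Γ.left.isClosedEmbedding.isClosedMap _ hgc
    rwa [Set.image_singleton] at this
  · have h1 : (fst G G).left (Γ.left g) = g := congrArg (fun m => m.left.base g) hΓ1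
    show (fst G G).left (Γ.left g) ∈ A
    rw [h1]; exact hLA hgA
  · have h1 : (snd G G).left (Γ.left g) = ρ.left g := congrArg (fun m => m.left.base g) hΓ2
    show (snd G G).left (Γ.left g) ∈ B
    rw [h1]; exact hLB hgB
  · have h1 : μ[G].left (Γ.left g) = (toUnit G ≫ zpt).left g := congrArg (fun m => m.left.base g) hΓ3
    show μ[G].left (Γ.left g) = z
    rw [h1]
    exact hzs2 _

end Groth.Agent.S5395
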