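import Groth.Statements.S5403
import Mathlib
import Groth.Agent.Lib.Helper62.HomogComp
import Groth.Agent.S3039

set_option autoImplicit false
set_option linter.style.haveILetI false
universe u
open CategoryTheory CategoryTheory.Limits MonoidalCategory CartesianMonoidalCategory MonObj GrpObj AlgebraicGeometry
open SGA3

namespace Groth.Agent.S5403
open TopologicalSpace
open Groth.Agent.S0350 Groth.Agent.S5348 Groth.Agent.Lib.Helper62.HomogComp Groth.Agent.Lib.Helper95

section top

theorem map_genericPoint_eq {B : Type*} [TopologicalSpace B] [IrreducibleSpace B] [QuasiSober B]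
    {Y : Type*} [TopologicalSpace Y] [T0Space Y] {φ : B → Y} (hφ : Continuous φ) {ξ : Y}
    (hsub : ∀ b, φ b ∈ closure {ξ}) (hmeet : ∀ U : Set Y, IsOpen U → ξ ∈ U → ∃ b, φ b ∈ U) :
    φ (genericPoint B) = ξ := by
  by_contra hne
  have hξ : ξ ∈ (closure {φ (genericPoint B)})ᶜ := by
    intro h
    have h1 : φ (genericPoint B) ⤳ ξ := specializes_iff_mem_closure.mpr h
    have h2 : ξ ⤳ φ (genericPoint B) := specializes_iff_mem_closure.mpr (hsub _)
    exact hne (h1.antisymm h2).eq
  obtain ⟨b, hb⟩ := hmeet _ isClosed_closure.isOpen_compl hξ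
  exact hb (specializes_iff_mem_closure.mp ((genericPoint_specializes b).map hφ))

theorem eq_of_fst_eq_of_snd_eq' {X Y S : Scheme.{u}} {f : X ⟶ S} {g : Y ⟶ S}
    (z z' : ↑(pullback f g))
    (h1 : pullback.fst f g z = pullback.fst f g z') (h2 : pullback.snd f g z = pullback.snd f g z')
    (hb : Function.Bijective (g.residueFieldMap (pullback.snd f g z')).hom) : z = z' := by
  have h3 : (pullbackSymmetry f g).hom ≫ pullback.fst g f = pullback.snd f g :=
    pullbackSymmetry_hom_comp_fst f g
  have h4 : (pullbackSymmetry f g).hom ≫ pullback.snd g f = pullback.fst f g :=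
    pullbackSymmetry_hom_comp_snd f g
  have := Groth.Agent.Lib.Helper70.EtaleBirational.eq_of_fst_eq_of_snd_eq
    ((pullbackSymmetry f g).hom z) ((pullbackSymmetry f g).hom z')
    (by rw [← Scheme.Hom.comp_apply, ← Scheme.Hom.comp_apply, h3]; exact h2)
    (by rw [← Scheme.Hom.comp_apply, ← Scheme.Hom.comp_apply, h4]; exact h1)
    (by
      have e : pullback.fst g f ((pullbackSymmetry f g).hom z') = pullback.snd f g z' := by
        rw [← Scheme.Hom.comp_apply, h3]
      rw [e]; exact hb)
  exact (Scheme.homeoOfIso (pullbackSymmetry f g)).injective this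

end top

section main
variable {k : Type u} [Field k] {G X : Over (Spec (CommRingCat.of k))} [GrpObj G]
  (a : AlgGrp.Action G X) (hΦ : Surjective (lift a.act (snd G X)).left)
  (C0 : Set G.left) (hC0 : C0 ∈ irreducibleComponents G.left) (he : ∀ s, η[G].left s ∈ C0)

include hC0 he in
theorem inv_mem {g : G.left} (hg : g ∈ C0) : ι[G].left g ∈ C0 := by
  have hirr : IsIrreducible (ι[G].left '' C0) :=
    hC0.1.image _ (Scheme.Hom.continuous _).continuousOn
  have hmem : η[G].left (IsLocalRing.closedPoint k) ∈ ι[G].left '' C0 := by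
    refine ⟨η[G].left (IsLocalRing.closedPoint k), he _, ?_⟩
    rw [← Scheme.Hom.comp_apply, ← Over.comp_left, GrpObj.one_inv]
  exact subset_of_uniqueComp (uniqueComp_all G _) hC0 (he _) hirr hmem ⟨g, hg, rfl⟩

/-- `(g, u) ↦ (g⁻¹, g u)` -/
noncomputable def ς : G ⊗ X ⟶ G ⊗ X := lift (fst G X)⁻¹ a.act

lemma ς_act : ς a ≫ a.act = snd G X := by
  have h0 : a.act = psmul a (fst G X) (snd G X) := by rw [psmul, lift_fst_snd, Category.id_comp]
  have h1 : ς a ≫ a.act = psmul a (fst G X)⁻¹ a.act := by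
    rw [ς, psmul]
  rw [h1, h0, ← mul_psmul, inv_mul_cancel, one_psmul]

include hC0 he in
/-- inversion trick on points -/
theorem exists_inv_pt (z : ↥(G ⊗ X).left) (hz : (fst G X).left z ∈ C0) :
    ∃ z' : ↥(G ⊗ X).left, (fst G X).left z' ∈ C0 ∧ (snd G X).left z' = a.act.left z ∧
      a.act.left z' = (snd G X).left z := by
  refine ⟨(ς a).left z, ?_, ?_, ?_⟩
  · have : ς a ≫ fst G X = fst G X ≫ ι[G] := by rw [ς, lift_fst, Hom.inv_def]
    rw [← Scheme.Hom.comp_apply, ← Over.comp_left, this, Over.comp_left, Scheme.Hom.comp_apply]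
    exact inv_mem C0 hC0 he hz
  · have : ς a ≫ snd G X = a.act := by rw [ς, lift_snd]
    rw [← Scheme.Hom.comp_apply, ← Over.comp_left, this]
  · rw [← Scheme.Hom.comp_apply, ← Over.comp_left, ς_act]

end main

section main2
variable {k : Type u} [Field k] {G X : Over (Spec (CommRingCat.of k))} [GrpObj G]
  (a : AlgGrp.Action G X) (hΦ : Surjective (lift a.act (snd G X)).left)
  (C0 : Set G.left) (hC0 : C0 ∈ irreducibleComponents G.left) (he : ∀ s, η[G].left s ∈ C0)
  (x : 𝟙_ (Over (Spec (CommRingCat.of k))) ⟶ X)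

lemma unit_orbitMap : η[G] ≫ a.orbitMap x = x := by
  have h := one_psmul a x
  rw [psmul, Hom.one_def] at h
  have h2 : η[G] ≫ lift (𝟙 G) (toUnit G ≫ x) = lift (toUnit (𝟙_ _) ≫ η[G]) x := by
    apply CartesianMonoidalCategory.hom_ext
    · rw [Category.assoc, lift_fst, lift_fst, Category.comp_id, toUnit_unique (toUnit _) (𝟙 _),
        Category.id_comp]
    · rw [Category.assoc, lift_snd, lift_snd, ← Category.assoc,
        toUnit_unique (η[G] ≫ toUnit G) (𝟙 _), Category.id_comp]
  rw [AlgGrp.Action.orbitMap, ← Category.assoc, h2]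
  exact h

include hΦ hC0 he in
theorem orbit_subset :
    (a.orbitMap x).left '' C0 ⊆ irreducibleComponent (x.left (IsLocalRing.closedPoint k)) := by
  have hirr : IsIrreducible ((a.orbitMap x).left '' C0) :=
    hC0.1.image _ (Scheme.Hom.continuous _).continuousOn
  have hmem : x.left (IsLocalRing.closedPoint k) ∈ (a.orbitMap x).left '' C0 := by
    refine ⟨η[G].left (IsLocalRing.closedPoint k), he _, ?_⟩
    rw [← Scheme.Hom.comp_apply, ← Over.comp_left, unit_orbitMap]
  exact subset_of_uniqueComp (uniqueComp_X a hΦ _)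
    (irreducibleComponent_mem_irreducibleComponents _) mem_irreducibleComponent hirr hmem

include hΦ hC0 he in
theorem orbit_meets (U : X.left.Opens) (ξ : X.left) (hξU : ξ ∈ U)
    (hξ : closure {ξ} ∈ irreducibleComponents X.left)
    (hx : x.left (IsLocalRing.closedPoint k) ∈ closure {ξ}) :
    ∃ p ∈ C0, (a.orbitMap x).left p ∈ U := by
  obtain ⟨z, hz1, hz2, hz3⟩ := claimB a hΦ C0 hC0 he U _ ξ hξU hξ hx
  obtain ⟨z', hz'1, hz'2, hz'3⟩ := exists_inv_pt a C0 hC0 he z hz1
  refine ⟨(fst G X).left z', hz'1, ?_⟩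
  let ιx : G ⟶ G ⊗ X := lift (𝟙 G) (toUnit G ≫ x)
  have hι : ιx.left ((fst G X).left z') = z' := by
    apply eq_of_fst_eq_of_snd_eq' (f := G.hom) (g := X.hom)
    · show (fst G X).left (ιx.left _) = (fst G X).left z'
      rw [← Scheme.Hom.comp_apply, ← Over.comp_left, lift_fst]; rfl
    · show (snd G X).left (ιx.left _) = (snd G X).left z'
      rw [← Scheme.Hom.comp_apply, ← Over.comp_left, lift_snd, hz'2, hz3, Over.comp_left,
        Scheme.Hom.comp_apply]
      congr 1
      exact Subsingleton.elim (α := ↥(Spec (CommRingCat.of k))) _ _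
    · exact Groth.Agent.S7517.bijective_residueFieldMap_of_section X.hom x.left (Over.w x)
        (IsLocalRing.closedPoint k) _ (by rw [← hz3, ← hz'2]; rfl)
  show (ιx ≫ a.act).left _ ∈ U
  rw [Over.comp_left, Scheme.Hom.comp_apply, hι, hz'3]
  exact hz2

end main2

section main3
variable {k : Type u} [Field k] {G X : Over (Spec (CommRingCat.of k))} [GrpObj G]
  (a : AlgGrp.Action G X) (hΦ : Surjective (lift a.act (snd G X)).left)
  (C0 : Set G.left) (hC0 : C0 ∈ irreducibleComponents G.left) (he : ∀ s, η[G].left s ∈ C0)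
  (x : 𝟙_ (Over (Spec (CommRingCat.of k))) ⟶ X)

include hC0 he in
theorem inv_mul_mem {T : Over (Spec (CommRingCat.of k))} (g h : T ⟶ G) (t : T.left)
    (hg : g.left t ∈ C0) (hh : h.left t ∈ C0) : (g⁻¹ * h).left t ∈ C0 := by
  let δ : G ⊗ G ⟶ G := (fst G G)⁻¹ * snd G G
  have e : g⁻¹ * h = lift g h ≫ δ := by
    rw [MonObj.comp_mul, GrpObj.comp_inv, lift_fst, lift_snd]
  have hbox := isIrreducible_box (X := G) C0 hC0 he C0
    (isClosed_of_mem_irreducibleComponents C0 hC0) hC0.1
  have hirr := hbox.image δ.left (Scheme.Hom.continuous _).continuousOn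
  have hmem : η[G].left (IsLocalRing.closedPoint k) ∈
      δ.left '' ((fst G G).left ⁻¹' C0 ∩ (snd G G).left ⁻¹' C0) := by
    refine ⟨(lift η[G] η[G]).left (IsLocalRing.closedPoint k), ⟨?_, ?_⟩, ?_⟩
    · show (fst G G).left _ ∈ C0
      rw [← Scheme.Hom.comp_apply, ← Over.comp_left, lift_fst]; exact he _
    · show (snd G G).left _ ∈ C0
      rw [← Scheme.Hom.comp_apply, ← Over.comp_left, lift_snd]; exact he _
    · have : lift η[G] η[G] ≫ δ = η[G] := by
        rw [MonObj.comp_mul, GrpObj.comp_inv, lift_fst, lift_snd, inv_mul_cancel, Hom.one_def,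
          toUnit_unique (toUnit _) (𝟙 _), Category.id_comp]
      rw [← Scheme.Hom.comp_apply, ← Over.comp_left, this]
  have hsub := subset_of_uniqueComp (uniqueComp_all G _) hC0 (he _) hirr hmem
  rw [e, Over.comp_left, Scheme.Hom.comp_apply]
  apply hsub
  refine ⟨_, ⟨?_, ?_⟩, rfl⟩
  · show (fst G G).left ((lift g h).left t) ∈ C0
    rw [← Scheme.Hom.comp_apply, ← Over.comp_left, lift_fst]; exact hg
  · show (snd G G).left ((lift g h).left t) ∈ C0
    rw [← Scheme.Hom.comp_apply, ← Over.comp_left, lift_snd]; exact hh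

lemma comp_orbitMap {T : Over (Spec (CommRingCat.of k))} (P : T ⟶ G) :
    P ≫ a.orbitMap x = psmul a P (toUnit T ≫ x) := by
  rw [AlgGrp.Action.orbitMap, psmul, ← Category.assoc, comp_lift, Category.comp_id,
    ← Category.assoc, toUnit_unique (P ≫ toUnit G) (toUnit T)]

include hΦ hC0 he in
theorem subset_orbit {y : X.left}
    (hy : y ∈ irreducibleComponent (x.left (IsLocalRing.closedPoint k))) :
    y ∈ (a.orbitMap x).left '' C0 := by
  obtain ⟨x₀, hx₀⟩ : ∃ x₀, x₀ = x.left (IsLocalRing.closedPoint k) := ⟨_, rfl⟩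
  rw [← hx₀] at hy
  have hZ := irreducibleComponent_mem_irreducibleComponents x₀
  have hirrZ : IsIrreducible (irreducibleComponent x₀) := isIrreducible_irreducibleComponent
  have hgen : IsGenericPoint hirrZ.genericPoint (irreducibleComponent x₀) :=
    hirrZ.isGenericPoint_genericPoint isClosed_irreducibleComponent
  obtain ⟨ξ, hξdef⟩ : ∃ ξ, ξ = hirrZ.genericPoint := ⟨_, rfl⟩
  rw [← hξdef] at hgen
  have hξmax : closure {ξ} ∈ irreducibleComponents X.left := by rw [hgen.def]; exact hZ
  have hx₀ξ : x₀ ∈ closure {ξ} := by rw [hgen.def]; exact mem_irreducibleComponent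
  have hyξ : y ∈ closure {ξ} := by rw [hgen.def]; exact hy
  have hC0cl := isClosed_of_mem_irreducibleComponents C0 hC0
  let I := Scheme.IdealSheafData.vanishingIdeal ⟨C0, hC0cl⟩
  have hr : Set.range I.subschemeι = C0 := by
    rw [I.range_subschemeι]; simp [I]
  haveI : IrreducibleSpace I.subscheme :=
    irreducibleSpace_of_isInducing I.subschemeι.isEmbedding.isInducing (hr ▸ hC0.1)
  have hgi : GeometricallyIrreducible (I.subschemeι ≫ G.hom) :=
    Groth.Agent.S7517.result k G _ I.subschemeι (hr ▸ hC0) (hr ▸ he _)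
  -- F1
  have hF1 : (a.orbitMap x).left (I.subschemeι (genericPoint I.subscheme)) = ξ := by
    refine map_genericPoint_eq (φ := fun b => (a.orbitMap x).left (I.subschemeι b))
      ((Scheme.Hom.continuous _).comp (Scheme.Hom.continuous _)) ?_ ?_
    · intro b
      rw [hgen.def, hx₀]
      exact orbit_subset a hΦ C0 hC0 he x ⟨_, hr ▸ ⟨b, rfl⟩, rfl⟩
    · intro U hU hξU
      obtain ⟨p, hp, hpU⟩ := orbit_meets a hΦ C0 hC0 he x ⟨U, hU⟩ ξ hξU hξmax (hx₀ ▸ hx₀ξ)
      rw [← hr] at hp
      obtain ⟨b, rfl⟩ := hp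
      exact ⟨b, hpU⟩
  obtain ⟨p₀, hp₀def⟩ : ∃ p₀, p₀ = I.subschemeι (genericPoint I.subscheme) := ⟨_, rfl⟩
  have hp₀C : p₀ ∈ C0 := by rw [hp₀def, ← hr]; exact ⟨_, rfl⟩
  rw [← hp₀def] at hF1
  -- F2
  let cy := X.left.fromSpecResidueField y
  haveI : IrreducibleSpace (Spec (X.left.residueField y)) := inferInstance
  have hirrB : IrreducibleSpace ↥(pullback (I.subschemeι ≫ G.hom) (cy ≫ X.hom)) := inferInstance
  let jy := pullback.map (I.subschemeι ≫ G.hom) (cy ≫ X.hom) G.hom X.hom I.subschemeι cy (𝟙 _)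
    (by simp) (by simp)
  have hjy : Set.range jy = (fst G X).left ⁻¹' C0 ∩ (snd G X).left ⁻¹' {y} := by
    have := Scheme.Pullback.range_map (I.subschemeι ≫ G.hom) (cy ≫ X.hom) G.hom X.hom
      I.subschemeι cy (𝟙 _) (by simp) (by simp)
    rw [hr, Scheme.range_fromSpecResidueField] at this
    exact this
  have hjy' : ∀ b, (fst G X).left (jy b) ∈ C0 ∧ (snd G X).left (jy b) = y := by
    intro b
    have : jy b ∈ Set.range jy := ⟨b, rfl⟩
    rw [hjy] at this; exact this
  have hcompy : irreducibleComponent y = irreducibleComponent x₀ :=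
    uniqueComp_X a hΦ y _ (irreducibleComponent_mem_irreducibleComponents y) _ hZ
      mem_irreducibleComponent hy
  have hF2 : a.act.left (jy (genericPoint _)) = ξ := by
    refine map_genericPoint_eq (φ := fun b => a.act.left (jy b))
      ((Scheme.Hom.continuous _).comp (Scheme.Hom.continuous _)) ?_ ?_
    · intro b
      have := claimA a hΦ C0 hC0 he (jy b) (hjy' b).1
      rw [(hjy' b).2, hcompy] at this
      rw [hgen.def]; exact this
    · intro U hU hξU
      obtain ⟨z, hz1, hz2, hz3⟩ := claimB a hΦ C0 hC0 he ⟨U, hU⟩ y ξ hξU hξmax hyξ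
      obtain ⟨z', hz'1, hz'2, hz'3⟩ := exists_inv_pt a C0 hC0 he z hz1
      have : z' ∈ Set.range jy := by
        rw [hjy]; exact ⟨hz'1, by rw [Set.mem_preimage, hz'2, hz3]; rfl⟩
      obtain ⟨b, rfl⟩ := this
      exact ⟨b, by show a.act.left (jy b) ∈ U; rw [hz'3]; exact hz2⟩
  obtain ⟨p', hp'def⟩ : ∃ p', p' = jy (genericPoint _) := ⟨_, rfl⟩
  rw [← hp'def] at hF2
  have hp'1 : (fst G X).left p' ∈ C0 := hp'def ▸ (hjy' _).1
  have hp'2 : (snd G X).left p' = y := hp'def ▸ (hjy' _).2
  -- amalgamation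
  obtain ⟨q, hq1, hq2⟩ := Scheme.Pullback.exists_preimage_pullback
    (f := (a.orbitMap x).left) (g := a.act.left) p₀ p' (by rw [hF1, hF2])
  obtain ⟨L, _, _, cq, hcq⟩ := exists_geomPoint q
  let TL : Over (Spec (CommRingCat.of k)) :=
    Over.mk (cq ≫ pullback.fst (a.orbitMap x).left a.act.left ≫ G.hom)
  let P₁ : TL ⟶ G := Over.homMk (cq ≫ pullback.fst (a.orbitMap x).left a.act.left)
    (by simp [TL])
  let P₂ : TL ⟶ G ⊗ X := Over.homMk (cq ≫ pullback.snd (a.orbitMap x).left a.act.left) (by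
    show (cq ≫ pullback.snd _ _) ≫ (G ⊗ X).hom = cq ≫ pullback.fst _ _ ≫ G.hom
    rw [← Over.w a.act, ← Over.w (a.orbitMap x), Category.assoc, ← pullback.condition_assoc])
  have hP : P₁ ≫ a.orbitMap x = P₂ ≫ a.act := by
    apply Over.OverMorphism.ext
    show (cq ≫ pullback.fst _ _) ≫ (a.orbitMap x).left = (cq ≫ pullback.snd _ _) ≫ a.act.left
    rw [Category.assoc, Category.assoc, pullback.condition]
  have h1 : P₂ ≫ a.act = psmul a (P₂ ≫ fst G X) (P₂ ≫ snd G X) := by
    rw [psmul, ← comp_lift, lift_fst_snd, Category.comp_id]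
  have h3 : P₂ ≫ snd G X = ((P₂ ≫ fst G X)⁻¹ * P₁) ≫ a.orbitMap x := by
    rw [comp_orbitMap, mul_psmul, ← comp_orbitMap, hP, h1, ← mul_psmul, inv_mul_cancel,
      one_psmul]
  refine ⟨((P₂ ≫ fst G X)⁻¹ * P₁).left (IsLocalRing.closedPoint L), ?_, ?_⟩
  · apply inv_mul_mem C0 hC0 he
    · show (fst G X).left ((cq ≫ pullback.snd _ _) _) ∈ C0
      rw [Scheme.Hom.comp_apply, hcq, hq2]; exact hp'1
    · show (cq ≫ pullback.fst _ _) _ ∈ C0
      rw [Scheme.Hom.comp_apply, hcq, hq1]; exact hp₀C
  · rw [← Scheme.Hom.comp_apply, ← Over.comp_left, ← h3]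
    show (snd G X).left ((cq ≫ pullback.snd _ _) _) = y
    rw [Scheme.Hom.comp_apply, hcq, hq2, hp'2]

end main3

theorem main (k : Type u) [Field k] (G X : Over (Spec (CommRingCat.of k)))
    [GrpObj G] [QuasiSeparatedSpace X.left] (a : AlgGrp.Action G X) (hΦ : Surjective (lift a.act (snd G X)).left)
    (x : 𝟙_ (Over (Spec (CommRingCat.of k))) ⟶ X) (pt : ↥(𝟙_ (Over (Spec (CommRingCat.of k)))).left)
    (C0 : Set G.left) (hC0 : C0 ∈ irreducibleComponents ↥G.left) (he : η[G].left.base pt ∈ C0) :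
    (a.orbitMap x).left.base '' C0 = connectedComponent (x.left.base pt) ∧
    ∀ (K : Type u) [Field K] [Algebra k K],
      IsIrreducible ((pullback.fst X.hom (Spec.map (CommRingCat.ofHom (algebraMap k K)))).base ⁻¹' connectedComponent (x.left.base pt)) := by
  have hpt : pt = IsLocalRing.closedPoint k :=
    Subsingleton.elim (α := ↥(Spec (CommRingCat.of k))) _ _
  have he' : ∀ s, η[G].left s ∈ C0 := fun s => by
    have : s = pt := Subsingleton.elim (α := ↥(Spec (CommRingCat.of k))) _ _
    rw [this]; exact he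
  have hcc : connectedComponent (x.left.base pt) = irreducibleComponent (x.left.base pt) :=
    Groth.Agent.S3039.connectedComponent_eq k G X a hΦ _
  refine ⟨?_, ?_⟩
  · rw [hcc]
    apply Set.Subset.antisymm
    · rw [hpt]; exact orbit_subset a hΦ C0 hC0 he' x
    · intro y hy
      rw [hpt] at hy
      exact subset_orbit a hΦ C0 hC0 he' x hy
  · intro K _ _
    rw [hcc]
    exact main_iv a hΦ x pt _ (irreducibleComponent_mem_irreducibleComponents _)
      mem_irreducibleComponent K


/-- Let G be a group scheme over a field k (not assumed of finite type) acting on a quasi-separated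
k-scheme X so that G ×_k X → X ×_k X, (g, x) ↦ (gx, x), is surjective, and let x be a k-rational
point of X and C the connected component of X containing x. Then the orbit morphism g ↦ g·x maps the
irreducible component of G containing the unit point (the underlying set of the neutral component
G⁰) onto C, and for every field extension K of k the inverse image of C in X ⊗_k K is irreducible. -/
theorem result (k : Type u) [Field k] (G X : Over (Spec (CommRingCat.of k)))
    [GrpObj G] [QuasiSeparatedSpace X.left] (a : AlgGrp.Action G X) (hΦ : Surjective (lift a.act (snd G X)).left)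
    (x : 𝟙_ (Over (Spec (CommRingCat.of k))) ⟶ X) (pt : ↥(𝟙_ (Over (Spec (CommRingCat.of k)))).left)
    (C0 : Set G.left) (hC0 : C0 ∈ irreducibleComponents ↥G.left) (he : η[G].left.base pt ∈ C0) :
    (a.orbitMap x).left.base '' C0 = connectedComponent (x.left.base pt) ∧
    ∀ (K : Type u) [Field K] [Algebra k K],
      IsIrreducible ((pullback.fst X.hom (Spec.map (CommRingCat.ofHom (algebraMap k K)))).base ⁻¹' connectedComponent (x.left.base pt)) := by
  exact main k G X a hΦ x pt C0 hC0 he

end Groth.Agent.S5403
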