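import Groth.Statements.S5415
-- import your own Groth.Agent.* helpers here
import Groth.Agent.Lib.Helper40.GrpKer
import Groth.Agent.Lib.Helper40.TorsorExact
import Groth.Agent.Lib.Helper40.FpqcCovOver
import Groth.Agent.S1581

set_option autoImplicit false
universe u
open CategoryTheory MonoidalCategory CartesianMonoidalCategory MonObj GrpObj AlgebraicGeometry CategoryTheory.Limits
open SGA3x

namespace Groth.Agent.S5415

open Groth.Agent.Lib.Helper40 in
theorem isPullback_shear {S : Scheme.{u}} {G G' G'' H : Over S} [GrpObj G] [GrpObj G'] [GrpObj G'']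
    [GrpObj H] (p : G ⟶ G'') [IsMonHom p] (i : G' ⟶ G) (hker : AlgGrp.IsKernel i p) (u : G ⟶ H)
    [IsMonHom u] :
    IsPullback ((i ≫ u) ▷ G) (snd G' G * (fst G' G ≫ i))
      (lift ((snd H G ≫ u) * fst H G) (snd H G ≫ p)) (lift u p) := by
  have hmono := GrpKer.mono_of_isKernel hker
  refine TorsorExact.isPullback_of_existsUnique ?_ ?_
  · apply CartesianMonoidalCategory.hom_ext
    · simp only [Category.assoc, lift_fst, MonObj.comp_mul, MonObj.mul_comp, whiskerRight_fst,
        whiskerRight_snd_assoc]
    · have h1 : fst G' G ≫ i ≫ p = 1 := by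
        rw [← Category.assoc]
        exact GrpKer.comp_i_comp_f hker _
      simp only [Category.assoc, lift_snd, MonObj.mul_comp, whiskerRight_snd_assoc, h1,
        _root_.mul_one]
  · intro W a b hab
    have h1 : (a ≫ snd H G ≫ u) * (a ≫ fst H G) = b ≫ u := by
      have := congrArg (fun k => k ≫ fst H G'') hab
      simpa [MonObj.comp_mul] using this
    have h2 : (a ≫ snd H G) ≫ p = b ≫ p := by
      have := congrArg (fun k => k ≫ snd H G'') hab
      simpa using this
    obtain ⟨n, hn⟩ := GrpKer.exists_eq_mul_of_comp_eq hker (a ≫ snd H G) b h2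
    have h3 : (n ≫ i) ≫ u = a ≫ fst H G := by
      have : (a ≫ snd H G ≫ u) * ((n ≫ i) ≫ u) = (a ≫ snd H G ≫ u) * (a ≫ fst H G) := by
        rw [h1, hn, MonObj.mul_comp]
        simp only [Category.assoc]
      exact mul_left_cancel this
    refine ⟨lift n (a ≫ snd H G), ⟨?_, ?_⟩, ?_⟩
    · apply CartesianMonoidalCategory.hom_ext
      · rw [Category.assoc, whiskerRight_fst, ← Category.assoc, lift_fst, ← Category.assoc, h3]
      · rw [Category.assoc, whiskerRight_snd, lift_snd]
    · rw [MonObj.comp_mul, lift_snd, ← Category.assoc, lift_fst, ← hn]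
    · rintro k' ⟨hk1, hk2⟩
      have hs : k' ≫ snd G' G = a ≫ snd H G := by
        have := congrArg (fun k => k ≫ snd H G) hk1
        simpa using this
      have hf : (k' ≫ fst G' G) ≫ i = n ≫ i := by
        have h4 : (a ≫ snd H G) * ((k' ≫ fst G' G) ≫ i) = (a ≫ snd H G) * (n ≫ i) := by
          rw [← hn, ← hk2, MonObj.comp_mul, hs, Category.assoc]
        exact mul_left_cancel h4
      apply CartesianMonoidalCategory.hom_ext
      · rw [lift_fst]
        exact (cancel_mono i).mp hf
      · rw [lift_snd, hs]

/-- Let G be an S-group scheme of finite presentation over S, p : G → G'' a homomorphism which is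
surjective, flat and locally of finite presentation onto an S-group scheme G'' proper and of finite
presentation over S, and i : G' → G its kernel, with G' flat and of finite presentation over S. Let
H be an S-group scheme which is of finite presentation over S, or locally of finite presentation
over a locally Noetherian S, and u : G → H a homomorphism. If the restriction u ∘ i of u to G' is
proper, then u is proper. -/
theorem result (S : Scheme.{u}) (G G' G'' : Over S) [GrpObj G] [GrpObj G'] [GrpObj G'']
    [QuasiCompact G.hom] [QuasiSeparated G.hom] [LocallyOfFinitePresentation G.hom]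
    [IsProper G''.hom] [LocallyOfFinitePresentation G''.hom]
    [Flat G'.hom] [QuasiCompact G'.hom] [QuasiSeparated G'.hom] [LocallyOfFinitePresentation G'.hom]
    (p : G ⟶ G'') [IsMonHom p] [Surjective p.left] [Flat p.left] [LocallyOfFinitePresentation p.left]
    (i : G' ⟶ G) [IsMonHom i] (hker : AlgGrp.IsKernel i p)
    (H : Over S) [GrpObj H] [LocallyOfFinitePresentation H.hom]
    (hH : (QuasiCompact H.hom ∧ QuasiSeparated H.hom) ∨ IsLocallyNoetherian S)
    (u : G ⟶ H) [IsMonHom u] (hu : IsProper (i ≫ u).left) : IsProper u.left := by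
  have hpcov : Groth.Agent.Lib.Helper40.FpqcCov.IsCov p.left :=
    (Groth.Agent.Lib.Helper40.FpqcCov.IsQCov.of_fppf p.left).isCov
  have sq : IsPullback ((i ≫ u) ▷ G).left (snd G' G * (fst G' G ≫ i)).left
      (lift ((snd H G ≫ u) * fst H G) (snd H G ≫ p)).left (lift u p).left :=
    (isPullback_shear p i hker u).map (Over.forget S)
  have hc' : Groth.Agent.Lib.Helper40.FpqcCov.IsCov
      (lift ((snd H G ≫ u) * fst H G) (snd H G ≫ p)).left := by
    have hr : lift ((snd H G ≫ u)⁻¹ * fst H G) (snd H G) ≫
        lift ((snd H G ≫ u) * fst H G) (snd H G ≫ p) = H ◁ p := by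
      apply CartesianMonoidalCategory.hom_ext
      · simp [MonObj.comp_mul]
      · simp
    refine Groth.Agent.Lib.Helper40.FpqcCov.IsCov.of_comp_eq
      (lift ((snd H G ≫ u)⁻¹ * fst H G) (snd H G)).left ?_
      (Groth.Agent.Lib.Helper40.FpqcCov.isCov_whiskerLeft H hpcov)
    rw [← Over.comp_left, hr]
  have ht : IsProper ((i ≫ u) ▷ G).left := by
    have h := (Groth.Agent.Lib.Helper40.FpqcCov.isPullback_whiskerRight (i ≫ u) G).map
      (Over.forget S)
    exact MorphismProperty.of_isPullback (P := @IsProper) h.flip hu
  have i1 := Groth.Agent.S1581.isSeparated_descendsAlong.{u}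
  have h1 : IsSeparated (lift u p).left := hc'.descends @IsSeparated sq inferInstance
  have h2 : UniversallyClosed (lift u p).left := hc'.descends @UniversallyClosed sq inferInstance
  have h3 : LocallyOfFiniteType (lift u p).left :=
    hc'.descends @LocallyOfFiniteType sq inferInstance
  have hw : IsProper (lift u p).left := { }
  have hfst : IsProper (fst H G'').left := by
    rw [Over.fst_left]
    exact MorphismProperty.pullback_fst (P := @IsProper) _ _ inferInstance
  have e : u.left = (lift u p).left ≫ (fst H G'').left := by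
    rw [← Over.comp_left, lift_fst]
  rw [e]
  infer_instance

end Groth.Agent.S5415
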