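import Groth.Statements.S5421
import Groth.Agent.S5276
import Groth.Agent.S16611
import Groth.Agent.S16614
import Groth.Agent.S5430
import Mathlib

set_option autoImplicit false
universe u
open CategoryTheory MonoidalCategory CartesianMonoidalCategory MonObj GrpObj AlgebraicGeometry CategoryTheory.Limits
open Red

namespace Groth.Agent.S5421

open Groth.Agent.Lib.Helper43 Groth.Agent.Lib.Helper60.WittTorus Groth.Agent.Lib.Helper60.DiagChar
open Groth.Agent.S5279 Groth.Agent.S5290 Groth.Agent.S5274 Groth.Agent.S5276 Groth.Agent.S5430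
open Groth.Agent.Lib.Helper40.FpqcCov

section Triv

variable {S : Scheme.{u}} {T H : Over S} [GrpObj T] [GrpObj H] (α : T ⟶ H) [IsMonHom α]

/-- `α` is trivial on all points lying over `g` -/
def Triv {Z : Scheme.{u}} (g : Z ⟶ S) : Prop :=
  ∀ (Y : Over S) (t : Y.left ⟶ Z), Y.hom = t ≫ g → ∀ x : Y ⟶ T, x ≫ α = 1

lemma Triv.comp {Z Z' : Scheme.{u}} (g : Z ⟶ S) (k : Z' ⟶ Z) (h : Triv α g) : Triv α (k ≫ g) := by
  intro Y t ht x
  exact h Y (t ≫ k) (by rw [ht, Category.assoc]) x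

omit [IsMonHom α] in
lemma Triv.desc {Z Z' : Scheme.{u}} (g : Z ⟶ S) (k : Z' ⟶ Z) (hk : IsCov k)
    (h : Triv α (k ≫ g)) : Triv α g := by
  intro Y t ht x
  have hfst : IsCov (pullback.fst t k) := hk.of_isPullback (IsPullback.of_hasPullback t k)
  let Y' : Over S := Over.mk (pullback.fst t k ≫ Y.hom)
  let w : Y' ⟶ Y := Over.homMk (pullback.fst t k) rfl
  have : Epi w := (Over.forget S).epi_of_epi_map (by exact hfst.epi)
  have h1 := h Y' (pullback.snd t k) (by
    show pullback.fst t k ≫ Y.hom = _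
    rw [ht, pullback.condition_assoc]) (w ≫ x)
  rw [← cancel_epi w, MonObj.comp_one, ← Category.assoc]
  exact h1

omit [IsMonHom α] in
lemma triv_iff {Z : Scheme.{u}} (g : Z ⟶ S) : (Over.pullback g).map α = 1 ↔ Triv α g := by
  constructor
  · intro h Y t ht x
    obtain ⟨w, w', hw, hww⟩ := transport g t ht
    have h1 : tbInv g (w ≫ x) ≫ (Over.pullback g).map α = 1 := by rw [h, MonObj.comp_one]
    have h2 := congrArg (toBase g) h1
    rw [toBase_map, toBase_tbInv, toBase_one] at h2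
    have h3 : w ≫ (x ≫ α) = w ≫ 1 := by rw [MonObj.comp_one, ← Category.assoc, h2]
    have h4 := congrArg (fun y => w' ≫ y) h3
    simpa only [← Category.assoc, hww, Category.id_comp] using h4
  · intro h
    apply toBase_injective g
    have h1 := h ((Over.map g).obj (Red.bc g T)) (Red.bc g T).hom rfl (toBase g (𝟙 _))
    rw [← toBase_map, Category.id_comp] at h1
    rw [h1, toBase_one]

end Triv

section Local

variable {S : Scheme.{u}} {T : Over S} [GrpObj T] (α : T ⟶ Red.Gm S) [IsMonHom α]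

lemma fg_int : AddGroup.FG ℤ := Module.Finite.iff_addGroup_fg.mp inferInstance

theorem exists_LD (hT : Red.IsTorus T) :
    ∃ (S'' : Scheme.{u}) (f'' : S'' ⟶ S), Surjective f'' ∧ ∀ s'' : S'',
      ∃ (T' : Scheme.{u}) (j : T' ⟶ S''), s'' ∈ Set.range j ∧
        ((∀ (Z : Scheme.{u}) (k : Z ⟶ T'), At PFF α (k ≫ j ≫ f'') ∧
            (Nonempty Z → ¬ Triv α (k ≫ j ≫ f''))) ∨
         (∀ (Z : Scheme.{u}) (k : Z ⟶ T'), Triv α (k ≫ j ≫ f'') ∧
            (Nonempty Z → ¬ At PFF α (k ≫ j ≫ f'')))) := by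
  have hst := pff_stable.{u}
  obtain ⟨SG, fG, hflatG, hsurjG, hqcG, hlocG⟩ := hT
  refine ⟨SG, fG, hsurjG, ?_⟩
  intro s''
  obtain ⟨UG, hsG, r, ⟨eG⟩⟩ := hlocG s''
  obtain ⟨_, ⟨W₀, hW : IsAffineOpen W₀, rfl⟩, hsW, hWV⟩ :=
    SG.isBasis_affineOpens.exists_subset_of_mem_open hsG UG.2
  let W : SG.Opens := W₀
  have hWV' : W ≤ UG := hWV
  let fT : Spec (CommRingCat.of Γ(SG, W)) ⟶ S := hW.fromSpec ≫ fG
  have hrG : Set.range hW.fromSpec.base ⊆ Set.range UG.ι.base := by
    rintro _ ⟨x, rfl⟩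
    rw [Scheme.Opens.range_ι]
    have hx : hW.fromSpec x ∈ W := by
      have := hW.range_fromSpec
      rw [← SetLike.mem_coe, ← this]
      exact ⟨x, rfl⟩
    exact hWV' hx
  let gG := IsOpenImmersion.lift UG.ι hW.fromSpec hrG
  have hgG : gG ≫ UG.ι = hW.fromSpec := IsOpenImmersion.lift_fac _ _ _
  have hfG : gG ≫ UG.ι ≫ fG = fT := by
    rw [← Category.assoc, hgG]
  obtain ⟨eG'⟩ := grpIso_bc (UG.ι ≫ fG) T (Fin r → ℤ) eG gG fT hfG
  obtain ⟨eH'⟩ := Groth.Agent.S16614.splitBc (S := S) (H := Red.DS S ℤ) (M := ℤ) (Iso.refl _) fT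
  let θG : Grp.mk (Red.DS (Spec (CommRingCat.of Γ(SG, W))) (Fin r → ℤ)) ⟶
      Grp.mk (Red.DS (Spec (CommRingCat.of Γ(SG, W))) ℤ) :=
    eG'.inv ≫ (Over.pullback fT).mapGrp.map (Grp.homMk α : Grp.mk T ⟶ Grp.mk (Red.DS S ℤ)) ≫ eH'.hom
  let θ : Red.DS (Spec (CommRingCat.of Γ(SG, W))) (Fin r → ℤ) ⟶
      Red.DS (Spec (CommRingCat.of Γ(SG, W))) ℤ := θG.hom.hom
  let eGo : Red.bc fT T ≅ Red.DS (Spec (CommRingCat.of Γ(SG, W))) (Fin r → ℤ) :=
    (Grp.forget _).mapIso eG'
  let eHo : Red.bc fT (Red.DS S ℤ) ≅ Red.DS (Spec (CommRingCat.of Γ(SG, W))) ℤ :=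
    (Grp.forget _).mapIso eH'
  have hθ : θ = eGo.inv ≫ (Over.pullback fT).map α ≫ eHo.hom := rfl
  let pt := hW.primeIdealOf ⟨s'', hsW⟩
  have hpt : hW.fromSpec pt = s'' := hW.fromSpec_primeIdealOf ⟨s'', hsW⟩
  obtain ⟨f, hf, φ, hφ⟩ := ds_local θ fg_int pt.asIdeal
  have hφ' : ∀ (Z : Scheme.{u}) (k : Z ⟶ Spec (CommRingCat.of (Localization.Away f)))
      (Y : Over (Spec (CommRingCat.of Γ(SG, W)))) (t : Y.left ⟶ Z), t ≫ k ≫ j₀ f = Y.hom →
      ∀ c : Y ⟶ Red.DS (Spec (CommRingCat.of Γ(SG, W))) (Fin r → ℤ),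
        c ≫ θ = c ≫ Red.DSmap _ φ :=
    fun Z k Y t ht c => hφ Y (isUnit_ptHom k Y t ht) c
  refine ⟨Spec (CommRingCat.of (Localization.Away f)), j₀ f ≫ hW.fromSpec, ?_, ?_⟩
  · have hmem : pt ∈ (j₀ f).opensRange := by
      rw [Scheme.Hom.opensRange_localizationAway (R := CommRingCat.of Γ(SG, W)) f]
      exact hf
    obtain ⟨y, hy⟩ := hmem
    refine ⟨y, ?_⟩
    rw [Scheme.Hom.comp_apply, hy, hpt]
  · have hkk : ∀ (Z : Scheme.{u}) (k : Z ⟶ Spec (CommRingCat.of (Localization.Away f))),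
        k ≫ (j₀ f ≫ hW.fromSpec) ≫ fG = (k ≫ j₀ f) ≫ fT := by
      intro Z k
      simp only [fT, Category.assoc]
    have key : ∀ (Z : Scheme.{u}) (k : Z ⟶ Spec (CommRingCat.of (Localization.Away f))),
        At PFF α (k ≫ (j₀ f ≫ hW.fromSpec) ≫ fG) ↔ At PFF θ (k ≫ j₀ f) := by
      intro Z k
      rw [hkk]
      exact at_iff_theta PFF α fT eGo eHo θ hθ (k ≫ j₀ f)
    -- the value of `θ` on a point coming from `T`
    have hval : ∀ (Y : Over (Spec (CommRingCat.of Γ(SG, W))))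
        (c : Y ⟶ Red.DS (Spec (CommRingCat.of Γ(SG, W))) (Fin r → ℤ)),
        c ≫ θ = 1 ↔ toBase fT (c ≫ eGo.inv) ≫ α = 1 := by
      intro Y c
      have hm : IsMonHom (M := Red.bc fT (Red.DS S ℤ)) (N := Red.DS _ ℤ) eH'.hom.hom.hom :=
        eH'.hom.hom.isMonHom_hom
      have hm' : IsMonHom (M := Red.DS _ ℤ) (N := Red.bc fT (Red.DS S ℤ)) eH'.inv.hom.hom :=
        eH'.inv.hom.isMonHom_hom
      have e1 : eHo.hom ≫ eHo.inv = 𝟙 _ := eHo.hom_inv_id
      rw [← toBase_map, hθ]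
      constructor
      · intro h
        have h2 := congrArg (fun y => y ≫ eHo.inv) h
        simp only [Category.assoc, e1, Category.comp_id] at h2
        have h3 : (1 : Y ⟶ Red.DS _ ℤ) ≫ eHo.inv = 1 :=
          MonObj.one_comp (M := Red.DS _ ℤ) (N := Red.bc fT (Red.DS S ℤ)) eH'.inv.hom.hom
        rw [Category.assoc, h2, h3, toBase_one]
      · intro h
        have h2 := toBase_injective fT (h.trans (toBase_one fT).symm)
        rw [← Category.assoc, ← Category.assoc, h2]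
        exact MonObj.one_comp (M := Red.bc fT (Red.DS S ℤ)) (N := Red.DS _ ℤ) eH'.hom.hom.hom
    by_cases hi : Function.Injective φ
    · left
      intro Z k
      refine ⟨?_, ?_⟩
      · rw [key]
        show PFF ((Over.pullback (k ≫ j₀ f)).map θ).left
        rw [bc_map_eq_of_pts θ (Red.DSmap _ φ) (k ≫ j₀ f) (hφ' Z k)]
        exact MorphismProperty.of_isPullback
          (Groth.Agent.S5284.isPullback_pullback_map_left (k ≫ j₀ f) (Red.DSmap _ φ))
          (pff_DSmap _ φ hi)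
      · rintro ⟨z⟩ hTr
        obtain ⟨Y, t₀, ht₀, c, hc⟩ := exists_univ_pt (Z.residueField z)
          (Z.fromSpecResidueField z ≫ k ≫ j₀ f) (Fin r → ℤ)
        have ht : (t₀ ≫ Z.fromSpecResidueField z) ≫ k ≫ j₀ f = Y.hom :=
          (Category.assoc t₀ (Z.fromSpecResidueField z) (k ≫ j₀ f)).trans ht₀
        have h1 := hTr ((Over.map fT).obj Y) (t₀ ≫ Z.fromSpecResidueField z) (by
          show Y.hom ≫ fT = _
          rw [← ht]
          simp only [fT, Category.assoc]) (toBase fT (c ≫ eGo.inv))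
        have h2 := (hval Y c).mpr h1
        rw [hφ' Z k Y _ ht c] at h2
        have h3 := congrArg (chFn (1 : ℤ)) h2
        rw [chFn_DSmap, chFn_one] at h3
        have h4 := hc _ h3
        have h5 : φ 1 = φ 0 := by rw [h4, map_zero]
        exact one_ne_zero (hi h5)
    · right
      have hφ0 : φ = 0 := by
        rw [injective_iff_map_eq_zero] at hi
        simp only [not_forall] at hi
        obtain ⟨n, hn, hn0⟩ := hi
        have h1 : n • (φ (1 : ℤ)) = (0 : Fin r → ℤ) := by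
          rw [← map_zsmul, smul_eq_mul, _root_.mul_one, hn]
        have h2 : φ (1 : ℤ) = (0 : Fin r → ℤ) := (smul_eq_zero.mp h1).resolve_left hn0
        ext m
        rw [h2]
        rfl
      intro Z k
      refine ⟨?_, ?_⟩
      · intro Y t ht x
        have hY : Y.hom = (t ≫ k ≫ j₀ f) ≫ fT := by
          rw [ht]
          simp only [fT, Category.assoc]
        obtain ⟨w, w', hw, hww⟩ := transport fT (t ≫ k ≫ j₀ f) hY
        let c : Over.mk (t ≫ k ≫ j₀ f) ⟶ Red.DS _ (Fin r → ℤ) := tbInv fT (w ≫ x) ≫ eGo.hom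
        have hc1 : c ≫ θ = 1 := by
          rw [hφ' Z k (Over.mk (t ≫ k ≫ j₀ f)) t rfl c, hφ0]
          apply chFn_injective
          intro m
          rw [chFn_DSmap, chFn_one]
          exact chFn_zero c
        have h1 := (hval _ c).mp hc1
        have e1 : eGo.hom ≫ eGo.inv = 𝟙 _ := eGo.hom_inv_id
        simp only [c, Category.assoc, e1, Category.comp_id, toBase_tbInv] at h1
        have h3 : w ≫ (x ≫ α) = w ≫ 1 := by
          rw [MonObj.comp_one]
          exact (Category.assoc _ _ _).symm.trans h1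
        have h4 := congrArg (fun y => w' ≫ y) h3
        simpa only [← Category.assoc, hww, Category.id_comp] using h4
      · rintro ⟨z⟩ hP
        rw [key] at hP
        exact hi (inj_of_pff θ φ (k ≫ j₀ f) z (hφ' Z k) hP)

end Local


section Global

theorem isMultTypeFT_Gm (S : Scheme.{u}) : SGA3x.IsMultTypeFT (Red.Gm S) := by
  refine ⟨S, 𝟙 S, inferInstance, inferInstance, ?_, ?_⟩
  · intro V hV
    exact ⟨V, hV.isCompact, by simp⟩
  · intro s'
    exact ⟨⊤, trivial, ℤ, inferInstance, fg_int, Groth.Agent.S16614.splitBc (Iso.refl _) _⟩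

lemma pff_of_bc_iso {S : Scheme.{u}} {T H : Over S} (α : T ⟶ H) {Z : Scheme.{u}} (g : Z ⟶ S)
    [IsIso g] (h : PFF ((Over.pullback g).map α).left) : PFF α.left := by
  have hst := pff_stable.{u}
  have sq := Groth.Agent.S5284.isPullback_pullback_map_left g α
  rw [← MorphismProperty.cancel_left_of_respectsIso PFF (pullback.fst T.hom g), sq.w,
    MorphismProperty.cancel_right_of_respectsIso PFF]
  exact h

lemma geomPt_apply {S : Scheme.{u}} (s : S)
    (x : Spec (CommRingCat.of (AlgebraicClosure (S.residueField s)))) : Red.geomPt s x = s := by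
  unfold Red.geomPt
  rw [Scheme.Hom.comp_apply, Scheme.fromSpecResidueField_apply]

theorem main_aux (S : Scheme.{u}) (T : Over S) [GrpObj T] (hT : Red.IsTorus T) (α : T ⟶ Red.Gm S) [IsMonHom α] :
    ((∀ s : S, (Over.pullback (Red.geomPt s)).map α ≠ 1) ↔
      (∀ (S' : Scheme.{u}) (g : S' ⟶ S), Nonempty ↥S' → (Over.pullback g).map α ≠ 1)) ∧
    ((∀ s : S, (Over.pullback (Red.geomPt s)).map α ≠ 1) ↔ (Flat α.left ∧ Surjective α.left)) := by
  have hst := pff_stable.{u}
  have hds := pff_descends.{u}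
  obtain ⟨S'', f'', hsurj, hLD⟩ := exists_LD α hT
  -- pullbacks over a common point are nonempty
  have hne : ∀ {Z₁ Z₂ : Scheme.{u}} (g₁ : Z₁ ⟶ S) (g₂ : Z₂ ⟶ S) (z₁ : Z₁) (z₂ : Z₂),
      g₁ z₁ = g₂ z₂ → Nonempty ↥(pullback g₁ g₂) := by
    intro Z₁ Z₂ g₁ g₂ z₁ z₂ h
    obtain ⟨z, -, -⟩ := Scheme.Pullback.exists_preimage_pullback (f := g₁) (g := g₂) z₁ z₂ h
    exact ⟨z⟩
  -- the closed point of the geometric point
  have hgp : ∀ s : S, ∃ x : Spec (CommRingCat.of (AlgebraicClosure (S.residueField s))),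
      Red.geomPt s x = s := by
    intro s
    exact ⟨IsLocalRing.closedPoint (AlgebraicClosure (S.residueField s)), geomPt_apply s _⟩
  have h12 : (∀ s : S, (Over.pullback (Red.geomPt s)).map α ≠ 1) →
      (∀ (S' : Scheme.{u}) (g : S' ⟶ S), Nonempty ↥S' → (Over.pullback g).map α ≠ 1) := by
    intro h1 S' g ⟨s'⟩ htr
    rw [triv_iff] at htr
    obtain ⟨s'', hs''⟩ := hsurj.surj (g s')
    obtain ⟨T', j, ⟨y, hy⟩, hbr⟩ := hLD s''
    have hy' : g s' = (j ≫ f'') y := by
      rw [Scheme.Hom.comp_apply, hy, hs'']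
    have hZ₁ := hne g (j ≫ f'') s' y hy'
    have htr₁ : Triv α (pullback.snd g (j ≫ f'') ≫ j ≫ f'') := by
      rw [← pullback.condition]
      exact Triv.comp α _ _ htr
    rcases hbr with hb | hb
    · exact (hb _ (pullback.snd g (j ≫ f''))).2 hZ₁ htr₁
    · obtain ⟨x, hx⟩ := hgp (g s')
      have hZ₂ := hne (Red.geomPt (g s')) (j ≫ f'') x y (hx.trans hy')
      obtain ⟨z⟩ := hZ₂
      have htr₂ : Triv α (pullback.fst (Red.geomPt (g s')) (j ≫ f'') ≫ Red.geomPt (g s')) := by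
        rw [pullback.condition]
        exact (hb _ _).1
      let κ := (pullback (Red.geomPt (g s')) (j ≫ f'')).fromSpecResidueField z ≫
        pullback.fst (Red.geomPt (g s')) (j ≫ f'')
      have hκ : IsCov κ := by
        rw [← Spec.map_preimage κ]
        exact isCov_SpecMap_field (Spec.preimage κ).hom
      have htr₃ : Triv α (κ ≫ Red.geomPt (g s')) := by
        have := Triv.comp α _ ((pullback (Red.geomPt (g s')) (j ≫ f'')).fromSpecResidueField z) htr₂
        rwa [← Category.assoc] at this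
      have htr₄ := Triv.desc α _ κ hκ htr₃
      exact h1 (g s') ((triv_iff α _).mpr htr₄)
  have h21 : (∀ (S' : Scheme.{u}) (g : S' ⟶ S), Nonempty ↥S' → (Over.pullback g).map α ≠ 1) →
      (∀ s : S, (Over.pullback (Red.geomPt s)).map α ≠ 1) := by
    intro h2 s
    obtain ⟨x, -⟩ := hgp s
    exact h2 _ (Red.geomPt s) ⟨x⟩
  refine ⟨⟨h12, h21⟩, ⟨?_, ?_⟩⟩
  · intro h1
    have h2 := h12 h1
    obtain ⟨U, hUc, hUmem, hUP⟩ := Groth.Agent.S5276.main_aux T (Red.Gm S)
      (Groth.Agent.S16611.isMultTypeFT_of_isTorus hT) (isMultTypeFT_Gm S) α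
    have hall : ∀ s : S, s ∈ U := by
      intro s
      obtain ⟨s'', hs''⟩ := hsurj.surj s
      obtain ⟨T', j, ⟨y, hy⟩, hbr⟩ := hLD s''
      have hy' : (j ≫ f'') y = s := by
        rw [Scheme.Hom.comp_apply, hy, hs'']
      rcases hbr with hb | hb
      · have hP := (hb _ (T'.fromSpecResidueField y)).1
        have hP' := (at_residue_iff PFF α (j ≫ f'') y).mpr hP
        rw [← hy', hUmem]
        exact hP'
      · exfalso
        have htr := (hb T' (𝟙 T')).1
        exact h2 T' (𝟙 T' ≫ j ≫ f'') ⟨y⟩ ((triv_iff α _).mpr htr)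
    have hU : U = ⊤ := by
      ext s
      simp [hall s]
    subst hU
    have : IsIso (⊤ : S.Opens).ι := inferInstanceAs (IsIso S.topIso.hom)
    exact pff_of_bc_iso α (⊤ : S.Opens).ι hUP
  · intro hP s htr
    rw [triv_iff] at htr
    have hPall : ∀ {Z : Scheme.{u}} (g : Z ⟶ S), At PFF α g := fun g =>
      MorphismProperty.of_isPullback (Groth.Agent.S5284.isPullback_pullback_map_left g α) hP
    obtain ⟨s'', hs''⟩ := hsurj.surj s
    obtain ⟨T', j, ⟨y, hy⟩, hbr⟩ := hLD s''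
    have hy' : (j ≫ f'') y = s := by
      rw [Scheme.Hom.comp_apply, hy, hs'']
    obtain ⟨x, hx⟩ := hgp s
    have hZ₂ := hne (Red.geomPt s) (j ≫ f'') x y (hx.trans hy'.symm)
    have htr₂ : Triv α (pullback.snd (Red.geomPt s) (j ≫ f'') ≫ j ≫ f'') := by
      rw [← pullback.condition]
      exact Triv.comp α _ _ htr
    rcases hbr with hb | hb
    · exact (hb _ _).2 hZ₂ htr₂
    · exact (hb _ (pullback.snd (Red.geomPt s) (j ≫ f''))).2 hZ₂ (hPall _)

end Global

/-- Let T be an S-torus and α : T → G_{m,S} a character. The following are equivalent: (i) for every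
point s of S the character induced on the geometric fibre at s is not the trivial character; (ii)
for every morphism S' → S with S' non-empty the base change of α is not the trivial character; (iii)
α is faithfully flat (flat and surjective). -/
theorem result (S : Scheme.{u}) (T : Over S) [GrpObj T] (hT : Red.IsTorus T) (α : T ⟶ Red.Gm S) [IsMonHom α] :
    ((∀ s : S, (Over.pullback (Red.geomPt s)).map α ≠ 1) ↔
      (∀ (S' : Scheme.{u}) (g : S' ⟶ S), Nonempty ↥S' → (Over.pullback g).map α ≠ 1)) ∧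
    ((∀ s : S, (Over.pullback (Red.geomPt s)).map α ≠ 1) ↔ (Flat α.left ∧ Surjective α.left)) := by
  exact main_aux S T hT α

end Groth.Agent.S5421
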