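import Groth.Statements.S5422
import Groth.Agent.Lib.Helper75.UnipExt

set_option autoImplicit false
universe u
open TensorProduct
open SGA3t2b

namespace Groth.Agent.S5422


/-- the unipotent filtration of the regular comodule is reflected by injective bialgebra maps -/
theorem mem_ufilt_of_map_mem_ufilt {k : Type u} [Field k] {C A : Type u} [CommRing C] [Bialgebra k C]
    [CommRing A] [Bialgebra k A] (ψ : C →ₐc[k] A) (hψ : Function.Injective ψ) (n : ℕ) :
    ∀ c : C, ψ c ∈ Lib.Helper75.ufilt k A A n → c ∈ Lib.Helper75.ufilt k C C n := by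
  induction n with
  | zero =>
    intro c hc
    rw [Lib.Helper75.ufilt_zero, Submodule.mem_bot] at hc ⊢
    exact hψ (hc.trans (map_zero ψ).symm)
  | succ n ih =>
    intro c hc
    rw [Lib.Helper75.ufilt_succ, Lib.Helper75.mem_ustep] at hc ⊢
    intro f
    obtain ⟨g, hg⟩ := LinearMap.exists_leftInverse_of_injective (ψ : C →ₗ[k] A)
      (LinearMap.ker_eq_bot.2 hψ)
    have hfg : (f ∘ₗ g) ∘ₗ (ψ : C →ₗ[k] A) = f := by
      rw [LinearMap.comp_assoc, hg, LinearMap.comp_id]
    apply ih
    have h1 := hc (f ∘ₗ g)
    rw [Lib.Helper75.act_map, hfg] at h1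
    have h2 : (f ∘ₗ g) 1 = f 1 := by
      have : (1 : A) = (ψ : C →ₗ[k] A) 1 := (map_one ψ).symm
      rw [this, ← LinearMap.comp_apply, hfg]
    rw [h2] at h1
    rw [map_sub, map_smul]
    exact h1

/-- Parts (ii), (iii) and (iv) (Hopf-algebra form; 'unipotent' in the fixed-vector form: every non-zero
finite-dimensional representation has a non-zero fixed vector, which is equivalent to the published
definition for affine algebraic groups): let k be a field and A the coordinate Hopf algebra of an
affine algebraic k-group E. (ii) If E is unipotent, so is every closed subgroup Spec B (B a Hopf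
quotient of A, φ : A → B a surjective bialgebra map). (iii) If E is unipotent, so is every quotient
group Spec C (ψ : C → A an injective bialgebra map). (iv) If ψ : C → A is an injective bialgebra map
(quotient U = Spec C), J the Hopf ideal of A generated by the image of the augmentation ideal of C
(kernel N = Spec (A/J)), and both U and N are unipotent, then E is unipotent. -/
theorem result (k : Type u) [Field k] (A : Type u) [CommRing A] [HopfAlgebra k A] [Algebra.FiniteType k A] :
    (∀ (B : Type u) [CommRing B] [HopfAlgebra k B] [Algebra.FiniteType k B] (φ : A →ₐc[k] B),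
      Function.Surjective φ → HopfRep.IsUnipotent k A → HopfRep.IsUnipotent k B) ∧
    (∀ (C : Type u) [CommRing C] [HopfAlgebra k C] [Algebra.FiniteType k C] (ψ : C →ₐc[k] A),
      Function.Injective ψ → HopfRep.IsUnipotent k A → HopfRep.IsUnipotent k C) ∧
    (∀ (C : Type u) [CommRing C] [HopfAlgebra k C] [Algebra.FiniteType k C] (ψ : C →ₐc[k] A)
      (J : Ideal A) [J.IsHopfIdeal k],
      Function.Injective ψ → J = Ideal.map (ψ : C →+* A) (RingHom.ker (Bialgebra.counitAlgHom k C)) →
      HopfRep.IsUnipotent k C → HopfRep.IsUnipotent k (A ⧸ J) → HopfRep.IsUnipotent k A) := by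
  refine ⟨?_, ?_, ?_⟩
  · intro B _ _ _ φ hφ hA
    exact Lib.Helper75.HopfCoinv.isUnipotent_of_surjective φ hφ hA
  · intro C _ _ _ ψ hψ hA
    apply Lib.Helper75.isUnipotent_of_forall_mem_ufilt
    intro c
    obtain ⟨n, hn⟩ := Lib.Helper75.exists_mem_ufilt_regular hA (ψ c)
    exact ⟨n, mem_ufilt_of_map_mem_ufilt ψ hψ n c hn⟩
  · intro C _ _ _ ψ J _ hψ hJ hC hN
    subst hJ
    exact Lib.Helper75.HopfCoinv.isUnipotent_of_extension ψ hψ hC hN

end Groth.Agent.S5422
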