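import Groth.Statements.S5423
import Groth.Agent.Lib.Helper75.UnipPoints

set_option autoImplicit false
universe u
open TensorProduct
open SGA3t2b

namespace Groth.Agent.S5423

/-- Let k be an algebraically closed field and A a reduced finitely generated commutative Hopf algebra
over k (a smooth affine algebraic k-group G). Then G is unipotent (every non-zero finite-dimensional
representation has a non-zero fixed vector) if and only if every element of G(k) is unipotent, i.e.
every k-point g : A → k acts on every finite-dimensional comodule V by an endomorphism g_V with g_V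
− 1 nilpotent. -/
theorem result (k : Type u) [Field k] [IsAlgClosed k] (A : Type u) [CommRing A] [HopfAlgebra k A] [Algebra.FiniteType k A]
    [IsReduced A] :
    HopfRep.IsUnipotent k A ↔
      ∀ (g : A →ₐ[k] k) (V : Type u) [AddCommGroup V] [Module k V] [HopfRep.Comod k A V],
        Module.Finite k V → IsNilpotent (HopfRep.Comod.act k A V g - LinearMap.id) := by
  classical
  have hbridge : ∀ (V : Type u) [AddCommGroup V] [Module k V] [HopfRep.Comod k A V] (g : A →ₐ[k] k),
      HopfRep.Comod.act k A V g = Groth.Agent.Lib.Helper75.act g.toLinearMap := fun V _ _ _ g => rfl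
  constructor
  · -- unipotent ⇒ points act unipotently
    intro hU g V _ _ _ hfin
    rw [hbridge]
    have htop := Groth.Agent.Lib.Helper75.ufilt_eq_top_of_isUnipotent hU (Module.finrank k V) V le_rfl
    have key : ∀ n : ℕ, ∀ v ∈ Groth.Agent.Lib.Helper75.ufilt k A V n,
        ((Groth.Agent.Lib.Helper75.act g.toLinearMap - LinearMap.id : V →ₗ[k] V) ^ n) v = 0 := by
      intro n
      induction n with
      | zero =>
        intro v hv
        rw [Groth.Agent.Lib.Helper75.ufilt_zero, Submodule.mem_bot] at hv
        rw [hv, map_zero]
      | succ n ih =>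
        intro v hv
        rw [Groth.Agent.Lib.Helper75.ufilt_succ, Groth.Agent.Lib.Helper75.mem_ustep] at hv
        have h1 := hv g.toLinearMap
        have h2 : g.toLinearMap (1 : A) = 1 := map_one g
        rw [h2, one_smul] at h1
        rw [pow_succ, Module.End.mul_apply]
        exact ih _ h1
    refine ⟨Module.finrank k V, ?_⟩
    apply LinearMap.ext
    intro v
    rw [LinearMap.zero_apply]
    exact key _ v (by rw [htop]; trivial)
  · -- points act unipotently ⇒ unipotent
    intro h V _ _ cV hfin hnt
    letI := Groth.Agent.Lib.Helper75.comodModule (K := k) (A := A) (V := V)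
    have htopne : (⊤ : Submodule (Groth.Agent.Lib.Helper75.DualAlg k A) V) ≠ ⊥ := by
      intro hb
      obtain ⟨v, hv⟩ := exists_ne (0 : V)
      have : v ∈ (⊤ : Submodule (Groth.Agent.Lib.Helper75.DualAlg k A) V) := trivial
      rw [hb, Submodule.mem_bot] at this
      exact hv this
    obtain ⟨N, -, hN⟩ := Groth.Agent.Lib.Helper75.exists_simple_le _ htopne
    have hS := Groth.Agent.Lib.Helper75.isSubcomod_restrictScalars N
    have hN' : IsSimpleModule (Groth.Agent.Lib.Helper75.DualAlg k A)
        (Groth.Agent.Lib.Helper75.toDualSubmodule (N.restrictScalars k) hS) := by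
      rw [Groth.Agent.Lib.Helper75.toDualSubmodule_restrictScalars']
      exact hN
    letI cS := Groth.Agent.Lib.Helper75.restrComod (N.restrictScalars k) hS
    have hsimple := Groth.Agent.Lib.Helper75.isSimpleComod_restr (N.restrictScalars k) hS hN'
    have hnil : ∀ g : A →ₐ[k] k, IsNilpotent
        (Groth.Agent.Lib.Helper75.act g.toLinearMap - LinearMap.id :
          (N.restrictScalars k) →ₗ[k] (N.restrictScalars k)) := by
      intro g
      have := h g (N.restrictScalars k) inferInstance
      rw [hbridge] at this
      exact this
    have hact := Groth.Agent.Lib.Helper75.act_eq_smul_of_simple_of_points_unipotent hsimple hnil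
    haveI : Nontrivial (N.restrictScalars k) := hsimple.1
    obtain ⟨s, hs⟩ := exists_ne (0 : N.restrictScalars k)
    intro hbot
    have hmem : (s : V) ∈ HopfRep.fixedPts k A V := by
      show HopfRep.Comod.coact (k := k) (A := A) (s : V) = (s : V) ⊗ₜ[k] (1 : A)
      apply Groth.Agent.Lib.Helper75.eq_of_contractR_eq
      intro f
      rw [Groth.Agent.Lib.Helper75.contractR_tmul]
      have h1 := Groth.Agent.Lib.Helper75.act_restr (N.restrictScalars k) hS f s
      rw [hact f s] at h1
      exact h1.symm
    rw [hbot, Submodule.mem_bot] at hmem
    exact hs (Subtype.ext hmem)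

end Groth.Agent.S5423
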