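import Groth.Statements.S5427
import Mathlib.RingTheory.Int.Basic
import Mathlib.Data.ZMod.QuotientRing
import Mathlib.RingTheory.SimpleModule.Basic

set_option autoImplicit false
universe u
open CategoryTheory MonoidalCategory CartesianMonoidalCategory MonObj GrpObj AlgebraicGeometry CategoryTheory.Limits
open Red

namespace Groth.Agent.S5427

open CategoryTheory Limits in
theorem isPullback_pullback_map_left {C : Type*} [Category C] [HasPullbacks C] {X Y : C}
    (f : X ⟶ Y) {h k : Over Y} (g : h ⟶ k) :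
    IsPullback (pullback.fst h.hom f) ((Over.pullback f).map g).left g.left
      (pullback.fst k.hom f) := by
  refine IsPullback.of_bot (v₂₁ := pullback.snd k.hom f) (v₂₂ := k.hom) (h₃₁ := f) ?_ ?_
    (IsPullback.of_hasPullback k.hom f)
  · have h1 : ((Over.pullback f).map g).left ≫ pullback.snd k.hom f = pullback.snd h.hom f := by
      exact pullback.lift_snd _ _ _
    rw [h1, Over.w g]
    exact IsPullback.of_hasPullback h.hom f
  · exact (pullback.lift_fst _ _ _).symm

/-- Let S be a scheme and G = D_S(M) a diagonalizable S-group of finite type, M a non-trivial finitely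
generated commutative group. Then there are a prime number r and a closed subgroup of G isomorphic
to (μ_r)_S: a homomorphism of S-groups D_S(ℤ/r) → D_S(M) which is a closed immersion. -/
theorem result (S : Scheme.{u}) (M : Type) [AddCommGroup M] [AddGroup.FG M] [Nontrivial M] :
    ∃ (r : ℕ) (_ : r.Prime) (j : Red.DS S (ZMod r) ⟶ Red.DS S M), IsMonHom j ∧ IsClosedImmersion j.left := by
  obtain ⟨r, hr, φ, hφ⟩ : ∃ (r : ℕ) (_ : r.Prime) (φ : M →+ ZMod r), Function.Surjective φ := by
    haveI : Module.Finite ℤ M := Module.Finite.iff_addGroup_fg.mpr ‹_›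
    obtain ⟨N, hN⟩ : ∃ N : Submodule ℤ M, IsCoatom N := by
      rcases eq_top_or_exists_le_coatom (⊥ : Submodule ℤ M) with h | ⟨N, hN, -⟩
      · exact absurd h bot_ne_top
      · exact ⟨N, hN⟩
    haveI hs : IsSimpleModule ℤ (M ⧸ N) := isSimpleModule_iff_isCoatom.mpr hN
    obtain ⟨I, hI, ⟨e⟩⟩ := isSimpleModule_iff_quot_maximal.mp hs
    have hI0 : I ≠ ⊥ := Ring.ne_bot_of_isMaximal_of_not_isField hI Int.not_isField
    obtain ⟨n, rfl⟩ : ∃ n : ℤ, I = Ideal.span {n} :=
      ⟨_, (Submodule.IsPrincipal.span_singleton_generator I).symm⟩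
    have hn0 : n ≠ 0 := by
      rintro rfl
      exact hI0 (by simp)
    have hnp : Prime n := (Ideal.span_singleton_prime hn0).mp hI.isPrime
    have hp : n.natAbs.Prime := Int.prime_iff_natAbs_prime.mp hnp
    have hspan : Ideal.span {n} = Ideal.span {(n.natAbs : ℤ)} := by
      rw [Int.span_natAbs]
    let e2 : (ℤ ⧸ Ideal.span {n}) ≃+* ZMod n.natAbs :=
      (Ideal.quotEquivOfEq hspan).trans (Int.quotientSpanNatEquivZMod n.natAbs)
    refine ⟨n.natAbs, hp,
      (e2.toAddMonoidHom.comp e.toLinearMap.toAddMonoidHom).comp N.mkQ.toAddMonoidHom, ?_⟩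
    intro x
    obtain ⟨y, rfl⟩ := e2.surjective x
    obtain ⟨z, rfl⟩ := e.surjective y
    obtain ⟨m, rfl⟩ := N.mkQ_surjective z
    exact ⟨m, rfl⟩
  refine ⟨r, hr, Red.DSmap S φ, ?_, ?_⟩
  · -- IsMonHom
    unfold Red.DSmap
    haveI : IsMonHom (Red.diagMap (ULift.{u} ℤ) φ) := by
      let F := MonoidAlgebra.mapDomainBialgHom (R := ULift.{u} ℤ) (AddMonoidHom.toMultiplicative φ)
      let g := (bialgSpec (CommRingCat.of (ULift.{u} ℤ))).map
        (Quiver.Hom.op (CommBialgCat.ofHom F))
      have : Red.diagMap (ULift.{u} ℤ) φ = g.hom := by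
        rfl
      rw [this]
      exact g.isMonHom_hom
    infer_instance
  · have hsq := isPullback_pullback_map_left
      (Limits.IsTerminal.from specULiftZIsTerminal S) (Red.diagMap (ULift.{u} ℤ) φ)
    refine MorphismProperty.of_isPullback (P := @IsClosedImmersion) hsq ?_
    change IsClosedImmersion (Spec.map (CommRingCat.ofHom _))
    apply IsClosedImmersion.spec_of_surjective
    intro y
    induction y using MonoidAlgebra.induction_linear with
    | zero => exact ⟨0, map_zero _⟩
    | add a b ha hb =>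
      obtain ⟨x, rfl⟩ := ha
      obtain ⟨x', rfl⟩ := hb
      exact ⟨x + x', map_add _ _ _⟩
    | single n c =>
      obtain ⟨m, hm⟩ := hφ (Multiplicative.toAdd n)
      refine ⟨MonoidAlgebra.single (Multiplicative.ofAdd m) c, ?_⟩
      change MonoidAlgebra.mapDomainAlgHom (ULift.{u} ℤ) (ULift.{u} ℤ)
        (AddMonoidHom.toMultiplicative φ) (MonoidAlgebra.single (Multiplicative.ofAdd m) c) = _
      simp [MonoidAlgebra.mapDomainAlgHom, hm]

end Groth.Agent.S5427
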