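import Groth.Statements.S5434
import Groth.Agent.Lib.QCoh.Helper18_SchDenseExt

set_option autoImplicit false
universe u
open CategoryTheory MonoidalCategory CartesianMonoidalCategory MonObj GrpObj AlgebraicGeometry CategoryTheory.Limits
open SGA3x

namespace Groth.Agent.S5434

/-- Let X be an S-scheme and U an open subscheme of X which is schematically dense in X relative to S:
for every S′ → S the preimage of U in X ×_S S′ is schematically dense (restriction of functions to
it is injective on every open). Let Y be an S-scheme whose fibres Y_s are separated (over κ(s)). If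
two S-morphisms f, g : X → Y agree on U, then f = g. -/
theorem result (S : Scheme.{u}) (X Y : Over S) (U : X.left.Opens) (hU : (∀ (S' : Scheme.{u}) (g : S' ⟶ S), CInt.IsSchematicallyDense ((pullback.fst X.hom g) ⁻¹ᵁ U)))
    (hY : ∀ s : S, IsSeparated (pullback.snd Y.hom (S.fromSpecResidueField s)))
    (f g : X ⟶ Y) (h : U.ι ≫ f.left = U.ι ≫ g.left) : f = g := by
  apply Over.OverMorphism.ext
  have hU0 : CInt.IsSchematicallyDense U :=
    Groth.Agent.Lib.QCoh.isSchematicallyDense_of_preimage_of_isIso
      (pullback.fst X.hom (𝟙 S)) U (hU S (𝟙 S))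
  apply Groth.Agent.Lib.QCoh.ext_of_isSchematicallyDense_of_forall_eq U hU0 _ h
  intro x
  set s : S := X.hom x with hs
  set j := S.fromSpecResidueField s with hj
  set p := pullback.fst X.hom j with hp
  set q := pullback.snd X.hom j with hq
  have hfw : f.left ≫ Y.hom = X.hom := Over.w f
  have hgw : g.left ≫ Y.hom = X.hom := Over.w g
  let f' : pullback X.hom j ⟶ pullback Y.hom j :=
    pullback.lift (p ≫ f.left) q (by rw [Category.assoc, hfw]; exact pullback.condition)
  let g' : pullback X.hom j ⟶ pullback Y.hom j :=
    pullback.lift (p ≫ g.left) q (by rw [Category.assoc, hgw]; exact pullback.condition)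
  have := hY s
  have key : f' = g' := by
    apply Groth.Agent.Lib.QCoh.ext_of_isSchematicallyDense_of_isSeparated (p ⁻¹ᵁ U) (hU _ j)
      (pullback.snd Y.hom j)
    · rw [pullback.lift_snd, pullback.lift_snd]
    · apply pullback.hom_ext
      · rw [Category.assoc, Category.assoc, pullback.lift_fst, pullback.lift_fst]
        have h1 : (p ⁻¹ᵁ U).ι ≫ p = (p ∣_ U) ≫ U.ι := (morphismRestrict_ι p U).symm
        rw [reassoc_of% h1, reassoc_of% h1, h]
      · rw [Category.assoc, Category.assoc, pullback.lift_snd, pullback.lift_snd]
  obtain ⟨y⟩ : Nonempty (Spec (S.residueField s)) := inferInstance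
  have hy : X.hom x = j y := by rw [hj, Scheme.fromSpecResidueField_apply]
  obtain ⟨x', hx'1, -⟩ := Scheme.Pullback.exists_preimage_pullback x y hy
  have h1 : f.left x = (pullback.fst Y.hom j) (f' x') := by
    rw [← Scheme.Hom.comp_apply, pullback.lift_fst, Scheme.Hom.comp_apply, hx'1]
  have h2 : g.left x = (pullback.fst Y.hom j) (g' x') := by
    rw [← Scheme.Hom.comp_apply, pullback.lift_fst, Scheme.Hom.comp_apply, hx'1]
  rw [h1, h2, key]

end Groth.Agent.S5434
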