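import Groth.Statements.S5444
import Mathlib
import Groth.Agent.Lib.Helper21.FibreClosureDim
import Groth.Agent.Lib.Helper21.ValTrdegSch
import Groth.Agent.Lib.Helper21.OpenGeneralizing
import Groth.Agent.Lib.Helper96.UnivOpenAt
-- import your own Groth.Agent.* helpers here

set_option autoImplicit false
set_option linter.style.haveILetI false
set_option linter.unusedSectionVars false
set_option linter.unusedVariables false
universe u
open CategoryTheory AlgebraicGeometry Topology
open SGA3x

namespace Groth.Agent.S5444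

open Groth.Agent.Lib.Helper21.FieldDim Groth.Agent.Lib.Helper21.FibreClosureDim
open Groth.Agent.Lib.Helper21 Groth.Agent.Lib.Helper21.ValTrdeg
open CategoryTheory.Limits

section Helpers

variable {S Y T : Scheme.{u}} (f : Y ⟶ S) (φ : T ⟶ S)

/-- the base change of a section. -/
noncomputable def sec (a : S ⟶ Y) (ha : a ≫ f = 𝟙 S) : T ⟶ pullback f φ :=
  pullback.lift (φ ≫ a) (𝟙 T) (by rw [Category.assoc, ha, Category.comp_id, Category.id_comp])

@[reassoc]
theorem sec_snd (a : S ⟶ Y) (ha : a ≫ f = 𝟙 S) : sec f φ a ha ≫ pullback.snd f φ = 𝟙 T :=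
  pullback.lift_snd _ _ _

theorem sec_fst (a : S ⟶ Y) (ha : a ≫ f = 𝟙 S) : sec f φ a ha ≫ pullback.fst f φ = φ ≫ a :=
  pullback.lift_fst _ _ _

theorem isPullback_sec (a : S ⟶ Y) (ha : a ≫ f = 𝟙 S) :
    IsPullback (sec f φ a ha) φ (pullback.fst f φ) a := by
  have hright : IsPullback (pullback.snd f φ) (pullback.fst f φ) φ f :=
    (IsPullback.of_hasPullback f φ).flip
  have houter : IsPullback (sec f φ a ha ≫ pullback.snd f φ) φ φ (a ≫ f) := by
    rw [sec_snd, ha]
    exact IsPullback.of_horiz_isIso ⟨by simp⟩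
  exact IsPullback.of_right houter (sec_fst f φ a ha) hright

/-- a point of the base change lying over a point of the section is on the base-changed section. -/
theorem eq_sec_of_fst_eq (a : S ⟶ Y) (ha : a ≫ f = 𝟙 S) (w : ↑(pullback f φ)) (s : S)
    (hw : (pullback.fst f φ).base w = a.base s) :
    w = (sec f φ a ha).base ((pullback.snd f φ).base w) := by
  obtain ⟨r, hr1, hr2⟩ := Groth.Agent.Lib.Helper96.UnivOpenAt.exists_preimage_of_isPullback
    (isPullback_sec f φ a ha).flip s w hw.symm
  rw [← hr2, ← Scheme.Hom.comp_apply, ← Scheme.Hom.comp_apply, sec_snd_assoc]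

end Helpers

/-- Let f : Y → S be a morphism of finite presentation, (a_i)_{i ∈ I} a family of sections of f, and s₀,
s₁ two points of S with s₀ a specialization of s₁. For j = 0, 1 let C_j be the closure in the fibre
Y_{s_j} (with its subspace topology) of the set of points a_i(s_j). Then dim C₁ ≥ dim C₀
(topological Krull dimensions). -/
theorem result (S Y : Scheme.{u}) (f : Y ⟶ S) [QuasiCompact f] [QuasiSeparated f] [LocallyOfFinitePresentation f]
    (ι : Type u) (a : ι → (S ⟶ Y)) (ha : ∀ i, a i ≫ f = 𝟙 S) (s₀ s₁ : S) (h : s₁ ⤳ s₀) :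
    topologicalKrullDim ↥(f.base ⁻¹' {s₀} ∩ closure (Set.range fun i => (a i).base s₀)) ≤
      topologicalKrullDim ↥(f.base ⁻¹' {s₁} ∩ closure (Set.range fun i => (a i).base s₁)) := by
  haveI : LocallyOfFiniteType f := inferInstance
  have hfa : ∀ i (s : S), f.base ((a i).base s) = s := by
    intro i s; rw [← Scheme.Hom.comp_apply, ha i]; rfl
  rw [dim_fibre_inter_le_iff f s₀ _ isClosed_closure]
  intro c hc hfc
  obtain ⟨R, _, _, _, φ, hφm, hφη⟩ := Groth.Agent.Lib.Helper21.OpenGeneralizing.exists_valuationRing_of_specializes h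
  set m : Spec (CommRingCat.of R) := IsLocalRing.closedPoint R with hm
  let η : Spec (CommRingCat.of R) := ⟨⊥, Ideal.isPrime_bot⟩
  have hφη' : φ.base η = s₁ := hφη η rfl
  have hηm : η ⤳ m := by
    have : (⟨⊥, Ideal.isPrime_bot⟩ : PrimeSpectrum R) ⤳ (IsLocalRing.closedPoint R) := by
      rw [← PrimeSpectrum.le_iff_specializes]
      exact bot_le (a := (IsLocalRing.closedPoint R).asIdeal)
    exact this
  obtain ⟨c', hc'1, hc'2, hc'3⟩ := exists_tdR_snd_eq f φ c m (hfc.trans hφm.symm)
  -- `c'` lies in the closure of the base-changed section points over the closed point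
  have h1 := mem_closure_preimage_inter_fibre f φ (Set.range fun i => (a i).base s₀) c' (by
    rw [hc'1, hc'2, hφm]
    have : (Set.range fun i => (a i).base s₀) ∩ f.base ⁻¹' {s₀} =
        Set.range fun i => (a i).base s₀ := by
      apply Set.inter_eq_left.mpr
      rintro _ ⟨i, rfl⟩
      exact hfa i s₀
    rw [this]
    exact hc)
  rw [hc'2] at h1
  set G : Set ↑(pullback f φ) := Set.range fun i => (sec f φ (a i) (ha i)).base η with hG
  have hGη : G ⊆ (pullback.snd f φ).base ⁻¹' {η} := by
    rintro _ ⟨i, rfl⟩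
    change (pullback.snd f φ).base _ = η
    rw [← Scheme.Hom.comp_apply, sec_snd]; rfl
  have hsub : (pullback.fst f φ).base ⁻¹' (Set.range fun i => (a i).base s₀) ∩
      (pullback.snd f φ).base ⁻¹' {m} ⊆ closure G := by
    rintro w ⟨⟨i, hi⟩, hwm⟩
    have hwm' : (pullback.snd f φ).base w = m := hwm
    have h2 := eq_sec_of_fst_eq f φ (a i) (ha i) w s₀ hi.symm
    rw [hwm'] at h2
    rw [h2]
    have h3 : (sec f φ (a i) (ha i)).base η ⤳ (sec f φ (a i) (ha i)).base m :=
      hηm.map (sec f φ (a i) (ha i)).continuous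
    exact h3.mem_closed isClosed_closure (subset_closure ⟨i, rfl⟩)
  have hc'G : c' ∈ closure G := closure_minimal hsub isClosed_closure h1
  obtain ⟨ζ, hζc', hζη, hζG⟩ :=
    exists_specializes_of_mem_closure_of_fibre (pullback.snd f φ) η G hGη c' hc'G
  have h4 : tdR (pullback.snd f φ) c' ≤ tdR (pullback.snd f φ) ζ :=
    tdR_le_of_valuation' (pullback.snd f φ) hζc'
  have h5 := tdR_snd_le f φ ζ
  -- the image of `ζ` in `Y`
  have hz1 : f.base ((pullback.fst f φ).base ζ) = s₁ := by
    rw [← Scheme.Hom.comp_apply, pullback.condition, Scheme.Hom.comp_apply, hζη, hφη']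
  have hz2 : (pullback.fst f φ).base ζ ∈ closure (Set.range fun i => (a i).base s₁) := by
    have h6 : (pullback.fst f φ).base '' closure G ⊆ closure ((pullback.fst f φ).base '' G) :=
      image_closure_subset_closure_image (pullback.fst f φ).continuous
    have h7 : (pullback.fst f φ).base '' G ⊆ Set.range fun i => (a i).base s₁ := by
      rintro _ ⟨_, ⟨i, rfl⟩, rfl⟩
      refine ⟨i, ?_⟩
      change _ = (pullback.fst f φ).base ((sec f φ (a i) (ha i)).base η)
      rw [← Scheme.Hom.comp_apply, sec_fst, Scheme.Hom.comp_apply, hφη']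
    exact closure_mono h7 (h6 ⟨ζ, hζG, rfl⟩)
  have h8 := (dim_fibre_inter_le_iff f s₁ _ isClosed_closure _).mp le_rfl _ hz2 hz1
  refine le_trans ?_ h8
  have : tdR f c ≤ tdR f ((pullback.fst f φ).base ζ) := by
    rw [← hc'3]; exact h4.trans h5
  exact_mod_cast this

end Groth.Agent.S5444
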