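import Groth.Statements.S5445
import Groth.Agent.Lib.Helper28.RootPos

set_option autoImplicit false
open RootD

namespace Groth.Agent.S5445

/-- A system of positive roots of a root datum contains exactly one system of simple roots (simple
systems in the sense of conditions on roots only: linearly independent, every root a non-negative or
non-positive integer combination). -/
theorem result {ι M N : Type*} [AddCommGroup M] [AddCommGroup N]
    (P : RootPairing ι ℤ M N) [Finite ι] (S : Set ι) (hS : RootD.IsPosSys P S) :
    ∃! Δ : Set ι, RootD.IsSimpleSys P Δ ∧ Δ ⊆ S := by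
  refine ⟨Lib.Helper28.indec P S, ⟨Lib.Helper28.isSimpleSys_indec hS, Lib.Helper28.indec_subset S⟩, ?_⟩
  rintro Δ ⟨hΔ, hΔS⟩
  exact Lib.Helper28.simpleSys_eq_of_subset_posSys hS hΔ (Lib.Helper28.isSimpleSys_indec hS) hΔS
    (Lib.Helper28.indec_subset S)

end Groth.Agent.S5445
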