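import Groth.Statements.S5495
import Groth.Agent.Lib.Helper28.RootBasic

set_option autoImplicit false
open RootD

namespace Groth.Agent.S5495

/-- If α is an indivisible root and kα is a root for a rational k, then k is an integer. -/
theorem result {ι M N : Type*} [AddCommGroup M] [AddCommGroup N]
    (P : RootPairing ι ℤ M N) [Finite ι] (i j : ι) (hind : RootD.IsIndiv P i) (a b : ℤ) (hb : b ≠ 0)
    (h : b • P.root j = a • P.root i) : b ∣ a := by
  have := Lib.Helper28.isTorsionFree_weight P
  have h1 := congrArg (P.coroot' i) h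
  have h2 := congrArg (P.coroot' j) h
  simp only [map_zsmul, P.root_coroot'_eq_pairing, P.pairing_same, smul_eq_mul] at h1 h2
  -- h1 : b * pairing j i = a * 2 ; h2 : b * 2 = a * pairing i j
  set p := P.pairing i j with hp
  set q := P.pairing j i with hq
  have ha : a ≠ 0 := by
    rintro rfl
    simp at h2
    exact hb h2
  have hpq : p * q = 4 := by
    have : (a * b) * (p * q) = (a * b) * 4 := by
      calc (a * b) * (p * q) = (a * p) * (b * q) := by ring
        _ = (b * 2) * (a * 2) := by rw [← h2, h1]
        _ = _ := by ring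
    exact mul_left_cancel₀ (mul_ne_zero ha hb) this
  have hp_dvd : p ∣ 4 := ⟨q, hpq.symm⟩
  have hcases : p = 1 ∨ p = 2 ∨ p = 4 ∨ p = -1 ∨ p = -2 ∨ p = -4 := by
    have h4 : p.natAbs ∣ 4 := by
      have := Int.natAbs_dvd_natAbs.mpr hp_dvd
      simpa using this
    have h5 : p.natAbs ∈ Nat.divisors 4 := by simp [h4]
    have h6 : p.natAbs = 1 ∨ p.natAbs = 2 ∨ p.natAbs = 4 := by
      have hd : Nat.divisors 4 = {1, 2, 4} := by decide
      rw [hd] at h5
      simpa using h5
    omega
  rcases hcases with h' | h' | h' | h' | h' | h'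
  · exact ⟨2, by rw [h'] at h2; linarith⟩
  · exact ⟨1, by rw [h'] at h2; linarith⟩
  · exfalso
    have hb2 : b = 2 * a := by rw [h'] at h2; linarith
    rw [hb2, mul_smul] at h
    have h5 : a • ((2 : ℤ) • P.root j) = a • P.root i := by
      rw [smul_comm]; exact h
    exact hind j (smul_right_injective M ha h5)
  · exact ⟨-2, by rw [h'] at h2; linarith⟩
  · exact ⟨-1, by rw [h'] at h2; linarith⟩
  · exfalso
    have hb2 : b = -(2 * a) := by rw [h'] at h2; linarith
    rw [hb2, neg_smul, mul_smul] at h
    have h5 : a • ((2 : ℤ) • P.root (P.reflectionPerm j j)) = a • P.root i := by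
      rw [Lib.Helper28.root_neg, smul_neg, smul_neg, smul_comm]; exact h
    exact hind _ (smul_right_injective M ha h5)

end Groth.Agent.S5495
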