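import Groth.Statements.S5446
import Groth.Agent.Lib.Helper28.RootPos
import Groth.Agent.S5495

set_option autoImplicit false
open RootD

namespace Groth.Agent.S5446

open Lib.Helper28 in
/-- Generalised atom lemma: if `N • αᵢ = a + b` with `a, b` in the monoid generated by a linearly
independent set containing `i`, then `a` and `b` are multiples of `αᵢ`. -/
lemma smul_root_eq_add {ι M N : Type*} [AddCommGroup M] [AddCommGroup N]
    (P : RootPairing ι ℤ M N) {Δ : Set ι} (hli : LinearIndepOn ℤ P.root Δ) {i : ι}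
    (hi : i ∈ Δ) (n : ℕ) {a b : M} (ha : a ∈ RootD.natSpan P Δ) (hb : b ∈ RootD.natSpan P Δ)
    (h : n • P.root i = a + b) :
    ∃ a' b' : ℕ, a = a' • P.root i ∧ b = b' • P.root i ∧ a' + b' = n := by
  classical
  obtain ⟨c, hc, rfl⟩ := (mem_natSpan_iff P Δ a).mp ha
  obtain ⟨d, hd, rfl⟩ := (mem_natSpan_iff P Δ b).mp hb
  have h0 : c + d = Finsupp.single i n := by
    refine natCoeff_unique P hli (c := c + d) (d := Finsupp.single i n) ?_ ?_ ?_
    · intro j hj
      have := Finsupp.support_add hj
      rcases Finset.mem_union.mp this with h | h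
      · exact hc h
      · exact hd h
    · intro j hj
      have := Finsupp.support_single_subset hj
      rw [Finset.mem_singleton] at this
      rw [this]; exact hi
    · rw [map_add, ← h]; simp
  have hi1 : c i + d i = n := by
    have := DFunLike.congr_fun h0 i
    simpa using this
  have hj0 : ∀ j, j ≠ i → c j = 0 ∧ d j = 0 := by
    intro j hj
    have := DFunLike.congr_fun h0 j
    rw [Finsupp.add_apply, Finsupp.single_apply, if_neg hj.symm] at this
    omega
  have hc' : c = Finsupp.single i (c i) := by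
    ext j
    by_cases hj : j = i
    · subst hj; simp
    · rw [Finsupp.single_apply, if_neg (Ne.symm hj)]; exact (hj0 j hj).1
  have hd' : d = Finsupp.single i (d i) := by
    ext j
    by_cases hj : j = i
    · subst hj; simp
    · rw [Finsupp.single_apply, if_neg (Ne.symm hj)]; exact (hj0 j hj).2
  refine ⟨c i, d i, ?_, ?_, hi1⟩
  · conv_lhs => rw [hc']
    simp
  · conv_lhs => rw [hd']
    simp

/-- If the roots indexed by Δ are indivisible and linearly independent and every root is, up to sign, a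
non-negative rational combination of them (some positive multiple is a non-negative integer
combination), then Δ is a system of simple roots: every root is, up to sign, a non-negative integer
combination of Δ. -/
theorem result {ι M N : Type*} [AddCommGroup M] [AddCommGroup N]
    (P : RootPairing ι ℤ M N) [Finite ι] (Δ : Set ι)
    (hind : ∀ i ∈ Δ, RootD.IsIndiv P i) (hli : LinearIndepOn ℤ P.root Δ)
    (hcone : ∀ k : ι, ∃ n : ℕ, 0 < n ∧
      (n • P.root k ∈ RootD.natSpan P Δ ∨ n • (-P.root k) ∈ RootD.natSpan P Δ)) :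
    RootD.IsSimpleSys P Δ := by
  classical
  have htf := Lib.Helper28.isAddTorsionFree_weight P
  set S : Set ι := {k | ∃ n : ℕ, 0 < n ∧ n • P.root k ∈ RootD.natSpan P Δ} with hSdef
  -- every element of `natSpan S` has a positive multiple in `natSpan Δ`
  have hmult : ∀ x ∈ RootD.natSpan P S, ∃ m : ℕ, 0 < m ∧ m • x ∈ RootD.natSpan P Δ := by
    intro x hx
    induction hx using AddSubmonoid.closure_induction with
    | mem x hx =>
      obtain ⟨k, hk, rfl⟩ := hx
      exact hk
    | zero => exact ⟨1, one_pos, by simp⟩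
    | add x y _ _ ihx ihy =>
      obtain ⟨m₁, hm₁, h₁⟩ := ihx
      obtain ⟨m₂, hm₂, h₂⟩ := ihy
      refine ⟨m₁ * m₂, Nat.mul_pos hm₁ hm₂, ?_⟩
      rw [smul_add]
      refine add_mem ?_ ?_
      · rw [mul_comm, mul_smul]; exact AddSubmonoid.nsmul_mem _ h₁ _
      · rw [mul_smul]; exact AddSubmonoid.nsmul_mem _ h₂ _
  have hSpos : RootD.IsPosSys P S := by
    refine ⟨?_, ?_, ?_⟩
    · rintro k ⟨n, hn, hk⟩ ⟨m, hm, hk'⟩
      rw [Lib.Helper28.root_neg, smul_neg] at hk'
      have h1 : (m * n) • P.root k ∈ RootD.natSpan P Δ := by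
        rw [mul_smul]; exact AddSubmonoid.nsmul_mem _ hk _
      have h2 : -((m * n) • P.root k) ∈ RootD.natSpan P Δ := by
        rw [mul_comm, mul_smul, ← smul_neg]; exact AddSubmonoid.nsmul_mem _ hk' _
      have h3 := Lib.Helper28.eq_zero_of_mem_natSpan_of_neg_mem P hli h1 h2
      exact P.ne_zero k ((nsmul_eq_zero_iff_right (Nat.mul_pos hm hn).ne').mp h3)
    · intro k
      obtain ⟨n, hn, h | h⟩ := hcone k
      · exact Or.inl ⟨n, hn, h⟩
      · right
        refine ⟨n, hn, ?_⟩
        rwa [Lib.Helper28.root_neg]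
    · intro k n hn hk
      obtain ⟨m, hm, h⟩ := hmult _ hk
      refine ⟨m * n, Nat.mul_pos hm hn, ?_⟩
      rwa [mul_smul]
  have hΔ' := Lib.Helper28.isSimpleSys_indec hSpos
  have hΔS : Δ ⊆ S := fun i hi => ⟨1, one_pos, by simpa using Lib.Helper28.root_mem_natSpan P hi⟩
  -- Claim A
  have hA : Δ ⊆ Lib.Helper28.indec P S := by
    intro i hi
    refine ⟨hΔS hi, ?_⟩
    rintro j ⟨nj, hnj, hj⟩ k ⟨nk, hnk, hk⟩ hijk
    have hN : 0 < nj * nk := Nat.mul_pos hnj hnk
    have h1 : (nj * nk) • P.root i = (nj * nk) • P.root j + (nj * nk) • P.root k := by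
      rw [hijk, smul_add]
    have ha : (nj * nk) • P.root j ∈ RootD.natSpan P Δ := by
      rw [mul_comm, mul_smul]; exact AddSubmonoid.nsmul_mem _ hj _
    have hb : (nj * nk) • P.root k ∈ RootD.natSpan P Δ := by
      rw [mul_smul]; exact AddSubmonoid.nsmul_mem _ hk _
    obtain ⟨a', b', ha', hb', hab⟩ := smul_root_eq_add P hli hi (nj * nk) ha hb h1
    have hda : ((nj * nk : ℕ) : ℤ) ∣ (a' : ℤ) := by
      refine Groth.Agent.S5495.result P i j (hind i hi) a' ((nj * nk : ℕ) : ℤ) ?_ ?_
      · exact_mod_cast hN.ne'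
      · rw [natCast_zsmul, natCast_zsmul, ha']
    have hdb : ((nj * nk : ℕ) : ℤ) ∣ (b' : ℤ) := by
      refine Groth.Agent.S5495.result P i k (hind i hi) b' ((nj * nk : ℕ) : ℤ) ?_ ?_
      · exact_mod_cast hN.ne'
      · rw [natCast_zsmul, natCast_zsmul, hb']
    have hda' : nj * nk ∣ a' := by exact_mod_cast hda
    have hdb' : nj * nk ∣ b' := by exact_mod_cast hdb
    obtain ⟨x, hx⟩ := hda'
    obtain ⟨y, hy⟩ := hdb'
    have hxy : x + y = 1 := by
      have : (nj * nk) * (x + y) = (nj * nk) * 1 := by rw [mul_add, ← hx, ← hy, hab, mul_one]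
      exact Nat.eq_of_mul_eq_mul_left hN this
    rcases Nat.eq_zero_or_pos x with hx0 | hx0
    · rw [hx0, mul_zero] at hx
      rw [hx, zero_smul] at ha'
      exact P.ne_zero j ((nsmul_eq_zero_iff_right hN.ne').mp ha')
    · have hy0 : y = 0 := by omega
      rw [hy0, mul_zero] at hy
      rw [hy, zero_smul] at hb'
      exact P.ne_zero k ((nsmul_eq_zero_iff_right hN.ne').mp hb')
  -- Claim B
  have hB : Lib.Helper28.indec P S ⊆ Δ := by
    intro i hi
    obtain ⟨n, hn, hmem⟩ := hi.1
    obtain ⟨c, hc, hclc⟩ := (Lib.Helper28.mem_natSpan_iff P Δ _).mp hmem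
    have : c = Finsupp.single i n := by
      refine Lib.Helper28.natCoeff_unique P hΔ'.linInd (fun x hx => hA (hc hx)) ?_ ?_
      · intro j hj
        have := Finsupp.support_single_subset hj
        rw [Finset.mem_singleton] at this
        rw [this]; exact hi
      · rw [hclc]; simp
    apply hc
    rw [this]
    simp [hn.ne']
  have : Δ = Lib.Helper28.indec P S := Set.Subset.antisymm hA hB
  rw [this]
  exact hΔ'

end Groth.Agent.S5446
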