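import Groth.Statements.S5447
import Groth.Agent.Lib.Helper28.RootPos

set_option autoImplicit false
open RootD

namespace Groth.Agent.S5447

/-- If every root can be written in exactly one way as an integer combination of the roots indexed by Δ
with coefficients all of the same sign, then these roots are linearly independent (so Δ is a system
of simple roots) and indivisible. -/
theorem result {ι M N : Type*} [AddCommGroup M] [AddCommGroup N]
    (P : RootPairing ι ℤ M N) [Finite ι] (Δ : Set ι)
    (h : ∀ k : ι, ∃! c : ι →₀ ℤ, (↑c.support ⊆ Δ ∧ ((∀ j, 0 ≤ c j) ∨ (∀ j, c j ≤ 0)) ∧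
      Finsupp.linearCombination ℤ P.root c = P.root k)) :
    RootD.IsSimpleSys P Δ ∧ ∀ i ∈ Δ, RootD.IsIndiv P i := by
  classical
  have huniq : ∀ (k : ι) (c d : ι →₀ ℤ),
      (↑c.support ⊆ Δ ∧ ((∀ j, 0 ≤ c j) ∨ (∀ j, c j ≤ 0)) ∧
        Finsupp.linearCombination ℤ P.root c = P.root k) →
      (↑d.support ⊆ Δ ∧ ((∀ j, 0 ≤ d j) ∨ (∀ j, d j ≤ 0)) ∧
        Finsupp.linearCombination ℤ P.root d = P.root k) → c = d :=
    fun k c d hc hd => (h k).unique hc hd
  have hsingle : ∀ i ∈ Δ, (↑(Finsupp.single i (1 : ℤ)).support ⊆ Δ ∧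
      ((∀ j, 0 ≤ Finsupp.single i (1 : ℤ) j) ∨ (∀ j, Finsupp.single i (1 : ℤ) j ≤ 0)) ∧
        Finsupp.linearCombination ℤ P.root (Finsupp.single i (1 : ℤ)) = P.root i) := by
    intro i hi
    refine ⟨?_, Or.inl ?_, by simp⟩
    · rw [Finsupp.support_subset_iff]
      intro x hx
      rw [Finsupp.single_apply, if_neg]
      rintro rfl; exact hx hi
    · intro j
      rw [Finsupp.single_apply]
      split_ifs <;> norm_num
  -- distinct elements of `Δ` have non-positive pairing
  have hpair : ∀ i ∈ Δ, ∀ j ∈ Δ, i ≠ j → P.pairing i j ≤ 0 := by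
    intro i hi j hj hij
    by_contra hpos
    push Not at hpos
    obtain ⟨k, hk⟩ := Lib.Helper28.root_sub_root_mem P hpos hij
    obtain ⟨c, ⟨hc1, hc2, hc3⟩, -⟩ := h k
    rw [Finsupp.support_subset_iff] at hc1
    rcases hc2 with hc2 | hc2
    · have := huniq i (Finsupp.single j 1 + c) (Finsupp.single i 1) ⟨?_, Or.inl ?_, ?_⟩ (hsingle i hi)
      · have h2 := DFunLike.congr_fun this j
        rw [Finsupp.add_apply, Finsupp.single_apply, Finsupp.single_apply, if_pos rfl, if_neg hij] at h2
        have := hc2 j
        omega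
      · rw [Finsupp.support_subset_iff]
        intro x hx
        rw [Finsupp.add_apply, hc1 x hx, Finsupp.single_apply, if_neg]
        · simp
        · rintro rfl; exact hx hj
      · intro x
        rw [Finsupp.add_apply, Finsupp.single_apply]
        have := hc2 x
        split_ifs <;> omega
      · rw [map_add, hc3, hk]; simp
    · have := huniq j (Finsupp.single i 1 - c) (Finsupp.single j 1) ⟨?_, Or.inl ?_, ?_⟩ (hsingle j hj)
      · have h2 := DFunLike.congr_fun this i
        rw [Finsupp.sub_apply, Finsupp.single_apply, Finsupp.single_apply, if_pos rfl,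
          if_neg hij.symm] at h2
        have := hc2 i
        omega
      · rw [Finsupp.support_subset_iff]
        intro x hx
        rw [Finsupp.sub_apply, hc1 x hx, Finsupp.single_apply, if_neg]
        · simp
        · rintro rfl; exact hx hi
      · intro x
        rw [Finsupp.sub_apply, Finsupp.single_apply]
        have := hc2 x
        split_ifs <;> omega
      · rw [map_sub, hc3, hk]; simp
  -- the opposite of an element of `Δ` is not a non-negative combination
  have hneg : ∀ i ∈ Δ, -P.root i ∉ RootD.natSpan P Δ := by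
    intro i hi hmem
    obtain ⟨d, hd1, hd2, hd3⟩ := Lib.Helper28.exists_int_coeff_of_mem_natSpan P hmem
    rw [Finsupp.support_subset_iff] at hd1
    have := huniq i (-d) (Finsupp.single i 1) ⟨?_, Or.inr ?_, ?_⟩ (hsingle i hi)
    · have h2 := DFunLike.congr_fun this i
      rw [Finsupp.neg_apply, Finsupp.single_apply, if_pos rfl] at h2
      have := hd2 i
      omega
    · rw [Finsupp.support_subset_iff]
      intro x hx
      rw [Finsupp.neg_apply, hd1 x hx, neg_zero]
    · intro x
      rw [Finsupp.neg_apply]
      have := hd2 x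
      omega
    · rw [map_neg, hd3, neg_neg]
  refine ⟨⟨Lib.Helper28.linearIndepOn_of_pairing_le_zero P Δ hpair hneg, ?_⟩, ?_⟩
  · intro k
    obtain ⟨c, ⟨hc1, hc2, hc3⟩, -⟩ := h k
    rcases hc2 with hc2 | hc2
    · left
      rw [← hc3]
      exact Lib.Helper28.linearCombination_mem_natSpan_of_nonneg P c hc1 hc2
    · right
      rw [← hc3, ← map_neg]
      refine Lib.Helper28.linearCombination_mem_natSpan_of_nonneg P (-c) ?_ ?_
      · rw [Finsupp.support_neg]; exact hc1
      · intro j
        rw [Finsupp.neg_apply]
        have := hc2 j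
        omega
  · intro i hi j hj
    obtain ⟨c, ⟨hc1, hc2, hc3⟩, -⟩ := h j
    rw [Finsupp.support_subset_iff] at hc1
    have := huniq i ((2 : ℤ) • c) (Finsupp.single i 1) ⟨?_, ?_, ?_⟩ (hsingle i hi)
    · have h2 := DFunLike.congr_fun this i
      rw [Finsupp.smul_apply, Finsupp.single_apply, if_pos rfl, smul_eq_mul] at h2
      omega
    · rw [Finsupp.support_subset_iff]
      intro x hx
      rw [Finsupp.smul_apply, hc1 x hx, smul_zero]
    · rcases hc2 with hc2 | hc2
      · left
        intro x
        rw [Finsupp.smul_apply, smul_eq_mul]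
        have := hc2 x
        omega
      · right
        intro x
        rw [Finsupp.smul_apply, smul_eq_mul]
        have := hc2 x
        omega
    · rw [map_smul, hc3, hj]

end Groth.Agent.S5447
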