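import Groth.Statements.S5448
import Groth.Agent.Lib.Helper28.RootBasic

set_option autoImplicit false
open RootD

namespace Groth.Agent.S5448

/-- The elements of a system of simple roots (root-only sense) are indivisible, i.e. none of them is
twice a root. -/
theorem result {ι M N : Type*} [AddCommGroup M] [AddCommGroup N]
    (P : RootPairing ι ℤ M N) [Finite ι] (Δ : Set ι) (hΔ : RootD.IsSimpleSys P Δ)
    (i : ι) (hi : i ∈ Δ) : RootD.IsIndiv P i := by
  intro j h
  have hli := hΔ.linInd
  rw [two_smul] at h
  rcases hΔ.mem_or_neg_mem j with hj | hj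
  · rcases Lib.Helper28.eq_zero_or_eq_zero_of_root_eq_add P hli hi hj hj h.symm with h0 | h0 <;>
      exact P.ne_zero j h0
  · have h1 : -P.root i ∈ RootD.natSpan P Δ := by
      rw [← h, neg_add]
      exact add_mem hj hj
    exact P.ne_zero i (Lib.Helper28.eq_zero_of_mem_natSpan_of_neg_mem P hli
      (Lib.Helper28.root_mem_natSpan P hi) h1)

end Groth.Agent.S5448
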