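import Groth.Statements.S5450
import Groth.Agent.Lib.Helper28.RootPos

set_option autoImplicit false
open RootD

namespace Groth.Agent.S5450

/-- A positive root (relative to a system of simple roots Δ) is simple if and only if it is not the sum
of two positive roots. -/
theorem result {ι M N : Type*} [AddCommGroup M] [AddCommGroup N]
    (P : RootPairing ι ℤ M N) [Finite ι] (Δ : Set ι) (hΔ : RootD.IsSimpleSys P Δ)
    (k : ι) (hk : k ∈ RootD.posOf P Δ) :
    k ∈ Δ ↔ ¬ ∃ i j : ι, i ∈ RootD.posOf P Δ ∧ j ∈ RootD.posOf P Δ ∧ P.root k = P.root i + P.root j := by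
  constructor
  · rintro hkΔ ⟨i, j, hi, hj, hij⟩
    rcases Lib.Helper28.eq_zero_or_eq_zero_of_root_eq_add P hΔ.linInd hkΔ hi hj hij with h0 | h0
    · exact P.ne_zero i h0
    · exact P.ne_zero j h0
  · intro h
    by_contra hkΔ
    obtain ⟨j, hj, -, l, hl, hkl⟩ := Lib.Helper28.exists_simple_add_of_mem_posOf hΔ hk hkΔ
    exact h ⟨l, j, hl, Lib.Helper28.subset_posOf hj, hkl⟩

end Groth.Agent.S5450
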