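import Groth.Statements.S5451
import Groth.Agent.Lib.Helper28.RootBasic

set_option autoImplicit false
open RootD

namespace Groth.Agent.S5451

lemma chain_aux {ι M N : Type*} [AddCommGroup M] [AddCommGroup N]
    (P : RootPairing ι ℤ M N) [Finite ι] {n : ℕ} (a : Fin n → ι) :
    ∀ (T : ℕ) (m : Fin n → ℕ), ∑ i, m i = T → ∀ k : ι, P.root k = ∑ i, m i • P.root (a i) →
    ∃ (l : ℕ) (b : Fin l → Fin n), 0 < l ∧
      (∀ p : Fin l, ∃ j : ι, P.root j =
        ∑ q ∈ Finset.univ.filter (fun q : Fin l => q.val ≤ p.val), P.root (a (b q))) ∧
      P.root k = ∑ q, P.root (a (b q)) := by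
  classical
  intro T
  induction T with
  | zero =>
    intro m hm k hk
    exfalso
    have : ∀ i, m i = 0 := by
      intro i
      have := (Finset.sum_eq_zero_iff.mp hm) i (Finset.mem_univ i)
      exact this
    simp only [this, zero_smul, Finset.sum_const_zero] at hk
    exact P.ne_zero k hk
  | succ T ih =>
    intro m hm k hk
    -- find an index pairing positively with `k`
    have h1 := congrArg (P.coroot' k) hk
    rw [map_sum] at h1
    simp only [map_nsmul, P.root_coroot'_eq_pairing, P.pairing_same] at h1
    have hpos : (0 : ℤ) < ∑ l, m l • P.pairing (a l) k := by rw [← h1]; norm_num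
    obtain ⟨i₀, -, hl⟩ := Finset.exists_lt_of_sum_lt (f := fun _ => (0 : ℤ)) (by simpa using hpos)
    have hm0 : m i₀ ≠ 0 := by
      rintro h0
      simp [h0] at hl
    have hp : 0 < P.pairing (a i₀) k := by
      have hm' : (0 : ℤ) < (m i₀ : ℤ) := by exact_mod_cast Nat.pos_of_ne_zero hm0
      exact (mul_pos_iff_of_pos_left hm').mp hl
    by_cases hik : a i₀ = k
    · refine ⟨1, fun _ => i₀, one_pos, ?_, ?_⟩
      · intro p
        refine ⟨k, ?_⟩
        have : Finset.univ.filter (fun q : Fin 1 => q.val ≤ p.val) = Finset.univ := by
          ext q; simp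
        rw [this]; simp [hik]
      · simp [hik]
    · obtain ⟨k', hk'⟩ : P.root k - P.root (a i₀) ∈ Set.range P.root := by
        have := Lib.Helper28.root_sub_root_mem P hp hik
        rw [← P.neg_mem_range_root_iff]
        simpa using this
      set m' : Fin n → ℕ := Function.update m i₀ (m i₀ - 1) with hm'
      have hmm' : ∀ i, m i = m' i + (if i = i₀ then 1 else 0) := by
        intro i
        by_cases hi : i = i₀
        · subst hi; simp [hm']; omega
        · simp [hm', hi]
      have hsum' : ∑ i, m' i = T := by
        have : ∑ i, m i = ∑ i, m' i + 1 := by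
          rw [Finset.sum_congr rfl (fun i _ => hmm' i), Finset.sum_add_distrib]
          simp
        omega
      have hk'' : P.root k' = ∑ i, m' i • P.root (a i) := by
        have : ∑ i, m i • P.root (a i) = ∑ i, m' i • P.root (a i) + P.root (a i₀) := by
          rw [Finset.sum_congr rfl (fun i _ => by rw [hmm' i, add_smul]), Finset.sum_add_distrib]
          simp
        rw [hk', hk, this]; abel
      obtain ⟨l', b', hl', hchain, htot⟩ := ih m' hsum' k' hk''
      refine ⟨l' + 1, Fin.snoc b' i₀, Nat.succ_pos _, ?_, ?_⟩
      · intro p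
        induction p using Fin.lastCases with
        | last =>
          refine ⟨k, ?_⟩
          have : Finset.univ.filter (fun q : Fin (l' + 1) => q.val ≤ (Fin.last l').val) =
              Finset.univ := by
            ext q; simp; omega
          rw [this, Fin.sum_univ_castSucc]
          simp only [Fin.snoc_castSucc, Fin.snoc_last]
          rw [← htot, hk']; abel
        | cast p' =>
          obtain ⟨j, hj⟩ := hchain p'
          refine ⟨j, ?_⟩
          rw [hj, Finset.sum_filter, Finset.sum_filter, Fin.sum_univ_castSucc]
          simp only [Fin.snoc_castSucc, Fin.snoc_last, Fin.val_castSucc, Fin.val_last]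
          rw [if_neg (by have := p'.2; omega), add_zero]
      · rw [Fin.sum_univ_castSucc]
        simp only [Fin.snoc_castSucc, Fin.snoc_last]
        rw [← htot, hk']; abel

/-- If a root is a positive integer combination of roots α_i, then it can be reached from 0 by
successively adding roots taken among the α_i in such a way that every partial sum is a root. -/
theorem result {ι M N : Type*} [AddCommGroup M] [AddCommGroup N]
    (P : RootPairing ι ℤ M N) [Finite ι] {n : ℕ} (a : Fin n → ι) (m : Fin n → ℕ)
    (hm : ∀ i, 0 < m i) (k : ι) (hk : P.root k = ∑ i, m i • P.root (a i)) :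
    ∃ (l : ℕ) (b : Fin l → Fin n), 0 < l ∧
      (∀ p : Fin l, ∃ j : ι, P.root j = ∑ q ∈ Finset.univ.filter (fun q : Fin l => q.val ≤ p.val), P.root (a (b q))) ∧
      P.root k = ∑ q, P.root (a (b q)) := by
  exact chain_aux P a _ m rfl k hk

end Groth.Agent.S5451
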