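import Groth.Statements.S5456
import Groth.Agent.Lib.Helper28.RootPos

set_option autoImplicit false
open RootD

namespace Groth.Agent.S5456

/-- A set of roots is a system of positive roots if and only if it satisfies (P 1), (P 2) and is closed. -/
theorem result {ι M N : Type*} [AddCommGroup M] [AddCommGroup N]
    (P : RootPairing ι ℤ M N) [Finite ι] (S : Set ι) :
    RootD.IsPosSys P S ↔ ((∀ i ∈ S, P.reflectionPerm i i ∉ S) ∧ (∀ i : ι, i ∈ S ∨ P.reflectionPerm i i ∈ S) ∧
      RootD.IsClosedSub P S) := by
  constructor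
  · intro hS
    refine ⟨fun i hi => hS.disjoint hi, hS.cover, ?_⟩
    intro i j k hi hj hk
    refine hS.sat 1 one_pos ?_
    rw [one_smul, hk]
    exact add_mem (Lib.Helper28.root_mem_natSpan P hi) (Lib.Helper28.root_mem_natSpan P hj)
  · rintro ⟨h1, h2, h3⟩
    refine ⟨fun i hi => h1 i hi, h2, ?_⟩
    intro k n hn hk
    by_contra hkS
    have hk' : P.reflectionPerm k k ∈ S := (h2 k).resolve_left hkS
    -- `root k = n • root k + (n - 1) • root (-k)`
    have hmem : P.root k ∈ RootD.natSpan P S := by
      have : P.root k = n • P.root k + (n - 1) • P.root (P.reflectionPerm k k) := by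
        rw [Lib.Helper28.root_neg, smul_neg]
        obtain ⟨m, rfl⟩ : ∃ m, n = m + 1 := ⟨n - 1, by omega⟩
        simp only [add_tsub_cancel_right, add_smul, one_smul]
        abel
      rw [this]
      exact add_mem hk (AddSubmonoid.nsmul_mem _ (Lib.Helper28.root_mem_natSpan P hk') _)
    exact hkS (Lib.Helper28.mem_of_root_mem_natSpan_of_isClosedSub P h3 hmem)

end Groth.Agent.S5456
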