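import Groth.Statements.S5458
import Groth.Agent.Lib.Helper28.RootWeyl

set_option autoImplicit false
open RootD

namespace Groth.Agent.S5458

/-- Let S be a system of positive roots with simple system Δ ⊆ S and let P' ⊇ S be a closed set of
roots; with Δ' the set of simple roots whose opposite lies in P', the set P' is the union of S and
of the roots that are non-positive integer combinations of Δ'. -/
theorem result {ι M N : Type*} [AddCommGroup M] [AddCommGroup N]
    (P : RootPairing ι ℤ M N) [Finite ι] (S : Set ι) (hS : RootD.IsPosSys P S) (Δ : Set ι)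
    (hΔ : RootD.IsSimpleSys P Δ) (hΔS : Δ ⊆ S) (P' : Set ι) (hcl : RootD.IsClosedSub P P')
    (hSP : S ⊆ P') :
    P' = S ∪ {k : ι | -P.root k ∈ RootD.natSpan P {i : ι | i ∈ Δ ∧ P.reflectionPerm i i ∈ P'}} := by
  have hSeq : S = RootD.posOf P Δ := Lib.Helper28.IsPosSys_eq_posOf hS hΔ hΔS
  set Δ'' : Set ι := {i : ι | i ∈ Δ ∧ P.reflectionPerm i i ∈ P'} with hΔ''
  have hnegneg : ∀ k : ι, P.reflectionPerm (P.reflectionPerm k k) (P.reflectionPerm k k) = k := by
    intro k
    apply P.root.injective
    rw [Lib.Helper28.root_neg, Lib.Helper28.root_neg, neg_neg]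
  apply Set.Subset.antisymm
  · intro k hk
    by_cases hkS : k ∈ S
    · exact Or.inl hkS
    · right
      have hk' : P.reflectionPerm k k ∈ RootD.posOf P Δ := hSeq ▸ (hS.cover k).resolve_left hkS
      -- claim by induction on positive roots
      have claim : ∀ γ ∈ RootD.posOf P Δ,
          P.reflectionPerm γ γ ∈ P' → P.root γ ∈ RootD.natSpan P Δ'' := by
        refine Lib.Helper28.posOf_induction hΔ ?_ ?_
        · intro i hi hi'
          exact Lib.Helper28.root_mem_natSpan P ⟨hi, hi'⟩
        · intro γ l j hl hj hγ ih hγ'
          have hl' : P.reflectionPerm l l ∈ P' := by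
            refine hcl hγ' (hSP (hΔS hj)) ?_
            rw [Lib.Helper28.root_neg, Lib.Helper28.root_neg, hγ]; abel
          have hj' : P.reflectionPerm j j ∈ P' := by
            refine hcl hγ' (hSP (hSeq ▸ hl)) ?_
            rw [Lib.Helper28.root_neg, Lib.Helper28.root_neg, hγ]; abel
          rw [hγ]
          exact add_mem (ih hl') (Lib.Helper28.root_mem_natSpan P ⟨hj, hj'⟩)
      have := claim _ hk' (by rw [hnegneg]; exact hk)
      rw [Lib.Helper28.root_neg] at this
      exact this
  · rintro k (hk | hk)
    · exact hSP hk
    · apply Lib.Helper28.mem_of_root_mem_natSpan_of_isClosedSub P hcl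
      have hneg : ∀ x ∈ RootD.natSpan P Δ'', -x ∈ RootD.natSpan P P' := by
        intro x hx
        induction hx using AddSubmonoid.closure_induction with
        | mem x hx =>
          obtain ⟨i, hi, rfl⟩ := hx
          rw [← Lib.Helper28.root_neg]
          exact Lib.Helper28.root_mem_natSpan P hi.2
        | zero => simp
        | add x y _ _ hx hy => rw [neg_add]; exact add_mem hx hy
      have := hneg _ hk
      rwa [neg_neg] at this

end Groth.Agent.S5458
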