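import Groth.Statements.S5459
import Groth.Agent.Lib.Helper28.RootExist
import Groth.Agent.S5458

set_option autoImplicit false
open RootD

namespace Groth.Agent.S5459

/-- A closed set of roots containing each root or its opposite is, for a suitable system of simple roots
Δ and a subset Δ' ⊆ Δ, the set of roots lying in ℕΔ ∪ (-ℕΔ'). -/
theorem result {ι M N : Type*} [AddCommGroup M] [AddCommGroup N]
    (P : RootPairing ι ℤ M N) [Finite ι] (P' : Set ι)
    (hP2 : ∀ i : ι, i ∈ P' ∨ P.reflectionPerm i i ∈ P') (hcl : RootD.IsClosedSub P P') :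
    ∃ Δ Δ' : Set ι, RootD.IsSimpleSys P Δ ∧ Δ' ⊆ Δ ∧
      P' = RootD.posOf P Δ ∪ {k : ι | -P.root k ∈ RootD.natSpan P Δ'} := by
  obtain ⟨S₀, hS₀⟩ := Lib.Helper28.exists_isPosSys P
  obtain ⟨g, -, hg⟩ := Lib.Helper28.exists_weylGroup_image_subset hS₀ hP2 hcl
  have hS := Lib.Helper28.aut_isPosSys P g hS₀
  set S : Set ι := (fun i : ι => g • i) '' S₀ with hSdef
  have hΔ := Lib.Helper28.isSimpleSys_indec hS
  have hSeq : S = RootD.posOf P (Lib.Helper28.indec P S) :=
    Lib.Helper28.IsPosSys_eq_posOf hS hΔ (Lib.Helper28.indec_subset S)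
  refine ⟨Lib.Helper28.indec P S, {i : ι | i ∈ Lib.Helper28.indec P S ∧ P.reflectionPerm i i ∈ P'},
    hΔ, fun i hi => hi.1, ?_⟩
  have := Groth.Agent.S5458.result P S hS _ hΔ (Lib.Helper28.indec_subset S) P' hcl hg
  rw [← hSeq]
  exact this

end Groth.Agent.S5459
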