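import Groth.Statements.S5460
import Groth.Agent.Lib.Helper28.RootSubExt
import Groth.Agent.Lib.Helper28.RootExist
import Groth.Agent.Lib.Helper28.RootHeight

set_option autoImplicit false
open RootD

namespace Groth.Agent.S5460

open Lib.Helper28 in
/-- A saturated set of roots is the set of roots in the span of a subset of a simple system. -/
lemma exists_of_sat {ι M N : Type*} [AddCommGroup M] [AddCommGroup N]
    (P : RootPairing ι ℤ M N) [Finite ι] (R' : Set ι)
    (hsat : ∀ k : ι, (∃ n : ℕ, 0 < n ∧ n • P.root k ∈ Submodule.span ℤ (P.root '' R')) → k ∈ R') :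
    ∃ Δ Δ' : Set ι, RootD.IsSimpleSys P Δ ∧ Δ' ⊆ Δ ∧ R' = RootD.inSpan P Δ' := by
  have hatf := isAddTorsionFree_weight P
  obtain ⟨n, φ, hφ0, hφne⟩ := exists_separating P hsat
  obtain ⟨S₀, hS₀⟩ := exists_isPosSys P
  have f1 : ∀ k ∈ R', φ (P.root k) = 0 := hφ0
  have f2 : ∀ k, φ (P.root k) = 0 → k ∈ R' := fun k h => by
    by_contra hk
    exact hφne k hk h
  have f3 : ∀ k, φ (P.root (P.reflectionPerm k k)) = -φ (P.root k) := fun k => by
    rw [root_neg, map_neg]
  set A : Set ι := {k | 0 < φ (P.root k)} with hA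
  set B : Set ι := R' ∩ S₀ with hB
  set S : Set ι := A ∪ B with hS
  have f5 : ∀ x ∈ RootD.natSpan P S, 0 ≤ φ x ∧ (φ x = 0 → x ∈ RootD.natSpan P B) := by
    intro x hx
    induction hx using AddSubmonoid.closure_induction with
    | mem x hx =>
      obtain ⟨s, hs, rfl⟩ := hx
      rcases hs with hs | hs
      · exact ⟨le_of_lt hs, fun h => absurd h (ne_of_gt hs)⟩
      · exact ⟨le_of_eq (f1 s hs.1).symm, fun _ => root_mem_natSpan P hs⟩
    | zero => exact ⟨le_of_eq (map_zero φ).symm, fun _ => zero_mem _⟩
    | add x y _ _ ihx ihy =>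
      refine ⟨by rw [map_add]; exact add_nonneg ihx.1 ihy.1, fun h => ?_⟩
      rw [map_add] at h
      have := (add_eq_zero_iff_of_nonneg ihx.1 ihy.1).mp h
      exact add_mem (ihx.2 this.1) (ihy.2 this.2)
  have hSpos : RootD.IsPosSys P S := by
    refine ⟨?_, ?_, ?_⟩
    · intro k hk hk'
      rcases hk with hkA | hkB
      · have hkA' : 0 < φ (P.root k) := hkA
        rcases hk' with h | h
        · have h' : 0 < φ (P.root (P.reflectionPerm k k)) := h
          rw [f3] at h'
          exact lt_asymm hkA' (neg_pos.mp h')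
        · have := f1 _ h.1
          rw [f3, neg_eq_zero] at this
          exact (ne_of_gt hkA') this
      · have h0 := f1 k hkB.1
        rcases hk' with h | h
        · have h' : 0 < φ (P.root (P.reflectionPerm k k)) := h
          rw [f3, h0, neg_zero] at h'
          exact lt_irrefl _ h'
        · exact hS₀.disjoint hkB.2 h.2
    · intro k
      rcases lt_trichotomy (φ (P.root k)) 0 with h | h | h
      · right; left
        change 0 < φ (P.root (P.reflectionPerm k k))
        rw [f3]
        exact neg_pos.mpr h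
      · have hkR := f2 k h
        rcases hS₀.cover k with h2 | h2
        · left; right
          exact ⟨hkR, h2⟩
        · right; right
          exact ⟨neg_mem_of_sat P hsat hkR, h2⟩
      · left; left
        exact h
    · intro k m hm hk
      obtain ⟨h0, h1⟩ := f5 _ hk
      rw [map_nsmul] at h0 h1
      by_cases hpos : 0 < φ (P.root k)
      · left; exact hpos
      · have hzero : φ (P.root k) = 0 := by
          rcases lt_trichotomy (φ (P.root k)) 0 with h | h | h
          · exfalso
            have h2 : 0 < m • (-φ (P.root k)) := nsmul_pos (neg_pos.mpr h) hm.ne'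
            rw [neg_nsmul] at h2
            exact (lt_of_lt_of_le (neg_pos.mp h2) h0).false
          · exact h
          · exact absurd h hpos
        have hkR := f2 k hzero
        right
        refine ⟨hkR, ?_⟩
        have h3 : m • P.root k ∈ RootD.natSpan P B := h1 (by rw [hzero, nsmul_zero])
        exact hS₀.sat m hm (natSpan_mono P Set.inter_subset_right h3)
  have hΔ : RootD.IsSimpleSys P (indec P S) := isSimpleSys_indec hSpos
  refine ⟨indec P S, indec P S ∩ R', hΔ, Set.inter_subset_left, ?_⟩
  have hle : RootD.natSpan P (indec P S ∩ R') ≤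
      (Submodule.span ℤ (P.root '' (indec P S ∩ R'))).toAddSubmonoid :=
    natSpan_le_of_forall P fun i hi => Submodule.subset_span ⟨i, hi, rfl⟩
  have f6 : ∀ x ∈ RootD.natSpan P (indec P S),
      0 ≤ φ x ∧ (φ x = 0 → x ∈ RootD.natSpan P (indec P S ∩ R')) := by
    intro x hx
    induction hx using AddSubmonoid.closure_induction with
    | mem x hx =>
      obtain ⟨s, hs, rfl⟩ := hx
      have hsS : s ∈ S := indec_subset S hs
      rcases hsS with hsA | hsB
      · exact ⟨le_of_lt hsA, fun h => absurd h (ne_of_gt hsA)⟩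
      · exact ⟨le_of_eq (f1 s hsB.1).symm, fun _ => root_mem_natSpan P ⟨hs, hsB.1⟩⟩
    | zero => exact ⟨le_of_eq (map_zero φ).symm, fun _ => zero_mem _⟩
    | add x y _ _ ihx ihy =>
      refine ⟨by rw [map_add]; exact add_nonneg ihx.1 ihy.1, fun h => ?_⟩
      rw [map_add] at h
      have := (add_eq_zero_iff_of_nonneg ihx.1 ihy.1).mp h
      exact add_mem (ihx.2 this.1) (ihy.2 this.2)
  ext k
  constructor
  · intro hk
    change P.root k ∈ Submodule.span ℤ (P.root '' (indec P S ∩ R'))
    rcases hΔ.mem_or_neg_mem k with h | h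
    · exact hle ((f6 _ h).2 (f1 k hk))
    · have h2 := hle ((f6 _ h).2 (by rw [map_neg, f1 k hk, neg_zero]))
      have h3 := Submodule.neg_mem _ h2
      rwa [neg_neg] at h3
  · intro hk
    refine hsat k ⟨1, one_pos, ?_⟩
    rw [one_smul]
    exact Submodule.span_mono (Set.image_mono Set.inter_subset_right) hk

open Lib.Helper28 in
/-- The roots in the span of a subset of a simple system form a saturated set. -/
lemma sat_of_inSpan {ι M N : Type*} [AddCommGroup M] [AddCommGroup N]
    (P : RootPairing ι ℤ M N) [Finite ι] {Δ Δ' : Set ι} (hΔ : RootD.IsSimpleSys P Δ)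
    (hsub : Δ' ⊆ Δ) (k : ι) (n : ℕ) (hn : 0 < n)
    (h : n • P.root k ∈ Submodule.span ℤ (P.root '' RootD.inSpan P Δ')) :
    k ∈ RootD.inSpan P Δ' := by
  have hspan : Submodule.span ℤ (P.root '' RootD.inSpan P Δ') ≤
      Submodule.span ℤ (P.root '' Δ') := by
    rw [Submodule.span_le]
    rintro _ ⟨l, hl, rfl⟩
    exact hl
  obtain ⟨d, hd, hdk⟩ := (Finsupp.mem_span_image_iff_linearCombination ℤ).mp (hspan h)
  rw [Finsupp.mem_supported] at hd
  have heq : (n : ℤ) • coeff hΔ k = d := by
    refine intCoeff_unique P hΔ.linInd (support_smul_subset (coeff_support hΔ k) _)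
      (hd.trans hsub) ?_
    rw [map_smul, coeff_linearCombination, hdk, natCast_zsmul]
  have hsupp : (↑(coeff hΔ k).support : Set ι) ⊆ Δ' := by
    intro j hj
    by_contra hjΔ'
    have h0 : d j = 0 := by
      by_contra hne
      exact hjΔ' (hd (Finsupp.mem_support_iff.mpr hne))
    have h1 := DFunLike.congr_fun heq j
    rw [Finsupp.smul_apply, h0, smul_eq_mul] at h1
    have hn' : (n : ℤ) ≠ 0 := by exact_mod_cast hn.ne'
    rcases mul_eq_zero.mp h1 with h2 | h2
    · exact hn' h2
    · exact (Finsupp.mem_support_iff.mp hj) h2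
  change P.root k ∈ Submodule.span ℤ (P.root '' Δ')
  rw [← coeff_linearCombination hΔ k]
  exact (Finsupp.mem_span_image_iff_linearCombination ℤ).mpr
    ⟨coeff hΔ k, (Finsupp.mem_supported _ _).mpr hsupp, rfl⟩

/-- A set of roots R' is the trace on R of a vector subspace (every root with a positive multiple in the
span of R' lies in R') if and only if R' is the set of roots in the span of a subset Δ' of some
system of simple roots Δ. -/
theorem result {ι M N : Type*} [AddCommGroup M] [AddCommGroup N]
    (P : RootPairing ι ℤ M N) [Finite ι] (R' : Set ι) :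
    (∀ k : ι, (∃ n : ℕ, 0 < n ∧ n • P.root k ∈ Submodule.span ℤ (P.root '' R')) → k ∈ R') ↔
      ∃ Δ Δ' : Set ι, RootD.IsSimpleSys P Δ ∧ Δ' ⊆ Δ ∧ R' = RootD.inSpan P Δ' := by
  constructor
  · exact exists_of_sat P R'
  · rintro ⟨Δ, Δ', hΔ, hsub, rfl⟩ k ⟨n, hn, h⟩
    exact sat_of_inSpan P hΔ hsub k n hn h

end Groth.Agent.S5460
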