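import Groth.Statements.S5462
import Groth.Agent.Lib.Helper28.RootCox

set_option autoImplicit false
open RootPairing
open scoped Pointwise
open RootD

namespace Groth.Agent.S5462

/-- For Δ' contained in a system of simple roots Δ, the subgroup of the Weyl group generated by the
reflections in Δ' preserves the set of positive roots not lying in the span of Δ'. -/
theorem result {ι M N : Type*} [AddCommGroup M] [AddCommGroup N]
    (P : RootPairing ι ℤ M N) [Finite ι] (Δ Δ' : Set ι) (hΔ : RootD.IsSimpleSys P Δ) (hsub : Δ' ⊆ Δ)
    (g : P.Aut) (hg : g ∈ Subgroup.closure ((fun i : ι => Equiv.reflection P i) '' Δ'))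
    (k : ι) (hk : k ∈ RootD.posOf P Δ) (hk' : k ∉ RootD.inSpan P Δ') :
    g • k ∈ RootD.posOf P Δ ∧ g • k ∉ RootD.inSpan P Δ' := by
  obtain ⟨l, hl, rfl⟩ := Lib.Helper28.exists_word_of_mem_closure hg
  clear hg
  induction l with
  | nil =>
    rw [Lib.Helper28.wordProd_nil, one_smul]
    exact ⟨hk, hk'⟩
  | cons a l ih =>
    have ha : a ∈ Δ' := hl a List.mem_cons_self
    have hl' : ∀ b ∈ l, b ∈ Δ' := fun b hb => hl b (List.mem_cons_of_mem _ hb)
    obtain ⟨h1, h2⟩ := ih hl'
    rw [Lib.Helper28.wordProd_cons, mul_smul, Lib.Helper28.reflection_smul_idx]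
    set k' := Lib.Helper28.wordProd P l • k with hk'def
    have haspan : P.root a ∈ Submodule.span ℤ (P.root '' Δ') :=
      Submodule.subset_span (Set.mem_image_of_mem _ ha)
    constructor
    · rcases Lib.Helper28.reflectionPerm_mem_posOf_or hΔ (hsub ha) h1 with h | ⟨n, hn⟩
      · exact h
      · exfalso
        apply h2
        change P.root k' ∈ Submodule.span ℤ (P.root '' Δ')
        rw [hn]
        exact Submodule.smul_of_tower_mem _ n haspan
    · intro hmem
      apply h2
      change P.root (P.reflectionPerm a k') ∈ Submodule.span ℤ (P.root '' Δ') at hmem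
      change P.root k' ∈ Submodule.span ℤ (P.root '' Δ')
      rw [P.root_reflectionPerm, P.reflection_apply_root] at hmem
      have : P.root k' = (P.root k' - P.pairing k' a • P.root a) + P.pairing k' a • P.root a := by abel
      rw [this]
      exact Submodule.add_mem _ hmem (Submodule.smul_mem _ _ haspan)

end Groth.Agent.S5462
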