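import Groth.Statements.S5463
import Groth.Agent.Lib.Helper28.RootCox

set_option autoImplicit false
open RootPairing
open scoped Pointwise
open RootD

namespace Groth.Agent.S5463

open Lib.Helper28 in
lemma forward {ι M N : Type*} [AddCommGroup M] [AddCommGroup N]
    (P : RootPairing ι ℤ M N) (Δ' : Set ι) :
    ∀ l : List ι, (∀ a ∈ l, a ∈ Δ') → ∀ k : ι,
      P.root (wordProd P l • k) - P.root k ∈ Submodule.span ℤ (P.root '' Δ') := by
  intro l
  induction l with
  | nil => intro _ k; simp
  | cons a l ih =>
    intro hl k
    have ha : a ∈ Δ' := hl a List.mem_cons_self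
    have hl' : ∀ b ∈ l, b ∈ Δ' := fun b hb => hl b (List.mem_cons_of_mem _ hb)
    rw [wordProd_cons, mul_smul, reflection_smul_idx, P.root_reflectionPerm,
      P.reflection_apply_root]
    have : P.root (wordProd P l • k) - P.pairing (wordProd P l • k) a • P.root a - P.root k =
        (P.root (wordProd P l • k) - P.root k) - P.pairing (wordProd P l • k) a • P.root a := by abel
    rw [this]
    exact Submodule.sub_mem _ (ih hl' k)
      (Submodule.smul_mem _ _ (Submodule.subset_span (Set.mem_image_of_mem _ ha)))

open Lib.Helper28 in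
lemma backward {ι M N : Type*} [AddCommGroup M] [AddCommGroup N]
    (P : RootPairing ι ℤ M N) [Finite ι] {Δ Δ' : Set ι} (hΔ : RootD.IsSimpleSys P Δ) (hsub : Δ' ⊆ Δ) :
    ∀ (n : ℕ) (l : List ι), (∀ a ∈ l, a ∈ Δ) → l.length = n →
      (∀ k : ι, ∃ m : ℕ, 0 < m ∧ m • (P.root (wordProd P l • k) - P.root k) ∈
        Submodule.span ℤ (P.root '' Δ')) →
      wordProd P l ∈ Subgroup.closure ((fun i : ι => Equiv.reflection P i) '' Δ') := by
  classical
  intro n
  induction n using Nat.strong_induction_on with
  | _ n ih =>
    intro l hl hlen hyp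
    set g := wordProd P l with hg
    have hex : ∃ m : ℕ, ∃ l' : List ι, (∀ a ∈ l', a ∈ Δ) ∧ wordProd P l' = g ∧ l'.length = m :=
      ⟨_, l, hl, rfl, rfl⟩
    obtain ⟨l₀, hl₀, hl₀g, hlen₀⟩ := Nat.find_spec hex
    have hle : l₀.length ≤ n := by
      rw [hlen₀, ← hlen]
      exact Nat.find_min' hex ⟨l, hl, rfl, rfl⟩
    by_cases hne : l₀ = []
    · rw [← hl₀g, hne, wordProd_nil]; exact one_mem _
    · have hmin : ∀ l' : List ι, (∀ a ∈ l', a ∈ Δ) → wordProd P l' = wordProd P l₀ →
          l₀.length ≤ l'.length := by
        intro l' hl' hprod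
        rw [hlen₀]
        exact Nat.find_min' hex ⟨l', hl', hprod.trans hl₀g, rfl⟩
      have hneg := neg_root_mem_natSpan_of_minimal hΔ l₀ hl₀ hne hmin
      set t := l₀.getLast hne with ht
      have htΔ : t ∈ Δ := hl₀ t (List.getLast_mem hne)
      rw [hl₀g] at hneg
      -- `t ∈ Δ'`
      have htΔ' : t ∈ Δ' := by
        obtain ⟨m, hm, hmem⟩ := hyp t
        obtain ⟨c, hc, hck⟩ := (Finsupp.mem_span_image_iff_linearCombination ℤ).mp hmem
        rw [Finsupp.mem_supported] at hc
        have hcoef : c = (m : ℤ) • (coeff hΔ (g • t) - Finsupp.single t 1) := by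
          refine intCoeff_unique P hΔ.linInd (hc.trans hsub) ?_ ?_
          · refine support_smul_subset (support_sub_subset (coeff_support hΔ _) ?_) _
            intro j hj
            have := Finsupp.support_single_subset hj
            rw [Finset.mem_singleton] at this
            rw [this]; exact htΔ
          · rw [hck, LinearMap.map_smul, map_sub, coeff_linearCombination, natCast_zsmul,
              Finsupp.linearCombination_single, one_smul]
        have hnonpos : coeff hΔ (g • t) t ≤ 0 := by
          have hmem' : P.reflectionPerm (g • t) (g • t) ∈ RootD.posOf P Δ := by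
            change P.root (P.reflectionPerm (g • t) (g • t)) ∈ RootD.natSpan P Δ
            rw [root_neg]; exact hneg
          have := (mem_posOf_iff_coeff_nonneg hΔ _).mp hmem' t
          rw [coeff_neg, Finsupp.neg_apply] at this
          omega
        have hct : c t ≠ 0 := by
          rw [hcoef, Finsupp.smul_apply, Finsupp.sub_apply, Finsupp.single_apply, if_pos rfl,
            smul_eq_mul]
          have hm' : (0 : ℤ) < m := by exact_mod_cast hm
          have : coeff hΔ (g • t) t - 1 < 0 := by omega
          exact (mul_neg_of_pos_of_neg hm' this).ne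
        exact hc (Finsupp.mem_support_iff.mpr hct)
      have hsplit : l₀ = l₀.dropLast ++ [t] := (List.dropLast_append_getLast hne).symm
      have hg' : g = wordProd P l₀.dropLast * Equiv.reflection P t := by
        rw [← hl₀g]
        conv_lhs => rw [hsplit]
        rw [wordProd_append, wordProd_cons, wordProd_nil, mul_one]
      have hlen' : l₀.dropLast.length < n := by
        have : l₀.length = l₀.dropLast.length + 1 := by
          conv_lhs => rw [hsplit]
          simp
        omega
      have hl₀' : ∀ a ∈ l₀.dropLast, a ∈ Δ := fun a ha => hl₀ a (List.mem_of_mem_dropLast ha)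
      have hgd : wordProd P l₀.dropLast = g * Equiv.reflection P t := by
        rw [hg', mul_assoc, reflection_mul_self, mul_one]
      have hrec := ih _ hlen' l₀.dropLast hl₀' rfl (by
        intro k
        obtain ⟨m, hm, hmem⟩ := hyp (P.reflectionPerm t k)
        refine ⟨m, hm, ?_⟩
        rw [hgd, mul_smul, reflection_smul_idx]
        have : P.root (g • (P.reflectionPerm t) k) - P.root k =
            (P.root (g • (P.reflectionPerm t) k) - P.root (P.reflectionPerm t k)) +
              (P.root (P.reflectionPerm t k) - P.root k) := by abel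
        rw [this, smul_add]
        refine Submodule.add_mem _ hmem (Submodule.smul_of_tower_mem _ m ?_)
        rw [P.root_reflectionPerm, P.reflection_apply_root, sub_sub_cancel_left]
        exact Submodule.neg_mem _
          (Submodule.smul_mem _ _ (Submodule.subset_span (Set.mem_image_of_mem _ htΔ'))))
      rw [hg']
      exact mul_mem hrec (Subgroup.subset_closure (Set.mem_image_of_mem _ htΔ'))

/-- An element w of the Weyl group belongs to the subgroup generated by the reflections in Δ' ⊆ Δ (Δ a
system of simple roots) if and only if w(α) - α lies in the rational span of Δ' for every root α. -/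
theorem result {ι M N : Type*} [AddCommGroup M] [AddCommGroup N]
    (P : RootPairing ι ℤ M N) [Finite ι] (Δ Δ' : Set ι) (hΔ : RootD.IsSimpleSys P Δ)
    (hsub : Δ' ⊆ Δ) (g : P.Aut) (hg : g ∈ P.weylGroup) :
    g ∈ Subgroup.closure ((fun i : ι => Equiv.reflection P i) '' Δ') ↔
      ∀ k : ι, ∃ n : ℕ, 0 < n ∧ n • (P.root (g • k) - P.root k) ∈ Submodule.span ℤ (P.root '' Δ') := by
  constructor
  · intro hg' k
    obtain ⟨l, hl, rfl⟩ := Lib.Helper28.exists_word_of_mem_closure hg'
    exact ⟨1, one_pos, by rw [one_smul]; exact forward P Δ' l hl k⟩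
  · intro hyp
    rw [← Lib.Helper28.closure_simple_reflections hΔ] at hg
    obtain ⟨l, hl, rfl⟩ := Lib.Helper28.exists_word_of_mem_closure hg
    exact backward P hΔ hsub _ l hl rfl hyp

end Groth.Agent.S5463
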