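import Groth.Statements.S5464
import Groth.Agent.Lib.Helper28.RootSubExt
import Groth.Agent.Lib.Helper28.RootHeight
import Groth.Agent.S5457
import Mathlib.Algebra.Order.Monoid.Prod

set_option autoImplicit false
open RootD

namespace Groth.Agent.S5464

open Lib.Helper28 in
/-- The first coefficient of a linear relation between three distinct roots of a linearly independent
set vanishes. -/
lemma three_rel {ι M N : Type*} [AddCommGroup M] [AddCommGroup N]
    (P : RootPairing ι ℤ M N) {Δ : Set ι} (hli : LinearIndepOn ℤ P.root Δ) {x y z : ι}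
    (hx : x ∈ Δ) (hy : y ∈ Δ) (hz : z ∈ Δ) (hxy : x ≠ y) (hxz : x ≠ z) (p q r : ℤ)
    (h : p • P.root x + q • P.root y + r • P.root z = 0) : p = 0 := by
  classical
  have hs : ∀ (a : ι) (t : ℤ), a ∈ Δ → (↑(Finsupp.single a t).support : Set ι) ⊆ Δ := by
    intro a t ha b hb
    have := Finsupp.support_single_subset hb
    rw [Finset.mem_singleton] at this
    exact this ▸ ha
  have hc : (↑(Finsupp.single x p + Finsupp.single y q + Finsupp.single z r).support : Set ι) ⊆ Δ :=
    support_add_subset (support_add_subset (hs x p hx) (hs y q hy)) (hs z r hz)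
  have h0 : (↑(0 : ι →₀ ℤ).support : Set ι) ⊆ Δ := by simp
  have := intCoeff_unique P hli hc h0 (by
    rw [map_add, map_add, Finsupp.linearCombination_single, Finsupp.linearCombination_single,
      Finsupp.linearCombination_single, h, map_zero])
  have h2 := DFunLike.congr_fun this x
  simp only [Finsupp.add_apply, Finsupp.single_eq_same, Finsupp.zero_apply] at h2
  rw [Finsupp.single_apply, if_neg (Ne.symm hxy), Finsupp.single_apply, if_neg (Ne.symm hxz)] at h2
  omega

/-- Given an indivisible root α and a root γ not proportional to it, there is a system of simple roots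
containing α and a simple root β of it with γ = aα + bβ, a, b ∈ ℕ. -/
theorem result {ι M N : Type*} [AddCommGroup M] [AddCommGroup N]
    (P : RootPairing ι ℤ M N) [Finite ι] (i k : ι) (hα : RootD.IsIndiv P i)
    (hli : LinearIndependent ℤ ![P.root i, P.root k]) :
    ∃ Δ : Set ι, RootD.IsSimpleSys P Δ ∧ i ∈ Δ ∧
      ∃ j ∈ Δ, ∃ a b : ℕ, P.root k = a • P.root i + b • P.root j := by
  classical
  have : Fintype ι := Fintype.ofFinite ι
  have hatf := Lib.Helper28.isAddTorsionFree_weight P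
  have htf := Lib.Helper28.isTorsionFree_weight P
  set α := P.root i with hαdef
  set γ := P.root k with hγdef
  set V₀ : Submodule ℤ M := Submodule.span ℤ {α, γ} with hV₀
  have hαV : α ∈ V₀ := Submodule.subset_span (by simp)
  have hγV : γ ∈ V₀ := Submodule.subset_span (by simp)
  -- the saturated set of roots
  set R' : Set ι := {l | ∃ n : ℕ, 0 < n ∧ n • P.root l ∈ V₀} with hR'
  have haux : ∀ x ∈ Submodule.span ℤ (P.root '' R'), ∃ n : ℕ, 0 < n ∧ n • x ∈ V₀ := by
    intro x hx
    induction hx using Submodule.span_induction with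
    | mem x hx =>
      obtain ⟨l, hl, rfl⟩ := hx
      exact hl
    | zero => exact ⟨1, one_pos, by simp⟩
    | add x y _ _ ihx ihy =>
      obtain ⟨n₁, hn₁, h₁⟩ := ihx
      obtain ⟨n₂, hn₂, h₂⟩ := ihy
      refine ⟨n₁ * n₂, Nat.mul_pos hn₁ hn₂, ?_⟩
      rw [smul_add, mul_smul, mul_comm, mul_smul, smul_comm n₁ n₂ x, smul_comm n₂ n₁ y]
      exact add_mem (Submodule.smul_of_tower_mem _ n₂ h₁) (Submodule.smul_of_tower_mem _ n₁ h₂)
    | smul c x _ ih =>
      obtain ⟨n, hn, h⟩ := ih
      refine ⟨n, hn, ?_⟩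
      rw [smul_comm]
      exact Submodule.smul_mem _ _ h
  have hsat : ∀ l : ι, (∃ n : ℕ, 0 < n ∧ n • P.root l ∈ Submodule.span ℤ (P.root '' R')) →
      l ∈ R' := by
    rintro l ⟨n, hn, h⟩
    obtain ⟨m, hm, h2⟩ := haux _ h
    exact ⟨m * n, Nat.mul_pos hm hn, by rwa [mul_smul]⟩
  have hiR : i ∈ R' := ⟨1, one_pos, by rw [one_smul]; exact hαV⟩
  have hkR : k ∈ R' := ⟨1, one_pos, by rw [one_smul]; exact hγV⟩
  obtain ⟨n, φ₁, hφ0, hφne⟩ := Lib.Helper28.exists_separating P hsat
  have f2 : ∀ l, φ₁ (P.root l) = 0 → l ∈ R' := fun l h => by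
    by_contra hl
    exact hφne l hl h
  -- the two further functionals
  set a := P.RootForm α α with ha
  set b := P.RootForm α γ with hb
  have hsymm : ∀ x y : M, P.RootForm x y = P.RootForm y x := fun x y =>
    P.rootForm_symmetric.eq x y
  have hapos : 0 < a :=
    P.rootForm_pos_of_ne_zero (Submodule.subset_span (Set.mem_range_self i)) (P.ne_zero i)
  set γ' : M := a • γ - b • α with hγ'
  set D : ℤ := a * P.RootForm γ γ - b * b with hD
  have hγ'ne : γ' ≠ 0 := by
    intro h0
    rw [LinearIndependent.pair_iff] at hli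
    have := hli (-b) a (by rw [hγ'] at h0; rw [← h0]; simp only [neg_smul]; abel)
    omega
  have hγ'mem : γ' ∈ P.rootSpan ℤ :=
    Submodule.sub_mem _ (Submodule.smul_mem _ _ (Submodule.subset_span (Set.mem_range_self k)))
      (Submodule.smul_mem _ _ (Submodule.subset_span (Set.mem_range_self i)))
  have hDpos : 0 < D := by
    have h1 := P.rootForm_pos_of_ne_zero hγ'mem hγ'ne
    have h2 : P.RootForm γ' γ' = a * D := by
      simp only [hγ', hD, map_sub, map_smul, LinearMap.sub_apply, LinearMap.smul_apply,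
        smul_eq_mul]
      rw [hsymm γ α]
      ring
    rw [h2] at h1
    exact (pos_iff_pos_of_mul_pos h1).mp hapos
  set χ : M →+ ℤ := (P.RootForm.flip γ').toAddMonoidHom with hχ
  set χ₂ : M →+ ℤ := (P.RootForm.flip α).toAddMonoidHom with hχ₂
  have hχα : χ α = 0 := by
    change P.RootForm α γ' = 0
    simp only [hγ', map_sub, map_smul, smul_eq_mul]
    ring
  have hχγ : χ γ = D := by
    change P.RootForm γ γ' = D
    simp only [hγ', hD, map_sub, map_smul, smul_eq_mul]
    rw [hsymm γ α]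
  have hχ₂α : χ₂ α = a := rfl
  -- roots of `R'` killed by `χ` are proportional to `α`
  have hprop : ∀ l ∈ R', χ (P.root l) = 0 →
      ∃ (m : ℕ) (c : ℤ), 0 < m ∧ c ≠ 0 ∧ m • P.root l = c • α := by
    rintro l ⟨m, hm, hmem⟩ h0
    obtain ⟨c, d, hcd⟩ := Submodule.mem_span_pair.mp hmem
    have h1 : χ (m • P.root l) = d * D := by
      rw [← hcd, map_add, map_zsmul, map_zsmul, hχα, hχγ, smul_zero, zero_add, smul_eq_mul]
    rw [map_nsmul, h0, smul_zero] at h1
    have hd : d = 0 := by
      rcases mul_eq_zero.mp h1.symm with h | h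
      · exact h
      · omega
    rw [hd, zero_smul, add_zero] at hcd
    refine ⟨m, c, hm, ?_, hcd.symm⟩
    rintro rfl
    rw [zero_smul] at hcd
    exact P.ne_zero l ((nsmul_eq_zero_iff_right hm.ne').mp hcd.symm)
  have hχ₂ne : ∀ l ∈ R', χ (P.root l) = 0 → χ₂ (P.root l) ≠ 0 := by
    intro l hl h0 h2
    obtain ⟨m, c, hm, hc, hmc⟩ := hprop l hl h0
    have h3 : χ₂ (m • P.root l) = c * a := by rw [hmc, map_zsmul, hχ₂α, smul_eq_mul]
    rw [map_nsmul, h2, smul_zero] at h3
    rcases mul_eq_zero.mp h3.symm with h | h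
    · exact hc h
    · omega
  -- the combined order
  let Φ : M →+ Lex (Fin n → ℤ) ×ₗ (ℤ ×ₗ ℤ) :=
    AddMonoidHom.mk' (fun m => toLex (φ₁ m, toLex (χ m, χ₂ m))) (by
      intro x y
      simp only [map_add]
      rfl)
  have hΦpos : ∀ x : M, 0 < Φ x ↔
      0 < φ₁ x ∨ (φ₁ x = 0 ∧ (0 < χ x ∨ (χ x = 0 ∧ 0 < χ₂ x))) := by
    intro x
    change toLex ((0 : Lex (Fin n → ℤ)), toLex ((0 : ℤ), (0 : ℤ))) <
      toLex (φ₁ x, toLex (χ x, χ₂ x)) ↔ _
    rw [Prod.Lex.toLex_lt_toLex]
    simp only [Prod.Lex.toLex_lt_toLex]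
    constructor
    · rintro (h | ⟨h1, h | ⟨h2, h3⟩⟩)
      · exact Or.inl h
      · exact Or.inr ⟨h1.symm, Or.inl h⟩
      · exact Or.inr ⟨h1.symm, Or.inr ⟨h2.symm, h3⟩⟩
    · rintro (h | ⟨h1, h | ⟨h2, h3⟩⟩)
      · exact Or.inl h
      · exact Or.inr ⟨h1.symm, Or.inl h⟩
      · exact Or.inr ⟨h1.symm, Or.inr ⟨h2.symm, h3⟩⟩
  have hΦne : ∀ l : ι, Φ (P.root l) ≠ 0 := by
    intro l h0
    have h1 : φ₁ (P.root l) = 0 := congrArg (fun z => (ofLex z).1) h0
    have h2 : χ (P.root l) = 0 := congrArg (fun z => (ofLex (ofLex z).2).1) h0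
    have h3 : χ₂ (P.root l) = 0 := congrArg (fun z => (ofLex (ofLex z).2).2) h0
    exact hχ₂ne l (f2 l h1) h2 h3
  have hΦ : ∀ l : ι, 0 < Φ (P.root l) ∨ Φ (P.root l) < 0 := fun l =>
    (lt_or_gt_of_ne (hΦne l)).symm
  have hS := Groth.Agent.S5457.result P Φ hΦ
  set S : Set ι := {l | 0 < Φ (P.root l)} with hSdef
  have hΔ : RootD.IsSimpleSys P (Lib.Helper28.indec P S) := Lib.Helper28.isSimpleSys_indec hS
  have hposOf : S = RootD.posOf P (Lib.Helper28.indec P S) :=
    Lib.Helper28.IsPosSys_eq_posOf hS hΔ (Lib.Helper28.indec_subset S)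
  have hiS : i ∈ S := (hΦpos _).mpr (Or.inr ⟨hφ0 i hiR, Or.inr ⟨hχα, by rw [hχ₂α]; exact hapos⟩⟩)
  have hkS : k ∈ S := (hΦpos _).mpr (Or.inr ⟨hφ0 k hkR, Or.inl (by rw [hχγ]; exact hDpos)⟩)
  have hS1 : ∀ s ∈ S, 0 ≤ φ₁ (P.root s) := by
    intro s hs
    rcases (hΦpos _).mp hs with h | h
    · exact h.le
    · exact h.1.ge
  have hS2 : ∀ s ∈ S, φ₁ (P.root s) = 0 → 0 ≤ χ (P.root s) := by
    intro s hs h0
    rcases (hΦpos _).mp hs with h | h
    · exact absurd h0 (ne_of_gt h)
    · rcases h.2 with h2 | h2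
      · exact h2.le
      · exact h2.1.ge
  have hS3 : ∀ s ∈ S, φ₁ (P.root s) = 0 → χ (P.root s) = 0 → 0 < χ₂ (P.root s) := by
    intro s hs h0 h1
    rcases (hΦpos _).mp hs with h | h
    · exact absurd h0 (ne_of_gt h)
    · rcases h.2 with h2 | h2
      · exact absurd h1 (ne_of_gt h2)
      · exact h2.2
  -- `i` is indecomposable
  have hiΔ : i ∈ Lib.Helper28.indec P S := by
    refine ⟨hiS, ?_⟩
    intro x hx y hy hxy
    have e1 : φ₁ (P.root x) + φ₁ (P.root y) = 0 := by
      rw [← map_add, ← hxy]; exact hφ0 i hiR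
    have e1' := (add_eq_zero_iff_of_nonneg (hS1 x hx) (hS1 y hy)).mp e1
    have e2 : χ (P.root x) + χ (P.root y) = 0 := by
      rw [← map_add, ← hxy]; exact hχα
    have e2' := (add_eq_zero_iff_of_nonneg (hS2 x hx e1'.1) (hS2 y hy e1'.2)).mp e2
    have px := hS3 x hx e1'.1 e2'.1
    have py := hS3 y hy e1'.2 e2'.2
    obtain ⟨mx, cx, hmx, hcx, hx'⟩ := hprop x (f2 x e1'.1) e2'.1
    obtain ⟨my, cy, hmy, hcy, hy'⟩ := hprop y (f2 y e1'.2) e2'.2
    -- pair with the coroot of `i`
    have hp : P.pairing x i + P.pairing y i = 2 := by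
      have := congrArg (P.coroot' i) hxy
      rw [map_add, P.root_coroot'_eq_pairing, P.root_coroot'_eq_pairing,
        P.root_coroot'_eq_pairing, P.pairing_same] at this
      exact this.symm
    have hpx : (mx : ℤ) * P.pairing x i = cx * 2 := by
      have := congrArg (P.coroot' i) hx'
      rw [map_nsmul, map_zsmul, P.root_coroot'_eq_pairing, P.root_coroot'_eq_pairing,
        P.pairing_same, nsmul_eq_mul, smul_eq_mul] at this
      exact this
    have hpy : (my : ℤ) * P.pairing y i = cy * 2 := by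
      have := congrArg (P.coroot' i) hy'
      rw [map_nsmul, map_zsmul, P.root_coroot'_eq_pairing, P.root_coroot'_eq_pairing,
        P.pairing_same, nsmul_eq_mul, smul_eq_mul] at this
      exact this
    have hcxpos : 0 < cx := by
      have h3 : χ₂ (mx • P.root x) = cx * a := by rw [hx', map_zsmul, hχ₂α, smul_eq_mul]
      rw [map_nsmul, nsmul_eq_mul] at h3
      have hmx' : (0 : ℤ) < mx := by exact_mod_cast hmx
      have : 0 < cx * a := by rw [← h3]; exact mul_pos hmx' px
      exact (pos_iff_pos_of_mul_pos this).mpr hapos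
    have hcypos : 0 < cy := by
      have h3 : χ₂ (my • P.root y) = cy * a := by rw [hy', map_zsmul, hχ₂α, smul_eq_mul]
      rw [map_nsmul, nsmul_eq_mul] at h3
      have hmy' : (0 : ℤ) < my := by exact_mod_cast hmy
      have : 0 < cy * a := by rw [← h3]; exact mul_pos hmy' py
      exact (pos_iff_pos_of_mul_pos this).mpr hapos
    have hmx' : (0 : ℤ) < mx := by exact_mod_cast hmx
    have hmy' : (0 : ℤ) < my := by exact_mod_cast hmy
    have hpxpos : 0 < P.pairing x i := by
      have : 0 < (mx : ℤ) * P.pairing x i := by rw [hpx]; positivity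
      exact (pos_iff_pos_of_mul_pos this).mp hmx'
    have hpypos : 0 < P.pairing y i := by
      have : 0 < (my : ℤ) * P.pairing y i := by rw [hpy]; positivity
      exact (pos_iff_pos_of_mul_pos this).mp hmy'
    have hpx1 : P.pairing x i = 1 := by omega
    rw [hpx1, mul_one] at hpx
    -- `2 • root x = α`, contradicting indivisibility
    apply hα x
    have h4 : (cx : ℤ) • ((2 : ℤ) • P.root x) = (cx : ℤ) • α := by
      rw [← hx', smul_smul, ← hpx, natCast_zsmul]
    exact smul_right_injective M hcx h4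
  -- decomposition of `γ`
  have hle : ∀ x ∈ RootD.natSpan P (Lib.Helper28.indec P S),
      0 ≤ φ₁ x ∧ (φ₁ x = 0 → x ∈ RootD.natSpan P (Lib.Helper28.indec P S ∩ R')) := by
    intro x hx
    induction hx using AddSubmonoid.closure_induction with
    | mem x hx =>
      obtain ⟨s, hs, rfl⟩ := hx
      have hsS : s ∈ S := Lib.Helper28.indec_subset S hs
      exact ⟨hS1 s hsS, fun h => Lib.Helper28.root_mem_natSpan P ⟨hs, f2 s h⟩⟩
    | zero => exact ⟨le_of_eq (map_zero φ₁).symm, fun _ => zero_mem _⟩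
    | add x y _ _ ihx ihy =>
      refine ⟨by rw [map_add]; exact add_nonneg ihx.1 ihy.1, fun h => ?_⟩
      rw [map_add] at h
      have := (add_eq_zero_iff_of_nonneg ihx.1 ihy.1).mp h
      exact add_mem (ihx.2 this.1) (ihy.2 this.2)
  have hkmem : γ ∈ RootD.natSpan P (Lib.Helper28.indec P S ∩ R') := by
    have hk1 : k ∈ RootD.posOf P (Lib.Helper28.indec P S) := hposOf ▸ hkS
    exact (hle _ hk1).2 (hφ0 k hkR)
  obtain ⟨c, hc, hck⟩ := (Lib.Helper28.mem_natSpan_iff P _ _).mp hkmem
  -- `Δ ∩ R'` has at most one element besides `i`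
  have hχpos : ∀ d ∈ Lib.Helper28.indec P S ∩ R', d ≠ i → 0 < χ (P.root d) := by
    intro d hd hdi
    have hdS : d ∈ S := Lib.Helper28.indec_subset S hd.1
    have h0 := hS2 d hdS (hφ0 d hd.2)
    rcases h0.lt_or_eq with h | h
    · exact h
    · exfalso
      obtain ⟨m, e, hm, he, hme⟩ := hprop d hd.2 h.symm
      have hm' : ((m : ℕ) : ℤ) ≠ 0 := by exact_mod_cast hm.ne'
      have := three_rel P hΔ.linInd hd.1 hiΔ hiΔ hdi hdi (m : ℤ) (-e) 0 (by
        rw [natCast_zsmul, hme, zero_smul, add_zero, neg_smul, add_neg_cancel])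
      exact hm' this
  have huniq : ∀ d₁ ∈ Lib.Helper28.indec P S ∩ R', ∀ d₂ ∈ Lib.Helper28.indec P S ∩ R',
      d₁ ≠ i → d₂ ≠ i → d₁ = d₂ := by
    intro d₁ hd₁ d₂ hd₂ h1 h2
    by_contra hne
    have p1 := hχpos d₁ hd₁ h1
    have p2 := hχpos d₂ hd₂ h2
    set x : M := χ (P.root d₂) • P.root d₁ - χ (P.root d₁) • P.root d₂ with hx
    have hxspan : x ∈ Submodule.span ℤ (P.root '' R') :=
      Submodule.sub_mem _ (Submodule.smul_mem _ _ (Submodule.subset_span ⟨d₁, hd₁.2, rfl⟩))
        (Submodule.smul_mem _ _ (Submodule.subset_span ⟨d₂, hd₂.2, rfl⟩))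
    obtain ⟨m, hm, hmem⟩ := haux x hxspan
    obtain ⟨e, d, hed⟩ := Submodule.mem_span_pair.mp hmem
    have hχx : χ x = 0 := by
      rw [hx, map_sub, map_zsmul, map_zsmul, smul_eq_mul, smul_eq_mul]
      ring
    have h3 : χ (m • x) = d * D := by
      rw [← hed, map_add, map_zsmul, map_zsmul, hχα, hχγ, smul_zero, zero_add, smul_eq_mul]
    rw [map_nsmul, hχx, smul_zero] at h3
    have hd : d = 0 := by
      rcases mul_eq_zero.mp h3.symm with h | h
      · exact h
      · omega
    rw [hd, zero_smul, add_zero] at hed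
    have hm' : (0 : ℤ) < m := by exact_mod_cast hm
    have := three_rel P hΔ.linInd hd₁.1 hd₂.1 hiΔ hne h1
      ((m : ℤ) * χ (P.root d₂)) (-((m : ℤ) * χ (P.root d₁))) (-e) (by
      rw [neg_smul, neg_smul, ← sub_eq_add_neg, ← sub_eq_add_neg, hed, mul_smul, mul_smul,
        ← smul_sub, ← hx, natCast_zsmul, sub_self])
    have : 0 < (m : ℤ) * χ (P.root d₂) := mul_pos hm' p2
    omega
  -- conclusion
  by_cases hex : ∃ j ∈ Lib.Helper28.indec P S ∩ R', j ≠ i
  · obtain ⟨j, hj, hji⟩ := hex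
    refine ⟨_, hΔ, hiΔ, j, hj.1, c i, c j, ?_⟩
    rw [← hck, Finsupp.linearCombination_apply, Finsupp.sum]
    have hsub : c.support ⊆ {i, j} := by
      intro d hd
      have hdm := hc hd
      by_cases hdi : d = i
      · simp [hdi]
      · have := huniq d hdm j hj hdi hji
        simp [this]
    rw [Finset.sum_subset hsub (fun d _ hd => by
      rw [Finsupp.notMem_support_iff.mp hd, zero_smul])]
    rw [Finset.sum_pair (Ne.symm hji)]
  · exfalso
    push Not at hex
    have hsub : c.support ⊆ {i} := by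
      intro d hd
      rw [Finset.mem_singleton]
      exact hex d (hc hd)
    have hk : γ = c i • α := by
      rw [← hck, Finsupp.linearCombination_apply, Finsupp.sum]
      rw [Finset.sum_subset hsub (fun d _ hd => by
        rw [Finsupp.notMem_support_iff.mp hd, zero_smul])]
      rw [Finset.sum_singleton]
    rw [LinearIndependent.pair_iff] at hli
    have := hli (c i : ℤ) (-1) (by rw [neg_smul, one_smul, natCast_zsmul, ← hk, add_neg_cancel])
    omega

end Groth.Agent.S5464
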