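import Groth.Statements.S5465
import Groth.Agent.Lib.Helper28.RootHeight
import Groth.Agent.Lib.Helper28.RootExist

set_option autoImplicit false
open RootD

namespace Groth.Agent.S5465

/-- A map from the roots to an abelian group that is odd and additive on pairs of roots whose sum is a
root extends uniquely to a homomorphism on the lattice generated by the roots. -/
theorem result {ι M N : Type*} [AddCommGroup M] [AddCommGroup N]
    (P : RootPairing ι ℤ M N) [Finite ι] {G : Type*} [AddCommGroup G] (f : ι → G)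
    (hneg : ∀ i : ι, f (P.reflectionPerm i i) = -f i)
    (hadd : ∀ i j k : ι, P.root k = P.root i + P.root j → f k = f i + f j) :
    ∃! φ : Submodule.span ℤ (Set.range P.root) →+ G,
      ∀ i : ι, φ ⟨P.root i, Submodule.subset_span (Set.mem_range_self i)⟩ = f i := by
  classical
  obtain ⟨Δ, hΔ⟩ := Lib.Helper28.exists_isSimpleSys P
  -- coordinates on the root lattice
  have hspan : ∀ x ∈ Submodule.span ℤ (Set.range P.root), ∃ c : ι →₀ ℤ,
      (↑c.support : Set ι) ⊆ Δ ∧ Finsupp.linearCombination ℤ P.root c = x := by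
    intro x hx
    induction hx using Submodule.span_induction with
    | mem x hx =>
      obtain ⟨k, rfl⟩ := hx
      exact Lib.Helper28.exists_coeff hΔ k
    | zero => exact ⟨0, by simp, by simp⟩
    | add x y _ _ hx hy =>
      obtain ⟨c, hc, rfl⟩ := hx
      obtain ⟨d, hd, rfl⟩ := hy
      exact ⟨c + d, Lib.Helper28.support_add_subset hc hd, map_add _ _ _⟩
    | smul a x _ hx =>
      obtain ⟨c, hc, rfl⟩ := hx
      exact ⟨a • c, Lib.Helper28.support_smul_subset hc a, map_smul _ _ _⟩
  let coord : Submodule.span ℤ (Set.range P.root) → (ι →₀ ℤ) :=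
    fun x => Classical.choose (hspan x.1 x.2)
  have coord_supp : ∀ x, (↑(coord x).support : Set ι) ⊆ Δ :=
    fun x => (Classical.choose_spec (hspan x.1 x.2)).1
  have coord_lc : ∀ x, Finsupp.linearCombination ℤ P.root (coord x) = x.1 :=
    fun x => (Classical.choose_spec (hspan x.1 x.2)).2
  have coord_eq : ∀ x (c : ι →₀ ℤ), (↑c.support : Set ι) ⊆ Δ →
      Finsupp.linearCombination ℤ P.root c = x.1 → coord x = c := by
    intro x c hc hcx
    exact Lib.Helper28.intCoeff_unique P hΔ.linInd (coord_supp x) hc ((coord_lc x).trans hcx.symm)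
  let ψ : (ι →₀ ℤ) →+ G := Finsupp.liftAddHom (fun j => (zmultiplesHom G) (f j))
  have ψ_single : ∀ j (a : ℤ), ψ (Finsupp.single j a) = a • f j := by
    intro j a
    simp [ψ]
  let φ : Submodule.span ℤ (Set.range P.root) →+ G :=
    AddMonoidHom.mk' (fun x => ψ (coord x)) (by
      intro x y
      have : coord (x + y) = coord x + coord y := by
        refine coord_eq _ _ (Lib.Helper28.support_add_subset (coord_supp x) (coord_supp y)) ?_
        rw [map_add, coord_lc, coord_lc]; rfl
      rw [this, map_add])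
  have hφroot : ∀ k : ι, φ ⟨P.root k, Submodule.subset_span (Set.mem_range_self k)⟩ =
      ψ (Lib.Helper28.coeff hΔ k) := by
    intro k
    change ψ (coord _) = _
    rw [coord_eq _ _ (Lib.Helper28.coeff_support hΔ k) (Lib.Helper28.coeff_linearCombination hΔ k)]
  have hψpos : ∀ k ∈ RootD.posOf P Δ, ψ (Lib.Helper28.coeff hΔ k) = f k := by
    refine Lib.Helper28.posOf_induction hΔ ?_ ?_
    · intro i hi
      rw [Lib.Helper28.coeff_simple hΔ hi, ψ_single, one_smul]
    · intro k l j hl hj hk ih
      rw [Lib.Helper28.coeff_add hΔ hk, map_add, ih, Lib.Helper28.coeff_simple hΔ hj, ψ_single,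
        one_smul, hadd l j k hk]
  have hψ : ∀ k : ι, ψ (Lib.Helper28.coeff hΔ k) = f k := by
    intro k
    rcases (Lib.Helper28.isPosSys_posOf hΔ).cover k with h | h
    · exact hψpos k h
    · have := hψpos _ h
      rw [Lib.Helper28.coeff_neg, map_neg, hneg] at this
      exact neg_injective this
  refine ⟨φ, fun i => (hφroot i).trans (hψ i), ?_⟩
  intro φ' hφ'
  ext ⟨x, hx⟩
  induction hx using Submodule.span_induction with
  | mem x hx =>
    obtain ⟨k, rfl⟩ := hx
    rw [hφ' k, hφroot k, hψ k]
  | zero =>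
    have h0 : (⟨0, Submodule.zero_mem _⟩ : Submodule.span ℤ (Set.range P.root)) = 0 := rfl
    rw [h0, map_zero, map_zero]
  | add x y hx hy ihx ihy =>
    have h0 : (⟨x + y, Submodule.add_mem _ hx hy⟩ : Submodule.span ℤ (Set.range P.root)) =
        ⟨x, hx⟩ + ⟨y, hy⟩ := rfl
    rw [h0, map_add, map_add, ihx, ihy]
  | smul a x hx ihx =>
    have h0 : (⟨a • x, Submodule.smul_mem _ a hx⟩ : Submodule.span ℤ (Set.range P.root)) =
        a • ⟨x, hx⟩ := rfl
    rw [h0, map_zsmul, map_zsmul, ihx]

end Groth.Agent.S5465
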