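import Groth.Statements.S5468
import Groth.Agent.Lib.Helper28.RootGen

set_option autoImplicit false
open RootD

namespace Groth.Agent.S5468

/-- Two roots whose reflections are distinct and commute are orthogonal. -/
theorem result {ι M N : Type*} [AddCommGroup M] [AddCommGroup N]
    (P : RootPairing ι ℤ M N) [Finite ι] (i j : ι)
    (hne : P.reflection i ≠ P.reflection j) (hc : Commute (P.reflection i) (P.reflection j)) :
    P.IsOrthogonal i j := by
  have htf := Lib.Helper28.isTorsionFree_weight P
  have htfN := Lib.Helper28.isAddTorsionFree_coweight P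
  rw [P.isOrthogonal_iff_pairing_eq_zero]
  by_contra hp
  set p := P.pairing i j with hpdef
  set q := P.pairing j i with hqdef
  -- evaluate the commutation relation at `αᵢ`
  have h1 : P.reflection i (P.reflection j (P.root i)) = P.reflection j (P.reflection i (P.root i)) := by
    have := congrArg (fun f : M ≃ₗ[ℤ] M => f (P.root i)) hc.eq
    simpa using this
  rw [P.reflection_apply_self, map_neg, P.reflection_apply_root, map_sub, map_smul,
    P.reflection_apply_self, P.reflection_apply_root] at h1
  -- h1 : -αᵢ - p • (αⱼ - q • αᵢ) = -(αᵢ - p • αⱼ)
  have h2 : p • ((2 : ℤ) • P.root j) = p • (q • P.root i) := by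
    have : -P.root i - p • (P.root j - q • P.root i) = -(P.root i - p • P.root j) := h1
    have h3 : (2 : ℤ) • (p • P.root j) = p • (q • P.root i) := by
      rw [smul_sub] at this
      rw [two_smul]
      have h4 : p • P.root j + p • P.root j - p • (q • P.root i) =
          (-(P.root i - p • P.root j)) - (-P.root i - (p • P.root j - p • (q • P.root i))) := by abel
      rw [← this, sub_self] at h4
      exact sub_eq_zero.mp h4
    rw [smul_comm]; exact h3
  have h3 : (2 : ℤ) • P.root j = q • P.root i := smul_right_injective M hp h2
  -- `p q = 4`
  have hpq : q * p = 4 := by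
    have := congrArg (P.coroot' j) h3
    simp only [map_zsmul, P.root_coroot'_eq_pairing, P.pairing_same, smul_eq_mul] at this
    linarith
  apply hne
  -- the two reflections coincide
  have key : ∀ x : M, P.coroot' i x • P.root i = P.coroot' j x • P.root j := by
    intro x
    rcases Int.even_or_odd q with ⟨t, ht⟩ | ⟨t, ht⟩
    · -- `αⱼ = t • αᵢ`
      have hj : P.root j = t • P.root i := by
        have : (2 : ℤ) • P.root j = (2 : ℤ) • (t • P.root i) := by
          rw [h3, ht, smul_smul]; congr 1; ring
        exact smul_right_injective M (by norm_num : (2 : ℤ) ≠ 0) this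
      have hco : t • P.coroot j = P.coroot i := P.smul_coroot_eq_of_root_eq_smul i j t hj
      have hx : P.coroot' i x = t * P.coroot' j x := by
        change P.toLinearMap x (P.coroot i) = t * P.toLinearMap x (P.coroot j)
        rw [← hco, map_smul, smul_eq_mul]
      rw [hx, hj, smul_smul, mul_comm]
    · -- `q` odd, so `q = ±1` and `αᵢ = ±2 αⱼ`
      have hq1 : q = 1 ∨ q = -1 := by
        have hdvd : q ∣ 4 := ⟨p, hpq.symm⟩
        have h4 : q.natAbs ∣ 4 := by
          have := Int.natAbs_dvd_natAbs.mpr hdvd
          simpa using this
        have h5 : q.natAbs ∈ Nat.divisors 4 := by simp [h4]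
        have h6 : q.natAbs = 1 ∨ q.natAbs = 2 ∨ q.natAbs = 4 := by
          have hd : Nat.divisors 4 = {1, 2, 4} := by decide
          rw [hd] at h5
          simpa using h5
        omega
      have hi : P.root i = (2 * q) • P.root j := by
        rcases hq1 with h | h
        · rw [h, one_smul] at h3
          rw [h, mul_one, h3]
        · rw [h, neg_one_smul] at h3
          have h5 : P.root i = -((2 : ℤ) • P.root j) := by rw [h3, neg_neg]
          rw [h, h5]
          simp
      have hco : (2 * q) • P.coroot i = P.coroot j := P.smul_coroot_eq_of_root_eq_smul j i (2 * q) hi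
      have hx : P.coroot' j x = (2 * q) * P.coroot' i x := by
        change P.toLinearMap x (P.coroot j) = (2 * q) * P.toLinearMap x (P.coroot i)
        rw [← hco, map_smul, smul_eq_mul]
      rw [hx, hi, smul_smul, mul_comm]
  ext x
  rw [RootPairing.reflection_apply, RootPairing.reflection_apply, key x]

end Groth.Agent.S5468
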