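import Groth.Statements.S5469
import Groth.Agent.Lib.Helper28.RootGen

set_option autoImplicit false
open RootPairing
open scoped Pointwise
open RootD

namespace Groth.Agent.S5469

/-- Two non-orthogonal roots of equal length (for the canonical form ℓ(x) = Σ_{u ∈ R^v} (u, x)²) are
conjugate under the Weyl group. -/
theorem result {ι M N : Type*} [AddCommGroup M] [AddCommGroup N]
    (P : RootPairing ι ℤ M N) [Finite ι] [Fintype ι] (i j : ι) (hno : ¬ P.IsOrthogonal i j)
    (hl : P.RootForm (P.root i) (P.root i) = P.RootForm (P.root j) (P.root j)) :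
    ∃ g : P.Aut, g ∈ P.weylGroup ∧ g • i = j := by
  have htf := Lib.Helper28.isTorsionFree_weight P
  have hpne : P.pairing i j ≠ 0 := fun h0 => hno (P.isOrthogonal_iff_pairing_eq_zero.mpr h0)
  have hB := P.toInvariantForm.pairing_mul_eq_pairing_mul_swap i j
  simp only [RootPairing.toInvariantForm_form] at hB
  have hBne : P.RootForm (P.root j) (P.root j) ≠ 0 := P.toInvariantForm.ne_zero j
  have hpq : P.pairing j i = P.pairing i j := by
    rw [hl] at hB
    exact mul_right_cancel₀ hBne hB
  have hset := P.pairingIn_pairingIn_mem_set_of_isCrystallographic i j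
  rw [Lib.Helper28.pairingIn_int, Lib.Helper28.pairingIn_int, hpq] at hset
  set p := P.pairing i j with hp
  have hcases : p = 1 ∨ p = -1 ∨ p = 2 ∨ p = -2 := by
    simp only [Set.mem_insert_iff, Set.mem_singleton_iff, Prod.mk.injEq] at hset
    omega
  -- reduce to a computation on roots
  have key : ∀ g : P.Aut, g ∈ P.weylGroup → g • P.root i = P.root j →
      ∃ g : P.Aut, g ∈ P.weylGroup ∧ g • i = j := by
    intro g hg h
    refine ⟨g, hg, P.root.injective ?_⟩
    rw [Lib.Helper28.aut_root, h]
  rcases hcases with h | h | h | h
  · -- p = 1 : g = s_j s_i s_j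
    refine key (Equiv.reflection P j * Equiv.reflection P i * Equiv.reflection P j)
      (mul_mem (mul_mem (P.reflection_mem_weylGroup j) (P.reflection_mem_weylGroup i))
        (P.reflection_mem_weylGroup j)) ?_
    have e1 : P.pairing i j = 1 := by rw [← hp, h]
    have e2 : P.pairing j i = 1 := by rw [hpq, h]
    simp only [mul_smul, Equiv.reflection_smul, P.reflection_apply_root, map_sub, map_neg, map_smul,
      P.reflection_apply_self, e1, e2, one_smul, P.pairing_same]
    module
  · -- p = -1 : g = s_i s_j
    refine key (Equiv.reflection P i * Equiv.reflection P j)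
      (mul_mem (P.reflection_mem_weylGroup i) (P.reflection_mem_weylGroup j)) ?_
    have e1 : P.pairing i j = -1 := by rw [← hp, h]
    have e2 : P.pairing j i = -1 := by rw [hpq, h]
    simp only [mul_smul, Equiv.reflection_smul, P.reflection_apply_root, map_sub, map_neg, map_smul,
      P.reflection_apply_self, e1, e2, one_smul, neg_smul, P.pairing_same]
    module
  · -- p = 2 : i = j
    have : i = j := (P.pairing_two_two_iff i j).mp ⟨h, hpq.trans h⟩
    exact ⟨1, one_mem _, by rw [one_smul, this]⟩
  · -- p = -2 : αᵢ = -αⱼ
    have hij : P.root i = -P.root j := (P.pairing_neg_two_neg_two_iff i j).mp ⟨h, hpq.trans h⟩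
    refine key (Equiv.reflection P i) (P.reflection_mem_weylGroup i) ?_
    rw [Equiv.reflection_smul, P.reflection_apply_self, hij, neg_neg]

end Groth.Agent.S5469
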