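import Groth.Statements.S5470
import Groth.Agent.Lib.Helper28.RootGen
import Groth.Agent.S5469

set_option autoImplicit false
open RootPairing
open scoped Pointwise
open RootD

namespace Groth.Agent.S5470

open Lib.Helper28 in
/-- In an irreducible root datum, any root `j` is non-orthogonal to some Weyl conjugate of any root
`i`. -/
lemma exists_weyl_conj_not_orthogonal {ι M N : Type*} [AddCommGroup M] [AddCommGroup N]
    (P : RootPairing ι ℤ M N) [Finite ι]
    (hirr : ∀ R' : Set ι, RootD.IsClosedSub P R' → RootD.IsSymmSub P R' → RootD.IsClosedSub P R'ᶜ →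
      RootD.IsSymmSub P R'ᶜ → R' = ∅ ∨ R' = Set.univ)
    (i j : ι) : ∃ g : P.Aut, g ∈ P.weylGroup ∧ ¬ P.IsOrthogonal j (g • i) := by
  have htf := isTorsionFree_weight P
  set O : Set ι := {k | ∃ g : P.Aut, g ∈ P.weylGroup ∧ g • i = k} with hO
  set R₁ : Set ι := {k | ∀ o ∈ O, P.IsOrthogonal k o} with hR₁
  have hOstab : ∀ o ∈ O, ∀ k : ι, P.reflectionPerm k o ∈ O := by
    rintro o ⟨g, hg, rfl⟩ k
    exact ⟨Equiv.reflection P k * g, mul_mem (P.reflection_mem_weylGroup k) hg, by
      rw [mul_smul, reflection_smul_idx]⟩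
  have hnegneg : ∀ k : ι, P.reflectionPerm (P.reflectionPerm k k) (P.reflectionPerm k k) = k := by
    intro k
    apply P.root.injective
    rw [root_neg, root_neg, neg_neg]
  have hsymm : RootD.IsSymmSub P R₁ := by
    intro k hk o ho
    rw [P.isOrthogonal_iff_pairing_eq_zero, pairing_neg_left, (hk o ho).1, neg_zero]
  -- characterisation of the complement
  have hcompl : ∀ k : ι, k ∉ R₁ ↔ ∃ n : ℤ, n ≠ 0 ∧
      n • P.root k ∈ Submodule.span ℤ (P.root '' O) := by
    intro k
    constructor
    · intro hk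
      simp only [hR₁, Set.mem_ofPred_eq, not_forall] at hk
      obtain ⟨o, ho, hko⟩ := hk
      have hne : P.pairing o k ≠ 0 := by
        intro h0
        exact hko (P.isOrthogonal_iff_pairing_eq_zero.mpr (P.pairing_eq_zero_iff.mp h0))
      refine ⟨P.pairing o k, hne, ?_⟩
      have : P.pairing o k • P.root k = P.root o - P.root (P.reflectionPerm k o) := by
        rw [P.root_reflectionPerm, P.reflection_apply_root]; abel
      rw [this]
      exact Submodule.sub_mem _ (Submodule.subset_span (Set.mem_image_of_mem _ ho))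
        (Submodule.subset_span (Set.mem_image_of_mem _ (hOstab o ho k)))
    · rintro ⟨n, hn, hmem⟩ hk
      have hvanish : ∀ x ∈ Submodule.span ℤ (P.root '' O), P.coroot' k x = 0 := by
        intro x hx
        induction hx using Submodule.span_induction with
        | mem x hx =>
          obtain ⟨o, ho, rfl⟩ := hx
          exact (hk o ho).2
        | zero => simp
        | add x y _ _ hx hy => rw [map_add, hx, hy, add_zero]
        | smul a x _ hx => rw [map_smul, hx, smul_zero]
      have := hvanish _ hmem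
      rw [map_zsmul, P.root_coroot'_eq_pairing, P.pairing_same, smul_eq_mul] at this
      omega
  have hclosed : RootD.IsClosedSub P R₁ := by
    intro a b k ha hb hk o ho
    rw [P.isOrthogonal_iff_pairing_eq_zero, P.pairing_eq_add_of_root_eq_add hk, (ha o ho).1,
      (hb o ho).1, add_zero]
  have hsymm' : RootD.IsSymmSub P R₁ᶜ := by
    intro k hk hk'
    apply hk
    have := hsymm hk'
    rwa [hnegneg] at this
  have hclosed' : RootD.IsClosedSub P R₁ᶜ := by
    intro a b k ha hb hk
    obtain ⟨n, hn, hna⟩ := (hcompl a).mp ha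
    obtain ⟨m, hm, hmb⟩ := (hcompl b).mp hb
    refine (hcompl k).mpr ⟨n * m, mul_ne_zero hn hm, ?_⟩
    rw [hk, smul_add]
    refine Submodule.add_mem _ ?_ ?_
    · rw [mul_comm, mul_smul]; exact Submodule.smul_mem _ _ hna
    · rw [mul_smul]; exact Submodule.smul_mem _ _ hmb
  have hiO : i ∈ O := ⟨1, one_mem _, one_smul _ _⟩
  have hiR₁ : i ∉ R₁ := by
    intro h
    have := (h i hiO).1
    rw [P.pairing_same] at this
    norm_num at this
  rcases hirr R₁ hclosed hsymm hclosed' hsymm' with h | h
  · have hj : j ∉ R₁ := by rw [h]; exact Set.notMem_empty j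
    simp only [hR₁, Set.mem_ofPred_eq, not_forall] at hj
    obtain ⟨o, ⟨g, hg, rfl⟩, hjo⟩ := hj
    exact ⟨g, hg, hjo⟩
  · exact absurd (h ▸ Set.mem_univ i) hiR₁

lemma rootForm_weyl_smul {ι M N : Type*} [AddCommGroup M] [AddCommGroup N]
    (P : RootPairing ι ℤ M N) [Finite ι] [Fintype ι] {g : P.Aut} (hg : g ∈ P.weylGroup) (x y : M) :
    P.RootForm (g • x) (g • y) = P.RootForm x y :=
  RootPairing.InvariantForm.apply_weylGroup_smul P (B := P.toInvariantForm) ⟨g, hg⟩ x y

/-- In an irreducible root datum the Weyl group acts transitively on the roots of any given length. -/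
theorem result {ι M N : Type*} [AddCommGroup M] [AddCommGroup N]
    (P : RootPairing ι ℤ M N) [Finite ι] [Fintype ι] [Nonempty ι]
    (hirr : ∀ R' : Set ι, RootD.IsClosedSub P R' → RootD.IsSymmSub P R' → RootD.IsClosedSub P R'ᶜ →
      RootD.IsSymmSub P R'ᶜ → R' = ∅ ∨ R' = Set.univ)
    (i j : ι) (hl : P.RootForm (P.root i) (P.root i) = P.RootForm (P.root j) (P.root j)) :
    ∃ g : P.Aut, g ∈ P.weylGroup ∧ g • i = j := by
  obtain ⟨g, hg, hno⟩ := exists_weyl_conj_not_orthogonal P hirr i j
  have hlen : P.RootForm (P.root (g • i)) (P.root (g • i)) = P.RootForm (P.root j) (P.root j) := by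
    rw [Lib.Helper28.aut_root, rootForm_weyl_smul P hg, hl]
  obtain ⟨g', hg', hg'j⟩ := Groth.Agent.S5469.result P (g • i) j
    (fun h => hno h.symm) hlen
  exact ⟨g' * g, mul_mem hg' hg, by rw [mul_smul, hg'j]⟩

end Groth.Agent.S5470
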