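import Groth.Statements.S5471
import Groth.Agent.Lib.Helper28.RootGen
import Groth.Agent.S5470

set_option autoImplicit false
open RootPairing
open scoped Pointwise
open RootD

namespace Groth.Agent.S5471

/-- In a reduced irreducible root datum the ratios of squared root lengths to the minimal one form one
of the sets {1}, {1, 2}, {1, 3}. -/
theorem result {ι M N : Type*} [AddCommGroup M] [AddCommGroup N]
    (P : RootPairing ι ℤ M N) [Finite ι] [Fintype ι] [Nonempty ι] [P.IsReduced]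
    (hirr : ∀ R' : Set ι, RootD.IsClosedSub P R' → RootD.IsSymmSub P R' → RootD.IsClosedSub P R'ᶜ →
      RootD.IsSymmSub P R'ᶜ → R' = ∅ ∨ R' = Set.univ)
    (i₀ : ι) (hmin : ∀ i : ι, P.RootForm (P.root i₀) (P.root i₀) ≤ P.RootForm (P.root i) (P.root i)) :
    (∀ i : ι, P.RootForm (P.root i) (P.root i) = P.RootForm (P.root i₀) (P.root i₀) ∨
        P.RootForm (P.root i) (P.root i) = 2 * P.RootForm (P.root i₀) (P.root i₀) ∨
        P.RootForm (P.root i) (P.root i) = 3 * P.RootForm (P.root i₀) (P.root i₀)) ∧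
      ¬ ((∃ i : ι, P.RootForm (P.root i) (P.root i) = 2 * P.RootForm (P.root i₀) (P.root i₀)) ∧
          ∃ j : ι, P.RootForm (P.root j) (P.root j) = 3 * P.RootForm (P.root i₀) (P.root i₀)) := by
  have htf := Lib.Helper28.isTorsionFree_weight P
  set ℓ : ι → ℤ := fun i => P.RootForm (P.root i) (P.root i) with hℓ
  have hpos : ∀ i, 0 < ℓ i := fun i =>
    P.rootForm_pos_of_ne_zero (Submodule.subset_span (Set.mem_range_self i)) (P.ne_zero i)
  -- ratio for non-orthogonal roots
  have hlocal : ∀ a b : ι, ¬ P.IsOrthogonal a b →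
      ℓ a = ℓ b ∨ ℓ a = 2 * ℓ b ∨ 2 * ℓ a = ℓ b ∨ ℓ a = 3 * ℓ b ∨ 3 * ℓ a = ℓ b := by
    intro a b hab
    have hB := P.toInvariantForm.pairing_mul_eq_pairing_mul_swap a b
    simp only [RootPairing.toInvariantForm_form] at hB
    change P.pairing b a * ℓ a = P.pairing a b * ℓ b at hB
    have hne : P.pairing a b ≠ 0 := fun h0 => hab (P.isOrthogonal_iff_pairing_eq_zero.mpr h0)
    have hset := P.pairingIn_pairingIn_mem_set_of_isCrystal_of_isRed a b
    rw [Lib.Helper28.pairingIn_int, Lib.Helper28.pairingIn_int] at hset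
    simp only [Set.mem_insert_iff, Set.mem_singleton_iff, Prod.mk.injEq] at hset
    have ha := hpos a
    have hb := hpos b
    rcases hset with h | h | h | h | h | h | h | h | h | h | h | h | h <;>
      obtain ⟨h1, h2⟩ := h <;> rw [h1, h2] at hB <;> first | omega | (exfalso; exact hne h1)
  -- ratio for arbitrary roots
  have hglobal : ∀ a b : ι,
      ℓ a = ℓ b ∨ ℓ a = 2 * ℓ b ∨ 2 * ℓ a = ℓ b ∨ ℓ a = 3 * ℓ b ∨ 3 * ℓ a = ℓ b := by
    intro a b
    obtain ⟨g, hg, hno⟩ := Groth.Agent.S5470.exists_weyl_conj_not_orthogonal P hirr a b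
    have hlen : ℓ (g • a) = ℓ a := by
      simp only [hℓ]
      rw [Lib.Helper28.aut_root, Groth.Agent.S5470.rootForm_weyl_smul P hg]
    have := hlocal (g • a) b (fun h => hno h.symm)
    rwa [hlen] at this
  have h0 := hpos i₀
  constructor
  · intro i
    have := hglobal i i₀
    have hm := hmin i
    change ℓ i₀ ≤ ℓ i at hm
    change ℓ i = ℓ i₀ ∨ ℓ i = 2 * ℓ i₀ ∨ ℓ i = 3 * ℓ i₀
    omega
  · rintro ⟨⟨i, hi⟩, ⟨j, hj⟩⟩
    change ℓ i = 2 * ℓ i₀ at hi
    change ℓ j = 3 * ℓ i₀ at hj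
    have := hglobal i j
    omega

end Groth.Agent.S5471
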