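import Groth.Statements.S5472
import Groth.Agent.Lib.Helper28.RootCox

set_option autoImplicit false
open RootPairing
open scoped Pointwise
open RootD

namespace Groth.Agent.S5472

open Lib.Helper28 in
/-- Refinement of the deletion lemma keeping track of the letters. -/
lemma exists_shorter {ι M N : Type*} [AddCommGroup M] [AddCommGroup N]
    {P : RootPairing ι ℤ M N} [Finite ι] {Δ : Set ι} (hΔ : RootD.IsSimpleSys P Δ) {t : ι}
    (ht : t ∈ Δ) (l : List ι) (hl : ∀ a ∈ l, a ∈ Δ) (h : wordProd P l • t ∉ RootD.posOf P Δ) :
    ∃ l' : List ι, (∀ a ∈ l', a ∈ l) ∧ wordProd P l' = wordProd P (l ++ [t]) ∧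
      l'.length + 1 = l.length := by
  obtain ⟨l₁, l₂, a, rfl, ha⟩ := exists_split_of_wordProd_smul_notMem_posOf hΔ ht l hl h
  refine ⟨l₁ ++ l₂, ?_, ?_, ?_⟩
  · intro b hb
    rcases List.mem_append.mp hb with hb | hb
    · exact List.mem_append_left _ hb
    · exact List.mem_append_right _ (List.mem_cons_of_mem _ hb)
  · have hconj := conj_reflection (wordProd P l₂) t
    rw [ha] at hconj
    simp only [wordProd_append, wordProd_cons, wordProd_nil, mul_one]
    rw [← hconj]
    simp only [mul_assoc, inv_mul_cancel_left, reflection_mul_self, mul_one]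
  · simp only [List.length_append, List.length_cons]
    omega

open Lib.Helper28 in
/-- Key computation along a minimal word in the two simple reflections. -/
lemma key {ι M N : Type*} [AddCommGroup M] [AddCommGroup N]
    (P : RootPairing ι ℤ M N) [Finite ι] {Δ : Set ι} (hΔ : RootD.IsSimpleSys P Δ)
    (k i j : ι) (hi : i ∈ Δ) (hj : j ∈ Δ)
    (hα : 0 < P.pairing k i) (hβ : 0 ≤ P.pairing k j) :
    ∀ l : List ι, (∀ a ∈ l, a = i ∨ a = j) →
      (∀ l' : List ι, (∀ a ∈ l', a = i ∨ a = j) → wordProd P l' = wordProd P l →
        l.length ≤ l'.length) →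
      (P.root k - wordProd P l • P.root k ∈ RootD.natSpan P Δ) ∧
        (i ∈ l → P.root k - wordProd P l • P.root k ≠ 0) := by
  have hatf := isAddTorsionFree_weight P
  intro l
  induction l using List.reverseRecOn with
  | nil =>
    intro _ _
    simp only [wordProd_nil, one_smul, sub_self]
    exact ⟨zero_mem _, fun h => absurd h (List.not_mem_nil)⟩
  | append_singleton l' t ih =>
    intro hl hmin
    have hl' : ∀ a ∈ l', a = i ∨ a = j := fun a ha => hl a (List.mem_append_left _ ha)
    have ht : t = i ∨ t = j := hl t (by simp)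
    have htΔ : t ∈ Δ := by rcases ht with rfl | rfl <;> assumption
    have hl'Δ : ∀ a ∈ l', a ∈ Δ := fun a ha => by
      rcases hl' a ha with rfl | rfl <;> assumption
    have hmin' : ∀ l'' : List ι, (∀ a ∈ l'', a = i ∨ a = j) → wordProd P l'' = wordProd P l' →
        l'.length ≤ l''.length := by
      intro l'' hl'' hprod
      have := hmin (l'' ++ [t]) (by
        intro a ha
        rcases List.mem_append.mp ha with ha | ha
        · exact hl'' a ha
        · rw [List.mem_singleton] at ha; exact ha ▸ ht) (by
        rw [wordProd_append, wordProd_append, hprod])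
      simp only [List.length_append, List.length_cons, List.length_nil] at this
      omega
    obtain ⟨ih1, ih2⟩ := ih hl' hmin'
    have hpos : wordProd P l' • t ∈ RootD.posOf P Δ := by
      by_contra hneg
      obtain ⟨l'', hl'', hprod, hlen⟩ := exists_shorter hΔ htΔ l' hl'Δ hneg
      have := hmin l'' (fun a ha => hl' a (hl'' a ha)) hprod
      simp only [List.length_append, List.length_cons, List.length_nil] at this
      omega
    have hdecomp : P.root k - wordProd P (l' ++ [t]) • P.root k =
        (P.root k - wordProd P l' • P.root k) + P.pairing k t • P.root (wordProd P l' • t) := by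
      rw [wordProd_append, wordProd_cons, wordProd_nil, mul_one, mul_smul,
        RootPairing.Equiv.reflection_smul, P.reflection_apply_root, smul_sub, aut_root,
        smul_comm (wordProd P l') (P.pairing k t)]
      abel
    have hpair : 0 ≤ P.pairing k t := by
      rcases ht with rfl | rfl
      · exact hα.le
      · exact hβ
    have hx : P.pairing k t • P.root (wordProd P l' • t) ∈ RootD.natSpan P Δ := by
      obtain ⟨m, hm⟩ := Int.eq_ofNat_of_zero_le hpair
      rw [hm, natCast_zsmul]
      exact nsmul_mem hpos m
    rw [hdecomp]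
    refine ⟨add_mem ih1 hx, fun hmem h0 => ?_⟩
    -- both summands vanish
    have hneg1 : -(P.root k - wordProd P l' • P.root k) ∈ RootD.natSpan P Δ := by
      rw [← eq_neg_iff_add_eq_zero] at h0
      rw [h0, neg_neg]
      exact hx
    have hz1 := eq_zero_of_mem_natSpan_of_neg_mem P hΔ.linInd ih1 hneg1
    rw [hz1, zero_add] at h0
    rcases List.mem_append.mp hmem with hmem | hmem
    · exact ih2 hmem hz1
    · rw [List.mem_singleton] at hmem
      subst hmem
      rcases smul_eq_zero.mp h0 with h1 | h1
      · omega
      · exact P.ne_zero _ h1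

/-- Let Δ be a system of simple roots (root-only sense), γ a positive root and α, β simple roots with
(γ, α^v) > 0 and (γ, β^v) ≥ 0 (equivalently: the order of s_α(γ) along Δ is smaller than that of γ,
and the order of s_β(γ) is at most that of γ). Then for every w in the group generated by s_α and
s_β the order of w(γ) along Δ is at most that of γ, and strictly smaller unless w ∈ {1, s_β}. The
order is the sum of the coefficients along Δ; the conclusion is stated for the coefficient vector c
of γ - w(γ) along Δ: its coefficient sum is ≥ 0, and > 0 unless w = 1 or w = s_β. -/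
theorem result {ι M N : Type*} [AddCommGroup M] [AddCommGroup N]
    (P : RootPairing ι ℤ M N) [Finite ι] (Δ : Set ι) (hΔ : RootD.IsSimpleSys P Δ)
    (k i j : ι) (hk : k ∈ RootD.posOf P Δ) (hi : i ∈ Δ) (hj : j ∈ Δ)
    (hα : 0 < P.pairing k i) (hβ : 0 ≤ P.pairing k j)
    (g : P.Aut) (hg : g ∈ Subgroup.closure {Equiv.reflection P i, Equiv.reflection P j})
    (c : ι →₀ ℤ) (hc : ↑c.support ⊆ Δ)
    (hck : Finsupp.linearCombination ℤ P.root c = P.root k - P.root (g • k)) :
    0 ≤ c.sum (fun _ a => a) ∧ (g ≠ 1 → g ≠ Equiv.reflection P j → 0 < c.sum (fun _ a => a)) := by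
  classical
  have hatf := Lib.Helper28.isAddTorsionFree_weight P
  -- a minimal word for `g`
  have hgcl : g ∈ Subgroup.closure ((fun a : ι => Equiv.reflection P a) '' ({i, j} : Set ι)) := by
    have : (fun a : ι => Equiv.reflection P a) '' ({i, j} : Set ι) =
        {Equiv.reflection P i, Equiv.reflection P j} := by
      rw [Set.image_pair]
    rw [this]
    exact hg
  have hex : ∃ n : ℕ, ∃ l : List ι, (∀ a ∈ l, a = i ∨ a = j) ∧
      Lib.Helper28.wordProd P l = g ∧ l.length = n := by
    obtain ⟨l, hl, hlg⟩ := Lib.Helper28.exists_word_of_mem_closure hgcl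
    exact ⟨_, l, fun a ha => by simpa using hl a ha, hlg, rfl⟩
  obtain ⟨l, hl, hlg, hlen⟩ := Nat.find_spec hex
  have hmin : ∀ l' : List ι, (∀ a ∈ l', a = i ∨ a = j) →
      Lib.Helper28.wordProd P l' = Lib.Helper28.wordProd P l → l.length ≤ l'.length := by
    intro l' hl' hprod
    rw [hlen]
    exact Nat.find_min' hex ⟨l', hl', hprod.trans hlg, rfl⟩
  obtain ⟨h1, h2⟩ := key P hΔ k i j hi hj hα hβ l hl hmin
  rw [hlg, ← Lib.Helper28.aut_root] at h1 h2
  -- the coefficients are non-negative
  obtain ⟨c', hc', hc'0, hc'k⟩ := Lib.Helper28.exists_int_coeff_of_mem_natSpan P h1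
  have hcc : c = c' := Lib.Helper28.intCoeff_unique P hΔ.linInd hc hc' (hck.trans hc'k.symm)
  have hc0 : ∀ a, 0 ≤ c a := fun a => hcc ▸ hc'0 a
  refine ⟨Finset.sum_nonneg fun a _ => hc0 a, fun hg1 hgj => ?_⟩
  have hil : i ∈ l := by
    by_contra hil
    have hallj : ∀ a ∈ l, a = j := fun a ha => by
      rcases hl a ha with h | h
      · exact absurd (h ▸ ha) hil
      · exact h
    -- `l` has at most one letter
    match l, hl, hlg, hmin, hallj with
    | [], _, hlg, _, _ => exact hg1 (by rw [← hlg]; rfl)
    | [a], _, hlg, _, hallj =>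
      have : a = j := hallj a (by simp)
      subst this
      exact hgj (by rw [← hlg]; simp)
    | a :: b :: rest, hl, _, hmin, hallj =>
      have ha : a = j := hallj a (by simp)
      have hb : b = j := hallj b (by simp)
      subst ha hb
      have := hmin rest (fun x hx => hl x (by simp [hx])) (by
        simp only [Lib.Helper28.wordProd_cons]
        rw [← mul_assoc, Lib.Helper28.reflection_mul_self, one_mul])
      simp at this
  have hne := h2 hil
  have hcne : c ≠ 0 := by
    intro h0
    rw [h0, map_zero] at hck
    exact hne hck.symm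
  obtain ⟨a, ha⟩ : ∃ a, c a ≠ 0 := by
    by_contra hall
    push Not at hall
    exact hcne (Finsupp.ext hall)
  have hapos : 0 < c a := lt_of_le_of_ne (hc0 a) (Ne.symm ha)
  exact Finset.sum_pos' (fun b _ => hc0 b) ⟨a, Finsupp.mem_support_iff.mpr ha, hapos⟩

end Groth.Agent.S5472
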