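import Groth.Statements.S5473
import Groth.Agent.Lib.Helper28.RootWeyl

set_option autoImplicit false
open RootD

namespace Groth.Agent.S5473

/-- If a linear map f and its transpose g induce bijections from the roots of R' onto the roots of R and
from the coroots of R onto the coroots of R' respectively (a morphism of root data in the
two-bijection sense), then the two bijections correspond: the coroot of α' is g applied to the
coroot of f(α'). -/
theorem result {ι M N ι' M' N' : Type*} [AddCommGroup M] [AddCommGroup N] [AddCommGroup M'] [AddCommGroup N']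
    (P : RootPairing ι ℤ M N) (P' : RootPairing ι' ℤ M' N') [Finite ι] [Finite ι']
    (f : M' →ₗ[ℤ] M) (g : N →ₗ[ℤ] N') (hfg : ∀ (m' : M') (n : N), P.toLinearMap (f m') n = P'.toLinearMap m' (g n))
    (e : ι' ≃ ι) (he : ∀ i' : ι', f (P'.root i') = P.root (e i'))
    (e' : ι ≃ ι') (he' : ∀ i : ι, g (P.coroot i) = P'.coroot (e' i)) :
    ∀ i' : ι', g (P.coroot (e i')) = P'.coroot i' := by
  intro i'
  classical
  have hatf : IsAddTorsionFree M' := Lib.Helper28.isAddTorsionFree_weight P'
  have htf : Module.IsTorsionFree ℤ M' := Lib.Helper28.isTorsionFree_weight P'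
  have hg : g (P.coroot (e i')) = P'.coroot (e' (e i')) := he' _
  rw [hg]
  set j' := e' (e i') with hj'
  -- f is injective on the span of the roots of P'
  have hfinj : ∀ m' ∈ Submodule.span ℤ (Set.range P'.root), f m' = 0 → m' = 0 := by
    intro m' hm' hfm
    refine Lib.Helper28.eq_zero_of_mem_span_of_forall_coroot hm' ?_
    intro k'
    obtain ⟨k, rfl⟩ := e'.surjective k'
    rw [← he' k, ← hfg, hfm, map_zero, LinearMap.zero_apply]
  have hpair : ∀ k' : ι', P'.toLinearMap (P'.root k') (P'.coroot j') = P.pairing (e k') (e i') := by
    intro k'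
    rw [← hg, ← hfg, he k']
    rfl
  apply P'.injOn_dualMap_subtype_span_root_coroot (Set.mem_range_self j') (Set.mem_range_self i')
  simp only [LinearMap.coe_comp, Function.comp_apply]
  symm
  apply Module.Dual.eq_of_preReflection_mapsTo' (Set.finite_range P'.root) (x := P'.root i')
  · exact Submodule.subset_span (Set.mem_range_self i')
  · exact P'.coroot_root_two i'
  · exact P'.mapsTo_reflection_root i'
  · change P'.toLinearMap (P'.root i') (P'.coroot j') = 2
    rw [hpair, P.pairing_same]
  · rintro _ ⟨k', rfl⟩
    refine ⟨e.symm (P.reflectionPerm (e i') (e k')), ?_⟩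
    rw [Module.preReflection_apply]
    change _ = P'.root k' - (P'.toLinearMap (P'.root k') (P'.coroot j')) • P'.root i'
    rw [hpair]
    have hmem : P'.root (e.symm (P.reflectionPerm (e i') (e k'))) -
        (P'.root k' - P.pairing (e k') (e i') • P'.root i') ∈
        Submodule.span ℤ (Set.range P'.root) := by
      refine Submodule.sub_mem _ (Submodule.subset_span (Set.mem_range_self _)) ?_
      refine Submodule.sub_mem _ (Submodule.subset_span (Set.mem_range_self _)) ?_
      exact Submodule.smul_mem _ _ (Submodule.subset_span (Set.mem_range_self _))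
    have h0 := hfinj _ hmem (by
      rw [map_sub, map_sub, map_smul, he, he, he, Equiv.apply_symm_apply,
        P.root_reflectionPerm, P.reflection_apply_root, sub_self])
    exact sub_eq_zero.mp h0

end Groth.Agent.S5473
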