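import Groth.Statements.S5476
import Groth.Agent.Lib.Helper28.RootBasic

set_option autoImplicit false
open RootD

namespace Groth.Agent.S5476

open Module in
/-- The kernel of the polarization is the intersection of the kernels of the coroots. -/
lemma ker_polarization_eq {ι M N : Type*} [AddCommGroup M] [AddCommGroup N]
    (P : RootPairing ι ℤ M N) [Fintype ι] :
    LinearMap.ker P.Polarization = (⨅ i : ι, LinearMap.ker (P.coroot' i) : Submodule ℤ M) := by
  ext x
  simp only [LinearMap.mem_ker, Submodule.mem_iInf]
  constructor
  · intro hx i
    have h1 : P.RootForm x x = 0 := by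
      have := (P.polarization_apply_eq_zero_iff x).mp hx
      rw [this, LinearMap.zero_apply]
    rw [P.rootForm_apply_apply] at h1
    have h2 := (Finset.sum_eq_zero_iff_of_nonneg
      (fun i _ => mul_self_nonneg (P.coroot' i x))).mp h1 i (Finset.mem_univ i)
    exact mul_self_eq_zero.mp h2
  · intro hx
    rw [P.Polarization_apply]
    exact Finset.sum_eq_zero fun i _ => by rw [hx i, zero_smul]

open Module in
/-- First rank identity. -/
lemma finrank_add {ι M N : Type*} [AddCommGroup M] [AddCommGroup N]
    (P : RootPairing ι ℤ M N) [Finite ι] [Module.Finite ℤ M] [Module.Finite ℤ N] :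
    Module.finrank ℤ (⨅ i : ι, LinearMap.ker (P.coroot' i) : Submodule ℤ M) +
        Module.finrank ℤ (Submodule.span ℤ (Set.range P.root)) = Module.finrank ℤ M := by
  have : Fintype ι := Fintype.ofFinite ι
  have htfM := Lib.Helper28.isTorsionFree_weight P
  have htfN := Lib.Helper28.isTorsionFree_coweight P
  rw [← ker_polarization_eq]
  have h1 := (LinearMap.ker P.Polarization).finrank_quotient_add_finrank
  rw [LinearEquiv.finrank_eq P.Polarization.quotKerEquivRange] at h1
  have h2 : finrank ℤ (LinearMap.range P.Polarization) = finrank ℤ (P.corootSpan ℤ) := by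
    apply le_antisymm
    · apply Submodule.finrank_mono
      rintro _ ⟨x, rfl⟩
      rw [P.Polarization_apply]
      exact Submodule.sum_mem _ fun i _ =>
        Submodule.smul_mem _ _ (Submodule.subset_span (Set.mem_range_self i))
    · rw [← P.finrank_rootSpan_map_polarization_eq_finrank_corootSpan]
      apply Submodule.finrank_mono
      exact LinearMap.map_le_range
  rw [h2, P.finrank_corootSpan_eq'] at h1
  rw [add_comm]
  exact h1

/-- The lattice of the coradical (weights killed by every coroot) and the lattice of the radical
(coweights killed by every root) both have rank rgred - rgss, the rank of the weight lattice minus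
the rank of the lattice generated by the roots; and the datum is semisimple (the roots span a
sublattice of full rank) if and only if the coradical lattice vanishes, if and only if the radical
lattice vanishes. -/
theorem result {ι M N : Type*} [AddCommGroup M] [AddCommGroup N]
    (P : RootPairing ι ℤ M N) [Finite ι] [Module.Finite ℤ M] [Module.Finite ℤ N] :
    (Module.finrank ℤ (⨅ i : ι, LinearMap.ker (P.coroot' i) : Submodule ℤ M) +
        Module.finrank ℤ (Submodule.span ℤ (Set.range P.root)) = Module.finrank ℤ M) ∧
      (Module.finrank ℤ (⨅ i : ι, LinearMap.ker (P.root' i) : Submodule ℤ N) +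
        Module.finrank ℤ (Submodule.span ℤ (Set.range P.root)) = Module.finrank ℤ M) ∧
      (Module.finrank ℤ (Submodule.span ℤ (Set.range P.root)) = Module.finrank ℤ M ↔
        (⨅ i : ι, LinearMap.ker (P.coroot' i) : Submodule ℤ M) = ⊥) ∧
      (Module.finrank ℤ (Submodule.span ℤ (Set.range P.root)) = Module.finrank ℤ M ↔
        (⨅ i : ι, LinearMap.ker (P.root' i) : Submodule ℤ N) = ⊥) := by
  have : Fintype ι := Fintype.ofFinite ι
  have htfM := Lib.Helper28.isTorsionFree_weight P
  have htfN := Lib.Helper28.isTorsionFree_coweight P
  have hMN : Module.finrank ℤ M = Module.finrank ℤ N := Module.finrank_of_isPerfPair P.toLinearMap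
  have h1 := finrank_add P
  have h2 : Module.finrank ℤ (⨅ i : ι, LinearMap.ker (P.root' i) : Submodule ℤ N) +
        Module.finrank ℤ (Submodule.span ℤ (Set.range P.root)) = Module.finrank ℤ M := by
    have := finrank_add P.flip
    rw [hMN, ← P.finrank_corootSpan_eq']
    exact this
  refine ⟨h1, h2, ?_, ?_⟩
  · constructor
    · intro h
      have h0 : Module.finrank ℤ (⨅ i : ι, LinearMap.ker (P.coroot' i) : Submodule ℤ M) = 0 := by
        omega
      exact Submodule.finrank_eq_zero.mp h0
    · intro h
      rw [h, finrank_bot] at h1
      omega
  · constructor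
    · intro h
      have h0 : Module.finrank ℤ (⨅ i : ι, LinearMap.ker (P.root' i) : Submodule ℤ N) = 0 := by
        omega
      exact Submodule.finrank_eq_zero.mp h0
    · intro h
      rw [h, finrank_bot] at h2
      omega

end Groth.Agent.S5476
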