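import Groth.Statements.S5474
import Groth.Agent.S5476
import Mathlib.GroupTheory.FiniteAbelian.Basic
import Mathlib.LinearAlgebra.Dimension.Torsion.Finite

set_option autoImplicit false
open RootD

namespace Groth.Agent.S5474

/-- Every morphism between semisimple root data is an isogeny (injective on weight lattices with finite
cokernel). -/
theorem result {ι M N ι' M' N' : Type*} [AddCommGroup M] [AddCommGroup N] [AddCommGroup M'] [AddCommGroup N']
    (P : RootPairing ι ℤ M N) (P' : RootPairing ι' ℤ M' N') [Finite ι] [Finite ι']
    [Module.Finite ℤ M] [Module.Finite ℤ N] [Module.Finite ℤ M'] [Module.Finite ℤ N']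
    (hss : Module.finrank ℤ (Submodule.span ℤ (Set.range P.root)) = Module.finrank ℤ M)
    (hss' : Module.finrank ℤ (Submodule.span ℤ (Set.range P'.root)) = Module.finrank ℤ M')
    (f : RootPairing.Hom P' P) :
    Function.Injective f.weightMap ∧ Finite (M ⧸ LinearMap.range f.weightMap) := by
  have : Fintype ι := Fintype.ofFinite ι
  constructor
  · -- injectivity
    have hbot := (Groth.Agent.S5476.result P').2.2.1.mp hss'
    rw [injective_iff_map_eq_zero]
    intro m' hm'
    have hmem : m' ∈ (⨅ i : ι', LinearMap.ker (P'.coroot' i) : Submodule ℤ M') := by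
      rw [Submodule.mem_iInf]
      intro i'
      rw [LinearMap.mem_ker]
      have h1 := RootPairing.Hom.weight_coweight_transpose_apply P' P
        (P.coroot (f.indexEquiv i')) f
      have h2 := congrArg (fun φ => φ m') h1
      simp only [LinearMap.dualMap_apply] at h2
      have h3 : f.coweightMap (P.coroot (f.indexEquiv i')) = P'.coroot i' := by
        rw [RootPairing.Hom.coroot_coweightMap_apply, Equiv.symm_apply_apply]
      rw [h3, hm'] at h2
      have h4 : (P'.flip.toLinearMap.toPerfPair (P'.coroot i')) m' = P'.coroot' i' m' := rfl
      rw [← h4, ← h2]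
      simp
    rw [hbot] at hmem
    exact (Submodule.mem_bot ℤ).mp hmem
  · -- finiteness of the cokernel
    have hle : Submodule.span ℤ (Set.range P.root) ≤ LinearMap.range f.weightMap := by
      rw [Submodule.span_le]
      rintro _ ⟨i, rfl⟩
      refine ⟨P'.root (f.indexEquiv.symm i), ?_⟩
      rw [RootPairing.Hom.root_weightMap_apply, Equiv.apply_symm_apply]
    have h1 := Submodule.finrank_mono hle
    have h2 := (LinearMap.range f.weightMap).finrank_quotient_add_finrank
    have h3 : Module.finrank ℤ (LinearMap.range f.weightMap) ≤ Module.finrank ℤ M :=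
      Submodule.finrank_le _
    have h0 : Module.finrank ℤ (M ⧸ LinearMap.range f.weightMap) = 0 := by omega
    exact Module.finite_of_fg_torsion _ (Module.finrank_eq_zero_iff_isTorsion.mp h0)

end Groth.Agent.S5474
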