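import Groth.Statements.S5475
import Groth.Agent.Lib.Helper28.RootGen
import Groth.Agent.Lib.Helper28.RootExist

set_option autoImplicit false
open RootD

namespace Groth.Agent.S5475

/-- In an adjoint root datum every indivisible root is an indivisible element of the weight lattice. -/
theorem result {ι M N : Type*} [AddCommGroup M] [AddCommGroup N]
    (P : RootPairing ι ℤ M N) [Finite ι] (had : Submodule.span ℤ (Set.range P.root) = ⊤)
    (i : ι) (hind : RootD.IsIndiv P i) (m : M) (n : ℤ) (h : n • m = P.root i) : n = 1 ∨ n = -1 := by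
  classical
  obtain ⟨Δ, hΔ⟩ := Lib.Helper28.exists_isSimpleSys P
  obtain ⟨g, -, i₀, hi₀, hgi⟩ := Lib.Helper28.exists_simple_conj hΔ hind
  -- move everything by `g⁻¹`
  set m' : M := g⁻¹ • m with hm'
  have h' : n • m' = P.root i₀ := by
    rw [hm', ← smul_comm, h, ← hgi, Lib.Helper28.aut_root, inv_smul_smul]
  -- `m'` lies in the span of `Δ`
  have hspan : ∀ x : M, ∃ c : ι →₀ ℤ, (↑c.support : Set ι) ⊆ Δ ∧
      Finsupp.linearCombination ℤ P.root c = x := by
    intro x
    have hx : x ∈ Submodule.span ℤ (Set.range P.root) := by rw [had]; trivial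
    induction hx using Submodule.span_induction with
    | mem x hx =>
      obtain ⟨k, rfl⟩ := hx
      exact Lib.Helper28.exists_coeff hΔ k
    | zero => exact ⟨0, by simp, by simp⟩
    | add x y _ _ hx hy =>
      obtain ⟨c, hc, rfl⟩ := hx
      obtain ⟨d, hd, rfl⟩ := hy
      exact ⟨c + d, Lib.Helper28.support_add_subset hc hd, map_add _ _ _⟩
    | smul a x _ hx =>
      obtain ⟨c, hc, rfl⟩ := hx
      exact ⟨a • c, Lib.Helper28.support_smul_subset hc a, map_smul _ _ _⟩
  obtain ⟨c, hc, hcm⟩ := hspan m'
  have heq : n • c = Finsupp.single i₀ 1 := by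
    refine Lib.Helper28.intCoeff_unique P hΔ.linInd (Lib.Helper28.support_smul_subset hc n) ?_ ?_
    · intro j hj
      have := Finsupp.support_single_subset hj
      rw [Finset.mem_singleton] at this
      rw [this]; exact hi₀
    · rw [map_smul, hcm, h']; simp
  have h1 : n * c i₀ = 1 := by
    have := DFunLike.congr_fun heq i₀
    simpa using this
  exact Int.eq_one_or_neg_one_of_mul_eq_one h1

end Groth.Agent.S5475
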