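import Groth.Statements.S5478
import Groth.Agent.Lib.Helper28.RootWeyl

set_option autoImplicit false
open RootPairing
open scoped Pointwise
open RootD

namespace Groth.Agent.S5478

/-- The group of automorphisms of a root datum that act trivially on the radical is finite. -/
theorem result {ι M N : Type*} [AddCommGroup M] [AddCommGroup N]
    (P : RootPairing ι ℤ M N) [Finite ι] :
    Set.Finite {u : P.Aut | ∀ m : M, ∃ n : ℕ, 0 < n ∧ n • (u • m - m) ∈ Submodule.span ℤ (Set.range P.root)} := by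
  set T : Set P.Aut := {u : P.Aut | ∀ m : M, ∃ n : ℕ, 0 < n ∧
    n • (u • m - m) ∈ Submodule.span ℤ (Set.range P.root)} with hT
  have hinv : ∀ u ∈ T, u⁻¹ ∈ T := by
    intro u hu m
    obtain ⟨n, hn, h⟩ := hu (u⁻¹ • m)
    refine ⟨n, hn, ?_⟩
    rw [smul_inv_smul] at h
    have : n • (u⁻¹ • m - m) = -(n • (m - u⁻¹ • m)) := by rw [← smul_neg]; congr 1; abel
    rw [this]
    exact Submodule.neg_mem _ h
  have hmul : ∀ u ∈ T, ∀ v ∈ T, u * v ∈ T := by
    intro u hu v hv m
    obtain ⟨n₁, hn₁, h₁⟩ := hu (v • m)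
    obtain ⟨n₂, hn₂, h₂⟩ := hv m
    refine ⟨n₁ * n₂, Nat.mul_pos hn₁ hn₂, ?_⟩
    have : (u * v) • m - m = (u • (v • m) - v • m) + (v • m - m) := by rw [mul_smul]; abel
    rw [this, smul_add]
    refine Submodule.add_mem _ ?_ ?_
    · rw [mul_comm, mul_smul]
      exact Submodule.smul_of_tower_mem _ n₂ h₁
    · rw [mul_smul]
      exact Submodule.smul_of_tower_mem _ n₁ h₂
  have hinj : Set.InjOn (Equiv.indexHom P) T := by
    intro u hu v hv huv
    have hw : u⁻¹ * v ∈ T := hmul _ (hinv u hu) v hv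
    have hfix : ∀ i : ι, (u⁻¹ * v) • i = i := by
      intro i
      rw [mul_smul]
      have : v • i = u • i := (DFunLike.congr_fun huv i).symm
      rw [this, inv_smul_smul]
    have h1 : u⁻¹ * v = 1 := by
      refine Lib.Helper28.aut_eq_one_of_forall_smul_eq fun m => ?_
      obtain ⟨n, hn, hm⟩ := hw m
      exact Lib.Helper28.aut_smul_eq_self_of_fix hfix hn hm
    exact (inv_mul_eq_one.mp h1)
  exact Set.Finite.of_finite_image (Set.toFinite _) hinj

end Groth.Agent.S5478
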