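import Groth.Statements.S5479
import Groth.Agent.Lib.Helper28.RootCox

set_option autoImplicit false
open RootPairing
open scoped Pointwise
open RootD

namespace Groth.Agent.S5479

/-- Aut(R) is the semidirect product of the Weyl group by the stabiliser E_Δ of a system of simple
roots: every automorphism is uniquely w · e with w ∈ W and e(Δ) = Δ. -/
theorem result {ι M N : Type*} [AddCommGroup M] [AddCommGroup N]
    (P : RootPairing ι ℤ M N) [Finite ι] (Δ : Set ι) (hΔ : RootD.IsSimpleSys P Δ) (u : P.Aut) :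
    ∃! w : P.weylGroup, (fun i : ι => ((w : P.Aut)⁻¹ * u) • i) '' Δ = Δ := by
  obtain ⟨g, hg, hgΔ⟩ := Lib.Helper28.exists_weylGroup_image_eq_simpleSys hΔ
    (Lib.Helper28.aut_isSimpleSys P u hΔ)
  have key : ∀ w : P.Aut, (fun i : ι => (w⁻¹ * u) • i) '' Δ = Δ ↔
      (fun i : ι => w • i) '' Δ = (fun i : ι => u • i) '' Δ := by
    intro w
    rw [← Lib.Helper28.aut_image_image]
    constructor
    · intro h
      have := congrArg (fun T => (fun i : ι => w • i) '' T) h
      rw [Lib.Helper28.aut_image_image, mul_inv_cancel, Lib.Helper28.aut_image_one] at this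
      exact this.symm
    · intro h
      rw [← h, Lib.Helper28.aut_image_image, inv_mul_cancel, Lib.Helper28.aut_image_one]
  refine ⟨⟨g, hg⟩, (key g).mpr hgΔ, ?_⟩
  rintro ⟨w, hw⟩ hwΔ
  have hwΔ' := (key w).mp hwΔ
  -- `g⁻¹ * w` stabilises `Δ`
  have hstab : (fun i : ι => (g⁻¹ * w) • i) '' Δ = Δ := by
    rw [← Lib.Helper28.aut_image_image, hwΔ', ← hgΔ, Lib.Helper28.aut_image_image, inv_mul_cancel,
      Lib.Helper28.aut_image_one]
  have h1 : g⁻¹ * w = 1 := by
    refine Lib.Helper28.weylGroup_eq_one_of_image_subset_posOf hΔ (mul_mem (inv_mem hg) hw) ?_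
    intro i hi
    apply Lib.Helper28.subset_posOf
    rw [← hstab]
    exact Set.mem_image_of_mem _ hi
  apply Subtype.ext
  exact (inv_mul_eq_one.mp h1).symm

end Groth.Agent.S5479
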