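import Groth.Statements.S5483
import Groth.Agent.Lib.Helper28.RootHeight

set_option autoImplicit false
open RootD

namespace Groth.Agent.S5483

open Lib.Helper28 in
/-- A positive root supported on `Δ₁` plus a simple root outside `Δ₁` and orthogonal to `Δ₁` is never
a root. -/
lemma not_root_add {ι M N : Type*} [AddCommGroup M] [AddCommGroup N]
    {P : RootPairing ι ℤ M N} [Finite ι] {Δ : Set ι} (hΔ : RootD.IsSimpleSys P Δ) {Δ₁ : Set ι}
    (h₁ : Δ₁ ⊆ Δ) {j : ι} (hj : j ∈ Δ) (hj₁ : j ∉ Δ₁) (horth : ∀ i ∈ Δ₁, P.pairing i j = 0)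
    {l k : ι} (hl : P.root l ∈ RootD.natSpan P Δ₁) (hk : P.root k = P.root l + P.root j) : False := by
  classical
  -- `⟨l, j^∨⟩ = 0`
  have hlj : P.pairing l j = 0 := by
    have : ∀ x ∈ RootD.natSpan P Δ₁, P.coroot' j x = 0 := by
      intro x hx
      induction hx using AddSubmonoid.closure_induction with
      | mem x hx =>
        obtain ⟨i, hi, rfl⟩ := hx
        exact horth i hi
      | zero => simp
      | add x y _ _ hx hy => rw [map_add, hx, hy, add_zero]
    exact this _ hl
  have hkj : P.pairing k j = 2 := by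
    have := P.pairing_eq_add_of_root_eq_add (l := j) hk
    rw [this, hlj, P.pairing_same, zero_add]
  obtain ⟨c, hc, hc0, hcl⟩ := exists_int_coeff_of_mem_natSpan P hl
  have hcoeffl : coeff hΔ l = c := coeff_eq hΔ (hc.trans h₁) hcl
  have hcoeff : coeff hΔ (P.reflectionPerm j k) = c - Finsupp.single j 1 := by
    rw [coeff_reflectionPerm, hkj, coeff_add hΔ hk, hcoeffl, coeff_simple hΔ hj]
    ext x
    simp only [Finsupp.coe_sub, Finsupp.coe_add, Finsupp.coe_smul, Pi.sub_apply, Pi.add_apply,
      Pi.smul_apply, smul_eq_mul]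
    ring
  have hcj : c j = 0 := by
    by_contra h
    exact hj₁ (hc (Finsupp.mem_support_iff.mpr h))
  obtain ⟨i, hi⟩ : ∃ i, c i ≠ 0 := by
    by_contra hcon
    push Not at hcon
    have : c = 0 := Finsupp.ext hcon
    rw [this, map_zero] at hcl
    exact P.ne_zero l hcl.symm
  have hij : i ≠ j := fun h => hi (h ▸ hcj)
  rcases coeff_nonneg_or_nonpos hΔ (P.reflectionPerm j k) with h | h
  · have := h j
    rw [hcoeff, Finsupp.sub_apply, hcj, Finsupp.single_apply, if_pos rfl] at this
    omega
  · have := h i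
    rw [hcoeff, Finsupp.sub_apply, Finsupp.single_apply, if_neg hij.symm] at this
    have := hc0 i
    omega

open Lib.Helper28 in
lemma natSpan_le_span {ι M N : Type*} [AddCommGroup M] [AddCommGroup N]
    (P : RootPairing ι ℤ M N) (S : Set ι) {x : M} (hx : x ∈ RootD.natSpan P S) :
    x ∈ Submodule.span ℤ (P.root '' S) := by
  induction hx using AddSubmonoid.closure_induction with
  | mem x hx => exact Submodule.subset_span hx
  | zero => exact zero_mem _
  | add x y _ _ hx hy => exact add_mem hx hy

/-- If a system of simple roots Δ is the disjoint union of two mutually orthogonal subsets Δ', Δ'', then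
R_{Δ'} and R_{Δ''} partition the set of roots. -/
theorem result {ι M N : Type*} [AddCommGroup M] [AddCommGroup N]
    (P : RootPairing ι ℤ M N) [Finite ι] (Δ Δ' : Set ι) (hΔ : RootD.IsSimpleSys P Δ)
    (hsub : Δ' ⊆ Δ) (horth : ∀ i ∈ Δ', ∀ j ∈ Δ \ Δ', P.IsOrthogonal i j) (k : ι) :
    (k ∈ RootD.inSpan P Δ' ∨ k ∈ RootD.inSpan P (Δ \ Δ')) ∧
      ¬ (k ∈ RootD.inSpan P Δ' ∧ k ∈ RootD.inSpan P (Δ \ Δ')) := by
  classical
  have hpos : ∀ k ∈ RootD.posOf P Δ,
      P.root k ∈ RootD.natSpan P Δ' ∨ P.root k ∈ RootD.natSpan P (Δ \ Δ') := by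
    refine Lib.Helper28.posOf_induction hΔ ?_ ?_
    · intro i hi
      by_cases hi' : i ∈ Δ'
      · exact Or.inl (Lib.Helper28.root_mem_natSpan P hi')
      · exact Or.inr (Lib.Helper28.root_mem_natSpan P ⟨hi, hi'⟩)
    · intro k l j hl hj hk ih
      by_cases hj' : j ∈ Δ'
      · rcases ih with h | h
        · left; rw [hk]; exact add_mem h (Lib.Helper28.root_mem_natSpan P hj')
        · exfalso
          refine not_root_add hΔ (Δ₁ := Δ \ Δ') Set.sdiff_subset hj (fun h => h.2 hj') ?_ h hk
          intro i hi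
          exact (horth j hj' i hi).2
      · rcases ih with h | h
        · exfalso
          refine not_root_add hΔ (Δ₁ := Δ') hsub hj hj' ?_ h hk
          intro i hi
          exact (horth i hi j ⟨hj, hj'⟩).1
        · right; rw [hk]; exact add_mem h (Lib.Helper28.root_mem_natSpan P ⟨hj, hj'⟩)
  constructor
  · rcases (Lib.Helper28.isPosSys_posOf hΔ).cover k with h | h
    · rcases hpos k h with h' | h'
      · exact Or.inl (natSpan_le_span P _ h')
      · exact Or.inr (natSpan_le_span P _ h')
    · have hneg : P.root k = -P.root (P.reflectionPerm k k) := by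
        rw [Lib.Helper28.root_neg, neg_neg]
      rcases hpos _ h with h' | h'
      · left
        change P.root k ∈ Submodule.span ℤ (P.root '' Δ')
        rw [hneg]
        exact Submodule.neg_mem _ (natSpan_le_span P _ h')
      · right
        change P.root k ∈ Submodule.span ℤ (P.root '' (Δ \ Δ'))
        rw [hneg]
        exact Submodule.neg_mem _ (natSpan_le_span P _ h')
  · rintro ⟨h1, h2⟩
    obtain ⟨c, hc, hck⟩ := (Finsupp.mem_span_image_iff_linearCombination ℤ).mp h1
    obtain ⟨d, hd, hdk⟩ := (Finsupp.mem_span_image_iff_linearCombination ℤ).mp h2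
    rw [Finsupp.mem_supported] at hc hd
    have hcd : c = d := Lib.Helper28.intCoeff_unique P hΔ.linInd (hc.trans hsub)
      (hd.trans Set.sdiff_subset) (hck.trans hdk.symm)
    have hc0 : c = 0 := by
      ext x
      by_contra hx
      have hx1 : x ∈ Δ' := hc (Finsupp.mem_support_iff.mpr hx)
      have hx2 : x ∈ Δ \ Δ' := hd (Finsupp.mem_support_iff.mpr (hcd ▸ hx))
      exact hx2.2 hx1
    rw [hc0, map_zero] at hck
    exact P.ne_zero k hck.symm

end Groth.Agent.S5483
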