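import Groth.Statements.S5505
import Groth.Agent.Lib.Helper28.RootBasic
import Groth.Agent.S5497

set_option autoImplicit false
open RootD

namespace Groth.Agent.S5505

/-- A subset of roots which, together with its complement, is closed and symmetric contains with any
root every root not orthogonal to it; so it is a union of irreducible components. -/
theorem result {ι M N : Type*} [AddCommGroup M] [AddCommGroup N]
    (P : RootPairing ι ℤ M N) [Finite ι] (R' : Set ι) (hc : RootD.IsClosedSub P R')
    (hs : RootD.IsSymmSub P R') (hc' : RootD.IsClosedSub P R'ᶜ) (hs' : RootD.IsSymmSub P R'ᶜ)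
    (i j : ι) (hi : i ∈ R') (hij : ¬ P.IsOrthogonal i j) : j ∈ R' := by
  have := Lib.Helper28.isTorsionFree_weight P
  by_contra hj
  have hne : P.pairing i j ≠ 0 := fun h0 => hij (P.isOrthogonal_iff_pairing_eq_zero.mpr h0)
  -- no sum of an element of `R'` and an element of its complement is a root
  have key : ∀ a b : ι, a ∈ R' → b ∉ R' → P.root a + P.root b ∉ Set.range P.root := by
    rintro a b ha hb ⟨k, hk⟩
    rcases Groth.Agent.S5497.result P R' hc hs hc' hs' a b k hk with h | h
    · exact hb h.2.1
    · exact h.1 ha
  rcases lt_or_gt_of_ne hne with hlt | hgt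
  · refine key i j hi hj (Lib.Helper28.root_add_root_mem P hlt ?_)
    intro h
    apply hj
    have : j = P.reflectionPerm i i := by
      apply P.root.injective
      rw [Lib.Helper28.root_neg, h, neg_neg]
    rw [this]
    exact hs hi
  · have hj' : P.reflectionPerm j j ∉ R' := hs' hj
    have hlt : P.pairing i (P.reflectionPerm j j) < 0 := by
      rw [Lib.Helper28.pairing_neg_right]; exact neg_neg_of_pos hgt
    refine key i _ hi hj' (Lib.Helper28.root_add_root_mem P hlt ?_)
    intro h
    rw [Lib.Helper28.root_neg, neg_neg] at h
    exact hj (P.root.injective h ▸ hi)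

end Groth.Agent.S5505
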