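import Groth.Statements.S5482
import Groth.Agent.Lib.Helper28.RootHeight
import Groth.Agent.S5483
import Groth.Agent.S5497
import Groth.Agent.S5505

set_option autoImplicit false
open RootD

namespace Groth.Agent.S5482

lemma natSpan_le_span' {ι M N : Type*} [AddCommGroup M] [AddCommGroup N]
    (P : RootPairing ι ℤ M N) (S : Set ι) {x : M} (hx : x ∈ RootD.natSpan P S) :
    x ∈ Submodule.span ℤ (P.root '' S) := by
  induction hx using AddSubmonoid.closure_induction with
  | mem x hx => exact Submodule.subset_span hx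
  | zero => exact zero_mem _
  | add x y _ _ hx hy => exact add_mem hx hy

/-- If the roots are partitioned into two closed symmetric subsets R', R'', then with Δ' = Δ ∩ R', Δ'' =
Δ ∩ R'' for a system of simple roots Δ one has R' = R_{Δ'}, R'' = R_{Δ''}, and Δ' is orthogonal to
Δ''. -/
theorem result {ι M N : Type*} [AddCommGroup M] [AddCommGroup N]
    (P : RootPairing ι ℤ M N) [Finite ι] (Δ : Set ι) (hΔ : RootD.IsSimpleSys P Δ) (R' : Set ι)
    (hc : RootD.IsClosedSub P R') (hs : RootD.IsSymmSub P R') (hc' : RootD.IsClosedSub P R'ᶜ)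
    (hs' : RootD.IsSymmSub P R'ᶜ) :
    R' = RootD.inSpan P (Δ ∩ R') ∧ R'ᶜ = RootD.inSpan P (Δ \ R') ∧
      ∀ i ∈ Δ ∩ R', ∀ j ∈ Δ \ R', P.IsOrthogonal i j := by
  classical
  have horth : ∀ i ∈ Δ ∩ R', ∀ j ∈ Δ \ R', P.IsOrthogonal i j := by
    intro i hi j hj
    by_contra hno
    exact hj.2 (Groth.Agent.S5505.result P R' hc hs hc' hs' i j hi.2 hno)
  have hdiff : Δ \ (Δ ∩ R') = Δ \ R' := by
    ext x; simp only [Set.mem_sdiff, Set.mem_inter_iff]; tauto
  have hsplit := fun k => Groth.Agent.S5483.result P Δ (Δ ∩ R') hΔ Set.inter_subset_left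
    (by rw [hdiff]; exact horth) k
  rw [hdiff] at hsplit
  -- positive roots
  have hpos : ∀ k ∈ RootD.posOf P Δ,
      (k ∈ R' → P.root k ∈ RootD.natSpan P (Δ ∩ R')) ∧
      (k ∉ R' → P.root k ∈ RootD.natSpan P (Δ \ R')) := by
    refine Lib.Helper28.posOf_induction hΔ ?_ ?_
    · intro i hi
      exact ⟨fun h => Lib.Helper28.root_mem_natSpan P ⟨hi, h⟩,
        fun h => Lib.Helper28.root_mem_natSpan P ⟨hi, h⟩⟩
    · intro k l j hl hj hk ih
      rcases Groth.Agent.S5497.result P R' hc hs hc' hs' l j k hk with ⟨h1, h2, h3⟩ | ⟨h1, h2, h3⟩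
      · refine ⟨fun _ => ?_, fun h => absurd h3 h⟩
        rw [hk]
        exact add_mem (ih.1 h1) (Lib.Helper28.root_mem_natSpan P ⟨hj, h2⟩)
      · refine ⟨fun h => absurd h h3, fun _ => ?_⟩
        rw [hk]
        exact add_mem (ih.2 h1) (Lib.Helper28.root_mem_natSpan P ⟨hj, h2⟩)
  have hnegneg : ∀ k : ι, P.reflectionPerm (P.reflectionPerm k k) (P.reflectionPerm k k) = k := by
    intro k
    apply P.root.injective
    rw [Lib.Helper28.root_neg, Lib.Helper28.root_neg, neg_neg]
  have hall : ∀ k : ι, (k ∈ R' → k ∈ RootD.inSpan P (Δ ∩ R')) ∧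
      (k ∉ R' → k ∈ RootD.inSpan P (Δ \ R')) := by
    intro k
    rcases (Lib.Helper28.isPosSys_posOf hΔ).cover k with h | h
    · exact ⟨fun hk => natSpan_le_span' P _ ((hpos k h).1 hk),
        fun hk => natSpan_le_span' P _ ((hpos k h).2 hk)⟩
    · have hneg : P.root k = -P.root (P.reflectionPerm k k) := by
        rw [Lib.Helper28.root_neg, neg_neg]
      constructor
      · intro hk
        change P.root k ∈ Submodule.span ℤ (P.root '' (Δ ∩ R'))
        rw [hneg]
        exact Submodule.neg_mem _ (natSpan_le_span' P _ ((hpos _ h).1 (hs hk)))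
      · intro hk
        change P.root k ∈ Submodule.span ℤ (P.root '' (Δ \ R'))
        rw [hneg]
        exact Submodule.neg_mem _ (natSpan_le_span' P _ ((hpos _ h).2 (hs' hk)))
  refine ⟨?_, ?_, horth⟩
  · ext k
    constructor
    · exact (hall k).1
    · intro hk
      by_contra hk'
      exact (hsplit k).2 ⟨hk, (hall k).2 hk'⟩
  · ext k
    constructor
    · exact (hall k).2
    · intro hk hk'
      exact (hsplit k).2 ⟨(hall k).1 hk', hk⟩

end Groth.Agent.S5482
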