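import Groth.Statements.S5484
import Groth.Agent.Lib.Helper28.RootBasic
import Mathlib.Analysis.Matrix.PosDef
import Mathlib.Algebra.Order.Star.Real

set_option autoImplicit false
open RootD

namespace Groth.Agent.S5484

/-- The Gram matrix of the canonical form on a linearly independent family of roots has positive
determinant. -/
lemma det_gram_pos {ι M N : Type*} [AddCommGroup M] [AddCommGroup N]
    (P : RootPairing ι ℤ M N) [Fintype ι] {n : Type*} [Fintype n] [DecidableEq n] (r : n → ι)
    (hlin : LinearIndependent ℤ (fun a : n => P.root (r a))) :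
    0 < Matrix.det (Matrix.of fun (a b : n) => P.RootForm (P.root (r a)) (P.root (r b))) := by
  classical
  set G : Matrix n n ℤ := Matrix.of fun (a b : n) => P.RootForm (P.root (r a)) (P.root (r b))
    with hG
  -- nonvanishing
  have hne : G.det ≠ 0 := by
    intro h0
    obtain ⟨v, hv, hGv⟩ := Matrix.exists_mulVec_eq_zero_iff.mpr h0
    set w : M := ∑ a, v a • P.root (r a) with hw
    have hform : P.RootForm w w = v ⬝ᵥ (G.mulVec v) := by
      rw [hw]
      simp only [dotProduct, Matrix.mulVec, map_sum, map_smul, LinearMap.sum_apply,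
        LinearMap.smul_apply, smul_eq_mul, Finset.mul_sum, hG, Matrix.of_apply]
      refine Finset.sum_congr rfl fun a _ => ?_
      refine Finset.sum_congr rfl fun b _ => ?_
      have hs : P.RootForm (P.root (r b)) (P.root (r a)) =
          P.RootForm (P.root (r a)) (P.root (r b)) := P.rootForm_symmetric.eq _ _
      rw [hs]
      ring
    have hw0 : w = 0 := by
      refine P.eq_zero_of_mem_rootSpan_of_rootForm_self_eq_zero ?_ ?_
      · rw [hw]
        exact Submodule.sum_mem _ fun a _ =>
          Submodule.smul_mem _ _ (Submodule.subset_span (Set.mem_range_self _))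
      · rw [hform, hGv, dotProduct_zero]
    apply hv
    have := (Fintype.linearIndependent_iff.mp hlin) v hw0
    funext a
    exact this a
  -- nonnegativity after casting to the reals
  set A : Matrix ι n ℤ := Matrix.of fun (i : ι) (a : n) => P.pairing (r a) i with hA
  have hGA : G = A.transpose * A := by
    ext a b
    rw [hG, Matrix.of_apply, P.rootForm_apply_apply, Matrix.mul_apply]
    refine Finset.sum_congr rfl fun i _ => ?_
    rfl
  have hnonneg : (0 : ℝ) ≤ ((G.det : ℤ) : ℝ) := by
    have h1 := Matrix.posSemidef_conjTranspose_mul_self (A.map (Int.cast : ℤ → ℝ))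
    have h2 := h1.det_nonneg
    have h3 : (A.map (Int.cast : ℤ → ℝ)).conjTranspose * A.map (Int.cast : ℤ → ℝ) =
        (Int.castRingHom ℝ).mapMatrix G := by
      rw [hGA, Matrix.conjTranspose_eq_transpose_of_trivial]
      ext a b
      simp [Matrix.mul_apply]
    rw [h3, ← RingHom.map_det] at h2
    exact h2
  have : (0 : ℤ) ≤ G.det := by exact_mod_cast hnonneg
  exact lt_of_le_of_ne this (Ne.symm hne)

open Classical in
/-- Every principal minor of the Cartan matrix (a_{α,β} = (α^v, β), α, β simple) is strictly positive. -/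
theorem result {ι M N : Type*} [AddCommGroup M] [AddCommGroup N]
    (P : RootPairing ι ℤ M N) [Finite ι] (Δ : Finset ι) (hΔ : RootD.IsSimpleSys P (↑Δ : Set ι))
    (Δ' : Finset ι) (hsub : Δ' ⊆ Δ) :
    0 < Matrix.det (Matrix.of fun (a b : ↥Δ') => P.pairing (b : ι) (a : ι)) := by
  have : Fintype ι := Fintype.ofFinite ι
  have htfM := Lib.Helper28.isTorsionFree_weight P
  have hlin : LinearIndependent ℤ (fun a : ↥Δ' => P.root (a : ι)) :=
    hΔ.linInd.mono (by exact_mod_cast hsub)
  have hG := det_gram_pos P (fun a : ↥Δ' => (a : ι)) hlin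
  set G : Matrix ↥Δ' ↥Δ' ℤ :=
    Matrix.of fun (a b : ↥Δ') => P.RootForm (P.root (a : ι)) (P.root (b : ι)) with hGdef
  set C : Matrix ↥Δ' ↥Δ' ℤ := Matrix.of fun (a b : ↥Δ') => P.pairing (b : ι) (a : ι) with hC
  set D : Matrix ↥Δ' ↥Δ' ℤ :=
    Matrix.diagonal fun a : ↥Δ' => P.RootForm (P.root (a : ι)) (P.root (a : ι)) with hD
  have hDC : D * C = (2 : ℤ) • G := by
    ext a b
    rw [hD, Matrix.diagonal_mul, Matrix.smul_apply, hC, hGdef, Matrix.of_apply, Matrix.of_apply,
      smul_eq_mul]
    have := P.toInvariantForm.two_mul_apply_root_root (b : ι) (a : ι)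
    simp only [RootPairing.toInvariantForm_form] at this
    have hs : P.RootForm (P.root (a : ι)) (P.root (b : ι)) =
        P.RootForm (P.root (b : ι)) (P.root (a : ι)) := P.rootForm_symmetric.eq _ _
    rw [hs, this, mul_comm]
  have hdetD : 0 < D.det := by
    rw [hD, Matrix.det_diagonal]
    refine Finset.prod_pos fun a _ => ?_
    exact P.rootForm_pos_of_ne_zero (Submodule.subset_span (Set.mem_range_self _)) (P.ne_zero _)
  have hdet : D.det * C.det = 2 ^ Fintype.card ↥Δ' * G.det := by
    rw [← Matrix.det_mul, hDC, Matrix.det_smul]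
  have hpos : 0 < D.det * C.det := by
    rw [hdet]
    positivity
  exact (pos_iff_pos_of_mul_pos hpos).mp hdetD

end Groth.Agent.S5484
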