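import Groth.Statements.S5488
import Groth.Agent.Lib.Helper28.RootGen

set_option autoImplicit false
open RootPairing
open scoped Pointwise
open RootD

namespace Groth.Agent.S5488

/-- The reduced datum of indivisible roots has the same Weyl group: the reflections in indivisible roots
generate W. -/
theorem result {ι M N : Type*} [AddCommGroup M] [AddCommGroup N]
    (P : RootPairing ι ℤ M N) [Finite ι] :
    Subgroup.closure ((fun i : ι => Equiv.reflection P i) '' {i : ι | RootD.IsIndiv P i}) = P.weylGroup := by
  apply le_antisymm
  · rw [Subgroup.closure_le]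
    rintro - ⟨i, -, rfl⟩
    exact P.reflection_mem_weylGroup i
  · unfold RootPairing.weylGroup
    rw [Subgroup.closure_le]
    rintro - ⟨k, rfl⟩
    rcases Lib.Helper28.isIndiv_or_exists_two_smul (P := P) k with h | ⟨j, hj, hkj⟩
    · exact Subgroup.subset_closure (Set.mem_image_of_mem _ h)
    · rw [Lib.Helper28.reflection_eq_of_root_eq_two_smul hkj]
      exact Subgroup.subset_closure (Set.mem_image_of_mem _ hj)

end Groth.Agent.S5488
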