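import Groth.Statements.S5489
import Groth.Agent.Lib.Helper28.RootBasic

set_option autoImplicit false
open RootD

namespace Groth.Agent.S5489

/-- If a root α, distinct from roots α_1, ..., α_n, is a non-negative rational combination of them, then
some α_l with non-zero coefficient has (α^v, α_l) > 0 and α - α_l a root. -/
theorem result {ι M N : Type*} [AddCommGroup M] [AddCommGroup N]
    (P : RootPairing ι ℤ M N) [Finite ι] {n : ℕ} (a : Fin n → ι) (m : Fin n → ℕ)
    (k : ι) (hne : ∀ l, a l ≠ k) (c : ℕ) (hc : 0 < c) (hk : c • P.root k = ∑ l, m l • P.root (a l)) :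
    ∃ l : Fin n, m l ≠ 0 ∧ 0 < P.pairing (a l) k ∧ P.root k - P.root (a l) ∈ Set.range P.root := by
  have h1 := congrArg (P.coroot' k) hk
  rw [map_nsmul, map_sum] at h1
  simp only [map_nsmul, P.root_coroot'_eq_pairing, P.pairing_same] at h1
  have hpos : (0 : ℤ) < ∑ l, m l • P.pairing (a l) k := by
    rw [← h1]
    have : (0 : ℤ) < (c : ℤ) * 2 := by positivity
    simpa [nsmul_eq_mul] using this
  obtain ⟨l, -, hl⟩ := Finset.exists_lt_of_sum_lt (f := fun _ => (0 : ℤ)) (by simpa using hpos)
  have hm : m l ≠ 0 := by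
    rintro h0
    simp [h0] at hl
  have hp : 0 < P.pairing (a l) k := by
    have hm' : (0 : ℤ) < (m l : ℤ) := by exact_mod_cast Nat.pos_of_ne_zero hm
    exact (mul_pos_iff_of_pos_left hm').mp hl
  refine ⟨l, hm, hp, ?_⟩
  have := Lib.Helper28.root_sub_root_mem P hp (hne l)
  rw [← P.neg_mem_range_root_iff]
  simpa using this

end Groth.Agent.S5489
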