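import Groth.Statements.S5491
import Groth.Agent.Lib.Helper28.RootBasic
import Mathlib.LinearAlgebra.RootSystem.Base

set_option autoImplicit false
open RootD

namespace Groth.Agent.S5491

open Classical in
/-- The sum of the pairings of a simple root with all positive coroots equals `2`. -/
lemma sum_pairing_simple {ι M N : Type*} [AddCommGroup M] [AddCommGroup N]
    (P : RootPairing ι ℤ M N) [Finite ι] [Fintype ι] [P.IsReduced] (b : P.Base) {k : ι}
    (hk : k ∈ b.support) :
    (∑ j, if b.IsPos j then P.pairing k j else 0) = 2 := by
  have hkpos : b.IsPos k := b.isPos_of_mem_support hk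
  rw [← Finset.sum_filter]
  set S := Finset.univ.filter fun j => b.IsPos j with hS
  have hkS : k ∈ S := by simp [hS, hkpos]
  rw [← Finset.add_sum_erase S _ hkS, P.pairing_same]
  have hnegk : ¬ b.IsPos (P.reflectionPerm k k) := by
    intro h
    have h1 := b.height_reflectionPerm_self k
    have h2 : 0 < b.height (P.reflectionPerm k k) := h
    have h3 : 0 < b.height k := hkpos
    change b.height (P.reflectionPerm k k) = -b.height k at h1
    omega
  have hmem : ∀ j, j ∈ S.erase k ↔ P.reflectionPerm k j ∈ S.erase k := by
    have key : ∀ j, j ∈ S.erase k → P.reflectionPerm k j ∈ S.erase k := by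
      intro j hj
      rw [Finset.mem_erase] at hj ⊢
      obtain ⟨hjk, hjS⟩ := hj
      have hjpos : b.IsPos j := by simpa [hS] using hjS
      refine ⟨?_, ?_⟩
      · intro h
        have : j = P.reflectionPerm k k := by
          have h' := congrArg (P.reflectionPerm k) h
          rw [P.reflectionPerm_self] at h'
          exact h'
        exact hnegk (this ▸ hjpos)
      · have := hjpos.reflectionPerm hk hjk
        simpa [hS] using this
    intro j
    refine ⟨key j, fun h => ?_⟩
    have := key _ h
    rwa [P.reflectionPerm_self] at this
  have hsum : ∑ j ∈ S.erase k, P.pairing k j = ∑ j ∈ S.erase k, -P.pairing k j := by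
    refine Finset.sum_equiv (P.reflectionPerm k) hmem ?_
    intro j _
    rw [P.pairing_reflectionPerm, P.pairing_reflectionPerm_self_left, neg_neg]
  rw [Finset.sum_neg_distrib] at hsum
  omega

open Classical in
/-- With ρ^v the half-sum of the positive coroots, the order (height) of any root α relative to the
simple system equals (ρ^v, α); equivalently 2·height(α) = Σ_{β > 0} (β^v, α). -/
theorem result {ι M N : Type*} [AddCommGroup M] [AddCommGroup N]
    (P : RootPairing ι ℤ M N) [Finite ι] [Fintype ι] [P.IsReduced] (b : P.Base) (i : ι) :
    2 * b.height i = ∑ j, if b.IsPos j then P.pairing i j else 0 := by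
  classical
  obtain ⟨f, -, -, hf⟩ := b.exists_root_eq_sum_int i
  rw [RootPairing.Base.height_eq_sum hf]
  have h1 : ∀ j : ι, P.pairing i j = ∑ k ∈ b.support, f k * P.pairing k j := by
    intro j
    rw [← P.root_coroot'_eq_pairing, hf, map_sum]
    refine Finset.sum_congr rfl fun k _ => ?_
    rw [map_smul, smul_eq_mul, P.root_coroot'_eq_pairing]
  have h2 : (∑ j, if b.IsPos j then P.pairing i j else 0) =
      ∑ k ∈ b.support, f k * ∑ j, if b.IsPos j then P.pairing k j else 0 := by
    simp_rw [Finset.mul_sum]
    rw [Finset.sum_comm]
    refine Finset.sum_congr rfl fun j _ => ?_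
    split_ifs with hj
    · exact h1 j
    · simp
  rw [h2, Finset.mul_sum]
  refine Finset.sum_congr rfl fun k hk => ?_
  rw [sum_pairing_simple P b hk, mul_comm]

end Groth.Agent.S5491
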