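import Groth.Statements.S5492
import Groth.Agent.Lib.Helper28.RootBasic

set_option autoImplicit false
open RootD

namespace Groth.Agent.S5492

/-- Off-diagonal entries of the Cartan matrix of a system of simple roots are non-positive: (α^v, β) ≤ 0
for distinct simple roots α, β. -/
theorem result {ι M N : Type*} [AddCommGroup M] [AddCommGroup N]
    (P : RootPairing ι ℤ M N) [Finite ι] (Δ : Set ι) (hΔ : RootD.IsSimpleSys P Δ) (i j : ι)
    (hi : i ∈ Δ) (hj : j ∈ Δ) (hij : i ≠ j) : P.pairing j i ≤ 0 := by
  by_contra hpos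
  push Not at hpos
  have hli := hΔ.linInd
  obtain ⟨k, hk⟩ := Lib.Helper28.root_sub_root_mem P hpos hij.symm
  rcases hΔ.mem_or_neg_mem k with hk' | hk'
  · have h : P.root j = P.root k + P.root i := by rw [hk]; abel
    rcases Lib.Helper28.eq_zero_or_eq_zero_of_root_eq_add P hli hj hk'
      (Lib.Helper28.root_mem_natSpan P hi) h with h0 | h0
    · exact P.ne_zero k h0
    · exact P.ne_zero i h0
  · have h : P.root i = P.root j + -P.root k := by rw [hk]; abel
    rcases Lib.Helper28.eq_zero_or_eq_zero_of_root_eq_add P hli hi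
      (Lib.Helper28.root_mem_natSpan P hj) hk' h with h0 | h0
    · exact P.ne_zero j h0
    · exact P.ne_zero k (neg_eq_zero.mp h0)

end Groth.Agent.S5492
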