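import Groth.Statements.S5493
import Groth.Agent.Lib.Helper28.RootBasic
import Mathlib.LinearAlgebra.RootSystem.Base

set_option autoImplicit false
open RootD

namespace Groth.Agent.S5493

open Module in
/-- The simple roots of a base of an adjoint root datum form a basis of the weight lattice. -/
noncomputable def baseBasis {ι M N : Type*} [AddCommGroup M] [AddCommGroup N]
    (P : RootPairing ι ℤ M N) (had : Submodule.span ℤ (Set.range P.root) = ⊤) (b : P.Base) :
    Basis ↥b.support ℤ M :=
  Basis.mk (v := fun i : ↥b.support => P.root (i : ι)) b.linearIndepOn_root (by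
    have : Set.range (fun i : ↥b.support => P.root (i : ι)) = P.root '' (↑b.support : Set ι) := by
      ext x
      constructor
      · rintro ⟨i, rfl⟩
        exact ⟨i, i.2, rfl⟩
      · rintro ⟨i, hi, rfl⟩
        exact ⟨⟨i, hi⟩, rfl⟩
    rw [this, b.span_int_root_support, had])

lemma baseBasis_apply {ι M N : Type*} [AddCommGroup M] [AddCommGroup N]
    (P : RootPairing ι ℤ M N) (had : Submodule.span ℤ (Set.range P.root) = ⊤) (b : P.Base)
    (i : ↥b.support) : baseBasis P had b i = P.root (i : ι) := by
  unfold baseBasis
  exact Module.Basis.mk_apply _ _ i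

/-- A linear equivalence matching the simple roots of two bases with equal Cartan matrices maps roots
to roots. -/
lemma apply_mem_range_root {ι M N ι' M' N' : Type*} [AddCommGroup M] [AddCommGroup N]
    [AddCommGroup M'] [AddCommGroup N']
    (P : RootPairing ι ℤ M N) (P' : RootPairing ι' ℤ M' N') [Finite ι] [P.IsReduced]
    (had : Submodule.span ℤ (Set.range P.root) = ⊤)
    (b : P.Base) (b' : P'.Base) (u : ↥b.support ≃ ↥b'.support)
    (hu : ∀ i j : ↥b.support, P.pairing (i : ι) (j : ι) = P'.pairing (u i : ι') (u j : ι'))
    (f : M ≃ₗ[ℤ] M') (hf : ∀ i : ↥b.support, f (P.root (i : ι)) = P'.root (u i : ι')) (i : ι) :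
    f (P.root i) ∈ Set.range P'.root := by
  have hcomm : ∀ (k : ↥b.support) (x : M),
      f (P.reflection (k : ι) x) = P'.reflection (u k : ι') (f x) := by
    intro k x
    have : (f : M →ₗ[ℤ] M') ∘ₗ (P.reflection (k : ι) : M →ₗ[ℤ] M) =
        (P'.reflection (u k : ι') : M' →ₗ[ℤ] M') ∘ₗ (f : M →ₗ[ℤ] M') := by
      refine (baseBasis P had b).ext fun j => ?_
      simp only [LinearMap.comp_apply, LinearEquiv.coe_coe, baseBasis_apply]
      rw [P.reflection_apply_root, map_sub, map_smul, hf, hf, P'.reflection_apply_root, hu]
    exact congrArg (fun g : M →ₗ[ℤ] M' => g x) this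
  apply b.induction_reflect i
  · rintro j ⟨l, hl⟩
    refine ⟨P'.reflectionPerm l l, ?_⟩
    rw [Lib.Helper28.root_neg, Lib.Helper28.root_neg, map_neg, hl]
  · intro j hj
    exact ⟨(u ⟨j, hj⟩ : ι'), (hf ⟨j, hj⟩).symm⟩
  · rintro j k ⟨l, hl⟩ hk
    refine ⟨P'.reflectionPerm (u ⟨k, hk⟩ : ι') l, ?_⟩
    rw [P.root_reflectionPerm, hcomm ⟨k, hk⟩, ← hl, P'.root_reflectionPerm]

/-- Adjoint case; the simply connected case is dual: two reduced adjoint root data with systems of
simple roots Δ, Δ' and a bijection u : Δ → Δ' respecting the Cartan matrices are isomorphic through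
a unique isomorphism inducing u on Δ. -/
theorem result {ι M N ι' M' N' : Type*} [AddCommGroup M] [AddCommGroup N] [AddCommGroup M'] [AddCommGroup N']
    (P : RootPairing ι ℤ M N) (P' : RootPairing ι' ℤ M' N') [Finite ι] [Finite ι'] [P.IsReduced] [P'.IsReduced]
    (had : Submodule.span ℤ (Set.range P.root) = ⊤) (had' : Submodule.span ℤ (Set.range P'.root) = ⊤)
    (b : P.Base) (b' : P'.Base) (u : ↥b.support ≃ ↥b'.support)
    (hu : ∀ i j : ↥b.support, P.pairing (i : ι) (j : ι) = P'.pairing (u i : ι') (u j : ι')) :
    ∃! e : RootPairing.Equiv P P', ∀ i : ↥b.support, e.indexEquiv (i : ι) = (u i : ι') := by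
  classical
  have htf := Lib.Helper28.isTorsionFree_weight P
  have htf' := Lib.Helper28.isTorsionFree_weight P'
  set B := baseBasis P had b with hB
  set B' := baseBasis P' had' b' with hB'
  set f : M ≃ₗ[ℤ] M' := B.equiv B' u with hfdef
  have hf : ∀ i : ↥b.support, f (P.root (i : ι)) = P'.root (u i : ι') := by
    intro i
    rw [← baseBasis_apply P had b i, ← baseBasis_apply P' had' b' (u i)]
    exact Module.Basis.equiv_apply _ _ _ _
  have hfsymm : ∀ i' : ↥b'.support, f.symm (P'.root (i' : ι')) = P.root (u.symm i' : ι) := by
    intro i'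
    rw [LinearEquiv.symm_apply_eq, hf, Equiv.apply_symm_apply]
  have h3 : ∀ i : ι, f (P.root i) ∈ Set.range P'.root :=
    apply_mem_range_root P P' had b b' u hu f hf
  have h3' : ∀ i' : ι', f.symm (P'.root i') ∈ Set.range P.root :=
    apply_mem_range_root P' P had' b' b u.symm (fun i j => by
      have := hu (u.symm i) (u.symm j)
      rw [Equiv.apply_symm_apply, Equiv.apply_symm_apply] at this
      exact this.symm) f.symm hfsymm
  -- the bijection on indices
  choose e₀ he₀ using h3
  have he₀inj : Function.Injective e₀ := by
    intro i j hij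
    apply P.root.injective
    apply f.injective
    rw [← he₀ i, ← he₀ j, hij]
  have he₀surj : Function.Surjective e₀ := by
    intro i'
    obtain ⟨i, hi⟩ := h3' i'
    refine ⟨i, ?_⟩
    apply P'.root.injective
    rw [he₀ i, hi, LinearEquiv.apply_symm_apply]
  set e' : ι ≃ ι' := Equiv.ofBijective e₀ ⟨he₀inj, he₀surj⟩ with he'def
  have he' : ∀ i : ι, f (P.root i) = P'.root (e' i) := fun i => (he₀ i).symm
  have he'symm : ∀ i' : ι', f.symm (P'.root i') = P.root (e'.symm i') := by
    intro i'
    rw [LinearEquiv.symm_apply_eq, he', Equiv.apply_symm_apply]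
  -- the transposed map
  set g : N' ≃ₗ[ℤ] N :=
    P'.flip.toLinearMap.toPerfPair.trans (f.dualMap.trans P.flip.toLinearMap.toPerfPair.symm)
    with hg
  have hgpair : ∀ (m : M) (n' : N'), P.toLinearMap m (g n') = P'.toLinearMap (f m) n' := by
    intro m n'
    have : P.flip.toLinearMap.toPerfPair (g n') = f.dualMap (P'.flip.toLinearMap.toPerfPair n') := by
      simp [hg]
    exact congrArg (fun F : Module.Dual ℤ M => F m) this
  have hgcoroot : ∀ i' : ι', g (P'.coroot i') = P.coroot (e'.symm i') := by
    intro i'
    set i := e'.symm i' with hi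
    have hei : e' i = i' := e'.apply_symm_apply i'
    apply P.flip.toLinearMap.toPerfPair.injective
    apply Module.Dual.eq_of_preReflection_mapsTo (Set.finite_range P.root) had (x := P.root i)
    · change P.toLinearMap (P.root i) (g (P'.coroot i')) = 2
      rw [hgpair, he', hei]
      exact P'.root_coroot_two i'
    · rintro _ ⟨j, rfl⟩
      refine ⟨e'.symm (P'.reflectionPerm i' (e' j)), ?_⟩
      have h1 : P.toLinearMap (P.root j) (g (P'.coroot i')) = P'.pairing (e' j) i' := by
        rw [hgpair, he']
        rfl
      rw [Module.preReflection_apply]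
      change _ = P.root j - (P.toLinearMap (P.root j) (g (P'.coroot i'))) • P.root i
      rw [h1]
      apply f.injective
      rw [he', Equiv.apply_symm_apply, map_sub, map_smul, he', he', hei, P'.root_reflectionPerm,
        P'.reflection_apply_root]
    · exact P.coroot_root_two i
    · exact P.mapsTo_reflection_root i
  -- the equivalence
  let E : RootPairing.Equiv P P' :=
    { weightMap := f
      coweightMap := g
      indexEquiv := e'
      weight_coweight_transpose := by
        apply LinearMap.ext
        intro n'
        apply LinearMap.ext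
        intro m
        exact (hgpair m n').symm
      root_weightMap := by
        funext i
        exact he' i
      coroot_coweightMap := by
        funext i'
        exact hgcoroot i'
      bijective_weightMap := f.bijective
      bijective_coweightMap := g.bijective }
  refine ⟨E, ?_, ?_⟩
  · intro i
    apply P'.root.injective
    change P'.root (e' (i : ι)) = P'.root (u i : ι')
    rw [← he', hf]
  · intro E₁ hE₁
    have hw : E₁.weightMap = (f : M →ₗ[ℤ] M') := by
      refine B.ext fun j => ?_
      rw [hB, baseBasis_apply, RootPairing.Hom.root_weightMap_apply, hE₁ j]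
      exact (hf j).symm
    have hidx : E₁.indexEquiv = e' := by
      ext j
      apply P'.root.injective
      rw [← RootPairing.Hom.root_weightMap_apply, hw]
      exact he' j
    have hco : E₁.coweightMap = (g : N' →ₗ[ℤ] N) := by
      apply LinearMap.ext
      intro n'
      apply P.flip.toLinearMap.toPerfPair.injective
      apply LinearMap.ext
      intro m
      have h1 := RootPairing.Hom.weight_coweight_transpose_apply P P' n' E₁.toHom
      have h2 := congrArg (fun F : Module.Dual ℤ M => F m) h1
      simp only [LinearMap.dualMap_apply] at h2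
      change P.toLinearMap m (E₁.coweightMap n') = P.toLinearMap m (g n')
      rw [hgpair]
      rw [hw] at h2
      exact h2.symm
    exact RootPairing.Equiv.ext hw hco hidx

end Groth.Agent.S5493
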