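import Groth.Statements.S5506
import Groth.Agent.Lib.Helper28.RootBasic

set_option autoImplicit false
open RootD

namespace Groth.Agent.S5506

/-- The class of a root under 'joined by a chain of pairwise non-orthogonal roots' is closed and
symmetric, and so is its complement; these classes are the irreducible components. -/
theorem result {ι M N : Type*} [AddCommGroup M] [AddCommGroup N]
    (P : RootPairing ι ℤ M N) [Finite ι] (i : ι) :
    RootD.IsClosedSub P {j : ι | Relation.ReflTransGen (fun a b : ι => ¬ P.IsOrthogonal a b) i j} ∧
      RootD.IsSymmSub P {j : ι | Relation.ReflTransGen (fun a b : ι => ¬ P.IsOrthogonal a b) i j} ∧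
      RootD.IsClosedSub P {j : ι | Relation.ReflTransGen (fun a b : ι => ¬ P.IsOrthogonal a b) i j}ᶜ ∧
      RootD.IsSymmSub P {j : ι | Relation.ReflTransGen (fun a b : ι => ¬ P.IsOrthogonal a b) i j}ᶜ := by
  set r : ι → ι → Prop := fun a b : ι => ¬ P.IsOrthogonal a b with hr
  have rsymm : ∀ a b, r a b → r b a := fun a b h h' => h h'.symm
  have rneg : ∀ a, r a (P.reflectionPerm a a) := by
    intro a h
    have h1 := h.1
    rw [Lib.Helper28.pairing_neg_right, P.pairing_same] at h1
    norm_num at h1
  have rneg' : ∀ a, r (P.reflectionPerm a a) a := fun a => rsymm _ _ (rneg a)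
  have radd : ∀ a b k, P.root k = P.root a + P.root b → r a k ∨ r b k := by
    intro a b k h
    have h2 : P.pairing k k = P.pairing a k + P.pairing b k := P.pairing_eq_add_of_root_eq_add h
    rw [P.pairing_same] at h2
    by_contra hcon
    push Not at hcon
    have ha : P.pairing a k = 0 := (not_not.mp hcon.1).1
    have hb : P.pairing b k = 0 := (not_not.mp hcon.2).1
    rw [ha, hb] at h2
    norm_num at h2
  refine ⟨?_, ?_, ?_, ?_⟩
  · intro a b k ha hb h
    rcases radd a b k h with h1 | h1
    · exact Relation.ReflTransGen.tail ha h1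
    · exact Relation.ReflTransGen.tail hb h1
  · intro a ha
    exact Relation.ReflTransGen.tail ha (rneg a)
  · intro a b k ha hb h hk
    rcases radd a b k h with h1 | h1
    · exact ha (Relation.ReflTransGen.tail hk (rsymm _ _ h1))
    · exact hb (Relation.ReflTransGen.tail hk (rsymm _ _ h1))
  · intro a ha ha'
    exact ha (Relation.ReflTransGen.tail ha' (rneg' a))

end Groth.Agent.S5506
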