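import Groth.Statements.S5496
import Groth.Agent.Lib.Helper28.RootCox
import Groth.Agent.Lib.Helper28.RootPMor
import Groth.Agent.Lib.Helper28.Dihedral

set_option autoImplicit false
open RootPairing
open scoped Pointwise
open RootD

namespace Groth.Agent.S5496

open Lib.Helper28 in
/-- An element of the group generated by two reflections fixing both roots is trivial. -/
lemma eq_one_of_fix {ι M N : Type*} [AddCommGroup M] [AddCommGroup N]
    (P : RootPairing ι ℤ M N) [Finite ι] (i j : ι) {w : P.Aut}
    (hw : w ∈ Subgroup.closure ({Equiv.reflection P i, Equiv.reflection P j} : Set P.Aut))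
    (hi : w • i = i) (hj : w • j = j) : w = 1 := by
  have hatf := isAddTorsionFree_weight P
  set V : Submodule ℤ M := Submodule.span ℤ {P.root i, P.root j} with hV
  have hiV : P.root i ∈ V := Submodule.subset_span (by simp)
  have hjV : P.root j ∈ V := Submodule.subset_span (by simp)
  have hle : Subgroup.closure ({Equiv.reflection P i, Equiv.reflection P j} : Set P.Aut) ≤
      P.weylGroup := by
    rw [Subgroup.closure_le]
    rintro x (rfl | rfl)
    · exact P.reflection_mem_weylGroup i
    · exact P.reflection_mem_weylGroup j
  -- displacement lies in `V`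
  have hdisp' : ∀ g : P.Aut,
      g ∈ Subgroup.closure ({Equiv.reflection P i, Equiv.reflection P j} : Set P.Aut) →
      ∀ x : M, g • x - x ∈ V := by
    intro g hg
    induction hg using Subgroup.closure_induction'' with
    | one => intro x; rw [one_smul, sub_self]; exact zero_mem _
    | mem g hg =>
      intro x
      rcases hg with rfl | rfl
      · rw [RootPairing.Equiv.reflection_smul, P.reflection_apply, sub_sub_cancel_left]
        exact Submodule.neg_mem _ (Submodule.smul_mem _ _ hiV)
      · rw [RootPairing.Equiv.reflection_smul, P.reflection_apply, sub_sub_cancel_left]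
        exact Submodule.neg_mem _ (Submodule.smul_mem _ _ hjV)
    | inv_mem g hg =>
      intro x
      rcases hg with rfl | rfl
      · rw [RootPairing.Equiv.reflection_inv, RootPairing.Equiv.reflection_smul,
          P.reflection_apply, sub_sub_cancel_left]
        exact Submodule.neg_mem _ (Submodule.smul_mem _ _ hiV)
      · rw [RootPairing.Equiv.reflection_inv, RootPairing.Equiv.reflection_smul,
          P.reflection_apply, sub_sub_cancel_left]
        exact Submodule.neg_mem _ (Submodule.smul_mem _ _ hjV)
    | mul g h _ _ ihg ihh =>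
      intro x
      have : (g * h) • x - x = (g • (h • x) - h • x) + (h • x - x) := by rw [mul_smul]; abel
      rw [this]
      exact add_mem (ihg _) (ihh _)
  have hdisp : ∀ x : M, w • x - x ∈ V := hdisp' w hw
  -- `w` fixes `V` pointwise
  have hfixV : ∀ v ∈ V, w • v = v := by
    intro v hv
    induction hv using Submodule.span_induction with
    | mem v hv =>
      rcases hv with rfl | rfl
      · rw [← aut_root, hi]
      · rw [← aut_root, hj]
    | zero => rw [smul_zero]
    | add x y _ _ hx hy => rw [smul_add, hx, hy]
    | smul c x _ hx => rw [smul_comm, hx]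
  -- powers of `w`
  have hpow : ∀ (k : ℕ) (x : M), (w ^ k) • x = x + k • (w • x - x) := by
    intro k x
    induction k with
    | zero => simp
    | succ k ih =>
      rw [pow_succ', mul_smul, ih, smul_add, smul_comm, hfixV _ (hdisp x), succ_nsmul]
      abel
  -- finite order
  have hfin : Finite P.weylGroup := Finite.of_injective _ (weylGroupToPerm_injective P)
  obtain ⟨k, hk0, hk⟩ := isOfFinOrder_iff_pow_eq_one.mp
    (isOfFinOrder_of_finite (⟨w, hle hw⟩ : P.weylGroup))
  have hk' : w ^ k = 1 := by
    have := congrArg (fun g : P.weylGroup => (g : P.Aut)) hk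
    simpa using this
  refine aut_eq_one_of_forall_smul_eq fun x => ?_
  have h1 := hpow k x
  rw [hk', one_smul] at h1
  have h2 : k • (w • x - x) = 0 := by
    have := h1.symm
    rwa [add_eq_left] at this
  have h3 : w • x - x = 0 := (nsmul_eq_zero_iff_right hk0.ne').mp h2
  exact sub_eq_zero.mp h3

open Lib.Helper28 in
lemma reflection_ne_one {ι M N : Type*} [AddCommGroup M] [AddCommGroup N]
    (P : RootPairing ι ℤ M N) [Finite ι] (i : ι) : Equiv.reflection P i ≠ 1 := by
  have hatf := isAddTorsionFree_weight P
  intro h
  have h1 : Equiv.reflection P i • P.root i = P.root i := by rw [h, one_smul]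
  rw [RootPairing.Equiv.reflection_smul, P.reflection_apply_self] at h1
  have h2 : (2 : ℕ) • P.root i = 0 := by
    rw [two_nsmul]
    nth_rewrite 1 [← h1]
    exact neg_add_cancel _
  exact P.ne_zero i ((nsmul_eq_zero_iff_right two_ne_zero).mp h2)

/-- For non-proportional roots α, β let n be the least integer n > 0 with (s_α s_β)^n(α) = α and (s_α
s_β)^n(β) = β. Then the subgroup W_{α,β} generated by s_α and s_β is presented by s_α² = s_β² = (s_α
s_β)^n = 1; equivalently it has exactly 2n elements. -/
theorem result {ι M N : Type*} [AddCommGroup M] [AddCommGroup N]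
    (P : RootPairing ι ℤ M N) [Finite ι] (i j : ι) (hli : LinearIndependent ℤ ![P.root i, P.root j])
    (n : ℕ) (hn : IsLeast {m : ℕ | 0 < m ∧ ((Equiv.reflection P i * Equiv.reflection P j) ^ m) • i = i ∧
      ((Equiv.reflection P i * Equiv.reflection P j) ^ m) • j = j} n) :
    Nat.card (Subgroup.closure ({Equiv.reflection P i, Equiv.reflection P j} : Set P.Aut)) = 2 * n := by
  set a := Equiv.reflection P i with ha
  set b := Equiv.reflection P j with hb
  have haa : a * a = 1 := Lib.Helper28.reflection_mul_self (P := P) i
  have hbb : b * b = 1 := Lib.Helper28.reflection_mul_self (P := P) j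
  have hainv : a⁻¹ = a := inv_eq_of_mul_eq_one_right haa
  have hbinv : b⁻¹ = b := inv_eq_of_mul_eq_one_right hbb
  have hab : a * b ∈ Subgroup.closure ({a, b} : Set P.Aut) :=
    mul_mem (Subgroup.subset_closure (by simp)) (Subgroup.subset_closure (by simp))
  obtain ⟨⟨hn0, hni, hnj⟩, hmin⟩ := hn
  have hpow1 : (a * b) ^ n = 1 := eq_one_of_fix P i j (pow_mem hab n) hni hnj
  have hord : orderOf (a * b) = n := by
    rw [orderOf_eq_iff hn0]
    refine ⟨hpow1, fun m hmn hm0 hm1 => ?_⟩
    have : m ∈ {m : ℕ | 0 < m ∧ ((a * b) ^ m) • i = i ∧ ((a * b) ^ m) • j = j} := by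
      refine ⟨hm0, ?_, ?_⟩ <;> rw [hm1, one_smul]
    exact absurd (hmin this) (not_le.mpr hmn)
  refine Lib.Helper28.card_closure_pair_of_involutions haa hbb hord ?_
  intro k hk
  -- `a` commutes with `a * b`, hence `(a * b) ^ 2 = 1`
  have hcomm : a * (a * b) = (a * b) * a := by
    have := ((Commute.refl (a * b)).zpow_left k).eq
    rw [← hk] at this
    exact this
  have hb' : b = a * b * a := by rw [← hcomm, ← mul_assoc, haa, one_mul]
  have hba : b * a = a * b := by
    calc b * a = (a * b * a) * a := by rw [← hb']
      _ = a * b * (a * a) := by group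
      _ = a * b := by rw [haa, mul_one]
  have hsq : (a * b) ^ 2 = 1 := by
    rw [pow_two]
    calc a * b * (a * b) = a * (b * a) * b := by group
      _ = a * (a * b) * b := by rw [hba]
      _ = (a * a) * (b * b) := by group
      _ = 1 := by rw [haa, hbb, one_mul]
  have hcases : (a * b) ^ k = 1 ∨ (a * b) ^ k = a * b := by
    rcases Int.emod_two_eq_zero_or_one k with h | h
    · left
      have : k = 2 * (k / 2) := by omega
      rw [this, zpow_mul, zpow_ofNat, hsq, one_zpow]
    · right
      have : k = 2 * (k / 2) + 1 := by omega
      rw [this, zpow_add, zpow_mul, zpow_ofNat, hsq, one_zpow, one_mul, zpow_one]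
  rcases hcases with h | h
  · exact reflection_ne_one P i (hk.trans h)
  · have : b = 1 := by
      have h3 : a = a * b := hk.trans h
      have := congrArg (fun x => a * x) h3
      simp only [← mul_assoc, haa, one_mul] at this
      exact this.symm
    exact reflection_ne_one P j this

end Groth.Agent.S5496
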