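import Groth.Statements.S5499
import Groth.Agent.Lib.Helper28.RootGen
import Groth.Agent.S5470

set_option autoImplicit false
open RootD

namespace Groth.Agent.S5499

/-- For an irreducible datum, where long(α) = ℓ(α)/ℓ(α₀) with ℓ(α₀) minimal: there is a unique
homomorphism u : Γ_0(R) → M^v with u(α) = long(α) α^v for every root α. -/
theorem result {ι M N : Type*} [AddCommGroup M] [AddCommGroup N]
    (P : RootPairing ι ℤ M N) [Finite ι] [Fintype ι]
    (hirr : ∀ R' : Set ι, RootD.IsClosedSub P R' → RootD.IsSymmSub P R' → RootD.IsClosedSub P R'ᶜ →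
      RootD.IsSymmSub P R'ᶜ → R' = ∅ ∨ R' = Set.univ)
    (i₀ : ι) (hmin : ∀ i : ι, P.RootForm (P.root i₀) (P.root i₀) ≤ P.RootForm (P.root i) (P.root i)) :
    ∃! u : Submodule.span ℤ (Set.range P.root) →+ N, ∀ i : ι,
      u ⟨P.root i, Submodule.subset_span (Set.mem_range_self i)⟩ =
        (P.RootForm (P.root i) (P.root i) / P.RootForm (P.root i₀) (P.root i₀)) • P.coroot i := by
  have htf := Lib.Helper28.isTorsionFree_weight P
  have htfN := Lib.Helper28.isAddTorsionFree_coweight P
  set ℓ : ι → ℤ := fun i => P.RootForm (P.root i) (P.root i) with hℓ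
  have hpos : ∀ i, 0 < ℓ i := fun i =>
    P.rootForm_pos_of_ne_zero (Submodule.subset_span (Set.mem_range_self i)) (P.ne_zero i)
  -- divisibility by the minimal length
  have hdvd : ∀ i, ℓ i₀ ∣ ℓ i := by
    intro i
    obtain ⟨g, hg, hno⟩ := Groth.Agent.S5470.exists_weyl_conj_not_orthogonal P hirr i₀ i
    have hlen : ℓ (g • i₀) = ℓ i₀ := by
      simp only [hℓ]
      rw [Lib.Helper28.aut_root, Groth.Agent.S5470.rootForm_weyl_smul P hg]
    set b := g • i₀ with hb
    have hB := P.toInvariantForm.pairing_mul_eq_pairing_mul_swap i b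
    simp only [RootPairing.toInvariantForm_form] at hB
    change P.pairing b i * ℓ i = P.pairing i b * ℓ b at hB
    have hne : P.pairing i b ≠ 0 := fun h0 => hno (P.isOrthogonal_iff_pairing_eq_zero.mpr h0)
    have hset := P.pairingIn_pairingIn_mem_set_of_isCrystallographic i b
    rw [Lib.Helper28.pairingIn_int, Lib.Helper28.pairingIn_int] at hset
    simp only [Set.mem_insert_iff, Set.mem_singleton_iff, Prod.mk.injEq] at hset
    have ha := hpos i
    have hbpos := hpos b
    have hle : ℓ b ≤ ℓ i := by rw [hlen]; exact hmin i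
    rw [← hlen]
    rcases hset with h | h | h | h | h | h | h | h | h | h | h | h | h | h | h | h | h <;>
      obtain ⟨h1, h2⟩ := h <;> rw [h1, h2] at hB <;>
      first
        | (exfalso; exact hne h1)
        | exact ⟨1, by omega⟩
        | exact ⟨2, by omega⟩
        | exact ⟨3, by omega⟩
        | exact ⟨4, by omega⟩
  -- the map `x ↦ 2 • Polarization x` on the root lattice
  set A : Submodule.span ℤ (Set.range P.root) →ₗ[ℤ] N :=
    ((2 : ℤ) • P.Polarization) ∘ₗ (Submodule.span ℤ (Set.range P.root)).subtype with hA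
  have hAroot : ∀ i : ι, A ⟨P.root i, Submodule.subset_span (Set.mem_range_self i)⟩ =
      ℓ i • P.coroot i := by
    intro i
    have := P.rootForm_self_smul_coroot i
    simp only [hA, LinearMap.comp_apply, Submodule.subtype_apply, LinearMap.smul_apply, hℓ]
    rw [this, ofNat_zsmul]
  have hne0 : ℓ i₀ ≠ 0 := (hpos i₀).ne'
  have hex : ∀ x : Submodule.span ℤ (Set.range P.root), ∃ y : N, ℓ i₀ • y = A x := by
    rintro ⟨x, hx⟩
    induction hx using Submodule.span_induction with
    | mem x hx =>
      obtain ⟨i, rfl⟩ := hx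
      obtain ⟨k, hk⟩ := hdvd i
      refine ⟨k • P.coroot i, ?_⟩
      rw [hAroot, hk, mul_smul]
    | zero =>
      refine ⟨0, ?_⟩
      rw [smul_zero]
      exact (map_zero A).symm
    | add x y hx hy ihx ihy =>
      obtain ⟨a, ha⟩ := ihx
      obtain ⟨b, hb⟩ := ihy
      refine ⟨a + b, ?_⟩
      rw [smul_add, ha, hb, ← map_add]
      rfl
    | smul c x hx ih =>
      obtain ⟨a, ha⟩ := ih
      refine ⟨c • a, ?_⟩
      rw [smul_comm, ha, ← map_smul]
      rfl
  have hinj : ∀ y z : N, ℓ i₀ • y = ℓ i₀ • z → y = z := by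
    intro y z h
    exact (zsmul_right_injective hne0) h
  choose v hv using hex
  let u : Submodule.span ℤ (Set.range P.root) →+ N := AddMonoidHom.mk' v (by
    intro a b
    apply hinj
    rw [hv, smul_add, hv, hv, map_add])
  refine ⟨u, ?_, ?_⟩
  · intro i
    apply hinj
    change ℓ i₀ • v _ = _
    rw [hv, hAroot, ← mul_smul, Int.mul_ediv_cancel' (hdvd i)]
  · intro u' hu'
    apply AddMonoidHom.ext
    rintro ⟨x, hx⟩
    induction hx using Submodule.span_induction with
    | mem x hx =>
      obtain ⟨i, rfl⟩ := hx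
      rw [hu' i]
      apply hinj
      change _ = ℓ i₀ • v _
      rw [hv, hAroot, ← mul_smul, Int.mul_ediv_cancel' (hdvd i)]
    | zero =>
      have h0 : (⟨0, Submodule.zero_mem _⟩ : Submodule.span ℤ (Set.range P.root)) = 0 := rfl
      rw [h0, map_zero, map_zero]
    | add x y hx hy ihx ihy =>
      have h0 : (⟨x + y, Submodule.add_mem _ hx hy⟩ : Submodule.span ℤ (Set.range P.root)) =
          ⟨x, hx⟩ + ⟨y, hy⟩ := rfl
      rw [h0, map_add, map_add, ihx, ihy]
    | smul c x hx ih =>
      have h0 : (⟨c • x, Submodule.smul_mem _ c hx⟩ : Submodule.span ℤ (Set.range P.root)) =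
          c • ⟨x, hx⟩ := rfl
      rw [h0, map_zsmul, map_zsmul, ih]

end Groth.Agent.S5499
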