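import Groth.Statements.S5500
import Groth.Agent.Lib.Helper28.RootIrr

set_option autoImplicit false
open RootD

namespace Groth.Agent.S5500

/-- For a p-morphism between irreducible reduced root data there is a rational constant k with k ·
long(u(α)) = q(α)² · long(α) for every root α; stated as the proportionality q(α)² ℓ(α) ℓ'(u β) =
q(β)² ℓ(β) ℓ'(u α) of the canonical quadratic forms. -/
theorem result {ι M N ι' M' N' : Type*} [AddCommGroup M] [AddCommGroup N] [AddCommGroup M'] [AddCommGroup N']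
    (P : RootPairing ι ℤ M N) (P' : RootPairing ι' ℤ M' N') [Finite ι] [Finite ι'] [Fintype ι] [Fintype ι'] [P.IsReduced] [P'.IsReduced]
    (hirr : ∀ R₁ : Set ι, RootD.IsClosedSub P R₁ → RootD.IsSymmSub P R₁ → RootD.IsClosedSub P R₁ᶜ →
      RootD.IsSymmSub P R₁ᶜ → R₁ = ∅ ∨ R₁ = Set.univ)
    (hirr' : ∀ R₁ : Set ι', RootD.IsClosedSub P' R₁ → RootD.IsSymmSub P' R₁ → RootD.IsClosedSub P' R₁ᶜ →
      RootD.IsSymmSub P' R₁ᶜ → R₁ = ∅ ∨ R₁ = Set.univ)
    (p : ℕ) (hp : 0 < p) (f : M' →ₗ[ℤ] M) (g : N →ₗ[ℤ] N')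
    (hfg : ∀ (m' : M') (n : N), P.toLinearMap (f m') n = P'.toLinearMap m' (g n))
    (u : ι ≃ ι') (q : ι → ℕ) (hq : ∀ i, ∃ e : ℕ, q i = p ^ e)
    (hroot : ∀ i : ι, f (P'.root (u i)) = (q i : ℤ) • P.root i)
    (hcoroot : ∀ i : ι, g (P.coroot i) = (q i : ℤ) • P'.coroot (u i)) (i j : ι) :
    ((q i : ℤ) ^ 2 * P.RootForm (P.root i) (P.root i)) * P'.RootForm (P'.root (u j)) (P'.root (u j)) =
      ((q j : ℤ) ^ 2 * P.RootForm (P.root j) (P.root j)) * P'.RootForm (P'.root (u i)) (P'.root (u i)) := by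
  have htf := Lib.Helper28.isTorsionFree_weight P
  have htf' := Lib.Helper28.isTorsionFree_weight P'
  set ℓ : ι → ℤ := fun i => P.RootForm (P.root i) (P.root i) with hℓ
  set ℓ' : ι → ℤ := fun i => P'.RootForm (P'.root (u i)) (P'.root (u i)) with hℓ'
  have hℓ'pos : ∀ i, 0 < ℓ' i := fun i =>
    P'.rootForm_pos_of_ne_zero (Submodule.subset_span (Set.mem_range_self _)) (P'.ne_zero _)
  have hqpos : ∀ i, 0 < q i := by
    intro i
    obtain ⟨e, he⟩ := hq i
    rw [he]
    exact pow_pos hp e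
  -- comparison of the Cartan integers
  have h1 : ∀ i j : ι, (q j : ℤ) * P'.pairing (u i) (u j) = (q i : ℤ) * P.pairing i j := by
    intro i j
    have := hfg (P'.root (u i)) (P.coroot j)
    rw [hroot, hcoroot, map_smul, map_smul, LinearMap.smul_apply] at this
    simp only [smul_eq_mul] at this
    exact this.symm
  have h3 : ∀ i j : ι, P.pairing j i * ℓ i = P.pairing i j * ℓ j := by
    intro i j
    have := P.toInvariantForm.pairing_mul_eq_pairing_mul_swap i j
    simpa only [RootPairing.toInvariantForm_form] using this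
  have h4 : ∀ i j : ι, P'.pairing (u j) (u i) * ℓ' i = P'.pairing (u i) (u j) * ℓ' j := by
    intro i j
    have := P'.toInvariantForm.pairing_mul_eq_pairing_mul_swap (u i) (u j)
    simpa only [RootPairing.toInvariantForm_form] using this
  -- the local statement
  have hlocal : ∀ i j : ι, P.pairing i j ≠ 0 →
      ((q i : ℤ) ^ 2 * ℓ i) * ℓ' j = ((q j : ℤ) ^ 2 * ℓ j) * ℓ' i := by
    intro i j hne
    have hqi : (q i : ℤ) ≠ 0 := by exact_mod_cast (hqpos i).ne'
    have hqj : (q j : ℤ) ≠ 0 := by exact_mod_cast (hqpos j).ne'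
    have hne' : P'.pairing (u i) (u j) ≠ 0 := by
      intro h0
      have := h1 i j
      rw [h0, mul_zero] at this
      exact (mul_ne_zero hqi hne) this.symm
    have hprod : P.pairing i j * P'.pairing (u i) (u j) ≠ 0 := mul_ne_zero hne hne'
    apply mul_right_cancel₀ hprod
    linear_combination (ℓ i * ℓ' i * (q i : ℤ) * P.pairing i j) * (h1 j i)
      - (ℓ i * ℓ' i * (q j : ℤ) * P.pairing j i) * (h1 i j)
      - ((q i : ℤ) ^ 2 * ℓ i * P.pairing i j) * (h4 i j)
      + ((q j : ℤ) ^ 2 * ℓ' i * P'.pairing (u i) (u j)) * (h3 i j)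
  -- globalise through irreducibility
  set c : ι → ℚ := fun i => ((q i : ℚ) ^ 2 * (ℓ i : ℚ)) / (ℓ' i : ℚ) with hc
  have hconst := Lib.Helper28.const_of_irreducible P hirr c (by
    intro a b hab
    have hb : ((ℓ' b : ℤ) : ℚ) ≠ 0 := by exact_mod_cast (hℓ'pos b).ne'
    have ha : ((ℓ' a : ℤ) : ℚ) ≠ 0 := by exact_mod_cast (hℓ'pos a).ne'
    simp only [hc]
    rw [div_eq_div_iff ha hb]
    have := hlocal a b hab
    exact_mod_cast this) i j
  have hb : ((ℓ' j : ℤ) : ℚ) ≠ 0 := by exact_mod_cast (hℓ'pos j).ne'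
  have ha : ((ℓ' i : ℤ) : ℚ) ≠ 0 := by exact_mod_cast (hℓ'pos i).ne'
  simp only [hc] at hconst
  rw [div_eq_div_iff ha hb] at hconst
  exact_mod_cast hconst

end Groth.Agent.S5500
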