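import Groth.Statements.S5501
import Groth.Agent.Lib.Helper28.RootBasic
import Mathlib.GroupTheory.FiniteAbelian.Basic
import Mathlib.LinearAlgebra.Dimension.Torsion.Finite

set_option autoImplicit false
universe u v w
open RootD

namespace Groth.Agent.S5501

open Module in
/-- The root pairing induced on the root lattice and its dual. -/
noncomputable def adjPairing {ι : Type*} {M : Type*} {N : Type*} [AddCommGroup M] [AddCommGroup N]
    (P : RootPairing ι ℤ M N) [Finite ι] [Module.Finite ℤ M] :
    RootPairing ι ℤ (P.rootSpan ℤ) (Module.Dual ℤ (P.rootSpan ℤ)) :=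
  haveI := Lib.Helper28.isTorsionFree_weight P
  haveI := Lib.Helper28.isAddTorsionFree_weight P
  { toLinearMap := Module.Dual.eval ℤ (P.rootSpan ℤ)
    isPerfPair_toLinearMap := inferInstance
    root := ⟨fun i => ⟨P.root i, Submodule.subset_span (Set.mem_range_self i)⟩, fun i j h =>
      P.root.injective (congrArg Subtype.val h)⟩
    coroot := ⟨fun i => (P.rootSpan ℤ).subtype.dualMap (P.coroot' i), fun i j h => by
      have := P.injOn_dualMap_subtype_span_root_coroot (Set.mem_range_self i)
        (Set.mem_range_self j) h
      exact P.coroot.injective this⟩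
    root_coroot_two := fun i => P.root_coroot_two i
    reflectionPerm := P.reflectionPerm
    reflectionPerm_root := fun i j => by
      apply Subtype.ext
      exact P.reflectionPerm_root i j
    reflectionPerm_coroot := fun i j => by
      apply LinearMap.ext
      intro x
      have := P.reflectionPerm_coroot i j
      have h2 := congrArg (fun n => P.toLinearMap (x : M) n) this
      simp only [map_sub, map_smul] at h2
      exact h2 }

/-- Adjoint case; the simply connected case is dual: a semisimple root datum R is adjoint if and only if
every isogeny R' → R is an isomorphism. -/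
theorem result {ι : Type u} {M : Type v} {N : Type w} [AddCommGroup M] [AddCommGroup N]
    (P : RootPairing ι ℤ M N) [Finite ι] [Module.Finite ℤ M] [Module.Finite ℤ N]
    (hss : Module.finrank ℤ (Submodule.span ℤ (Set.range P.root)) = Module.finrank ℤ M) :
    Submodule.span ℤ (Set.range P.root) = ⊤ ↔
      ∀ (ι' : Type u) (M' N' : Type v) [AddCommGroup M'] [AddCommGroup N'] [Finite ι']
        [Module.Finite ℤ M'] [Module.Finite ℤ N'] (P' : RootPairing ι' ℤ M' N') (f : RootPairing.Hom P' P),
        Function.Injective f.weightMap → Finite (M ⧸ LinearMap.range f.weightMap) →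
          Function.Bijective f.weightMap := by
  have htf := Lib.Helper28.isTorsionFree_weight P
  constructor
  · intro htop ι' M' N' _ _ _ _ _ P' f hinj _
    refine ⟨hinj, ?_⟩
    rw [← LinearMap.range_eq_top, eq_top_iff, ← htop, Submodule.span_le]
    rintro _ ⟨i, rfl⟩
    refine ⟨P'.root (f.indexEquiv.symm i), ?_⟩
    rw [RootPairing.Hom.root_weightMap_apply, Equiv.apply_symm_apply]
  · intro h
    let P' := adjPairing P
    let f : RootPairing.Hom P' P :=
      { weightMap := (P.rootSpan ℤ).subtype
        coweightMap := (P.rootSpan ℤ).subtype.dualMap ∘ₗ P.flip.toLinearMap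
        indexEquiv := Equiv.refl ι
        weight_coweight_transpose := by
          apply LinearMap.ext
          intro n
          apply LinearMap.ext
          intro x
          rfl
        root_weightMap := by
          funext i
          rfl
        coroot_coweightMap := by
          funext i
          rfl }
    have hfin : Finite (M ⧸ LinearMap.range f.weightMap) := by
      have h1 : LinearMap.range f.weightMap = P.rootSpan ℤ := Submodule.range_subtype _
      rw [h1]
      have h2 := (P.rootSpan ℤ).finrank_quotient_add_finrank
      have h0 : Module.finrank ℤ (M ⧸ P.rootSpan ℤ) = 0 := by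
        have : Module.finrank ℤ (P.rootSpan ℤ) = Module.finrank ℤ M := hss
        omega
      exact Module.finite_of_fg_torsion _ (Module.finrank_eq_zero_iff_isTorsion.mp h0)
    have hbij := h ι (P.rootSpan ℤ) (Module.Dual ℤ (P.rootSpan ℤ)) P' f
      (Submodule.injective_subtype _) hfin
    have hsurj : LinearMap.range (P.rootSpan ℤ).subtype = ⊤ := LinearMap.range_eq_top.mpr hbij.2
    rw [Submodule.range_subtype] at hsurj
    exact hsurj

end Groth.Agent.S5501
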