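import Groth.Statements.S5502
import Groth.Agent.Lib.Helper28.RootDual

set_option autoImplicit false
open RootD

namespace Groth.Agent.S5502

/-- If β = Σ_{α ∈ Δ} a_α α along a system of simple roots Δ, then ℓ(β) divides 2 a_α ℓ(α), and 2ℓ(β)
divides it when α^v is indivisible (ℓ the canonical quadratic form). -/
theorem result {ι M N : Type*} [AddCommGroup M] [AddCommGroup N]
    (P : RootPairing ι ℤ M N) [Finite ι] [Fintype ι] (Δ : Set ι) (hΔ : RootD.IsSimpleSys P Δ)
    (k : ι) (c : ι →₀ ℤ) (hc : ↑c.support ⊆ Δ) (hck : Finsupp.linearCombination ℤ P.root c = P.root k)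
    (i : ι) (hi : i ∈ Δ) :
    P.RootForm (P.root k) (P.root k) ∣ 2 * c i * P.RootForm (P.root i) (P.root i) ∧
      (RootD.IsIndiv P.flip i → 2 * P.RootForm (P.root k) (P.root k) ∣ 2 * c i * P.RootForm (P.root i) (P.root i)) := by
  obtain ⟨d, ε, hε, hind, heq⟩ := Lib.Helper28.exists_rootForm_mul_eq hΔ k c hc hck hi
  constructor
  · rcases hε with rfl | rfl
    · exact ⟨2 * d, by linear_combination (-2) * heq⟩
    · exact ⟨d, by linear_combination (-1) * heq⟩
  · intro h
    have := hind h
    subst this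
    exact ⟨d, by linear_combination (-2) * heq⟩

end Groth.Agent.S5502
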