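import Groth.Statements.S5503
-- import your own Groth.Agent.* helpers here

set_option autoImplicit false
open RootPairing
open scoped Pointwise
open RootD

namespace Groth.Agent.S5503

open RootPairing in
lemma pairing_weightMap {ι M N : Type*} [AddCommGroup M] [AddCommGroup N]
    (P : RootPairing ι ℤ M N) (u : P.Aut) (m : M) (n : N) :
    P.toLinearMap (u.weightMap m) n = P.toLinearMap m (u.coweightMap n) := by
  have := Hom.weight_coweight_transpose_apply P P n u.toHom
  have h2 := congrArg (fun f => f m) this
  simpa using h2

open RootPairing in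
lemma coweightMap_coroot_smul {ι M N : Type*} [AddCommGroup M] [AddCommGroup N]
    (P : RootPairing ι ℤ M N) (u : P.Aut) (i : ι) :
    u.coweightMap (P.coroot (u • i)) = P.coroot i := by
  have := Hom.coroot_coweightMap_apply P P (u • i) u.toHom
  rw [this]
  congr 1
  exact u.indexEquiv.symm_apply_apply i

/-- For an automorphism u of a root datum and a root α, u s_α u⁻¹ = s_{u(α)}; hence W(R) is a normal
subgroup of Aut(R). -/
theorem result {ι M N : Type*} [AddCommGroup M] [AddCommGroup N]
    (P : RootPairing ι ℤ M N) [Finite ι] (u : P.Aut) (i : ι) :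
    u * Equiv.reflection P i * u⁻¹ = Equiv.reflection P (u • i) := by
  apply Equiv.weightHom_injective
  ext x
  simp only [map_mul, Equiv.weightHom_apply, LinearEquiv.mul_apply, Equiv.reflection_weightEquiv]
  obtain ⟨y, rfl⟩ : ∃ y, x = Equiv.weightEquiv P P u y := ⟨(Equiv.weightEquiv P P u).symm x, by simp⟩
  have h1 : (Equiv.weightEquiv P P u⁻¹) ((Equiv.weightEquiv P P u) y) = y := by
    rw [Equiv.weightEquiv_inv]; simp
  rw [h1, reflection_apply, reflection_apply, map_sub, map_smul]
  have h2 : (Equiv.weightEquiv P P u) (P.root i) = P.root (u • i) := by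
    rw [Equiv.weightEquiv_apply]
    exact Hom.root_weightMap_apply P P i u.toHom
  rw [h2]
  congr 2
  change P.toLinearMap y (P.coroot i) = P.toLinearMap (u.weightMap y) (P.coroot (u • i))
  rw [pairing_weightMap, coweightMap_coroot_smul]

end Groth.Agent.S5503
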