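import Groth.Statements.S5507
import Groth.Agent.Lib.Helper28.RootBasic

set_option autoImplicit false
open RootD

namespace Groth.Agent.S5507

/-- For a system of simple roots Δ there are positive integers m_α (the lengths) such that the matrix
(m_α a_{α,β}) with a_{α,β} = (α^v, β) is symmetric and positive definite. -/
theorem result {ι M N : Type*} [AddCommGroup M] [AddCommGroup N]
    (P : RootPairing ι ℤ M N) [Finite ι] (Δ : Finset ι) (hΔ : RootD.IsSimpleSys P (↑Δ : Set ι)) :
    ∃ m : ↥Δ → ℤ, (∀ a, 0 < m a) ∧
      (Matrix.of fun (a b : ↥Δ) => m a * P.pairing (b : ι) (a : ι)).IsSymm ∧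
      (Matrix.of fun (a b : ↥Δ) => m a * P.pairing (b : ι) (a : ι)).PosDef := by
  classical
  have : Fintype ι := Fintype.ofFinite ι
  have htfM := Lib.Helper28.isTorsionFree_weight P
  have hkey : ∀ a b : ↥Δ, P.RootForm (P.root a) (P.root a) * P.pairing (b : ι) (a : ι) =
      2 * P.RootForm (P.root b) (P.root a) := by
    intro a b
    have := P.toInvariantForm.two_mul_apply_root_root (b : ι) (a : ι)
    simp only [RootPairing.toInvariantForm_form] at this
    rw [this, mul_comm]
  have hsymm : ∀ a b : ↥Δ, P.RootForm (P.root b) (P.root a) = P.RootForm (P.root a) (P.root b) := by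
    intro a b
    exact (P.rootForm_symmetric.eq _ _)
  have hS : (Matrix.of fun (a b : ↥Δ) =>
      P.RootForm (P.root a) (P.root a) * P.pairing (b : ι) (a : ι)).IsSymm := by
    apply Matrix.IsSymm.ext
    intro a b
    simp only [Matrix.of_apply]
    rw [hkey, hkey, hsymm]
  refine ⟨fun a => P.RootForm (P.root a) (P.root a), ?_, hS, ?_⟩
  · intro a
    exact P.rootForm_pos_of_ne_zero (Submodule.subset_span (Set.mem_range_self _)) (P.ne_zero _)
  · refine ⟨?_, ?_⟩
    · change Matrix.conjTranspose _ = _
      rw [Matrix.conjTranspose_eq_transpose_of_trivial]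
      exact hS
    · intro x hx
      have hlin : LinearIndependent ℤ (fun a : ↥Δ => P.root (a : ι)) := hΔ.linInd
      set v : M := Finsupp.linearCombination ℤ (fun a : ↥Δ => P.root (a : ι)) x with hv
      have hv0 : v ≠ 0 := by
        intro h0
        exact hx ((linearIndependent_iff.mp hlin) x h0)
      have hvmem : v ∈ P.rootSpan ℤ := by
        rw [hv, Finsupp.linearCombination_apply]
        exact Submodule.sum_mem _ fun a _ =>
          Submodule.smul_mem _ _ (Submodule.subset_span (Set.mem_range_self _))
      have hpos := P.rootForm_pos_of_ne_zero hvmem hv0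
      have hexp : (x.sum fun i xi => x.sum fun j xj =>
          star xi * (Matrix.of fun (a b : ↥Δ) =>
            P.RootForm (P.root a) (P.root a) * P.pairing (b : ι) (a : ι)) i j * xj) =
          2 * P.RootForm v v := by
        rw [hv, Finsupp.linearCombination_apply]
        simp only [Finsupp.sum, map_sum, map_smul, LinearMap.sum_apply, LinearMap.smul_apply,
          smul_eq_mul, Finset.mul_sum, Matrix.of_apply, star_trivial]
        refine Finset.sum_congr rfl fun a _ => Finset.sum_congr rfl fun b _ => ?_
        rw [hkey, hsymm]
        ring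
      rw [hexp]
      linarith

end Groth.Agent.S5507
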