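import Groth.Statements.S5580
import Groth.Agent.Lib.Helper53.ToposFin

set_option autoImplicit false
open CategoryTheory CategoryTheory.Limits Opposite
universe u
open ToposFin

namespace Groth.Agent.S5580

open Groth.Agent.Helper53.TF

/-- Quasi-compact and coherent cases: for the topos of sheaves of sets on a small site: let (X_i) be a
finite family of objects with coproduct X (given as a colimit cofan) and f : X -> Y a morphism with
components f_i : X_i -> Y. Then f is quasi-compact (resp. coherent) if and only if every f_i is. -/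
theorem result {C : Type u} [SmallCategory C] {J : GrothendieckTopology C}
    {Y : ToposFin.Sh J} {n : ℕ} (X : Fin n → ToposFin.Sh J) (c : Cofan X) (hc : IsColimit c)
    (f : c.pt ⟶ Y) :
    (ToposFin.IsQCHom f ↔ ∀ i, ToposFin.IsQCHom (c.inj i ≫ f)) ∧
    (ToposFin.IsCohHom f ↔ ∀ i, ToposFin.IsCohHom (c.inj i ≫ f)) := by
  have hmono : ∀ i, Mono (c.inj i) := fun i => MonoCoprod.mono_inj X c hc i
  have hqc : (∀ i, IsQCHom (c.inj i ≫ f)) → IsQCHom f := fun h =>
    isQCHom_of_finite_JE f X c.inj (JE_cofan_inj c hc) h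
  refine ⟨⟨fun h i => isQCHom_comp (c.inj i) f (isQCHom_cofan_inj c hc i) h, hqc⟩,
    ⟨fun h i => ⟨isQCHom_comp (c.inj i) f (isQCHom_cofan_inj c hc i) h.1,
      isQSHom_comp (c.inj i) f (isQSHom_of_mono (c.inj i)) h.2⟩,
     fun h => ⟨hqc (fun i => (h i).1), isQSHom_of_cofan c hc f (fun i => (h i).2)⟩⟩⟩

end Groth.Agent.S5580
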