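import Groth.Statements.S5582
import Groth.Agent.Lib.Helper53.ToposFinLP

set_option autoImplicit false
open CategoryTheory CategoryTheory.Limits Opposite
universe u
open ToposFin

namespace Groth.Agent.S5582

open Groth.Agent.Helper53.TF

/-- Equivalence of (i), (ii bis) and (iii), for the topos of sheaves of sets on a small site admitting a
generating family of coherent objects: the coequalizer of every pair of arrows between coherent
objects is coherent if and only if every object X for which Hom(X, -) commutes with small filtered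
colimits is coherent; and every object is a small filtered colimit of coherent objects if and only
if that same condition holds. -/
theorem result {C : Type u} [SmallCategory C]
    {J : GrothendieckTopology C} (hE : ToposFin.HasCoherentGenerators J) :
    ((∀ (X₀ X₁ : ToposFin.Sh J) (a b : X₁ ⟶ X₀), ToposFin.IsCoherent X₀ → ToposFin.IsCoherent X₁ →
        ToposFin.IsCoherent (coequalizer a b)) ↔
      (∀ X : ToposFin.Sh J, ToposFin.IsFP X → ToposFin.IsCoherent X)) ∧
    ((∀ X : ToposFin.Sh J, ∃ (I : Type u) (_ : SmallCategory I) (_ : IsFiltered I) (D : I ⥤ ToposFin.Sh J),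
        (∀ i, ToposFin.IsCoherent (D.obj i)) ∧ Nonempty (X ≅ colimit D)) ↔
      (∀ X : ToposFin.Sh J, ToposFin.IsFP X → ToposFin.IsCoherent X)) := by
  have hQC := hasQCGenerators_of_hasCoherentGenerators hE
  refine ⟨⟨fun h X hX => ?_, fun h X₀ X₁ a b h₀ h₁ => ?_⟩, ⟨fun h X hX => ?_, fun h X => ?_⟩⟩
  · obtain ⟨X₀, X₁, a, b, i, p, h₀, h₁, hip⟩ := exists_retract_of_isFP hE hX
    exact isCoherent_of_retract i p hip (h X₀ X₁ a b h₀ h₁)
  · exact h _ (isFP_coequalizer a b (isFP_of_isCoherent hQC h₀) h₁.1)
  · obtain ⟨I, _, _, D, hD, ⟨e⟩⟩ := h X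
    obtain ⟨i, ψ, hψ⟩ := ((isFP_iff X).1 hX).2 I D e.hom
    refine isCoherent_of_retract ψ (colimit.ι D i ≫ e.inv) ?_ (hD i)
    rw [← Category.assoc, hψ, e.hom_inv_id]
  · obtain ⟨I, hI1, hI2, D, hD, he⟩ := exists_filtered_colimit_isFP hE X
    exact ⟨I, hI1, hI2, D, fun i => h _ (hD i), he⟩

end Groth.Agent.S5582
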