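import Groth.Statements.S5586
import Groth.Agent.Lib.Helper53.ToposFin

set_option autoImplicit false
open CategoryTheory CategoryTheory.Limits Opposite
universe u
open ToposFin

namespace Groth.Agent.S5586

open Groth.Agent.Helper53.TF

/-- Quasi-separated and coherent cases: for an algebraic topos of sheaves of sets on a small site: let f
: X -> Y be a morphism and (Y_i -> Y) a jointly epimorphic family. If the Y_i are quasi-separated
(resp. coherent), then f is quasi-separated (resp. coherent) if and only if every X x_Y Y_i is a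
quasi-separated (resp. coherent) object. -/
theorem result {C : Type u} [SmallCategory C]
    {J : GrothendieckTopology C} (hE : ToposFin.IsAlgebraic J) {X Y : ToposFin.Sh J} (f : X ⟶ Y)
    {ι : Type u} (Yi : ι → ToposFin.Sh J) (g : ∀ i, Yi i ⟶ Y)
    (hg : ∀ (Z : ToposFin.Sh J) (a b : Y ⟶ Z), (∀ i, g i ≫ a = g i ≫ b) → a = b) :
    ((∀ i, ToposFin.IsQS (Yi i)) → (ToposFin.IsQSHom f ↔ ∀ i, ToposFin.IsQS (pullback f (g i)))) ∧
    ((∀ i, ToposFin.IsCoherent (Yi i)) →
      (ToposFin.IsCohHom f ↔ ∀ i, ToposFin.IsCoherent (pullback f (g i)))) := by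
  obtain ⟨S, hqc, hgen, hpb, heq⟩ := hE
  have hgen' : Gen S := fun X => by
    obtain ⟨ι, F, π, hF, hπ⟩ := hgen X
    exact ⟨ι, F, π, hF, fun Z a b h => hπ Z a b h⟩
  have hE' := hasQCGenerators_of_gen hqc hgen'
  have hg' : JE g := fun Z a b h => hg Z a b h
  have H := fun i => IsPullback.of_hasPullback f (g i)
  constructor
  · intro hY
    constructor
    · intro hf i
      exact isQS_of_isQSHom_of_isQS (pullback.snd f (g i)) (isQSHom_of_isPullback (H i) hf) (hY i)
    · intro h
      exact isQSHom_of_JE_cover hE' f Yi g hg'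
        (fun i => isQSHom_of_isQS_of_algebraic hqc hgen' hpb heq _ (h i))
  · intro hY
    constructor
    · intro hf i
      exact ⟨isQC_of_isQCHom _ (isQCHom_of_isPullback (H i) hf.1) (hY i).1,
        isQS_of_isQSHom_of_isQS _ (isQSHom_of_isPullback (H i) hf.2) (hY i).2⟩
    · intro h
      exact ⟨isQCHom_of_JE_cover hE' f Yi g hg'
          (fun i => isQCHom_of_isQC_of_isQS _ (h i).1 (hY i).2),
        isQSHom_of_JE_cover hE' f Yi g hg'
          (fun i => isQSHom_of_isQS_of_algebraic hqc hgen' hpb heq _ (h i).2)⟩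

end Groth.Agent.S5586
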