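import Groth.Statements.S5587
import Groth.Agent.Lib.Helper53.ToposFin

set_option autoImplicit false
open CategoryTheory CategoryTheory.Limits Opposite
universe u
open ToposFin

namespace Groth.Agent.S5587

open Groth.Agent.Helper53.TF

/-- For a locally coherent topos of sheaves of sets on a small site (given by a generating set of
quasi-compact objects stable under fibre products): a morphism f : X -> Y is quasi-separated if and
only if for every quasi-separated object Y' over Y the fibre product X x_Y Y' is quasi-separated. -/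
theorem result {C : Type u} [SmallCategory C]
    {J : GrothendieckTopology C} (S : Set (ToposFin.Sh J)) (hqc : ∀ K ∈ S, ToposFin.IsQC K)
    (hgen : ToposFin.IsGenerating S) (hpb : ToposFin.ClosedUnderPullbacks S) {X Y : ToposFin.Sh J} (f : X ⟶ Y) :
    ToposFin.IsQSHom f ↔
      ∀ (Y' : ToposFin.Sh J) (g : Y' ⟶ Y), ToposFin.IsQS Y' → ToposFin.IsQS (pullback f g) := by
  have hgen' : Gen S := fun X => by
    obtain ⟨ι, F, π, hF, hπ⟩ := hgen X
    exact ⟨ι, F, π, hF, fun Z a b h => hπ Z a b h⟩
  have hE' := hasQCGenerators_of_gen hqc hgen'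
  constructor
  · intro hf Y' g hY'
    exact isQS_of_isQSHom_of_isQS (pullback.snd f g)
      (isQSHom_of_isPullback (IsPullback.of_hasPullback f g) hf) hY'
  · intro h
    obtain ⟨ι, F, π, hF, hπ⟩ := hgen' Y
    refine isQSHom_of_JE_cover hE' f F π hπ (fun i => ?_)
    exact isQSHom_to_mem hqc hgen' hpb _ (hF i) (h _ (π i) (isQS_of_mem hqc hgen' hpb (hF i)))

end Groth.Agent.S5587
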