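import Groth.Statements.S5598
import Groth.Agent.Lib.Helper53.PCohCrit

set_option autoImplicit false
universe w v u
open CategoryTheory CategoryTheory.Limits
open PCoh

namespace Groth.Agent.S5598

/-- (i') ⇔ (ii') (punctual site): let C be an abelian category and C₀ a strictly full additive
subcategory, quasi-stable under kernels of epimorphisms and quasi-liftable. An object F of D(C) is
n-pseudo-coherent (isomorphic in D(C) to a strictly n-pseudo-coherent complex) if and only if there
are a strictly perfect complex E (bounded, all terms in C₀) and a morphism E ⟶ F of D(C) which is an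
n-isomorphism: an isomorphism on H^i for i > n and an epimorphism on H^n. -/
theorem result {C : Type u} [Category.{v} C] [Abelian C] [HasDerivedCategory.{w} C]
    (P : ObjectProperty C) [P.IsClosedUnderIsomorphisms] [P.ContainsZero] (hsum : ∀ X Y : C, P X → P Y → P (X ⨯ Y))
    (hqs : PCoh.IsQuasiStableUnderKernels P) (hql : PCoh.IsQuasiLiftable P)
    (n : ℤ) (F : DerivedCategory C) :
    (∃ E : CochainComplex C ℤ, PCoh.IsStrictPC P n E ∧ Nonempty (DerivedCategory.Q.obj E ≅ F)) ↔
      ∃ (E : CochainComplex C ℤ) (a b : ℤ) (α : DerivedCategory.Q.obj E ⟶ F),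
        (∀ i : ℤ, i < a ∨ b < i → IsZero (E.X i)) ∧ (∀ i : ℤ, P (E.X i)) ∧
        (∀ i : ℤ, n < i → IsIso ((DerivedCategory.homologyFunctor C i).map α)) ∧
        Epi ((DerivedCategory.homologyFunctor C n).map α) := by
  constructor
  · rintro ⟨E₀, hE₀, ⟨e⟩⟩
    obtain ⟨G, B, g, hGP, hGlow, hGhigh, hiso, hepi⟩ :=
      Groth.Agent.Helper53.PCoh.exists_strictlyPerfect_nQuasiIso P hsum hqs hql n E₀ hE₀
    refine ⟨G, n, B, DerivedCategory.Q.map g ≫ e.hom, ?_, hGP, fun i hi => ?_, ?_⟩
    · rintro i (hi | hi)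
      · exact hGlow i hi
      · exact hGhigh i hi
    · rw [Functor.map_comp]
      have := (Groth.Agent.Helper53.PCoh.isIso_dH_map_Q_iff g i).2 (hiso i hi)
      infer_instance
    · rw [Functor.map_comp]
      have := (Groth.Agent.Helper53.PCoh.epi_dH_map_Q_iff g n).2 hepi
      infer_instance
  · rintro ⟨E, a, b, α, hvan, hP, hiso, hepi⟩
    exact Groth.Agent.Helper53.PCoh.IsNPC.of_nIso P n E
      ⟨⟨b, fun i hi => hvan i (Or.inr hi)⟩, fun i _ => hP i⟩ F α hiso hepi

end Groth.Agent.S5598
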