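import Groth.Statements.S5611
import Groth.Agent.Lib.Helper12.DRingPerfectAmp
-- import your own Groth.Agent.* helpers here

set_option autoImplicit false
universe u
open CategoryTheory CategoryTheory.Limits
attribute [local instance] HasDerivedCategory.standard
open DRing

namespace Groth.Agent.S5611

open Groth.Agent.Lib.Helper12 in
theorem forward {A : Type u} [CommRing A] (K : Dual.D A) (m n : ℤ)
    (hpc : DRing.IsPseudoCoherent A (m - 1) K) (hamp : DRing.HasTorAmplitudeIn A m n K) :
    ∃ E : DRing.Cx A, DRing.VanishesOutside E m n ∧ DRing.TermwiseFiniteProjective E ∧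
      Nonempty (DRing.toD E ≅ K) := by
  obtain ⟨E, b, α, hE, hff, hα⟩ := exists_truncated_of_isPseudoCoherent hpc
  obtain ⟨F, hF, hFfl, ⟨e⟩⟩ := hamp
  have hfp := termwiseFiniteProjective_of_termwiseFiniteFree hff
  have hEb : DRing.VanishesAbove E (max b n) := fun i hi =>
    hE i (Or.inr (by have := le_max_left b n; omega))
  have hFb : DRing.VanishesAbove F (max b n) := fun i hi =>
    hF i (Or.inr (by have := le_max_right b n; omega))
  have : E.IsKProjective := isKProjective_of_vanishesAbove E _ hEb (fun i => (hfp i).2)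
  obtain ⟨f, hf⟩ := exists_map_of_isKProjective E F (α ≫ e.inv)
  have hq : ∀ i : ℤ, m ≤ i → QuasiIsoAt f i := by
    intro i hi
    apply quasiIsoAt_of_isIso_HF_map
    rw [hf, CategoryTheory.Functor.map_comp]
    have := hα.1 i (by omega)
    infer_instance
  have h1 := flat_opcycles_iff_of_quasiIsoAt f m (max b n) hq hEb hFb
    (fun j _ => termwiseFlat_of_termwiseFiniteProjective hfp j) (fun j _ => hFfl j)
  have h2 := flat_opcycles_iff_of_isZero F (m - 1) m (by omega) (hF _ (Or.inl (by omega)))
  have hfl : Module.Flat A (E.opcycles m) := h1.2 (h2.2 (hFfl m))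
  have hop := finiteProjective_opcycles E m (hfp _).1 (hfp _).1 (hfp _).2 hfl
  obtain ⟨G, hG, hGt, ⟨e'⟩⟩ := exists_rep_of_quasiIsoAt (finiteProjective A)
    finiteProjective_kerClosed f m (max b n) n hq hEb (fun j _ => hfp j) hop
    (fun i hi => isZero_HF_toD_of_isZero_X F i (hF i hi))
  exact ⟨G, hG, hGt, ⟨e' ≪≫ e⟩⟩

/-- For the punctual topos ringed by a commutative ring A: let K ∈ D(A) and m ≤ n. Then K has perfect
amplitude in [m, n], that is K is isomorphic in D(A) to a complex of finite projective modules
vanishing outside [m, n], if and only if K is (m - 1)-pseudo-coherent and has tor amplitude in [m,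
n] (isomorphic to a complex of flat modules vanishing outside [m, n]). -/
theorem result {A : Type u} [CommRing A]
    (K : Dual.D A) (m n : ℤ) (hmn : m ≤ n) :
    (DRing.IsPseudoCoherent A (m - 1) K ∧ DRing.HasTorAmplitudeIn A m n K) ↔
      ∃ E : DRing.Cx A, DRing.VanishesOutside E m n ∧ DRing.TermwiseFiniteProjective E ∧
        Nonempty (DRing.toD E ≅ K) := by
  constructor
  · rintro ⟨hpc, hamp⟩
    exact forward K m n hpc hamp
  · rintro ⟨E, hE, hfp, ⟨e⟩⟩
    refine ⟨?_, E, hE, Groth.Agent.Lib.Helper12.termwiseFlat_of_termwiseFiniteProjective hfp, ⟨e⟩⟩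
    exact Groth.Agent.Lib.Helper12.isPseudoCoherent_of_rep_finiteProjective E n
      (Groth.Agent.Lib.Helper12.vanishesAbove_of_vanishesOutside hE) hfp e (m - 1)

end Groth.Agent.S5611
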