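import Groth.Statements.S5612
import Groth.Agent.Lib.Helper12.TorBridge
import Groth.Agent.Lib.Helper12.DRingTorAmpClosure
import Groth.Agent.Lib.Helper12.DRingPerfectAmp
import Groth.Agent.Lib.Helper12.DRingPerfect

set_option autoImplicit false
universe u
open CategoryTheory CategoryTheory.Limits
attribute [local instance] HasDerivedCategory.standard
open DRing

namespace Groth.Agent.S5612

open Groth.Agent.Lib.Helper12 CategoryTheory.Pretriangulated

lemma hasFiniteTorDimCx_of_isZero {A : Type u} [CommRing A] (K : Dual.D A) (h : IsZero K) :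
    DRing.HasFiniteTorDimCx A K := by
  obtain ⟨E, a, b, hE, hterm, ⟨e⟩⟩ := RepBounded.of_isZero (flatP A) h
  exact ⟨a, b, E, hE, hterm, ⟨e⟩⟩

lemma hasFiniteTorDimCx_single {A : Type u} [CommRing A]
    (hA : ∀ (M : Type u) [AddCommGroup M] [Module A M], DRing.HasFiniteTorDim A M)
    (M : ModuleCat.{u} A) (a : ℤ) :
    DRing.HasFiniteTorDimCx A ((DerivedCategory.singleFunctor (ModuleCat.{u} A) a).obj M) := by
  obtain ⟨n, hn⟩ := hA M
  have h1 : HasTorAmplitudeIn A (-(n : ℤ)) 0
      ((DerivedCategory.singleFunctor (ModuleCat.{u} A) 0).obj M) :=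
    hasTorAmplitudeIn_of_isZero_TorM M n (fun N p hp => by
      have := hn N p hp
      exact ModuleCat.isZero_of_subsingleton _)
  exact hasFiniteTorDimCx_of_iso (singleFunctorShiftIso a M).symm
    (hasFiniteTorDimCx_shift ⟨_, _, h1⟩ (-a))

lemma hasFiniteTorDimCx_of_bounded {A : Type u} [CommRing A]
    (hA : ∀ (M : Type u) [AddCommGroup M] [Module A M], DRing.HasFiniteTorDim A M) (K : Dual.D A)
    (a b : ℤ) (hK : ∀ i : ℤ, i < a ∨ b < i → IsZero ((HF A i).obj K)) :
    DRing.HasFiniteTorDimCx A K :=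
  homology_induction (DRing.HasFiniteTorDimCx A) (fun _ => True)
    (fun _ _ => trivial) (fun e h => hasFiniteTorDimCx_of_iso e h)
    (fun K h => hasFiniteTorDimCx_of_isZero K h)
    (fun M a _ => hasFiniteTorDimCx_single hA M a)
    (fun T hT h1 h3 => (hasFiniteTorDimCx_two_out_of_three T hT).2.1 h1 h3)
    K a b hK (fun _ => trivial)

/-- Let A be a commutative ring all of whose modules have finite tor dimension (for instance A of finite
global dimension) and K ∈ D(A). (i) K has finite tor dimension if and only if K has bounded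
cohomology. (ii) K is perfect if and only if K has bounded cohomology and is pseudo-coherent. -/
theorem result {A : Type u} [CommRing A]
    (hA : ∀ (M : Type u) [AddCommGroup M] [Module A M], DRing.HasFiniteTorDim A M) (K : Dual.D A) :
    (DRing.HasFiniteTorDimCx A K ↔ ∃ a b : ℤ, ∀ i : ℤ, i < a ∨ b < i → Subsingleton (Dual.HD A K i)) ∧
      (DRing.IsPerfect A K ↔
        (∃ a b : ℤ, ∀ i : ℤ, i < a ∨ b < i → Subsingleton (Dual.HD A K i)) ∧ DRing.IsPseudoCoherent' A K) := by
  have hbdd : ∀ K : Dual.D A, (∃ a b : ℤ, ∀ i : ℤ, i < a ∨ b < i → Subsingleton (Dual.HD A K i)) →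
      DRing.HasFiniteTorDimCx A K := by
    rintro K ⟨a, b, h⟩
    exact hasFiniteTorDimCx_of_bounded hA K a b (fun i hi => by
      have := h i hi
      exact ModuleCat.isZero_of_subsingleton _)
  have hfin : ∀ K : Dual.D A, DRing.HasFiniteTorDimCx A K →
      ∃ a b : ℤ, ∀ i : ℤ, i < a ∨ b < i → Subsingleton (Dual.HD A K i) := by
    rintro K ⟨a, b, h⟩
    exact ⟨a, b, fun i hi =>
      ModuleCat.subsingleton_of_isZero (isZero_HF_of_hasTorAmplitudeIn h i hi)⟩
  refine ⟨⟨hfin K, hbdd K⟩, ?_, ?_⟩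
  · intro hK
    refine ⟨hfin K ?_, isPseudoCoherent'_of_isPerfect hK⟩
    obtain ⟨E, a, b, hE, hterm, ⟨e⟩⟩ := hK
    exact ⟨a, b, E, hE, termwiseFlat_of_termwiseFiniteProjective hterm, ⟨e⟩⟩
  · rintro ⟨hb, hpc⟩
    obtain ⟨a, c, hamp⟩ := hbdd K hb
    obtain ⟨G, hG, hGfp, ⟨e⟩⟩ := exists_finiteProjective_rep_of_isPseudoCoherent' hpc hamp
    exact ⟨G, a, c, hG, hGfp, ⟨e⟩⟩

end Groth.Agent.S5612
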