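import Groth.Statements.S5613
import Mathlib.CategoryTheory.Triangulated.Pretriangulated
import Mathlib.CategoryTheory.Limits.Preserves.Shapes.Products
import Mathlib.Tactic
-- import your own Groth.Agent.* helpers here

set_option autoImplicit false
universe v u
open CategoryTheory CategoryTheory.Limits CategoryTheory.Pretriangulated
open KZero

namespace Groth.Agent.S5613

section Helpers

open ZeroObject

section
variable {C : Type u} [Category.{v} C] [Preadditive C] [HasZeroObject C]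
    [HasShift C ℤ] [∀ n : ℤ, (shiftFunctor C n).Additive] [Pretriangulated C]

theorem clTri_triangle (T : Triangle C) (hT : T ∈ distTriang C) :
    clTri T.obj₂ = clTri T.obj₁ + clTri T.obj₃ := by
  have h : (FreeAbelianGroup.of (⟨T.obj₂, trivial⟩ : Subtype (⊤ : ObjectProperty C)) -
      FreeAbelianGroup.of ⟨T.obj₁, trivial⟩ - FreeAbelianGroup.of ⟨T.obj₃, trivial⟩) ∈
      relTr (⊤ : ObjectProperty C) :=
    AddSubgroup.subset_closure ⟨T, trivial, trivial, trivial, hT, rfl⟩
  have h2 := (QuotientAddGroup.eq_zero_iff _).mpr h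
  rw [QuotientAddGroup.mk_sub, QuotientAddGroup.mk_sub, sub_sub, sub_eq_zero] at h2
  exact h2

theorem clTri_zero : clTri (0 : C) = 0 := by
  have h' := clTri_triangle _ (contractible_distinguished (0 : C))
  simp only [contractibleTriangle, Triangle.mk_obj₁, Triangle.mk_obj₂, Triangle.mk_obj₃] at h'
  simpa using h'

theorem clTri_iso {X Y : C} (e : X ≅ Y) : clTri Y = clTri X := by
  have hT : Triangle.mk e.hom (0 : Y ⟶ (0 : C)) (0 : (0 : C) ⟶ X⟦(1 : ℤ)⟧) ∈ distTriang C := by
    refine isomorphic_distinguished _ (contractible_distinguished X) _ ?_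
    refine Triangle.isoMk _ _ (Iso.refl _) e.symm (Iso.refl _) ?_ ?_ ?_
    · show e.hom ≫ e.inv = 𝟙 X ≫ 𝟙 X
      rw [Iso.hom_inv_id, Category.comp_id]
    · show (0 : Y ⟶ (0 : C)) ≫ 𝟙 (0 : C) = e.inv ≫ (0 : X ⟶ (0 : C))
      rw [zero_comp, comp_zero]
    · show (0 : (0 : C) ⟶ X⟦(1 : ℤ)⟧) ≫ (shiftFunctor C (1 : ℤ)).map (𝟙 X) = 𝟙 (0 : C) ≫ 0
      rw [zero_comp, comp_zero]
  have h := clTri_triangle _ hT
  simp only [Triangle.mk_obj₁, Triangle.mk_obj₂, Triangle.mk_obj₃] at h
  rw [h, clTri_zero, add_zero]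

theorem clTri_shift_one (X : C) : clTri (X⟦(1 : ℤ)⟧) = - clTri X := by
  have h := clTri_triangle _ (rot_of_distTriang _ (contractible_distinguished X))
  simp only [contractibleTriangle, Triangle.rotate, Triangle.mk_obj₁, Triangle.mk_obj₂, Triangle.mk_obj₃] at h
  rw [clTri_zero] at h
  exact (neg_eq_of_add_eq_zero_right h.symm).symm

theorem clTri_biprod (X Y : C) : clTri (X ⊞ Y) = clTri X + clTri Y := by
  have h := clTri_triangle _ (binaryBiproductTriangle_distinguished X Y)
  simpa [binaryBiproductTriangle] using h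


theorem clTri_shift_succ (X : C) (k : ℤ) : clTri (X⟦k + 1⟧) = - clTri (X⟦k⟧) := by
  rw [← clTri_shift_one]
  exact (clTri_iso ((shiftFunctorAdd C k 1).app X)).symm

theorem clTri_shift (X : C) (k : ℤ) : clTri (X⟦k⟧) = ((k.negOnePow : ℤˣ) : ℤ) • clTri X := by
  induction k using Int.induction_on with
  | zero =>
    rw [Int.negOnePow_zero]
    simp only [Units.val_one, one_smul]
    exact (clTri_iso ((shiftFunctorZero C ℤ).app X)).symm
  | succ k ih =>
    rw [clTri_shift_succ, ih, Int.negOnePow_succ]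
    simp
  | pred k ih =>
    have h := clTri_shift_succ X (-(k : ℤ) - 1)
    rw [sub_add_cancel, ih] at h
    rw [Int.negOnePow_sub, Int.negOnePow_one]
    have : clTri (X⟦-(k : ℤ) - 1⟧) = - ((((-(k:ℤ)).negOnePow : ℤˣ) : ℤ) • clTri X) := by
      rw [h]; simp
    rw [this]
    simp

theorem clTri_shift_even (X : C) (n : ℤ) : clTri (X⟦2 * n⟧) = clTri X := by
  rw [clTri_shift, Int.negOnePow_two_mul]
  simp

end

section swindle
variable {C : Type u} [Category.{v} C] [Preadditive C] [HasZeroObject C]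
    [HasShift C ℤ] [∀ n : ℤ, (shiftFunctor C n).Additive] [Pretriangulated C]
variable (L : C) (n : ℤ)

abbrev fam (i : ℕ) : C := (shiftFunctor C (2 * n * (i : ℤ))).obj L

noncomputable def aIso (i : ℕ) : (fam L n i)⟦2 * n⟧ ≅ fam L n (i+1) :=
  ((shiftFunctorAdd' C (2*n*(i:ℤ)) (2*n) (2*n*((i+1:ℕ):ℤ)) (by push_cast; ring)).app L).symm

noncomputable def a0 : fam L n 0 ≅ L := (shiftFunctorZero' C (2*n*((0:ℕ):ℤ)) (by simp)).app L

variable [HasCoproduct (fam L n)]

noncomputable def hM' : IsColimit (Cofan.mk ((∐ (fam L n))⟦2*n⟧) (fun i => (Sigma.ι (fam L n) i)⟦2*n⟧')) :=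
  isColimitCofanMkObjOfIsColimit (shiftFunctor C (2*n)) _ _ (coproductIsCoproduct (fam L n))


noncomputable def swHom : ∐ (fam L n) ⟶ L ⊞ (∐ (fam L n))⟦2*n⟧ :=
  Sigma.desc (fun i => match i with
    | 0 => (a0 L n).hom ≫ biprod.inl
    | i+1 => (aIso L n i).inv ≫ (Sigma.ι (fam L n) i)⟦2*n⟧' ≫ biprod.inr)

noncomputable def swInv : L ⊞ (∐ (fam L n))⟦2*n⟧ ⟶ ∐ (fam L n) :=
  biprod.desc ((a0 L n).inv ≫ Sigma.ι (fam L n) 0)
    ((hM' L n).desc (Cofan.mk _ (fun i => (aIso L n i).hom ≫ Sigma.ι (fam L n) (i+1))))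

theorem hM'_fac (i : ℕ) : (Sigma.ι (fam L n) i)⟦2*n⟧' ≫
    (hM' L n).desc (Cofan.mk _ (fun i => (aIso L n i).hom ≫ Sigma.ι (fam L n) (i+1))) =
    (aIso L n i).hom ≫ Sigma.ι (fam L n) (i+1) :=
  (hM' L n).fac (Cofan.mk _ (fun i => (aIso L n i).hom ≫ Sigma.ι (fam L n) (i+1))) ⟨i⟩

theorem swHom_swInv : swHom L n ≫ swInv L n = 𝟙 _ := by
  apply Sigma.hom_ext
  intro i
  unfold swHom swInv
  rw [Sigma.ι_desc_assoc]
  cases i with
  | zero => simp
  | succ i =>
    simp only [Category.assoc, biprod.inr_desc, Category.comp_id]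
    rw [hM'_fac, Iso.inv_hom_id_assoc]

theorem swInv_swHom : swInv L n ≫ swHom L n = 𝟙 _ := by
  apply biprod.hom_ext'
  · unfold swHom swInv
    simp
  · apply (hM' L n).hom_ext
    rintro ⟨i⟩
    unfold swHom swInv
    simp only [Cofan.mk_ι_app, biprod.inr_desc_assoc, Category.comp_id]
    rw [← Category.assoc, hM'_fac]
    simp

noncomputable def swIso : ∐ (fam L n) ≅ L ⊞ (∐ (fam L n))⟦2*n⟧ where
  hom := swHom L n
  inv := swInv L n
  hom_inv_id := swHom_swInv L n
  inv_hom_id := swInv_swHom L n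

include n in
theorem swindle : clTri L = 0 := by
  have h1 := clTri_iso (swIso L n)
  rw [clTri_biprod, clTri_shift_even] at h1
  have h2 : clTri L + clTri (∐ (fam L n)) = clTri (∐ (fam L n)) := h1
  exact left_eq_add.mp (by rw [add_comm] at h2; exact h2.symm)

end swindle

end Helpers

/-- Let C be a pretriangulated category, L an object of C and n an integer such that the coproduct ∐_{i
≥ 0} L⟦2ni⟧ exists in C. Then cl(L) = 0 in K₀(C). -/
theorem result {C : Type u} [Category.{v} C] [Preadditive C] [HasZeroObject C]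
    [HasShift C ℤ] [∀ n : ℤ, (shiftFunctor C n).Additive] [Pretriangulated C]
    (L : C) (n : ℤ) [HasCoproduct (fun i : ℕ => (shiftFunctor C (2 * n * (i : ℤ))).obj L)] :
    KZero.clTri L = 0 := by
  exact swindle L n

end Groth.Agent.S5613
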