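import Groth.Statements.S5615
-- import your own Groth.Agent.* helpers here

set_option autoImplicit false
universe v u
open CategoryTheory CategoryTheory.Limits
open KZero

namespace Groth.Agent.S5615

/-- Let A be an abelian category and S a dense set of objects, meaning that every set of objects which
contains S and which contains the third term of a short exact sequence as soon as it contains the
other two is all of A. Then K₀(A) is generated by the classes of the objects of S. -/
theorem result {A : Type u} [Category.{v} A] [Abelian A] (S : Set A)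
    (hdense : ∀ T : Set A, S ⊆ T →
      (∀ X : ShortComplex A, X.ShortExact →
        (X.X₁ ∈ T → X.X₂ ∈ T → X.X₃ ∈ T) ∧ (X.X₁ ∈ T → X.X₃ ∈ T → X.X₂ ∈ T) ∧
          (X.X₂ ∈ T → X.X₃ ∈ T → X.X₁ ∈ T)) → T = Set.univ) :
    AddSubgroup.closure (KZero.cl '' S) = (⊤ : AddSubgroup (KZero.K0 A)) := by
  set G : AddSubgroup (KZero.K0 A) := AddSubgroup.closure (KZero.cl '' S) with hG
  have hrel : ∀ X : ShortComplex A, X.ShortExact → KZero.cl X.X₂ = KZero.cl X.X₁ + KZero.cl X.X₃ := by
    intro X hX
    have hmem : FreeAbelianGroup.of X.X₂ - FreeAbelianGroup.of X.X₁ - FreeAbelianGroup.of X.X₃ ∈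
        KZero.relAb A := AddSubgroup.subset_closure ⟨X, hX, rfl⟩
    have h0 : (QuotientAddGroup.mk (FreeAbelianGroup.of X.X₂ - FreeAbelianGroup.of X.X₁ -
        FreeAbelianGroup.of X.X₃) : KZero.K0 A) = 0 :=
      (QuotientAddGroup.eq_zero_iff _).2 hmem
    rw [QuotientAddGroup.mk_sub, QuotientAddGroup.mk_sub] at h0
    change KZero.cl X.X₂ - KZero.cl X.X₁ - KZero.cl X.X₃ = 0 at h0
    rw [sub_sub, sub_eq_zero] at h0
    exact h0
  have hT : {X : A | KZero.cl X ∈ G} = Set.univ := by
    apply hdense
    · intro X hX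
      exact AddSubgroup.subset_closure ⟨X, hX, rfl⟩
    · intro X hX
      have h := hrel X hX
      refine ⟨fun h1 h2 => ?_, fun h1 h3 => ?_, fun h2 h3 => ?_⟩
      · show KZero.cl X.X₃ ∈ G
        have : KZero.cl X.X₃ = KZero.cl X.X₂ - KZero.cl X.X₁ := by rw [h]; abel
        rw [this]; exact G.sub_mem h2 h1
      · show KZero.cl X.X₂ ∈ G
        rw [h]; exact G.add_mem h1 h3
      · show KZero.cl X.X₁ ∈ G
        have : KZero.cl X.X₁ = KZero.cl X.X₂ - KZero.cl X.X₃ := by rw [h]; abel
        rw [this]; exact G.sub_mem h2 h3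
  have hall : ∀ X : A, KZero.cl X ∈ G := fun X => by
    have : X ∈ {X : A | KZero.cl X ∈ G} := hT ▸ Set.mem_univ X
    exact this
  rw [eq_top_iff]
  rintro x -
  obtain ⟨y, rfl⟩ := QuotientAddGroup.mk_surjective x
  induction y using FreeAbelianGroup.induction_on with
  | zero => exact G.zero_mem
  | of X => exact hall X
  | neg X h => rw [QuotientAddGroup.mk_neg]; exact G.neg_mem h
  | add x y hx hy => rw [QuotientAddGroup.mk_add]; exact G.add_mem hx hy

end Groth.Agent.S5615
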