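import Groth.Statements.S5616
import Groth.Agent.Lib.Helper6.ExtEfface

set_option autoImplicit false
universe w w' v v' u u'
open CategoryTheory CategoryTheory.Limits
open CohDer

namespace Groth.Agent.S5616

open CategoryTheory.Abelian in
/-- the inductive direction (ii) ⇒ (i) -/
lemma bij_of_efface
    {A : Type u} [Category.{v} A] [Abelian A] [HasExt.{w} A]
    {B : Type u'} [Category.{v'} B] [Abelian B] [HasExt.{w'} B]
    (φ : A ⥤ B) [φ.Additive] [PreservesFiniteLimits φ] [PreservesFiniteColimits φ] (M : A)
    (h0 : ∀ L : A, Function.Bijective (fun f : L ⟶ M => φ.map f))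
    (hE : ∀ (L : A) (n : ℕ), 1 ≤ n → ∀ x : Abelian.Ext.{w'} (φ.obj L) (φ.obj M) n,
          ∃ (L' : A) (p : L' ⟶ L), Epi p ∧ (Abelian.Ext.mk₀ (φ.map p)).comp x (zero_add n) = 0)
    (n : ℕ) : ∀ (L : A),
      Function.Bijective (fun f : Abelian.Ext.{w} L M n => Abelian.Ext.mapExactFunctor φ f) := by
  induction n with
  | zero =>
    intro L
    have := h0 L
    show Function.Bijective (Ext.mapExactFunctor φ (X := L) (Y := M) (n := 0))
    rw [Ext.mapExactFunctor₀]
    exact (Ext.homEquiv₀.symm.bijective.comp this).comp Ext.homEquiv₀.bijective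
  | succ n hn =>
    intro L
    constructor
    · -- injectivity
      intro x x' hxx'
      dsimp only at hxx'
      have hz : (x - x').mapExactFunctor φ = 0 := by
        have := (φ.mapExtAddHom L M (n+1)).map_sub x x'
        simp only [Functor.mapExtAddHom_apply] at this
        rw [this, hxx', sub_self]
      suffices x - x' = 0 from sub_eq_zero.mp this
      generalize x - x' = y at hz
      obtain ⟨L', p, hp, hpy⟩ := Groth.Agent.Lib.Helper6.ExtEfface.exists_epi_comp_eq_zero y
      let S := ShortComplex.mk _ _ (kernel.condition p)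
      have hS : S.ShortExact := { exact := ShortComplex.exact_kernel p }
      obtain ⟨y₁, hy₁⟩ := Ext.contravariant_sequence_exact₃ hS M y hpy (add_comm 1 n)
      have hS' := hS.map_of_exact φ
      have hc : hS.extClass.mapExactFunctor φ = hS'.extClass := Ext.mapExactFunctor_extClass φ hS
      have e1 : hS'.extClass.comp (y₁.mapExactFunctor φ) (add_comm 1 n) = 0 := by
        have := Ext.mapExactFunctor_comp φ hS.extClass y₁ (add_comm 1 n)
        rw [hy₁, hz, hc] at this
        exact this.symm
      obtain ⟨z, hz'⟩ := Ext.contravariant_sequence_exact₁ hS' (φ.obj M) _ (add_comm 1 n) e1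
      obtain ⟨z', rfl⟩ := (hn L').surjective z
      have e2 : ((Ext.mk₀ S.f).comp z' (zero_add n)).mapExactFunctor φ =
          y₁.mapExactFunctor φ := by
        rw [Ext.mapExactFunctor_comp, Ext.mapExactFunctor_mk₀]
        exact hz'
      have e3 := (hn S.X₁).injective e2
      rw [← hy₁, ← e3]
      exact hS.extClass_comp_assoc _
    · -- surjectivity
      intro x
      obtain ⟨L', p, hp, hpx⟩ := hE L (n+1) (by lia) x
      let S := ShortComplex.mk _ _ (kernel.condition p)
      have hS : S.ShortExact := { exact := ShortComplex.exact_kernel p }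
      have hS' := hS.map_of_exact φ
      obtain ⟨y, hy⟩ := Ext.contravariant_sequence_exact₃ hS' (φ.obj M) x hpx (add_comm 1 n)
      obtain ⟨y', rfl⟩ := (hn S.X₁).surjective y
      refine ⟨hS.extClass.comp y' (add_comm 1 n), ?_⟩
      dsimp only
      have hc : hS.extClass.mapExactFunctor φ = hS'.extClass := Ext.mapExactFunctor_extClass φ hS
      rw [Ext.mapExactFunctor_comp, hc]
      exact hy

/-- Let φ : A ⥤ B be an exact functor of abelian categories and M an object of A. The following are
equivalent: (i) for every L in A and every n, the map Ext^n_A(L, M) → Ext^n_B(φ L, φ M) induced by φ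
is bijective; (ii) for every L the map Hom_A(L, M) → Hom_B(φ L, φ M) is bijective, and for every L,
every n ≥ 1 and every x ∈ Ext^n_B(φ L, φ M) there is an epimorphism L' ⟶ L of A such that x
precomposed with its image under φ vanishes. -/
theorem result
    {A : Type u} [Category.{v} A] [Abelian A] [HasExt.{w} A]
    {B : Type u'} [Category.{v'} B] [Abelian B] [HasExt.{w'} B]
    (φ : A ⥤ B) [φ.Additive] [PreservesFiniteLimits φ] [PreservesFiniteColimits φ] (M : A) :
    (∀ (L : A) (n : ℕ), Function.Bijective (fun f : Abelian.Ext.{w} L M n => Abelian.Ext.mapExactFunctor φ f)) ↔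
      ((∀ L : A, Function.Bijective (fun f : L ⟶ M => φ.map f)) ∧
        ∀ (L : A) (n : ℕ), 1 ≤ n → ∀ x : Abelian.Ext.{w'} (φ.obj L) (φ.obj M) n,
          ∃ (L' : A) (p : L' ⟶ L), Epi p ∧ (Abelian.Ext.mk₀ (φ.map p)).comp x (zero_add n) = 0) := by
  constructor
  · intro h
    refine ⟨fun L => ?_, fun L n hn x => ?_⟩
    · have := h L 0
      have e : (fun f : L ⟶ M => φ.map f) =
          Abelian.Ext.homEquiv₀ ∘ (Abelian.Ext.mapExactFunctor φ (X := L) (Y := M) (n := 0)) ∘
            Abelian.Ext.homEquiv₀.symm := by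
        rw [Abelian.Ext.mapExactFunctor₀]
        funext f
        show φ.map f = Abelian.Ext.homEquiv₀ (Abelian.Ext.homEquiv₀.symm
          (φ.map (Abelian.Ext.homEquiv₀ (Abelian.Ext.homEquiv₀.symm f))))
        rw [Equiv.apply_symm_apply, Equiv.apply_symm_apply]
      rw [e]
      exact (Abelian.Ext.homEquiv₀.bijective.comp this).comp Abelian.Ext.homEquiv₀.symm.bijective
    · obtain ⟨m, rfl⟩ : ∃ m, n = m + 1 := ⟨n - 1, by lia⟩
      obtain ⟨y, rfl⟩ := (h L (m+1)).surjective x
      obtain ⟨L', p, hp, hpy⟩ := Groth.Agent.Lib.Helper6.ExtEfface.exists_epi_comp_eq_zero y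
      refine ⟨L', p, hp, ?_⟩
      dsimp only
      rw [← Abelian.Ext.mapExactFunctor_mk₀, ← Abelian.Ext.mapExactFunctor_comp, hpy,
        Abelian.Ext.mapExactFunctor_zero]
  · rintro ⟨h0, hE⟩ L n
    exact bij_of_efface φ M h0 hE n L

end Groth.Agent.S5616
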