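import Groth.Statements.S5624
import Mathlib.CategoryTheory.Abelian.Refinements
-- import your own Groth.Agent.* helpers here

set_option autoImplicit false
universe v u
open CategoryTheory CategoryTheory.Limits
open PCoh

namespace Groth.Agent.S5624

/-- Punctual site: let C be an abelian category and C₀ a strictly full additive subcategory,
quasi-liftable in C, and let 0 → F → G → H → 0 be a short exact sequence. If F and H are precoherent
relative to C₀ then G is precoherent; if F and H are of C₀-finite type then G is of C₀-finite type. -/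
theorem result {C : Type u} [Category.{v} C] [Abelian C]
    (P : ObjectProperty C) [P.IsClosedUnderIsomorphisms] [P.ContainsZero] (hsum : ∀ X Y : C, P X → P Y → P (X ⨯ Y))
    (hql : PCoh.IsQuasiLiftable P)
    (S : ShortComplex C) (hS : S.ShortExact) :
    ((∀ (E : C) (u : E ⟶ S.X₁), P E → PCoh.IsOfFiniteType P (kernel u)) → (∀ (E : C) (u : E ⟶ S.X₃), P E → PCoh.IsOfFiniteType P (kernel u)) →
        (∀ (E : C) (u : E ⟶ S.X₂), P E → PCoh.IsOfFiniteType P (kernel u))) ∧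
      (PCoh.IsOfFiniteType P S.X₁ → PCoh.IsOfFiniteType P S.X₃ → PCoh.IsOfFiniteType P S.X₂) := by
  have := hS.mono_f
  have := hS.epi_g
  have hex := hS.exact
  constructor
  · -- precoherence
    intro hF hH E u hE
    obtain ⟨E₁, π₁, hE₁, hπ₁⟩ := hH E (u ≫ S.g) hE
    have hz : (kernel.ι (u ≫ S.g) ≫ u) ≫ S.g = 0 := by
      rw [Category.assoc, kernel.condition]
    set ψ : kernel (u ≫ S.g) ⟶ S.X₁ := hex.lift (kernel.ι (u ≫ S.g) ≫ u) hz with hψ
    have hψf : ψ ≫ S.f = kernel.ι (u ≫ S.g) ≫ u := hex.lift_f _ _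
    obtain ⟨E₂, π₂, hE₂, hπ₂⟩ := hF E₁ (π₁ ≫ ψ) hE₁
    have hθ0 : (π₂ ≫ kernel.ι (π₁ ≫ ψ) ≫ π₁ ≫ kernel.ι (u ≫ S.g)) ≫ u = 0 := by
      simp only [Category.assoc]
      rw [← hψf]
      rw [← Category.assoc π₁, ← Category.assoc (kernel.ι (π₁ ≫ ψ)), kernel.condition,
        zero_comp, comp_zero]
    set θ : E₂ ⟶ kernel u := kernel.lift u _ hθ0 with hθ
    have hθι : θ ≫ kernel.ι u = π₂ ≫ kernel.ι (π₁ ≫ ψ) ≫ π₁ ≫ kernel.ι (u ≫ S.g) :=
      kernel.lift_ι _ _ _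
    refine ⟨E₂, θ, hE₂, ?_⟩
    rw [epi_iff_surjective_up_to_refinements]
    intro A y
    have hy0 : (y ≫ kernel.ι u) ≫ (u ≫ S.g) = 0 := by
      rw [Category.assoc, kernel.condition_assoc, zero_comp, comp_zero]
    set y₁ : A ⟶ kernel (u ≫ S.g) := kernel.lift _ (y ≫ kernel.ι u) hy0 with hy₁
    have hy₁ι : y₁ ≫ kernel.ι (u ≫ S.g) = y ≫ kernel.ι u := kernel.lift_ι _ _ _
    obtain ⟨A₁, p₁, hp₁, x₁, hx₁⟩ := surjective_up_to_refinements_of_epi π₁ y₁
    have hy₁ψ : y₁ ≫ ψ = 0 := by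
      rw [← cancel_mono S.f, Category.assoc, hψf, ← Category.assoc, hy₁ι, Category.assoc,
        kernel.condition, comp_zero, zero_comp]
    have hx₁v : x₁ ≫ (π₁ ≫ ψ) = 0 := by
      rw [← Category.assoc, ← hx₁, Category.assoc, hy₁ψ, comp_zero]
    set x₁' : A₁ ⟶ kernel (π₁ ≫ ψ) := kernel.lift _ x₁ hx₁v with hx₁'
    have hx₁'ι : x₁' ≫ kernel.ι (π₁ ≫ ψ) = x₁ := kernel.lift_ι _ _ _
    obtain ⟨A₂, p₂, hp₂, x₂, hx₂⟩ := surjective_up_to_refinements_of_epi π₂ x₁'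
    refine ⟨A₂, p₂ ≫ p₁, epi_comp _ _, x₂, ?_⟩
    rw [← cancel_mono (kernel.ι u), Category.assoc, Category.assoc, Category.assoc, hθι,
      ← Category.assoc x₂, ← hx₂, Category.assoc, ← Category.assoc x₁', hx₁'ι,
      ← Category.assoc x₁, ← hx₁, Category.assoc, hy₁ι]
  · -- finite type
    rintro ⟨E₁, π₁, hE₁, hπ₁⟩ ⟨E₃, π₃, hE₃, hπ₃⟩
    -- pullback of g along π₃
    obtain ⟨F', v, hF', hv⟩ := hql (pullback S.g π₃) E₃ (pullback.snd S.g π₃) inferInstance hE₃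
    set w : F' ⟶ S.X₂ := v ≫ pullback.fst S.g π₃ with hw
    have hwg : w ≫ S.g = (v ≫ pullback.snd S.g π₃) ≫ π₃ := by
      rw [hw, Category.assoc, Category.assoc, pullback.condition]
    have hwg_epi : Epi (w ≫ S.g) := by
      rw [hwg]; exact epi_comp _ _
    refine ⟨E₁ ⨯ F', prod.fst ≫ π₁ ≫ S.f + prod.snd ≫ w, hsum _ _ hE₁ hF', ?_⟩
    rw [epi_iff_surjective_up_to_refinements]
    intro A y
    obtain ⟨A₁, p₁, hp₁, x₁, hx₁⟩ := surjective_up_to_refinements_of_epi (w ≫ S.g) (y ≫ S.g)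
    have hz : (p₁ ≫ y - x₁ ≫ w) ≫ S.g = 0 := by
      rw [Preadditive.sub_comp, Category.assoc, Category.assoc, hx₁, sub_self]
    set z : A₁ ⟶ S.X₁ := hex.lift _ hz with hzdef
    have hzf : z ≫ S.f = p₁ ≫ y - x₁ ≫ w := hex.lift_f _ _
    obtain ⟨A₂, p₂, hp₂, x₂, hx₂⟩ := surjective_up_to_refinements_of_epi π₁ z
    refine ⟨A₂, p₂ ≫ p₁, epi_comp _ _, prod.lift x₂ (p₂ ≫ x₁), ?_⟩
    rw [Preadditive.comp_add, prod.lift_fst_assoc, prod.lift_snd_assoc, ← Category.assoc x₂,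
      ← hx₂]
    simp only [Category.assoc]
    rw [hzf, Preadditive.comp_sub]
    abel

end Groth.Agent.S5624
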