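import Groth.Statements.S5625
import Groth.Agent.Lib.QCoh.Helper43_PushQcqs
import Groth.Agent.Lib.QCoh.Helper50_Pullback

set_option autoImplicit false
universe u
open CategoryTheory AlgebraicGeometry
open QCohCat

namespace Groth.Agent.S5625

/-- Let f : X ⟶ Y be a morphism of quasi-compact quasi-separated schemes and Q_X, Q_Y coherators (right
adjoints of the inclusions QCoh ⥤ Mod) on X and Y. Then Q_Y ∘ f_* and f_* ∘ Q_X agree: the two
composite functors Mod(O_X) ⥤ Mod(O_Y) are naturally isomorphic (existence of a natural isomorphism;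
the source's isomorphism is the canonical one between two right adjoints of the same functor). -/
theorem result {X Y : Scheme.{u}} [CompactSpace X] [QuasiSeparatedSpace X]
    [CompactSpace Y] [QuasiSeparatedSpace Y] (f : X ⟶ Y)
    (QX : X.Modules ⥤ QCohCat.QCoh X) (adjX : (QCohCat.isQCoh X).ι ⊣ QX)
    (QY : Y.Modules ⥤ QCohCat.QCoh Y) (adjY : (QCohCat.isQCoh Y).ι ⊣ QY) :
    Nonempty ((QX ⋙ (QCohCat.isQCoh X).ι ⋙ Scheme.Modules.pushforward f) ≅
      (Scheme.Modules.pushforward f ⋙ QY ⋙ (QCohCat.isQCoh Y).ι)) := by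
  classical
  -- the restricted functors between categories of quasi-coherent modules
  let pushQ : QCohCat.QCoh X ⥤ QCohCat.QCoh Y :=
    (QCohCat.isQCoh Y).lift ((QCohCat.isQCoh X).ι ⋙ Scheme.Modules.pushforward f) (fun M => by
      have : M.obj.IsQuasicoherent := M.property
      exact Groth.Agent.Lib.QCoh.isQuasicoherent_pushforward_of_qcqs f M.obj)
  let pullQ : QCohCat.QCoh Y ⥤ QCohCat.QCoh X :=
    (QCohCat.isQCoh X).lift ((QCohCat.isQCoh Y).ι ⋙ Scheme.Modules.pullback f) (fun N => by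
      have : N.obj.IsQuasicoherent := N.property
      exact Groth.Agent.Lib.QCoh.isQuasicoherent_pullback f N.obj)
  let comm1 : (QCohCat.isQCoh Y).ι ⋙ Scheme.Modules.pullback f ≅ pullQ ⋙ (QCohCat.isQCoh X).ι :=
    ((QCohCat.isQCoh X).liftCompιIso _ _).symm
  let comm2 : (QCohCat.isQCoh X).ι ⋙ Scheme.Modules.pushforward f ≅ pushQ ⋙ (QCohCat.isQCoh Y).ι :=
    ((QCohCat.isQCoh Y).liftCompιIso _ _).symm
  let adjQ : pullQ ⊣ pushQ :=
    (Scheme.Modules.pullbackPushforwardAdjunction f).restrictFullyFaithful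
      (QCohCat.isQCoh Y).fullyFaithfulι (QCohCat.isQCoh X).fullyFaithfulι comm1 comm2
  let A1 : pullQ ⋙ (QCohCat.isQCoh X).ι ⊣ QX ⋙ pushQ := adjQ.comp adjX
  let A2 : (QCohCat.isQCoh Y).ι ⋙ Scheme.Modules.pullback f ⊣ Scheme.Modules.pushforward f ⋙ QY :=
    adjY.comp (Scheme.Modules.pullbackPushforwardAdjunction f)
  let A1' : (QCohCat.isQCoh Y).ι ⋙ Scheme.Modules.pullback f ⊣ QX ⋙ pushQ :=
    Adjunction.ofNatIsoLeft A1 comm1.symm
  let e : QX ⋙ pushQ ≅ Scheme.Modules.pushforward f ⋙ QY := Adjunction.rightAdjointUniq A1' A2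
  exact ⟨(Functor.isoWhiskerLeft QX comm2) ≪≫ (Functor.associator _ _ _).symm ≪≫
    Functor.isoWhiskerRight e (QCohCat.isQCoh Y).ι ≪≫ Functor.associator _ _ _⟩

end Groth.Agent.S5625
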