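import Groth.Statements.S5643
import Groth.Agent.Lib.Helper20.K0Dev
-- import your own Groth.Agent.* helpers here

set_option autoImplicit false
universe u
open CategoryTheory CategoryTheory.Limits AlgebraicGeometry
open Classical
open SGA6

namespace Groth.Agent.S5643

/-- Let X be a Noetherian scheme and K the Grothendieck group of coherent O_X-modules. For every n, the
subgroup of K generated by the classes of coherent modules whose support has dimension ≤ n coincides
with the subgroup generated by the classes [O_Z] of the structure sheaves (as O_X-modules) of the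
integral closed subschemes Z ⊆ X of dimension ≤ n, Z running over the reduced closures of points of
X. -/
theorem result (X : Scheme.{u}) [IsNoetherian X] (n : ℕ) :
    AddSubgroup.closure {c : KZero.K0sub (fun M : X.Modules => Coh.IsCoh M) |
        ∃ G : X.Modules, Coh.IsCoh G ∧ topologicalKrullDim ↥(CohB1.support G) ≤ n ∧ c = KZero.clSub (fun M : X.Modules => Coh.IsCoh M) G} =
      AddSubgroup.closure {c : KZero.K0sub (fun M : X.Modules => Coh.IsCoh M) |
        ∃ x : ↥X, topologicalKrullDim ↥(closure ({x} : Set ↥X)) ≤ n ∧ c = KZero.clSub (fun M : X.Modules => Coh.IsCoh M) (Cyc.closureStructureSheaf x)} := by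
  apply le_antisymm
  · rw [AddSubgroup.closure_le]
    rintro c ⟨G, hG, hdim, rfl⟩
    refine Groth.Agent.Lib.Helper20.K0Dev.clSub_mem_of_points _
      {x : X | topologicalKrullDim ↥(closure ({x} : Set ↥X)) ≤ n} ?_ G hG ?_
    · intro ξ hξ
      exact AddSubgroup.subset_closure ⟨ξ, hξ, rfl⟩
    · intro x hx
      haveI : G.IsQuasicoherent := hG.1
      haveI : G.IsFiniteType := hG.2
      have hcl : IsClosed (CohB1.support G) := Groth.Agent.Lib.QCoh.isClosed_support_of_isFT G hG.2
      have hsub : closure ({x} : Set ↥X) ⊆ CohB1.support G :=
        closure_minimal (Set.singleton_subset_iff.2 hx) hcl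
      show topologicalKrullDim ↥(closure ({x} : Set ↥X)) ≤ n
      exact ((Topology.IsEmbedding.inclusion hsub).isInducing.topologicalKrullDim_le).trans hdim
  · rw [AddSubgroup.closure_le]
    rintro c ⟨x, hdim, rfl⟩
    refine AddSubgroup.subset_closure ⟨Cyc.closureStructureSheaf x,
      Groth.Agent.Lib.Helper20.K0Dev.isCoh_closureStructureSheaf x, ?_, rfl⟩
    rw [Groth.Agent.Lib.Helper20.K0Dev.support_closureStructureSheaf]
    exact hdim

end Groth.Agent.S5643
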