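import Groth.Statements.S5656
import Mathlib.Tactic.LinearCombination
import Mathlib.RingTheory.Polynomial.Pochhammer
import Mathlib.Algebra.Polynomial.Roots
import Mathlib.Algebra.Polynomial.Degree.Lemmas

set_option autoImplicit false
universe u
open W4sga6xxiii

namespace Groth.Agent.S5656

open Polynomial

/-- evaluation of the falling factorial polynomial at an integer -/
lemma eval_dP (n : ℤ) (j : ℕ) :
    (descPochhammer ℚ j).eval (n : ℚ) = (j.factorial : ℚ) * ((Ring.choose n j : ℤ) : ℚ) := by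
  have h := Ring.descPochhammer_eq_factorial_smul_choose n j
  rw [← Polynomial.eval_eq_smeval] at h
  rw [← descPochhammer_map (Int.castRingHom ℚ) j, Polynomial.eval_intCast_map, Int.cast_id, h]
  simp

/-- a polynomial map restricted to a cyclic subgroup is a polynomial function -/
lemma exists_poly {G : Type u} [AddCommGroup G] (f : G → ℚ) (hf : IsPolyMap f) (a : G) :
    ∃ Q : ℚ[X], ∀ n : ℤ, f (n • a) = Q.eval (n : ℚ) := by
  obtain ⟨m, y, -, hy⟩ := hf 1 (fun _ => a)
  refine ⟨∑ k : Fin 1 → Fin (m + 1),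
    C (y k / ((k 0 : ℕ).factorial : ℚ)) * descPochhammer ℚ (k 0 : ℕ), ?_⟩
  intro n
  have h1 := hy (fun _ => n)
  simp only [Fin.sum_univ_one, Fin.prod_univ_one] at h1
  rw [h1, Polynomial.eval_finsetSum]
  refine Finset.sum_congr rfl (fun k _ => ?_)
  rw [eval_mul, eval_C, eval_dP]
  have h2 : (((k 0 : ℕ).factorial : ℕ) : ℚ) ≠ 0 := Nat.cast_ne_zero.2 (Nat.factorial_ne_zero _)
  rw [zsmul_eq_mul]
  field_simp

/-- a rational polynomial of degree `≤ D` has a binomial expansion of length `D` -/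
lemma exists_expansion : ∀ (D : ℕ) (Q : ℚ[X]), Q.natDegree ≤ D → ∃ c : ℕ → ℚ, ∀ n : ℤ,
    Q.eval (n : ℚ) = ∑ j ∈ Finset.range (D + 1), ((Ring.choose n j : ℤ) : ℚ) * c j := by
  intro D
  induction D with
  | zero =>
    intro Q hQ
    refine ⟨fun _ => Q.coeff 0, fun n => ?_⟩
    rw [Polynomial.eq_C_of_natDegree_le_zero hQ]
    simp
  | succ D ih =>
    intro Q hQ
    set a := Q.coeff (D + 1) with ha
    set Q' := Q - C a * descPochhammer ℚ (D + 1) with hQ'def
    have hQ' : Q'.natDegree ≤ D := by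
      rw [Polynomial.natDegree_le_iff_coeff_eq_zero]
      intro N hN
      rcases Nat.lt_or_ge (D + 1) N with h | h
      · rw [hQ'def, coeff_sub, coeff_C_mul, coeff_eq_zero_of_natDegree_lt (lt_of_le_of_lt hQ h),
          coeff_eq_zero_of_natDegree_lt (by rw [descPochhammer_natDegree]; exact h)]
        simp
      · have hND : N = D + 1 := le_antisymm h hN
        subst hND
        have h1 := (monic_descPochhammer ℚ (D + 1)).coeff_natDegree
        rw [descPochhammer_natDegree] at h1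
        rw [hQ'def, coeff_sub, coeff_C_mul, h1]
        simp [ha]
    obtain ⟨c, hc⟩ := ih Q' hQ'
    refine ⟨fun j => if j = D + 1 then a * ((D + 1).factorial : ℚ) else c j, fun n => ?_⟩
    have e : Q = Q' + C a * descPochhammer ℚ (D + 1) := by simp [hQ'def]
    rw [e, eval_add, hc n, eval_mul, eval_C, eval_dP, Finset.sum_range_succ _ (D + 1)]
    dsimp only
    rw [if_pos rfl]
    congr 1
    · refine Finset.sum_congr rfl (fun j hj => ?_)
      rw [if_neg (by have := Finset.mem_range.1 hj; omega)]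
    · ring

/-- integrality of the coefficients of an integer-valued binomial expansion -/
lemma isInt_coeff (D : ℕ) (c : ℕ → ℚ) (h : ℤ → ℚ)
    (hh : ∀ n : ℤ, h n = ∑ j ∈ Finset.range (D + 1), ((Ring.choose n j : ℤ) : ℚ) * c j)
    (hint : ∀ n, ∃ z : ℤ, h n = z) : ∀ j, j ≤ D → ∃ z : ℤ, c j = z := by
  intro j
  induction j using Nat.strong_induction_on with
  | _ j ih =>
    intro hj
    have h1 := hh (j : ℤ)
    rw [← Finset.add_sum_erase _ _ (Finset.mem_range.2 (Nat.lt_succ_of_le hj)),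
      Ring.choose_natCast, Nat.choose_self] at h1
    have h2 : ∃ z : ℤ, ∑ i ∈ (Finset.range (D + 1)).erase j,
        ((Ring.choose (j : ℤ) i : ℤ) : ℚ) * c i = z := by
      apply Finset.sum_induction _ (fun q : ℚ => ∃ z : ℤ, q = (z : ℚ))
      · rintro _ _ ⟨a, rfl⟩ ⟨b, rfl⟩
        exact ⟨a + b, by push_cast; rfl⟩
      · exact ⟨0, by simp⟩
      · intro i hi
        rw [Finset.mem_erase, Finset.mem_range] at hi
        rcases Nat.lt_or_ge i j with hij | hij
        · obtain ⟨z, hz⟩ := ih i hij (by omega)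
          exact ⟨Ring.choose (j : ℤ) i * z, by rw [hz]; push_cast; rfl⟩
        · have hlt : j < i := lt_of_le_of_ne hij (Ne.symm hi.1)
          refine ⟨0, ?_⟩
          rw [Ring.choose_natCast, Nat.choose_eq_zero_of_lt hlt]
          simp
    obtain ⟨z1, hz1⟩ := hint j
    obtain ⟨z2, hz2⟩ := h2
    refine ⟨z1 - z2, ?_⟩
    rw [hz1, hz2] at h1
    push_cast at h1 ⊢
    linarith

lemma choose_mul (r : ℤ) (k : ℕ) :
    ((k : ℤ) + 1) * Ring.choose r (k + 1) = r * Ring.choose (r - 1) k := by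
  have h := Ring.choose_smul_choose r (n := k + 1) (k := 1) (by omega)
  simpa [Ring.choose_one_right] using h

lemma dvd_term (D : ℕ) (s n : ℤ) (j : ℕ) (hj : j ≤ D) :
    s ∣ (D.factorial : ℤ) * (Ring.choose (s * n) j - Ring.choose (0 : ℤ) j) := by
  rcases j with _ | k
  · simp
  · rw [Ring.choose_zero_succ, sub_zero]
    obtain ⟨q, hq⟩ := Nat.dvd_factorial (Nat.succ_pos k) hj
    rw [hq]
    push_cast
    have e : ((k : ℤ) + 1) * (q : ℤ) * Ring.choose (s * n) (k + 1)
        = s * ((q : ℤ) * n * Ring.choose (s * n - 1) k) := by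
      have := choose_mul (s * n) k
      linear_combination (q : ℤ) * this
    rw [e]
    exact Dvd.intro _ rfl

lemma dvd_diff (D : ℕ) (c : ℕ → ℚ) (hc : ∀ j, j ≤ D → ∃ z : ℤ, c j = z) (h : ℤ → ℚ)
    (hh : ∀ n : ℤ, h n = ∑ j ∈ Finset.range (D + 1), ((Ring.choose n j : ℤ) : ℚ) * c j)
    (s n : ℤ) : ∃ w : ℤ, (D.factorial : ℚ) * (h (s * n) - h 0) = s * w := by
  rw [hh, hh, ← Finset.sum_sub_distrib, Finset.mul_sum]
  apply Finset.sum_induction _ (fun q : ℚ => ∃ w : ℤ, q = (s : ℚ) * (w : ℚ))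
  · rintro _ _ ⟨a, rfl⟩ ⟨b, rfl⟩
    exact ⟨a + b, by push_cast; ring⟩
  · exact ⟨0, by simp⟩
  · intro j hj
    obtain ⟨z, hz⟩ := hc j (by have := Finset.mem_range.1 hj; omega)
    obtain ⟨w, hw⟩ := dvd_term D s n j (by have := Finset.mem_range.1 hj; omega)
    refine ⟨w * z, ?_⟩
    have hw' : (D.factorial : ℚ) * (((Ring.choose (s * n) j : ℤ) : ℚ)
        - ((Ring.choose (0 : ℤ) j : ℤ) : ℚ)) = s * w := by exact_mod_cast hw
    rw [hz, ← sub_mul, ← mul_assoc, hw']
    push_cast
    ring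

lemma const_of_tower (p : ℕ) (hp : p.Prime) (R : ℤ → ℚ) (QR : ℚ[X])
    (hQR : ∀ n : ℤ, R n = QR.eval (n : ℚ)) (hRint : ∀ n, ∃ z : ℤ, R n = z)
    (H : ∀ e : ℕ, ∃ (h : ℤ → ℚ) (Qh : ℚ[X]), (∀ n : ℤ, h n = Qh.eval (n : ℚ)) ∧
      (∀ n, ∃ z : ℤ, h n = z) ∧ ∀ n : ℤ, h ((p : ℤ) ^ e * n) = R n) :
    ∀ n, R n = R 0 := by
  intro n
  set D := QR.natDegree with hD
  obtain ⟨zn, hzn⟩ := hRint n
  obtain ⟨z0, hz0⟩ := hRint 0
  have key : ∀ e : ℕ, ((p : ℤ) ^ e) ∣ (D.factorial : ℤ) * (zn - z0) := by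
    intro e
    obtain ⟨h, Qh, hQh, hhint, hhR⟩ := H e
    have hcomp : Qh.comp (C ((p : ℚ) ^ e) * X) = QR := by
      apply Polynomial.eq_of_infinite_eval_eq
      apply Set.Infinite.mono (s := Set.range (fun n : ℤ => (n : ℚ)))
      · rintro _ ⟨n, rfl⟩
        simp only [Set.mem_ofPred_eq, eval_comp, eval_mul, eval_C, eval_X]
        rw [← hQR, ← hhR, hQh]
        push_cast
        rfl
      · exact Set.infinite_range_of_injective Int.cast_injective
    have hdeg : Qh.natDegree ≤ D := by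
      have h1 := congrArg natDegree hcomp
      rw [natDegree_comp, natDegree_C_mul_X _ (pow_ne_zero _ (Nat.cast_ne_zero.2 hp.ne_zero)),
        mul_one] at h1
      exact h1.le
    obtain ⟨c, hc⟩ := exists_expansion D Qh hdeg
    have hh : ∀ n : ℤ, h n = ∑ j ∈ Finset.range (D + 1), ((Ring.choose n j : ℤ) : ℚ) * c j :=
      fun n => (hQh n).trans (hc n)
    have hci := isInt_coeff D c h hh hhint
    obtain ⟨w, hw⟩ := dvd_diff D c hci h hh ((p : ℤ) ^ e) n
    have h0 : h 0 = R 0 := by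
      rw [← hhR 0, mul_zero]
    rw [hhR, h0, hzn, hz0] at hw
    refine ⟨w, ?_⟩
    exact_mod_cast hw
  set M := (D.factorial : ℤ) * (zn - z0) with hM
  have hM0 : M = 0 := by
    apply Int.eq_zero_of_abs_lt_dvd (key M.natAbs)
    have h1 : M.natAbs < p ^ M.natAbs := Nat.lt_pow_self hp.one_lt
    rw [Int.abs_eq_natAbs]
    exact_mod_cast h1
  have hzz : zn = z0 := by
    have h2 : (D.factorial : ℤ) ≠ 0 := Nat.cast_ne_zero.2 (Nat.factorial_ne_zero _)
    rcases mul_eq_zero.1 hM0 with h3 | h3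
    · exact absurd h3 h2
    · exact sub_eq_zero.1 h3
  rw [hzn, hz0, hzz]

/-- Let G be an abelian group and G' ⊆ G a subgroup which is divisible by some prime number p (every
element of G' is p times an element of G') and such that G/G' is a torsion group. Then every
polynomial map f : G → ℚ (admitting binomial expansions f(Σ n_i x_i) = Σ_k Π_i C(n_i, k_i) y_k along
every finite sequence x) which takes only integer values is constant. -/
theorem result {G : Type u} [AddCommGroup G] (G' : AddSubgroup G)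
    (p : ℕ) (hp : p.Prime) (hdiv : ∀ x ∈ G', ∃ y ∈ G', p • y = x) (htor : ∀ x : G, ∃ n : ℤ, n ≠ 0 ∧ n • x ∈ G')
    (f : G → ℚ) (hf : W4sga6xxiii.IsPolyMap f) (hint : ∀ x, ∃ z : ℤ, f x = z) (x : G) : f x = f 0 := by
  obtain ⟨N, hN0, hN⟩ := htor x
  set z := N • x with hz
  have tower : ∀ e : ℕ, ∃ g ∈ G', (p ^ e) • g = z := by
    intro e
    induction e with
    | zero => exact ⟨z, hN, by simp⟩
    | succ e ih =>
      obtain ⟨g, hg, hgz⟩ := ih
      obtain ⟨g', hg', h⟩ := hdiv g hg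
      exact ⟨g', hg', by rw [pow_succ, mul_smul, h, hgz]⟩
  obtain ⟨Px, hPx⟩ := exists_poly f hf x
  obtain ⟨Pz, hPz⟩ := exists_poly f hf z
  have hR : ∀ n : ℤ, f (n • z) = f ((0 : ℤ) • z) := by
    apply const_of_tower p hp (fun n => f (n • z)) Pz hPz (fun n => hint _)
    intro e
    obtain ⟨g, -, hg⟩ := tower e
    obtain ⟨Pg, hPg⟩ := exists_poly f hf g
    refine ⟨fun n => f (n • g), Pg, hPg, fun n => hint _, fun n => ?_⟩
    simp only
    rw [← hg, mul_comm, mul_smul]
    congr 2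
    rw [← natCast_zsmul]
    push_cast
    rfl
  have hcomp : Px.comp (C (N : ℚ) * X) = C (f 0) := by
    apply Polynomial.eq_of_infinite_eval_eq
    apply Set.Infinite.mono (s := Set.range (fun n : ℤ => (n : ℚ)))
    · rintro _ ⟨n, rfl⟩
      simp only [Set.mem_ofPred_eq, eval_comp, eval_mul, eval_C, eval_X]
      have h1 := hPx (N * n)
      push_cast at h1
      rw [← h1, mul_comm, mul_smul, hR n, zero_smul]
    · exact Set.infinite_range_of_injective Int.cast_injective
  have hdeg : Px.natDegree = 0 := by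
    have h1 := congrArg natDegree hcomp
    rw [natDegree_comp, natDegree_C_mul_X _ (Int.cast_ne_zero.2 hN0), mul_one, natDegree_C] at h1
    exact h1
  have hPc := Polynomial.eq_C_of_natDegree_eq_zero hdeg
  have h1 := hPx 1
  have h0 := hPx 0
  rw [one_smul] at h1
  rw [zero_smul] at h0
  rw [h1, h0, hPc]
  simp

end Groth.Agent.S5656
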