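import Groth.Statements.S5657
import Mathlib.Tactic.LinearCombination

set_option autoImplicit false
universe u
open TensorProduct
open W4sga6xxiii

namespace Groth.Agent.S5657

/-- the truncated binomial series -/
noncomputable def g {A : Type u} [CommRing A] (m : ℕ) (t : A) (n : ℤ) : A :=
  ∑ k ∈ Finset.range (m + 1), (Ring.choose n k : ℤ) • t ^ k

lemma g_zero {A : Type u} [CommRing A] (m : ℕ) (t : A) : g m t 0 = 1 := by
  unfold g
  rw [Finset.sum_range_succ']
  simp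

lemma g_succ {A : Type u} [CommRing A] (m : ℕ) (t : A) (ht : t ^ (m + 1) = 0) (n : ℤ) :
    g m t (n + 1) = (1 + t) * g m t n := by
  unfold g
  have h1 : ∀ k : ℕ, t * ((Ring.choose n k : ℤ) • t ^ k) = (Ring.choose n k : ℤ) • t ^ (k + 1) := by
    intro k
    rw [mul_smul_comm, pow_succ']
  have e1 : ∑ k ∈ Finset.range (m + 1), (Ring.choose (n + 1) k : ℤ) • t ^ k
      = ∑ k ∈ Finset.range m, (Ring.choose n k : ℤ) • t ^ (k + 1)
        + ∑ k ∈ Finset.range m, (Ring.choose n (k + 1) : ℤ) • t ^ (k + 1) + 1 := by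
    rw [Finset.sum_range_succ']
    simp only [Ring.choose_succ_succ, add_smul, Finset.sum_add_distrib, Ring.choose_zero_right,
      pow_zero, one_smul]
  have e2 : ∑ k ∈ Finset.range (m + 1), (Ring.choose n k : ℤ) • t ^ k
      = ∑ k ∈ Finset.range m, (Ring.choose n (k + 1) : ℤ) • t ^ (k + 1) + 1 := by
    rw [Finset.sum_range_succ']
    simp only [Ring.choose_zero_right, pow_zero, one_smul]
  have e3 : t * ∑ k ∈ Finset.range (m + 1), (Ring.choose n k : ℤ) • t ^ k
      = ∑ k ∈ Finset.range m, (Ring.choose n k : ℤ) • t ^ (k + 1) := by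
    rw [Finset.mul_sum, Finset.sum_range_succ]
    simp only [h1, ht, smul_zero, add_zero]
  rw [add_mul, one_mul, e3, e1, e2]
  abel

lemma g_eq {A : Type u} [CommRing A] (m : ℕ) (u : Aˣ) (ht : ((u : A) - 1) ^ (m + 1) = 0) (n : ℤ) :
    ((u ^ n : Aˣ) : A) = g m ((u : A) - 1) n := by
  have hs : ∀ n : ℤ, g m ((u : A) - 1) (n + 1) = (u : A) * g m ((u : A) - 1) n := by
    intro n
    rw [g_succ m _ ht n]
    congr 1
    ring
  induction n using Int.induction_on with
  | zero => simp [g_zero]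
  | succ i ih =>
    rw [hs, ← ih, zpow_add_one, Units.val_mul, mul_comm]
  | pred i ih =>
    have h2 := hs (-(i : ℤ) - 1)
    rw [sub_add_cancel, ← ih] at h2
    have h3 : ((u ^ (-(i : ℤ) - 1) : Aˣ) : A) = ((u⁻¹ : Aˣ) : A) * ((u ^ (-(i : ℤ)) : Aˣ) : A) := by
      rw [← Units.val_mul, zpow_sub_one, mul_comm]
    rw [h3, h2, ← mul_assoc, Units.inv_mul, one_mul]

/-- Let A be a commutative ring, I an ideal of A with I^{m+1} = 0, and P ⊆ Aˣ the subgroup of units of
the form 1 + y with y ∈ I. Then the map P → A ⊗_ℤ ℚ, x ↦ x ⊗ 1, is a polynomial map of degree ≤ m on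
the abelian group P (written additively): along every finite sequence x_1, …, x_r in P one has
x_1^{n_1}⋯x_r^{n_r} ⊗ 1 = Σ_k Π_i C(n_i, k_i) y_k with y_k = 0 whenever k_1 + ⋯ + k_r > m. -/
theorem result (A : Type u) [CommRing A] (I : Ideal A) (m : ℕ) (hI : I ^ (m + 1) = ⊥)
    (P : Subgroup Aˣ) (hP : ∀ u : Aˣ, u ∈ P ↔ (u : A) - 1 ∈ I) :
    W4sga6xxiii.IsPolyMapLE (fun u : Additive P => (((Additive.toMul u : P) : Aˣ) : A) ⊗ₜ[ℤ] (1 : ℚ)) m := by
  intro r x
  set u : Fin r → Aˣ := fun i => ((Additive.toMul (x i) : P) : Aˣ) with hu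
  set t : Fin r → A := fun i => (u i : A) - 1 with ht
  have htI : ∀ i, t i ∈ I := fun i => (hP (u i)).1 (Additive.toMul (x i)).2
  have hpow : ∀ a ∈ I ^ (m + 1), a = 0 := by
    rw [hI]
    intro a ha
    exact ha
  have ht0 : ∀ i, t i ^ (m + 1) = 0 := fun i => hpow _ (Ideal.pow_mem_pow (htI i) _)
  refine ⟨fun k => (∏ i, t i ^ (k i : ℕ)) ⊗ₜ[ℤ] (1 : ℚ), ?_, ?_⟩
  · intro k hk
    have h1 : ∏ i, t i ^ (k i : ℕ) ∈ I ^ (∑ i, (k i : ℕ)) := by
      rw [← Finset.prod_pow_eq_pow_sum]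
      exact Ideal.prod_mem_prod (fun i _ => Ideal.pow_mem_pow (htI i) _)
    have h0 : ∏ i, t i ^ (k i : ℕ) = 0 := hpow _ (Ideal.pow_le_pow_right hk h1)
    simp only [h0, TensorProduct.zero_tmul]
  · intro n
    have e1 : (((Additive.toMul (∑ i, n i • x i) : P) : Aˣ) : A) = ∏ i, ((u i ^ n i : Aˣ) : A) := by
      simp [hu]
    simp only
    rw [e1]
    have e2 : ∀ i, ((u i ^ n i : Aˣ) : A)
        = ∑ j : Fin (m + 1), (Ring.choose (n i) (j : ℕ) : ℤ) • t i ^ (j : ℕ) := by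
      intro i
      rw [g_eq m (u i) (ht0 i)]
      unfold g
      rw [Finset.sum_range]
    rw [Finset.prod_congr rfl (fun i _ => e2 i), Finset.prod_univ_sum, Fintype.piFinset_univ,
      TensorProduct.sum_tmul]
    refine Finset.sum_congr rfl (fun k _ => ?_)
    rw [Finset.prod_smul, TensorProduct.smul_tmul']

end Groth.Agent.S5657
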