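import Groth.Statements.S5658
import Mathlib
-- import your own Groth.Agent.* helpers here

set_option autoImplicit false
universe u
open CAlg

namespace Groth.Agent.S5658

open Matrix

section grp
variable {G G' : Type*} [Group G] [Group G']

lemma comm_mem (a b : G) : a * b * a⁻¹ * b⁻¹ ∈ commutator G := by
  rw [commutator_def, ← commutatorElement_def]
  exact Subgroup.commutator_mem_commutator (Subgroup.mem_top _) (Subgroup.mem_top _)

lemma map_mem_comm (f : G →* G') {x : G} (hx : x ∈ commutator G) : f x ∈ commutator G' := by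
  have h1 : f x ∈ Subgroup.map f (⁅(⊤ : Subgroup G), (⊤ : Subgroup G)⁆) :=
    Subgroup.mem_map_of_mem f (by rwa [commutator_def] at hx)
  rw [Subgroup.map_commutator] at h1
  rw [commutator_def]
  exact Subgroup.commutator_mono le_top le_top h1
end grp

section blocks
variable {R : Type u} [CommRing R] {ι : Type} [Fintype ι] [DecidableEq ι]

/-- upper unitriangular block element -/
def upU (x : Matrix ι Unit R) : GL (ι ⊕ Unit) R :=
  ⟨fromBlocks 1 x 0 1, fromBlocks 1 (-x) 0 1,
    by simp [fromBlocks_multiply], by simp [fromBlocks_multiply]⟩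

/-- lower unitriangular block element -/
def loL (y : Matrix Unit ι R) : GL (ι ⊕ Unit) R :=
  ⟨fromBlocks 1 0 y 1, fromBlocks 1 0 (-y) 1,
    by simp [fromBlocks_multiply], by simp [fromBlocks_multiply]⟩

/-- diagonal element with `w` in the corner -/
def dD (w : Rˣ) : GL (ι ⊕ Unit) R :=
  ⟨fromBlocks 1 0 0 ((w : R) • (1 : Matrix Unit Unit R)),
   fromBlocks 1 0 0 ((↑w⁻¹ : R) • (1 : Matrix Unit Unit R)),
    by simp [fromBlocks_multiply, smul_smul], by simp [fromBlocks_multiply, smul_smul]⟩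

lemma upU_mem (u₀ v₀ : Rˣ) (hv : (v₀ : R) = u₀ - 1) (x : Matrix ι Unit R) :
    upU x ∈ commutator (GL (ι ⊕ Unit) R) := by
  have h : upU x = dD u₀⁻¹ * upU ((↑v₀⁻¹ : R) • x) * (dD u₀⁻¹)⁻¹ * (upU ((↑v₀⁻¹ : R) • x))⁻¹ := by
    apply Units.ext
    simp only [upU, dD, Units.val_mul, Units.inv_mk, inv_inv, fromBlocks_multiply]
    have h1 : (v₀ : R) * ↑v₀⁻¹ = 1 := v₀.mul_inv
    have h2 : (↑u₀⁻¹ : R) * ↑u₀ = 1 := u₀.inv_mul
    have h3 : (u₀ : R) = ↑v₀ + 1 := by rw [hv]; ring
    rw [fromBlocks_inj]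
    refine ⟨by simp, ?_, by simp, by simp [smul_smul, h2]⟩
    ext i j
    simp only [Matrix.one_mul, Matrix.mul_one, Matrix.zero_mul, Matrix.mul_zero, add_zero, zero_add,
      Matrix.mul_smul, Matrix.smul_mul, Matrix.add_apply, Matrix.smul_apply, Matrix.neg_apply,
      smul_eq_mul, Matrix.mul_neg]
    rw [h3]
    linear_combination (-(x i j)) * h1
  rw [h]; exact comm_mem _ _

lemma loL_mem (u₀ v₀ : Rˣ) (hv : (v₀ : R) = u₀ - 1) (y : Matrix Unit ι R) :
    loL y ∈ commutator (GL (ι ⊕ Unit) R) := by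
  have h : loL y = dD u₀ * loL ((↑v₀⁻¹ : R) • y) * (dD u₀)⁻¹ * (loL ((↑v₀⁻¹ : R) • y))⁻¹ := by
    apply Units.ext
    simp only [loL, dD, Units.val_mul, Units.inv_mk, fromBlocks_multiply]
    have h1 : (v₀ : R) * ↑v₀⁻¹ = 1 := v₀.mul_inv
    have h2 : (↑u₀ : R) * ↑u₀⁻¹ = 1 := u₀.mul_inv
    have h3 : (u₀ : R) = ↑v₀ + 1 := by rw [hv]; ring
    rw [fromBlocks_inj]
    refine ⟨by simp, by simp, ?_, by simp [smul_smul, h2]⟩
    ext i j
    simp only [Matrix.one_mul, Matrix.mul_one, Matrix.zero_mul, Matrix.mul_zero, add_zero, zero_add,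
      Matrix.mul_smul, Matrix.smul_mul, Matrix.add_apply, Matrix.smul_apply, Matrix.neg_apply,
      smul_eq_mul, Matrix.mul_neg]
    linear_combination (-(y i j)) * h1 - (↑v₀⁻¹ * y i j) * h3 + (↑v₀⁻¹ * y i j) * h2
  rw [h]; exact comm_mem _ _

/-- block embedding on matrices -/
def embM (R : Type u) [CommRing R] (ι : Type) [Fintype ι] [DecidableEq ι] :
    Matrix ι ι R →* Matrix (ι ⊕ Unit) (ι ⊕ Unit) R where
  toFun A := fromBlocks A 0 0 1
  map_one' := fromBlocks_one
  map_mul' A B := by simp [fromBlocks_multiply]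

/-- block embedding of `GL` -/
def emb : GL ι R →* GL (ι ⊕ Unit) R := Units.map (embM R ι)

lemma emb_val (g : GL ι R) : (emb g).val = fromBlocks g.val 0 0 1 := rfl

lemma ldu (S' δ' : Matrix ι ι R) (x : Matrix ι Unit R) (y : Matrix Unit ι R) (c : R) :
    fromBlocks 1 x 0 1 * (fromBlocks S' 0 0 1 * fromBlocks δ' 0 0 (c • (1 : Matrix Unit Unit R))) *
        fromBlocks 1 0 y 1
      = fromBlocks (S' * δ' + c • (x * y)) (c • x) (c • y) (c • 1) := by
  simp [fromBlocks_multiply]

end blocks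

section diag
variable {R : Type u} [CommRing R] {n : Type} [Fintype n] [DecidableEq n]

lemma diag_ite_mul (a : n) (w : Rˣ) :
    diagonal (fun i => if i = a then (w : R) else 1) *
      diagonal (fun i => if i = a then (↑w⁻¹ : R) else 1) = 1 := by
  rw [diagonal_mul_diagonal, ← diagonal_one]
  congr 1; funext i; split_ifs <;> simp

lemma diag_ite_mul' (a : n) (w : Rˣ) :
    diagonal (fun i => if i = a then (↑w⁻¹ : R) else 1) *
      diagonal (fun i => if i = a then (w : R) else 1) = 1 := by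
  rw [diagonal_mul_diagonal, ← diagonal_one]
  congr 1; funext i; split_ifs <;> simp

lemma diag_swap_mem (a b : n) (hab : a ≠ b) (w : Rˣ) (g : GL n R)
    (hg : g.val = diagonal (fun i => if i = a then (w : R) else if i = b then (↑w⁻¹ : R) else 1)) :
    g ∈ commutator (GL n R) := by
  have hWW : (Equiv.swap a b).permMatrix R * (Equiv.swap a b).permMatrix R = 1 := by
    rw [← Matrix.permMatrix_mul, Equiv.swap_mul_self, Matrix.permMatrix_one]
  have e1 : (Equiv.swap a b).permMatrix R * diagonal (fun i => if i = a then (↑w⁻¹ : R) else 1) *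
      (Equiv.swap a b).permMatrix R
        = diagonal ((fun i => if i = a then (↑w⁻¹ : R) else 1) ∘ (Equiv.swap a b)) := by
    rw [PEquiv.toMatrix_toPEquiv_mul, PEquiv.mul_toMatrix_toPEquiv, Matrix.submatrix_submatrix,
      Equiv.symm_swap, Function.comp_id, Function.id_comp, Matrix.submatrix_diagonal_equiv]
  have h : g = (⟨diagonal (fun i => if i = a then (w : R) else 1),
        diagonal (fun i => if i = a then (↑w⁻¹ : R) else 1), diag_ite_mul a w, diag_ite_mul' a w⟩ : GL n R) *
      (⟨(Equiv.swap a b).permMatrix R, (Equiv.swap a b).permMatrix R, hWW, hWW⟩ : GL n R) *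
      (⟨diagonal (fun i => if i = a then (w : R) else 1),
        diagonal (fun i => if i = a then (↑w⁻¹ : R) else 1), diag_ite_mul a w, diag_ite_mul' a w⟩ : GL n R)⁻¹ *
      (⟨(Equiv.swap a b).permMatrix R, (Equiv.swap a b).permMatrix R, hWW, hWW⟩ : GL n R)⁻¹ := by
    apply Units.ext
    rw [hg]
    simp only [Units.val_mul, Units.inv_mk]
    rw [mul_assoc, mul_assoc, ← mul_assoc ((Equiv.swap a b).permMatrix R), e1, diagonal_mul_diagonal]
    congr 1; funext i
    simp only [Function.comp]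
    rcases eq_or_ne i a with rfl | h1
    · simp [Equiv.swap_apply_left, hab.symm]
    · rcases eq_or_ne i b with rfl | h2
      · simp [Equiv.swap_apply_right, h1]
      · simp [Equiv.swap_apply_of_ne_of_ne h1 h2, h1, h2]
  rw [h]; exact comm_mem _ _

end diag

section transfer
variable {R : Type u} [CommRing R] {ι κ : Type} [Fintype ι] [DecidableEq ι] [Fintype κ] [DecidableEq κ]

/-- reindexing of matrices as a monoid hom -/
def reM (R : Type u) [CommRing R] {ι κ : Type} [Fintype ι] [DecidableEq ι] [Fintype κ] [DecidableEq κ]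
    (e : ι ≃ κ) : Matrix ι ι R →* Matrix κ κ R where
  toFun M := M.submatrix e.symm e.symm
  map_one' := submatrix_one_equiv e.symm
  map_mul' M N := (submatrix_mul_equiv M N e.symm e.symm e.symm).symm

/-- reindexing of `GL` -/
def reG (e : ι ≃ κ) : GL ι R →* GL κ R := Units.map (reM R e)

lemma reG_val (e : ι ≃ κ) (g : GL ι R) : (reG e g).val = g.val.submatrix e.symm e.symm := rfl

end transfer

/-- the inductive claim -/
def Claim (ι : Type) [Fintype ι] [DecidableEq ι] : Prop :=
  ∀ (B : Type u) [CommRing B] (u₀ v₀ : Bˣ) (_ : (v₀ : B) = u₀ - 1) (q : Ideal B) (_ : q.IsPrime)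
    (g : GL ι B), (g : Matrix ι ι B).det = 1 →
    ∃ f : B, f ∉ q ∧ ∀ (C : Type u) [CommRing C] (ψ : B →+* C), IsUnit (ψ f) →
      Matrix.GeneralLinearGroup.map ψ g ∈ commutator (GL ι C)

lemma claim_transfer {ι κ : Type} [Fintype ι] [DecidableEq ι] [Fintype κ] [DecidableEq κ]
    (e : ι ≃ κ) (h : Claim.{u} ι) : Claim.{u} κ := by
  intro B _ u₀ v₀ hv q hq g hg
  have hdet : ((reG e.symm g : GL ι B) : Matrix ι ι B).det = 1 := by
    rw [reG_val, Equiv.symm_symm, det_submatrix_equiv_self, hg]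
  obtain ⟨f, hf, H⟩ := h B u₀ v₀ hv q hq (reG e.symm g) hdet
  refine ⟨f, hf, fun C _ ψ hψ => ?_⟩
  have h1 := map_mem_comm (reG (R := C) e) (H C ψ hψ)
  have h2 : reG (R := C) e (Matrix.GeneralLinearGroup.map ψ (reG e.symm g)) =
      Matrix.GeneralLinearGroup.map ψ g := by
    apply Units.ext
    ext i j
    simp [reG_val, Matrix.GeneralLinearGroup.map]
  rwa [h2] at h1

lemma claim_fin0 : Claim.{u} (Fin 0) := by
  intro B _ u₀ v₀ hv q hq g hg
  refine ⟨1, fun h => hq.ne_top ((Ideal.eq_top_iff_one _).2 h), fun C _ ψ _ => ?_⟩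
  have : Matrix.GeneralLinearGroup.map ψ g = 1 := by
    apply Units.ext; ext i; exact i.elim0
  rw [this]; exact Subgroup.one_mem _

lemma claim_fin1 : Claim.{u} (Fin 1) := by
  intro B _ u₀ v₀ hv q hq g hg
  refine ⟨1, fun h => hq.ne_top ((Ideal.eq_top_iff_one _).2 h), fun C _ ψ _ => ?_⟩
  have hg1 : g = 1 := by
    apply Units.ext; ext i j
    rw [det_fin_one] at hg
    fin_cases i; fin_cases j
    simpa using hg
  rw [hg1, map_one]; exact Subgroup.one_mem _

lemma emb_map {R S : Type u} [CommRing R] [CommRing S] {ι : Type} [Fintype ι] [DecidableEq ι]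
    (ψ : R →+* S) (h : GL ι R) :
    Matrix.GeneralLinearGroup.map ψ (emb h) = emb (Matrix.GeneralLinearGroup.map ψ h) := by
  apply Units.ext
  show (fromBlocks h.val 0 0 1).map ψ = fromBlocks (h.val.map ψ) 0 0 1
  rw [fromBlocks_map]; simp

lemma claim_step {ι : Type} [Fintype ι] [DecidableEq ι] [Nonempty ι] (ih : Claim.{u} ι) :
    Claim.{u} (ι ⊕ Unit) := by
  intro B _ u₀ v₀ hv q hq g hg
  obtain ⟨i₀⟩ := ‹Nonempty ι›
  -- Step 1: pivot
  obtain ⟨y, hy⟩ : ∃ y : Matrix Unit ι B,
      (loL y * g).val (Sum.inr ()) (Sum.inr ()) ∉ q := by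
    have hentry : ∀ y : Matrix Unit ι B, (loL y * g).val (Sum.inr ()) (Sum.inr ())
        = ∑ k, y () k * g.val (Sum.inl k) (Sum.inr ()) + g.val (Sum.inr ()) (Sum.inr ()) := by
      intro y
      simp [loL, Matrix.mul_apply, Fintype.sum_sum_type]
    by_cases hc : g.val (Sum.inr ()) (Sum.inr ()) ∈ q
    · have hex : ∃ k : ι ⊕ Unit, g.val k (Sum.inr ()) ∉ q := by
        by_contra hcon
        push Not at hcon
        have hd : g.val.det ∈ q := by
          rw [det_eq_sum_mul_adjugate_col g.val (Sum.inr ())]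
          exact Ideal.sum_mem _ (fun i _ => Ideal.mul_mem_right _ _ (hcon i))
        rw [hg] at hd
        exact hq.ne_top ((Ideal.eq_top_iff_one _).2 hd)
      obtain ⟨k, hk⟩ := hex
      rcases k with i | ⟨⟩
      · refine ⟨Matrix.single () i 1, ?_⟩
        rw [hentry]
        intro hmem
        apply hk
        have hsum : ∑ k, (Matrix.single () i (1 : B)) () k * g.val (Sum.inl k) (Sum.inr ()) =
            g.val (Sum.inl i) (Sum.inr ()) := by
          simp [Matrix.single_apply]
        rw [hsum] at hmem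
        have := Ideal.sub_mem _ hmem hc
        simpa using this
      · exact absurd hc hk
    · refine ⟨0, ?_⟩
      rw [hentry]; simpa using hc
  obtain ⟨g', hg'⟩ : ∃ g', g' = loL y * g := ⟨_, rfl⟩
  rw [← hg'] at hy
  obtain ⟨f₀, hf₀⟩ : ∃ f₀, f₀ = g'.val (Sum.inr ()) (Sum.inr ()) := ⟨_, rfl⟩
  rw [← hf₀] at hy
  have hdet' : g'.val.det = 1 := by
    rw [hg', Units.val_mul, det_mul, hg, mul_one]
    simp [loL, det_fromBlocks_zero₁₂]
  -- localize
  have hφf : IsUnit (algebraMap B (Localization.Away f₀) f₀) :=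
    IsLocalization.Away.algebraMap_isUnit f₀
  obtain ⟨w, hw⟩ := hφf
  obtain ⟨g₁, hg₁⟩ : ∃ g₁, g₁ = Matrix.GeneralLinearGroup.map (algebraMap B (Localization.Away f₀)) g' :=
    ⟨_, rfl⟩
  have hg₁v : g₁.val = g'.val.map (algebraMap B (Localization.Away f₀)) := by rw [hg₁]; rfl
  have hdet₁ : g₁.val.det = 1 := by
    rw [hg₁v]
    have := (RingHom.map_det (algebraMap B (Localization.Away f₀)) g'.val).symm
    simpa [hdet'] using this
  obtain ⟨M₁₁, hM11⟩ : ∃ M, M = g₁.val.toBlocks₁₁ := ⟨_, rfl⟩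
  obtain ⟨M₁₂, hM12⟩ : ∃ M, M = g₁.val.toBlocks₁₂ := ⟨_, rfl⟩
  obtain ⟨M₂₁, hM21⟩ : ∃ M, M = g₁.val.toBlocks₂₁ := ⟨_, rfl⟩
  have hM22 : g₁.val.toBlocks₂₂ = (w : Localization.Away f₀) • (1 : Matrix Unit Unit _) := by
    ext i j
    simp [toBlocks₂₂, hw, hg₁v, hf₀]
  have hblocks : g₁.val = fromBlocks M₁₁ M₁₂ M₂₁ ((w : Localization.Away f₀) • 1) := by
    rw [hM11, hM12, hM21, ← hM22, fromBlocks_toBlocks]
  obtain ⟨x, hx⟩ : ∃ x, x = (↑w⁻¹ : Localization.Away f₀) • M₁₂ := ⟨_, rfl⟩
  obtain ⟨y', hy'⟩ : ∃ y', y' = (↑w⁻¹ : Localization.Away f₀) • M₂₁ := ⟨_, rfl⟩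
  obtain ⟨δ, hδ⟩ : ∃ δ : Matrix ι ι (Localization.Away f₀),
      δ = diagonal (fun i => if i = i₀ then (w : Localization.Away f₀) else 1) := ⟨_, rfl⟩
  obtain ⟨δ', hδ'⟩ : ∃ δ' : Matrix ι ι (Localization.Away f₀),
      δ' = diagonal (fun i => if i = i₀ then (↑w⁻¹ : Localization.Away f₀) else 1) := ⟨_, rfl⟩
  obtain ⟨S, hS⟩ : ∃ S, S = M₁₁ - (w : Localization.Away f₀) • (x * y') := ⟨_, rfl⟩
  obtain ⟨S', hS'⟩ : ∃ S', S' = S * δ := ⟨_, rfl⟩
  have hmat : g₁.val = fromBlocks 1 x 0 1 *
      (fromBlocks S' 0 0 1 * fromBlocks δ' 0 0 ((w : Localization.Away f₀) • (1 : Matrix Unit Unit _))) *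
      fromBlocks 1 0 y' 1 := by
    rw [ldu, hblocks]
    have e11 : M₁₁ = S' * δ' + (w : Localization.Away f₀) • (x * y') := by
      rw [hS', hδ, hδ', mul_assoc, diag_ite_mul, mul_one, hS, sub_add_cancel]
    have e12 : M₁₂ = (w : Localization.Away f₀) • x := by
      rw [hx, smul_smul, Units.mul_inv, one_smul]
    have e21 : M₂₁ = (w : Localization.Away f₀) • y' := by
      rw [hy', smul_smul, Units.mul_inv, one_smul]
    rw [← e11, ← e12, ← e21]
  have hdetS' : S'.det = 1 := by
    have h := hdet₁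
    rw [hmat, det_mul, det_mul, det_mul, det_fromBlocks_zero₂₁, det_fromBlocks_zero₂₁,
      det_fromBlocks_zero₂₁, det_fromBlocks_zero₁₂] at h
    have hδ'det : δ'.det = ↑w⁻¹ := by rw [hδ', det_diagonal]; simp [Finset.prod_ite_eq']
    have hwdet : ((w : Localization.Away f₀) • (1 : Matrix Unit Unit (Localization.Away f₀))).det = w := by
      simp
    rw [hδ'det, hwdet] at h
    simpa using h
  obtain ⟨gS, hgS⟩ : ∃ gS : GL ι (Localization.Away f₀), gS.val = S' :=
    ⟨Matrix.SpecialLinearGroup.toGL ⟨S', hdetS'⟩, rfl⟩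
  have hE1 : fromBlocks δ' 0 0 ((w : Localization.Away f₀) • (1 : Matrix Unit Unit _)) *
      fromBlocks δ 0 0 ((↑w⁻¹ : Localization.Away f₀) • (1 : Matrix Unit Unit _)) = 1 := by
    rw [fromBlocks_multiply, hδ, hδ']
    simp only [Matrix.zero_mul, Matrix.mul_zero, add_zero, zero_add, diag_ite_mul', Matrix.smul_mul,
      Matrix.mul_smul, Matrix.one_mul, smul_smul, Units.mul_inv, Units.inv_mul, one_smul, smul_zero,
      fromBlocks_one]
  have hE2 : fromBlocks δ 0 0 ((↑w⁻¹ : Localization.Away f₀) • (1 : Matrix Unit Unit _)) *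
      fromBlocks δ' 0 0 ((w : Localization.Away f₀) • (1 : Matrix Unit Unit _)) = 1 := by
    rw [fromBlocks_multiply, hδ, hδ']
    simp only [Matrix.zero_mul, Matrix.mul_zero, add_zero, zero_add, diag_ite_mul, Matrix.smul_mul,
      Matrix.mul_smul, Matrix.one_mul, smul_smul, Units.mul_inv, Units.inv_mul, one_smul, smul_zero,
      fromBlocks_one]
  obtain ⟨E, hE⟩ : ∃ E : GL (ι ⊕ Unit) (Localization.Away f₀),
      E.val = fromBlocks δ' 0 0 ((w : Localization.Away f₀) • (1 : Matrix Unit Unit _)) :=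
    ⟨⟨_, _, hE1, hE2⟩, rfl⟩
  have hEmem : E ∈ commutator (GL (ι ⊕ Unit) (Localization.Away f₀)) := by
    apply diag_swap_mem (Sum.inr ()) (Sum.inl i₀) (by simp) w
    rw [hE, hδ', smul_one_eq_diagonal, fromBlocks_diagonal]
    congr 1; funext k
    rcases k with k | k
    · simp
    · simp
  have hg₁eq : g₁ = upU x * (emb gS * E) * loL y' := by
    apply Units.ext
    rw [Units.val_mul, Units.val_mul, Units.val_mul, emb_val, hgS, hE, hmat]
    rfl
  -- induction hypothesis over the localization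
  have hv₁ : ((Units.map (algebraMap B (Localization.Away f₀)).toMonoidHom v₀ : (Localization.Away f₀)ˣ) :
      Localization.Away f₀) = (Units.map (algebraMap B (Localization.Away f₀)).toMonoidHom u₀ :
        (Localization.Away f₀)ˣ) - 1 := by
    simp [hv]
  have hq₁ : (Ideal.map (algebraMap B (Localization.Away f₀)) q).IsPrime :=
    IsLocalization.isPrime_of_isPrime_disjoint (Submonoid.powers f₀) _ q hq
      ((Ideal.disjoint_powers_iff_notMem f₀ hq.isRadical).2 hy)
  obtain ⟨f₁, hf₁, H₁⟩ := ih (Localization.Away f₀) _ _ hv₁ _ hq₁ gS (by rw [hgS]; exact hdetS')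
  obtain ⟨⟨a, s⟩, has⟩ := IsLocalization.surj (Submonoid.powers f₀) f₁
  simp only at has
  have hsunit : IsUnit (algebraMap B (Localization.Away f₀) (s : B)) :=
    IsLocalization.map_units (Localization.Away f₀) s
  have ha : a ∉ q := by
    intro haq
    apply hf₁
    have hmem : algebraMap B (Localization.Away f₀) a ∈ Ideal.map (algebraMap B (Localization.Away f₀)) q :=
      Ideal.mem_map_of_mem _ haq
    rw [← has] at hmem
    rcases hq₁.mem_or_mem hmem with h | h
    · exact h
    · exact absurd (Ideal.eq_top_of_isUnit_mem _ h hsunit) hq₁.ne_top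
  refine ⟨f₀ * a, fun h => (hq.mem_or_mem h).elim hy ha, fun C _ ψ hψ => ?_⟩
  rw [map_mul] at hψ
  have hψf : IsUnit (ψ f₀) := isUnit_of_mul_isUnit_left hψ
  have hψa : IsUnit (ψ a) := isUnit_of_mul_isUnit_right hψ
  obtain ⟨ψ₁, hψ₁⟩ : ∃ ψ₁ : Localization.Away f₀ →+* C,
      ∀ b, ψ₁ (algebraMap B (Localization.Away f₀) b) = ψ b :=
    ⟨IsLocalization.Away.lift f₀ hψf, IsLocalization.Away.lift_eq f₀ hψf⟩
  have hcomp : ψ₁.comp (algebraMap B (Localization.Away f₀)) = ψ := RingHom.ext hψ₁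
  have hψ₁f₁ : IsUnit (ψ₁ f₁) := by
    have h1 : ψ₁ f₁ * ψ₁ (algebraMap B (Localization.Away f₀) (s : B)) = ψ a := by
      rw [← map_mul, has, hψ₁]
    exact isUnit_of_mul_isUnit_left (h1 ▸ hψa)
  have hSC := H₁ C ψ₁ hψ₁f₁
  have hgeq : g = (loL y)⁻¹ * g' := by rw [hg', inv_mul_cancel_left]
  have hmapg' : Matrix.GeneralLinearGroup.map ψ g' = Matrix.GeneralLinearGroup.map ψ₁ g₁ := by
    rw [hg₁, ← hcomp, Matrix.GeneralLinearGroup.map_comp]; rfl
  rw [hgeq, map_mul, map_inv, hmapg', hg₁eq, map_mul, map_mul, map_mul, emb_map]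
  refine Subgroup.mul_mem _ (Subgroup.inv_mem _ (map_mem_comm _ (loL_mem u₀ v₀ hv y))) ?_
  refine Subgroup.mul_mem _ (Subgroup.mul_mem _ (map_mem_comm _ (upU_mem _ _ hv₁ x)) ?_)
    (map_mem_comm _ (loL_mem _ _ hv₁ y'))
  exact Subgroup.mul_mem _ (map_mem_comm emb hSC) (map_mem_comm _ hEmem)

lemma claim_fin : ∀ n : ℕ, Claim.{u} (Fin n)
  | 0 => claim_fin0
  | 1 => claim_fin1
  | (n + 2) => by
    have h := claim_step (claim_fin (n + 1))
    exact claim_transfer (Fintype.equivOfCardEq (by simp)) h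

open Polynomial in
lemma ker_algClosure (A : Type u) [CommRing A] (p : Ideal A) [p.IsPrime] :
    RingHom.ker (algebraMap A (AlgebraicClosure p.ResidueField)) = p := by
  ext x
  rw [RingHom.mem_ker,
    IsScalarTower.algebraMap_apply A p.ResidueField (AlgebraicClosure p.ResidueField),
    map_eq_zero, Ideal.algebraMap_residueField_eq_zero]

lemma prime_of_hasMap {A : Type u} [CommRing A] (P : StandardEtalePair A) (L : Type u) [Field L]
    [Algebra A L] (x : L) (hx : P.HasMap x) :
    ∃ q : PrimeSpectrum P.Ring,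
      q.asIdeal.comap (algebraMap A P.Ring) = RingHom.ker (algebraMap A L) := by
  refine ⟨⟨RingHom.ker (P.lift x hx : P.Ring →+* L), RingHom.ker_isPrime _⟩, ?_⟩
  show Ideal.comap (algebraMap A P.Ring) (RingHom.ker (P.lift x hx : P.Ring →+* L)) = _
  rw [RingHom.comap_ker, AlgHom.comp_algebraMap]

open Polynomial in
lemma good_ext (A : Type u) [CommRing A] (p : PrimeSpectrum A) :
    ∃ (A' : Type u) (_ : CommRing A') (_ : Algebra A A'), Algebra.Etale A A' ∧
      (∃ q : PrimeSpectrum A', q.asIdeal.comap (algebraMap A A') = p.asIdeal) ∧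
      ∃ u₀ v₀ : A'ˣ, (v₀ : A') = u₀ - 1 := by
  haveI := p.isPrime
  haveI : Nontrivial A :=
    ⟨⟨0, 1, fun h => p.isPrime.ne_top ((Ideal.eq_top_iff_one _).2 (h ▸ p.asIdeal.zero_mem))⟩⟩
  have hker := ker_algClosure A p.asIdeal
  by_cases h2 : (2 : A) ∈ p.asIdeal
  · have hA2 : algebraMap A (AlgebraicClosure p.asIdeal.ResidueField) 2 = 0 := by
      have : (2 : A) ∈ RingHom.ker (algebraMap A (AlgebraicClosure p.asIdeal.ResidueField)) := by
        rw [hker]; exact h2
      exact this
    have h2L : (2 : AlgebraicClosure p.asIdeal.ResidueField) = 0 := by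
      rw [← map_ofNat (algebraMap A (AlgebraicClosure p.asIdeal.ResidueField)) 2]; exact hA2
    have hmonic : (X ^ 2 + (X + C (1 : A))).Monic := by
      apply monic_X_pow_add
      rw [degree_X_add_C]; norm_cast
    have hder : derivative (X ^ 2 + (X + C (1 : A))) = C 2 * X + 1 := by
      simp only [derivative_add, derivative_X_pow, derivative_X, derivative_C, add_zero,
        Nat.cast_ofNat, Nat.add_one_sub_one, pow_one]
    obtain ⟨P, hPf, hPg⟩ : ∃ P : StandardEtalePair A, P.f = X ^ 2 + (X + C (1 : A)) ∧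
        P.g = C 2 * X + 1 :=
      ⟨⟨X ^ 2 + (X + C (1 : A)), hmonic, C 2 * X + 1, ⟨1, 0, 1, by rw [hder]; ring⟩⟩,
        rfl, rfl⟩
    obtain ⟨x, hx⟩ := IsAlgClosed.exists_root
      (X ^ 2 + (X + C (1 : AlgebraicClosure p.asIdeal.ResidueField))) (by
        rw [degree_add_eq_left_of_degree_lt (by rw [degree_X_pow, degree_X_add_C]; norm_cast),
          degree_X_pow]
        norm_num)
    have hx' : x ^ 2 + (x + 1) = 0 := by simpa using hx
    have hmap : P.HasMap x := by
      refine ⟨?_, ?_⟩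
      · rw [hPf]
        simp only [map_add, map_pow, aeval_X, map_one, aeval_C]
        exact hx'
      · rw [hPg]
        simp only [map_add, map_mul, aeval_C, aeval_X, map_one, map_ofNat]
        rw [h2L]; simp
    obtain ⟨q, hq⟩ := prime_of_hasMap P (AlgebraicClosure p.asIdeal.ResidueField) x hmap
    have ht : P.X ^ 2 + (P.X + 1) = 0 := by
      have := (StandardEtalePair.hasMap_X (P := P)).1
      rw [hPf] at this
      simpa only [map_add, map_pow, aeval_X, map_one, aeval_C] using this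
    have hd : IsUnit ((2 : P.Ring) * P.X + 1) := by
      have := (StandardEtalePair.hasMap_X (P := P)).2
      rw [hPg] at this
      simpa only [map_add, map_mul, aeval_C, aeval_X, map_one, map_ofNat] using this
    have h1 : P.X * (-(P.X + 1)) = 1 := by linear_combination (-1 : P.Ring) * ht
    have h3 : (P.X - 1) * (P.X + 2) = ((2 : P.Ring) * P.X + 1) ^ 2 := by
      linear_combination (-3 : P.Ring) * ht
    have hv : IsUnit (P.X - 1) :=
      isUnit_of_mul_isUnit_left (y := P.X + 2) (by rw [h3]; exact hd.pow 2)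
    obtain ⟨v₀, hv₀⟩ := hv
    refine ⟨P.Ring, inferInstance, inferInstance, inferInstance, ⟨q, by rw [hq, hker]⟩,
      Units.mkOfMulEqOne _ _ h1, v₀, ?_⟩
    rw [hv₀, Units.val_mkOfMulEqOne]
  · have hA2 : algebraMap A (AlgebraicClosure p.asIdeal.ResidueField) 2 ≠ 0 := by
      intro h
      apply h2
      rw [← hker]; exact h
    have h2L : (2 : AlgebraicClosure p.asIdeal.ResidueField) ≠ 0 := by
      rw [← map_ofNat (algebraMap A (AlgebraicClosure p.asIdeal.ResidueField)) 2]; exact hA2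
    obtain ⟨P, hPf, hPg⟩ : ∃ P : StandardEtalePair A, P.f = X - C (2 : A) ∧ P.g = X :=
      ⟨⟨X - C (2 : A), monic_X_sub_C 2, X, ⟨X, 0, 1, by simp⟩⟩, rfl, rfl⟩
    have hmap : P.HasMap (2 : AlgebraicClosure p.asIdeal.ResidueField) := by
      refine ⟨?_, ?_⟩
      · rw [hPf]
        simp only [map_sub, aeval_X, map_ofNat, aeval_C, sub_self]
      · rw [hPg, aeval_X]; exact isUnit_iff_ne_zero.2 h2L
    obtain ⟨q, hq⟩ := prime_of_hasMap P (AlgebraicClosure p.asIdeal.ResidueField) 2 hmap
    have ht : P.X - 2 = 0 := by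
      have := (StandardEtalePair.hasMap_X (P := P)).1
      rw [hPf] at this
      simpa only [map_sub, aeval_X, map_ofNat, aeval_C] using this
    have hu : IsUnit P.X := by
      have := (StandardEtalePair.hasMap_X (P := P)).2
      rw [hPg, aeval_X] at this
      exact this
    obtain ⟨u₀, hu₀⟩ := hu
    refine ⟨P.Ring, inferInstance, inferInstance, inferInstance, ⟨q, by rw [hq, hker]⟩, u₀, 1, ?_⟩
    rw [hu₀, Units.val_one]
    linear_combination (-1 : P.Ring) * ht


/-- On the big étale site of a scheme the sheaf of commutator subgroups of Gl(n) is Sl(n) = Ker(det).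
Concretely: let A be a commutative ring, n ≥ 0, s ∈ SL_n(A) and p a prime ideal of A. Then there are
an étale A-algebra A' with a prime ideal lying over p such that the image of s in GL_n(A') lies in
the commutator subgroup of GL_n(A'). (The inclusion of commutators in SL_n being clear, this is the
content of the statement.) -/
theorem result (A : Type u) [CommRing A] (n : ℕ)
    (s : Matrix.SpecialLinearGroup (Fin n) A) (p : PrimeSpectrum A) :
    ∃ (A' : Type u) (_ : CommRing A') (_ : Algebra A A'), Algebra.Etale A A' ∧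
      (∃ q : PrimeSpectrum A', q.asIdeal.comap (algebraMap A A') = p.asIdeal) ∧
      (Matrix.GeneralLinearGroup.map (algebraMap A A')) (Matrix.SpecialLinearGroup.toGL s) ∈
        commutator (Matrix.GeneralLinearGroup (Fin n) A') := by
  obtain ⟨A', _, _, hEt, ⟨q, hq⟩, u₀, v₀, hv⟩ := good_ext A p
  obtain ⟨g, hgdef⟩ : ∃ g : GL (Fin n) A', g = Matrix.GeneralLinearGroup.map (algebraMap A A')
      (Matrix.SpecialLinearGroup.toGL s) := ⟨_, rfl⟩
  have hgdet : (g : Matrix (Fin n) (Fin n) A').det = 1 := by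
    rw [hgdef]
    show ((s : Matrix (Fin n) (Fin n) A).map (algebraMap A A')).det = 1
    have := (RingHom.map_det (algebraMap A A') (s : Matrix (Fin n) (Fin n) A)).symm
    simpa [s.det_coe] using this
  obtain ⟨f, hf, H⟩ := claim_fin n A' u₀ v₀ hv q.asIdeal q.isPrime g hgdet
  have hdisj : Disjoint (Submonoid.powers f : Set A') (q.asIdeal : Set A') :=
    (Ideal.disjoint_powers_iff_notMem f q.isPrime.isRadical).2 hf
  have hq' : (Ideal.map (algebraMap A' (Localization.Away f)) q.asIdeal).IsPrime :=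
    IsLocalization.isPrime_of_isPrime_disjoint (Submonoid.powers f) _ _ q.isPrime hdisj
  refine ⟨Localization.Away f, inferInstance, inferInstance, ?_, ?_, ?_⟩
  · exact Algebra.Etale.comp A A' (Localization.Away f)
  · refine ⟨⟨_, hq'⟩, ?_⟩
    show Ideal.comap (algebraMap A (Localization.Away f))
      (Ideal.map (algebraMap A' (Localization.Away f)) q.asIdeal) = p.asIdeal
    rw [IsScalarTower.algebraMap_eq A A' (Localization.Away f), ← Ideal.comap_comap]
    have := IsLocalization.under_map_of_isPrime_disjoint (Submonoid.powers f) (Localization.Away f)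
      q.isPrime hdisj
    rw [Ideal.under_def] at this
    rw [this, hq]
  · have hmem := H (Localization.Away f) (algebraMap A' (Localization.Away f))
      (IsLocalization.Away.algebraMap_isUnit f)
    have heq : Matrix.GeneralLinearGroup.map (algebraMap A (Localization.Away f))
        (Matrix.SpecialLinearGroup.toGL s) =
        Matrix.GeneralLinearGroup.map (algebraMap A' (Localization.Away f)) g := by
      rw [hgdef, IsScalarTower.algebraMap_eq A A' (Localization.Away f),
        Matrix.GeneralLinearGroup.map_comp]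
      rfl
    rw [heq]; exact hmem

end Groth.Agent.S5658
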