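import Groth.Statements.S5659
import Mathlib
import Groth.Agent.S5658
-- import your own Groth.Agent.* helpers here

set_option autoImplicit false
universe u
open CAlg

namespace Groth.Agent.S5659

section PRE
open Matrix

lemma idem_zero_or_one {R : Type u} [CommRing R] [ConnectedSpace (PrimeSpectrum R)] (e : R)
    (he : e * e = e) : e = 0 ∨ e = 1 := by
  have hcl : IsClopen (PrimeSpectrum.basicOpen e : Set (PrimeSpectrum R)) :=
    PrimeSpectrum.isClopen_basicOpen_of_mul_add e (1 - e)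
      (by rw [mul_sub, mul_one, he, sub_self]) (by ring)
  rcases isClopen_iff.1 hcl with h | h
  · left
    refine PrimeSpectrum.basicOpen_injOn_isIdempotentElem he IsIdempotentElem.zero ?_
    apply TopologicalSpace.Opens.ext
    rw [h]; simp
  · right
    refine PrimeSpectrum.basicOpen_injOn_isIdempotentElem he IsIdempotentElem.one ?_
    apply TopologicalSpace.Opens.ext
    rw [h]; simp

section killSL
variable (R : Type u) [CommRing R] (N : ℕ)
  (β : ∀ (B : Type u) [CommRing B] [Algebra R B], GL (Fin N) B →* Bˣ)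
  (hβ : ∀ (B C : Type u) [CommRing B] [Algebra R B] [CommRing C] [Algebra R C] (φ : B →ₐ[R] C)
    (g : GL (Fin N) B),
    β C (Matrix.GeneralLinearGroup.map φ.toRingHom g) = Units.map (φ.toRingHom : B →* C) (β B g))

include hβ in
lemma kills_SL (B : Type u) [CommRing B] [Algebra R B] (s : Matrix.SpecialLinearGroup (Fin N) B) :
    β B (Matrix.SpecialLinearGroup.toGL s) = 1 := by
  apply Units.ext
  rw [Units.val_one]
  by_contra hne
  obtain ⟨b, hbdef⟩ : ∃ b : B, b = ((β B (Matrix.SpecialLinearGroup.toGL s) : Bˣ) : B) - 1 := ⟨_, rfl⟩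
  have hb : b ≠ 0 := by rw [hbdef]; exact sub_ne_zero.2 hne
  have hI : LinearMap.ker (LinearMap.mulRight B b) ≠ ⊤ := by
    intro h
    have h1 : (1 : B) ∈ LinearMap.ker (LinearMap.mulRight B b) := h ▸ Submodule.mem_top
    rw [LinearMap.mem_ker, LinearMap.mulRight_apply, one_mul] at h1
    exact hb h1
  obtain ⟨p, hp, hIp⟩ := Ideal.exists_le_maximal (LinearMap.ker (LinearMap.mulRight B b)) hI
  obtain ⟨B', _, _, hEt, ⟨q, hq⟩, hmem⟩ := Groth.Agent.S5658.result B N s ⟨p, hp.isPrime⟩
  letI : Algebra R B' := ((algebraMap B B').comp (algebraMap R B)).toAlgebra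
  haveI : IsScalarTower R B B' := IsScalarTower.of_algebraMap_eq (fun x => rfl)
  have h1 : β B' (Matrix.GeneralLinearGroup.map (algebraMap B B') (Matrix.SpecialLinearGroup.toGL s)) = 1 :=
    MonoidHom.mem_ker.1 (Abelianization.commutator_subset_ker (β B') hmem)
  have h2 := hβ B B' (IsScalarTower.toAlgHom R B B') (Matrix.SpecialLinearGroup.toGL s)
  have h3 : algebraMap B B' ((β B (Matrix.SpecialLinearGroup.toGL s) : Bˣ) : B) = 1 := by
    have := congrArg Units.val (h2.symm.trans h1)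
    simpa using this
  have h4 : algebraMap B B' b = 0 := by rw [hbdef, map_sub, h3, map_one, sub_self]
  haveI : Module.Flat B B' := inferInstance
  have hrel : ∑ i : Unit, (fun _ : Unit => b) i • (fun _ : Unit => (1 : B')) i = 0 := by
    simp [Algebra.smul_def, h4]
  obtain ⟨k, a, y, hy1, hy2⟩ := Module.Flat.isTrivialRelation_of_sum_smul_eq_zero (R := B) (M := B')
    (f := fun _ : Unit => b) (x := fun _ : Unit => (1 : B')) hrel
  have ha : ∀ j, a () j ∈ p := by
    intro j
    apply hIp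
    rw [LinearMap.mem_ker, LinearMap.mulRight_apply]
    have := hy2 j
    simpa [mul_comm] using this
  have h1q : (1 : B') ∈ q.asIdeal := by
    have := hy1 ()
    simp only at this
    rw [this]
    refine Ideal.sum_mem _ (fun j _ => ?_)
    rw [Algebra.smul_def]
    apply Ideal.mul_mem_right
    have : a () j ∈ q.asIdeal.comap (algebraMap B B') := by rw [hq]; exact ha j
    exact this
  exact q.isPrime.ne_top ((Ideal.eq_top_iff_one _).2 h1q)

end killSL
section reduce

/-- diagonal matrix with `u` at `i₀`, as a monoid hom -/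
def dM (B : Type u) [CommRing B] {N : ℕ} (i₀ : Fin N) : B →* Matrix (Fin N) (Fin N) B where
  toFun u := diagonal (fun i => if i = i₀ then u else 1)
  map_one' := by
    rw [← diagonal_one]; congr 1; funext i; split_ifs <;> rfl
  map_mul' u v := by
    rw [diagonal_mul_diagonal]; congr 1; funext i; split_ifs <;> simp

/-- the diagonal embedding of `G_m` in `GL_N` -/
def dG (B : Type u) [CommRing B] {N : ℕ} (i₀ : Fin N) : Bˣ →* GL (Fin N) B := Units.map (dM B i₀)

lemma dG_val {B : Type u} [CommRing B] {N : ℕ} (i₀ : Fin N) (v : Bˣ) :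
    (dG B i₀ v).val = diagonal (fun i => if i = i₀ then (v : B) else 1) := rfl

lemma det_dG {B : Type u} [CommRing B] {N : ℕ} (i₀ : Fin N) (v : Bˣ) :
    Matrix.GeneralLinearGroup.det (dG B i₀ v) = v := by
  apply Units.ext
  rw [Matrix.GeneralLinearGroup.val_det_apply, dG_val, det_diagonal]
  simp [Finset.prod_ite_eq']

lemma dG_map {B C : Type u} [CommRing B] [CommRing C] {N : ℕ} (φ : B →+* C) (i₀ : Fin N) (v : Bˣ) :
    Matrix.GeneralLinearGroup.map φ (dG B i₀ v) = dG C i₀ (Units.map (φ : B →* C) v) := by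
  apply Units.ext
  show (diagonal (fun i => if i = i₀ then (v : B) else 1)).map φ =
    diagonal (fun i => if i = i₀ then φ v else 1)
  rw [diagonal_map (map_zero φ)]
  congr 1; funext i; split_ifs <;> simp

variable (R : Type u) [CommRing R] (N : ℕ)
  (β : ∀ (B : Type u) [CommRing B] [Algebra R B], GL (Fin N) B →* Bˣ)
  (hβ : ∀ (B C : Type u) [CommRing B] [Algebra R B] [CommRing C] [Algebra R C] (φ : B →ₐ[R] C)
    (g : GL (Fin N) B),
    β C (Matrix.GeneralLinearGroup.map φ.toRingHom g) = Units.map (φ.toRingHom : B →* C) (β B g))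

include hβ in
lemma beta_eq (i₀ : Fin N) (B : Type u) [CommRing B] [Algebra R B] (g : GL (Fin N) B) :
    β B g = β B (dG B i₀ (Matrix.GeneralLinearGroup.det g)) := by
  obtain ⟨v, hv⟩ : ∃ v, v = Matrix.GeneralLinearGroup.det g := ⟨_, rfl⟩
  rw [← hv]
  obtain ⟨s', hs'⟩ : ∃ s' : GL (Fin N) B, s' = (dG B i₀ v)⁻¹ * g := ⟨_, rfl⟩
  have hdet : Matrix.GeneralLinearGroup.det s' = 1 := by
    rw [hs', map_mul, map_inv, det_dG, hv, inv_mul_cancel]
  have hdet' : (s' : Matrix (Fin N) (Fin N) B).det = 1 := by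
    have := congrArg Units.val hdet
    simpa [Matrix.GeneralLinearGroup.val_det_apply] using this
  have hs'' : s' = Matrix.SpecialLinearGroup.toGL ⟨s'.val, hdet'⟩ := Units.ext rfl
  have h1 : β B s' = 1 := by rw [hs'']; exact kills_SL R N β hβ B _
  have hg : g = dG B i₀ v * s' := by rw [hs', mul_inv_cancel_left]
  calc β B g = β B (dG B i₀ v * s') := by rw [← hg]
    _ = β B (dG B i₀ v) := by rw [map_mul, h1, mul_one]

end reduce

section chi
variable (R : Type u) [CommRing R]

/-- the unit `single g 1` of the group algebra -/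
noncomputable def uG {G : Type} [AddCommGroup G] (g : G) : (AddMonoidAlgebra R G)ˣ :=
  ⟨AddMonoidAlgebra.single g 1, AddMonoidAlgebra.single (-g) 1,
    by rw [AddMonoidAlgebra.single_mul_single, add_neg_cancel, mul_one]; rfl,
    by rw [AddMonoidAlgebra.single_mul_single, neg_add_cancel, mul_one]; rfl⟩

lemma uG_val {G : Type} [AddCommGroup G] (g : G) :
    (uG R g).val = AddMonoidAlgebra.single g 1 := rfl

variable (χ : ∀ (B : Type u) [CommRing B] [Algebra R B], Bˣ →* Bˣ)
  (hχ : ∀ (B C : Type u) [CommRing B] [Algebra R B] [CommRing C] [Algebra R C] (φ : B →ₐ[R] C)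
    (v : Bˣ), χ C (Units.map (φ.toRingHom : B →* C) v) = Units.map (φ.toRingHom : B →* C) (χ B v))

include hχ in
lemma chi_uG {G : Type} [AddCommGroup G] (g : G) :
    ((χ (AddMonoidAlgebra R G) (uG R g) : (AddMonoidAlgebra R G)ˣ) : AddMonoidAlgebra R G) =
      (AddMonoidAlgebra.mapDomainAlgHom R R (zmultiplesHom G g))
        ((χ (AddMonoidAlgebra R ℤ) (uG R (1 : ℤ)) : (AddMonoidAlgebra R ℤ)ˣ) :
          AddMonoidAlgebra R ℤ) := by
  have h := hχ (AddMonoidAlgebra R ℤ) (AddMonoidAlgebra R G)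
    (AddMonoidAlgebra.mapDomainAlgHom R R (zmultiplesHom G g)) (uG R (1 : ℤ))
  have hu : Units.map
      ((AddMonoidAlgebra.mapDomainAlgHom R R (zmultiplesHom G g)).toRingHom :
        AddMonoidAlgebra R ℤ →* AddMonoidAlgebra R G) (uG R (1 : ℤ)) = uG R g := by
    apply Units.ext
    show (AddMonoidAlgebra.mapDomainAlgHom R R (zmultiplesHom G g))
      (AddMonoidAlgebra.single (1 : ℤ) (1 : R)) = AddMonoidAlgebra.single g 1
    rw [AddMonoidAlgebra.mapDomainAlgHom_apply, AddMonoidAlgebra.mapDomain_single]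
    simp
  rw [hu] at h
  rw [h]
  rfl


include hχ in
lemma chi_univ [ConnectedSpace (PrimeSpectrum R)] :
    ∃ m : ℤ, ((χ (AddMonoidAlgebra R ℤ) (uG R (1 : ℤ)) : (AddMonoidAlgebra R ℤ)ˣ) :
      AddMonoidAlgebra R ℤ) = AddMonoidAlgebra.single m 1 := by
  classical
  haveI : Nontrivial R := PrimeSpectrum.nonempty_iff_nontrivial.1 inferInstance
  obtain ⟨P, hP⟩ : ∃ P, P = ((χ (AddMonoidAlgebra R ℤ) (uG R (1 : ℤ)) : (AddMonoidAlgebra R ℤ)ˣ) :
      AddMonoidAlgebra R ℤ) := ⟨_, rfl⟩
  rw [← hP]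
  obtain ⟨a, ha⟩ : ∃ a : ℤ →₀ R, a = P.coeff := ⟨_, rfl⟩
  obtain ⟨S, hS⟩ : ∃ S : Finset ℤ, S = a.support := ⟨_, rfl⟩
  have haS : ∀ k, k ∉ S → a k = 0 := by
    intro k hk; rw [hS] at hk; exact Finsupp.notMem_support_iff.1 hk
  have hPsum : P = ∑ k ∈ S, AddMonoidAlgebra.single k (a k) := by
    conv_lhs => rw [← AddMonoidAlgebra.sum_coeff_single P]
    rw [← ha, Finsupp.sum, hS]
  have hE : ∀ {G : Type} [AddCommGroup G] (g : G),
      ((χ (AddMonoidAlgebra R G) (uG R g) : (AddMonoidAlgebra R G)ˣ) : AddMonoidAlgebra R G) =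
        ∑ k ∈ S, AddMonoidAlgebra.single (k • g) (a k) := by
    intro G _ g
    rw [chi_uG R χ hχ g, ← hP, hPsum, map_sum]
    refine Finset.sum_congr rfl (fun k _ => ?_)
    rw [AddMonoidAlgebra.mapDomainAlgHom_apply, AddMonoidAlgebra.mapDomain_single]
    simp
  have hmul : ∀ k₀ l₀ : ℤ, a k₀ * a l₀ = if k₀ = l₀ then a k₀ else 0 := by
    intro k₀ l₀
    have hu : uG R ((1, 1) : ℤ × ℤ) = uG R ((1, 0) : ℤ × ℤ) * uG R ((0, 1) : ℤ × ℤ) := by
      apply Units.ext
      rw [Units.val_mul, uG_val, uG_val, uG_val, AddMonoidAlgebra.single_mul_single]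
      simp
    have h := congrArg (fun v : (AddMonoidAlgebra R (ℤ × ℤ))ˣ =>
      (v : AddMonoidAlgebra R (ℤ × ℤ)).coeff (k₀, l₀))
      (congrArg (χ (AddMonoidAlgebra R (ℤ × ℤ))) hu)
    simp only [map_mul, Units.val_mul] at h
    rw [hE, hE, hE, Finset.sum_mul_sum] at h
    simp only [AddMonoidAlgebra.single_mul_single, AddMonoidAlgebra.coeff_sum,
      Finsupp.finset_sum_apply, AddMonoidAlgebra.coeff_single, Finsupp.single_apply,
      Prod.smul_mk, smul_eq_mul, mul_one, mul_zero, Prod.mk_add_mk, add_zero, zero_add,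
      Prod.mk.injEq] at h
    have hR : (∑ x ∈ S, ∑ y ∈ S, if x = k₀ ∧ y = l₀ then a x * a y else 0) = a k₀ * a l₀ := by
      by_cases hk : k₀ ∈ S
      · by_cases hl : l₀ ∈ S
        · rw [Finset.sum_eq_single k₀, Finset.sum_eq_single l₀]
          · simp
          · intro y _ hy; simp [hy]
          · intro h; exact absurd hl h
          · intro x _ hx; simp [hx]
          · intro h; exact absurd hk h
        · rw [haS l₀ hl, mul_zero]
          refine Finset.sum_eq_zero (fun x _ => Finset.sum_eq_zero (fun y hy => ?_))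
          rw [if_neg]; rintro ⟨_, rfl⟩; exact hl hy
      · rw [haS k₀ hk, zero_mul]
        refine Finset.sum_eq_zero (fun x hx => Finset.sum_eq_zero (fun y _ => ?_))
        rw [if_neg]; rintro ⟨rfl, _⟩; exact hk hx
    have hL : (∑ x ∈ S, if x = k₀ ∧ x = l₀ then a x else 0) = if k₀ = l₀ then a k₀ else 0 := by
      by_cases hkl : k₀ = l₀
      · subst hkl
        simp only [and_self, if_true]
        rw [Finset.sum_ite_eq']
        split_ifs with h
        · rfl
        · exact (haS k₀ h).symm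
      · rw [if_neg hkl]
        refine Finset.sum_eq_zero (fun x _ => ?_)
        rw [if_neg]; rintro ⟨rfl, h2⟩; exact hkl h2
    rw [hL, hR] at h
    exact h.symm
  have hsum : ∑ k ∈ S, a k = 1 := by
    have hu : uG R (0 : ℤ) = 1 := by
      apply Units.ext; rw [uG_val]; rfl
    have h := congrArg (fun v : (AddMonoidAlgebra R ℤ)ˣ => (v : AddMonoidAlgebra R ℤ).coeff 0)
      (congrArg (χ (AddMonoidAlgebra R ℤ)) hu)
    simp only [map_one, Units.val_one] at h
    rw [hE] at h
    simp only [AddMonoidAlgebra.coeff_sum, Finsupp.finset_sum_apply, AddMonoidAlgebra.coeff_single,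
      Finsupp.single_apply, smul_zero, if_true, AddMonoidAlgebra.coeff_one_zero] at h
    exact h
  have hidem : ∀ k, a k = 0 ∨ a k = 1 := fun k =>
    idem_zero_or_one (a k) (by rw [hmul k k, if_pos rfl])
  have hex : ∃ m ∈ S, a m = 1 := by
    by_contra hcon
    push Not at hcon
    have : ∑ k ∈ S, a k = 0 :=
      Finset.sum_eq_zero (fun k hk => (hidem k).resolve_right (hcon k hk))
    rw [this] at hsum; exact zero_ne_one hsum
  obtain ⟨m, hmS, hm⟩ := hex
  refine ⟨m, ?_⟩
  rw [hPsum, Finset.sum_eq_single m, hm]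
  · intro k _ hk
    have := hmul m k
    rw [hm, one_mul, if_neg (Ne.symm hk)] at this
    rw [this]; simp
  · intro h; exact absurd hmS h

include hχ in
lemma chi_pow [ConnectedSpace (PrimeSpectrum R)] :
    ∃ m : ℤ, ∀ (B : Type u) [CommRing B] [Algebra R B] (v : Bˣ), χ B v = v ^ m := by
  obtain ⟨m, hm⟩ := chi_univ R χ hχ
  refine ⟨m, ?_⟩
  intro B _ _ v
  obtain ⟨ev, hev⟩ : ∃ ev : AddMonoidAlgebra R ℤ →ₐ[R] B, ev =
    AddMonoidAlgebra.lift R B ℤ ((Units.coeHom B).comp (zpowersHom Bˣ v)) := ⟨_, rfl⟩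
  have hev1 : ∀ k : ℤ, ev (AddMonoidAlgebra.single k 1) = ((v ^ k : Bˣ) : B) := by
    intro k
    rw [hev, AddMonoidAlgebra.lift_single, one_smul]
    simp
  have hu : Units.map (ev.toRingHom : AddMonoidAlgebra R ℤ →* B) (uG R (1 : ℤ)) = v := by
    apply Units.ext
    show ev (AddMonoidAlgebra.single (1 : ℤ) 1) = v
    rw [hev1, zpow_one]
  have h := hχ (AddMonoidAlgebra R ℤ) B ev (uG R (1 : ℤ))
  rw [hu] at h
  rw [h]
  apply Units.ext
  show ev ((χ (AddMonoidAlgebra R ℤ) (uG R (1 : ℤ)) : (AddMonoidAlgebra R ℤ)ˣ) :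
      AddMonoidAlgebra R ℤ) = _
  rw [hm, hev1]

lemma uG_pow_inj [Nontrivial R] (m m' : ℤ) (h : uG R (1 : ℤ) ^ m = uG R (1 : ℤ) ^ m') : m = m' := by
  have hpow : ∀ k : ℤ, ((uG R (1 : ℤ) ^ k : (AddMonoidAlgebra R ℤ)ˣ) : AddMonoidAlgebra R ℤ) =
      AddMonoidAlgebra.single k 1 := by
    intro k
    have : uG R (1 : ℤ) ^ k = uG R k := by
      induction k using Int.induction_on with
      | zero => rw [zpow_zero]; apply Units.ext; rfl
      | succ i ih =>
        rw [_root_.zpow_add_one, ih]; apply Units.ext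
        rw [Units.val_mul, uG_val, uG_val, uG_val, AddMonoidAlgebra.single_mul_single, mul_one]
      | pred i ih =>
        rw [_root_.zpow_sub_one, ih]; apply Units.ext
        rw [Units.val_mul]
        show AddMonoidAlgebra.single (-(i:ℤ)) 1 * AddMonoidAlgebra.single (-(1:ℤ)) 1 = AddMonoidAlgebra.single (-(i:ℤ) - 1) 1
        rw [AddMonoidAlgebra.single_mul_single, mul_one, sub_eq_add_neg]
    rw [this, uG_val]
  have h1 := congrArg (fun v : (AddMonoidAlgebra R ℤ)ˣ => (v : AddMonoidAlgebra R ℤ).coeff m) h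
  simp only [hpow, AddMonoidAlgebra.coeff_single, Finsupp.single_apply, if_true] at h1
  by_contra hne
  rw [if_neg (Ne.symm hne)] at h1
  exact one_ne_zero h1

end chi

section final
open Matrix

lemma single_factor (R : Type u) [CommRing R] [ConnectedSpace (PrimeSpectrum R)] (N : ℕ) (hN : 0 < N)
    (β : ∀ (B : Type u) [CommRing B] [Algebra R B], GL (Fin N) B →* Bˣ)
    (hβ : ∀ (B C : Type u) [CommRing B] [Algebra R B] [CommRing C] [Algebra R C] (φ : B →ₐ[R] C)
      (g : GL (Fin N) B),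
      β C (Matrix.GeneralLinearGroup.map φ.toRingHom g) =
        Units.map (φ.toRingHom : B →* C) (β B g)) :
    ∃ m : ℤ, ∀ (B : Type u) [CommRing B] [Algebra R B] (g : GL (Fin N) B),
      β B g = Matrix.GeneralLinearGroup.det g ^ m := by
  obtain ⟨m, hm⟩ := chi_pow R (fun B _ _ => (β B).comp (dG B ⟨0, hN⟩)) (by
    intro B C _ _ _ _ φ v
    show β C (dG C ⟨0, hN⟩ (Units.map (φ.toRingHom : B →* C) v)) =
      Units.map (φ.toRingHom : B →* C) (β B (dG B ⟨0, hN⟩ v))
    rw [← dG_map, hβ])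
  refine ⟨m, fun B _ _ g => ?_⟩
  rw [beta_eq R N β hβ ⟨0, hN⟩ B g]
  exact hm B _

end final
end PRE

/-- Every homomorphism of group sheaves Gl(n_1) × ⋯ × Gl(n_r) → G_m is (s_1, …, s_r) ↦ det(s_1)^{m_1} ⋯
det(s_r)^{m_r} with locally constant integers m_i uniquely determined by it. Concretely, over a
commutative ring R whose prime spectrum is connected and for ranks n_i ≥ 1: every family of group
homomorphisms α_B : GL_{n_1}(B) × ⋯ × GL_{n_r}(B) → Bˣ, one for each commutative R-algebra B and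
natural in B, is given by α_B(s) = Π_i det(s_i)^{m_i} for a unique m ∈ ℤ^r. (The published statement
allows ranks n_i ≥ 0; uniqueness of m_i needs n_i ≥ 1, since Gl(0) is trivial.) -/
theorem result (R : Type u) [CommRing R] [ConnectedSpace (PrimeSpectrum R)]
    (r : ℕ) (n : Fin r → ℕ) (hn : ∀ i, 0 < n i)
    (α : ∀ (B : Type u) [CommRing B] [Algebra R B], (∀ i, Matrix.GeneralLinearGroup (Fin (n i)) B) →* Bˣ)
    (hα : ∀ (B C : Type u) [CommRing B] [Algebra R B] [CommRing C] [Algebra R C] (φ : B →ₐ[R] C)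
      (s : ∀ i, Matrix.GeneralLinearGroup (Fin (n i)) B),
      α C (fun i => Matrix.GeneralLinearGroup.map φ.toRingHom (s i)) = Units.map (φ.toRingHom : B →* C) (α B s)) :
    ∃! m : Fin r → ℤ, ∀ (B : Type u) [CommRing B] [Algebra R B] (s : ∀ i, Matrix.GeneralLinearGroup (Fin (n i)) B),
      α B s = ∏ i, Matrix.GeneralLinearGroup.det (s i) ^ (m i) := by
  classical
  haveI : Nontrivial R := PrimeSpectrum.nonempty_iff_nontrivial.1 inferInstance
  have hfac : ∀ i : Fin r, ∃ m : ℤ, ∀ (B : Type u) [CommRing B] [Algebra R B]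
      (g : Matrix.GeneralLinearGroup (Fin (n i)) B),
      α B (Pi.mulSingle i g) = Matrix.GeneralLinearGroup.det g ^ m := by
    intro i
    exact single_factor R (n i) (hn i) (fun B _ _ => (α B).comp
      (MonoidHom.mulSingle (fun j => Matrix.GeneralLinearGroup (Fin (n j)) B) i)) (by
      intro B C _ _ _ _ φ g
      show α C (Pi.mulSingle i (Matrix.GeneralLinearGroup.map φ.toRingHom g)) =
        Units.map _ (α B (Pi.mulSingle i g))
      rw [← hα B C φ (Pi.mulSingle i g)]
      congr 1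
      funext j
      exact (Pi.apply_mulSingle
        (fun j => (Matrix.GeneralLinearGroup.map (n := Fin (n j)) φ.toRingHom :
          Matrix.GeneralLinearGroup (Fin (n j)) B → Matrix.GeneralLinearGroup (Fin (n j)) C))
        (fun j => map_one _) i g j).symm)
  choose m hm using hfac
  have hprod : ∀ (m : Fin r → ℤ) (B : Type u) [CommRing B] (i₀ : Fin r)
      (g : Matrix.GeneralLinearGroup (Fin (n i₀)) B),
      ∏ i, Matrix.GeneralLinearGroup.det
        ((Pi.mulSingle i₀ g : ∀ i, Matrix.GeneralLinearGroup (Fin (n i)) B) i) ^ (m i) =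
        Matrix.GeneralLinearGroup.det g ^ (m i₀) := by
    intro m B _ i₀ g
    rw [Finset.prod_eq_single i₀]
    · rw [Pi.mulSingle_eq_same]
    · intro j _ hj
      rw [Pi.mulSingle_eq_of_ne hj, map_one, one_zpow]
    · intro h; exact absurd (Finset.mem_univ _) h
  refine ⟨m, ?_, ?_⟩
  · intro B _ _ s
    obtain ⟨γ, hγ⟩ : ∃ γ : (∀ i, Matrix.GeneralLinearGroup (Fin (n i)) B) →* Bˣ,
        ∀ s, γ s = ∏ i, Matrix.GeneralLinearGroup.det (s i) ^ (m i) :=
      ⟨{ toFun := fun s => ∏ i, Matrix.GeneralLinearGroup.det (s i) ^ (m i)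
         map_one' := by simp
         map_mul' := by
           intro s t
           simp only [Pi.mul_apply, map_mul, mul_zpow, Finset.prod_mul_distrib] }, fun s => rfl⟩
    rw [← hγ]
    have : α B = γ := by
      apply MonoidHom.pi_ext
      intro i x
      rw [hm i B x, hγ, hprod]
    rw [this]
  · intro m' hm'
    funext i₀
    have h1 := hm' (AddMonoidAlgebra R ℤ)
      (Pi.mulSingle i₀ (dG (AddMonoidAlgebra R ℤ) ⟨0, hn i₀⟩ (uG R (1 : ℤ))))
    rw [hm i₀, hprod, det_dG] at h1
    exact (uG_pow_inj R _ _ h1).symm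

end Groth.Agent.S5659
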