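import Groth.Statements.S5670
import Groth.Agent.Lib.Helper89.FLFBase

set_option autoImplicit false
universe u
open Pi1

namespace Groth.Agent.S5670

open CategoryTheory CategoryTheory.Limits AlgebraicGeometry in
/-- Let `f : X → Y` be a proper morphism of Noetherian schemes such that `O_Y → f_* O_X` is an
isomorphism (bijective on sections over every open of `Y`). Then for every connected finite étale
`Y'` over `Y`, the base change `X ×_Y Y'` is connected; equivalently, `f` induces a surjection on
étale fundamental groups. -/
theorem result {X Y Y' : Scheme.{u}} (f : X ⟶ Y) [IsProper f] [IsNoetherian X] [IsNoetherian Y] (hf : ∀ U : Y.Opens, Function.Bijective (f.app U)) (g : Y' ⟶ Y) [IsFinite g] [Etale g] [ConnectedSpace Y'] : ConnectedSpace ↥(pullback f g) := by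
  have H : IsPullback (pullback.snd f g) (pullback.fst f g) g f :=
    (IsPullback.of_hasPullback f g).flip
  have hbij : Function.Bijective ((pullback.snd f g).app ⊤).hom :=
    Groth.Agent.Lib.Helper89.FLFBase.appTop_bijective_of_isPullback H hf
  have hne : Nonempty ↥(pullback f g) := by
    by_contra hempty
    rw [not_nonempty_iff] at hempty
    have h1 := Groth.Agent.Lib.Helper89.SchemeIdem.clopen_inj_of_app_bijective (pullback.snd f g) hbij
      (∅ : Set Y') isClopen_empty (Set.eq_univ_of_forall fun x => (hempty.false x).elim)
    obtain ⟨y⟩ := (inferInstance : Nonempty Y')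
    have : y ∈ (∅ : Set Y') := by rw [h1]; trivial
    exact this
  have : PreconnectedSpace ↥(pullback f g) := by
    rw [preconnectedSpace_iff_clopen]
    intro T hT
    obtain ⟨R, hR, hRT⟩ :=
      Groth.Agent.Lib.Helper89.SchemeIdem.clopen_surj_of_app_bijective (pullback.snd f g) hbij T hT
    rcases isClopen_iff.mp hR with h | h
    · left
      rw [← hRT, h, Set.preimage_empty]
    · right
      rw [← hRT, h, Set.preimage_univ]
  exact { toNonempty := hne }

end Groth.Agent.S5670
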