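import Groth.Statements.S5683
import Groth.Agent.Lib.Helper56.PullTensorB
import Groth.Agent.Lib.Helper48.TensorDesc
import Groth.Agent.Lib.Ample.Helper50_LocalGen
import Groth.Agent.Lib.Ample.Helper50_GenPow
import Groth.Agent.S19458
-- import your own Groth.Agent.* helpers here

set_option autoImplicit false
universe u
open CategoryTheory CategoryTheory.Limits AlgebraicGeometry
open FGA

namespace Groth.Agent.S5683

section Aux

open Groth.Agent.Lib.Ample Groth.Agent.Lib.QCoh Groth.Agent.Lib.Helper48
  Groth.Agent.Lib.Proj.PullSec Groth.Agent.Lib.Helper56.PullTensor TopologicalSpace Opposite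
  Scheme.Modules

variable {X S : Scheme.{u}}

/-- a generator of the structure sheaf is a unit -/
lemma isUnit_of_isGenerator_unit {W : X.Opens} (g : Γ(X, W))
    (hg : IsGenerator (Coh.structureModule X) W (show Γ(Coh.structureModule X, W) from g)) :
    IsUnit g := by
  obtain ⟨a, ha⟩ := (isGenerator_bijective_self hg).2
    (show Γ(Coh.structureModule X, W) from (1 : Γ(X, W)))
  have ha' : (show Γ(X, W) from a) * g = 1 := ha
  exact IsUnit.of_mul_eq_one (show Γ(X, W) from a) (by rw [mul_comm]; exact ha')

/-- if `f_* O_X = O_S` and `f^* L` is trivial then `L ≅ f_* O_X` -/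
theorem nonempty_iso_push (f : X ⟶ S) (hf : ∀ U : S.Opens, Function.Bijective (f.app U))
    (L : S.Modules) (hL : PicF.IsInvertible L)
    (θ : (Scheme.Modules.pullback f).obj L ≅ Coh.structureModule X) :
    Nonempty (L ≅ (Scheme.Modules.pushforward f).obj (Coh.structureModule X)) := by
  obtain ⟨φ, hφ⟩ : ∃ φ : L ⟶ (Scheme.Modules.pushforward f).obj (Coh.structureModule X),
      φ = (pullbackPushforwardAdjunction f).unit.app L ≫
        (Scheme.Modules.pushforward f).map θ.hom := ⟨_, rfl⟩
  have happ : ∀ (V : S.Opens) (e : Γ(L, V)),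
      φ.app V e = θ.hom.app (f ⁻¹ᵁ V) (pullSecOn f L V e) := by
    intro V e
    rw [hφ]
    rfl
  haveI : IsIso φ := by
    refine TensorDesc.isIso_of_isGenerator φ (fun y => ?_)
    obtain ⟨V, hVaff, hyV, -, e, he⟩ :=
      exists_isAffineOpen_isGenerator_of_isInvertible hL y ⊤ trivial
    refine ⟨V, hyV, e, he, ?_⟩
    obtain ⟨b, hb⟩ : ∃ b : Γ(X, f ⁻¹ᵁ V),
        b = (show Γ(X, f ⁻¹ᵁ V) from θ.hom.app (f ⁻¹ᵁ V) (pullSecOn f L V e)) := ⟨_, rfl⟩
    have hbu : IsUnit b := by
      refine RingedSpace.isUnit_of_isUnit_germ X.toRingedSpace (f ⁻¹ᵁ V) b (fun x hx => ?_)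
      obtain ⟨W, hW, hxW, hWV⟩ := Opens.isBasis_iff_nbhd.1 X.isBasis_affineOpens hx
      have hp0 : IsGenerator ((Scheme.Modules.pullback f).obj L) W
          (θ.inv.app W (show Γ(Coh.structureModule X, W) from (1 : Γ(X, W)))) :=
        Groth.Agent.S19458.isGenerator_of_iso θ.inv (isGenerator_one W)
      have hp1 := isGenerator_res_pullSecOn f hL hVaff he hW hWV hp0
      have hp2 := Groth.Agent.S19458.isGenerator_of_iso θ.hom hp1
      have hnat : θ.hom.app W
          (resSec ((Scheme.Modules.pullback f).obj L) hWV (pullSecOn f L V e)) =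
          (show Γ(Coh.structureModule X, W) from X.presheaf.map (homOfLE hWV).op b) := by
        rw [hb]
        exact app_naturality_apply θ.hom (homOfLE hWV) (pullSecOn f L V e)
      rw [hnat] at hp2
      have hu : IsUnit (X.presheaf.map (homOfLE hWV).op b) := isUnit_of_isGenerator_unit _ hp2
      have hxb : x ∈ X.basicOpen (X.presheaf.map (homOfLE hWV).op b) := by
        rw [X.basicOpen_of_isUnit hu]; exact hxW
      rw [Scheme.basicOpen_res] at hxb
      exact (X.mem_basicOpen b x hx).1 hxb.2
    rw [isGenerator_iff]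
    intro V' hV'
    have hle : f ⁻¹ᵁ V' ≤ f ⁻¹ᵁ V := fun _ hx => hV' hx
    have hbV : IsUnit (X.presheaf.map (homOfLE hle).op b) :=
      hbu.map (X.presheaf.map (homOfLE hle).op).hom
    have h2 : Function.Bijective
        (fun r : Γ(X, f ⁻¹ᵁ V') => r * X.presheaf.map (homOfLE hle).op b) :=
      IsUnit.isUnit_iff_mulRight_bijective.1 hbV
    have h3 := h2.comp (hf V')
    have e3 : (fun a : Γ(S, V') =>
        a • ((Scheme.Modules.pushforward f).obj (Coh.structureModule X)).presheaf.map
          (homOfLE hV').op (φ.app V e)) =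
        (fun r : Γ(X, f ⁻¹ᵁ V') => r * X.presheaf.map (homOfLE hle).op b) ∘ (f.app V') := by
      funext a
      rw [happ, hb]
      rfl
    rw [e3]
    exact h3
  exact ⟨asIso φ⟩

end Aux

/-- Let f : X ⟶ S be a morphism of schemes such that for every open U of S the induced map from sections
of the structure sheaf of S over U to sections of the structure sheaf of X over the inverse image of
U is bijective. If L is an invertible module on S whose pullback to X is isomorphic to the structure
sheaf of X, then L is isomorphic to the structure sheaf of S: pullback of invertible modules along f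
is injective on isomorphism classes. This is exactness at Pic(S). -/
theorem result {X S : Scheme.{u}} (f : X ⟶ S)
    (hf : ∀ U : S.Opens, Function.Bijective (f.app U)) (L : S.Modules) (hL : PicF.IsInvertible L)
    (htriv : Nonempty ((Scheme.Modules.pullback f).obj L ≅ Coh.structureModule X)) :
    Nonempty (L ≅ Coh.structureModule S) := by
  obtain ⟨θ⟩ := htriv
  obtain ⟨e1⟩ := nonempty_iso_push f hf L hL θ
  obtain ⟨e2⟩ := nonempty_iso_push f hf (Coh.structureModule S)
    (Groth.Agent.Lib.QCoh.isInvertible_structureModule S) (Groth.Agent.Lib.QCoh.pullbackUnitIso f)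
  exact ⟨e1 ≪≫ e2.symm⟩

end Groth.Agent.S5683
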