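import Groth.Statements.S5691
import Mathlib.CategoryTheory.Elements
import Mathlib.CategoryTheory.Limits.Types.Filtered
import Mathlib.CategoryTheory.Limits.Types.Equalizers
import Mathlib.CategoryTheory.Limits.Preserves.Shapes.BinaryProducts
import Mathlib.CategoryTheory.Limits.Preserves.Shapes.Equalizers
import Mathlib.CategoryTheory.Limits.Preserves.Shapes.Terminal
import Mathlib.CategoryTheory.Subobject.Lattice

set_option autoImplicit false
universe u
open CategoryTheory CategoryTheory.Limits
open FGA

namespace Groth.Agent.S5691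

section Helpers

open Opposite

variable {C : Type u} [SmallCategory C] [HasFiniteLimits C] (F : C ⥤ Type u)

/-- Minimal elements of `F`. -/
def IsMin (p : F.Elements) : Prop :=
  ∀ (Y : C) (i : Y ⟶ p.1) [Mono i] (y : F.obj Y), F.map i y = p.2 → IsIso i

lemma exists_min (hart : ∀ X : C, IsArtinianObject X) (p : F.Elements) :
    ∃ q : F.Elements, IsMin F q ∧ Nonempty (q ⟶ p) := by
  obtain ⟨X, x⟩ := p
  have := hart X
  let S : Set (Subobject X) := {S | ∃ y : F.obj (S : C), F.map S.arrow y = x}
  have hne : S.Nonempty := by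
    refine ⟨⊤, F.map (inv (⊤ : Subobject X).arrow) x, ?_⟩
    rw [← Functor.map_comp_apply, IsIso.inv_hom_id, Functor.map_id_apply]
  obtain ⟨S₀, ⟨x', hx'⟩, hmin⟩ := (wellFounded_lt (α := Subobject X)).has_min S hne
  refine ⟨⟨(S₀ : C), x'⟩, ?_, ⟨⟨S₀.arrow, hx'⟩⟩⟩
  intro Y j _ y hy
  have hgood : Subobject.mk (j ≫ S₀.arrow) ∈ S := by
    refine ⟨F.map (Subobject.underlyingIso (j ≫ S₀.arrow)).inv y, ?_⟩
    rw [← Functor.map_comp_apply, Subobject.underlyingIso_arrow,
      Functor.map_comp_apply, hy, hx']
  by_contra hj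
  have hlt : Subobject.mk (j ≫ S₀.arrow) < Subobject.mk S₀.arrow :=
    Subobject.mk_lt_mk_of_comm j rfl hj
  rw [Subobject.mk_arrow] at hlt
  exact hmin _ hgood hlt

variable [PreservesFiniteLimits F]

lemma eq_of_isMin {X' : C} {x' : F.obj X'} (hq : IsMin F ⟨X', x'⟩) {X : C} (u v : X' ⟶ X)
    (h : F.map u x' = F.map v x') : u = v := by
  have hl := isLimitForkMapOfIsLimit F (equalizer.condition u v) (equalizerIsEqualizer u v)
  obtain ⟨e, he, -⟩ := Types.unique_of_type_equalizer _ _ hl x' h
  have := hq _ (equalizer.ι u v) e he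
  exact eq_of_epi_equalizer

end Helpers

/-- Let C be a small category with finite limits all of whose objects are artinian (the subobjects of
each object satisfy the descending chain condition), and let F be a set-valued functor on C
preserving finite limits. Then F is strictly pro-representable: there are a small cofiltered
category J and a diagram D : J ⥤ C all of whose transition morphisms are epimorphisms such that F is
isomorphic to the colimit of the corepresentable functors Hom(D j, -). -/
theorem result {C : Type u} [SmallCategory C]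
    [HasFiniteLimits C] (hart : ∀ X : C, IsArtinianObject X) (F : C ⥤ Type u) [PreservesFiniteLimits F] :
    ∃ (J : Type u) (_ : SmallCategory J) (_ : IsCofiltered J) (D : J ⥤ C),
      (∀ ⦃j j' : J⦄ (a : j ⟶ j'), Epi (D.map a)) ∧ Nonempty (F ≅ colimit (D.op ⋙ coyoneda)) := by
  classical
  let P : ObjectProperty F.Elements := IsMin F
  let D : P.FullSubcategory ⥤ C := P.ι ⋙ CategoryOfElements.π F
  -- key facts
  have hex : ∀ p : F.Elements, ∃ q : P.FullSubcategory, Nonempty (q.obj ⟶ p) := by
    intro p
    obtain ⟨q, hq, hqp⟩ := exists_min F hart p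
    exact ⟨⟨q, hq⟩, hqp⟩
  have hthin : ∀ (j : P.FullSubcategory) {X : C} (u v : D.obj j ⟶ X),
      F.map u j.obj.2 = F.map v j.obj.2 → u = v := by
    rintro ⟨⟨X', x'⟩, hj⟩ X u v h
    exact eq_of_isMin F hj u v h
  have hthin' : ∀ {j j' : P.FullSubcategory} (a b : j ⟶ j'), a = b := by
    intro j j' a b
    apply ObjectProperty.hom_ext
    apply CategoryOfElements.ext
    exact hthin j _ _ (a.hom.2.trans b.hom.2.symm)
  have hcof : IsCofiltered P.FullSubcategory := by
    have hne : Nonempty P.FullSubcategory := by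
      have hT : IsTerminal (F.obj (⊤_ C)) := IsTerminal.isTerminalObj F _ terminalIsTerminal
      have := (Types.isTerminalEquivUnique _) hT
      obtain ⟨q, -⟩ := hex ⟨⊤_ C, default⟩
      exact ⟨q⟩
    have : IsCofilteredOrEmpty P.FullSubcategory := by
      constructor
      · rintro ⟨⟨X₁, x₁⟩, h₁⟩ ⟨⟨X₂, x₂⟩, h₂⟩
        have hl := mapIsLimitOfPreservesOfIsLimit F _ _ (prodIsProd X₁ X₂)
        let z : F.obj (X₁ ⨯ X₂) := hl.lift (BinaryFan.mk (P := PUnit.{u + 1})
          (↾fun _ => x₁) (↾fun _ => x₂)) PUnit.unit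
        have hz₁ : F.map prod.fst z = x₁ :=
          ConcreteCategory.congr_hom (hl.fac (BinaryFan.mk (P := PUnit.{u + 1})
            (↾fun _ => x₁) (↾fun _ => x₂)) ⟨WalkingPair.left⟩) PUnit.unit
        have hz₂ : F.map prod.snd z = x₂ :=
          ConcreteCategory.congr_hom (hl.fac (BinaryFan.mk (P := PUnit.{u + 1})
            (↾fun _ => x₁) (↾fun _ => x₂)) ⟨WalkingPair.right⟩) PUnit.unit
        obtain ⟨q, ⟨a⟩⟩ := hex ⟨X₁ ⨯ X₂, z⟩
        refine ⟨q, ObjectProperty.homMk ⟨a.1 ≫ prod.fst, ?_⟩,
          ObjectProperty.homMk ⟨a.1 ≫ prod.snd, ?_⟩, trivial⟩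
        · rw [Functor.map_comp_apply, a.2]
          exact hz₁
        · rw [Functor.map_comp_apply, a.2]
          exact hz₂
      · intro j j' a b
        exact ⟨j, 𝟙 j, by rw [hthin' a b]⟩
    exact { nonempty := hne }
  refine ⟨P.FullSubcategory, inferInstance, hcof, D, ?_, ?_⟩
  · intro j j' a
    constructor
    intro Z g h hgh
    apply hthin j'
    have ha : F.map (D.map a) j.obj.2 = j'.obj.2 := a.hom.2
    rw [← ha, ← Functor.map_comp_apply, ← Functor.map_comp_apply, hgh]
  · let t : Cocone (D.op ⋙ coyoneda) :=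
      { pt := F
        ι :=
          { app := fun j => coyonedaEquiv.symm j.unop.obj.2
            naturality := by
              intro j j' a
              ext Y f
              have ha : F.map (D.map a.unop) j'.unop.obj.2 = j.unop.obj.2 := a.unop.hom.2
              simp [coyonedaEquiv, ← ha] } }
    have ht : IsColimit t := by
      refine evaluationJointlyReflectsColimits t (fun Y => ?_)
      refine Types.FilteredColimit.isColimitOf _ _ ?_ ?_
      · intro y
        obtain ⟨q, ⟨a⟩⟩ := hex ⟨Y, y⟩
        exact ⟨Opposite.op q, a.1, a.2.symm⟩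
      · intro j j' f f' hff'
        obtain ⟨k, a, b, -⟩ := IsCofilteredOrEmpty.cone_objs j.unop j'.unop
        refine ⟨Opposite.op k, a.op, b.op, ?_⟩
        apply hthin k
        have ha : F.map (D.map a) k.obj.2 = j.unop.obj.2 := a.hom.2
        have hb : F.map (D.map b) k.obj.2 = j'.unop.obj.2 := b.hom.2
        have h1 : F.map f j.unop.obj.2 = F.map f' j'.unop.obj.2 := hff'
        change F.map (D.map a ≫ f) k.obj.2 = F.map (D.map b ≫ f') k.obj.2
        rw [Functor.map_comp_apply, Functor.map_comp_apply, ha, hb, h1]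
    exact ⟨ht.coconePointUniqueUpToIso (colimit.isColimit _)⟩

end Groth.Agent.S5691
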