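import Groth.Statements.S5692
import Groth.Agent.Lib.QCoh.Helper74_FittStrat

set_option autoImplicit false
universe u
open CategoryTheory CategoryTheory.Limits AlgebraicGeometry
open FGA

namespace Groth.Agent.S5692

/-- Let S be a locally Noetherian scheme, M a coherent module on S and r a natural number. Then there is
an immersion e : Z ⟶ S with the following universal property: for every scheme T and every morphism
g : T ⟶ S, the pullback of M along g is locally free of rank r if and only if g factors through e.
If moreover M is generated by r sections on a neighbourhood of every point of S (equivalently all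
fibres of M have rank at most r), then e is a closed immersion. -/
theorem result (S : Scheme.{u}) [IsLocallyNoetherian S]
    (M : S.Modules) (hM : Coh.IsCoh M) (r : ℕ) :
    ∃ (Z : Scheme.{u}) (e : Z ⟶ S), IsImmersion e ∧
      (∀ (T : Scheme.{u}) (g : T ⟶ S),
        FlatMod.IsFinLocFreeOfRank r ((Scheme.Modules.pullback g).obj M) ↔ ∃ g' : T ⟶ Z, g' ≫ e = g) ∧
      ((∀ s : ↥S, ∃ U : S.Opens, s ∈ U ∧ ∃ p : FlatMod.freeMod (↑U) r ⟶ M.restrict U.ι, Epi p) →
        IsClosedImmersion e) := by
  classical
  open Groth.Agent.Lib.QCoh.FittSheaf74 Groth.Agent.Lib.QCoh TopologicalSpace in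
  have hq : M.IsQuasicoherent := hM.1
  have hft : M.IsFiniteType := hM.2
  let J : S.IdealSheafData := if r = 0 then ⊥ else Fitt.sheafIdeal M (r - 1)
  let W : S.Opens := (Fitt.sheafIdeal M r).support.compl
  let U : J.subscheme.Opens := J.subschemeι ⁻¹ᵁ W
  have hJk : ∀ k : ℕ, k < r → Fitt.sheafIdeal M k ≤ J := by
    intro k hk
    have hr : r ≠ 0 := by omega
    simp only [J, if_neg hr]
    exact sheafIdeal_mono M (by omega)
  refine ⟨U, U.ι ≫ J.subschemeι, inferInstance, fun T f => ?_, fun hcond => ?_⟩
  · rw [isFinLocFreeOfRank_pullback_iff]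
    constructor
    · rintro ⟨h0, h1⟩
      have hJ : J ≤ f.ker := by
        by_cases hr : r = 0
        · simp only [J, if_pos hr]; exact bot_le
        · simp only [J, if_neg hr]
          rw [← Scheme.IdealSheafData.map_bot, Scheme.IdealSheafData.le_map_iff_comap_le,
            h0 (r - 1) (by omega)]
      have hJ' : J.subschemeι.ker ≤ f.ker := by rwa [J.ker_subschemeι]
      let g₀ : T ⟶ J.subscheme := IsClosedImmersion.lift J.subschemeι f hJ'
      have hg₀ : g₀ ≫ J.subschemeι = f := IsClosedImmersion.lift_fac _ _ _
      have hsupp : ∀ t : T, f t ∉ (Fitt.sheafIdeal M r).support := by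
        intro t ht
        have h2 : t ∈ ((Fitt.sheafIdeal M r).comap f).support := by
          rw [Scheme.IdealSheafData.support_comap]; exact ht
        rw [h1, Scheme.IdealSheafData.support_top] at h2
        exact h2
      have hrange : Set.range g₀ ⊆ Set.range U.ι := by
        rintro _ ⟨t, rfl⟩
        rw [Scheme.Opens.range_ι]
        show J.subschemeι (g₀ t) ∈ W
        have : J.subschemeι (g₀ t) = f t := by rw [← hg₀]; rfl
        rw [this]
        exact hsupp t
      refine ⟨IsOpenImmersion.lift U.ι g₀ hrange, ?_⟩
      rw [← Category.assoc, IsOpenImmersion.lift_fac, hg₀]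
    · rintro ⟨g, rfl⟩
      refine ⟨fun k hk => ?_, ?_⟩
      · rw [eq_bot_iff, ← Scheme.IdealSheafData.le_map_iff_comap_le,
          Scheme.IdealSheafData.map_bot]
        calc Fitt.sheafIdeal M k ≤ J := hJk k hk
          _ = J.subschemeι.ker := J.ker_subschemeι.symm
          _ ≤ ((g ≫ U.ι) ≫ J.subschemeι).ker := Scheme.Hom.le_ker_comp _ _
          _ = (g ≫ U.ι ≫ J.subschemeι).ker := by rw [Category.assoc]
      · rw [← Scheme.IdealSheafData.support_eq_bot_iff, Scheme.IdealSheafData.support_comap]
        apply TopologicalSpace.Closeds.ext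
        ext t
        simp only [Closeds.coe_preimage, Set.mem_preimage, SetLike.mem_coe, Closeds.coe_bot,
          Set.mem_empty_iff_false, iff_false]
        have h1 : (U.ι (g t) : J.subscheme) ∈ U := (g t).2
        have h2 : J.subschemeι (U.ι (g t)) ∈ W := h1
        exact h2
  · have hW : ∀ x : S, x ∈ W := fun x =>
      (exists_epi_iff_notMem_support M x r).1 (hcond x)
    have hU : (U : Set J.subscheme) = Set.univ := by
      ext z
      simp only [Set.mem_univ, iff_true]
      exact hW (J.subschemeι z)
    apply IsClosedImmersion.of_isPreimmersion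
    rw [Scheme.Hom.comp_base, TopCat.coe_comp, Set.range_comp]
    have : Set.range U.ι = (U : Set J.subscheme) := Scheme.Opens.range_ι U
    rw [this, hU, Set.image_univ]
    exact J.subschemeι.isClosedEmbedding.isClosed_range

end Groth.Agent.S5692
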