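import Groth.Statements.S5701
import Mathlib
import Groth.Agent.Lib.Helper52.EtCentF

set_option autoImplicit false
universe u v
open TensorProduct
open Dix

namespace Groth.Agent.S5701

/-- Let k be a field and A a finite-dimensional k-algebra which is absolutely semisimple (its base
change to an algebraic closure of k is a semisimple ring). For a subalgebra L of A, call L étale
when it is commutative and all its elements are separable over k. Then L is étale and equal to its
own centralizer in A if and only if L is a maximal étale subalgebra of A. -/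
theorem result (k : Type u) [Field k] (A : Type v) [Ring A] [Algebra k A] [FiniteDimensional k A] (hss : IsSemisimpleRing (AlgebraicClosure k ⊗[k] A)) (L : Subalgebra k A) : ((∀ x ∈ L, ∀ y ∈ L, x * y = y * x) ∧ Algebra.IsSeparable k L ∧ Subalgebra.centralizer k (L : Set A) = L) ↔ ((∀ x ∈ L, ∀ y ∈ L, x * y = y * x) ∧ Algebra.IsSeparable k L ∧ ∀ L' : Subalgebra k A, (∀ x ∈ L', ∀ y ∈ L', x * y = y * x) → Algebra.IsSeparable k L' → L ≤ L' → L' = L) := by
  constructor
  · rintro ⟨hcomm, hsep, hcent⟩
    refine ⟨hcomm, hsep, fun L' hc' _ hle => le_antisymm ?_ hle⟩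
    intro x hx
    rw [← hcent, Subalgebra.mem_centralizer_iff]
    intro g hg
    exact hc' g (hle hg) x hx
  · rintro ⟨hcomm, hsep, hmax⟩
    refine ⟨hcomm, hsep, le_antisymm ?_ ?_⟩
    · exact Groth.Agent.Lib.Helper52.EtCentF.centralizer_le hss L hcomm hsep hmax
    · intro x hx
      rw [Subalgebra.mem_centralizer_iff]
      intro g hg
      exact hcomm g hg x hx

end Groth.Agent.S5701
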