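import Groth.Statements.S5704
import Mathlib
import Groth.Agent.Lib.Helper52.SCModuli
import Groth.Agent.Lib.Helper35.SmoothSection
import Groth.Agent.Lib.Helper59.CSA

set_option autoImplicit false
universe u v
open TensorProduct
open Dix

namespace Groth.Agent.S5704

/-- Let R be a henselian local ring with residue field k and let A₀ be a finite-dimensional central
simple k-algebra. Then there exists an Azumaya algebra A over R whose special fibre k ⊗_R A is
isomorphic to A₀ as a k-algebra. -/
theorem result (R : Type u) [CommRing R] [HenselianLocalRing R] (A₀ : Type u) [Ring A₀] [Algebra (IsLocalRing.ResidueField R) A₀] [Algebra.IsCentral (IsLocalRing.ResidueField R) A₀] [IsSimpleRing A₀] [FiniteDimensional (IsLocalRing.ResidueField R) A₀] : ∃ (A : Type u) (_ : Ring A) (_ : Algebra R A), IsAzumaya R A ∧ Nonempty ((IsLocalRing.ResidueField R ⊗[R] A) ≃ₐ[IsLocalRing.ResidueField R] A₀) := by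
  classical
  -- a basis of `A₀` containing `1`
  have hs : LinearIndepOn (IsLocalRing.ResidueField R) id ({1} : Set A₀) :=
    LinearIndepOn.singleton (by simp)
  let b₀ := Module.Basis.extend hs
  haveI : Fintype ↥(hs.extend (Set.subset_univ _)) := FiniteDimensional.fintypeBasisIndex b₀
  let o : ↥(hs.extend (Set.subset_univ _)) :=
    ⟨1, Module.Basis.subset_extend hs (Set.mem_singleton 1)⟩
  have ho : b₀ o = 1 := Module.Basis.extend_apply_self hs o
  -- its structure constants define a point of the moduli algebra over the residue field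
  have hAz : IsAzumaya (IsLocalRing.ResidueField R) A₀ :=
    Groth.Agent.Lib.Helper59.CSA.isAzumaya_of_csa
  have hcb := Groth.Agent.Lib.Helper52.SCAzu.isSC_sc b₀ ho
  obtain ⟨u, hu⟩ := Groth.Agent.Lib.Helper52.SCAzu.isUnit_det_of_bijective b₀ hAz.bij
  have hut : (Groth.Agent.Lib.Helper52.SCAzu.Dm (Groth.Agent.Lib.Helper52.SCAzu.sc b₀)).det *
      ((u⁻¹ : (IsLocalRing.ResidueField R)ˣ) : IsLocalRing.ResidueField R) = 1 := by
    rw [← hu]
    exact u.mul_inv
  let ū : Groth.Agent.Lib.Helper52.SCModuli.B R _ o →ₐ[R] IsLocalRing.ResidueField R :=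
    Groth.Agent.Lib.Helper52.SCModuli.ofPt (Groth.Agent.Lib.Helper52.SCAzu.sc b₀) _ hcb hut
  obtain ⟨σ, hσ1, hσ2⟩ := Groth.Agent.Lib.Helper35.SmoothSection.exists_section_of_henselian R
    (Groth.Agent.Lib.Helper52.SCModuli.B R _ o) ū.toRingHom (by
      rw [← IsLocalRing.ResidueField.algebraMap_eq]
      exact ū.comp_algebraMap)
  -- structure constants over `R`
  let c : ↥(hs.extend (Set.subset_univ _)) → ↥(hs.extend (Set.subset_univ _)) →
      ↥(hs.extend (Set.subset_univ _)) → R :=
    fun i j l => σ (Groth.Agent.Lib.Helper52.SCModuli.cB R _ o i j l)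
  have hc : Groth.Agent.Lib.Helper52.SCAlg.IsSC o c :=
    Groth.Agent.Lib.Helper52.SCModuli.IsSC.map (Groth.Agent.Lib.Helper52.SCModuli.isSC_cB R _ o) σ
  have hcres : ∀ i j l, IsLocalRing.residue R (c i j l) =
      Groth.Agent.Lib.Helper52.SCAzu.sc b₀ i j l := by
    intro i j l
    have h1 := RingHom.congr_fun hσ2 (Groth.Agent.Lib.Helper52.SCModuli.cB R _ o i j l)
    rw [RingHom.comp_apply] at h1
    rw [h1]
    exact Groth.Agent.Lib.Helper52.SCModuli.ofPt_cB _ _ hcb hut i j l
  have hdetc : IsUnit (Groth.Agent.Lib.Helper52.SCAzu.Dm c).det := by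
    have h1 := congrArg σ (Groth.Agent.Lib.Helper52.SCModuli.det_cB R _ o)
    rw [map_mul, map_one, Groth.Agent.Lib.Helper52.SCModuli.det_Dm_map] at h1
    exact IsUnit.of_mul_eq_one _ h1
  have hscbas : Groth.Agent.Lib.Helper52.SCAzu.sc (Groth.Agent.Lib.Helper52.SCAlg.bas c hc) = c :=
    funext fun i => funext fun j => funext fun l =>
      Groth.Agent.Lib.Helper52.SCAlg.repr_bas_mul c hc i j l
  refine ⟨↥(Groth.Agent.Lib.Helper52.SCAlg.Alg c hc), inferInstance, inferInstance, ?_, ?_⟩
  · haveI : Module.Free R (Groth.Agent.Lib.Helper52.SCAlg.Alg c hc) :=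
      Module.Free.of_basis (Groth.Agent.Lib.Helper52.SCAlg.bas c hc)
    haveI : Module.Finite R (Groth.Agent.Lib.Helper52.SCAlg.Alg c hc) :=
      Module.Finite.of_basis (Groth.Agent.Lib.Helper52.SCAlg.bas c hc)
    haveI : FaithfulSMul R (Groth.Agent.Lib.Helper52.SCAlg.Alg c hc) := ⟨fun {r r'} h => by
      have h1 := h (Groth.Agent.Lib.Helper52.SCAlg.bas c hc o)
      have h2 := congrArg (fun x => (Groth.Agent.Lib.Helper52.SCAlg.bas c hc).repr x o) h1
      simp only [map_smul, Finsupp.smul_apply, Module.Basis.repr_self, Finsupp.single_eq_same,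
        smul_eq_mul, mul_one] at h2
      exact h2⟩
    have hbij := Groth.Agent.Lib.Helper52.SCAzu.bijective_of_isUnit_det
      (Groth.Agent.Lib.Helper52.SCAlg.bas c hc) (by rw [hscbas]; exact hdetc)
    exact { bij := hbij }
  · let bk : Module.Basis ↥(hs.extend (Set.subset_univ _)) (IsLocalRing.ResidueField R)
        (IsLocalRing.ResidueField R ⊗[R] ↥(Groth.Agent.Lib.Helper52.SCAlg.Alg c hc)) :=
      Algebra.TensorProduct.basis (IsLocalRing.ResidueField R)
        (Groth.Agent.Lib.Helper52.SCAlg.bas c hc)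
    let L : (IsLocalRing.ResidueField R ⊗[R] ↥(Groth.Agent.Lib.Helper52.SCAlg.Alg c hc))
        ≃ₗ[IsLocalRing.ResidueField R] A₀ := bk.equiv b₀ (Equiv.refl _)
    have hL : ∀ i, L (bk i) = b₀ i := fun i => by
      rw [Module.Basis.equiv_apply]
      rfl
    have hbk : ∀ i, bk i = (1 : IsLocalRing.ResidueField R) ⊗ₜ[R]
        Groth.Agent.Lib.Helper52.SCAlg.bas c hc i :=
      fun i => Algebra.TensorProduct.basis_apply _ i
    have hone : L 1 = 1 := by
      have h1 : (1 : IsLocalRing.ResidueField R ⊗[R]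
          ↥(Groth.Agent.Lib.Helper52.SCAlg.Alg c hc)) = bk o := by
        rw [hbk, Groth.Agent.Lib.Helper52.SCAlg.bas_o]
        rfl
      rw [h1, hL, ho]
    have hmulb : ∀ i j, bk i * bk j =
        ∑ m, Groth.Agent.Lib.Helper52.SCAzu.sc b₀ i j m • bk m := by
      intro i j
      rw [hbk, hbk, Algebra.TensorProduct.tmul_mul_tmul, one_mul,
        Groth.Agent.Lib.Helper52.SCAlg.bas_mul, TensorProduct.tmul_sum]
      refine Finset.sum_congr rfl fun m _ => ?_
      rw [TensorProduct.tmul_smul, ← hcres, hbk, ← IsLocalRing.ResidueField.algebraMap_eq,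
        algebraMap_smul]
    have hmul : ∀ x y, L (x * y) = L x * L y := by
      have h1 : (LinearMap.mul (IsLocalRing.ResidueField R)
          (IsLocalRing.ResidueField R ⊗[R] ↥(Groth.Agent.Lib.Helper52.SCAlg.Alg c hc))).compr₂
            L.toLinearMap =
          (LinearMap.mul (IsLocalRing.ResidueField R) A₀).compl₁₂ L.toLinearMap L.toLinearMap := by
        apply bk.ext
        intro i
        apply bk.ext
        intro j
        simp only [LinearMap.compr₂_apply, LinearMap.mul_apply', LinearMap.compl₁₂_apply,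
          LinearEquiv.coe_coe]
        rw [hmulb, map_sum]
        simp only [map_smul, hL]
        exact (b₀.sum_repr (b₀ i * b₀ j))
      intro x y
      exact LinearMap.congr_fun₂ h1 x y
    exact ⟨AlgEquiv.ofLinearEquiv L hone hmul⟩

end Groth.Agent.S5704
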