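import Groth.Statements.S5710
import Mathlib
import Groth.Agent.S5713
import Groth.Agent.Lib.Helper52.RegularExists
import Groth.Agent.Lib.Helper35.EtaleMonogenic

set_option linter.style.haveILetI false

set_option autoImplicit false
universe u v
open TensorProduct
open Dix

namespace Groth.Agent.S5710

open Polynomial Groth.Agent.Lib.Helper52.RegularCSA Groth.Agent.Lib.Helper52.RegularExists
  Groth.Agent.Lib.Helper59.TPow

section Aux

variable {R : Type u} [CommRing R] (k : Type u) [CommRing k] [Algebra R k]
  {A : Type u} [Ring A] [Algebra R A]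

theorem aeval_one_tmul' (y : A) (p : R[X]) :
    Polynomial.aeval ((1 : k) ⊗ₜ[R] y : k ⊗[R] A) (p.map (algebraMap R k)) =
      (1 : k) ⊗ₜ[R] (Polynomial.aeval y p) := by
  rw [Polynomial.aeval_map_algebraMap]
  have : ((1 : k) ⊗ₜ[R] y : k ⊗[R] A) =
    (Algebra.TensorProduct.includeRight : A →ₐ[R] k ⊗[R] A) y := rfl
  rw [this, Polynomial.aeval_algHom_apply]
  rfl

/-- the powers of the root below the degree span `AdjoinRoot P` for monic `P` -/
theorem linearCombination_root_surjective {P : R[X]} (hP : P.Monic) {r : ℕ}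
    (hr : P.natDegree = r) :
    Function.Surjective (Fintype.linearCombination R
      (fun i : Fin r => (AdjoinRoot.root P) ^ (i : ℕ))) := by
  rcases subsingleton_or_nontrivial R with h | h
  · haveI := Module.subsingleton R (AdjoinRoot P)
    exact fun y => ⟨0, Subsingleton.elim _ _⟩
  rw [← LinearMap.range_eq_top, Fintype.range_linearCombination, eq_top_iff]
  rintro y -
  obtain ⟨f, rfl⟩ := AdjoinRoot.mk_surjective y
  rw [PowerBasis.mem_span_pow']
  refine ⟨f %ₘ P, ?_, ?_⟩
  · have := Polynomial.degree_modByMonic_lt f hP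
    rwa [Polynomial.degree_eq_natDegree hP.ne_zero, hr] at this
  · rw [AdjoinRoot.aeval_eq, AdjoinRoot.mk_eq_mk]
    have := Polynomial.modByMonic_add_div f P
    exact ⟨f /ₘ P, by nth_rewrite 1 [← this]; ring⟩

end Aux

/-- Over a local base where the open neighbourhood is the whole scheme. Let R be a local ring with
residue field k and A an Azumaya algebra over R whose rank as a (free) R-module is r². Then A has a
maximal étale subalgebra: there are a commutative R-algebra E, finite étale and free of rank r over
R, and an R-algebra homomorphism u : E → A which is injective on the special fibre, k ⊗_R E → k ⊗_R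
A. -/
theorem result (R : Type u) [CommRing R] [IsLocalRing R] (A : Type u) [Ring A] [Algebra R A] [IsAzumaya R A] (r : ℕ) (hA : Module.finrank R A = r ^ 2) : ∃ (E : Type u) (_ : CommRing E) (_ : Algebra R E), Algebra.Etale R E ∧ Module.Finite R E ∧ Module.Free R E ∧ Module.finrank R E = r ∧ ∃ u : E →ₐ[R] A, Function.Injective (u.toLinearMap.lTensor (IsLocalRing.ResidueField R)) := by
  classical
  haveI : Module.Free R A := Module.free_of_flat_of_isLocalRing
  haveI : IsAzumaya (IsLocalRing.ResidueField R) (IsLocalRing.ResidueField R ⊗[R] A) :=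
    Groth.Agent.Lib.Helper46.Azumaya.isAzumaya_baseChange R (IsLocalRing.ResidueField R) A
  have hCSA : IsCSA (IsLocalRing.ResidueField R) (IsLocalRing.ResidueField R ⊗[R] A) :=
    ⟨Groth.Agent.Lib.Helper59.CSA.isCentral_of_isAzumaya (K := IsLocalRing.ResidueField R),
      Groth.Agent.Lib.Helper59.CSA.isSimpleRing_of_isAzumaya (K := IsLocalRing.ResidueField R),
      Groth.Agent.Lib.Helper59.CSA.finiteDimensional_of_isAzumaya
        (K := IsLocalRing.ResidueField R)⟩
  haveI := hCSA.fd
  haveI := hCSA.simple
  have hfr : Module.finrank (IsLocalRing.ResidueField R) (IsLocalRing.ResidueField R ⊗[R] A) =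
      r ^ 2 := by rw [Module.finrank_baseChange, hA]
  have hr0 : r ≠ 0 := by
    rintro rfl
    have : 0 < Module.finrank (IsLocalRing.ResidueField R) (IsLocalRing.ResidueField R ⊗[R] A) :=
      Module.finrank_pos
    rw [hfr] at this
    exact absurd this (by norm_num)
  obtain ⟨xb, hsep, hrk⟩ := exists_regular hCSA hfr
  obtain ⟨ξ, rfl⟩ := TensorProduct.mk_surjective R A (IsLocalRing.ResidueField R)
    IsLocalRing.residue_surjective xb
  rw [TensorProduct.mk_apply] at hsep hrk
  obtain ⟨hli, hmem⟩ := Groth.Agent.S5713.result R A r hA ξ hsep hrk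
  rw [← Fintype.range_linearCombination] at hmem
  obtain ⟨c, hc⟩ := hmem
  rw [Fintype.linearCombination_apply] at hc
  -- the polynomial
  obtain ⟨q, hq⟩ : ∃ q : R[X], q = ∑ i : Fin r, C (c i) * X ^ (i : ℕ) := ⟨_, rfl⟩
  have hqdeg : q.degree < r := by rw [hq]; exact Polynomial.degree_sum_fin_lt c
  obtain ⟨P, hP⟩ : ∃ P : R[X], P = X ^ r - q := ⟨_, rfl⟩
  have hPm : P.Monic := by rw [hP]; exact Polynomial.monic_X_pow_sub hqdeg
  have hPdeg : P.natDegree = r := by
    apply Polynomial.natDegree_eq_of_degree_eq_some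
    rw [hP, Polynomial.degree_sub_eq_left_of_degree_lt, Polynomial.degree_X_pow]
    rwa [Polynomial.degree_X_pow]
  have hPξ : Polynomial.aeval ξ P = 0 := by
    rw [hP, map_sub, map_pow, Polynomial.aeval_X, hq, map_sum, ← hc, sub_eq_zero]
    refine Finset.sum_congr rfl fun i _ => ?_
    rw [map_mul, Polynomial.aeval_C, map_pow, Polynomial.aeval_X, Algebra.smul_def]
  -- the reduction of `P` is the minimal polynomial of `1 ⊗ ξ`
  have hint : IsIntegral (IsLocalRing.ResidueField R)
      ((1 : IsLocalRing.ResidueField R) ⊗ₜ[R] ξ : IsLocalRing.ResidueField R ⊗[R] A) :=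
    IsIntegral.of_finite _ _
  have hmin : P.map (IsLocalRing.residue R) = minpoly (IsLocalRing.ResidueField R)
      ((1 : IsLocalRing.ResidueField R) ⊗ₜ[R] ξ : IsLocalRing.ResidueField R ⊗[R] A) := by
    have h0 : Polynomial.aeval ((1 : IsLocalRing.ResidueField R) ⊗ₜ[R] ξ :
        IsLocalRing.ResidueField R ⊗[R] A) (P.map (algebraMap R (IsLocalRing.ResidueField R))) =
        0 := by
      rw [aeval_one_tmul', hPξ, TensorProduct.tmul_zero]
    have hdvd := minpoly.dvd (IsLocalRing.ResidueField R) _ h0
    refine Polynomial.eq_of_monic_of_dvd_of_natDegree_le (minpoly.monic hint) (hPm.map _) hdvd ?_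
    rw [natDegree_minpoly_eq_finrank_adjoin hint, hrk]
    exact (Polynomial.natDegree_map_le).trans hPdeg.le
  have hsepP : (P.map (IsLocalRing.residue R)).Separable := by
    rw [hmin]
    have h1 := Algebra.IsSeparable.isSeparable (IsLocalRing.ResidueField R)
      (⟨_, Algebra.self_mem_adjoin_singleton (IsLocalRing.ResidueField R)
        ((1 : IsLocalRing.ResidueField R) ⊗ₜ[R] ξ : IsLocalRing.ResidueField R ⊗[R] A)⟩ :
        Algebra.adjoin (IsLocalRing.ResidueField R)
          ({(1 : IsLocalRing.ResidueField R) ⊗ₜ[R] ξ} : Set (IsLocalRing.ResidueField R ⊗[R] A)))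
    have h2 := minpoly.algHom_eq (Algebra.adjoin (IsLocalRing.ResidueField R)
      ({(1 : IsLocalRing.ResidueField R) ⊗ₜ[R] ξ} : Set (IsLocalRing.ResidueField R ⊗[R] A))).val
      Subtype.val_injective ⟨_, Algebra.self_mem_adjoin_singleton (IsLocalRing.ResidueField R)
        ((1 : IsLocalRing.ResidueField R) ⊗ₜ[R] ξ : IsLocalRing.ResidueField R ⊗[R] A)⟩
    rw [IsSeparable, ← h2] at h1
    exact h1
  have hPs : P.Separable :=
    Groth.Agent.Lib.Helper35.EtaleMonogenic.separable_of_map_residue R P hPm hsepP
  have hEt : Algebra.Etale R (AdjoinRoot P) :=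
    Groth.Agent.Lib.Helper35.EtaleMonogenic.etale_quotient_of_separable P hPm hPs
  have hker : ∀ a : R[X], a ∈ Ideal.span ({P} : Set R[X]) → Polynomial.aeval ξ a = 0 := by
    intro a ha
    obtain ⟨b, rfl⟩ := Ideal.mem_span_singleton.mp ha
    rw [map_mul, hPξ, zero_mul]
  let u : AdjoinRoot P →ₐ[R] A :=
    Ideal.Quotient.liftₐ (Ideal.span ({P} : Set R[X])) (Polynomial.aeval ξ) hker
  have hu : ∀ f : R[X], u (AdjoinRoot.mk P f) = Polynomial.aeval ξ f := fun f => rfl
  refine ⟨AdjoinRoot P, inferInstance, inferInstance, hEt, hPm.finite_adjoinRoot,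
    hPm.free_adjoinRoot, ?_, u, ?_⟩
  · rw [(AdjoinRoot.powerBasis' hPm).finrank, AdjoinRoot.powerBasis'_dim, hPdeg]
  · -- injectivity on the special fibre
    have hγ := linearCombination_root_surjective hPm hPdeg
    have hcomp : u.toLinearMap ∘ₗ (Fintype.linearCombination R
        (fun i : Fin r => (AdjoinRoot.root P) ^ (i : ℕ))) =
        Fintype.linearCombination R (fun i : Fin r => ξ ^ (i : ℕ)) := by
      apply LinearMap.pi_ext'
      intro i
      ext
      rw [LinearMap.comp_apply, LinearMap.comp_apply, LinearMap.comp_apply,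
        LinearMap.coe_single,
        Fintype.linearCombination_apply_single, Fintype.linearCombination_apply_single,
        one_smul, one_smul, AlgHom.toLinearMap_apply, map_pow, ← AdjoinRoot.mk_X, hu,
        Polynomial.aeval_X]
    have hl₁ : Function.Injective ((Fintype.linearCombination R
        (fun i : Fin r => ξ ^ (i : ℕ))).lTensor (IsLocalRing.ResidueField R)) := by
      have hli' := linearIndependent_pow_of_finrank hint hrk
      have hinj : Function.Injective (Fintype.linearCombination (IsLocalRing.ResidueField R)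
          (fun i : Fin r => ((1 : IsLocalRing.ResidueField R) ⊗ₜ[R] ξ :
            IsLocalRing.ResidueField R ⊗[R] A) ^ (i : ℕ))) :=
        linearIndependent_iff_injective_fintypeLinearCombination.mp hli'
      intro z w hzw
      obtain ⟨c, rfl⟩ := (TensorProduct.piScalarRight R (IsLocalRing.ResidueField R)
        (IsLocalRing.ResidueField R) (Fin r)).symm.surjective z
      obtain ⟨d, rfl⟩ := (TensorProduct.piScalarRight R (IsLocalRing.ResidueField R)
        (IsLocalRing.ResidueField R) (Fin r)).symm.surjective w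
      rw [Groth.Agent.S5713.lTensor_linearCombination_pow,
        Groth.Agent.S5713.lTensor_linearCombination_pow] at hzw
      rw [hinj hzw]
    intro z w hzw
    obtain ⟨z', rfl⟩ := LinearMap.lTensor_surjective (IsLocalRing.ResidueField R) hγ z
    obtain ⟨w', rfl⟩ := LinearMap.lTensor_surjective (IsLocalRing.ResidueField R) hγ w
    rw [← LinearMap.comp_apply, ← LinearMap.comp_apply, ← LinearMap.lTensor_comp, hcomp] at hzw
    rw [hl₁ hzw]

end Groth.Agent.S5710
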