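import Groth.Statements.S5711
import Mathlib
import Groth.Agent.Lib.Helper52.SemilocalLG
import Groth.Agent.Lib.Helper52.SplitFree
import Groth.Agent.Lib.Helper52.SplitChain
import Groth.Agent.Lib.Helper98.AzuLG
import Groth.Agent.Lib.Helper98.SkolemLocal
import Groth.Agent.Lib.Helper98.AzuBrauer
import Groth.Agent.Lib.Helper65.FibreBij
import Groth.Agent.Lib.Helper46.Azumaya
import Groth.Agent.Lib.Helper59.CSA

set_option linter.style.haveILetI false
set_option linter.unusedSectionVars false

set_option autoImplicit false
universe u v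
open TensorProduct
open Dix

namespace Groth.Agent.S5711

section Phi

variable {R : Type u} [CommRing R] {A : Type u} [Ring A] [Algebra R A]
  {E : Type u} [CommRing E] [Algebra R E] (u : E →ₐ[R] A) [Module E A]
  (hmod : ∀ (e : E) (a : A), e • a = a * u e)

include hmod in
theorem isScalarTower : IsScalarTower R E A :=
  ⟨fun c e a => by rw [hmod, hmod, map_smul, mul_smul_comm]⟩

include hmod in
theorem smulCommClass : SMulCommClass R E A :=
  ⟨fun c e a => by rw [hmod, hmod, smul_mul_assoc]⟩

/-- left multiplication as an `E`-linear endomorphism -/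
def lamLin (a : A) : Module.End E A where
  toFun y := a * y
  map_add' y z := mul_add a y z
  map_smul' e y := by
    simp only [RingHom.id_apply]
    rw [hmod, hmod, mul_assoc]

end Phi

section Phi2

variable {R : Type u} [CommRing R] {A : Type u} [Ring A] [Algebra R A]
  {E : Type u} [CommRing E] [Algebra R E] (u : E →ₐ[R] A) [Module E A]
  [IsScalarTower R E A] [SMulCommClass E R A]
  (hmod : ∀ (e : E) (a : A), e • a = a * u e)

/-- left multiplication `A → End_E(A)` -/
def lam : A →ₐ[R] Module.End E A :=
  AlgHom.ofLinearMap
    { toFun := lamLin u hmod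
      map_add' := fun a b => LinearMap.ext fun y => add_mul a b y
      map_smul' := fun c a => LinearMap.ext fun y => smul_mul_assoc c a y }
    (LinearMap.ext fun y => one_mul y)
    (fun a b => LinearMap.ext fun y => mul_assoc a b y)

theorem lam_apply (a y : A) : lam u hmod a y = a * y := rfl

theorem commute_lam (e : E) (a : A) :
    Commute (Algebra.ofId E (Module.End E A) e) (lam u hmod a) := by
  have : (Algebra.ofId E (Module.End E A) e) * (lam u hmod a) =
      (lam u hmod a) * (Algebra.ofId E (Module.End E A) e) := by
    apply LinearMap.ext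
    intro y
    show (algebraMap E (Module.End E A) e) (lam u hmod a y) =
      lam u hmod a ((algebraMap E (Module.End E A) e) y)
    rw [Module.algebraMap_end_apply, Module.algebraMap_end_apply, lam_apply, lam_apply, hmod, hmod,
      mul_assoc]
  exact this

/-- the canonical map `E ⊗ A → End_E(A)` -/
noncomputable def Phi : E ⊗[R] A →ₐ[E] Module.End E A :=
  Algebra.TensorProduct.lift (Algebra.ofId E (Module.End E A)) (lam u hmod) (commute_lam u hmod)

theorem Phi_tmul (e : E) (a y : A) : Phi u hmod (e ⊗ₜ[R] a) y = e • (a * y) := by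
  rw [Phi, Algebra.TensorProduct.lift_tmul]
  show (algebraMap E (Module.End E A) e) (lam u hmod a y) = _
  rw [Module.algebraMap_end_apply, lam_apply]

end Phi2

section Fibre

open Groth.Agent.Lib.Helper52.SplitChain

variable {R : Type u} [CommRing R] {A : Type u} [Ring A] [Algebra R A] [IsAzumaya R A]
  [Module.Free R A]
  {E : Type u} [CommRing E] [Algebra R E] (u : E →ₐ[R] A) [Module E A]
  [IsScalarTower R E A] [SMulCommClass E R A] [Module.Finite E A] [Module.Projective E A]
  (hmod : ∀ (e : E) (a : A), e • a = a * u e) {r : ℕ} (hA : Module.finrank R A = r ^ 2)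
  (κ : Type u) [Field κ] [Algebra E κ]

/-- the fibre of `Phi` as an algebra map -/
noncomputable def PsiK : κ ⊗[E] (E ⊗[R] A) →ₐ[κ] Module.End κ (κ ⊗[E] A) :=
  (LinearMap.tensorProductEnd E κ A).comp
    (Algebra.TensorProduct.map (AlgHom.id κ κ) (Phi u hmod))

theorem PsiK_eq : ⇑(PsiK u hmod κ) =
    ⇑(LinearMap.tensorProductEnd E κ A) ∘ ⇑((Phi u hmod).toLinearMap.lTensor κ) := by
  funext z
  induction z using TensorProduct.induction_on with
  | zero => simp
  | add a b ha hb => simp only [map_add, Function.comp_apply] at ha hb ⊢; rw [ha, hb]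
  | tmul c b => rfl

include hA in
theorem finrank_source : Module.finrank κ (κ ⊗[E] (E ⊗[R] A)) = r ^ 2 := by
  haveI : Nontrivial E := (algebraMap E κ).domain_nontrivial
  haveI : Nontrivial R := (algebraMap R E).domain_nontrivial
  have h1 := Module.finrank_baseChange (R := κ) (S := E) (M' := E ⊗[R] A)
  have h2 := Module.finrank_baseChange (R := E) (S := R) (M' := A)
  rw [h1, h2, hA]

theorem finrank_target :
    Module.finrank κ (Module.End κ (κ ⊗[E] A)) =
      Module.finrank κ (κ ⊗[E] A) * Module.finrank κ (κ ⊗[E] A) :=
  Module.finrank_linearMap κ κ (κ ⊗[E] A) (κ ⊗[E] A)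

theorem PsiK_injective [Nontrivial (κ ⊗[E] A)] : Function.Injective (PsiK u hmod κ) := by
  haveI : IsAzumaya E (E ⊗[R] A) := Groth.Agent.Lib.Helper46.Azumaya.isAzumaya_baseChange R E A
  haveI : IsAzumaya κ (κ ⊗[E] (E ⊗[R] A)) :=
    Groth.Agent.Lib.Helper46.Azumaya.isAzumaya_baseChange E κ (E ⊗[R] A)
  haveI : IsSimpleRing (κ ⊗[E] (E ⊗[R] A)) :=
    Groth.Agent.Lib.Helper59.CSA.isSimpleRing_of_isAzumaya (K := κ)
  exact (PsiK u hmod κ).toRingHom.injective

include u hmod hA in
theorem le_finrank_fibre [Nontrivial (κ ⊗[E] A)] : r ≤ Module.finrank κ (κ ⊗[E] A) := by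
  have h1 := LinearMap.finrank_le_finrank_of_injective
    (f := (PsiK u hmod κ).toLinearMap) (PsiK_injective u hmod κ)
  rw [finrank_source hA κ, finrank_target, ← sq] at h1
  exact (Nat.pow_le_pow_iff_left (by norm_num)).mp h1

include hA in
theorem lTensor_bijective (hn : Module.finrank κ (κ ⊗[E] A) = r) (hr : r ≠ 0) :
    Function.Bijective ((Phi u hmod).toLinearMap.lTensor κ) := by
  haveI : Nontrivial (κ ⊗[E] A) := by
    apply Module.nontrivial_of_finrank_pos (R := κ)
    rw [hn]; exact Nat.pos_of_ne_zero hr
  have hinj := PsiK_injective u hmod κ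
  have hbij : Function.Bijective (PsiK u hmod κ) := by
    refine ⟨hinj, ?_⟩
    have hdim : Module.finrank κ (κ ⊗[E] (E ⊗[R] A)) =
        Module.finrank κ (Module.End κ (κ ⊗[E] A)) := by
      rw [finrank_source hA κ, finrank_target, hn, sq]
    haveI : Module.Finite κ (κ ⊗[E] (E ⊗[R] A)) := inferInstance
    have h3 : Function.Surjective (PsiK u hmod κ).toLinearMap :=
      (LinearMap.injective_iff_surjective_of_finrank_eq_finrank (K := κ)
        (V := κ ⊗[E] (E ⊗[R] A)) (V₂ := Module.End κ (κ ⊗[E] A)) hdim).mp hinj
    exact h3
  rw [PsiK_eq] at hbij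
  exact (Function.Bijective.of_comp_iff' (tensorProductEnd_bijective E κ A) _).mp hbij

end Fibre

open Groth.Agent.Lib.Helper52.SplitFree Groth.Agent.Lib.Helper52.SemilocalLG in
/-- Over a local base. Let R be a local ring with residue field k, A an Azumaya algebra over R of rank
r², E a commutative R-algebra which is finite étale and free of rank r over R, and u : E → A an
R-algebra homomorphism injective on the special fibre. For the right E-module structure on A given
by e • a = a·u(e) (supplied as a module structure together with that compatibility), A is a free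
E-module of rank r, and E ⊗_R A is isomorphic as an E-algebra to the endomorphism algebra End_E(A).
(Only the existence of an isomorphism is stated; the canonical map sends e ⊗ a to y ↦ a·y·u(e).) -/
theorem result (R : Type u) [CommRing R] [IsLocalRing R] (A : Type u) [Ring A] [Algebra R A] [IsAzumaya R A] (r : ℕ) (hA : Module.finrank R A = r ^ 2) (E : Type u) [CommRing E] [Algebra R E] [Algebra.Etale R E] [Module.Finite R E] [Module.Free R E] (hE : Module.finrank R E = r) (u : E →ₐ[R] A) (hu : Function.Injective (u.toLinearMap.lTensor (IsLocalRing.ResidueField R))) [Module E A] (hmod : ∀ (e : E) (a : A), e • a = a * u e) : Module.Free E A ∧ Module.finrank E A = r ∧ Nonempty ((E ⊗[R] A) ≃ₐ[E] Module.End E A) := by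
  classical
  haveI hST : IsScalarTower R E A := isScalarTower u hmod
  haveI hSC : SMulCommClass R E A := smulCommClass u hmod
  haveI : SMulCommClass E R A := SMulCommClass.symm R E A
  haveI : Module.Free R A := Module.free_of_flat_of_isLocalRing
  haveI : Module.Finite R A := inferInstance
  haveI : Module.Finite E A := Module.Finite.of_restrictScalars_finite R E A
  haveI : Module.Projective E A :=
    Algebra.FormallyUnramified.projective_of_restrictScalars R E A
  haveI : Nontrivial A := Groth.Agent.Lib.Helper98.SkolemLocal.nontrivial_of_faithful (R := R)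
  have hr0 : r ≠ 0 := by
    rintro rfl
    have : 0 < Module.finrank R A := (Module.finrank_pos_iff_of_free R A).mpr inferInstance
    rw [hA] at this
    exact absurd this (by norm_num)
  haveI : Nontrivial E := by
    apply Module.nontrivial_of_finrank_pos (R := R)
    rw [hE]; exact Nat.pos_of_ne_zero hr0
  -- `u` is injective
  obtain ⟨l', hl'⟩ :=
    (IsLocalRing.split_injective_iff_lTensor_residueField_injective u.toLinearMap).mpr hu
  have huinj : Function.Injective u := by
    intro x y hxy
    have := congrArg l' hxy
    have h1 := LinearMap.congr_fun hl' x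
    have h2 := LinearMap.congr_fun hl' y
    simp only [LinearMap.comp_apply, AlgHom.toLinearMap_apply, LinearMap.id_apply] at h1 h2
    rw [← h1, ← h2, this]
  haveI : FaithfulSMul E A := ⟨fun {e₁ e₂} h => huinj (by
    have := h 1
    rwa [hmod, hmod, one_mul, one_mul] at this)⟩
  -- rank at least `r` everywhere
  have hge : ∀ q : PrimeSpectrum E, r ≤ Module.rankAtStalk A q := by
    intro q
    have hpos := Groth.Agent.Lib.Helper98.AzuBrauer.rankAtStalk_pos_of_faithful A q
    rw [Module.rankAtStalk_eq] at hpos ⊢
    haveI : Nontrivial (q.asIdeal.ResidueField ⊗[E] A) :=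
      Module.nontrivial_of_finrank_pos (R := q.asIdeal.ResidueField) hpos
    exact le_finrank_fibre u hmod hA q.asIdeal.ResidueField
  -- `E` is an LG ring, giving a surjection `A → E^r`
  haveI : Finite (MaximalSpectrum E) := finite_maximalSpectrum R E
  have hLG := isLGRing_of_finite_maximalSpectrum E
  obtain ⟨f, hf⟩ := Groth.Agent.Lib.Helper98.AzuLG.exists_surjective_of_rankAtStalk_le
    (R := E) (Λ := E) (P := A) (Q := Fin r → E) hLG (fun m hm => by
      rw [Module.rankAtStalk_eq_finrank_of_free, Module.finrank_fin_fun]
      exact hge _)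
  -- the surjection is bijective by comparing `R`-ranks
  have hfinj : Function.Injective f := by
    have hrk : Module.finrank R (Fin r → E) = Module.finrank R A := by
      rw [Module.finrank_pi_fintype, Finset.sum_const, Finset.card_univ, Fintype.card_fin, hE,
        smul_eq_mul, hA, sq]
    let g : (Fin r → E) ≃ₗ[R] A := LinearEquiv.ofFinrankEq (Fin r → E) A hrk
    have hsurj : Function.Surjective (g.toLinearMap ∘ₗ f.restrictScalars R) := by
      intro a
      obtain ⟨y, hy⟩ := hf (g.symm a)
      exact ⟨y, by simp [hy]⟩
    have hinj := OrzechProperty.injective_of_surjective_endomorphism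
      (g.toLinearMap ∘ₗ f.restrictScalars R) hsurj
    intro x y hxy
    apply hinj
    simp [hxy]
  let e : A ≃ₗ[E] (Fin r → E) := LinearEquiv.ofBijective f ⟨hfinj, hf⟩
  haveI hfree : Module.Free E A := Module.Free.of_equiv e.symm
  have hfr : Module.finrank E A = r := by
    rw [e.finrank_eq, Module.finrank_fin_fun]
  refine ⟨hfree, hfr, ?_⟩
  -- bijectivity of `Phi` on fibres
  have hbij : Function.Bijective (Phi u hmod).toLinearMap := by
    apply Groth.Agent.Lib.Helper65.FibreBij.bijective_of_forall_lTensor
    intro q _
    apply lTensor_bijective u hmod hA q.ResidueField _ hr0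
    rw [Module.finrank_baseChange, hfr]
  exact ⟨AlgEquiv.ofBijective (Phi u hmod) hbij⟩

end Groth.Agent.S5711
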