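import Groth.Statements.S5719
import Groth.Agent.Lib.Helper65.FibreBij
import Groth.Agent.Lib.Helper46.Azumaya
import Groth.Agent.Lib.Helper59.CSA
import Groth.Agent.S14967

set_option autoImplicit false
universe u v
open TensorProduct
open Dix

namespace Groth.Agent.S5719

open Groth.Agent.Lib.Helper46.Azumaya

/-- (i) ⇔ (ii), over an affine base. Let R be a commutative ring and A an R-algebra whose underlying
module is finite and projective (locally free of finite type). Then A ⊗_R A° → End_R(A) is bijective
with A faithful, i.e. A is an Azumaya algebra over R, if and only if every fibre κ(p) ⊗_R A, p a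
prime ideal of R, is a central simple algebra over the residue field κ(p). -/
theorem result (R : Type u) [CommRing R] (A : Type u) [Ring A] [Algebra R A] [Module.Finite R A] [Module.Projective R A] : IsAzumaya R A ↔ ∀ (p : Ideal R) [p.IsPrime], Algebra.IsCentral p.ResidueField (p.ResidueField ⊗[R] A) ∧ IsSimpleRing (p.ResidueField ⊗[R] A) := by
  constructor
  · intro h p _
    haveI : IsAzumaya p.ResidueField (p.ResidueField ⊗[R] A) :=
      Groth.Agent.Lib.Helper46.Azumaya.isAzumaya_baseChange R p.ResidueField A
    exact ⟨Groth.Agent.Lib.Helper59.CSA.isCentral_of_isAzumaya (K := p.ResidueField),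
      Groth.Agent.Lib.Helper59.CSA.isSimpleRing_of_isAzumaya (K := p.ResidueField)⟩
  · intro h
    haveI : FaithfulSMul R A := by
      refine Groth.Agent.Lib.Helper65.FibreBij.faithfulSMul_of_forall_residueField R A ?_
      intro p _
      haveI := (h p).2
      exact inferInstance
    haveI : Module.Finite R Aᵐᵒᵖ := Module.Finite.equiv (MulOpposite.opLinearEquiv R (M := A))
    refine { bij := ?_ }
    apply Groth.Agent.Lib.Helper65.FibreBij.bijective_of_forall_lTensor
      (AlgHom.mulLeftRight R A).toLinearMap
    intro p _
    obtain ⟨hc, hs⟩ := h p
    haveI : IsAzumaya p.ResidueField (p.ResidueField ⊗[R] A) :=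
      Groth.Agent.Lib.Helper59.CSA.isAzumaya_of_csa
    have hAz : Function.Bijective (AlgHom.mulLeftRight p.ResidueField (p.ResidueField ⊗[R] A)) :=
      IsAzumaya.bij
    have hend := endBC_bijective R p.ResidueField A
    have hpsi := Groth.Agent.S14967.bcPsi_bijective R p.ResidueField A
    have hcomp : ∀ z, endBC R p.ResidueField A
        ((AlgHom.mulLeftRight R A).toLinearMap.baseChange p.ResidueField z) =
        AlgHom.mulLeftRight p.ResidueField (p.ResidueField ⊗[R] A) (bcPsi R p.ResidueField A z) :=
      fun z => (mulLeftRight_bcPsi R p.ResidueField A z).symm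
    have hbc : Function.Bijective
        ((AlgHom.mulLeftRight R A).toLinearMap.baseChange p.ResidueField) := by
      have h1 : Function.Bijective (fun z => endBC R p.ResidueField A
          ((AlgHom.mulLeftRight R A).toLinearMap.baseChange p.ResidueField z)) := by
        have : (fun z => endBC R p.ResidueField A
            ((AlgHom.mulLeftRight R A).toLinearMap.baseChange p.ResidueField z)) =
            (AlgHom.mulLeftRight p.ResidueField (p.ResidueField ⊗[R] A)) ∘
              (bcPsi R p.ResidueField A) := funext hcomp
        rw [this]
        exact hAz.comp hpsi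
      exact (Function.Bijective.of_comp_iff' hend _).mp h1
    exact hbc

end Groth.Agent.S5719
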