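import Groth.Statements.S5738
import Groth.Agent.Lib.Helper20.AdicHom
import Groth.Agent.S2305
import Groth.Agent.S2306
import Mathlib.AlgebraicGeometry.Morphisms.Proper

set_option autoImplicit false
universe u
open FCompl

namespace Groth.Agent.S5738

open AlgebraicGeometry CategoryTheory CategoryTheory.Limits in
theorem surjective_toX (𝔛 : FSch.Sys.{u}) (h : 𝔛.IsFormal) (n : ℕ) : Surjective (𝔛.toX n) := by
  induction n with
  | zero => exact inferInstanceAs (Surjective (𝟙 _))
  | succ n ih =>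
    have : Surjective (𝔛.ι n) := ⟨(h n).2⟩
    exact inferInstanceAs (Surjective (𝔛.toX n ≫ 𝔛.ι n))

open AlgebraicGeometry CategoryTheory CategoryTheory.Limits in
theorem aux {𝔛 𝔖 : FSch.Sys.{u}} (f : 𝔛 ⟶ 𝔖)
    (h𝔛 : 𝔛.IsLocNoethFormal) (h𝔖 : 𝔖.IsLocNoethFormal) (hf : FSch.IsAdicHom f)
    [IsProper ((f : FSch.Hom 𝔛 𝔖).app 0)] (n : ℕ) :
    IsProper ((f : FSch.Hom 𝔛 𝔖).app n) := by
  have sq := Groth.Agent.Lib.Helper20.isPullback_toX f hf n
  have hciX := Groth.Agent.Lib.Helper20.isClosedImmersion_toX h𝔛.1 n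
  have hciS := Groth.Agent.Lib.Helper20.isClosedImmersion_toX h𝔖.1 n
  have hsX := surjective_toX 𝔛 h𝔛.1 n
  have hsS := surjective_toX 𝔖 h𝔖.1 n
  have hN := h𝔖.2.2 n
  -- separated
  have hsep : IsSeparated ((f : FSch.Hom 𝔛 𝔖).app n) :=
    (Groth.Agent.S2306.result ((f : FSch.Hom 𝔛 𝔖).app n) ((f : FSch.Hom 𝔛 𝔖).app 0)
      (𝔛.toX n) (𝔖.toX n) sq.w.symm).mpr inferInstance
  -- universally closed
  have huc : UniversallyClosed ((f : FSch.Hom 𝔛 𝔖).app n) := by
    have : UniversallyClosed (𝔛.toX n ≫ (f : FSch.Hom 𝔛 𝔖).app n) := by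
      rw [sq.w]
      infer_instance
    exact UniversallyClosed.of_comp_surjective (𝔛.toX n) _
  -- locally of finite type
  have hft : LocallyOfFiniteType ((f : FSch.Hom 𝔛 𝔖).app n) := by
    have : LocallyOfFiniteType (pullback.snd ((f : FSch.Hom 𝔛 𝔖).app n) (𝔖.toX n)) := by
      have e : sq.isoPullback.hom ≫ pullback.snd ((f : FSch.Hom 𝔛 𝔖).app n) (𝔖.toX n) =
          (f : FSch.Hom 𝔛 𝔖).app 0 := sq.isoPullback_hom_snd
      have : LocallyOfFiniteType (sq.isoPullback.hom ≫
          pullback.snd ((f : FSch.Hom 𝔛 𝔖).app n) (𝔖.toX n)) := by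
        rw [e]; infer_instance
      exact (MorphismProperty.cancel_left_of_respectsIso @LocallyOfFiniteType
        sq.isoPullback.hom _).mp this
    exact Groth.Agent.S2305.result ((f : FSch.Hom 𝔛 𝔖).app n) (𝔖.toX n)
  exact {}

open AlgebraicGeometry CategoryTheory in
/-- For formal schemes presented as adic systems of thickenings: a proper morphism of locally Noetherian
formal schemes is an adic one whose smallest level is proper, and the content is that every level is
then proper. Let (X_n) and (S_n) be locally Noetherian adic formal systems and f : (X_n) → (S_n) a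
morphism of systems all of whose squares X_n → X_(n+1), S_n → S_(n+1) are cartesian. If X_0 → S_0 is
proper, then X_n → S_n is proper for every n. -/
theorem result {𝔛 𝔖 : FSch.Sys.{u}} (f : 𝔛 ⟶ 𝔖)
    (h𝔛 : 𝔛.IsLocNoethFormal) (h𝔖 : 𝔖.IsLocNoethFormal) (hf : FSch.IsAdicHom f)
    [IsProper ((f : FSch.Hom 𝔛 𝔖).app 0)] (n : ℕ) :
    IsProper ((f : FSch.Hom 𝔛 𝔖).app n) :=
  aux f h𝔛 h𝔖 hf n

end Groth.Agent.S5738
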