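import Groth.Statements.S5739
import Groth.Agent.Lib.Helper20.ComplNbhd2
-- import your own Groth.Agent.* helpers here

set_option autoImplicit false
universe u
open FCompl

namespace Groth.Agent.S5739

open AlgebraicGeometry CategoryTheory in
/-- Isomorphism case (completions presented by the closed subschemes of the powers of an ideal sheaf on
the base and of its inverse image ideals; the compatibility hypothesis hc always holds and is
carried as data for the completed morphism). Let Z be a locally Noetherian scheme, g : X → Z and h :
Y → Z proper morphisms, f : X → Y a morphism with f ≫ h = g, and 𝓙 an ideal sheaf on Z. Then every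
level of the completed morphism X̂ → Ŷ between the completions along the inverse image ideals of 𝓙
is an isomorphism if and only if there is an open subset U of Z containing the support of 𝓙 such
that the restriction g⁻¹(U) → h⁻¹(U) of f is an isomorphism. -/
theorem result {X Y Z : Scheme.{u}} [IsLocallyNoetherian Z]
    (g : X ⟶ Z) (h : Y ⟶ Z) [IsProper g] [IsProper h] (f : X ⟶ Y) (w : f ≫ h = g)
    (𝓙 : Z.IdealSheafData) (hc : FSch.PowCompat f (𝓙.comap g) (𝓙.comap h)) :
    (∀ n : ℕ, IsIso ((FSch.completionMap f (𝓙.comap g) (𝓙.comap h) hc : FSch.Hom _ _).app n)) ↔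
      ∃ U : Z.Opens, (𝓙.support : Set Z) ⊆ U ∧ IsIso (f ∣_ h ⁻¹ᵁ U) := by
  constructor
  · intro hiso
    haveI : IsProper (f ≫ h) := by rw [w]; infer_instance
    haveI : IsProper f := IsProper.of_comp f h
    haveI : IsLocallyNoetherian Y := LocallyOfFiniteType.isLocallyNoetherian h
    have hK : ∀ n, f.ker ≤ (𝓙.comap h) ^ n := by
      intro n
      cases n with
      | zero => rw [pow_zero]; exact le_top
      | succ n => exact Groth.Agent.Lib.Helper20.ComplNbhd.ker_le_pow_of_isIso g h f 𝓙 hc n (hiso n)
    have hci0 : IsClosedImmersion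
        ((FSch.completionMap f (𝓙.comap g) (𝓙.comap h) hc : FSch.Hom _ _).app 0) := by
      haveI := hiso 0
      infer_instance
    have := Groth.Agent.Lib.Helper20.ComplNbhd.exists_opens_of_locally h f 𝓙
      (MorphismProperty.isomorphisms Scheme.{u}) (fun y hy => by
        obtain ⟨V₀, hyV₀, hV₀⟩ :=
          Groth.Agent.Lib.Helper20.ComplNbhd.exists_opens_isClosedImmersion g h f w 𝓙 hc hci0 y hy
        exact Groth.Agent.Lib.Helper20.ComplNbhd.exists_opens_isIso_of_ker_le_pow f (𝓙.comap h) hK
          y hy V₀ hyV₀ hV₀)
    exact this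
  · rintro ⟨U, hU, hP⟩ n
    exact Groth.Agent.Lib.Helper20.ComplNbhd.app_of_restrict g h f w 𝓙 hc
      (MorphismProperty.isomorphisms Scheme.{u}) U hU hP n

end Groth.Agent.S5739
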