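import Groth.Statements.S5742
import Groth.Agent.Lib.Helper92.SpreadOut
-- import your own Groth.Agent.* helpers here

set_option autoImplicit false
universe u
open Coherent

namespace Groth.Agent.S5742

open AlgebraicGeometry CategoryTheory CategoryTheory.Limits

theorem local_eq (A : Type u) [CommRing A] [IsNoetherianRing A] (I : Ideal A)
    {X Y : Scheme.{u}} (f : X ⟶ Spec (CommRingCat.of A)) (h : Y ⟶ Spec (CommRingCat.of A))
    [LocallyOfFiniteType f] [LocallyOfFiniteType h] (φ ψ : X ⟶ Y) (hφ : φ ≫ h = f) (hψ : ψ ≫ h = f)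
    (e : ∀ n : ℕ, CohB1.thickι f I n ≫ φ = CohB1.thickι f I n ≫ ψ)
    (x : X) (hx : I ≤ PrimeSpectrum.asIdeal (f x)) :
    ∃ U : X.Opens, x ∈ U ∧ U.ι ≫ φ = U.ι ≫ ψ := by
  -- the two morphisms agree at `x`
  have hxeq : φ x = ψ x := by
    have hr : (f x : PrimeSpectrum A) ∈
        Set.range (PrimeSpectrum.comap (Ideal.Quotient.mk (I ^ (0 + 1)))) := by
      rw [range_comap_of_surjective _ _ Ideal.Quotient.mk_surjective, Ideal.mk_ker]
      change ((I ^ (0 + 1) : Ideal A) : Set A) ⊆ (PrimeSpectrum.asIdeal (f x) : Set A)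
      simpa using hx
    obtain ⟨s, hs⟩ := hr
    have hs' : (CohB1.specQuot I 0) s = f x := hs
    obtain ⟨z, hz1, hz2⟩ : ∃ z : ↥(CohB1.thick f I 0), CohB1.thickι f I 0 z = x ∧
        CohB1.thickToBase f I 0 z = s :=
      Scheme.Pullback.exists_preimage_pullback (f := f) (g := CohB1.specQuot I 0) x s hs'.symm
    have h1 : (CohB1.thickι f I 0 ≫ φ) z = (CohB1.thickι f I 0 ≫ ψ) z := by rw [e 0]
    simp only [Scheme.Hom.comp_apply] at h1
    rw [hz1] at h1
    exact h1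
  obtain ⟨_, ⟨V, hV, rfl⟩, hxV, -⟩ :=
    Y.isBasis_affineOpens.exists_subset_of_mem_open (Set.mem_univ (φ x)) isOpen_univ
  have hxV' : ψ x ∈ V := hxeq ▸ hxV
  obtain ⟨_, ⟨U, hU, rfl⟩, hxU, hUV⟩ := X.isBasis_affineOpens.exists_subset_of_mem_open
    (show x ∈ (φ ⁻¹ᵁ V ⊓ ψ ⁻¹ᵁ V : X.Opens) from ⟨hxV, hxV'⟩) (φ ⁻¹ᵁ V ⊓ ψ ⁻¹ᵁ V).2
  have hUφ : U ≤ φ ⁻¹ᵁ V := fun y hy => (hUV hy).1
  have hUψ : U ≤ ψ ⁻¹ᵁ V := fun y hy => (hUV hy).2
  refine Groth.Agent.Lib.Helper92.exists_open_eq_of_germ_eq f h φ ψ hφ hψ ⊤ V hV le_top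
    (h.finiteType_appLE (isAffineOpen_top _) hV le_top) U hUφ hUψ hxU ?_
  ext c
  let α : A →+* Γ(X, U) :=
    (f.appLE ⊤ U le_top).hom.comp (Scheme.ΓSpecIso (CommRingCat.of A)).inv.hom
  let β : A →+* X.presheaf.stalk x := (X.presheaf.germ U x hxU).hom.comp α
  have hNoeth : IsLocallyNoetherian X := LocallyOfFiniteType.isLocallyNoetherian f
  have h𝔞 : Ideal.map β I ≠ ⊤ := by
    have hle : Ideal.map β I ≤ IsLocalRing.maximalIdeal _ := by
      rw [Ideal.map_le_iff_le_comap]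
      intro a ha
      rw [Ideal.mem_comap, IsLocalRing.mem_maximalIdeal, mem_nonunits_iff]
      intro hunit
      have hx1 : x ∈ X.basicOpen (α a) := (Scheme.mem_basicOpen _ _ x hxU).mpr hunit
      have hx2 : X.basicOpen (α a) = U ⊓ f ⁻¹ᵁ ((Spec (CommRingCat.of A)).basicOpen
          ((Scheme.ΓSpecIso (CommRingCat.of A)).inv a)) :=
        Scheme.basicOpen_appLE f U ⊤ le_top _
      rw [hx2, basicOpen_eq_of_affine] at hx1
      exact hx1.2 (hx ha)
    intro htop
    exact (IsLocalRing.maximalIdeal.isMaximal _).ne_top (top_le_iff.mp (htop ▸ hle))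
  have hkrull := Ideal.iInf_pow_eq_bot_of_isLocalRing (Ideal.map β I) h𝔞
  have hd : ∀ n : ℕ, (φ.appLE V U hUφ c - ψ.appLE V U hUψ c) ∈ Ideal.map α (I ^ (n + 1)) := by
    intro n
    let J : Ideal Γ(X, U) := Ideal.map α (I ^ (n + 1))
    let q : Γ(X, U) →+* Γ(X, U) ⧸ J := Ideal.Quotient.mk J
    let ᾱ : A ⧸ I ^ (n + 1) →+* Γ(X, U) ⧸ J := Ideal.quotientMap J α Ideal.le_comap_map
    let t : Spec (CommRingCat.of (Γ(X, U) ⧸ J)) ⟶ X :=
      Spec.map (CommRingCat.ofHom q) ≫ hU.fromSpec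
    let s : Spec (CommRingCat.of (Γ(X, U) ⧸ J)) ⟶ Spec (CommRingCat.of (A ⧸ I ^ (n + 1))) :=
      Spec.map (CommRingCat.ofHom ᾱ)
    have hts : t ≫ f = s ≫ CohB1.specQuot I n := by
      simp only [t, s, CohB1.specQuot, Category.assoc]
      rw [← IsAffineOpen.SpecMap_appLE_fromSpec f (isAffineOpen_top _) hU le_top,
        IsAffineOpen.fromSpec_top, Scheme.isoSpec_Spec_inv, ← Spec.map_comp, ← Spec.map_comp,
        ← Spec.map_comp]
      congr 1
    let j : Spec (CommRingCat.of (Γ(X, U) ⧸ J)) ⟶ CohB1.thick f I n := pullback.lift t s hts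
    have hj : j ≫ CohB1.thickι f I n = t := pullback.lift_fst _ _ _
    have htφψ : t ≫ φ = t ≫ ψ := by rw [← hj, Category.assoc, Category.assoc, e n]
    have e1 : t ≫ φ = Spec.map (φ.appLE V U hUφ ≫ CommRingCat.ofHom q) ≫ hV.fromSpec := by
      simp only [t, Category.assoc, Spec.map_comp]
      rw [IsAffineOpen.SpecMap_appLE_fromSpec φ hV hU hUφ]
    have e2 : t ≫ ψ = Spec.map (ψ.appLE V U hUψ ≫ CommRingCat.ofHom q) ≫ hV.fromSpec := by
      simp only [t, Category.assoc, Spec.map_comp]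
      rw [IsAffineOpen.SpecMap_appLE_fromSpec ψ hV hU hUψ]
    rw [e1, e2] at htφψ
    have hoi : IsOpenImmersion hV.fromSpec := hV.isOpenImmersion_fromSpec
    have h3 := (cancel_mono hV.fromSpec).mp htφψ
    have h4 := Spec.map_injective h3
    have hc : q (φ.appLE V U hUφ c) = q (ψ.appLE V U hUψ c) := congr($h4 c)
    exact (Ideal.Quotient.eq).mp hc
  have hd' : (X.presheaf.germ U x hxU).hom (φ.appLE V U hUφ c - ψ.appLE V U hUψ c) ∈
      (⨅ i : ℕ, (Ideal.map β I) ^ i) := by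
    rw [Ideal.mem_iInf]
    intro i
    cases i with
    | zero => simp
    | succ n =>
      have := Ideal.mem_map_of_mem (X.presheaf.germ U x hxU).hom (hd n)
      rw [Ideal.map_map, Ideal.map_pow] at this
      exact this
  rw [hkrull, Ideal.mem_bot, map_sub, sub_eq_zero] at hd'
  exact hd'

open AlgebraicGeometry CategoryTheory CategoryTheory.Limits in
/-- Let A be a Noetherian ring separated and complete for the I-adic topology, X proper over Spec A and
Y locally of finite type over Spec A; write X_n = X ×_A Spec(A/I^(n+1)). Two A-morphisms φ, ψ : X →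
Y whose restrictions to X_n coincide for every n are equal. (The published statement takes Y
separated and of finite type over A, which the surjectivity half needs; injectivity uses neither
separatedness nor quasi-compactness of Y. Together with the existence of an A-morphism inducing any
compatible system of morphisms X_n → Y_n, this is the bijectivity of f ↦ f̂ from A-morphisms X → Y
to morphisms of the completions.) -/
theorem result (A : Type u) [CommRing A] [IsNoetherianRing A]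
    (I : Ideal A) [IsAdicComplete I A] {X Y : Scheme.{u}} (f : X ⟶ Spec (CommRingCat.of A))
    (h : Y ⟶ Spec (CommRingCat.of A)) [IsProper f] [LocallyOfFiniteType h] (φ ψ : X ⟶ Y)
    (hφ : φ ≫ h = f) (hψ : ψ ≫ h = f)
    (e : ∀ n : ℕ, CohB1.thickι f I n ≫ φ = CohB1.thickι f I n ≫ ψ) : φ = ψ := by
  refine Scheme.hom_ext_of_forall φ ψ ?_
  let Oall : X.Opens := ⨆ (U : {U : X.Opens // U.ι ≫ φ = U.ι ≫ ψ}), U.1
  by_contra hne
  push Not at hne
  obtain ⟨x₀, hx₀⟩ := hne
  have hx₀' : x₀ ∉ Oall := by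
    intro hmem
    obtain ⟨⟨U, hU⟩, hxU⟩ := TopologicalSpace.Opens.mem_iSup.mp hmem
    exact hx₀ U hxU hU
  let Z : Set X := (Oall : Set X)ᶜ
  have hZc : IsClosed Z := Oall.isOpen.isClosed_compl
  have hfZ : IsClosed (f '' Z) := f.isClosedMap _ hZc
  obtain ⟨K, hK⟩ := (PrimeSpectrum.isClosed_iff_zeroLocus_ideal _).mp hfZ
  have hKne : K ≠ ⊤ := by
    rintro rfl
    have hmem : f x₀ ∈ f '' Z := ⟨x₀, hx₀', rfl⟩
    rw [hK] at hmem
    have h0 : PrimeSpectrum.zeroLocus ((⊤ : Ideal A) : Set A) = ∅ := by simp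
    rw [h0] at hmem
    exact hmem
  obtain ⟨m, hm, hKm⟩ := Ideal.exists_le_maximal K hKne
  have hmem : (⟨m, hm.isPrime⟩ : PrimeSpectrum A) ∈ f '' Z := by
    rw [hK]
    exact hKm
  obtain ⟨z, hzZ, hz⟩ := hmem
  have hI : I ≤ PrimeSpectrum.asIdeal (f z) := by
    rw [hz]
    exact (IsAdicComplete.le_jacobson_bot I).trans (sInf_le ⟨bot_le, hm⟩)
  obtain ⟨U, hzU, hU⟩ := local_eq A I f h φ ψ hφ hψ e z hI
  exact hzZ (TopologicalSpace.Opens.mem_iSup.mpr ⟨⟨U, hU⟩, hzU⟩)

end Groth.Agent.S5742
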