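import Groth.Statements.S5744
import Groth.Agent.Lib.QCoh.Helper50_Products

set_option autoImplicit false
universe u
open Coherent

namespace Groth.Agent.S5744

open AlgebraicGeometry CategoryTheory in
theorem isQCoh_pushRestr {X : Scheme.{u}} [X.IsSeparated] (W : X.Opens) (hA : IsAffineOpen W)
    (F : X.Modules) [Coh.IsQCoh F] : Coh.IsQCoh ((CechOX.pushRestr W).obj F) := by
  have : IsAffine (W : Scheme.{u}) := hA
  have h1 : IsAffineHom (W.ι ≫ Limits.terminal.from X) := inferInstance
  have : IsAffineHom W.ι := IsAffineHom.of_comp _ (Limits.terminal.from X)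
  have : (F.restrict W.ι).IsQuasicoherent :=
    Groth.Agent.Lib.QCoh.isQuasicoherent_restrict _ F
  change ((Scheme.Modules.pushforward W.ι).obj (F.restrict W.ι)).IsQuasicoherent
  exact Groth.Agent.Lib.QCoh.isQuasicoherent_pushforward_of_isAffineHom W.ι (F.restrict W.ι)

open AlgebraicGeometry CategoryTheory in
/-- For the Čech complex of sheaves indexed by all ordered tuples with products as terms; over a finite
index type these terms are finite direct sums. Let X be a separated scheme, (U_i)_{i ∈ ι} a finite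
family of affine opens covering X, and F a quasi-coherent O_X-module. Then for every p the degree-p
term of the Čech complex of sheaves 𝔠(𝒰, F), the product over ordered (p+1)-tuples of the direct
images (j_{i_0…i_p})_*(F|_{U_{i_0…i_p}}), is a quasi-coherent O_X-module. -/
theorem result {X : Scheme.{u}} [X.IsSeparated] {ι : Type u}
    [Finite ι] (𝒰 : ι → X.Opens) (h𝒰 : ∀ i, IsAffineOpen (𝒰 i)) (hcov : ⨆ i, 𝒰 i = ⊤)
    (F : X.Modules) [Coh.IsQCoh F] (p : ℕ) :
    Coh.IsQCoh (((CechOX.cechSh 𝒰).obj F).X p) := by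
  change Coh.IsQCoh (∏ᶜ fun a : Fin (p + 1) → ι => (CechOX.pushRestr (∏ᶜ (𝒰 ∘ a))).obj F)
  refine Groth.Agent.Lib.QCoh.isQuasicoherent_pi_of_finite _ fun a => ?_
  have hW : (∏ᶜ (𝒰 ∘ a) : X.Opens) = ⨅ k, 𝒰 (a k) := by
    apply le_antisymm
    · exact le_iInf fun k => leOfHom (Limits.Pi.π (𝒰 ∘ a) k)
    · exact leOfHom (Limits.Pi.lift fun k => homOfLE (iInf_le (fun k => 𝒰 (a k)) k))
  have hA : IsAffineOpen (∏ᶜ (𝒰 ∘ a) : X.Opens) := by
    rw [hW]
    exact IsAffineOpen.iInf fun k => h𝒰 (a k)
  exact isQCoh_pushRestr _ hA F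

end Groth.Agent.S5744
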