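import Groth.Statements.S5755
import Groth.Agent.Lib.Helper29.DepthZero

set_option autoImplicit false
universe u
open EGA41

namespace Groth.Agent.S5755

/-- A reduced Noetherian local ring A has depth 0 if and only if A is a field. -/
theorem result (A : Type u) [CommRing A] [IsLocalRing A]
    [IsNoetherianRing A] [IsReduced A] : LocCoh.depth A A = 0 ↔ IsField A := by
  rw [IsLocalRing.isField_iff_maximalIdeal_eq]
  constructor
  · intro h
    rw [Groth.Agent.Lib.Helper29.depth_eq_zero_iff_maximalIdeal_mem_ass] at h
    rw [AssociatedPrimes.mem_iff, isAssociatedPrime_iff] at h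
    obtain ⟨-, c, hc⟩ := h
    have hc0 : c ≠ 0 := by
      rintro rfl
      have h1 : (1 : A) ∈ IsLocalRing.maximalIdeal A := by
        rw [hc, Submodule.mem_colon_singleton]; simp
      exact (IsLocalRing.maximalIdeal.isMaximal A).ne_top ((Ideal.eq_top_iff_one _).mpr h1)
    have hcm : c ∉ IsLocalRing.maximalIdeal A := by
      intro hcm
      have h2 : c ∈ Submodule.colon (⊥ : Submodule A A) {c} := hc ▸ hcm
      rw [Submodule.mem_colon_singleton, Submodule.mem_bot, smul_eq_mul] at h2
      have : IsNilpotent c := ⟨2, by rw [pow_two]; exact h2⟩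
      exact hc0 this.eq_zero
    have hu : IsUnit c := by
      by_contra hnu
      exact hcm ((IsLocalRing.mem_maximalIdeal c).mpr hnu)
    rw [eq_bot_iff]
    intro x hx
    rw [hc, Submodule.mem_colon_singleton, Submodule.mem_bot, smul_eq_mul] at hx
    rw [Ideal.mem_bot]
    exact hu.mul_left_eq_zero.mp hx
  · intro h
    rw [Groth.Agent.Lib.Helper29.depth_eq_zero_iff_forall_not_isSMulRegular A A
      (Groth.Agent.Lib.Helper29.maximalIdeal_smul_top_ne_top A A)]
    intro x hx
    rw [h, Ideal.mem_bot] at hx
    rw [hx]
    intro h0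
    have := h0 (show (0 : A) • (1 : A) = (0 : A) • (0 : A) by simp)
    exact one_ne_zero this

end Groth.Agent.S5755
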