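import Groth.Statements.S5764
import Groth.Agent.Lib.Helper73.HeightGoingDown
import Mathlib.RingTheory.KrullDimension.Basic

set_option autoImplicit false
universe u
open EGA41

namespace Groth.Agent.S5764

/-- Let B be an integral domain, A a local subring of B which is integrally closed (in its field of
fractions), and suppose B is integral over A. Then dim(B_n) = dim(A) for every maximal ideal n of B. -/
theorem result (A B : Type u) [CommRing A]
    [CommRing B] [IsDomain B] [Algebra A B] (hinj : Function.Injective (algebraMap A B)) [IsDomain A]
    [IsLocalRing A] [IsIntegrallyClosed A] [Algebra.IsIntegral A B] (n : Ideal B) [n.IsMaximal] :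
    ringKrullDim (Localization.AtPrime n) = ringKrullDim A := by
  haveI : FaithfulSMul A B := (faithfulSMul_iff_algebraMap_injective A B).mpr hinj
  have hmax : (n.under A).IsMaximal := Ideal.isMaximal_comap_of_isIntegral_of_isMaximal n
  have hm : n.under A = IsLocalRing.maximalIdeal A := IsLocalRing.eq_maximalIdeal hmax
  haveI : n.LiesOver (IsLocalRing.maximalIdeal A) := ⟨hm.symm⟩
  have h1 := Groth.Agent.Lib.Helper73.height_le_height_of_hasGoingDown (IsLocalRing.maximalIdeal A) n
  have h2 := Groth.Agent.Lib.Helper73.height_le_height_under_of_isIntegral (R := A) n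
  rw [hm] at h2
  rw [IsLocalization.AtPrime.ringKrullDim_eq_height n (Localization.AtPrime n),
    le_antisymm h2 h1, IsLocalRing.maximalIdeal_height_eq_ringKrullDim]

end Groth.Agent.S5764
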