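import Groth.Statements.S5766
import Groth.Agent.S5763
import Mathlib.RingTheory.KrullDimension.Module
import Mathlib.RingTheory.IntegralClosure.Algebra.Basic

set_option autoImplicit false
universe u
open EGA41

namespace Groth.Agent.S5766

/-- Let A be a Noetherian ring, ρ : A → B a ring homomorphism and M a B-module which is finitely
generated as an A-module via ρ. Then the dimension of M as an A-module equals its dimension as a
B-module. -/
theorem result (A B : Type u) [CommRing A] [CommRing B] [IsNoetherianRing A]
    [Algebra A B] (M : Type u) [AddCommGroup M] [Module B M] [Module A M] [IsScalarTower A B M]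
    [Module.Finite A M] : Module.supportDim A M = Module.supportDim B M := by
  classical
  have hfinB : Module.Finite B M := Module.Finite.of_restrictScalars_finite A B M
  rw [Module.supportDim_eq_ringKrullDim_quotient_annihilator,
    Module.supportDim_eq_ringKrullDim_quotient_annihilator]
  let f : A →+* B ⧸ Module.annihilator B M :=
    (Ideal.Quotient.mk (Module.annihilator B M)).comp (algebraMap A B)
  have hker : RingHom.ker f = Module.annihilator A M := by
    ext a
    rw [RingHom.mem_ker, RingHom.comp_apply, Ideal.Quotient.eq_zero_iff_mem,
      Module.mem_annihilator, Module.mem_annihilator]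
    simp only [algebraMap_smul]
  have hint : f.IsIntegral := by
    intro x
    obtain ⟨b, rfl⟩ := Ideal.Quotient.mk_surjective x
    let φ : Module.End A M :=
      { toFun := fun m => b • m
        map_add' := fun m m' => smul_add b m m'
        map_smul' := fun a m => by
          simp only [RingHom.id_apply]
          exact smul_comm b a m }
    obtain ⟨p, hpm, hp⟩ := (Algebra.IsIntegral.isIntegral (R := A) φ)
    refine ⟨p, hpm, ?_⟩
    have h1 : Polynomial.eval₂ f (Ideal.Quotient.mk (Module.annihilator B M) b) p =
        Ideal.Quotient.mk (Module.annihilator B M) (Polynomial.eval₂ (algebraMap A B) b p) := by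
      rw [Polynomial.hom_eval₂]
    rw [h1, Ideal.Quotient.eq_zero_iff_mem, Module.mem_annihilator]
    intro m
    have h2 : ∀ q : Polynomial A, (Polynomial.eval₂ (algebraMap A B) b q) • m =
        (Polynomial.eval₂ (algebraMap A (Module.End A M)) φ q) m := by
      intro q
      induction q using Polynomial.induction_on' with
      | add q₁ q₂ h₁ h₂ =>
        rw [Polynomial.eval₂_add, Polynomial.eval₂_add, add_smul, h₁, h₂, LinearMap.add_apply]
      | monomial n a =>
        rw [Polynomial.eval₂_monomial, Polynomial.eval₂_monomial, mul_smul, algebraMap_smul]
        have h3 : ∀ n : ℕ, (φ ^ n) m = b ^ n • m := by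
          intro n
          induction n with
          | zero => simp
          | succ n ih =>
            rw [pow_succ', Module.End.mul_apply, ih, pow_succ', mul_smul]
            rfl
        rw [Module.End.mul_apply, h3, Module.algebraMap_end_apply]
    rw [h2, hp, LinearMap.zero_apply]
  let g : A ⧸ RingHom.ker f →+* B ⧸ Module.annihilator B M := RingHom.kerLift f
  have hg : g.IsIntegral := by
    apply RingHom.IsIntegral.tower_top (Ideal.Quotient.mk (RingHom.ker f)) g
    have : g.comp (Ideal.Quotient.mk (RingHom.ker f)) = f := by
      ext a; rfl
    rw [this]; exact hint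
  let : Algebra (A ⧸ RingHom.ker f) (B ⧸ Module.annihilator B M) := g.toAlgebra
  have : Algebra.IsIntegral (A ⧸ RingHom.ker f) (B ⧸ Module.annihilator B M) :=
    Algebra.isIntegral_def.mpr hg
  have h4 := (Groth.Agent.S5763.result (A ⧸ RingHom.ker f) (B ⧸ Module.annihilator B M)).2
    (RingHom.kerLift_injective f)
  rw [h4]
  exact ringKrullDim_eq_of_ringEquiv (Ideal.quotEquivOfEq hker).symm

end Groth.Agent.S5766
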