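import Groth.Statements.S5768
import Groth.Agent.Lib.Helper29.DimTheory

set_option autoImplicit false
universe u
open EGA41
open Groth.Agent.Lib.Helper29

namespace Groth.Agent.S5768

/-- Let A be a semi-local Noetherian ring with Jacobson radical r, M a nonzero finitely generated
A-module and x_1, ..., x_k elements of r. One always has dim(M/(x_1 M + ... + x_k M)) ≥ dim(M) - k,
and equality holds if and only if there exist further elements of r which together with the x_i form
a system of parameters for M (dim(M) elements of r modulo which M has finite length). -/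
theorem result (A : Type u) [CommRing A]
    [IsNoetherianRing A] [Finite (MaximalSpectrum A)] (M : Type u) [AddCommGroup M] [Module A M]
    [Module.Finite A M] [Nontrivial M] (xs : List A) (hxs : ∀ x ∈ xs, x ∈ Ring.jacobson A) :
    Module.supportDim A (M ⧸ (Ideal.ofList xs • (⊤ : Submodule A M))) + xs.length = Module.supportDim A M ↔
      ∃ ys : List A, (∀ y ∈ ys, y ∈ Ring.jacobson A) ∧
        ((xs ++ ys).length : WithBot ℕ∞) = Module.supportDim A M ∧
        IsFiniteLength A (M ⧸ (Ideal.ofList (xs ++ ys) • (⊤ : Submodule A M))) := by
  constructor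
  · intro h
    obtain ⟨d, hd⟩ := DimTheory.exists_nat_supportDim A M
    have hne : Module.supportDim A (M ⧸ (Ideal.ofList xs • (⊤ : Submodule A M))) ≠ ⊥ := by
      intro hb
      rw [hb, WithBot.bot_add, hd] at h
      exact WithBot.bot_ne_coe h
    have hnt : Nontrivial (M ⧸ (Ideal.ofList xs • (⊤ : Submodule A M))) :=
      (Module.supportDim_ne_bot_iff_nontrivial A _).1 hne
    obtain ⟨m, hm⟩ := DimTheory.exists_nat_supportDim A
      (M ⧸ (Ideal.ofList xs • (⊤ : Submodule A M)))
    obtain ⟨ys, hys, hlen, hle⟩ := DimTheory.exists_parameters m _ hm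
    refine ⟨ys, hys, ?_, ?_⟩
    · rw [← h, hm, List.length_append, hlen, add_comm]
      push_cast
      rfl
    · have hfl := DimTheory.isFiniteLength_of_supportDim_le_zero _ hle
      exact (DimTheory.quotOfListAppendEquiv M xs ys).symm.isFiniteLength hfl
  · rintro ⟨ys, hys, hlen, hfl⟩
    have hfl' := (DimTheory.quotOfListAppendEquiv M xs ys).isFiniteLength hfl
    have h0 := DimTheory.supportDim_le_zero_of_isFiniteLength _ hfl'
    have h1 := DimTheory.supportDim_le_quotient_add_length xs M hxs
    have h2 := DimTheory.supportDim_le_quotient_add_length ys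
      (M ⧸ (Ideal.ofList xs • (⊤ : Submodule A M))) hys
    apply le_antisymm _ h1
    rw [← hlen, List.length_append]
    calc Module.supportDim A (M ⧸ (Ideal.ofList xs • (⊤ : Submodule A M))) + (xs.length : WithBot ℕ∞)
        ≤ (0 + (ys.length : WithBot ℕ∞)) + xs.length := by
          gcongr
          exact h2.trans (by gcongr)
      _ = ((xs.length + ys.length : ℕ) : WithBot ℕ∞) := by
          rw [zero_add, add_comm]; push_cast; rfl

end Groth.Agent.S5768
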