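import Groth.Statements.S5771
import Groth.Agent.S5769
import Mathlib.RingTheory.Ideal.KrullsHeightTheorem
import Mathlib.RingTheory.KrullDimension.NonZeroDivisors

set_option autoImplicit false
universe u
open EGA41

namespace Groth.Agent.S5771

/-- Let φ : A → B be a local homomorphism of Noetherian local rings, m the maximal ideal of A, and
suppose mB is an ideal of definition of B (equivalently dim(B/mB) = 0). Then dim(B) ≤ dim(A); if
moreover A is an integral domain and dim(A) = dim(B), then φ is injective. -/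
theorem result (A B : Type u) [CommRing A] [CommRing B]
    [IsLocalRing A] [IsLocalRing B] [IsNoetherianRing A] [IsNoetherianRing B] [Algebra A B]
    [IsLocalHom (algebraMap A B)]
    (hdef : ringKrullDim (B ⧸ (IsLocalRing.maximalIdeal A).map (algebraMap A B)) = 0) :
    ringKrullDim B ≤ ringKrullDim A ∧
      (IsDomain A → ringKrullDim A = ringKrullDim B → Function.Injective (algebraMap A B)) := by
  have hle : ∀ (A' : Type u) [CommRing A'] [IsLocalRing A'] [IsNoetherianRing A'] [Algebra A' B]
      [IsLocalHom (algebraMap A' B)],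
      ringKrullDim (B ⧸ (IsLocalRing.maximalIdeal A').map (algebraMap A' B)) = 0 →
      ringKrullDim B ≤ ringKrullDim A' := by
    intro A' _ _ _ _ _ h0
    have := Groth.Agent.S5769.result A' B
    rwa [h0, add_zero] at this
  refine ⟨hle A hdef, ?_⟩
  intro hdom heq
  rw [RingHom.injective_iff_ker_eq_bot]
  by_contra hK
  set K := RingHom.ker (algebraMap A B) with hKdef
  have hKtop : K ≠ ⊤ := RingHom.ker_ne_top _
  have : Nontrivial (A ⧸ K) := Ideal.Quotient.nontrivial_iff.mpr hKtop
  have : IsLocalRing (A ⧸ K) :=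
    IsLocalRing.of_surjective' (Ideal.Quotient.mk K) Ideal.Quotient.mk_surjective
  let : Algebra (A ⧸ K) B := (RingHom.kerLift (algebraMap A B)).toAlgebra
  have halg : ∀ a : A, algebraMap (A ⧸ K) B (Ideal.Quotient.mk K a) = algebraMap A B a :=
    fun a => rfl
  have : IsLocalHom (algebraMap (A ⧸ K) B) := by
    refine ⟨fun x hx => ?_⟩
    obtain ⟨a, rfl⟩ := Ideal.Quotient.mk_surjective x
    rw [halg] at hx
    exact (isUnit_of_map_unit (algebraMap A B) a hx).map (Ideal.Quotient.mk K)
  have hmap : (IsLocalRing.maximalIdeal (A ⧸ K)).map (algebraMap (A ⧸ K) B) =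
      (IsLocalRing.maximalIdeal A).map (algebraMap A B) := by
    rw [← IsLocalRing.map_maximalIdeal_of_surjective (Ideal.Quotient.mk K)
      Ideal.Quotient.mk_surjective, Ideal.map_map]
    congr 1
  have h0 : ringKrullDim (B ⧸ (IsLocalRing.maximalIdeal (A ⧸ K)).map (algebraMap (A ⧸ K) B)) = 0 := by
    rw [hmap]; exact hdef
  have h1 : ringKrullDim B ≤ ringKrullDim (A ⧸ K) := hle (A ⧸ K) h0
  obtain ⟨r, hrK, hr0⟩ := Submodule.exists_mem_ne_zero_of_ne_bot hK
  have h2 : ringKrullDim (A ⧸ K) + 1 ≤ ringKrullDim A :=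
    ringKrullDim_succ_le_of_surjective (Ideal.Quotient.mk K) Ideal.Quotient.mk_surjective
      (mem_nonZeroDivisors_of_ne_zero hr0) (Ideal.Quotient.eq_zero_iff_mem.mpr hrK)
  have h3 : ringKrullDim A + 1 ≤ ringKrullDim A := by
    calc ringKrullDim A + 1 = ringKrullDim B + 1 := by rw [heq]
      _ ≤ ringKrullDim (A ⧸ K) + 1 := by gcongr
      _ ≤ ringKrullDim A := h2
  have hfin : ringKrullDim A ≤ ((IsLocalRing.maximalIdeal A).spanFinrank : WithBot ℕ∞) :=
    ringKrullDim_le_spanFinrank_maximalIdeal A
  have hnn : (0 : WithBot ℕ∞) ≤ ringKrullDim A := ringKrullDim_nonneg_of_nontrivial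
  -- ringKrullDim A is a natural number n, and n + 1 ≤ n is absurd
  generalize ringKrullDim A = d at h3 hfin hnn
  induction d using WithBot.recBotCoe with
  | bot => simp at hnn
  | coe d =>
    induction d using ENat.recTopCoe with
    | top =>
      have : ((⊤ : ℕ∞) : WithBot ℕ∞) ≤ (((IsLocalRing.maximalIdeal A).spanFinrank : ℕ∞) : WithBot ℕ∞) := by
        exact_mod_cast hfin
      rw [WithBot.coe_le_coe] at this
      exact absurd (top_le_iff.mp this) (ENat.natCast_ne_top _)
    | coe n =>
      have : ((n + 1 : ℕ) : WithBot ℕ∞) ≤ ((n : ℕ) : WithBot ℕ∞) := by exact_mod_cast h3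
      have h4 : n + 1 ≤ n := by exact_mod_cast this
      omega

end Groth.Agent.S5771
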