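import Groth.Statements.S5775
import Groth.Agent.Lib.Helper29.FlatRegular
import Groth.Agent.Lib.Helper2.LocalFlat4

set_option autoImplicit false
universe u
open EGA41

namespace Groth.Agent.S5775

/-- Let A → B be a local homomorphism of Noetherian local rings, m the maximal ideal of A, M a finitely
generated B-module flat over A and R a B-submodule of M such that M/R is flat over A. Let f_1, ...,
f_n be elements of the maximal ideal of B such that (i) f_i M ⊆ R for all i, (ii) the images of the
f_i form an (M/mM)-regular sequence, and (iii) the submodule f_1 (M/mM) + ... + f_n (M/mM) is the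
image of R in M/mM. Then (f_i) is an M-regular sequence and R = f_1 M + ... + f_n M. -/
theorem result (A B : Type u) [CommRing A] [CommRing B] [IsLocalRing A]
    [IsLocalRing B] [IsNoetherianRing A] [IsNoetherianRing B] [Algebra A B] [IsLocalHom (algebraMap A B)]
    (M : Type u) [AddCommGroup M] [Module B M] [Module A M] [IsScalarTower A B M] [Module.Finite B M]
    [Module.Flat A M] (R : Submodule B M) (hR : Module.Flat A (M ⧸ R)) (fs : List B)
    (hfs : ∀ f ∈ fs, f ∈ IsLocalRing.maximalIdeal B) (h1 : Ideal.ofList fs • (⊤ : Submodule B M) ≤ R)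
    (h2 : RingTheory.Sequence.IsWeaklyRegular
      (M ⧸ ((IsLocalRing.maximalIdeal A).map (algebraMap A B) • (⊤ : Submodule B M))) fs)
    (h3 : Ideal.ofList fs • (⊤ : Submodule B
        (M ⧸ ((IsLocalRing.maximalIdeal A).map (algebraMap A B) • (⊤ : Submodule B M)))) =
      R.map ((IsLocalRing.maximalIdeal A).map (algebraMap A B) • (⊤ : Submodule B M)).mkQ) :
    RingTheory.Sequence.IsWeaklyRegular M fs ∧ R = Ideal.ofList fs • (⊤ : Submodule B M) := by
  obtain ⟨hreg, -⟩ := Groth.Agent.Lib.Helper29.FlatRegular.isWeaklyRegular_and_flat_of_fibre A B fs M h2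
  refine ⟨hreg, le_antisymm ?_ h1⟩
  have hjac : (IsLocalRing.maximalIdeal A).map (algebraMap A B) ≤ Ideal.jacobson ⊥ := by
    rw [IsLocalRing.jacobson_eq_maximalIdeal ⊥ bot_ne_top]
    exact IsLocalRing.map_maximalIdeal_le (algebraMap A B)
  have hflatR : Module.Flat A (M ⧸ R.restrictScalars A) :=
    Module.Flat.of_linearEquiv (Submodule.Quotient.restrictScalarsEquiv A R)
  apply Submodule.le_of_le_smul_of_le_jacobson_bot (IsNoetherian.noetherian R) hjac
  intro x hx
  have hx1 : ((IsLocalRing.maximalIdeal A).map (algebraMap A B) • (⊤ : Submodule B M)).mkQ x ∈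
      R.map ((IsLocalRing.maximalIdeal A).map (algebraMap A B) • (⊤ : Submodule B M)).mkQ :=
    Submodule.mem_map_of_mem hx
  rw [← h3] at hx1
  have h4 : (Ideal.ofList fs • (⊤ : Submodule B
        (M ⧸ ((IsLocalRing.maximalIdeal A).map (algebraMap A B) • (⊤ : Submodule B M))))) =
      (Ideal.ofList fs • (⊤ : Submodule B M)).map
        ((IsLocalRing.maximalIdeal A).map (algebraMap A B) • (⊤ : Submodule B M)).mkQ := by
    rw [Submodule.map_smul'', Submodule.map_top, Submodule.range_mkQ]
  rw [h4] at hx1
  obtain ⟨r', hr', hr'x⟩ := hx1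
  have hy : x - r' ∈ (IsLocalRing.maximalIdeal A).map (algebraMap A B) • (⊤ : Submodule B M) := by
    rw [← Submodule.Quotient.mk_eq_zero, Submodule.Quotient.mk_sub, sub_eq_zero]
    exact hr'x.symm
  have hyR : x - r' ∈ R := R.sub_mem hx (h1 hr')
  have hy2 : x - r' ∈ (R.restrictScalars A) ⊓ (IsLocalRing.maximalIdeal A) • (⊤ : Submodule A M) :=
    ⟨hyR, (Groth.Agent.Lib.Helper29.FlatRegular.mem_smul_top_iff A B M _).1 hy⟩
  have hy3 := Groth.Agent.Lib.Helper2.inf_smul_top_le' A (IsLocalRing.maximalIdeal A) M
    (R.restrictScalars A) hy2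
  have hy4 : x - r' ∈ (IsLocalRing.maximalIdeal A).map (algebraMap A B) • R := by
    have hle : (IsLocalRing.maximalIdeal A) • (R.restrictScalars A) ≤
        ((IsLocalRing.maximalIdeal A).map (algebraMap A B) • R).restrictScalars A := by
      rw [Submodule.smul_le]
      intro a ha r hr
      rw [Submodule.restrictScalars_mem, ← algebraMap_smul B a r]
      exact Submodule.smul_mem_smul (Ideal.mem_map_of_mem _ ha) hr
    exact hle hy3
  have : x = r' + (x - r') := by abel
  rw [this]
  exact Submodule.add_mem_sup hr' hy4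

end Groth.Agent.S5775
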