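import Groth.Statements.S5778
import Groth.Agent.Lib.Helper87.RegHilb
import Groth.Agent.Lib.Helper87.PolyGrowth
import Groth.Agent.Lib.Helper87.HSArith
import Groth.Agent.S3405

set_option autoImplicit false
universe u
open EGA41

namespace Groth.Agent.S5778

/-- Let A be a Noetherian local ring with maximal ideal m, residue field k, and let r be the dimension
of the k-vector space m/m². Then A is regular if and only if the canonical surjection of graded
k-algebras from the symmetric algebra of m/m² onto the associated graded ring of A for the m-adic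
filtration is bijective. Since that surjection is bijective exactly when source and target have the
same length in every degree, the condition is expressed here as: length_A(A/m^(s+1)) equals the
binomial coefficient C(s+r, r) for every s ≥ 0. -/
theorem result (A : Type u) [CommRing A] [IsLocalRing A]
    [IsNoetherianRing A] :
    IsRegularLocalRing A ↔
      ∀ s : ℕ, Module.length A (A ⧸ IsLocalRing.maximalIdeal A ^ (s + 1)) =
        ((s + Module.finrank (IsLocalRing.ResidueField A) (IsLocalRing.CotangentSpace A)).choose s : ℕ∞) := by
  classical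
  set r := Module.finrank (IsLocalRing.ResidueField A) (IsLocalRing.CotangentSpace A) with hr
  have hspan : (IsLocalRing.maximalIdeal A).spanFinrank = r :=
    IsLocalRing.spanFinrank_maximalIdeal_eq_finrank_cotangentSpace A
  -- generators of the maximal ideal
  have hfg : (IsLocalRing.maximalIdeal A).FG := IsNoetherian.noetherian _
  obtain ⟨S, hcard, hSspan⟩ := Submodule.FG.exists_span_finset_card_eq_spanFinrank hfg
  rw [hspan] at hcard
  let e := S.equivFinOfCardEq hcard
  let x : Fin r → A := fun i => (e.symm i : A)
  have hrange : Set.range x = (S : Set A) := by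
    ext a
    constructor
    · rintro ⟨i, rfl⟩; exact (e.symm i).2
    · intro ha; exact ⟨e ⟨a, ha⟩, by simp [x]⟩
  have hx : Ideal.span (Set.range x) = IsLocalRing.maximalIdeal A := by rw [hrange]; exact hSspan
  constructor
  · intro hreg
    have hdim : ringKrullDim A = r :=
      ((IsRegularLocalRing.iff_finrank_cotangentSpace A).mp hreg).symm
    have := Groth.Agent.Lib.Helper87.RegHilb.isCM_of_regular A
    intro s
    rw [Groth.Agent.Lib.Helper87.RegHilb.length_quot_pow_eq hdim x hx s, Nat.choose_symm_add]
  · intro h
    obtain ⟨P, ⟨N, hP⟩, hdeg⟩ := Groth.Agent.S3405.result A A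
    have hjac : Ring.jacobson A = IsLocalRing.maximalIdeal A := by
      rw [← Ideal.jacobson_bot, IsLocalRing.jacobson_eq_maximalIdeal ⊥ bot_ne_top]
    -- the polynomial `C(n-1+r, r)`
    set Q : Polynomial ℚ := (Groth.Agent.Lib.Helper87.HSArith.Bpoly r).comp
      (Polynomial.X - Polynomial.C 1) with hQ
    have hPQ : P = Q := by
      rw [← sub_eq_zero]
      apply Groth.Agent.Lib.Helper87.PolyGrowth.eq_zero_of_eventually_eval_eq_zero
      filter_upwards [Filter.eventually_ge_atTop N, Filter.eventually_ge_atTop 1] with n hn hn1
      obtain ⟨ℓ, hℓ, hℓP⟩ := hP n hn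
      obtain ⟨s, rfl⟩ : ∃ s, n = s + 1 := ⟨n - 1, by omega⟩
      have h1 : (Ring.jacobson A ^ (s + 1) • (⊤ : Submodule A A)) =
          IsLocalRing.maximalIdeal A ^ (s + 1) := by
        rw [hjac]; simp
      rw [h1, h s] at hℓ
      have h2 : (s + r).choose s = ℓ := by exact_mod_cast hℓ
      rw [Polynomial.eval_sub, ← hℓP, ← h2, hQ, Polynomial.eval_comp, Polynomial.eval_sub,
        Polynomial.eval_X, Polynomial.eval_C]
      have h3 : (((s + 1 : ℕ) : ℚ) - 1) = (s : ℚ) := by push_cast; ring
      rw [h3, Groth.Agent.Lib.Helper87.HSArith.Bpoly_eval,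
        Groth.Agent.Lib.Helper87.HSArith.B_apply, Nat.choose_symm_add]
      push_cast
      ring
    have hQdeg : Q.natDegree = r := by
      rw [hQ, Polynomial.natDegree_comp, Groth.Agent.Lib.Helper87.HSArith.Bpoly_natDegree,
        Polynomial.natDegree_X_sub_C, mul_one]
    rw [hPQ, hQdeg, Module.supportDim_self_eq_ringKrullDim] at hdeg
    exact (IsRegularLocalRing.iff_finrank_cotangentSpace A).mpr hdeg

end Groth.Agent.S5778
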