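import Groth.Statements.S5779
import Mathlib
import Groth.Agent.Lib.Helper83.RegQuot

set_option autoImplicit false
universe u
open EGA41

namespace Groth.Agent.S5779

open IsLocalRing Groth.Agent.Lib.Helper83.RegQuot in
theorem exists_nat_eq_ringKrullDim (S : Type u) [CommRing S] [IsLocalRing S] [IsNoetherianRing S] :
    ∃ k : ℕ, ringKrullDim S = k := by
  have hfin : ringKrullDim S ≠ ⊤ := ringKrullDim_ne_top
  have hbot : ringKrullDim S ≠ ⊥ := ringKrullDim_ne_bot
  obtain ⟨m, hm⟩ := WithBot.ne_bot_iff_exists.1 hbot
  have hm' : m ≠ ⊤ := by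
    intro h; apply hfin; rw [← hm, h]; rfl
  obtain ⟨k, hk⟩ := ENat.ne_top_iff_exists.1 hm'
  exact ⟨k, by rw [← hm, ← hk]; rfl⟩

/-- Let A be a Noetherian local ring with maximal ideal m and residue field k, (x_i)_{1 ≤ i ≤ r}
elements of m and J = x_1 A + ... + x_r A. Then A is regular with the classes of the x_i in m/m²
linearly independent over k (equivalently: the x_i are part of a regular system of parameters) if
and only if the x_i are part of a system of parameters of A (dim(A/J) = dim(A) - r) and A/J is
regular. When these conditions hold, J is a prime ideal. -/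
theorem result (A : Type u) [CommRing A] [IsLocalRing A]
    [IsNoetherianRing A] (r : ℕ) (x : Fin r → IsLocalRing.maximalIdeal A) :
    ((IsRegularLocalRing A ∧
        LinearIndependent (IsLocalRing.ResidueField A)
          (fun i => (IsLocalRing.maximalIdeal A).toCotangent (x i))) ↔
      (ringKrullDim (A ⧸ Ideal.span (Set.range fun i => (x i : A))) + r = ringKrullDim A ∧
        IsRegularLocalRing (A ⧸ Ideal.span (Set.range fun i => (x i : A))))) ∧
    (IsRegularLocalRing (A ⧸ Ideal.span (Set.range fun i => (x i : A))) →
      ringKrullDim (A ⧸ Ideal.span (Set.range fun i => (x i : A))) + r = ringKrullDim A →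
        (Ideal.span (Set.range fun i => (x i : A))).IsPrime) := by
  classical
  set J : Ideal A := Ideal.span (Set.range fun i => (x i : A)) with hJ
  have hJm : J ≤ IsLocalRing.maximalIdeal A := by
    rw [hJ, Ideal.span_le]
    rintro _ ⟨i, rfl⟩
    exact (x i).2
  have hJne : J ≠ ⊤ := fun h => (IsLocalRing.maximalIdeal.isMaximal A).ne_top (top_le_iff.1 (h ▸ hJm))
  have : Nontrivial (A ⧸ J) := Ideal.Quotient.nontrivial_iff.2 hJne
  have hloc : IsLocalRing (A ⧸ J) :=
    IsLocalRing.of_surjective' (Ideal.Quotient.mk _) Ideal.Quotient.mk_surjective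
  -- the images of the `x i` as a finset
  set X : Finset A := Finset.univ.image (fun i => (x i : A)) with hX
  have hXJ : Ideal.span (X : Set A) = J := by
    rw [hJ, hX, Finset.coe_image, Finset.coe_univ, Set.image_univ]
  have hXcard : X.card ≤ r := by
    have := Finset.card_image_le (s := (Finset.univ : Finset (Fin r))) (f := fun i => (x i : A))
    simpa using this
  have hJr : J.spanFinrank ≤ r := by
    have h1 := Submodule.spanFinrank_span_le_ncard_of_finite (R := A) (Finset.finite_toSet X)
    rw [Set.ncard_coe_finset] at h1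
    change (Ideal.span (X : Set A)).spanFinrank ≤ X.card at h1
    rw [hXJ] at h1
    omega
  have hkrull : ringKrullDim A ≤ ringKrullDim (A ⧸ J) + J.spanFinrank := by
    apply ringKrullDim_le_ringKrullDim_quotient_add_spanFinrank
    rw [IsLocalRing.ringJacobson_eq_maximalIdeal]
    exact hJm
  have hdimle : ringKrullDim (A ⧸ J) ≤ (IsLocalRing.maximalIdeal (A ⧸ J)).spanFinrank :=
    ringKrullDim_le_spanFinrank_maximalIdeal _
  have hdimleA : ringKrullDim A ≤ (IsLocalRing.maximalIdeal A).spanFinrank :=
    ringKrullDim_le_spanFinrank_maximalIdeal _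
  obtain ⟨δ, hδ⟩ := exists_nat_eq_ringKrullDim (A ⧸ J)
  obtain ⟨N, hN⟩ := exists_nat_eq_ringKrullDim A
  rw [hδ, hN] at hkrull
  rw [hδ] at hdimle
  rw [hN] at hdimleA
  have hkrull' : N ≤ δ + J.spanFinrank := by exact_mod_cast hkrull
  have hdimle' : δ ≤ (IsLocalRing.maximalIdeal (A ⧸ J)).spanFinrank := by exact_mod_cast hdimle
  have hdimleA' : N ≤ (IsLocalRing.maximalIdeal A).spanFinrank := by exact_mod_cast hdimleA
  have hcot : (IsLocalRing.maximalIdeal A).spanFinrank =
      Module.finrank (IsLocalRing.ResidueField A) (IsLocalRing.CotangentSpace A) :=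
    IsLocalRing.spanFinrank_maximalIdeal_eq_finrank_cotangentSpace _
  refine ⟨⟨?_, ?_⟩, ?_⟩
  · -- (⇒)
    rintro ⟨hreg, hli⟩
    have hμ : ((IsLocalRing.maximalIdeal A).spanFinrank : WithBot ℕ∞) = ringKrullDim A :=
      IsRegularLocalRing.spanFinrank_maximalIdeal
    rw [hN] at hμ
    have hμ' : (IsLocalRing.maximalIdeal A).spanFinrank = N := by exact_mod_cast hμ
    set W : Submodule (IsLocalRing.ResidueField A) (IsLocalRing.CotangentSpace A) :=
      Submodule.span _ (Set.range fun i => (IsLocalRing.maximalIdeal A).toCotangent (x i)) with hW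
    have hWr : Module.finrank (IsLocalRing.ResidueField A) W = r := by
      rw [hW, finrank_span_eq_card hli, Fintype.card_fin]
    obtain ⟨W', hW'⟩ := Submodule.exists_isCompl W
    have hsum := Submodule.finrank_add_eq_of_isCompl hW'
    let b := Module.finBasis (IsLocalRing.ResidueField A) W'
    have hlift : ∀ j, ∃ y : IsLocalRing.maximalIdeal A,
        (IsLocalRing.maximalIdeal A).toCotangent y = (b j : IsLocalRing.CotangentSpace A) :=
      fun j => Ideal.toCotangent_surjective _ _
    choose y hy using hlift
    set S : Set (IsLocalRing.maximalIdeal A) := Set.range x ∪ Set.range y with hS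
    have hspanS : Submodule.span (IsLocalRing.ResidueField A)
        ((IsLocalRing.maximalIdeal A).toCotangent '' S) = ⊤ := by
      rw [hS, Set.image_union, Submodule.span_union, ← Set.range_comp, ← Set.range_comp]
      have h1 : Submodule.span (IsLocalRing.ResidueField A)
          (Set.range ((IsLocalRing.maximalIdeal A).toCotangent ∘ y)) = W' := by
        have : ((IsLocalRing.maximalIdeal A).toCotangent ∘ y) = W'.subtype ∘ b := by
          funext j; exact hy j
        rw [this, Set.range_comp, ← Submodule.map_span, b.span_eq, Submodule.map_top,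
          Submodule.range_subtype]
      rw [h1]
      exact hW'.sup_eq_top
    have hspanA : Submodule.span A S = ⊤ :=
      IsLocalRing.CotangentSpace.span_image_eq_top_iff.1 hspanS
    rw [Groth.Agent.Lib.Helper83.RegQuot.span_eq_top_iff_span_image_eq] at hspanA
    set Y : Finset A := Finset.univ.image (fun j => (y j : A)) with hY
    have hYcard : Y.card ≤ Module.finrank (IsLocalRing.ResidueField A) W' := by
      have := Finset.card_image_le
        (s := (Finset.univ : Finset (Fin (Module.finrank (IsLocalRing.ResidueField A) W'))))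
        (f := fun j => (y j : A))
      simpa using this
    have hYJ : Ideal.span (Y : Set A) ⊔ J = IsLocalRing.maximalIdeal A := by
      rw [← hspanA, hS, Set.image_union, Ideal.span_union, sup_comm, hJ, hY, Finset.coe_image,
        Finset.coe_univ, Set.image_univ, ← Set.range_comp, ← Set.range_comp]
      rfl
    have hμJ := Groth.Agent.Lib.Helper83.RegQuot.spanFinrank_maximalIdeal_quotient_le J Y hYJ
    have hδeq : (IsLocalRing.maximalIdeal (A ⧸ J)).spanFinrank = δ ∧ δ + r = N := by omega
    refine ⟨?_, ?_⟩
    · rw [hδ, hN]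
      exact_mod_cast hδeq.2
    · apply IsRegularLocalRing.of_spanFinrank_maximalIdeal_le
      rw [hδ, hδeq.1]
  · -- (⇐)
    rintro ⟨hd, hreg'⟩
    have hμ : ((IsLocalRing.maximalIdeal (A ⧸ J)).spanFinrank : WithBot ℕ∞) =
        ringKrullDim (A ⧸ J) := IsRegularLocalRing.spanFinrank_maximalIdeal
    rw [hδ] at hμ
    have hμ' : (IsLocalRing.maximalIdeal (A ⧸ J)).spanFinrank = δ := by exact_mod_cast hμ
    rw [hδ, hN] at hd
    have hd' : δ + r = N := by exact_mod_cast hd
    obtain ⟨t, htcard, htm, htspan⟩ :=
      Groth.Agent.Lib.Helper83.RegQuot.exists_finset_span_sup_eq J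
    have hspan2 : Ideal.span ((t ∪ X : Finset A) : Set A) = IsLocalRing.maximalIdeal A := by
      rw [Finset.coe_union, Ideal.span_union, hXJ, htspan]
    have hμA : (IsLocalRing.maximalIdeal A).spanFinrank ≤ (t ∪ X).card := by
      have h1 := Submodule.spanFinrank_span_le_ncard_of_finite (R := A)
        (Finset.finite_toSet (t ∪ X))
      rw [Set.ncard_coe_finset] at h1
      change (Ideal.span ((t ∪ X : Finset A) : Set A)).spanFinrank ≤ _ at h1
      rwa [hspan2] at h1
    have hunion := Finset.card_union_le t X
    have hregA : IsRegularLocalRing A := by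
      apply IsRegularLocalRing.of_spanFinrank_maximalIdeal_le
      rw [hN]
      have : (IsLocalRing.maximalIdeal A).spanFinrank ≤ N := by omega
      exact_mod_cast this
    refine ⟨hregA, ?_⟩
    have htc : t.card = δ := by omega
    have hfr : Module.finrank (IsLocalRing.ResidueField A) (IsLocalRing.CotangentSpace A) =
        r + t.card := by omega
    -- the spanning family
    let v : Fin r ⊕ t → IsLocalRing.CotangentSpace A :=
      Sum.elim (fun i => (IsLocalRing.maximalIdeal A).toCotangent (x i))
        (fun z => (IsLocalRing.maximalIdeal A).toCotangent ⟨z.1, htm z.2⟩)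
    set S : Set (IsLocalRing.maximalIdeal A) :=
      Set.range x ∪ Set.range (fun z : t => (⟨z.1, htm z.2⟩ : IsLocalRing.maximalIdeal A)) with hS
    have hspanA : Submodule.span A S = ⊤ := by
      rw [Groth.Agent.Lib.Helper83.RegQuot.span_eq_top_iff_span_image_eq, hS, Set.image_union,
        Ideal.span_union, ← Set.range_comp, ← Set.range_comp]
      have h1 : Ideal.span (Set.range (Subtype.val ∘ x)) = J := rfl
      have h2 : Set.range (Subtype.val ∘ fun z : t =>
          (⟨z.1, htm z.2⟩ : IsLocalRing.maximalIdeal A)) = (t : Set A) := by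
        ext z
        simp
      rw [h1, h2, sup_comm]
      exact htspan
    have hspanS := IsLocalRing.CotangentSpace.span_image_eq_top_iff.2 hspanA
    have hrange : (IsLocalRing.maximalIdeal A).toCotangent '' S = Set.range v := by
      rw [hS, Set.image_union, ← Set.range_comp, ← Set.range_comp, Set.Sum.elim_range]
      rfl
    rw [hrange] at hspanS
    have hcard : Fintype.card (Fin r ⊕ t) =
        Module.finrank (IsLocalRing.ResidueField A) (IsLocalRing.CotangentSpace A) := by
      rw [Fintype.card_sum, Fintype.card_fin, Fintype.card_coe, hfr]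
    have hliv := linearIndependent_of_top_le_span_of_card_eq_finrank hspanS.ge hcard
    exact hliv.comp Sum.inl Sum.inl_injective
  · intro hreg' _
    have : IsDomain (A ⧸ J) := Groth.Agent.S0558.result (A ⧸ J)
    exact (Ideal.Quotient.isDomain_iff_prime J).1 this

end Groth.Agent.S5779
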