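import Groth.Statements.S5780
import Groth.Agent.Lib.Helper29.AssDepth
import Mathlib.RingTheory.Nakayama

set_option autoImplicit false
universe u
open EGA41

namespace Groth.Agent.S5780

/-- Let A be a Noetherian local ring with maximal ideal m. If every element of m which is not in m² is a
zero divisor in A, then there is a nonzero c in A with c m = 0, i.e. m is an associated prime of A. -/
theorem result (A : Type u) [CommRing A]
    [IsLocalRing A] [IsNoetherianRing A]
    (h : ∀ a ∈ IsLocalRing.maximalIdeal A, a ∉ IsLocalRing.maximalIdeal A ^ 2 → ¬ IsSMulRegular A a) :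
    IsLocalRing.maximalIdeal A ∈ associatedPrimes A A := by
  classical
  have hfin : (associatedPrimes A A).Finite := associatedPrimes.finite A A
  have hsub : ((IsLocalRing.maximalIdeal A : Ideal A) : Set A) ⊆
      ((id (IsLocalRing.maximalIdeal A ^ 2) : Ideal A) : Set A) ∪
        ((id (IsLocalRing.maximalIdeal A ^ 2) : Ideal A) : Set A) ∪
        ⋃ p ∈ ((hfin.toFinset : Finset (Ideal A)) : Set (Ideal A)), ((id p : Ideal A) : Set A) := by
    intro x hx
    by_cases hx2 : x ∈ IsLocalRing.maximalIdeal A ^ 2
    · exact Or.inl (Or.inl hx2)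
    · right
      have := (Groth.Agent.Lib.Helper29.not_isSMulRegular_iff_mem_biUnion_ass A A x).mp (h x hx hx2)
      simpa using this
  rw [Ideal.subset_union_prime' (f := id)] at hsub
  · have hcase : IsLocalRing.maximalIdeal A ≤ IsLocalRing.maximalIdeal A ^ 2 ∨
        ∃ p ∈ hfin.toFinset, IsLocalRing.maximalIdeal A ≤ id p := by
      rcases hsub with h1 | h1 | h1
      · exact Or.inl h1
      · exact Or.inl h1
      · exact Or.inr h1
    rcases hcase with h1 | ⟨p, hp, hle⟩
    · -- Nakayama: m = 0
      have hbot : IsLocalRing.maximalIdeal A = ⊥ := by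
        apply Submodule.eq_bot_of_le_smul_of_le_jacobson_bot (IsLocalRing.maximalIdeal A)
          (IsLocalRing.maximalIdeal A) (IsNoetherian.noetherian _)
        · rw [smul_eq_mul, ← pow_two]; exact h1
        · exact IsLocalRing.maximalIdeal_le_jacobson _
      rw [← Groth.Agent.Lib.Helper29.forall_not_isSMulRegular_iff_maximalIdeal_mem_ass]
      intro x hx
      rw [hbot, Ideal.mem_bot] at hx
      rw [hx]
      intro h0
      have := h0 (show (0 : A) • (1 : A) = (0 : A) • (0 : A) by simp)
      exact one_ne_zero this
    · have hp' : p ∈ associatedPrimes A A := by simpa using hp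
      have hprime : p.IsPrime := hp'.isPrime
      have : IsLocalRing.maximalIdeal A = p :=
        (IsLocalRing.maximalIdeal.isMaximal A).eq_of_le hprime.ne_top hle
      rw [this]; exact hp'
  · intro p hp
    have hp' : p ∈ associatedPrimes A A := by simpa using hp
    exact hp'.isPrime

end Groth.Agent.S5780
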