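import Groth.Statements.S5781
import Groth.Agent.Lib.Helper33.SerreConverse

set_option autoImplicit false
universe u
open EGA41

namespace Groth.Agent.S5781

open Pointwise in
theorem result_aux (A : Type u) [CommRing A] [IsLocalRing A]
    [IsNoetherianRing A] (a : A) (ha : a ∈ IsLocalRing.maximalIdeal A) (ha2 : a ∉ IsLocalRing.maximalIdeal A ^ 2) :
    ∃ (f : (↥(IsLocalRing.maximalIdeal A) ⧸ Submodule.span A {(⟨a, ha⟩ : ↥(IsLocalRing.maximalIdeal A))}) →ₗ[A]
          QuotSMulTop a ↥(IsLocalRing.maximalIdeal A))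
      (g : QuotSMulTop a ↥(IsLocalRing.maximalIdeal A) →ₗ[A]
          (↥(IsLocalRing.maximalIdeal A) ⧸ Submodule.span A {(⟨a, ha⟩ : ↥(IsLocalRing.maximalIdeal A))})),
      g.comp f = LinearMap.id := by
  classical
  obtain ⟨φ, hφ1, hφ0⟩ := Groth.Agent.Lib.Helper33.exists_functional A a ha ha2
  let abar : QuotSMulTop a (IsLocalRing.maximalIdeal A) := Submodule.Quotient.mk ⟨a, ha⟩
  have hkill : ∀ c ∈ IsLocalRing.maximalIdeal A, c • abar = 0 := by
    intro c hc
    have h2 : c • (⟨a, ha⟩ : IsLocalRing.maximalIdeal A) =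
        a • (⟨c, hc⟩ : IsLocalRing.maximalIdeal A) := by
      ext
      simp [mul_comm]
    show c • Submodule.Quotient.mk (⟨a, ha⟩ : IsLocalRing.maximalIdeal A) = 0
    rw [← Submodule.Quotient.mk_smul, h2, Submodule.Quotient.mk_eq_zero]
    exact Submodule.smul_mem_pointwise_smul _ a ⊤ Submodule.mem_top
  let ψ₀ : (A ⧸ IsLocalRing.maximalIdeal A) →ₗ[A] QuotSMulTop a (IsLocalRing.maximalIdeal A) :=
    Submodule.liftQ _ (LinearMap.toSpanSingleton A _ abar) (by
      intro c hc
      rw [LinearMap.mem_ker, LinearMap.toSpanSingleton_apply]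
      exact hkill c hc)
  let ψ : IsLocalRing.ResidueField A →ₗ[A] QuotSMulTop a (IsLocalRing.maximalIdeal A) :=
    ψ₀.comp (Groth.Agent.Lib.Helper29.residueFieldLinearEquiv A).symm.toLinearMap
  have hψ1 : ψ 1 = abar := by
    show (1 : A) • abar = abar
    rw [one_smul]
  -- the projection `g`
  have hle_g : a • (⊤ : Submodule A (IsLocalRing.maximalIdeal A)) ≤
      Submodule.span A {(⟨a, ha⟩ : IsLocalRing.maximalIdeal A)} := by
    intro y hy
    obtain ⟨z, -, rfl⟩ := (Submodule.mem_smul_pointwise_iff_exists _ _ _).mp hy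
    have : a • z = (z : A) • (⟨a, ha⟩ : IsLocalRing.maximalIdeal A) := by
      ext
      simp [mul_comm]
    rw [this]
    exact Submodule.smul_mem _ _ (Submodule.mem_span_singleton_self _)
  let g : QuotSMulTop a (IsLocalRing.maximalIdeal A) →ₗ[A]
      (IsLocalRing.maximalIdeal A ⧸ Submodule.span A {(⟨a, ha⟩ : IsLocalRing.maximalIdeal A)}) :=
    Submodule.mapQ _ _ LinearMap.id (by simpa using hle_g)
  -- the section `f`
  let s : IsLocalRing.maximalIdeal A →ₗ[A] QuotSMulTop a (IsLocalRing.maximalIdeal A) :=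
    Submodule.mkQ _ - ψ.comp φ
  have hs : Submodule.span A {(⟨a, ha⟩ : IsLocalRing.maximalIdeal A)} ≤ LinearMap.ker s := by
    rw [Submodule.span_le, Set.singleton_subset_iff]
    show s ⟨a, ha⟩ = 0
    simp only [s, LinearMap.sub_apply, LinearMap.comp_apply, hφ1, hψ1]
    exact sub_self _
  let f : (IsLocalRing.maximalIdeal A ⧸ Submodule.span A
      {(⟨a, ha⟩ : IsLocalRing.maximalIdeal A)}) →ₗ[A]
      QuotSMulTop a (IsLocalRing.maximalIdeal A) := Submodule.liftQ _ s hs
  refine ⟨f, g, ?_⟩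
  apply LinearMap.ext
  intro y
  obtain ⟨y, rfl⟩ := Submodule.Quotient.mk_surjective _ y
  have hgψ : ∀ c : IsLocalRing.ResidueField A, g (ψ c) = 0 := by
    intro c
    obtain ⟨c, rfl⟩ := IsLocalRing.residue_surjective c
    have h1 : ψ (IsLocalRing.residue A c) = c • abar := rfl
    rw [h1, map_smul]
    have h2 : g abar = 0 := by
      show Submodule.Quotient.mk (⟨a, ha⟩ : IsLocalRing.maximalIdeal A) = 0
      rw [Submodule.Quotient.mk_eq_zero]
      exact Submodule.mem_span_singleton_self _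
    rw [h2, smul_zero]
  show g (s y) = Submodule.Quotient.mk y
  simp only [s, LinearMap.sub_apply, LinearMap.comp_apply, map_sub, hgψ, sub_zero]
  rfl


/-- Suppose A is a Noetherian local ring whose maximal ideal is m, and take a ∈ m with a ∉ m². Then the
quotient m/am contains a direct summand isomorphic to m/Aa: concretely, one can find A-linear maps f
: m/Aa → m/am and g : m/am → m/Aa such that g ∘ f is the identity. -/
theorem result (A : Type u) [CommRing A] [IsLocalRing A]
    [IsNoetherianRing A] (a : A) (ha : a ∈ IsLocalRing.maximalIdeal A) (ha2 : a ∉ IsLocalRing.maximalIdeal A ^ 2) :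
    ∃ (f : (↥(IsLocalRing.maximalIdeal A) ⧸ Submodule.span A {(⟨a, ha⟩ : ↥(IsLocalRing.maximalIdeal A))}) →ₗ[A]
          QuotSMulTop a ↥(IsLocalRing.maximalIdeal A))
      (g : QuotSMulTop a ↥(IsLocalRing.maximalIdeal A) →ₗ[A]
          (↥(IsLocalRing.maximalIdeal A) ⧸ Submodule.span A {(⟨a, ha⟩ : ↥(IsLocalRing.maximalIdeal A))})),
      g.comp f = LinearMap.id := by
  exact result_aux A a ha ha2

end Groth.Agent.S5781
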