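import Groth.Statements.S5782
import Groth.Agent.Lib.Helper33.ChangeOfRings

set_option autoImplicit false
universe u
open CategoryTheory
open EGA41

namespace Groth.Agent.S5782

/-- Let A be a Noetherian local ring with maximal ideal m, E a finitely generated A-module of finite
projective dimension, and a ∈ m an element which is A-regular and E-regular. Then E/aE, as a module
over A/aA, has finite projective dimension at most the projective dimension of E over A. -/
theorem result (A : Type u) [CommRing A] [IsLocalRing A]
    [IsNoetherianRing A] (E : Type u) [AddCommGroup E] [Module A E] [Module.Finite A E]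
    (hfin : projectiveDimension (ModuleCat.of A E) ≠ ⊤) (a : A) (ha : a ∈ IsLocalRing.maximalIdeal A)
    (hA : IsSMulRegular A a) (hE : IsSMulRegular E a) :
    projectiveDimension (ModuleCat.of (A ⧸ Ideal.span {a}) (E ⧸ (Ideal.span {a} • (⊤ : Submodule A E)))) ≤
      projectiveDimension (ModuleCat.of A E) := by
  have e0 : QuotSMulTop a E ≃ₗ[A] (E ⧸ (Ideal.span {a} • (⊤ : Submodule A E))) :=
    Submodule.quotEquivOfEq _ _ (Submodule.ideal_span_singleton_smul a ⊤).symm
  let e : QuotSMulTop a E ≃ₗ[A ⧸ Ideal.span {a}] (E ⧸ (Ideal.span {a} • (⊤ : Submodule A E))) :=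
    e0.extendScalarsOfSurjective Ideal.Quotient.mk_surjective
  have aux (n : ℕ) : projectiveDimension (ModuleCat.of A E) ≤ n →
      projectiveDimension (ModuleCat.of (A ⧸ Ideal.span {a})
        (E ⧸ (Ideal.span {a} • (⊤ : Submodule A E)))) ≤ n := by
    simp only [projectiveDimension_le_iff]
    intro h
    have h1 := Groth.Agent.Lib.Helper33.hasProjectiveDimensionLT_quotSMulTop A a hA n E hE h
    exact hasProjectiveDimensionLT_of_iso e.toModuleIso (n + 1)
  refine le_of_forall_ge (fun N ↦ ?_)
  induction N with
  | bot =>
    simp only [le_bot_iff, projectiveDimension_eq_bot_iff, ModuleCat.isZero_iff_subsingleton]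
    intro _
    infer_instance
  | coe N =>
    induction N with
    | top => simp
    | coe n => simpa using aux n

end Groth.Agent.S5782
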