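import Groth.Statements.S5783
import Groth.Agent.Lib.Helper33.AuslanderBuchsbaum
import Groth.Agent.Lib.Helper29.DepthFinite
import Groth.Agent.S5671
import Groth.Agent.S0563
import Groth.Agent.S10843

set_option autoImplicit false
universe u
open EGA41

namespace Groth.Agent.S5783

open CategoryTheory in
/-- Common part: for `ρ` injective, `dim B = depth A` and `depth_A B = depth_B B`. -/
theorem dims (A B : Type u) [CommRing A] [CommRing B]
    [IsRegularLocalRing A] [IsLocalRing B] [Algebra A B] [IsLocalHom (algebraMap A B)]
    [Module.Finite A B] (hinj : Function.Injective (algebraMap A B)) :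
    Module.supportDim B B = ((LocCoh.depth A A : ℕ∞) : WithBot ℕ∞) := by
  have hint : (algebraMap A B).IsIntegral := Algebra.IsIntegral.isIntegral (R := A) (A := B)
  have h1 := Groth.Agent.S10843.ringKrullDim_eq_of_isIntegral_of_injective (algebraMap A B) hint hinj
  have hcm := Groth.Agent.S5671.isCM_of_regular A
  unfold LocCoh.IsCohenMacaulayModule at hcm
  rw [Module.supportDim_self_eq_ringKrullDim] at hcm ⊢
  rw [← h1, hcm]

/-- Let A be a regular local ring, B a local ring and ρ : A → B a local homomorphism making B a finitely
generated A-module. Then B is a free A-module if and only if B is a Cohen-Macaulay ring and ρ is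
injective (the latter being equivalent to dim(B) = dim(A)). -/
theorem result (A B : Type u) [CommRing A] [CommRing B]
    [IsRegularLocalRing A] [IsLocalRing B] [Algebra A B] [IsLocalHom (algebraMap A B)] [Module.Finite A B] :
    Module.Free A B ↔ LocCoh.IsCohenMacaulayLocalRing B ∧ Function.Injective (algebraMap A B) := by
  have hBN : IsNoetherianRing B := IsNoetherianRing.of_finite A B
  have hdAB : LocCoh.depth A B = LocCoh.depth B B :=
    Groth.Agent.Lib.Helper29.DepthFinite.depth_eq_of_isLocalHom A B B
  have hnz : ¬ CategoryTheory.Limits.IsZero (ModuleCat.of A B) := fun hz =>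
    not_subsingleton B (ModuleCat.subsingleton_of_isZero hz)
  obtain ⟨t, ht⟩ := ENat.ne_top_iff_exists.1
    (Groth.Agent.Lib.Helper29.DepthLib.depth_ne_top (A := A) (M := A))
  constructor
  · intro hfree
    have hinj : Function.Injective (algebraMap A B) := by
      rw [injective_iff_map_eq_zero]
      intro a ha
      by_contra ha0
      have : Subsingleton B := by
        refine Groth.Agent.Lib.Helper33.subsingleton_of_free_of_smul_eq_zero (R := A) B a ha0 ?_
        intro y
        rw [Algebra.smul_def, ha, zero_mul]
      exact not_subsingleton B this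
    refine ⟨?_, hinj⟩
    have hP : CategoryTheory.Projective (ModuleCat.of A B) := by
      rw [← IsProjective.iff_projective]; infer_instance
    have h1 : CategoryTheory.HasProjectiveDimensionLT (ModuleCat.of A B) (0 + 1) :=
      CategoryTheory.projective_iff_hasProjectiveDimensionLT_one.mp hP
    have h2 : ¬ CategoryTheory.HasProjectiveDimensionLT (ModuleCat.of A B) 0 := fun h =>
      hnz ((CategoryTheory.hasProjectiveDimensionLT_zero_iff_isZero _).mp h)
    have hab := Groth.Agent.Lib.Helper33.AB.depth_eq_add_of_hasProjectiveDimensionLT
      (R := A) B 0 h1 h2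
    refine { supportDim_eq_depth := ?_ }
    rw [dims A B hinj, hab, hdAB]
    simp
  · rintro ⟨hcm, hinj⟩
    have hsd := hcm.supportDim_eq_depth
    rw [dims A B hinj, ← hdAB] at hsd
    have hdep : LocCoh.depth A A = LocCoh.depth A B := by exact_mod_cast hsd
    -- finite projective dimension
    obtain ⟨d, hd⟩ : ∃ d : ℕ, ringKrullDim A = d :=
      ⟨(IsLocalRing.maximalIdeal A).spanFinrank, IsRegularLocalRing.spanFinrank_maximalIdeal.symm⟩
    have hpd := Groth.Agent.S0563.result A d hd B
    have hex : ∃ e, CategoryTheory.HasProjectiveDimensionLT (ModuleCat.of A B) (e + 1) := ⟨d, hpd⟩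
    classical
    let e := Nat.find hex
    have he1 : CategoryTheory.HasProjectiveDimensionLT (ModuleCat.of A B) (e + 1) :=
      Nat.find_spec hex
    have he2 : ¬ CategoryTheory.HasProjectiveDimensionLT (ModuleCat.of A B) e := by
      intro hlt
      by_cases he : e = 0
      · rw [he] at hlt
        exact hnz ((CategoryTheory.hasProjectiveDimensionLT_zero_iff_isZero _).mp hlt)
      · have hmin := Nat.find_min hex (m := e - 1) (by omega)
        apply hmin
        have h1 : e - 1 + 1 = e := by omega
        rw [h1]
        exact hlt
    have hab := Groth.Agent.Lib.Helper33.AB.depth_eq_add_of_hasProjectiveDimensionLT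
      (R := A) B e he1 he2
    rw [← hdep, ← ht] at hab
    have he0 : e = 0 := by
      have : t = e + t := by exact_mod_cast hab
      omega
    rw [he0] at he1
    exact Groth.Agent.Lib.Helper33.AB.free_of_hasProjectiveDimensionLT_one B he1

end Groth.Agent.S5783
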