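import Groth.Statements.S5803
import Mathlib
import Groth.Agent.Lib.Helper77.QuasiRegReg

set_option autoImplicit false
universe u
open EGA41

namespace Groth.Agent.S5803

/-- Case M = A: let A be a Noetherian ring and (f_i)_{1 ≤ i ≤ c} a finite sequence of elements of the
Jacobson radical of A. Then (f_i) is a regular sequence if it is quasi-regular (and conversely every
regular sequence is quasi-regular). -/
theorem result (A : Type u) [CommRing A] [IsNoetherianRing A]
    (c : ℕ) (f : Fin c → A) (hf : ∀ i, f i ∈ Ring.jacobson A) (hq : CAlgX.IsQuasiRegular f) :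
    RingTheory.Sequence.IsWeaklyRegular A (List.ofFn f) := by
  refine Groth.Agent.Lib.Helper77.QuasiReg.isWeaklyRegular_of_isQuasiRegular c A f (fun i => ?_) hq
  rw [Ideal.jacobson_bot]
  exact hf i

end Groth.Agent.S5803
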