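import Groth.Statements.S5806
import Groth.Agent.Lib.Helper15.RegFlat

set_option autoImplicit false
universe u
open EGA41

namespace Groth.Agent.S5806

open TensorProduct in
/-- Let A be a ring, B a commutative A-algebra, (f_i)_{1 ≤ i ≤ n} elements of B and M a B-module.
Suppose (f_i) is M-regular and each of the A-modules M/(f_1 M + ... + f_i M), 0 ≤ i ≤ n, is flat.
Then for every ring homomorphism A → A', writing M' = M ⊗_A A' and f'_i = f_i ⊗ 1, the sequence
(f'_i) is M'-regular and the A'-modules M'/(f'_1 M' + ... + f'_{i-1} M') are flat: concretely,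
identifying M'/(f'_1 M' + ... + f'_{i-1} M') with A' ⊗_A (M/(f_1 M + ... + f_{i-1} M)),
multiplication by f_i on the latter is injective and the latter is A'-flat, for 1 ≤ i ≤ n. (The
published hypothesis lists only the flatness of M/(f_1 M + ... + f_{i-1} M) for 1 ≤ i ≤ n, omitting
M/(f_1 M + ... + f_n M); with that omission the case n = 1, A = B = k[t], M = k[t], f_1 = t, A' =
k[t]/(t) fails, since t acts as zero on k ⊗_A M = k, and the published proof uses the flatness of
M/(f_1 M + ... + f_i M) for every i ≤ n; so flatness of all these quotients is assumed here.) -/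
theorem result (A B : Type u) [CommRing A]
    [CommRing B] [Algebra A B] (M : Type u) [AddCommGroup M] [Module B M] [Module A M] [IsScalarTower A B M]
    (fs : List B) (hreg : RingTheory.Sequence.IsWeaklyRegular M fs)
    (hflat : ∀ i : ℕ, i ≤ fs.length → Module.Flat A (M ⧸ (Ideal.ofList (fs.take i) • (⊤ : Submodule B M))))
    (A' : Type u) [CommRing A'] [Algebra A A'] (i : Fin fs.length) :
    Function.Injective (LinearMap.lTensor A'
        (((LinearMap.lsmul B (M ⧸ (Ideal.ofList (fs.take i) • (⊤ : Submodule B M)))) (fs.get i)).restrictScalars A)) ∧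
      Module.Flat A' (A' ⊗[A] (M ⧸ (Ideal.ofList (fs.take i) • (⊤ : Submodule B M)))) := by
  have hfl := hflat i i.2.le
  refine ⟨?_, inferInstance⟩
  have hfl1 := hflat (i + 1) i.2
  have hQ : Ideal.ofList (fs.take i) ⊔ Ideal.span {fs.get i} = Ideal.ofList (fs.take (i + 1)) := by
    rw [List.take_succ_eq_append_getElem i.2, Ideal.ofList_append, Ideal.ofList_singleton,
      List.get_eq_getElem]
  let e := Groth.Agent.Lib.Helper15.RegFlat.quotQuotEquiv M (Ideal.ofList (fs.take i))
    (Ideal.span {fs.get i}) _ hQ
  let f : (M ⧸ (Ideal.ofList (fs.take i) • (⊤ : Submodule B M))) →ₗ[A]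
      (M ⧸ (Ideal.ofList (fs.take (i + 1)) • (⊤ : Submodule B M))) :=
    (e.toLinearMap ∘ₗ Submodule.mkQ _).restrictScalars A
  have hf : Function.Surjective f := by
    intro y
    obtain ⟨z, hz⟩ := Submodule.mkQ_surjective _ (e.symm y)
    refine ⟨z, ?_⟩
    change e (Submodule.mkQ _ z) = y
    rw [hz, LinearEquiv.apply_symm_apply]
  have hg : Function.Injective (((LinearMap.lsmul B (M ⧸ (Ideal.ofList (fs.take i) •
      (⊤ : Submodule B M)))) (fs.get i)).restrictScalars A) := by
    have := hreg.regular_mod_prev i i.2
    rw [← List.get_eq_getElem] at this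
    exact this
  refine LinearMap.lTensor_injective_of_exact_of_flat f hf _ hg ?_ A'
  intro y
  constructor
  · intro hy
    have hy' : Submodule.mkQ (Ideal.span {fs.get i} • (⊤ : Submodule B (M ⧸
        (Ideal.ofList (fs.take i) • (⊤ : Submodule B M))))) y = 0 := by
      apply e.injective
      rw [map_zero]
      exact hy
    rw [Submodule.mkQ_apply, Submodule.Quotient.mk_eq_zero, Submodule.ideal_span_singleton_smul,
      Submodule.mem_smul_pointwise_iff_exists] at hy'
    obtain ⟨z, -, hz⟩ := hy'
    exact ⟨z, hz⟩
  · rintro ⟨z, rfl⟩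
    have : Submodule.mkQ (Ideal.span {fs.get i} • (⊤ : Submodule B (M ⧸
        (Ideal.ofList (fs.take i) • (⊤ : Submodule B M))))) (fs.get i • z) = 0 := by
      rw [Submodule.mkQ_apply, Submodule.Quotient.mk_eq_zero]
      exact Submodule.smul_mem_smul (Ideal.subset_span rfl) Submodule.mem_top
    change e (Submodule.mkQ _ (fs.get i • z)) = 0
    rw [this, map_zero]

end Groth.Agent.S5806
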