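import Groth.Statements.S5809
import Groth.Agent.Lib.Helper46.TorShift
import Mathlib.RingTheory.LocalRing.Module
import Mathlib.CategoryTheory.Abelian.Projective.Dimension
import Mathlib.Algebra.Category.ModuleCat.Projective

set_option backward.isDefEq.respectTransparency false
set_option backward.defeqAttrib.useBackward true

set_option autoImplicit false
universe u
open CategoryTheory
open EGA41

namespace Groth.Agent.S5809

open Groth.Agent.Lib.Helper46 Groth.Agent.Lib.Helper46.TorShift Limits

/-- Tor (second variable) against a module of projective dimension `≤ n` vanishes in degrees `> n`. -/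
lemma isZero_tor_of_pd {R : Type u} [CommRing R] (N : ModuleCat.{u} R) :
    ∀ (n : ℕ) (X : ModuleCat.{u} R), HasProjectiveDimensionLT X (n + 1) → ∀ i, n < i →
      IsZero (((Tor (ModuleCat.{u} R) i).obj N).obj X) := by
  intro n
  induction n with
  | zero =>
    intro X hX i hi
    have h2 : Projective X := projective_iff_hasProjectiveDimensionLT_one.mpr hX
    haveI := TorLES.flat_of_projective X
    obtain ⟨j, rfl⟩ : ∃ j, i = j + 1 := ⟨i - 1, by omega⟩
    exact TorLES.isZero_tor_succ_of_flat_right X j N
  | succ n ih =>
    intro X hX i hi
    have hS := TorLES.presentation_shortExact X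
    have hproj : Projective (TorLES.presentation X).X₂ := by
      dsimp [TorLES.presentation]; infer_instance
    have h1 : HasProjectiveDimensionLT (TorLES.presentation X).X₁ (n + 1) :=
      (hS.hasProjectiveDimensionLT_X₃_iff n hproj).mp hX
    obtain ⟨j, rfl⟩ : ∃ j, i = j + 1 := ⟨i - 1, by omega⟩
    have hz1 := ih _ h1 j (by omega)
    haveI := TorLES.flat_of_projective (TorLES.presentation X).X₂
    have hz2 : IsZero (((Tor (ModuleCat.{u} R) (j + 1)).obj N).obj (TorLES.presentation X).X₂) :=
      TorLES.isZero_tor_succ_of_flat_right _ j N
    exact (TorLES2.exact₃₂ N _ hS j).isZero_X₂ (hz2.eq_of_src _ _) (hz1.eq_of_tgt _ _)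

/-- over a Noetherian local ring, `Tor_{n+1}(k, M) = 0` implies `pd M ≤ n` for finite `M`. -/
lemma pd_of_tor (A : Type u) [CommRing A] [IsLocalRing A] [IsNoetherianRing A] :
    ∀ (n : ℕ) (M : Type u) [AddCommGroup M] [Module A M] [Module.Finite A M],
      IsZero (T A (n + 1) (IsLocalRing.ResidueField A) M) →
      HasProjectiveDimensionLT (ModuleCat.of A M) (n + 1) := by
  intro n
  induction n with
  | zero =>
    intro M _ _ _ h
    obtain ⟨m, f, hf⟩ := Module.Finite.exists_fin' A M
    have hex : Function.Exact (LinearMap.ker f).subtype f := LinearMap.exact_subtype_ker_map f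
    have hinj := (TorOne.isZero_tor_one_iff_injective_lTensor (N := IsLocalRing.ResidueField A)
      (LinearMap.ker f).subtype f (LinearMap.ker f).injective_subtype hex hf).mp h
    haveI : Module.Free A M := Module.free_of_lTensor_residueField_injective (LinearMap.ker f).subtype f hf hex hinj
    exact projective_iff_hasProjectiveDimensionLT_one.mp inferInstance
  | succ n ih =>
    intro M _ _ _ h
    obtain ⟨m, f, hf⟩ := Module.Finite.exists_fin' A M
    have hex : Function.Exact (LinearMap.ker f).subtype f := LinearMap.exact_subtype_ker_map f
    have hF : IsZero (T A (n + 1) (IsLocalRing.ResidueField A) (Fin m → A)) :=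
      isZero_of_flat_right _ _ n
    have hK : IsZero (T A (n + 1) (IsLocalRing.ResidueField A) ↥(LinearMap.ker f)) :=
      isZero_left₂ (LinearMap.ker f).subtype f (LinearMap.ker f).injective_subtype hex hf (n + 1) h hF
    have hpdK := ih ↥(LinearMap.ker f) hK
    have hS := sesSC_shortExact (LinearMap.ker f).subtype f (LinearMap.ker f).injective_subtype hex hf
    have hproj : Projective (sesSC (LinearMap.ker f).subtype f hex).X₂ :=
      inferInstanceAs (Projective (ModuleCat.of A (Fin m → A)))
    exact (hS.hasProjectiveDimensionLT_X₃_iff n hproj).mpr hpdK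

/-- Let A be a Noetherian local ring with residue field k, M a finitely generated A-module and n ≥ 0.
For M to have projective dimension at most n it is necessary that Tor^A_i(M, k) = 0 for all i > n,
and it suffices that Tor^A_(n+1)(M, k) = 0. (Tor is written here as the left derived functors of k ⊗
- evaluated at M, i.e. computed from a projective resolution of M.) -/
theorem result (A : Type u) [CommRing A] [IsLocalRing A]
    [IsNoetherianRing A] (M : Type u) [AddCommGroup M] [Module A M] [Module.Finite A M] (n : ℕ) :
    (HasProjectiveDimensionLT (ModuleCat.of A M) (n + 1) →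
        ∀ i : ℕ, n < i → Limits.IsZero (((Tor (ModuleCat.{u} A) i).obj
          (ModuleCat.of A (IsLocalRing.ResidueField A))).obj (ModuleCat.of A M))) ∧
      (Limits.IsZero (((Tor (ModuleCat.{u} A) (n + 1)).obj
          (ModuleCat.of A (IsLocalRing.ResidueField A))).obj (ModuleCat.of A M)) →
        HasProjectiveDimensionLT (ModuleCat.of A M) (n + 1)) := by
  exact ⟨fun h i hi => isZero_tor_of_pd _ n _ h i hi, fun h => pd_of_tor A n M h⟩

end Groth.Agent.S5809
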