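import Groth.Statements.S5810
import Groth.Agent.Lib.Helper29.DepthFlat
import Groth.Agent.S2321
import Groth.Agent.Lib.Helper63.CompletionNoeth
import Mathlib.RingTheory.AdicCompletion.LocalRing

set_option autoImplicit false
universe u
open EGA41

namespace Groth.Agent.S5810

/-- Let A be a Noetherian local ring with maximal ideal m and M a finitely generated A-module; write Â
and M̂ for the m-adic completions. Then prof_A(M) = prof_Â(M̂). -/
theorem result (A : Type u) [CommRing A] [IsLocalRing A] [IsNoetherianRing A] (M : Type u)
    [AddCommGroup M] [Module A M] [Module.Finite A M] :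
    LocCoh.depth (AdicCompletion (IsLocalRing.maximalIdeal A) A) (AdicCompletion (IsLocalRing.maximalIdeal A) M) =
      LocCoh.depth A M := by
  have hN : IsNoetherianRing (AdicCompletion (IsLocalRing.maximalIdeal A) A) :=
    Groth.Agent.Lib.Helper63.CompletionNoeth.isNoetherianRing_adicCompletion A _
  have hFF : Module.FaithfullyFlat A (AdicCompletion (IsLocalRing.maximalIdeal A) A) :=
    Groth.Agent.S2321.faithfullyFlat_of_le_jacobson _ (IsLocalRing.maximalIdeal_le_jacobson _)
  have e := AdicCompletion.ofTensorProductEquivOfFiniteNoetherian (IsLocalRing.maximalIdeal A) M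
  unfold LocCoh.depth
  rw [AdicCompletion.maximalIdeal_eq_map,
    ← Groth.Agent.Lib.Helper29.CMLib.idealDepth_congr _ e]
  exact Groth.Agent.Lib.Helper29.DepthFlat.idealDepth_baseChange_eq A _ _ M

end Groth.Agent.S5810
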