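import Groth.Statements.S5814
import Groth.Agent.Lib.Helper29.Exal
-- import your own Groth.Agent.* helpers here

set_option autoImplicit false
universe u
open EGA41

namespace Groth.Agent.S5814

attribute [local instance] Exal.opModule Exal.isCentralScalar_opModule

open Groth.Agent.Lib.Helper29.ExalLib

section Construction

variable {B : Type u} [CommRing B] (J : Ideal B)
    {M : Type u} [AddCommGroup M] [Module (B ⧸ J) M] [Module B M] [IsScalarTower B (B ⧸ J) M]

lemma smul_eq_zero_of_mem {b : B} (hb : b ∈ J) (m : M) :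
    b • m = 0 := by
  rw [← IsScalarTower.algebraMap_smul (B ⧸ J) b m, Ideal.Quotient.algebraMap_eq,
    Ideal.Quotient.eq_zero_iff_mem.2 hb, zero_smul]

section T

variable (B M)

/-- The middle ring of the trivial extension. -/
abbrev T : Type u := Exal.Ext.TrivCarrier B B M

variable {B M}

def fstT (t : T B M) : B := TrivSqZeroExt.fst (t : TrivSqZeroExt B M)
def sndT (t : T B M) : M := TrivSqZeroExt.snd (t : TrivSqZeroExt B M)
def inlT (b : B) : T B M := (TrivSqZeroExt.inl b : TrivSqZeroExt B M)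
def inrT (m : M) : T B M := (TrivSqZeroExt.inr m : TrivSqZeroExt B M)

lemma extT {t t' : T B M} (h1 : fstT t = fstT t') (h2 : sndT t = sndT t') : t = t' :=
  TrivSqZeroExt.ext (x := (t : TrivSqZeroExt B M)) (y := (t' : TrivSqZeroExt B M)) h1 h2

lemma fstT_mul (c t : T B M) : fstT (c * t) = fstT c * fstT t :=
  TrivSqZeroExt.fst_mul (c : TrivSqZeroExt B M) (t : TrivSqZeroExt B M)

lemma sndT_mul (c t : T B M) : sndT (c * t) = fstT c • sndT t + fstT t • sndT c := by
  have := TrivSqZeroExt.snd_mul (c : TrivSqZeroExt B M) (t : TrivSqZeroExt B M)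
  rw [op_smul_eq_smul] at this
  exact this

lemma fstT_add (c t : T B M) : fstT (c + t) = fstT c + fstT t :=
  TrivSqZeroExt.fst_add (c : TrivSqZeroExt B M) (t : TrivSqZeroExt B M)

lemma sndT_add (c t : T B M) : sndT (c + t) = sndT c + sndT t :=
  TrivSqZeroExt.snd_add (c : TrivSqZeroExt B M) (t : TrivSqZeroExt B M)

lemma fstT_sub (c t : T B M) : fstT (c - t) = fstT c - fstT t :=
  TrivSqZeroExt.fst_sub (c : TrivSqZeroExt B M) (t : TrivSqZeroExt B M)

lemma sndT_sub (c t : T B M) : sndT (c - t) = sndT c - sndT t :=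
  TrivSqZeroExt.snd_sub (c : TrivSqZeroExt B M) (t : TrivSqZeroExt B M)

lemma fstT_zero : fstT (0 : T B M) = 0 := rfl
lemma sndT_zero : sndT (0 : T B M) = 0 := rfl
lemma fstT_inl (b : B) : fstT (inlT b : T B M) = b := rfl
lemma sndT_inl (b : B) : sndT (inlT b : T B M) = 0 := rfl
lemma fstT_inr (m : M) : fstT (inrT m : T B M) = 0 := rfl
lemma sndT_inr (m : M) : sndT (inrT m : T B M) = m := rfl
lemma algebraMap_T (b : B) : algebraMap B (T B M) b = inlT b := rfl
lemma inrT_add (m m' : M) : (inrT (m + m') : T B M) = inrT m + inrT m' :=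
  extT (by rw [fstT_add, fstT_inr, fstT_inr, fstT_inr, add_zero])
    (by rw [sndT_add, sndT_inr, sndT_inr, sndT_inr])

end T

/-- The ideal `{(b, -w b̄) : b ∈ J}` of the trivial extension `B ⊕ M`. -/
def K (w : J.Cotangent →ₗ[B] M) : Ideal (T B M) where
  carrier := {t | ∃ h : fstT t ∈ J, sndT t = - w (J.toCotangent ⟨fstT t, h⟩)}
  add_mem' := by
    rintro t t' ⟨h, ht⟩ ⟨h', ht'⟩
    have hadd : fstT (t + t') ∈ J := by rw [fstT_add]; exact J.add_mem h h'
    refine ⟨hadd, ?_⟩
    rw [sndT_add, ht, ht', ← neg_add, ← map_add, ← map_add]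
    congr 3
  zero_mem' := by
    refine ⟨by rw [fstT_zero]; exact J.zero_mem, ?_⟩
    rw [sndT_zero]
    have : (⟨fstT (0 : T B M), by rw [fstT_zero]; exact J.zero_mem⟩ : J) = 0 := rfl
    rw [this, map_zero, map_zero, neg_zero]
  smul_mem' := by
    rintro c t ⟨h, ht⟩
    have hmul : fstT (c * t) ∈ J := by rw [fstT_mul]; exact J.mul_mem_left _ h
    refine ⟨hmul, ?_⟩
    show sndT (c * t) = _
    rw [sndT_mul, smul_eq_zero_of_mem J h, add_zero, ht, smul_neg, ← map_smul, ← map_smul]
    congr 3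

lemma mem_K (w : J.Cotangent →ₗ[B] M) (t : T B M) :
    t ∈ K J w ↔ ∃ h : fstT t ∈ J, sndT t = - w (J.toCotangent ⟨fstT t, h⟩) := Iff.rfl

/-- The projection `(B ⊕ M)/K → B/J`. -/
noncomputable def projK (w : J.Cotangent →ₗ[B] M) : (T B M ⧸ K J w) →ₐ[B] B ⧸ J :=
  Ideal.Quotient.liftₐ (K J w) ((Ideal.Quotient.mkₐ B J).comp (Exal.Ext.trivial B B M).proj)
    (by
      rintro t ⟨h, -⟩
      exact Ideal.Quotient.eq_zero_iff_mem.2 h)

lemma projK_mk (w : J.Cotangent →ₗ[B] M) (t : T B M) :
    projK J w (Ideal.Quotient.mk (K J w) t) = Ideal.Quotient.mk J (fstT t) := rfl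

/-- The inclusion `M → (B ⊕ M)/K`. -/
noncomputable def inclK (w : J.Cotangent →ₗ[B] M) : M →+ (T B M ⧸ K J w) where
  toFun m := Ideal.Quotient.mk (K J w) (inrT m)
  map_zero' := by
    have : (inrT (0 : M) : T B M) = 0 := rfl
    rw [this, map_zero]
  map_add' m m' := by rw [inrT_add, map_add]

lemma inclK_apply (w : J.Cotangent →ₗ[B] M) (m : M) :
    inclK J w m = Ideal.Quotient.mk (K J w) (inrT m) := rfl

lemma isExtensionK (w : J.Cotangent →ₗ[B] M) : Exal.IsExtension (projK J w) (inclK J w) where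
  proj_surjective := by
    intro c
    obtain ⟨b, rfl⟩ := Ideal.Quotient.mk_surjective c
    exact ⟨Ideal.Quotient.mk _ (inlT b), rfl⟩
  incl_injective := by
    rw [injective_iff_map_eq_zero]
    intro m hm
    rw [inclK_apply, Ideal.Quotient.eq_zero_iff_mem] at hm
    obtain ⟨h, hm⟩ := hm
    rw [sndT_inr] at hm
    rw [hm]
    have : (⟨fstT (inrT m : T B M), h⟩ : J) = 0 := rfl
    rw [this, map_zero, map_zero, neg_zero]
  exact := by
    intro x
    obtain ⟨t, rfl⟩ := Ideal.Quotient.mk_surjective x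
    rw [projK_mk, Ideal.Quotient.eq_zero_iff_mem]
    constructor
    · intro h
      refine ⟨sndT t + w (J.toCotangent ⟨_, h⟩), ?_⟩
      rw [inclK_apply, eq_comm, Ideal.Quotient.eq]
      have hf : fstT (t - inrT (sndT t + w (J.toCotangent ⟨_, h⟩))) = fstT t := by
        rw [fstT_sub, fstT_inr, sub_zero]
      refine ⟨by rw [hf]; exact h, ?_⟩
      rw [sndT_sub, sndT_inr]
      have : (⟨fstT (t - inrT (sndT t + w (J.toCotangent ⟨_, h⟩))), by rw [hf]; exact h⟩ : J) =
          ⟨fstT t, h⟩ := Subtype.ext hf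
      rw [this]
      abel
    · rintro ⟨m, hm⟩
      rw [inclK_apply, Ideal.Quotient.eq] at hm
      obtain ⟨h, -⟩ := hm
      rw [fstT_sub, fstT_inr, zero_sub, neg_mem_iff] at h
      exact h
  mul_incl := by
    intro x m
    obtain ⟨t, rfl⟩ := Ideal.Quotient.mk_surjective x
    rw [inclK_apply, inclK_apply, projK_mk, ← map_mul]
    congr 1
    apply extT
    · rw [fstT_mul, fstT_inr, fstT_inr, mul_zero]
    · rw [sndT_mul, sndT_inr, fstT_inr, sndT_inr, zero_smul, add_zero,
        ← Ideal.Quotient.algebraMap_eq, IsScalarTower.algebraMap_smul]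

/-- The extension attached to `w`. -/
noncomputable def extOf (w : J.Cotangent →ₗ[B] M) : Exal.Ext B (B ⧸ J) M where
  E := T B M ⧸ K J w
  proj := projK J w
  incl := inclK J w
  isExtension := isExtensionK J w

end Construction


/-- Surjectivity, commutative form. Let J be an ideal of the commutative ring B, C = B ⧸ J, M a
C-module. Every linear map w : J/J² → M arises from a B-extension of C by M: there is an extension
whose induced map J/J² → M is w. Together with the injectivity statement this is the canonical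
bijection between Hom_C(J/J², M) and the classes of B-extensions of C by M. -/
theorem result {B : Type u} [CommRing B] (J : Ideal B)
    {M : Type u} [AddCommGroup M] [Module (B ⧸ J) M] [Module B M] [IsScalarTower B (B ⧸ J) M]
    (w : J.Cotangent →ₗ[B] M) :
    ∃ X : Exal.Ext B (B ⧸ J) M, X.conormalMap J = w := by
  refine ⟨extOf J w, ?_⟩
  apply LinearMap.ext
  intro c
  obtain ⟨z, rfl⟩ := J.toCotangent_surjective c
  rw [conormalMap_toCotangent]
  apply (extOf J w).isExtension.incl_injective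
  rw [incl_idealToKer]
  show Ideal.Quotient.mk (K J w) (inlT (z : B)) = Ideal.Quotient.mk (K J w) (inrT (w (J.toCotangent z)))
  rw [Ideal.Quotient.eq]
  have hz : fstT (inlT (z : B) - inrT (w (J.toCotangent z)) : T B M) = z := by
    rw [fstT_sub, fstT_inl, fstT_inr, sub_zero]
  refine ⟨by rw [hz]; exact z.2, ?_⟩
  rw [sndT_sub, sndT_inl, sndT_inr, zero_sub]
  congr 3
  exact Subtype.ext hz.symm

end Groth.Agent.S5814
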