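import Groth.Statements.S5815
import Groth.Agent.Lib.Helper29.Exal
import Mathlib.RingTheory.Smooth.Basic
-- import your own Groth.Agent.* helpers here

set_option autoImplicit false
universe u
open EGA41

namespace Groth.Agent.S5815

open Groth.Agent.Lib.Helper29.ExalLib

/-- Discrete case. A commutative A-algebra B is formally smooth if and only if every A-extension of B by
a B-module L is trivial (has an A-algebra section). A and B are taken in one universe and L ranges
over that universe. (The published statement is for topological rings, with direct-limit classes of
extensions; this row is its discrete case.) -/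
theorem result (A B : Type u) [CommRing A] [CommRing B] [Algebra A B] :
    Algebra.FormallySmooth A B ↔
      ∀ (L : Type u) [AddCommGroup L] [Module B L] (X : Exal.Ext A B L), X.IsTrivial := by
  constructor
  · intro hsm L _ _ X
    exact ⟨Algebra.FormallySmooth.liftOfSurjective (AlgHom.id A B) X.proj
      X.isExtension.proj_surjective (isNilpotent_ker_proj X),
      fun b => Algebra.FormallySmooth.liftOfSurjective_apply (AlgHom.id A B) X.proj
        X.isExtension.proj_surjective (isNilpotent_ker_proj X) b⟩
  · intro H
    apply Algebra.FormallySmooth.of_comp_surjective
    intro C _ _ I hI g
    obtain ⟨s, hs⟩ := exists_section_of_forall_isTrivial (fiberProdSnd I g)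
      (fiberProdSnd_surjective I g) (fiberProd_mul_eq_zero I g hI) H
    refine ⟨(fiberProdFst I g).comp s, ?_⟩
    ext b
    show Ideal.Quotient.mk I (fiberProdFst I g (s b)) = g b
    rw [mk_fiberProdFst, hs]

end Groth.Agent.S5815
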