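import Groth.Statements.S5816
import Groth.Agent.Lib.Helper29.Exal
-- import your own Groth.Agent.* helpers here

set_option autoImplicit false
universe u
open EGA41

namespace Groth.Agent.S5816

open Groth.Agent.Lib.Helper29.ExalLib

/-- Discrete case. For ring maps Λ → A → B, B is formally smooth over A relative to Λ (square-zero test
ideals) if and only if every A-extension of B by a B-module L which is Λ-trivial is A-trivial. Λ, A,
B are taken in one universe and L ranges over it. (The published statement is for topological rings;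
this row is its discrete case.) -/
theorem result (Λ A B : Type u) [CommRing Λ]
    [CommRing A] [CommRing B] [Algebra Λ A] [Algebra Λ B] [Algebra A B] [IsScalarTower Λ A B] :
    EGA41.IsFormallySmoothRel Λ A B ↔
      ∀ (L : Type u) [AddCommGroup L] [Module B L] (X : Exal.Ext A B L),
        X.IsTrivialOver Λ → X.IsTrivial := by
  constructor
  · rintro H L _ _ X ⟨s₀, hs₀⟩
    let _ : Algebra Λ X.E := ((algebraMap A X.E).comp (algebraMap Λ A)).toAlgebra
    have : IsScalarTower Λ A X.E := IsScalarTower.of_algebraMap_eq (fun _ => rfl)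
    let u : B →ₐ[Λ] X.E := s₀
    have hJ : RingHom.ker X.proj ^ 2 = ⊥ := by
      rw [← RingHom.ker_coe_toRingHom]; exact ker_proj_sq X
    let e : (X.E ⧸ RingHom.ker X.proj) ≃ₐ[A] B :=
      Ideal.quotientKerAlgEquivOfSurjective X.isExtension.proj_surjective
    have he : ∀ x : X.E, e (Ideal.Quotient.mk _ x) = X.proj x := fun x => rfl
    obtain ⟨v, hv⟩ := H X.E (RingHom.ker X.proj) hJ e.symm.toAlgHom ⟨u, by
      ext b
      show Ideal.Quotient.mk _ (u b) = e.symm b
      rw [AlgEquiv.eq_symm_apply, he]
      exact hs₀ b⟩
    refine ⟨v, fun b => ?_⟩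
    have h1 : Ideal.Quotient.mk _ (v b) = e.symm b := AlgHom.congr_fun hv b
    rw [← he, h1, AlgEquiv.apply_symm_apply]
  · intro H C _ _ _ _ J hJ u₀ ⟨u, hu⟩
    let _ := kerModule (fiberProdSnd J u₀) (fiberProdSnd_surjective J u₀)
      (fiberProd_mul_eq_zero J u₀ hJ)
    let X := ofSurjective (fiberProdSnd J u₀) (fiberProdSnd_surjective J u₀)
      (fiberProd_mul_eq_zero J u₀ hJ)
    have hmem : ∀ b : B, ((u b, b) : C × B) ∈ fiberProd J u₀ := by
      intro b
      rw [mem_fiberProd]
      exact AlgHom.congr_fun hu b
    have htriv : X.IsTrivialOver Λ := by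
      refine ⟨({ toFun := fun b => ⟨(u b, b), hmem b⟩
                 map_one' := Subtype.ext (Prod.ext (map_one u) rfl)
                 map_mul' := fun b b' => Subtype.ext (Prod.ext (map_mul u b b') rfl)
                 map_zero' := Subtype.ext (Prod.ext (map_zero u) rfl)
                 map_add' := fun b b' => Subtype.ext (Prod.ext (map_add u b b') rfl)
                 commutes' := fun l => Subtype.ext (Prod.ext ?_ ?_) } :
                 B →ₐ[Λ] (X.restrictBase Λ).E), fun b => rfl⟩
      · show u (algebraMap Λ B l) = algebraMap A C (algebraMap Λ A l)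
        rw [u.commutes, ← IsScalarTower.algebraMap_apply]
      · show algebraMap Λ B l = algebraMap A B (algebraMap Λ A l)
        rw [← IsScalarTower.algebraMap_apply]
    obtain ⟨s, hs⟩ := H _ X htriv
    refine ⟨(fiberProdFst J u₀).comp s, ?_⟩
    ext b
    show Ideal.Quotient.mk J (fiberProdFst J u₀ (s b)) = u₀ b
    exact (mk_fiberProdFst J u₀ (s b)).trans (congrArg u₀ (hs b))

end Groth.Agent.S5816
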