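import Groth.Statements.S5817
import Mathlib.Algebra.TrivSqZeroExt.Basic

set_option autoImplicit false
universe u v
open EGA41

namespace Groth.Agent.S5817

attribute [local instance] Exal.opModule Exal.isCentralScalar_opModule

/-- Commutative rings, exactness at Der_A(B, L). For ring maps A → B → C and a C-module L, the
B-extension of C by L attached to an A-derivation D : B → L (middle ring C ⊕ L, made a B-algebra
through x ↦ (x, D x)) is trivial if and only if D is the composite of B → C with an A-derivation C →
L. -/
theorem result {A : Type u} {B C L : Type v} [CommRing A] [CommRing B] [CommRing C]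
    [Algebra A B] [Algebra B C] [Algebra A C] [IsScalarTower A B C]
    [AddCommGroup L] [Module C L] [Module B L] [IsScalarTower B C L] [Module A L] [IsScalarTower A B L]
    [IsScalarTower A C L]
    (D : Derivation A B L) :
    (Exal.Ext.ofDerivation (C := C) D).IsTrivial ↔
      ∃ D' : Derivation A C L, D'.compAlgebraMap B = D := by
  constructor
  · rintro ⟨s, hs⟩
    let t : C → TrivSqZeroExt C L := fun c => s c
    have ht_mul : ∀ c c' : C, t (c * c') = t c * t c' := fun c c' => map_mul s c c'
    have ht_add : ∀ c c' : C, t (c + c') = t c + t c' := fun c c' => map_add s c c'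
    have ht_one : t 1 = 1 := map_one s
    have hfst : ∀ c : C, TrivSqZeroExt.fst (t c) = c := hs
    have halg : ∀ b : B, t (algebraMap B C b) =
        TrivSqZeroExt.inl (algebraMap B C b) + TrivSqZeroExt.inr (D b) := by
      intro b
      show s (algebraMap B C b) = _
      rw [s.commutes]
      rfl
    have hsnd_mul : ∀ c c' : C, TrivSqZeroExt.snd (t (c * c')) =
        c • TrivSqZeroExt.snd (t c') + c' • TrivSqZeroExt.snd (t c) := by
      intro c c'
      rw [ht_mul]
      have := TrivSqZeroExt.snd_mul (t c) (t c')
      rw [hfst, hfst, op_smul_eq_smul] at this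
      exact this
    let D'lin : C →ₗ[A] L :=
      { toFun := fun c => TrivSqZeroExt.snd (t c)
        map_add' := fun c c' => by
          rw [ht_add]
          exact TrivSqZeroExt.snd_add _ _
        map_smul' := fun a c => by
          simp only [RingHom.id_apply]
          have h1 : a • c = algebraMap B C (algebraMap A B a) * c := by
            rw [← IsScalarTower.algebraMap_apply A B C, Algebra.smul_def]
          rw [h1, hsnd_mul, halg]
          simp only [TrivSqZeroExt.snd_add, TrivSqZeroExt.snd_inl, TrivSqZeroExt.snd_inr, zero_add,
            Derivation.map_algebraMap, smul_zero, add_zero]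
          rw [← IsScalarTower.algebraMap_apply A B C, algebraMap_smul] }
    refine ⟨⟨D'lin, ?_, ?_⟩, ?_⟩
    · show TrivSqZeroExt.snd (t 1) = 0
      rw [ht_one]
      exact TrivSqZeroExt.snd_one
    · intro c c'
      exact hsnd_mul c c'
    · ext b
      show TrivSqZeroExt.snd (t (algebraMap B C b)) = D b
      rw [halg]
      simp
  · rintro ⟨D', rfl⟩
    let f : C →+* TrivSqZeroExt C L :=
      { toFun := fun c => TrivSqZeroExt.inl c + TrivSqZeroExt.inr (D' c)
        map_one' := by
          rw [Derivation.map_one_eq_zero, TrivSqZeroExt.inr_zero, add_zero, TrivSqZeroExt.inl_one]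
        map_mul' := fun x y => by
          apply TrivSqZeroExt.ext
          · simp
          · simp only [TrivSqZeroExt.snd_add, TrivSqZeroExt.snd_inl, TrivSqZeroExt.snd_inr, zero_add,
              TrivSqZeroExt.snd_mul, TrivSqZeroExt.fst_add, TrivSqZeroExt.fst_inl,
              TrivSqZeroExt.fst_inr, add_zero, Derivation.leibniz, op_smul_eq_smul]
        map_zero' := by
          rw [map_zero, TrivSqZeroExt.inl_zero, TrivSqZeroExt.inr_zero, add_zero]
        map_add' := fun x y => by
          rw [map_add, TrivSqZeroExt.inl_add, TrivSqZeroExt.inr_add]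
          abel }
    refine ⟨{ toRingHom := f, commutes' := fun b => ?_ }, fun c => ?_⟩
    · show TrivSqZeroExt.inl (algebraMap B C b) + TrivSqZeroExt.inr (D' (algebraMap B C b)) = _
      rfl
    · show TrivSqZeroExt.fst (TrivSqZeroExt.inl c + TrivSqZeroExt.inr (D' c)) = c
      simp

end Groth.Agent.S5817
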