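import Groth.Statements.S5818
import Groth.Agent.Lib.Helper29.Exal
-- import your own Groth.Agent.* helpers here

set_option autoImplicit false
universe u v
open EGA41

namespace Groth.Agent.S5818

open Groth.Agent.Lib.Helper29.ExalLib

/-- Commutative rings, exactness at Exalcom_B(C, L) on underlying pointed sets. For ring maps A → B → C
and a C-module L, a B-extension of C by L is A-trivial if and only if it is equivalent to the
extension attached to some A-derivation B → L. -/
theorem result {A : Type u} {B C L : Type v} [CommRing A] [CommRing B] [CommRing C]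
    [Algebra A B] [Algebra B C] [Algebra A C] [IsScalarTower A B C]
    [AddCommGroup L] [Module C L] [Module B L] [IsScalarTower B C L] [Module A L] [IsScalarTower A B L]
    [IsScalarTower A C L]
    (X : Exal.Ext B C L) :
    X.IsTrivialOver A ↔
      ∃ D : Derivation A B L, Nonempty (X.Equiv (Exal.Ext.ofDerivation (C := C) D)) := by
  constructor
  · intro h
    rw [isTrivialOver_iff] at h
    obtain ⟨s, hs, hc⟩ := h
    have hker : ∀ b : B, X.proj (algebraMap B X.E b - s (algebraMap B C b)) = 0 := by
      intro b; rw [map_sub, hs, X.proj.commutes, sub_self]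
    let δ : B → L := fun b => X.kerLift _ (hker b)
    have hδ : ∀ b, X.incl (δ b) = algebraMap B X.E b - s (algebraMap B C b) :=
      fun b => X.incl_kerLift _ _
    have inj := X.isExtension.incl_injective
    have hmul : ∀ (x : X.E) (c : C) (z : L), X.proj x = c → X.incl (c • z) = x * X.incl z := by
      rintro x c z rfl
      exact (X.isExtension.mul_incl x z).symm
    let D : Derivation A B L :=
      { toFun := δ
        map_add' := fun b b' => inj (by
          rw [map_add, hδ, hδ, hδ, map_add, map_add, map_add]; ring)
        map_smul' := fun a b => inj (by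
          rw [RingHom.id_apply, hδ, ← IsScalarTower.algebraMap_smul C a (δ b),
            hmul (s (algebraMap A C a)) _ _ (hs _), hδ, hc, Algebra.smul_def, map_mul, map_mul,
            ← IsScalarTower.algebraMap_apply A B C, map_mul, hc]
          ring)
        map_one_eq_zero' := inj (by
          show X.incl (δ 1) = X.incl 0
          rw [hδ, map_one, map_one, map_one, sub_self, map_zero])
        leibniz' := fun b b' => inj (by
          show X.incl (δ (b * b')) = X.incl (b • δ b' + b' • δ b)
          rw [map_add, ← IsScalarTower.algebraMap_smul C b (δ b'),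
            ← IsScalarTower.algebraMap_smul C b' (δ b),
            hmul (algebraMap B X.E b) _ _ (X.proj.commutes b),
            hmul (s (algebraMap B C b')) _ _ (hs _), hδ, hδ, hδ, map_mul, map_mul, map_mul]
          ring) }
    have hD : ∀ b, D b = δ b := fun b => rfl
    refine ⟨D, ⟨Exal.Ext.Equiv.symm ?_⟩⟩
    let g : (Exal.Ext.ofDerivation (C := C) D).E →ₐ[B] X.E :=
      { toFun := fun t => s (fstD D t) + X.incl (sndD D t)
        map_one' := by rw [fstD_one, sndD_one, map_one, map_zero, add_zero]
        map_mul' := fun t t' => by
          rw [fstD_mul, sndD_mul, map_mul, map_add, hmul (s (fstD D t)) _ _ (hs _),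
            hmul (s (fstD D t')) _ _ (hs _)]
          have := incl_mul_incl X (sndD D t) (sndD D t')
          linear_combination -this
        map_zero' := by rw [fstD_zero, sndD_zero, map_zero, map_zero, add_zero]
        map_add' := fun t t' => by
          rw [fstD_add, sndD_add, map_add, map_add]; ring
        commutes' := fun b => by
          rw [fstD_algebraMap, sndD_algebraMap, hD, hδ]; ring }
    refine equivOfHom _ X g (fun t => ?_) (fun z => ?_)
    · show X.proj (s (fstD D t) + X.incl (sndD D t)) = _
      rw [map_add, hs, proj_incl, add_zero, proj_ofDerivation]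
    · show s (fstD D _) + X.incl (sndD D _) = _
      rw [fstD_incl, sndD_incl, map_zero, zero_add]
  · rintro ⟨D, ⟨e⟩⟩
    apply isTrivialOver_of_equiv A e
    rw [isTrivialOver_iff]
    let sec : C →+* (Exal.Ext.ofDerivation (C := C) D).E :=
      { toFun := fun c => mkD D c 0
        map_one' := extD (by rw [fstD_mkD, fstD_one]) (by rw [sndD_mkD, sndD_one])
        map_mul' := fun c c' => extD (by rw [fstD_mkD, fstD_mul, fstD_mkD, fstD_mkD])
          (by rw [sndD_mkD, sndD_mul, sndD_mkD, sndD_mkD, smul_zero, smul_zero, add_zero])
        map_zero' := extD (by rw [fstD_mkD, fstD_zero]) (by rw [sndD_mkD, sndD_zero])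
        map_add' := fun c c' => extD (by rw [fstD_mkD, fstD_add, fstD_mkD, fstD_mkD])
          (by rw [sndD_mkD, sndD_add, sndD_mkD, sndD_mkD, add_zero]) }
    refine ⟨sec, fun c => ?_, fun a => ?_⟩
    · show fstD D (mkD D c 0) = c
      rw [fstD_mkD]
    · show mkD D (algebraMap A C a) 0 = _
      exact extD (by rw [fstD_mkD, fstD_algebraMap, ← IsScalarTower.algebraMap_apply])
        (by rw [sndD_mkD, sndD_algebraMap, Derivation.map_algebraMap])

end Groth.Agent.S5818
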