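import Groth.Statements.S5819
import Groth.Agent.Lib.Helper29.Exal
-- import your own Groth.Agent.* helpers here

set_option autoImplicit false
universe u v
open EGA41

namespace Groth.Agent.S5819

open Groth.Agent.Lib.Helper29.ExalLib

/-- Commutative rings, exactness at Exalcom_A(C, L) on underlying pointed sets. For ring maps A → B → C
and a C-module L, an A-extension Y of C by L pulls back to a trivial A-extension of B if and only if
Y is equivalent to some B-extension of C by L viewed as an A-extension. -/
theorem result {A : Type u} {B C L : Type v} [CommRing A]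
    [CommRing B] [CommRing C] [Algebra A B] [Algebra B C] [Algebra A C] [IsScalarTower A B C]
    [AddCommGroup L] [Module C L] [Module B L] [IsScalarTower B C L]
    (Y : Exal.Ext A C L) :
    (Y.pullback B).IsTrivial ↔
      ∃ X : Exal.Ext B C L, Nonempty ((X.restrictBase A).Equiv Y) := by
  constructor
  · rintro ⟨σ, hσ⟩
    let t : B →ₐ[A] Y.E := (AlgHom.fst A Y.E B).comp ((Y.fiberProd B).val.comp σ)
    have ht : ∀ b, Y.proj (t b) = algebraMap B C b := by
      intro b
      have h1 : Y.proj (σ b).1.1 = algebraMap B C (σ b).1.2 := (σ b).2
      have h2 : (σ b).1.2 = b := hσ b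
      rw [h2] at h1
      exact h1
    let algB : Algebra B Y.E := t.toRingHom.toAlgebra
    let pB : Y.E →ₐ[B] C :=
      { toFun := fun y => Y.proj y
        map_one' := map_one Y.proj
        map_mul' := map_mul Y.proj
        map_zero' := map_zero Y.proj
        map_add' := map_add Y.proj
        commutes' := fun b => ht b }
    let X : Exal.Ext B C L :=
      @Exal.Ext.mk B C L _ _ _ _ _ Y.E Y.commRing algB pB Y.incl
          { proj_surjective := Y.isExtension.proj_surjective
            incl_injective := Y.isExtension.incl_injective
            exact := Y.isExtension.exact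
            mul_incl := Y.isExtension.mul_incl }
    refine ⟨X, ⟨?_⟩⟩
    let f : (X.restrictBase A).E ≃ₐ[A] Y.E :=
      { toFun := fun y => y
        invFun := fun y => y
        left_inv := fun _ => rfl
        right_inv := fun _ => rfl
        map_mul' := fun _ _ => rfl
        map_add' := fun _ _ => rfl
        commutes' := fun a => t.commutes a }
    exact
      { toAlgEquiv := f
        proj_apply := fun x => by
          show Y.proj x = Y.proj x
          rfl
        apply_incl := fun z => by
          show Y.incl z = Y.incl z
          rfl }
  · rintro ⟨X, ⟨e⟩⟩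
    rw [isTrivial_iff]
    let iB : B →+* (X.restrictBase A).E := algebraMap B X.E
    have hproj : ∀ b, (X.restrictBase A).proj (iB b) = algebraMap B C b := fun b => X.proj.commutes b
    have hiA : ∀ a : A, iB (algebraMap A B a) = algebraMap A (X.restrictBase A).E a := fun a => rfl
    have hmem : ∀ b : B, ((e.toAlgEquiv (iB b), b) : Y.E × B) ∈ Y.fiberProd B := by
      intro b
      show Y.proj (e.toAlgEquiv (iB b)) = algebraMap B C b
      rw [e.proj_apply, hproj]
    let sec : B →+* (Y.pullback B).E :=
      { toFun := fun b => ⟨(e.toAlgEquiv (iB b), b), hmem b⟩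
        map_one' := Subtype.ext (Prod.ext (by
          show e.toAlgEquiv (iB 1) = 1
          rw [map_one, map_one]) rfl)
        map_mul' := fun b b' => Subtype.ext (Prod.ext (by
          show e.toAlgEquiv (iB (b * b')) = e.toAlgEquiv (iB b) * e.toAlgEquiv (iB b')
          rw [map_mul, map_mul]) rfl)
        map_zero' := Subtype.ext (Prod.ext (by
          show e.toAlgEquiv (iB 0) = 0
          rw [map_zero, map_zero]) rfl)
        map_add' := fun b b' => Subtype.ext (Prod.ext (by
          show e.toAlgEquiv (iB (b + b')) = e.toAlgEquiv (iB b) + e.toAlgEquiv (iB b')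
          rw [map_add, map_add]) rfl) }
    refine ⟨sec, fun b => rfl, fun a => ?_⟩
    apply Subtype.ext
    apply Prod.ext
    · show e.toAlgEquiv (iB (algebraMap A B a)) = algebraMap A Y.E a
      rw [hiA, AlgEquiv.commutes]
    · rfl

end Groth.Agent.S5819
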