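import Groth.Statements.S5821
import Groth.Agent.Lib.Helper29.CharHom
-- import your own Groth.Agent.* helpers here

set_option autoImplicit false
universe u v
open EGA41

namespace Groth.Agent.S5821

open Groth.Agent.Lib.Helper29.CharHomLib TensorProduct

/-- For a ring map A → B, an ideal K of B, C = B ⧸ K and the B-extension E = B ⧸ K² of C by K/K², if E
is A-trivial then its characteristic homomorphism Υ_{C/B/A} → K/K² is bijective (stated for every
C-linear χ satisfying the defining square, of which there is exactly one). -/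
theorem result {A : Type u} {B : Type v} [CommRing A] [CommRing B] [Algebra A B]
    (K : Ideal B) (hK : (Exal.Ext.infinitesimal K).IsTrivialOver A)
    (χ : ↥(EGA41.imperfection A B (B ⧸ K)) →ₗ[B ⧸ K] K.Cotangent)
    (hχ : (Exal.Ext.infinitesimal K).IsCharHom A χ) :
    Function.Bijective χ := by
  obtain ⟨σ⟩ := (isTrivialOver_iff_nonempty_aSection A _).1 hK
  obtain ⟨T, hT1, hT2⟩ := exists_tilde σ
  have hχT := (hT2 χ).1 hχ
  have hkerK : RingHom.ker (algebraMap B (B ⧸ K)) = K := by
    rw [Ideal.Quotient.algebraMap_eq, Ideal.mk_ker]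
  -- the component of the image of `k ∈ K`
  have hcomp : ∀ (k : B) (hk : k ∈ K),
      σ.comp (algebraMap B ((Exal.Ext.infinitesimal K).CharCarrier A) k) = K.toCotangent ⟨k, hk⟩ := by
    intro k hk
    have h1 : algebraMap B ((Exal.Ext.infinitesimal K).CharCarrier A) k =
        (Exal.Ext.infinitesimal K).inclC A (K.toCotangent ⟨k, hk⟩) := by
      show Ideal.Quotient.mk (K ^ 2) k = K.cotangentToQuotientSquare (K.toCotangent ⟨k, hk⟩)
      rw [Ideal.toCotangent_to_quotient_square]
      rfl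
    rw [h1, σ.comp_inclC]
  have hTk : ∀ (k : B) (hk : k ∈ K),
      T ((1 : B ⧸ K) ⊗ₜ KaehlerDifferential.D A B k) = K.toCotangent ⟨k, hk⟩ := by
    intro k hk
    rw [hT1, hcomp k hk, one_smul]
  -- elements of the imperfection module
  have hmem : ∀ (k : B), k ∈ K → ((1 : B ⧸ K) ⊗ₜ[B] KaehlerDifferential.D A B k) ∈
      EGA41.imperfection A B (B ⧸ K) := by
    intro k hk
    show KaehlerDifferential.mapBaseChange A B (B ⧸ K) _ = 0
    rw [KaehlerDifferential.mapBaseChange_tmul, one_smul, KaehlerDifferential.map_D,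
      Ideal.Quotient.algebraMap_eq, Ideal.Quotient.eq_zero_iff_mem.2 hk, map_zero]
  have hform : ∀ z : EGA41.imperfection A B (B ⧸ K), ∃ (k : B) (_ : k ∈ K),
      (z : (B ⧸ K) ⊗[B] Ω[B⁄A]) = (1 : B ⧸ K) ⊗ₜ KaehlerDifferential.D A B k := by
    intro z
    have hr := KaehlerDifferential.range_kerCotangentToTensor A B (B ⧸ K)
      Ideal.Quotient.mk_surjective
    have hz : (z : (B ⧸ K) ⊗[B] Ω[B⁄A]) ∈
        LinearMap.range (KaehlerDifferential.kerCotangentToTensor A B (B ⧸ K)) := by
      rw [hr]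
      exact z.2
    obtain ⟨y, hy⟩ := hz
    obtain ⟨x, rfl⟩ := Ideal.toCotangent_surjective _ y
    refine ⟨x.1, ?_, ?_⟩
    · have h1 : (x : B) ∈ RingHom.ker (algebraMap B (B ⧸ K)) := x.2
      generalize (x : B) = k at h1 ⊢
      rw [hkerK] at h1
      exact h1
    · rw [← hy, KaehlerDifferential.kerCotangentToTensor_toCotangent]
  constructor
  · rw [injective_iff_map_eq_zero]
    intro z hz
    obtain ⟨k, hk, hzk⟩ := hform z
    have h1 : χ z = K.toCotangent ⟨k, hk⟩ := by rw [hχT, hzk, hTk k hk]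
    rw [h1, Ideal.toCotangent_eq_zero] at hz
    have hk2 : k ∈ RingHom.ker (algebraMap B (B ⧸ K)) ^ 2 := by rw [hkerK]; exact hz
    have hk1 : k ∈ RingHom.ker (algebraMap B (B ⧸ K)) := by rw [hkerK]; exact hk
    have h2 : (RingHom.ker (algebraMap B (B ⧸ K))).toCotangent ⟨k, hk1⟩ = 0 := by
      rw [Ideal.toCotangent_eq_zero]; exact hk2
    have h3 := KaehlerDifferential.kerCotangentToTensor_toCotangent A B (B ⧸ K) ⟨k, hk1⟩
    rw [h2, map_zero] at h3
    apply Subtype.ext
    rw [hzk, ← h3]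
    rfl
  · intro y
    obtain ⟨⟨k, hk⟩, rfl⟩ := K.toCotangent_surjective y
    refine ⟨⟨_, hmem k hk⟩, ?_⟩
    rw [hχT]
    exact hTk k hk

end Groth.Agent.S5821
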