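import Groth.Statements.S5824
import Groth.Agent.Lib.Helper29.CharHom
import Mathlib.RingTheory.Smooth.Basic
-- import your own Groth.Agent.* helpers here

set_option autoImplicit false
universe u v
open EGA41

namespace Groth.Agent.S5824

open Groth.Agent.Lib.Helper29.CharHomLib Groth.Agent.Lib.Helper29.ExalLib TensorProduct

/-- For ring maps A → B → C with C formally smooth over A (discrete topologies) and Ω_{C/B} a projective
C-module, and a C-module L, the characteristic homomorphism is a bijection from the classes of all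
B-extensions of C by L (each of which is A-trivial) onto Hom_C(Υ_{C/B/A}, L): injectivity on classes
and surjectivity. -/
theorem result {A : Type u} {B C L : Type v} [CommRing A] [CommRing B] [CommRing C]
    [Algebra A B] [Algebra B C] [Algebra A C] [IsScalarTower A B C] [AddCommGroup L] [Module C L]
    [Algebra.FormallySmooth A C] [Module.Projective C Ω[C⁄B]] :
    (∀ (X Y : Exal.Ext B C L) (χ : ↥(EGA41.imperfection A B C) →ₗ[C] L),
        X.IsCharHom A χ → Y.IsCharHom A χ → Nonempty (X.Equiv Y)) ∧
      ∀ χ : ↥(EGA41.imperfection A B C) →ₗ[C] L, ∃ X : Exal.Ext B C L, X.IsCharHom A χ := by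
  -- every extension is `A`-trivial
  have htriv : ∀ X : Exal.Ext B C L, X.IsTrivialOver A := by
    intro X
    let Y := X.restrictBase A
    exact ⟨Algebra.FormallySmooth.liftOfSurjective (AlgHom.id A C) Y.proj
      Y.isExtension.proj_surjective (isNilpotent_ker_proj Y),
      fun b => Algebra.FormallySmooth.liftOfSurjective_apply (AlgHom.id A C) Y.proj
        Y.isExtension.proj_surjective (isNilpotent_ker_proj Y) b⟩
  -- a section of `Ω_{C/A} → Ω_{C/B}`
  let ν : Ω[C⁄A] →ₗ[C] Ω[C⁄B] := KaehlerDifferential.map A B C C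
  let μ : C ⊗[B] Ω[B⁄A] →ₗ[C] Ω[C⁄A] := KaehlerDifferential.mapBaseChange A B C
  obtain ⟨s, hs⟩ := Module.projective_lifting_property ν LinearMap.id
    (KaehlerDifferential.map_surjective A B C)
  have hs' : ∀ ω : Ω[C⁄B], KaehlerDifferential.map A B C C (s ω) = ω :=
    fun ω => LinearMap.congr_fun hs ω
  have hrange : LinearMap.range μ = LinearMap.ker ν := KaehlerDifferential.range_mapBaseChange A B C
  -- the range of `μ` is a direct summand of `Ω_{C/A}`, hence projective
  let P : Ω[C⁄A] →ₗ[C] Ω[C⁄A] := LinearMap.id - s.comp ν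
  have hP : ∀ n : Ω[C⁄A], P n ∈ LinearMap.range μ := by
    intro n
    rw [hrange, LinearMap.mem_ker]
    show ν (n - s (ν n)) = 0
    rw [map_sub, hs', sub_self]
  have hνμ : ∀ t, ν (μ t) = 0 := by
    intro t
    have : μ t ∈ LinearMap.range μ := LinearMap.mem_range_self _ t
    rw [hrange] at this
    exact this
  have hproj : Module.Projective C (LinearMap.range μ) := by
    refine Module.Projective.of_split (LinearMap.range μ).subtype
      (P.codRestrict (LinearMap.range μ) hP) ?_
    ext ⟨n, hn⟩
    show n - s (ν n) = n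
    rw [hrange] at hn
    rw [LinearMap.mem_ker.1 hn, map_zero, sub_zero]
  obtain ⟨j, hj⟩ := Module.projective_lifting_property μ.rangeRestrict LinearMap.id
    μ.surjective_rangeRestrict
  have hj' : ∀ y : LinearMap.range μ, μ (j y) = y := by
    intro y
    have := LinearMap.congr_fun hj y
    exact congrArg Subtype.val this
  let Q : C ⊗[B] Ω[B⁄A] →ₗ[C] C ⊗[B] Ω[B⁄A] := LinearMap.id - j.comp μ.rangeRestrict
  have hr0 : ∀ t, Q t ∈ EGA41.imperfection A B C := by
    intro t
    show μ (t - j (μ.rangeRestrict t)) = 0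
    rw [map_sub, hj']
    exact sub_self _
  let r : C ⊗[B] Ω[B⁄A] →ₗ[C] ↥(EGA41.imperfection A B C) :=
    Q.codRestrict (EGA41.imperfection A B C) hr0
  have hr : ∀ z : ↥(EGA41.imperfection A B C), r z = z := by
    intro z
    apply Subtype.ext
    show (z : C ⊗[B] Ω[B⁄A]) - j (μ.rangeRestrict z) = z
    have hz : μ.rangeRestrict (z : C ⊗[B] Ω[B⁄A]) = 0 := by
      apply Subtype.ext
      exact LinearMap.mem_ker.1 z.2
    rw [hz, map_zero, sub_zero]
  constructor
  · intro X Y χ hX hY
    exact nonempty_equiv_of_isCharHom' (hfactor_of_hyp (Or.inr ⟨s, hs'⟩)) (htriv X) (htriv Y) χ hX hY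
  · intro χ
    obtain ⟨X, -, hX⟩ := exists_ext_isCharHom (A := A) χ (hext_of_hyp (Or.inr ⟨r, hr⟩) χ)
    exact ⟨X, hX⟩

end Groth.Agent.S5824
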