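import Groth.Statements.S5825
import Mathlib.Topology.Algebra.Group.Basic
import Mathlib.Topology.Algebra.OpenSubgroup

set_option autoImplicit false
universe u v w
open EGA41

namespace Groth.Agent.S5825

/-- Let A be a topological ring, M, N topological A-modules with the topologies deduced from that of A,
and u : M → N a continuous linear map with dense image (a formal epimorphism). Then u is a formal
bimorphism (dense image and inducing) if and only if, for every open ideal J of A, the induced map
M/JM → N/JN is bijective (injectivity and surjectivity are written out elementwise). -/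
theorem result {A : Type u} {M : Type v} {N : Type w} [CommRing A]
    [TopologicalSpace A] [AddCommGroup M] [Module A M] [TopologicalSpace M] [AddCommGroup N] [Module A N]
    [TopologicalSpace N] (hM : TopMod.IsDeduced A M) (hN : TopMod.IsDeduced A N) (u : M →L[A] N)
    (hu : DenseRange u) :
    IsDenseInducing u ↔
      ∀ J : Ideal A, IsOpen (J : Set A) →
        (∀ x : M, u x ∈ (J • ⊤ : Submodule A N) → x ∈ (J • ⊤ : Submodule A M)) ∧
          ∀ y : N, ∃ x : M, y - u x ∈ (J • ⊤ : Submodule A N) := by
  have hMg : IsTopologicalAddGroup M := hM.1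
  have hNg : IsTopologicalAddGroup N := hN.1
  -- density: approximation modulo any open ideal
  have happrox : ∀ J : Ideal A, IsOpen (J : Set A) → ∀ y : N, ∃ x : M,
      y - u x ∈ (J • ⊤ : Submodule A N) := by
    intro J hJ y
    have hSnhds : ((J • ⊤ : Submodule A N) : Set N) ∈ nhds (0 : N) :=
      hN.2.mem_iff.mpr ⟨J, hJ, subset_rfl⟩
    have hopen : IsOpen ((J • ⊤ : Submodule A N) : Set N) :=
      (J • ⊤ : Submodule A N).toAddSubgroup.isOpen_of_mem_nhds hSnhds
    have hopen' : IsOpen {z : N | y - z ∈ (J • ⊤ : Submodule A N)} :=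
      hopen.preimage (continuous_const.sub continuous_id)
    obtain ⟨x, hx⟩ := hu.exists_mem_open hopen' ⟨y, by simp⟩
    exact ⟨x, hx⟩
  have hmap : ∀ (J : Ideal A) (x : M), x ∈ (J • ⊤ : Submodule A M) →
      u x ∈ (J • ⊤ : Submodule A N) := by
    intro J x hx
    refine Submodule.smul_induction_on hx ?_ ?_
    · intro a ha m _
      rw [map_smul]
      exact Submodule.smul_mem_smul ha Submodule.mem_top
    · intro x y hx hy
      rw [map_add]
      exact Submodule.add_mem _ hx hy
  constructor
  · intro h J hJ
    refine ⟨?_, happrox J hJ⟩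
    have hind : nhds (0 : M) = (nhds (0 : N)).comap u :=
      IsTopologicalAddGroup.isInducing_iff_nhds_zero.mp h.isInducing
    have hSnhds : ((J • ⊤ : Submodule A M) : Set M) ∈ nhds (0 : M) :=
      hM.2.mem_iff.mpr ⟨J, hJ, subset_rfl⟩
    rw [hind, Filter.mem_comap] at hSnhds
    obtain ⟨V, hV, hVsub⟩ := hSnhds
    obtain ⟨J', hJ', hJ'V⟩ := hN.2.mem_iff.mp hV
    -- every element of J N is approximated by u of an element of J M modulo J' N
    have hclaim : ∀ z ∈ (J • ⊤ : Submodule A N), ∃ m ∈ (J • ⊤ : Submodule A M),
        z - u m ∈ (J' • ⊤ : Submodule A N) := by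
      intro z hz
      refine Submodule.smul_induction_on hz ?_ ?_
      · intro a ha n _
        obtain ⟨m', hm'⟩ := happrox J' hJ' n
        refine ⟨a • m', Submodule.smul_mem_smul ha Submodule.mem_top, ?_⟩
        rw [map_smul, ← smul_sub]
        exact Submodule.smul_mem _ a hm'
      · rintro x y ⟨m₁, hm₁, h₁⟩ ⟨m₂, hm₂, h₂⟩
        refine ⟨m₁ + m₂, Submodule.add_mem _ hm₁ hm₂, ?_⟩
        have : x + y - u (m₁ + m₂) = (x - u m₁) + (y - u m₂) := by
          rw [map_add]; abel
        rw [this]
        exact Submodule.add_mem _ h₁ h₂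
    intro x hx
    obtain ⟨m, hm, hxm⟩ := hclaim (u x) hx
    have h1 : x - m ∈ (J • ⊤ : Submodule A M) := by
      apply hVsub
      apply hJ'V
      show u (x - m) ∈ _
      rw [map_sub]
      exact hxm
    have : x = (x - m) + m := by abel
    rw [this]
    exact Submodule.add_mem _ h1 hm
  · intro h
    refine ⟨?_, hu⟩
    rw [IsTopologicalAddGroup.isInducing_iff_nhds_zero]
    apply Filter.HasBasis.eq_of_same_basis hM.2
    have := hN.2.comap u
    refine this.to_hasBasis ?_ ?_
    · intro J hJ
      exact ⟨J, hJ, fun x hx => hmap J x hx⟩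
    · intro J hJ
      exact ⟨J, hJ, fun x hx => (h J hJ).1 x hx⟩

end Groth.Agent.S5825
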