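import Groth.Statements.S5826
import Mathlib.Topology.Algebra.Group.Basic

set_option autoImplicit false
universe u v w
open EGA41

namespace Groth.Agent.S5826

/-- Let A be a topological ring, M, N topological A-modules with the topologies deduced from that of A,
u : M → N a continuous linear map. Then u is formally left invertible if and only if, for every open
ideal J of A, the induced map M/JM → N/JN is left invertible, i.e. some linear map N → M/JM composes
with u to the projection M → M/JM. -/
theorem result {A : Type u} {M : Type v} {N : Type w}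
    [CommRing A] [TopologicalSpace A] [AddCommGroup M] [Module A M] [TopologicalSpace M] [AddCommGroup N]
    [Module A N] [TopologicalSpace N] (hM : TopMod.IsDeduced A M) (hN : TopMod.IsDeduced A N)
    (u : M →L[A] N) :
    TopMod.IsFormallyLeftInvertible u ↔
      ∀ J : Ideal A, IsOpen (J : Set A) →
        ∃ w : N →ₗ[A] M ⧸ (J • ⊤ : Submodule A M), ∀ x : M, w (u x) = Submodule.Quotient.mk x := by
  have hMg : IsTopologicalAddGroup M := hM.1
  have hNg : IsTopologicalAddGroup N := hN.1
  constructor
  · intro h J hJ
    have hSnhds : ((J • ⊤ : Submodule A M) : Set M) ∈ nhds (0 : M) :=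
      hM.2.mem_iff.mpr ⟨J, hJ, subset_rfl⟩
    let : TopologicalSpace (M ⧸ (J • ⊤ : Submodule A M)) := ⊥
    have : DiscreteTopology (M ⧸ (J • ⊤ : Submodule A M)) := ⟨rfl⟩
    have hcont : Continuous ((J • ⊤ : Submodule A M).mkQ) := by
      apply continuous_of_continuousAt_zero (J • ⊤ : Submodule A M).mkQ.toAddMonoidHom
      rw [ContinuousAt, Filter.tendsto_def]
      intro s hs
      refine Filter.mem_of_superset hSnhds (fun x hx => ?_)
      have h0 : (J • ⊤ : Submodule A M).mkQ x = 0 := (Submodule.Quotient.mk_eq_zero _).mpr hx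
      have h1 := mem_of_mem_nhds hs
      simp only [map_zero] at h1
      simp only [LinearMap.toAddMonoidHom_coe, Set.mem_preimage, h0]
      exact h1
    let v : M →L[A] (M ⧸ (J • ⊤ : Submodule A M)) := ⟨(J • ⊤ : Submodule A M).mkQ, hcont⟩
    obtain ⟨w, hw⟩ := h (M ⧸ (J • ⊤ : Submodule A M)) v
    exact ⟨w.toLinearMap, hw⟩
  · intro h E _ _ _ _ v
    have hker : (LinearMap.ker v.toLinearMap : Set M) ∈ nhds (0 : M) := by
      have hopen : IsOpen (v ⁻¹' {0}) := (isOpen_discrete ({0} : Set E)).preimage v.continuous
      have : (LinearMap.ker v.toLinearMap : Set M) = v ⁻¹' {0} := by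
        ext x; simp
      rw [this]
      exact hopen.mem_nhds (by simp)
    obtain ⟨J, hJ, hJle⟩ := hM.2.mem_iff.mp hker
    obtain ⟨w, hw⟩ := h J hJ
    have hle : (J • ⊤ : Submodule A M) ≤ LinearMap.ker v.toLinearMap := hJle
    let vbar : (M ⧸ (J • ⊤ : Submodule A M)) →ₗ[A] E := (J • ⊤ : Submodule A M).liftQ v.toLinearMap hle
    let w' : N →ₗ[A] E := vbar.comp w
    have hkill : ∀ a ∈ J, ∀ q : M ⧸ (J • ⊤ : Submodule A M), a • q = 0 := by
      intro a ha q
      obtain ⟨m, rfl⟩ := Submodule.Quotient.mk_surjective _ q
      rw [← Submodule.Quotient.mk_smul, Submodule.Quotient.mk_eq_zero]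
      exact Submodule.smul_mem_smul ha Submodule.mem_top
    have hw'ker : ∀ n ∈ (J • ⊤ : Submodule A N), w' n = 0 := by
      intro n hn
      refine Submodule.smul_induction_on hn ?_ ?_
      · intro a ha n' _
        show vbar (w (a • n')) = 0
        rw [map_smul, hkill a ha, map_zero]
      · intro x y hx hy
        rw [map_add, hx, hy, add_zero]
    have hSnhds : ((J • ⊤ : Submodule A N) : Set N) ∈ nhds (0 : N) :=
      hN.2.mem_iff.mpr ⟨J, hJ, subset_rfl⟩
    have hcont : Continuous w' := by
      apply continuous_of_continuousAt_zero w'.toAddMonoidHom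
      rw [ContinuousAt, Filter.tendsto_def]
      intro s hs
      refine Filter.mem_of_superset hSnhds (fun x hx => ?_)
      have h0 : w' x = 0 := hw'ker x hx
      have h1 := mem_of_mem_nhds hs
      simp only [map_zero] at h1
      simp only [LinearMap.toAddMonoidHom_coe, Set.mem_preimage, h0]
      exact h1
    refine ⟨⟨w', hcont⟩, fun x => ?_⟩
    show vbar (w (u x)) = v x
    rw [hw x]
    rfl

end Groth.Agent.S5826
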