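import Groth.Statements.S5827
import Groth.Agent.S5826
import Mathlib.Algebra.Module.Torsion.Basic
import Mathlib.Algebra.Module.Projective
import Mathlib.RingTheory.Nilpotent.Basic
import Mathlib.RingTheory.Ideal.Operations
import Mathlib.RingTheory.Ideal.Quotient.Operations
-- import your own Groth.Agent.* helpers here

set_option autoImplicit false
universe u v w
open EGA41

namespace Groth.Agent.S5827

/-- Lifting a left inverse modulo `𝔏` to a left inverse modulo `J`, when `𝔏 ^ n ≤ J ≤ 𝔏` and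
`N/JN` is projective over `A/J`. -/
lemma lift_leftInverse {A : Type u} {M : Type v} {N : Type w} [CommRing A] [AddCommGroup M]
    [Module A M] [AddCommGroup N] [Module A N]
    (J 𝔏 : Ideal A) (hJ𝔏 : J ≤ 𝔏) (n : ℕ) (hn : 𝔏 ^ n ≤ J)
    (hproj : Module.Projective (A ⧸ J) (N ⧸ (J • (⊤ : Submodule A N))))
    (u : M →ₗ[A] N) (w : N →ₗ[A] M ⧸ (𝔏 • ⊤ : Submodule A M))
    (hw : ∀ x, w (u x) = Submodule.Quotient.mk x) :
    ∃ w' : N →ₗ[A] M ⧸ (J • ⊤ : Submodule A M), ∀ x, w' (u x) = Submodule.Quotient.mk x := by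
  classical
  have hQ : Module.IsTorsionBySet A (M ⧸ (J • ⊤ : Submodule A M)) J :=
    Module.isTorsionBySet_quotient_ideal_smul M J
  have hP : Module.IsTorsionBySet A (N ⧸ (J • ⊤ : Submodule A N)) J :=
    Module.isTorsionBySet_quotient_ideal_smul N J
  have hQ' : Module.IsTorsionBySet A (M ⧸ (𝔏 • ⊤ : Submodule A M)) J := by
    rw [Module.isTorsionBySet_quotient_iff]
    intro x r hr
    exact Submodule.smul_mem_smul (hJ𝔏 hr) trivial
  let _ : Module (A ⧸ J) (M ⧸ (𝔏 • ⊤ : Submodule A M)) := hQ'.module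
  have : IsScalarTower A (A ⧸ J) (M ⧸ (𝔏 • ⊤ : Submodule A M)) := hQ'.isScalarTower
  have : IsScalarTower A (A ⧸ J) (M ⧸ (J • ⊤ : Submodule A M)) := hQ.isScalarTower
  have : IsScalarTower A (A ⧸ J) (N ⧸ (J • ⊤ : Submodule A N)) := hP.isScalarTower
  have hsurj : Function.Surjective (algebraMap A (A ⧸ J)) := Ideal.Quotient.mk_surjective
  let π : (M ⧸ (J • ⊤ : Submodule A M)) →ₗ[A] (M ⧸ (𝔏 • ⊤ : Submodule A M)) :=
    Submodule.mapQ _ _ LinearMap.id (by
      rw [Submodule.comap_id]; exact Submodule.smul_mono_left hJ𝔏)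
  have hπmk : ∀ m : M, π (Submodule.Quotient.mk m) = Submodule.Quotient.mk m := fun m => rfl
  have hπ : Function.Surjective π := by
    intro q
    obtain ⟨m, rfl⟩ := Submodule.Quotient.mk_surjective _ q
    exact ⟨Submodule.Quotient.mk m, rfl⟩
  let wbar : (N ⧸ (J • ⊤ : Submodule A N)) →ₗ[A] (M ⧸ (𝔏 • ⊤ : Submodule A M)) :=
    Submodule.liftQ _ w (by
      rw [Submodule.smul_le]
      intro a ha x _
      rw [LinearMap.mem_ker, map_smul]
      exact @hQ' (w x) ⟨a, ha⟩)
  have hwbar : ∀ x : N, wbar (Submodule.Quotient.mk x) = w x := fun x => rfl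
  obtain ⟨w', hw'⟩ := Module.projective_lifting_property
    (π.extendScalarsOfSurjective hsurj) (wbar.extendScalarsOfSurjective hsurj) hπ
  have hw'' : ∀ p, π (w' p) = wbar p := fun p => LinearMap.congr_fun hw' p
  let w'A : (N ⧸ (J • ⊤ : Submodule A N)) →ₗ[A] (M ⧸ (J • ⊤ : Submodule A M)) :=
    w'.restrictScalars A
  let ubar : (M ⧸ (J • ⊤ : Submodule A M)) →ₗ[A] (N ⧸ (J • ⊤ : Submodule A N)) :=
    Submodule.mapQ _ _ u (by
      rw [Submodule.smul_le]
      intro a ha x _
      rw [Submodule.mem_comap, map_smul]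
      exact Submodule.smul_mem_smul ha trivial)
  have hubar : ∀ m : M, ubar (Submodule.Quotient.mk m) = Submodule.Quotient.mk (u m) := fun m => rfl
  let ε : Module.End A (M ⧸ (J • ⊤ : Submodule A M)) := 1 - w'A.comp ubar
  have hεapp : ∀ q, ε q = q - w' (ubar q) := fun q => rfl
  have hε : ∀ q, ε q ∈ (𝔏 • ⊤ : Submodule A (M ⧸ (J • ⊤ : Submodule A M))) := by
    intro q
    obtain ⟨m, rfl⟩ := Submodule.Quotient.mk_surjective _ q
    have h1 : π (ε (Submodule.Quotient.mk m)) = 0 := by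
      rw [hεapp, map_sub, hw'', hubar, hwbar, hw, hπmk, sub_self]
    obtain ⟨m', hm'⟩ := Submodule.Quotient.mk_surjective _ (ε (Submodule.Quotient.mk m))
    rw [← hm'] at h1 ⊢
    rw [hπmk, Submodule.Quotient.mk_eq_zero] at h1
    have h2 : Submodule.Quotient.mk m' ∈
        Submodule.map (J • ⊤ : Submodule A M).mkQ (𝔏 • ⊤ : Submodule A M) :=
      Submodule.mem_map_of_mem h1
    rw [Submodule.map_smul'', Submodule.map_top, Submodule.range_mkQ] at h2
    exact h2
  have hεpow : ∀ k q, (ε ^ k) q ∈ (𝔏 ^ k • ⊤ : Submodule A (M ⧸ (J • ⊤ : Submodule A M))) := by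
    intro k
    induction k with
    | zero =>
      intro q
      rw [pow_zero, Ideal.one_eq_top, Submodule.top_smul]
      trivial
    | succ k ih =>
      intro q
      have h1 : (ε ^ (k + 1)) q = ε ((ε ^ k) q) := by
        rw [pow_succ' ε k]
        rfl
      rw [h1]
      refine Submodule.smul_induction_on (ih q) ?_ ?_
      · intro a ha x _
        rw [map_smul, pow_succ 𝔏 k, mul_smul]
        exact Submodule.smul_mem_smul ha (hε x)
      · intro x y hx hy
        rw [map_add]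
        exact add_mem hx hy
  have hbot : (𝔏 ^ n • ⊤ : Submodule A (M ⧸ (J • ⊤ : Submodule A M))) = ⊥ := by
    rw [eq_bot_iff, Submodule.smul_le]
    intro a ha q _
    rw [Submodule.mem_bot]
    exact @hQ q ⟨a, hn ha⟩
  have hεn : ε ^ n = 0 := by
    apply LinearMap.ext
    intro q
    have := hεpow n q
    rw [hbot, Submodule.mem_bot] at this
    rw [this]
    rfl
  have hunit : IsUnit (1 - ε) := IsNilpotent.isUnit_one_sub ⟨n, hεn⟩
  obtain ⟨v, hv⟩ := hunit
  have h1ε : (1 - ε : Module.End A (M ⧸ (J • ⊤ : Submodule A M))) = w'A.comp ubar := by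
    show 1 - (1 - w'A.comp ubar) = w'A.comp ubar
    abel
  refine ⟨((v⁻¹ : (Module.End A (M ⧸ (J • ⊤ : Submodule A M)))ˣ) :
    Module.End A (M ⧸ (J • ⊤ : Submodule A M))).comp
      (w'A.comp (J • ⊤ : Submodule A N).mkQ), fun x => ?_⟩
  show ((v⁻¹ : (Module.End A (M ⧸ (J • ⊤ : Submodule A M)))ˣ) :
    Module.End A (M ⧸ (J • ⊤ : Submodule A M))) (w'A (Submodule.Quotient.mk (u x))) = _
  have h2 : w'A (Submodule.Quotient.mk (u x)) =
      (v : Module.End A (M ⧸ (J • ⊤ : Submodule A M))) (Submodule.Quotient.mk x) := by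
    rw [hv, h1ε]
    rfl
  rw [h2, ← Module.End.mul_apply, Units.inv_mul]
  rfl

/-- Let A be a preadmissible topological ring with an ideal of definition 𝔏, M, N topological A-modules
with the topologies deduced from that of A such that N/JN is a projective (A/J)-module for every
open ideal J, and u : M → N a continuous linear map. Then u is formally left invertible if and only
if the induced map M/𝔏M → N/𝔏N is left invertible. -/
theorem result {A : Type u} {M : Type v}
    {N : Type w} [CommRing A] [TopologicalSpace A] [AddCommGroup M] [Module A M] [TopologicalSpace M]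
    [AddCommGroup N] [Module A N] [TopologicalSpace N] (hA : LinTop.IsPreadmissible A) (𝔏 : Ideal A)
    (h𝔏 : LinTop.IsIdealOfDefinition A 𝔏) (hM : TopMod.IsDeduced A M) (hN : TopMod.IsDeduced A N)
    (hproj : ∀ J : Ideal A, IsOpen (J : Set A) → Module.Projective (A ⧸ J) (N ⧸ (J • (⊤ : Submodule A N))))
    (u : M →L[A] N) :
    TopMod.IsFormallyLeftInvertible u ↔
      ∃ w : N →ₗ[A] M ⧸ (𝔏 • ⊤ : Submodule A M), ∀ x : M, w (u x) = Submodule.Quotient.mk x := by
  rw [Groth.Agent.S5826.result hM hN u]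
  constructor
  · intro h
    exact h 𝔏 h𝔏.1
  · rintro ⟨w, hw⟩ J hJ
    obtain ⟨n, -, hn⟩ := h𝔏.2 (J : Set A) (hJ.mem_nhds J.zero_mem)
    have hJ'open : IsOpen ((J ⊓ 𝔏 : Ideal A) : Set A) := by
      rw [Submodule.coe_inf]
      exact hJ.inter h𝔏.1
    have hn' : 𝔏 ^ (n + 1) ≤ J ⊓ 𝔏 := by
      refine le_inf ?_ ?_
      · exact (Ideal.pow_le_pow_right (Nat.le_succ n)).trans hn
      · exact Ideal.pow_le_self (Nat.succ_ne_zero n)
    obtain ⟨w', hw'⟩ := lift_leftInverse (J ⊓ 𝔏) 𝔏 inf_le_right (n + 1) hn'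
      (hproj _ hJ'open) u.toLinearMap w hw
    let ρ : (M ⧸ ((J ⊓ 𝔏) • ⊤ : Submodule A M)) →ₗ[A] (M ⧸ (J • ⊤ : Submodule A M)) :=
      Submodule.mapQ _ _ LinearMap.id (by
        rw [Submodule.comap_id]; exact Submodule.smul_mono_left inf_le_left)
    refine ⟨ρ.comp w', fun x => ?_⟩
    show ρ (w' (u x)) = _
    have := hw' x
    rw [ContinuousLinearMap.coe_coe] at this
    rw [this]
    rfl

end Groth.Agent.S5827
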