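import Groth.Statements.S5828
-- import your own Groth.Agent.* helpers here

set_option autoImplicit false
universe u v
open EGA41

namespace Groth.Agent.S5828

set_option linter.unusedSectionVars false

section Aux

variable {A : Type u} {C L : Type v} [CommRing A] [CommRing C] [Algebra A C]
    [AddCommGroup L] [Module C L] [Module A L] [IsScalarTower A C L] (X : Exal.Ext A C L)

lemma proj_incl (z : L) : X.proj (X.incl z) = 0 :=
  (X.isExtension.exact _).2 ⟨z, rfl⟩

lemma incl_mul_incl (z z' : L) : X.incl z * X.incl z' = 0 := by
  rw [X.isExtension.mul_incl, proj_incl, zero_smul, map_zero]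

lemma incl_mul (x : X.E) (z : L) : X.incl z * x = X.incl (X.proj x • z) := by
  rw [mul_comm, X.isExtension.mul_incl]

lemma smul_incl (a : A) (z : L) : a • X.incl z = X.incl (a • z) := by
  rw [Algebra.smul_def, X.isExtension.mul_incl, AlgHom.commutes, algebraMap_smul]

/-- The algebra endomorphism attached to a derivation. -/
noncomputable def derHom (D : Derivation A C L) : X.E →ₐ[A] X.E where
  toFun x := x + X.incl (D (X.proj x))
  map_one' := by
    rw [map_one, Derivation.map_one_eq_zero, map_zero, add_zero]
  map_mul' x y := by
    rw [map_mul, Derivation.leibniz, map_add, add_mul, mul_add, mul_add, incl_mul_incl, add_zero,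
      X.isExtension.mul_incl, incl_mul]
    abel
  map_zero' := by
    rw [map_zero, map_zero, map_zero, add_zero]
  map_add' x y := by
    rw [map_add, map_add, map_add]
    abel
  commutes' a := by
    rw [AlgHom.commutes, Derivation.map_algebraMap, map_zero, add_zero]

lemma derHom_apply (D : Derivation A C L) (x : X.E) :
    derHom X D x = x + X.incl (D (X.proj x)) := rfl

lemma proj_derHom (D : Derivation A C L) (x : X.E) : X.proj (derHom X D x) = X.proj x := by
  rw [derHom_apply, map_add, proj_incl, add_zero]

lemma derHom_comp_neg (D : Derivation A C L) (x : X.E) : derHom X D (derHom X (-D) x) = x := by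
  rw [derHom_apply, proj_derHom, derHom_apply, Derivation.neg_apply, map_neg]
  abel

lemma derHom_neg_comp (D : Derivation A C L) (x : X.E) : derHom X (-D) (derHom X D x) = x := by
  have := derHom_comp_neg X (-D) x
  rwa [neg_neg] at this

/-- The self-equivalence attached to a derivation. -/
noncomputable def derEquiv (D : Derivation A C L) : X.Equiv X where
  toAlgEquiv := AlgEquiv.ofAlgHom (derHom X D) (derHom X (-D))
    (AlgHom.ext (derHom_comp_neg X D)) (AlgHom.ext (derHom_neg_comp X D))
  proj_apply x := proj_derHom X D x
  apply_incl z := by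
    change derHom X D (X.incl z) = X.incl z
    rw [derHom_apply, proj_incl, map_zero, map_zero, add_zero]

variable {X} (e : X.Equiv X)

lemma proj_sub (x : X.E) : X.proj (e.toAlgEquiv x - x) = 0 := by
  rw [map_sub, e.proj_apply, sub_self]

/-- the map `C → L` underlying the derivation of a self-equivalence -/
noncomputable def dFun (c : C) : L :=
  X.kerLift (e.toAlgEquiv (Function.surjInv X.isExtension.proj_surjective c) -
    Function.surjInv X.isExtension.proj_surjective c) (proj_sub e _)

lemma incl_dFun_proj (x : X.E) : X.incl (dFun e (X.proj x)) = e.toAlgEquiv x - x := by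
  unfold dFun
  rw [Exal.Ext.incl_kerLift]
  set y := Function.surjInv X.isExtension.proj_surjective (X.proj x) with hy
  have hyx : X.proj (y - x) = 0 := by
    rw [map_sub, hy, Function.surjInv_eq X.isExtension.proj_surjective, sub_self]
  obtain ⟨z, hz⟩ := (X.isExtension.exact _).1 hyx
  have h1 : e.toAlgEquiv (y - x) = y - x := by
    rw [← hz, e.apply_incl]
  rw [map_sub] at h1
  have : e.toAlgEquiv y - y - (e.toAlgEquiv x - x) = 0 := by
    calc e.toAlgEquiv y - y - (e.toAlgEquiv x - x)
        = (e.toAlgEquiv y - e.toAlgEquiv x) - (y - x) := by abel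
      _ = 0 := by rw [h1, sub_self]
  exact sub_eq_zero.1 this

lemma dFun_add (c c' : C) : dFun e (c + c') = dFun e c + dFun e c' := by
  obtain ⟨x, rfl⟩ := X.isExtension.proj_surjective c
  obtain ⟨x', rfl⟩ := X.isExtension.proj_surjective c'
  apply X.isExtension.incl_injective
  rw [← map_add, incl_dFun_proj, map_add X.incl, incl_dFun_proj, incl_dFun_proj, map_add]
  abel

lemma dFun_smul (a : A) (c : C) : dFun e (a • c) = a • dFun e c := by
  obtain ⟨x, rfl⟩ := X.isExtension.proj_surjective c
  apply X.isExtension.incl_injective
  rw [← map_smul, incl_dFun_proj, ← smul_incl, incl_dFun_proj, map_smul, smul_sub]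

lemma dFun_mul (c c' : C) : dFun e (c * c') = c • dFun e c' + c' • dFun e c := by
  obtain ⟨x, rfl⟩ := X.isExtension.proj_surjective c
  obtain ⟨x', rfl⟩ := X.isExtension.proj_surjective c'
  apply X.isExtension.incl_injective
  rw [← map_mul, incl_dFun_proj, map_add, ← X.isExtension.mul_incl, ← X.isExtension.mul_incl,
    incl_dFun_proj, incl_dFun_proj, map_mul]
  have h1 : e.toAlgEquiv x = x + X.incl (dFun e (X.proj x)) := by
    rw [incl_dFun_proj]; abel
  have h2 : e.toAlgEquiv x' = x' + X.incl (dFun e (X.proj x')) := by
    rw [incl_dFun_proj]; abel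
  have h3 : e.toAlgEquiv x * e.toAlgEquiv x' =
      x * x' + x * (e.toAlgEquiv x' - x') + x' * (e.toAlgEquiv x - x) := by
    conv_lhs => rw [h1, h2]
    rw [add_mul, mul_add, mul_add, incl_mul_incl, add_zero, incl_dFun_proj, incl_dFun_proj]
    ring
  rw [h3]
  abel

lemma dFun_one : dFun e (1 : C) = 0 := by
  apply X.isExtension.incl_injective
  have := incl_dFun_proj e (1 : X.E)
  rw [map_one, map_one, sub_self] at this
  rw [this, map_zero]

/-- The derivation of a self-equivalence. -/
noncomputable def derOf : Derivation A C L where
  toFun := dFun e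
  map_add' := dFun_add e
  map_smul' := dFun_smul e
  map_one_eq_zero' := dFun_one e
  leibniz' := dFun_mul e

lemma derOf_apply (c : C) : derOf e c = dFun e c := rfl

end Aux


/-- Commutative case. For an A-extension X of C by a C-module L, with middle ring E, projection p and
inclusion i, the A-derivations D : C → L and the self-equivalences of X correspond under D ↦ (x ↦ x
+ i (D (p x))): every derivation defines a self-equivalence with this formula, and every
self-equivalence is of this form for exactly one derivation. (Bijection of sets; the published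
statement also records compatibility with the group laws.) -/
theorem result {A : Type u} {C L : Type v} [CommRing A] [CommRing C] [Algebra A C]
    [AddCommGroup L] [Module C L] [Module A L] [IsScalarTower A C L] (X : Exal.Ext A C L) :
    (∀ D : Derivation A C L, ∃ e : X.Equiv X, ∀ x : X.E, e.toAlgEquiv x = x + X.incl (D (X.proj x))) ∧
      ∀ e : X.Equiv X, ∃! D : Derivation A C L, ∀ x : X.E, e.toAlgEquiv x = x + X.incl (D (X.proj x)) := by
  refine ⟨fun D => ⟨derEquiv X D, fun x => rfl⟩, fun e => ⟨derOf e, ?_, ?_⟩⟩
  · intro x
    change e.toAlgEquiv x = x + X.incl (dFun e (X.proj x))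
    rw [incl_dFun_proj]; abel
  · intro D' hD'
    ext c
    obtain ⟨x, rfl⟩ := X.isExtension.proj_surjective c
    apply X.isExtension.incl_injective
    rw [derOf_apply, incl_dFun_proj, hD' x]
    abel

end Groth.Agent.S5828
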