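import Groth.Statements.S5830
-- import your own Groth.Agent.* helpers here

set_option autoImplicit false
universe u v
open EGA41

namespace Groth.Agent.S5830

set_option linter.unusedSectionVars false
set_option linter.unusedSimpArgs false

section Aux

variable {A : Type u} {B : Type v} [CommRing A] [CommRing B] [Algebra A B]
  {L : Type v} [AddCommGroup L] [Module B L] [Module A L] [IsScalarTower A B L]

/-- carrier of the Hochschild extension of a symmetric 2-cocycle -/
@[nolint unusedArguments]
def HExt (_f : B →ₗ[A] B →ₗ[A] L) : Type v := B × L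

variable (f : B →ₗ[A] B →ₗ[A] L)

instance : AddCommGroup (HExt f) := inferInstanceAs (AddCommGroup (B × L))

instance : Module A (HExt f) := inferInstanceAs (Module A (B × L))

/-- constructor -/
def HExt.mk (x : B) (l : L) : HExt f := (x, l)

/-- first projection -/
def HExt.fst (p : HExt f) : B := Prod.fst p

/-- second projection -/
def HExt.snd (p : HExt f) : L := Prod.snd p

@[ext] lemma HExt.ext {p q : HExt f} (h1 : p.fst = q.fst) (h2 : p.snd = q.snd) : p = q :=
  Prod.ext h1 h2

@[simp] lemma HExt.fst_add (p q : HExt f) : (p + q).fst = p.fst + q.fst := rfl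
@[simp] lemma HExt.snd_add (p q : HExt f) : (p + q).snd = p.snd + q.snd := rfl
@[simp] lemma HExt.fst_zero : (0 : HExt f).fst = 0 := rfl
@[simp] lemma HExt.snd_zero : (0 : HExt f).snd = 0 := rfl
@[simp] lemma HExt.fst_smul (a : A) (p : HExt f) : (a • p).fst = a • p.fst := rfl
@[simp] lemma HExt.snd_smul (a : A) (p : HExt f) : (a • p).snd = a • p.snd := rfl

instance : Mul (HExt f) :=
  ⟨fun p q => HExt.mk f (p.fst * q.fst) (p.fst • q.snd + q.fst • p.snd + f p.fst q.fst)⟩

instance : One (HExt f) := ⟨HExt.mk f 1 (-(f 1 1))⟩

@[simp] lemma HExt.fst_mul (p q : HExt f) : (p * q).fst = p.fst * q.fst := rfl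
@[simp] lemma HExt.snd_mul (p q : HExt f) :
    (p * q).snd = p.fst • q.snd + q.fst • p.snd + f p.fst q.fst := rfl
@[simp] lemma HExt.fst_one : (1 : HExt f).fst = 1 := rfl
@[simp] lemma HExt.snd_one : (1 : HExt f).snd = -(f 1 1) := rfl

variable (hsymm : ∀ x y : B, f x y = f y x)
  (hcoc : ∀ x y z : B, f (x * y) z + z • f x y = x • f y z + f x (y * z))

include hcoc in
lemma f_one_left (y : B) : f 1 y = y • f 1 1 := by
  have := hcoc 1 1 y
  rw [one_mul, one_smul, one_mul] at this
  exact (add_left_cancel this).symm

/-- the ring structure of the Hochschild extension -/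
@[reducible] def commRing : CommRing (HExt f) :=
  { (inferInstance : AddCommGroup (HExt f)), (inferInstance : Mul (HExt f)),
    (inferInstance : One (HExt f)) with
    mul_assoc := fun p q r => by
      apply HExt.ext
      · simp only [HExt.fst_mul, mul_assoc]
      · simp only [HExt.fst_mul, HExt.snd_mul]
        have := hcoc p.fst q.fst r.fst
        linear_combination (norm := module) this
    one_mul := fun p => by
      apply HExt.ext
      · simp only [HExt.fst_mul, HExt.fst_one, one_mul]
      · simp only [HExt.fst_mul, HExt.snd_mul, HExt.fst_one, HExt.snd_one, one_smul, smul_neg,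
          f_one_left f hcoc p.fst]
        abel
    mul_one := fun p => by
      apply HExt.ext
      · simp only [HExt.fst_mul, HExt.fst_one, mul_one]
      · simp only [HExt.fst_mul, HExt.snd_mul, HExt.fst_one, HExt.snd_one, one_smul, smul_neg,
          hsymm p.fst 1, f_one_left f hcoc p.fst]
        abel
    left_distrib := fun p q r => by
      apply HExt.ext
      · simp only [HExt.fst_mul, HExt.fst_add, mul_add]
      · simp only [HExt.fst_mul, HExt.snd_mul, HExt.fst_add, HExt.snd_add, smul_add, add_smul,
          map_add]
        abel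
    right_distrib := fun p q r => by
      apply HExt.ext
      · simp only [HExt.fst_mul, HExt.fst_add, add_mul]
      · simp only [HExt.fst_mul, HExt.snd_mul, HExt.fst_add, HExt.snd_add, smul_add, add_smul,
          map_add, LinearMap.add_apply]
        abel
    zero_mul := fun p => by
      apply HExt.ext
      · simp only [HExt.fst_mul, HExt.fst_zero, zero_mul]
      · simp only [HExt.snd_mul, HExt.fst_zero, HExt.snd_zero, zero_smul, smul_zero, map_zero,
          LinearMap.zero_apply, add_zero]
    mul_zero := fun p => by
      apply HExt.ext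
      · simp only [HExt.fst_mul, HExt.fst_zero, mul_zero]
      · simp only [HExt.snd_mul, HExt.fst_zero, HExt.snd_zero, zero_smul, smul_zero, map_zero,
          add_zero]
    mul_comm := fun p q => by
      apply HExt.ext
      · simp only [HExt.fst_mul, mul_comm]
      · simp only [HExt.snd_mul, hsymm p.fst q.fst]
        abel }

/-- the algebra structure of the Hochschild extension -/
@[reducible] def algebra :
    letI := commRing f hsymm hcoc
    Algebra A (HExt f) :=
  letI := commRing f hsymm hcoc
  Algebra.ofModule
    (fun a p q => by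
      apply HExt.ext
      · simp only [HExt.fst_mul, HExt.fst_smul, smul_mul_assoc]
      · simp only [HExt.snd_mul, HExt.fst_smul, HExt.snd_smul, smul_add, map_smul,
          LinearMap.smul_apply, smul_assoc]
        rw [smul_comm q.fst a p.snd])
    (fun a p q => by
      apply HExt.ext
      · simp only [HExt.fst_mul, HExt.fst_smul, mul_smul_comm]
      · simp only [HExt.snd_mul, HExt.fst_smul, HExt.snd_smul, smul_add, map_smul, smul_assoc]
        rw [smul_comm p.fst a q.snd])

/-- the projection as an algebra map -/
def projHom :
    letI := commRing f hsymm hcoc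
    letI := algebra f hsymm hcoc
    HExt f →ₐ[A] B :=
  letI := commRing f hsymm hcoc
  letI := algebra f hsymm hcoc
  AlgHom.ofLinearMap
    { toFun := HExt.fst f
      map_add' := fun _ _ => rfl
      map_smul' := fun _ _ => rfl }
    rfl (fun _ _ => rfl)

end Aux


/-- Discrete case. If B is a formally smooth A-algebra then, for every B-module L, every A-bilinear
symmetric Hochschild 2-cocycle f : B × B → L (f(xy, z) + z f(x, y) = x f(y, z) + f(x, yz)) is a
Hochschild 2-coboundary: f(x, y) = x g(y) − g(xy) + y g(x) for some A-linear g : B → L. (The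
published statement is for topological algebras and open ideals; this row is its discrete case.) -/
theorem result {A : Type u} {B : Type v} [CommRing A] [CommRing B]
    [Algebra A B] [Algebra.FormallySmooth A B] {L : Type v} [AddCommGroup L] [Module B L] [Module A L]
    [IsScalarTower A B L] (f : B →ₗ[A] B →ₗ[A] L) (hsymm : ∀ x y : B, f x y = f y x)
    (hcoc : ∀ x y z : B, f (x * y) z + z • f x y = x • f y z + f x (y * z)) :
    ∃ g : B →ₗ[A] L, ∀ x y : B, f x y = x • g y - g (x * y) + y • g x := by
  letI := commRing f hsymm hcoc
  letI := algebra f hsymm hcoc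
  let π : HExt f →ₐ[A] B := projHom f hsymm hcoc
  have hπ : ∀ p : HExt f, π p = p.fst := fun _ => rfl
  have hsurj : Function.Surjective π := fun b => ⟨HExt.mk f b 0, rfl⟩
  have hnil : IsNilpotent (RingHom.ker (π : HExt f →+* B)) := by
    refine ⟨2, ?_⟩
    rw [pow_two, Ideal.zero_eq_bot, eq_bot_iff, Ideal.mul_le]
    intro p hp q hq
    rw [RingHom.mem_ker] at hp hq
    have hp' : p.fst = 0 := hp
    have hq' : q.fst = 0 := hq
    rw [Ideal.mem_bot]
    apply HExt.ext
    · simp only [HExt.fst_mul, hp', zero_mul, HExt.fst_zero]
    · simp only [HExt.snd_mul, hp', hq', zero_smul, map_zero, LinearMap.zero_apply, add_zero,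
        HExt.snd_zero]
  let s : B →ₐ[A] HExt f := Algebra.FormallySmooth.liftOfSurjective (AlgHom.id A B) π hsurj hnil
  have hs : ∀ x, (s x).fst = x := fun x =>
    Algebra.FormallySmooth.liftOfSurjective_apply (AlgHom.id A B) π hsurj hnil x
  let g : B →ₗ[A] L :=
    { toFun := fun x => -(s x).snd
      map_add' := fun x y => by
        rw [map_add, HExt.snd_add, neg_add]
      map_smul' := fun a x => by
        rw [map_smul, HExt.snd_smul, smul_neg, RingHom.id_apply] }
  refine ⟨g, fun x y => ?_⟩
  have h1 : (s (x * y)).snd = (s x * s y).snd := by rw [map_mul]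
  rw [HExt.snd_mul, hs, hs] at h1
  change f x y = x • (-(s y).snd) - (-(s (x * y)).snd) + y • (-(s x).snd)
  rw [h1, smul_neg, smul_neg]
  abel

end Groth.Agent.S5830
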