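import Groth.Statements.S5831
-- import your own Groth.Agent.* helpers here

set_option autoImplicit false
universe u
open EGA41

namespace Groth.Agent.S5831

section Aux

variable {A B C : Type u} [CommRing A] [CommRing B] [Algebra A B] [CommRing C] [Algebra A C]
  (I : Ideal C) (hI : I ^ 2 = ⊥) (u : B →ₐ[A] C ⧸ I) (σ : B →ₗ[A] C)
  (hσ : ∀ b, Ideal.Quotient.mk I (σ b) = u b)

include hI in
lemma mul_eq_zero_of_mem {x y : C} (hx : x ∈ I) (hy : y ∈ I) : x * y = 0 := by
  have : x * y ∈ I ^ 2 := by rw [pow_two]; exact Ideal.mul_mem_mul hx hy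
  rw [hI] at this
  exact this

include hσ in
lemma sigma_one_sub_mem : σ 1 - 1 ∈ I := by
  rw [← Ideal.Quotient.eq_zero_iff_mem, map_sub, hσ, map_one, map_one, sub_self]

include hσ in
lemma sigma_mul_sub_mem (x y : B) : σ (x * y) - σ x * σ y ∈ I := by
  rw [← Ideal.Quotient.eq_zero_iff_mem, map_sub, hσ, map_mul (Ideal.Quotient.mk I), hσ, hσ,
    map_mul, sub_self]

/-- The `B`-module structure on the square-zero ideal `I`, through a linear lift `σ`. -/
@[reducible] noncomputable def modB : Module B I where
  smul b z := σ b • z
  one_smul z := by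
    change σ 1 • z = z
    have h : (σ 1 - 1) • z = 0 := by
      apply Subtype.ext
      exact mul_eq_zero_of_mem I hI (sigma_one_sub_mem I u σ hσ) z.2
    rw [sub_smul, one_smul, sub_eq_zero] at h
    exact h
  mul_smul x y z := by
    change σ (x * y) • z = σ x • σ y • z
    have h : (σ (x * y) - σ x * σ y) • z = 0 := by
      apply Subtype.ext
      exact mul_eq_zero_of_mem I hI (sigma_mul_sub_mem I u σ hσ x y) z.2
    rw [sub_smul, sub_eq_zero, mul_smul] at h
    exact h
  smul_zero b := smul_zero (σ b)
  smul_add b z z' := smul_add (σ b) z z'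
  add_smul x y z := by
    change σ (x + y) • z = σ x • z + σ y • z
    rw [map_add, add_smul]
  zero_smul z := by
    change σ 0 • z = 0
    rw [map_zero, zero_smul]

lemma modB_smul_def (b : B) (z : I) :
    letI := modB I hI u σ hσ
    b • z = σ b • z := rfl

lemma towerAB :
    letI := modB I hI u σ hσ
    IsScalarTower A B I := by
  letI := modB I hI u σ hσ
  refine ⟨fun a b z => ?_⟩
  change σ (a • b) • z = a • (σ b • z)
  rw [map_smul, smul_assoc]

include hσ in
lemma sigma_cocycle_mem (x y : B) : σ x * σ y - σ (x * y) ∈ I := by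
  have := sigma_mul_sub_mem I u σ hσ x y
  rw [← neg_sub]
  exact I.neg_mem this

/-- the cocycle attached to a linear lift -/
noncomputable def cocycle : B →ₗ[A] B →ₗ[A] I :=
  LinearMap.mk₂ A (fun x y => ⟨σ x * σ y - σ (x * y), sigma_cocycle_mem I u σ hσ x y⟩)
    (fun x x' y => by
      apply Subtype.ext
      simp only [add_mul, map_add, Submodule.coe_add]
      ring)
    (fun a x y => by
      apply Subtype.ext
      simp only [smul_mul_assoc, map_smul, Submodule.coe_smul_of_tower]
      rw [smul_sub])
    (fun x y y' => by
      apply Subtype.ext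
      simp only [mul_add, map_add, Submodule.coe_add]
      ring)
    (fun a x y => by
      apply Subtype.ext
      simp only [mul_smul_comm, map_smul, Submodule.coe_smul_of_tower]
      rw [smul_sub])

lemma cocycle_apply (x y : B) :
    ((cocycle I u σ hσ x y : I) : C) = σ x * σ y - σ (x * y) := rfl

end Aux


/-- Discrete case. Let B be an A-algebra which is a projective A-module (A and B in one universe). If
for every B-module L in that universe every A-bilinear symmetric Hochschild 2-cocycle B × B → L is a
coboundary, then B is formally smooth over A. (The published statement assumes B formally projective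
as a topological A-module; for discrete rings this is projectivity.) -/
theorem result {A B : Type u} [CommRing A]
    [CommRing B] [Algebra A B] [Module.Projective A B]
    (h : ∀ (L : Type u) [AddCommGroup L] [Module B L] [Module A L] [IsScalarTower A B L]
      (f : B →ₗ[A] B →ₗ[A] L), (∀ x y : B, f x y = f y x) →
        (∀ x y z : B, f (x * y) z + z • f x y = x • f y z + f x (y * z)) →
          ∃ g : B →ₗ[A] L, ∀ x y : B, f x y = x • g y - g (x * y) + y • g x) :
    Algebra.FormallySmooth A B := by
  refine Algebra.FormallySmooth.of_comp_surjective ?_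
  intro C _ _ I hI u
  obtain ⟨σ, hσ'⟩ := Module.projective_lifting_property (Ideal.Quotient.mkₐ A I).toLinearMap
    u.toLinearMap Ideal.Quotient.mk_surjective
  have hσ : ∀ b, Ideal.Quotient.mk I (σ b) = u b := fun b => LinearMap.congr_fun hσ' b
  letI := modB I hI u σ hσ
  haveI := towerAB I hI u σ hσ
  obtain ⟨g, hg⟩ := h I (cocycle I u σ hσ)
    (fun x y => by
      apply Subtype.ext
      rw [cocycle_apply, cocycle_apply, mul_comm (σ x), mul_comm x])
    (fun x y z => by
      apply Subtype.ext
      rw [Submodule.coe_add, Submodule.coe_add, cocycle_apply, cocycle_apply,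
        modB_smul_def, modB_smul_def, Submodule.coe_smul, Submodule.coe_smul, cocycle_apply,
        cocycle_apply, smul_eq_mul, smul_eq_mul, mul_assoc x y z]
      ring)
  -- the multiplicative lift
  have hmul0 : ∀ z z' : I, (z : C) * (z' : C) = 0 := fun z z' => mul_eq_zero_of_mem I hI z.2 z'.2
  let v : B →ₗ[A] C := σ - (Submodule.subtype I).restrictScalars A ∘ₗ g
  have hv : ∀ x, v x = σ x - (g x : C) := fun x => rfl
  have hvmul : ∀ x y, v (x * y) = v x * v y := by
    intro x y
    have h1 := congrArg (fun z : I => (z : C)) (hg x y)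
    simp only [Submodule.coe_add, Submodule.coe_sub, cocycle_apply] at h1
    rw [modB_smul_def, modB_smul_def, Submodule.coe_smul, Submodule.coe_smul, smul_eq_mul,
      smul_eq_mul] at h1
    rw [hv, hv, hv]
    have h2 := hmul0 (g x) (g y)
    linear_combination -h1 - h2
  have hvmk : ∀ x, Ideal.Quotient.mk I (v x) = u x := by
    intro x
    rw [hv, map_sub, hσ, Ideal.Quotient.eq_zero_iff_mem.2 (g x).2, sub_zero]
  have hv1 : v 1 = 1 := by
    have hmem : v 1 - 1 ∈ I := by
      rw [← Ideal.Quotient.eq_zero_iff_mem, map_sub, hvmk, map_one, map_one, sub_self]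
    have h3 := mul_eq_zero_of_mem I hI hmem hmem
    have h4 := hvmul 1 1
    rw [mul_one] at h4
    have : v 1 - 1 = 0 := by linear_combination -h3 - h4
    exact sub_eq_zero.1 this
  refine ⟨AlgHom.ofLinearMap v hv1 hvmul, ?_⟩
  ext x
  exact hvmk x

end Groth.Agent.S5831
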