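import Groth.Statements.S5832
import Mathlib
-- import your own Groth.Agent.* helpers here

set_option autoImplicit false
universe u u' v
open EGA41

namespace Groth.Agent.S5832

open Exal

attribute [local instance] Exal.opModule Exal.isCentralScalar_opModule

section Basic

variable {A : Type u'} {B L : Type v} [CommRing A] [CommRing B] [Algebra A B] [AddCommGroup L]
  [Module B L]

theorem proj_incl (X : Ext A B L) (z : L) : X.proj (X.incl z) = 0 :=
  (X.isExtension.exact _).2 ⟨z, rfl⟩

theorem incl_mul_incl (X : Ext A B L) (z z' : L) : X.incl z * X.incl z' = 0 := by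
  rw [X.isExtension.mul_incl, proj_incl, zero_smul, map_zero]

theorem incl_mul (X : Ext A B L) (z : L) (x : X.E) : X.incl z * x = X.incl (X.proj x • z) := by
  rw [mul_comm, X.isExtension.mul_incl]

theorem exists_incl_of_proj_eq_zero (X : Ext A B L) (x : X.E) (hx : X.proj x = 0) :
    ∃ z, X.incl z = x := (X.isExtension.exact x).1 hx

/-- A homomorphism of extensions is an equivalence. -/
noncomputable def equivOfHom (X Y : Ext A B L) (φ : X.E →ₐ[A] Y.E)
    (hp : ∀ x, Y.proj (φ x) = X.proj x) (hi : ∀ z, φ (X.incl z) = Y.incl z) : X.Equiv Y where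
  toAlgEquiv := AlgEquiv.ofBijective φ (by
    constructor
    · rw [injective_iff_map_eq_zero]
      intro x hx
      have h1 : X.proj x = 0 := by rw [← hp, hx, map_zero]
      obtain ⟨z, rfl⟩ := exists_incl_of_proj_eq_zero X x h1
      rw [hi] at hx
      have : z = 0 := Y.isExtension.incl_injective (by rw [hx, map_zero])
      rw [this, map_zero]
    · intro y
      obtain ⟨x₀, hx₀⟩ := X.isExtension.proj_surjective (Y.proj y)
      have h1 : Y.proj (y - φ x₀) = 0 := by rw [map_sub, hp, hx₀, sub_self]
      obtain ⟨z, hz⟩ := exists_incl_of_proj_eq_zero Y _ h1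
      refine ⟨x₀ + X.incl z, ?_⟩
      rw [map_add, hi, hz]; ring)
  proj_apply x := hp x
  apply_incl z := hi z

end Basic

section Main

variable {Λ : Type u} {A : Type u'} {B C L : Type v}
    [CommRing Λ] [CommRing A] [CommRing B] [CommRing C] [Algebra Λ A] [Algebra Λ B] [Algebra Λ C]
    [Algebra A B] [Algebra B C] [Algebra A C] [IsScalarTower Λ A B] [IsScalarTower Λ A C]
    [IsScalarTower A B C]
    [AddCommGroup L] [Module C L] [Module B L] [IsScalarTower B C L]
    [Module A L] [IsScalarTower A C L] [Module Λ L] [IsScalarTower Λ A L] [IsScalarTower A B L]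


/-- The ring map `A → C ⊕ L`, `x ↦ (x, D x)`. -/
noncomputable def dHom (D : Derivation Λ A L) : A →+* TrivSqZeroExt C L where
  toFun x := TrivSqZeroExt.inl (algebraMap A C x) + TrivSqZeroExt.inr (D x)
  map_one' := by
    rw [map_one, Derivation.map_one_eq_zero, TrivSqZeroExt.inr_zero, add_zero, TrivSqZeroExt.inl_one]
  map_mul' x y := by
    apply TrivSqZeroExt.ext
    · simp
    · simp only [TrivSqZeroExt.snd_add, TrivSqZeroExt.snd_inl, TrivSqZeroExt.snd_inr, zero_add,
        TrivSqZeroExt.snd_mul, TrivSqZeroExt.fst_add, TrivSqZeroExt.fst_inl, TrivSqZeroExt.fst_inr, add_zero,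
        Derivation.leibniz, op_smul_eq_smul]
      rw [IsScalarTower.algebraMap_smul, IsScalarTower.algebraMap_smul, add_comm]
  map_zero' := by
    rw [map_zero, map_zero, TrivSqZeroExt.inl_zero, TrivSqZeroExt.inr_zero, add_zero]
  map_add' x y := by
    rw [map_add, map_add, TrivSqZeroExt.inl_add, TrivSqZeroExt.inr_add]
    abel

/-- carrier -/
@[nolint unusedArguments]
def XCarrier (_D : Derivation Λ A L) : Type v := TrivSqZeroExt C L

instance (D : Derivation Λ A L) : CommRing (XCarrier (C := C) D) :=
  inferInstanceAs (CommRing (TrivSqZeroExt C L))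

noncomputable instance (D : Derivation Λ A L) : Algebra A (XCarrier (C := C) D) :=
  (dHom (C := C) D : A →+* XCarrier (C := C) D).toAlgebra

/-- the extension of `C` by `L` attached to `D`. -/
noncomputable def ofDer (D : Derivation Λ A L) : Exal.Ext A C L where
  E := XCarrier (C := C) D
  proj :=
    { toFun := fun x => TrivSqZeroExt.fst x
      map_one' := TrivSqZeroExt.fst_one
      map_mul' := TrivSqZeroExt.fst_mul
      map_zero' := TrivSqZeroExt.fst_zero
      map_add' := TrivSqZeroExt.fst_add
      commutes' := fun x => by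
        change TrivSqZeroExt.fst (TrivSqZeroExt.inl (algebraMap A C x) + TrivSqZeroExt.inr (D x)) = _
        rw [TrivSqZeroExt.fst_add, TrivSqZeroExt.fst_inl, TrivSqZeroExt.fst_inr, add_zero] }
  incl := (TrivSqZeroExt.inrHom C L).toAddMonoidHom
  isExtension :=
    { proj_surjective := fun c => ⟨TrivSqZeroExt.inl c, rfl⟩
      incl_injective := TrivSqZeroExt.inr_injective
      exact := fun x => by
        constructor
        · intro hx
          exact ⟨TrivSqZeroExt.snd x, TrivSqZeroExt.ext hx.symm rfl⟩
        · rintro ⟨z, rfl⟩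
          rfl
      mul_incl := fun x z => by
        refine TrivSqZeroExt.ext ?_ ?_
        · change TrivSqZeroExt.fst x * 0 = 0
          exact mul_zero _
        · change TrivSqZeroExt.fst x • z + MulOpposite.op (0 : C) • TrivSqZeroExt.snd x = TrivSqZeroExt.fst x • z
          rw [MulOpposite.op_zero, zero_smul, add_zero] }

theorem aux (Y : Exal.Ext A B L) (hY : Y.IsTrivialOver Λ) :
    ∃ X : Exal.Ext A C L, X.IsTrivialOver Λ ∧ Nonempty ((X.pullback B).Equiv Y) := by
  obtain ⟨s, hs⟩ := hY
  let s₀ : B → Y.E := fun b => s b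
  have hs₀_mul : ∀ r r', s₀ (r * r') = s₀ r * s₀ r' := fun r r' => map_mul s r r'
  have hs₀_add : ∀ r r', s₀ (r + r') = s₀ r + s₀ r' := fun r r' => map_add s r r'
  have hs₀_one : s₀ 1 = 1 := map_one s
  have hs₀_zero : s₀ 0 = 0 := map_zero s
  have hs₀_Λ : ∀ c : Λ, s₀ (algebraMap Λ B c) = algebraMap A Y.E (algebraMap Λ A c) :=
    fun c => s.commutes c
  have hs₀_proj : ∀ r, Y.proj (s₀ r) = r := fun r => hs r
  have hker : ∀ a : A, Y.proj (algebraMap A Y.E a - s₀ (algebraMap A B a)) = 0 := by
    intro a
    rw [map_sub, hs₀_proj, AlgHom.commutes, sub_self]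
  choose dfun hD_incl using fun a : A => exists_incl_of_proj_eq_zero Y _ (hker a)
  have hsmul_incl : ∀ (c : Λ) (z : L), Y.incl (c • z) =
      algebraMap A Y.E (algebraMap Λ A c) * Y.incl z := by
    intro c z
    rw [Y.isExtension.mul_incl, AlgHom.commutes, algebraMap_smul, algebraMap_smul]
  let Dl : A →ₗ[Λ] L :=
    { toFun := dfun
      map_add' := by
        intro a a'
        apply Y.isExtension.incl_injective
        rw [map_add, hD_incl, hD_incl, hD_incl, map_add, map_add, hs₀_add]
        abel
      map_smul' := by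
        intro c a
        apply Y.isExtension.incl_injective
        rw [RingHom.id_apply, hsmul_incl, hD_incl, hD_incl, Algebra.smul_def, map_mul, map_mul,
          hs₀_mul, ← IsScalarTower.algebraMap_apply Λ A B, hs₀_Λ]
        ring }
  have hDl : ∀ a, Y.incl (Dl a) = algebraMap A Y.E a - s₀ (algebraMap A B a) := hD_incl
  let D : Derivation Λ A L := Derivation.mk' Dl (by
    intro a a'
    apply Y.isExtension.incl_injective
    rw [map_add, hDl]
    have e1 : Y.incl (a • Dl a') = algebraMap A Y.E a * Y.incl (Dl a') := by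
      rw [Y.isExtension.mul_incl, AlgHom.commutes, algebraMap_smul]
    have e2 : Y.incl (a' • Dl a) = s₀ (algebraMap A B a') * Y.incl (Dl a) := by
      rw [Y.isExtension.mul_incl, hs₀_proj, algebraMap_smul]
    rw [e1, e2, hDl, hDl, map_mul, map_mul, hs₀_mul]
    ring)
  have hD : ∀ a, Y.incl (D a) = algebraMap A Y.E a - s₀ (algebraMap A B a) := hDl
  let X : Exal.Ext A C L := ofDer (C := C) D
  refine ⟨X, ?_, ?_⟩
  · -- Λ-trivial
    refine ⟨{ toFun := fun c => (TrivSqZeroExt.inl c : TrivSqZeroExt C L)
              map_one' := TrivSqZeroExt.inl_one L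
              map_mul' := fun c c' => TrivSqZeroExt.inl_mul L c c'
              map_zero' := TrivSqZeroExt.inl_zero L
              map_add' := fun c c' => TrivSqZeroExt.inl_add L c c'
              commutes' := ?_ }, ?_⟩
    · intro c
      change (TrivSqZeroExt.inl (algebraMap Λ C c) : TrivSqZeroExt C L) =
        TrivSqZeroExt.inl (algebraMap A C (algebraMap Λ A c)) + TrivSqZeroExt.inr (D (algebraMap Λ A c))
      rw [Derivation.map_algebraMap, TrivSqZeroExt.inr_zero, add_zero,
        ← IsScalarTower.algebraMap_apply Λ A C]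
    · intro c
      rfl
  · have hmem : ∀ w : (X.pullback B).E,
        TrivSqZeroExt.fst (w.1.1 : TrivSqZeroExt C L) = algebraMap B C w.1.2 := by
      intro w
      have := w.2
      unfold Ext.fiberProd at this
      rw [AlgHom.mem_equalizer] at this
      exact this
    let θ : (X.pullback B).E →ₐ[A] Y.E :=
      { toFun := fun w => s₀ w.1.2 + Y.incl (TrivSqZeroExt.snd (w.1.1 : TrivSqZeroExt C L))
        map_one' := by
          change s₀ 1 + Y.incl (TrivSqZeroExt.snd (1 : TrivSqZeroExt C L)) = 1
          rw [hs₀_one, TrivSqZeroExt.snd_one, map_zero, add_zero]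
        map_mul' := by
          intro w w'
          change s₀ (w.1.2 * w'.1.2) + Y.incl (TrivSqZeroExt.snd
            ((w.1.1 : TrivSqZeroExt C L) * (w'.1.1 : TrivSqZeroExt C L))) =
            (s₀ w.1.2 + Y.incl (TrivSqZeroExt.snd (w.1.1 : TrivSqZeroExt C L))) *
            (s₀ w'.1.2 + Y.incl (TrivSqZeroExt.snd (w'.1.1 : TrivSqZeroExt C L)))
          erw [TrivSqZeroExt.snd_mul]
          rw [hmem w, hmem w', op_smul_eq_smul, algebraMap_smul,
            algebraMap_smul, hs₀_mul, map_add, add_mul, mul_add, mul_add, incl_mul_incl, add_zero,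
            Y.isExtension.mul_incl, incl_mul, hs₀_proj, hs₀_proj]
          abel
        map_zero' := by
          change s₀ 0 + Y.incl (TrivSqZeroExt.snd (0 : TrivSqZeroExt C L)) = 0
          rw [hs₀_zero, TrivSqZeroExt.snd_zero, map_zero, add_zero]
        map_add' := by
          intro w w'
          change s₀ (w.1.2 + w'.1.2) + Y.incl (TrivSqZeroExt.snd
            ((w.1.1 : TrivSqZeroExt C L) + (w'.1.1 : TrivSqZeroExt C L))) =
            (s₀ w.1.2 + Y.incl (TrivSqZeroExt.snd (w.1.1 : TrivSqZeroExt C L))) +
            (s₀ w'.1.2 + Y.incl (TrivSqZeroExt.snd (w'.1.1 : TrivSqZeroExt C L)))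
          erw [TrivSqZeroExt.snd_add]
          rw [hs₀_add, map_add]
          abel
        commutes' := by
          intro a
          change s₀ (algebraMap A B a) + Y.incl (TrivSqZeroExt.snd
            (TrivSqZeroExt.inl (algebraMap A C a) + TrivSqZeroExt.inr (D a) : TrivSqZeroExt C L)) =
            algebraMap A Y.E a
          rw [TrivSqZeroExt.snd_add, TrivSqZeroExt.snd_inl, TrivSqZeroExt.snd_inr, zero_add, hD]
          abel }
    refine ⟨equivOfHom _ _ θ (fun w => ?_) (fun z => ?_)⟩
    · change Y.proj (s₀ w.1.2 + Y.incl (TrivSqZeroExt.snd (w.1.1 : TrivSqZeroExt C L))) = w.1.2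
      rw [map_add, hs₀_proj, proj_incl, add_zero]
    · change s₀ 0 + Y.incl (TrivSqZeroExt.snd (TrivSqZeroExt.inr z : TrivSqZeroExt C L)) = Y.incl z
      rw [hs₀_zero, zero_add, TrivSqZeroExt.snd_inr]

end Main

/-- Surjectivity at the end of the sequence. For ring maps Λ → A → B → C and a C-module L, every
Λ-trivial A-extension of B by L is equivalent to the inverse image along B → C of a Λ-trivial
A-extension of C by L. (Exactness at the other places is that of the six-term derivation-extension
sequence restricted to Λ-trivial classes.) -/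
theorem result {Λ : Type u} {A : Type u'} {B C L : Type v}
    [CommRing Λ] [CommRing A] [CommRing B] [CommRing C] [Algebra Λ A] [Algebra Λ B] [Algebra Λ C]
    [Algebra A B] [Algebra B C] [Algebra A C] [IsScalarTower Λ A B] [IsScalarTower Λ A C] [IsScalarTower A B C]
    [AddCommGroup L] [Module C L] [Module B L] [IsScalarTower B C L]
    (Y : Exal.Ext A B L) (hY : Y.IsTrivialOver Λ) :
    ∃ X : Exal.Ext A C L, X.IsTrivialOver Λ ∧ Nonempty ((X.pullback B).Equiv Y) := by
  letI : Module A L := Module.compHom L (algebraMap A C)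
  letI : Module Λ L := Module.compHom L (algebraMap Λ C)
  haveI : IsScalarTower A C L := ⟨fun a c l => by
    change (a • c) • l = algebraMap A C a • (c • l)
    rw [Algebra.smul_def, mul_smul]⟩
  haveI : IsScalarTower Λ A L := ⟨fun c a l => by
    change algebraMap A C (c • a) • l = algebraMap Λ C c • (algebraMap A C a • l)
    rw [Algebra.smul_def, map_mul, mul_smul, ← IsScalarTower.algebraMap_apply Λ A C]⟩
  haveI : IsScalarTower A B L := ⟨fun a b l => by
    change (a • b) • l = algebraMap A C a • (b • l)
    rw [Algebra.smul_def, mul_smul, IsScalarTower.algebraMap_apply A B C a,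
      algebraMap_smul C (algebraMap A B a)]⟩
  exact aux Y hY

end Groth.Agent.S5832
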