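import Groth.Statements.S5833
import Groth.Agent.Lib.Helper29.CharHom
import Groth.Agent.S5821
import Mathlib.LinearAlgebra.TensorProduct.RightExactness
-- import your own Groth.Agent.* helpers here

set_option autoImplicit false
universe u v
open scoped TensorProduct
open EGA41

namespace Groth.Agent.S5833

open Groth.Agent.Lib.Helper29.CharHomLib Groth.Agent.Lib.Helper29.ExalLib

/-- Let Λ → A → B be ring maps, K an ideal of B, C = B ⧸ K, and suppose E = B ⧸ K², as an extension of C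
by K/K², is Λ-trivial. Let χ : Υ_{C/A/Λ} → K/K² be the characteristic homomorphism of E as an
A-extension, relative to Λ → A. Then: (a) the kernel of χ consists of the elements of Υ_{C/A/Λ} ⊆ C
⊗_A Ω_{A/Λ} whose image in C ⊗_B Ω_{B/Λ} is zero (that image map is written as the base change to C
of B ⊗_A Ω_{A/Λ} → Ω_{B/Λ}, through the canonical identification C ⊗_B (B ⊗_A Ω_{A/Λ}) = C ⊗_A
Ω_{A/Λ}); (b) the image of χ is the kernel of the conormal map K/K² → C ⊗_B Ω_{B/A}, x ↦ 1 ⊗ dx.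
This is the exact sequence 0 → Υ^C_{B/A/Λ} → Υ_{C/A/Λ} → K/K² → C ⊗_B Ω_{B/A} → Ω_{C/A} → 0 up to
its last two (conormal-sequence) terms. -/
theorem result {Λ : Type u} {A B : Type v} [CommRing Λ]
    [CommRing A] [CommRing B] [Algebra Λ A] [Algebra Λ B] [Algebra A B] [IsScalarTower Λ A B] (K : Ideal B)
    (htriv : ((Exal.Ext.infinitesimal K).restrictBase A).IsTrivialOver Λ)
    (χ : ↥(EGA41.imperfection Λ A (B ⧸ K)) →ₗ[B ⧸ K] K.Cotangent)
    (hχ : ((Exal.Ext.infinitesimal K).restrictBase A).IsCharHom Λ χ) :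
    (∀ z : ↥(EGA41.imperfection Λ A (B ⧸ K)),
        χ z = 0 ↔
          ((KaehlerDifferential.mapBaseChange Λ A B).baseChange (B ⧸ K))
              ((TensorProduct.AlgebraTensorModule.cancelBaseChange A B (B ⧸ K) (B ⧸ K) Ω[A⁄Λ]).symm
                (z : (B ⧸ K) ⊗[A] Ω[A⁄Λ])) = 0) ∧
      ∀ (x : B) (hx : x ∈ K),
        K.toCotangent ⟨x, hx⟩ ∈ LinearMap.range χ ↔
          (1 : B ⧸ K) ⊗ₜ[B] KaehlerDifferential.D A B x = (0 : (B ⧸ K) ⊗[B] Ω[B⁄A]) := by
  classical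
  -- the section of the `A`-extension and of the `B`-extension
  obtain ⟨σ⟩ := (isTrivialOver_iff_nonempty_aSection Λ
    ((Exal.Ext.infinitesimal K).restrictBase A)).1 htriv
  let σ' : ASection Λ (Exal.Ext.infinitesimal K) :=
    ⟨(σ.s : (B ⧸ K) →+* (Exal.Ext.infinitesimal K).CharCarrier Λ), σ.proj_s, fun l => by
      have h1 := σ.s_algebraMap l
      show σ.s (algebraMap Λ (B ⧸ K) l) = algebraMap B (B ⧸ K ^ 2) (algebraMap Λ B l)
      rw [h1, IsScalarTower.algebraMap_apply Λ A B]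
      rfl⟩
  have hcomp' : ∀ e : (Exal.Ext.infinitesimal K).CharCarrier Λ,
      σ'.comp e = σ.comp (e : ((Exal.Ext.infinitesimal K).restrictBase A).CharCarrier Λ) := by
    intro e
    apply inclC_injective Λ (Exal.Ext.infinitesimal K)
    exact (σ'.inclC_comp e).trans (σ.inclC_comp e).symm
  obtain ⟨T, hT1, hT2⟩ := exists_tilde σ
  obtain ⟨T', hT1', hT2'⟩ := exists_tilde σ'
  have hχT := (hT2 χ).1 hχ
  let χ' : ↥(EGA41.imperfection Λ B (B ⧸ K)) →ₗ[B ⧸ K] K.Cotangent :=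
    T'.comp (EGA41.imperfection Λ B (B ⧸ K)).subtype
  have hχ' : (Exal.Ext.infinitesimal K).IsCharHom Λ χ' := (hT2' χ').2 (fun z => rfl)
  have hK' : (Exal.Ext.infinitesimal K).IsTrivialOver Λ :=
    (isTrivialOver_iff_nonempty_aSection Λ _).2 ⟨σ'⟩
  have hbij := Groth.Agent.S5821.result K hK' χ' hχ'
  let Φ : (B ⧸ K) ⊗[A] Ω[A⁄Λ] →ₗ[B ⧸ K] (B ⧸ K) ⊗[B] Ω[B⁄Λ] :=
    ((KaehlerDifferential.mapBaseChange Λ A B).baseChange (B ⧸ K)).comp
      (TensorProduct.AlgebraTensorModule.cancelBaseChange A B (B ⧸ K) (B ⧸ K)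
        Ω[A⁄Λ]).symm.toLinearMap
  have hΦ : ∀ (c : B ⧸ K) (a : A), Φ (c ⊗ₜ KaehlerDifferential.D Λ A a) =
      c ⊗ₜ KaehlerDifferential.D Λ B (algebraMap A B a) := by
    intro c a
    show (KaehlerDifferential.mapBaseChange Λ A B).baseChange (B ⧸ K)
      ((TensorProduct.AlgebraTensorModule.cancelBaseChange A B (B ⧸ K) (B ⧸ K) Ω[A⁄Λ]).symm
        (c ⊗ₜ KaehlerDifferential.D Λ A a)) = _
    rw [TensorProduct.AlgebraTensorModule.cancelBaseChange_symm_tmul, LinearMap.baseChange_tmul,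
      KaehlerDifferential.mapBaseChange_tmul, one_smul, KaehlerDifferential.map_D]
  have hTΦ : ∀ t, T t = T' (Φ t) := by
    refine forall_of_tmul_D T.toAddMonoidHom ((T'.comp Φ).toAddMonoidHom) ?_
    intro c a
    show T (c ⊗ₜ KaehlerDifferential.D Λ A a) = T' (Φ (c ⊗ₜ KaehlerDifferential.D Λ A a))
    rw [hΦ, hT1, hT1', hcomp']
    rfl
  have hμ : ∀ t, KaehlerDifferential.mapBaseChange Λ B (B ⧸ K) (Φ t) =
      KaehlerDifferential.mapBaseChange Λ A (B ⧸ K) t := by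
    refine forall_of_tmul_D
      (((KaehlerDifferential.mapBaseChange Λ B (B ⧸ K)).comp Φ).toAddMonoidHom)
      (KaehlerDifferential.mapBaseChange Λ A (B ⧸ K)).toAddMonoidHom ?_
    intro c a
    show KaehlerDifferential.mapBaseChange Λ B (B ⧸ K) (Φ (c ⊗ₜ KaehlerDifferential.D Λ A a)) =
      KaehlerDifferential.mapBaseChange Λ A (B ⧸ K) (c ⊗ₜ KaehlerDifferential.D Λ A a)
    rw [hΦ, KaehlerDifferential.mapBaseChange_tmul, KaehlerDifferential.mapBaseChange_tmul,
      KaehlerDifferential.map_D, KaehlerDifferential.map_D, ← IsScalarTower.algebraMap_apply]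
  have hΦmem : ∀ z : ↥(EGA41.imperfection Λ A (B ⧸ K)),
      Φ (z : (B ⧸ K) ⊗[A] Ω[A⁄Λ]) ∈ EGA41.imperfection Λ B (B ⧸ K) := by
    intro z
    show KaehlerDifferential.mapBaseChange Λ B (B ⧸ K) (Φ z) = 0
    rw [hμ]
    exact LinearMap.mem_ker.1 z.2
  have hχχ' : ∀ z : ↥(EGA41.imperfection Λ A (B ⧸ K)), χ z = χ' ⟨Φ z, hΦmem z⟩ := by
    intro z
    rw [hχT, hTΦ]
    rfl
  refine ⟨fun z => ?_, fun x hx => ?_⟩
  · rw [hχχ' z]
    constructor
    · intro h
      have := hbij.1 (h.trans (map_zero χ').symm)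
      exact congrArg Subtype.val this
    · intro h
      have : (⟨Φ z, hΦmem z⟩ : ↥(EGA41.imperfection Λ B (B ⧸ K))) = 0 := Subtype.ext h
      rw [this, map_zero]
  · have hx' : ((1 : B ⧸ K) ⊗ₜ[B] KaehlerDifferential.D Λ B x) ∈
        EGA41.imperfection Λ B (B ⧸ K) := by
      show KaehlerDifferential.mapBaseChange Λ B (B ⧸ K) _ = 0
      rw [KaehlerDifferential.mapBaseChange_tmul, one_smul, KaehlerDifferential.map_D,
        Ideal.Quotient.algebraMap_eq, Ideal.Quotient.eq_zero_iff_mem.2 hx, map_zero]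
    have hχ'x : χ' ⟨_, hx'⟩ = K.toCotangent ⟨x, hx⟩ := by
      show T' ((1 : B ⧸ K) ⊗ₜ[B] KaehlerDifferential.D Λ B x) = _
      have h1 : algebraMap B ((Exal.Ext.infinitesimal K).CharCarrier Λ) x =
          (Exal.Ext.infinitesimal K).inclC Λ (K.toCotangent ⟨x, hx⟩) := by
        show Ideal.Quotient.mk (K ^ 2) x = K.cotangentToQuotientSquare (K.toCotangent ⟨x, hx⟩)
        rw [Ideal.toCotangent_to_quotient_square]
        rfl
      rw [hT1', one_smul, h1, σ'.comp_inclC]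
    let π : (B ⧸ K) ⊗[B] Ω[B⁄Λ] →ₗ[B ⧸ K] (B ⧸ K) ⊗[B] Ω[B⁄A] :=
      (KaehlerDifferential.map Λ A B B).baseChange (B ⧸ K)
    have hπ1 : π ((1 : B ⧸ K) ⊗ₜ[B] KaehlerDifferential.D Λ B x) =
        (1 : B ⧸ K) ⊗ₜ[B] KaehlerDifferential.D A B x := by
      show (KaehlerDifferential.map Λ A B B).baseChange (B ⧸ K) _ = _
      rw [LinearMap.baseChange_tmul, KaehlerDifferential.map_D]
      rfl
    have hπΦ : ∀ t, π (Φ t) = 0 := by
      refine forall_of_tmul_D ((π.comp Φ).toAddMonoidHom) 0 ?_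
      intro c a
      show π (Φ (c ⊗ₜ KaehlerDifferential.D Λ A a)) = 0
      rw [hΦ]
      show (KaehlerDifferential.map Λ A B B).baseChange (B ⧸ K) _ = _
      rw [LinearMap.baseChange_tmul, KaehlerDifferential.map_D]
      have : KaehlerDifferential.D A B (algebraMap B B (algebraMap A B a)) = 0 :=
        Derivation.map_algebraMap _ a
      rw [this, TensorProduct.tmul_zero]
    constructor
    · rintro ⟨z, hz⟩
      have h1 : χ' ⟨Φ z, hΦmem z⟩ = χ' ⟨_, hx'⟩ := by rw [← hχχ', hz, hχ'x]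
      have h2 : Φ z = (1 : B ⧸ K) ⊗ₜ[B] KaehlerDifferential.D Λ B x :=
        congrArg Subtype.val (hbij.1 h1)
      rw [← hπ1, ← h2, hπΦ]
    · intro h0
      have hex : Function.Exact ((KaehlerDifferential.mapBaseChange Λ A B).baseChange (B ⧸ K)) π := by
        show Function.Exact ((KaehlerDifferential.mapBaseChange Λ A B).baseChange (B ⧸ K))
          ((KaehlerDifferential.map Λ A B B).baseChange (B ⧸ K))
        rw [LinearMap.baseChange_eq_ltensor, LinearMap.baseChange_eq_ltensor]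
        exact lTensor_exact (B ⧸ K) (KaehlerDifferential.exact_mapBaseChange_map Λ A B)
          (KaehlerDifferential.map_surjective Λ A B)
      have h3 : π ((1 : B ⧸ K) ⊗ₜ[B] KaehlerDifferential.D Λ B x) = 0 := hπ1.trans h0
      obtain ⟨y, hy⟩ := (hex _).1 h3
      let t := TensorProduct.AlgebraTensorModule.cancelBaseChange A B (B ⧸ K) (B ⧸ K) Ω[A⁄Λ] y
      have hΦt : Φ t = (1 : B ⧸ K) ⊗ₜ[B] KaehlerDifferential.D Λ B x := by
        show (KaehlerDifferential.mapBaseChange Λ A B).baseChange (B ⧸ K)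
          ((TensorProduct.AlgebraTensorModule.cancelBaseChange A B (B ⧸ K) (B ⧸ K) Ω[A⁄Λ]).symm
            (TensorProduct.AlgebraTensorModule.cancelBaseChange A B (B ⧸ K) (B ⧸ K) Ω[A⁄Λ] y)) = _
        rw [LinearEquiv.symm_apply_apply, hy]
      have htmem : t ∈ EGA41.imperfection Λ A (B ⧸ K) := by
        show KaehlerDifferential.mapBaseChange Λ A (B ⧸ K) t = 0
        rw [← hμ, hΦt]
        exact hx'
      refine ⟨⟨t, htmem⟩, ?_⟩
      rw [hχχ']
      have : (⟨Φ t, hΦmem ⟨t, htmem⟩⟩ : ↥(EGA41.imperfection Λ B (B ⧸ K))) = ⟨_, hx'⟩ :=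
        Subtype.ext hΦt
      rw [this, hχ'x]

end Groth.Agent.S5833
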