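import Groth.Statements.S5835
import Groth.Agent.Lib.Helper13.SepDiff5
open Groth.Agent.Lib.Helper13.SepDiff

set_option autoImplicit false
universe v w
open scoped TensorProduct
open EGA41

namespace Groth.Agent.S5835

/-- For fields k₀ ⊆ k ⊆ K ⊆ L, the map of imperfection modules Υ_{L/K/k₀} → Υ_{L/K/k} induced by
Ω_{K/k₀} → Ω_{K/k} is injective (k is k₀-admissible for the extension L of K) in each of the
following cases: L is separable over k; L is separable over K; k lies in k₀(K^p), p the
characteristic exponent. Separable means geometrically reduced (not necessarily algebraic). -/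
theorem result {k : Type v} {k₀ K L : Type w}
    [Field k₀] [Field k] [Field K] [Field L] [Algebra k₀ k] [Algebra k₀ K] [Algebra k₀ L] [Algebra k K]
    [Algebra k L] [Algebra K L] [IsScalarTower k₀ k K] [IsScalarTower k₀ k L] [IsScalarTower k₀ K L]
    [IsScalarTower k K L] (p : ℕ) [ExpChar K p]
    (h : Algebra.IsGeometricallyReduced k L ∨ Algebra.IsGeometricallyReduced K L ∨
      ∀ x : k, algebraMap k K x ∈ EGA41.pPowerSubalgebra p k₀ K) :
    ∀ z : L ⊗[K] Ω[K⁄k₀], z ∈ EGA41.imperfection k₀ K L →
      (KaehlerDifferential.map k₀ k K K).baseChange L z = 0 → z = 0 := by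
  intro z hz hβ
  have hz' : KaehlerDifferential.mapBaseChange k₀ K L z = 0 := hz
  have caseB : Algebra.IsGeometricallyReduced K L → z = 0 := by
    intro hb
    have hinj := mapBaseChange_injective_of_isGeometricallyReduced (K := k₀) (E := K) (F := L)
    exact hinj (by rw [map_zero]; exact hz')
  rcases h with ha | hb | hc
  · exact eq_zero_of_derivation_extends
      (fun D => int_derivation_extends_of_isGeometricallyReduced' D) z hz' hβ
  · exact caseB hb
  · cases ‹ExpChar K p› with
    | zero => exact caseB (Groth.Agent.S2535.isGeometricallyReduced_of_perfectField K L)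
    | prime hp =>
      haveI : Fact p.Prime := ⟨hp⟩
      have hinj := map_injective_of_mem_pPowerSubalgebra (k₀ := k₀) p hc
      have hinj' : Function.Injective ((KaehlerDifferential.map k₀ k K K).baseChange L) := by
        rw [LinearMap.baseChange_eq_ltensor]
        exact Module.Flat.lTensor_preserves_injective_linearMap _ hinj
      exact hinj' (by rw [map_zero]; exact hβ)

end Groth.Agent.S5835
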