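import Groth.Statements.S5836
-- import your own Groth.Agent.* helpers here

set_option autoImplicit false
universe u u' u'' w
open scoped TensorProduct
open EGA41

namespace Groth.Agent.S5836

set_option linter.unusedSectionVars false

section Aux0

open KaehlerDifferential

universe a b c

variable (k : Type a) (K : Type b) (L : Type c) [CommRing k] [CommRing K] [CommRing L]
  [Algebra k K] [Algebra K L]

lemma span_one_tmul_D :
    Submodule.span L (Set.range fun x : K => (1 : L) ⊗ₜ[K] D k K x) = ⊤ := by
  have h := Submodule.baseChange_span (R := K) (M := Ω[K⁄k]) (A := L) (Set.range (D k K))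
  rw [KaehlerDifferential.span_range_derivation, Submodule.baseChange_top, ← Set.range_comp] at h
  rw [h]
  rfl

variable {k K L}

lemma ext_one_tmul_D {N : Type*} [AddCommGroup N] [Module L N] (f g : L ⊗[K] Ω[K⁄k] →ₗ[L] N)
    (h : ∀ x : K, f ((1 : L) ⊗ₜ[K] D k K x) = g ((1 : L) ⊗ₜ[K] D k K x)) : f = g := by
  apply LinearMap.ext_on (span_one_tmul_D k K L)
  rintro _ ⟨x, rfl⟩
  exact h x

variable {k' : Type*} [CommRing k'] [Algebra k k'] [Algebra k' K] [IsScalarTower k k' K]

lemma beta_one_tmul_D (x : K) :
    (KaehlerDifferential.map k k' K K).baseChange L ((1 : L) ⊗ₜ[K] D k K x) =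
      (1 : L) ⊗ₜ[K] D k' K x := by
  rw [LinearMap.baseChange_tmul, KaehlerDifferential.map_D]
  rfl

lemma beta_surjective :
    Function.Surjective ((KaehlerDifferential.map k k' K K).baseChange L) :=
  LinearMap.baseChange_surjective L (KaehlerDifferential.map_surjective k k' K)

end Aux0

section Aux

open KaehlerDifferential

variable {k : Type u} {k' : Type u'} {K L : Type w} [CommRing k] [CommRing k'] [CommRing K]
  [CommRing L] [Algebra k k'] [Algebra k K] [Algebra k' K] [IsScalarTower k k' K] [Algebra K L]
  [Algebra k L] [Algebra k' L] [IsScalarTower k K L] [IsScalarTower k' K L] [IsScalarTower k k' L]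

lemma square (z : L ⊗[K] Ω[K⁄k]) :
    KaehlerDifferential.map k k' L L (mapBaseChange k K L z) =
      mapBaseChange k' K L ((KaehlerDifferential.map k k' K K).baseChange L z) := by
  have : (KaehlerDifferential.map k k' L L).comp (mapBaseChange k K L) =
      (mapBaseChange k' K L).comp ((KaehlerDifferential.map k k' K K).baseChange L) := by
    apply ext_one_tmul_D
    intro x
    rw [LinearMap.comp_apply, LinearMap.comp_apply, beta_one_tmul_D, mapBaseChange_tmul,
      mapBaseChange_tmul, one_smul, one_smul, KaehlerDifferential.map_D,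
      KaehlerDifferential.map_D, KaehlerDifferential.map_D]
    rfl
  exact LinearMap.congr_fun this z

lemma exists_of_mem_ker (u : Ω[L⁄k]) (hu : KaehlerDifferential.map k k' L L u = 0) :
    ∃ z₂ : L ⊗[K] Ω[K⁄k], (KaehlerDifferential.map k k' K K).baseChange L z₂ = 0 ∧
      mapBaseChange k K L z₂ = u := by
  obtain ⟨t, rfl⟩ := (exact_mapBaseChange_map k k' L u).1 hu
  clear hu
  have ht : t ∈ Submodule.span L (Set.range fun y : k' => (1 : L) ⊗ₜ[k'] D k k' y) := by
    rw [span_one_tmul_D k k' L]; trivial
  induction ht using Submodule.span_induction with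
  | mem t ht =>
    obtain ⟨y, rfl⟩ := ht
    refine ⟨(1 : L) ⊗ₜ[K] D k K (algebraMap k' K y), ?_, ?_⟩
    · rw [beta_one_tmul_D, Derivation.map_algebraMap, TensorProduct.tmul_zero]
    · rw [mapBaseChange_tmul, mapBaseChange_tmul, KaehlerDifferential.map_D,
        KaehlerDifferential.map_D, ← IsScalarTower.algebraMap_apply k' K L]
  | zero => exact ⟨0, map_zero _, by rw [map_zero, map_zero]⟩
  | add t t' _ _ h h' =>
    obtain ⟨z, hz1, hz2⟩ := h
    obtain ⟨z', hz1', hz2'⟩ := h'
    exact ⟨z + z', by rw [map_add, hz1, hz1', add_zero], by rw [map_add, map_add, hz2, hz2']⟩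
  | smul l t _ h =>
    obtain ⟨z, hz1, hz2⟩ := h
    exact ⟨l • z, by rw [map_smul, hz1, smul_zero], by rw [map_smul, map_smul, hz2]⟩

end Aux

section Aux2

open KaehlerDifferential

variable {k : Type u} {k' : Type u'} {k'' : Type u''} {K L : Type w}
    [CommRing k] [CommRing k'] [CommRing k''] [CommRing K] [CommRing L]
    [Algebra k k'] [Algebra k k''] [Algebra k' k''] [IsScalarTower k k' k'']
    [Algebra k K] [Algebra k' K] [Algebra k'' K] [IsScalarTower k k' K] [IsScalarTower k' k'' K]
    [IsScalarTower k k'' K] [Algebra K L]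

lemma baseChange_map_comp (z : L ⊗[K] Ω[K⁄k]) :
    (KaehlerDifferential.map k' k'' K K).baseChange L
        ((KaehlerDifferential.map k k' K K).baseChange L z) =
      (KaehlerDifferential.map k k'' K K).baseChange L z := by
  have : ((KaehlerDifferential.map k' k'' K K).baseChange L).comp
      ((KaehlerDifferential.map k k' K K).baseChange L) =
      (KaehlerDifferential.map k k'' K K).baseChange L := by
    apply ext_one_tmul_D
    intro x
    rw [LinearMap.comp_apply, beta_one_tmul_D, beta_one_tmul_D, beta_one_tmul_D]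
  exact LinearMap.congr_fun this z

end Aux2


/-- For fields k ⊆ k' ⊆ k'' ⊆ K ⊆ L put Δ(L/K, a/b) = ker(Υ_{L/K/b} → Υ_{L/K/a}) ⊆ L ⊗_K Ω_{K/b}. Then 0
→ Δ(L/K, k'/k) → Δ(L/K, k''/k) → Δ(L/K, k''/k') → 0 is exact: stated as the surjectivity of the map
induced by L ⊗_K Ω_{K/k} → L ⊗_K Ω_{K/k'} (exactness on the left and in the middle hold by
construction), together with the resulting identity of ranks d(L/K, k''/k) = d(L/K, k''/k') + d(L/K,
k'/k). -/
theorem result {k : Type u} {k' : Type u'} {k'' : Type u''} {K L : Type w}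
    [Field k] [Field k'] [Field k''] [Field K] [Field L]
    [Algebra k k'] [Algebra k k''] [Algebra k' k''] [IsScalarTower k k' k'']
    [Algebra k K] [Algebra k' K] [Algebra k'' K] [IsScalarTower k k' K] [IsScalarTower k' k'' K]
    [IsScalarTower k k'' K] [Algebra K L] [Algebra k L] [Algebra k' L] [Algebra k'' L]
    [IsScalarTower k K L] [IsScalarTower k' K L] [IsScalarTower k'' K L] :
    (∀ w : L ⊗[K] Ω[K⁄k'], w ∈ EGA41.imperfection k' K L →
        (KaehlerDifferential.map k' k'' K K).baseChange L w = 0 →
          ∃ z : L ⊗[K] Ω[K⁄k], z ∈ EGA41.imperfection k K L ∧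
            (KaehlerDifferential.map k k'' K K).baseChange L z = 0 ∧
              (KaehlerDifferential.map k k' K K).baseChange L z = w) ∧
      Module.rank L ↥(EGA41.imperfection k K L ⊓
            LinearMap.ker ((KaehlerDifferential.map k k'' K K).baseChange L)) =
        Module.rank L ↥(EGA41.imperfection k' K L ⊓
              LinearMap.ker ((KaehlerDifferential.map k' k'' K K).baseChange L)) +
          Module.rank L ↥(EGA41.imperfection k K L ⊓
              LinearMap.ker ((KaehlerDifferential.map k k' K K).baseChange L)) := by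
  haveI : IsScalarTower k k' L := IsScalarTower.of_algebraMap_eq (fun x => by
    rw [IsScalarTower.algebraMap_apply k K L, IsScalarTower.algebraMap_apply k k' K,
      ← IsScalarTower.algebraMap_apply k' K L])
  have part1 : ∀ w : L ⊗[K] Ω[K⁄k'], w ∈ EGA41.imperfection k' K L →
        (KaehlerDifferential.map k' k'' K K).baseChange L w = 0 →
          ∃ z : L ⊗[K] Ω[K⁄k], z ∈ EGA41.imperfection k K L ∧
            (KaehlerDifferential.map k k'' K K).baseChange L z = 0 ∧
              (KaehlerDifferential.map k k' K K).baseChange L z = w := by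
    intro w hw hw'
    obtain ⟨z₁, hz₁⟩ := beta_surjective (k := k) (k' := k') (K := K) (L := L) w
    have hu : KaehlerDifferential.map k k' L L (KaehlerDifferential.mapBaseChange k K L z₁) = 0 := by
      rw [square, hz₁]
      exact hw
    obtain ⟨z₂, hz₂, hz₂'⟩ := exists_of_mem_ker (K := K) _ hu
    refine ⟨z₁ - z₂, ?_, ?_, ?_⟩
    · change KaehlerDifferential.mapBaseChange k K L (z₁ - z₂) = 0
      rw [map_sub, hz₂', sub_self]
    · rw [← baseChange_map_comp (k' := k'), map_sub, hz₂, sub_zero, hz₁, hw']
    · rw [map_sub, hz₂, sub_zero, hz₁]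
  refine ⟨part1, ?_⟩
  set β := (KaehlerDifferential.map k k' K K).baseChange L with hβ
  set γ := (KaehlerDifferential.map k k'' K K).baseChange L with hγ
  set γ' := (KaehlerDifferential.map k' k'' K K).baseChange L with hγ'
  set V := EGA41.imperfection k K L ⊓ LinearMap.ker γ with hV
  set W := EGA41.imperfection k' K L ⊓ LinearMap.ker γ' with hW
  set U := EGA41.imperfection k K L ⊓ LinearMap.ker β with hU
  have hcomp : ∀ z, γ' (β z) = γ z := fun z => baseChange_map_comp z
  let φ : V →ₗ[L] L ⊗[K] Ω[K⁄k'] := β.comp V.subtype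
  have hrange : LinearMap.range φ = W := by
    ext w
    constructor
    · rintro ⟨v, rfl⟩
      refine ⟨?_, ?_⟩
      · change KaehlerDifferential.mapBaseChange k' K L (β v) = 0
        rw [hβ, ← square]
        have : KaehlerDifferential.mapBaseChange k K L (v : L ⊗[K] Ω[K⁄k]) = 0 := v.2.1
        rw [this, map_zero]
      · change γ' (β v) = 0
        rw [hcomp]
        exact v.2.2
    · rintro ⟨hw1, hw2⟩
      obtain ⟨z, hz1, hz2, hz3⟩ := part1 w hw1 hw2
      exact ⟨⟨z, hz1, hz2⟩, hz3⟩
  have hmap : (LinearMap.ker φ).map V.subtype = U := by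
    ext x
    constructor
    · rintro ⟨v, hv, rfl⟩
      exact ⟨v.2.1, hv⟩
    · rintro ⟨hx1, hx2⟩
      have hx3 : γ x = 0 := by
        rw [← hcomp]
        have : β x = 0 := hx2
        rw [this, map_zero]
      exact ⟨⟨x, hx1, hx3⟩, hx2, rfl⟩
  have hker : Module.rank L (LinearMap.ker φ) = Module.rank L U := by
    rw [← hmap]
    exact (Submodule.equivMapOfInjective V.subtype V.injective_subtype (LinearMap.ker φ)).rank_eq
  have := LinearMap.rank_range_add_rank_ker (R := L) (M := V) (M₁ := L ⊗[K] Ω[K⁄k']) φ
  rw [hrange, hker] at this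
  exact this.symm

end Groth.Agent.S5836
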