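import Groth.Statements.S5837
import Mathlib
import Groth.Agent.S5836
-- import your own Groth.Agent.* helpers here

set_option autoImplicit false
universe u u' w
open scoped TensorProduct
open EGA41

namespace Groth.Agent.S5837

open KaehlerDifferential TensorProduct
open Groth.Agent.S5836 (span_one_tmul_D ext_one_tmul_D beta_one_tmul_D)

set_option linter.unusedSectionVars false

section Alpha

variable (R : Type*) (K L M : Type w) [CommRing R] [Field K] [Field L] [Field M]
  [Algebra R K] [Algebra R L] [Algebra K L] [IsScalarTower R K L]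
  [Algebra K M] [Algebra L M] [IsScalarTower K L M]

/-- The transition map `M ⊗_K Ω_{K/R} → M ⊗_L Ω_{L/R}`. -/
noncomputable def alpha : M ⊗[K] Ω[K⁄R] →ₗ[M] M ⊗[L] Ω[L⁄R] :=
  ((mapBaseChange R K L).baseChange M).comp
    (AlgebraTensorModule.cancelBaseChange K L M M Ω[K⁄R]).symm.toLinearMap

lemma alpha_one_tmul_D (x : K) :
    alpha R K L M ((1 : M) ⊗ₜ[K] D R K x) = (1 : M) ⊗ₜ[L] D R L (algebraMap K L x) := by
  unfold alpha
  rw [LinearMap.comp_apply, LinearEquiv.coe_coe, AlgebraTensorModule.cancelBaseChange_symm_tmul,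
    LinearMap.baseChange_tmul, mapBaseChange_tmul, one_smul, KaehlerDifferential.map_D]

end Alpha

section ProdBC

variable {L M : Type w} [Field L] [Field M] [Algebra L M]

lemma prod_baseChange_eq_zero_iff {X A B : Type*} [AddCommGroup X] [Module L X]
    [AddCommGroup A] [Module L A] [AddCommGroup B] [Module L B]
    (f₁ : X →ₗ[L] A) (f₂ : X →ₗ[L] B) (z : M ⊗[L] X) :
    (f₁.prod f₂).baseChange M z = 0 ↔ f₁.baseChange M z = 0 ∧ f₂.baseChange M z = 0 := by
  have h : ∀ z : M ⊗[L] X, TensorProduct.prodRight L M M A B ((f₁.prod f₂).baseChange M z) =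
      (f₁.baseChange M z, f₂.baseChange M z) := by
    intro z
    induction z using TensorProduct.induction_on with
    | zero => rw [map_zero, map_zero, map_zero, map_zero]; rfl
    | tmul m x => rfl
    | add a b ha hb => simp only [map_add, ha, hb, Prod.mk_add_mk]
  rw [← (TensorProduct.prodRight L M M A B).map_eq_zero_iff, h, Prod.mk_eq_zero]

lemma rank_ker_baseChange {X Z : Type w} [AddCommGroup X] [Module L X] [AddCommGroup Z]
    [Module L Z] (f : X →ₗ[L] Z) :
    Module.rank M ↥(LinearMap.ker (f.baseChange M)) = Module.rank L ↥(LinearMap.ker f) := by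
  show Module.rank M ↥(LinearMap.ker (AlgebraTensorModule.lTensor M M f)) = _
  rw [← (LinearMap.tensorKerEquiv M M f).rank_eq, Module.rank_baseChange, Cardinal.lift_id]

end ProdBC

section Main

variable {k₀ : Type u} {k : Type u'} {K L M : Type w}
    [Field k₀] [Field k] [Field K] [Field L] [Field M] [Algebra k₀ k]
    [Algebra k₀ K] [Algebra k K] [IsScalarTower k₀ k K] [Algebra k₀ L] [Algebra k L] [IsScalarTower k₀ k L]
    [Algebra K L] [Algebra K M] [Algebra L M] [IsScalarTower K L M]
    [Algebra k₀ M] [Algebra k M] [IsScalarTower k₀ K L] [IsScalarTower k K L]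
    [IsScalarTower k₀ K M] [IsScalarTower k K M] [IsScalarTower k₀ L M] [IsScalarTower k L M]

lemma beta_alpha (y : M ⊗[K] Ω[K⁄k₀]) :
    mapBaseChange k₀ L M (alpha k₀ K L M y) = mapBaseChange k₀ K M y := by
  have h : (mapBaseChange k₀ L M).comp (alpha k₀ K L M) = mapBaseChange k₀ K M := by
    apply ext_one_tmul_D
    intro x
    rw [LinearMap.comp_apply, alpha_one_tmul_D, mapBaseChange_tmul, mapBaseChange_tmul, one_smul,
      one_smul, KaehlerDifferential.map_D, KaehlerDifferential.map_D,
      ← IsScalarTower.algebraMap_apply K L M]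
  exact LinearMap.congr_fun h y

lemma piL_alpha (y : M ⊗[K] Ω[K⁄k₀]) :
    (KaehlerDifferential.map k₀ k L L).baseChange M (alpha k₀ K L M y) =
      alpha k K L M ((KaehlerDifferential.map k₀ k K K).baseChange M y) := by
  have h : ((KaehlerDifferential.map k₀ k L L).baseChange M).comp (alpha k₀ K L M) =
      (alpha k K L M).comp ((KaehlerDifferential.map k₀ k K K).baseChange M) := by
    apply ext_one_tmul_D
    intro x
    rw [LinearMap.comp_apply, LinearMap.comp_apply, alpha_one_tmul_D, beta_one_tmul_D,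
      beta_one_tmul_D, alpha_one_tmul_D]
  exact LinearMap.congr_fun h y

lemma piK_eq (y : M ⊗[K] Ω[K⁄k₀]) :
    (KaehlerDifferential.map k₀ k K K).baseChange M y =
      AlgebraTensorModule.cancelBaseChange K L M M Ω[K⁄k]
        (((KaehlerDifferential.map k₀ k K K).baseChange L).baseChange M
          ((AlgebraTensorModule.cancelBaseChange K L M M Ω[K⁄k₀]).symm y)) := by
  have h : (KaehlerDifferential.map k₀ k K K).baseChange M =
      ((AlgebraTensorModule.cancelBaseChange K L M M Ω[K⁄k]).toLinearMap.comp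
        (((KaehlerDifferential.map k₀ k K K).baseChange L).baseChange M)).comp
        (AlgebraTensorModule.cancelBaseChange K L M M Ω[K⁄k₀]).symm.toLinearMap := by
    apply ext_one_tmul_D
    intro x
    simp only [LinearMap.coe_comp, Function.comp_apply, LinearEquiv.coe_coe,
      AlgebraTensorModule.cancelBaseChange_symm_tmul, LinearMap.baseChange_tmul,
      AlgebraTensorModule.cancelBaseChange_tmul, one_smul]
  exact LinearMap.congr_fun h y

lemma alpha_mem (y : M ⊗[K] Ω[K⁄k₀])
    (hy : y ∈ EGA41.imperfection k₀ K M ⊓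
      LinearMap.ker ((KaehlerDifferential.map k₀ k K K).baseChange M)) :
    alpha k₀ K L M y ∈ EGA41.imperfection k₀ L M ⊓
      LinearMap.ker ((KaehlerDifferential.map k₀ k L L).baseChange M) := by
  obtain ⟨h1, h2⟩ := hy
  refine ⟨?_, ?_⟩
  · show mapBaseChange k₀ L M (alpha k₀ K L M y) = 0
    rw [beta_alpha]
    exact h1
  · show (KaehlerDifferential.map k₀ k L L).baseChange M (alpha k₀ K L M y) = 0
    have h2' : (KaehlerDifferential.map k₀ k K K).baseChange M y = 0 := h2
    rw [piL_alpha, h2', map_zero]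

lemma exists_preimage (w : M ⊗[L] Ω[L⁄k₀])
    (hw : (KaehlerDifferential.map k₀ k L L).baseChange M w = 0) :
    ∃ v : M ⊗[K] Ω[K⁄k₀], (KaehlerDifferential.map k₀ k K K).baseChange M v = 0 ∧
      alpha k₀ K L M v = w := by
  have hex := lTensor_exact M (exact_mapBaseChange_map k₀ k L)
    (KaehlerDifferential.map_surjective k₀ k L)
  have hw' : (KaehlerDifferential.map k₀ k L L).lTensor M w = 0 := hw
  obtain ⟨t, rfl⟩ := (hex w).1 hw'
  clear hw hw'
  have key : ∀ ξ : L ⊗[k] Ω[k⁄k₀], ∀ m : M, ∃ v : M ⊗[K] Ω[K⁄k₀],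
      (KaehlerDifferential.map k₀ k K K).baseChange M v = 0 ∧
      alpha k₀ K L M v = m ⊗ₜ[L] (mapBaseChange k₀ k L ξ) := by
    intro ξ
    have hξ : ξ ∈ Submodule.span L (Set.range fun y : k => (1 : L) ⊗ₜ[k] D k₀ k y) := by
      rw [span_one_tmul_D k₀ k L]; trivial
    induction hξ using Submodule.span_induction with
    | mem ξ hξ =>
      obtain ⟨y, rfl⟩ := hξ
      intro m
      refine ⟨m • ((1 : M) ⊗ₜ[K] D k₀ K (algebraMap k K y)), ?_, ?_⟩
      · rw [map_smul, beta_one_tmul_D, Derivation.map_algebraMap, TensorProduct.tmul_zero,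
          smul_zero]
      · rw [map_smul, alpha_one_tmul_D, mapBaseChange_tmul, one_smul, KaehlerDifferential.map_D,
          ← IsScalarTower.algebraMap_apply k K L, TensorProduct.smul_tmul', smul_eq_mul, mul_one]
    | zero =>
      intro m
      exact ⟨0, map_zero _, by rw [map_zero, map_zero, TensorProduct.tmul_zero]⟩
    | add ξ ξ' _ _ h h' =>
      intro m
      obtain ⟨v, hv1, hv2⟩ := h m
      obtain ⟨v', hv1', hv2'⟩ := h' m
      exact ⟨v + v', by rw [map_add, hv1, hv1', add_zero],
        by rw [map_add, map_add, hv2, hv2', TensorProduct.tmul_add]⟩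
    | smul l ξ _ h =>
      intro m
      obtain ⟨v, hv1, hv2⟩ := h (l • m)
      refine ⟨v, hv1, ?_⟩
      rw [hv2, map_smul, TensorProduct.smul_tmul]
  induction t using TensorProduct.induction_on with
  | zero => exact ⟨0, map_zero _, by rw [map_zero, map_zero]⟩
  | tmul m ξ =>
    obtain ⟨v, hv1, hv2⟩ := key ξ m
    exact ⟨v, hv1, by rw [hv2, LinearMap.lTensor_tmul]⟩
  | add t t' h h' =>
    obtain ⟨v, hv1, hv2⟩ := h
    obtain ⟨v', hv1', hv2'⟩ := h'
    exact ⟨v + v', by rw [map_add, hv1, hv1', add_zero], by rw [map_add, map_add, hv2, hv2']⟩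

lemma ker_equiv_aux (y : M ⊗[K] Ω[K⁄k₀]) :
    y ∈ (EGA41.imperfection k₀ K M ⊓
        LinearMap.ker ((KaehlerDifferential.map k₀ k K K).baseChange M)) ⊓
        LinearMap.ker (alpha k₀ K L M) ↔
    (AlgebraTensorModule.cancelBaseChange K L M M Ω[K⁄k₀]).symm y ∈
      LinearMap.ker (((mapBaseChange k₀ K L).prod
        ((KaehlerDifferential.map k₀ k K K).baseChange L)).baseChange M) := by
  rw [LinearMap.mem_ker, prod_baseChange_eq_zero_iff]
  have hα : alpha k₀ K L M y = (mapBaseChange k₀ K L).baseChange M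
      ((AlgebraTensorModule.cancelBaseChange K L M M Ω[K⁄k₀]).symm y) := rfl
  have hπ := piK_eq (k := k) (L := L) y
  constructor
  · rintro ⟨⟨_, h2⟩, h3⟩
    refine ⟨?_, ?_⟩
    · rw [← hα]; exact h3
    · have h2' : (KaehlerDifferential.map k₀ k K K).baseChange M y = 0 := h2
      rw [hπ] at h2'
      exact (LinearEquiv.map_eq_zero_iff _).1 h2'
  · rintro ⟨h1, h2⟩
    have h3 : alpha k₀ K L M y = 0 := by rw [hα]; exact h1
    refine ⟨⟨?_, ?_⟩, h3⟩
    · show mapBaseChange k₀ K M y = 0
      rw [← beta_alpha (L := L), h3, map_zero]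
    · show (KaehlerDifferential.map k₀ k K K).baseChange M y = 0
      rw [hπ, h2, map_zero]

end Main


/-- Rank form. For fields k₀ ⊆ k ⊆ K ⊆ L ⊆ M, with Δ(F/E, k/k₀) = ker(Υ_{F/E/k₀} → Υ_{F/E/k}) and d its
rank, one has d(M/K, k/k₀) = d(M/L, k/k₀) + d(L/K, k/k₀) (cardinal ranks; the published statement
gives the short exact sequence 0 → Δ(L/K, k/k₀) ⊗_L M → Δ(M/K, k/k₀) → Δ(M/L, k/k₀) → 0, of which
this row states the rank identity). -/
theorem result {k₀ : Type u} {k : Type u'} {K L M : Type w}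
    [Field k₀] [Field k] [Field K] [Field L] [Field M] [Algebra k₀ k]
    [Algebra k₀ K] [Algebra k K] [IsScalarTower k₀ k K] [Algebra k₀ L] [Algebra k L] [IsScalarTower k₀ k L]
    [Algebra K L] [Algebra K M] [Algebra L M] [IsScalarTower K L M]
    [Algebra k₀ M] [Algebra k M] [IsScalarTower k₀ K L] [IsScalarTower k K L]
    [IsScalarTower k₀ K M] [IsScalarTower k K M] [IsScalarTower k₀ L M] [IsScalarTower k L M] :
    Module.rank M ↥(EGA41.imperfection k₀ K M ⊓
          LinearMap.ker ((KaehlerDifferential.map k₀ k K K).baseChange M)) =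
      Module.rank M ↥(EGA41.imperfection k₀ L M ⊓
            LinearMap.ker ((KaehlerDifferential.map k₀ k L L).baseChange M)) +
        Module.rank L ↥(EGA41.imperfection k₀ K L ⊓
            LinearMap.ker ((KaehlerDifferential.map k₀ k K K).baseChange L)) := by
  set T := EGA41.imperfection k₀ K M ⊓
    LinearMap.ker ((KaehlerDifferential.map k₀ k K K).baseChange M) with hT
  set T' := EGA41.imperfection k₀ L M ⊓
    LinearMap.ker ((KaehlerDifferential.map k₀ k L L).baseChange M) with hT'
  let α' : ↥T →ₗ[M] M ⊗[L] Ω[L⁄k₀] := (alpha k₀ K L M).domRestrict T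
  have hrange : LinearMap.range α' = T' := by
    apply le_antisymm
    · rintro _ ⟨x, rfl⟩
      exact alpha_mem x.1 x.2
    · intro w hw
      obtain ⟨v, hv1, hv2⟩ := exists_preimage (k := k) (K := K) w (LinearMap.mem_ker.1 hw.2)
      have hvT : v ∈ T := by
        refine ⟨?_, LinearMap.mem_ker.2 hv1⟩
        show KaehlerDifferential.mapBaseChange k₀ K M v = 0
        rw [← beta_alpha (L := L), hv2]
        exact hw.1
      exact ⟨⟨v, hvT⟩, hv2⟩
  let e := TensorProduct.AlgebraTensorModule.cancelBaseChange K L M M Ω[K⁄k₀]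
  let f := (KaehlerDifferential.mapBaseChange k₀ K L).prod
    ((KaehlerDifferential.map k₀ k K K).baseChange L)
  have hmap : (LinearMap.ker (f.baseChange M)).map (e : _ →ₗ[M] _) =
      T ⊓ LinearMap.ker (alpha k₀ K L M) := by
    ext y
    rw [Submodule.mem_map_equiv]
    exact (ker_equiv_aux y).symm
  let E1 : ↥(LinearMap.ker (f.baseChange M)) ≃ₗ[M] ↥(T ⊓ LinearMap.ker (alpha k₀ K L M)) :=
    LinearEquiv.ofSubmodules e _ _ hmap
  let E2 : ↥(LinearMap.ker α') ≃ₗ[M] ↥(T ⊓ LinearMap.ker (alpha k₀ K L M)) :=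
    { toFun := fun x => ⟨x.1.1, ⟨x.1.2, LinearMap.mem_ker.2 (LinearMap.mem_ker.1 x.2)⟩⟩
      invFun := fun y => ⟨⟨y.1, y.2.1⟩, LinearMap.mem_ker.2 (LinearMap.mem_ker.1 y.2.2)⟩
      map_add' := fun _ _ => rfl
      map_smul' := fun _ _ => rfl
      left_inv := fun _ => rfl
      right_inv := fun _ => rfl }
  have hkerf : LinearMap.ker f = EGA41.imperfection k₀ K L ⊓
      LinearMap.ker ((KaehlerDifferential.map k₀ k K K).baseChange L) := LinearMap.ker_prod _ _
  have hrank : Module.rank M ↥(LinearMap.ker α') =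
      Module.rank L ↥(EGA41.imperfection k₀ K L ⊓
        LinearMap.ker ((KaehlerDifferential.map k₀ k K K).baseChange L)) := by
    rw [← (LinearEquiv.ofEq _ _ hkerf).rank_eq, (E2.trans E1.symm).rank_eq]
    exact rank_ker_baseChange f
  have h := LinearMap.rank_range_add_rank_ker (R := M) (M := ↥T) (M₁ := M ⊗[L] Ω[L⁄k₀]) α'
  rw [hrange, hrank] at h
  exact h.symm

end Groth.Agent.S5837
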