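import Groth.Statements.S5838
import Mathlib
-- import your own Groth.Agent.* helpers here

set_option autoImplicit false
universe u v w
open EGA41

namespace Groth.Agent.S5838

open Filter Topology

lemma lift_of_proj {A : Type*} [CommRing A] (J : Ideal A) {P X Y : Type*}
    [AddCommGroup P] [Module A P] [AddCommGroup X] [Module A X] [AddCommGroup Y] [Module A Y]
    (hP : Module.Projective (A ⧸ J) (P ⧸ (J • ⊤ : Submodule A P)))
    (hX : Module.IsTorsionBySet A X (J : Set A)) (hY : Module.IsTorsionBySet A Y (J : Set A))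
    (f : X →ₗ[A] Y) (hf : Function.Surjective f) (g : P →ₗ[A] Y) :
    ∃ h : P →ₗ[A] X, ∀ p, f (h p) = g p := by
  let _ : Module (A ⧸ J) X := hX.module
  let _ : Module (A ⧸ J) Y := hY.module
  have hs : Function.Surjective (algebraMap A (A ⧸ J)) := Ideal.Quotient.mk_surjective
  have hle : (J • ⊤ : Submodule A P) ≤ LinearMap.ker g := by
    rw [Submodule.smul_le]
    intro a ha p _
    rw [LinearMap.mem_ker, map_smul]
    exact @hY (g p) ⟨a, ha⟩
  let g' : (P ⧸ (J • ⊤ : Submodule A P)) →ₗ[A] Y := Submodule.liftQ _ g hle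
  obtain ⟨h', hh'⟩ := Module.projective_lifting_property (f.extendScalarsOfSurjective hs)
    (g'.extendScalarsOfSurjective hs) hf
  refine ⟨(h'.restrictScalars A) ∘ₗ (Submodule.mkQ _), fun p => ?_⟩
  have := LinearMap.congr_fun hh' (Submodule.Quotient.mk p)
  exact this

lemma exists_limit {A : Type*} {M : Type*} [CommRing A] [AddCommGroup M] [Module A M]
    [UniformSpace M] [IsUniformAddGroup M] [CompleteSpace M]
    (S : ℕ → Submodule A M) (hanti : Antitone S)
    (hnhds : ∀ n, (S n : Set M) ∈ 𝓝 (0 : M))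
    (hbasis : ∀ U ∈ 𝓝 (0 : M), ∃ n, (S n : Set M) ⊆ U)
    (y : ℕ → M) (hy : ∀ m, y (m + 1) - y m ∈ S m) :
    ∃ x : M, ∀ n, x - y n ∈ S n := by
  have hstep : ∀ n m, n ≤ m → y m - y n ∈ S n := by
    intro n m hnm
    induction m, hnm using Nat.le_induction with
    | base => simp
    | succ m hnm ih =>
      have h1 : y (m + 1) - y m ∈ S n := hanti hnm (hy m)
      have h2 : y (m + 1) - y n = (y (m + 1) - y m) + (y m - y n) := by abel
      rw [h2]
      exact (S n).add_mem h1 ih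
  have hcau : CauchySeq y := by
    rw [cauchySeq_iff]
    intro V hV
    rw [uniformity_eq_comap_nhds_zero M, Filter.mem_comap] at hV
    obtain ⟨U, hU, hUV⟩ := hV
    obtain ⟨n, hn⟩ := hbasis U hU
    refine ⟨n, fun k hk l hl => hUV ?_⟩
    show y l - y k ∈ U
    apply hn
    have h2 : y l - y k = (y l - y n) - (y k - y n) := by abel
    rw [h2]
    exact (S n).sub_mem (hstep n l hl) (hstep n k hk)
  obtain ⟨x, hx⟩ := cauchySeq_tendsto_of_complete hcau
  refine ⟨x, fun n => ?_⟩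
  have hclosed : IsClosed (S n : Set M) := by
    have hopen : IsOpen ((S n).toAddSubgroup : Set M) :=
      AddSubgroup.isOpen_of_mem_nhds _ (hnhds n)
    exact AddSubgroup.isClosed_of_isOpen _ hopen
  have htend : Tendsto (fun m => y m - y n) atTop (𝓝 (x - y n)) := hx.sub_const (y n)
  exact hclosed.mem_of_tendsto htend (Filter.eventually_atTop.2 ⟨n, fun m hm => hstep n m hm⟩)

lemma eq_of_forall_sub_mem {A : Type*} {M : Type*} [CommRing A] [AddCommGroup M] [Module A M]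
    [TopologicalSpace M] [T2Space M]
    (S : ℕ → Submodule A M)
    (hbasis : ∀ U ∈ 𝓝 (0 : M), ∃ n, (S n : Set M) ⊆ U)
    (x x' : M) (h : ∀ n, x - x' ∈ S n) : x = x' := by
  by_contra hne
  have hne' : x - x' ≠ 0 := sub_ne_zero.2 hne
  have hU : ({x - x'}ᶜ : Set M) ∈ 𝓝 (0 : M) := compl_singleton_mem_nhds hne'.symm
  obtain ⟨n, hn⟩ := hbasis _ hU
  exact hn (h n) rfl

lemma map_mem_smulTop {A : Type*} {M N : Type*} [CommRing A] [AddCommGroup M] [Module A M]
    [AddCommGroup N] [Module A N] (w : N →ₗ[A] M) (J : Ideal A) {z : N}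
    (hz : z ∈ (J • ⊤ : Submodule A N)) : w z ∈ (J • ⊤ : Submodule A M) := by
  refine Submodule.smul_induction_on hz (fun a ha n _ => ?_) (fun a b ha hb => ?_)
  · rw [map_smul]; exact Submodule.smul_mem_smul ha Submodule.mem_top
  · rw [map_add]; exact add_mem ha hb

/-- the hard direction, in terms of the submodules `𝔍 n • ⊤`. -/
lemma exists_leftInverse {A : Type u} {M : Type v} {N : Type w}
    [CommRing A] [AddCommGroup M] [Module A M] [UniformSpace M] [IsUniformAddGroup M]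
    [CompleteSpace M] [T2Space M] [AddCommGroup N] [Module A N]
    (𝔍 : ℕ → Ideal A) (h𝔍anti : Antitone 𝔍)
    (hSnhds : ∀ n, ((𝔍 n • ⊤ : Submodule A M) : Set M) ∈ 𝓝 (0 : M))
    (hSbasis : ∀ U ∈ 𝓝 (0 : M), ∃ n, ((𝔍 n • ⊤ : Submodule A M) : Set M) ⊆ U)
    (u : M →ₗ[A] N)
    (hcoker : ∀ n, Module.Projective (A ⧸ 𝔍 n)
      ((N ⧸ LinearMap.range u) ⧸ (𝔍 n • (⊤ : Submodule A (N ⧸ LinearMap.range u)))))
    (w' : ∀ n, N →ₗ[A] (M ⧸ (𝔍 n • ⊤ : Submodule A M)))
    (hw' : ∀ n x, w' n (u x) = (𝔍 n • ⊤ : Submodule A M).mkQ x) :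
    ∃ w : N →ₗ[A] M, ∀ x : M, w (u x) = x := by
  classical
  have hSanti : Antitone (fun n => (𝔍 n • ⊤ : Submodule A M)) :=
    fun n m hnm => Submodule.smul_mono_left (h𝔍anti hnm)
  let red : ∀ n, (M ⧸ (𝔍 (n + 1) • ⊤ : Submodule A M)) →ₗ[A] (M ⧸ (𝔍 n • ⊤ : Submodule A M)) :=
    fun n => Submodule.mapQ _ _ LinearMap.id (fun x hx => hSanti (Nat.le_succ n) hx)
  have hred : ∀ n x, red n ((𝔍 (n + 1) • ⊤ : Submodule A M).mkQ x)
      = (𝔍 n • ⊤ : Submodule A M).mkQ x := fun n x => rfl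
  have hredsurj : ∀ n, Function.Surjective (red n) := by
    intro n y
    obtain ⟨x, rfl⟩ := (𝔍 n • ⊤ : Submodule A M).mkQ_surjective y
    exact ⟨(𝔍 (n + 1) • ⊤ : Submodule A M).mkQ x, hred n x⟩
  have hstep : ∀ n (wn : N →ₗ[A] (M ⧸ (𝔍 n • ⊤ : Submodule A M))),
      (∀ x, wn (u x) = (𝔍 n • ⊤ : Submodule A M).mkQ x) →
      ∃ wn1 : N →ₗ[A] (M ⧸ (𝔍 (n + 1) • ⊤ : Submodule A M)),
        (∀ x, wn1 (u x) = (𝔍 (n + 1) • ⊤ : Submodule A M).mkQ x) ∧
          ∀ z, red n (wn1 z) = wn z := by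
    intro n wn hwn
    let d : N →ₗ[A] (M ⧸ (𝔍 n • ⊤ : Submodule A M)) := (red n) ∘ₗ (w' (n + 1)) - wn
    have hd : LinearMap.range u ≤ LinearMap.ker d := by
      rintro _ ⟨x, rfl⟩
      rw [LinearMap.mem_ker]
      show red n (w' (n + 1) (u x)) - wn (u x) = 0
      rw [hw' (n + 1) x, hred, hwn, sub_self]
    let dbar : (N ⧸ LinearMap.range u) →ₗ[A] (M ⧸ (𝔍 n • ⊤ : Submodule A M)) :=
      Submodule.liftQ _ d hd
    have hX : Module.IsTorsionBySet A (M ⧸ (𝔍 (n + 1) • ⊤ : Submodule A M))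
        (𝔍 (n + 1) : Set A) := Module.isTorsionBySet_quotient_ideal_smul M (𝔍 (n + 1))
    have hY : Module.IsTorsionBySet A (M ⧸ (𝔍 n • ⊤ : Submodule A M))
        (𝔍 (n + 1) : Set A) :=
      Module.isTorsionBySet_of_subset (fun a ha => h𝔍anti (Nat.le_succ n) ha)
        (Module.isTorsionBySet_quotient_ideal_smul M (𝔍 n))
    obtain ⟨e, he⟩ := lift_of_proj (𝔍 (n + 1)) (hcoker (n + 1)) hX hY (red n) (hredsurj n) dbar
    refine ⟨w' (n + 1) - e ∘ₗ (Submodule.mkQ _), ?_, ?_⟩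
    · intro x
      show w' (n + 1) (u x) - e (Submodule.Quotient.mk (u x)) = _
      have h0 : (Submodule.Quotient.mk (u x) : N ⧸ LinearMap.range u) = 0 :=
        (Submodule.Quotient.mk_eq_zero _).2 ⟨x, rfl⟩
      rw [h0, map_zero, sub_zero, hw']
    · intro z
      show red n (w' (n + 1) z - e (Submodule.Quotient.mk z)) = wn z
      rw [map_sub]
      have h1 : red n (e (Submodule.Quotient.mk z)) = red n (w' (n + 1) z) - wn z :=
        he (Submodule.Quotient.mk z)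
      rw [h1]
      abel
  have hstep' : ∀ n (t : {wn : N →ₗ[A] (M ⧸ (𝔍 n • ⊤ : Submodule A M)) //
        ∀ x, wn (u x) = (𝔍 n • ⊤ : Submodule A M).mkQ x}),
      ∃ t' : {wn : N →ₗ[A] (M ⧸ (𝔍 (n + 1) • ⊤ : Submodule A M)) //
        ∀ x, wn (u x) = (𝔍 (n + 1) • ⊤ : Submodule A M).mkQ x},
        ∀ z, red n (t'.1 z) = t.1 z := by
    intro n t
    obtain ⟨wn1, h1, h2⟩ := hstep n t.1 t.2
    exact ⟨⟨wn1, h1⟩, h2⟩
  choose next hnext using hstep'
  let W : ∀ n, {wn : N →ₗ[A] (M ⧸ (𝔍 n • ⊤ : Submodule A M)) //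
        ∀ x, wn (u x) = (𝔍 n • ⊤ : Submodule A M).mkQ x} :=
    fun n => Nat.rec (motive := fun n => {wn : N →ₗ[A] (M ⧸ (𝔍 n • ⊤ : Submodule A M)) //
        ∀ x, wn (u x) = (𝔍 n • ⊤ : Submodule A M).mkQ x}) ⟨w' 0, hw' 0⟩ (fun n t => next n t) n
  have hW : ∀ n z, red n ((W (n + 1)).1 z) = (W n).1 z := fun n z => hnext n (W n) z
  have hlim : ∀ z : N, ∃ x : M, ∀ n, (𝔍 n • ⊤ : Submodule A M).mkQ x = (W n).1 z := by
    intro z
    have hy : ∀ n, ∃ y : M, (𝔍 n • ⊤ : Submodule A M).mkQ y = (W n).1 z :=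
      fun n => (𝔍 n • ⊤ : Submodule A M).mkQ_surjective _
    choose y hy using hy
    have hyy : ∀ m, y (m + 1) - y m ∈ (𝔍 m • ⊤ : Submodule A M) := by
      intro m
      have h1 : red m ((𝔍 (m + 1) • ⊤ : Submodule A M).mkQ (y (m + 1)))
          = (𝔍 m • ⊤ : Submodule A M).mkQ (y (m + 1)) := hred m _
      rw [hy (m + 1), hW m z, ← hy m] at h1
      exact (Submodule.Quotient.eq _).1 h1.symm
    obtain ⟨x, hx⟩ := exists_limit (fun n => (𝔍 n • ⊤ : Submodule A M)) hSanti hSnhds hSbasis y hyy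
    refine ⟨x, fun n => ?_⟩
    rw [← hy n]
    exact (Submodule.Quotient.eq _).2 (hx n)
  choose wf hwf using hlim
  have huniq : ∀ x x' : M, (∀ n, (𝔍 n • ⊤ : Submodule A M).mkQ x
      = (𝔍 n • ⊤ : Submodule A M).mkQ x') → x = x' := by
    intro x x' h
    apply eq_of_forall_sub_mem (fun n => (𝔍 n • ⊤ : Submodule A M)) hSbasis
    intro n
    exact (Submodule.Quotient.eq _).1 (h n)
  refine ⟨{ toFun := wf, map_add' := ?_, map_smul' := ?_ }, ?_⟩
  · intro a b
    apply huniq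
    intro n
    rw [hwf, map_add, map_add, hwf, hwf]
  · intro a b
    apply huniq
    intro n
    rw [RingHom.id_apply, hwf, map_smul, map_smul, hwf]
  · intro x
    apply huniq
    intro n
    show (𝔍 n • ⊤ : Submodule A M).mkQ (wf (u x)) = _
    rw [hwf]
    exact (W n).2 x


/-- Let A be a topological ring with a countable decreasing fundamental system (𝔍_n) of open ideals, M
and N topological A-modules with the topologies deduced from that of A, M Hausdorff and complete,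
and u : M → N a continuous linear map such that for every n the cokernel of M/𝔍_n M → N/𝔍_n N is a
projective (A/𝔍_n)-module. Then u is formally left invertible if and only if it has a linear left
inverse. (The published statement adds that u is then a topological isomorphism onto a topological
direct factor.) -/
theorem result {A : Type u} {M : Type v} {N : Type w}
    [CommRing A] [TopologicalSpace A] [AddCommGroup M] [Module A M] [UniformSpace M] [IsUniformAddGroup M]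
    [CompleteSpace M] [T2Space M] [AddCommGroup N] [Module A N] [TopologicalSpace N]
    (𝔍 : ℕ → Ideal A) (h𝔍open : ∀ n, IsOpen (𝔍 n : Set A)) (h𝔍anti : Antitone 𝔍)
    (h𝔍basis : (nhds (0 : A)).HasBasis (fun _ : ℕ => True) (fun n => (𝔍 n : Set A)))
    (hM : TopMod.IsDeduced A M) (hN : TopMod.IsDeduced A N) (u : M →L[A] N)
    (hcoker : ∀ n, Module.Projective (A ⧸ 𝔍 n)
      ((N ⧸ LinearMap.range u.toLinearMap) ⧸ (𝔍 n • (⊤ : Submodule A (N ⧸ LinearMap.range u.toLinearMap))))) :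
    TopMod.IsFormallyLeftInvertible u ↔ ∃ w : N →ₗ[A] M, ∀ x : M, w (u x) = x := by
  classical
  have hSnhds : ∀ n, ((𝔍 n • ⊤ : Submodule A M) : Set M) ∈ 𝓝 (0 : M) :=
    fun n => hM.2.mem_of_mem (h𝔍open n)
  have hSbasis : ∀ U ∈ 𝓝 (0 : M), ∃ n, ((𝔍 n • ⊤ : Submodule A M) : Set M) ⊆ U := by
    intro U hU
    obtain ⟨J, hJ, hJU⟩ := hM.2.mem_iff.1 hU
    have hJ0 : (J : Set A) ∈ 𝓝 (0 : A) := hJ.mem_nhds J.zero_mem
    obtain ⟨n, -, hn⟩ := h𝔍basis.mem_iff.1 hJ0
    refine ⟨n, subset_trans ?_ hJU⟩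
    have hle : (𝔍 n • ⊤ : Submodule A M) ≤ J • ⊤ :=
      Submodule.smul_mono_left (SetLike.coe_subset_coe.1 hn)
    exact hle
  constructor
  · intro hfl
    have hw' : ∀ n, ∃ w' : N →ₗ[A] (M ⧸ (𝔍 n • ⊤ : Submodule A M)),
        ∀ x, w' (u.toLinearMap x) = (𝔍 n • ⊤ : Submodule A M).mkQ x := by
      intro n
      let _ : TopologicalSpace (M ⧸ (𝔍 n • ⊤ : Submodule A M)) := ⊥
      have : DiscreteTopology (M ⧸ (𝔍 n • ⊤ : Submodule A M)) := ⟨rfl⟩
      have hcont : Continuous (𝔍 n • ⊤ : Submodule A M).mkQ := by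
        apply continuous_of_continuousAt_zero (𝔍 n • ⊤ : Submodule A M).mkQ
        rw [ContinuousAt, map_zero, nhds_discrete (M ⧸ (𝔍 n • ⊤ : Submodule A M)), Filter.tendsto_pure]
        filter_upwards [hSnhds n] with z hz
        exact (Submodule.Quotient.mk_eq_zero _).2 hz
      obtain ⟨w', hw'⟩ := hfl (M ⧸ (𝔍 n • ⊤ : Submodule A M)) ⟨(𝔍 n • ⊤ : Submodule A M).mkQ, hcont⟩
      exact ⟨w'.toLinearMap, fun x => hw' x⟩
    choose w' hw' using hw'
    exact exists_leftInverse 𝔍 h𝔍anti hSnhds hSbasis u.toLinearMap hcoker w' hw'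
  · rintro ⟨w, hw⟩
    intro E _ _ _ _ v
    have hker : {x : M | v x = 0} ∈ 𝓝 (0 : M) := by
      have h0 : ({0} : Set E) ∈ 𝓝 (v 0) := by
        rw [map_zero]; exact (isOpen_discrete _).mem_nhds rfl
      exact v.continuous.continuousAt.preimage_mem_nhds h0
    obtain ⟨J, hJ, hJv⟩ := hM.2.mem_iff.1 hker
    have hvw : ∀ z ∈ (J • ⊤ : Submodule A N), v (w z) = 0 :=
      fun z hz => hJv (map_mem_smulTop w J hz)
    let g : N →ₗ[A] E := v.toLinearMap ∘ₗ w
    have hgcont : Continuous g := by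
      have := hN.1
      apply continuous_of_continuousAt_zero g
      rw [ContinuousAt, map_zero, nhds_discrete E, Filter.tendsto_pure]
      filter_upwards [hN.2.mem_of_mem hJ] with z hz using hvw z hz
    exact ⟨⟨g, hgcont⟩, fun x => by show v (w (u x)) = v x; rw [hw]⟩

end Groth.Agent.S5838
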