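import Groth.Statements.S5839
import Mathlib
import Groth.Agent.S5838
-- import your own Groth.Agent.* helpers here

set_option autoImplicit false
universe u v w
open EGA41

namespace Groth.Agent.S5839

open Filter Topology
open Groth.Agent.S5838 (lift_of_proj exists_leftInverse map_mem_smulTop)

lemma smulTop_le_ker {A : Type*} [CommRing A] (J : Ideal A) {P Y : Type*} [AddCommGroup P]
    [Module A P] [AddCommGroup Y] [Module A Y] (hY : Module.IsTorsionBySet A Y (J : Set A))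
    (g : P →ₗ[A] Y) : (J • ⊤ : Submodule A P) ≤ LinearMap.ker g := by
  rw [Submodule.smul_le]
  intro a ha p _
  rw [LinearMap.mem_ker, map_smul]
  exact @hY (g p) ⟨a, ha⟩

lemma tors_mono {A : Type*} [CommRing A] {J L : Ideal A} (h : J ≤ L) (M : Type*)
    [AddCommGroup M] [Module A M] :
    Module.IsTorsionBySet A (M ⧸ (L • ⊤ : Submodule A M)) (J : Set A) :=
  Module.isTorsionBySet_of_subset (fun a ha => h ha)
    (Module.isTorsionBySet_quotient_ideal_smul M L)

lemma exists_leftInverse_mod {A : Type*} {M N : Type*} [CommRing A] [AddCommGroup M] [Module A M]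
    [AddCommGroup N] [Module A N] (u : M →ₗ[A] N) (J L : Ideal A) (hJL : J ≤ L) (k : ℕ)
    (hk : L ^ k ≤ J)
    (hproj : Module.Projective (A ⧸ J) (N ⧸ (J • ⊤ : Submodule A N)))
    (w₀ : N →ₗ[A] M ⧸ (L • ⊤ : Submodule A M))
    (hw₀ : ∀ x, w₀ (u x) = Submodule.Quotient.mk x) :
    ∃ w : N →ₗ[A] M ⧸ (J • ⊤ : Submodule A M),
      ∀ x, w (u x) = (J • ⊤ : Submodule A M).mkQ x := by
  have hle : (J • ⊤ : Submodule A M) ≤ L • ⊤ := Submodule.smul_mono_left hJL
  let red : (M ⧸ (J • ⊤ : Submodule A M)) →ₗ[A] (M ⧸ (L • ⊤ : Submodule A M)) :=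
    Submodule.mapQ _ _ LinearMap.id (fun x hx => hle hx)
  have hred : ∀ x, red ((J • ⊤ : Submodule A M).mkQ x) = Submodule.Quotient.mk x := fun x => rfl
  have hredsurj : Function.Surjective red := by
    intro y
    obtain ⟨x, rfl⟩ := Submodule.Quotient.mk_surjective _ y
    exact ⟨(J • ⊤ : Submodule A M).mkQ x, hred x⟩
  have hX : Module.IsTorsionBySet A (M ⧸ (J • ⊤ : Submodule A M)) (J : Set A) :=
    Module.isTorsionBySet_quotient_ideal_smul M J
  have hY : Module.IsTorsionBySet A (M ⧸ (L • ⊤ : Submodule A M)) (J : Set A) := tors_mono hJL M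
  obtain ⟨v, hv⟩ := lift_of_proj J hproj hX hY red hredsurj w₀
  let φ : Module.End A (M ⧸ (J • ⊤ : Submodule A M)) :=
    Submodule.liftQ _ (v ∘ₗ u) (smulTop_le_ker J hX _)
  have hφ : ∀ x, φ ((J • ⊤ : Submodule A M).mkQ x) = v (u x) := fun x => rfl
  have hδ1 : ∀ y, (1 - φ) y ∈ (L • ⊤ : Submodule A (M ⧸ (J • ⊤ : Submodule A M))) := by
    intro y
    obtain ⟨m, rfl⟩ := (J • ⊤ : Submodule A M).mkQ_surjective y
    have h0 : red ((J • ⊤ : Submodule A M).mkQ m - v (u m)) = 0 := by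
      rw [map_sub, hred, hv, hw₀, sub_self]
    obtain ⟨m', hm'⟩ := (J • ⊤ : Submodule A M).mkQ_surjective
      ((J • ⊤ : Submodule A M).mkQ m - v (u m))
    rw [← hm', hred, Submodule.Quotient.mk_eq_zero] at h0
    have h1 : (J • ⊤ : Submodule A M).mkQ m' ∈
        (L • ⊤ : Submodule A (M ⧸ (J • ⊤ : Submodule A M))) := map_mem_smulTop _ L h0
    rw [hm'] at h1
    show (J • ⊤ : Submodule A M).mkQ m - φ ((J • ⊤ : Submodule A M).mkQ m) ∈ _
    rw [hφ]; exact h1
  have hδi : ∀ i y, ((1 - φ) ^ i) y ∈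
      (L ^ i • ⊤ : Submodule A (M ⧸ (J • ⊤ : Submodule A M))) := by
    intro i
    induction i with
    | zero => intro y; simp
    | succ i ih =>
      intro y
      have hpow : ((1 - φ) ^ (i + 1)) y = (1 - φ) (((1 - φ) ^ i) y) := by
        rw [pow_succ', Module.End.mul_apply]
      rw [hpow]
      have h1 := ih y
      refine Submodule.smul_induction_on h1 (fun a ha y' _ => ?_) (fun a b ha hb => ?_)
      · rw [map_smul, pow_succ, Submodule.mul_smul]
        exact Submodule.smul_mem_smul ha (hδ1 y')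
      · rw [map_add]; exact add_mem ha hb
  have hbot : (J • ⊤ : Submodule A (M ⧸ (J • ⊤ : Submodule A M))) = ⊥ := by
    rw [eq_bot_iff, Submodule.smul_le]
    intro a ha y _
    rw [Submodule.mem_bot]
    exact @hX y ⟨a, ha⟩
  have hnil : IsNilpotent (1 - φ) := by
    refine ⟨k, LinearMap.ext fun y => ?_⟩
    have h2 : (L ^ k • ⊤ : Submodule A (M ⧸ (J • ⊤ : Submodule A M))) ≤ J • ⊤ :=
      Submodule.smul_mono_left hk
    have h3 := h2 (hδi k y)
    rw [hbot, Submodule.mem_bot] at h3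
    exact h3
  have hunit : IsUnit φ := by
    have := hnil.isUnit_one_sub
    rwa [sub_sub_cancel] at this
  obtain ⟨ψ, hψ⟩ := hunit.exists_left_inv
  refine ⟨ψ ∘ₗ v, fun x => ?_⟩
  show ψ (v (u x)) = _
  rw [← hφ]
  exact LinearMap.congr_fun hψ ((J • ⊤ : Submodule A M).mkQ x)

lemma coker_projective {A : Type*} {M N : Type*} [CommRing A] [AddCommGroup M] [Module A M]
    [AddCommGroup N] [Module A N] (u : M →ₗ[A] N) (J : Ideal A)
    (hproj : Module.Projective (A ⧸ J) (N ⧸ (J • ⊤ : Submodule A N)))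
    (w : N →ₗ[A] M ⧸ (J • ⊤ : Submodule A M))
    (hw : ∀ x, w (u x) = (J • ⊤ : Submodule A M).mkQ x) :
    Module.Projective (A ⧸ J)
      ((N ⧸ LinearMap.range u) ⧸ (J • (⊤ : Submodule A (N ⧸ LinearMap.range u)))) := by
  have hs : Function.Surjective (algebraMap A (A ⧸ J)) := Ideal.Quotient.mk_surjective
  have hNJ : Module.IsTorsionBySet A (N ⧸ (J • ⊤ : Submodule A N)) (J : Set A) :=
    Module.isTorsionBySet_quotient_ideal_smul N J
  let p : (N ⧸ (J • ⊤ : Submodule A N)) →ₗ[A]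
      ((N ⧸ LinearMap.range u) ⧸ (J • (⊤ : Submodule A (N ⧸ LinearMap.range u)))) :=
    Submodule.mapQ _ _ (LinearMap.range u).mkQ (fun z hz => map_mem_smulTop _ J hz)
  let ubar : (M ⧸ (J • ⊤ : Submodule A M)) →ₗ[A] (N ⧸ (J • ⊤ : Submodule A N)) :=
    Submodule.mapQ _ _ u (fun z hz => map_mem_smulTop u J hz)
  have hubar : ∀ m, ubar ((J • ⊤ : Submodule A M).mkQ m) = (J • ⊤ : Submodule A N).mkQ (u m) :=
    fun m => rfl
  have hp : ∀ z, p ((J • ⊤ : Submodule A N).mkQ z) =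
      (J • (⊤ : Submodule A (N ⧸ LinearMap.range u))).mkQ ((LinearMap.range u).mkQ z) :=
    fun z => rfl
  let s' : N →ₗ[A] (N ⧸ (J • ⊤ : Submodule A N)) :=
    (J • ⊤ : Submodule A N).mkQ - ubar ∘ₗ w
  have hs' : LinearMap.range u ≤ LinearMap.ker s' := by
    rintro _ ⟨x, rfl⟩
    rw [LinearMap.mem_ker]
    show (J • ⊤ : Submodule A N).mkQ (u x) - ubar (w (u x)) = 0
    rw [hw, hubar, sub_self]
  let s'' : (N ⧸ LinearMap.range u) →ₗ[A] (N ⧸ (J • ⊤ : Submodule A N)) :=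
    Submodule.liftQ _ s' hs'
  let s : ((N ⧸ LinearMap.range u) ⧸ (J • (⊤ : Submodule A (N ⧸ LinearMap.range u)))) →ₗ[A]
      (N ⧸ (J • ⊤ : Submodule A N)) :=
    Submodule.liftQ _ s'' (smulTop_le_ker J hNJ _)
  have hsz : ∀ z, s ((J • (⊤ : Submodule A (N ⧸ LinearMap.range u))).mkQ
      ((LinearMap.range u).mkQ z)) = (J • ⊤ : Submodule A N).mkQ z - ubar (w z) := fun z => rfl
  have h2 : ∀ y, p (ubar y) = 0 := by
    intro y
    obtain ⟨m, rfl⟩ := (J • ⊤ : Submodule A M).mkQ_surjective y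
    rw [hubar, hp]
    have h0 : (LinearMap.range u).mkQ (u m) = 0 := by
      rw [Submodule.mkQ_apply, Submodule.Quotient.mk_eq_zero]; exact ⟨m, rfl⟩
    rw [h0, map_zero]
  have hps : ∀ q, p (s q) = q := by
    intro q
    obtain ⟨q', rfl⟩ := (J • (⊤ : Submodule A (N ⧸ LinearMap.range u))).mkQ_surjective q
    obtain ⟨z, rfl⟩ := (LinearMap.range u).mkQ_surjective q'
    rw [hsz, map_sub, h2, sub_zero, hp]
  have := hproj
  exact Module.Projective.of_split (s.extendScalarsOfSurjective hs)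
    (p.extendScalarsOfSurjective hs) (LinearMap.ext hps)


/-- Let A be preadmissible with ideal of definition 𝔏, the topologies of M and N deduced from that of A,
N/JN projective over A/J for every open ideal J; assuming moreover a countable decreasing
fundamental system of open ideals and M Hausdorff and complete, u : M → N has a linear left inverse
if and only if the induced map M/𝔏M → N/𝔏N has one (both being equivalent to formal left
invertibility). -/
theorem result {A : Type u} {M : Type v} {N : Type w}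
    [CommRing A] [TopologicalSpace A] [AddCommGroup M] [Module A M] [UniformSpace M] [IsUniformAddGroup M]
    [CompleteSpace M] [T2Space M] [AddCommGroup N] [Module A N] [TopologicalSpace N]
    (𝔍 : ℕ → Ideal A) (h𝔍open : ∀ n, IsOpen (𝔍 n : Set A)) (h𝔍anti : Antitone 𝔍)
    (h𝔍basis : (nhds (0 : A)).HasBasis (fun _ : ℕ => True) (fun n => (𝔍 n : Set A)))
    (hM : TopMod.IsDeduced A M) (hN : TopMod.IsDeduced A N) (u : M →L[A] N)
    (hA : LinTop.IsPreadmissible A) (𝔏 : Ideal A) (h𝔏 : LinTop.IsIdealOfDefinition A 𝔏)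
    (hproj : ∀ J : Ideal A, IsOpen (J : Set A) → Module.Projective (A ⧸ J) (N ⧸ (J • (⊤ : Submodule A N)))) :
    (∃ w : N →ₗ[A] M, ∀ x : M, w (u x) = x) ↔
      ∃ w₀ : N →ₗ[A] M ⧸ (𝔏 • ⊤ : Submodule A M), ∀ x : M, w₀ (u x) = Submodule.Quotient.mk x := by
  classical
  constructor
  · rintro ⟨w, hw⟩
    exact ⟨(𝔏 • ⊤ : Submodule A M).mkQ ∘ₗ w, fun x => by
      show Submodule.Quotient.mk (w (u x)) = _
      rw [hw]⟩
  · rintro ⟨w₀, hw₀⟩
    let 𝔍' : ℕ → Ideal A := fun n => 𝔍 n ⊓ 𝔏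
    have h𝔍'anti : Antitone 𝔍' := fun n m hnm => inf_le_inf_right _ (h𝔍anti hnm)
    have h𝔍'open : ∀ n, IsOpen (𝔍' n : Set A) := by
      intro n
      show IsOpen ((𝔍 n : Set A) ∩ (𝔏 : Set A))
      exact (h𝔍open n).inter h𝔏.1
    have hSnhds : ∀ n, ((𝔍' n • ⊤ : Submodule A M) : Set M) ∈ 𝓝 (0 : M) :=
      fun n => hM.2.mem_of_mem (h𝔍'open n)
    have hSbasis : ∀ U ∈ 𝓝 (0 : M), ∃ n, ((𝔍' n • ⊤ : Submodule A M) : Set M) ⊆ U := by
      intro U hU
      obtain ⟨J, hJ, hJU⟩ := hM.2.mem_iff.1 hU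
      have hJ0 : (J : Set A) ∈ 𝓝 (0 : A) := hJ.mem_nhds J.zero_mem
      obtain ⟨n, -, hn⟩ := h𝔍basis.mem_iff.1 hJ0
      refine ⟨n, subset_trans ?_ hJU⟩
      have hle : (𝔍' n • ⊤ : Submodule A M) ≤ J • ⊤ :=
        Submodule.smul_mono_left (le_trans inf_le_left (SetLike.coe_subset_coe.1 hn))
      exact hle
    have hk : ∀ n, ∃ k, 𝔏 ^ k ≤ 𝔍' n := by
      intro n
      have hnb : ((𝔍 n : Ideal A) : Set A) ∈ 𝓝 (0 : A) :=
        (h𝔍open n).mem_nhds (𝔍 n).zero_mem
      obtain ⟨k, hk0, hk⟩ := h𝔏.2 _ hnb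
      exact ⟨k, le_inf (SetLike.coe_subset_coe.1 hk) (Ideal.pow_le_self hk0.ne')⟩
    have hw' : ∀ n, ∃ w : N →ₗ[A] M ⧸ (𝔍' n • ⊤ : Submodule A M),
        ∀ x, w (u.toLinearMap x) = (𝔍' n • ⊤ : Submodule A M).mkQ x := by
      intro n
      obtain ⟨k, hk⟩ := hk n
      exact exists_leftInverse_mod u.toLinearMap (𝔍' n) 𝔏 inf_le_right k hk
        (hproj _ (h𝔍'open n)) w₀ (fun x => hw₀ x)
    choose w' hw' using hw'
    have hcoker : ∀ n, Module.Projective (A ⧸ 𝔍' n)
        ((N ⧸ LinearMap.range u.toLinearMap) ⧸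
          (𝔍' n • (⊤ : Submodule A (N ⧸ LinearMap.range u.toLinearMap)))) :=
      fun n => coker_projective u.toLinearMap (𝔍' n) (hproj _ (h𝔍'open n)) (w' n) (hw' n)
    exact exists_leftInverse 𝔍' h𝔍'anti hSnhds hSbasis u.toLinearMap hcoker w' hw'

end Groth.Agent.S5839
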