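import Groth.Statements.S5859
import Groth.Agent.Lib.QCoh.Helper18_ZClosOpen

set_option autoImplicit false
universe u
open ZClos

namespace Groth.Agent.S5859

open CategoryTheory CategoryTheory.Limits AlgebraicGeometry in
/-- For a locally Noetherian scheme X, a subset Z of X stable under specialization and a coherent
O_X-module F whose Z-closure H⁰_{X/Z}(F) is coherent, let U be the set of points x such that the
stalk F_{x'} has depth at least 2 at every generization x' of x lying in Z. Then U is open, X ∖ U ⊆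
Z, the restriction of F to U is (Z ∩ U)-closed, and every open subset V of X such that F|V is (Z ∩
V)-closed is contained in U. -/
theorem result (X : Scheme.{u}) [IsLocallyNoetherian X] (Z : Set X)
    (hZ : StableUnderSpecialization Z) (F : X.Modules) (hF : Coh.IsCoh F)
    (hH : Coh.IsCoh ((ZClos.H0 Z).obj F)) :
    ∃ U : X.Opens, (U : Set X) = {x | ∀ x' : X, x' ⤳ x → x' ∈ Z →
        (2 : ℕ∞) ≤ LocCoh.depth (X.presheaf.stalk x') (F.presheaf.stalk x')} ∧
      (U : Set X)ᶜ ⊆ Z ∧
      ZClos.IsZClosed (U.ι.base ⁻¹' Z) ((Scheme.Modules.restrictFunctor U.ι).obj F) ∧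
      ∀ V : X.Opens, ZClos.IsZClosed (V.ι.base ⁻¹' Z) ((Scheme.Modules.restrictFunctor V.ι).obj F) → V ≤ U := by
  have hopen : IsOpen {x : X | ZClos.IsZClosedAt Z F x} :=
    Groth.Agent.Lib.QCoh.ZClosLib.isOpen_setOf_bijective_stalkMap hF hH (ZClos.rhoApp Z F)
  refine ⟨⟨{x | ZClos.IsZClosedAt Z F x}, hopen⟩, ?_, ?_, ?_, ?_⟩
  · ext x
    exact Groth.Agent.Lib.QCoh.ZClosLib.isZClosedAt_iff_depth Z hZ F hF x
  · intro x hx
    by_contra hxZ
    exact hx (Groth.Agent.Lib.QCoh.ZClosLib.isZClosedAt_of_notMem Z F x hxZ)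
  · exact (Groth.Agent.Lib.QCoh.ZClosLib.isZClosed_restrict_iff_forall_isZClosedAt Z F hZ _).2
      (fun x hx => hx)
  · intro V hV x hx
    exact (Groth.Agent.Lib.QCoh.ZClosLib.isZClosed_restrict_iff_forall_isZClosedAt Z F hZ V).1 hV x hx

end Groth.Agent.S5859
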