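import Groth.Statements.S5860
import Groth.Agent.Lib.QCoh.Helper18_ZClosDepth
import Groth.Agent.Lib.QCoh.Helper18_StalkLinear
import Groth.Agent.Lib.Helper29.CM
import Groth.Agent.Lib.Helper29.DepthZero

set_option autoImplicit false
universe u
open ZClos

namespace Groth.Agent.S5860

open CategoryTheory CategoryTheory.Limits AlgebraicGeometry in
/-- Let X be a locally Noetherian scheme and F a coherent O_X-module with support all of X, having no
associated point at which the local ring of X has dimension 1, and such that F' = H⁰_{X/Z}(F) is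
coherent, Z = Z^(2)(X) being the set of points whose local ring has dimension at least 2. Then F'
satisfies (S_2): at every point x, depth(F'_x) ≥ min(2, dim F'_x). -/
theorem result (X : Scheme.{u}) [IsLocallyNoetherian X] (F : X.Modules) (hF : Coh.IsCoh F)
    (hsupp : ∀ x : X, Nontrivial (F.presheaf.stalk x))
    (hass : ∀ x ∈ AssSch.Ass F, ringKrullDim (X.presheaf.stalk x) ≠ 1)
    (hH : Coh.IsCoh ((ZClos.H0 (ZClos.dimGe X 2)).obj F)) (x : X) :
    min (2 : WithBot ℕ∞) (Module.supportDim (X.presheaf.stalk x) (((ZClos.H0 (ZClos.dimGe X 2)).obj F).presheaf.stalk x)) ≤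
      ((LocCoh.depth (X.presheaf.stalk x) (((ZClos.H0 (ZClos.dimGe X 2)).obj F).presheaf.stalk x) : ℕ∞) : WithBot ℕ∞) := by
  classical
  have aux1 : ∀ a : WithBot ℕ∞, a < 2 → a ≤ 1 := by
    intro a h
    induction a using WithBot.recBotCoe with
    | bot => exact bot_le
    | coe n =>
      induction n using ENat.recTopCoe with
      | top => exact absurd h (by simp)
      | coe n =>
        have h' : n < 2 := by
          have h2 : ((n : ℕ∞) : WithBot ℕ∞) < ((2 : ℕ∞) : WithBot ℕ∞) := h
          rw [WithBot.coe_lt_coe] at h2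
          exact_mod_cast h2
        have : n ≤ 1 := by omega
        show ((n : ℕ∞) : WithBot ℕ∞) ≤ ((1 : ℕ∞) : WithBot ℕ∞)
        rw [WithBot.coe_le_coe]
        exact_mod_cast this
  have aux2 : ∀ a : WithBot ℕ∞, a < 2 → a ≠ 1 → a ≤ 0 := by
    intro a h h1
    induction a using WithBot.recBotCoe with
    | bot => exact bot_le
    | coe n =>
      induction n using ENat.recTopCoe with
      | top => exact absurd h (by simp)
      | coe n =>
        have h' : n < 2 := by
          have h2 : ((n : ℕ∞) : WithBot ℕ∞) < ((2 : ℕ∞) : WithBot ℕ∞) := h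
          rw [WithBot.coe_lt_coe] at h2
          exact_mod_cast h2
        have h1' : n ≠ 1 := by
          rintro rfl
          exact h1 rfl
        have : n ≤ 0 := by omega
        show ((n : ℕ∞) : WithBot ℕ∞) ≤ ((0 : ℕ∞) : WithBot ℕ∞)
        rw [WithBot.coe_le_coe]
        exact_mod_cast this
  have : F.IsQuasicoherent := hF.1
  have : F.IsFiniteType := hF.2
  have hZ : StableUnderSpecialization (ZClos.dimGe X 2) := by
    intro a b hab ha
    show (2 : WithBot ℕ∞) ≤ ringKrullDim (X.presheaf.stalk b)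
    have ha' : (2 : WithBot ℕ∞) ≤ ringKrullDim (X.presheaf.stalk a) := ha
    rw [ringKrullDim_stalk_eq_coheight] at ha' ⊢
    refine ha'.trans ?_
    exact_mod_cast Order.coheight_anti (show b ≤ a from hab)
  by_cases hx : x ∈ ZClos.dimGe X 2
  · have h2 := Groth.Agent.Lib.QCoh.ZClosLib.two_le_depth_stalk_H0 (ZClos.dimGe X 2) F hZ hH x hx
    refine (min_le_left _ _).trans ?_
    exact (WithBot.coe_le_coe.2 h2 : ((2 : ℕ∞) : WithBot ℕ∞) ≤ _)
  · have hbij : Function.Bijective (ZClos.rhoStalk (ZClos.dimGe X 2) F x) :=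
      Groth.Agent.Lib.QCoh.ZClosLib.isZClosedAt_of_notMem (ZClos.dimGe X 2) F x hx
    let e : F.presheaf.stalk x ≃ₗ[X.presheaf.stalk x]
        ((ZClos.H0 (ZClos.dimGe X 2)).obj F).presheaf.stalk x :=
      LinearEquiv.ofBijective
        (Groth.Agent.Lib.QCoh.stalkMapₗ (ZClos.rhoApp (ZClos.dimGe X 2) F) x) hbij
    rw [← Module.supportDim_eq_of_equiv e, ← Groth.Agent.Lib.Helper29.CMLib.depth_congr e]
    have hdim : ringKrullDim (X.presheaf.stalk x) < 2 := not_le.1 hx
    have hfin : Module.Finite (X.presheaf.stalk x) (F.presheaf.stalk x) :=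
      Groth.Agent.Lib.QCoh.finite_stalk F x
    have hnt : Nontrivial (F.presheaf.stalk x) := hsupp x
    have hsd : Module.supportDim (X.presheaf.stalk x) (F.presheaf.stalk x) ≤
        ringKrullDim (X.presheaf.stalk x) := Module.supportDim_le_ringKrullDim _ _
    by_cases hd : LocCoh.depth (X.presheaf.stalk x) (F.presheaf.stalk x) = 0
    · have hass' : x ∈ AssSch.Ass F :=
        (Groth.Agent.Lib.Helper29.depth_eq_zero_iff_maximalIdeal_mem_ass _ _).1 hd
      have h0 : ringKrullDim (X.presheaf.stalk x) ≤ 0 := aux2 _ hdim (hass x hass')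
      rw [hd]
      exact (min_le_right _ _).trans (hsd.trans h0)
    · have h1 : (1 : ℕ∞) ≤ LocCoh.depth (X.presheaf.stalk x) (F.presheaf.stalk x) :=
        Order.one_le_iff_ne_zero.2 hd
      have h1' : ((1 : ℕ∞) : WithBot ℕ∞) ≤
          ((LocCoh.depth (X.presheaf.stalk x) (F.presheaf.stalk x) : ℕ∞) : WithBot ℕ∞) :=
        WithBot.coe_le_coe.2 h1
      exact (min_le_right _ _).trans ((hsd.trans (aux1 _ hdim)).trans h1')

end Groth.Agent.S5860
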