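import Groth.Statements.S5862
import Mathlib.RingTheory.RingHom.PurelyInseparable
import Mathlib.FieldTheory.PurelyInseparable.Basic
import Mathlib.AlgebraicGeometry.Morphisms.UniversallyInjective
-- import your own Groth.Agent.* helpers here

set_option autoImplicit false
universe u
open RadPt

namespace Groth.Agent.S5862

open CategoryTheory AlgebraicGeometry

theorem pi_of_comp_top {F E K : Type*} [Field F] [Field E] [Field K] {f : F →+* E} {g : E →+* K}
    (h : (g.comp f).IsPurelyInseparable) : g.IsPurelyInseparable := by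
  algebraize [f, g, g.comp f]
  exact IsPurelyInseparable.tower_top F E K

theorem pi_of_comp_bot {F E K : Type*} [Field F] [Field E] [Field K] {f : F →+* E} {g : E →+* K}
    (h : (g.comp f).IsPurelyInseparable) : f.IsPurelyInseparable := by
  algebraize [f, g, g.comp f]
  exact IsPurelyInseparable.tower_bot F E K

theorem residueFieldMap_comp_hom {X Y Z : Scheme.{u}} (f : X ⟶ Y) (g : Y ⟶ Z) (x : X) :
    ((f ≫ g).residueFieldMap x).hom =
      RingHom.comp (f.residueFieldMap x).hom (g.residueFieldMap (f x)).hom :=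
  congrArg CommRingCat.Hom.hom (Scheme.residueFieldMap_comp f g x)

theorem pi_comp_iff {X Y Z : Scheme.{u}} (f : X ⟶ Y) (g : Y ⟶ Z) (x : X) :
    ((f ≫ g).residueFieldMap x).hom.IsPurelyInseparable ↔
      (RingHom.comp (f.residueFieldMap x).hom (g.residueFieldMap (f x)).hom).IsPurelyInseparable := by
  have h := residueFieldMap_comp_hom f g x
  exact Eq.to_iff (congrArg (fun φ : Z.residueField (g (f x)) →+* X.residueField x =>
    φ.IsPurelyInseparable) h)


open CategoryTheory AlgebraicGeometry in
/-- Let f : X → Y and g : Y → Z be morphisms of schemes and y a point of Y. If f is radicial at y (fibre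
with at most one point, purely inseparable residue field extension) and g is radicial at g(y), then
g ∘ f is radicial at g(y). Conversely, if f is surjective and g ∘ f is radicial at g(y), then f is
radicial at y and g is radicial at g(y). -/
theorem result {X Y Z : Scheme.{u}} (f : X ⟶ Y) (g : Y ⟶ Z) (y : Y) :
    (RadPt.IsRadicialAt f y → RadPt.IsRadicialAt g (g y) → RadPt.IsRadicialAt (f ≫ g) (g y)) ∧
      (Surjective f → RadPt.IsRadicialAt (f ≫ g) (g y) →
        RadPt.IsRadicialAt f y ∧ RadPt.IsRadicialAt g (g y)) := by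
  constructor
  · rintro ⟨hf1, hf2⟩ ⟨hg1, hg2⟩
    constructor
    · intro x x' hx hx'
      have h1 : f x = y := hg1 _ _ hx rfl
      have h2 : f x' = y := hg1 _ _ hx' rfl
      exact hf1 x x' h1 h2
    · intro x hx
      have h1 : f x = y := hg1 _ _ hx rfl
      rw [pi_comp_iff]
      exact RingHom.IsPurelyInseparable.comp (hg2 (f x) hx) (hf2 x h1)
  · rintro hsurj ⟨h1, h2⟩
    refine ⟨⟨?_, ?_⟩, ⟨?_, ?_⟩⟩
    · intro x x' hx hx'
      exact h1 x x' (by rw [Scheme.Hom.comp_apply, hx]) (by rw [Scheme.Hom.comp_apply, hx'])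
    · intro x hx
      have := h2 x (by rw [Scheme.Hom.comp_apply, hx])
      rw [pi_comp_iff] at this
      exact pi_of_comp_top this
    · intro y₁ y₂ hy₁ hy₂
      obtain ⟨x₁, rfl⟩ := hsurj.surj y₁
      obtain ⟨x₂, rfl⟩ := hsurj.surj y₂
      rw [h1 x₁ x₂ hy₁ hy₂]
    · intro y₁ hy₁
      obtain ⟨x₁, rfl⟩ := hsurj.surj y₁
      have := h2 x₁ hy₁
      rw [pi_comp_iff] at this
      exact pi_of_comp_bot this

end Groth.Agent.S5862
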