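import Groth.Statements.S5864
import Groth.Agent.Lib.Helper69.BiratBC

set_option autoImplicit false
universe u
open RadPt

namespace Groth.Agent.S5864

open CategoryTheory CategoryTheory.Limits AlgebraicGeometry Groth.Agent.Lib.Helper69.BiratBC

set_option backward.isDefEq.respectTransparency.types false

open CategoryTheory AlgebraicGeometry in
/-- Let f : X → Y be a morphism of schemes whose induced morphism of reduced schemes is birational (f
maps the maximal points of X bijectively onto those of Y, with one-point fibres and trivial residue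
field extensions over the maximal points of Y), g : Y' → Y a flat morphism and f' : X ×_Y Y' → Y'
the base change (any cartesian square). Then the morphism of reduced schemes induced by f' is
birational in the same sense. -/
theorem result {X Y X' Y' : Scheme.{u}} {f : X ⟶ Y} {g : Y' ⟶ Y} [Flat g] {f' : X' ⟶ Y'} {g' : X' ⟶ X}
    (sq : IsPullback g' f' f g) (hf : RadPt.IsBirational f) : RadPt.IsBirational f' := by
  obtain ⟨hBij, hfib⟩ := hf
  -- pointwise birationality of `f` at generic points of `Y`
  have hbirY : ∀ y ∈ genericPoints Y, BirAt f y := by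
    intro y hy
    obtain ⟨x, -, hx⟩ := hBij.surjOn hy
    exact ⟨⟨x, hx⟩, (hfib y hy).1, (hfib y hy).2⟩
  -- transfer to points of `Y'` over generic points of `Y`
  have hbir' : ∀ y' : Y', g y' ∈ genericPoints Y → BirAt f' y' := fun y' hy' =>
    birAt_of_isoK f' y' (isoK_baseChange sq y' (isoK_of_birAt f (g y') (hbirY _ hy')))
  have hA : ∀ y' ∈ genericPoints Y', BirAt f' y' := fun y' hy' =>
    hbir' y' (map_mem_genericPoints_of_flat g hy')
  haveI : Flat g' := MorphismProperty.of_isPullback (P := @Flat) sq.flip inferInstance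
  -- generic points of `X'` map to generic points of `Y'`
  have hB : ∀ x' ∈ genericPoints X', f' x' ∈ genericPoints Y' := by
    intro x' hx'
    have hx₀ : g' x' ∈ genericPoints X := map_mem_genericPoints_of_flat g' hx'
    have hy : f (g' x') ∈ genericPoints Y := hBij.mapsTo hx₀
    have hgy' : g (f' x') = f (g' x') := by
      rw [← Scheme.Hom.comp_apply, ← Scheme.Hom.comp_apply, sq.w]
    have hbx' : BirAt f' (f' x') := hbir' _ (hgy' ▸ hy)
    rw [mem_genericPoints_iff]
    intro η' hη'
    have hgη' : g η' = f (g' x') := by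
      have h1 : g η' ⤳ g (f' x') := hη'.map g.continuous
      rw [hgy'] at h1
      exact (mem_genericPoints_iff _).1 hy _ h1
    -- the section of `f` over the residue field of `y`
    obtain ⟨s, hs, -⟩ := isoK_of_birAt f _ (hbirY _ hy) (Y.residueField (f (g' x')))
      (Y.fromSpecResidueField (f (g' x'))) (Scheme.fromSpecResidueField_apply _ _)
    let ιy := Y.fromSpecResidueField (f (g' x'))
    let a := pullback.fst g ιy
    obtain ⟨η₀, hη₀, -⟩ := Scheme.Pullback.exists_preimage_pullback (f := g) (g := ιy) η'
      (IsLocalRing.closedPoint _) (hgη'.trans (Scheme.fromSpecResidueField_apply _ _).symm)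
    obtain ⟨y₀, hy₀, -⟩ := Scheme.Pullback.exists_preimage_pullback (f := g) (g := ιy) (f' x')
      (IsLocalRing.closedPoint _) (hgy'.trans (Scheme.fromSpecResidueField_apply _ _).symm)
    have hsp : η₀ ⤳ y₀ := by
      rw [← a.isEmbedding.isInducing.specializes_iff]
      show a η₀ ⤳ a y₀
      rw [hη₀, hy₀]
      exact hη'
    let τ : pullback g ιy ⟶ X' := sq.lift (pullback.snd g ιy ≫ s) a (by
      rw [Category.assoc, hs]; exact pullback.condition.symm)
    have hτ : τ ≫ f' = a := sq.lift_snd _ _ _
    have hτsp : τ η₀ ⤳ τ y₀ := hsp.map τ.continuous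
    have hτy : τ y₀ = x' := by
      apply hbx'.2.1
      · rw [← Scheme.Hom.comp_apply, hτ]; exact hy₀
      · rfl
    rw [hτy] at hτsp
    have hτη : τ η₀ = x' := (mem_genericPoints_iff _).1 hx' _ hτsp
    have : f' (τ η₀) = η' := by
      rw [← Scheme.Hom.comp_apply, hτ]; exact hη₀
    rw [← this, hτη]
  refine ⟨⟨hB, ?_, ?_⟩, fun y' hy' => (hA y' hy').2⟩
  · intro x₁ hx₁ x₂ hx₂ h12
    exact (hA _ (hB x₁ hx₁)).2.1 x₁ x₂ rfl h12.symm
  · intro y' hy'
    obtain ⟨⟨x', hx'⟩, huniq, -⟩ := hA y' hy'
    refine ⟨x', ?_, hx'⟩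
    rw [mem_genericPoints_iff]
    intro ξ' hξ'
    have h1 : f' ξ' ⤳ y' := hx' ▸ hξ'.map f'.continuous
    have h2 : f' ξ' = y' := (mem_genericPoints_iff _).1 hy' _ h1
    exact huniq ξ' x' h2 hx'

end Groth.Agent.S5864
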