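import Groth.Statements.S5866
import Groth.Agent.Lib.Helper69.GUBiratSch
import Mathlib.AlgebraicGeometry.Morphisms.UniversallyInjective

set_option autoImplicit false
universe u
open RadPt

namespace Groth.Agent.S5866

open CategoryTheory AlgebraicGeometry in
/-- Let f : X → Y be a morphism of schemes which is integral and whose induced morphism of reduced
schemes is birational. Then Y is geometrically unibranch (at every point) if and only if X is
geometrically unibranch and f is radicial (universally injective). -/
theorem result {X Y : Scheme.{u}} (f : X ⟶ Y) [IsIntegralHom f] (hf : RadPt.IsBirational f) :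
    (∀ y : Y, CAlg2.IsGeomUnibranch (Y.presheaf.stalk y)) ↔
      ((∀ x : X, CAlg2.IsGeomUnibranch (X.presheaf.stalk x)) ∧ UniversallyInjective f) := by
  have key := Groth.Agent.Lib.Helper69.GUBiratSch.main f hf
  have huniv : UniversallyInjective f ↔ ∀ y : Y, RadPt.IsRadicialAt f y := by
    have h02 : UniversallyInjective f ↔
        Function.Injective f ∧ ∀ x, (f.residueFieldMap x).hom.IsPurelyInseparable :=
      (tfae_universallyInjective f).out 0 2
    rw [h02]
    constructor
    · rintro ⟨hinj, hpi⟩ y
      exact ⟨fun x x' hx hx' => hinj (hx.trans hx'.symm), fun x _ => hpi x⟩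
    · intro H
      exact ⟨fun x x' hxx' => (H (f x')).1 x x' hxx' rfl, fun x => (H (f x)).2 x rfl⟩
  constructor
  · intro H
    refine ⟨fun x => ((key (f x)).mp (H (f x))).2 x rfl, huniv.mpr fun y => ((key y).mp (H y)).1⟩
  · rintro ⟨HX, Hf⟩ y
    exact (key y).mpr ⟨huniv.mp Hf y, fun x _ => HX x⟩

end Groth.Agent.S5866
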