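import Groth.Statements.S5875
import Mathlib
import Groth.Agent.S4965
-- import your own Groth.Agent.* helpers here

set_option autoImplicit false
set_option linter.style.haveILetI false
set_option linter.unusedSectionVars false
set_option linter.unusedVariables false
universe u
open CategoryTheory AlgebraicGeometry
open Cons9

namespace Groth.Agent.S5875

open CategoryTheory AlgebraicGeometry Topology
open Groth.Agent.Lib.Helper21.FieldDim Groth.Agent.Lib.Helper21.FibreClosureDim
open Groth.Agent.Lib.Helper21 Groth.Agent.Lib.Helper21.ValTrdeg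
open CategoryTheory.Limits
open Groth.Agent.Lib.QCoh

section Helpers

variable {X Y : Scheme.{u}} (f : X ⟶ Y) [LocallyOfFiniteType f]

/-- irreducible components of a fibre-type space have natural-number dimension. -/
theorem exists_dim_irreducibleComponent_eq {T : Type*} [TopologicalSpace T] [QuasiSober T]
    (j : T → X) (hj : IsEmbedding j) (y : Y) (C : Set X) (hC : IsClosed C)
    (hr : Set.range j = f ⁻¹' {y} ∩ C) (Zc : Set T) (hZc : Zc ∈ irreducibleComponents T) :
    ∃ n : ℕ, topologicalKrullDim ↥Zc = (n : WithBot ℕ∞) := by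
  have hind := hj.isInducing
  have hZcl : IsClosed Zc := isClosed_of_mem_irreducibleComponents Zc hZc
  have hZirr : IsIrreducible Zc := hZc.1
  obtain ⟨t₀, ht₀⟩ := QuasiSober.sober hZirr hZcl
  have hZeq : closure ({t₀} : Set T) = Zc := ht₀.def
  refine ⟨tdR f (j t₀), ?_⟩
  rw [← hZeq]
  have e := hj.homeomorphImage (closure ({t₀} : Set T))
  rw [e.isHomeomorph.topologicalKrullDim_eq]
  have hjt : j t₀ ∈ f ⁻¹' {y} ∩ C := by rw [← hr]; exact ⟨t₀, rfl⟩
  have hgen : ∀ x ∈ j '' closure ({t₀} : Set T), j t₀ ⤳ x := by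
    rintro _ ⟨t, ht, rfl⟩
    rw [hind.specializes_iff]
    exact specializes_iff_mem_closure.mpr ht
  have hcl : f ⁻¹' {y} ∩ closure (j '' closure ({t₀} : Set T)) = j '' closure ({t₀} : Set T) := by
    apply Set.Subset.antisymm
    · rintro x ⟨hxy, hx⟩
      have h1 : closure (j '' closure ({t₀} : Set T)) ⊆ closure ({j t₀} : Set X) := by
        apply closure_minimal _ isClosed_closure
        intro x' hx'
        exact specializes_iff_mem_closure.mp (hgen x' hx')
      have h2 : j t₀ ⤳ x := specializes_iff_mem_closure.mpr (h1 hx)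
      have h3 : x ∈ C := h2.mem_closed hC hjt.2
      have h4 : x ∈ Set.range j := by rw [hr]; exact ⟨hxy, h3⟩
      obtain ⟨t, rfl⟩ := h4
      refine ⟨t, ?_, rfl⟩
      rw [hind.specializes_iff] at h2
      exact specializes_iff_mem_closure.mp h2
    · rintro _ ⟨t, ht, rfl⟩
      refine ⟨?_, subset_closure ⟨t, ht, rfl⟩⟩
      have : j t ∈ f ⁻¹' {y} ∩ C := by rw [← hr]; exact ⟨t, rfl⟩
      exact this.1
  exact Groth.Agent.S4952.dim_eq_tdR f y _ hcl (j t₀) ⟨t₀, subset_closure rfl, rfl⟩ hgen

/-- local fibre dimensions are bounded over a quasi-compact open of the base. -/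
theorem exists_fibreDimAt_bound [QuasiCompact f] (U : Set Y) (hUo : IsOpen U) (hUc : IsCompact U) :
    ∃ N : ℕ, ∀ x : X, f x ∈ U → FlatMor.fibreDimAt f x ≤ (N : WithBot ℕ∞) := by
  have hK : IsCompact (f ⁻¹' U) := QuasiCompact.isCompact_preimage U hUo hUc
  have hcov : f ⁻¹' U ⊆ ⋃ N : ℕ, {x : X | FlatMor.fibreDimAt f x ≤ (N : WithBot ℕ∞)} := by
    intro x _
    obtain ⟨ζ, k, -, -, -, hk⟩ :=
      Groth.Agent.Lib.Helper73.SchemeDim.exists_specializes_trdeg_eq_fibreDimAt f x
    exact Set.mem_iUnion.mpr ⟨k, hk.le⟩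
  obtain ⟨t, ht⟩ := hK.elim_finite_subcover _
    (fun N : ℕ => Groth.Agent.Lib.Helper73.SchemeDim.isOpen_setOf_fibreDimAt_le f N) hcov
  refine ⟨t.sup id, ?_⟩
  intro x hx
  obtain ⟨N, hNt, hz⟩ := Set.mem_iUnion₂.mp (ht hx)
  refine le_trans hz ?_
  have : N ≤ t.sup id := Finset.le_sup (f := id) hNt
  exact_mod_cast this

end Helpers

/-- Let f : X ⟶ S be a morphism of finite presentation (locally of finite presentation, quasi-compact
and quasi-separated) and F a quasi-coherent O_X-module of finite presentation; for s in S let F_s be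
the pullback of F to the scheme-theoretic fibre X_s and E'(s) the finite set of dimensions of the
irreducible components of the support of F_s (the points of X_s where the stalk of F_s is nonzero),
i.e. of the maximal associated prime cycles of F_s. Then s ↦ E'(s) is a locally constructible
function on S: for every finite set Φ of natural numbers, the set of s with E'(s) = Φ is locally
constructible. -/
theorem result {X S : Scheme.{u}} (f : X ⟶ S)
    [LocallyOfFinitePresentation f] [QuasiCompact f] [QuasiSeparated f]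
    (F : X.Modules) [Coh.IsQCoh F] (hF : CohB1.IsFP F) (Φ : Finset ℕ) :
    Topology.IsLocallyConstructible {s : S |
      (fun Z : Set ↥(CohB1.support ((Scheme.Modules.pullback (f.fiberι s)).obj F)) => topologicalKrullDim ↥Z) ''
          irreducibleComponents ↥(CohB1.support ((Scheme.Modules.pullback (f.fiberι s)).obj F)) =
        (fun n : ℕ => (n : WithBot ℕ∞)) '' (Φ : Set ℕ)} := by
  haveI : F.IsFinitePresentation := hF
  haveI : F.IsQuasicoherent := by
    obtain ⟨σ, _⟩ := SheafOfModules.IsFinitePresentation.exists_quasicoherentData (R := X.ringCatSheaf) F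
    exact σ.isQuasicoherent
  haveI : F.IsFiniteType := by
    obtain ⟨σ, hσ⟩ :=
      SheafOfModules.IsFinitePresentation.exists_quasicoherentData (R := X.ringCatSheaf) F
    have h2 : σ.localGeneratorsData.IsFiniteType := by
      constructor
      intro i
      have := hσ.isFinite_presentation i
      exact (inferInstance : (σ.presentation i).generators.IsFiniteType)
    constructor
    exact ⟨σ.localGeneratorsData, h2⟩
  have hcl : IsClosed (CohB1.support F) := isClosed_support_of_isFT F inferInstance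
  have hI : ∀ V : X.affineOpens, ((Fitt.sheafIdeal F 0).ideal V).FG :=
    Groth.Agent.Lib.QCoh.FittSheaf74.isFiniteTypeIdeal_sheafIdeal F 0
  haveI : LocallyOfFinitePresentation (Fitt.sheafIdeal F 0).subschemeι :=
    Groth.Agent.Lib.QCoh.SubschemeLFP.locallyOfFinitePresentation_subschemeι _ hI
  haveI : QuasiCompact ((Fitt.sheafIdeal F 0).subschemeι ≫ f) := inferInstance
  haveI : LocallyOfFinitePresentation ((Fitt.sheafIdeal F 0).subschemeι ≫ f) := inferInstance
  haveI : LocallyOfFiniteType ((Fitt.sheafIdeal F 0).subschemeι ≫ f) := inferInstance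
  haveI : LocallyOfFiniteType f := inferInstance
  have hrange : Set.range (Fitt.sheafIdeal F 0).subschemeι = CohB1.support F := by
    rw [Scheme.IdealSheafData.range_subschemeι, Groth.Agent.Lib.QCoh.FittSheaf74.support_zero_eq]
  -- fibrewise data
  have hdata : ∀ y : S, ∃ (_ : QuasiSober ↥(CohB1.support ((Scheme.Modules.pullback (f.fiberι y)).obj F))),
      IsEmbedding (fun t : ↥(CohB1.support ((Scheme.Modules.pullback (f.fiberι y)).obj F)) => (f.fiberι y) t.1) ∧
      Set.range (fun t : ↥(CohB1.support ((Scheme.Modules.pullback (f.fiberι y)).obj F)) => (f.fiberι y) t.1) =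
        f ⁻¹' {y} ∩ CohB1.support F := by
    intro y
    have hmem : ∀ z : f.fiber y, f (f.fiberι y z) = y := by
      intro z
      have : f.fiberι y z ∈ Set.range (f.fiberι y) := ⟨z, rfl⟩
      rw [Scheme.Hom.range_fiberι] at this
      exact this
    have hset : CohB1.support ((Scheme.Modules.pullback (f.fiberι y)).obj F) =
        (f.fiberι y) ⁻¹' (CohB1.support F) := support_pullback (f.fiberι y) F
    have hclN : IsClosed (CohB1.support ((Scheme.Modules.pullback (f.fiberι y)).obj F)) := by
      rw [hset]; exact hcl.preimage (f.fiberι y).continuous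
    refine ⟨hclN.isClosedEmbedding_subtypeVal.quasiSober,
      (f.fiberι y).isEmbedding.comp IsEmbedding.subtypeVal, ?_⟩
    ext x
    constructor
    · rintro ⟨t, rfl⟩
      have ht : t.1 ∈ (f.fiberι y) ⁻¹' (CohB1.support F) := hset ▸ t.2
      exact ⟨hmem t.1, ht⟩
    · rintro ⟨hxy, hxF⟩
      have : x ∈ Set.range (f.fiberι y) := by rw [Scheme.Hom.range_fiberι]; exact hxy
      obtain ⟨z, rfl⟩ := this
      exact ⟨⟨z, by rw [hset]; exact hxF⟩, rfl⟩
  -- pointwise reformulation
  have hkey : ∀ (n : ℕ) (y : S),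
      (∃ Z ∈ irreducibleComponents ↥(CohB1.support ((Scheme.Modules.pullback (f.fiberι y)).obj F)),
        topologicalKrullDim ↥Z = (n : WithBot ℕ∞)) ↔
      y ∈ ((Fitt.sheafIdeal F 0).subschemeι ≫ f) '' {z | FlatMor.fibreDimAt ((Fitt.sheafIdeal F 0).subschemeι ≫ f) z = (n : WithBot ℕ∞)} := by
    intro n y
    obtain ⟨hqs, hj, hr⟩ := hdata y
    rw [Groth.Agent.S4965.exists_irreducibleComponent_dim_iff f _ hj y (CohB1.support F) hcl hr n,
      ← hrange, Groth.Agent.S4965.exists_maximal_iff_exists_fibreDimAt f (Fitt.sheafIdeal F 0).subschemeι y n]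
    constructor
    · rintro ⟨z, hz, hn⟩; exact ⟨z, hn, hz⟩
    · rintro ⟨z, hn, hz⟩; exact ⟨z, hz, hn⟩
  have hnat : ∀ (y : S), ∀ Z ∈ irreducibleComponents ↥(CohB1.support ((Scheme.Modules.pullback (f.fiberι y)).obj F)),
      ∃ n : ℕ, topologicalKrullDim ↥Z = (n : WithBot ℕ∞) := by
    intro y Z hZ
    obtain ⟨hqs, hj, hr⟩ := hdata y
    exact exists_dim_irreducibleComponent_eq f _ hj y (CohB1.support F) hcl hr Z hZ
  -- the sets `E n`
  have hE : ∀ n : ℕ, IsLocallyConstructible (((Fitt.sheafIdeal F 0).subschemeι ≫ f) ''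
      {z | FlatMor.fibreDimAt ((Fitt.sheafIdeal F 0).subschemeι ≫ f) z = (n : WithBot ℕ∞)}) := by
    intro n
    apply Scheme.Hom.isLocallyConstructible_image
    have h1 := Groth.Agent.Lib.Helper73.FibreDimCons.isLocallyConstructible_setOf_le_fibreDimAt
      ((Fitt.sheafIdeal F 0).subschemeι ≫ f) n
    have h2 := Groth.Agent.Lib.Helper73.ConstructibleNhds.isLocallyConstructible_compl
      (Groth.Agent.Lib.Helper73.FibreDimCons.isLocallyConstructible_setOf_le_fibreDimAt
        ((Fitt.sheafIdeal F 0).subschemeι ≫ f) (n + 1))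
    convert h1.inter h2 using 1
    ext z
    simp only [Set.mem_ofPred_eq, Set.mem_inter_iff, Set.mem_compl_iff]
    exact (Groth.Agent.S4965.le_and_not_succ_le_iff _ n).symm
  have hEq : {s : S |
      (fun Z : Set ↥(CohB1.support ((Scheme.Modules.pullback (f.fiberι s)).obj F)) => topologicalKrullDim ↥Z) ''
          irreducibleComponents ↥(CohB1.support ((Scheme.Modules.pullback (f.fiberι s)).obj F)) =
        (fun n : ℕ => (n : WithBot ℕ∞)) '' (Φ : Set ℕ)} =
      {s : S | ∀ n : ℕ, n ∈ Φ ↔ s ∈ ((Fitt.sheafIdeal F 0).subschemeι ≫ f) ''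
        {z | FlatMor.fibreDimAt ((Fitt.sheafIdeal F 0).subschemeι ≫ f) z = (n : WithBot ℕ∞)}} := by
    ext s
    simp only [Set.mem_ofPred_eq]
    constructor
    · intro h n
      rw [← hkey n s]
      constructor
      · intro hn
        have : ((n : ℕ) : WithBot ℕ∞) ∈ (fun n : ℕ => (n : WithBot ℕ∞)) '' (Φ : Set ℕ) := ⟨n, hn, rfl⟩
        rw [← h] at this
        obtain ⟨Z, hZ, hd⟩ := this
        exact ⟨Z, hZ, hd⟩
      · rintro ⟨Z, hZ, hd⟩
        have : ((n : ℕ) : WithBot ℕ∞) ∈ (fun Z : Set ↥(CohB1.support ((Scheme.Modules.pullback (f.fiberι s)).obj F)) => topologicalKrullDim ↥Z) ''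
            irreducibleComponents ↥(CohB1.support ((Scheme.Modules.pullback (f.fiberι s)).obj F)) := ⟨Z, hZ, hd⟩
        rw [h] at this
        obtain ⟨m, hm, hmn⟩ := this
        have hmn' : ((m : ℕ) : WithBot ℕ∞) = ((n : ℕ) : WithBot ℕ∞) := hmn
        have : m = n := by exact_mod_cast hmn'
        rw [← this]; exact hm
    · intro h
      ext v
      constructor
      · rintro ⟨Z, hZ, rfl⟩
        obtain ⟨n, hn⟩ := hnat s Z hZ
        refine ⟨n, ?_, hn.symm⟩
        exact (h n).mpr ((hkey n s).mp ⟨Z, hZ, hn⟩)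
      · rintro ⟨n, hn, rfl⟩
        obtain ⟨Z, hZ, hd⟩ := (hkey n s).mpr ((h n).mp hn)
        exact ⟨Z, hZ, hd⟩
  rw [hEq]
  -- local constructibility on an affine cover
  refine IsLocallyConstructible.of_isOpenCover S.affineCover.isOpenCover_opensRange fun i => ?_
  obtain ⟨N, hN⟩ := exists_fibreDimAt_bound ((Fitt.sheafIdeal F 0).subschemeι ≫ f)
    ((S.affineCover.f i).opensRange : Set S) (S.affineCover.f i).opensRange.isOpen
    (isCompact_range (S.affineCover.f i).continuous)
  have hB : IsLocallyConstructible (⋂ n : ↥(Finset.range (N + 1) ∪ Φ),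
      {s : S | (n : ℕ) ∈ Φ ↔ s ∈ ((Fitt.sheafIdeal F 0).subschemeι ≫ f) ''
        {z | FlatMor.fibreDimAt ((Fitt.sheafIdeal F 0).subschemeι ≫ f) z = ((n : ℕ) : WithBot ℕ∞)}}) := by
    apply IsLocallyConstructible.iInter
    intro n
    by_cases hn : (n : ℕ) ∈ Φ
    · convert hE n using 1
      ext s
      simp only [Set.mem_ofPred_eq, hn, true_iff]
    · convert Groth.Agent.Lib.Helper73.ConstructibleNhds.isLocallyConstructible_compl (hE n) using 1
      ext s
      simp only [Set.mem_ofPred_eq, hn, false_iff, Set.mem_compl_iff]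
  convert hB.preimage_of_isOpenEmbedding (S.affineCover.f i).opensRange.isOpen.isOpenEmbedding_subtypeVal using 1
  ext ⟨s, hs⟩
  simp only [Set.mem_preimage, Set.mem_ofPred_eq, Set.mem_iInter]
  constructor
  · intro h n; exact h n
  · intro h n
    by_cases hn : n ∈ Finset.range (N + 1) ∪ Φ
    · exact h ⟨n, hn⟩
    · rw [Finset.mem_union, not_or, Finset.mem_range] at hn
      constructor
      · intro h'; exact absurd h' hn.2
      · rintro ⟨z, hz, hzs⟩
        exfalso
        have hzs' : ((Fitt.sheafIdeal F 0).subschemeι ≫ f) z = s := hzs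
        have h1 := hN z (by rw [hzs']; exact hs)
        have hz' : FlatMor.fibreDimAt ((Fitt.sheafIdeal F 0).subschemeι ≫ f) z = ((n : ℕ) : WithBot ℕ∞) := hz
        rw [hz'] at h1
        have : n ≤ N := by exact_mod_cast h1
        omega

end Groth.Agent.S5875
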