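import Groth.Statements.S5908
import Groth.Agent.Lib.Helper24.ConsLocusPair
-- import your own Groth.Agent.* helpers here

set_option autoImplicit false
universe u
open CategoryTheory AlgebraicGeometry
open ConsPropPair

namespace Groth.Agent.S5908

/-- Form for relations between two schemes: let S = lim S_i be a cofiltered limit of schemes with affine
transition maps, i₀ an index with S_{i₀} quasi-compact, u₀ : X₀ ⟶ S_{i₀} and v₀ : Y₀ ⟶ S_{i₀}
morphisms of finite presentation (locally of finite presentation, quasi-compact and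
quasi-separated), and u : X ⟶ S, v : Y ⟶ S their base changes along S ⟶ S_{i₀} (pullback squares).
Let P(X, Y, k) be an ind-constructible property of pairs of algebraic schemes. Then P holds for the
pair of fibres (X_s, Y_s) over κ(s) for every point s of S if and only if there is an index j over
i₀ such that, for the base changes u_j : X_j ⟶ S_j and v_j : Y_j ⟶ S_j of u₀ and v₀, P holds for the
pair of fibres over every point of S_j. (The published statement is for relations on morphisms and
is extended there, with the same proof, to relations involving several schemes; this row is that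
form. With the relation of being geometrically isomorphic it says: all pairs of fibres X_s, Y_s are
geometrically isomorphic if and only if this already holds at some stage.) -/
theorem result
    {P : ∀ ⦃X Y T : Scheme.{u}⦄, (X ⟶ T) → (Y ⟶ T) → Prop} (hP : ConsPropPair.IsIndConsPair P)
    {I : Type u} [SmallCategory I] [IsCofiltered I]
    (D : I ⥤ Scheme.{u}) (c : Limits.Cone D) (hc : Limits.IsLimit c)
    [∀ (i j : I) (a : i ⟶ j), IsAffineHom (D.map a)] (i₀ : I) [CompactSpace ↥(D.obj i₀)]
    {X₀ Y₀ : Scheme.{u}} (u₀ : X₀ ⟶ D.obj i₀) (v₀ : Y₀ ⟶ D.obj i₀)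
    [LocallyOfFinitePresentation u₀] [QuasiCompact u₀] [QuasiSeparated u₀]
    [LocallyOfFinitePresentation v₀] [QuasiCompact v₀] [QuasiSeparated v₀]
    {X Y : Scheme.{u}} (u : X ⟶ c.pt) (v : Y ⟶ c.pt) (qX : X ⟶ X₀) (qY : Y ⟶ Y₀)
    (hX : IsPullback qX u u₀ (c.π.app i₀)) (hY : IsPullback qY v v₀ (c.π.app i₀)) :
    (∀ s : ↥c.pt, s ∈ ConsPropPair.locusPair P u v) ↔
      ∃ (j : I) (φ : j ⟶ i₀) (Xj Yj : Scheme.{u}) (uj : Xj ⟶ D.obj j) (vj : Yj ⟶ D.obj j)
        (pX : Xj ⟶ X₀) (pY : Yj ⟶ Y₀), IsPullback pX uj u₀ (D.map φ) ∧ IsPullback pY vj v₀ (D.map φ) ∧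
          ∀ t : ↥(D.obj j), t ∈ ConsPropPair.locusPair P uj vj := by
  haveI : ∀ {i j : I} (a : i ⟶ j), IsAffineHom (D.map a) := fun a ↦ inferInstance
  have hu1 : LocallyOfFinitePresentation u :=
    MorphismProperty.of_isPullback (P := @LocallyOfFinitePresentation) hX inferInstance
  have hu2 : QuasiCompact u := MorphismProperty.of_isPullback (P := @QuasiCompact) hX inferInstance
  have hu3 : QuasiSeparated u :=
    MorphismProperty.of_isPullback (P := @QuasiSeparated) hX inferInstance
  have hv1 : LocallyOfFinitePresentation v :=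
    MorphismProperty.of_isPullback (P := @LocallyOfFinitePresentation) hY inferInstance
  have hv2 : QuasiCompact v := MorphismProperty.of_isPullback (P := @QuasiCompact) hY inferInstance
  have hv3 : QuasiSeparated v :=
    MorphismProperty.of_isPullback (P := @QuasiSeparated) hY inferInstance
  constructor
  · intro h
    obtain ⟨j, φ, dj, ⟨eX, eY, h1, h2⟩, hj⟩ :=
      Groth.Agent.Lib.Helper24.ConsLocus.LocusTheory.exists_stage_locus_eq_univ
        (T := Groth.Agent.Lib.Helper24.ConsLocus.pairTheory P hP.1)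
        (fun S _ _ d ↦ hP.2 d.u d.v) D c hc i₀
        ⟨X₀, Y₀, u₀, v₀, inferInstance, inferInstance, inferInstance, inferInstance, inferInstance,
          inferInstance⟩
        ⟨X, Y, u, v, hu1, hu2, hu3, hv1, hv2, hv3⟩ ⟨qX, qY, hX, hY⟩
        (Set.eq_univ_of_forall h)
    have hj' : ConsPropPair.locusPair P dj.u dj.v = Set.univ := hj
    exact ⟨j, φ, dj.X, dj.Y, dj.u, dj.v, eX, eY, h1, h2, fun t ↦ hj' ▸ Set.mem_univ t⟩
  · rintro ⟨j, φ, Xj, Yj, uj, vj, pX, pY, h1, h2, hj⟩ s
    have e1 := Groth.Agent.Lib.Helper24.ConsLocus.locusPair_bc hP.1 (c.π.app i₀) hX hY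
    have e2 := Groth.Agent.Lib.Helper24.ConsLocus.locusPair_bc hP.1 (D.map φ) h1 h2
    rw [e1]
    have h3 : c.π.app j s ∈ ConsPropPair.locusPair P uj vj := hj _
    rw [e2] at h3
    have h4 : c.π.app i₀ s = D.map φ (c.π.app j s) := by
      rw [← Scheme.Hom.comp_apply, c.w]
    rw [Set.mem_preimage, h4]
    exact h3

end Groth.Agent.S5908
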