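import Groth.Statements.S5909
import Groth.Agent.Lib.QCoh.Helper50_SepArtin

set_option maxHeartbeats 1000000
set_option linter.style.haveILetI false

set_option autoImplicit false
universe u
open CategoryTheory AlgebraicGeometry
open EGA43

namespace Groth.Agent.S5909

open TensorProduct in
/-- Finite jointly injective families stay jointly injective after flat base change. -/
theorem eq_zero_of_forall_lTensor_eq_zero_of_finite {A : Type u} [CommRing A] (B : Type u)
    [CommRing B] [Algebra A B] [Module.Flat A B] {M : Type u} [AddCommGroup M] [Module A M]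
    {ι : Type u} [Finite ι] {N : ι → Type u} [∀ i, AddCommGroup (N i)] [∀ i, Module A (N i)]
    (u : ∀ i, M →ₗ[A] N i) (hu : ∀ m, (∀ i, u i m = 0) → m = 0)
    (x : B ⊗[A] M) (hx : ∀ i, (u i).lTensor B x = 0) : x = 0 := by
  classical
  haveI : Fintype ι := Fintype.ofFinite ι
  have hinj : Function.Injective (LinearMap.pi u) := by
    rw [injective_iff_map_eq_zero]
    intro m hm
    exact hu m fun i => congrFun hm i
  have hinjB : Function.Injective ((LinearMap.pi u).lTensor B) :=
    Module.Flat.lTensor_preserves_injective_linearMap _ hinj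
  apply hinjB
  rw [map_zero]
  apply (TensorProduct.piRight A A B N).injective
  rw [map_zero]
  funext i
  have key : ∀ z : B ⊗[A] M, (TensorProduct.piRight A A B N)
      ((LinearMap.pi u).lTensor B z) i = (u i).lTensor B z := by
    intro z
    induction z with
    | zero => simp
    | add a b ha hb =>
      simp only [map_add, Pi.add_apply] at ha hb ⊢
      rw [ha, hb]
    | tmul b m => rfl
  rw [key]
  exact hx i

/-- Case Z_λ = X: let X be a scheme, (u_i : F ⟶ G_i) a finite family (finite index set) of homomorphisms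
of quasi-coherent O_X-modules which is separating (a section of F over an open subset killed by
every u_i is zero), and g : X' ⟶ X a flat morphism. Then the family (g^*u_i : g^*F ⟶ g^*G_i) is
separating. (The published statement allows a finite family of homomorphisms into direct images
(f_λ)_*G_λ along quasi-compact morphisms f_λ; this row is the case Z_λ = X, to which the general
case reduces.) -/
theorem result {X X' : Scheme.{u}} (F : X.Modules) [Coh.IsQCoh F] {ι : Type u} [Finite ι]
    (G : ι → X.Modules) [∀ i, Coh.IsQCoh (G i)] (u : ∀ i, F ⟶ G i) (g : X' ⟶ X) [Flat g]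
    (h : ∀ (V : (X).Opens) (t : ↑((F).presheaf.obj (Opposite.op V))), (∀ i, (Scheme.Modules.Hom.mapPresheaf (u i)).app (Opposite.op V) t = 0) → t = 0) :
    ∀ (V : (X').Opens) (t : ↑(((Scheme.Modules.pullback g).obj F).presheaf.obj (Opposite.op V))), (∀ i, (Scheme.Modules.Hom.mapPresheaf ((Scheme.Modules.pullback g).map (u i))).app (Opposite.op V) t = 0) → t = 0 := by
  intro V t ht
  apply Groth.Agent.Lib.QCoh.section_ext_of_isBasis ((Scheme.Modules.pullback g).obj F) _
    (Groth.Agent.Lib.QCoh.isBasis_smallAffine g) t 0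
  rintro ⟨W', hW', W, hW, e⟩ hW'V
  rw [map_zero]
  change ((Scheme.Modules.pullback g).obj F).presheaf.map (homOfLE hW'V).op t = 0
  letI : Algebra Γ(X, W) Γ(X', W') := (g.appLE W W' e).hom.toAlgebra
  haveI : Module.Flat Γ(X, W) Γ(X', W') := g.flat_appLE hW hW' e
  haveI : F.IsQuasicoherent := ‹Coh.IsQCoh F›
  haveI : ∀ i, (G i).IsQuasicoherent := fun i => ‹∀ i, Coh.IsQCoh (G i)› i
  obtain ⟨κ₀, -, hκ₀, -, -⟩ :=
    Groth.Agent.Lib.QCoh.exists_linearEquiv_pullback_map g e hW hW' (𝟙 F)
  set t' := ((Scheme.Modules.pullback g).obj F).presheaf.map (homOfLE hW'V).op t with ht'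
  obtain ⟨x, hx⟩ := κ₀.surjective t'
  suffices hx0 : x = 0 by rw [← hx, hx0, map_zero]
  refine eq_zero_of_forall_lTensor_eq_zero_of_finite Γ(X', W')
    (fun i => Groth.Agent.Lib.QCoh.appLinear (u i) W) ?_ x ?_
  · intro m hm
    apply h W m
    intro i
    exact hm i
  · intro i
    obtain ⟨κ, κ', hκ, -, hκκ'⟩ :=
      Groth.Agent.Lib.QCoh.exists_linearEquiv_pullback_map g e hW hW' (u i)
    have hκeq : κ x = κ₀ x := by
      refine Groth.Agent.Lib.QCoh.apply_eq_of_one_tmul (t := κ.toLinearMap)
        (t' := κ₀.toLinearMap) ?_ x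
      intro m
      change κ (1 ⊗ₜ m) = κ₀ (1 ⊗ₜ m)
      rw [hκ m, hκ₀ m]
    have h1 := hκκ' x
    rw [hκeq, hx, ht'] at h1
    rw [Groth.Agent.Lib.QCoh.app_naturality_apply ((Scheme.Modules.pullback g).map (u i))
      (homOfLE hW'V) t] at h1
    have h2 : ((Scheme.Modules.pullback g).map (u i)).app V t = 0 := ht i
    rw [h2, map_zero] at h1
    have h3 := κ'.injective (h1.symm.trans (map_zero κ').symm)
    rw [← LinearMap.baseChange_eq_ltensor]
    exact h3

end Groth.Agent.S5909
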