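import Groth.Statements.S5910
import Mathlib
import Groth.Agent.Lib.Helper65.NilSep
import Groth.Agent.Lib.QCoh.Helper50_SepArtin
import Groth.Agent.Lib.QCoh.Helper74_FlatOver

set_option autoImplicit false
universe u
open CategoryTheory AlgebraicGeometry
open TensorProduct
open EGA43

namespace Groth.Agent.S5910

open TopologicalSpace

/-- Flatness transfers along a bijective ring homomorphism. -/
lemma flat_comp {R R' B : Type u} [CommRing R] [CommRing R'] [CommRing B] (ε : R →+* R')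
    (hε : Function.Bijective ε) (ψ : R' →+* B) (N : Type u) [AddCommGroup N] [Module B N]
    (h : letI := Module.compHom N ψ; Module.Flat R' N) :
    letI := Module.compHom N (ψ.comp ε); Module.Flat R N := by
  letI mR' : Module R' N := Module.compHom N ψ
  letI mR : Module R N := Module.compHom N (ψ.comp ε)
  letI : Algebra R R' := ε.toAlgebra
  haveI : IsScalarTower R R' N := IsScalarTower.of_algebraMap_smul (fun r n => rfl)
  haveI : Module.Flat R R' :=
    Module.Flat.of_linearEquiv (LinearEquiv.ofBijective (Algebra.linearMap R R') hε).symm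
  haveI : Module.Flat R' N := h
  exact Module.Flat.trans R R' N

open CategoryTheory.Limits in
lemma affine_inf' {X S S' : Scheme.{u}} (p : X ⟶ S) (q : S' ⟶ S)
    {US : S.Opens} {W : X.Opens} {U : S'.Opens} (hUS : IsAffineOpen US) (hW : IsAffineOpen W)
    (hU : IsAffineOpen U) (hWS : W ≤ p ⁻¹ᵁ US) (hUS' : U ≤ q ⁻¹ᵁ US) :
    IsAffineOpen (pullback.fst p q ⁻¹ᵁ W ⊓ pullback.snd p q ⁻¹ᵁ U) := by
  have H : IsPullback (pullback.fst p q) (pullback.snd p q) p q := IsPullback.of_hasPullback p q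
  have : IsAffine US.toScheme := hUS
  have : IsAffine U.toScheme := hU
  have : IsAffine W.toScheme := hW
  exact .of_isIso (Scheme.Hom.isPullback_resLE H (US := US) (UT := U) (UX := W)
    hUS' hWS rfl).isoPullback.hom

open CategoryTheory.Limits Groth.Agent.Lib.QCoh in
set_option maxHeartbeats 3200000 in
lemma key_affine {X : Scheme.{u}} (A : CommRingCat.{u}) (p : X ⟶ Spec A)
    (J : Ideal ↑A) (hJ : IsNilpotent J)
    (hfree : ∀ k : ℕ, Module.Free (↑A ⧸ J) ((↑A ⧸ J) ⊗[↑A] ↥(J ^ k)))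
    (F : X.Modules) [F.IsQuasicoherent] {ι : Type u} (G : ι → X.Modules)
    [∀ i, (G i).IsQuasicoherent]
    (hG : ∀ i, FlatMod.IsFlatOver p (G i)) (u : ∀ i, F ⟶ G i)
    (h0 : ∀ (V : (pullback p (Spec.map (CommRingCat.ofHom (Ideal.Quotient.mk J)))).Opens) (t : ↑(((Scheme.Modules.pullback (pullback.fst p (Spec.map (CommRingCat.ofHom (Ideal.Quotient.mk J))))).obj F).presheaf.obj (Opposite.op V))), (∀ i, (Scheme.Modules.Hom.mapPresheaf ((Scheme.Modules.pullback (pullback.fst p (Spec.map (CommRingCat.ofHom (Ideal.Quotient.mk J))))).map (u i))).app (Opposite.op V) t = 0) → t = 0)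
    {W : X.Opens} (hW : IsAffineOpen W) (m : Γ(F, W)) (hm : ∀ i, (u i).app W m = 0) : m = 0 := by
  set q := Spec.map (CommRingCat.ofHom (Ideal.Quotient.mk J)) with hq
  have H : IsPullback (pullback.fst p q) (pullback.snd p q) p q := IsPullback.of_hasPullback p q
  have hT : IsAffineOpen (⊤ : (Spec A).Opens) := isAffineOpen_top _
  have hT' : IsAffineOpen (⊤ : (Spec (CommRingCat.of (↑A ⧸ J))).Opens) := isAffineOpen_top _
  have hUST : (⊤ : (Spec (CommRingCat.of (↑A ⧸ J))).Opens) ≤ q ⁻¹ᵁ ⊤ := le_rfl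
  have hUSX : W ≤ p ⁻¹ᵁ ⊤ := le_top
  have hV₀ := affine_inf' p q hT hW hT' hUSX hUST
  have e₀ : pullback.fst p q ⁻¹ᵁ W ⊓ pullback.snd p q ⁻¹ᵁ ⊤ ≤ pullback.fst p q ⁻¹ᵁ W :=
    inf_le_left
  have hpo := (AlgebraicGeometry.isIso_pushoutSection_iff H hUST hUSX rfl).mp
    (AlgebraicGeometry.isIso_pushoutSection_of_isAffineOpen H hUST hUSX rfl hT hT' hW)
  have hpo2 : IsPushout ((Scheme.ΓSpecIso A).inv ≫ p.appLE ⊤ W hUSX)
      (CommRingCat.ofHom (Ideal.Quotient.mk J))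
      ((pullback.fst p q).appLE W (pullback.fst p q ⁻¹ᵁ W ⊓ pullback.snd p q ⁻¹ᵁ ⊤) e₀)
      ((Scheme.ΓSpecIso (CommRingCat.of (↑A ⧸ J))).inv ≫
        (pullback.snd p q).appLE ⊤ (pullback.fst p q ⁻¹ᵁ W ⊓ pullback.snd p q ⁻¹ᵁ ⊤)
          inf_le_right) := by
    refine IsPushout.of_iso hpo (Scheme.ΓSpecIso A) (Iso.refl _) (Scheme.ΓSpecIso _) (Iso.refl _)
      ?_ ?_ ?_ ?_
    · simp
    · refine Eq.trans ?_ (Scheme.ΓSpecIso_naturality (CommRingCat.ofHom (Ideal.Quotient.mk J)))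
      congr 1
    · simp
    · simp
  letI aAB : Algebra ↑A Γ(X, W) := ((Scheme.ΓSpecIso A).inv ≫ p.appLE ⊤ W hUSX).hom.toAlgebra
  letI aBB₀ : Algebra Γ(X, W) Γ(pullback p q, pullback.fst p q ⁻¹ᵁ W ⊓ pullback.snd p q ⁻¹ᵁ ⊤) :=
    ((pullback.fst p q).appLE W _ e₀).hom.toAlgebra
  letI aKB₀ : Algebra (↑A ⧸ J)
      Γ(pullback p q, pullback.fst p q ⁻¹ᵁ W ⊓ pullback.snd p q ⁻¹ᵁ ⊤) :=
    ((Scheme.ΓSpecIso (CommRingCat.of (↑A ⧸ J))).inv ≫
      (pullback.snd p q).appLE ⊤ (pullback.fst p q ⁻¹ᵁ W ⊓ pullback.snd p q ⁻¹ᵁ ⊤)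
        inf_le_right).hom.toAlgebra
  letI aAB₀ : Algebra ↑A Γ(pullback p q, pullback.fst p q ⁻¹ᵁ W ⊓ pullback.snd p q ⁻¹ᵁ ⊤) :=
    (((pullback.fst p q).appLE W _ e₀).hom.comp
      ((Scheme.ΓSpecIso A).inv ≫ p.appLE ⊤ W hUSX).hom).toAlgebra
  haveI t1 : IsScalarTower ↑A Γ(X, W)
      Γ(pullback p q, pullback.fst p q ⁻¹ᵁ W ⊓ pullback.snd p q ⁻¹ᵁ ⊤) :=
    IsScalarTower.of_algebraMap_eq (fun _ => rfl)
  haveI t2 : IsScalarTower ↑A (↑A ⧸ J)
      Γ(pullback p q, pullback.fst p q ⁻¹ᵁ W ⊓ pullback.snd p q ⁻¹ᵁ ⊤) := by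
    refine IsScalarTower.of_algebraMap_eq (fun x => ?_)
    have := hpo2.w
    exact congr(($this).hom x)
  haveI hpo3 : Algebra.IsPushout ↑A (↑A ⧸ J) Γ(X, W)
      Γ(pullback p q, pullback.fst p q ⁻¹ᵁ W ⊓ pullback.snd p q ⁻¹ᵁ ⊤) :=
    CommRingCat.isPushout_iff_isPushout.mp hpo2.flip
  letI mAM : Module ↑A Γ(F, W) :=
    Module.compHom Γ(F, W) ((Scheme.ΓSpecIso A).inv ≫ p.appLE ⊤ W hUSX).hom
  haveI : IsScalarTower ↑A Γ(X, W) Γ(F, W) := IsScalarTower.of_algebraMap_smul (fun _ _ => rfl)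
  letI mAN : ∀ i, Module ↑A Γ(G i, W) := fun i =>
    Module.compHom Γ(G i, W) ((Scheme.ΓSpecIso A).inv ≫ p.appLE ⊤ W hUSX).hom
  haveI : ∀ i, IsScalarTower ↑A Γ(X, W) Γ(G i, W) := fun i =>
    IsScalarTower.of_algebraMap_smul (fun _ _ => rfl)
  haveI hflat : ∀ i, Module.Flat ↑A Γ(G i, W) := fun i => by
    have h1 := flat_Γ_of_forall_isFlatOverAt p (G i) hUSX hT hW (fun y _ => hG i y)
    exact flat_comp (Scheme.ΓSpecIso A).inv.hom (ConcreteCategory.bijective_of_isIso _)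
      (p.appLE ⊤ W hUSX).hom Γ(G i, W) h1
  -- joint injectivity over the closed fibre, from `h0`
  have hB₀ : ∀ x : Γ(pullback p q, pullback.fst p q ⁻¹ᵁ W ⊓ pullback.snd p q ⁻¹ᵁ ⊤) ⊗[Γ(X, W)]
      Γ(F, W), (∀ i, (appLinear (u i) W).baseChange
        Γ(pullback p q, pullback.fst p q ⁻¹ᵁ W ⊓ pullback.snd p q ⁻¹ᵁ ⊤) x = 0) → x = 0 := by
    intro x hx
    obtain ⟨κ₀, -, hκ₀, -, -⟩ :=
      exists_linearEquiv_pullback_map (pullback.fst p q) e₀ hW hV₀ (𝟙 F)
    suffices hx0 : κ₀ x = 0 from κ₀.injective (hx0.trans (map_zero κ₀).symm)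
    apply h0 _ (κ₀ x)
    intro i
    obtain ⟨κ, κ', hκ, -, hκκ'⟩ :=
      exists_linearEquiv_pullback_map (pullback.fst p q) e₀ hW hV₀ (u i)
    have hκeq : κ x = κ₀ x := by
      refine apply_eq_of_one_tmul (t := κ.toLinearMap) (t' := κ₀.toLinearMap) ?_ x
      intro m
      change κ (1 ⊗ₜ m) = κ₀ (1 ⊗ₜ m)
      rw [hκ m, hκ₀ m]
    have h1 := hκκ' x
    rw [hκeq, hx i, map_zero] at h1
    exact h1
  let uA : ∀ i, Γ(F, W) →ₗ[↑A] Γ(G i, W) := fun i => (appLinear (u i) W).restrictScalars ↑A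
  have hSP : Groth.Agent.Lib.Helper65.NilSep.SP uA (↑A ⧸ J) := by
    intro y hy
    have hθ : ∀ i, ∀ y : (↑A ⧸ J) ⊗[↑A] Γ(F, W), (appLinear (u i) W).baseChange
        Γ(pullback p q, pullback.fst p q ⁻¹ᵁ W ⊓ pullback.snd p q ⁻¹ᵁ ⊤)
        ((Algebra.IsPushout.cancelBaseChange ↑A (↑A ⧸ J) Γ(X, W)
          Γ(pullback p q, pullback.fst p q ⁻¹ᵁ W ⊓ pullback.snd p q ⁻¹ᵁ ⊤) Γ(F, W)).symm y) =
        (Algebra.IsPushout.cancelBaseChange ↑A (↑A ⧸ J) Γ(X, W)
          Γ(pullback p q, pullback.fst p q ⁻¹ᵁ W ⊓ pullback.snd p q ⁻¹ᵁ ⊤) Γ(G i, W)).symm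
          ((uA i).lTensor _ y) := by
      intro i y
      induction y using TensorProduct.induction_on with
      | zero => simp only [map_zero]
      | tmul s m =>
        rw [LinearMap.lTensor_tmul, Algebra.IsPushout.cancelBaseChange_symm_tmul,
          Algebra.IsPushout.cancelBaseChange_symm_tmul, LinearMap.baseChange_tmul]
        rfl
      | add a b ha hb => simp only [map_add, ha, hb]
    have hx0 := hB₀ _ (fun i => by rw [hθ i y, hy i, map_zero])
    exact (Algebra.IsPushout.cancelBaseChange ↑A (↑A ⧸ J) Γ(X, W)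
      Γ(pullback p q, pullback.fst p q ⁻¹ᵁ W ⊓ pullback.snd p q ⁻¹ᵁ ⊤) Γ(F, W)).symm.injective
      (hx0.trans (map_zero _).symm)
  exact Groth.Agent.Lib.Helper65.NilSep.core J hJ hfree hSP m (fun i => hm i)

open CategoryTheory.Limits in
/-- Separating assertion: over an affine base and in the case Z_λ = X: let A be a commutative ring, p :
X ⟶ Spec A an A-scheme, F a quasi-coherent O_X-module, (G_i) quasi-coherent O_X-modules flat over
Spec A and u_i : F ⟶ G_i homomorphisms. Let J be a nilpotent ideal of A all of whose successive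
quotients J^k/J^{k+1} are free (A/J)-modules, and X₀ = X ×_{Spec A} Spec(A/J). If the family of
pullbacks of the u_i to X₀ is separating (a section of the pulled-back F over an open subset killed
by every member is zero), then (u_i) is separating. (The published statement has an arbitrary base
S, a nilpotent quasi-coherent ideal of O_S whose successive quotients are locally free over O_S
modulo the ideal, homomorphisms into direct images (f_λ)_*G_λ, and the same assertion for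
universally separating families; the assertion is local on S and on X, and this row is the case of
an affine base with free successive quotients and Z_λ = X.) -/
theorem result {X : Scheme.{u}} (A : CommRingCat.{u}) (p : X ⟶ Spec A)
    (J : Ideal ↑A) (hJ : IsNilpotent J) (hfree : ∀ k : ℕ, Module.Free (↑A ⧸ J) ((↑A ⧸ J) ⊗[↑A] ↥(J ^ k)))
    (F : X.Modules) [Coh.IsQCoh F] {ι : Type u} (G : ι → X.Modules) [∀ i, Coh.IsQCoh (G i)]
    (hG : ∀ i, FlatMod.IsFlatOver p (G i)) (u : ∀ i, F ⟶ G i)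
    (h0 : ∀ (V : (pullback p (Spec.map (CommRingCat.ofHom (Ideal.Quotient.mk J)))).Opens) (t : ↑(((Scheme.Modules.pullback (pullback.fst p (Spec.map (CommRingCat.ofHom (Ideal.Quotient.mk J))))).obj F).presheaf.obj (Opposite.op V))), (∀ i, (Scheme.Modules.Hom.mapPresheaf ((Scheme.Modules.pullback (pullback.fst p (Spec.map (CommRingCat.ofHom (Ideal.Quotient.mk J))))).map (u i))).app (Opposite.op V) t = 0) → t = 0) :
    ∀ (V : (X).Opens) (t : ↑((F).presheaf.obj (Opposite.op V))), (∀ i, (Scheme.Modules.Hom.mapPresheaf (u i)).app (Opposite.op V) t = 0) → t = 0 := by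
  intro V t ht
  haveI : F.IsQuasicoherent := ‹Coh.IsQCoh F›
  haveI : ∀ i, (G i).IsQuasicoherent := fun i => ‹∀ i, Coh.IsQCoh (G i)› i
  apply Groth.Agent.Lib.QCoh.section_ext_of_isBasis F (fun W : X.affineOpens => W.1)
    (by rw [Subtype.range_coe]; exact X.isBasis_affineOpens) t 0
  intro W hWV
  rw [map_zero]
  apply key_affine A p J hJ hfree F G hG u h0 W.2
  intro i
  rw [Groth.Agent.Lib.QCoh.app_naturality_apply (u i) (homOfLE hWV) t]
  have h2 : (u i).app V t = 0 := ht i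
  rw [h2, map_zero]

end Groth.Agent.S5910
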