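import Groth.Statements.S5911
import Groth.Agent.Lib.Helper54.LocalFlat6
import Groth.Agent.Lib.Helper57.LocalFlat

set_option autoImplicit false
universe u
open TensorProduct
open EGA43

namespace Groth.Agent.S5911

theorem isHausdorff_of_linearEquiv {R : Type*} [CommRing R] (J : Ideal R) {N N' : Type*}
    [AddCommGroup N] [Module R N] [AddCommGroup N'] [Module R N'] (e : N ≃ₗ[R] N')
    (h : IsHausdorff J N) : IsHausdorff J N' := by
  refine ⟨fun x hx => ?_⟩
  have h0 : e.symm x = 0 := by
    apply h.haus'
    intro n
    have hxn := hx n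
    rw [SModEq.zero] at hxn ⊢
    exact Submodule.smul_top_le_comap_smul_top (J ^ n) e.symm.toLinearMap hxn
  rw [← e.apply_symm_apply x, h0, map_zero]

/-- flatness modulo the intersection of the symbolic powers -/
theorem flat_mod_symbolic {A : Type u} [CommRing A]
    (J : Ideal A) (M : Type u) [AddCommGroup M] [Module A M]
    {r : ℕ} (p : Fin r → Ideal A) [∀ i, (p i).IsPrime] (hp : ∀ i, J ≤ p i)
    [Module.Flat (A ⧸ J) ((A ⧸ J) ⊗[A] M)]
    [∀ i, Module.Flat (Localization.AtPrime (p i)) (Localization.AtPrime (p i) ⊗[A] M)] (m : ℕ)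
    (Jm : Ideal A)
    (hJm : Jm = ⨅ i, Ideal.comap (algebraMap A (Localization.AtPrime (p i)))
        (IsLocalRing.maximalIdeal (Localization.AtPrime (p i)) ^ m)) :
    Module.Flat (A ⧸ Jm) ((A ⧸ Jm) ⊗[A] M) := by
  have hle : ∀ i, Jm ≤
      Ideal.comap (algebraMap A (Localization.AtPrime (p i)))
        (IsLocalRing.maximalIdeal (Localization.AtPrime (p i)) ^ m) := fun i => by
    rw [hJm]
    exact iInf_le _ i
  refine Groth.Agent.Lib.Helper54.LocalFlat.flat_baseChange_of_jointly_injective J M
    (fun i : Fin r => Localization.AtPrime (p i)) m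
    (fun i => Localization.AtPrime (p i) ⧸
      (IsLocalRing.maximalIdeal (Localization.AtPrime (p i)) ^ m)) ?_ (A ⧸ Jm)
    (fun i => (Ideal.Quotient.liftₐ Jm
      (Algebra.ofId A (Localization.AtPrime (p i) ⧸
      (IsLocalRing.maximalIdeal (Localization.AtPrime (p i)) ^ m))) (by
        intro a ha
        have := hle i ha
        rw [Ideal.mem_comap] at this
        rw [Algebra.ofId_apply, IsScalarTower.algebraMap_apply A
          (Localization.AtPrime (p i))]
        exact Ideal.Quotient.eq_zero_iff_mem.2 this)).toLinearMap) ?_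
  · intro i a ha x
    have h1 : algebraMap A (Localization.AtPrime (p i)) a ∈
        IsLocalRing.maximalIdeal (Localization.AtPrime (p i)) ^ m := by
      have h2 : (J ^ m).map (algebraMap A (Localization.AtPrime (p i))) ≤
          IsLocalRing.maximalIdeal (Localization.AtPrime (p i)) ^ m := by
        rw [Ideal.map_pow]
        apply Ideal.pow_right_mono
        rw [Ideal.map_le_iff_le_comap]
        intro x hx
        rw [Ideal.mem_comap, IsLocalization.AtPrime.to_map_mem_maximal_iff
          (Localization.AtPrime (p i)) (p i)]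
        exact hp i hx
      exact h2 (Ideal.mem_map_of_mem _ ha)
    rw [← algebraMap_smul (Localization.AtPrime (p i)) a x, Algebra.smul_def]
    change Ideal.Quotient.mk _ (algebraMap A (Localization.AtPrime (p i)) a) * x = 0
    rw [Ideal.Quotient.eq_zero_iff_mem.2 h1, zero_mul]
  · intro x hx
    obtain ⟨a, rfl⟩ := Ideal.Quotient.mk_surjective x
    rw [Ideal.Quotient.eq_zero_iff_mem, hJm, Ideal.mem_iInf]
    intro i
    have h0 := hx i
    rw [Ideal.mem_comap]
    rw [← Ideal.Quotient.eq_zero_iff_mem]
    exact h0

/-- Let A be a Noetherian ring, J an ideal of A and M an A-module which is ideally separated for the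
J-adic topology (for every ideal a of A the module a ⊗_A M is J-adically separated). Let (p_i) be a
finite family of prime ideals of A containing J, let J_n be the intersection of the symbolic powers
p_i^{(n)} (preimages in A of the n-th powers of the maximal ideals of the local rings A_{p_i}), and
assume every power J^n contains some J_m. Then M is flat if and only if (A/J) ⊗_A M is flat over A/J
and M_{p_i} is flat over A_{p_i} for every i. -/
theorem result {A : Type u} [CommRing A] [IsNoetherianRing A]
    (J : Ideal A) (M : Type u) [AddCommGroup M] [Module A M]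
    (hsep : ∀ a : Ideal A, IsHausdorff J (↥a ⊗[A] M))
    {r : ℕ} (p : Fin r → Ideal A) [∀ i, (p i).IsPrime] (hp : ∀ i, J ≤ p i)
    (htop : ∀ n : ℕ, ∃ m : ℕ,
      ⨅ i, Ideal.comap (algebraMap A (Localization.AtPrime (p i))) (IsLocalRing.maximalIdeal (Localization.AtPrime (p i)) ^ m) ≤ J ^ n) :
    Module.Flat A M ↔
      Module.Flat (A ⧸ J) ((A ⧸ J) ⊗[A] M) ∧
        ∀ i, Module.Flat (Localization.AtPrime (p i)) (LocalizedModule (p i).primeCompl M) := by
  constructor
  · intro h
    exact ⟨inferInstance, fun i => inferInstance⟩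
  · rintro ⟨h1, h2⟩
    have hsep' : ∀ 𝔞 : Ideal A, IsHausdorff J (M ⊗[A] 𝔞) := fun 𝔞 =>
      isHausdorff_of_linearEquiv J (TensorProduct.comm A 𝔞 M) (hsep 𝔞)
    apply Groth.Agent.Lib.Helper57.flat_of_flat_mod_powers J M hsep'
    intro n _
    haveI hflat : ∀ i, Module.Flat (Localization.AtPrime (p i))
        (Localization.AtPrime (p i) ⊗[A] M) := by
      intro i
      have hbc : IsBaseChange (Localization.AtPrime (p i))
          (LocalizedModule.mkLinearMap (p i).primeCompl M) :=
        (isLocalizedModule_iff_isBaseChange (p i).primeCompl (Localization.AtPrime (p i)) _).1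
          inferInstance
      haveI := h2 i
      exact Module.Flat.of_linearEquiv hbc.equiv
    haveI := h1
    obtain ⟨m, hm⟩ := htop n
    haveI := flat_mod_symbolic J M p hp m _ rfl
    letI : Algebra (A ⧸ (⨅ i, Ideal.comap (algebraMap A (Localization.AtPrime (p i)))
        (IsLocalRing.maximalIdeal (Localization.AtPrime (p i)) ^ m))) (A ⧸ J ^ n) :=
      (Ideal.Quotient.factor hm).toAlgebra
    haveI : IsScalarTower A (A ⧸ (⨅ i, Ideal.comap (algebraMap A (Localization.AtPrime (p i)))
        (IsLocalRing.maximalIdeal (Localization.AtPrime (p i)) ^ m))) (A ⧸ J ^ n) :=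
      IsScalarTower.of_algebraMap_eq (fun x => rfl)
    exact Groth.Agent.Lib.Helper54.LocalFlat.flat_baseChange_tower M
      (A ⧸ (⨅ i, Ideal.comap (algebraMap A (Localization.AtPrime (p i)))
        (IsLocalRing.maximalIdeal (Localization.AtPrime (p i)) ^ m))) (A ⧸ J ^ n)

end Groth.Agent.S5911
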