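import Groth.Statements.S5912
import Groth.Agent.Lib.Helper54.LocalFlat6
import Groth.Agent.Lib.Helper57.LocalFlat

set_option autoImplicit false
universe u
open TensorProduct
open EGA43

namespace Groth.Agent.S5912

theorem isHausdorff_of_linearEquiv {R : Type*} [CommRing R] (J : Ideal R) {N N' : Type*}
    [AddCommGroup N] [Module R N] [AddCommGroup N'] [Module R N'] (e : N ≃ₗ[R] N')
    (h : IsHausdorff J N) : IsHausdorff J N' := by
  refine ⟨fun x hx => ?_⟩
  have h0 : e.symm x = 0 := by
    apply h.haus'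
    intro n
    have hxn := hx n
    rw [SModEq.zero] at hxn ⊢
    exact Submodule.smul_top_le_comap_smul_top (J ^ n) e.symm.toLinearMap hxn
  rw [← e.apply_symm_apply x, h0, map_zero]

theorem mem_pow_of_forall_assoc {A : Type u} [CommRing A] [IsNoetherianRing A] (J : Ideal A)
    (hgr : ∀ k : ℕ, Module.Flat (A ⧸ J) ((A ⧸ J) ⊗[A] ↥(J ^ k))) (n : ℕ) :
    ∀ a : A, (∀ q ∈ associatedPrimes A (A ⧸ J), ∃ s, s ∉ q ∧ s * a ∈ J ^ n) → a ∈ J ^ n := by
  induction n with
  | zero =>
    intro a _
    simp
  | succ n ih =>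
    intro a h
    have ha : a ∈ J ^ n := ih a (fun q hq => by
      obtain ⟨s, hs, h'⟩ := h q hq
      exact ⟨s, hs, Ideal.pow_le_pow_right (Nat.le_succ n) h'⟩)
    classical
    let 𝔞 : Ideal A := (J ^ (n + 1)).colon {a}
    have hfin := associatedPrimes.finite A (A ⧸ J)
    have hnot : ¬ ((𝔞 : Set A) ⊆ ⋃ q ∈ (↑hfin.toFinset : Set (Ideal A)), (q : Set A)) := by
      intro hsub
      have hp : ∀ i ∈ hfin.toFinset, i ≠ ⊥ → i ≠ ⊥ → Ideal.IsPrime i := fun i hi _ _ =>
        IsAssociatedPrime.isPrime (hfin.mem_toFinset.1 hi)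
      obtain ⟨q, hq, hle⟩ := (Ideal.subset_union_prime (R := A) (s := hfin.toFinset)
        (f := fun q => q) ⊥ ⊥ hp).1 hsub
      obtain ⟨s, hs, hsa⟩ := h q (hfin.mem_toFinset.1 hq)
      exact hs (hle (Submodule.mem_colon_singleton.2 hsa))
    obtain ⟨s, hs𝔞, hsU⟩ := Set.not_subset.1 hnot
    rw [hfin.coe_toFinset] at hsU
    have hsa : s * a ∈ J ^ (n + 1) := Submodule.mem_colon_singleton.1 hs𝔞
    have hreg : IsSMulRegular (A ⧸ J) s := by
      by_contra hcon
      apply hsU
      rw [biUnion_associatedPrimes_eq_compl_regular A (A ⧸ J)]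
      exact hcon
    have hnzd : Ideal.Quotient.mk J s ∈ nonZeroDivisors (A ⧸ J) := by
      rw [mem_nonZeroDivisors_iff_right]
      intro x hx
      apply hreg
      change s • x = s • 0
      rw [smul_zero, ← hx, mul_comm, Algebra.smul_def]
      rfl
    haveI := hgr n
    have hregP := Module.Flat.isSMulRegular_of_nonZeroDivisors
      (M := (A ⧸ J) ⊗[A] ↥(J ^ n)) hnzd
    have hp0 : (1 : A ⧸ J) ⊗ₜ[A] (⟨a, ha⟩ : ↥(J ^ n)) = 0 := by
      apply hregP
      change Ideal.Quotient.mk J s • ((1 : A ⧸ J) ⊗ₜ[A] (⟨a, ha⟩ : ↥(J ^ n))) =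
        Ideal.Quotient.mk J s • 0
      rw [smul_zero, TensorProduct.smul_tmul', smul_eq_mul, mul_one]
      have h1 : (TensorProduct.quotTensorEquivQuotSMul (↥(J ^ n)) J)
          (Ideal.Quotient.mk J s ⊗ₜ[A] (⟨a, ha⟩ : ↥(J ^ n))) = 0 := by
        rw [TensorProduct.quotTensorEquivQuotSMul_mk_tmul, Submodule.Quotient.mk_eq_zero,
          Submodule.mem_smul_top_iff]
        change s * a ∈ J • J ^ n
        rw [smul_eq_mul, ← pow_succ']
        exact hsa
      exact (LinearEquiv.map_eq_zero_iff _).1 h1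
    have h2 : (TensorProduct.quotTensorEquivQuotSMul (↥(J ^ n)) J)
        ((1 : A ⧸ J) ⊗ₜ[A] (⟨a, ha⟩ : ↥(J ^ n))) = 0 := by rw [hp0, map_zero]
    rw [← map_one (Ideal.Quotient.mk J), TensorProduct.quotTensorEquivQuotSMul_mk_tmul, one_smul,
      Submodule.Quotient.mk_eq_zero, Submodule.mem_smul_top_iff, smul_eq_mul, ← pow_succ'] at h2
    exact h2

/-- Let A be a Noetherian ring, J an ideal of A and M an A-module which is ideally separated for the
J-adic topology (for every ideal a of A the module a ⊗_A M is J-adically separated), and suppose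
every quotient J^k/J^{k+1} is a flat (A/J)-module (the associated graded ring of A along J is flat
over A/J). Then M is flat if and only if (A/J) ⊗_A M is flat over A/J and M_p is flat over A_p for
every associated prime p of the A-module A/J. -/
theorem result {A : Type u} [CommRing A] [IsNoetherianRing A]
    (J : Ideal A) (M : Type u) [AddCommGroup M] [Module A M]
    (hsep : ∀ a : Ideal A, IsHausdorff J (↥a ⊗[A] M))
    (hgr : ∀ k : ℕ, Module.Flat (A ⧸ J) ((A ⧸ J) ⊗[A] ↥(J ^ k))) :
    Module.Flat A M ↔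
      Module.Flat (A ⧸ J) ((A ⧸ J) ⊗[A] M) ∧
        ∀ q : associatedPrimes A (A ⧸ J),
          haveI : q.1.IsPrime := IsAssociatedPrime.isPrime q.2
          Module.Flat (Localization.AtPrime q.1) (LocalizedModule q.1.primeCompl M) := by
  constructor
  · intro h
    refine ⟨inferInstance, fun q => ?_⟩
    haveI : q.1.IsPrime := IsAssociatedPrime.isPrime q.2
    exact inferInstance
  · rintro ⟨h1, h2⟩
    have hsep' : ∀ 𝔞 : Ideal A, IsHausdorff J (M ⊗[A] 𝔞) := fun 𝔞 =>
      isHausdorff_of_linearEquiv J (TensorProduct.comm A 𝔞 M) (hsep 𝔞)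
    apply Groth.Agent.Lib.Helper57.flat_of_flat_mod_powers J M hsep'
    intro n _
    haveI : Finite (associatedPrimes A (A ⧸ J)) :=
      (associatedPrimes.finite A (A ⧸ J)).to_subtype
    haveI hprime : ∀ q : associatedPrimes A (A ⧸ J), q.1.IsPrime :=
      fun q => IsAssociatedPrime.isPrime q.2
    haveI hflat : ∀ q : associatedPrimes A (A ⧸ J), Module.Flat (Localization.AtPrime q.1)
        (Localization.AtPrime q.1 ⊗[A] M) := by
      intro q
      have hbc : IsBaseChange (Localization.AtPrime q.1)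
          (LocalizedModule.mkLinearMap q.1.primeCompl M) :=
        (isLocalizedModule_iff_isBaseChange q.1.primeCompl (Localization.AtPrime q.1) _).1
          inferInstance
      haveI := h2 q
      exact Module.Flat.of_linearEquiv hbc.equiv
    haveI := h1
    refine Groth.Agent.Lib.Helper54.LocalFlat.flat_baseChange_of_jointly_injective J M
      (fun q : associatedPrimes A (A ⧸ J) => Localization.AtPrime q.1) n
      (fun q => LocalizedModule q.1.primeCompl (A ⧸ J ^ n)) ?_ (A ⧸ J ^ n)
      (fun q => LocalizedModule.mkLinearMap q.1.primeCompl (A ⧸ J ^ n)) ?_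
    · intro q a ha y
      induction y using LocalizedModule.induction_on with
      | h x s =>
        have hx : a • x = 0 := by
          obtain ⟨b, rfl⟩ := Ideal.Quotient.mk_surjective x
          rw [Algebra.smul_def]
          change Ideal.Quotient.mk (J ^ n) a * Ideal.Quotient.mk (J ^ n) b = 0
          rw [Ideal.Quotient.eq_zero_iff_mem.2 ha, zero_mul]
        rw [LocalizedModule.smul'_mk, hx, LocalizedModule.zero_mk]
    · intro x hx
      obtain ⟨a, rfl⟩ := Ideal.Quotient.mk_surjective x
      rw [Ideal.Quotient.eq_zero_iff_mem]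
      apply mem_pow_of_forall_assoc J hgr n a
      intro q hq
      have h0 := hx ⟨q, hq⟩
      haveI : q.IsPrime := IsAssociatedPrime.isPrime hq
      obtain ⟨s, hs⟩ := (IsLocalizedModule.eq_zero_iff q.primeCompl
        (LocalizedModule.mkLinearMap q.primeCompl (A ⧸ J ^ n))).1 h0
      refine ⟨s.1, s.2, ?_⟩
      rw [← Ideal.Quotient.eq_zero_iff_mem, map_mul]
      rw [Submonoid.smul_def, Algebra.smul_def] at hs
      exact hs

end Groth.Agent.S5912
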