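import Groth.Statements.S5913
import Mathlib
import Groth.Agent.S3431
-- import your own Groth.Agent.* helpers here

set_option autoImplicit false
universe u
open CategoryTheory AlgebraicGeometry
open EGA43

namespace Groth.Agent.S5913

section Aux

theorem jacobsonSpace_of_isEmbedding_of_isLocallyClosed {X Y : Type*} [TopologicalSpace X]
    [TopologicalSpace Y] [JacobsonSpace Y] {f : X → Y} (hf : Topology.IsEmbedding f)
    (hr : IsLocallyClosed (Set.range f)) : JacobsonSpace X := by
  rw [jacobsonSpace_iff_locallyClosed]
  intro Z hZ hZ'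
  obtain ⟨_, ⟨x, hx, rfl⟩, hx'⟩ :=
    nonempty_inter_closedPoints (hZ.image f) (hZ'.image hf.isInducing hr)
  exact ⟨x, hx, preimage_closedPoints_subset hf.injective hf.continuous hx'⟩

end Aux

/-- In the locally Noetherian form: a locally Noetherian scheme X is Jacobson if and only if it has no
subscheme isomorphic to the spectrum of a semi-local integral domain of dimension 1, i.e. there is
no immersion Spec R ⟶ X with R an integral domain having finitely many maximal ideals and Krull
dimension 1. -/
theorem result (X : Scheme.{u}) [IsLocallyNoetherian X] :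
    JacobsonSpace X ↔
      ∀ (R : CommRingCat.{u}) [IsDomain R] (i : Spec R ⟶ X) [IsImmersion i],
        ¬ (Finite (MaximalSpectrum R) ∧ ringKrullDim R = 1) := by
  constructor
  · intro hJ R _ i _ ⟨hfin, hdim⟩
    haveI : JacobsonSpace (PrimeSpectrum R) :=
      jacobsonSpace_of_isEmbedding_of_isLocallyClosed (f := i) i.isEmbedding
        i.isLocallyClosed_range
    haveI : IsJacobsonRing R := PrimeSpectrum.isJacobsonRing_iff_jacobsonSpace.mpr inferInstance
    exact Groth.Agent.S3431.dir1 R hfin hdim
  · intro h
    have hU : TopologicalSpace.IsOpenCover (fun i : X.affineOpens => (i : X.Opens)) :=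
      iSup_affineOpens_eq_top X
    rw [hU.jacobsonSpace_iff]
    rintro ⟨W, hW⟩
    haveI : IsNoetherianRing Γ(X, W) := IsLocallyNoetherian.component_noetherian ⟨W, hW⟩
    have hJ : IsJacobsonRing Γ(X, W) := by
      rw [Groth.Agent.S3431.result]
      intro p hp
      haveI : IsClosedImmersion (Spec.map (CommRingCat.ofHom (Ideal.Quotient.mk p))) :=
        IsClosedImmersion.spec_of_surjective _ Ideal.Quotient.mk_surjective
      exact h (CommRingCat.of (Γ(X, W) ⧸ p))
        (Spec.map (CommRingCat.ofHom (Ideal.Quotient.mk p)) ≫ hW.fromSpec)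
    have hJS : JacobsonSpace (PrimeSpectrum Γ(X, W)) :=
      PrimeSpectrum.isJacobsonRing_iff_jacobsonSpace.mp hJ
    have hemb : Topology.IsOpenEmbedding hW.fromSpec := hW.fromSpec.isOpenEmbedding
    have h3 : JacobsonSpace ↥(Set.range hW.fromSpec) :=
      JacobsonSpace.of_isOpenEmbedding (Y := PrimeSpectrum Γ(X, W))
        hemb.toIsEmbedding.toHomeomorph.symm.isOpenEmbedding
    rw [hW.range_fromSpec] at h3
    exact h3

end Groth.Agent.S5913
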