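import Groth.Statements.S5924
import Groth.Agent.Lib.Helper73.FibreDimGen
-- import your own Groth.Agent.* helpers here

set_option autoImplicit false
open CategoryTheory AlgebraicGeometry
universe u
open EGA43

namespace Groth.Agent.S5924
open Groth.Agent.Lib.Helper73.SchemeDim Groth.Agent.Lib.Helper73.DimFormula

/-- Let Y be an irreducible locally Noetherian scheme, f : X ⟶ Y a morphism locally of finite type which
is equidimensional at the point x, and suppose that x is not a maximal point of its fibre f⁻¹(f x),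
i.e. some point of the fibre other than x specializes to x. Then there exist an affine open
neighbourhood U of x and a section g of O_X over U such that g vanishes at x (x is not in the basic
open set of g) while every maximal point of f⁻¹(f x) lying in U is in the basic open set of g. -/
theorem result {X Y : Scheme.{u}} [IrreducibleSpace Y]
    [IsLocallyNoetherian Y] (f : X ⟶ Y) [LocallyOfFiniteType f] (x : X) (hf : EGA43.IsEquidimAt f x)
    (hx : ∃ x' : X, f.base x' = f.base x ∧ x' ≠ x ∧ x ∈ closure ({x'} : Set X)) :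
    ∃ U : X.Opens, IsAffineOpen U ∧ x ∈ U ∧ ∃ g : Γ(X, U), x ∉ X.basicOpen g ∧
      ∀ z : X, f.base z = f.base x → (∀ z' : X, f.base z' = f.base x → z ∈ closure ({z'} : Set X) → z' = z) →
        z ∈ U → z ∈ X.basicOpen g := by
  obtain ⟨x₀, hx₀f, hx₀ne, hx₀cl⟩ := hx
  have hx₀x : x₀ ⤳ x := specializes_iff_mem_closure.mpr hx₀cl
  obtain ⟨_, ⟨V, hV : IsAffineOpen V, rfl⟩, hfxV, -⟩ :=
    (Y.isBasis_affineOpens).exists_subset_of_mem_open (Set.mem_univ (f.base x)) isOpen_univ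
  obtain ⟨_, ⟨U, hU : IsAffineOpen U, rfl⟩, hxU, hUV⟩ :=
    (X.isBasis_affineOpens).exists_subset_of_mem_open
      (show x ∈ (f ⁻¹ᵁ V : Set X) from hfxV) (f ⁻¹ᵁ V).isOpen
  have e : U ≤ f ⁻¹ᵁ V := hUV
  letI : Algebra Γ(Y, V) Γ(X, U) := (f.appLE V U e).hom.toAlgebra
  have halg : algebraMap Γ(Y, V) Γ(X, U) = (f.appLE V U e).hom := rfl
  haveI : Algebra.FiniteType Γ(Y, V) Γ(X, U) := f.finiteType_appLE hV hU e
  set p := (hV.primeIdealOf ⟨f.base x, e hxU⟩).asIdeal with hp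
  set q := (hU.primeIdealOf ⟨x, hxU⟩).asIdeal with hq
  haveI hqlo : q.LiesOver p := liesOver_primeIdealOf f x hV hU e hxU halg
  -- points of `U` over `f x` give primes over `p`
  have hlo : ∀ (z : X) (hzU : z ∈ U), f.base z = f.base x →
      (hU.primeIdealOf ⟨z, hzU⟩).asIdeal.LiesOver p := by
    intro z hzU hfz
    constructor
    rw [Ideal.under_def, halg]
    have h1 := comap_primeIdealOf_eq_of_base_eq f hV hU e hzU hxU hfz
    have h2 := hqlo.over
    rw [Ideal.under_def, halg] at h2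
    exact h2.trans h1.symm
  have hfin := finite_isMin_primesOver (A := Γ(Y, V)) (B := Γ(X, U)) p
  let Q₀ : p.primesOver Γ(X, U) := ⟨q, inferInstance, hqlo⟩
  have hx₀U : x₀ ∈ U := hx₀x.mem_open U.isOpen hxU
  have hnot : ∀ Q : p.primesOver Γ(X, U), IsMin Q → ¬ (q ≤ Q.1) := by
    intro Q hQ hle
    have h1 : Q ≤ Q₀ := hQ (show Q₀ ≤ Q from hle)
    haveI := hlo x₀ hx₀U hx₀f
    let Q₁ : p.primesOver Γ(X, U) := ⟨(hU.primeIdealOf ⟨x₀, hx₀U⟩).asIdeal, inferInstance, inferInstance⟩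
    have h2 : (hU.primeIdealOf ⟨x₀, hx₀U⟩) ≤ (hU.primeIdealOf ⟨x, hxU⟩) :=
      (primeIdealOf_le_iff_specializes hU x x₀ hxU hx₀U).mpr hx₀x
    have h3 : Q₁ ≤ Q := le_trans (show Q₁ ≤ Q₀ from h2) hle
    have h4 : Q ≤ Q₁ := hQ h3
    have h5' : Q₀ ≤ Q₁ := le_trans (show Q₀ ≤ Q from hle) h4
    have h5 : (hU.primeIdealOf ⟨x, hxU⟩) ≤ (hU.primeIdealOf ⟨x₀, hx₀U⟩) := h5'
    have h6 : hU.primeIdealOf ⟨x₀, hx₀U⟩ = hU.primeIdealOf ⟨x, hxU⟩ := le_antisymm h2 h5
    exact hx₀ne (primeIdealOf_injective hU hx₀U hxU h6)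
  -- prime avoidance
  have havoid : ∃ g ∈ q, ∀ Q : p.primesOver Γ(X, U), IsMin Q → g ∉ Q.1 := by
    by_contra hcon
    push Not at hcon
    have hsub : (q : Set Γ(X, U)) ⊆ ⋃ Q ∈ (↑hfin.toFinset : Set (p.primesOver Γ(X, U))), (Q.1 : Set Γ(X, U)) := by
      intro g hg
      obtain ⟨Q, hQ, hgQ⟩ := hcon g hg
      simp only [Set.mem_iUnion]
      exact ⟨Q, by simpa using hQ, hgQ⟩
    rw [Ideal.subset_union_prime (f := fun Q : p.primesOver Γ(X, U) => Q.1) Q₀ Q₀
      (fun Q _ _ _ => Q.2.1)] at hsub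
    obtain ⟨Q, hQ, hle⟩ := hsub
    exact hnot Q (by simpa using hQ) hle
  obtain ⟨g, hgq, hg⟩ := havoid
  refine ⟨U, hU, hxU, g, ?_, ?_⟩
  · rw [mem_basicOpen_iff_notMem_primeIdealOf hU g x hxU]
    exact fun h => h hgq
  · intro z hfz hzmax hzU
    rw [mem_basicOpen_iff_notMem_primeIdealOf hU g z hzU]
    haveI := hlo z hzU hfz
    let Qz : p.primesOver Γ(X, U) := ⟨(hU.primeIdealOf ⟨z, hzU⟩).asIdeal, inferInstance, inferInstance⟩
    apply hg Qz
    intro Q' hQ'
    obtain ⟨z', hz'U, hz'⟩ := exists_primeIdealOf_eq hU ⟨Q'.1, Q'.2.1⟩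
    have hz'z : z' ⤳ z := (primeIdealOf_le_iff_specializes hU z z' hzU hz'U).mp (by
      rw [hz']; exact hQ')
    have hfz' : f.base z' = f.base x := by
      apply base_eq_of_comap_primeIdealOf_eq f hV hU e hz'U hxU
      rw [hz']
      have h1 := Q'.2.2.over
      have h2 := hqlo.over
      rw [Ideal.under_def, halg] at h1 h2
      exact h1.symm.trans h2
    have := hzmax z' hfz' hz'z.mem_closure
    subst this
    change (hU.primeIdealOf ⟨z', hzU⟩).asIdeal ≤ Q'.1
    have : (hU.primeIdealOf ⟨z', hz'U⟩).asIdeal = Q'.1 := congrArg PrimeSpectrum.asIdeal hz'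
    rw [← this]

end Groth.Agent.S5924
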