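import Groth.Statements.S5925
import Groth.Agent.Lib.Helper73.EquidimCore
import Groth.Agent.Lib.Helper73.HypersurfaceDim
import Groth.Agent.S3456
-- import your own Groth.Agent.* helpers here

set_option autoImplicit false
open CategoryTheory AlgebraicGeometry
universe u
open EGA43

namespace Groth.Agent.S5925
open Groth.Agent.Lib.Helper73.SchemeDim

/-- Let Y be an irreducible locally Noetherian scheme, f : X ⟶ Y a morphism locally of finite type which
is equidimensional at the point x, y = f x and e = dim_x(f⁻¹(y)). Let g be a global section of O_X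
vanishing at x whose zero set X' contains no maximal point of f⁻¹(y). Then X', with its reduced
closed subscheme structure, is equidimensional over Y at x; dim_x(X' ∩ f⁻¹(y)) = e − 1; and every
irreducible component of X' containing x has codimension 1 in X, i.e. the local ring of X at its
generic point has Krull dimension 1. (Stated for a global section; the published statement takes g
on an affine open neighbourhood of x, to which this applies after restriction, and its codimension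
assertion codim(X', X) = 1 is read for the components of X' through x: a component of the zero set
not passing through x can be a whole irreducible component of X disjoint from the fibre, of
codimension 0.) -/
theorem result {X Y : Scheme.{u}} [IrreducibleSpace Y]
    [IsLocallyNoetherian Y] (f : X ⟶ Y) [LocallyOfFiniteType f] (x : X) (hf : EGA43.IsEquidimAt f x)
    (g : Γ(X, ⊤)) (hgx : x ∈ X.zeroLocus ({g} : Set Γ(X, ⊤)))
    (hmax : ∀ z : X, f.base z = f.base x → (∀ z' : X, f.base z' = f.base x → z ∈ closure ({z'} : Set X) → z' = z) →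
      z ∉ X.zeroLocus ({g} : Set Γ(X, ⊤))) :
    (∀ w : ↥(Scheme.IdealSheafData.vanishingIdeal ⟨X.zeroLocus ({g} : Set Γ(X, ⊤)), X.zeroLocus_isClosed _⟩).subscheme,
        (Scheme.IdealSheafData.vanishingIdeal ⟨X.zeroLocus ({g} : Set Γ(X, ⊤)), X.zeroLocus_isClosed _⟩).subschemeι.base w = x →
        EGA43.IsEquidimAt ((Scheme.IdealSheafData.vanishingIdeal ⟨X.zeroLocus ({g} : Set Γ(X, ⊤)), X.zeroLocus_isClosed _⟩).subschemeι ≫ f) w) ∧
      FlatMor.localDim ↥(X.zeroLocus ({g} : Set Γ(X, ⊤)) ∩ f.base ⁻¹' {f.base x}) ⟨x, ⟨hgx, rfl⟩⟩ + 1 = FlatMor.fibreDimAt f x ∧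
      ∀ Z ∈ irreducibleComponents ↥(X.zeroLocus ({g} : Set Γ(X, ⊤))), (⟨x, hgx⟩ : ↥(X.zeroLocus ({g} : Set Γ(X, ⊤)))) ∈ Z →
        ∀ ξ : ↥(X.zeroLocus ({g} : Set Γ(X, ⊤))), closure ({ξ} : Set ↥(X.zeroLocus ({g} : Set Γ(X, ⊤)))) = Z →
          ringKrullDim (X.presheaf.stalk (ξ : X)) = 1 := by
  haveI : IsLocallyNoetherian X := LocallyOfFiniteType.isLocallyNoetherian f
  have hTcl : IsClosed (X.zeroLocus ({g} : Set Γ(X, ⊤))) := X.zeroLocus_isClosed _
  obtain ⟨e, U, hxU, hA, hB⟩ := (isEquidimAt_iff f x).mp hf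
  have hFx : FlatMor.fibreDimAt f x = e := by
    obtain ⟨ζ₁, n₁, hζ₁sp, hζ₁f, hζ₁max, hnζ₁, hF⟩ := exists_maximal_in_fibre_trdeg_eq_fibreDimAt f x
    have h1 := hB ζ₁ (hζ₁sp.mem_open U.isOpen hxU) hζ₁max
    have : ((n₁ : ℕ) : Cardinal.{u}) = e := by rw [← hnζ₁, ← h1]
    have : n₁ = e := by exact_mod_cast this
    rw [hF, this]
  -- the key bound coming from `hmax`
  have hbound : ∀ ζ : X, ζ ∈ X.zeroLocus ({g} : Set Γ(X, ⊤)) → ζ ⤳ x → f.base ζ = f.base x → ∀ k : ℕ,
      @Algebra.trdeg (Y.residueField (f.base ζ)) (X.residueField ζ) _ _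
        (f.residueFieldMap ζ).hom.toAlgebra = k → k + 1 ≤ e := by
    intro ζ hζT hζx hζf k hk
    obtain ⟨ζ₁, n₁, hζ₁sp, hζ₁f, hζ₁max, hnζ₁, -⟩ := exists_maximal_in_fibre_trdeg_eq_fibreDimAt f ζ
    have hζ₁U : ζ₁ ∈ U := (hζ₁sp.trans hζx).mem_open U.isOpen hxU
    have h1 := hB ζ₁ hζ₁U hζ₁max
    have hζ₁T : ζ₁ ∉ X.zeroLocus ({g} : Set Γ(X, ⊤)) :=
      hmax ζ₁ (hζ₁f.trans hζf) (fun z' hz' hmem =>
        hζ₁max z' (specializes_iff_mem_closure.mpr hmem) (hz'.trans (hζ₁f.trans hζf).symm))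
    have hne : ζ₁ ≠ ζ := fun h => hζ₁T (h ▸ hζT)
    have := trdeg_lt_trdeg_of_specializes_of_fibre' f hζ₁sp hne hζ₁f e k h1 hk
    omega
  -- data of a maximal point of `V(g)` through `x`
  have hcomp : ∀ x' : X, x' ∈ X.zeroLocus ({g} : Set Γ(X, ⊤)) →
      (∀ z : X, z ∈ X.zeroLocus ({g} : Set Γ(X, ⊤)) → z ⤳ x' → z = x') → x' ⤳ x →
      ringKrullDim (X.presheaf.stalk x') = 1 ∧ f.base x' = genericPoint Y ∧
      ∃ d' : ℕ, d' + 1 = e ∧
        @Algebra.trdeg (Y.residueField (f.base x')) (X.residueField x') _ _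
          (f.residueFieldMap x').hom.toAlgebra = d' ∧
        (∀ ζ : X, ζ ∈ closure ({x'} : Set X) → ζ ⤳ x → f.base ζ = f.base x → ∀ n : ℕ,
          @Algebra.trdeg (Y.residueField (f.base ζ)) (X.residueField ζ) _ _
            (f.residueFieldMap ζ).hom.toAlgebra = n → n ≤ d') ∧
        (∃ ζ : X, ζ ∈ closure ({x'} : Set X) ∧ ζ ⤳ x ∧ f.base ζ = f.base x ∧
          @Algebra.trdeg (Y.residueField (f.base ζ)) (X.residueField ζ) _ _
            (f.residueFieldMap ζ).hom.toAlgebra = d') := by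
    intro x' hx'T hx'max hx'x
    have hsub : closure ({x'} : Set X) ⊆ X.zeroLocus ({g} : Set Γ(X, ⊤)) :=
      hTcl.closure_subset_iff.mpr (Set.singleton_subset_iff.mpr hx'T)
    have hxcl : x ∈ closure ({x'} : Set X) := hx'x.mem_closure
    obtain ⟨hL1, ζ₀, d₀, hζ₀T, hζ₀sp, hζ₀f, hnζ₀, hL⟩ :=
      localDim_closed_inter_fibre f (closure {x'}) isClosed_closure x ⟨hxcl, rfl⟩
    have hd₀ : d₀ + 1 ≤ e := hbound ζ₀ (hsub hζ₀T) hζ₀sp hζ₀f d₀ hnζ₀
    have hcodim := ringKrullDim_stalk_le_one_of_maximal_zeroLocus g x' hx'T hx'max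
    obtain ⟨h1, h2, h3, d', h4, h5⟩ := equidim_closed_irreducible_core f x hf
      ⟨closure {x'}, isClosed_closure⟩ x' rfl hxcl 1 (by exact_mod_cast hcodim) (by
        change FlatMor.localDim ↥(closure ({x'} : Set X) ∩ f.base ⁻¹' {f.base x}) ⟨x, ⟨hxcl, rfl⟩⟩ + 1 ≤ _
        rw [hL, hFx]
        exact_mod_cast hd₀)
    change FlatMor.localDim ↥(closure ({x'} : Set X) ∩ f.base ⁻¹' {f.base x}) ⟨x, ⟨hxcl, rfl⟩⟩ + _ = _ at h2
    change FlatMor.localDim ↥(closure ({x'} : Set X) ∩ f.base ⁻¹' {f.base x}) ⟨x, ⟨hxcl, rfl⟩⟩ = _ at h4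
    have hd'd₀ : d' = d₀ := by
      rw [hL] at h4
      exact_mod_cast h4.symm
    have hd'e : d' + 1 = e := by
      rw [hL, hFx] at h2
      rw [hd'd₀]
      exact_mod_cast h2
    refine ⟨by exact_mod_cast h1, h3, d', hd'e, h5, ?_, ?_⟩
    · intro ζ hζ hζx hζf n hn
      have := hL1 ζ hζ hζx hζf n hn
      rw [hL, ← hd'd₀] at this
      exact_mod_cast this
    · exact ⟨ζ₀, hζ₀T, hζ₀sp, hζ₀f, by rw [hd'd₀]; exact hnζ₀⟩
  haveI : QuasiSober ↥(X.zeroLocus ({g} : Set Γ(X, ⊤))) :=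
    hTcl.isClosedEmbedding_subtypeVal.quasiSober
  have hindT : Topology.IsInducing (Subtype.val : ↥(X.zeroLocus ({g} : Set Γ(X, ⊤))) → X) :=
    Topology.IsInducing.subtypeVal
  refine ⟨?_, ?_, ?_⟩
  · intro w hw
    set ι := (Scheme.IdealSheafData.vanishingIdeal
      ⟨X.zeroLocus ({g} : Set Γ(X, ⊤)), X.zeroLocus_isClosed _⟩).subschemeι with hι
    have hrange : Set.range ι.base = X.zeroLocus ({g} : Set Γ(X, ⊤)) := by
      rw [hι, Scheme.IdealSheafData.range_subschemeι, Scheme.IdealSheafData.coe_support_vanishingIdeal]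
      rfl
    set g' := ι ≫ f with hg'
    have hind := ι.isEmbedding.isInducing
    rw [Groth.Agent.S3456.result]
    refine ⟨e - 1, fun Xj hXj hwXj => ?_⟩
    obtain ⟨ω, hωmax, rfl⟩ := exists_maximal_closure_eq_of_mem_irreducibleComponents hXj
    have hωw : ω ⤳ w := specializes_iff_mem_closure.mpr hwXj
    have hx'T : ι.base ω ∈ X.zeroLocus ({g} : Set Γ(X, ⊤)) :=
      hrange.subset (Set.mem_range_self ω)
    have hx'max : ∀ z : X, z ∈ X.zeroLocus ({g} : Set Γ(X, ⊤)) → z ⤳ ι.base ω → z = ι.base ω := by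
      intro z hzT hz
      obtain ⟨ζ, rfl⟩ := hrange.superset hzT
      rw [hωmax ζ (hind.specializes_iff.mp hz)]
    have hx'x : ι.base ω ⤳ x := by rw [← hw]; exact hωw.map ι.continuous
    obtain ⟨hdim1, hfx', d', hd'e, hnx', hle, ζ₂, hζ₂T, hζ₂sp, hζ₂f, hnζ₂⟩ :=
      hcomp (ι.base ω) hx'T hx'max hx'x
    have he1 : e - 1 = d' := by omega
    rw [he1]
    have hnω : @Algebra.trdeg (Y.residueField (g'.base ω)) _ _ _
        (g'.residueFieldMap ω).hom.toAlgebra = d' := by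
      rw [trdeg_residueFieldMap_comp ι f ω]
      exact hnx'
    have hgω : g'.base ω = genericPoint Y := hfx'
    have himg : closure (g'.base '' closure ({ω} : Set _)) = Set.univ := by
      rw [closure_image_closure g'.continuous, Set.image_singleton, hgω]
      exact (genericPoint_spec Y).def
    refine ⟨?_, ?_, ?_⟩
    · rw [himg, irreducibleComponents_eq_singleton]
      rfl
    · intro η' hη'
      rw [himg] at hη'
      have hη'eq : η' = genericPoint Y := ((genericPoint_spec Y).eq hη').symm ▸ rfl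
      have h5 := topologicalKrullDim_closure_inter_fibre g' ω d' hnω
      rw [hη'eq, ← hgω]
      exact h5
    · obtain ⟨h1g, ζ, k, hζT, hζsp, hζf, hnζ, hLg⟩ :=
        localDim_closed_inter_fibre g' (closure ({ω} : Set _)) isClosed_closure w
          ⟨hwXj, Set.mem_singleton (g'.base w)⟩
      rw [hLg]
      have hwx : g'.base w = f.base x := by
        change f.base (ι.base w) = _
        rw [hw]
      have hk1 : k ≤ d' := by
        refine hle (ι.base ζ) ?_ ?_ ?_ k ?_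
        · exact ((specializes_iff_mem_closure.mpr hζT).map ι.continuous).mem_closure
        · rw [← hw]; exact hζsp.map ι.continuous
        · exact hζf.trans hwx
        · rw [← trdeg_residueFieldMap_comp ι f ζ]
          exact hnζ
      have hk2 : d' ≤ k := by
        obtain ⟨ζ₂', rfl⟩ := hrange.superset
          (hTcl.closure_subset_iff.mpr (Set.singleton_subset_iff.mpr hx'T) hζ₂T)
        have h7 := h1g ζ₂' ?_ ?_ ?_ d' ?_
        · rw [hLg] at h7
          exact_mod_cast h7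
        · exact (hind.specializes_iff.mp (specializes_iff_mem_closure.mpr hζ₂T)).mem_closure
        · rw [← hind.specializes_iff, hw]; exact hζ₂sp
        · exact hζ₂f.trans hwx.symm
        · rw [trdeg_residueFieldMap_comp ι f ζ₂']
          exact hnζ₂
      rw [le_antisymm hk1 hk2]
  · obtain ⟨h1, ζ, d, hζT, hζsp, hζf, hnζ, hL⟩ :=
      localDim_closed_inter_fibre f (X.zeroLocus ({g} : Set Γ(X, ⊤))) hTcl x ⟨hgx, rfl⟩
    rw [hL, hFx]
    have hd1 : d + 1 ≤ e := hbound ζ hζT hζsp hζf d hnζ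
    obtain ⟨ξ, hξmax, hξx⟩ := exists_maximal_specializes (⟨x, hgx⟩ : ↥(X.zeroLocus ({g} : Set Γ(X, ⊤))))
    have hξ1max : ∀ z : X, z ∈ X.zeroLocus ({g} : Set Γ(X, ⊤)) → z ⤳ ξ.1 → z = ξ.1 := by
      intro z hzT hz
      have : (⟨z, hzT⟩ : ↥(X.zeroLocus ({g} : Set Γ(X, ⊤)))) ⤳ ξ := hindT.specializes_iff.mp hz
      exact congrArg Subtype.val (hξmax _ this)
    have hξ1x : ξ.1 ⤳ x := hξx.map continuous_subtype_val
    obtain ⟨-, -, d', hd'e, -, -, ζ₂, hζ₂T, hζ₂sp, hζ₂f, hnζ₂⟩ := hcomp ξ.1 ξ.2 hξ1max hξ1x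
    have h2 := h1 ζ₂ (hTcl.closure_subset_iff.mpr (Set.singleton_subset_iff.mpr ξ.2) hζ₂T)
      hζ₂sp hζ₂f d' hnζ₂
    rw [hL] at h2
    have hd2 : d' ≤ d := by exact_mod_cast h2
    have : d + 1 = e := by omega
    exact_mod_cast this
  · intro Z hZ hxZ ξ hξ
    have hξmax : ∀ ξ' : ↥(X.zeroLocus ({g} : Set Γ(X, ⊤))), ξ' ⤳ ξ → ξ' = ξ := by
      apply maximal_of_closure_singleton_mem_irreducibleComponents
      rw [hξ]; exact hZ
    have hξ1max : ∀ z : X, z ∈ X.zeroLocus ({g} : Set Γ(X, ⊤)) → z ⤳ ξ.1 → z = ξ.1 := by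
      intro z hzT hz
      have : (⟨z, hzT⟩ : ↥(X.zeroLocus ({g} : Set Γ(X, ⊤)))) ⤳ ξ := hindT.specializes_iff.mp hz
      exact congrArg Subtype.val (hξmax _ this)
    have hξx : ξ ⤳ (⟨x, hgx⟩ : ↥(X.zeroLocus ({g} : Set Γ(X, ⊤)))) := by
      rw [specializes_iff_mem_closure, hξ]; exact hxZ
    have hξ1x : ξ.1 ⤳ x := hξx.map continuous_subtype_val
    exact (hcomp ξ.1 ξ.2 hξ1max hξ1x).1

end Groth.Agent.S5925
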