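import Groth.Statements.S5934
import Groth.Agent.S2156
-- import your own Groth.Agent.* helpers here

set_option autoImplicit false
open CategoryTheory AlgebraicGeometry
universe u
open EGA43

namespace Groth.Agent.S5934

/-- Let f : X ⟶ Y be a proper, flat morphism of finite presentation. The set of points y of Y whose
fibre X_y is geometrically regular, i.e. smooth over the residue field κ(y), is open in Y. -/
theorem result {X Y : Scheme.{u}} (f : X ⟶ Y) [IsProper f] [Flat f]
    [LocallyOfFinitePresentation f] :
    IsOpen {y : Y | Smooth (f.fiberToSpecResidueField y)} := by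
  have hlfp : ∀ y : Y, LocallyOfFinitePresentation (f.fiberToSpecResidueField y) := fun y ↦
    MorphismProperty.pullback_snd (P := @LocallyOfFinitePresentation) _ _ inferInstance
  have hflat : ∀ x : X, (f.stalkMap x).hom.Flat := (Flat.iff_flat_stalkMap f).mp inferInstance
  have key : {y : Y | Smooth (f.fiberToSpecResidueField y)} =
      (f '' ((f.smoothLocus : Set X)ᶜ))ᶜ := by
    ext y
    simp only [Set.mem_setOf_eq, Set.mem_compl_iff, Set.mem_image, not_exists, not_and]
    constructor
    · intro H x hx hxy
      subst hxy
      have := hlfp (f x)
      refine hx ((Groth.Agent.S2156.result f x).mpr ⟨hflat x, ?_⟩)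
      rw [Scheme.Hom.smoothLocus_eq_top (f.fiberToSpecResidueField (f x))]
      trivial
    · intro H
      have := hlfp y
      rw [← Scheme.Hom.smoothLocus_eq_top_iff]
      refine top_le_iff.mp fun z _ ↦ ?_
      have hx : f (f.fiberι y z) = y := by
        have : f.fiberι y z ∈ Set.range (f.fiberι y) := ⟨z, rfl⟩
        rw [Scheme.Hom.range_fiberι] at this
        exact this
      generalize hx' : f.fiberι y z = x at hx
      subst hx
      have hz : z = f.asFiber x := by
        apply (f.fiberι (f x)).isEmbedding.injective
        rw [hx', Scheme.Hom.fiberι_asFiber]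
      subst hz
      have hxs : x ∈ f.smoothLocus := by
        by_contra hxs
        exact H x hxs rfl
      exact ((Groth.Agent.S2156.result f x).mp hxs).2
  rw [key]
  exact (f.isClosedMap _ f.smoothLocus.isOpen.isClosed_compl).isOpen_compl

end Groth.Agent.S5934
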