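import Groth.Statements.S5939
import Mathlib

set_option autoImplicit false
universe u
open CategoryTheory AlgebraicGeometry
open Unram17

namespace Groth.Agent.S5939

/-- Let f : X ⟶ Y be faithfully flat, locally of finite presentation and quasi-compact, and let g : Y ⟶
Z be a morphism such that f ≫ g is of finite presentation (locally of finite presentation,
quasi-compact and quasi-separated). Then g is quasi-compact and quasi-separated; together with the
descent of local finite presentation along f this says that g is of finite presentation. This is the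
case f quasi-compact. -/
theorem result {X Y Z : Scheme.{u}} (f : X ⟶ Y) (g : Y ⟶ Z)
    [Surjective f] [Flat f] [LocallyOfFinitePresentation f] [QuasiCompact f]
    [LocallyOfFinitePresentation (f ≫ g)] [QuasiCompact (f ≫ g)] [QuasiSeparated (f ≫ g)] :
    QuasiCompact g ∧ QuasiSeparated g := by
  have hsurj : Function.Surjective f.base := Surjective.surj
  refine ⟨⟨?_⟩, ?_⟩
  · intro U hUo hUc
    have h1 : IsCompact ((f ≫ g).base ⁻¹' U) :=
      QuasiCompact.isCompact_preimage (f := f ≫ g) U hUo hUc
    have h2 : g.base ⁻¹' U = f.base '' ((f ≫ g).base ⁻¹' U) := by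
      ext y
      constructor
      · intro hy
        obtain ⟨x, rfl⟩ := hsurj y
        exact ⟨x, by simpa using hy, rfl⟩
      · rintro ⟨x, hx, rfl⟩
        simpa using hx
    rw [h2]
    exact h1.image f.continuous
  · rw [HasAffineProperty.eq_targetAffineLocally (P := @QuasiSeparated)]
    intro U
    show QuasiSeparatedSpace ↥(g ⁻¹ᵁ U.1)
    refine (isQuasiSeparated_iff_quasiSeparatedSpace _ (g ⁻¹ᵁ U.1).2).mp ?_
    have hX : IsQuasiSeparated (((f ≫ g) ⁻¹ᵁ U.1 : X.Opens) : Set X) :=
      Scheme.Hom.isQuasiSeparated_preimage (f := f ≫ g) U.2.isQuasiSeparated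
    intro A B hA hAo hAc hB hBo hBc
    have hfA : IsCompact (f.base ⁻¹' A) := QuasiCompact.isCompact_preimage (f := f) A hAo hAc
    have hfB : IsCompact (f.base ⁻¹' B) := QuasiCompact.isCompact_preimage (f := f) B hBo hBc
    have hsub : ∀ {S : Set Y}, S ⊆ ((g ⁻¹ᵁ U.1 : Y.Opens) : Set Y) →
        f.base ⁻¹' S ⊆ (((f ≫ g) ⁻¹ᵁ U.1 : X.Opens) : Set X) := by
      intro S hS x hx
      have := hS hx
      simpa using this
    have h3 : IsCompact (f.base ⁻¹' A ∩ f.base ⁻¹' B) :=
      hX _ _ (hsub hA) (hAo.preimage f.continuous) hfA (hsub hB) (hBo.preimage f.continuous) hfB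
    have h4 : A ∩ B = f.base '' (f.base ⁻¹' A ∩ f.base ⁻¹' B) := by
      rw [← Set.preimage_inter, Set.image_preimage_eq _ hsurj]
    rw [h4]
    exact h3.image f.continuous

end Groth.Agent.S5939
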