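import Groth.Statements.S5961
import Groth.Agent.Lib.Helper61.PrinPartOne
import Groth.Agent.Lib.QCoh.Helper74_LocFreeLift

set_option autoImplicit false
universe u
open CategoryTheory CategoryTheory.Limits AlgebraicGeometry TopologicalSpace Opposite
open Nrm16

namespace Groth.Agent.S5961

section Aux

open Groth.Agent.Lib.Helper61.PrinPartOne Groth.Agent.Lib.QCoh.Lift74

variable {X S : Scheme.{u}} (f : X ⟶ S) (G : X.Modules)
  (D : (Coh.structureModule X).presheaf ⟶ G.presheaf)

/-- `D` on functions -/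
noncomputable def Dfn (U : X.Opens) : Γ(X, U) →+ Γ(G, U) :=
  (D.app (op U)).hom.comp (OmegaSh.strSect X U)

theorem Dfn_apply (U : X.Opens) (a : Γ(X, U)) :
    Dfn G D U a = D.app (op U) (OmegaSh.strSect X U a) := rfl

theorem Dfn_res {U V : X.Opens} (i : V ⟶ U) (a : Γ(X, U)) :
    G.presheaf.map i.op (Dfn G D U a) = Dfn G D V (X.presheaf.map i.op a) :=
  (congr($(D.naturality i.op) (OmegaSh.strSect X U a))).symm

variable {G D}
variable (u : PrinPart.PMod f 1 (Coh.structureModule X) ⟶ G)
  (hu : ∀ (U : X.Opens) (t : Γ(Coh.structureModule X, U)),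
    D.app (op U) t = u.app U (PrinPart.dP f 1 (Coh.structureModule X) U t))

include hu in
theorem Dfn_mul (U : X.Opens) (a b : Γ(X, U)) :
    Dfn G D U (a * b) = a • Dfn G D U b + b • Dfn G D U a - (a * b) • Dfn G D U 1 := by
  simp only [Dfn_apply, hu]
  rw [dP_one_mul, map_sub, map_add, Scheme.Modules.Hom.app_smul, Scheme.Modules.Hom.app_smul,
    Scheme.Modules.Hom.app_smul]

include hu in
theorem Dfn_base (V : S.Opens) (c : Γ(S, V)) :
    Dfn G D (f ⁻¹ᵁ V) (f.app V c) = (f.app V c) • Dfn G D (f ⁻¹ᵁ V) 1 := by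
  simp only [Dfn_apply, hu]
  rw [dP_base, Scheme.Modules.Hom.app_smul]

/-- the derivation part on sections -/
noncomputable def dfun (G : X.Modules) (D : (Coh.structureModule X).presheaf ⟶ G.presheaf)
    (U : X.Opens) : Γ(X, U) →+ Γ(G, U) :=
  AddMonoidHom.mk' (fun a => Dfn G D U a - a • Dfn G D U 1) (by
    intro a b
    rw [map_add, add_smul]
    abel)

theorem dfun_apply (U : X.Opens) (a : Γ(X, U)) :
    dfun G D U a = Dfn G D U a - a • Dfn G D U 1 := rfl

include hu in
theorem dfun_mul (U : X.Opens) (a b : Γ(X, U)) :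
    dfun G D U (a * b) = a • dfun G D U b + b • dfun G D U a := by
  rw [dfun_apply, dfun_apply, dfun_apply, Dfn_mul f u hu, smul_sub, smul_sub, ← mul_smul, ← mul_smul,
    mul_comm b a]
  abel

theorem dfun_res {U V : X.Opens} (i : V ⟶ U) (a : Γ(X, U)) :
    dfun G D V (X.presheaf.map i.op a) = G.presheaf.map i.op (dfun G D U a) := by
  have h1 : (X.presheaf.map i.op).hom (1 : Γ(X, U)) = 1 := map_one _
  rw [dfun_apply, dfun_apply, map_sub, Scheme.Modules.map_smul, Dfn_res, Dfn_res, h1]

include hu in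
theorem dfun_base (V : S.Opens) (c : Γ(S, V)) : dfun G D (f ⁻¹ᵁ V) (f.app V c) = 0 := by
  rw [dfun_apply, Dfn_base f u hu, sub_self]

/-- the derivation part -/
noncomputable def der : OmegaSh.Der f G where
  d {U} := dfun G D U.unop
  d_mul {U} a b := dfun_mul f u hu U.unop a b
  d_map {U V} g x := dfun_res (G := G) (D := D) g.unop x
  d_app {V} c := dfun_base f u hu V.unop c

theorem unitHom_app (G : X.Modules) (D : (Coh.structureModule X).presheaf ⟶ G.presheaf)
    (U : X.Opens) (a : Γ(X, U)) :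
    (unitHomOfTop G (Dfn G D ⊤ 1)).app U (OmegaSh.strSect X U a) = a • Dfn G D U 1 := by
  have h0 : OmegaSh.strSect X U a = a • OmegaSh.strSect X U 1 := by
    rw [← OmegaSh.strSect_mul, mul_one]
  rw [h0, Scheme.Modules.Hom.app_smul]
  congr 1
  have h1 := Groth.Agent.Lib.Helper61.PrinPartMap.app_res (unitHomOfTop G (Dfn G D ⊤ 1))
    (homOfLE le_top : U ⟶ ⊤) (OmegaSh.strSect X ⊤ 1)
  have h2 : (Coh.structureModule X).presheaf.map (homOfLE le_top : U ⟶ ⊤).op
      (OmegaSh.strSect X ⊤ 1) = OmegaSh.strSect X U 1 := by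
    rw [← OmegaSh.strSect_map]
    congr 1
    exact map_one _
  rw [h2] at h1
  rw [h1]
  have h3 : (unitHomOfTop G (Dfn G D ⊤ 1)).app ⊤ (OmegaSh.strSect X ⊤ 1) = Dfn G D ⊤ 1 :=
    unitHomOfTop_app_one G _
  have h4 : (X.presheaf.map (homOfLE le_top : U ⟶ ⊤).op).hom (1 : Γ(X, ⊤)) = 1 := map_one _
  rw [h3, Dfn_res, h4]

end Aux

/-- Let f : X ⟶ S be a morphism of schemes, G an O_X-module and D : O_X ⟶ G a differential operator of
order at most 1 relative to S. Then D can be written in exactly one way as v + d with v : O_X ⟶ G an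
O_X-linear map and d an S-derivation of O_X into G. -/
theorem result {X S : Scheme.{u}} (f : X ⟶ S) (G : X.Modules)
    (D : (Coh.structureModule X).presheaf ⟶ G.presheaf)
    (hD : PrinPart.IsDiffOpLE f (Coh.structureModule X) G 1 D) :
    ∃! p : (Coh.structureModule X ⟶ G) × OmegaSh.Der f G,
      ∀ (U : X.Opens) (a : Γ(X, U)),
        D.app (op U) (OmegaSh.strSect X U a) = p.1.app U (OmegaSh.strSect X U a) + p.2.app U a := by
  obtain ⟨u, hu⟩ := hD
  refine ⟨(Groth.Agent.Lib.QCoh.Lift74.unitHomOfTop G (Dfn G D ⊤ 1), der f u hu), ?_, ?_⟩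
  · intro U a
    change _ = _ + dfun G D U a
    rw [unitHom_app, dfun_apply, ← Dfn_apply]
    abel
  · rintro ⟨v', d'⟩ h
    have hv1 : ∀ U : X.Opens, v'.app U (OmegaSh.strSect X U 1) = Dfn G D U 1 := by
      intro U
      have h1 := h U 1
      have h2 : d'.app U 1 = 0 := PresheafOfModules.Derivation.d_one d' (op U)
      rw [h2, add_zero] at h1
      exact h1.symm
    have hv : v' = Groth.Agent.Lib.QCoh.Lift74.unitHomOfTop G (Dfn G D ⊤ 1) := by
      apply Groth.Agent.Lib.QCoh.Lift74.unitHom_ext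
      exact (hv1 ⊤).trans (Groth.Agent.Lib.QCoh.Lift74.unitHomOfTop_app_one G _).symm
    have hd : d' = der f u hu := by
      apply PresheafOfModules.Derivation.ext
      funext U
      apply AddMonoidHom.ext
      intro a
      have h1 := h U.unop a
      change _ = _ + d'.d a at h1
      change d'.d a = dfun G D U.unop a
      rw [dfun_apply, Dfn_apply, h1, hv, unitHom_app]
      exact (add_sub_cancel_left _ _).symm
    rw [hv, hd]

end Groth.Agent.S5961
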