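import Groth.Statements.S5968
import Groth.Agent.S5965
import Groth.Agent.Lib.QCoh.Helper50_FinitePush
import Groth.Agent.Lib.QCoh.Helper74_FittComap
import Groth.Agent.Lib.QCoh.Helper50_Pullback

set_option autoImplicit false
universe u
open CategoryTheory CategoryTheory.Limits AlgebraicGeometry TopologicalSpace Opposite
open Nrm16

namespace Groth.Agent.S5968

/-- Consider a morphism f : X ⟶ S that is locally of finite type, fix a natural number n, and suppose F
is an O_X-module which is quasi-coherent and of finite type. Regarded as an O_X-module through its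
left structure, the sheaf of principal parts P^n_{X/S}(F) is again quasi-coherent and of finite
type. (The published result covers both O_X-module structures on P^n_{X/S}(F); here only the left
one is treated, since that is the structure the sheaf of principal parts is given in this
formalization.) -/
theorem result {X S : Scheme.{u}} (f : X ⟶ S) [LocallyOfFiniteType f] (n : ℕ)
    (F : X.Modules) (hF : Coh.IsCoh F) :
    Coh.IsCoh (PrinPart.PMod f n F) := by
  have hF1 : F.IsQuasicoherent := hF.1
  have hF2 : F.IsFiniteType := hF.2
  -- `pr1` is finite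
  let g : ((Limits.pullback.diagonal f).coborderRange : Scheme.{u}) ⟶ X :=
    (Limits.pullback.diagonal f).coborderRange.ι ≫ Limits.pullback.fst f f
  have hsec : PrinPart.diagCl f ≫ g = 𝟙 X := by
    change (Limits.pullback.diagonal f).liftCoborder ≫
      (Limits.pullback.diagonal f).coborderRange.ι ≫ Limits.pullback.fst f f = 𝟙 X
    rw [← Category.assoc, Scheme.Hom.liftCoborder_ι]
    exact Limits.pullback.diagonal_fst f
  have hfin : IsFinite (PrinPart.pr1 f n) := by
    have h := Groth.Agent.S5965.result g (PrinPart.diagCl f) hsec n
    have e : PrinPart.pr1 f n = PrinPart.infNbhdι (PrinPart.diagCl f) n ≫ g := by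
      change (PrinPart.infNbhdι (PrinPart.diagCl f) n ≫
        (Limits.pullback.diagonal f).coborderRange.ι) ≫ Limits.pullback.fst f f = _
      rw [Category.assoc]
    rw [e]
    exact h
  have hP1 : ((Scheme.Modules.pullback (PrinPart.pr2 f n)).obj F).IsQuasicoherent :=
    Groth.Agent.Lib.QCoh.isQuasicoherent_pullback (PrinPart.pr2 f n) F
  have hP2 : ((Scheme.Modules.pullback (PrinPart.pr2 f n)).obj F).IsFiniteType :=
    Groth.Agent.Lib.QCoh.FittSheaf74.isFiniteType_pullback (PrinPart.pr2 f n) F
  exact ⟨Groth.Agent.Lib.QCoh.isQuasicoherent_pushforward_of_isAffineHom (PrinPart.pr1 f n) _,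
    Groth.Agent.Lib.QCoh.isFiniteType_pushforward_of_isFinite (PrinPart.pr1 f n) _⟩

end Groth.Agent.S5968
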