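import Groth.Statements.S5973
import Groth.Agent.Lib.QCoh.Helper50_QAffIdeal
import Groth.Agent.Lib.QCoh.Helper74_FittComap
import Groth.Agent.Lib.QCoh.OmegaS1
import Groth.Agent.Lib.QCoh.Helper50_Pullback

set_option autoImplicit false
universe u
open CategoryTheory CategoryTheory.Limits AlgebraicGeometry TopologicalSpace Opposite
open Nrm16

namespace Groth.Agent.S5973

/-- Let f : Y ⟶ X be a closed immersion which is locally of finite presentation. Then for every n the
n-th graded piece Gr_n(f) = I^n/I^(n+1) of the ideal of f, as an O_Y-module, is quasi-coherent of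
finite type. (The published statement allows any immersion locally of finite presentation; this row
states the case of a closed immersion.) -/
theorem result {Y X : Scheme.{u}} (f : Y ⟶ X) [IsClosedImmersion f]
    [LocallyOfFinitePresentation f] (n : ℕ) :
    Coh.IsCoh (PrinPart.grMod f n) := by
  have hfg : ∀ V : X.affineOpens, ((f.ker ^ n).ideal V).FG := by
    intro V
    rw [Scheme.IdealSheafData.ideal_pow]
    change ((f.ker.ideal V) ^ n).FG
    apply Submodule.FG.pow
    rw [Scheme.Hom.ker_apply]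
    have hV' : IsAffineOpen (f ⁻¹ᵁ V.1) := V.2.preimage f
    have hfp : (f.appLE V.1 (f ⁻¹ᵁ V.1) le_rfl).hom.FinitePresentation :=
      HasRingHomProperty.appLE (P := @LocallyOfFinitePresentation) f inferInstance
        ⟨V.1, V.2⟩ ⟨f ⁻¹ᵁ V.1, hV'⟩ le_rfl
    have happ : f.appLE V.1 (f ⁻¹ᵁ V.1) le_rfl = f.app V.1 := Scheme.Hom.appLE_eq_app f
    rw [happ] at hfp
    letI : Algebra Γ(X, V.1) Γ(Y, f ⁻¹ᵁ V.1) := (f.app V.1).hom.toAlgebra
    have hfp' : Algebra.FinitePresentation Γ(X, V.1) Γ(Y, f ⁻¹ᵁ V.1) := hfp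
    exact Algebra.FinitePresentation.ker_fG_of_surjective
      (Algebra.ofId Γ(X, V.1) Γ(Y, f ⁻¹ᵁ V.1)) (f.app_surjective V.1 V.2)
  have h1 : (ClSub.idealMod (f.ker ^ n)).IsQuasicoherent :=
    Groth.Agent.Lib.QCoh.isQuasicoherent_idealMod _
  have h2 : (ClSub.idealMod (f.ker ^ n)).IsFiniteType :=
    Groth.Agent.Lib.QCoh.QAffIdeal.isFiniteType_idealMod _ hfg
  exact ⟨Groth.Agent.Lib.QCoh.isQuasicoherent_pullback f _,
    Groth.Agent.Lib.QCoh.FittSheaf74.isFiniteType_pullback f _⟩

end Groth.Agent.S5973
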