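import Groth.Statements.S5983
import Groth.Agent.Lib.Helper9.LimRegImm
import Groth.Agent.Lib.Helper24.Lim8Flat
-- import your own Groth.Agent.* helpers here

set_option autoImplicit false
universe u
open CategoryTheory AlgebraicGeometry
open CInt

namespace Groth.Agent.S5983

/-- Let S = lim S_i be a cofiltered limit of schemes with affine, flat transition maps, S_{i₀} a stage
and j₀ : X₀ ⟶ S_{i₀} an immersion with X₀ quasi-compact; assume either that every S_i is locally
Noetherian, or that every transition map is surjective and j₀ is locally of finite presentation.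
Then the base change X₀ ×_{S_{i₀}} S ⟶ S of j₀ is a regular immersion if and only if, for some index
j over i₀, the base change X₀ ×_{S_{i₀}} S_j ⟶ S_j is a regular immersion. -/
theorem result {I : Type u} [SmallCategory I] [IsCofiltered I]
    (D : I ⥤ Scheme.{u}) (c : Limits.Cone D) (hc : Limits.IsLimit c)
    [∀ (i j : I) (f : i ⟶ j), IsAffineHom (D.map f)]
    (hflat : ∀ (i j : I) (f : i ⟶ j), Flat (D.map f))
    (i₀ : I) {X₀ : Scheme.{u}} (j₀ : X₀ ⟶ D.obj i₀) [CompactSpace X₀] [IsImmersion j₀]
    (hcase : (∀ i : I, IsLocallyNoetherian (D.obj i)) ∨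
      ((∀ (i j : I) (f : i ⟶ j), Surjective (D.map f)) ∧ LocallyOfFinitePresentation j₀)) :
    RegImm.IsRegularImmersion RegImm.Kind.regular (Limits.pullback.snd j₀ (c.π.app i₀)) ↔
      ∃ (j : I) (φ : j ⟶ i₀),
        RegImm.IsRegularImmersion RegImm.Kind.regular (Limits.pullback.snd j₀ (D.map φ)) := by
  haveI : ∀ {i j : I} (f : i ⟶ j), IsAffineHom (D.map f) := fun f => inferInstance
  have hcase' : (∀ i : I, IsLocallyNoetherian (D.obj i)) ∨
      ∀ (i j : I) (f : i ⟶ j), Surjective (D.map f) := by
    rcases hcase with h | h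
    · exact Or.inl h
    · exact Or.inr h.1
  constructor
  · intro h
    rw [Groth.Agent.Lib.Helper9.LimRegImm.regular_snd_iff_fst] at h
    obtain ⟨T, hT⟩ := Groth.Agent.Lib.Helper9.LimRegImm.exists_stage D c hc hflat hcase' i₀ j₀ h
    refine ⟨T.left, T.hom, ?_⟩
    rw [Groth.Agent.Lib.Helper9.LimRegImm.regular_snd_iff_fst]
    exact hT
  · rintro ⟨j, φ, h⟩
    rw [Groth.Agent.Lib.Helper9.LimRegImm.regular_snd_iff_fst] at h ⊢
    haveI : Flat (c.π.app (Over.mk φ).left) :=
      Groth.Agent.Lib.Helper24.Lim8.flat_π_app D c hc j (fun l ψ => hflat l j ψ)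
    exact Groth.Agent.Lib.Helper91.RegBC.isRegularImmersion_of_isPullback_of_flat
      (Groth.Agent.Lib.Helper24.Lim8.isPullback_pbCone_π D c i₀ j₀ (Over.mk φ)) _ h

end Groth.Agent.S5983
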