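import Groth.Statements.S5985
import Groth.Agent.Lib.Helper35.QFSplit5

set_option autoImplicit false
universe u
open CategoryTheory AlgebraicGeometry
open Unram

namespace Groth.Agent.S5985

section Helpers

open Groth.Agent.Lib.Helper35.QFSplit Limits

theorem aux {X Y : Scheme.{u}} (f : X ⟶ Y)
    [LocallyOfFiniteType f] [IsSeparated f] (y : Y) (hfin : (f ⁻¹' {y}).Finite) :
    ∃ (Y' : Scheme.{u}) (g : Y' ⟶ Y) (y' : Y'), Etale g ∧ g y' = y ∧
      IsIso (g.residueFieldMap y') ∧
      ∃ (V W : (Limits.pullback f g).Opens), IsCompl V W ∧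
        IsFinite (V.ι ≫ Limits.pullback.snd f g) ∧
        ∀ x : ↥(Limits.pullback f g), Limits.pullback.snd f g x = y' → x ∈ V := by
  classical
  have : Finite (f ⁻¹' {y} : Set X) := hfin
  let n₀ := Nat.card (f ⁻¹' {y} : Set X)
  let e₀ : (f ⁻¹' {y} : Set X) ≃ Fin n₀ := Finite.equivFin _
  let x : Fin n₀ → X := fun i => (e₀.symm i).1
  have hs : ∀ i, f (x i) = y := fun i => (e₀.symm i).2
  have hsurj : ∀ z : X, f z = y → ∃ i, x i = z := fun z hz =>
    ⟨e₀ ⟨z, hz⟩, by simp [x]⟩
  have hx : ∀ i, f.QuasiFiniteAt (x i) := fun i =>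
    quasiFiniteAt_of_finite_fibre f (x i) (by rw [hs i]; exact hfin)
  obtain ⟨U, g, u, hg, hgu, hres, V, hVcl, hVfin, hV1, hV2⟩ :=
    exists_clopen_finite f y x hs hx
  refine ⟨U, g, u, hg, hgu, (ConcreteCategory.isIso_iff_bijective _).mpr hres, V,
    ⟨(V : Set ↑(pullback f g))ᶜ, hVcl.isOpen_compl⟩, ?_, hVfin, ?_⟩
  · simp [isCompl_iff, disjoint_iff, codisjoint_iff, SetLike.ext'_iff]
  · intro w hw
    have h1 : f (pullback.fst f g w) = y := by
      rw [← Scheme.Hom.comp_apply, pullback.condition, Scheme.Hom.comp_apply, hw, hgu]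
    obtain ⟨i, hi⟩ := hsurj _ h1
    exact hV1 i w hw hi.symm

end Helpers

/-- Let f : X ⟶ Y be separated and locally of finite type, and y a point of Y whose fibre f⁻¹(y) is
finite (hence discrete). Then there are an étale morphism g : Y' ⟶ Y, a point y' of Y' with g(y') =
y inducing an isomorphism of residue fields κ(y) ≅ κ(y'), and two complementary open subschemes V, W
of X' = X ×_Y Y' such that V ⟶ Y' is finite and W contains no point of X' lying over y'. -/
theorem result {X Y : Scheme.{u}} (f : X ⟶ Y)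
    [LocallyOfFiniteType f] [IsSeparated f] (y : Y) (hfin : (f ⁻¹' {y}).Finite) :
    ∃ (Y' : Scheme.{u}) (g : Y' ⟶ Y) (y' : Y'), Etale g ∧ g y' = y ∧
      IsIso (g.residueFieldMap y') ∧
      ∃ (V W : (Limits.pullback f g).Opens), IsCompl V W ∧
        IsFinite (V.ι ≫ Limits.pullback.snd f g) ∧
        ∀ x : ↥(Limits.pullback f g), Limits.pullback.snd f g x = y' → x ∈ V := by
  exact aux f y hfin

end Groth.Agent.S5985
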