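import Groth.Statements.S5987
import Mathlib
import Groth.Agent.Lib.Helper29.CM
import Groth.Agent.Lib.Helper58.NV1
import Groth.Agent.Lib.Helper77.Vasc2

set_option autoImplicit false
universe u
open EGA418

namespace Groth.Agent.S5987

open RingTheory.Sequence IsLocalRing

theorem ofList_take_ofFn {R : Type u} [CommRing R] {s : ℕ} (t : Fin s → R) (k : ℕ) :
    Ideal.ofList ((List.ofFn t).take k) = Ideal.span (t '' {j : Fin s | j.val < k}) := by
  unfold Ideal.ofList
  congr 1
  ext r
  simp only [Set.mem_setOf_eq, Set.mem_image, List.mem_take_iff_getElem, List.getElem_ofFn,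
    List.length_ofFn]
  constructor
  · rintro ⟨i, hi, rfl⟩
    exact ⟨⟨i, (lt_min_iff.1 hi).2⟩, (lt_min_iff.1 hi).1, rfl⟩
  · rintro ⟨j, hj, rfl⟩
    exact ⟨j.val, lt_min_iff.2 ⟨hj, j.isLt⟩, rfl⟩

theorem key {R : Type u} [CommRing R] [LocCoh.IsCohenMacaulayLocalRing R] (s : ℕ)
    (hs : ringKrullDim R = s) (t : Fin s → R) (ht : ∀ i, t i ∈ maximalIdeal R)
    (hsop : ringKrullDim (R ⧸ Ideal.span (Set.range t)) = 0) (k : ℕ) (hk : k < s)
    (Q : Ideal R) (hQ : Q ∈ (Ideal.span (t '' {j : Fin s | j.val < k})).minimalPrimes) :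
    t ⟨k, hk⟩ ∉ Q := by
  have hCM : LocCoh.IsCohenMacaulayModule R R :=
    LocCoh.IsCohenMacaulayLocalRing.supportDim_eq_depth
  have hmem : ∀ x ∈ List.ofFn t, x ∈ maximalIdeal R := by
    intro x hx
    obtain ⟨i, rfl⟩ := (List.mem_ofFn' t x).1 hx
    exact ht i
  have h1 := (Groth.Agent.Lib.Helper29.CMLib.isWeaklyRegular_iff_of_isCM R (List.ofFn t) R hCM hmem).1
  have hof : Ideal.ofList (List.ofFn t) = Ideal.span (Set.range t) := by
    unfold Ideal.ofList
    congr 1
    ext r
    simp [List.mem_ofFn']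
  have hreg : IsWeaklyRegular R (List.ofFn t) := by
    rw [h1, hof, List.length_ofFn]
    have e : (R ⧸ (Ideal.span (Set.range t) • (⊤ : Submodule R R))) ≃ₗ[R]
        (R ⧸ Ideal.span (Set.range t)) :=
      Submodule.quotEquivOfEq _ _ (by simp)
    rw [Module.supportDim_eq_of_equiv e, Module.supportDim_quotient_eq_ringKrullDim, hsop,
      Module.supportDim_self_eq_ringKrullDim, hs, zero_add]
  have h2 := hreg.regular_mod_prev k (by simpa using hk)
  rw [ofList_take_ofFn] at h2
  have h3 := h2.notMem_of_mem_minimalPrimes (p := Q) (by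
    have : Module.annihilator R (R ⧸ (Ideal.span (t '' {j : Fin s | j.val < k}) •
        (⊤ : Submodule R R))) = Ideal.span (t '' {j : Fin s | j.val < k}) := by
      have e : (R ⧸ (Ideal.span (t '' {j : Fin s | j.val < k}) • (⊤ : Submodule R R))) ≃ₗ[R]
          (R ⧸ Ideal.span (t '' {j : Fin s | j.val < k})) :=
        Submodule.quotEquivOfEq _ _ (by simp)
      rw [e.annihilator_eq, Ideal.annihilator_quotient]
    rw [this]
    exact hQ)
  simpa using h3


theorem aux (A : Type u) [CommRing A] [IsNoetherianRing A] [IsLocalRing A] (p : Ideal A) [p.IsPrime]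
    (R : Type u) [CommRing R] [Algebra A R] [IsLocalization.AtPrime R p]
    [LocCoh.IsCohenMacaulayLocalRing R] (s : ℕ)
    (hs : ringKrullDim R = s) (t : Fin s → R)
    (ht : ∀ i, t i ∈ IsLocalRing.maximalIdeal R)
    (hsop : ringKrullDim (R ⧸ Ideal.span (Set.range t)) = 0) (k : ℕ) (hk : k ≤ s) :
    ∃ x a : Fin s → A, (∀ i, x i ∈ p) ∧ (∀ i, a i ∉ p) ∧
      ringKrullDim (A ⧸ Ideal.span (x '' {j : Fin s | j.val < k})) + (k : WithBot ℕ∞) =
        ringKrullDim A ∧
      Ideal.map (algebraMap A R) (Ideal.span (x '' {j : Fin s | j.val < k})) =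
        Ideal.span (t '' {j : Fin s | j.val < k}) ∧
      ∀ i : Fin s, i.val < k → algebraMap A R (x i) - algebraMap A R (a i) * t i ∈
        Ideal.span (t '' {j : Fin s | j < i}) := by
  induction k with
  | zero =>
    refine ⟨fun _ => 0, fun _ => 1, fun _ => p.zero_mem, fun _ => ?_, ?_, ?_, ?_⟩
    · exact fun h => (inferInstance : p.IsPrime).ne_top ((Ideal.eq_top_iff_one _).2 h)
    · have : {j : Fin s | j.val < 0} = ∅ := by ext; simp
      rw [this, Set.image_empty, Ideal.span_empty]
      simp only [Nat.cast_zero, add_zero]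
      exact ringKrullDim_eq_of_ringEquiv (RingEquiv.quotientBot A)
    · have : {j : Fin s | j.val < 0} = ∅ := by ext; simp
      rw [this, Set.image_empty, Set.image_empty, Ideal.span_empty, Ideal.span_empty, Ideal.map_bot]
    · intro i hi; omega
  | succ k ih =>
    obtain ⟨x, a, hx, ha, hdim, hmap, hcong⟩ := ih (by omega)
    have hks : k < s := by omega
    obtain ⟨I, hI⟩ : ∃ I, I = Ideal.span (x '' {j : Fin s | j.val < k}) := ⟨_, rfl⟩
    obtain ⟨T, hT⟩ : ∃ T, T = Ideal.span (t '' {j : Fin s | j.val < k}) := ⟨_, rfl⟩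
    rw [← hI] at hdim hmap
    rw [← hT] at hmap
    have hIp : I ≤ p := by
      rw [hI]; exact Ideal.span_le.2 (by rintro _ ⟨j, _, rfl⟩; exact hx j)
    have hTm : T ≤ maximalIdeal R := by
      rw [hT]; exact Ideal.span_le.2 (by rintro _ ⟨j, _, rfl⟩; exact ht j)
    obtain ⟨y, b, hyb⟩ := IsLocalization.exists_mk'_eq p.primeCompl (t ⟨k, hks⟩)
    have hspec : t ⟨k, hks⟩ * algebraMap A R b = algebraMap A R y := by
      rw [← hyb]; exact IsLocalization.mk'_spec _ _ _
    have hbu : IsUnit (algebraMap A R (b : A)) := IsLocalization.map_units R b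
    have hyp : y ∈ p := by
      have : algebraMap A R y ∈ maximalIdeal R := by
        rw [← hspec]; exact Ideal.mul_mem_right _ _ (ht _)
      exact (IsLocalization.AtPrime.to_map_mem_maximal_iff R p y).1 this
    have hJp : T.comap (algebraMap A R) ≤ p := by
      intro j hj
      exact (IsLocalization.AtPrime.to_map_mem_maximal_iff R p j).1 (hTm hj)
    have hIJ : I ≤ T.comap (algebraMap A R) := by rw [← hmap]; exact Ideal.le_comap_map
    have hfin : I.minimalPrimes.Finite := Ideal.finite_minimalPrimes_of_isNoetherianRing A I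
    obtain ⟨j, hjJ, hj⟩ := Groth.Agent.Lib.Helper77.Vasc.exists_add_notMem hfin.toFinset
      (fun q hq => ((hfin.mem_toFinset).1 hq).1.1) y (T.comap (algebraMap A R)) (by
        intro q hq hyq hJq
        have hq' := hfin.mem_toFinset.1 hq
        have hqJ : q ∈ (T.comap (algebraMap A R)).minimalPrimes :=
          ⟨⟨hq'.1.1, hJq⟩, fun q' hq'' hle => hq'.2 ⟨hq''.1, hIJ.trans hq''.2⟩ hle⟩
        rw [IsLocalization.minimalPrimes_comap p.primeCompl R T] at hqJ
        obtain ⟨Q, hQ, rfl⟩ := hqJ
        have hkey := key s hs t ht hsop k hks Q (hT ▸ hQ)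
        apply hkey
        have h1 : algebraMap A R y ∈ Q := hyq
        rw [← hspec] at h1
        exact (hQ.1.1.mem_or_mem h1).resolve_right
          (fun h => hQ.1.1.ne_top (Ideal.eq_top_of_isUnit_mem _ h hbu)))
    have hj' : ∀ q ∈ I.minimalPrimes, y + j ∉ q := fun q hq => hj q (hfin.mem_toFinset.2 hq)
    have hxkp : y + j ∈ p := p.add_mem hyp (hJp hjJ)
    have hxkm : y + j ∈ maximalIdeal A := IsLocalRing.le_maximalIdeal (inferInstance : p.IsPrime).ne_top hxkp
    have hd := Groth.Agent.Lib.Helper58.NV.ringKrullDim_quotient_sup_span_singleton_succ I (y + j) hxkm hj'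
    have hsetx : (Function.update x ⟨k, hks⟩ (y + j)) '' {i : Fin s | i.val < k + 1} =
        insert (y + j) (x '' {i : Fin s | i.val < k}) := by
      ext r
      simp only [Set.mem_image, Set.mem_setOf_eq, Set.mem_insert_iff]
      constructor
      · rintro ⟨i, hi, rfl⟩
        by_cases hik : i = ⟨k, hks⟩
        · left; rw [hik, Function.update_self]
        · right
          refine ⟨i, ?_, (Function.update_of_ne hik _ _).symm⟩
          have : i.val ≠ k := fun h => hik (Fin.ext h)
          omega
      · rintro (rfl | ⟨i, hi, rfl⟩)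
        · exact ⟨⟨k, hks⟩, by simp, Function.update_self _ _ _⟩
        · refine ⟨i, by omega, Function.update_of_ne ?_ _ _⟩
          intro h; rw [h] at hi; simp at hi
    have hsett : t '' {i : Fin s | i.val < k + 1} =
        insert (t ⟨k, hks⟩) (t '' {i : Fin s | i.val < k}) := by
      ext r
      simp only [Set.mem_image, Set.mem_setOf_eq, Set.mem_insert_iff]
      constructor
      · rintro ⟨i, hi, rfl⟩
        by_cases hik : i = ⟨k, hks⟩
        · left; rw [hik]
        · right
          refine ⟨i, ?_, rfl⟩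
          have : i.val ≠ k := fun h => hik (Fin.ext h)
          omega
      · rintro (rfl | ⟨i, hi, rfl⟩)
        · exact ⟨⟨k, hks⟩, by simp, rfl⟩
        · exact ⟨i, by omega, rfl⟩
    have hfj : algebraMap A R j ∈ T := hjJ
    refine ⟨Function.update x ⟨k, hks⟩ (y + j), Function.update a ⟨k, hks⟩ b, ?_, ?_, ?_, ?_, ?_⟩
    · intro i
      by_cases hik : i = ⟨k, hks⟩
      · rw [hik, Function.update_self]; exact hxkp
      · rw [Function.update_of_ne hik]; exact hx i
    · intro i
      by_cases hik : i = ⟨k, hks⟩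
      · rw [hik, Function.update_self]; exact b.2
      · rw [Function.update_of_ne hik]; exact ha i
    · rw [hsetx, Ideal.span_insert, ← hI, sup_comm]
      rw [← hdim, ← hd]
      push_cast
      rw [add_assoc, add_comm (1 : WithBot ℕ∞)]
    · rw [hsetx, hsett, Ideal.span_insert, Ideal.span_insert, ← hI, ← hT, Ideal.map_sup, hmap,
        Ideal.map_span, Set.image_singleton]
      apply le_antisymm
      · refine sup_le ?_ le_sup_right
        rw [Ideal.span_singleton_le_iff_mem, map_add, ← hspec]
        refine Ideal.add_mem _ ?_ (Ideal.mem_sup_right hfj)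
        exact Ideal.mem_sup_left (Ideal.mul_mem_right _ _ (Ideal.mem_span_singleton_self _))
      · refine sup_le ?_ le_sup_right
        rw [Ideal.span_singleton_le_iff_mem]
        obtain ⟨u, hu⟩ := hbu
        have : t ⟨k, hks⟩ = (algebraMap A R (y + j) - algebraMap A R j) * ↑u⁻¹ := by
          rw [map_add, add_sub_cancel_right, ← hspec, ← hu, mul_assoc, Units.mul_inv, mul_one]
        rw [this]
        refine Ideal.mul_mem_right _ _ (Ideal.sub_mem _ ?_ (Ideal.mem_sup_right hfj))
        exact Ideal.mem_sup_left (Ideal.mem_span_singleton_self _)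
    · intro i hi
      by_cases hik : i = ⟨k, hks⟩
      · rw [hik, Function.update_self, Function.update_self]
        have : algebraMap A R (y + j) - algebraMap A R ↑b * t ⟨k, hks⟩ = algebraMap A R j := by
          rw [map_add, ← hspec]; ring
        rw [this]
        have hset : {j : Fin s | j < ⟨k, hks⟩} = {j : Fin s | j.val < k} := by
          ext j; simp [Fin.lt_def]
        rw [hset, ← hT]
        exact hfj
      · rw [Function.update_of_ne hik, Function.update_of_ne hik]
        apply hcong
        have : i.val ≠ k := fun h => hik (Fin.ext h)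
        omega

/-- main -/
theorem result (A : Type u) [CommRing A]
    [IsNoetherianRing A] [IsLocalRing A] (p : Ideal A) [p.IsPrime]
    [LocCoh.IsCohenMacaulayLocalRing (Localization.AtPrime p)] (s : ℕ)
    (hs : ringKrullDim (Localization.AtPrime p) = s) (t : Fin s → Localization.AtPrime p)
    (ht : ∀ i, t i ∈ IsLocalRing.maximalIdeal (Localization.AtPrime p))
    (hsop : ringKrullDim (Localization.AtPrime p ⧸ Ideal.span (Set.range t)) = 0) :
    ∃ x a : Fin s → A, (∀ i, x i ∈ p) ∧ (∀ i, a i ∉ p) ∧
      ringKrullDim (A ⧸ Ideal.span (Set.range x)) + (s : WithBot ℕ∞) = ringKrullDim A ∧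
      ∀ i : Fin s, algebraMap A (Localization.AtPrime p) (x i) -
          algebraMap A (Localization.AtPrime p) (a i) * t i ∈
        Ideal.span (t '' {j : Fin s | j < i}) := by
  obtain ⟨x, a, hx, ha, hdim, -, hcong⟩ := aux A p (Localization.AtPrime p) s hs t ht hsop s le_rfl
  refine ⟨x, a, hx, ha, ?_, fun i => hcong i i.isLt⟩
  have : {j : Fin s | j.val < s} = Set.univ := by ext j; simp
  rw [this, Set.image_univ] at hdim
  exact hdim

end Groth.Agent.S5987
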