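import Groth.Statements.S5990
import Groth.Agent.Lib.Helper9.TRSch
-- import your own Groth.Agent.* helpers here

set_option autoImplicit false
universe u
open CategoryTheory AlgebraicGeometry
open CInt

namespace Groth.Agent.S5990

/-- Let S = lim S_i be a cofiltered limit of schemes with affine transition maps, S_{i₀} a stage, g₀ :
X₀ ⟶ S_{i₀} locally of finite presentation with X₀ quasi-compact, and f_1, …, f_n global sections of
the structure sheaf of X₀. Say that a sequence of global sections of O_X is transversally regular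
relative to a base T (for g : X ⟶ T) when, for every affine open U of X and affine open V of T with
g(U) ⊆ V, its restriction to U is a weakly regular sequence in Γ(U, O_X) all of whose partial
quotients Γ(U, O_X)/(f_1, …, f_j) are flat over Γ(V, O_T). Then the images of the f_k on X₀
×_{S_{i₀}} S are transversally regular relative to S if and only if, for some index j over i₀, their
images on X₀ ×_{S_{i₀}} S_j are transversally regular relative to S_j. This is the case of the
structure sheaf. -/
theorem result {I : Type u} [SmallCategory I]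
    [IsCofiltered I] (D : I ⥤ Scheme.{u}) (c : Limits.Cone D) (hc : Limits.IsLimit c)
    [∀ (i j : I) (f : i ⟶ j), IsAffineHom (D.map f)]
    (i₀ : I) {X₀ : Scheme.{u}} (g₀ : X₀ ⟶ D.obj i₀) [CompactSpace X₀]
    [LocallyOfFinitePresentation g₀] (fs : List Γ(X₀, ⊤)) :
    (∀ (U : (Limits.pullback g₀ (c.π.app i₀)).affineOpens) (V : c.pt.affineOpens)
        (e : U.1 ≤ Limits.pullback.snd g₀ (c.π.app i₀) ⁻¹ᵁ V.1),
        @RegImm.IsTransRegularSeq Γ(c.pt, V.1) Γ(Limits.pullback g₀ (c.π.app i₀), U.1) _ _
          ((Limits.pullback.snd g₀ (c.π.app i₀)).appLE V.1 U.1 e).hom.toAlgebra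
          (fs.map (fun f => ((Limits.pullback g₀ (c.π.app i₀)).presheaf.map
            (homOfLE (le_top : U.1 ≤ ⊤)).op).hom
              ((Limits.pullback.fst g₀ (c.π.app i₀)).appTop.hom f)))) ↔
      ∃ (j : I) (φ : j ⟶ i₀),
        ∀ (U : (Limits.pullback g₀ (D.map φ)).affineOpens) (V : (D.obj j).affineOpens)
          (e : U.1 ≤ Limits.pullback.snd g₀ (D.map φ) ⁻¹ᵁ V.1),
          @RegImm.IsTransRegularSeq Γ(D.obj j, V.1) Γ(Limits.pullback g₀ (D.map φ), U.1) _ _
            ((Limits.pullback.snd g₀ (D.map φ)).appLE V.1 U.1 e).hom.toAlgebra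
            (fs.map (fun f => ((Limits.pullback g₀ (D.map φ)).presheaf.map
              (homOfLE (le_top : U.1 ≤ ⊤)).op).hom
                ((Limits.pullback.fst g₀ (D.map φ)).appTop.hom f))) := by
  haveI : ∀ {i j : I} (f : i ⟶ j), IsAffineHom (D.map f) := fun f => inferInstance
  have key := Groth.Agent.Lib.Helper9.TRSch.main_iff D c hc i₀ g₀ fs
  have h1 := Groth.Agent.Lib.Helper9.TRSch.all_iff_trAt (Limits.pullback.snd g₀ (c.π.app i₀))
    (fs.map (Limits.pullback.fst g₀ (c.π.app i₀)).appTop.hom)
  have h2 := fun (j : I) (φ : j ⟶ i₀) =>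
    Groth.Agent.Lib.Helper9.TRSch.all_iff_trAt (Limits.pullback.snd g₀ (D.map φ))
      (fs.map (Limits.pullback.fst g₀ (D.map φ)).appTop.hom)
  have hlist : ∀ {P : Scheme.{u}} (q : P ⟶ X₀) (U : P.Opens),
      Groth.Agent.Lib.Helper9.TRSch.resList (fs.map q.appTop.hom) U =
        fs.map (fun f => (P.presheaf.map (homOfLE (le_top : U ≤ ⊤)).op).hom (q.appTop.hom f)) := by
    intro P q U
    simp only [Groth.Agent.Lib.Helper9.TRSch.resList, List.map_map]
    rfl
  constructor
  · intro h
    have hall := h1.mp (fun U V e => by rw [hlist]; exact h U V e)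
    obtain ⟨j, φ, hj⟩ := key.mp hall
    refine ⟨j, φ, fun U V e => ?_⟩
    have := (h2 j φ).mpr hj U V e
    rw [hlist] at this
    exact this
  · rintro ⟨j, φ, h⟩
    have hj := (h2 j φ).mp (fun U V e => by rw [hlist]; exact h U V e)
    have hall := key.mpr ⟨j, φ, hj⟩
    intro U V e
    have := h1.mpr hall U V e
    rw [hlist] at this
    exact this

end Groth.Agent.S5990
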