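import Groth.Statements.S5993
import Groth.Agent.Lib.Helper88.CTensorLib2
import Groth.Agent.Lib.Helper88.SemilocalComplete

set_option autoImplicit false
universe u
open scoped TensorProduct
open EGA418

namespace Groth.Agent.S5993

section Aux

open TensorProduct IsLocalRing Groth.Agent.Lib.Helper88

attribute [local instance] Algebra.TensorProduct.rightAlgebra

variable (k A k' : Type u) [Field k]
  [CommRing A] [IsNoetherianRing A] [IsLocalRing A] [Algebra k A]
  [Module.Finite k (IsLocalRing.ResidueField A)]
  [Field k'] [Algebra k k']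

theorem cTensorIdeal_eq :
    EGA4.cTensorIdeal k A k' = (maximalIdeal A).map (algebraMap A (A ⊗[k] k')) := by
  unfold EGA4.cTensorIdeal
  rw [IsLocalRing.maximalIdeal_eq_bot, Ideal.map_bot, sup_bot_eq]
  rfl

theorem map_eq_ext :
    (maximalIdeal A).map (algebraMap A (EGA4.CTensor k A k')) =
      ComplQuot.ext (EGA4.cTensorIdeal k A k') := by
  have h1 : (maximalIdeal A).map (algebraMap A (EGA4.CTensor k A k')) =
      ((maximalIdeal A).map (algebraMap A (A ⊗[k] k'))).map
        (algebraMap (A ⊗[k] k') (EGA4.CTensor k A k')) := by
    rw [Ideal.map_map]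
    rfl
  rw [h1, ← cTensorIdeal_eq]

theorem isAdicComplete_map :
    IsAdicComplete ((maximalIdeal A).map (algebraMap A (EGA4.CTensor k A k')))
      (EGA4.CTensor k A k') := by
  rw [map_eq_ext]
  exact ComplQuot.isAdicComplete _ (CTensorLib.cTensorIdeal_fg k A k')

theorem isMaximal_of_le (p : Ideal (EGA4.CTensor k A k')) (hp : p.IsPrime)
    (hle : (maximalIdeal A).map (algebraMap A (EGA4.CTensor k A k')) ≤ p) : p.IsMaximal := by
  set J := (maximalIdeal A).map (algebraMap A (EGA4.CTensor k A k')) with hJ
  haveI := CTensorLib.finite_closedFibre k A k'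
  haveI : IsArtinianRing (EGA4.CTensor k A k' ⧸ J) := IsArtinianRing.of_finite k' _
  have hprime : (p.map (Ideal.Quotient.mk J)).IsPrime :=
    Ideal.map_isPrime_of_surjective Ideal.Quotient.mk_surjective (by rw [Ideal.mk_ker]; exact hle)
  have hmax : (p.map (Ideal.Quotient.mk J)).IsMaximal := IsArtinianRing.isMaximal_of_isPrime _
  have hc : (p.map (Ideal.Quotient.mk J)).comap (Ideal.Quotient.mk J) = p := by
    rw [Ideal.comap_map_of_surjective _ Ideal.Quotient.mk_surjective,
      ← RingHom.ker_eq_comap_bot, Ideal.mk_ker]
    exact sup_eq_left.mpr hle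
  rw [← hc]
  exact Ideal.comap_isMaximal_of_surjective _ Ideal.Quotient.mk_surjective

theorem finite_residue (M : Ideal (EGA4.CTensor k A k')) [M.IsMaximal] :
    (((Ideal.Quotient.mk M).comp (algebraMap (A ⊗[k] k') (EGA4.CTensor k A k'))).comp
      (Algebra.TensorProduct.includeRight : k' →ₐ[k] A ⊗[k] k').toRingHom).Finite := by
  have h := CTensorLib.finite_quotient_of_isMaximal k A k' M
  have h2 : (algebraMap k' (EGA4.CTensor k A k' ⧸ M)).Finite := RingHom.finite_algebraMap.mpr h
  exact h2

theorem faithfullyFlat_localization (M : Ideal (EGA4.CTensor k A k')) [hM : M.IsMaximal] :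
    Module.FaithfullyFlat A (Localization.AtPrime M) := by
  haveI : Module.Flat A (EGA4.CTensor k A k') := CTensorLib.flat_left k A k'
  haveI : Module.Flat A (Localization.AtPrime M) :=
    Module.Flat.trans A (EGA4.CTensor k A k') (Localization.AtPrime M)
  haveI : IsLocalHom (algebraMap A (Localization.AtPrime M)) := by
    constructor
    intro a ha
    by_contra hnu
    have ham : a ∈ maximalIdeal A := hnu
    have h1 : algebraMap A (EGA4.CTensor k A k') a ∈ M :=
      CTensorLib.map_maximalIdeal_le_of_isMaximal k A k' M (Ideal.mem_map_of_mem _ ham)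
    rw [IsScalarTower.algebraMap_apply A (EGA4.CTensor k A k') (Localization.AtPrime M),
      IsLocalization.AtPrime.isUnit_to_map_iff (Localization.AtPrime M) M] at ha
    exact ha h1
  exact Module.FaithfullyFlat.of_flat_of_isLocalHom

theorem ringKrullDim_localization (M : Ideal (EGA4.CTensor k A k')) [hM : M.IsMaximal] :
    ringKrullDim (Localization.AtPrime M) = ringKrullDim A := by
  haveI := CTensorLib.isNoetherianRing_cTensor k A k'
  haveI : Module.Flat A (EGA4.CTensor k A k') := CTensorLib.flat_left k A k'
  set J := (maximalIdeal A).map (algebraMap A (EGA4.CTensor k A k')) with hJ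
  have hle : J ≤ M := CTensorLib.map_maximalIdeal_le_of_isMaximal k A k' M
  haveI : M.LiesOver (maximalIdeal A) := by
    constructor
    have h1 : maximalIdeal A ≤ M.comap (algebraMap A (EGA4.CTensor k A k')) :=
      Ideal.map_le_iff_le_comap.mp hle
    exact ((IsLocalRing.maximalIdeal.isMaximal A).eq_of_le
      (Ideal.comap_ne_top _ hM.ne_top) h1)
  have key := Ideal.height_eq_height_add_of_liesOver_of_hasGoingDown (maximalIdeal A) M
  have hzero : (M.map (Ideal.Quotient.mk J)).height = 0 := by
    have hprime : (M.map (Ideal.Quotient.mk J)).IsPrime :=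
      Ideal.map_isPrime_of_surjective Ideal.Quotient.mk_surjective
        (by rw [Ideal.mk_ker]; exact hle)
    haveI := hprime
    rw [Ideal.height_eq_zero_iff]
    refine ⟨⟨hprime, bot_le⟩, fun q hq hqle => ?_⟩
    -- every prime of the quotient is maximal
    haveI hqp : q.IsPrime := hq.1
    have hqc : (q.comap (Ideal.Quotient.mk J)).IsMaximal := by
      apply isMaximal_of_le k A k' _ (Ideal.comap_isPrime _ _)
      intro x hx
      rw [Ideal.mem_comap, Ideal.Quotient.eq_zero_iff_mem.mpr hx]
      exact q.zero_mem
    have hqmax : q.IsMaximal := by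
      have := Ideal.map_eq_top_or_isMaximal_of_surjective (Ideal.Quotient.mk J)
        Ideal.Quotient.mk_surjective hqc
      rw [Ideal.map_comap_of_surjective _ Ideal.Quotient.mk_surjective] at this
      rcases this with h | h
      · exact absurd h hq.1.ne_top
      · exact h
    exact (hqmax.eq_of_le hprime.ne_top hqle).ge
  rw [hzero, add_zero] at key
  rw [IsLocalization.AtPrime.ringKrullDim_eq_height M (Localization.AtPrime M), key,
    IsLocalRing.maximalIdeal_height_eq_ringKrullDim]

end Aux

/-- Let k be a field, A a complete Noetherian local k-algebra with maximal ideal m whose residue field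
is a finite extension of k, k' an extension field of k, I the ideal of A ⊗_k k' generated by m, and
A' the completed tensor product of A and k' over k, namely the I-adic completion of A ⊗_k k'. Then
A' is a Noetherian ring with finitely many maximal ideals, complete and separated for the ideal
generated by m, and for every maximal ideal M of A' the local ring A'_M is complete, faithfully flat
over A, of the same dimension as A, and has residue field finite over k'. -/
theorem result (k A k' : Type u) [Field k]
    [CommRing A] [IsNoetherianRing A] [IsLocalRing A] [Algebra k A]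
    [IsAdicComplete (IsLocalRing.maximalIdeal A) A] [Module.Finite k (IsLocalRing.ResidueField A)]
    [Field k'] [Algebra k k'] (I : Ideal (A ⊗[k] k'))
    (hI : I = (IsLocalRing.maximalIdeal A).map (algebraMap A (A ⊗[k] k'))) :
    IsNoetherianRing (AdicCompletion I (A ⊗[k] k')) ∧
      Finite (MaximalSpectrum (AdicCompletion I (A ⊗[k] k'))) ∧
      IsAdicComplete ((IsLocalRing.maximalIdeal A).map (algebraMap A (AdicCompletion I (A ⊗[k] k'))))
        (AdicCompletion I (A ⊗[k] k')) ∧
      ∀ M : MaximalSpectrum (AdicCompletion I (A ⊗[k] k')),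
        IsAdicComplete (IsLocalRing.maximalIdeal (Localization.AtPrime M.asIdeal))
            (Localization.AtPrime M.asIdeal) ∧
          Module.FaithfullyFlat A (Localization.AtPrime M.asIdeal) ∧
          ringKrullDim (Localization.AtPrime M.asIdeal) = ringKrullDim A ∧
          (((Ideal.Quotient.mk M.asIdeal).comp (algebraMap (A ⊗[k] k') (AdicCompletion I (A ⊗[k] k')))).comp
              Algebra.TensorProduct.includeRight.toRingHom).Finite := by
  have hI' : I = EGA4.cTensorIdeal k A k' := by rw [hI, cTensorIdeal_eq]
  subst hI'
  haveI hN : IsNoetherianRing (EGA4.CTensor k A k') :=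
    Groth.Agent.Lib.Helper88.CTensorLib.isNoetherianRing_cTensor k A k'
  have hfin : Finite (MaximalSpectrum (EGA4.CTensor k A k')) :=
    Groth.Agent.Lib.Helper88.CTensorLib.finite_maximalSpectrum k A k'
  haveI hc := isAdicComplete_map k A k'
  refine ⟨hN, hfin, hc, fun M => ?_⟩
  haveI := M.isMaximal
  refine ⟨?_, faithfullyFlat_localization k A k' M.asIdeal,
    ringKrullDim_localization k A k' M.asIdeal, finite_residue k A k' M.asIdeal⟩
  exact Groth.Agent.Lib.Helper88.SemilocalComplete.isAdicComplete_localization
    (EGA4.CTensor k A k') _ hfin (isMaximal_of_le k A k') M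

end Groth.Agent.S5993
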