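import Groth.Statements.S5995
import Groth.Agent.S5994

set_option autoImplicit false
universe u
open CategoryTheory AlgebraicGeometry
open Unram

namespace Groth.Agent.S5995

/-- Let Y be a reduced scheme whose irreducible components form a locally finite family and all of whose
local rings are geometrically unibranch, f : X ⟶ Y a separated, locally of finite type, formally
unramified morphism, and u : U ⟶ X a section of f over a dense open U of Y which cannot be extended:
whenever v is a section of f over an open V agreeing with u on U ∩ V, V is contained in U (so U is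
the domain of definition of the rational section defined by u). Then the image u(U) is an open and
closed subset of X. -/
theorem result {X Y : Scheme.{u}} [IsReduced Y]
    (hcomp : LocallyFinite (fun Z : ↥(irreducibleComponents ↥Y) => (Z : Set ↥Y)))
    (f : X ⟶ Y) [IsSeparated f] [LocallyOfFiniteType f] [FormallyUnramified f]
    (U : Y.Opens) (hU : Dense (U : Set ↥Y)) (u : (U : Scheme.{u}) ⟶ X) (hu : u ≫ f = U.ι)
    (hY : ∀ y : Y, CAlg2.IsGeomUnibranch (Y.presheaf.stalk y))
    (hmax : ∀ (V : Y.Opens) (v : (V : Scheme.{u}) ⟶ X), v ≫ f = V.ι →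
      Y.homOfLE (inf_le_left : U ⊓ V ≤ U) ≫ u = Y.homOfLE (inf_le_right : U ⊓ V ≤ V) ≫ v → V ≤ U) :
    IsOpen (Set.range u) ∧ IsClosed (Set.range u) := by
  -- `u` is an open immersion
  haveI : Etale (u ≫ f) := by rw [hu]; infer_instance
  haveI : Etale u := Etale.of_comp u f
  haveI : Mono (u ≫ f) := by rw [hu]; infer_instance
  haveI : Mono u := mono_of_mono u f
  haveI : IsOpenImmersion u := IsOpenImmersion.of_flat_of_mono u
  refine ⟨u.isOpenEmbedding.isOpen_range, ?_⟩
  -- closedness
  rw [← closure_subset_iff_isClosed]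
  intro x hx
  obtain ⟨V, v, hyV, hv, hagree⟩ :=
    Groth.Agent.S5994.result hcomp f U hU u hu (f x) (hY (f x)) ⟨x, hx, rfl⟩
  have hVU : V ≤ U := hmax V v hv hagree
  have hfxU : f x ∈ U := hVU hyV
  -- `u` as a closed immersion into `f ⁻¹ U`
  have hrange : Set.range u ⊆ Set.range (f ⁻¹ᵁ U).ι := by
    rintro _ ⟨t, rfl⟩
    rw [Scheme.Opens.range_ι]
    show f (u t) ∈ U
    rw [← Scheme.Hom.comp_apply, hu]
    exact t.2
  let u' : (U : Scheme.{u}) ⟶ (f ⁻¹ᵁ U : Scheme.{u}) := IsOpenImmersion.lift (f ⁻¹ᵁ U).ι u hrange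
  have hu' : u' ≫ (f ⁻¹ᵁ U).ι = u := IsOpenImmersion.lift_fac _ _ _
  have hsec : u' ≫ (f ∣_ U) = 𝟙 _ := by
    rw [← cancel_mono U.ι, Category.assoc, morphismRestrict_ι, ← Category.assoc, hu', hu,
      Category.id_comp]
  haveI : IsClosedImmersion (u' ≫ (f ∣_ U)) := by rw [hsec]; infer_instance
  haveI : IsClosedImmersion u' := IsClosedImmersion.of_comp u' (f ∣_ U)
  have hcl : IsClosed (Set.range u') := u'.isClosedEmbedding.isClosed_range
  let x' : ↥(f ⁻¹ᵁ U : Scheme.{u}) := ⟨x, hfxU⟩
  have hx' : x' ∈ closure (Set.range u') := by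
    rw [(f ⁻¹ᵁ U).ι.isOpenEmbedding.isInducing.closure_eq_preimage_closure_image]
    show (f ⁻¹ᵁ U).ι x' ∈ closure ((f ⁻¹ᵁ U).ι '' Set.range u')
    have h1 : (f ⁻¹ᵁ U).ι '' Set.range u' = Set.range u := by
      rw [← Set.range_comp, ← hu']
      rfl
    rw [h1]
    exact hx
  rw [hcl.closure_eq] at hx'
  obtain ⟨t, ht⟩ := hx'
  refine ⟨t, ?_⟩
  rw [← hu', Scheme.Hom.comp_apply, ht]
  rfl

end Groth.Agent.S5995
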