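import Groth.Statements.S5996
import Groth.Agent.Lib.Helper7.UnramSection2
import Groth.Agent.S5994

set_option autoImplicit false
universe u
open CategoryTheory AlgebraicGeometry
open Unram

namespace Groth.Agent.S5996

/-- Let Y be a reduced scheme whose irreducible components form a locally finite family, f : X ⟶ Y a
separated, locally of finite type, formally unramified morphism such that f(T) is closed in Y for
every closed irreducible subset T of X, and u : U ⟶ X a section of f over a dense open U of Y. Then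
for every point y of Y whose local ring is geometrically unibranch there are an open V ∋ y and a
section v : V ⟶ X of f agreeing with u on U ∩ V: the rational section defined by u is defined at
every geometrically unibranch point. -/
theorem result {X Y : Scheme.{u}} [IsReduced Y]
    (hcomp : LocallyFinite (fun Z : ↥(irreducibleComponents ↥Y) => (Z : Set ↥Y)))
    (f : X ⟶ Y) [IsSeparated f] [LocallyOfFiniteType f] [FormallyUnramified f]
    (U : Y.Opens) (hU : Dense (U : Set ↥Y)) (u : (U : Scheme.{u}) ⟶ X) (hu : u ≫ f = U.ι)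
    (hcl : ∀ T : Set ↥X, IsClosed T → IsIrreducible T → IsClosed (f '' T))
    (y : Y) (hy : CAlg2.IsGeomUnibranch (Y.presheaf.stalk y)) :
    ∃ (V : Y.Opens) (v : (V : Scheme.{u}) ⟶ X), y ∈ V ∧ v ≫ f = V.ι ∧
      Y.homOfLE (inf_le_left : U ⊓ V ≤ U) ≫ u = Y.homOfLE (inf_le_right : U ⊓ V ≤ V) ≫ v := by
  open Groth.Agent.Lib.Helper7 in
  haveI : IsDomain (CAlg2.red (Y.presheaf.stalk y)) := hy.1.1
  have hnil : (nilradical (Y.presheaf.stalk y)).IsPrime :=
    (Ideal.Quotient.isDomain_iff_prime _).mp inferInstance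
  obtain ⟨V₁, hyV₁, hdom⟩ := UnramSection.exists_integral_affine_nhd hcomp y hnil
  -- `V₁` is irreducible
  have hirr : IsIrreducible (V₁.1 : Set Y) := by
    haveI : IrreducibleSpace ↥(Spec Γ(Y, V₁.1)) :=
      inferInstanceAs (IrreducibleSpace (PrimeSpectrum Γ(Y, V₁.1)))
    have h3 : IsIrreducible (Set.univ : Set ↥(Spec Γ(Y, V₁.1))) :=
      IrreducibleSpace.isIrreducible_univ _
    have h4 := h3.image V₁.2.fromSpec V₁.2.fromSpec.continuous.continuousOn
    rwa [Set.image_univ, V₁.2.range_fromSpec] at h4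
  -- the part of `U` inside `V₁`
  obtain ⟨t₀, ht₀U, ht₀V⟩ := hU.inter_open_nonempty V₁.1 V₁.1.isOpen ⟨y, hyV₁⟩
  set S₁ : Set ↥(U : Scheme.{u}) := U.ι ⁻¹' (V₁.1 : Set Y) with hS₁
  have hS₁irr : IsIrreducible S₁ :=
    ⟨⟨⟨t₀, ht₀V⟩, ht₀U⟩, hirr.isPreirreducible.preimage U.ι.isOpenEmbedding⟩
  set T : Set X := closure (u '' S₁) with hT
  have hTirr : IsIrreducible T := (hS₁irr.image u u.continuous.continuousOn).closure
  have hTcl : IsClosed (f '' T) := hcl T isClosed_closure hTirr
  -- `f '' T ⊇ U ∩ V₁`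
  have hsub : (V₁.1 : Set Y) ∩ (U : Set Y) ⊆ f '' T := by
    rintro w ⟨hwV, hwU⟩
    refine ⟨u ⟨w, hwU⟩, subset_closure ⟨⟨w, hwU⟩, hwV, rfl⟩, ?_⟩
    rw [← Scheme.Hom.comp_apply, hu]
    rfl
  have hyT : y ∈ f '' T := by
    have h1 : (V₁.1 : Set Y) ∩ closure (U : Set Y) ⊆ closure ((V₁.1 : Set Y) ∩ (U : Set Y)) :=
      V₁.1.isOpen.inter_closure
    have h2 : y ∈ closure ((V₁.1 : Set Y) ∩ (U : Set Y)) :=
      h1 ⟨hyV₁, by rw [hU.closure_eq]; trivial⟩
    exact hTcl.closure_subset_iff.mpr hsub h2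
  obtain ⟨x, hxT, hfx⟩ := hyT
  have hxcl : x ∈ closure (Set.range u) := closure_mono (Set.image_subset_range _ _) hxT
  exact Groth.Agent.S5994.result hcomp f U hU u hu y hy ⟨x, hxcl, hfx⟩

end Groth.Agent.S5996
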