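import Groth.Statements.S5998
import Mathlib.RingTheory.Smooth.Local
import Mathlib.RingTheory.Smooth.Locus
import Mathlib.RingTheory.Etale.Kaehler
import Mathlib.RingTheory.Localization.Ideal
import Mathlib.RingTheory.LocalRing.Module

set_option autoImplicit false
universe u
open SGA1

namespace Groth.Agent.S5998

section Helpers
open TensorProduct IsLocalRing KaehlerDifferential

theorem injective_of_span_of_linearIndependent {K V W ι : Type*} [Field K] [AddCommGroup V]
    [Module K V] [AddCommGroup W] [Module K W] (Φ : V →ₗ[K] W) (w : ι → V)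
    (hspan : Submodule.span K (Set.range w) = ⊤) (hli : LinearIndependent K (Φ ∘ w)) :
    Function.Injective Φ := by
  rw [← LinearMap.ker_eq_bot, LinearMap.ker_eq_bot']
  intro x hx
  have hxs : x ∈ Submodule.span K (Set.range w) := hspan ▸ Submodule.mem_top
  obtain ⟨l, rfl⟩ := (Finsupp.mem_span_range_iff_exists_finsupp).mp hxs
  have h1 : Finsupp.linearCombination K (Φ ∘ w) l = 0 := by
    rw [← hx, Finsupp.linearCombination_apply]
    simp [Finsupp.sum, map_sum]
  have h2 := linearIndependent_iff.mp hli l h1
  rw [h2]
  simp

theorem span_tmul_eq_top {L M ι : Type*} [CommRing L] [IsLocalRing L] [AddCommGroup M] [Module L M]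
    [Module.Finite L M] (f : ι → M) (h : Submodule.span L (Set.range f) = ⊤) :
    Submodule.span (ResidueField L) (Set.range fun i => (1 : ResidueField L) ⊗ₜ[L] f i) = ⊤ := by
  rw [← map_tensorProduct_mk_eq_top, Submodule.map_span, ← Submodule.restrictScalars_span L
    (ResidueField L) Ideal.Quotient.mk_surjective, Submodule.restrictScalars_eq_top_iff,
    ← Set.range_comp] at h
  exact h

/-- the comparison iso `κ ⊗_A Ω_{A/R} ≃ κ ⊗_{A_q} Ω_{A_q/R}` -/
noncomputable def Ψ (R A : Type u) [CommRing R] [CommRing A] [Algebra R A] (q : Ideal A) [q.IsPrime] :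
    q.ResidueField ⊗[A] Ω[A⁄R] ≃ₗ[q.ResidueField]
      q.ResidueField ⊗[Localization.AtPrime q] Ω[Localization.AtPrime q⁄R] :=
  haveI : Algebra.FormallyEtale A (Localization.AtPrime q) :=
    Algebra.FormallyEtale.of_isLocalization q.primeCompl
  (AlgebraTensorModule.cancelBaseChange A (Localization.AtPrime q) q.ResidueField
      q.ResidueField Ω[A⁄R]).symm ≪≫ₗ
    (AlgebraTensorModule.congr (LinearEquiv.refl q.ResidueField q.ResidueField)
      (tensorKaehlerEquivOfFormallyEtale R A (Localization.AtPrime q)))

theorem Ψ_apply (R A : Type u) [CommRing R] [CommRing A] [Algebra R A] (q : Ideal A) [q.IsPrime]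
    (a : A) : Ψ R A q ((1 : q.ResidueField) ⊗ₜ[A] D R A a) =
      (1 : q.ResidueField) ⊗ₜ[Localization.AtPrime q]
        D R (Localization.AtPrime q) (algebraMap A (Localization.AtPrime q) a) := by
  simp [Ψ]

theorem main (R A : Type u) [CommRing R] [CommRing A] [IsNoetherianRing R] [Algebra R A]
    [Algebra.Smooth R A] (I : Ideal A) (q : Ideal A) [q.IsPrime] (hIq : I ≤ q) :
    Algebra.FormallySmooth R
        (Localization.AtPrime q ⧸ I.map (algebraMap A (Localization.AtPrime q))) ↔
    ∃ s : Finset A, (↑s : Set A) ⊆ (I : Set A) ∧
      Ideal.map (algebraMap A (Localization.AtPrime q)) I =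
        Ideal.span ((algebraMap A (Localization.AtPrime q)) '' (↑s : Set A)) ∧
      LinearIndependent q.ResidueField
        (fun g : ↥s => (1 : q.ResidueField) ⊗ₜ[A] KaehlerDifferential.D R A (g : A)) := by
  have hJm : I.map (algebraMap A (Localization.AtPrime q)) ≤
      maximalIdeal (Localization.AtPrime q) := by
    rw [Ideal.map_le_iff_le_comap]
    intro a ha
    rw [Ideal.mem_comap]
    exact (IsLocalization.AtPrime.to_map_mem_maximal_iff (Localization.AtPrime q) q a).mpr (hIq ha)
  have hJtop : I.map (algebraMap A (Localization.AtPrime q)) ≠ ⊤ := fun h =>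
    (maximalIdeal.isMaximal (Localization.AtPrime q)).ne_top (top_le_iff.mp (h ▸ hJm))
  haveI : Nontrivial (Localization.AtPrime q ⧸ I.map (algebraMap A (Localization.AtPrime q))) :=
    Ideal.Quotient.nontrivial_iff.mpr hJtop
  haveI : IsLocalRing (Localization.AtPrime q ⧸ I.map (algebraMap A (Localization.AtPrime q))) :=
    IsLocalRing.of_surjective' (Ideal.Quotient.mk _) Ideal.Quotient.mk_surjective
  haveI : Algebra.FormallySmooth R (Localization.AtPrime q) :=
    Algebra.FormallySmooth.comp R A (Localization.AtPrime q)
  haveI : Algebra.EssFiniteType R (Localization.AtPrime q) :=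
    Algebra.EssFiniteType.comp R A (Localization.AtPrime q)
  haveI : Module.Free (Localization.AtPrime q) Ω[Localization.AtPrime q⁄R] :=
    Module.free_of_flat_of_isLocalRing
  haveI : IsNoetherianRing A := Algebra.FiniteType.isNoetherianRing R A
  haveI : IsNoetherianRing (Localization.AtPrime q) :=
    IsLocalization.isNoetherianRing q.primeCompl _ inferInstance
  let φ : (Localization.AtPrime q ⧸ I.map (algebraMap A (Localization.AtPrime q))) →+*
      q.ResidueField :=
    Ideal.Quotient.lift _ (algebraMap (Localization.AtPrime q) q.ResidueField) (fun a ha => by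
      rw [ResidueField.algebraMap_eq]
      exact (residue_eq_zero_iff a).mpr (hJm ha))
  letI : Algebra (Localization.AtPrime q ⧸ I.map (algebraMap A (Localization.AtPrime q)))
      q.ResidueField := φ.toAlgebra
  haveI : IsScalarTower (Localization.AtPrime q)
      (Localization.AtPrime q ⧸ I.map (algebraMap A (Localization.AtPrime q))) q.ResidueField :=
    ⟨fun a x k => by
      obtain ⟨x, rfl⟩ := Ideal.Quotient.mk_surjective x
      rw [Algebra.smul_def, Algebra.smul_def, Algebra.smul_def]
      have h0 : a • Ideal.Quotient.mk (I.map (algebraMap A (Localization.AtPrime q))) x =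
          Ideal.Quotient.mk _ (a * x) := rfl
      rw [h0]
      show φ (Ideal.Quotient.mk _ (a * x)) * k = _ * (φ (Ideal.Quotient.mk _ x) * k)
      rw [Ideal.Quotient.lift_mk, Ideal.Quotient.lift_mk, map_mul, mul_assoc]⟩
  have h₁ : Function.Surjective (algebraMap (Localization.AtPrime q)
      (Localization.AtPrime q ⧸ I.map (algebraMap A (Localization.AtPrime q)))) :=
    Ideal.Quotient.mk_surjective
  have hker : RingHom.ker (algebraMap (Localization.AtPrime q)
      (Localization.AtPrime q ⧸ I.map (algebraMap A (Localization.AtPrime q)))) =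
      I.map (algebraMap A (Localization.AtPrime q)) := Ideal.mk_ker
  have h₂ : (RingHom.ker (algebraMap (Localization.AtPrime q)
      (Localization.AtPrime q ⧸ I.map (algebraMap A (Localization.AtPrime q))))).FG :=
    IsNoetherian.noetherian _
  have h₃ : maximalIdeal (Localization.AtPrime q ⧸ I.map (algebraMap A (Localization.AtPrime q))) ≤
      RingHom.ker (algebraMap (Localization.AtPrime q ⧸ I.map (algebraMap A (Localization.AtPrime q)))
        q.ResidueField) := by
    intro x hx
    obtain ⟨c, rfl⟩ := Ideal.Quotient.mk_surjective x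
    rw [RingHom.mem_ker]
    show algebraMap (Localization.AtPrime q) q.ResidueField c = 0
    rw [ResidueField.algebraMap_eq, residue_eq_zero_iff]
    by_contra hc
    have hu : IsUnit c := by
      by_contra hcu
      exact hc ((mem_maximalIdeal c).mpr hcu)
    exact (mem_maximalIdeal _).mp hx (hu.map _)
  rw [Algebra.FormallySmooth.iff_injective_cotangentComplexBaseChange (R := R)
    (S := Localization.AtPrime q ⧸ I.map (algebraMap A (Localization.AtPrime q)))
    (Localization.AtPrime q) q.ResidueField h₁ h₂ h₃]
  have memK : ∀ a ∈ I, algebraMap A (Localization.AtPrime q) a ∈ RingHom.ker (algebraMap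
      (Localization.AtPrime q)
      (Localization.AtPrime q ⧸ I.map (algebraMap A (Localization.AtPrime q)))) := fun a ha =>
    by rw [hker]; exact Ideal.mem_map_of_mem _ ha
  have hΦΨ : ∀ (a : A) (ha : a ∈ I),
      cotangentComplexBaseChange R
        (Localization.AtPrime q ⧸ I.map (algebraMap A (Localization.AtPrime q)))
        (Localization.AtPrime q) q.ResidueField
        ((1 : q.ResidueField) ⊗ₜ ⟨algebraMap A (Localization.AtPrime q) a, memK a ha⟩) =
      Ψ R A q ((1 : q.ResidueField) ⊗ₜ[A] D R A a) := by
    intro a ha
    rw [Ψ_apply, cotangentComplexBaseChange_tmul, one_smul, kerToTensor_apply]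
  haveI : Module.Finite (Localization.AtPrime q) ↥(RingHom.ker (algebraMap
      (Localization.AtPrime q)
      (Localization.AtPrime q ⧸ I.map (algebraMap A (Localization.AtPrime q))))) :=
    Module.Finite.of_fg h₂
  constructor
  · intro hΦ
    classical
    have hκ : Function.Surjective (algebraMap (Localization.AtPrime q) q.ResidueField) := by
      rw [ResidueField.algebraMap_eq]
      exact residue_surjective
    let b := Module.finBasis q.ResidueField (q.ResidueField ⊗[Localization.AtPrime q]
      ↥(RingHom.ker (algebraMap (Localization.AtPrime q)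
        (Localization.AtPrime q ⧸ I.map (algebraMap A (Localization.AtPrime q))))))
    have key : ∀ j, ∃ (i : A) (hi : i ∈ I) (u : q.ResidueFieldˣ),
        u • b j = (1 : q.ResidueField) ⊗ₜ
          ⟨algebraMap A (Localization.AtPrime q) i, memK i hi⟩ := by
      intro j
      obtain ⟨c, hc⟩ := TensorProduct.mk_surjective (Localization.AtPrime q)
        ↥(RingHom.ker (algebraMap (Localization.AtPrime q)
          (Localization.AtPrime q ⧸ I.map (algebraMap A (Localization.AtPrime q)))))
        q.ResidueField hκ (b j)
      have hcJ : (c : Localization.AtPrime q) ∈ I.map (algebraMap A (Localization.AtPrime q)) :=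
        hker.le c.2
      obtain ⟨⟨i, t⟩, hit⟩ := (IsLocalization.mem_map_algebraMap_iff q.primeCompl
        (Localization.AtPrime q)).mp hcJ
      have hu : IsUnit (algebraMap (Localization.AtPrime q) q.ResidueField
          (algebraMap A (Localization.AtPrime q) (t : A))) :=
        (IsLocalization.map_units (Localization.AtPrime q) t).map _
      refine ⟨i.1, i.2, hu.unit, ?_⟩
      rw [← hc, Units.smul_def, IsUnit.unit_spec, TensorProduct.mk_apply, algebraMap_smul,
        ← TensorProduct.tmul_smul]
      congr 1
      apply Subtype.ext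
      show algebraMap A (Localization.AtPrime q) (t : A) * (c : Localization.AtPrime q) = _
      rw [mul_comm]
      exact hit
    choose i hi u hu using key
    let b' := b.unitsSMul u
    let f : Fin _ → ↥(RingHom.ker (algebraMap (Localization.AtPrime q)
        (Localization.AtPrime q ⧸ I.map (algebraMap A (Localization.AtPrime q))))) :=
      fun j => ⟨algebraMap A (Localization.AtPrime q) (i j), memK _ (hi j)⟩
    have hb' : ∀ j, (1 : q.ResidueField) ⊗ₜ f j = b' j := fun j => by
      rw [Module.Basis.unitsSMul_apply]
      exact (hu j).symm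
    have hspan := span_eq_top_of_tmul_eq_basis f b' hb'
    refine ⟨Finset.univ.image i, ?_, ?_, ?_⟩
    · intro a ha
      simp only [Finset.coe_image, Finset.coe_univ, Set.image_univ, Set.mem_range] at ha
      obtain ⟨j, rfl⟩ := ha
      exact hi j
    · have h5 := congr(Submodule.map (Submodule.subtype _) $hspan)
      rw [Submodule.map_span, Submodule.map_subtype_top, ← Set.range_comp] at h5
      refine (hker.symm.trans h5.symm).trans ?_
      show Ideal.span _ = Ideal.span _
      congr 1
      ext x
      simp [f]
    · have hmem : ∀ g : ↥(Finset.univ.image i), ∃ j, i j = g := fun g => by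
        obtain ⟨j, -, hj⟩ := Finset.mem_image.mp g.2
        exact ⟨j, hj⟩
      choose e he using hmem
      have hinj : Function.Injective e := fun g g' h => Subtype.ext (by rw [← he g, ← he g', h])
      have hLI : LinearIndependent q.ResidueField
          (fun j => (1 : q.ResidueField) ⊗ₜ[A] D R A (i j)) := by
        apply LinearIndependent.of_comp (Ψ R A q).toLinearMap
        have : ((Ψ R A q).toLinearMap ∘ fun j => (1 : q.ResidueField) ⊗ₜ[A] D R A (i j)) =
            ⇑(cotangentComplexBaseChange R
              (Localization.AtPrime q ⧸ I.map (algebraMap A (Localization.AtPrime q)))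
              (Localization.AtPrime q) q.ResidueField) ∘ b' := funext fun j => by
          rw [Function.comp_apply, Function.comp_apply, ← hb' j]
          exact (hΦΨ (i j) (hi j)).symm
        rw [this]
        exact b'.linearIndependent.map' _ (LinearMap.ker_eq_bot.mpr hΦ)
      have h6 := hLI.comp e hinj
      have h7 : ((fun j => (1 : q.ResidueField) ⊗ₜ[A] D R A (i j)) ∘ e) =
          fun g : ↥(Finset.univ.image i) => (1 : q.ResidueField) ⊗ₜ[A] D R A (g : A) :=
        funext fun g => by rw [Function.comp_apply, he g]
      rw [h7] at h6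
      exact h6
  · rintro ⟨s, hsI, hJs, hli⟩
    let f : ↥s → ↥(RingHom.ker (algebraMap (Localization.AtPrime q)
        (Localization.AtPrime q ⧸ I.map (algebraMap A (Localization.AtPrime q))))) :=
      fun g => ⟨algebraMap A (Localization.AtPrime q) g, memK g (hsI g.2)⟩
    have hspanL : Submodule.span (Localization.AtPrime q) (Set.range f) = ⊤ := by
      apply Submodule.map_injective_of_injective (Submodule.injective_subtype _)
      rw [Submodule.map_span, Submodule.map_subtype_top, ← Set.range_comp]
      refine Eq.trans ?_ (hker.trans hJs).symm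
      show Ideal.span _ = Ideal.span _
      congr 1
      ext x
      simp [f]
    have hspanK := span_tmul_eq_top f hspanL
    apply injective_of_span_of_linearIndependent _ (fun g => (1 : q.ResidueField) ⊗ₜ f g) hspanK
    have : (⇑(cotangentComplexBaseChange R
        (Localization.AtPrime q ⧸ I.map (algebraMap A (Localization.AtPrime q)))
        (Localization.AtPrime q) q.ResidueField) ∘ fun g => (1 : q.ResidueField) ⊗ₜ f g) =
        (Ψ R A q).toLinearMap ∘ (fun g : ↥s => (1 : q.ResidueField) ⊗ₜ[A] D R A (g : A)) :=
      funext fun g => hΦΨ g (hsI g.2)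
    rw [this]
    exact hli.map' _ (LinearEquiv.ker _)

theorem isSmoothAt_iff_quotient (R A : Type u) [CommRing R] [CommRing A] [Algebra R A]
    (I : Ideal A) (P : Ideal (A ⧸ I)) [P.IsPrime]
    (q : Ideal A) [q.IsPrime] (hq : q = P.comap (Ideal.Quotient.mk I)) :
    Algebra.IsSmoothAt R P ↔ Algebra.FormallySmooth R
      (Localization.AtPrime q ⧸ I.map (algebraMap A (Localization.AtPrime q))) := by
  have hsub : Algebra.algebraMapSubmonoid (A ⧸ I) q.primeCompl = P.primeCompl := by
    ext x
    constructor
    · rintro ⟨a, ha, rfl⟩
      intro hx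
      apply ha
      rw [hq]
      exact hx
    · intro hx
      obtain ⟨a, rfl⟩ := Ideal.Quotient.mk_surjective x
      refine ⟨a, ?_, rfl⟩
      intro ha
      apply hx
      rw [hq] at ha
      exact ha
  haveI : IsLocalization.AtPrime
      (Localization.AtPrime q ⧸ I.map (algebraMap A (Localization.AtPrime q))) P := by
    show IsLocalization P.primeCompl _
    rw [← hsub]
    infer_instance
  let e : (Localization.AtPrime q ⧸ I.map (algebraMap A (Localization.AtPrime q))) ≃ₐ[A ⧸ I]
      Localization.AtPrime P := IsLocalization.algEquiv P.primeCompl _ _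
  haveI : IsScalarTower R (A ⧸ I)
      (Localization.AtPrime q ⧸ I.map (algebraMap A (Localization.AtPrime q))) :=
    IsScalarTower.of_algebraMap_eq fun r => by
      rw [IsScalarTower.algebraMap_apply R (Localization.AtPrime q)
          (Localization.AtPrime q ⧸ I.map (algebraMap A (Localization.AtPrime q))),
        IsScalarTower.algebraMap_apply R A (Localization.AtPrime q),
        IsScalarTower.algebraMap_apply R A (A ⧸ I)]
      rfl
  exact (Algebra.FormallySmooth.iff_of_equiv (e.restrictScalars R)).symm

end Helpers

open TensorProduct in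
/-- Let R be a Noetherian ring, A a smooth R-algebra, I an ideal of A, P a prime ideal of A/I and q its
preimage in A. Then A/I is smooth over R at P (that is, the local ring of A/I at P is formally
smooth over R) exactly when there are finitely many elements g_1, ..., g_p of I generating the ideal
I·A_q whose differentials dg_i have linearly independent images in κ(q) ⊗_A Ω_{A/R}. -/
theorem result
    (R A : Type u) [CommRing R] [CommRing A] [IsNoetherianRing R] [Algebra R A] [Algebra.Smooth R A]
    (I : Ideal A) (P : Ideal (A ⧸ I)) [P.IsPrime] :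
    letI q : Ideal A := P.comap (Ideal.Quotient.mk I)
    Algebra.IsSmoothAt R P ↔ ∃ s : Finset A, (↑s : Set A) ⊆ (I : Set A) ∧
      Ideal.map (algebraMap A (Localization.AtPrime q)) I =
        Ideal.span ((algebraMap A (Localization.AtPrime q)) '' (↑s : Set A)) ∧
      LinearIndependent q.ResidueField
        (fun g : ↥s => (1 : q.ResidueField) ⊗ₜ[A] KaehlerDifferential.D R A (g : A)) := by
  have hIq : I ≤ P.comap (Ideal.Quotient.mk I) := by
    intro a ha
    show Ideal.Quotient.mk I a ∈ P
    rw [Ideal.Quotient.eq_zero_iff_mem.mpr ha]
    exact zero_mem _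
  rw [isSmoothAt_iff_quotient R A I P (P.comap (Ideal.Quotient.mk I)) rfl]
  exact main R A I _ hIq

end Groth.Agent.S5998
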