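import Groth.Statements.S5999
import Groth.Agent.Lib.Helper35.JacobianPoint

set_option autoImplicit false
universe u
open SGA1

namespace Groth.Agent.S5999

section Helpers
open TensorProduct IsLocalRing KaehlerDifferential Groth.Agent.Lib.Helper35.JacobianPoint

theorem core (R A : Type u) [CommRing R] [CommRing A] [IsNoetherianRing R] [Algebra R A]
    [Algebra.FiniteType R A] (F : A) (q : Ideal A) [q.IsPrime] (hFq : F ∈ q)
    (hsm : Algebra.FormallySmooth R (Localization.AtPrime q)) :
    Algebra.FormallySmooth R (Localization.AtPrime q ⧸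
        (Ideal.span ({F} : Set A)).map (algebraMap A (Localization.AtPrime q))) ↔
      algebraMap A (Localization.AtPrime q) F = 0 ∨
        (1 : q.ResidueField) ⊗ₜ[A] KaehlerDifferential.D R A F ≠ 0 := by
  have hIq : Ideal.span ({F} : Set A) ≤ q := by
    rw [Ideal.span_le]
    intro x hx
    rw [Set.mem_singleton_iff] at hx
    subst hx
    exact hFq
  have hFK : algebraMap A q.ResidueField F = 0 := by
    rw [IsScalarTower.algebraMap_apply A (Localization.AtPrime q) q.ResidueField,
      ResidueField.algebraMap_eq, residue_eq_zero_iff]
    exact (IsLocalization.AtPrime.to_map_mem_maximal_iff (Localization.AtPrime q) q F).mpr hFq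
  rw [main R A (Ideal.span ({F} : Set A)) q hIq hsm]
  have hJ : (Ideal.span ({F} : Set A)).map (algebraMap A (Localization.AtPrime q)) =
      Ideal.span {algebraMap A (Localization.AtPrime q) F} := by
    rw [Ideal.map_span, Set.image_singleton]
  constructor
  · rintro ⟨s, hsI, hJs, hli⟩
    by_cases hs : s = ∅
    · left
      subst hs
      rw [hJ] at hJs
      simp only [Finset.coe_empty, Set.image_empty, Ideal.span_empty] at hJs
      rw [Ideal.span_singleton_eq_bot] at hJs
      exact hJs
    · right
      obtain ⟨g, hg⟩ := Finset.nonempty_iff_ne_empty.mpr hs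
      have hne := hli.ne_zero ⟨g, hg⟩
      have hgI : g ∈ Ideal.span ({F} : Set A) := hsI hg
      obtain ⟨a, rfl⟩ := Ideal.mem_span_singleton'.mp hgI
      intro h0
      apply hne
      show (1 : q.ResidueField) ⊗ₜ[A] D R A (a * F) = 0
      rw [Derivation.leibniz, TensorProduct.tmul_add, TensorProduct.tmul_smul,
        TensorProduct.tmul_smul, h0, smul_zero, zero_add, TensorProduct.smul_tmul',
        Algebra.smul_def, mul_one, hFK, TensorProduct.zero_tmul]
  · rintro (h | h)
    · refine ⟨∅, by simp, ?_, ?_⟩
      · rw [hJ, h]
        simp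
      · exact linearIndependent_empty_type
    · classical
      refine ⟨{F}, ?_, ?_, ?_⟩
      · intro x hx
        simp only [Finset.coe_singleton, Set.mem_singleton_iff] at hx
        subst hx
        exact Ideal.subset_span rfl
      · rw [hJ]
        simp
      · rw [linearIndependent_unique_iff]
        exact h

end Helpers

open TensorProduct in
/-- Let R be a Noetherian ring, A an R-algebra of finite type, F an element of A, P a prime ideal of
A/(F) and q its preimage in A, and suppose A is smooth over R at q. Then the hypersurface A/(F) is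
smooth over R at P if and only if either F is zero in the local ring A_q (F vanishes on a
neighbourhood of q) or the image dF(q) of the differential of F in κ(q) ⊗_A Ω_{A/R} is nonzero. -/
theorem result
    (R A : Type u) [CommRing R] [CommRing A] [IsNoetherianRing R] [Algebra R A] [Algebra.FiniteType R A]
    (F : A) (P : Ideal (A ⧸ Ideal.span ({F} : Set A))) [P.IsPrime]
    (hX : Algebra.IsSmoothAt R (P.comap (Ideal.Quotient.mk (Ideal.span ({F} : Set A))))) :
    letI q : Ideal A := P.comap (Ideal.Quotient.mk (Ideal.span ({F} : Set A)))
    Algebra.IsSmoothAt R P ↔ algebraMap A (Localization.AtPrime q) F = 0 ∨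
      (1 : q.ResidueField) ⊗ₜ[A] KaehlerDifferential.D R A F ≠ 0 := by
  have hFq : F ∈ P.comap (Ideal.Quotient.mk (Ideal.span ({F} : Set A))) := by
    show Ideal.Quotient.mk _ F ∈ P
    have h0 : Ideal.Quotient.mk (Ideal.span ({F} : Set A)) F = 0 :=
      Ideal.Quotient.eq_zero_iff_mem.mpr (Ideal.subset_span (Set.mem_singleton F))
    rw [h0]
    exact zero_mem _
  rw [Groth.Agent.Lib.Helper35.JacobianPoint.isSmoothAt_iff_quotient R A _ P
    (P.comap (Ideal.Quotient.mk (Ideal.span ({F} : Set A)))) rfl]
  exact core R A F _ hFq hX

end Groth.Agent.S5999
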