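import Groth.Statements.S6011
-- import your own Groth.Agent.* helpers here

set_option autoImplicit false
universe u
open CategoryTheory AlgebraicGeometry
open SGA1

namespace Groth.Agent.S6011

open CategoryTheory MonoidalCategory CartesianMonoidalCategory MonObj GrpObj

section Aux

variable {S : Scheme.{u}} {G X : Over S} [GrpObj G] (a : AlgGrp.Action G X)

theorem fwd (e : NonAbH1.EquivIso (NonAbH1.trivialAction G) a) :
    NonAbH1.IsPseudoTorsorSch a ∧ NonAbH1.HasSectionOver X (𝟙 S) := by
  constructor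
  · have h1 : IsIso (lift μ[G] (snd G G)) := NonAbH1.isPseudoTorsorSch_trivialAction G
    have hcomm : μ[G] ≫ e.iso.hom = (G ◁ e.iso.hom) ≫ a.act := e.comm
    have key : (G ◁ e.iso.hom) ≫ lift a.act (snd G X) =
        lift μ[G] (snd G G) ≫ (e.iso.hom ⊗ₘ e.iso.hom) := by
      apply CartesianMonoidalCategory.hom_ext
      · simp [hcomm]
      · simp
    have h2 : lift a.act (snd G X) =
        inv (G ◁ e.iso.hom) ≫ lift μ[G] (snd G G) ≫ (e.iso.hom ⊗ₘ e.iso.hom) := by
      rw [← key, IsIso.inv_hom_id_assoc]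
    unfold NonAbH1.IsPseudoTorsorSch
    rw [h2]
    infer_instance
  · exact ⟨(η[G] ≫ e.iso.hom).left, Over.w (η[G] ≫ e.iso.hom)⟩

variable (hpt : NonAbH1.IsPseudoTorsorSch a) (o : 𝟙_ (Over S) ⟶ X)

/-- the orbit map -/
noncomputable def orb : G ⟶ X := lift (𝟙 G) (toUnit G ≫ o) ≫ a.act

theorem orb_equivariant : μ[G] ≫ orb a o = (G ◁ orb a o) ≫ a.act := by
  have h1 : μ[G] ≫ orb a o = lift (𝟙 (G ⊗ G)) (toUnit (G ⊗ G) ≫ o) ≫ (μ[G] ▷ X) ≫ a.act := by
    unfold orb
    rw [← Category.assoc, ← Category.assoc]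
    congr 1
    apply CartesianMonoidalCategory.hom_ext <;> simp
  rw [h1, a.mul_act]
  simp only [← Category.assoc]
  congr 1
  apply CartesianMonoidalCategory.hom_ext
  · simp
  · simp only [orb, Category.assoc, whiskerLeft_snd]
    simp only [← Category.assoc]
    congr 1
    apply CartesianMonoidalCategory.hom_ext <;> simp

include hpt in
theorem orb_isIso : IsIso (orb a o) := by
  haveI : IsIso (lift a.act (snd G X)) := hpt
  let Φ := lift a.act (snd G X)
  let d : X ⟶ G := lift (𝟙 X) (toUnit X ≫ o) ≫ inv Φ ≫ fst G X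
  have hj : lift (𝟙 G) (toUnit G ≫ o) ≫ Φ = lift (orb a o) (toUnit G ≫ o) := by
    apply CartesianMonoidalCategory.hom_ext <;> simp [Φ, orb]
  refine ⟨d, ?_, ?_⟩
  · have h1 : orb a o ≫ lift (𝟙 X) (toUnit X ≫ o) = lift (orb a o) (toUnit G ≫ o) := by
      apply CartesianMonoidalCategory.hom_ext <;> simp
    calc orb a o ≫ d = (orb a o ≫ lift (𝟙 X) (toUnit X ≫ o)) ≫ inv Φ ≫ fst G X := by
          simp only [d, Category.assoc]
      _ = lift (𝟙 G) (toUnit G ≫ o) ≫ (Φ ≫ inv Φ) ≫ fst G X := by
          rw [h1, ← hj]; simp only [Category.assoc]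
      _ = 𝟙 G := by simp
  · let w : X ⟶ G ⊗ X := lift (𝟙 X) (toUnit X ≫ o) ≫ inv Φ
    have hw : w ≫ Φ = lift (𝟙 X) (toUnit X ≫ o) := by simp [w]
    have hw1 : w ≫ a.act = 𝟙 X := by
      have := congrArg (fun f => f ≫ fst X X) hw
      simpa [Φ] using this
    have hw2 : w ≫ snd G X = toUnit X ≫ o := by
      have := congrArg (fun f => f ≫ snd X X) hw
      simpa [Φ] using this
    have hd : d = w ≫ fst G X := by simp [d, w]
    have h3 : lift (w ≫ fst G X) (toUnit X ≫ o) = w := by
      apply CartesianMonoidalCategory.hom_ext <;> simp [hw2]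
    calc d ≫ orb a o = lift (w ≫ fst G X) (toUnit X ≫ o) ≫ a.act := by
          rw [hd]
          unfold orb
          rw [← Category.assoc]
          congr 1
          apply CartesianMonoidalCategory.hom_ext <;> simp
      _ = 𝟙 X := by rw [h3, hw1]

end Aux


/-- An S-scheme X with an action of the S-group G is trivial — equivariantly isomorphic over S to G
acting on itself by translation — if and only if it is formally principal homogeneous (a
pseudo-torsor) and admits a section over S. -/
theorem result {S : Scheme.{u}}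
    (G X : Over S) [GrpObj G] (a : AlgGrp.Action G X) :
    Nonempty (NonAbH1.EquivIso (NonAbH1.trivialAction G) a) ↔
      (NonAbH1.IsPseudoTorsorSch a ∧ NonAbH1.HasSectionOver X (𝟙 S)) := by
  constructor
  · rintro ⟨e⟩
    exact fwd a e
  · rintro ⟨hpt, s, hs⟩
    let o : 𝟙_ (Over S) ⟶ X := Over.homMk s hs
    haveI := orb_isIso a hpt o
    exact ⟨⟨asIso (orb a o), orb_equivariant a o⟩⟩

end Groth.Agent.S6011
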