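import Groth.Statements.S6012
import Groth.Agent.Lib.Helper30.Cleavage
-- import your own Groth.Agent.* helpers here

set_option autoImplicit false
open CategoryTheory
universe v₁ v₂ u₁ u₂
open FibCat FibCat.Cleavage

namespace Groth.Agent.S6012

set_option backward.isDefEq.respectTransparency false
set_option backward.isDefEq.respectTransparency.types false

open Groth.Agent.Lib.Helper30 CategoryTheory.Functor

section Aux

variable {𝒮 : Type u₁} {𝒳 : Type u₂} [Category.{v₁} 𝒮] [Category.{v₂} 𝒳] {p : 𝒳 ⥤ 𝒮}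
  (K : FibCat.Cleavage p)

/-- an isomorphism of a fibre gives an isomorphism of the total category -/
theorem isIso_fiberInclusion_map {S : 𝒮} {a b : p.Fiber S} (φ : a ⟶ b) [IsIso φ] :
    IsIso (Fiber.fiberInclusion.map φ) :=
  Functor.map_isIso _ _

theorem isIso_comp_app_of_isFibered [p.IsFibered] {R S T : 𝒮} (f : T ⟶ S) (g : R ⟶ T)
    (a : p.Fiber S) : IsIso ((K.comp f g).app a) := by
  let φ := K.lift a.2 (g ≫ f)
  let φ' := K.lift (K.obj_proj a.2 f) g ≫ K.lift a.2 f
  haveI : p.IsCartesian (g ≫ f) φ' := inferInstance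
  let e := IsCartesian.domainUniqueUpToIso p (g ≫ f) φ φ'
  refine ⟨⟨⟨e.inv, inferInstance⟩, ?_, ?_⟩⟩
  · apply Fiber.hom_ext
    exact e.hom_inv_id
  · apply Fiber.hom_ext
    exact e.inv_hom_id

theorem isCartesian_comp_of_isIso_comp
    (h : ∀ (R S T : 𝒮) (f : T ⟶ S) (g : R ⟶ T), IsIso (K.comp f g))
    {R S T : 𝒮} (f : R ⟶ S) (g : S ⟶ T) {a b c : 𝒳} (φ : a ⟶ b) (ψ : b ⟶ c)
    [p.IsCartesian f φ] [p.IsCartesian g ψ] : p.IsCartesian (f ≫ g) (φ ≫ ψ) := by
  have hc : p.obj c = T := IsHomLift.codomain_eq p g ψ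
  let c' : p.Fiber T := ⟨c, hc⟩
  -- b ≅ g^* c
  let β := IsCartesian.domainUniqueUpToIso p g (K.lift c'.2 g) ψ
  have hβ : β.hom ≫ K.lift c'.2 g = ψ := IsCartesian.fac p g (K.lift c'.2 g) ψ
  haveI : p.IsCartesian f (φ ≫ β.hom) := inferInstance
  let b' : p.Fiber S := (K.inverseImage g).obj c'
  let α := IsCartesian.domainUniqueUpToIso p f (K.lift b'.2 f) (φ ≫ β.hom)
  have hα : α.hom ≫ K.lift b'.2 f = φ ≫ β.hom := IsCartesian.fac p f (K.lift b'.2 f) (φ ≫ β.hom)
  haveI := h R T S g f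
  haveI : IsIso ((K.comp g f).app c') := inferInstance
  haveI : IsIso (Fiber.fiberInclusion.map ((K.comp g f).app c')) :=
    isIso_fiberInclusion_map _
  let γ := asIso (Fiber.fiberInclusion.map ((K.comp g f).app c'))
  have hγ : γ.hom ≫ K.lift c'.2 (f ≫ g) = K.lift b'.2 f ≫ K.lift c'.2 g :=
    comp_app_comp_lift K g f c'
  have key : φ ≫ ψ = (α ≪≫ γ).hom ≫ K.lift c'.2 (f ≫ g) := by
    rw [Iso.trans_hom, Category.assoc, hγ, ← Category.assoc, hα, Category.assoc, hβ]
  haveI : p.IsHomLift (𝟙 R) γ.hom := by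
    change p.IsHomLift (𝟙 R) (Fiber.fiberInclusion.map ((K.comp g f).app c'))
    infer_instance
  haveI : p.IsHomLift (𝟙 R) (α ≪≫ γ).hom := by
    rw [Iso.trans_hom]
    have : 𝟙 R = 𝟙 R ≫ 𝟙 R := (Category.comp_id _).symm
    rw [this]
    infer_instance
  rw [key]
  infer_instance

end Aux


/-- Let `K` be a cleavage of an arbitrary functor `p : 𝒳 ⥤ 𝒮` (one chosen cartesian lift of every base
morphism at every object over its target; `p` is not assumed fibred). Then `p` is a fibred category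
(composites of cartesian morphisms are cartesian) if and only if, for all composable base morphisms
`g : R ⟶ T` and `f : T ⟶ S`, the comparison natural transformation `c_{f,g}` from `g^* f^*` to
`(fg)^*` determined by `K` is an isomorphism. -/
theorem result (𝒮 : Type u₁) (𝒳 : Type u₂) [Category.{v₁} 𝒮] [Category.{v₂} 𝒳] (p : 𝒳 ⥤ 𝒮) (K : FibCat.Cleavage p) :
    p.IsFibered ↔ ∀ (R S T : 𝒮) (f : T ⟶ S) (g : R ⟶ T), IsIso (K.comp f g) := by
  constructor
  · intro hp R S T f g
    haveI : ∀ a, IsIso ((K.comp f g).app a) := fun a => isIso_comp_app_of_isFibered K f g a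
    exact NatIso.isIso_of_isIso_app _
  · intro h
    haveI := K.isPreFibered
    refine { comp := ?_ }
    intro R S T f g a b c φ ψ _ _
    exact isCartesian_comp_of_isIso_comp K h f g φ ψ

end Groth.Agent.S6012
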