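import Groth.Statements.S6013
import Groth.Agent.Lib.Helper30.Cleavage
import Groth.Agent.S6012
-- import your own Groth.Agent.* helpers here

set_option autoImplicit false
open CategoryTheory
universe v₁ v₂ u₁ u₂
open FibCat FibCat.Cleavage

namespace Groth.Agent.S6013

set_option backward.isDefEq.respectTransparency false
set_option backward.isDefEq.respectTransparency.types false

open Groth.Agent.Lib.Helper30 CategoryTheory.Functor

section Aux

variable {𝒮 : Type u₁} {𝒳 : Type u₂} [Category.{v₁} 𝒮] [Category.{v₂} 𝒳] {p : 𝒳 ⥤ 𝒮}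
  (K : FibCat.Cleavage p)

theorem isIso_lift_id [p.IsFibered] {S : 𝒮} (a : p.Fiber S) : IsIso (K.lift a.2 (𝟙 S)) :=
  IsStronglyCartesian.isIso_of_base_isIso p (𝟙 S) _

/-- `(𝟙 S)^* ≅ 𝟭` -/
noncomputable def idIso [p.IsFibered] (S : 𝒮) : K.inverseImage (𝟙 S) ≅ 𝟭 (p.Fiber S) :=
  NatIso.ofComponents (fun a =>
     haveI : IsIso (K.lift a.2 (𝟙 S)) := isIso_lift_id K a
     { hom := (⟨K.lift a.2 (𝟙 S), inferInstance⟩ : (K.inverseImage (𝟙 S)).obj a ⟶ a)
       inv := (⟨inv (K.lift a.2 (𝟙 S)), inferInstance⟩ : a ⟶ (K.inverseImage (𝟙 S)).obj a)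
       hom_inv_id := Fiber.hom_ext (IsIso.hom_inv_id _)
       inv_hom_id := Fiber.hom_ext (IsIso.inv_hom_id _) })
    (fun {a b} φ => by
      apply Fiber.hom_ext
      exact inverseImage_map_comp_lift K (𝟙 S) φ)

/-- `g^* f^* ≅ (fg)^*` -/
noncomputable def compIso [p.IsFibered] {R S T : 𝒮} (f : T ⟶ S) (g : R ⟶ T) :
    K.inverseImage f ⋙ K.inverseImage g ≅ K.inverseImage (g ≫ f) :=
  haveI : IsIso (K.comp f g) := (Groth.Agent.S6012.result 𝒮 𝒳 p K).1 inferInstance R S T f g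
  asIso (K.comp f g)

end Aux


/-- Let `p : 𝒳 ⥤ 𝒮` be a fibred category with a cleavage `K`, and let `f : T ⟶ S` be an isomorphism of
the base. Then the inverse-image functor `f^*` of `K`, from the fibre over `S` to the fibre over
`T`, is an equivalence of categories. -/
theorem result (𝒮 : Type u₁) (𝒳 : Type u₂) [Category.{v₁} 𝒮] [Category.{v₂} 𝒳] (p : 𝒳 ⥤ 𝒮) [p.IsFibered] (K : FibCat.Cleavage p)
    (S T : 𝒮) (f : T ⟶ S) [IsIso f] : (K.inverseImage f).IsEquivalence := by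
  let η : 𝟭 (p.Fiber S) ≅ K.inverseImage f ⋙ K.inverseImage (inv f) :=
    (idIso K S).symm ≪≫ K.inverseImageCongr (IsIso.inv_hom_id f).symm ≪≫ (compIso K f (inv f)).symm
  let ε : K.inverseImage (inv f) ⋙ K.inverseImage f ≅ 𝟭 (p.Fiber T) :=
    compIso K (inv f) f ≪≫ K.inverseImageCongr (IsIso.hom_inv_id f) ≪≫ idIso K T
  exact (CategoryTheory.Equivalence.mk (K.inverseImage f) (K.inverseImage (inv f)) η ε).isEquivalence_functor

end Groth.Agent.S6013
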