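import Groth.Statements.S6019
-- import your own Groth.Agent.* helpers here

set_option autoImplicit false
open CategoryTheory
universe v₁ v₂ u₁ u₂
open FibCat FibCat.Cleavage

namespace Groth.Agent.S6019

set_option backward.isDefEq.respectTransparency false
set_option backward.isDefEq.respectTransparency.types false

open CategoryTheory.Functor

section Aux

variable {𝒮 : Type u₁} {𝒳 : Type u₂} [Category.{v₁} 𝒮] [Category.{v₂} 𝒳] (p : 𝒳 ⥤ 𝒮)

/-- A chosen cartesian lift. -/
structure CLift {R S : 𝒮} (a : 𝒳) (f : R ⟶ S) where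
  /-- source -/
  b : 𝒳
  /-- the morphism -/
  φ : b ⟶ a
  /-- it is cartesian -/
  cart : p.IsCartesian f φ

theorem isCartesian_id_of_eqToHom {R S : 𝒮} {a : 𝒳} (ha : p.obj a = S) (f : R ⟶ S)
    (h : ∃ e : R = S, f = eqToHom e) : p.IsCartesian f (𝟙 a) := by
  obtain ⟨e, rfl⟩ := h
  subst e
  subst ha
  rw [eqToHom_refl]
  infer_instance

open Classical in
/-- the normalised choice -/
noncomputable def choice [p.IsPreFibered] {R S : 𝒮} {a : 𝒳} (ha : p.obj a = S) (f : R ⟶ S) :
    CLift p a f :=
  if h : ∃ e : R = S, f = eqToHom e then ⟨a, 𝟙 a, isCartesian_id_of_eqToHom p ha f h⟩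
  else ⟨IsPreFibered.pullbackObj ha f, IsPreFibered.pullbackMap ha f, inferInstance⟩

theorem choice_id [p.IsPreFibered] {S : 𝒮} {a : 𝒳} (ha : p.obj a = S) :
    choice p ha (𝟙 S) = ⟨a, 𝟙 a, isCartesian_id_of_eqToHom p ha (𝟙 S) ⟨rfl, rfl⟩⟩ := by
  unfold choice
  rw [dif_pos ⟨rfl, rfl⟩]

end Aux


/-- A pre-fibred category admits a normalised cleavage: if every base morphism `R ⟶ p(a)` has a
cartesian morphism over it with target `a`, then one cartesian lift can be chosen for every base
morphism at every object over its target in such a way that the chosen lift of each identity `𝟙 S`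
at each object `a` over `S` is the identity of `a` (identities are transport morphisms). -/
theorem result (𝒮 : Type u₁) (𝒳 : Type u₂) [Category.{v₁} 𝒮] [Category.{v₂} 𝒳]
    (p : 𝒳 ⥤ 𝒮) [p.IsPreFibered] : ∃ K : FibCat.Cleavage p, K.IsNormalised := by
  refine ⟨⟨fun ha f => (choice p ha f).b, fun ha f => (choice p ha f).φ,
    fun ha f => (choice p ha f).cart⟩, ?_⟩
  intro S a ha
  change ∃ h : (choice p ha (𝟙 S)).b = a, (choice p ha (𝟙 S)).φ = eqToHom h
  rw [choice_id p ha]
  exact ⟨rfl, rfl⟩

end Groth.Agent.S6019
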