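import Groth.Statements.S6024
-- import your own Groth.Agent.* helpers here

set_option autoImplicit false
universe u
open CategoryTheory CategoryTheory.Limits TopologicalSpace
open LocCohZ

namespace Groth.Agent.S6024

open Opposite in
theorem surj_top {X : TopCat.{u}} (F : CohTop.Ab X)
    (h : ∀ U : Opens X, Subsingleton (LocCohZ.HZc F 1 U)) (U : Opens X) (s : F.obj.obj (op U)) :
    ∃ t : F.obj.obj (op (⊤ : Opens X)), (F.obj.map (homOfLE (le_top : U ≤ ⊤)).op).hom t = s := by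
  have hS := LocCohZ.zqSeq_shortExact (le_top : U ≤ ⊤)
  haveI : Subsingleton (Abelian.Ext.{u} (LocCohZ.zqSeq (le_top : U ≤ ⊤)).X₃ F 1) := h U
  let x₁ : Abelian.Ext.{u} (LocCohZ.zqSeq (le_top : U ≤ ⊤)).X₁ F 0 :=
    Abelian.Ext.mk₀ (CohFree.ofSect (Opens.grothendieckTopology X) U F s)
  have hx₁ : hS.extClass.comp x₁ (add_zero 1) = 0 := Subsingleton.elim _ _
  obtain ⟨x₂, hx₂⟩ := Abelian.Ext.contravariant_sequence_exact₁ hS F x₁ (add_zero 1) hx₁
  let g : CohCx.freeSheaf (Opens.grothendieckTopology X) (⊤ : Opens X) ⟶ F := Abelian.Ext.addEquiv₀ x₂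
  have hg : CohCx.freeSheafMap (Opens.grothendieckTopology X) (homOfLE (le_top : U ≤ ⊤)) ≫ g =
      CohFree.ofSect (Opens.grothendieckTopology X) U F s := by
    have h1 : x₂ = Abelian.Ext.mk₀ g := (Abelian.Ext.mk₀_addEquiv₀_apply x₂).symm
    rw [h1] at hx₂
    change (Abelian.Ext.mk₀ (CohCx.freeSheafMap (Opens.grothendieckTopology X)
      (homOfLE (le_top : U ≤ ⊤)))).comp (Abelian.Ext.mk₀ g) (zero_add 0) =
        Abelian.Ext.mk₀ (CohFree.ofSect (Opens.grothendieckTopology X) U F s) at hx₂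
    rw [Abelian.Ext.mk₀_comp_mk₀] at hx₂
    exact Abelian.Ext.addEquiv₀.symm.injective hx₂
  refine ⟨CohFree.evalGen (Opens.grothendieckTopology X) ⊤ F g, ?_⟩
  rw [← CohFree.evalGen_freeSheafMap_comp, hg, CohFree.evalGen_ofSect]


/-- Consider a topological space X carrying a sheaf of abelian groups F, and assume that H^1_Z(X, F)
vanishes for each closed subset Z of X (writing Z = X − U with U open). Under this assumption, F is
flasque. -/
theorem result {X : TopCat.{u}} (F : CohTop.Ab X)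
    (h : ∀ U : Opens X, Subsingleton (LocCohZ.HZc F 1 U)) : TopCat.Sheaf.IsFlasque F := by
  refine ⟨fun {U V} i => ?_⟩
  rw [AddCommGrpCat.epi_iff_surjective]
  intro s
  obtain ⟨t, ht⟩ := surj_top F h V.unop s
  refine ⟨(F.obj.map (homOfLE (le_top : U.unop ≤ ⊤)).op).hom t, ?_⟩
  rw [← ht]
  change ((F.obj.map (homOfLE (le_top : U.unop ≤ ⊤)).op) ≫ F.obj.map i).hom t = _
  rw [← F.obj.map_comp]
  rfl

end Groth.Agent.S6024
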