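import Groth.Statements.S6028
-- import your own Groth.Agent.* helpers here

set_option autoImplicit false
universe u
open CategoryTheory CategoryTheory.Limits TopologicalSpace
open LocCohZ

namespace Groth.Agent.S6028

section Abstract

universe v' u'
variable {C : Type u'} [Category.{v'} C] [Abelian C]

/-- Third isomorphism theorem, abstract form: for `f : A ⟶ B`, `g : B ⟶ D` mono and `h = f ≫ g`,
`coker f ⟶ coker h ⟶ coker g` is short exact. -/
theorem third_iso_shortExact {A B D : C} (f : A ⟶ B) (g : B ⟶ D) (h : A ⟶ D) [Mono g]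
    (hfg : f ≫ g = h)
    (m1 : cokernel f ⟶ cokernel h) (m2 : cokernel h ⟶ cokernel g)
    (hm1 : cokernel.π f ≫ m1 = g ≫ cokernel.π h)
    (hm2 : cokernel.π h ≫ m2 = cokernel.π g) :
    ∃ w : m1 ≫ m2 = 0, (ShortComplex.mk m1 m2 w).ShortExact := by
  have w : m1 ≫ m2 = 0 := by
    apply (cancel_epi (cokernel.π f)).1
    rw [reassoc_of% hm1, hm2, cokernel.condition, comp_zero]
  refine ⟨w, ?_⟩
  have hepi : Epi m2 := by
    have : Epi (cokernel.π h ≫ m2) := by rw [hm2]; infer_instance
    exact epi_of_epi (cokernel.π h) m2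
  have hmono : Mono m1 := by
    rw [Preadditive.mono_iff_cancel_zero]
    intro T x hx
    obtain ⟨T', p, hp, b, hb⟩ := surjective_up_to_refinements_of_epi (cokernel.π f) x
    have hbg : (b ≫ g) ≫ cokernel.π h = 0 := by
      rw [Category.assoc, ← hm1, ← reassoc_of% hb, hx, comp_zero]
    have hex : (ShortComplex.mk h (cokernel.π h) (cokernel.condition h)).Exact :=
      ShortComplex.exact_of_g_is_cokernel _ (cokernelIsCokernel _)
    obtain ⟨T'', p', hp', a, ha⟩ := hex.exact_up_to_refinements (b ≫ g) hbg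
    dsimp at ha
    have hab : a ≫ f = p' ≫ b := by
      apply (cancel_mono g).1
      rw [Category.assoc, hfg, ← ha, Category.assoc]
    have : (p' ≫ p) ≫ x = 0 := by
      rw [Category.assoc, hb, ← reassoc_of% hab, cokernel.condition, comp_zero]
    have hepi' : Epi (p' ≫ p) := epi_comp _ _
    exact (cancel_epi (p' ≫ p)).1 (by rw [this, comp_zero])
  refine { exact := ?_, mono_f := hmono, epi_g := hepi }
  rw [ShortComplex.exact_iff_exact_up_to_refinements]
  intro T x hx
  dsimp at x hx ⊢
  obtain ⟨T', p, hp, d, hd⟩ := surjective_up_to_refinements_of_epi (cokernel.π h) x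
  have hdg : d ≫ cokernel.π g = 0 := by
    rw [← hm2, ← reassoc_of% hd, hx, comp_zero]
  have hex : (ShortComplex.mk g (cokernel.π g) (cokernel.condition g)).Exact :=
    ShortComplex.exact_of_g_is_cokernel _ (cokernelIsCokernel _)
  obtain ⟨T'', p', hp', b, hb⟩ := hex.exact_up_to_refinements d hdg
  dsimp at hb
  refine ⟨T'', p' ≫ p, epi_comp _ _, b ≫ cokernel.π f, ?_⟩
  rw [Category.assoc, hd, reassoc_of% hb, Category.assoc, hm1]

end Abstract

/-- Let X be a topological space and W ⊆ V ⊆ T opens of X; put Z = T − W, Z' = T − V and Z'' = V − W, so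
that Z' is closed in Z with complement Z''. Then 0 → ℤ_{Z'',X} → ℤ_{Z,X} → ℤ_{Z',X} → 0 is a short
exact sequence of abelian sheaves on X, where ℤ_{Z,X} = ℤ_T/ℤ_W and the maps are the induced ones. -/
theorem result {X : TopCat.{u}} {W V T : Opens X} (hWV : W ≤ V) (hVT : V ≤ T) :
    ∃ w : LocCohZ.zqMap (hWV.trans hVT) hWV le_rfl hVT ≫ LocCohZ.zqMap hVT (hWV.trans hVT) hWV le_rfl = 0,
      (ShortComplex.mk _ _ w).ShortExact := by
  have hmono : Mono (CohCx.freeSheafMap (Opens.grothendieckTopology X) (homOfLE hVT)) :=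
    (zqSeq_shortExact hVT).mono_f
  refine third_iso_shortExact
    (CohCx.freeSheafMap (Opens.grothendieckTopology X) (homOfLE hWV))
    (CohCx.freeSheafMap (Opens.grothendieckTopology X) (homOfLE hVT))
    (CohCx.freeSheafMap (Opens.grothendieckTopology X) (homOfLE (hWV.trans hVT)))
    ?_ _ _ ?_ ?_
  · rw [← CohFree.freeSheafMap_comp]
    rfl
  · simp [LocCohZ.zqMap]
  · simp only [LocCohZ.zqMap, cokernel.π_desc]
    have : homOfLE (le_refl T) = 𝟙 T := rfl
    rw [this, CohFree.freeSheafMap_id, Category.id_comp]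

end Groth.Agent.S6028
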