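import Groth.Statements.S6033
import Mathlib
import Groth.Agent.Lib.Helper83.KLimVanish
import Groth.Agent.Lib.Helper83.KLimFlasque
import Groth.Agent.Lib.Helper83.KLimFlasque2

set_option autoImplicit false
universe u
open CategoryTheory CategoryTheory.Limits TopologicalSpace AlgebraicGeometry
open LocCohZ

namespace Groth.Agent.S6033

/-- Let A be a commutative ring such that the underlying space of X = Spec A is Noetherian. Then M~ is
flasque for every injective A-module M if and only if colim_n H^1(f^n, M) = 0 (direct limit of
Koszul cohomology of the powers) for every finite family f of elements of A and every injective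
A-module M; and in that case colim_n H^i(f^n, M) = 0 for all i > 0 as well. -/
theorem result (A : Type u) [CommRing A]
    [NoetherianSpace (PrimeSpectrum A)] :
    ((∀ (M : Type u) [AddCommGroup M] [Module A M], Module.Injective A M →
        TopCat.Sheaf.IsFlasque (Coh.toAb (AlgebraicGeometry.tilde (R := CommRingCat.of A) (ModuleCat.of A M)))) ↔
      ∀ (fs : List A) (M : Type u) [AddCommGroup M] [Module A M], Module.Injective A M →
        Subsingleton (CohIII.koszulHLim fs (ModuleCat.of A M) 1)) ∧
    ((∀ (M : Type u) [AddCommGroup M] [Module A M], Module.Injective A M →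
        TopCat.Sheaf.IsFlasque (Coh.toAb (AlgebraicGeometry.tilde (R := CommRingCat.of A) (ModuleCat.of A M)))) →
      ∀ (fs : List A) (M : Type u) [AddCommGroup M] [Module A M], Module.Injective A M →
        ∀ i : ℕ, 0 < i → Subsingleton (CohIII.koszulHLim fs (ModuleCat.of A M) i)) := by
  have key : ∀ (M : Type u) [AddCommGroup M] [Module A M],
      TopCat.Sheaf.IsFlasque (Coh.toAb (AlgebraicGeometry.tilde (R := CommRingCat.of A)
        (ModuleCat.of A M))) ↔
      ∀ fs : List A, Subsingleton (CohIII.koszulHLim fs (ModuleCat.of A M) 1) := by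
    intro M _ _
    rw [Groth.Agent.Lib.Helper83.KLimFlasque.isFlasque_iff]
    constructor
    · intro h fs
      exact (Groth.Agent.Lib.Helper83.KLimFlasque.surjective_res_iff M fs).1
        (h (Groth.Agent.Lib.Helper83.KLimFlasque.UU fs))
    · intro h U
      obtain ⟨fs, rfl⟩ := Groth.Agent.Lib.Helper83.KLimFlasque.exists_UU U
      exact (Groth.Agent.Lib.Helper83.KLimFlasque.surjective_res_iff M fs).2 (h fs)
  refine ⟨⟨fun h fs M _ _ hM => (key M).1 (h M hM) fs,
    fun h M _ _ hM => (key M).2 (fun fs => h fs M hM)⟩, ?_⟩
  intro h fs M _ _ hM i hi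
  exact Groth.Agent.Lib.Helper83.KLimVanish.subsingleton_koszulHLim_of_one (ModuleCat.of A M)
    ((key M).1 (h M hM)) fs i hi

end Groth.Agent.S6033
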