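import Groth.Statements.S6034
-- import your own Groth.Agent.* helpers here
import Groth.Agent.Lib.Helper41.LCSheafDepth

set_option autoImplicit false
universe u
open CategoryTheory CategoryTheory.Limits TopologicalSpace AlgebraicGeometry
open LocCohZ

namespace Groth.Agent.S6034

/-- Let X be a locally Noetherian scheme, Y a closed subset with open complement U, M a coherent
O_X-module with underlying abelian sheaf F and n a natural number. Then ℋ^i_Y(F) = 0 for all i < n
if and only if depth M_x ≥ n for every x ∈ Y. -/
theorem result (X : Scheme.{u}) [IsLocallyNoetherian X] (U : X.Opens)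
    (M : X.Modules) (hM : Coh.IsCoh M) (n : ℕ) :
    (∀ i : ℕ, i < n → IsZero ((LocCohZ.HZsh (X := X.carrier) U i).obj (Coh.toAb M))) ↔
      ∀ x : X, x ∉ (U : Set X) →
        (n : ℕ∞) ≤ LocCoh.depth (X.presheaf.stalk x) (M.presheaf.stalk x) := by
  have : M.IsQuasicoherent := hM.1
  have : M.IsFiniteType := hM.2
  constructor
  · intro h x hx
    exact Groth.Agent.Lib.Helper41.LCSheafDepth.depth_of_isZero_HZsh M U n h x hx
  · intro hd i hi
    exact Groth.Agent.Lib.Helper41.LCSheafDepth.isZero_HZsh_of_depth M U n hd i hi

end Groth.Agent.S6034
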