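import Groth.Statements.S6035
-- import your own Groth.Agent.* helpers here

set_option autoImplicit false
universe u
open Matlis

namespace Groth.Agent.S6035

section Aux

variable {A : Type u} [CommRing A] [IsLocalRing A]
variable {E : Type u} [AddCommGroup E] [Module A E]

/-- The socle of `E` is the image of the residue field. -/
theorem mem_range_of_smul_eq_zero (f : IsLocalRing.ResidueField A →ₗ[A] E)
    (hf : InjHull.IsEssentialInj f)
    (e : E) (he : ∀ a ∈ IsLocalRing.maximalIdeal A, a • e = 0) : e ∈ LinearMap.range f := by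
  by_cases h0 : e = 0
  · subst h0; exact zero_mem _
  have hN : Submodule.span A {e} ≠ ⊥ := by
    rw [Ne, Submodule.span_singleton_eq_bot]; exact h0
  have := hf.essential _ hN
  obtain ⟨x, hx, hx0⟩ := (Submodule.ne_bot_iff _).1 this
  obtain ⟨hx1, hx2⟩ := Submodule.mem_inf.1 hx
  obtain ⟨a, rfl⟩ := Submodule.mem_span_singleton.1 hx1
  have ha : IsUnit a := by
    by_contra hna
    exact hx0 (he a ((IsLocalRing.mem_maximalIdeal a).2 hna))
  obtain ⟨u, rfl⟩ := ha
  have : e = (↑u⁻¹ : A) • ((u : A) • e) := by rw [smul_smul]; simp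
  rw [this]
  exact Submodule.smul_mem _ _ hx2

theorem f_residue (f : IsLocalRing.ResidueField A →ₗ[A] E) (a : A) :
    f (IsLocalRing.residue A a) = a • f 1 := by
  rw [← map_smul]
  congr 1
  rw [Algebra.smul_def, mul_one]
  rfl

theorem exists_map_ne_zero (f : IsLocalRing.ResidueField A →ₗ[A] E)
    (hf : InjHull.IsInjectiveHull f) {M : Type u} [AddCommGroup M] [Module A M]
    (x : M) (hx : x ≠ 0) : ∃ φ : M →ₗ[A] E, φ x ≠ 0 := by
  have hinj : Module.Injective A E := hf.isInjective
  let I : Ideal A := LinearMap.ker (LinearMap.toSpanSingleton A M x)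
  have hI : I ≤ IsLocalRing.maximalIdeal A := by
    apply IsLocalRing.le_maximalIdeal
    intro h
    have h1 : (1 : A) ∈ I := by rw [h]; trivial
    have : (1 : A) • x = 0 := by simpa [I] using h1
    rw [one_smul] at this
    exact hx this
  let ι : (A ⧸ I) →ₗ[A] M := Submodule.liftQ I (LinearMap.toSpanSingleton A M x) le_rfl
  have hι : Function.Injective ι := by
    rw [← LinearMap.ker_eq_bot]; exact Submodule.ker_liftQ_eq_bot _ _ _ le_rfl
  let g' : A →ₗ[A] E := f ∘ₗ Algebra.linearMap A (IsLocalRing.ResidueField A)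
  have hg' : I ≤ LinearMap.ker g' := by
    intro a ha
    have : IsLocalRing.residue A a = 0 := (IsLocalRing.residue_eq_zero_iff a).2 (hI ha)
    rw [LinearMap.mem_ker]
    change f (IsLocalRing.residue A a) = 0
    rw [this, map_zero]
  let g : (A ⧸ I) →ₗ[A] E := Submodule.liftQ I g' hg'
  obtain ⟨h, hh⟩ := Module.Injective.extension_property A E _ _ ι hι g
  refine ⟨h, ?_⟩
  have h1 : h x = f 1 := by
    have := LinearMap.congr_fun hh (Submodule.Quotient.mk 1)
    simp only [LinearMap.comp_apply, ι, g, Submodule.liftQ_apply, LinearMap.toSpanSingleton_apply,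
      one_smul] at this
    rw [this]
    change f (IsLocalRing.residue A 1) = f 1
    rw [map_one]
  rw [h1]
  intro h0
  have := hf.injective (h0.trans (map_zero f).symm)
  exact one_ne_zero this

theorem apply_injective (f : IsLocalRing.ResidueField A →ₗ[A] E)
    (hf : InjHull.IsInjectiveHull f) (M : Type u) [AddCommGroup M] [Module A M] :
    Function.Injective (LinearMap.applyₗ : M →ₗ[A] (M →ₗ[A] E) →ₗ[A] E) := by
  rw [← LinearMap.ker_eq_bot, Submodule.eq_bot_iff]
  intro x hx
  by_contra hx0
  obtain ⟨φ, hφ⟩ := exists_map_ne_zero f hf x hx0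
  apply hφ
  have := LinearMap.congr_fun (LinearMap.mem_ker.1 hx) φ
  simpa using this

theorem apply_surjective_of_simple (f : IsLocalRing.ResidueField A →ₗ[A] E)
    (hf : InjHull.IsInjectiveHull f) (Q : Type u) [AddCommGroup Q] [Module A Q]
    [IsSimpleModule A Q] :
    Function.Surjective (LinearMap.applyₗ : Q →ₗ[A] (Q →ₗ[A] E) →ₗ[A] E) := by
  obtain ⟨I, hI, ⟨e⟩⟩ := isSimpleModule_iff_quot_maximal.mp (inferInstance : IsSimpleModule A Q)
  obtain rfl := IsLocalRing.eq_maximalIdeal hI
  -- a generator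
  let q₀ : Q := e.symm (Submodule.Quotient.mk 1)
  have hgen : ∀ q : Q, ∃ a : A, q = a • q₀ := by
    intro q
    obtain ⟨a, ha⟩ := Submodule.Quotient.mk_surjective _ (e q)
    refine ⟨a, ?_⟩
    apply e.injective
    rw [map_smul, LinearEquiv.apply_symm_apply, ← ha, ← Submodule.Quotient.mk_smul, smul_eq_mul,
      mul_one]
  have hkill : ∀ a ∈ IsLocalRing.maximalIdeal A, a • q₀ = 0 := by
    intro a ha
    apply e.injective
    rw [map_smul, LinearEquiv.apply_symm_apply, ← Submodule.Quotient.mk_smul, smul_eq_mul,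
      mul_one, map_zero]
    exact (Submodule.Quotient.mk_eq_zero _).2 ha
  -- the basic character
  have hχ₀ : ∃ χ₀ : Q →ₗ[A] E, χ₀ q₀ = f 1 := by
    obtain ⟨b, hb⟩ := hgen q₀
    let g' : A →ₗ[A] E := f ∘ₗ Algebra.linearMap A (IsLocalRing.ResidueField A)
    have hg' : IsLocalRing.maximalIdeal A ≤ LinearMap.ker g' := by
      intro a ha
      have : IsLocalRing.residue A a = 0 := (IsLocalRing.residue_eq_zero_iff a).2 ha
      rw [LinearMap.mem_ker]
      change f (IsLocalRing.residue A a) = 0
      rw [this, map_zero]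
    refine ⟨(Submodule.liftQ _ g' hg') ∘ₗ e.toLinearMap, ?_⟩
    simp only [LinearMap.comp_apply, LinearEquiv.coe_coe, q₀, LinearEquiv.apply_symm_apply,
      Submodule.liftQ_apply]
    change f (IsLocalRing.residue A 1) = f 1
    rw [map_one]
  obtain ⟨χ₀, hχ₀⟩ := hχ₀
  have hχ : ∀ χ : Q →ₗ[A] E, ∃ a : A, χ = a • χ₀ := by
    intro χ
    have hmem : χ q₀ ∈ LinearMap.range f := by
      apply mem_range_of_smul_eq_zero f hf.toIsEssentialInj
      intro a ha
      rw [← map_smul, hkill a ha, map_zero]
    obtain ⟨c, hc⟩ := hmem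
    obtain ⟨a, rfl⟩ := IsLocalRing.residue_surjective c
    refine ⟨a, ?_⟩
    apply LinearMap.ext
    intro q
    obtain ⟨b, rfl⟩ := hgen q
    rw [map_smul, LinearMap.smul_apply, map_smul, hχ₀, ← hc, f_residue]
    exact smul_comm b a (f 1)
  intro ψ
  have hmem : ψ χ₀ ∈ LinearMap.range f := by
    apply mem_range_of_smul_eq_zero f hf.toIsEssentialInj
    intro a ha
    rw [← map_smul]
    have : a • χ₀ = 0 := by
      apply LinearMap.ext
      intro q
      obtain ⟨b, rfl⟩ := hgen q
      rw [LinearMap.smul_apply, ← map_smul, smul_comm, hkill a ha, smul_zero, map_zero]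
      rfl
    rw [this, map_zero]
  obtain ⟨c, hc⟩ := hmem
  obtain ⟨b, rfl⟩ := IsLocalRing.residue_surjective c
  refine ⟨b • q₀, ?_⟩
  apply LinearMap.ext
  intro χ
  obtain ⟨a, rfl⟩ := hχ χ
  rw [LinearMap.applyₗ_apply_apply, map_smul ψ, ← hc, f_residue, LinearMap.smul_apply,
    map_smul χ₀, hχ₀]

theorem apply_surjective (f : IsLocalRing.ResidueField A →ₗ[A] E)
    (hf : InjHull.IsInjectiveHull f) (M : Type u) [AddCommGroup M] [Module A M]
    (hM : IsFiniteLength A M) :
    Function.Surjective (LinearMap.applyₗ : M →ₗ[A] (M →ₗ[A] E) →ₗ[A] E) := by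
  have hinj : Module.Injective A E := hf.isInjective
  induction hM with
  | of_subsingleton =>
    intro ψ
    refine ⟨0, ?_⟩
    apply LinearMap.ext
    intro φ
    have : φ = 0 := by
      apply LinearMap.ext
      intro x
      rw [Subsingleton.elim x 0, map_zero, map_zero]
    rw [this, map_zero, map_zero]
  | @of_simple_quotient M _ _ N _ hN ih =>
    intro ψ
    -- the part on the simple quotient
    let ψQ : ((M ⧸ N) →ₗ[A] E) →ₗ[A] E := ψ ∘ₗ LinearMap.lcomp A E N.mkQ
    obtain ⟨q, hq⟩ := apply_surjective_of_simple f hf (M ⧸ N) ψQ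
    obtain ⟨m₀, rfl⟩ := N.mkQ_surjective q
    let ψ' : (M →ₗ[A] E) →ₗ[A] E := ψ - LinearMap.applyₗ m₀
    let r : (M →ₗ[A] E) →ₗ[A] (N →ₗ[A] E) := LinearMap.lcomp A E N.subtype
    have hr : Function.Surjective r := by
      intro g
      obtain ⟨h, hh⟩ := Module.Injective.extension_property A E _ _ N.subtype
        N.injective_subtype g
      exact ⟨h, hh⟩
    have hker : LinearMap.ker r ≤ LinearMap.ker ψ' := by
      intro φ hφ
      rw [LinearMap.mem_ker] at hφ ⊢
      have hN' : N ≤ LinearMap.ker φ := by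
        intro n hn
        rw [LinearMap.mem_ker]
        exact LinearMap.congr_fun hφ ⟨n, hn⟩
      have hφ' : φ = (N.liftQ φ hN') ∘ₗ N.mkQ := by
        apply LinearMap.ext
        intro x
        simp
      have h1 := LinearMap.congr_fun hq (N.liftQ φ hN')
      change N.liftQ φ hN' (N.mkQ m₀) = ψ ((N.liftQ φ hN') ∘ₗ N.mkQ) at h1
      rw [← hφ'] at h1
      change ψ φ - φ m₀ = 0
      rw [← h1]
      simp
    let ψN : (N →ₗ[A] E) →ₗ[A] E :=
      (Submodule.liftQ _ ψ' hker) ∘ₗ (LinearMap.quotKerEquivOfSurjective r hr).symm.toLinearMap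
    have hψN : ∀ φ : M →ₗ[A] E, ψN (r φ) = ψ' φ := by
      intro φ
      simp only [ψN, LinearMap.comp_apply, LinearEquiv.coe_coe]
      rw [LinearMap.quotKerEquivOfSurjective_symm_apply]
      rfl
    obtain ⟨n, hn⟩ := ih ψN
    refine ⟨m₀ + (n : M), ?_⟩
    apply LinearMap.ext
    intro φ
    have h1 := hψN φ
    rw [← hn] at h1
    change φ (n : M) = ψ φ - φ m₀ at h1
    rw [LinearMap.applyₗ_apply_apply, map_add, h1]
    abel

end Aux

/-- The case of the dualizing functor Hom_A(−, E). Let A be a Noetherian local ring, E an injective hull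
of its residue field and M an A-module of finite length. Then the evaluation map M → Hom_A(Hom_A(M,
E), E) is bijective. -/
theorem result (A : Type u) [CommRing A] [IsLocalRing A] [IsNoetherianRing A]
    (E : Type u) [AddCommGroup E] [Module A E] (f : IsLocalRing.ResidueField A →ₗ[A] E)
    (hf : InjHull.IsInjectiveHull f) (M : Type u) [AddCommGroup M] [Module A M] (hM : IsFiniteLength A M) :
    Function.Bijective (LinearMap.applyₗ : M →ₗ[A] (M →ₗ[A] E) →ₗ[A] E) := by
  exact ⟨apply_injective f hf M, apply_surjective f hf M hM⟩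

end Groth.Agent.S6035
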