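import Groth.Statements.S6040
import Groth.Agent.Lib.Cohomology.Helper3_LocCohSh
-- import your own Groth.Agent.* helpers here

set_option autoImplicit false
universe u
open CategoryTheory CategoryTheory.Limits TopologicalSpace
open LocCohZ

namespace Groth.Agent.S6040

open Groth.Agent.Lib.Cohomology in
theorem key {X : TopCat.{u}} (U : Opens X) (q : ℕ) (g : TopCat.of U ⟶ X) (hg : g = CohCx.incl U)
    [(CohTop.restrFunctor U ⋙ CohTop.push g).Additive] :
    Nonempty ((CohTop.restrFunctor U ⋙ CohTop.push g).rightDerived q ≅
      CohTop.restrFunctor U ⋙ CohTop.Rpush (CohCx.incl U) q) := by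
  subst hg
  refine RDerComp.nonempty_rightDerived_comp_iso (CohTop.restrFunctor U)
    (CohTop.push (CohCx.incl U)) (fun n I hI => ?_) q
  have : TopCat.Sheaf.IsFlasque I := isFlasque_of_injective I
  have : TopCat.Sheaf.IsFlasque (CohTop.restr I U) := Restr.isFlasque_restr U I
  exact isZero_Rpush_succ_of_flasque (CohCx.incl U) (CohTop.restr I U) n

/-- Let X be a topological space, U an open subset and j : U → X the inclusion, so that the sheaf of
sections with supports in the open U is Γ_U(F) = j_*(F|_U). For every q the local cohomology sheaf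
functor ℋ^q_U, i.e. the q-th right derived functor of F ↦ j_*(F|_U), is isomorphic to F ↦ R^q
j_*(F|_U). (Existence of an isomorphism of functors for each q.) -/
theorem result {X : TopCat.{u}} (U : Opens X) (q : ℕ) :
    Nonempty (CohCx.RpushOn (𝟙 X) U q ≅ CohTop.restrFunctor U ⋙ CohTop.Rpush (CohCx.incl U) q) := by
  exact key U q _ (Category.comp_id _)

end Groth.Agent.S6040
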