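import Groth.Statements.S6045
import Mathlib
-- import your own Groth.Agent.* helpers here

set_option autoImplicit false
open CategoryTheory CategoryTheory.Limits AlgebraicGeometry
universe u
open GrpQ

namespace Groth.Agent.S6045

open Desc

/-- pointwise compatibility of the open images in a descent datum of open immersions -/
theorem mem_range_of_mem_range {S : Scheme.{u}} {ι : Type u} {X : ι → Scheme.{u}}
    (f : ∀ i, X i ⟶ S) (D : Desc.SchDDFam f) (hD : ∀ i, IsOpenImmersion (D.obj i).hom)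
    {T : Scheme.{u}} {i j : ι} (x₀ : T ⟶ X i) (x₁ : T ⟶ X j) (h : x₀ ≫ f i = x₁ ≫ f j) (t : T)
    (ht : x₀.base t ∈ Set.range (D.obj i).hom.base) :
    x₁.base t ∈ Set.range (D.obj j).hom.base := by
  have := hD i
  -- the point `Spec κ(t) ⟶ T`
  let κ := T.fromSpecResidueField t
  have hrange : Set.range (κ ≫ x₀).base ⊆ Set.range (D.obj i).hom.base := by
    rintro _ ⟨z, rfl⟩
    have hz : κ.base z = t := by
      have := T.range_fromSpecResidueField t
      have hz' : κ.base z ∈ Set.range κ.base := ⟨z, rfl⟩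
      rw [this] at hz'
      exact hz'
    rw [Scheme.Hom.comp_apply, hz]
    exact ht
  let v : Desc.Lifts (D.obj i) (κ ≫ x₀) :=
    ⟨IsOpenImmersion.lift (D.obj i).hom (κ ≫ x₀) hrange, IsOpenImmersion.lift_fac _ _ _⟩
  have h' : (κ ≫ x₀) ≫ f i = (κ ≫ x₁) ≫ f j := by
    rw [Category.assoc, Category.assoc, h]
  let v' := D.φ (κ ≫ x₀) (κ ≫ x₁) h' v
  have hv' : v'.1 ≫ (D.obj j).hom = κ ≫ x₁ := v'.2
  obtain ⟨z, hz⟩ : ∃ z, κ.base z = t := by
    have := T.range_fromSpecResidueField t
    have : t ∈ Set.range κ.base := by rw [this]; rfl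
    exact this
  refine ⟨v'.1.base z, ?_⟩
  rw [← Scheme.Hom.comp_apply, hv', Scheme.Hom.comp_apply, hz]

/-- Open immersions descend along the fpqc topology. For an fpqc covering family `f i : X i ⟶ S` of a
scheme `S`, every descent datum for schemes relative to the family all of whose members `Z i ⟶ X i`
are open immersions is effective. -/
theorem result {S : Scheme.{u}} {ι : Type u} {X : ι → Scheme.{u}}
    (f : ∀ i, X i ⟶ S) (hf : Presieve.ofArrows X f ∈ Scheme.fpqcPrecoverage S)
    (D : Desc.SchDDFam f) (hD : ∀ i, IsOpenImmersion (D.obj i).hom) :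
    D.IsEffective := by
  have hDi := hD
  -- the open subsets `W i ⊆ X i`
  let x : ∀ i, (continuousMapPresheaf.{0, u} Prop).obj (Opposite.op (X i)) := fun i =>
    ⟨fun y => y ∈ Set.range (D.obj i).hom.base,
      isOpen_iff_continuous_mem.1 (D.obj i).hom.isOpenEmbedding.isOpen_range⟩
  have hcompat : Presieve.Arrows.Compatible (continuousMapPresheaf.{0, u} Prop) f x := by
    intro i j Z gi gj hg
    apply ContinuousMap.ext
    intro z
    show (gi.base z ∈ Set.range (D.obj i).hom.base) = (gj.base z ∈ Set.range (D.obj j).hom.base)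
    exact propext ⟨fun h => mem_range_of_mem_range f D hD gi gj hg z h,
      fun h => mem_range_of_mem_range f D hD gj gi hg.symm z h⟩
  have hsheaf : Presieve.IsSheafFor (continuousMapPresheaf.{0, u} Prop) (Presieve.ofArrows X f) := by
    rw [Presieve.isSheafFor_iff_generate]
    exact ((isSheaf_iff_isSheaf_of_type _ _).1
      (isSheaf_fpqcTopology_continuousMapPresheaf.{0, u} Prop)) _
      (Precoverage.generate_mem_toGrothendieck hf)
  obtain ⟨t', ht, -⟩ := (Presieve.isSheafFor_arrows_iff _ _).1 hsheaf x hcompat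
  let t : C(S, Prop) := t'
  -- the open subset of `S`
  let W : S.Opens := ⟨{s | t s}, isOpen_iff_continuous_mem.2 t.continuous⟩
  have hW : ∀ i, (f i).base ⁻¹' (W : Set S) = Set.range (D.obj i).hom.base := by
    intro i
    ext y
    have := congrArg (fun c : C(X i, Prop) => c y) (ht i)
    exact Iff.of_eq (show (t ((f i).base y)) = (y ∈ Set.range (D.obj i).hom.base) from this)
  have hrange : ∀ i, Set.range (pullback.fst (f i) W.ι).base = Set.range (D.obj i).hom.base := by
    intro i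
    rw [Scheme.Pullback.range_fst, Scheme.Opens.range_ι, hW]
  let e : ∀ i, pullback (f i) W.ι ≅ (D.obj i).left := fun i =>
    IsOpenImmersion.isoOfRangeEq (pullback.fst (f i) W.ι) (D.obj i).hom (hrange i)
  have he : ∀ i, (e i).hom ≫ (D.obj i).hom = pullback.fst (f i) W.ι := fun i =>
    IsOpenImmersion.isoOfRangeEq_hom_fac _ _ _
  have he' : ∀ i, (e i).inv ≫ pullback.fst (f i) W.ι = (D.obj i).hom := fun i => by
    rw [← he i, Iso.inv_hom_id_assoc]
  have hmono : ∀ i, Mono (D.obj i).hom := fun i => inferInstance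
  have hmono' : ∀ i, Mono (pullback.fst (f i) W.ι) := fun i => inferInstance
  refine ⟨Over.mk W.ι, ⟨{
    hom := ⟨fun i => Over.homMk (e i).hom (he i), ?_⟩
    inv := ⟨fun i => Over.homMk (e i).inv (he' i), ?_⟩
    hom_inv_id := ?_
    inv_hom_id := ?_ }⟩⟩
  · intro T i j x₀ x₁ h v w hw
    rw [← cancel_mono (D.obj j).hom]
    have h1 : (D.φ x₀ x₁ h w).1 ≫ (D.obj j).hom = x₁ := (D.φ x₀ x₁ h w).2
    have h2 : (((toDDFam f).obj (Over.mk W.ι)).φ x₀ x₁ h v).1 ≫ pullback.fst (f j) W.ι = x₁ :=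
      (((toDDFam f).obj (Over.mk W.ι)).φ x₀ x₁ h v).2
    rw [h1, Category.assoc]
    have h3 : (((toDDFam f).obj (Over.mk W.ι)).φ x₀ x₁ h v).1 ≫
        ((e j).hom ≫ (D.obj j).hom) = x₁ := by
      refine Eq.trans ?_ h2
      exact congrArg ((((toDDFam f).obj (Over.mk W.ι)).φ x₀ x₁ h v).1 ≫ ·) (he j)
    exact h3.symm
  · intro T i j x₀ x₁ h v w hw
    have h1 : (D.φ x₀ x₁ h v).1 ≫ (D.obj j).hom = x₁ := (D.φ x₀ x₁ h v).2
    have h2 : (((toDDFam f).obj (Over.mk W.ι)).φ x₀ x₁ h w).1 ≫ pullback.fst (f j) W.ι = x₁ :=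
      (((toDDFam f).obj (Over.mk W.ι)).φ x₀ x₁ h w).2
    have h3 : ((D.φ x₀ x₁ h v).1 ≫ (e j).inv) ≫ pullback.fst (f j) W.ι = x₁ := by
      rw [Category.assoc, he' j, h1]
    exact (cancel_mono (pullback.fst (f j) W.ι)).1 (h2.trans h3.symm)
  · apply SchDDFam.hom_ext
    funext i
    apply Over.OverMorphism.ext
    simp
  · apply SchDDFam.hom_ext
    funext i
    apply Over.OverMorphism.ext
    simp

end Groth.Agent.S6045
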