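import Groth.Statements.S6056
-- import your own Groth.Agent.* helpers here
import Groth.Agent.Lib.Helper40.TorsorExact
import Groth.Agent.Lib.Helper40.QuotTower
import Groth.Agent.Lib.Helper40.FlatDescentSrc
import Groth.Agent.S0114

set_option autoImplicit false
open CategoryTheory CategoryTheory.Limits AlgebraicGeometry MonoidalCategory
universe u
open RedSub

namespace Groth.Agent.S6056

open MonObj CartesianMonoidalCategory SemiCartesianMonoidalCategory in
/-- For group schemes and fppf quotients: let `K ⊆ G` be a subgroup scheme and `H ⊆ K` a subgroup scheme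
normal in `K`; suppose `G/H` is represented by `q_H : G ⟶ Q_H` and `K/H` by a homomorphism `K ⟶ K'`
of group schemes, and let `act : Q_H ×_S K' ⟶ Q_H` be the right action induced by the multiplication
of `G`. Then: (i) if `G/K` is represented by `q_K : G ⟶ Q_K`, the map `Q_H ⟶ Q_K` under `G` is an
fppf covering whose kernel pair is `Q_H ×_S K' ⇉ Q_H` (projection, action), i.e. `Q_K =
(G/H)/(K/H)`; (ii) conversely, if `p : Q_H ⟶ Y` is an fppf covering with that kernel pair, then `q_H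
≫ p` represents `G/K`. -/
theorem result {S : Scheme.{u}} {H K G QH Kb : Over S}
    [hH : GrpObj H] [hK : GrpObj K] [hG : GrpObj G] [hKb : GrpObj Kb]
    (h : H ⟶ K) (k : K ⟶ G) [Mono h] [Mono k] [IsMonHom h] [IsMonHom k]
    (hn : AlgGrp.IsNormalHom h)
    (qH : G ⟶ QH) (hqH : RedSub.IsQuotient (h ≫ k) qH)
    (qKb : K ⟶ Kb) [IsMonHom qKb] (hqKb : RedSub.IsQuotient h qKb)
    (act : QH ⊗ Kb ⟶ QH) (hact : (qH ⊗ₘ qKb) ≫ act = (G ◁ k) ≫ μ[G] ≫ qH) :
    (∀ (QK : Over S) (qK : G ⟶ QK), RedSub.IsQuotient k qK →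
      ∀ qbar : QH ⟶ QK, qH ≫ qbar = qK →
        Surjective qbar.left ∧ Flat qbar.left ∧ LocallyOfFinitePresentation qbar.left ∧
          IsPullback (fst QH Kb) act qbar qbar) ∧
    (∀ (Y : Over S) (p : QH ⟶ Y),
      Surjective p.left → Flat p.left → LocallyOfFinitePresentation p.left →
      IsPullback (fst QH Kb) act p p → RedSub.IsQuotient k (qH ≫ p)) := by
  have cH : IsPullback (fst G H) ((G ◁ (h ≫ k)) ≫ μ[G]) qH qH := hqH.2.2.2
  have cKb : IsPullback (fst K H) ((K ◁ h) ≫ μ[K]) qKb qKb := hqKb.2.2.2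
  haveI sH : Surjective qH.left := hqH.1
  haveI fH : Flat qH.left := hqH.2.1
  haveI pH : LocallyOfFinitePresentation qH.left := hqH.2.2.1
  have covH : Groth.Agent.Lib.Helper40.FpqcCov.IsCov qH.left :=
    (Groth.Agent.Lib.Helper40.FpqcCov.IsQCov.of_fppf qH.left).isCov
  have covKb : Groth.Agent.Lib.Helper40.FpqcCov.IsCov qKb.left := by
    haveI : Surjective qKb.left := hqKb.1
    haveI : Flat qKb.left := hqKb.2.1
    haveI : LocallyOfFinitePresentation qKb.left := hqKb.2.2.1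
    exact (Groth.Agent.Lib.Helper40.FpqcCov.IsQCov.of_fppf qKb.left).isCov
  have hactP : ∀ {T : Over S} (g : T ⟶ G) (κ : T ⟶ K),
      lift (g ≫ qH) (κ ≫ qKb) ≫ act = (g * (κ ≫ k)) ≫ qH := by
    intro T g κ
    calc lift (g ≫ qH) (κ ≫ qKb) ≫ act = lift g κ ≫ (qH ⊗ₘ qKb) ≫ act := by
          rw [lift_map_assoc]
      _ = lift g κ ≫ (G ◁ k) ≫ μ[G] ≫ qH := by rw [hact]
      _ = (lift g (κ ≫ k) ≫ μ[G]) ≫ qH := by rw [lift_whiskerLeft_assoc, Category.assoc]
      _ = (g * (κ ≫ k)) ≫ qH := by rw [← Hom.mul_def]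
  have Lft : ∀ {A B : Over S} (f : A ⟶ B), Groth.Agent.Lib.Helper40.FpqcCov.IsCov f.left →
      ∀ {T : Over S} (y : T ⟶ B), ∃ (T' : Over S) (c : T' ⟶ T) (x : T' ⟶ A),
        Groth.Agent.Lib.Helper40.FpqcCov.IsCov c.left ∧ x ≫ f = c ≫ y := by
    intro A B f hf T y
    refine ⟨Limits.pullback y f, Limits.pullback.fst y f, Limits.pullback.snd y f, ?_,
      Limits.pullback.condition.symm⟩
    exact Groth.Agent.Lib.Helper40.FpqcCov.isCov_left_of_isPullback hf
      (IsPullback.of_hasPullback y f)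
  have Lft2 : ∀ {A B A' B' : Over S} (f : A ⟶ B) (f' : A' ⟶ B'),
      Groth.Agent.Lib.Helper40.FpqcCov.IsCov f.left →
      Groth.Agent.Lib.Helper40.FpqcCov.IsCov f'.left →
      ∀ {T : Over S} (y : T ⟶ B) (y' : T ⟶ B'),
        ∃ (T' : Over S) (c : T' ⟶ T) (x : T' ⟶ A) (x' : T' ⟶ A'),
          Groth.Agent.Lib.Helper40.FpqcCov.IsCov c.left ∧ x ≫ f = c ≫ y ∧ x' ≫ f' = c ≫ y' := by
    intro A B A' B' f f' hf hf' T y y'
    obtain ⟨T1, c1, x1, hc1, e1⟩ := Lft f hf y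
    obtain ⟨T2, c2, x2, hc2, e2⟩ := Lft f' hf' (c1 ≫ y')
    refine ⟨T2, c2 ≫ c1, c2 ≫ x1, x2,
      Groth.Agent.Lib.Helper40.FpqcCov.isCov_left_comp hc2 hc1, ?_, ?_⟩
    · rw [Category.assoc, e1, Category.assoc]
    · rw [e2, Category.assoc]
  -- freeness of the action of Kb on QH
  have U : ∀ {T : Over S} (y : T ⟶ QH) (b b' : T ⟶ Kb),
      lift y b ≫ act = lift y b' ≫ act → b = b' := by
    intro T y b b' hbb
    obtain ⟨T1, c1, g, κ, hc1, eg, eκ⟩ := Lft2 qH qKb covH covKb y b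
    obtain ⟨T2, c2, κ', hc2, eκ'⟩ := Lft qKb covKb (c1 ≫ b')
    haveI := Groth.Agent.Lib.Helper40.FpqcCov.epi_of_isCov_left hc1
    haveI := Groth.Agent.Lib.Helper40.FpqcCov.epi_of_isCov_left hc2
    rw [← cancel_epi c1, ← cancel_epi c2]
    have e1 : ((c2 ≫ g) * ((c2 ≫ κ) ≫ k)) ≫ qH = (c2 ≫ c1) ≫ lift y b ≫ act := by
      rw [← hactP, Category.assoc c2 g qH, eg, Category.assoc c2 κ qKb, eκ]
      simp only [comp_lift_assoc, Category.assoc]
    have e2 : ((c2 ≫ g) * (κ' ≫ k)) ≫ qH = (c2 ≫ c1) ≫ lift y b' ≫ act := by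
      rw [← hactP, Category.assoc c2 g qH, eg, eκ']
      simp only [comp_lift_assoc, Category.assoc]
    have e3 : ((c2 ≫ g) * ((c2 ≫ κ) ≫ k)) ≫ qH = ((c2 ≫ g) * (κ' ≫ k)) ≫ qH := by
      rw [e1, e2, hbb]
    obtain ⟨et, het⟩ := Groth.Agent.Lib.Helper40.QuotTower.exists_of_comp_orbit_eq (h ≫ k) qH cH
      _ _ e3
    have e4 : κ' ≫ k = ((c2 ≫ κ) * (et ≫ h)) ≫ k := by
      rw [MonObj.mul_comp (c2 ≫ κ) (et ≫ h) k, Category.assoc et h k]
      have key := het
      rw [_root_.mul_assoc] at key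
      exact _root_.mul_left_cancel key
    have e5 : κ' = (c2 ≫ κ) * (et ≫ h) := (cancel_mono k).1 e4
    have e6 : κ' ≫ qKb = (c2 ≫ κ) ≫ qKb := by
      rw [e5]
      exact Groth.Agent.Lib.Helper40.QuotTower.mul_comp_orbit h qKb cKb (c2 ≫ κ) et
    calc c2 ≫ c1 ≫ b = (c2 ≫ κ) ≫ qKb := by rw [Category.assoc, eκ]
      _ = κ' ≫ qKb := e6.symm
      _ = c2 ≫ c1 ≫ b' := eκ'
  refine ⟨?_, ?_⟩
  · intro QK qK hqK qbar hqb
    have cK : IsPullback (fst G K) ((G ◁ k) ≫ μ[G]) qK qK := hqK.2.2.2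
    have hcomp : qH.left ≫ qbar.left = qK.left := by rw [← Over.comp_left, hqb]
    haveI : Surjective (qH.left ≫ qbar.left) := by rw [hcomp]; exact hqK.1
    haveI : Flat (qH.left ≫ qbar.left) := by rw [hcomp]; exact hqK.2.1
    haveI : LocallyOfFinitePresentation (qH.left ≫ qbar.left) := by rw [hcomp]; exact hqK.2.2.1
    refine ⟨Surjective.of_comp qH.left qbar.left,
      Groth.Agent.Lib.Helper40.FlatDescentSrc.flat_of_comp_of_flat_surjective qH.left qbar.left,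
      Groth.Agent.S0114.result qH.left qbar.left, ?_⟩
    have w : fst QH Kb ≫ qbar = act ≫ qbar := by
      haveI : Epi (qH ⊗ₘ qKb) := Groth.Agent.Lib.Helper40.FpqcCov.epi_of_isCov_left
        (Groth.Agent.Lib.Helper40.FpqcCov.isCov_tensorHom covH covKb)
      have l1 : (qH ⊗ₘ qKb) ≫ fst QH Kb ≫ qbar = fst G K ≫ qK := by
        rw [tensorHom_fst_assoc, hqb]
      have l2 : (qH ⊗ₘ qKb) ≫ act ≫ qbar = fst G K ≫ qK := by
        rw [← Category.assoc, hact, Category.assoc, Category.assoc, hqb, ← Category.assoc,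
          ← cK.w]
      exact (cancel_epi (qH ⊗ₘ qKb)).1 (l1.trans l2.symm)
    refine Groth.Agent.Lib.Helper40.TorsorExact.isPullback_of_existsUnique w ?_
    intro T y1 y2 h12
    obtain ⟨T', c, g1, g2, hc, eg1, eg2⟩ := Lft2 qH qH covH covH y1 y2
    haveI := Groth.Agent.Lib.Helper40.FpqcCov.epi_of_isCov_left hc
    have e0 : g1 ≫ qK = g2 ≫ qK := by
      rw [← hqb, ← Category.assoc, ← Category.assoc, eg1, eg2, Category.assoc, Category.assoc,
        h12]
    obtain ⟨κ, hκ⟩ := Groth.Agent.Lib.Helper40.QuotTower.exists_of_comp_orbit_eq k qK cK g1 g2 e0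
    have eb' : lift (c ≫ y1) (κ ≫ qKb) ≫ act = c ≫ y2 := by
      rw [← eg1, hactP, ← hκ, eg2]
    obtain ⟨b, hb⟩ := Groth.Agent.Lib.Helper40.FpqcCov.exists_desc_over hc (κ ≫ qKb)
      (fun R a1 a2 ha => by
        apply U (a1 ≫ c ≫ y1)
        have l1 : lift (a1 ≫ c ≫ y1) (a1 ≫ κ ≫ qKb) ≫ act = a1 ≫ c ≫ y2 := by
          rw [← eb']
          simp only [comp_lift_assoc]
        have l2 : lift (a1 ≫ c ≫ y1) (a2 ≫ κ ≫ qKb) ≫ act = a1 ≫ c ≫ y2 := by
          have e : a1 ≫ c ≫ y1 = a2 ≫ c ≫ y1 := by rw [← Category.assoc, ha, Category.assoc]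
          rw [e, ← Category.assoc a1 c y2, ha, Category.assoc, ← eb']
          simp only [comp_lift_assoc]
        exact l1.trans l2.symm)
    have hb' : lift y1 b ≫ act = y2 := by
      rw [← cancel_epi c, comp_lift_assoc, hb, eb']
    refine ⟨lift y1 b, ⟨lift_fst _ _, hb'⟩, ?_⟩
    rintro m ⟨hm1, hm2⟩
    have hm : m = lift y1 (m ≫ snd QH Kb) := by rw [← hm1, lift_comp_fst_snd]
    have hmb : m ≫ snd QH Kb = b := by
      apply U y1
      rw [← hm, hm2, hb']
    rw [hm, hmb]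
  · intro Y p hp1 hp2 hp3 cP
    haveI : Surjective p.left := hp1
    haveI : Flat p.left := hp2
    haveI : LocallyOfFinitePresentation p.left := hp3
    refine ⟨?_, ?_, ?_, ?_⟩
    · show Surjective (qH.left ≫ p.left)
      infer_instance
    · show Flat (qH.left ≫ p.left)
      infer_instance
    · show LocallyOfFinitePresentation (qH.left ≫ p.left)
      infer_instance
    · have w : fst G K ≫ qH ≫ p = ((G ◁ k) ≫ μ[G]) ≫ qH ≫ p := by
        suffices hw : ∀ {T : Over S} (g : T ⟶ G) (κ : T ⟶ K),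
            lift g κ ≫ fst G K ≫ qH ≫ p = lift g κ ≫ ((G ◁ k) ≫ μ[G]) ≫ qH ≫ p by
          have key := hw (fst G K) (snd G K)
          rw [lift_fst_snd, Category.id_comp, Category.id_comp] at key
          exact key
        intro T g κ
        have e : lift g κ ≫ ((G ◁ k) ≫ μ[G]) = g * (κ ≫ k) := by
          rw [lift_whiskerLeft_assoc, ← Hom.mul_def]
        calc lift g κ ≫ fst G K ≫ qH ≫ p
            = (lift (g ≫ qH) (κ ≫ qKb) ≫ fst QH Kb) ≫ p := by
              rw [lift_fst, lift_fst_assoc, Category.assoc]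
          _ = (lift (g ≫ qH) (κ ≫ qKb) ≫ act) ≫ p := by
              rw [Category.assoc, cP.w, Category.assoc]
          _ = (g * (κ ≫ k)) ≫ qH ≫ p := by rw [hactP, Category.assoc]
          _ = lift g κ ≫ ((G ◁ k) ≫ μ[G]) ≫ qH ≫ p := by rw [← e, Category.assoc]
      refine Groth.Agent.Lib.Helper40.TorsorExact.isPullback_of_existsUnique w ?_
      intro T g1 g2 h12
      obtain ⟨m, hm1, hm2⟩ : ∃ m : T ⟶ QH ⊗ Kb,
          m ≫ fst QH Kb = g1 ≫ qH ∧ m ≫ act = g2 ≫ qH :=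
        ⟨cP.lift (g1 ≫ qH) (g2 ≫ qH) (by simpa only [Category.assoc] using h12),
          cP.lift_fst _ _ _, cP.lift_snd _ _ _⟩
      obtain ⟨b, hb⟩ : ∃ b : T ⟶ Kb, b = m ≫ snd QH Kb := ⟨_, rfl⟩
      have hm : m = lift (g1 ≫ qH) b := by rw [hb, ← hm1, lift_comp_fst_snd]
      obtain ⟨T', c, κ, hc, eκ⟩ := Lft qKb covKb b
      haveI := Groth.Agent.Lib.Helper40.FpqcCov.epi_of_isCov_left hc
      have e1 : ((c ≫ g1) * (κ ≫ k)) ≫ qH = (c ≫ g2) ≫ qH := by
        rw [← hactP, eκ, Category.assoc, Category.assoc, ← hm2, hm]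
        simp only [comp_lift_assoc, Category.assoc]
      obtain ⟨et, het⟩ := Groth.Agent.Lib.Helper40.QuotTower.exists_of_comp_orbit_eq (h ≫ k) qH cH
        _ _ e1
      obtain ⟨κ', hκ'⟩ : ∃ κ' : T' ⟶ K, κ' = κ * (et ≫ h) := ⟨_, rfl⟩
      have e2 : (c ≫ g1) * (κ' ≫ k) = c ≫ g2 := by
        rw [hκ', MonObj.mul_comp κ (et ≫ h) k, Category.assoc et h k, ← _root_.mul_assoc, ← het]
      obtain ⟨κ0, hκ0⟩ := Groth.Agent.Lib.Helper40.FpqcCov.exists_desc_over hc κ'
        (fun R a1 a2 ha => by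
          rw [← cancel_mono k]
          have l : ∀ a : R ⟶ T', (a ≫ κ') ≫ k = (a ≫ c ≫ g1)⁻¹ * (a ≫ c ≫ g2) := by
            intro a
            rw [← e2, comp_mul, _root_.inv_mul_cancel_left, Category.assoc]
          rw [l a1, l a2, ← Category.assoc a1 c g1, ← Category.assoc a1 c g2, ha, Category.assoc,
            Category.assoc])
      have e3 : g1 * (κ0 ≫ k) = g2 := by
        rw [← cancel_epi c, comp_mul, ← Category.assoc c κ0 k, hκ0, e2]
      refine ⟨lift g1 κ0, ⟨lift_fst _ _, ?_⟩, ?_⟩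
      · rw [lift_whiskerLeft_assoc, ← Hom.mul_def, e3]
      · rintro m' ⟨hm'1, hm'2⟩
        obtain ⟨κ'', hκ''⟩ : ∃ κ'' : T ⟶ K, κ'' = m' ≫ snd G K := ⟨_, rfl⟩
        have hm' : m' = lift g1 κ'' := by rw [hκ'', ← hm'1, lift_comp_fst_snd]
        have e4 : g1 * (κ'' ≫ k) = g2 := by
          rw [← hm'2, hm', lift_whiskerLeft_assoc, ← Hom.mul_def]
        have e5 : κ'' = κ0 := by
          rw [← cancel_mono k]
          exact _root_.mul_left_cancel (e4.trans e3.symm)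
        rw [hm', e5]

end Groth.Agent.S6056
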