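import Groth.Statements.S6077
import Mathlib
import Groth.Agent.Lib.Helper62.GenSub

set_option autoImplicit false
set_option linter.style.haveILetI false
universe u
open CategoryTheory CategoryTheory.Limits MonoidalCategory CartesianMonoidalCategory MonObj GrpObj AlgebraicGeometry
open SGA3

namespace Groth.Agent.S6077
open Groth.Agent.S6076 Groth.Agent.S6075 Groth.Agent.Lib.Helper62.GenSub

theorem main (k : Type u) [Field k] [IsAlgClosed k]
    (G X H : Over (Spec (CommRingCat.of k))) [GrpObj G] [GrpObj H] [LocallyOfFiniteType G.hom]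
    [LocallyOfFiniteType X.hom] [GeometricallyReduced X.hom] (f : X ⟶ G)
    (h : H ⟶ G) [IsMonHom h] [IsClosedImmersion h.left] (hH : Set.range h.left.base ⊆ Set.range f.left.base)
    (Γ : Over (Spec (CommRingCat.of k))) [GrpObj Γ] (i : Γ ⟶ G) [IsMonHom i] [IsClosedImmersion i.left]
    (hf : ∃ f' : X ⟶ Γ, f' ≫ i = f)
    (hmin : ∀ (Γ' : Over (Spec (CommRingCat.of k))) (_ : GrpObj Γ') (i' : Γ' ⟶ G), IsMonHom i' → IsClosedImmersion i'.left →
        (∃ f'' : X ⟶ Γ', f'' ≫ i' = f) → ∃ j : Γ ⟶ Γ', j ≫ i' = i)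
    (hfin : ∃ F : Finset (𝟙_ (Over (Spec (CommRingCat.of k))) ⟶ G),
      (∀ a ∈ F, ∃ (n : ℕ) (T : Over (Spec (CommRingCat.of k))) (p : T.left) (p₀ : (𝟙_ (Over (Spec (CommRingCat.of k)))).left) (x : Fin n → (T ⟶ X)) (ε : Fin n → Bool),
        ((List.ofFn fun j : Fin n => if ε j then x j ≫ f else (x j ≫ f)⁻¹).prod : T ⟶ G).left.base p = a.left.base p₀) ∧
      ∀ g : 𝟙_ (Over (Spec (CommRingCat.of k))) ⟶ G, (∃ (n : ℕ) (T : Over (Spec (CommRingCat.of k))) (p : T.left) (p₀ : (𝟙_ (Over (Spec (CommRingCat.of k)))).left) (x : Fin n → (T ⟶ X)) (ε : Fin n → Bool),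
        ((List.ofFn fun j : Fin n => if ε j then x j ≫ f else (x j ≫ f)⁻¹).prod : T ⟶ G).left.base p = g.left.base p₀) →
        ∃ a ∈ F, ∃ y : 𝟙_ (Over (Spec (CommRingCat.of k))) ⟶ H, g = a * (y ≫ h)) :
    (∃ m : ℕ, Set.range i.left.base =
      {g : G.left | ∃ (T : Over (Spec (CommRingCat.of k))) (p : T.left) (x : Fin m → (T ⟶ X)) (ε : Fin m → Bool),
        ((List.ofFn fun j : Fin m => if ε j then x j ≫ f else (x j ≫ f)⁻¹).prod : T ⟶ G).left.base p = g}) ∧
    ∃ F : Finset (𝟙_ (Over (Spec (CommRingCat.of k))) ⟶ G), Set.range i.left.base =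
      ⋃ a ∈ F, (fun z => ((λ_ G).inv ≫ (a ▷ G) ≫ μ[G]).left.base z) '' Set.range h.left.base := by
  obtain ⟨F, hF1, hF2⟩ := hfin
  obtain ⟨p₀, hp₀def⟩ : ∃ p₀ : (𝟙_ (Over (Spec (CommRingCat.of k)))).left,
      p₀ = (IsLocalRing.closedPoint k : ↥(Spec (CommRingCat.of k))) := ⟨_, rfl⟩
  have hp₀ : ∀ q : (𝟙_ (Over (Spec (CommRingCat.of k)))).left, q = p₀ :=
    fun q => Subsingleton.elim (α := ↥(Spec (CommRingCat.of k))) _ _
  obtain ⟨B', hB'⟩ : ∃ B' : Set (𝟙_ (Over (Spec (CommRingCat.of k))) ⟶ G),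
      B' = {g : 𝟙_ (Over (Spec (CommRingCat.of k))) ⟶ G | ∃ p₀ : (𝟙_ (Over (Spec (CommRingCat.of k)))).left, g.left.base p₀ ∈ Set.range f.left.base} := ⟨_, rfl⟩
  have hS := Groth.Agent.S6075.main k G X f
  rw [← hB'] at hS
  have hmemA : ∀ g : 𝟙_ (Over (Spec (CommRingCat.of k))) ⟶ G, g ∈ Subgroup.closure B' →
      (∃ (n : ℕ) (T : Over (Spec (CommRingCat.of k))) (p : T.left) (p₀ : (𝟙_ (Over (Spec (CommRingCat.of k)))).left) (x : Fin n → (T ⟶ X)) (ε : Fin n → Bool),
        ((List.ofFn fun j : Fin n => if ε j then x j ≫ f else (x j ≫ f)⁻¹).prod : T ⟶ G).left.base p = g.left.base p₀) := by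
    intro g hg
    have hg' : g ∈ (↑(Subgroup.closure B') : Set (𝟙_ (Over (Spec (CommRingCat.of k))) ⟶ G)) := hg
    rw [← hS] at hg'
    exact hg'
  have hAmem : ∀ g : 𝟙_ (Over (Spec (CommRingCat.of k))) ⟶ G,
      (∃ (n : ℕ) (T : Over (Spec (CommRingCat.of k))) (p : T.left) (p₀ : (𝟙_ (Over (Spec (CommRingCat.of k)))).left) (x : Fin n → (T ⟶ X)) (ε : Fin n → Bool),
        ((List.ofFn fun j : Fin n => if ε j then x j ≫ f else (x j ≫ f)⁻¹).prod : T ⟶ G).left.base p = g.left.base p₀) →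
      g ∈ Subgroup.closure B' := by
    intro g hg
    have hg' : g ∈ {g : 𝟙_ (Over (Spec (CommRingCat.of k))) ⟶ G | ∃ (n : ℕ) (T : Over (Spec (CommRingCat.of k))) (p : T.left) (p₀ : (𝟙_ (Over (Spec (CommRingCat.of k)))).left) (x : Fin n → (T ⟶ X)) (ε : Fin n → Bool),
        ((List.ofFn fun j : Fin n => if ε j then x j ≫ f else (x j ≫ f)⁻¹).prod : T ⟶ G).left.base p = g.left.base p₀} := hg
    rw [hS] at hg'
    exact hg'
  have hFcl : ∀ a ∈ F, a ∈ Subgroup.closure B' := fun a ha => hAmem a (hF1 a ha)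
  have hcover : ∀ g ∈ Subgroup.closure B', ∃ a ∈ F, ∃ y : 𝟙_ (Over (Spec (CommRingCat.of k))) ⟶ H,
      g = a * (y ≫ h) := fun g hg => hF2 g (hmemA g hg)
  haveI : LocallyOfFiniteType H.hom := by
    rw [← Over.w h]; infer_instance
  have hHcl : ∀ y : 𝟙_ (Over (Spec (CommRingCat.of k))) ⟶ H, y ≫ h ∈ Subgroup.closure B' := by
    intro y
    apply Subgroup.subset_closure
    rw [hB']
    exact ⟨p₀, hH ⟨y.left.base p₀, rfl⟩⟩
  obtain ⟨Z, hZdef⟩ : ∃ Z : Set G.left, Z = ⋃ a ∈ F,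
      (fun z => ((λ_ G).inv ≫ (a ▷ G) ≫ μ[G]).left.base z) '' Set.range h.left.base := ⟨_, rfl⟩
  have hZmem : ∀ z : G.left, z ∈ Z ↔ ∃ a ∈ F, ∃ w : H.left, (La a).left.base (h.left.base w) = z := by
    intro z
    rw [hZdef]
    constructor
    · intro hz
      obtain ⟨a, haF, w', ⟨w, rfl⟩, hw⟩ := Set.mem_iUnion₂.mp hz
      exact ⟨a, haF, w, hw⟩
    · rintro ⟨a, haF, w, hw⟩
      exact Set.mem_iUnion₂.mpr ⟨a, haF, ⟨h.left.base w, ⟨w, rfl⟩, hw⟩⟩
  -- (R1)
  have hR1 : ∀ g ∈ Subgroup.closure B', g.left.base p₀ ∈ Z := by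
    intro g hg
    obtain ⟨a, haF, y, rfl⟩ := hcover g hg
    rw [hZmem]
    refine ⟨a, haF, y.left.base p₀, ?_⟩
    have e : (y ≫ h) ≫ La a = a * (y ≫ h) := by
      rw [comp_La, toUnit_unit, Category.id_comp]
    exact congrArg (fun φ : 𝟙_ (Over (Spec (CommRingCat.of k))) ⟶ G => φ.left.base p₀) e
  -- Z closed
  have hZcl : IsClosed Z := by
    rw [hZdef]
    refine isClosed_biUnion_finset (fun a _ => ?_)
    have hrange : IsClosed (Set.range h.left.base) := h.left.isClosedEmbedding.isClosed_range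
    have heq : (fun z => ((λ_ G).inv ≫ (a ▷ G) ≫ μ[G]).left.base z) '' Set.range h.left.base =
        (La a⁻¹).left.base ⁻¹' Set.range h.left.base := by
      ext z
      constructor
      · rintro ⟨w, hw, rfl⟩
        show (La a⁻¹).left.base ((La a).left.base w) ∈ Set.range h.left.base
        have e := congrArg (fun φ : G ⟶ G => φ.left.base w) (La_inv_cancel a)
        rw [show (La a⁻¹).left.base ((La a).left.base w) = w from e]
        exact hw
      · intro hz
        refine ⟨(La a⁻¹).left.base z, hz, ?_⟩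
        exact congrArg (fun φ : G ⟶ G => φ.left.base z) (La_inv_cancel' a)
    rw [heq]
    exact hrange.preimage (La a⁻¹).left.continuous
  -- (R2)
  have hR2 : ∀ u : 𝟙_ (Over (Spec (CommRingCat.of k))) ⟶ G, u.left.base p₀ ∈ Z →
      u ∈ Subgroup.closure B' := by
    intro u hu
    obtain ⟨a, haF, w, hw⟩ := (hZmem _).mp hu
    have e1 : (u ≫ La a⁻¹) = a⁻¹ * u := by rw [comp_La, toUnit_unit, Category.id_comp]
    have e2 : (a⁻¹ * u).left.base p₀ = h.left.base w := by
      rw [← e1]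
      show (La a⁻¹).left.base (u.left.base p₀) = _
      rw [← hw]
      exact congrArg (fun φ : G ⟶ G => φ.left.base (h.left.base w)) (La_inv_cancel a)
    obtain ⟨y, hy⟩ := exists_lift_pt h (a⁻¹ * u) w p₀ e2.symm
    have hu' : u = a * (y ≫ h) := by rw [hy, mul_inv_cancel_left]
    rw [hu']
    exact mul_mem (hFcl a haF) (hHcl y)
  -- the reduced closed subscheme on Z
  obtain ⟨Zc, hZc⟩ : ∃ Zc : TopologicalSpace.Closeds G.left, (Zc : Set G.left) = Z :=
    ⟨⟨Z, hZcl⟩, rfl⟩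
  obtain ⟨I, hI⟩ : ∃ I : G.left.IdealSheafData, I = Scheme.IdealSheafData.vanishingIdeal Zc :=
    ⟨_, rfl⟩
  have hrι : Set.range I.subschemeι.base = Z := by
    have h1 : Set.range I.subschemeι.base = I.support := I.range_subschemeι
    rw [h1, hI, Scheme.IdealSheafData.coe_support_vanishingIdeal, hZc]
  haveI : IsReduced I.subscheme := by
    rw [hI]
    exact Groth.Agent.Lib.Helper21.RedSubscheme.isReduced_vanishingIdeal_subscheme Zc
  obtain ⟨ZO, hZO⟩ : ∃ ZO : Over (Spec (CommRingCat.of k)), ZO = Over.mk (I.subschemeι ≫ G.hom) :=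
    ⟨_, rfl⟩
  subst hZO
  let ιZ : Over.mk (I.subschemeι ≫ G.hom) ⟶ G := Over.homMk I.subschemeι rfl
  haveI : Mono ιZ := by
    haveI : Mono ((Over.forget _).map ιZ) := by
      show Mono I.subschemeι
      infer_instance
    exact (Over.forget _).mono_of_mono_map inferInstance
  haveI : IsReduced (Over.mk (I.subschemeι ≫ G.hom)).left := by
    show IsReduced I.subscheme
    infer_instance
  have hlift : ∀ (T : Over (Spec (CommRingCat.of k))) [IsReduced T.left] (g : T ⟶ G),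
      (∀ q : T.left, g.left.base q ∈ Z) → ∃ g' : T ⟶ Over.mk (I.subschemeι ≫ G.hom), g' ≫ ιZ = g := by
    intro T _ g hg
    obtain ⟨g', hg'⟩ := Groth.Agent.Lib.Helper60.AbGen.exists_lift_of_isReduced g.left I.subschemeι
      (by
        rintro _ ⟨q, rfl⟩
        have := hg q
        rw [← hrι] at this
        exact this)
    refine ⟨Over.homMk g' ?_, ?_⟩
    · show g' ≫ I.subschemeι ≫ G.hom = T.hom
      rw [← Category.assoc, hg']
      exact Over.w g
    · apply Over.OverMorphism.ext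
      exact hg'
  subst hp₀def
  haveI : LocallyOfFiniteType (Over.mk (I.subschemeι ≫ G.hom)).hom := by
    show LocallyOfFiniteType (I.subschemeι ≫ G.hom)
    infer_instance
  haveI : IsLocallyNoetherian I.subscheme :=
    LocallyOfFiniteType.isLocallyNoetherian (I.subschemeι ≫ G.hom)
  haveI : IsLocallyNoetherian (Over.mk (I.subschemeι ≫ G.hom)).left := by
    show IsLocallyNoetherian I.subscheme
    infer_instance
  haveI : GeometricallyReduced (Over.mk (I.subschemeι ≫ G.hom)).hom :=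
    Groth.Agent.Lib.Helper60.AbGen.geometricallyReduced_of_isAlgClosed _
  haveI : IsReduced ((Over.mk (I.subschemeι ≫ G.hom)) ⊗ (Over.mk (I.subschemeι ≫ G.hom))).left := by
    show IsReduced (pullback (Over.mk (I.subschemeι ≫ G.hom)).hom (Over.mk (I.subschemeι ≫ G.hom)).hom)
    infer_instance
  haveI : LocallyOfFiniteType ((Over.mk (I.subschemeι ≫ G.hom)) ⊗ (Over.mk (I.subschemeι ≫ G.hom))).hom := by
    show LocallyOfFiniteType (pullback.fst (Over.mk (I.subschemeι ≫ G.hom)).hom (Over.mk (I.subschemeι ≫ G.hom)).hom ≫ (Over.mk (I.subschemeι ≫ G.hom)).hom)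
    infer_instance
  haveI : IsReduced (𝟙_ (Over (Spec (CommRingCat.of k)))).left := (inferInstance : IsReduced (Spec (CommRingCat.of k)))
  have hZk : ∀ c : 𝟙_ (Over (Spec (CommRingCat.of k))) ⟶ (Over.mk (I.subschemeι ≫ G.hom)), c ≫ ιZ ∈ Subgroup.closure B' := by
    intro c
    apply hR2
    rw [← hrι]
    exact ⟨c.left.base _, rfl⟩
  -- unit
  obtain ⟨e, he⟩ := hlift (𝟙_ (Over (Spec (CommRingCat.of k)))) η[G] (fun q => by
    rw [hp₀ q]
    have h1 := hR1 1 (one_mem _)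
    rwa [← MonObj.one_eq_one] at h1)
  -- mul
  obtain ⟨m, hm⟩ := hlift ((Over.mk (I.subschemeι ≫ G.hom)) ⊗ (Over.mk (I.subschemeι ≫ G.hom))) ((fst (Over.mk (I.subschemeι ≫ G.hom)) (Over.mk (I.subschemeι ≫ G.hom)) ≫ ιZ) * (snd (Over.mk (I.subschemeι ≫ G.hom)) (Over.mk (I.subschemeι ≫ G.hom)) ≫ ιZ)) (by
    apply forall_mem_of_kpoints k ((Over.mk (I.subschemeι ≫ G.hom)) ⊗ (Over.mk (I.subschemeι ≫ G.hom)))
      (((fst (Over.mk (I.subschemeι ≫ G.hom)) (Over.mk (I.subschemeι ≫ G.hom)) ≫ ιZ) * (snd (Over.mk (I.subschemeι ≫ G.hom)) (Over.mk (I.subschemeι ≫ G.hom)) ≫ ιZ)).left.base ⁻¹' Z)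
      (hZcl.preimage ((fst (Over.mk (I.subschemeι ≫ G.hom)) (Over.mk (I.subschemeι ≫ G.hom)) ≫ ιZ) * (snd (Over.mk (I.subschemeι ≫ G.hom)) (Over.mk (I.subschemeι ≫ G.hom)) ≫ ιZ)).left.continuous)
    intro c
    have e' : c ≫ ((fst (Over.mk (I.subschemeι ≫ G.hom)) (Over.mk (I.subschemeι ≫ G.hom)) ≫ ιZ) * (snd (Over.mk (I.subschemeι ≫ G.hom)) (Over.mk (I.subschemeι ≫ G.hom)) ≫ ιZ)) =
        ((c ≫ fst (Over.mk (I.subschemeι ≫ G.hom)) (Over.mk (I.subschemeι ≫ G.hom))) ≫ ιZ) * ((c ≫ snd (Over.mk (I.subschemeι ≫ G.hom)) (Over.mk (I.subschemeι ≫ G.hom))) ≫ ιZ) := by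
      rw [MonObj.comp_mul, Category.assoc, Category.assoc]
    have h1 := hR1 _ (mul_mem (hZk (c ≫ fst (Over.mk (I.subschemeι ≫ G.hom)) (Over.mk (I.subschemeι ≫ G.hom)))) (hZk (c ≫ snd (Over.mk (I.subschemeι ≫ G.hom)) (Over.mk (I.subschemeι ≫ G.hom)))))
    rw [← e'] at h1
    exact h1)
  -- inv
  obtain ⟨jv, hjv⟩ := hlift (Over.mk (I.subschemeι ≫ G.hom)) (ιZ⁻¹) (by
    apply forall_mem_of_kpoints k (Over.mk (I.subschemeι ≫ G.hom)) ((ιZ⁻¹).left.base ⁻¹' Z)
      (hZcl.preimage (ιZ⁻¹).left.continuous)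
    intro c
    have e' : c ≫ ιZ⁻¹ = (c ≫ ιZ)⁻¹ := GrpObj.comp_inv _ _
    have h1 := hR1 _ (inv_mem (hZk c))
    rw [← e'] at h1
    exact h1)
  letI grpZ : GrpObj (Over.mk (I.subschemeι ≫ G.hom)) := Groth.Agent.Lib.Helper43.SubGrp.grpOfMono ιZ e he m hm jv hjv
  haveI monZ : IsMonHom ιZ :=
    Groth.Agent.Lib.Helper43.SubGrp.isMonHom_grpOfMono ιZ e he m hm jv hjv
  haveI clZ : IsClosedImmersion ιZ.left := by
    show IsClosedImmersion I.subschemeι
    infer_instance
  haveI : IsReduced X.left :=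
    GeometricallyReduced.isReduced_of_flat_of_isLocallyNoetherian X.hom
  obtain ⟨f'', hf''⟩ := hlift X f (by
    apply forall_mem_of_kpoints k X (f.left.base ⁻¹' Z) (hZcl.preimage f.left.continuous)
    intro c
    apply hR1 (c ≫ f)
    apply Subgroup.subset_closure
    rw [hB']
    exact ⟨(IsLocalRing.closedPoint k : ↥(Spec (CommRingCat.of k))),
      ⟨c.left.base (IsLocalRing.closedPoint k : ↥(Spec (CommRingCat.of k))), rfl⟩⟩)
  obtain ⟨j, hj⟩ := hmin (Over.mk (I.subschemeι ≫ G.hom)) grpZ ιZ monZ clZ ⟨f'', hf''⟩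
  have hsub1 : Set.range i.left.base ⊆ Z := by
    rintro _ ⟨q, rfl⟩
    rw [← hrι]
    exact ⟨j.left.base q, congrArg (fun φ : Γ ⟶ G => φ.left.base q) hj⟩
  -- a k-point of X over the unit
  obtain ⟨ye, hye⟩ : ∃ ye : 𝟙_ (Over (Spec (CommRingCat.of k))) ⟶ X, ye ≫ f = 1 := by
    have h1 : (1 : 𝟙_ (Over (Spec (CommRingCat.of k))) ⟶ G).left.base (IsLocalRing.closedPoint k : ↥(Spec (CommRingCat.of k))) ∈ Set.range f.left.base := by
      apply hH
      refine ⟨(η[H] : 𝟙_ (Over (Spec (CommRingCat.of k))) ⟶ H).left.base (IsLocalRing.closedPoint k : ↥(Spec (CommRingCat.of k))), ?_⟩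
      have e1 : η[H] ≫ h = 1 := by rw [IsMonHom.one_hom, MonObj.one_eq_one]
      exact congrArg (fun φ : 𝟙_ (Over (Spec (CommRingCat.of k))) ⟶ G => φ.left.base (IsLocalRing.closedPoint k : ↥(Spec (CommRingCat.of k)))) e1
    obtain ⟨x₀, hx₀⟩ := h1
    exact exists_lift_pt f 1 x₀ (IsLocalRing.closedPoint k : ↥(Spec (CommRingCat.of k))) hx₀
  have hL : ∀ a : 𝟙_ (Over (Spec (CommRingCat.of k))) ⟶ G, a ∈ F →
      ∃ L : List ((𝟙_ (Over (Spec (CommRingCat.of k))) ⟶ X) × Bool), a = (L.map (ψ f)).prod := by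
    intro a ha
    have h1 := hFcl a ha
    rw [hB'] at h1
    exact exists_pairs_of_mem_closure k G X f a h1
  choose! L hLa using hL
  obtain ⟨M, hM⟩ : ∃ M : ℕ, M = F.sup (fun a => (L a).length) := ⟨_, rfl⟩
  have hZword : ∀ z ∈ Z, ∃ (T : Over (Spec (CommRingCat.of k))) (p : T.left)
      (x : Fin (M + 1) → (T ⟶ X)) (ε : Fin (M + 1) → Bool),
      ((List.ofFn fun j : Fin (M + 1) => if ε j then x j ≫ f else (x j ≫ f)⁻¹).prod : T ⟶ G).left.base p = z := by
    intro z hz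
    obtain ⟨a, haF, w, rfl⟩ := (hZmem z).mp hz
    obtain ⟨x', hx'⟩ := hH ⟨w, rfl⟩
    have hle : (L a).length ≤ M := by
      rw [hM]
      exact Finset.le_sup (f := fun a => (L a).length) haF
    obtain ⟨L1, hL1⟩ : ∃ L1, L1 = L a ++ List.replicate (M - (L a).length) (ye, true) := ⟨_, rfl⟩
    have hL1len : L1.length = M := by
      rw [hL1, List.length_append, List.length_replicate]
      omega
    have hψe : ψ f (ye, true) = 1 := by simp [ψ, hye]
    have hL1prod : (L1.map (ψ f)).prod = a := by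
      rw [hL1, List.map_append, List.map_replicate, List.prod_append, List.prod_replicate, hψe,
        _root_.one_pow, _root_.mul_one]
      exact (hLa a haF).symm
    obtain ⟨L2, hL2⟩ : ∃ L2 : List ((X ⟶ X) × Bool),
        L2 = (L1.map (fun q => (toUnit X ≫ q.1, q.2))) ++ [(𝟙 X, true)] := ⟨_, rfl⟩
    have hL2len : L2.length = M + 1 := by
      rw [hL2, List.length_append, List.length_map, hL1len, List.length_singleton]
    have hL2prod : (L2.map (ψ f)).prod = f ≫ La a := by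
      rw [comp_La, hL2, List.map_append, List.map_map, List.prod_append]
      have h1 : (ψ f ∘ fun q : (𝟙_ (Over (Spec (CommRingCat.of k))) ⟶ X) × Bool => (toUnit X ≫ q.1, q.2)) =
          (fun b => toUnit X ≫ b) ∘ ψ f :=
        funext (fun q => ψ_comp f (toUnit X) q)
      rw [h1, ← List.map_map, ← comp_list_prod, hL1prod]
      congr 1
      simp [ψ]
    obtain ⟨T', p', x, ε, hw⟩ := exists_word_of_list f L2 (M + 1) hL2len x'
    refine ⟨T', p', x, ε, ?_⟩
    rw [hw, hL2prod]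
    show (La a).left.base (f.left.base x') = _
    rw [hx']
  have hE_sub : ∀ (m : ℕ) (T : Over (Spec (CommRingCat.of k))) (p : T.left) (x : Fin m → (T ⟶ X))
      (ε : Fin m → Bool),
      ((List.ofFn fun j : Fin m => if ε j then x j ≫ f else (x j ≫ f)⁻¹).prod : T ⟶ G).left.base p ∈
        Set.range i.left.base := by
    intro m T p x ε
    obtain ⟨f', hf'⟩ := hf
    have e1 : wd f m x ε = wd f' m x ε ≫ i := by
      rw [← hf']
      exact wd_factor i f' m x ε
    exact ⟨(wd f' m x ε).left.base p, (congrArg (fun φ : T ⟶ G => φ.left.base p) e1).symm⟩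
  have hZeq : Set.range i.left.base = Z := Set.Subset.antisymm hsub1 (fun z hz => by
    obtain ⟨T, p, x, ε, rfl⟩ := hZword z hz
    exact hE_sub _ T p x ε)
  refine ⟨⟨M + 1, ?_⟩, ⟨F, ?_⟩⟩
  · rw [hZeq]
    ext z
    constructor
    · intro hz
      exact hZword z hz
    · rintro ⟨T, p, x, ε, rfl⟩
      rw [← hZeq]
      exact hE_sub _ T p x ε
  · rw [hZeq, hZdef]


/-- Let k be an algebraically closed field, G a group scheme locally of finite type over k, X a
geometrically reduced k-scheme locally of finite type, f : X → G a k-morphism, and h : H → G a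
closed subgroup scheme whose underlying set is contained in the image of f. Let i : Γ → G be the
smallest closed subgroup scheme of G through which f factors. Say that a point of G lies under a
word of length n in f when there are a k-scheme T, a point p of T, T-valued points x_1, …, x_n of X
and signs such that f(x_1)^{±1} ⋯ f(x_n)^{±1} maps p to it; let Γ'₀ be the set of k-points of G
whose point lies under some word (of any length n ≥ 0). Suppose that Γ'₀ is covered by finitely many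
left translates a · H(k) of the image of H(k) in G(k), with the a in Γ'₀ (H(k) has finite index in
Γ'₀). Then there is m such that the underlying set of Γ is the set of points of G lying under a word
of length m, and there are finitely many k-points a_1, …, a_r of G such that the underlying set of Γ
is the union of the left translates a_j · H of the underlying set of H. -/
theorem result (k : Type u) [Field k] [IsAlgClosed k]
    (G X H : Over (Spec (CommRingCat.of k))) [GrpObj G] [GrpObj H] [LocallyOfFiniteType G.hom]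
    [LocallyOfFiniteType X.hom] [GeometricallyReduced X.hom] (f : X ⟶ G)
    (h : H ⟶ G) [IsMonHom h] [IsClosedImmersion h.left] (hH : Set.range h.left.base ⊆ Set.range f.left.base)
    (Γ : Over (Spec (CommRingCat.of k))) [GrpObj Γ] (i : Γ ⟶ G) [IsMonHom i] [IsClosedImmersion i.left]
    (hf : ∃ f' : X ⟶ Γ, f' ≫ i = f)
    (hmin : ∀ (Γ' : Over (Spec (CommRingCat.of k))) (_ : GrpObj Γ') (i' : Γ' ⟶ G), IsMonHom i' → IsClosedImmersion i'.left →
        (∃ f'' : X ⟶ Γ', f'' ≫ i' = f) → ∃ j : Γ ⟶ Γ', j ≫ i' = i)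
    (hfin : ∃ F : Finset (𝟙_ (Over (Spec (CommRingCat.of k))) ⟶ G),
      (∀ a ∈ F, ∃ (n : ℕ) (T : Over (Spec (CommRingCat.of k))) (p : T.left) (p₀ : (𝟙_ (Over (Spec (CommRingCat.of k)))).left) (x : Fin n → (T ⟶ X)) (ε : Fin n → Bool),
        ((List.ofFn fun j : Fin n => if ε j then x j ≫ f else (x j ≫ f)⁻¹).prod : T ⟶ G).left.base p = a.left.base p₀) ∧
      ∀ g : 𝟙_ (Over (Spec (CommRingCat.of k))) ⟶ G, (∃ (n : ℕ) (T : Over (Spec (CommRingCat.of k))) (p : T.left) (p₀ : (𝟙_ (Over (Spec (CommRingCat.of k)))).left) (x : Fin n → (T ⟶ X)) (ε : Fin n → Bool),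
        ((List.ofFn fun j : Fin n => if ε j then x j ≫ f else (x j ≫ f)⁻¹).prod : T ⟶ G).left.base p = g.left.base p₀) →
        ∃ a ∈ F, ∃ y : 𝟙_ (Over (Spec (CommRingCat.of k))) ⟶ H, g = a * (y ≫ h)) :
    (∃ m : ℕ, Set.range i.left.base =
      {g : G.left | ∃ (T : Over (Spec (CommRingCat.of k))) (p : T.left) (x : Fin m → (T ⟶ X)) (ε : Fin m → Bool),
        ((List.ofFn fun j : Fin m => if ε j then x j ≫ f else (x j ≫ f)⁻¹).prod : T ⟶ G).left.base p = g}) ∧
    ∃ F : Finset (𝟙_ (Over (Spec (CommRingCat.of k))) ⟶ G), Set.range i.left.base =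
      ⋃ a ∈ F, (fun z => ((λ_ G).inv ≫ (a ▷ G) ≫ μ[G]).left.base z) '' Set.range h.left.base := by
  exact main k G X H f h hH Γ i hf hmin hfin

end Groth.Agent.S6077
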