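import Groth.Statements.S6081
import Groth.Agent.Lib.Helper84.MatCoeff2
import Groth.Agent.S3032

set_option autoImplicit false
universe u
open TensorProduct
open SGA3

namespace Groth.Agent.S6081

/-- Let R be a Noetherian ring and A a commutative Hopf algebra over R which is flat and of finite type
as an R-algebra, so that G = Spec A is an affine flat R-group scheme of finite type. Suppose that
the pair (G, Spec R) has the equivariant resolution property: for every A-comodule F which is
finitely generated as an R-module there are an A-comodule E which is finitely generated and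
projective as an R-module and a surjective R-linear map E → F compatible with the coactions. Then
there are a natural number d and a d × d matrix (a_ij) of elements of A with Δ(a_ij) = Σ_l a_il ⊗
a_lj and ε(a_ij) = δ_ij (a matrix corepresentation, i.e. a homomorphism G → GL_{d,R}) whose
determinant is a unit, such that A is generated as an R-algebra by the entries a_ij together with
the inverse of det(a_ij): G is a closed subgroup scheme of GL_{d,R}. (The published statement is
over a Noetherian scheme S, with G-equivariant coherent modules; this row is its assertion (ii), the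
case S affine, in Hopf-algebra form.) -/
theorem result (R : Type u) [CommRing R] [IsNoetherianRing R]
    (A : Type u) [CommRing A] [HopfAlgebra R A] [Module.Flat R A] [Algebra.FiniteType R A]
    (hRE : ∀ (F : Type u) [AddCommGroup F] [Module R F] [HopfRep.Comod R A F] [Module.Finite R F],
      ∃ (E : Type u) (_ : AddCommGroup E) (_ : Module R E) (_ : HopfRep.Comod R A E) (π : E →ₗ[R] F),
        Module.Finite R E ∧ Module.Projective R E ∧ Function.Surjective π ∧
        HopfRep.Comod.coact (k := R) (A := A) ∘ₗ π = π.rTensor A ∘ₗ HopfRep.Comod.coact (k := R) (A := A) (V := E)) :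
    ∃ (d : ℕ) (a : Matrix (Fin d) (Fin d) A),
      (∀ i j, CoalgebraStruct.comul (R := R) (a i j) = ∑ l, a i l ⊗ₜ[R] a l j) ∧
      (∀ i j, CoalgebraStruct.counit (R := R) (a i j) = if i = j then 1 else 0) ∧
      ∃ u : A, u * a.det = 1 ∧ Algebra.adjoin R (Set.range (fun p : Fin d × Fin d => a p.1 p.2) ∪ {u}) = ⊤ := by
  classical
  open Groth.Agent.Lib.Helper84 in
  -- generators of `A`
  obtain ⟨s, hs⟩ := (Algebra.FiniteType.out : (⊤ : Subalgebra R A).FG)
  -- a finitely generated subcomodule `W` of the regular comodule containing them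
  obtain ⟨W, hW, hsW, hWfg⟩ := Groth.Agent.S3032.result R A A (Submodule.span R (s : Set A))
    (Submodule.fg_span s.finite_toSet)
  let cW : HopfRep.Comod R A W := ComodSub.Comod.restr (HopfRep.Comod.regular R A) W hW
  have : Module.Finite R W := Module.Finite.iff_fg.2 hWfg
  obtain ⟨E, iE1, iE2, cE, π, hEfin, hEproj, hπ, hπc⟩ := hRE W
  obtain ⟨d, c, q, hq, hqc⟩ := exists_free_comod_of_projective (k := R) (A := A) E
  let _ := c
  let b : Module.Basis (Fin d) R (Fin d → R) := Pi.basisFun R (Fin d)
  let M : Matrix (Fin d) (Fin d) A := coeffMatrix (A := A) b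
  have hM : IsCorepMatrix R M := isCorepMatrix_coeffMatrix b
  let φ : (Fin d → R) →ₗ[R] A := W.subtype ∘ₗ π ∘ₗ q
  have hφ : CoalgebraStruct.comul (R := R) (A := A) ∘ₗ φ =
      φ.rTensor A ∘ₗ HopfRep.Comod.coact (k := R) (A := A) := by
    have h1 : CoalgebraStruct.comul (R := R) (A := A) ∘ₗ W.subtype =
        W.subtype.rTensor A ∘ₗ cW.coact :=
      (ComodSub.rTensor_subtype_comp_restrCoact (HopfRep.Comod.regular R A) W hW).symm
    show CoalgebraStruct.comul (R := R) (A := A) ∘ₗ (W.subtype ∘ₗ π ∘ₗ q) = _
    rw [← LinearMap.comp_assoc, h1, LinearMap.comp_assoc, ← LinearMap.comp_assoc _ π, hπc,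
      LinearMap.comp_assoc, hqc, ← LinearMap.comp_assoc, ← LinearMap.comp_assoc,
      ← LinearMap.rTensor_comp, ← LinearMap.rTensor_comp, LinearMap.comp_assoc]
  refine ⟨d, M, hM.comul, hM.counit, (M.map (HopfAlgebraStruct.antipode (R := R) (A := A))).det,
    ?_, ?_⟩
  · rw [mul_comm]; exact hM.det_mul_det
  · rw [eq_top_iff, ← hs]
    apply Algebra.adjoin_le
    intro x hx
    have hxW : x ∈ W := hsW (Submodule.subset_span hx)
    obtain ⟨y, hy⟩ := hπ ⟨x, hxW⟩
    obtain ⟨v, rfl⟩ := hq y
    have hx' : x = φ v := by
      show x = ((π (q v) : W) : A)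
      rw [hy]
    rw [hx']
    have h2 := comodHom_mem_span_coeffMatrix b φ hφ v
    have h3 : Submodule.span R (Set.range (fun p : Fin d × Fin d => M p.1 p.2)) ≤
        Subalgebra.toSubmodule (Algebra.adjoin R (Set.range (fun p : Fin d × Fin d => M p.1 p.2) ∪
          {(M.map (HopfAlgebraStruct.antipode (R := R) (A := A))).det})) := by
      rw [Submodule.span_le]
      intro z hz
      exact Algebra.subset_adjoin (Or.inl hz)
    exact h3 h2

end Groth.Agent.S6081
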