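import Groth.Statements.S6084
import Mathlib
import Groth.Agent.Lib.Helper21.OnePtFinite
-- import your own Groth.Agent.* helpers here

set_option autoImplicit false
universe u
open CategoryTheory CategoryTheory.Limits MonoidalCategory CartesianMonoidalCategory MonObj GrpObj AlgebraicGeometry
open SGA3

namespace Groth.Agent.S6084

/-- Let k be a perfect field, G a group scheme locally of finite type over k and u : F → G a
homomorphism of k-group schemes which is a closed immersion and surjective on underlying spaces,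
with F reduced (so F is G_red with its group structure). Let p : G → X be a k-morphism which is
flat, surjective and locally of finite presentation and makes the square formed by (f, g) ↦ u(f) ·
g, the second projection F ×_k G → G and p (twice) cartesian (X is the quotient of G by F acting by
left translations). Then X is the spectrum of a finite local k-algebra with residue field k: X is
affine, its underlying space is a single point at which the structure morphism induces an
isomorphism of residue fields, and the ring of global sections of X is finite over k. -/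
theorem result (k : Type u) [Field k] [PerfectField k]
    (F G : Over (Spec (CommRingCat.of k))) [GrpObj F] [GrpObj G] [LocallyOfFiniteType G.hom] [IsReduced F.left]
    (u : F ⟶ G) [IsMonHom u] [IsClosedImmersion u.left] [Surjective u.left]
    (X : Over (Spec (CommRingCat.of k))) (p : G ⟶ X) [Flat p.left] [Surjective p.left] [LocallyOfFinitePresentation p.left]
    (hp : IsPullback ((u ▷ G) ≫ μ[G]) (snd F G) p p) :
    IsAffine X.left ∧ (∃ x : X.left, (Set.univ : Set X.left) = {x} ∧ IsIso (X.hom.residueFieldMap x)) ∧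
      ((Scheme.ΓSpecIso (CommRingCat.of k)).inv ≫ X.hom.appTop).hom.Finite := by
  classical
  haveI hss : Subsingleton (Spec (CommRingCat.of k)) :=
    inferInstanceAs (Subsingleton (PrimeSpectrum k))
  let pt : Spec (CommRingCat.of k) := IsLocalRing.closedPoint k
  -- `u ≫ p` is constant
  have hconst : u ≫ p = toUnit F ≫ η[G] ≫ p := by
    have h := hp.w
    have h2 := congrArg (fun m => lift (𝟙 F) (toUnit F ≫ η[G]) ≫ m) h
    simp only [Category.assoc] at h2
    rw [lift_whiskerRight_assoc, Category.id_comp, lift_comp_one_right_assoc, lift_snd_assoc] at h2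
    exact h2
  -- the rational point of `X`
  obtain ⟨σ, hσdef⟩ : ∃ σ : Spec (CommRingCat.of k) ⟶ X.left, σ = (η[G] ≫ p).left := ⟨_, rfl⟩
  have hσ : σ ≫ X.hom = 𝟙 _ := by rw [hσdef]; exact Over.w (η[G] ≫ p)
  have hall : ∀ x : X.left, x = σ pt := by
    intro x
    obtain ⟨g, rfl⟩ := p.left.surjective x
    obtain ⟨f, rfl⟩ := u.left.surjective g
    have h1 : (u ≫ p).left = (toUnit F).left ≫ σ := by
      rw [hconst, hσdef]; rfl
    have h2 : p.left (u.left f) = (u ≫ p).left f := rfl
    rw [h2, h1, Scheme.Hom.comp_apply]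
    congr 1
    exact @Subsingleton.elim _ hss _ _
  -- affine
  have haff : IsAffine X.left := by
    obtain ⟨V, hV, hxV, -⟩ := exists_isAffineOpen_mem_and_subset
      (TopologicalSpace.Opens.mem_top (σ pt))
    have hVtop : V = ⊤ := by
      ext x
      simp only [TopologicalSpace.Opens.coe_top, Set.mem_univ, iff_true]
      rw [hall x]; exact hxV
    subst hVtop
    haveI : IsAffine (⊤ : X.left.Opens) := hV
    exact .of_isIso X.left.topIso.inv
  refine ⟨haff, ⟨σ pt, ?_, ?_⟩, ?_⟩
  · ext x
    simp only [Set.mem_univ, Set.mem_singleton_iff, true_iff]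
    exact hall x
  · -- residue field
    have hc := Scheme.residueFieldMap_comp σ X.hom pt
    have hi : IsIso (X.hom.residueFieldMap (σ pt) ≫ σ.residueFieldMap pt) := by
      haveI : IsIso (σ ≫ X.hom) := by rw [hσ]; infer_instance
      have : IsIso ((σ ≫ X.hom).residueFieldMap pt) := inferInstance
      rw [hc] at this
      exact this
    have hm : Mono (σ.residueFieldMap pt) := by
      apply ConcreteCategory.mono_of_injective
      exact (σ.residueFieldMap pt).hom.injective
    obtain ⟨w, hw1, hw2⟩ := hi.out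
    refine ⟨σ.residueFieldMap pt ≫ w, ?_, ?_⟩
    · simpa only [Category.assoc] using hw1
    · rw [← cancel_mono (σ.residueFieldMap pt)]
      simp only [Category.assoc, Category.id_comp]
      simp only [Category.assoc] at hw2
      rw [hw2, Category.comp_id]
  · -- finiteness
    haveI := haff
    let φ : k →+* Γ(X.left, ⊤) := ((Scheme.ΓSpecIso (CommRingCat.of k)).inv ≫ X.hom.appTop).hom
    show φ.Finite
    letI algA : Algebra k Γ(X.left, ⊤) := φ.toAlgebra
    -- the retraction
    let ρ₀ : Γ(X.left, ⊤) →+* k := (σ.appTop ≫ (Scheme.ΓSpecIso (CommRingCat.of k)).hom).hom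
    have hρφ : ∀ c : k, ρ₀ (φ c) = c := by
      intro c
      have h1 : X.hom.appTop ≫ σ.appTop = 𝟙 _ := by
        rw [← Scheme.Hom.comp_appTop, hσ]; rfl
      have h2 : ((Scheme.ΓSpecIso (CommRingCat.of k)).inv ≫ X.hom.appTop) ≫
          (σ.appTop ≫ (Scheme.ΓSpecIso (CommRingCat.of k)).hom) = 𝟙 _ := by
        rw [Category.assoc, ← Category.assoc X.hom.appTop, h1, Category.id_comp, Iso.inv_hom_id]
      exact congrArg (fun m : CommRingCat.of k ⟶ CommRingCat.of k => m.hom c) h2
    let ρ : Γ(X.left, ⊤) →ₐ[k] k := { ρ₀ with commutes' := hρφ }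
    -- unique prime
    have huniq : ∀ P Q : Ideal Γ(X.left, ⊤), P.IsPrime → Q.IsPrime → P = Q := by
      intro P Q hP hQ
      let P' : Spec Γ(X.left, ⊤) := (⟨P, hP⟩ : PrimeSpectrum Γ(X.left, ⊤))
      let Q' : Spec Γ(X.left, ⊤) := (⟨Q, hQ⟩ : PrimeSpectrum Γ(X.left, ⊤))
      have h1 : X.left.isoSpec.inv P' = X.left.isoSpec.inv Q' := (hall _).trans (hall _).symm
      have h2 : P' = Q' := X.left.isoSpec.inv.homeomorph.injective h1
      exact congrArg PrimeSpectrum.asIdeal h2
    -- an affine chart of `G`
    let e₀ : G.left := η[G].left pt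
    obtain ⟨V, hV, heV, -⟩ := exists_isAffineOpen_mem_and_subset
      (TopologicalSpace.Opens.mem_top e₀)
    haveI : Nonempty V := ⟨⟨e₀, heV⟩⟩
    have hle : V ≤ p.left ⁻¹ᵁ ⊤ := le_top
    let ψ : Γ(X.left, ⊤) →+* Γ(G.left, V) := (p.left.appLE ⊤ V hle).hom
    letI algB : Algebra Γ(X.left, ⊤) Γ(G.left, V) := ψ.toAlgebra
    have hflat : Module.Flat Γ(X.left, ⊤) Γ(G.left, V) :=
      HasRingHomProperty.appLE (P := @Flat) p.left inferInstance
        ⟨⊤, isAffineOpen_top X.left⟩ ⟨V, hV⟩ hle
    haveI hff : Module.FaithfullyFlat Γ(X.left, ⊤) Γ(G.left, V) := by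
      apply Module.FaithfullyFlat.of_comap_surjective
      intro q
      obtain ⟨M, hM⟩ := Ideal.exists_maximal Γ(G.left, V)
      refine ⟨⟨M, hM.isPrime⟩, ?_⟩
      apply PrimeSpectrum.ext
      exact huniq _ _ (PrimeSpectrum.isPrime _) q.isPrime
    -- `Γ(G, V)` is Noetherian
    have hle2 : V ≤ G.hom ⁻¹ᵁ ⊤ := le_top
    have hft : (G.hom.appLE ⊤ V hle2).hom.FiniteType :=
      HasRingHomProperty.appLE (P := @LocallyOfFiniteType) G.hom inferInstance
        ⟨⊤, isAffineOpen_top _⟩ ⟨V, hV⟩ hle2
    haveI hNk : IsNoetherianRing Γ(Spec (CommRingCat.of k), ⊤) :=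
      isNoetherianRing_of_ringEquiv k
        (Scheme.ΓSpecIso (CommRingCat.of k)).symm.commRingCatIsoToRingEquiv
    haveI hNB : IsNoetherianRing Γ(G.left, V) := by
      letI := (G.hom.appLE ⊤ V hle2).hom.toAlgebra
      haveI : Algebra.FiniteType Γ(Spec (CommRingCat.of k), ⊤) Γ(G.left, V) := hft
      exact Algebra.FiniteType.isNoetherianRing Γ(Spec (CommRingCat.of k), ⊤) Γ(G.left, V)
    exact Groth.Agent.Lib.Helper21.OnePtFinite.finite_of_retraction_of_unique_prime k
      Γ(X.left, ⊤) Γ(G.left, V) ρ huniq

end Groth.Agent.S6084
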