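import Groth.Statements.S6120
-- import your own Groth.Agent.* helpers here

set_option autoImplicit false
open CategoryTheory CategoryTheory.Limits Opposite
universe w v₁ v₂ u₁ u₂
open SGA4

namespace Groth.Agent.S6120

/-- Let `I` be a category with a family of objects `i α` (`α : A`) such that every binary product `i α ⨯
i β` exists in `I` and every object of `I` admits a morphism to some `i α`. Let `F : Iᵒᵖ ⥤ C` be a
functor, and assume that `C` has equalizers and that the products `∏ F (i α)` and `∏ F (i α ⨯ i β)`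
exist in `C`. Then the limit of `F` exists, the canonical map `lim F ⟶ ∏ F (i α)` is a monomorphism,
and a map `t : T ⟶ ∏ F (i α)` factors through `lim F` exactly when its composites with the two maps
`∏ F (i α) ⇉ ∏ F (i α ⨯ i β)` induced by the two projections agree: `lim F` is the equalizer of that
pair. (The published statement assumes that `C` has all limits of the size of `A`; only equalizers
and the two products named are assumed here, which is what the equalizer construction uses.) -/
theorem result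
    {I : Type u₁} [Category.{v₁} I] {C : Type u₂} [Category.{v₂} C] {A : Type w} (i : A → I)
    [∀ α β, HasBinaryProduct (i α) (i β)]
    (hcov : ∀ j : I, ∃ α, Nonempty (j ⟶ i α))
    (F : Iᵒᵖ ⥤ C) [HasEqualizers C]
    [HasProduct (fun α => F.obj (op (i α)))]
    [HasProduct (fun p : A × A => F.obj (op (i p.1 ⨯ i p.2)))] :
    HasLimit F ∧ ∀ [HasLimit F],
      Mono (Pi.lift (fun α => limit.π F (op (i α)))) ∧
      ∀ (T : C) (t : T ⟶ ∏ᶜ (fun α => F.obj (op (i α)))),
        (∃ s : T ⟶ limit F, s ≫ Pi.lift (fun α => limit.π F (op (i α))) = t) ↔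
        t ≫ Pi.lift (fun p : A × A =>
            Pi.π (fun α => F.obj (op (i α))) p.1 ≫ F.map (prod.fst : i p.1 ⨯ i p.2 ⟶ i p.1).op) =
        t ≫ Pi.lift (fun p : A × A =>
            Pi.π (fun α => F.obj (op (i α))) p.2 ≫ F.map (prod.snd : i p.1 ⨯ i p.2 ⟶ i p.2).op) := by
  classical
  -- notation
  let a : (∏ᶜ (fun α => F.obj (op (i α)))) ⟶ ∏ᶜ (fun p : A × A => F.obj (op (i p.1 ⨯ i p.2))) :=
    Pi.lift (fun p : A × A =>
      Pi.π (fun α => F.obj (op (i α))) p.1 ≫ F.map (prod.fst : i p.1 ⨯ i p.2 ⟶ i p.1).op)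
  let b : (∏ᶜ (fun α => F.obj (op (i α)))) ⟶ ∏ᶜ (fun p : A × A => F.obj (op (i p.1 ⨯ i p.2))) :=
    Pi.lift (fun p : A × A =>
      Pi.π (fun α => F.obj (op (i α))) p.2 ≫ F.map (prod.snd : i p.1 ⨯ i p.2 ⟶ i p.2).op)
  let ι := equalizer.ι a b
  -- independence of the chosen chart
  have indep : ∀ (j : I) (α β : A) (m : j ⟶ i α) (m' : j ⟶ i β),
      ι ≫ Pi.π (fun α => F.obj (op (i α))) α ≫ F.map m.op =
        ι ≫ Pi.π (fun α => F.obj (op (i α))) β ≫ F.map m'.op := by
    intro j α β m m'
    have h1 : F.map m.op = F.map (prod.fst : i α ⨯ i β ⟶ i α).op ≫ F.map (prod.lift m m').op := by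
      rw [← F.map_comp, ← op_comp, prod.lift_fst]
    have h2 : F.map m'.op = F.map (prod.snd : i α ⨯ i β ⟶ i β).op ≫ F.map (prod.lift m m').op := by
      rw [← F.map_comp, ← op_comp, prod.lift_snd]
    have ha : a ≫ Pi.π (fun p : A × A => F.obj (op (i p.1 ⨯ i p.2))) (α, β) =
        Pi.π (fun α => F.obj (op (i α))) α ≫ F.map (prod.fst : i α ⨯ i β ⟶ i α).op :=
      Pi.lift_π _ _
    have hb : b ≫ Pi.π (fun p : A × A => F.obj (op (i p.1 ⨯ i p.2))) (α, β) =
        Pi.π (fun α => F.obj (op (i α))) β ≫ F.map (prod.snd : i α ⨯ i β ⟶ i β).op :=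
      Pi.lift_π _ _
    rw [h1, h2, ← Category.assoc (Pi.π _ α), ← ha, ← Category.assoc (Pi.π _ β), ← hb,
      Category.assoc, Category.assoc, equalizer.condition_assoc]
  -- chosen charts
  have hch : ∀ j : Iᵒᵖ, ∃ α, Nonempty (j.unop ⟶ i α) := fun j => hcov j.unop
  choose αc mc using hch
  let mcc : ∀ j : Iᵒᵖ, j.unop ⟶ i (αc j) := fun j => (mc j).some
  let leg : ∀ j : Iᵒᵖ, equalizer a b ⟶ F.obj j := fun j =>
    ι ≫ Pi.π (fun α => F.obj (op (i α))) (αc j) ≫ F.map (mcc j).op
  have hleg : ∀ (j : Iᵒᵖ) (α : A) (m : j.unop ⟶ i α),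
      leg j = ι ≫ Pi.π (fun α => F.obj (op (i α))) α ≫ F.map m.op :=
    fun j α m => indep j.unop (αc j) α (mcc j) m
  have hlegi : ∀ α : A, leg (op (i α)) = ι ≫ Pi.π (fun α => F.obj (op (i α))) α := by
    intro α
    rw [hleg (op (i α)) α (𝟙 _), op_id, F.map_id, Category.comp_id]
  let c : Cone F :=
    { pt := equalizer a b
      π :=
        { app := leg
          naturality := fun j j' g => by
            dsimp
            rw [Category.id_comp, hleg j' (αc j) (g.unop ≫ mcc j)]
            simp only [leg, Category.assoc, ← F.map_comp]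
            rfl } }
  let hc : IsLimit c :=
    { lift := fun s => equalizer.lift (Pi.lift (fun α => s.π.app (op (i α)))) (by
        apply Pi.hom_ext
        intro p
        simp only [a, b, Category.assoc, Pi.lift_π, Pi.lift_π_assoc]
        rw [s.w, s.w])
      fac := fun s j => by
        change equalizer.lift _ _ ≫ ι ≫ _ = _
        rw [equalizer.lift_ι_assoc, Pi.lift_π_assoc, s.w]
      uniq := fun s m hm => by
        apply equalizer.hom_ext
        rw [equalizer.lift_ι]
        apply Pi.hom_ext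
        intro α
        rw [Pi.lift_π, ← hm (op (i α))]
        change _ = m ≫ leg (op (i α))
        rw [hlegi, Category.assoc] }
  have hlim : HasLimit F := ⟨⟨⟨c, hc⟩⟩⟩
  refine ⟨hlim, ?_⟩
  intro inst
  -- comparison with the chosen limit
  let e : limit F ≅ equalizer a b :=
    IsLimit.conePointUniqueUpToIso (limit.isLimit F) hc
  have he : ∀ j, e.hom ≫ leg j = limit.π F j := fun j =>
    IsLimit.conePointUniqueUpToIso_hom_comp (limit.isLimit F) hc j
  have hκ : Pi.lift (fun α => limit.π F (op (i α))) = e.hom ≫ ι := by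
    apply Pi.hom_ext
    intro α
    rw [Pi.lift_π, Category.assoc, ← hlegi, he]
  refine ⟨?_, ?_⟩
  · rw [hκ]
    infer_instance
  · intro T t
    constructor
    · rintro ⟨s, rfl⟩
      rw [hκ]
      simp only [Category.assoc]
      change s ≫ e.hom ≫ ι ≫ a = s ≫ e.hom ≫ ι ≫ b
      rw [equalizer.condition]
    · intro h
      refine ⟨equalizer.lift t h ≫ e.inv, ?_⟩
      rw [hκ, Category.assoc, Iso.inv_hom_id_assoc, equalizer.lift_ι]

end Groth.Agent.S6120
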