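import Groth.Statements.S6121
-- import your own Groth.Agent.* helpers here

set_option autoImplicit false
open CategoryTheory
universe v₁ v₂ u₁ u₂
open SGA4

namespace Groth.Agent.S6121

/-- For a fibered functor `p : E ⥤ B` (every morphism of `B` has a cartesian lift with prescribed
codomain, and cartesian morphisms compose), `p` reflects isomorphisms if and only if every fibre
category of `p` (objects over `b`, morphisms lying over the identity of `b`) is a groupoid. -/
theorem result
    {B : Type u₁} [Category.{v₁} B] {E : Type u₂} [Category.{v₂} E] (p : E ⥤ B) [p.IsFibered] :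
    p.ReflectsIsomorphisms ↔ ∀ b : B, IsGroupoid (p.Fiber b) := by
  constructor
  · intro hp b
    constructor
    intro x y f
    have hf : p.IsHomLift (𝟙 b) (Functor.Fiber.fiberInclusion.map f) := inferInstance
    have hiso : IsIso (p.map (Functor.Fiber.fiberInclusion.map f)) := by
      rw [IsHomLift.fac' p (𝟙 b) (Functor.Fiber.fiberInclusion.map f)]
      infer_instance
    have hfiso : IsIso (Functor.Fiber.fiberInclusion.map f) :=
      isIso_of_reflects_iso _ p
    have hinv : p.IsHomLift (𝟙 b) (inv (Functor.Fiber.fiberInclusion.map f)) :=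
      IsHomLift.lift_id_inv_isIso p b (Functor.Fiber.fiberInclusion.map f)
    let g := inv (Functor.Fiber.fiberInclusion.map f)
    refine ⟨⟨⟨g, hinv⟩, ?_, ?_⟩⟩
    · apply Functor.Fiber.hom_ext
      exact IsIso.hom_inv_id (Functor.Fiber.fiberInclusion.map f)
    · apply Functor.Fiber.hom_ext
      exact IsIso.inv_hom_id (Functor.Fiber.fiberInclusion.map f)
  · intro h
    constructor
    intro x y f hf
    obtain ⟨a, φ, hφ⟩ := Functor.IsPreFibered.exists_isCartesian' (p := p) (a := y) (p.map f)
    have hφiso : IsIso φ := Functor.IsStronglyCartesian.isIso_of_base_isIso p (p.map f) φ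
    let f' := Functor.IsCartesian.map p (p.map f) φ f
    have ha : p.obj a = p.obj x := IsHomLift.domain_eq p (p.map f) φ
    let X : p.Fiber (p.obj x) := ⟨x, rfl⟩
    let A : p.Fiber (p.obj x) := ⟨a, ha⟩
    let F : X ⟶ A := ⟨f', inferInstance⟩
    have hF : IsIso F := (h (p.obj x)).all_isIso F
    have hf' : IsIso f' := by
      have : IsIso (Functor.Fiber.fiberInclusion.map F) := inferInstance
      exact this
    rw [← Functor.IsCartesian.fac p (p.map f) φ f]
    change IsIso (f' ≫ φ)
    infer_instance

end Groth.Agent.S6121
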