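import Groth.Statements.S6122
-- import your own Groth.Agent.* helpers here

set_option autoImplicit false
open CategoryTheory
universe v₁ v₂ u₁ u₂
open SGA4

namespace Groth.Agent.S6122

/-- For a fibered functor `p : E ⥤ B` (every morphism of `B` has a cartesian lift with prescribed
codomain, and cartesian morphisms compose), `p` is faithful if and only if every fibre category of
`p` (objects over `b`, morphisms lying over the identity of `b`) has at most one morphism between
any two objects. -/
theorem result
    {B : Type u₁} [Category.{v₁} B] {E : Type u₂} [Category.{v₂} E] (p : E ⥤ B) [p.IsFibered] :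
    p.Faithful ↔ ∀ (b : B) (x y : p.Fiber b), Subsingleton (x ⟶ y) := by
  constructor
  · intro hp b x y
    constructor
    intro f g
    apply Functor.Fiber.hom_ext
    apply p.map_injective
    have hf : p.IsHomLift (𝟙 b) (Functor.Fiber.fiberInclusion.map f) := inferInstance
    have hg : p.IsHomLift (𝟙 b) (Functor.Fiber.fiberInclusion.map g) := inferInstance
    rw [IsHomLift.fac' p (𝟙 b) (Functor.Fiber.fiberInclusion.map f),
      IsHomLift.fac' p (𝟙 b) (Functor.Fiber.fiberInclusion.map g)]
  · intro h
    constructor
    intro x y f g hfg
    obtain ⟨a, φ, hφ⟩ := Functor.IsPreFibered.exists_isCartesian' (p := p) (a := y) (p.map f)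
    have hf : p.IsHomLift (p.map f) f := inferInstance
    have hg : p.IsHomLift (p.map f) g := by rw [hfg]; infer_instance
    let f' := Functor.IsCartesian.map p (p.map f) φ f
    let g' := Functor.IsCartesian.map p (p.map f) φ g
    have ha : p.obj a = p.obj x := IsHomLift.domain_eq p (p.map f) φ
    let X : p.Fiber (p.obj x) := ⟨x, rfl⟩
    let A : p.Fiber (p.obj x) := ⟨a, ha⟩
    let F : X ⟶ A := ⟨f', inferInstance⟩
    let G : X ⟶ A := ⟨g', inferInstance⟩
    have hFG : F = G := Subsingleton.elim _ _
    have hfg' : f' = g' := congrArg Subtype.val hFG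
    rw [← Functor.IsCartesian.fac p (p.map f) φ f, ← Functor.IsCartesian.fac p (p.map f) φ g]
    change f' ≫ φ = g' ≫ φ
    rw [hfg']

end Groth.Agent.S6122
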