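import Groth.Statements.S6124
import Mathlib.CategoryTheory.Limits.Shapes.Diagonal
import Mathlib.CategoryTheory.Limits.Preserves.Shapes.Pullbacks
-- import your own Groth.Agent.* helpers here

set_option autoImplicit false
open CategoryTheory CategoryTheory.Limits Opposite
universe w v₁ v₂ u₁ u₂
open SGA4

namespace Groth.Agent.S6124

/-- Let `E` have pullbacks, let `P` be a detecting family of objects of `E` (a morphism `f` is
invertible as soon as every map out of an object of `P` factors uniquely through `f`), and let `φ i
: E ⥤ E' i` be functors preserving pullbacks. Then the `φ i` jointly reflect isomorphisms if and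
only if, for every `X` with `P X` and every subobject `X'` of `X` other than `⊤`, some `φ i` takes
the inclusion `X' ⟶ X` to a morphism that is not invertible. -/
theorem result
    {E : Type u₁} [Category.{v₁} E] [HasPullbacks E] (P : ObjectProperty E) (hP : P.IsDetecting)
    {κ : Type w} {E' : κ → Type u₂} [∀ k, Category.{v₂} (E' k)] (φ : ∀ k, E ⥤ E' k)
    [∀ k, PreservesLimitsOfShape WalkingCospan (φ k)] :
    (∀ ⦃X Y : E⦄ (f : X ⟶ Y), (∀ k, IsIso ((φ k).map f)) → IsIso f) ↔
      ∀ (X : E), P X → ∀ (X' : Subobject X), X' ≠ ⊤ → ∃ k, ¬ IsIso ((φ k).map X'.arrow) := by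
  constructor
  · intro h X _ X' hX'
    by_contra hcon
    push Not at hcon
    have : IsIso X'.arrow := h _ hcon
    exact hX' (Subobject.eq_top_of_isIso_arrow X')
  · intro H
    -- Step A: the case of a monomorphism
    have stepA : ∀ ⦃X Y : E⦄ (f : X ⟶ Y), Mono f → (∀ k, IsIso ((φ k).map f)) → IsIso f := by
      intro X Y f hf hk
      apply hP
      intro G hG h
      have hfst : ∀ k, IsIso ((φ k).map (pullback.fst h f)) := by
        intro k
        have := hk k
        have : HasPullback ((φ k).map h) ((φ k).map f) :=
          hasPullback_of_preservesPullback (φ k) h f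
        rw [← PreservesPullback.iso_hom_fst (φ k) h f]
        infer_instance
      have htop : Subobject.mk (pullback.fst h f) = ⊤ := by
        by_contra hne
        obtain ⟨k, hk'⟩ := H G hG _ hne
        apply hk'
        have := hfst k
        have e : (Subobject.mk (pullback.fst h f)).arrow =
            (Subobject.underlyingIso (pullback.fst h f)).hom ≫ pullback.fst h f :=
          (Subobject.underlyingIso_hom_comp_eq_mk (pullback.fst h f)).symm
        rw [e, Functor.map_comp]
        infer_instance
      have hiso : IsIso (pullback.fst h f) := (Subobject.isIso_iff_mk_eq_top _).2 htop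
      refine ⟨inv (pullback.fst h f) ≫ pullback.snd h f, ?_, ?_⟩
      · simp only [Category.assoc]
        rw [← pullback.condition, IsIso.inv_hom_id_assoc]
      · intro y hy
        apply (cancel_mono f).1
        rw [hy]
        simp only [Category.assoc]
        rw [← pullback.condition, IsIso.inv_hom_id_assoc]
    intro X Y f hk
    have hd : ∀ k, IsIso ((φ k).map (pullback.diagonal f)) := by
      intro k
      have := hk k
      have : HasPullback ((φ k).map f) ((φ k).map f) :=
        hasPullback_of_preservesPullback (φ k) f f
      have hfst : IsIso ((φ k).map (pullback.fst f f)) := by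
        rw [← PreservesPullback.iso_hom_fst (φ k) f f]
        infer_instance
      have h1 : (φ k).map (pullback.diagonal f) ≫ (φ k).map (pullback.fst f f) = 𝟙 _ := by
        rw [← (φ k).map_comp, pullback.diagonal_fst, (φ k).map_id]
      have : IsIso ((φ k).map (pullback.diagonal f) ≫ (φ k).map (pullback.fst f f)) := by
        rw [h1]; infer_instance
      exact IsIso.of_isIso_comp_right _ ((φ k).map (pullback.fst f f))
    have hd' : IsIso (pullback.diagonal f) := stepA _ inferInstance hd
    have hmono : Mono f := (pullback.isIso_diagonal_iff f).1 hd'
    exact stepA f hmono hk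

end Groth.Agent.S6124
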