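import Groth.Statements.S6126
-- import your own Groth.Agent.* helpers here

set_option autoImplicit false
open CategoryTheory CategoryTheory.Limits
universe v₁ u₁
open SGA4

namespace Groth.Agent.S6126

/-- Let `E` be a category with `v₁`-small hom-sets admitting a separating family of objects `G t`
indexed by a `v₁`-small type, in which every object admits a monomorphism into an injective object.
Assume that each coproduct `G t ⨿ G t` exists and that every morphism out of `G t ⨿ G t` factors as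
an effective epimorphism followed by a monomorphism. Then `E` admits a coseparating family of
injective objects indexed by a `v₁`-small type. (The published statement moreover bounds the size of
this family in terms of the hom-sets `Hom (G t', G t ⨿ G t)`; only existence is stated here. The
published statement speaks of generating and cogenerating families; its proof uses and produces
joint faithfulness of maps out of, resp. into, the family, which is the sense taken here.) -/
theorem result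
    {E : Type u₁} [Category.{v₁} E] {ι : Type v₁} (G : ι → E)
    (hG : (ObjectProperty.ofObj G).IsSeparating)
    [EnoughInjectives E] [∀ t, HasBinaryCoproduct (G t) (G t)]
    (hfac : ∀ (t : ι) (X : E) (f : G t ⨿ G t ⟶ X),
      ∃ (Y : E) (e : G t ⨿ G t ⟶ Y) (m : Y ⟶ X), EffectiveEpi e ∧ Mono m ∧ e ≫ m = f) :
    ∃ (κ : Type v₁) (H : κ → E),
      (∀ k, Injective (H k)) ∧ (ObjectProperty.ofObj H).IsCoseparating := by
  classical
  -- kernel data of a morphism out of `G t ⨿ G t`
  let Kd : ∀ (t : ι) {Y : E} (_ : G t ⨿ G t ⟶ Y),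
      Set (Σ t' : ι, (G t' ⟶ G t ⨿ G t) × (G t' ⟶ G t ⨿ G t)) :=
    fun t Y e => {x | x.2.1 ≫ e = x.2.2 ≫ e}
  let κ : Type v₁ := Σ t : ι, {K : Set (Σ t' : ι, (G t' ⟶ G t ⨿ G t) × (G t' ⟶ G t ⨿ G t)) //
    ∃ (Y : E) (e : G t ⨿ G t ⟶ Y), EffectiveEpi e ∧ Kd t e = K}
  let Yc : κ → E := fun k => k.2.2.choose
  let ec : ∀ k : κ, G k.1 ⨿ G k.1 ⟶ Yc k := fun k => k.2.2.choose_spec.choose
  have hec : ∀ k : κ, EffectiveEpi (ec k) := fun k => k.2.2.choose_spec.choose_spec.1
  have hKc : ∀ k : κ, Kd k.1 (ec k) = k.2.1 := fun k => k.2.2.choose_spec.choose_spec.2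
  refine ⟨κ, fun k => Injective.under (Yc k), fun k => inferInstance, ?_⟩
  -- comparison of two effective epis with the same kernel data
  have compare : ∀ (t : ι) {Y Y' : E} (e : G t ⨿ G t ⟶ Y) (e' : G t ⨿ G t ⟶ Y'),
      EffectiveEpi e → Kd t e ⊆ Kd t e' → ∃ θ : Y ⟶ Y', e ≫ θ = e' := by
    intro t Y Y' e e' he hK
    have key : ∀ {Z : E} (g₁ g₂ : Z ⟶ G t ⨿ G t), g₁ ≫ e = g₂ ≫ e → g₁ ≫ e' = g₂ ≫ e' := by
      intro Z g₁ g₂ hg
      apply hG
      rintro _ ⟨t'⟩ c
      have hmem : (⟨t', (c ≫ g₁, c ≫ g₂)⟩ :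
          Σ t' : ι, (G t' ⟶ G t ⨿ G t) × (G t' ⟶ G t ⨿ G t)) ∈ Kd t e := by
        change (c ≫ g₁) ≫ e = (c ≫ g₂) ≫ e
        rw [Category.assoc, Category.assoc, hg]
      have := hK hmem
      change (c ≫ g₁) ≫ e' = (c ≫ g₂) ≫ e' at this
      simpa only [Category.assoc] using this
    exact ⟨EffectiveEpi.desc e e' key, EffectiveEpi.fac e e' key⟩
  -- the criterion
  intro X Y f g hfg
  apply hG
  rintro _ ⟨t⟩ c
  by_contra hne
  -- u = c ≫ f, v = c ≫ g : G t ⟶ Y, distinct
  obtain ⟨Z, e, m, he, hm, hem⟩ := hfac t Y (coprod.desc (c ≫ f) (c ≫ g))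
  let k : κ := ⟨t, ⟨Kd t e, ⟨Z, e, he, rfl⟩⟩⟩
  have hk : Kd t (ec k) = Kd t e := hKc k
  have := hec k
  obtain ⟨θ, hθ⟩ := compare t e (ec k) he hk.ge
  obtain ⟨θ', hθ'⟩ := compare t (ec k) e (hec k) hk.le
  have hθθ' : θ ≫ θ' = 𝟙 Z := by
    apply (cancel_epi e).1
    rw [← Category.assoc, hθ, hθ', Category.comp_id]
  have hθmono : Mono θ := mono_of_mono_fac hθθ'
  let w : Y ⟶ Injective.under (Yc k) := Injective.factorThru (θ ≫ Injective.ι (Yc k)) m
  have hw : m ≫ w = θ ≫ Injective.ι (Yc k) := Injective.comp_factorThru _ _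
  have hfgw : f ≫ w = g ≫ w := hfg _ (ObjectProperty.ofObj_apply _ k) w
  apply hne
  have h1 : c ≫ f = coprod.inl ≫ e ≫ m := by rw [hem, coprod.inl_desc]
  have h2 : c ≫ g = coprod.inr ≫ e ≫ m := by rw [hem, coprod.inr_desc]
  have h3 : (coprod.inl ≫ e) ≫ (θ ≫ Injective.ι (Yc k)) =
      (coprod.inr ≫ e) ≫ (θ ≫ Injective.ι (Yc k)) := by
    rw [← hw]
    have h5 : (c ≫ f) ≫ w = (c ≫ g) ≫ w := by
      rw [Category.assoc, Category.assoc, hfgw]
    rw [h1, h2] at h5
    simpa only [Category.assoc] using h5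
  have h4 : coprod.inl ≫ e = coprod.inr ≫ e := (cancel_mono (θ ≫ Injective.ι (Yc k))).1 h3
  rw [h1, h2, ← Category.assoc, h4, Category.assoc]

end Groth.Agent.S6126
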