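import Groth.Statements.S6128
import Mathlib.CategoryTheory.Sites.Closed
import Mathlib.CategoryTheory.Functor.KanExtension.Adjunction

set_option autoImplicit false
open CategoryTheory
universe u
open SGA4

namespace Groth.Agent.S6128

open Opposite

variable {C : Type u} [SmallCategory C] {C' : Type u} [SmallCategory C']
  (J : GrothendieckTopology C) (u : C ⥤ C')

theorem isClosed_top (Z : C) : J.IsClosed (⊤ : Sieve Z) := fun _ _ _ => trivial

/-- The sieve on `Z` of morphisms `g` with `u g ≫ f ∈ R`. -/
def liftSieve {Y Z : C} (R : Sieve (u.obj Y)) (f : u.obj Z ⟶ u.obj Y) : Sieve Z :=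
  (R.pullback f).functorPullback u

theorem liftSieve_pullback {Y Z Z' : C} (R : Sieve (u.obj Y)) (f : u.obj Z ⟶ u.obj Y)
    (g : Z' ⟶ Z) : (liftSieve u R f).pullback g = liftSieve u R (u.map g ≫ f) := by
  ext W h
  simp [liftSieve, Sieve.functorPullback]

/-- The constant map to the maximal sieve. -/
def natTop (Y : C) : (u.op ⋙ yoneda.obj (u.obj Y)) ⟶ (Functor.closedSieves J).toFunctor where
  app Z := ↾(fun _ => ⟨(⊤ : Sieve Z.unop), isClosed_top J Z.unop⟩)
  naturality := by
    intro Z Z' g
    ext f
    apply Subtype.ext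
    change (⊤ : Sieve Z'.unop) = (⊤ : Sieve Z.unop).pullback g.unop
    rw [Sieve.pullback_top]

/-- The map sending `f : u Z ⟶ u Y` to the closure of the lifted sieve. -/
def natLift {Y : C} (R : Sieve (u.obj Y)) :
    (u.op ⋙ yoneda.obj (u.obj Y)) ⟶ (Functor.closedSieves J).toFunctor where
  app Z := ↾(fun f => ⟨J.close (liftSieve u R f), J.close_isClosed _⟩)
  naturality := by
    intro Z Z' g
    ext f
    apply Subtype.ext
    change J.close (liftSieve u R (u.map g.unop ≫ f)) = (J.close (liftSieve u R f)).pullback g.unop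
    rw [← J.pullback_close, liftSieve_pullback]


/-- Let `u : C ⥤ C'` be a functor between small sites. If the right Kan extension along `u` of the
underlying presheaf of every sheaf of sets on `C` is a sheaf on `C'`, then `u` is cocontinuous: for
every object `Y` of `C` and every covering sieve `R` of `u Y`, the sieve of morphisms `g : Z ⟶ Y`
with `u g ∈ R` covers `Y`. -/
theorem result
    {C : Type u} [SmallCategory C] {C' : Type u} [SmallCategory C']
    (J : GrothendieckTopology C) (J' : GrothendieckTopology C') (u : C ⥤ C')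
    (h : ∀ G : Sheaf J (Type u), Presheaf.IsSheaf J' ((u.op.ran).obj G.obj)) :
    u.IsCocontinuous J J' := by
  refine ⟨fun {Y R} hR => ?_⟩
  let Ω : Sheaf J (Type u) := ⟨(Functor.closedSieves J).toFunctor,
    (isSheaf_iff_isSheaf_of_type J _).mpr (classifier_isSheaf J)⟩
  have hΩ := (isSheaf_iff_isSheaf_of_type J' _).mp (h Ω)
  have hsep := Presieve.isSheafFor_iff_yonedaSheafCondition.mp (hΩ R hR)
  let adj := u.op.ranAdjunction (Type u)
  let a := natTop J u Y
  let b := natLift J u R
  -- the two maps agree on the covering sieve `R`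
  have hres : Functor.whiskerLeft u.op R.functorInclusion ≫ a =
      Functor.whiskerLeft u.op R.functorInclusion ≫ b := by
    ext Z ⟨f, hf⟩
    apply Subtype.ext
    change (⊤ : Sieve Z.unop) = J.close (liftSieve u R f)
    unfold liftSieve
    rw [Sieve.pullback_eq_top_of_mem R hf, Sieve.functorPullback_top]
    exact ((J.close_eq_top_iff_mem _).mpr (J.top_mem _)).symm
  have hab' : adj.homEquiv _ _ a = adj.homEquiv _ _ b := by
    have h1 : R.functorInclusion ≫ adj.homEquiv _ _ a = R.functorInclusion ≫ adj.homEquiv _ _ b := by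
      rw [← Adjunction.homEquiv_naturality_left, ← Adjunction.homEquiv_naturality_left]
      exact congrArg _ hres
    exact (hsep (R.functorInclusion ≫ adj.homEquiv _ _ b)).unique h1 rfl
  have hab : a = b := (adj.homEquiv _ _).injective hab'
  have hY := congrArg (fun t => (t.app (op Y) (𝟙 (u.obj Y))).1) hab
  change (⊤ : Sieve Y) = J.close (liftSieve u R (𝟙 (u.obj Y))) at hY
  unfold liftSieve at hY
  rw [Sieve.pullback_id] at hY
  exact (J.close_eq_top_iff_mem _).mp hY.symm

end Groth.Agent.S6128
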