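import Groth.Statements.S6129
import Groth.Agent.Lib.Helper68.LanSlice

set_option autoImplicit false
open CategoryTheory CategoryTheory.Limits
universe u
open SGA4

namespace Groth.Agent.S6129

/-- Let `u : C ⥤ C'` be a faithful functor between small categories such that for every object `X` of
`C` the induced functor on over-categories `C/X ⥤ C'/u X` is full and faithful. Then the left Kan
extension functor `u_!` on presheaves of sets is faithful, the unit `H ⟶ u^* u_! H` of the
adjunction `u_! ⊣ u^*` is a monomorphism for every presheaf `H`, and for every morphism of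
presheaves `α : H ⟶ K` the naturality square of the unit at `α` (with sides `α` and `u^* u_! α`) is
cartesian. (The published statement assumes only the condition on the slice functors, and its proof
uses that `u` is faithful; the slice condition alone does not suffice: for a nontrivial group viewed
as a one-object category mapping to the point every slice functor is an equivalence, while `u_!` is
the orbit-set functor on `G`-sets, which is not faithful, and the unit `G ⟶ G/G` is not a
monomorphism. So `u` is taken faithful here.) -/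
theorem result
    {C : Type u} [SmallCategory C] {C' : Type u} [SmallCategory C'] (u : C ⥤ C') [u.Faithful]
    (hu : ∀ X : C, (Over.post (X := X) u).Full ∧ (Over.post (X := X) u).Faithful) :
    (u.op.lan : (Cᵒᵖ ⥤ Type u) ⥤ (C'ᵒᵖ ⥤ Type u)).Faithful ∧
    (∀ H : Cᵒᵖ ⥤ Type u, Mono ((u.op.lanAdjunction (Type u)).unit.app H)) ∧
    ∀ (H K : Cᵒᵖ ⥤ Type u) (α : H ⟶ K),
      IsPullback ((u.op.lanAdjunction (Type u)).unit.app H) α
        (((Functor.whiskeringLeft Cᵒᵖ C'ᵒᵖ (Type u)).obj u.op).map (u.op.lan.map α))
        ((u.op.lanAdjunction (Type u)).unit.app K) := by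
  classical
  have hG : Groth.Agent.Lib.Helper68.SliceFull u :=
    Groth.Agent.Lib.Helper68.sliceFull_of_post_full u (fun X => (hu X).1)
  -- the explicit unit is a monomorphism
  have hmonoE : ∀ H : Cᵒᵖ ⥤ Type u, Mono (Groth.Agent.Lib.Helper68.lanUnit u H) := by
    intro H
    have : ∀ V, Mono ((Groth.Agent.Lib.Helper68.lanUnit u H).app V) := by
      intro V
      rw [mono_iff_injective]
      exact Groth.Agent.Lib.Helper68.lanUnit_injective H hG V.unop
    exact NatTrans.mono_of_mono_app _
  have hunit : ∀ H : Cᵒᵖ ⥤ Type u, (u.op.lanAdjunction (Type u)).unit.app H =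
      Groth.Agent.Lib.Helper68.lanUnit u H ≫
        Functor.whiskerLeft u.op (Groth.Agent.Lib.Helper68.lanIso u H).inv := by
    intro H
    rw [← Groth.Agent.Lib.Helper68.unit_lanIso_hom, Category.assoc, ← Functor.whiskerLeft_comp,
      Iso.hom_inv_id, Functor.whiskerLeft_id']
    exact (Category.comp_id _).symm
  have hmono : ∀ H : Cᵒᵖ ⥤ Type u, Mono ((u.op.lanAdjunction (Type u)).unit.app H) := by
    intro H
    rw [hunit H]
    have := hmonoE H
    have : IsIso (Functor.whiskerLeft u.op (Groth.Agent.Lib.Helper68.lanIso u H).inv) := by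
      refine ⟨Functor.whiskerLeft u.op (Groth.Agent.Lib.Helper68.lanIso u H).hom, ?_, ?_⟩
      · rw [← Functor.whiskerLeft_comp, Iso.inv_hom_id, Functor.whiskerLeft_id']
      · rw [← Functor.whiskerLeft_comp, Iso.hom_inv_id, Functor.whiskerLeft_id']
    exact mono_comp _ _
  refine ⟨⟨?_⟩, hmono, ?_⟩
  · intro H K α β hαβ
    have := hmono K
    have h1 := (u.op.lanAdjunction (Type u)).unit.naturality α
    have h2 := (u.op.lanAdjunction (Type u)).unit.naturality β
    rw [← cancel_mono ((u.op.lanAdjunction (Type u)).unit.app K)]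
    refine h1.trans (Eq.trans ?_ h2.symm)
    change _ ≫ ((Functor.whiskeringLeft Cᵒᵖ C'ᵒᵖ (Type u)).obj u.op).map (u.op.lan.map α) =
      _ ≫ ((Functor.whiskeringLeft Cᵒᵖ C'ᵒᵖ (Type u)).obj u.op).map (u.op.lan.map β)
    rw [hαβ]
  · intro H K α
    -- the explicit square is a pullback
    have hE : IsPullback (Groth.Agent.Lib.Helper68.lanUnit u H) α
        (Functor.whiskerLeft u.op (Groth.Agent.Lib.Helper68.lanMap u α))
        (Groth.Agent.Lib.Helper68.lanUnit u K) := by
      refine IsPullback.of_forall_isPullback_app fun V => ?_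
      rw [Types.isPullback_iff]
      refine ⟨?_, ?_, ?_⟩
      · exact congrArg (fun m => m.app V) (Groth.Agent.Lib.Helper68.lanUnit_lanMap u α)
      · rintro x y ⟨h1, -⟩
        exact Groth.Agent.Lib.Helper68.lanUnit_injective H hG V.unop h1
      · intro ξ y hξ
        induction ξ using Quot.inductionOn with
        | h a =>
          have hy : y ∈ Groth.Agent.Lib.Helper68.lanFibreQuot K hG V.unop
              ((Groth.Agent.Lib.Helper68.lanUnit u K).app V y) := by
            rw [Groth.Agent.Lib.Helper68.lanFibreQuot_unit K hG V.unop y]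
            rfl
          rw [← hξ] at hy
          change y ∈ Groth.Agent.Lib.Helper68.lanFibreQuot K hG V.unop
            ((Groth.Agent.Lib.Helper68.lanMap u α).app (Opposite.op (u.obj V.unop))
              (Quot.mk _ a)) at hy
          rw [Groth.Agent.Lib.Helper68.lanMap_app_mk] at hy
          obtain ⟨t, ht, hyt⟩ := hy
          refine ⟨H.map t.op a.x, ?_, ?_⟩
          · apply Eq.symm
            apply Groth.Agent.Lib.Helper68.eq_unit_of_mem_lanFibreQuot H hG V.unop
            exact ⟨t, ht, rfl⟩
          · rw [hyt]
            exact NatTrans.naturality_apply α t.op a.x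
    have hiso : ∀ P : Cᵒᵖ ⥤ Type u, IsIso
        (Functor.whiskerLeft u.op (Groth.Agent.Lib.Helper68.lanIso u P).inv) := by
      intro P
      refine ⟨Functor.whiskerLeft u.op (Groth.Agent.Lib.Helper68.lanIso u P).hom, ?_, ?_⟩
      · rw [← Functor.whiskerLeft_comp, Iso.inv_hom_id, Functor.whiskerLeft_id']
      · rw [← Functor.whiskerLeft_comp, Iso.hom_inv_id, Functor.whiskerLeft_id']
    have := hiso H
    have := hiso K
    refine IsPullback.of_iso hE (Iso.refl _) (asIso (Functor.whiskerLeft u.op
      (Groth.Agent.Lib.Helper68.lanIso u H).inv)) (Iso.refl _)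
      (asIso (Functor.whiskerLeft u.op (Groth.Agent.Lib.Helper68.lanIso u K).inv)) ?_ ?_ ?_ ?_
    · simp only [Iso.refl_hom, Category.id_comp, asIso_hom]
      exact (hunit H).symm
    · simp
    · simp only [asIso_hom]
      change Functor.whiskerLeft u.op (Groth.Agent.Lib.Helper68.lanMap u α) ≫
        Functor.whiskerLeft u.op (Groth.Agent.Lib.Helper68.lanIso u K).inv =
        Functor.whiskerLeft u.op (Groth.Agent.Lib.Helper68.lanIso u H).inv ≫
          Functor.whiskerLeft u.op (u.op.lan.map α)
      rw [← Functor.whiskerLeft_comp, ← Functor.whiskerLeft_comp]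
      congr 1
      rw [Iso.comp_inv_eq, Category.assoc, Groth.Agent.Lib.Helper68.lanIso_naturality,
        Iso.inv_hom_id_assoc]
    · simp only [Iso.refl_hom, Category.id_comp, asIso_hom]
      exact (hunit K).symm

end Groth.Agent.S6129
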