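import Groth.Statements.S6133
-- import your own Groth.Agent.* helpers here

set_option autoImplicit false
open CategoryTheory CategoryTheory.Limits
universe v₁ u₁
open SGA4

namespace Groth.Agent.S6133

/-- Let `C` be a separating family of objects of `E` and let `i' : X' ⟶ X`, `i'' : X'' ⟶ X` be regular
monomorphisms (equalizers of pairs). If for every `T` with `C T` a morphism `T ⟶ X` factors through
`i'` exactly when it factors through `i''`, then `i'` and `i''` define the same subobject of `X`: a
regular subobject is determined by the morphisms from objects of `C` that it contains. (The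
published statement is for strict subobjects, of which regular ones are a special case, and for a
generating family in the sense of jointly reflecting isomorphisms, while the published proof uses
joint faithfulness; the row takes `C` separating.) -/
theorem result
    {E : Type u₁} [Category.{v₁} E] {C : ObjectProperty E} (hC : C.IsSeparating)
    {X X' X'' : E} (i' : X' ⟶ X) (i'' : X'' ⟶ X) [IsRegularMono i'] [IsRegularMono i'']
    (h : ∀ (T : E), C T → ∀ (g : T ⟶ X),
      (∃ g' : T ⟶ X', g' ≫ i' = g) ↔ (∃ g'' : T ⟶ X'', g'' ≫ i'' = g)) :
    Subobject.mk i' = Subobject.mk i'' := by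
  -- a general factorisation statement, used in both directions
  have key : ∀ {A B : E} (a : A ⟶ X) (b : B ⟶ X) [IsRegularMono a],
      (∀ (T : E), C T → ∀ (g : T ⟶ X), (∃ g'' : T ⟶ B, g'' ≫ b = g) → (∃ g' : T ⟶ A, g' ≫ a = g)) →
      ∃ t : B ⟶ A, t ≫ a = b := by
    intro A B a b _ hab
    have hs := IsRegularMono.getStruct a
    have heq : b ≫ hs.left = b ≫ hs.right := by
      refine hC _ _ fun T hT g => ?_
      obtain ⟨g', hg'⟩ := hab T hT (g ≫ b) ⟨g, rfl⟩
      rw [← Category.assoc, ← Category.assoc, ← hg', Category.assoc, Category.assoc, hs.w]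
    obtain ⟨t, ht⟩ := RegularMono.lift' hs b heq
    exact ⟨t, ht⟩
  have : Mono i' := (IsRegularMono.getStruct i').mono
  have : Mono i'' := (IsRegularMono.getStruct i'').mono
  obtain ⟨t, ht⟩ := key i' i'' (fun T hT g hg => (h T hT g).mpr hg)
  obtain ⟨s, hs⟩ := key i'' i' (fun T hT g hg => (h T hT g).mp hg)
  exact le_antisymm (Subobject.mk_le_mk_of_comm s hs) (Subobject.mk_le_mk_of_comm t ht)

end Groth.Agent.S6133
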