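import Groth.Statements.S6137
import Mathlib.CategoryTheory.Limits.Elements
import Mathlib.CategoryTheory.Limits.Constructions.WeaklyInitial
import Mathlib.CategoryTheory.Limits.Yoneda
import Mathlib.CategoryTheory.Limits.Types.Colimits

set_option autoImplicit false
open CategoryTheory CategoryTheory.Limits
universe v u
open SGA4

namespace Groth.Agent.S6137

/-- Let `C` be a category with `v`-small hom-sets admitting all `v`-small limits, and `F : C ⥤ Type v` a
functor. Then `F` is corepresentable if and only if it is pro-representable (viewed as a presheaf on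
`Cᵒᵖ` it is an ind-object, i.e. a small filtered colimit of corepresentable functors) and preserves
all `v`-small limits. -/
theorem result
    {C : Type u} [Category.{v} C] [HasLimitsOfSize.{v, v} C] (F : C ⥤ Type v) :
    F.IsCorepresentable ↔
      IsIndObject (unopUnop C ⋙ F) ∧ PreservesLimitsOfSize.{v, v} F := by
  constructor
  · intro hF
    obtain ⟨X, ⟨e⟩⟩ := hF.has_corepresentation
    have iso : coyoneda.obj (Opposite.op X) ≅ F := e.toIso
    refine ⟨?_, preservesLimits_of_natIso iso⟩
    have iso2 : yoneda.obj (Opposite.op X) ≅ unopUnop C ⋙ coyoneda.obj (Opposite.op X) :=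
      NatIso.ofComponents (fun Y => (opEquiv _ _).toIso) (by
        intro Y Z f
        ext g
        rfl)
    exact (isIndObject_yoneda (Opposite.op X)).map
      (iso2.hom ≫ Functor.whiskerLeft (unopUnop C) iso.hom)
  · rintro ⟨hind, hlim⟩
    obtain ⟨P⟩ := hind.nonempty_presentation
    -- the elements of `F` attached to the presentation form a weakly initial set
    let B : P.I → F.Elements := fun i =>
      ⟨Opposite.unop (P.F.obj i), yonedaEquiv (P.ι.app i)⟩
    have hB : ∀ A : F.Elements, ∃ i, Nonempty (B i ⟶ A) := by
      rintro ⟨Y, y⟩
      have hc : IsColimit (((evaluation _ _).obj (Opposite.op (Opposite.op Y))).mapCocone P.cocone) :=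
        isColimitOfPreserves _ P.coconeIsColimit
      obtain ⟨i, x, hx⟩ := Types.jointly_surjective_of_isColimit hc y
      refine ⟨i, ⟨⟨x.unop, ?_⟩⟩⟩
      have := map_yonedaEquiv (P.ι.app i) x
      exact this.trans hx
    obtain ⟨T, hT⟩ := has_weakly_initial_of_weakly_initial_set_and_hasProducts hB
    have : HasInitial F.Elements := hasInitial_of_weakly_initial_and_hasWideEqualizers hT
    exact Functor.Elements.isCorepresentable_of_hasInitial F

end Groth.Agent.S6137
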