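import Groth.Statements.S6138
import Mathlib.CategoryTheory.Limits.Shapes.RegularMono
import Mathlib.CategoryTheory.Limits.Shapes.Opposites.Equalizers
import Mathlib.CategoryTheory.Limits.Types.Limits

set_option autoImplicit false
open CategoryTheory CategoryTheory.Limits Opposite
universe v u
open SGA4

namespace Groth.Agent.S6138

/-- Let `C` have coequalizers and pullbacks, let `F` be a presheaf of sets on `C` taking coequalizers of
`C` to equalizers, and let `u ∈ F(X)`, viewed as a morphism `h_X ⟶ F`. Then this morphism is a
monomorphism (the map `v ↦ F(v)(u)` is injective on `Hom(Y, X)` for every `Y`) if and only if `u` is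
minimal: whenever `u = F(p)(u')` for an effective epimorphism `p : X ⟶ X'` and some `u' ∈ F(X')`,
`p` is an isomorphism. (Coequalizers are used for one implication and pullbacks for the other; both
are assumed here.) -/
theorem result
    {C : Type u} [Category.{v} C] [HasCoequalizers C] [HasPullbacks C]
    (F : Cᵒᵖ ⥤ Type v) [PreservesLimitsOfShape WalkingParallelPair F]
    {X : C} (u : F.obj (op X)) :
    (∀ (Y : C) (v v' : Y ⟶ X), F.map v.op u = F.map v'.op u → v = v') ↔
      ∀ (X' : C) (p : X ⟶ X') (u' : F.obj (op X')),
        EffectiveEpi p → F.map p.op u' = u → IsIso p := by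
  constructor
  · intro hA X' p u' hp hu'
    have hdesc : ∀ {Z : C} (g₁ g₂ : Z ⟶ X), g₁ ≫ p = g₂ ≫ p → g₁ ≫ 𝟙 X = g₂ ≫ 𝟙 X := by
      intro Z g₁ g₂ hg
      rw [Category.comp_id, Category.comp_id]
      apply hA
      rw [← hu']
      have h1 : F.map g₁.op (F.map p.op u') = F.map (g₁ ≫ p).op u' := by
        rw [op_comp, Functor.map_comp]; rfl
      have h2 : F.map g₂.op (F.map p.op u') = F.map (g₂ ≫ p).op u' := by
        rw [op_comp, Functor.map_comp]; rfl
      rw [h1, h2, hg]
    let q : X' ⟶ X := EffectiveEpi.desc p (𝟙 X) hdesc
    have hpq : p ≫ q = 𝟙 X := EffectiveEpi.fac p (𝟙 X) hdesc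
    have hqp : q ≫ p = 𝟙 X' := by
      rw [← cancel_epi p, ← Category.assoc, hpq, Category.id_comp, Category.comp_id]
    exact ⟨q, hpq, hqp⟩
  · intro hB Y v v' hvv'
    let p := coequalizer.π v v'
    let c : Cofork v v' := Cofork.ofπ p (coequalizer.condition v v')
    have hc : IsColimit c := coequalizerIsCoequalizer v v'
    have hop : IsLimit c.op := Cofork.isColimitEquivIsLimitOp c hc
    have hF : IsLimit (F.mapCone c.op) := isLimitOfPreserves F hop
    let s : (parallelPair v.op v'.op ⋙ F).sections :=
      ⟨fun j => match j with
        | .zero => u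
        | .one => F.map v.op u, by
        intro j j' f
        cases f with
        | left => rfl
        | right => exact hvv'.symm
        | id j => simp⟩
    let u' := (Types.isLimitEquivSections hF).symm s
    have hu' : F.map p.op u' = u := by
      have h1 := Types.isLimitEquivSections_symm_apply hF s WalkingParallelPair.zero
      have h2 : (F.mapCone c.op).π.app WalkingParallelPair.zero = F.map p.op := by
        change F.map (c.op.π.app WalkingParallelPair.zero) = F.map p.op
        rw [Cofork.op_π_app_zero]
        rfl
      rw [h2] at h1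
      exact h1
    have hiso : IsIso p := hB _ p u' inferInstance hu'
    have : v ≫ p = v' ≫ p := coequalizer.condition v v'
    exact (cancel_mono p).mp this

end Groth.Agent.S6138
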