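import Groth.Statements.S6140
import Groth.Agent.Lib.Helper68.CanonEquivRel

set_option autoImplicit false
open CategoryTheory CategoryTheory.Limits
universe u
open SGA4

namespace Groth.Agent.S6140

/-- Let `C` be a small category with pullbacks, `p₁ p₂ : R ⇉ X` an equivalence relation in `C` admitting
a coequalizer cofork `c`, and `ε` the canonical functor to sheaves of sets for the canonical
topology of `C`. Then the equivalence relation is effective and universal (`R` is the kernel pair of
the quotient map, which is a coequalizer all of whose base changes are effective epimorphisms) if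
and only if `ε` takes `c` to a coequalizer of `ε p₁, ε p₂`. (For a small category every topology has
a small topologically generating family, so both implications of the published statement apply. The
published statement asks only that the quotient map have all base changes; this row assumes that `C`
has all pullbacks.) -/
theorem result
    {C : Type u} [SmallCategory C] [HasPullbacks C] {R X : C} (p₁ p₂ : R ⟶ X)
    (hR : SGA4.IsEquivRel p₁ p₂) (c : Cofork p₁ p₂) (hc : IsColimit c) :
    SGA4.IsEffectiveUniversalEquivRel p₁ p₂ ↔
      Nonempty (IsColimit ((yoneda ⋙ presheafToSheaf (Sheaf.canonicalTopology C) (Type u)).mapCocone c)) := by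
  have e : c ≅ Cofork.ofπ c.π c.condition := Cofork.isoCoforkOfπ c
  have hc' : IsColimit (Cofork.ofπ c.π c.condition) := IsColimit.ofIsoColimit hc e
  rw [Groth.Agent.Lib.Helper68.isEffectiveUniversalEquivRel_iff_yoneda_cofork p₁ p₂ hR c.π
    c.condition hc']
  let φ := Groth.Agent.Lib.Helper68.yonedaIsoYonedaCompSheafify (Sheaf.canonicalTopology C)
  constructor
  · rintro ⟨h⟩
    have h1 : IsColimit ((Sheaf.canonicalTopology C).yoneda.mapCocone
        (Cofork.ofπ c.π c.condition)) :=
      (isColimitMapCoconeCoforkEquiv (Sheaf.canonicalTopology C).yoneda c.condition).symm h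
    have h2 : IsColimit ((Sheaf.canonicalTopology C).yoneda.mapCocone c) :=
      IsColimit.ofIsoColimit h1
        ((Cocone.functoriality _ (Sheaf.canonicalTopology C).yoneda).mapIso e.symm)
    exact ⟨IsColimit.mapCoconeEquiv φ h2⟩
  · rintro ⟨h⟩
    have h2 : IsColimit ((Sheaf.canonicalTopology C).yoneda.mapCocone c) :=
      IsColimit.mapCoconeEquiv φ.symm h
    have h1 : IsColimit ((Sheaf.canonicalTopology C).yoneda.mapCocone
        (Cofork.ofπ c.π c.condition)) :=
      IsColimit.ofIsoColimit h2
        ((Cocone.functoriality _ (Sheaf.canonicalTopology C).yoneda).mapIso e)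
    exact ⟨(isColimitMapCoconeCoforkEquiv (Sheaf.canonicalTopology C).yoneda c.condition) h1⟩

end Groth.Agent.S6140
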