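import Groth.Statements.S6142
-- import your own Groth.Agent.* helpers here

set_option autoImplicit false
open CategoryTheory
universe u
open SGA4

namespace Groth.Agent.S6142

open Opposite

variable {C : Type u} [SmallCategory C] {C' : Type u} [SmallCategory C']
  (J : GrothendieckTopology C) (K : GrothendieckTopology C') [J.Subcanonical] [K.Subcanonical]
  (u : C ⥤ C') [u.IsContinuous J K]

/-- The comparison map `h_Y ⟶ u^* h_{uY}`, given by the action of `u` on morphisms. -/
noncomputable def phi (Y : C) :
    J.yoneda.obj Y ⟶ (u.sheafPushforwardContinuous (Type u) J K).obj (K.yoneda.obj (u.obj Y)) :=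
  ObjectProperty.homMk
    { app := fun X => ↾(fun f : (unop X ⟶ Y) => u.map f)
      naturality := by
        intro X X' g
        ext f
        change u.map (g.unop ≫ f) = u.map g.unop ≫ u.map f
        exact u.map_comp _ _ }

theorem phi_app_apply (Y : C) (X : Cᵒᵖ) (f : unop X ⟶ Y) :
    (phi J K u Y).hom.app X f = u.map f := rfl


/-- Let `u : C ⥤ C'` be a continuous and cocontinuous functor between small sites whose topologies are
subcanonical. If the left adjoint `u_!` of the restriction functor `u^*` on sheaves of sets is full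
and faithful, then `u` is full and faithful. -/
theorem result
    {C : Type u} [SmallCategory C] {C' : Type u} [SmallCategory C']
    (J : GrothendieckTopology C) (K : GrothendieckTopology C') [J.Subcanonical] [K.Subcanonical]
    (u : C ⥤ C') [u.IsContinuous J K] [u.IsCocontinuous J K]
    (h : (u.sheafPullback (Type u) J K).Full ∧ (u.sheafPullback (Type u) J K).Faithful) :
    u.Full ∧ u.Faithful := by
  obtain ⟨hfull, hfaith⟩ := h
  let L := u.sheafPullback (Type u) J K
  let R := u.sheafPushforwardContinuous (Type u) J K
  let adj : L ⊣ R := u.sheafAdjunctionContinuous (Type u) J K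
  have hunit : IsIso adj.unit := inferInstance
  -- the adjoint of `phi` is an isomorphism
  have hpsi : ∀ Y : C, IsIso ((adj.homEquiv _ _).symm (phi J K u Y)) := by
    intro Y
    apply isIso_of_coyoneda_map_bijective
    intro F
    let e1 : (K.yoneda.obj (u.obj Y) ⟶ F) ≃ F.obj.obj (op (u.obj Y)) :=
      (fullyFaithfulSheafToPresheaf K (Type u)).homEquiv.trans yonedaEquiv
    let e2 : (L.obj (J.yoneda.obj Y) ⟶ F) ≃ F.obj.obj (op (u.obj Y)) :=
      (adj.homEquiv _ _).trans
        ((fullyFaithfulSheafToPresheaf J (Type u)).homEquiv.trans yonedaEquiv)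
    have hcomm : ∀ g : K.yoneda.obj (u.obj Y) ⟶ F,
        e2 ((adj.homEquiv _ _).symm (phi J K u Y) ≫ g) = e1 g := by
      intro g
      simp only [e1, e2, Equiv.trans_apply]
      rw [Adjunction.homEquiv_naturality_right, Equiv.apply_symm_apply]
      change g.hom.app (op (u.obj Y)) (u.map (𝟙 Y)) = g.hom.app (op (u.obj Y)) (𝟙 (u.obj Y))
      rw [u.map_id]
    have : (fun g : K.yoneda.obj (u.obj Y) ⟶ F => (adj.homEquiv _ _).symm (phi J K u Y) ≫ g) =
        e2.symm ∘ e1 := by
      funext g
      rw [Function.comp_apply, ← hcomm g, Equiv.symm_apply_apply]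
    rw [this]
    exact e2.symm.bijective.comp e1.bijective
  have hphi : ∀ Y : C, IsIso (phi J K u Y) := by
    intro Y
    have := hpsi Y
    have h1 : phi J K u Y = adj.unit.app _ ≫ R.map ((adj.homEquiv _ _).symm (phi J K u Y)) := by
      have h0 := Adjunction.homEquiv_unit adj (J.yoneda.obj Y) _
        ((adj.homEquiv _ _).symm (phi J K u Y))
      rw [Equiv.apply_symm_apply] at h0
      exact h0
    rw [h1]
    infer_instance
  have hbij : ∀ X Y : C, Function.Bijective (fun f : X ⟶ Y => u.map f) := by
    intro X Y
    have := hphi Y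
    have h2 : IsIso ((sheafToPresheaf J (Type u)).map (phi J K u Y)) := inferInstance
    have h3 : IsIso (((sheafToPresheaf J (Type u)).map (phi J K u Y)).app (op X)) := inferInstance
    exact (isIso_iff_bijective _).mp h3
  exact ⟨⟨fun {X Y} f => (hbij X Y).2 f⟩, ⟨fun {X Y} f g hfg => (hbij X Y).1 hfg⟩⟩

end Groth.Agent.S6142
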