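import Groth.Statements.S6144
import Mathlib.CategoryTheory.Subobject.Limits
import Mathlib.CategoryTheory.Subobject.WellPowered
import Mathlib.CategoryTheory.Limits.Shapes.Diagonal
import Mathlib.CategoryTheory.ObjectProperty.Small
import Mathlib.Logic.Small.Set

set_option autoImplicit false
open CategoryTheory CategoryTheory.Limits
universe w v u
open SGA4

namespace Groth.Agent.S6144

/-- Let `E` be a category with `v`-small hom-sets and pullbacks, admitting a detecting family of objects
indexed by a `v`-small type (maps out of the family jointly reflect isomorphisms). Then every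
detecting family `Y : I → E`, indexed by an arbitrary type, contains a detecting subfamily indexed
by a `v`-small subset of `I`. -/
theorem result
    {E : Type u} [Category.{v} E] [HasPullbacks E] {κ : Type v} (G : κ → E)
    (hG : (ObjectProperty.ofObj G).IsDetecting) {I : Type w} (Y : I → E)
    (hY : (ObjectProperty.ofObj Y).IsDetecting) :
    ∃ J : Set I, Small.{v} J ∧ (ObjectProperty.ofObj (fun j : J => Y j)).IsDetecting := by
  classical
  have hwp : WellPowered.{v} E := wellPowered_of_isDetecting hG
  -- witnesses for proper subobjects of the members of the small family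
  have hwit : ∀ (k : κ) (A : Subobject (G k)), A ≠ ⊤ →
      ∃ i : I, ∃ y : Y i ⟶ G k, ¬ A.Factors y := by
    intro k A hA
    by_contra hcon
    push Not at hcon
    apply hA
    refine Subobject.eq_of_isDetecting hY A ⊤ ?_
    rintro T ⟨i⟩ f
    exact ⟨fun _ => Subobject.top_factors f, fun _ => hcon i f⟩
  choose wit hwit' using hwit
  let J : Set I := Set.range
    (fun p : (Σ k : κ, {A : Subobject (G k) // A ≠ ⊤}) => wit p.1 p.2.1 p.2.2)
  have hsub : ∀ k : κ, Small.{v} (Subobject (G k)) := fun k => inferInstance
  have hsub' : ∀ k : κ, Small.{v} {A : Subobject (G k) // A ≠ ⊤} := fun k => inferInstance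
  have hsig : Small.{v} (Σ k : κ, {A : Subobject (G k) // A ≠ ⊤}) := inferInstance
  have hJsmall : Small.{v} J := small_range _
  refine ⟨J, hJsmall, ?_⟩
  intro A B f hf
  have hJ : ∀ (j : I), j ∈ J → ∀ h : Y j ⟶ B, ∃! h', h' ≫ f = h :=
    fun j hj h => hf (Y j) (ObjectProperty.ofObj_apply (fun j : J => Y j) ⟨j, hj⟩) h
  -- key lemma: factorisation through a subobject is tested on the subfamily
  have key : ∀ {P Q : E} (m : P ⟶ Q) [Mono m] (k : κ) (g : G k ⟶ Q),
      (∀ j ∈ J, ∀ y : Y j ⟶ G k, (Subobject.mk m).Factors (y ≫ g)) →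
      (Subobject.mk m).Factors g := by
    intro P Q m _ k g hall
    by_cases hS : (Subobject.pullback g).obj (Subobject.mk m) = ⊤
    · have h1 := Subobject.top_factors (𝟙 (G k))
      rw [← hS, pullback_factors_iff, Category.id_comp] at h1
      exact h1
    · exfalso
      obtain ⟨y, hy⟩ := hwit' k _ hS
      apply hy
      rw [pullback_factors_iff]
      exact hall _ ⟨⟨k, _, hS⟩, rfl⟩ y
  -- step 1: `f` is a monomorphism
  have hmono : Mono f := by
    rw [← pullback.isIso_diagonal_iff]
    apply hG
    intro T hT h
    obtain ⟨k⟩ := hT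
    have hfac : (Subobject.mk (pullback.diagonal f)).Factors h := by
      apply key
      intro j hj y
      rw [Subobject.mk_factors_iff]
      have h12 : (y ≫ h) ≫ pullback.fst f f = (y ≫ h) ≫ pullback.snd f f := by
        apply (hJ j hj (((y ≫ h) ≫ pullback.fst f f) ≫ f)).unique rfl
        simp [pullback.condition]
      refine ⟨(y ≫ h) ≫ pullback.fst f f, ?_⟩
      apply pullback.hom_ext
      · simp
      · simp [h12]
    have hdm : Mono (pullback.diagonal f) := inferInstance
    obtain ⟨l, hl⟩ : ∃ l : G k ⟶ A, l ≫ pullback.diagonal f = h :=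
      (Subobject.mk_factors_iff (pullback.diagonal f) h).mp hfac
    exact ⟨l, hl, fun l' hl' => by
      have hl'' : l' ≫ pullback.diagonal f = h := hl'
      rw [← cancel_mono (pullback.diagonal f), hl, hl'']⟩
  -- step 2: every map from the small family lifts uniquely
  apply hG
  intro T hT g
  obtain ⟨k⟩ := hT
  have hfac : (Subobject.mk f).Factors g := by
    apply key
    intro j hj y
    rw [Subobject.mk_factors_iff]
    exact (hJ j hj (y ≫ g)).exists
  obtain ⟨l, hl⟩ : ∃ l : G k ⟶ A, l ≫ f = g := (Subobject.mk_factors_iff f g).mp hfac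
  exact ⟨l, hl, fun l' hl' => by rw [← cancel_mono f, hl, hl']⟩

end Groth.Agent.S6144
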