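import Groth.Statements.S6164
import Groth.Agent.Lib.Helper34.SiteCechSS
-- import your own Groth.Agent.* helpers here

set_option autoImplicit false
universe u
open CategoryTheory
open CohSite

namespace Groth.Agent.S6164

open CategoryTheory.Limits in
/-- Existence form of the spectral sequence of a covering; abelian sheaves on a small site with fibre
products: for a covering family (U_i -> X) and an abelian sheaf M there is a bounded E_2 spectral
sequence of abelian groups with E_2^{p,q} isomorphic to the Cech cohomology group H^p((U_i -> X),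
H^q(M)) of the family with coefficients in the presheaf V |-> H^q(V, M), for p, q >= 0 and zero
otherwise, with abutment data whose filtrations are finite on H^n(X, M) (n >= 0; zero for n < 0).
The E_2 identifications and abutment isomorphisms are asserted to exist only, not pinned to the
canonical maps, so edge maps are not part of this statement. -/
theorem result {C : Type u} [SmallCategory C] [HasPullbacks C]
    (J : GrothendieckTopology C) (M : Sheaf J AddCommGrpCat.{u}) {X : C} {ι : Type u} (Y : ι → Over X)
    (hY : Sieve.ofArrows (fun i => (Y i).left) (fun i => (Y i).hom) ∈ J X) :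
    ∃ (E : E₂CohomologicalSpectralSequence AddCommGrpCat.{u})
      (a : SpSeq.Abutment E (fun n : ℤ =>
        if 0 ≤ n then AddCommGrpCat.of (CohSite.HU M n.toNat X) else AddCommGrpCat.of PUnit.{u + 1})),
      (∀ n, a.IsFinite n) ∧ SpSeq.IsBounded E ∧
      ∀ p q : ℤ, Nonempty ((E.page 2 le_rfl).X (p, q) ≅
        (if 0 ≤ p ∧ 0 ≤ q then CohCx.cechH (M.cohomologyPresheaf q.toNat) Y p.toNat
         else AddCommGrpCat.of PUnit.{u + 1})) := by
  classical
  have hT : ∀ Q : Sheaf J AddCommGrpCat.{u}, Injective Q → ∀ q : ℕ, 0 < q →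
      IsZero (((Groth.Agent.Lib.Helper34.SiteCechSS.H0 Y).rightDerived q).obj
        ((sheafToPresheaf J AddCommGrpCat.{u}).obj Q)) := by
    intro Q hQ q hq
    obtain ⟨k, rfl⟩ := Nat.exists_eq_succ_of_ne_zero hq.ne'
    have : Injective ((sheafToPresheaf J AddCommGrpCat.{u}).obj Q) :=
      Groth.Agent.Lib.Cohomology.SiteCech.injective_presheaf_of_injective_sheaf J Q
    exact (Groth.Agent.Lib.Helper34.SiteCechSS.H0 Y).isZero_rightDerived_obj_injective_succ k _
  refine Groth.Agent.Lib.Helper34.SS.grothendieck_spectralSequence_flex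
    (sheafToPresheaf J AddCommGrpCat.{u}) (Groth.Agent.Lib.Helper34.SiteCechSS.H0 Y) hT M _ _
    ?_ ?_ ?_ ?_
  · intro n
    rw [if_pos (Int.natCast_nonneg n), Int.toNat_natCast]
    obtain ⟨e⟩ := Groth.Agent.Lib.Helper34.SiteExtRD.nonempty_HU_iso_rightDerived J M n X
    exact ⟨e ≪≫ (Groth.Agent.Lib.Helper34.SS.rightDerivedIsoOfIso
      (Groth.Agent.Lib.Helper34.SiteCechSS.secIso Y J hY) n).app M⟩
  · intro n hn
    rw [if_neg (by lia)]
    exact AddCommGrpCat.isZero_of_subsingleton _
  · intro p q
    rw [if_pos ⟨Int.natCast_nonneg p, Int.natCast_nonneg q⟩, Int.toNat_natCast, Int.toNat_natCast]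
    obtain ⟨e1⟩ := Groth.Agent.Lib.Helper34.SiteCechSS.nonempty_cechH_iso_rightDerived Y
      (M.cohomologyPresheaf q) p
    obtain ⟨e2⟩ := Groth.Agent.Lib.Helper34.SiteCechSS.nonempty_rightDerived_sheafToPresheaf_iso J q M
    exact ⟨e1 ≪≫ ((Groth.Agent.Lib.Helper34.SiteCechSS.H0 Y).rightDerived p).mapIso e2.symm⟩
  · intro p q h
    rw [if_neg h]
    exact AddCommGrpCat.isZero_of_subsingleton _

end Groth.Agent.S6164
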