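import Groth.Statements.S6172
-- import your own Groth.Agent.* helpers here

set_option autoImplicit false
universe u
open CategoryTheory
open SGA4

namespace Groth.Agent.S6172

open CategoryTheory.Limits MonoidalCategory in
/-- `star Z ⋙ forget Z` is the functor `Z ⨯ -`. -/
noncomputable def starForgetIso {E : Type*} [Category E] [HasBinaryProducts E] (Z : E) :
    Over.star Z ⋙ Over.forget Z ≅ prod.functor.obj Z :=
  NatIso.ofComponents (fun Y => Iso.refl _) (by
    intro X Y f
    exact (Category.comp_id _).trans (Category.id_comp _).symm)

open CategoryTheory.Limits MonoidalCategory in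
theorem general {E : Type*} [Category E] [MonoidalCategory E] [MonoidalClosed E]
    [HasBinaryProducts E] (Z Y : E) [(Over.star Z).IsLeftAdjoint]
    (iso : tensorLeft Z ≅ prod.functor.obj Z) :
    Nonempty (((Over.star Z).rightAdjoint).obj ((Over.star Z).obj Y) ≅ (ihom Z).obj Y) := by
  have adj1 : Over.star Z ⊣ (Over.star Z).rightAdjoint := Adjunction.ofIsLeftAdjoint _
  have adj2 : Over.forget Z ⊣ Over.star Z := Over.forgetAdjStar Z
  have adj3 : Over.star Z ⋙ Over.forget Z ⊣ Over.star Z ⋙ (Over.star Z).rightAdjoint :=
    adj1.comp adj2
  have adj4 : tensorLeft Z ⊣ Over.star Z ⋙ (Over.star Z).rightAdjoint :=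
    adj3.ofNatIsoLeft ((starForgetIso Z).trans iso.symm)
  exact ⟨(Adjunction.rightAdjointUniq adj4 (ihom.adjunction Z)).app Y⟩

open CategoryTheory.Limits MonoidalCategory in
/-- Topos E of sheaves of sets on a small site, localised at an object Z: with j_Z : E/Z -> E the
localisation morphism, j_Z^* X = Z x X over Z, and j_{Z*} its right adjoint (taken as an instance
hypothesis, which holds in any topos), j_{Z*} j_Z^* Y is isomorphic to the internal hom Hom(Z, Y)
for every object Y. Existence of an isomorphism only (the source's is canonical). -/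
theorem result {C : Type u} [SmallCategory C] (J : GrothendieckTopology C)
    (Z Y : Sheaf J (Type u)) [(Over.star Z).IsLeftAdjoint] :
    Nonempty (((Over.star Z).rightAdjoint).obj ((Over.star Z).obj Y) ≅ (ihom Z).obj Y) := by
  exact general Z Y (CartesianMonoidalCategory.tensorLeftIsoProd Z)

end Groth.Agent.S6172
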