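import Groth.Statements.S6173
import Mathlib.CategoryTheory.Sites.Point.Map
import Mathlib.CategoryTheory.Sites.Point.Over
import Mathlib.CategoryTheory.Sites.CoversTop.Basic
-- import your own Groth.Agent.* helpers here

set_option autoImplicit false
universe u
open CategoryTheory
open SGA4

namespace Groth.Agent.S6173

open GrothendieckTopology GrothendieckTopology.Point in
/-- equality of two `fiberMk` with possibly different source indices. -/
lemma exists_of_fiberMk_eq {C : Type u} [SmallCategory C] {N : Type*} [Category* N]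
    [IsCofiltered N] [InitiallySmall.{u} N] (p : N ⥤ C) {U₁ U₂ : N} {X : C}
    (f₁ : p.obj U₁ ⟶ X) (f₂ : p.obj U₂ ⟶ X)
    (hf : ofIsCofiltered.fiberMk.{u} f₁ = ofIsCofiltered.fiberMk.{u} f₂) :
    ∃ (V : N) (g₁ : V ⟶ U₁) (g₂ : V ⟶ U₂), p.map g₁ ≫ f₁ = p.map g₂ ≫ f₂ := by
  let W := IsCofiltered.min U₁ U₂
  let a : W ⟶ U₁ := IsCofiltered.minToLeft U₁ U₂
  let b : W ⟶ U₂ := IsCofiltered.minToRight U₁ U₂
  have h : ofIsCofiltered.fiberMk.{u} (p.map a ≫ f₁) = ofIsCofiltered.fiberMk.{u} (p.map b ≫ f₂) := by
    rw [ofIsCofiltered.fiberMk_map_comp, ofIsCofiltered.fiberMk_map_comp, hf]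
  obtain ⟨V, g, hg⟩ := ofIsCofiltered.exists_of_fiberMk_eq_fiberMk h
  exact ⟨V, g ≫ a, g ≫ b, by simpa using hg⟩

/-- Second assertion (topos of sheaves on a small site (C, J); E/X_i the induced topoi, modelled by the
sites (C/X_i, J/X_i); 'enough points' = a small conservative family of points, equivalently all
fibre functors together are conservative): if (X_i) is a family of objects covering the final object
and every E/X_i has enough points, then E has enough points. (The first assertion, that E/X inherits
enough points from E, is Mathlib's instance.) -/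
theorem result {C : Type u} [SmallCategory C] (J : GrothendieckTopology C) {ι : Type u}
    (X : ι → C) (hX : J.CoversTop X) (h : ∀ i, GrothendieckTopology.HasEnoughPoints.{u} (J.over (X i))) :
    GrothendieckTopology.HasEnoughPoints.{u} J := by
  choose P hPsmall hPcons using fun i => (h i).exists_objectProperty
  refine ⟨ObjectProperty.ofObj (fun (ψ : Σ i, (P i).FullSubcategory) ↦
    ψ.2.obj.map (Over.forget (X ψ.1)) J), ?_, ?_⟩
  · infer_instance
  · apply ObjectProperty.IsConservativeFamilyOfPoints.mk'
    intro Y S hS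
    refine J.transitive (hX Y) S ?_
    rintro Z f ⟨i, ⟨a⟩⟩
    -- reduce to the over site
    have key : (Sieve.overEquiv (Over.mk a)).symm (S.pullback f) ∈ (J.over (X i)) (Over.mk a) := by
      obtain ⟨κ, T, g, hT⟩ := ((Sieve.overEquiv (Over.mk a)).symm (S.pullback f)).exists_eq_ofArrows
      rw [hT, (hPcons i).jointly_reflect_ofArrows_mem_of_small]
      intro Φ x
      let p := CategoryOfElements.π Φ.obj.fiber ⋙ Over.forget (X i)
      let U₀ : Φ.obj.fiber.Elements := Φ.obj.fiber.elementsMk (Over.mk a) x
      let y₀ : (Φ.obj.map (Over.forget (X i)) J).fiber.obj Y :=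
        GrothendieckTopology.Point.ofIsCofiltered.fiberMk (p := p) (U := U₀) f
      obtain ⟨W, g', hg', w, hw⟩ := hS ⟨_, ⟨(⟨i, Φ⟩ : Σ i, (P i).FullSubcategory)⟩⟩ y₀
      obtain ⟨U', h', rfl⟩ := GrothendieckTopology.Point.ofIsCofiltered.fiberMk_jointly_surjective
        (p := p) w
      have hw' : GrothendieckTopology.Point.ofIsCofiltered.fiberMk.{u} (p := p) (h' ≫ g') =
          GrothendieckTopology.Point.ofIsCofiltered.fiberMk.{u} (p := p) (U := U₀) f := by
        rw [← GrothendieckTopology.Point.ofIsCofiltered.fiber_map_fiberMk]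
        exact hw
      obtain ⟨V, g₁, g₂, hV⟩ := exists_of_fiberMk_eq p (U₂ := U₀) (h' ≫ g') f hw'
      have hq : (Sieve.ofArrows T g) (Y := V.1) (g₂.1 : V.1 ⟶ Over.mk a) := by
        rw [← hT, Sieve.overEquiv_symm_iff]
        change S (p.map g₂ ≫ f)
        rw [← hV, ← Category.assoc]
        exact S.downward_closed hg' _
      rw [Sieve.mem_ofArrows_iff] at hq
      obtain ⟨k, r, hr⟩ := hq
      refine ⟨k, Φ.obj.fiber.map r V.2, ?_⟩
      have := g₂.2
      rw [hr] at this
      simpa using this
    rw [GrothendieckTopology.mem_over_iff, OrderIso.apply_symm_apply] at key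
    exact key

end Groth.Agent.S6173
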