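import Groth.Statements.S6176
-- import your own Groth.Agent.* helpers here

set_option autoImplicit false
universe u
open CategoryTheory
open SGA4

namespace Groth.Agent.S6176

open CategoryTheory.Limits in
theorem general {E : Type*} [Category E] [HasTerminal E] (U : E) (hU : Mono (terminal.from U))
    (I : Type*) [Nonempty I] : PreservesLimitsOfShape (Discrete I) (Over.forget U) := by
  have huniq : ∀ {T : E} (f g : T ⟶ U), f = g := by
    intro T f g
    rw [← cancel_mono (terminal.from U)]
    exact Subsingleton.elim _ _
  constructor
  intro K
  constructor
  intro c hc
  obtain ⟨i₀⟩ := ‹Nonempty I›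
  refine ⟨IsLimit.ofExistsUnique ?_⟩
  intro s
  let T : Over U := Over.mk (s.π.app ⟨i₀⟩ ≫ (K.obj ⟨i₀⟩).hom)
  let s' : Cone K :=
    { pt := T
      π := Discrete.natTrans (fun j => Over.homMk (s.π.app j) (huniq _ _)) }
  refine ⟨(hc.lift s').left, ?_, ?_⟩
  · intro j
    exact congrArg CommaMorphism.left (hc.fac s' j)
  · intro m hm
    let m' : T ⟶ c.pt := Over.homMk m (huniq _ _)
    have : m' = hc.lift s' := by
      apply hc.uniq s' m'
      intro j
      ext
      exact hm j
    rw [← this]
    rfl

open CategoryTheory.Limits in
/-- The clause on products (topos of sheaves of sets on a small site; j : E/U -> E the open embedding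
defined by an open U, i.e. a subobject of the final object, so that j_! is the forgetful functor
from objects over U): j_! commutes with products indexed by a nonempty u-small set. (Commutation
with fibre products and cofiltered limits, the other clauses, holds for the forgetful functor of any
slice.) -/
theorem result {C : Type u} [SmallCategory C] (J : GrothendieckTopology C)
    (U : Sheaf J (Type u)) (hU : SGA4.IsOpen U) (I : Type u) [Nonempty I] :
    PreservesLimitsOfShape (Discrete I) (Over.forget U) := by
  exact general U hU I

end Groth.Agent.S6176
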