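import Groth.Statements.S6180
import Groth.Agent.Lib.Helper70.StrictHensSet
import Groth.Agent.Lib.Helper70.StalkPull

set_option autoImplicit false
open CategoryTheory CategoryTheory.Limits AlgebraicGeometry Opposite
universe u
open EtDesc

namespace Groth.Agent.S6180

/-- Let X be a scheme, x a point of X, R a strict henselisation of O_{X,x} with strict localisation X̄ =
Spec R -> X and attached geometric point ξ : Spec κ(R) -> X. The fibre functor F ↦ F_ξ on etale
sheaves of sets on X is isomorphic to the functor F ↦ Γ(X̄, F̄), F̄ the inverse image of F on X̄.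
(The published statement gives a canonical isomorphism — global sections of F̄ identified with its
stalk at the closed point of X̄, then with F_ξ; this row asserts only that an isomorphism of
functors exists.) -/
theorem result (X : Scheme.{u}) (x : X)
    (R : Type u) [CommRing R] [IsLocalRing R] [Algebra (X.presheaf.stalk x) R]
    [IsLocalHom (algebraMap (X.presheaf.stalk x) R)] [Hensel.IsStrictHenselization (X.presheaf.stalk x) R]
    [IsSepClosed (IsLocalRing.ResidueField R)] :
    Nonempty ((Scheme.pointSmallEtale (Hens2.geomPt X x R)).sheafFiber (A := Type (u + 1)) ≅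
      EtDesc.pullSh (Hens2.specOf X x R) ⋙
        (sheafSections (Spec (CommRingCat.of R)).smallEtaleTopology (Type (u + 1))).obj
          (op (EtCoh.top (Spec (CommRingCat.of R))))) := by
  haveI : HenselianLocalRing R :=
    Hensel.IsStrictHenselization.henselian (R := X.presheaf.stalk x) (S := R)
  let g := Hens2.specOf X x R
  -- step 1: the stalk at the closed point of `Spec R` is global sections
  let e3 : (Scheme.pointSmallEtale (Groth.Agent.Lib.Helper70.StrictHens.ξ R)).sheafFiber (A := Type (u + 1)) ≅
      (sheafSections (Spec (CommRingCat.of R)).smallEtaleTopology (Type (u + 1))).obj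
          (op (EtCoh.top (Spec (CommRingCat.of R)))) :=
    (NatIso.ofComponents (fun F => (Equiv.ofBijective _
        (Groth.Agent.Lib.Helper70.StrictHens.bijective_toPresheafFiber_set R F)).toIso) (by
      intro F G a
      exact ((Scheme.pointSmallEtale (Groth.Agent.Lib.Helper70.StrictHens.ξ R)).toPresheafFiber_naturality
        (A := Type (u + 1)) a.hom
        (EtCoh.top (Spec (CommRingCat.of R))) (Groth.Agent.Lib.Helper70.StrictHens.pt R)).symm)).symm
  -- step 2: stalks of the inverse image
  haveI : ((EtCoh.bc g).sheafPushforwardContinuous (Type (u + 1)) X.smallEtaleTopology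
      (Spec (CommRingCat.of R)).smallEtaleTopology).IsRightAdjoint :=
    (EtDesc.adjSh g).isRightAdjoint
  let e1 := GrothendieckTopology.Point.sheafFiberComapIso (Scheme.pointSmallEtale (Groth.Agent.Lib.Helper70.StrictHens.ξ R))
    (EtCoh.bc g) (EtCoh.coverPreserving_bc g) (Type (u + 1))
  let e2 := Groth.Agent.Lib.Helper70.StalkPull.sheafFiberIsoOfFiberIso (A := Type (u + 1))
    (Groth.Agent.Lib.Helper70.StalkPull.comapPoint g (Groth.Agent.Lib.Helper70.StrictHens.ξ R))
    (Scheme.pointSmallEtale (Groth.Agent.Lib.Helper70.StrictHens.ξ R ≫ g)) (Groth.Agent.Lib.Helper70.StalkPull.fiberIso g (Groth.Agent.Lib.Helper70.StrictHens.ξ R)).symm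
  exact ⟨e2.symm ≪≫ e1 ≪≫ Functor.isoWhiskerLeft (EtDesc.pullSh g) e3⟩

end Groth.Agent.S6180
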