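import Groth.Statements.S6184
import Mathlib.CategoryTheory.Adjunction.Triple

set_option autoImplicit false
open CategoryTheory CategoryTheory.Limits AlgebraicGeometry Opposite
universe u
open BigSite

namespace Groth.Agent.S6184

/-- Let X be a scheme, u the inclusion of the small etale site of X into the big etale site (X-schemes
with the etale topology), u_* restriction of sheaves along it and u^* its left adjoint. For every
sheaf of sets G and every abelian sheaf G on the small etale site, the unit G -> u_* u^* G is an
isomorphism (so u^* is fully faithful). Stated for sheaves of sets (first conjunct, with Mathlib's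
sheaf pullback along the inclusion) and for abelian sheaves (second conjunct, the prelude's
adjunction on the big etale site). -/
theorem result (X : Scheme.{u}) :
    (∀ G : EtDesc.Sh X, IsIso (((EtFppf.a X).sheafAdjunctionContinuous (Type (u + 1)) X.smallEtaleTopology
      (QuotSh.J Scheme.etalePrecoverage X)).unit.app G)) ∧
    (∀ G : EtCoh.Ab X, IsIso ((BigSite.piEtAdj Scheme.etalePrecoverage X).unit.app G)) := by
  have hfull : (EtFppf.a X).Full := inferInstanceAs (Scheme.Etale.forget X).Full
  have hfaith : (EtFppf.a X).Faithful := inferInstanceAs (Scheme.Etale.forget X).Faithful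
  have hcoc : (EtFppf.a X).IsCocontinuous X.smallEtaleTopology (QuotSh.J Scheme.etalePrecoverage X) :=
    BigSite.aEtCocont_etale X
  have hcont : (EtFppf.a X).IsContinuous X.smallEtaleTopology (QuotSh.J Scheme.etalePrecoverage X) :=
    BigSite.aEtCont_etale X
  constructor
  · intro G
    let t : Adjunction.Triple _ _ _ :=
      { adj₁ := (EtFppf.a X).sheafAdjunctionContinuous (Type (u + 1)) X.smallEtaleTopology
          (QuotSh.J Scheme.etalePrecoverage X)
        adj₂ := (EtFppf.a X).sheafAdjunctionCocontinuous (Type (u + 1)) X.smallEtaleTopology
          (QuotSh.J Scheme.etalePrecoverage X) }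
    have : IsIso t.adj₁.unit := by
      rw [t.isIso_unit_iff_isIso_counit]
      rw [NatTrans.isIso_iff_isIso_app]
      intro F
      have : IsIso ((sheafToPresheaf _ _).map (t.adj₂.counit.app F)) := by
        change IsIso (t.adj₂.counit.app F).hom
        erw [Functor.sheafAdjunctionCocontinuous_counit_app_hom]
        have : (EtFppf.a X).op.Full := inferInstance
        have : (EtFppf.a X).op.Faithful := inferInstance
        have key : IsIso (((EtFppf.a X).op.ranAdjunction (Type (u + 1))).counit.app F.obj) :=
          inferInstance
        exact key
      exact isIso_of_fully_faithful (sheafToPresheaf _ _) _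
    exact inferInstanceAs (IsIso (t.adj₁.unit.app G))
  · intro G
    let t : Adjunction.Triple _ _ _ :=
      { adj₁ := BigSite.piEtAdj Scheme.etalePrecoverage X
        adj₂ := BigSite.iEtAdj Scheme.etalePrecoverage X }
    have : IsIso t.adj₁.unit := by
      rw [t.isIso_unit_iff_isIso_counit]
      rw [NatTrans.isIso_iff_isIso_app]
      intro F
      have : IsIso ((sheafToPresheaf _ _).map (t.adj₂.counit.app F)) := by
        change IsIso (t.adj₂.counit.app F).hom
        erw [Functor.sheafAdjunctionCocontinuous_counit_app_hom]
        have : (EtFppf.a X).op.Full := inferInstance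
        have : (EtFppf.a X).op.Faithful := inferInstance
        have key : IsIso (((EtFppf.a X).op.ranAdjunction AddCommGrpCat.{u + 1}).counit.app F.obj) :=
          inferInstance
        exact key
      exact isIso_of_fully_faithful (sheafToPresheaf _ _) _
    exact inferInstanceAs (IsIso (t.adj₁.unit.app G))

end Groth.Agent.S6184
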