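import Groth.Statements.S6185
import Groth.Agent.Lib.Helper34.BigEtH
-- import your own Groth.Agent.* helpers here

set_option autoImplicit false
open CategoryTheory CategoryTheory.Limits AlgebraicGeometry Opposite
universe u
open BigSite

namespace Groth.Agent.S6185

/-- For a scheme X and an abelian sheaf F on the big etale site of X, the cohomology groups H^p(X_et,
F|) of the restriction of F to the small etale site and H^p of F on the big etale site are
isomorphic for every p. Existence of an additive isomorphism only (the published statement asserts
that the canonical comparison homomorphism is an isomorphism; that map is not named here). -/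
theorem result (X : Scheme.{u})
    (F : BigSite.Ab Scheme.etalePrecoverage X) (p : ℕ) :
    Nonempty (EtCoh.H X ((BigSite.resEt Scheme.etalePrecoverage X).obj F) p ≃+
      BigSite.H Scheme.etalePrecoverage X F p) := by
  haveI := Groth.Agent.Lib.Helper34.BigEt.preservesFiniteLimits_piEtPull Scheme.etalePrecoverage X
  haveI : PreservesLimitsOfSize.{0, 0} (BigSite.resEt Scheme.etalePrecoverage X) :=
    (BigSite.piEtAdj Scheme.etalePrecoverage X).rightAdjoint_preservesLimits
  haveI : PreservesColimitsOfSize.{0, 0} (BigSite.resEt Scheme.etalePrecoverage X) :=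
    (BigSite.iEtAdj Scheme.etalePrecoverage X).leftAdjoint_preservesColimits
  haveI : PreservesFiniteLimits (BigSite.resEt Scheme.etalePrecoverage X) :=
    PreservesLimitsOfSize.preservesFiniteLimits _
  haveI : PreservesFiniteColimits (BigSite.resEt Scheme.etalePrecoverage X) :=
    PreservesColimitsOfSize.preservesFiniteColimits _
  let e1 := Groth.Agent.Lib.Helper68.ExtAdj.extAddEquiv.{u + 1, u + 1}
    (BigSite.piEtAdj Scheme.etalePrecoverage X)
    ((constantSheaf X.smallEtaleTopology AddCommGrpCat.{u + 1}).obj (AddCommGrpCat.of (ULift ℤ))) F p
  let e2 := Groth.Agent.Lib.Helper19.PushCocont.extIsoLeft.{u + 1}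
    ((Groth.Agent.Lib.Helper34.BigEt.piEtPullConstIso Scheme.etalePrecoverage X).app
      (AddCommGrpCat.of (ULift ℤ))) F p
  exact ⟨e1.symm.trans e2⟩

end Groth.Agent.S6185
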