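import Groth.Statements.S6239
-- import your own Groth.Agent.* helpers here

set_option autoImplicit false
universe u
open CategoryTheory CategoryTheory.Limits AlgebraicGeometry
attribute [local instance] HasDerivedCategory.standard
open KSix

namespace Groth.Agent.S6239


theorem torAmp_mono {X Y : Scheme.{u}} (f : X ⟶ Y) (F : CochainComplex X.Modules ℤ) (x : X)
    {a b a' b' : ℤ} (ha : a' ≤ a) (hb : b ≤ b') (h : DerSch.HasTorAmplitudeAt f a b F x) :
    DerSch.HasTorAmplitudeAt f a' b' F x := by
  obtain ⟨E, hE, hfl, hiso⟩ := h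
  refine ⟨E, ?_, hfl, hiso⟩
  intro i hi
  apply hE
  rcases hi with hi | hi
  · left; omega
  · right; omega

/-- Let f : X ⟶ Y be a morphism with X quasi-compact and F a cochain complex of O_X-modules which is
perfect relative to f (pseudo-coherent relative to f in chart form, and locally on X of finite
stalkwise tor amplitude over the local rings of Y). Then F has finite perfect amplitude relative to
f: one interval [a, b] works at every point of X. -/
theorem result {X Y : Scheme.{u}} [CompactSpace X] (f : X ⟶ Y)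
    (F : CochainComplex X.Modules ℤ) (hF : DerSch.IsPerfectRel f F) :
    DerSch.HasFinitePerfAmplitudeRel f F := by
  obtain ⟨hpc, hloc⟩ := hF
  have key : ∃ a b : ℤ, ∀ x ∈ (Set.univ : Set X), DerSch.HasTorAmplitudeAt f a b F x := by
    refine isCompact_univ.induction_on (p := fun s => ∃ a b : ℤ, ∀ x ∈ s, DerSch.HasTorAmplitudeAt f a b F x)
      ?_ ?_ ?_ ?_
    · exact ⟨0, 0, fun x hx => absurd hx (Set.notMem_empty x)⟩
    · rintro s t hst ⟨a, b, h⟩
      exact ⟨a, b, fun x hx => h x (hst hx)⟩
    · rintro s t ⟨a, b, h⟩ ⟨a', b', h'⟩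
      refine ⟨min a a', max b b', ?_⟩
      rintro x (hx | hx)
      · exact torAmp_mono f F x (min_le_left _ _) (le_max_left _ _) (h x hx)
      · exact torAmp_mono f F x (min_le_right _ _) (le_max_right _ _) (h' x hx)
    · intro x _
      obtain ⟨V, a, b, hxV, hV⟩ := hloc x
      refine ⟨(V : Set X), ?_, a, b, fun x' hx' => hV x' hx'⟩
      exact mem_nhdsWithin_of_mem_nhds (V.isOpen.mem_nhds hxV)
  obtain ⟨a, b, h⟩ := key
  exact ⟨a, b, hpc, fun x => h x (Set.mem_univ x)⟩

end Groth.Agent.S6239
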