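import Groth.Statements.S6263
import Mathlib
import Groth.Agent.Lib.Helper95.LocalSplitNakayama
-- import your own Groth.Agent.* helpers here

set_option autoImplicit false
universe u
open CAlg

namespace Groth.Agent.S6263

open TensorProduct in
/-- Lemma A: on a flat module, elements outside a prime `p` act injectively modulo `p`. -/
lemma mem_smul_top_of_smul_mem {R : Type u} [CommRing R] (N : Type u) [AddCommGroup N] [Module R N]
    [Module.Flat R N] (p : Ideal R) [p.IsPrime] (r : R) (hr : r ∉ p) (n : N)
    (h : r • n ∈ p • (⊤ : Submodule R N)) : n ∈ p • (⊤ : Submodule R N) := by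
  let mulR : (R ⧸ p) →ₗ[R] (R ⧸ p) := LinearMap.lsmul R (R ⧸ p) r
  have hinj : Function.Injective mulR := by
    intro x y hxy
    simp only [mulR, LinearMap.lsmul_apply] at hxy
    have h1 : (Ideal.Quotient.mk p r) * x = (Ideal.Quotient.mk p r) * y := by
      have e1 : ∀ z : R ⧸ p, r • z = (Ideal.Quotient.mk p r) * z := fun z => by
        rw [Algebra.smul_def]; rfl
      rw [← e1, ← e1]; exact hxy
    have h2 : Ideal.Quotient.mk p r ≠ 0 := by
      rwa [Ne, Ideal.Quotient.eq_zero_iff_mem]
    exact mul_left_cancel₀ h2 h1
  have hflat := Module.Flat.rTensor_preserves_injective_linearMap (M := N) mulR hinj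
  let e := TensorProduct.quotTensorEquivQuotSMul N p
  have h3 : (mulR.rTensor N) ((1 : R ⧸ p) ⊗ₜ[R] n) = 0 := by
    apply e.injective
    rw [map_zero, LinearMap.rTensor_tmul]
    have : mulR 1 = Ideal.Quotient.mk p r := by
      simp only [mulR, LinearMap.lsmul_apply, Algebra.smul_def, mul_one]; rfl
    rw [this, TensorProduct.quotTensorEquivQuotSMul_mk_tmul]
    exact (Submodule.Quotient.mk_eq_zero _).mpr h
  have h4 : ((1 : R ⧸ p) ⊗ₜ[R] n) = 0 := hflat (h3.trans (map_zero _).symm)
  have h5 := congrArg e h4
  rw [TensorProduct.quotTensorEquivQuotSMul_mk_one_tmul, map_zero] at h5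
  exact (Submodule.Quotient.mk_eq_zero _).mp h5

/-- comparison of `p • ⊤` over `R` and `(pS) • ⊤` over `S`. -/
lemma mem_map_smul_top_iff {R S : Type u} [CommRing R] [CommRing S] [Algebra R S] (N : Type u)
    [AddCommGroup N] [Module S N] [Module R N] [IsScalarTower R S N] (p : Ideal R) (n : N) :
    n ∈ (p.map (algebraMap R S)) • (⊤ : Submodule S N) ↔ n ∈ p • (⊤ : Submodule R N) := by
  constructor
  · intro h
    refine Submodule.smul_induction_on h ?_ (fun _ _ => add_mem)
    intro b hb m _
    rw [Ideal.map] at hb
    refine Submodule.span_induction ?_ ?_ ?_ ?_ hb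
    · rintro _ ⟨a, ha, rfl⟩
      rw [algebraMap_smul]
      exact Submodule.smul_mem_smul ha Submodule.mem_top
    · rw [zero_smul]; exact zero_mem _
    · intro x y _ _ hx hy
      rw [add_smul]; exact add_mem hx hy
    · intro c x _ hx
      rw [smul_eq_mul, mul_smul]
      -- `c • (x • m)` with `x • m ∈ p • ⊤`: closed under `S`-scalars
      have key : ∀ y ∈ p • (⊤ : Submodule R N), c • y ∈ p • (⊤ : Submodule R N) := by
        intro y hy
        refine Submodule.smul_induction_on hy ?_ ?_
        · intro a ha z _
          rw [smul_comm]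
          exact Submodule.smul_mem_smul ha Submodule.mem_top
        · intro y z hy hz
          rw [smul_add]; exact add_mem hy hz
      exact key _ hx
  · intro h
    refine Submodule.smul_induction_on h ?_ (fun _ _ => add_mem)
    intro a ha m _
    rw [← algebraMap_smul S a m]
    exact Submodule.smul_mem_smul (Ideal.mem_map_of_mem _ ha) Submodule.mem_top

/-- For a ring map R → S and a finite S-module N which is flat as an R-module, generalizations lift
along the map from the support of N (a subset of Spec S) to Spec R: if p ≤ p' are primes of R and q'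
is a prime of S in the support of N whose inverse image in R is p', then some prime q ≤ q' of S lies
in the support of N and has inverse image p. -/
theorem result {R S : Type u} [CommRing R] [CommRing S] [Algebra R S] (N : Type u) [AddCommGroup N] [Module S N] [Module R N] [IsScalarTower R S N] [Module.Finite S N] [Module.Flat R N] (p p' : Ideal R) [p.IsPrime] [p'.IsPrime] (hle : p ≤ p') (q' : PrimeSpectrum S) (hq' : q' ∈ Module.support S N) (hover : q'.asIdeal.under R = p') : ∃ q : PrimeSpectrum S, q ≤ q' ∧ q ∈ Module.support S N ∧ q.asIdeal.under R = p := by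
  set P : Submodule S N := (p.map (algebraMap R S)) • (⊤ : Submodule S N) with hP
  -- the ideal of elements multiplying `N` into `P`
  let 𝔞 : Ideal S := P.colon ⊤
  have h𝔞 : ∀ s : S, s ∈ 𝔞 ↔ ∀ n : N, s • n ∈ P := by
    intro s
    simp only [𝔞, Submodule.mem_colon]
    exact ⟨fun h n => h n (Submodule.mem_top (R := S)), fun h n _ => h n⟩
  let W : Submonoid S := q'.asIdeal.primeCompl ⊔ (p.primeCompl.map (algebraMap R S))
  have hpq' : p.map (algebraMap R S) ≤ q'.asIdeal := by
    rw [Ideal.map_le_iff_le_comap]
    intro a ha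
    have : a ∈ q'.asIdeal.under R := hover ▸ hle ha
    exact this
  have hdisj : Disjoint (𝔞 : Set S) (W : Set S) := by
    rw [Set.disjoint_left]
    intro x hx𝔞 hxW
    obtain ⟨s, hs, z, hz, rfl⟩ := Submonoid.mem_sup.mp hxW
    obtain ⟨r, hr, rfl⟩ := hz
    have h1 : ∀ n : N, s • n ∈ q'.asIdeal • (⊤ : Submodule S N) := by
      intro n
      have h2 := (h𝔞 _).mp hx𝔞 n
      rw [mul_comm, mul_smul, algebraMap_smul, hP, mem_map_smul_top_iff] at h2
      have h3 := mem_smul_top_of_smul_mem N p r hr _ h2
      rw [← mem_map_smul_top_iff (S := S)] at h3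
      exact Submodule.smul_mono_left hpq' h3
    -- hence the localization of `N` at `q'` vanishes
    rw [Module.mem_support_iff] at hq'
    have htop : (⊤ : Submodule (Localization.AtPrime q'.asIdeal)
        (LocalizedModule q'.asIdeal.primeCompl N)) ≤
        (q'.asIdeal.map (algebraMap S (Localization.AtPrime q'.asIdeal))) • ⊤ := by
      intro x _
      induction x using LocalizedModule.induction_on with
      | h n u =>
        have : LocalizedModule.mk n u = LocalizedModule.mk (s • n) ((⟨s, hs⟩ : q'.asIdeal.primeCompl) * u) :=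
          (LocalizedModule.mk_cancel_common_left (⟨s, hs⟩ : q'.asIdeal.primeCompl) u n).symm
        rw [this]
        exact Groth.Agent.Helper95.LocalSplitNakayama.mk_mem_map_smul_top q'.asIdeal q'.asIdeal _
          (h1 n) _
    have hjac : q'.asIdeal.map (algebraMap S (Localization.AtPrime q'.asIdeal)) ≤
        Ideal.jacobson ⊥ := by
      rw [IsLocalRing.jacobson_eq_maximalIdeal _ bot_ne_top,
        Localization.AtPrime.map_eq_maximalIdeal]
    have hbot := Submodule.eq_bot_of_le_smul_of_le_jacobson_bot _ _ Module.Finite.fg_top htop hjac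
    have : Subsingleton (LocalizedModule q'.asIdeal.primeCompl N) := by
      refine ⟨fun a b => ?_⟩
      have ha : a ∈ (⊤ : Submodule (Localization.AtPrime q'.asIdeal)
        (LocalizedModule q'.asIdeal.primeCompl N)) := Submodule.mem_top
      have hb : b ∈ (⊤ : Submodule (Localization.AtPrime q'.asIdeal)
        (LocalizedModule q'.asIdeal.primeCompl N)) := Submodule.mem_top
      rw [hbot, Submodule.mem_bot] at ha hb
      rw [ha, hb]
    exact not_subsingleton _ this
  obtain ⟨q, hqprime, h𝔞q, hqW⟩ := Ideal.exists_le_prime_disjoint 𝔞 W hdisj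
  refine ⟨⟨q, hqprime⟩, ?_, ?_, ?_⟩
  · intro x hx
    by_contra hxq'
    exact Set.disjoint_left.mp hqW hx (Submonoid.mem_sup_left hxq')
  · rw [Module.mem_support_iff_of_finite]
    intro x hx
    apply h𝔞q
    rw [h𝔞]
    intro n
    rw [Module.mem_annihilator.mp hx n]
    exact zero_mem _
  · apply le_antisymm
    · intro a ha
      by_contra hap
      exact Set.disjoint_left.mp hqW ha (Submonoid.mem_sup_right ⟨a, hap, rfl⟩)
    · intro a ha
      apply h𝔞q
      rw [h𝔞]
      intro n
      exact Submodule.smul_mem_smul (Ideal.mem_map_of_mem _ ha) Submodule.mem_top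

end Groth.Agent.S6263
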