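import Groth.Statements.S6265
-- import your own Groth.Agent.* helpers here

set_option autoImplicit false
universe u
open CAlg

namespace Groth.Agent.S6265

/-- Let R → S be a ring map with the going-down property such that over every prime of R lies at most
one prime of S, and let p be a prime of R and q a prime of S above it. Then the localization S_p of
S at the image of R - p is a localization of S at q, i.e. S_p = S_q. -/
theorem result {R S : Type u} [CommRing R] [CommRing S] [Algebra R S] [Algebra.HasGoingDown R S] (hinj : ∀ q₁ q₂ : Ideal S, q₁.IsPrime → q₂.IsPrime → q₁.under R = q₂.under R → q₁ = q₂) (p : Ideal R) [p.IsPrime] (q : Ideal S) [q.IsPrime] [q.LiesOver p] : IsLocalization.AtPrime (Localization (Algebra.algebraMapSubmonoid S p.primeCompl)) q := by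
  set M := Algebra.algebraMapSubmonoid S p.primeCompl with hM
  refine IsLocalization.of_le (M := M) (S := Localization M) q.primeCompl ?_ ?_
  · rintro _ ⟨r, hr, rfl⟩
    intro hrq
    apply hr
    have : r ∈ q.under R := hrq
    rwa [← Ideal.over_def q p] at this
  · intro s hs
    by_contra hnu
    obtain ⟨m, hm, hsm⟩ := exists_max_ideal_of_mem_nonunits hnu
    have hmp := hm.isPrime
    set q' : Ideal S := m.comap (algebraMap S (Localization M)) with hq'
    have hq'p : q'.IsPrime := Ideal.comap_isPrime _ _
    have hdisj : Disjoint (M : Set S) (q' : Set S) :=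
      ((IsLocalization.isPrime_iff_isPrime_disjoint M (Localization M) m).mp hm.isPrime).2
    have hle : q'.under R ≤ p := by
      intro r hr
      by_contra hrp
      exact Set.disjoint_left.mp hdisj ⟨r, hrp, rfl⟩ hr
    have hpr : (q'.under R).IsPrime := Ideal.comap_isPrime _ _
    obtain ⟨Q, hQ', hQp, hQo⟩ := Ideal.exists_ideal_le_liesOver_of_le (p := q'.under R) (q := p) q hle
    have hQq : Q = q' := hinj Q q' hQp hq'p (hQo.over).symm
    apply hs
    apply hQ'
    rw [hQq]
    exact hsm

end Groth.Agent.S6265
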