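import Groth.Statements.S6267
import Mathlib
-- import your own Groth.Agent.* helpers here

set_option autoImplicit false
universe u
open CAlg

namespace Groth.Agent.S6267

/-- Let R be a ring and f : M → M' a map of R-modules with M' flat. Then f is universally injective
exactly when, for each finitely generated ideal I of R, the induced map M ⊗ R/I → M' ⊗ R/I (that is,
M/IM → M'/IM') is injective. -/
theorem result {R : Type u} [CommRing R] {M M' : Type u} [AddCommGroup M] [Module R M] [AddCommGroup M'] [Module R M'] [Module.Flat R M'] (f : M →ₗ[R] M') : CAlgX.UniversallyInjective R f ↔ ∀ I : Ideal R, I.FG → Function.Injective (f.rTensor (R ⧸ I)) := by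
  constructor
  · intro hf I _
    exact hf (R ⧸ I)
  · intro H
    -- Step 0: f is injective
    have hinj : Function.Injective f := by
      rw [injective_iff_map_eq_zero]
      intro x hx
      have h0 := H ⊥ Submodule.fg_bot
      have h1 : f.rTensor (R ⧸ (⊥ : Ideal R)) (x ⊗ₜ[R] (1 : R ⧸ (⊥ : Ideal R))) =
          f.rTensor (R ⧸ (⊥ : Ideal R)) 0 := by
        rw [LinearMap.rTensor_tmul, hx, TensorProduct.zero_tmul, map_zero]
      have h2 := h0 h1
      let e : (R ⧸ (⊥ : Ideal R)) ≃ₗ[R] R := Submodule.quotEquivOfEqBot ⊥ rfl
      let ψ : TensorProduct R M (R ⧸ (⊥ : Ideal R)) →ₗ[R] M :=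
        (TensorProduct.rid R M).toLinearMap ∘ₗ (e.toLinearMap.lTensor M)
      have h3 : ψ (x ⊗ₜ[R] (1 : R ⧸ (⊥ : Ideal R))) = x := by
        change (TensorProduct.rid R M) ((e.toLinearMap.lTensor M) (x ⊗ₜ[R] _)) = x
        rw [LinearMap.lTensor_tmul, TensorProduct.rid_tmul]
        have : e.toLinearMap (1 : R ⧸ (⊥ : Ideal R)) = 1 := by
          change e (Submodule.Quotient.mk (1 : R)) = 1
          exact Submodule.quotEquivOfEqBot_apply_mk _ _ _
        rw [this, one_smul]
      rw [← h3, h2, map_zero]
    -- Step 1: cokernel is flat
    have hgex : Function.Exact f (LinearMap.range f).mkQ := by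
      intro n
      rw [Submodule.mkQ_apply, Submodule.Quotient.mk_eq_zero]
      rfl
    have hN : Module.Flat R (M' ⧸ LinearMap.range f) := by
      rw [Module.Flat.iff_lTensor_injective]
      intro I hI
      have hIex : Function.Exact I.subtype (Submodule.mkQ I) := by
        intro n
        rw [Submodule.mkQ_apply, Submodule.Quotient.mk_eq_zero]
        simp
      exact lTensor_injective_of_exact_of_exact_of_rTensor_injective hgex
        (LinearMap.range f).mkQ_surjective hIex (Submodule.mkQ_surjective I) (H I hI)
        (Module.Flat.lTensor_preserves_injective_linearMap _ Subtype.val_injective)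
    -- Step 2: universally injective
    intro Q _ _
    rw [← LinearMap.lTensor_inj_iff_rTensor_inj]
    let p : (Q →₀ R) →ₗ[R] Q := Finsupp.linearCombination R id
    have hp : Function.Surjective p := Finsupp.linearCombination_id_surjective R Q
    have hKex : Function.Exact (LinearMap.ker p).subtype p := by
      intro n
      simp
    have hA : Function.Injective ((LinearMap.ker p).subtype.rTensor (M' ⧸ LinearMap.range f)) :=
      Module.Flat.rTensor_preserves_injective_linearMap (M := M' ⧸ LinearMap.range f)
        (LinearMap.ker p).subtype (LinearMap.ker p).injective_subtype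
    have hB : Function.Injective (f.lTensor (Q →₀ R)) :=
      Module.Flat.lTensor_preserves_injective_linearMap _ hinj
    refine lTensor_injective_of_exact_of_exact_of_rTensor_injective
      (M₁ := LinearMap.ker p) (M₂ := Q →₀ R) (M₃ := Q) (N₁ := M) (N₂ := M')
      (N₃ := M' ⧸ LinearMap.range f)
      (f₁ := (LinearMap.ker p).subtype) (f₂ := p) (g₁ := f) (g₂ := (LinearMap.range f).mkQ)
      hKex hp hgex (LinearMap.range f).mkQ_surjective ?_ ?_
    · exact hA
    · exact hB

end Groth.Agent.S6267
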