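import Groth.Statements.S6269
import Mathlib
-- import your own Groth.Agent.* helpers here

set_option autoImplicit false
universe u
open CAlg

namespace Groth.Agent.S6269

/-- Let 0 → M₁ → M₂ → M₃ → 0 be a universally exact sequence of R-modules (a short exact sequence whose
first map is universally injective) with M₂ flat. Then M₁ and M₃ are flat. -/
theorem result {R : Type u} [CommRing R] {M₁ M₂ M₃ : Type u} [AddCommGroup M₁] [Module R M₁] [AddCommGroup M₂] [Module R M₂] [AddCommGroup M₃] [Module R M₃] (f : M₁ →ₗ[R] M₂) (g : M₂ →ₗ[R] M₃) (hexact : Function.Exact f g) (hg : Function.Surjective g) (hf : CAlgX.UniversallyInjective R f) [Module.Flat R M₂] : Module.Flat R M₁ ∧ Module.Flat R M₃ := by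
  refine ⟨?_, ?_⟩
  · rw [Module.Flat.iff_lTensor_preserves_injective_linearMap]
    intro N' N _ _ _ _ h hh
    have h2 : Function.Injective (h.lTensor M₂) :=
      Module.Flat.lTensor_preserves_injective_linearMap h hh
    have h3 : Function.Injective ((h.lTensor M₂) ∘ (f.rTensor N')) := h2.comp (hf N')
    have h4 : (h.lTensor M₂) ∘ (f.rTensor N') = (f.rTensor N) ∘ (h.lTensor M₁) := by
      rw [← LinearMap.coe_comp, ← LinearMap.coe_comp, LinearMap.lTensor_comp_rTensor,
        LinearMap.rTensor_comp_lTensor]
    rw [h4] at h3
    exact Function.Injective.of_comp h3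
  · rw [Module.Flat.iff_lTensor_preserves_injective_linearMap]
    intro N' N _ _ _ _ h hh
    have hgex : Function.Exact h (LinearMap.range h).mkQ := by
      intro n
      rw [Submodule.mkQ_apply, Submodule.Quotient.mk_eq_zero]
      rfl
    exact lTensor_injective_of_exact_of_exact_of_rTensor_injective hexact hg hgex
      (LinearMap.range h).mkQ_surjective (hf (N ⧸ LinearMap.range h))
      (Module.Flat.lTensor_preserves_injective_linearMap h hh)

end Groth.Agent.S6269
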