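import Groth.Statements.S6271
import Mathlib

set_option autoImplicit false
universe u
open scoped TensorProduct
open CAlg

namespace Groth.Agent.S6271

/-- powers of a matrix with entries in an ideal `J` have entries in `J ^ k` -/
theorem pow_entries_mem {R : Type*} [CommRing R] {n : ℕ} (J : Ideal R)
    (x : Matrix (Fin n) (Fin n) R) (hx : ∀ i j, x i j ∈ J) (k : ℕ) (hk : 0 < k) :
    ∀ i j, (x ^ k) i j ∈ J ^ k := by
  induction k with
  | zero => omega
  | succ k ih =>
    rcases Nat.eq_zero_or_pos k with rfl | hk'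
    · intro i j
      rw [zero_add, pow_one, pow_one]; exact hx i j
    · intro i j
      have hm : x ^ (k + 1) = x ^ k * x := pow_succ x k
      rw [hm, Matrix.mul_apply, pow_succ]
      exact Ideal.sum_mem _ fun l _ => Ideal.mul_mem_mul (ih hk' i l) (hx l j)

/-- a matrix with nilpotent entries (in a nil ideal) is nilpotent -/
theorem isNilpotent_of_entries_mem {R : Type*} [CommRing R] {n : ℕ} (I : Ideal R)
    (hI : ∀ x ∈ I, IsNilpotent x)
    (x : Matrix (Fin n) (Fin n) R) (hx : ∀ i j, x i j ∈ I) : IsNilpotent x := by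
  classical
  set J : Ideal R := Ideal.span (Set.range fun ij : Fin n × Fin n => x ij.1 ij.2) with hJ
  have hJfg : J.FG := ⟨Finset.univ.image (fun ij : Fin n × Fin n => x ij.1 ij.2), by
    rw [hJ]; congr 1; ext; simp⟩
  have hJI : J ≤ I := by
    rw [hJ, Ideal.span_le]; rintro _ ⟨ij, rfl⟩; exact hx _ _
  have hJnil : J ≤ nilradical R := fun y hy => hI y (hJI hy)
  obtain ⟨k, hk⟩ := hJfg.isNilpotent_iff_le_nilradical.mpr hJnil
  refine ⟨k + 1, ?_⟩
  ext i j
  have h1 := pow_entries_mem J x (fun i j => Ideal.subset_span ⟨(i, j), rfl⟩) (k + 1) (by omega) i j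
  have h2 : J ^ (k + 1) = ⊥ := by
    rw [pow_succ]
    have : J ^ k = ⊥ := hk
    rw [this, Ideal.bot_mul]
  rw [h2, Ideal.mem_bot] at h1
  rw [h1]; rfl

end Groth.Agent.S6271

namespace Groth.Agent.S6271

open scoped TensorProduct

/-- Let R be a ring, I ⊆ R a locally nilpotent ideal (every element of I is nilpotent) and P̄ a finite
projective R/I-module. Then there is a finite projective R-module P such that P/IP (that is, R/I ⊗
P) is isomorphic to P̄ as an R/I-module. -/
theorem result {R : Type u} [CommRing R] (I : Ideal R) (hI : ∀ x ∈ I, IsNilpotent x) (Pb : Type u) [AddCommGroup Pb] [Module (R ⧸ I) Pb] [Module.Projective (R ⧸ I) Pb] [Module.Finite (R ⧸ I) Pb] : ∃ (P : Type u) (_ : AddCommGroup P) (_ : Module R P), Module.Projective R P ∧ Module.Finite R P ∧ Nonempty (((R ⧸ I) ⊗[R] P) ≃ₗ[R ⧸ I] Pb) := by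
  classical
  let _ : Module R Pb := Module.compHom Pb (Ideal.Quotient.mk I)
  have : IsScalarTower R (R ⧸ I) Pb := IsScalarTower.of_algebraMap_smul fun r x => rfl
  obtain ⟨n, f, g, hfsurj, hginj, hfg⟩ := Module.Finite.exists_comp_eq_id_of_projective (R ⧸ I) Pb
  have hfg' : ∀ x, f (g x) = x := fun x => LinearMap.congr_fun hfg x
  set eb : Matrix (Fin n) (Fin n) (R ⧸ I) := LinearMap.toMatrix' (g ∘ₗ f) with heb
  have hebidem : IsIdempotentElem eb := by
    change eb * eb = eb
    have hcomp : (g ∘ₗ f) ∘ₗ (g ∘ₗ f) = g ∘ₗ f := LinearMap.ext fun v => by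
      change g (f (g (f v))) = g (f v)
      rw [hfg']
    rw [heb, ← LinearMap.toMatrix'_comp, hcomp]
  have hebmul : ∀ w : Fin n → R ⧸ I, eb.mulVec w = g (f w) := by
    intro w
    rw [heb, LinearMap.toMatrix'_mulVec]; rfl
  let φ : Matrix (Fin n) (Fin n) R →+* Matrix (Fin n) (Fin n) (R ⧸ I) :=
    RingHom.mapMatrix (Ideal.Quotient.mk I)
  have hφ : ∀ x i j, φ x i j = Ideal.Quotient.mk I (x i j) := fun x i j => rfl
  have hnil : ∀ x ∈ RingHom.ker φ, IsNilpotent x := by
    intro x hx
    apply isNilpotent_of_entries_mem I hI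
    intro i j
    have h0 : φ x = 0 := RingHom.mem_ker.mp hx
    have := congrArg (fun m : Matrix (Fin n) (Fin n) (R ⧸ I) => m i j) h0
    simp only [Matrix.zero_apply] at this
    rw [hφ] at this
    exact Ideal.Quotient.eq_zero_iff_mem.mp this
  have hrange : eb ∈ φ.range := by
    refine ⟨Matrix.of fun i j => Function.surjInv Ideal.Quotient.mk_surjective (eb i j), ?_⟩
    ext i j
    rw [hφ]
    exact Function.surjInv_eq Ideal.Quotient.mk_surjective (eb i j)
  obtain ⟨e, he, hee⟩ := exists_isIdempotentElem_eq_of_ker_isNilpotent φ hnil eb hrange hebidem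
  have hemul : ∀ v : Fin n → R, e.mulVec (e.mulVec v) = e.mulVec v := by
    intro v
    rw [Matrix.mulVec_mulVec, he.eq]
  -- reduction map
  let red : (Fin n → R) →ₗ[R] (Fin n → R ⧸ I) := (Algebra.linearMap R (R ⧸ I)).compLeft (Fin n)
  have hred : ∀ v i, red v i = Ideal.Quotient.mk I (v i) := fun v i => rfl
  have hredmul : ∀ v : Fin n → R, red (e.mulVec v) = eb.mulVec (red v) := by
    intro v
    have h1 := RingHom.map_mulVec (Ideal.Quotient.mk I) e v
    have h2 : e.map (Ideal.Quotient.mk I) = eb := hee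
    ext i
    rw [hred]
    have h3 := h1 i
    rw [h3, h2]
    rfl
  have hredsurj : Function.Surjective red := by
    intro w
    refine ⟨fun i => Function.surjInv Ideal.Quotient.mk_surjective (w i), ?_⟩
    ext i
    rw [hred]
    exact Function.surjInv_eq Ideal.Quotient.mk_surjective (w i)
  -- the module
  let P : Submodule R (Fin n → R) := LinearMap.range (Matrix.toLin' e)
  have hPmem : ∀ v, v ∈ P ↔ e.mulVec v = v := by
    intro v
    constructor
    · rintro ⟨w, rfl⟩
      rw [Matrix.toLin'_apply, hemul]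
    · intro h
      exact ⟨v, by rw [Matrix.toLin'_apply, h]⟩
  have hfinP : Module.Finite R P := Module.Finite.range _
  have hprojP : Module.Projective R P := by
    refine Module.Projective.of_split P.subtype ((Matrix.toLin' e).rangeRestrict) ?_
    refine LinearMap.ext fun v => Subtype.ext ?_
    change Matrix.toLin' e (v : Fin n → R) = v
    rw [Matrix.toLin'_apply]
    exact (hPmem _).mp v.2
  -- the comparison map
  let q : P →ₗ[R] Pb := (f.restrictScalars R) ∘ₗ red ∘ₗ P.subtype
  have hq : ∀ v : P, q v = f (red (v : Fin n → R)) := fun v => rfl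
  have hqsurj : Function.Surjective q := by
    intro x
    obtain ⟨v, hv⟩ := hredsurj (g x)
    refine ⟨⟨e.mulVec v, (hPmem _).mpr (hemul v)⟩, ?_⟩
    rw [hq]
    change f (red (e.mulVec v)) = x
    rw [hredmul, hv, hebmul, hfg', hfg']
  have hker : LinearMap.ker q = I • (⊤ : Submodule R P) := by
    apply le_antisymm
    · intro v hv
      rw [LinearMap.mem_ker, hq] at hv
      have hev : e.mulVec (v : Fin n → R) = v := (hPmem _).mp v.2
      have h1 : red (v : Fin n → R) = 0 := by
        rw [← hev, hredmul, hebmul, hv, map_zero]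
      have hvI : ∀ i, (v : Fin n → R) i ∈ I := by
        intro i
        have := congrFun h1 i
        rw [hred] at this
        exact Ideal.Quotient.eq_zero_iff_mem.mp this
      -- `v = ∑ j, v j • e (single j 1)`
      have h2 : v = ∑ j, ((v : Fin n → R) j) •
          (⟨e.mulVec (Pi.single j 1), (hPmem _).mpr (hemul _)⟩ : P) := by
        apply Subtype.ext
        rw [Submodule.coe_sum]
        simp only [Submodule.coe_smul]
        conv_lhs => rw [← hev, ← Matrix.toLin'_apply, pi_eq_sum_univ (v : Fin n → R)]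
        rw [map_sum]
        refine Finset.sum_congr rfl fun j _ => ?_
        rw [map_smul, Matrix.toLin'_apply]
        congr 2
        ext i
        simp [Pi.single_apply, eq_comm]
      rw [h2]
      exact Submodule.sum_mem _ fun j _ => Submodule.smul_mem_smul (hvI j) Submodule.mem_top
    · rw [Submodule.smul_le]
      intro a ha v _
      rw [LinearMap.mem_ker, map_smul]
      change Ideal.Quotient.mk I a • q v = 0
      rw [Ideal.Quotient.eq_zero_iff_mem.mpr ha, zero_smul]
  let e1 : ((R ⧸ I) ⊗[R] P) ≃ₗ[R] (P ⧸ (I • (⊤ : Submodule R P))) :=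
    TensorProduct.quotTensorEquivQuotSMul P I
  let e2 : (P ⧸ (I • (⊤ : Submodule R P))) ≃ₗ[R] Pb :=
    (Submodule.quotEquivOfEq _ _ hker.symm) ≪≫ₗ q.quotKerEquivOfSurjective hqsurj
  exact ⟨P, inferInstance, inferInstance, hprojP, hfinP,
    ⟨(e1 ≪≫ₗ e2).extendScalarsOfSurjective Ideal.Quotient.mk_surjective⟩⟩

end Groth.Agent.S6271
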