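import Groth.Statements.S6272
import Mathlib

set_option autoImplicit false
universe u
open scoped TensorProduct
open CAlg

namespace Groth.Agent.S6272

theorem exists_factor {R : Type*} [CommRing R] {M N Q : Type*} [AddCommGroup M] [AddCommGroup N]
    [AddCommGroup Q] [Module R M] [Module R N] [Module R Q] (f : M →ₗ[R] N)
    (hf : Function.Surjective f) (φ : M →ₗ[R] Q) (h : LinearMap.ker f ≤ LinearMap.ker φ) :
    ∃ D : N →ₗ[R] Q, ∀ m, D (f m) = φ m := by
  refine ⟨(Submodule.liftQ (LinearMap.ker f) φ h) ∘ₗ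
      (f.quotKerEquivOfSurjective hf).symm.toLinearMap, fun m => ?_⟩
  have : (f.quotKerEquivOfSurjective hf).symm (f m) = Submodule.Quotient.mk m := by
    rw [LinearEquiv.symm_apply_eq]; rfl
  simp only [LinearMap.coe_comp, LinearEquiv.coe_coe, Function.comp_apply, this,
    Submodule.liftQ_apply]

section gen
variable {R : Type u} [CommRing R] (I : Ideal R) (P : Type u) [AddCommGroup P] [Module R P]

/-- lifting against surjections of `B`-modules for `R`-linear maps out of `P`. -/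
theorem lift_of_proj (B : Type u) [CommRing B] [Algebra R B]
    (hB : Module.Projective B (B ⊗[R] P))
    {M N : Type u} [AddCommGroup M] [AddCommGroup N] [Module B M] [Module B N] [Module R M]
    [Module R N] [IsScalarTower R B M] [IsScalarTower R B N]
    (g : M →ₗ[B] N) (hg : Function.Surjective g) (D : P →ₗ[R] N) :
    ∃ δ : P →ₗ[R] M, ∀ x, g (δ x) = D x := by
  obtain ⟨h, hh⟩ := Module.projective_lifting_property g (LinearMap.liftBaseChange B D) hg
  refine ⟨(h.restrictScalars R) ∘ₗ (TensorProduct.mk R B P 1), fun x => ?_⟩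
  have := LinearMap.congr_fun hh ((1 : B) ⊗ₜ[R] x)
  simpa using this

/-- reduction mod `I` on the free module. -/
noncomputable def mA : (P →₀ R) →ₗ[R] (P →₀ (R ⧸ I)) :=
  Finsupp.mapRange.linearMap (Algebra.linearMap R (R ⧸ I))

noncomputable def piA : (P →₀ (R ⧸ I)) →ₗ[R ⧸ I] (R ⧸ I) ⊗[R] P :=
  Finsupp.linearCombination (R ⧸ I) (fun x => (1 : R ⧸ I) ⊗ₜ[R] x)

noncomputable def pi0 : (P →₀ R) →ₗ[R] P := Finsupp.linearCombination R id

theorem piA_mA (f : P →₀ R) : piA I P (mA I P f) = (1 : R ⧸ I) ⊗ₜ[R] (pi0 P f) := by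
  induction f using Finsupp.induction_linear with
  | zero => simp
  | add f g hf hg => simp only [map_add, hf, hg, TensorProduct.tmul_add]
  | single x r =>
    simp only [mA, piA, pi0, Finsupp.mapRange.linearMap_apply, Finsupp.mapRange_single,
      Algebra.linearMap_apply, Finsupp.linearCombination_single, id]
    rw [TensorProduct.tmul_smul, algebraMap_smul]

theorem piA_surjective : Function.Surjective (piA I P) := by
  intro y
  induction y using TensorProduct.induction_on with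
  | zero => exact ⟨0, map_zero _⟩
  | add a b ha hb =>
    obtain ⟨a', rfl⟩ := ha; obtain ⟨b', rfl⟩ := hb; exact ⟨a' + b', map_add _ _ _⟩
  | tmul a x =>
    refine ⟨Finsupp.single x a, ?_⟩
    simp only [piA, Finsupp.linearCombination_single]
    rw [TensorProduct.smul_tmul', smul_eq_mul, mul_one]

theorem mA_surjective : Function.Surjective (mA I P) := by
  intro y
  have := Finsupp.mapRange_surjective (Ideal.Quotient.mk I) (map_zero _)
    Ideal.Quotient.mk_surjective (α := P) y
  obtain ⟨f, hf⟩ := this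
  exact ⟨f, by rw [← hf]; rfl⟩

theorem mem_of_tmul_eq_zero (y : P) (h : (1 : R ⧸ I) ⊗ₜ[R] y = 0) :
    y ∈ (I • ⊤ : Submodule R P) := by
  have := congrArg (TensorProduct.quotTensorEquivQuotSMul P I) h
  rw [TensorProduct.quotTensorEquivQuotSMul_mk_one_tmul, map_zero,
    Submodule.Quotient.mk_eq_zero] at this
  exact this

theorem exists_of_mem_smul (y : P) (hy : y ∈ (I • ⊤ : Submodule R P)) :
    ∃ g : P →₀ R, mA I P g = 0 ∧ pi0 P g = y := by
  refine Submodule.smul_induction_on hy ?_ ?_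
  · intro r hr n _
    refine ⟨Finsupp.single n r, ?_, ?_⟩
    · simp only [mA, Finsupp.mapRange.linearMap_apply, Finsupp.mapRange_single,
        Algebra.linearMap_apply]
      rw [Ideal.Quotient.algebraMap_eq, Ideal.Quotient.eq_zero_iff_mem.mpr hr, Finsupp.single_zero]
    · simp [pi0]
  · intro x y hx hy
    obtain ⟨g1, h1, h1'⟩ := hx
    obtain ⟨g2, h2, h2'⟩ := hy
    exact ⟨g1 + g2, by rw [map_add, h1, h2, add_zero], by rw [map_add, h1', h2']⟩

theorem mA_eq_zero_iff (f : P →₀ R) : mA I P f = 0 ↔ ∀ x, f x ∈ I := by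
  rw [Finsupp.ext_iff]
  refine forall_congr' fun x => ?_
  simp only [mA, Finsupp.mapRange.linearMap_apply, Finsupp.mapRange_apply, Algebra.linearMap_apply,
    Finsupp.coe_zero, Pi.zero_apply]
  rw [Ideal.Quotient.algebraMap_eq, Ideal.Quotient.eq_zero_iff_mem]

end gen

section defs
variable {R : Type u} [CommRing R] (I J : Ideal R) (P : Type u) [AddCommGroup P] [Module R P]

noncomputable def W : Submodule (R ⧸ J) (P →₀ (R ⧸ J)) :=
    { carrier := {w | piA J P w = 0 ∧ ∃ f : P →₀ R, mA I P f = 0 ∧ mA J P f = w}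
      add_mem' := by
        rintro a b ⟨ha, fa, ha1, ha2⟩ ⟨hb, fb, hb1, hb2⟩
        exact ⟨by rw [map_add, ha, hb, add_zero], fa + fb, by rw [map_add, ha1, hb1, add_zero],
          by rw [map_add, ha2, hb2]⟩
      zero_mem' := ⟨map_zero _, 0, map_zero _, map_zero _⟩
      smul_mem' := by
        rintro c a ⟨ha, fa, ha1, ha2⟩
        obtain ⟨r, rfl⟩ := Ideal.Quotient.mk_surjective c
        refine ⟨by rw [map_smul, ha, smul_zero], r • fa, by rw [map_smul, ha1, smul_zero], ?_⟩
        rw [map_smul, ha2, ← Ideal.Quotient.algebraMap_eq, algebraMap_smul] }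

theorem mem_W (w : P →₀ (R ⧸ J)) : w ∈ W I J P ↔
    (piA J P w = 0 ∧ ∃ f : P →₀ R, mA I P f = 0 ∧ mA J P f = w) := Iff.rfl

noncomputable def T (σA : P →ₗ[R] (P →₀ (R ⧸ I))) : Submodule R (P × (P →₀ R)) :=
    { carrier := {p | mA I P p.2 = σA p.1 ∧ pi0 P p.2 = p.1}
      add_mem' := by
        rintro a b ⟨ha1, ha2⟩ ⟨hb1, hb2⟩
        exact ⟨by simp only [Prod.snd_add, Prod.fst_add, map_add, ha1, hb1],
          by simp only [Prod.snd_add, Prod.fst_add, map_add, ha2, hb2]⟩
      zero_mem' := ⟨by simp, by simp⟩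
      smul_mem' := by
        rintro c a ⟨ha1, ha2⟩
        exact ⟨by simp only [Prod.smul_snd, Prod.smul_fst, map_smul, ha1],
          by simp only [Prod.smul_snd, Prod.smul_fst, map_smul, ha2]⟩ }

theorem mem_T (σA : P →ₗ[R] (P →₀ (R ⧸ I))) (p : P × (P →₀ R)) : p ∈ T I P σA ↔
    (mA I P p.2 = σA p.1 ∧ pi0 P p.2 = p.1) := Iff.rfl

noncomputable def fstT (σA : P →ₗ[R] (P →₀ (R ⧸ I))) : T I P σA →ₗ[R] P :=
  (LinearMap.fst R P (P →₀ R)) ∘ₗ (T I P σA).subtype

noncomputable def phi (σA : P →ₗ[R] (P →₀ (R ⧸ I))) :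
    T I P σA →ₗ[R] (P →₀ (R ⧸ J)) ⧸ W I J P :=
  ((W I J P).mkQ.restrictScalars R) ∘ₗ (mA J P) ∘ₗ (LinearMap.snd R P (P →₀ R)) ∘ₗ
    (T I P σA).subtype

theorem fstT_apply (σA : P →ₗ[R] (P →₀ (R ⧸ I))) (t : T I P σA) : fstT I P σA t = t.1.1 := rfl

theorem phi_apply (σA : P →ₗ[R] (P →₀ (R ⧸ I))) (t : T I P σA) :
    phi I J P σA t = Submodule.Quotient.mk (mA J P t.1.2) := rfl

theorem fstT_surjective (σA : P →ₗ[R] (P →₀ (R ⧸ I)))
    (hσA : ∀ x, piA I P (σA x) = (1 : R ⧸ I) ⊗ₜ[R] x) : Function.Surjective (fstT I P σA) := by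
  intro x
  obtain ⟨f0, hf0⟩ := mA_surjective I P (σA x)
  have h1 : (1 : R ⧸ I) ⊗ₜ[R] (pi0 P f0 - x) = 0 := by
    rw [TensorProduct.tmul_sub, ← piA_mA, hf0, hσA, sub_self]
  obtain ⟨g, hg1, hg2⟩ := exists_of_mem_smul I P _ (mem_of_tmul_eq_zero I P _ h1)
  refine ⟨⟨(x, f0 - g), ?_⟩, rfl⟩
  rw [mem_T]
  refine ⟨?_, ?_⟩
  · simp only [map_sub, hf0, hg1, sub_zero]
  · simp only [map_sub, hg2, sub_sub_cancel]

theorem ker_fstT_le (σA : P →ₗ[R] (P →₀ (R ⧸ I))) :
    LinearMap.ker (fstT I P σA) ≤ LinearMap.ker (phi I J P σA) := by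
  rintro ⟨⟨x, f⟩, hf⟩ hx
  rw [mem_T] at hf
  obtain ⟨hf1, hf2⟩ := hf
  rw [LinearMap.mem_ker, fstT_apply] at hx
  simp only at hx hf1 hf2
  subst hx
  rw [LinearMap.mem_ker, phi_apply, Submodule.Quotient.mk_eq_zero, mem_W]
  simp only [map_zero] at hf1
  refine ⟨?_, f, hf1, rfl⟩
  rw [piA_mA, hf2, TensorProduct.tmul_zero]

end defs

set_option maxHeartbeats 400000 in
/-- Over a ring R, take two ideals I and J meeting in zero (I ∩ J = 0) and an R-module P. If the
R/I-module P/IP (that is, R/I ⊗ P) and the R/J-module P/JP (that is, R/J ⊗ P) are both projective,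
then P itself is projective over R. -/
theorem result {R : Type u} [CommRing R] (I J : Ideal R) (hIJ : I ⊓ J = ⊥) (P : Type u) [AddCommGroup P] [Module R P] (hI : Module.Projective (R ⧸ I) ((R ⧸ I) ⊗[R] P)) (hJ : Module.Projective (R ⧸ J) ((R ⧸ J) ⊗[R] P)) : Module.Projective R P := by
  classical
  -- uniqueness of gluing
  have hF2 : ∀ f : P →₀ R, mA I P f = 0 → mA J P f = 0 → f = 0 := by
    intro f h1 h2
    rw [mA_eq_zero_iff] at h1 h2
    ext x
    have : f x ∈ I ⊓ J := ⟨h1 x, h2 x⟩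
    rw [hIJ] at this
    simpa using this
  -- section mod I
  obtain ⟨σA, hσA⟩ := lift_of_proj P (R ⧸ I) hI (piA I P) (piA_surjective I P)
    (TensorProduct.mk R (R ⧸ I) P 1)
  simp only [TensorProduct.mk_apply] at hσA
  have hfstT := fstT_surjective I P σA hσA
  obtain ⟨D, hD⟩ := exists_factor (R := R) (M := T I P σA) (N := P)
    (Q := (P →₀ (R ⧸ J)) ⧸ W I J P) (fstT I P σA) hfstT (phi I J P σA) (ker_fstT_le I J P σA)
  obtain ⟨σB, hσB⟩ := lift_of_proj P (R ⧸ J) hJ (W I J P).mkQ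
    (Submodule.mkQ_surjective (W I J P)) D
  -- the key property
  have key0 : ∀ t : T I P σA, σB t.1.1 - mA J P t.1.2 ∈ W I J P := by
    intro t
    have h1 := hσB (fstT I P σA t)
    rw [hD, phi_apply, fstT_apply, Submodule.mkQ_apply, Submodule.Quotient.eq] at h1
    exact h1
  have key : ∀ x : P, ∃ f : P →₀ R, mA I P f = σA x ∧ mA J P f = σB x := by
    intro x
    obtain ⟨t, rfl⟩ := hfstT x
    have h1 := key0 t
    rw [mem_W] at h1
    obtain ⟨-, f0, hf01, hf02⟩ := h1
    have ht := t.2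
    rw [mem_T] at ht
    refine ⟨t.1.2 + f0, ?_, ?_⟩
    · rw [map_add, hf01, add_zero, fstT_apply]; exact ht.1
    · rw [map_add, hf02, fstT_apply]; abel
  have hπB : ∀ x : P, piA J P (σB x) = (1 : R ⧸ J) ⊗ₜ[R] x := by
    intro x
    obtain ⟨t, rfl⟩ := hfstT x
    have h1 := key0 t
    rw [mem_W] at h1
    obtain ⟨h0, -⟩ := h1
    rw [map_sub, sub_eq_zero] at h0
    have ht := t.2
    rw [mem_T] at ht
    rw [fstT_apply, h0, piA_mA, ht.2]
  -- the glued section
  choose s0 hs0A hs0B using key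
  have hs0_add : ∀ x y, s0 (x + y) = s0 x + s0 y := by
    intro x y
    rw [← sub_eq_zero]
    apply hF2
    · simp only [map_sub, map_add, hs0A, sub_self]
    · simp only [map_sub, map_add, hs0B, sub_self]
  have hs0_smul : ∀ (c : R) x, s0 (c • x) = c • s0 x := by
    intro c x
    rw [← sub_eq_zero]
    apply hF2
    · simp only [map_sub, map_smul, hs0A, sub_self]
    · simp only [map_sub, map_smul, hs0B, sub_self]
  let s : P →ₗ[R] (P →₀ R) :=
    { toFun := s0
      map_add' := hs0_add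
      map_smul' := hs0_smul }
  let n : P →ₗ[R] P := (pi0 P) ∘ₗ s - LinearMap.id
  have hnI : ∀ x, n x ∈ (I • ⊤ : Submodule R P) := by
    intro x
    apply mem_of_tmul_eq_zero
    simp only [n, LinearMap.sub_apply, LinearMap.coe_comp, Function.comp_apply, LinearMap.id_apply,
      TensorProduct.tmul_sub]
    rw [← piA_mA]
    change piA I P (mA I P (s0 x)) - _ = 0
    rw [hs0A, hσA, sub_self]
  have hnJ : ∀ x, n x ∈ (J • ⊤ : Submodule R P) := by
    intro x
    apply mem_of_tmul_eq_zero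
    simp only [n, LinearMap.sub_apply, LinearMap.coe_comp, Function.comp_apply, LinearMap.id_apply,
      TensorProduct.tmul_sub]
    rw [← piA_mA]
    change piA J P (mA J P (s0 x)) - _ = 0
    rw [hs0B, hπB, sub_self]
  have hnn : ∀ x, n (n x) = 0 := by
    intro x
    refine Submodule.smul_induction_on (hnI x) ?_ ?_
    · intro r hr m _
      rw [map_smul]
      refine Submodule.smul_induction_on (hnJ m) ?_ ?_
      · intro r' hr' m' _
        rw [smul_smul]
        have : r * r' ∈ I ⊓ J := ⟨I.mul_mem_right _ hr, J.mul_mem_left _ hr'⟩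
        rw [hIJ] at this
        rw [(Submodule.mem_bot R).mp this, zero_smul]
      · intro a b ha hb
        rw [smul_add, ha, hb, add_zero]
    · intro a b ha hb
      rw [map_add, ha, hb, add_zero]
  refine Module.Projective.of_split (s ∘ₗ (LinearMap.id - n)) (pi0 P) ?_
  ext x
  have h1 : pi0 P (s (x - n x)) = (x - n x) + n (x - n x) := by
    simp only [n, LinearMap.sub_apply, LinearMap.coe_comp, Function.comp_apply, LinearMap.id_apply]
    abel
  simp only [LinearMap.coe_comp, Function.comp_apply, LinearMap.sub_apply, LinearMap.id_apply]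
  rw [h1, map_sub, hnn]
  abel

end Groth.Agent.S6272
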