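import Groth.Statements.S6273
import Mathlib.RingTheory.Localization.Basic
-- import your own Groth.Agent.* helpers here

set_option autoImplicit false
universe u
open CAlg

namespace Groth.Agent.S6273

/-- Key step: every element of `S` becomes invertible modulo the kernel, witnessed in `R`. -/
theorem exists_inverse {R : Type u} [CommRing R] (S : Submonoid R) (A : Type u) [CommRing A]
    [Algebra R A] [IsLocalization S A]
    (hcl : IsClosed (Set.range (PrimeSpectrum.comap (algebraMap R A)))) (s : S) :
    ∃ t : R, algebraMap R A t * algebraMap R A s = 1 := by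
  set I : Ideal R := RingHom.ker (algebraMap R A) with hI
  have hrange : Set.range (PrimeSpectrum.comap (algebraMap R A)) = PrimeSpectrum.zeroLocus I := by
    rw [← PrimeSpectrum.closure_range_comap, hcl.closure_eq]
  have htop : I ⊔ Ideal.span {(s : R)} = ⊤ := by
    by_contra hne
    obtain ⟨P, hPmax, hle⟩ := Ideal.exists_le_maximal _ hne
    have hPprime : P.IsPrime := hPmax.isPrime
    have hmem : (⟨P, hPprime⟩ : PrimeSpectrum R) ∈ PrimeSpectrum.zeroLocus (I : Set R) := by
      rw [PrimeSpectrum.mem_zeroLocus]
      exact fun x hx => hle (Ideal.mem_sup_left hx)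
    rw [← hrange] at hmem
    obtain ⟨Q, hQ⟩ := hmem
    have hsP : (s : R) ∈ P := hle (Ideal.mem_sup_right (Ideal.subset_span rfl))
    have hsQ : algebraMap R A s ∈ Q.asIdeal := by
      have : (s : R) ∈ (PrimeSpectrum.comap (algebraMap R A) Q).asIdeal := by rw [hQ]; exact hsP
      exact this
    exact Q.2.ne_top (Ideal.eq_top_of_isUnit_mem _ hsQ (IsLocalization.map_units A s))
  have h1 : (1 : R) ∈ I ⊔ Ideal.span {(s : R)} := by rw [htop]; trivial
  obtain ⟨i, hi, j, hj, hij⟩ := Submodule.mem_sup.mp h1
  obtain ⟨t, rfl⟩ := Ideal.mem_span_singleton'.mp hj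
  refine ⟨t, ?_⟩
  have hi0 : algebraMap R A i = 0 := hi
  have := congrArg (algebraMap R A) hij
  rw [map_add, hi0, zero_add, map_mul, map_one] at this
  exact this

/-- Let R be a ring, S ⊆ R a multiplicative subset and A = S⁻¹R. If the image of Spec(A) → Spec(R) is
closed, then the localization map R → A is surjective; in particular A is isomorphic to R/I for the
ideal I = ker(R → A). -/
theorem result {R : Type u} [CommRing R] (S : Submonoid R) (A : Type u) [CommRing A] [Algebra R A] [IsLocalization S A] (hcl : IsClosed (Set.range (PrimeSpectrum.comap (algebraMap R A)))) : Function.Surjective (algebraMap R A) := by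
  intro a
  obtain ⟨r, s, rfl⟩ := IsLocalization.exists_mk'_eq S a
  obtain ⟨t, ht⟩ := exists_inverse S A hcl s
  refine ⟨r * t, ?_⟩
  rw [IsLocalization.eq_mk'_iff_mul_eq, map_mul, mul_assoc, ht, mul_one]

end Groth.Agent.S6273
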