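import Groth.Statements.S6274
import Groth.Agent.S6273
import Mathlib.RingTheory.Localization.Basic
import Mathlib.RingTheory.Nilpotent.Lemmas
-- import your own Groth.Agent.* helpers here

set_option autoImplicit false
universe u
open CAlg

namespace Groth.Agent.S6274

open PrimeSpectrum

/-- Under either finiteness hypothesis, the (closed) image of `Spec A` is a basic open `D(s)`
for some `s ∈ S`. -/
theorem exists_basicOpen {R : Type u} [CommRing R] (S : Submonoid R) (A : Type u) [CommRing A]
    [Algebra R A] [IsLocalization S A]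
    (hcl : IsClosed (Set.range (PrimeSpectrum.comap (algebraMap R A))))
    (h : TopologicalSpace.NoetherianSpace (PrimeSpectrum R) ∨ S.FG) :
    ∃ s : R, s ∈ S ∧
      Set.range (PrimeSpectrum.comap (algebraMap R A)) = (PrimeSpectrum.basicOpen s : Set _) := by
  classical
  have hrange := PrimeSpectrum.localization_comap_range A S
  rcases h with h | h
  · -- Noetherian space
    set I : Ideal R := RingHom.ker (algebraMap R A) with hI
    have hzl : Set.range (PrimeSpectrum.comap (algebraMap R A)) = PrimeSpectrum.zeroLocus I := by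
      rw [← PrimeSpectrum.closure_range_comap, hcl.closure_eq]
    have hWc : IsCompact ((PrimeSpectrum.zeroLocus (I : Set R))ᶜ) :=
      TopologicalSpace.NoetherianSpace.isCompact _
    have hcover : (PrimeSpectrum.zeroLocus (I : Set R))ᶜ ⊆
        ⋃ x : I, (PrimeSpectrum.basicOpen (x : R) : Set (PrimeSpectrum R)) := by
      intro p hp
      rw [Set.mem_compl_iff, PrimeSpectrum.mem_zeroLocus, Set.not_subset] at hp
      obtain ⟨x, hxI, hxp⟩ := hp
      exact Set.mem_iUnion.mpr ⟨⟨x, hxI⟩, hxp⟩
    obtain ⟨t, ht⟩ := hWc.elim_finite_subcover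
      (fun x : I => (PrimeSpectrum.basicOpen (x : R) : Set (PrimeSpectrum R)))
      (fun x => (PrimeSpectrum.basicOpen (x : R)).2) hcover
    have hex : ∀ x : I, ∃ m : S, (m : R) * (x : R) = 0 := by
      intro x
      exact (IsLocalization.map_eq_zero_iff S A (x : R)).mp x.2
    choose m hm using hex
    refine ⟨∏ x ∈ t, (m x : R), Submonoid.prod_mem _ (fun x _ => (m x).2), ?_⟩
    rw [hzl]
    ext p
    constructor
    · intro hp
      have hp' : p ∈ Set.range (PrimeSpectrum.comap (algebraMap R A)) := by rw [hzl]; exact hp
      rw [hrange] at hp'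
      intro hs
      exact Set.disjoint_left.mp hp' (Submonoid.prod_mem _ (fun x _ => (m x).2)) hs
    · intro hp
      by_contra hnot
      have := ht hnot
      simp only [Set.mem_iUnion] at this
      obtain ⟨x, hxt, hxp⟩ := this
      apply hp
      have h0 : (m x : R) * (x : R) ∈ p.asIdeal := by rw [hm x]; exact zero_mem _
      have hmx : (m x : R) ∈ p.asIdeal := (p.2.mem_or_mem h0).resolve_right hxp
      obtain ⟨c, hc⟩ := Finset.dvd_prod_of_mem (fun x => (m x : R)) hxt
      change (∏ x ∈ t, (m x : R)) ∈ p.asIdeal
      rw [hc]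
      exact Ideal.mul_mem_right _ _ hmx
  · -- finitely generated monoid
    obtain ⟨T, hT⟩ := h
    have hTS : ∀ x ∈ T, x ∈ S := fun x hx => by rw [← hT]; exact Submonoid.subset_closure hx
    refine ⟨∏ x ∈ T, x, Submonoid.prod_mem _ hTS, ?_⟩
    rw [hrange]
    ext p
    constructor
    · intro hp hs
      exact Set.disjoint_left.mp hp (Submonoid.prod_mem _ hTS) hs
    · intro hp
      have hle : S ≤ p.asIdeal.primeCompl := by
        rw [← hT, Submonoid.closure_le]
        intro x hx hxp
        apply hp
        obtain ⟨c, hc⟩ := Finset.dvd_prod_of_mem (fun x => x) hx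
        rw [hc]
        exact Ideal.mul_mem_right _ _ hxp
      exact Set.disjoint_left.mpr (fun x hxS hxp => hle hxS hxp)

/-- The kernel of the localization map is generated by the complementary idempotent. -/
theorem ker_eq {R : Type u} [CommRing R] (S : Submonoid R) (A : Type u) [CommRing A]
    [Algebra R A] [IsLocalization S A] (e : R) (he : IsIdempotentElem e)
    (hrange : Set.range (PrimeSpectrum.comap (algebraMap R A)) =
      (PrimeSpectrum.basicOpen e : Set _)) :
    RingHom.ker (algebraMap R A) = Ideal.span {1 - e} := by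
  have hdisj := PrimeSpectrum.localization_comap_range A S
  have he' : e * (1 - e) = 0 := by rw [mul_sub, mul_one, he.eq, sub_self]
  apply le_antisymm
  · intro x hx
    obtain ⟨s, hs⟩ := (IsLocalization.map_eq_zero_iff S A x).mp hx
    have htop : Ideal.span {(s : R)} ⊔ Ideal.span {1 - e} = ⊤ := by
      by_contra hne
      obtain ⟨P, hPmax, hle⟩ := Ideal.exists_le_maximal _ hne
      have hPprime : P.IsPrime := hPmax.isPrime
      have h1e : 1 - e ∈ P := hle (Ideal.mem_sup_right (Ideal.subset_span rfl))
      have hsP : (s : R) ∈ P := hle (Ideal.mem_sup_left (Ideal.subset_span rfl))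
      have heP : e ∉ P := by
        intro heP
        apply hPprime.ne_top
        rw [Ideal.eq_top_iff_one]
        have := P.add_mem heP h1e
        simpa using this
      have hmem : (⟨P, hPprime⟩ : PrimeSpectrum R) ∈
          Set.range (PrimeSpectrum.comap (algebraMap R A)) := by
        rw [hrange]; exact heP
      rw [hdisj] at hmem
      exact Set.disjoint_left.mp hmem s.2 hsP
    have h1 : (1 : R) ∈ Ideal.span {(s : R)} ⊔ Ideal.span {1 - e} := by rw [htop]; trivial
    obtain ⟨i, hi, j, hj, hij⟩ := Submodule.mem_sup.mp h1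
    obtain ⟨a, rfl⟩ := Ideal.mem_span_singleton'.mp hi
    obtain ⟨b, rfl⟩ := Ideal.mem_span_singleton'.mp hj
    rw [Ideal.mem_span_singleton']
    refine ⟨b * x, ?_⟩
    have : x = (a * s + b * (1 - e)) * x := by rw [hij, one_mul]
    have h2 : a * (s : R) * x = 0 := by rw [mul_assoc, hs, mul_zero]
    rw [add_mul, h2, zero_add] at this
    calc b * x * (1 - e) = b * (1 - e) * x := by ring
      _ = x := this.symm
  · rw [Ideal.span_le, Set.singleton_subset_iff, SetLike.mem_coe, RingHom.mem_ker]
    have hnil : IsNilpotent (algebraMap R A (1 - e)) := by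
      rw [nilpotent_iff_mem_prime]
      intro Q hQ
      have hmem : PrimeSpectrum.comap (algebraMap R A) ⟨Q, hQ⟩ ∈
          Set.range (PrimeSpectrum.comap (algebraMap R A)) := ⟨_, rfl⟩
      rw [hrange] at hmem
      have heQ : e ∉ (PrimeSpectrum.comap (algebraMap R A) ⟨Q, hQ⟩).asIdeal := hmem
      have h0 : e * (1 - e) ∈ (PrimeSpectrum.comap (algebraMap R A) ⟨Q, hQ⟩).asIdeal := by
        rw [he']; exact zero_mem _
      have := ((PrimeSpectrum.comap (algebraMap R A) ⟨Q, hQ⟩).2.mem_or_mem h0).resolve_left heQ
      exact this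
    have hid : IsIdempotentElem (algebraMap R A (1 - e)) := (he.one_sub).map (algebraMap R A)
    obtain ⟨n, hn⟩ := hnil
    rcases n with _ | n
    · rw [pow_zero] at hn
      have : (algebraMap R A (1 - e)) = algebraMap R A (1 - e) * 1 := (mul_one _).symm
      rw [this, hn, mul_zero]
    · rw [hid.pow_succ_eq] at hn
      exact hn

/-- Let R be a ring, S ⊆ R a multiplicative subset and A = S⁻¹R, and assume the image of Spec(A) →
Spec(R) is closed. If Spec(R) is a Noetherian topological space (which holds when R is Noetherian)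
or S is finitely generated as a monoid, then R is isomorphic to A × R' for some ring R', by an
isomorphism whose first component is the localization map R → A. -/
theorem result {R : Type u} [CommRing R] (S : Submonoid R) (A : Type u) [CommRing A] [Algebra R A] [IsLocalization S A] (hcl : IsClosed (Set.range (PrimeSpectrum.comap (algebraMap R A)))) (h : TopologicalSpace.NoetherianSpace (PrimeSpectrum R) ∨ S.FG) : ∃ (R' : Type u) (_ : CommRing R') (e : R ≃+* A × R'), ∀ x : R, (e x).1 = algebraMap R A x := by
  obtain ⟨s, hsS, hs⟩ := exists_basicOpen S A hcl h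
  have hclopen : IsClopen (Set.range (PrimeSpectrum.comap (algebraMap R A))) :=
    ⟨hcl, by rw [hs]; exact (PrimeSpectrum.basicOpen s).2⟩
  obtain ⟨e, he, hrange⟩ := PrimeSpectrum.isClopen_iff.mp hclopen
  have hker := ker_eq S A e he hrange
  have hsurj := Groth.Agent.S6273.result S A hcl
  have he' : e * (1 - e) = 0 := by rw [mul_sub, mul_one, he.eq, sub_self]
  have h1e : algebraMap R A (1 - e) = 0 := by
    have : (1 - e) ∈ RingHom.ker (algebraMap R A) := by
      rw [hker]; exact Ideal.subset_span rfl
    exact this
  have hae : algebraMap R A e = 1 := by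
    rw [map_sub, map_one, sub_eq_zero] at h1e
    exact h1e.symm
  let φ : R →+* A × (R ⧸ Ideal.span {e}) :=
    RingHom.prod (algebraMap R A) (Ideal.Quotient.mk (Ideal.span {e}))
  have hbij : Function.Bijective φ := by
    constructor
    · rw [injective_iff_map_eq_zero]
      intro x hx
      have hx1 : algebraMap R A x = 0 := congrArg Prod.fst hx
      have hx2 : Ideal.Quotient.mk (Ideal.span {e}) x = 0 := congrArg Prod.snd hx
      have hx1' : x ∈ Ideal.span {1 - e} := by rw [← hker]; exact hx1
      rw [Ideal.Quotient.eq_zero_iff_mem] at hx2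
      obtain ⟨a, rfl⟩ := Ideal.mem_span_singleton'.mp hx1'
      obtain ⟨b, hb⟩ := Ideal.mem_span_singleton'.mp hx2
      have : a * (1 - e) = a * (1 - e) * (1 - e) := by
        rw [mul_assoc, (he.one_sub).eq]
      rw [this, ← hb, mul_assoc, he', mul_zero]
    · rintro ⟨a, r'⟩
      obtain ⟨r, rfl⟩ := hsurj a
      obtain ⟨r', rfl⟩ := Ideal.Quotient.mk_surjective r'
      refine ⟨r * e + r' * (1 - e), ?_⟩
      apply Prod.ext
      · change algebraMap R A (r * e + r' * (1 - e)) = algebraMap R A r
        rw [map_add, map_mul, map_mul, h1e, hae, mul_one, mul_zero, add_zero]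
      · change Ideal.Quotient.mk (Ideal.span {e}) (r * e + r' * (1 - e)) =
          Ideal.Quotient.mk (Ideal.span {e}) r'
        rw [Ideal.Quotient.eq]
        rw [Ideal.mem_span_singleton']
        exact ⟨r - r', by ring⟩
  exact ⟨R ⧸ Ideal.span {e}, inferInstance, RingEquiv.ofBijective φ hbij, fun x => rfl⟩

end Groth.Agent.S6274
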