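import Groth.Statements.S6275
import Mathlib.RingTheory.Noetherian.Basic
import Mathlib.RingTheory.Ideal.Maps
-- import your own Groth.Agent.* helpers here

set_option autoImplicit false
universe u
open CAlg

namespace Groth.Agent.S6275

/-- Let R be a Noetherian ring and p ⊆ R a prime. Then there is f ∈ R, f ∉ p, such that R_f → R_p is
injective; equivalently every x ∈ R mapping to zero in R_p maps to zero in R_f. (The cases of a
domain and of a reduced ring with finitely many minimal primes are not included here.) -/
theorem result {R : Type u} [CommRing R] [IsNoetherianRing R] (p : Ideal R) [p.IsPrime] : ∃ f : R, f ∉ p ∧ ∀ x : R, algebraMap R (Localization.AtPrime p) x = 0 → algebraMap R (Localization.Away f) x = 0 := by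
  classical
  set K : Ideal R := RingHom.ker (algebraMap R (Localization.AtPrime p)) with hK
  have hex : ∀ x : R, ∃ m : p.primeCompl, x ∈ K → (m : R) * x = 0 := by
    intro x
    by_cases hx : x ∈ K
    · obtain ⟨m, hm⟩ := (IsLocalization.map_eq_zero_iff p.primeCompl
        (Localization.AtPrime p) x).mp hx
      exact ⟨m, fun _ => hm⟩
    · exact ⟨1, fun h => absurd h hx⟩
  choose m hm using hex
  obtain ⟨s, hs⟩ := (isNoetherianRing_iff_ideal_fg R).mp inferInstance K
  refine ⟨∏ x ∈ s, (m x : R), ?_, ?_⟩
  · have : (∏ x ∈ s, (m x : R)) ∈ p.primeCompl :=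
      Submonoid.prod_mem _ (fun x _ => (m x).2)
    exact this
  · intro x hx
    have hxK : x ∈ K := hx
    rw [← hs] at hxK
    have hle : Ideal.span (s : Set R) ≤
        RingHom.ker (algebraMap R (Localization.Away (∏ x ∈ s, (m x : R)))) := by
      rw [Ideal.span_le]
      intro g hg
      have hgK : g ∈ K := by rw [← hs]; exact Ideal.subset_span hg
      rw [SetLike.mem_coe, RingHom.mem_ker]
      refine (IsLocalization.map_eq_zero_iff (Submonoid.powers (∏ x ∈ s, (m x : R))) _ g).mpr
        ⟨⟨_, Submonoid.mem_powers _⟩, ?_⟩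
      obtain ⟨c, hc⟩ := Finset.dvd_prod_of_mem (fun x => (m x : R)) hg
      change (∏ x ∈ s, (m x : R)) * g = 0
      rw [hc, mul_comm (m g : R) c, mul_assoc, hm g hgK, mul_zero]
    exact hle hxK

end Groth.Agent.S6275
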