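import Groth.Statements.S6278
-- import your own Groth.Agent.* helpers here

set_option autoImplicit false
universe u
open CAlg

namespace Groth.Agent.S6278

/-- A normal ring R (all localizations at primes are integrally closed domains) is integrally closed in
its total ring of fractions. -/
theorem result (R : Type u) [CommRing R] (hR : EGA4.IsNormalRing R) : IsIntegrallyClosedIn R (FractionRing R) := by
  classical
  rw [isIntegrallyClosedIn_iff]
  refine ⟨IsLocalization.injective _ (le_refl (nonZeroDivisors R)), ?_⟩
  intro x hx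
  -- the ideal of denominators of `x`
  let D : Ideal R := Submodule.comap (LinearMap.toSpanSingleton R (FractionRing R) x)
    (LinearMap.range (Algebra.linearMap R (FractionRing R)))
  have hD : ∀ r : R, r ∈ D ↔ ∃ y : R, algebraMap R (FractionRing R) y = r • x := by
    intro r
    simp only [D, Submodule.mem_comap, LinearMap.toSpanSingleton_apply, LinearMap.mem_range,
      Algebra.linearMap_apply]
  suffices htop : D = ⊤ by
    have h1 : (1 : R) ∈ D := by rw [htop]; trivial
    obtain ⟨y, hy⟩ := (hD 1).mp h1
    exact ⟨y, by rw [hy, one_smul]⟩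
  by_contra hne
  obtain ⟨P, hPmax, hle⟩ := Ideal.exists_le_maximal _ hne
  have hPprime : P.IsPrime := hPmax.isPrime
  obtain ⟨hdom, hic⟩ := hR P
  have := hdom
  have := hic
  -- the map to the fraction field of the localization
  let Rp := Localization.AtPrime P
  let Kp := FractionRing Rp
  let f : R →+* Kp := (algebraMap Rp Kp).comp (algebraMap R Rp)
  have hinjK : Function.Injective (algebraMap Rp Kp) := IsFractionRing.injective Rp Kp
  have hf : ∀ d : nonZeroDivisors R, IsUnit (f d) := by
    intro d
    apply IsUnit.mk0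
    intro h0
    have h1 : algebraMap R Rp d = 0 := by
      apply hinjK
      rw [map_zero]
      exact h0
    obtain ⟨m, hm⟩ := (IsLocalization.map_eq_zero_iff P.primeCompl Rp (d : R)).mp h1
    have hm0 : (m : R) = 0 := (mul_right_mem_nonZeroDivisors_eq_zero_iff d.2).mp hm
    exact m.2 (by rw [hm0]; exact zero_mem P)
  let ψ : FractionRing R →+* Kp := IsLocalization.lift (M := nonZeroDivisors R) hf
  have hψ : ∀ r : R, ψ (algebraMap R (FractionRing R) r) = f r := fun r =>
    IsLocalization.lift_eq hf r
  have hint : IsIntegral Rp (ψ x) := by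
    refine IsIntegral.map_of_comp_eq (algebraMap R Rp) ψ ?_ hx
    ext r
    rw [RingHom.comp_apply, RingHom.comp_apply, hψ]
    rfl
  obtain ⟨y, hy⟩ := IsIntegrallyClosed.isIntegral_iff.mp hint
  obtain ⟨a, s, rfl⟩ := IsLocalization.exists_mk'_eq P.primeCompl y
  obtain ⟨n, d, rfl⟩ := IsLocalization.exists_mk'_eq (nonZeroDivisors R) x
  have h1 : ψ (IsLocalization.mk' (FractionRing R) n d) * f d = f n := by
    rw [← hψ, ← hψ, ← map_mul, IsLocalization.mk'_spec]
  rw [← hy] at h1
  have h2 : IsLocalization.mk' Rp a s * algebraMap R Rp d = algebraMap R Rp n := by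
    apply hinjK
    rw [map_mul]
    exact h1
  have h3 : algebraMap R Rp (a * d) = algebraMap R Rp (n * s) := by
    rw [map_mul, map_mul, ← h2, mul_comm (IsLocalization.mk' Rp a s), mul_assoc,
      IsLocalization.mk'_spec, mul_comm]
  obtain ⟨t, ht⟩ := (IsLocalization.eq_iff_exists P.primeCompl Rp).mp h3
  have hmem : (t : R) * s ∈ D := by
    rw [hD]
    refine ⟨t * a, ?_⟩
    rw [Algebra.smul_def, IsLocalization.mul_mk'_eq_mk'_of_mul,
      IsLocalization.eq_mk'_iff_mul_eq, ← map_mul]
    congr 1
    calc (t : R) * a * d = t * (a * d) := by ring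
      _ = t * (n * s) := ht
      _ = t * s * n := by ring
  have hnot : (t : R) * s ∉ P := fun h => (hPprime.mem_or_mem h).elim t.2 s.2
  exact hnot (hle hmem)

end Groth.Agent.S6278
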