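import Groth.Statements.S6279
import Mathlib.RingTheory.Spectrum.Prime.RingHom
-- import your own Groth.Agent.* helpers here

set_option autoImplicit false
universe u
open CAlg

namespace Groth.Agent.S6279

/-- If `f : R → S` is surjective and every element of its kernel is killed by an element outside
`f⁻¹ q`, then `S_q` is the localization of `R` at `f⁻¹ q`. -/
theorem isLocalization_atPrime_of_surjective {R S : Type u} [CommRing R] [CommRing S]
    (f : R →+* S) (hf : Function.Surjective f) (q : Ideal S) [q.IsPrime]
    (hker : ∀ x ∈ RingHom.ker f, ∃ c : R, c ∉ q.comap f ∧ c * x = 0) :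
    @IsLocalization.AtPrime R _ (Localization.AtPrime q) _
      (((algebraMap S (Localization.AtPrime q)).comp f).toAlgebra) (q.comap f) _ := by
  letI : Algebra R (Localization.AtPrime q) :=
    ((algebraMap S (Localization.AtPrime q)).comp f).toAlgebra
  have halg : ∀ x : R, algebraMap R (Localization.AtPrime q) x =
      algebraMap S (Localization.AtPrime q) (f x) := fun x => rfl
  refine ⟨?_, ?_, ?_⟩
  · rintro ⟨x, hx⟩
    rw [halg]
    exact IsLocalization.map_units (Localization.AtPrime q) (⟨f x, hx⟩ : q.primeCompl)
  · intro z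
    obtain ⟨⟨a, s⟩, hz⟩ := IsLocalization.surj q.primeCompl z
    obtain ⟨a', rfl⟩ := hf a
    obtain ⟨s', hs'⟩ := hf s
    refine ⟨⟨a', ⟨s', ?_⟩⟩, ?_⟩
    · change f s' ∉ q
      rw [hs']; exact s.2
    · change z * algebraMap R (Localization.AtPrime q) s' = algebraMap R (Localization.AtPrime q) a'
      rw [halg, halg, hs']
      exact hz
  · intro x y hxy
    rw [halg, halg] at hxy
    obtain ⟨t, ht⟩ := (IsLocalization.eq_iff_exists q.primeCompl (Localization.AtPrime q)).mp hxy
    obtain ⟨t', ht'⟩ := hf t
    have hmem : t' * x - t' * y ∈ RingHom.ker f := by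
      rw [RingHom.mem_ker, map_sub, map_mul, map_mul, ht', ht, sub_self]
    obtain ⟨c, hc, hc0⟩ := hker _ hmem
    refine ⟨⟨c * t', ?_⟩, ?_⟩
    · intro h
      rcases (Ideal.IsPrime.mem_or_mem (Ideal.comap_isPrime f q) h) with h | h
      · exact hc h
      · apply t.2
        rw [← ht']
        exact h
    · change c * t' * x = c * t' * y
      rw [← sub_eq_zero]
      calc c * t' * x - c * t' * y = c * (t' * x - t' * y) := by ring
        _ = 0 := hc0

/-- A finite product of normal rings is normal (a ring is normal when every localization at a prime is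
an integrally closed domain). -/
theorem result {ι : Type u} [Finite ι] (A : ι → Type u) [∀ i, CommRing (A i)] (hA : ∀ i, EGA4.IsNormalRing (A i)) : EGA4.IsNormalRing (∀ i, A i) := by
  classical
  intro p hp
  obtain ⟨i, q, hq⟩ := PrimeSpectrum.exists_comap_evalRingHom_eq (⟨p, hp⟩ : PrimeSpectrum (∀ i, A i))
  have hpq : p = q.asIdeal.comap (Pi.evalRingHom A i) := by
    have := congrArg PrimeSpectrum.asIdeal hq
    exact this.symm
  subst hpq
  haveI := q.2
  obtain ⟨hdom, hic⟩ := hA i q.asIdeal
  letI : Algebra (∀ i, A i) (Localization.AtPrime q.asIdeal) :=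
    ((algebraMap (A i) (Localization.AtPrime q.asIdeal)).comp (Pi.evalRingHom A i)).toAlgebra
  haveI : IsLocalization.AtPrime (Localization.AtPrime q.asIdeal)
      (q.asIdeal.comap (Pi.evalRingHom A i)) := by
    apply isLocalization_atPrime_of_surjective (Pi.evalRingHom A i)
      (Function.surjective_eval i) q.asIdeal
    intro x hx
    refine ⟨Pi.single i 1, ?_, ?_⟩
    · rw [Ideal.mem_comap]
      simp only [Pi.evalRingHom_apply, Pi.single_eq_same]
      exact q.asIdeal.one_notMem
    · ext j
      by_cases hj : j = i
      · subst hj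
        have : x j = 0 := hx
        simp [this]
      · simp [Pi.single_eq_of_ne hj]
  let e := IsLocalization.algEquiv (q.asIdeal.comap (Pi.evalRingHom A i)).primeCompl
    (Localization.AtPrime (q.asIdeal.comap (Pi.evalRingHom A i))) (Localization.AtPrime q.asIdeal)
  haveI := hdom
  haveI := hic
  exact ⟨e.toRingEquiv.toMulEquiv.isDomain _, IsIntegrallyClosed.of_equiv e.toRingEquiv.symm⟩

end Groth.Agent.S6279
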