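import Groth.Statements.S6283
import Mathlib.LinearAlgebra.TensorProduct.Pi
import Mathlib.RingTheory.Finiteness.Basic
-- import your own Groth.Agent.* helpers here

set_option autoImplicit false
universe u
open scoped TensorProduct
open CAlg

namespace Groth.Agent.S6283

open TensorProduct in
theorem algMap_smul_tmul {R S : Type u} [CommRing R] [CommRing S] [Algebra R S]
    {M : Type u} [AddCommGroup M] [Module R M] (a : R) (s : S) (m : M) :
    algebraMap R S a • (s ⊗ₜ[R] m) = s ⊗ₜ[R] (a • m) := by
  rw [TensorProduct.smul_tmul', smul_eq_mul, TensorProduct.tmul_smul, TensorProduct.smul_tmul',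
    Algebra.smul_def]

open TensorProduct in
theorem lemmaA {R S : Type u} [CommRing R] [CommRing S] [Algebra R S] [Module.Flat R S]
    {N : Type u} [AddCommGroup N] [Module R N] (x : N) (s : S) (h : s ⊗ₜ[R] x = 0) :
    s ∈ Ideal.map (algebraMap R S) (LinearMap.ker (LinearMap.toSpanSingleton R N x)) := by
  set f := LinearMap.toSpanSingleton R N x with hf
  have hker : (f.lTensor S) (s ⊗ₜ[R] (1 : R)) = 0 := by
    simp [hf, h]
  have hex : Function.Exact ((LinearMap.ker f).subtype.lTensor S) (f.lTensor S) :=
    Module.Flat.lTensor_exact S (LinearMap.exact_subtype_ker_map f)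
  obtain ⟨y, hy⟩ := (hex _).mp hker
  have claim : ∀ y : S ⊗[R] (LinearMap.ker f),
      TensorProduct.rid R S ((LinearMap.ker f).subtype.lTensor S y) ∈
        Ideal.map (algebraMap R S) (LinearMap.ker f) := by
    intro y
    induction y using TensorProduct.induction_on with
    | zero => simp
    | tmul s' a =>
      simp only [LinearMap.lTensor_tmul, Submodule.subtype_apply, TensorProduct.rid_tmul]
      rw [Algebra.smul_def]
      exact Ideal.mul_mem_right _ _ (Ideal.mem_map_of_mem _ a.2)
    | add y z hy hz =>
      simp only [map_add]
      exact Ideal.add_mem _ hy hz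
  have := claim y
  rw [hy] at this
  simpa using this

/-- Let R → S be a flat ring map, M an R-module and m ∈ M. Then Ann_R(m)S = Ann_S(1 ⊗ m), the
annihilator in S of the element 1 ⊗ m of S ⊗_R M. If moreover M is a finite R-module then Ann_R(M)S
= Ann_S(S ⊗_R M). -/
theorem result {R S : Type u} [CommRing R] [CommRing S] [Algebra R S] [Module.Flat R S] (M : Type u) [AddCommGroup M] [Module R M] : (∀ m : M, ((Submodule.span R {m}).annihilator).map (algebraMap R S) = (Submodule.span S {(1 : S) ⊗ₜ[R] m}).annihilator) ∧ (Module.Finite R M → (Module.annihilator R M).map (algebraMap R S) = Module.annihilator S (S ⊗[R] M)) := by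
  refine ⟨fun m => ?_, fun hfin => ?_⟩
  · apply le_antisymm
    · rw [Ideal.map_le_iff_le_comap]
      intro a ha
      rw [Submodule.mem_annihilator_span_singleton] at ha
      rw [Ideal.mem_comap, Submodule.mem_annihilator_span_singleton, algMap_smul_tmul, ha,
        TensorProduct.tmul_zero]
    · intro s hs
      rw [Submodule.mem_annihilator_span_singleton, TensorProduct.smul_tmul', smul_eq_mul,
        mul_one] at hs
      have := lemmaA m s hs
      have hk : (LinearMap.ker (LinearMap.toSpanSingleton R M m) : Ideal R) =
          (Submodule.span R {m}).annihilator := by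
        ext r
        rw [Submodule.mem_annihilator_span_singleton, LinearMap.mem_ker,
          LinearMap.toSpanSingleton_apply]
      rwa [hk] at this
  · obtain ⟨n, g, hg⟩ := Module.Finite.exists_fin (R := R) (M := M)
    apply le_antisymm
    · rw [Ideal.map_le_iff_le_comap]
      intro a ha
      rw [Module.mem_annihilator] at ha
      rw [Ideal.mem_comap, Module.mem_annihilator]
      intro z
      induction z using TensorProduct.induction_on with
      | zero => simp
      | tmul s m =>
        rw [algMap_smul_tmul, ha, TensorProduct.tmul_zero]
      | add y z hy hz => rw [smul_add, hy, hz, add_zero]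
    · intro s hs
      rw [Module.mem_annihilator] at hs
      have h0 : s ⊗ₜ[R] g = (0 : S ⊗[R] (Fin n → M)) := by
        apply (TensorProduct.piRight R S S (fun _ : Fin n => M)).injective
        rw [map_zero, TensorProduct.piRight_apply, TensorProduct.piRightHom_tmul]
        funext i
        have := hs ((1 : S) ⊗ₜ[R] g i)
        rwa [TensorProduct.smul_tmul', smul_eq_mul, mul_one] at this
      have := lemmaA g s h0
      refine Ideal.map_mono ?_ this
      intro r hr
      rw [LinearMap.mem_ker, LinearMap.toSpanSingleton_apply] at hr
      rw [← Submodule.annihilator_top, ← hg, Submodule.mem_annihilator_span]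
      rintro ⟨_, i, rfl⟩
      exact congrFun hr i

end Groth.Agent.S6283
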