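import Groth.Statements.S6285
import Groth.Agent.S6284
import Mathlib.RingTheory.Spectrum.Prime.Module
import Mathlib.LinearAlgebra.TensorProduct.Pi
import Mathlib.Algebra.Module.FinitePresentation
import Mathlib.RingTheory.Localization.AtPrime.Basic
import Mathlib.Algebra.MvPolynomial.CommRing
import Mathlib.RingTheory.Ideal.Quotient.Operations
-- import your own Groth.Agent.* helpers here

set_option autoImplicit false
universe u
open CAlg

namespace Groth.Agent.S6285

open TensorProduct

section

variable {R : Type u} [CommRing R] {M : Type u} [AddCommGroup M] [Module R M]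
variable {n m : ℕ}

/-- The ideal of relations expressing that the matrix of indeterminates is a right inverse
of `g`. -/
noncomputable def relIdeal (g : (Fin m → R) →ₗ[R] (Fin n → R)) :
    Ideal (MvPolynomial (Fin n × Fin m) R) :=
  Ideal.span (Set.range fun il : Fin n × Fin n =>
    (∑ j, MvPolynomial.X (il.1, j) * MvPolynomial.C (g (Pi.single j 1) il.2)) -
      MvPolynomial.C (if il.1 = il.2 then 1 else 0))

/-- The universal `R`-algebra over which `g` acquires a right inverse. -/
abbrev UnivRing (g : (Fin m → R) →ₗ[R] (Fin n → R)) : Type u :=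
  MvPolynomial (Fin n × Fin m) R ⧸ relIdeal g

/-- The universal coefficients. -/
noncomputable def xx (g : (Fin m → R) →ₗ[R] (Fin n → R)) (i : Fin n) (j : Fin m) : UnivRing g :=
  Ideal.Quotient.mk _ (MvPolynomial.X (i, j))

theorem rel (g : (Fin m → R) →ₗ[R] (Fin n → R)) (i l : Fin n) :
    ∑ j, xx g i j * algebraMap R (UnivRing g) (g (Pi.single j 1) l) =
      algebraMap R (UnivRing g) (if i = l then 1 else 0) := by
  have h : (∑ j, MvPolynomial.X (i, j) * MvPolynomial.C (g (Pi.single j 1) l)) -
      MvPolynomial.C (if i = l then (1 : R) else 0) ∈ relIdeal g :=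
    Ideal.subset_span ⟨(i, l), rfl⟩
  have h2 := Ideal.Quotient.eq_zero_iff_mem.mpr h
  rw [map_sub, sub_eq_zero, map_sum] at h2
  simp only [map_mul] at h2
  exact h2

theorem one_tmul_single_eq_zero (f : (Fin n → R) →ₗ[R] M) (g : (Fin m → R) →ₗ[R] (Fin n → R))
    (hfg : ∀ v, f (g v) = 0) (i : Fin n) :
    (1 : UnivRing g) ⊗ₜ[R] f (Pi.single i 1) = 0 := by
  classical
  have h1 : (1 : UnivRing g) ⊗ₜ[R] (Pi.single i 1 : Fin n → R) =
      ∑ j, xx g i j ⊗ₜ[R] g (Pi.single j 1) := by
    apply (TensorProduct.piScalarRight R (UnivRing g) (UnivRing g) (Fin n)).injective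
    rw [map_sum]
    funext l
    simp only [TensorProduct.piScalarRight_apply, TensorProduct.piScalarRightHom_tmul,
      Finset.sum_apply]
    have hsm : ∀ (r : R) (x : UnivRing g), r • x = algebraMap R (UnivRing g) r * x :=
      fun r x => Algebra.smul_def r x
    simp only [hsm, mul_one]
    have hif : (if l = i then (1 : R) else 0) = if i = l then 1 else 0 := by
      by_cases h : i = l
      · subst h; simp
      · rw [if_neg h, if_neg (fun h' => h h'.symm)]
    rw [Pi.single_apply, hif, ← rel g i l]
    refine Finset.sum_congr rfl fun j _ => ?_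
    rw [mul_comm]
  have h2 := congrArg (f.baseChange (UnivRing g)) h1
  rw [map_sum] at h2
  simp only [LinearMap.baseChange_tmul, hfg, TensorProduct.tmul_zero, Finset.sum_const_zero] at h2
  exact h2


theorem subsingleton_tensor (f : (Fin n → R) →ₗ[R] M) (g : (Fin m → R) →ₗ[R] (Fin n → R))
    (hf : Function.Surjective f) (hfg : ∀ v, f (g v) = 0) :
    Subsingleton (UnivRing g ⊗[R] M) := by
  classical
  refine ⟨fun a b => ?_⟩
  suffices h : ∀ z : UnivRing g ⊗[R] M, z = 0 by rw [h a, h b]
  intro z
  induction z using TensorProduct.induction_on with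
  | zero => rfl
  | add x y hx hy => rw [hx, hy, add_zero]
  | tmul s x =>
    obtain ⟨v, rfl⟩ := hf x
    rw [LinearMap.pi_apply_eq_sum_univ f v, TensorProduct.tmul_sum]
    refine Finset.sum_eq_zero fun l _ => ?_
    have hl : (fun j => if l = j then (1 : R) else 0) = Pi.single l 1 := by
      funext j
      rw [Pi.single_apply]
      by_cases h : l = j
      · subst h; simp
      · rw [if_neg h, if_neg (fun h' => h h'.symm)]
    rw [hl, TensorProduct.tmul_smul]
    have : s ⊗ₜ[R] f (Pi.single l 1) = s • ((1 : UnivRing g) ⊗ₜ[R] f (Pi.single l 1)) := by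
      rw [TensorProduct.smul_tmul', smul_eq_mul, mul_one]
    rw [this, one_tmul_single_eq_zero f g hfg l, smul_zero, smul_zero]

theorem mem_range_of_notMem_support (f : (Fin n → R) →ₗ[R] M)
    (g : (Fin m → R) →ₗ[R] (Fin n → R))
    (hex : Function.Exact g f) (p : PrimeSpectrum R) (hp : p ∉ Module.support R M) :
    p ∈ Set.range (PrimeSpectrum.comap (algebraMap R (UnivRing g))) := by
  classical
  rw [Module.notMem_support_iff'] at hp
  have hex' : ∀ i : Fin n, ∃ (s : p.asIdeal.primeCompl) (v : Fin m → R),
      g v = (s : R) • (Pi.single i 1 : Fin n → R) := by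
    intro i
    obtain ⟨r, hr, hr0⟩ := hp (f (Pi.single i 1))
    rw [← map_smul] at hr0
    obtain ⟨v, hv⟩ := (hex _).mp hr0
    exact ⟨⟨r, hr⟩, v, hv⟩
  choose s v hv using hex'
  let Rp := Localization.AtPrime p.asIdeal
  let φ₀ : MvPolynomial (Fin n × Fin m) R →ₐ[R] Rp :=
    MvPolynomial.aeval (fun ij => IsLocalization.mk' Rp (v ij.1 ij.2) (s ij.1))
  have hle : ∀ a ∈ relIdeal g, φ₀ a = 0 := by
    intro a ha
    have hle' : relIdeal g ≤ RingHom.ker φ₀.toRingHom := by
      rw [relIdeal, Ideal.span_le]
      rintro _ ⟨⟨i, l⟩, rfl⟩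
      rw [SetLike.mem_coe, RingHom.mem_ker]
      change φ₀ _ = 0
      rw [map_sub, map_sum, sub_eq_zero]
      simp only [map_mul, φ₀, MvPolynomial.aeval_X, MvPolynomial.aeval_C]
      apply (IsLocalization.map_units Rp (s i)).mul_right_injective
      change algebraMap R Rp (s i) * _ = algebraMap R Rp (s i) * _
      rw [Finset.mul_sum]
      have h1 : ∀ j : Fin m, algebraMap R Rp (s i) * (IsLocalization.mk' Rp (v i j) (s i) *
          algebraMap R Rp (g (Pi.single j 1) l)) =
          algebraMap R Rp (v i j * g (Pi.single j 1) l) := by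
        intro j
        rw [← mul_assoc, IsLocalization.mk'_spec', map_mul]
      rw [Finset.sum_congr rfl (fun j _ => h1 j), ← map_sum, ← map_mul]
      congr 1
      have h2 := congrFun (hv i) l
      rw [LinearMap.pi_apply_eq_sum_univ g (v i)] at h2
      simp only [Finset.sum_apply, Pi.smul_apply, smul_eq_mul, Pi.single_apply] at h2
      have hl : ∀ j : Fin m, (fun j' => if j = j' then (1 : R) else 0) = Pi.single j 1 := by
        intro j
        funext j'
        rw [Pi.single_apply]
        by_cases h : j = j'
        · subst h; simp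
        · rw [if_neg h, if_neg (fun h' => h h'.symm)]
      simp only [hl] at h2
      rw [h2]
      by_cases h : i = l
      · subst h; simp
      · rw [if_neg h, if_neg (fun h' => h h'.symm)]
    exact hle' ha
  let φ : UnivRing g →ₐ[R] Rp := Ideal.Quotient.liftₐ (relIdeal g) φ₀ hle
  refine ⟨PrimeSpectrum.comap φ.toRingHom (IsLocalRing.closedPoint Rp), ?_⟩
  rw [← PrimeSpectrum.comap_comp_apply]
  have hcomp : φ.toRingHom.comp (algebraMap R (UnivRing g)) = algebraMap R Rp :=
    φ.comp_algebraMap
  rw [hcomp]
  apply PrimeSpectrum.ext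
  exact IsLocalization.AtPrime.under_maximalIdeal Rp p.asIdeal

end


/-- For a ring R and an R-module M of finite presentation, the support Supp(M) is closed in Spec(R), and
its complement in Spec(R) is quasi-compact. -/
theorem result (R : Type u) [CommRing R] (M : Type u) [AddCommGroup M] [Module R M] [Module.FinitePresentation R M] : IsClosed (Module.support R M) ∧ IsCompact (Module.support R M)ᶜ := by
  obtain ⟨n, m, f, g, hf, hex⟩ := Module.FinitePresentation.exists_fin' R M
  refine ⟨Module.isClosed_support, ?_⟩
  have hfg : ∀ v, f (g v) = 0 := fun v => hex.apply_apply_eq_zero v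
  suffices h : (Module.support R M)ᶜ =
      Set.range (PrimeSpectrum.comap (algebraMap R (UnivRing g))) by
    rw [h]
    exact isCompact_range (PrimeSpectrum.continuous_comap _)
  ext p
  constructor
  · intro hp
    exact mem_range_of_notMem_support f g hex p hp
  · rintro ⟨q, rfl⟩ hq
    have hsub := subsingleton_tensor f g hf hfg
    have h1 := Groth.Agent.S6284.result (R := R) (R' := UnivRing g) M
    have h2 : q ∈ Module.support (UnivRing g) (UnivRing g ⊗[R] M) := by
      rw [h1]; exact hq
    rw [Module.support_eq_empty] at h2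
    exact h2

end Groth.Agent.S6285
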