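import Groth.Statements.S6286
import Mathlib.RingTheory.LocalRing.ResidueField.Ideal
import Mathlib.RingTheory.Flat.Basic
import Mathlib.LinearAlgebra.Basis.VectorSpace
import Mathlib.RingTheory.Nilpotent.Lemmas
import Mathlib.RingTheory.Localization.FractionRing
import Mathlib.RingTheory.Ideal.Quotient.Operations
-- import your own Groth.Agent.* helpers here

set_option autoImplicit false
universe u
open scoped TensorProduct
open CAlg

namespace Groth.Agent.S6286

/-- Let k be a field, R and S k-algebras, S' ⊆ S a k-subalgebra and f ∈ R ⊗ₖ S', with image f again in R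
⊗ₖ S. Then the images in Spec(R) of Spec((R ⊗ₖ S)_f) and of Spec((R ⊗ₖ S')_f) coincide: a prime p of
R is the contraction of a prime of R ⊗ₖ S not containing f if and only if it is the contraction of a
prime of R ⊗ₖ S' not containing f. -/
theorem result (k : Type u) [Field k] (R S : Type u) [CommRing R] [Algebra k R] [CommRing S] [Algebra k S] (S' : Subalgebra k S) (f : R ⊗[k] S') (p : PrimeSpectrum R) : (∃ q : PrimeSpectrum (R ⊗[k] S), Algebra.TensorProduct.map (AlgHom.id k R) S'.val f ∉ q.asIdeal ∧ q.asIdeal.comap (algebraMap R (R ⊗[k] S)) = p.asIdeal) ↔ (∃ q' : PrimeSpectrum (R ⊗[k] S'), f ∉ q'.asIdeal ∧ q'.asIdeal.comap (algebraMap R (R ⊗[k] S')) = p.asIdeal) := by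
  classical
  constructor
  · rintro ⟨q, hfq, hq⟩
    let ι : R ⊗[k] S' →ₐ[k] R ⊗[k] S := Algebra.TensorProduct.map (AlgHom.id k R) S'.val
    refine ⟨⟨q.asIdeal.comap ι, inferInstance⟩, hfq, ?_⟩
    rw [← hq]
    ext x
    simp only [Ideal.mem_comap]
    have : ι (algebraMap R (R ⊗[k] S') x) = algebraMap R (R ⊗[k] S) x := by
      rw [Algebra.TensorProduct.algebraMap_apply, Algebra.TensorProduct.algebraMap_apply]
      simp [ι]
    rw [this]
  · rintro ⟨q', hfq', hq'⟩
    have := q'.2
    let K := p.asIdeal.ResidueField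
    let ψ' : R ⊗[k] S' →ₐ[k] (FractionRing ((R ⊗[k] S') ⧸ q'.asIdeal)) :=
      (IsScalarTower.toAlgHom k ((R ⊗[k] S') ⧸ q'.asIdeal) (FractionRing ((R ⊗[k] S') ⧸ q'.asIdeal))).comp (Ideal.Quotient.mkₐ k q'.asIdeal)
    have hψ'mem : ∀ x, ψ' x = 0 ↔ x ∈ q'.asIdeal := by
      intro x
      simp only [ψ', AlgHom.coe_comp, Function.comp_apply, Ideal.Quotient.mkₐ_eq_mk,
        IsScalarTower.coe_toAlgHom']
      constructor
      · intro h
        exact Ideal.Quotient.eq_zero_iff_mem.mp
          (IsFractionRing.injective _ _ (h.trans (map_zero _).symm))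
      · intro h
        rw [Ideal.Quotient.eq_zero_iff_mem.mpr h, map_zero]
    let ρ : R →ₐ[k] (FractionRing ((R ⊗[k] S') ⧸ q'.asIdeal)) := ψ'.comp (Algebra.TensorProduct.includeLeft)
    have hρ : ∀ x : R, ρ x = 0 ↔ x ∈ p.asIdeal := by
      intro x
      change ψ' (x ⊗ₜ 1) = 0 ↔ _
      rw [hψ'mem, ← hq', Ideal.mem_comap, Algebra.TensorProduct.algebraMap_apply]
      rfl
    let σ : K →ₐ[k] (FractionRing ((R ⊗[k] S') ⧸ q'.asIdeal)) := Ideal.ResidueField.liftₐ p.asIdeal ρ
      (fun x hx => (hρ x).mpr hx)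
      (fun x hx => by
        change IsUnit (ρ x)
        exact IsUnit.mk0 _ (fun h => hx ((hρ x).mp h)))
    let Θ : K ⊗[k] S' →ₐ[k] (FractionRing ((R ⊗[k] S') ⧸ q'.asIdeal)) :=
      Algebra.TensorProduct.lift σ (ψ'.comp Algebra.TensorProduct.includeRight)
        (fun _ _ => Commute.all _ _)
    let β' : R ⊗[k] S' →ₐ[k] K ⊗[k] S' :=
      Algebra.TensorProduct.map (IsScalarTower.toAlgHom k R K) (AlgHom.id k S')
    have hΘβ : Θ.comp β' = ψ' := by
      apply Algebra.TensorProduct.ext'
      intro r s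
      have h1 : (Θ.comp β') (r ⊗ₜ[k] s) = σ (algebraMap R K r) * ψ' (1 ⊗ₜ[k] s) := by
        simp only [AlgHom.coe_comp, Function.comp_apply, β', Algebra.TensorProduct.map_tmul, Θ,
          Algebra.TensorProduct.lift_tmul, IsScalarTower.coe_toAlgHom', AlgHom.coe_id, id_eq,
          Algebra.TensorProduct.includeRight_apply]
      have h2 : σ (algebraMap R K r) = ψ' (r ⊗ₜ[k] 1) :=
        Ideal.ResidueField.liftₐ_algebraMap _ _ _ _ r
      rw [h1, h2, ← map_mul, Algebra.TensorProduct.tmul_mul_tmul, mul_one, one_mul]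
    have hne : Θ (β' f) ≠ 0 := by
      have : Θ (β' f) = ψ' f := congrArg (fun φ : R ⊗[k] S' →ₐ[k] (FractionRing ((R ⊗[k] S') ⧸ q'.asIdeal)) => φ f) hΘβ
      rw [this]
      exact fun h => hfq' ((hψ'mem f).mp h)
    let ιK : K ⊗[k] S' →ₐ[k] K ⊗[k] S := Algebra.TensorProduct.map (AlgHom.id k K) S'.val
    have hιK : Function.Injective ιK := by
      have h1 : Function.Injective
          (TensorProduct.map (LinearMap.id : K →ₗ[k] K) S'.val.toLinearMap) :=
        TensorProduct.map_injective_of_flat_flat _ _ Function.injective_id Subtype.val_injective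
      intro a b hab
      apply h1
      exact hab
    have hnil : ¬ IsNilpotent (ιK (β' f)) := by
      rintro ⟨N, hN⟩
      rw [← map_pow] at hN
      have h0 : (β' f) ^ N = 0 := hιK (by rw [hN, map_zero])
      have : Θ (β' f) ^ N = 0 := by rw [← map_pow, h0, map_zero]
      exact hne (eq_zero_of_pow_eq_zero this)
    rw [nilpotent_iff_mem_prime] at hnil
    simp only [not_forall] at hnil
    obtain ⟨Q, hQ, hfQ⟩ := hnil
    let β : R ⊗[k] S →ₐ[k] K ⊗[k] S :=
      Algebra.TensorProduct.map (IsScalarTower.toAlgHom k R K) (AlgHom.id k S)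
    let ι : R ⊗[k] S' →ₐ[k] R ⊗[k] S := Algebra.TensorProduct.map (AlgHom.id k R) S'.val
    have hcomm : β.comp ι = ιK.comp β' := by
      apply Algebra.TensorProduct.ext
      · ext r; simp [β, ι, ιK, β']
      · ext s; simp [β, ι, ιK, β']
    refine ⟨⟨Q.comap β, inferInstance⟩, ?_, ?_⟩
    · change β (ι f) ∉ Q
      have : β (ι f) = ιK (β' f) := congrArg (fun φ : R ⊗[k] S' →ₐ[k] K ⊗[k] S => φ f) hcomm
      rw [this]
      exact hfQ
    · ext x
      change β (algebraMap R (R ⊗[k] S) x) ∈ Q ↔ _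
      have h1 : β (algebraMap R (R ⊗[k] S) x) = algebraMap K (K ⊗[k] S) (algebraMap R K x) := by
        rw [Algebra.TensorProduct.algebraMap_apply, Algebra.TensorProduct.algebraMap_apply]
        simp [β]
      rw [h1, ← Ideal.mem_comap]
      have h2 : Q.comap (algebraMap K (K ⊗[k] S)) = ⊥ := by
        rcases Ideal.eq_bot_or_top (Q.comap (algebraMap K (K ⊗[k] S))) with h | h
        · exact h
        · exact absurd h (Ideal.IsPrime.ne_top (Ideal.comap_isPrime _ Q))
      rw [h2, Ideal.mem_bot, Ideal.algebraMap_residueField_eq_zero]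

end Groth.Agent.S6286
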