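import Groth.Statements.S6287
-- import your own Groth.Agent.* helpers here

set_option autoImplicit false
universe u
open CAlg

namespace Groth.Agent.S6287

/-- Let (A_i) be a directed system of valuation rings. Then the colimit A = colim A_i is a valuation
ring (in particular a domain). -/
theorem result {ι : Type u} [Preorder ι] [Nonempty ι] [IsDirected ι (· ≤ ·)] (G : ι → Type u) [∀ i, CommRing (G i)] [∀ i, IsDomain (G i)] [∀ i, ValuationRing (G i)] (f : ∀ i j, i ≤ j → G i →+* G j) [DirectedSystem G fun i j h => f i j h] : ∃ _ : IsDomain (Ring.DirectLimit G fun i j h => f i j h), ValuationRing (Ring.DirectLimit G fun i j h => f i j h) := by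
  classical
  -- two elements come from a common stage
  have two : ∀ x y : Ring.DirectLimit G fun i j h => f i j h,
      ∃ (i : ι) (a b : G i), Ring.DirectLimit.of G (fun i j h => f i j h) i a = x ∧
        Ring.DirectLimit.of G (fun i j h => f i j h) i b = y := by
    intro x y
    obtain ⟨i, a, rfl⟩ := Ring.DirectLimit.exists_of x
    obtain ⟨j, b, rfl⟩ := Ring.DirectLimit.exists_of y
    obtain ⟨k, hik, hjk⟩ := exists_ge_ge i j
    exact ⟨k, f i k hik a, f j k hjk b, Ring.DirectLimit.of_f (f := fun i j h => f i j h) hik a,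
      Ring.DirectLimit.of_f (f := fun i j h => f i j h) hjk b⟩
  have hnt : Nontrivial (Ring.DirectLimit G fun i j h => f i j h) := by
    refine ⟨⟨0, 1, ?_⟩⟩
    obtain ⟨i⟩ := (inferInstance : Nonempty ι)
    rw [← (Ring.DirectLimit.of G (fun i j h => f i j h) i).map_one]
    intro H
    rcases Ring.DirectLimit.of.zero_exact H.symm with ⟨j, hij, hf⟩
    rw [(f i j hij).map_one] at hf
    exact one_ne_zero hf
  have hnzd : NoZeroDivisors (Ring.DirectLimit G fun i j h => f i j h) := by
    refine ⟨fun {x y} hxy => ?_⟩
    obtain ⟨i, a, b, rfl, rfl⟩ := two x y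
    rw [← map_mul] at hxy
    rcases Ring.DirectLimit.of.zero_exact hxy with ⟨j, hij, hf⟩
    rw [map_mul] at hf
    rcases mul_eq_zero.mp hf with h | h
    · left
      rw [← Ring.DirectLimit.of_f (f := fun i j h => f i j h) hij a, h, map_zero]
    · right
      rw [← Ring.DirectLimit.of_f (f := fun i j h => f i j h) hij b, h, map_zero]
  have hdom : IsDomain (Ring.DirectLimit G fun i j h => f i j h) := NoZeroDivisors.to_isDomain _
  refine ⟨hdom, ?_⟩
  refine { cond' := fun x y => ?_ }
  obtain ⟨i, a, b, rfl, rfl⟩ := two x y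
  obtain ⟨c, hc⟩ := ValuationRing.cond a b
  refine ⟨Ring.DirectLimit.of G (fun i j h => f i j h) i c, ?_⟩
  rcases hc with hc | hc
  · left; rw [← map_mul, hc]
  · right; rw [← map_mul, hc]

end Groth.Agent.S6287
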