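import Groth.Statements.S6289
-- import your own Groth.Agent.* helpers here

set_option autoImplicit false
universe u
open CAlg

namespace Groth.Agent.S6289

/-- Let A' be a valuation ring with residue field K and A ⊆ K a valuation ring with fraction field K.
Then the subring C of A' consisting of the elements whose residue class lies in A is a valuation
ring. -/
theorem result (A' : Type u) [CommRing A'] [IsDomain A'] [ValuationRing A'] (A : ValuationSubring (IsLocalRing.ResidueField A')) : ValuationRing (A.toSubring.comap (IsLocalRing.residue A')) := by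
  classical
  set C := A.toSubring.comap (IsLocalRing.residue A') with hC
  have key : ∀ c : A', c ∈ C ∨ ∃ c' : A', c' ∈ C ∧ c * c' = 1 := by
    intro c
    by_cases hu : IsUnit c
    · obtain ⟨u, rfl⟩ := hu
      rcases A.mem_or_inv_mem (IsLocalRing.residue A' (u : A')) with h | h
      · left
        exact h
      · right
        refine ⟨((u⁻¹ : A'ˣ) : A'), ?_, by simp⟩
        change IsLocalRing.residue A' ((u⁻¹ : A'ˣ) : A') ∈ A
        rw [map_units_inv]
        exact h
    · left
      have : IsLocalRing.residue A' c = 0 := by
        by_contra h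
        exact hu ((IsLocalRing.residue_ne_zero_iff_isUnit c).mp h)
      change IsLocalRing.residue A' c ∈ A
      rw [this]
      exact zero_mem A
  refine { cond' := fun a b => ?_ }
  obtain ⟨c, hc⟩ := ValuationRing.cond (a : A') (b : A')
  rcases hc with hc | hc
  · rcases key c with h | ⟨c', hc', hcc'⟩
    · exact ⟨⟨c, h⟩, Or.inl (Subtype.ext hc)⟩
    · refine ⟨⟨c', hc'⟩, Or.inr (Subtype.ext ?_)⟩
      change (b : A') * c' = a
      rw [← hc, mul_assoc, hcc', mul_one]
  · rcases key c with h | ⟨c', hc', hcc'⟩
    · exact ⟨⟨c, h⟩, Or.inr (Subtype.ext hc)⟩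
    · refine ⟨⟨c', hc'⟩, Or.inl (Subtype.ext ?_)⟩
      change (a : A') * c' = b
      rw [← hc, mul_assoc, hcc', mul_one]

end Groth.Agent.S6289
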