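import Groth.Statements.S6290
import Mathlib.RingTheory.Filtration
import Mathlib.RingTheory.Finiteness.Nakayama
-- import your own Groth.Agent.* helpers here

set_option autoImplicit false
universe u
open CAlg

namespace Groth.Agent.S6290

/-- Let R be a Noetherian ring, I ⊆ R an ideal, M a finite R-module and N = ⋂ₙ IⁿM. Then for every prime
p ⊇ I there is f ∈ R, f ∉ p, with N_f = 0, i.e. every element of N is annihilated by some power of
f. -/
theorem result {R : Type u} [CommRing R] [IsNoetherianRing R] (I : Ideal R) (M : Type u) [AddCommGroup M] [Module R M] [Module.Finite R M] (p : Ideal R) [p.IsPrime] (hIp : I ≤ p) : ∃ f : R, f ∉ p ∧ ∀ x ∈ (⨅ n : ℕ, I ^ n • (⊤ : Submodule R M)), ∃ k : ℕ, f ^ k • x = 0 := by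
  set N : Submodule R M := ⨅ n : ℕ, I ^ n • (⊤ : Submodule R M) with hN
  have hfg : N.FG := IsNoetherian.noetherian N
  have hle : N ≤ I • N := by
    intro x hx
    obtain ⟨r, hr⟩ := (Ideal.mem_iInf_smul_pow_eq_bot_iff I x).mp hx
    rw [← hr]
    exact Submodule.smul_mem_smul r.prop hx
  obtain ⟨r, hr1, hr2⟩ :=
    Submodule.exists_sub_one_mem_and_smul_eq_zero_of_fg_of_le_smul I N hfg hle
  refine ⟨r, ?_, fun x hx => ⟨1, by rw [pow_one]; exact hr2 x hx⟩⟩
  intro hrp
  have h1 : r - 1 ∈ p := hIp hr1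
  have : (1 : R) ∈ p := by
    have := p.sub_mem hrp h1
    simpa using this
  exact (Ideal.IsPrime.ne_top inferInstance) ((Ideal.eq_top_iff_one p).mpr this)

end Groth.Agent.S6290
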