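import Groth.Statements.S6291
import Mathlib
-- import your own Groth.Agent.* helpers here

set_option autoImplicit false
universe u
open CAlg

namespace Groth.Agent.S6291

/-- Let R be a local ring with maximal ideal m and M an R-module of finite length. Then mⁿM = 0 for some
n. -/
theorem result {R : Type u} [CommRing R] [IsLocalRing R] (M : Type u) [AddCommGroup M] [Module R M] (hM : IsFiniteLength R M) : ∃ n : ℕ, (IsLocalRing.maximalIdeal R) ^ n • (⊤ : Submodule R M) = ⊥ := by
  induction hM with
  | of_subsingleton =>
    exact ⟨0, Subsingleton.elim _ _⟩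
  | @of_simple_quotient M _ _ N hs _ ih =>
    obtain ⟨n, hn⟩ := ih
    refine ⟨n + 1, ?_⟩
    have hann : Module.annihilator R (M ⧸ N) = IsLocalRing.maximalIdeal R :=
      IsLocalRing.eq_maximalIdeal (IsSimpleModule.annihilator_isMaximal)
    have h1 : IsLocalRing.maximalIdeal R • (⊤ : Submodule R M) ≤ N := by
      rw [Submodule.smul_le]
      intro r hr x _
      rw [← hann, Module.mem_annihilator] at hr
      have := hr (Submodule.Quotient.mk x)
      rw [← Submodule.Quotient.mk_smul, Submodule.Quotient.mk_eq_zero] at this
      exact this
    have h2 : (IsLocalRing.maximalIdeal R) ^ n • N = ⊥ := by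
      have : N = (⊤ : Submodule R N).map N.subtype := by simp
      rw [this, ← Submodule.map_smul'', hn, Submodule.map_bot]
    rw [pow_succ, mul_smul, eq_bot_iff, ← h2]
    exact Submodule.smul_mono le_rfl h1

end Groth.Agent.S6291
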