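import Groth.Statements.S6294
import Mathlib.RingTheory.Ideal.MinimalPrime.Localization
import Mathlib.RingTheory.Ideal.Operations
import Mathlib.RingTheory.Localization.AtPrime.Basic
import Mathlib.Algebra.Group.Pi.Units
-- import your own Groth.Agent.* helpers here

set_option autoImplicit false
universe u
open CAlg

namespace Groth.Agent.S6294

/-- Let R be a ring with finitely many minimal primes q₁, …, q_t, and assume that the zerodivisors of R
are precisely the elements of q₁ ∪ … ∪ q_t. Then Q(R), the total ring of fractions of R, equals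
R_{q₁} × … × R_{q_t}: the diagonal map R → ∏ R_{q_i} is a localization of R at its non-zerodivisors. -/
theorem result {R : Type u} [CommRing R] {ι : Type} [Fintype ι] (q : ι → Ideal R) [∀ i, (q i).IsPrime] (hinj : Function.Injective q) (hmin : ∀ P : Ideal R, P ∈ minimalPrimes R ↔ P ∈ Set.range q) (hzd : ∀ x : R, x ∈ nonZeroDivisors R ↔ ∀ i, x ∉ q i) : IsLocalization (nonZeroDivisors R) (∀ i, Localization.AtPrime (q i)) := by
  classical
  rw [isLocalization_iff]
  have hminq : ∀ i, q i ∈ minimalPrimes R := fun i => (hmin (q i)).mpr ⟨i, rfl⟩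
  have hcomp : ∀ (x : R) (i : ι), algebraMap R (∀ i, Localization.AtPrime (q i)) x i =
      algebraMap R (Localization.AtPrime (q i)) x := fun x i => rfl
  refine ⟨?_, ?_, ?_⟩
  · rintro ⟨s, hs⟩
    rw [Pi.isUnit_iff]
    intro i
    exact IsLocalization.map_units (M := (q i).primeCompl) _ ⟨s, (hzd s).mp hs i⟩
  · intro z
    have h1 : ∀ i, ∃ (a : R) (t : (q i).primeCompl),
        z i * algebraMap R (Localization.AtPrime (q i)) (t : R) =
          algebraMap R (Localization.AtPrime (q i)) a := fun i => by
      obtain ⟨⟨a, t⟩, h⟩ := IsLocalization.surj (q i).primeCompl (z i)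
      exact ⟨a, t, h⟩
    choose a t hat using h1
    have h2 : ∀ i, ∃ e : R, e ∉ q i ∧ ∀ j, j ≠ i → e ∈ q j := by
      intro i
      have hnle : ¬ (∏ j ∈ Finset.univ.erase i, q j) ≤ q i := by
        rw [(inferInstance : (q i).IsPrime).prod_le]
        rintro ⟨j, hj, hji⟩
        have : q j = q i := le_antisymm hji ((hminq i).2 (hminq j).1 hji)
        exact (Finset.ne_of_mem_erase hj) (hinj this)
      obtain ⟨e, he, hei⟩ := SetLike.not_le_iff_exists.mp hnle
      exact ⟨e, hei, fun j hj => Ideal.prod_le_inf.trans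
        (Finset.inf_le (Finset.mem_erase.mpr ⟨hj, Finset.mem_univ j⟩)) he⟩
    choose e he_not he_mem using h2
    have h3 : ∀ i j, ∃ N : ℕ, j ≠ i →
        algebraMap R (Localization.AtPrime (q i)) (e j) ^ N = 0 := by
      intro i j
      by_cases hji : j = i
      · exact ⟨0, fun h => absurd hji h⟩
      · have hmem : algebraMap R (Localization.AtPrime (q i)) (e j) ∈
            (q i).map (algebraMap R (Localization.AtPrime (q i))) :=
          Ideal.mem_map_of_mem _ (he_mem j i (fun h => hji h.symm))
        rw [← IsLocalization.AtPrime.radical_map_of_mem_minimalPrimes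
          (A := Localization.AtPrime (q i)) (q i) ⊥ (hminq i), Ideal.map_bot] at hmem
        obtain ⟨N, hN⟩ := hmem
        exact ⟨N, fun _ => hN⟩
    choose N hN using h3
    let N₀ : ℕ := ∑ i, ∑ j, N i j
    have hN₀ : ∀ i j, j ≠ i → algebraMap R (Localization.AtPrime (q i)) (e j) ^ N₀ = 0 := by
      intro i j hji
      refine pow_eq_zero_of_le ?_ (hN i j hji)
      calc N i j ≤ ∑ j', N i j' :=
            Finset.single_le_sum (f := fun j' => N i j') (fun _ _ => Nat.zero_le _) (Finset.mem_univ j)
        _ ≤ N₀ := Finset.single_le_sum (f := fun i' => ∑ j', N i' j')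
            (fun _ _ => Nat.zero_le _) (Finset.mem_univ i)
    have hsS : (∑ j, (t j : R) * e j ^ N₀) ∈ nonZeroDivisors R := by
      rw [hzd]
      intro i hmem
      have hrest : ∑ j ∈ Finset.univ.erase i, (t j : R) * e j ^ N₀ ∈ q i := by
        refine Submodule.sum_mem _ fun j hj => ?_
        have hji : j ≠ i := Finset.ne_of_mem_erase hj
        have hN0 : N₀ ≠ 0 := by
          intro h0
          have := hN₀ i j hji
          rw [h0, pow_zero] at this
          exact one_ne_zero this
        exact Ideal.mul_mem_left _ _ (Ideal.pow_mem_of_mem _ (he_mem j i (fun h => hji h.symm)) _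
          (Nat.pos_of_ne_zero hN0))
      rw [← Finset.add_sum_erase _ _ (Finset.mem_univ i)] at hmem
      have h4 : (t i : R) * e i ^ N₀ ∈ q i := by
        have := (q i).sub_mem hmem hrest
        simpa using this
      rcases (inferInstance : (q i).IsPrime).mem_or_mem h4 with h5 | h5
      · exact (t i).2 h5
      · exact he_not i ((inferInstance : (q i).IsPrime).mem_of_pow_mem _ h5)
    refine ⟨(∑ j, a j * e j ^ N₀, ⟨∑ j, (t j : R) * e j ^ N₀, hsS⟩), ?_⟩
    funext i
    rw [Pi.mul_apply, hcomp, hcomp]
    simp only [map_sum, map_mul, map_pow]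
    rw [Finset.sum_eq_single i (fun j _ hji => by rw [hN₀ i j hji, mul_zero])
        (fun h => absurd (Finset.mem_univ i) h),
      Finset.sum_eq_single i (fun j _ hji => by rw [hN₀ i j hji, mul_zero])
        (fun h => absurd (Finset.mem_univ i) h), ← mul_assoc, hat]
  · intro x y hxy
    by_cases hι : Nonempty ι
    · obtain ⟨i₀⟩ := hι
      have h1 : ∀ i, ∃ c : R, c ∉ q i ∧ c * (x - y) = 0 := by
        intro i
        have := congrFun hxy i
        rw [hcomp, hcomp] at this
        obtain ⟨c, hc⟩ := (IsLocalization.eq_iff_exists (q i).primeCompl _).mp this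
        exact ⟨c, c.2, by rw [mul_sub, hc, sub_self]⟩
      let I : Ideal R := LinearMap.ker (LinearMap.toSpanSingleton R R (x - y))
      have hI : ∀ c, c ∈ I ↔ c * (x - y) = 0 := fun c => by
        simp [I, LinearMap.mem_ker, LinearMap.toSpanSingleton_apply]
      have hnot : ¬ ((I : Set R) ⊆ ⋃ i ∈ ((Finset.univ : Finset ι) : Set ι), (q i : Set R)) := by
        rw [Ideal.subset_union_prime i₀ i₀ (fun i _ _ _ => inferInstance)]
        rintro ⟨i, -, hi⟩
        obtain ⟨c, hc, hc0⟩ := h1 i
        exact hc (hi ((hI c).mpr hc0))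
      rw [Set.not_subset] at hnot
      obtain ⟨s, hsI, hs⟩ := hnot
      have hsS : s ∈ nonZeroDivisors R := by
        rw [hzd]
        intro i hi
        exact hs (Set.mem_biUnion (Finset.mem_coe.mpr (Finset.mem_univ i)) hi)
      refine ⟨⟨s, hsS⟩, ?_⟩
      have := (hI s).mp hsI
      rw [mul_sub, sub_eq_zero] at this
      exact this
    · have h0 : (0 : R) ∈ nonZeroDivisors R := by
        rw [hzd]
        intro i
        exact absurd ⟨i⟩ hι
      exact ⟨⟨0, h0⟩, by simp⟩

end Groth.Agent.S6294
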