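import Groth.Statements.S6295
import Mathlib.RingTheory.Ideal.MinimalPrime.Localization
import Mathlib.RingTheory.LocalProperties.Reduced
import Mathlib.RingTheory.LocalRing.MaximalIdeal.Basic
-- import your own Groth.Agent.* helpers here

set_option autoImplicit false
universe u
open CAlg

namespace Groth.Agent.S6295

/-- Let R be a reduced ring. Then every localization R_p at a minimal prime p is a field and the map R →
∏_{p minimal} R_p is injective (so R is a subring of a product of fields); moreover the set of
zerodivisors of R is the union of the minimal primes. -/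
theorem result (R : Type u) [CommRing R] [IsReduced R] : (∀ p : PrimeSpectrum R, p.asIdeal ∈ minimalPrimes R → IsField (Localization.AtPrime p.asIdeal)) ∧ Function.Injective (algebraMap R (∀ p : {p : PrimeSpectrum R // p.asIdeal ∈ minimalPrimes R}, Localization.AtPrime p.1.asIdeal)) ∧ (∀ x : R, x ∉ nonZeroDivisors R ↔ ∃ p ∈ minimalPrimes R, x ∈ p) := by
  refine ⟨?_, ?_, ?_⟩
  · intro p hp
    have : IsReduced (Localization.AtPrime p.asIdeal) := inferInstance
    rw [IsLocalRing.isField_iff_maximalIdeal_eq,
      ← IsLocalization.AtPrime.map_eq_maximalIdeal p.asIdeal (Localization.AtPrime p.asIdeal),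
      ← IsLocalization.AtPrime.radical_map_of_mem_minimalPrimes (A := Localization.AtPrime p.asIdeal)
        p.asIdeal ⊥ hp, Ideal.map_bot]
    exact nilradical_eq_zero _
  · rw [injective_iff_map_eq_zero]
    intro x hx
    have hx' : x ∈ nilradical R := by
      rw [nilradical_eq_sInf]
      rw [Ideal.mem_sInf]
      intro q hq
      have hqp : q.IsPrime := hq
      obtain ⟨p, hp, hpq⟩ := Ideal.exists_minimalPrimes_le (I := ⊥) (J := q) bot_le
      have hpp : p.IsPrime := hp.1.1
      apply hpq
      have h1 : algebraMap R (Localization.AtPrime p) x = 0 :=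
        congrFun hx ⟨⟨p, hpp⟩, hp⟩
      rw [IsLocalization.map_eq_zero_iff p.primeCompl] at h1
      obtain ⟨s, hs⟩ := h1
      have : (s : R) * x ∈ p := hs ▸ p.zero_mem
      exact (hpp.mem_or_mem this).resolve_left s.2
    rwa [nilradical_eq_zero, Ideal.zero_eq_bot, Ideal.mem_bot] at hx'
  · intro x
    constructor
    · intro hx
      rw [mem_nonZeroDivisors_iff_right] at hx
      push Not at hx
      obtain ⟨y, hxy, hy⟩ := hx
      have hy' : y ∉ nilradical R := by
        rw [nilradical_eq_zero, Ideal.zero_eq_bot, Ideal.mem_bot]; exact hy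
      rw [nilradical, ← Ideal.sInf_minimalPrimes, Ideal.mem_sInf] at hy'
      push Not at hy'
      obtain ⟨p, hp, hyp⟩ := hy'
      refine ⟨p, hp, ?_⟩
      have : x * y ∈ p := by rw [mul_comm, hxy]; exact p.zero_mem
      exact (hp.1.1.mem_or_mem this).resolve_right hyp
    · rintro ⟨p, hp, hxp⟩
      exact notMem_nonZeroDivisors_of_mem_mem_minimalPrimes hxp hp

end Groth.Agent.S6295
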