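import Groth.Statements.S6297
import Mathlib.LinearAlgebra.Matrix.Adjugate
import Mathlib.LinearAlgebra.Matrix.Determinant.Basic
-- import your own Groth.Agent.* helpers here

set_option autoImplicit false
universe u
open CAlg

namespace Groth.Agent.S6297

lemma det_mul_mem {R : Type u} [CommRing R] {n m : ℕ} (A : Matrix (Fin n) (Fin m) R)
    (B : Matrix (Fin m) (Fin n) R) : (B * A).det ∈ CAlgX.minorIdeal A m := by
  classical
  have h1 : (B * A) = (fun i => ∑ j, B i j • A j) := by
    ext i k
    simp [Matrix.mul_apply, Finset.sum_apply]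
  have h2 : (B * A).det = ∑ r : Fin m → Fin n, (∏ i, B i (r i)) * (A.submatrix r id).det := by
    change Matrix.detRowAlternating (B * A) = _
    rw [h1]
    have := (Matrix.detRowAlternating (R := R) (n := Fin m)).toMultilinearMap.map_sum
      (fun i j => B i j • A j)
    simp only [AlternatingMap.coe_multilinearMap] at this
    rw [this]
    refine Finset.sum_congr rfl fun r _ => ?_
    have h3 := (Matrix.detRowAlternating (R := R) (n := Fin m)).toMultilinearMap.map_smul_univ
      (fun i => B i (r i)) (fun i => A (r i))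
    simp only [AlternatingMap.coe_multilinearMap] at h3
    rw [h3, smul_eq_mul]
    rfl
  rw [h2]
  refine Ideal.sum_mem _ fun r _ => Ideal.mul_mem_left _ _ ?_
  exact Ideal.subset_span ⟨(r, id), rfl⟩

lemma exists_left_inv_gen {R : Type u} [CommRing R] {n m : ℕ} (A : Matrix (Fin n) (Fin m) R)
    (r : Fin m → Fin n) (c : Fin m → Fin m) :
    ∃ B : Matrix (Fin m) (Fin n) R,
      B * A = (A.submatrix r c).det • (1 : Matrix (Fin m) (Fin m) R) := by
  classical
  -- A.submatrix r c = (A.submatrix r id) * (1.submatrix id c)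
  have h1 : A.submatrix r c = (A.submatrix r id) * ((1 : Matrix (Fin m) (Fin m) R).submatrix id c) := by
    ext i k
    simp [Matrix.mul_apply, Matrix.one_apply]
  have h2 : ((1 : Matrix (Fin n) (Fin n) R).submatrix r id) * A = A.submatrix r id := by
    ext i k
    simp [Matrix.mul_apply, Matrix.one_apply]
  refine ⟨((1 : Matrix (Fin m) (Fin m) R).submatrix id c).det •
    ((A.submatrix r id).adjugate * ((1 : Matrix (Fin n) (Fin n) R).submatrix r id)), ?_⟩
  rw [Matrix.smul_mul, Matrix.mul_assoc, h2, Matrix.adjugate_mul, h1, Matrix.det_mul, smul_smul,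
    mul_comm]

/-- Let R be a ring, m ≤ n, A an n × m matrix over R and J the ideal generated by the m × m minors of A.
(1) For every f ∈ J there is an m × n matrix B with BA = f · 1. (2) If BA = f · 1 for some m × n
matrix B, then f^m ∈ J. -/
theorem result {R : Type u} [CommRing R] {n m : ℕ} (hmn : m ≤ n) (A : Matrix (Fin n) (Fin m) R) : (∀ f ∈ CAlgX.minorIdeal A m, ∃ B : Matrix (Fin m) (Fin n) R, B * A = f • (1 : Matrix (Fin m) (Fin m) R)) ∧ (∀ (f : R) (B : Matrix (Fin m) (Fin n) R), B * A = f • (1 : Matrix (Fin m) (Fin m) R) → f ^ m ∈ CAlgX.minorIdeal A m) := by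
  classical
  constructor
  · intro f hf
    refine Submodule.span_induction (p := fun f _ => ∃ B : Matrix (Fin m) (Fin n) R,
      B * A = f • (1 : Matrix (Fin m) (Fin m) R)) ?_ ?_ ?_ ?_ hf
    · rintro _ ⟨⟨r, c⟩, rfl⟩
      exact exists_left_inv_gen A r c
    · exact ⟨0, by simp⟩
    · rintro x y _ _ ⟨B₁, h₁⟩ ⟨B₂, h₂⟩
      exact ⟨B₁ + B₂, by rw [Matrix.add_mul, h₁, h₂, add_smul]⟩
    · rintro a x _ ⟨B, hB⟩
      exact ⟨a • B, by rw [Matrix.smul_mul, hB, smul_smul, smul_eq_mul]⟩
  · intro f B hB
    have hdet : (B * A).det = f ^ m := by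
      rw [hB, Matrix.det_smul, Matrix.det_one, mul_one, Fintype.card_fin]
    rw [← hdet]
    exact det_mul_mem A B

end Groth.Agent.S6297
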