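import Groth.Statements.S6298
import Mathlib
-- import your own Groth.Agent.* helpers here

set_option autoImplicit false
universe u
open CAlg

namespace Groth.Agent.S6298


theorem aux {R : Type u} [CommRing R] (x : R) (I : Ideal R) :
    ∀ (n : ℕ) (s : Finset (Ideal R)), s.card = n → (∀ p ∈ s, p.IsPrime) →
      (∀ p ∈ s, ∃ y ∈ I, x + y ∉ p) → ∃ y ∈ I, ∀ p ∈ s, x + y ∉ p := by
  classical
  intro n
  induction n with
  | zero =>
    intro s hs _ _
    rw [Finset.card_eq_zero] at hs
    subst hs
    exact ⟨0, I.zero_mem, by simp⟩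
  | succ n ih =>
    intro s hs hprime h
    have hne : s.Nonempty := by rw [← Finset.card_pos]; omega
    obtain ⟨q, hqs, hqmin⟩ := s.exists_minimal hne
    have htcard : (s.erase q).card = n := by rw [Finset.card_erase_of_mem hqs]; omega
    obtain ⟨y, hyI, hy⟩ := ih (s.erase q) htcard
      (fun p hp => hprime p (Finset.mem_of_mem_erase hp))
      (fun p hp => h p (Finset.mem_of_mem_erase hp))
    by_cases hxq : x + y ∈ q
    · have hq := hprime q hqs
      have hIq : ¬ I ≤ q := by
        intro hle
        obtain ⟨y', hy'I, hy'⟩ := h q hqs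
        apply hy'
        have : x + y' = (x + y) + (y' - y) := by ring
        rw [this]
        exact q.add_mem hxq (hle (I.sub_mem hy'I hyI))
      have hprod : ¬ (I * (s.erase q).prod id) ≤ q := by
        rw [Ideal.IsPrime.mul_le hq]
        push Not
        refine ⟨hIq, ?_⟩
        rw [Ideal.IsPrime.prod_le hq]
        push Not
        intro p hp hpq
        have hps := Finset.mem_of_mem_erase hp
        have hne : p ≠ q := Finset.ne_of_mem_erase hp
        exact hne (le_antisymm hpq (hqmin hps hpq))
      obtain ⟨z, hz, hzq⟩ := SetLike.not_le_iff_exists.mp hprod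
      have hzI : z ∈ I := (Ideal.mul_le_left (I := I) (J := (s.erase q).prod id)) hz
      have hzP : z ∈ (s.erase q).prod id :=
        (Ideal.mul_le_right (I := I) (J := (s.erase q).prod id)) hz
      refine ⟨y + z, I.add_mem hyI hzI, ?_⟩
      intro p hp
      by_cases hpq : p = q
      · subst hpq
        intro hmem
        apply hzq
        have : z = (x + (y + z)) - (x + y) := by ring
        rw [this]
        exact p.sub_mem hmem hxq
      · have hpe : p ∈ s.erase q := Finset.mem_erase.mpr ⟨hpq, hp⟩
        have hzp : z ∈ p := by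
          have h1 : z ∈ (s.erase q).prod id := hzP
          have h2 : (s.erase q).prod id ≤ p :=
            Ideal.prod_le_inf.trans (Finset.inf_le hpe)
          exact h2 h1
        intro hmem
        apply hy p hpe
        have : x + y = (x + (y + z)) - z := by ring
        rw [this]
        exact p.sub_mem hmem hzp
    · refine ⟨y, hyI, ?_⟩
      intro p hp
      by_cases hpq : p = q
      · subst hpq; exact hxq
      · exact hy p (Finset.mem_erase.mpr ⟨hpq, hp⟩)

/-- Let R be a ring, x ∈ R, I ⊆ R an ideal and p₁, …, p_r prime ideals such that for each i the coset x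
+ I is not contained in p_i. Then there is y ∈ I with x + y ∉ p_i for all i. -/
theorem result {R : Type u} [CommRing R] (x : R) (I : Ideal R) {r : ℕ} (p : Fin r → Ideal R) [∀ i, (p i).IsPrime] (h : ∀ i, ∃ y ∈ I, x + y ∉ p i) : ∃ y ∈ I, ∀ i, x + y ∉ p i := by
  classical
  obtain ⟨y, hyI, hy⟩ := aux x I _ (Finset.univ.image p) rfl
    (by
      intro q hq
      obtain ⟨i, _, rfl⟩ := Finset.mem_image.mp hq
      infer_instance)
    (by
      intro q hq
      obtain ⟨i, _, rfl⟩ := Finset.mem_image.mp hq
      exact h i)
  exact ⟨y, hyI, fun i => hy (p i) (Finset.mem_image.mpr ⟨i, Finset.mem_univ i, rfl⟩)⟩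

end Groth.Agent.S6298
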