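import Groth.Statements.S6300
import Mathlib.RingTheory.Polynomial.IsIntegral
import Mathlib.RingTheory.Localization.Algebra
import Mathlib.RingTheory.Localization.LocalizationLocalization
import Mathlib.RingTheory.IntegralClosure.IntegrallyClosed
-- import your own Groth.Agent.* helpers here

set_option autoImplicit false
universe u
open CAlg

namespace Groth.Agent.S6300

attribute [local instance] Polynomial.algebra

/-- Let R be a normal ring (every localization at a prime is an integrally closed domain). Then R[x] is
a normal ring. -/
theorem result (R : Type u) [CommRing R] (hR : EGA4.IsNormalRing R) : EGA4.IsNormalRing (Polynomial R) := by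
  intro P hP
  have hp : (P.comap (Polynomial.C : R →+* Polynomial R)).IsPrime := Ideal.comap_isPrime _ _
  obtain ⟨hdom, hic⟩ := hR (P.comap (Polynomial.C : R →+* Polynomial R))
  have hS : IsLocalization ((P.comap (Polynomial.C : R →+* Polynomial R)).primeCompl.map Polynomial.C)
      (Polynomial (Localization.AtPrime (P.comap (Polynomial.C : R →+* Polynomial R)))) :=
    Polynomial.isLocalization _ _
  have hle : (P.comap (Polynomial.C : R →+* Polynomial R)).primeCompl.map Polynomial.C ≤
      P.primeCompl := by
    rintro _ ⟨r, hr, rfl⟩
    exact hr
  let φ : Polynomial (Localization.AtPrime (P.comap (Polynomial.C : R →+* Polynomial R))) →+*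
      Localization.AtPrime P :=
    IsLocalization.lift
      (M := (P.comap (Polynomial.C : R →+* Polynomial R)).primeCompl.map Polynomial.C)
      (g := algebraMap (Polynomial R) (Localization.AtPrime P))
      (fun y => IsLocalization.map_units (Localization.AtPrime P) ⟨y.1, hle y.2⟩)
  letI : Algebra (Polynomial (Localization.AtPrime (P.comap (Polynomial.C : R →+* Polynomial R))))
      (Localization.AtPrime P) := φ.toAlgebra
  have : IsScalarTower (Polynomial R)
      (Polynomial (Localization.AtPrime (P.comap (Polynomial.C : R →+* Polynomial R))))
      (Localization.AtPrime P) :=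
    IsScalarTower.of_algebraMap_eq' (by
      rw [RingHom.algebraMap_toAlgebra]
      exact (IsLocalization.lift_comp _).symm)
  have hloc : IsLocalization (P.primeCompl.map (algebraMap (Polynomial R)
      (Polynomial (Localization.AtPrime (P.comap (Polynomial.C : R →+* Polynomial R))))))
      (Localization.AtPrime P) :=
    IsLocalization.isLocalization_of_submonoid_le _ _ _ _ hle
  have hN : P.primeCompl.map (algebraMap (Polynomial R)
      (Polynomial (Localization.AtPrime (P.comap (Polynomial.C : R →+* Polynomial R))))) ≤
      nonZeroDivisors _ := by
    intro x hx
    apply mem_nonZeroDivisors_of_ne_zero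
    rintro rfl
    have h0 := IsLocalization.map_units (Localization.AtPrime P)
      (⟨0, hx⟩ : (P.primeCompl.map (algebraMap (Polynomial R)
      (Polynomial (Localization.AtPrime (P.comap (Polynomial.C : R →+* Polynomial R)))))))
    rw [map_zero] at h0
    exact not_isUnit_zero h0
  exact ⟨IsLocalization.isDomain_of_le_nonZeroDivisors _ hN,
    isIntegrallyClosed_of_isLocalization _ _ hN⟩

end Groth.Agent.S6300
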