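import Groth.Statements.S6301
import Mathlib.RingTheory.Flat.EquationalCriterion
import Mathlib.RingTheory.Flat.Tensor
import Mathlib.LinearAlgebra.TensorProduct.Finiteness
-- import your own Groth.Agent.* helpers here

set_option autoImplicit false
universe u
open CAlg

open TensorProduct

namespace Groth.Agent.S6301

/-- An R-module M is flat exactly when, for every finitely presented R-module P and every surjective
R-module map N → M, the induced map Hom_R(P, N) → Hom_R(P, M) is surjective (modules P, N taken in
the same universe). -/
theorem result {R : Type u} [CommRing R] (M : Type u) [AddCommGroup M] [Module R M] : Module.Flat R M ↔ ∀ (P : Type u) [AddCommGroup P] [Module R P], Module.FinitePresentation R P → ∀ (N : Type u) [AddCommGroup N] [Module R N] (g : N →ₗ[R] M), Function.Surjective g → ∀ h : P →ₗ[R] M, ∃ h' : P →ₗ[R] N, g.comp h' = h := by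
  classical
  constructor
  · intro hM P _ _ hP N _ _ g hg h
    obtain ⟨k, h₂, h₃, rfl⟩ := Module.Flat.exists_factorization_of_finitePresentation h
    obtain ⟨l, hl⟩ := Module.projective_lifting_property g h₃ hg
    exact ⟨l ∘ₗ h₂, by rw [← LinearMap.comp_assoc, hl]⟩
  · intro H
    rw [Module.Flat.iff_rTensor_injective']
    intro I
    rw [injective_iff_map_eq_zero]
    intro z hz
    obtain ⟨n, a, m, rfl⟩ := TensorProduct.exists_sum_tmul_eq z
    have hsum : ∑ i, (a i : R) • m i = 0 := by
      have := congrArg (TensorProduct.lid R M) hz
      simpa using this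
    let av : Fin n → R := fun i => (a i : R)
    let K : Submodule R (Fin n → R) := Submodule.span R {av}
    let x : (Fin n → R) →ₗ[R] M := Fintype.linearCombination R m
    have hx : K ≤ LinearMap.ker x := by
      rw [Submodule.span_le, Set.singleton_subset_iff]
      simpa [x, av, Fintype.linearCombination_apply] using hsum
    have hP : Module.FinitePresentation R ((Fin n → R) ⧸ K) :=
      Module.finitePresentation_of_free_of_surjective K.mkQ (Submodule.mkQ_surjective K)
        (by rw [Submodule.ker_mkQ]; exact Submodule.fg_span_singleton _)
    let h : ((Fin n → R) ⧸ K) →ₗ[R] M := K.liftQ x hx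
    let g : (M →₀ R) →ₗ[R] M := Finsupp.linearCombination R id
    have hg : Function.Surjective g := fun y => ⟨Finsupp.single y 1, by simp [g]⟩
    obtain ⟨h', hh'⟩ := H ((Fin n → R) ⧸ K) hP (M →₀ R) g hg h
    let nn : Fin n → (M →₀ R) := fun i => h' (K.mkQ (Pi.single i 1))
    have hgn : ∀ i, g (nn i) = m i := by
      intro i
      have := congrArg (fun φ => φ (K.mkQ (Pi.single i 1))) hh'
      simpa [nn, h, x, Fintype.linearCombination_apply] using this
    have hsumN : ∑ i, av i • nn i = 0 := by
      have h1 : ∑ i, av i • nn i = h' (K.mkQ (∑ i, av i • Pi.single i 1)) := by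
        simp only [nn, map_sum, map_smul]
      have h2 : (∑ i, av i • (Pi.single i 1 : Fin n → R)) = av := by
        ext j
        simp [Finset.sum_apply, Pi.single_apply]
      rw [h1, h2]
      have : K.mkQ av = 0 := by
        rw [Submodule.mkQ_apply, Submodule.Quotient.mk_eq_zero]
        exact Submodule.mem_span_singleton_self av
      rw [this, map_zero]
    let w : I ⊗[R] (M →₀ R) := ∑ i, a i ⊗ₜ nn i
    have hw : w = 0 := by
      have hflat : Module.Flat R (M →₀ R) := inferInstance
      apply (Module.Flat.iff_rTensor_injective'.mp hflat I)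
      rw [map_zero]
      apply (TensorProduct.lid R (M →₀ R)).injective
      simpa [w, av] using hsumN
    have hfin : ∑ i, a i ⊗ₜ[R] m i = (LinearMap.lTensor I g) w := by
      simp [w, hgn]
    rw [hfin, hw, map_zero]

end Groth.Agent.S6301
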