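import Groth.Statements.S6302
import Mathlib.LinearAlgebra.TensorProduct.Vanishing
import Mathlib.LinearAlgebra.Isomorphisms
import Mathlib.Algebra.Module.FinitePresentation
import Mathlib.LinearAlgebra.Finsupp.LinearCombination
-- import your own Groth.Agent.* helpers here

set_option autoImplicit false
universe u
open CAlg

namespace Groth.Agent.S6302

open TensorProduct in
/-- Key step: extension of `X` along `A` inside `M₁`, given an extension inside `M₂`. -/
lemma exists_extension {R : Type u} [CommRing R] {M₁ M₂ : Type u} [AddCommGroup M₁] [Module R M₁]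
    [AddCommGroup M₂] [Module R M₂] (f : M₁ →ₗ[R] M₂) (hf : CAlgX.UniversallyInjective R f)
    {r n : ℕ} (k : Fin r → Fin n → R) (x : Fin r → M₁) (y : Fin n → M₂)
    (hxy : ∀ l, f (x l) = ∑ i, k l i • y i) :
    ∃ u : Fin n → M₁, ∀ l, x l = ∑ i, k l i • u i := by
  classical
  let col : Fin n → (Fin r → R) := fun i l => k l i
  let K' : Submodule R (Fin r → R) := Submodule.span R (Set.range col)
  let q : Fin r → ((Fin r → R) ⧸ K') := fun l => K'.mkQ (Pi.single l 1)
  have hcol : ∀ i, ∑ l, k l i • q l = 0 := by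
    intro i
    have h1 : ∑ l, k l i • q l = K'.mkQ (∑ l, k l i • Pi.single l 1) := by
      simp only [q, map_sum, map_smul]
    have h2 : (∑ l, k l i • (Pi.single l 1 : Fin r → R)) = col i := by
      ext l'
      simp [Finset.sum_apply, Pi.single_apply, col]
    rw [h1, h2, Submodule.mkQ_apply, Submodule.Quotient.mk_eq_zero]
    exact Submodule.subset_span ⟨i, rfl⟩
  have hξ : (∑ l, x l ⊗ₜ[R] q l : M₁ ⊗[R] ((Fin r → R) ⧸ K')) = 0 := by
    apply hf ((Fin r → R) ⧸ K')
    rw [map_zero, map_sum]
    simp only [LinearMap.rTensor_tmul, hxy, TensorProduct.sum_tmul, TensorProduct.smul_tmul]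
    rw [Finset.sum_comm]
    simp only [← TensorProduct.tmul_sum, hcol, TensorProduct.tmul_zero, Finset.sum_const_zero]
  have hξ' : (∑ l, q l ⊗ₜ[R] x l : ((Fin r → R) ⧸ K') ⊗[R] M₁) = 0 := by
    have := congrArg (TensorProduct.comm R M₁ ((Fin r → R) ⧸ K')) hξ
    simpa using this
  have hspan : Submodule.span R (Set.range q) = ⊤ := by
    rw [eq_top_iff]
    rintro z -
    obtain ⟨v, rfl⟩ := K'.mkQ_surjective z
    have hv : v = ∑ l, v l • (Pi.single l 1 : Fin r → R) := by
      ext l'
      simp [Finset.sum_apply, Pi.single_apply]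
    rw [hv, map_sum]
    refine Submodule.sum_mem _ fun l _ => ?_
    rw [map_smul]
    exact Submodule.smul_mem _ _ (Submodule.subset_span ⟨l, rfl⟩)
  obtain ⟨κ, a, u', hx, ha⟩ := TensorProduct.vanishesTrivially_of_sum_tmul_eq_zero R hspan hξ'
  have hd : ∀ j : Fin κ, ∃ d : Fin n → R, ∀ l, a l j = ∑ i, d i * k l i := by
    intro j
    have h1 : (fun l => a l j) ∈ K' := by
      rw [← Submodule.Quotient.mk_eq_zero, ← Submodule.mkQ_apply]
      have hv : (fun l => a l j) = ∑ l, a l j • (Pi.single l 1 : Fin r → R) := by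
        ext l'
        simp [Finset.sum_apply, Pi.single_apply]
      rw [hv, map_sum]
      simpa only [map_smul] using ha j
    obtain ⟨d, hd⟩ := (Submodule.mem_span_range_iff_exists_fun R).mp h1
    refine ⟨d, fun l => ?_⟩
    have := congrFun hd l
    simp only [Finset.sum_apply, Pi.smul_apply, smul_eq_mul, col] at this
    exact this.symm
  choose d hd using hd
  refine ⟨fun i => ∑ j, d j i • u' j, fun l => ?_⟩
  rw [hx l]
  simp only [Finset.smul_sum, smul_smul]
  rw [Finset.sum_comm]
  refine Finset.sum_congr rfl fun j _ => ?_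
  rw [hd j l, Finset.sum_smul]
  refine Finset.sum_congr rfl fun i _ => ?_
  rw [mul_comm]

/-- Let 0 → M₁ → M₂ → M₃ → 0 be a short exact sequence of R-modules with M₃ of finite presentation. If
the sequence is universally exact (its first map is universally injective) then it is split: M₂ → M₃
admits a section. (The converse, split implies universally exact, is elementary and not stated.) -/
theorem result {R : Type u} [CommRing R] {M₁ M₂ M₃ : Type u} [AddCommGroup M₁] [Module R M₁] [AddCommGroup M₂] [Module R M₂] [AddCommGroup M₃] [Module R M₃] [Module.FinitePresentation R M₃] (f : M₁ →ₗ[R] M₂) (g : M₂ →ₗ[R] M₃) (hexact : Function.Exact f g) (hg : Function.Surjective g) (hf : CAlgX.UniversallyInjective R f) : ∃ s : M₃ →ₗ[R] M₂, g.comp s = LinearMap.id := by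
  classical
  obtain ⟨n, r, π, A, hπ, hAπ⟩ := Module.FinitePresentation.exists_fin' R M₃
  -- lift generators
  have hy : ∀ i : Fin n, ∃ y : M₂, g y = π (Pi.single i 1) := fun i => hg _
  choose y hy using hy
  let k : Fin r → Fin n → R := fun l i => A (Pi.single l 1) i
  have hgY : ∀ v : Fin n → R, g (∑ i, v i • y i) = π v := by
    intro v
    have hv : v = ∑ i, v i • (Pi.single i 1 : Fin n → R) := by
      ext i'
      simp [Finset.sum_apply, Pi.single_apply]
    conv_rhs => rw [hv]
    simp only [map_sum, map_smul, hy]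
  have hx : ∀ l : Fin r, ∃ x : M₁, f x = ∑ i, k l i • y i := by
    intro l
    apply (hexact _).mp
    rw [hgY]
    exact hAπ.apply_apply_eq_zero _
  choose x hx using hx
  obtain ⟨u, hu⟩ := exists_extension f hf k x y hx
  -- the map on the free module
  let s₀ : (Fin n → R) →ₗ[R] M₂ := Fintype.linearCombination R (fun i => y i - f (u i))
  have hs₀ : ∀ v, s₀ v = ∑ i, v i • (y i - f (u i)) := fun v => by
    simp [s₀, Fintype.linearCombination_apply]
  have hgs₀ : ∀ v, g (s₀ v) = π v := by
    intro v
    rw [hs₀, ← hgY v, map_sum, map_sum]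
    refine Finset.sum_congr rfl fun i _ => ?_
    rw [map_smul, map_smul, map_sub, hexact.apply_apply_eq_zero, sub_zero]
  have hker : LinearMap.ker π ≤ LinearMap.ker s₀ := by
    intro v hv
    obtain ⟨w, rfl⟩ := (hAπ v).mp hv
    have hw : w = ∑ l, w l • (Pi.single l 1 : Fin r → R) := by
      ext l'
      simp [Finset.sum_apply, Pi.single_apply]
    rw [LinearMap.mem_ker, hw, map_sum, map_sum]
    refine Finset.sum_eq_zero fun l _ => ?_
    rw [map_smul, map_smul, hs₀]
    have : ∑ i, (A (Pi.single l 1)) i • (y i - f (u i)) = 0 := by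
      simp only [smul_sub, Finset.sum_sub_distrib]
      have h1 : ∑ i, (A (Pi.single l 1)) i • y i = f (x l) := (hx l).symm
      have h2 : ∑ i, (A (Pi.single l 1)) i • f (u i) = f (x l) := by
        rw [hu l, map_sum]
        refine Finset.sum_congr rfl fun i _ => ?_
        rw [map_smul]
      rw [h1, h2, sub_self]
    rw [this, smul_zero]
  refine ⟨(LinearMap.ker π).liftQ s₀ hker ∘ₗ (π.quotKerEquivOfSurjective hπ).symm.toLinearMap, ?_⟩
  ext w
  obtain ⟨v, rfl⟩ := hπ w
  simp only [LinearMap.comp_apply, LinearEquiv.coe_toLinearMap, LinearMap.id_apply,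
    LinearMap.quotKerEquivOfSurjective_symm_apply, Submodule.liftQ_apply]
  exact hgs₀ v

end Groth.Agent.S6302
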