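import Groth.Statements.S6303
import Mathlib
-- import your own Groth.Agent.* helpers here

set_option autoImplicit false
universe u
open CAlg

namespace Groth.Agent.S6303

/-- Let R be a ring, I, J ⊆ R ideals and M a flat R-module. Then IM ∩ JM = (I ∩ J)M. -/
theorem result {R : Type u} [CommRing R] (I J : Ideal R) (M : Type u) [AddCommGroup M] [Module R M] [Module.Flat R M] : (I • (⊤ : Submodule R M)) ⊓ (J • ⊤) = (I ⊓ J) • (⊤ : Submodule R M) := by
  apply le_antisymm
  · rintro x ⟨hxI, hxJ⟩
    have key : ∀ (K : Ideal R) (y : M), y ∈ K • (⊤ : Submodule R M) ↔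
        y ⊗ₜ[R] (Ideal.Quotient.mk K 1) = (0 : TensorProduct R M (R ⧸ K)) := by
      intro K y
      rw [← (TensorProduct.tensorQuotEquivQuotSMul M K).map_eq_zero_iff,
        TensorProduct.tensorQuotEquivQuotSMul_tmul_mk, one_smul, Submodule.Quotient.mk_eq_zero]
    let φ : (R ⧸ (I ⊓ J)) →ₗ[R] (R ⧸ I) × (R ⧸ J) :=
      (Submodule.liftQ (I ⊓ J) (Submodule.mkQ I)
        (by intro r hr; simp only [Submodule.ker_mkQ]; exact hr.1)).prod
      (Submodule.liftQ (I ⊓ J) (Submodule.mkQ J)
        (by intro r hr; simp only [Submodule.ker_mkQ]; exact hr.2))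
    have hφ : Function.Injective φ := by
      rw [injective_iff_map_eq_zero]
      intro r hr
      obtain ⟨r, rfl⟩ := Submodule.mkQ_surjective _ r
      have h1 : (Submodule.mkQ I) r = 0 := congrArg Prod.fst hr
      have h2 : (Submodule.mkQ J) r = 0 := congrArg Prod.snd hr
      rw [Submodule.mkQ_apply, Submodule.Quotient.mk_eq_zero] at h1 h2
      rw [Submodule.mkQ_apply, Submodule.Quotient.mk_eq_zero]
      exact ⟨h1, h2⟩
    have h1 := Module.Flat.lTensor_preserves_injective_linearMap (M := M) φ hφ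
    rw [key]
    apply h1
    rw [map_zero, LinearMap.lTensor_tmul]
    apply (TensorProduct.prodRight R R M (R ⧸ I) (R ⧸ J)).injective
    rw [map_zero, TensorProduct.prodRight_tmul]
    have e1 : (φ (Ideal.Quotient.mk (I ⊓ J) 1)).1 = Ideal.Quotient.mk I 1 := rfl
    have e2 : (φ (Ideal.Quotient.mk (I ⊓ J) 1)).2 = Ideal.Quotient.mk J 1 := rfl
    rw [e1, e2, (key I x).mp hxI, (key J x).mp hxJ]
    rfl
  · exact le_inf (Submodule.smul_mono_left inf_le_left) (Submodule.smul_mono_left inf_le_right)

end Groth.Agent.S6303
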