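import Groth.Statements.S6304
import Mathlib
-- import your own Groth.Agent.* helpers here

set_option autoImplicit false
universe u
open CAlg

namespace Groth.Agent.S6304

/-- In a short exact sequence 0 → M' → M → M'' → 0 of R-modules whose right-hand term M'' is flat, the
middle term M is flat when M' is, and M' is flat when M is. -/
theorem result {R : Type u} [CommRing R] {M' M M'' : Type u} [AddCommGroup M'] [Module R M'] [AddCommGroup M] [Module R M] [AddCommGroup M''] [Module R M''] (f : M' →ₗ[R] M) (g : M →ₗ[R] M'') (hf : Function.Injective f) (hexact : Function.Exact f g) (hg : Function.Surjective g) [Module.Flat R M''] : (Module.Flat R M' → Module.Flat R M) ∧ (Module.Flat R M → Module.Flat R M') := by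
  have hfr : ∀ (A : Type u) [AddCommGroup A] [Module R A], Function.Injective (f.rTensor A) := by
    intro A _ _
    rw [← LinearMap.lTensor_inj_iff_rTensor_inj]
    exact LinearMap.lTensor_injective_of_exact_of_flat g hg f hf hexact A
  refine ⟨?_, ?_⟩
  · intro hM'
    rw [Module.Flat.iff_lTensor_preserves_injective_linearMap]
    intro N' N _ _ _ _ h hh
    rw [injective_iff_map_eq_zero]
    intro x hx
    -- image of x in M'' ⊗ N' is zero
    have h1 : (h.lTensor M'') (g.rTensor N' x) = 0 := by
      rw [← LinearMap.comp_apply, LinearMap.lTensor_comp_rTensor, ← LinearMap.rTensor_comp_lTensor,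
        LinearMap.comp_apply, hx, map_zero]
    have h2 : g.rTensor N' x = 0 := by
      have := Module.Flat.lTensor_preserves_injective_linearMap (M := M'') h hh
      exact (injective_iff_map_eq_zero _).mp this _ h1
    obtain ⟨y, rfl⟩ := (rTensor_exact N' hexact hg x).mp h2
    have h3 : (f.rTensor N) (h.lTensor M' y) = 0 := by
      rw [← LinearMap.comp_apply, LinearMap.rTensor_comp_lTensor, ← LinearMap.lTensor_comp_rTensor,
        LinearMap.comp_apply, hx]
    have h4 : h.lTensor M' y = 0 := (injective_iff_map_eq_zero _).mp (hfr N) _ h3
    have h5 : y = 0 := by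
      have := Module.Flat.lTensor_preserves_injective_linearMap (M := M') h hh
      exact (injective_iff_map_eq_zero _).mp this _ h4
    rw [h5, map_zero]
  · intro hM
    rw [Module.Flat.iff_lTensor_preserves_injective_linearMap]
    intro N' N _ _ _ _ h hh
    have h2 : Function.Injective (h.lTensor M) :=
      Module.Flat.lTensor_preserves_injective_linearMap h hh
    have h3 : Function.Injective ((h.lTensor M) ∘ (f.rTensor N')) := h2.comp (hfr N')
    have h4 : (h.lTensor M) ∘ (f.rTensor N') = (f.rTensor N) ∘ (h.lTensor M') := by
      rw [← LinearMap.coe_comp, ← LinearMap.coe_comp, LinearMap.lTensor_comp_rTensor,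
        LinearMap.rTensor_comp_lTensor]
    rw [h4] at h3
    exact Function.Injective.of_comp h3

end Groth.Agent.S6304
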