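import Groth.Statements.S6305
import Mathlib.RingTheory.Flat.Equalizer
import Mathlib.LinearAlgebra.TensorProduct.RightExactness
-- import your own Groth.Agent.* helpers here

set_option autoImplicit false
universe u
open CAlg

open CAlgX

namespace Groth.Agent.S6305

lemma flat_of_univInj {R : Type u} [CommRing R] {M₁ M₂ M : Type u} [AddCommGroup M₁] [Module R M₁]
    [AddCommGroup M₂] [Module R M₂] [AddCommGroup M] [Module R M]
    (f : M₁ →ₗ[R] M₂) (g : M₂ →ₗ[R] M) (hex : Function.Exact f g) (hg : Function.Surjective g)
    [Module.Flat R M₂]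
    (hU : CAlgX.UniversallyInjective R f) :
    Module.Flat R M := by
  rw [Module.Flat.iff_lTensor_preserves_injective_linearMap]
  intro N' N _ _ _ _ i hi
  let q : N →ₗ[R] (N ⧸ LinearMap.range i) := (LinearMap.range i).mkQ
  have hq : Function.Surjective q := Submodule.mkQ_surjective _
  have hiq : Function.Exact i q := LinearMap.exact_map_mkQ_range i
  have hβ : Function.Injective (i.lTensor M₂) :=
    Module.Flat.lTensor_preserves_injective_linearMap i hi
  have hUQ : Function.Injective (f.rTensor (N ⧸ LinearMap.range i)) := hU _
  have row' : Function.Exact (f.rTensor N') (g.rTensor N') := rTensor_exact N' hex hg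
  have row : Function.Exact (f.rTensor N) (g.rTensor N) := rTensor_exact N hex hg
  have colK : Function.Exact (i.lTensor M₁) (q.lTensor M₁) :=
    lTensor_exact _ hiq hq
  have colF : ∀ y, q.lTensor M₂ (i.lTensor M₂ y) = 0 := by
    intro y
    rw [← LinearMap.comp_apply, ← LinearMap.lTensor_comp, hiq.linearMap_comp_eq_zero,
      LinearMap.lTensor_zero, LinearMap.zero_apply]
  rw [injective_iff_map_eq_zero]
  intro z hz
  obtain ⟨y, rfl⟩ := LinearMap.rTensor_surjective N' hg z
  have h1 : g.rTensor N (i.lTensor M₂ y) = 0 := by
    rw [← LinearMap.comp_apply, LinearMap.rTensor_comp_lTensor, ← LinearMap.lTensor_comp_rTensor,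
      LinearMap.comp_apply]
    exact hz
  obtain ⟨w, hw⟩ := (row _).mp h1
  have h2 : q.lTensor M₁ w = 0 := by
    apply hUQ
    rw [map_zero, ← LinearMap.comp_apply, LinearMap.rTensor_comp_lTensor,
      ← LinearMap.lTensor_comp_rTensor, LinearMap.comp_apply, hw]
    exact colF y
  obtain ⟨w', rfl⟩ := (colK _).mp h2
  have h3 : f.rTensor N' w' = y := by
    apply hβ
    rw [← hw, ← LinearMap.comp_apply, LinearMap.lTensor_comp_rTensor,
      ← LinearMap.rTensor_comp_lTensor, LinearMap.comp_apply]
  rw [← h3]
  exact row'.apply_apply_eq_zero w'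

/-- An R-module M is flat exactly when every short exact sequence 0 → M₁ → M₂ → M → 0 of R-modules is
universally exact, i.e. its first map M₁ → M₂ is universally injective. -/
theorem result {R : Type u} [CommRing R] (M : Type u) [AddCommGroup M] [Module R M] : Module.Flat R M ↔ ∀ (M₁ M₂ : Type u) [AddCommGroup M₁] [Module R M₁] [AddCommGroup M₂] [Module R M₂] (f : M₁ →ₗ[R] M₂) (g : M₂ →ₗ[R] M), Function.Injective f → Function.Exact f g → Function.Surjective g → CAlgX.UniversallyInjective R f := by
  classical
  constructor
  · intro hM M₁ M₂ _ _ _ _ f g hf hexact hg Q _ _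
    rw [← LinearMap.lTensor_inj_iff_rTensor_inj]
    exact LinearMap.lTensor_injective_of_exact_of_flat g hg f hf hexact Q
  · intro H
    have hg : Function.Surjective (Finsupp.linearCombination R (id : M → M)) :=
      fun y => ⟨Finsupp.single y 1, by simp⟩
    have hex : Function.Exact (LinearMap.ker (Finsupp.linearCombination R (id : M → M))).subtype
        (Finsupp.linearCombination R (id : M → M)) := LinearMap.exact_subtype_ker_map _
    have hU := H _ (M →₀ R) _ _ (Submodule.injective_subtype _) hex hg
    exact @flat_of_univInj R _ (LinearMap.ker (Finsupp.linearCombination R (id : M → M))) (M →₀ R) M _ _ _ _ _ _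
      (LinearMap.ker (Finsupp.linearCombination R (id : M → M))).subtype
      (Finsupp.linearCombination R (id : M → M)) hex hg _ hU

end Groth.Agent.S6305
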