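import Groth.Statements.S6306
import Mathlib
-- import your own Groth.Agent.* helpers here

set_option autoImplicit false
universe u
open CAlg

namespace Groth.Agent.S6306

/-- Let R be a nonzero ring such that every nonzero prime ideal of R contains a non-zerodivisor. Then R
is a domain. -/
theorem result (R : Type u) [CommRing R] [Nontrivial R] (h : ∀ p : Ideal R, p.IsPrime → p ≠ ⊥ → ∃ x ∈ p, x ∈ nonZeroDivisors R) : IsDomain R := by
  let S := nonZeroDivisors R
  haveI : Nontrivial (Localization S) := by
    refine ⟨⟨0, 1, ?_⟩⟩
    intro h01
    have : (algebraMap R (Localization S)) 0 = (algebraMap R (Localization S)) 1 := by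
      rw [map_zero, map_one]; exact h01
    have := (IsLocalization.injective (Localization S) (le_refl S)) this
    exact zero_ne_one this
  obtain ⟨m, hm⟩ := Ideal.exists_maximal (Localization S)
  have hmp : m.IsPrime := hm.isPrime
  have hprime := (IsLocalization.isPrime_iff_isPrime_disjoint S (Localization S) m).mp hmp
  set q : Ideal R := m.comap (algebraMap R (Localization S)) with hq
  have hqbot : q = ⊥ := by
    by_contra hne
    obtain ⟨x, hxq, hxS⟩ := h q hprime.1 hne
    exact Set.disjoint_left.mp hprime.2 hxS hxq
  have : (⊥ : Ideal R).IsPrime := hqbot ▸ hprime.1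
  exact IsDomain.of_bot_isPrime R

end Groth.Agent.S6306
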