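import Groth.Statements.S6309
import Mathlib
import Groth.Agent.Lib.Helper45.SplitInj

set_option autoImplicit false
universe u
open scoped TensorProduct
open CAlg

namespace Groth.Agent.S6309

/-- Let R be a ring and φ : P₁ → P₂ a map of finite projective R-modules. The set U of primes p of R
such that φ ⊗ κ(p) is injective is open, and for every f ∈ R with D(f) ⊆ U the map (P₁)_f → (P₂)_f
is injective and Coker(φ)_f is a finite projective module over R_f. -/
theorem result {R : Type u} [CommRing R] {P₁ P₂ : Type u} [AddCommGroup P₁] [Module R P₁] [AddCommGroup P₂] [Module R P₂] [Module.Finite R P₁] [Module.Projective R P₁] [Module.Finite R P₂] [Module.Projective R P₂] (φ : P₁ →ₗ[R] P₂) : IsOpen {p : PrimeSpectrum R | Function.Injective (φ.lTensor p.asIdeal.ResidueField)} ∧ ∀ f : R, (↑(PrimeSpectrum.basicOpen f) : Set (PrimeSpectrum R)) ⊆ {p : PrimeSpectrum R | Function.Injective (φ.lTensor p.asIdeal.ResidueField)} → Function.Injective (LocalizedModule.map (Submonoid.powers f) φ) ∧ Module.Finite (Localization.Away f) (LocalizedModule (Submonoid.powers f) (P₂ ⧸ LinearMap.range φ)) ∧ Module.Projective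 (Localization.Away f) (LocalizedModule (Submonoid.powers f) (P₂ ⧸ LinearMap.range φ)) := by
  open Groth.Agent.Lib.Helper45.SplitInj in
  constructor
  · rw [isOpen_iff_forall_mem_open]
    intro p hp
    obtain ⟨g, ψ, hg, hψ⟩ := exists_smul_retraction φ p.asIdeal hp
    refine ⟨PrimeSpectrum.basicOpen g, ?_, (PrimeSpectrum.basicOpen g).isOpen, hg⟩
    intro q hq
    exact lTensor_injective_of_smul_retraction φ g ψ hψ q.asIdeal hq
  · intro f hf
    obtain ⟨N, ψ, hψ⟩ := exists_pow_smul_retraction φ f (fun p hp hfp => hf (show (⟨p, hp⟩ : PrimeSpectrum R) ∈ _ from hfp))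
    -- the localized maps
    have hunit : IsUnit (algebraMap R (Localization.Away f) (f ^ N)) := by
      rw [map_pow]
      exact (IsLocalization.Away.algebraMap_isUnit f).pow N
    obtain ⟨u, hu⟩ := hunit
    let l : LocalizedModule (Submonoid.powers f) P₂ →ₗ[Localization.Away f] LocalizedModule (Submonoid.powers f) P₁ :=
      (↑u⁻¹ : Localization.Away f) • LocalizedModule.map (Submonoid.powers f) ψ
    have hl : l ∘ₗ LocalizedModule.map (Submonoid.powers f) φ = LinearMap.id := by
      ext y
      induction y using LocalizedModule.induction_on with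
      | h x s =>
        simp only [l, LinearMap.comp_apply, LinearMap.smul_apply, LocalizedModule.map_mk, LinearMap.id_apply]
        have h1 : ψ (φ x) = f ^ N • x := LinearMap.congr_fun hψ x
        rw [h1]
        have h2 : LocalizedModule.mk (f ^ N • x) s = (f ^ N) • LocalizedModule.mk x s := by
          rw [LocalizedModule.smul'_mk]
        rw [h2, ← algebraMap_smul (Localization.Away f) (f ^ N), ← hu, smul_smul, Units.inv_mul, one_smul]
    have hinj : Function.Injective (LocalizedModule.map (Submonoid.powers f) φ) := by
      apply Function.LeftInverse.injective (g := l)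
      intro x
      exact LinearMap.congr_fun hl x
    refine ⟨hinj, inferInstance, ?_⟩
    have hex : Function.Exact (LocalizedModule.map (Submonoid.powers f) φ)
        (LocalizedModule.map (Submonoid.powers f) (LinearMap.range φ).mkQ) :=
      LocalizedModule.map_exact (Submonoid.powers f) _ _ φ.exact_map_mkQ_range
    have hsurj : Function.Surjective (LocalizedModule.map (Submonoid.powers f) (LinearMap.range φ).mkQ) :=
      LocalizedModule.map_surjective _ _ (Submodule.mkQ_surjective _)
    have htf := (Function.Exact.split_tfae hex hinj hsurj).out 1 0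
    obtain ⟨s, hs⟩ := htf.mp ⟨l, hl⟩
    exact Module.Projective.of_split s _ hs

end Groth.Agent.S6309
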