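import Groth.Statements.S6310
import Mathlib.RingTheory.Support
import Mathlib.Algebra.Module.LocalizedModule.Submodule
import Mathlib.LinearAlgebra.Matrix.Charpoly.LinearMap
import Mathlib.RingTheory.Localization.Module
-- import your own Groth.Agent.* helpers here

set_option autoImplicit false
universe u
open CAlg

namespace Groth.Agent.S6310

/-- Step A: a single element of `S` pushes `M` into `span x + I M`. -/
lemma stepA {R : Type u} [CommRing R] (S : Submonoid R) (I : Ideal R) (M : Type u)
    [AddCommGroup M] [Module R M] [Module.Finite R M] {r : ℕ} (x : Fin r → M)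
    (hx : Submodule.span (Localization S) (Set.range fun j =>
      LocalizedModule.mkLinearMap S (M ⧸ (I • (⊤ : Submodule R M))) (Submodule.Quotient.mk (x j))) = ⊤) :
    ∃ s ∈ S, ∀ m : M, s • m ∈ Submodule.span R (Set.range x) ⊔ I • (⊤ : Submodule R M) := by
  classical
  let φ : (Fin r → R) →ₗ[R] (M ⧸ (I • (⊤ : Submodule R M))) :=
    Fintype.linearCombination R (fun j => (Submodule.Quotient.mk (x j) : M ⧸ (I • (⊤ : Submodule R M))))
  have hφ : ∀ j, φ (Pi.single j 1) = Submodule.Quotient.mk (x j) := by
    intro j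
    simp [φ, Fintype.linearCombination_apply, Pi.single_apply]
  have hsurj : Function.Surjective (LocalizedModule.map S φ) := by
    rw [← LinearMap.range_eq_top, eq_top_iff, ← hx, Submodule.span_le]
    rintro _ ⟨j, rfl⟩
    refine ⟨LocalizedModule.mk (Pi.single j 1) 1, ?_⟩
    rw [LocalizedModule.map_mk, hφ]
    rfl
  rw [LinearMap.localizedMap_surjective_iff_subsingleton_localized_coker] at hsurj
  have hkill := LocalizedModule.subsingleton_iff.mp hsurj
  choose sfun hsS hs0 using hkill
  obtain ⟨G, hG⟩ := (Module.Finite.fg_top :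
    (⊤ : Submodule R ((M ⧸ (I • (⊤ : Submodule R M))) ⧸ LinearMap.range φ)).FG)
  refine ⟨∏ g ∈ G, sfun g, Submonoid.prod_mem _ (fun g _ => hsS g), fun m => ?_⟩
  have hall : ∀ d : (M ⧸ (I • (⊤ : Submodule R M))) ⧸ LinearMap.range φ,
      (∏ g ∈ G, sfun g) • d = 0 := by
    intro d
    have hd : d ∈ Submodule.span R (G : Set _) := hG ▸ Submodule.mem_top
    refine Submodule.span_induction ?_ ?_ ?_ ?_ hd
    · intro g hg
      obtain ⟨k, hk⟩ := Finset.dvd_prod_of_mem sfun (Finset.mem_coe.mp hg)
      rw [hk, mul_comm, mul_smul, hs0, smul_zero]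
    · exact smul_zero _
    · intro a b _ _ ha hb
      rw [smul_add, ha, hb, add_zero]
    · intro a b _ hb
      rw [smul_comm, hb, smul_zero]
  have h1 := hall (Submodule.Quotient.mk (Submodule.Quotient.mk m))
  rw [← Submodule.Quotient.mk_smul, Submodule.Quotient.mk_eq_zero] at h1
  obtain ⟨c, hc⟩ := h1
  have h2 : φ c = Submodule.Quotient.mk (∑ j, c j • x j) := by
    simp only [φ, Fintype.linearCombination_apply]
    rw [← Submodule.mkQ_apply, map_sum]
    simp only [map_smul, Submodule.mkQ_apply]
  rw [h2, ← Submodule.Quotient.mk_smul, Submodule.Quotient.eq] at hc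
  have h3 : (∏ g ∈ G, sfun g) • m =
      ∑ j, c j • x j - (∑ j, c j • x j - (∏ g ∈ G, sfun g) • m) := by abel
  rw [h3]
  refine Submodule.sub_mem _ (Submodule.mem_sup_left ?_) (Submodule.mem_sup_right hc)
  exact Submodule.sum_mem _ fun j _ => Submodule.smul_mem _ _ (Submodule.subset_span ⟨j, rfl⟩)

/-- Step B: Cayley–Hamilton. -/
lemma stepB {R : Type u} [CommRing R] (I : Ideal R) (M : Type u)
    [AddCommGroup M] [Module R M] [Module.Finite R M] (N : Submodule R M) (s : R)
    (hs : ∀ m : M, s • m ∈ N ⊔ I • (⊤ : Submodule R M)) :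
    ∃ (n : ℕ) (i : R), i ∈ I ∧ ∀ m : M, (s ^ n + i) • m ∈ N := by
  classical
  let g : Module.End R (M ⧸ N) := algebraMap R (Module.End R (M ⧸ N)) s
  have hg : LinearMap.range g ≤ I • (⊤ : Submodule R (M ⧸ N)) := by
    rintro _ ⟨c, rfl⟩
    obtain ⟨m, rfl⟩ := N.mkQ_surjective c
    show s • N.mkQ m ∈ _
    rw [← map_smul]
    obtain ⟨a, ha, b, hb, hab⟩ := Submodule.mem_sup.mp (hs m)
    rw [← hab, map_add]
    have ha0 : N.mkQ a = 0 := by
      rw [Submodule.mkQ_apply, Submodule.Quotient.mk_eq_zero]; exact ha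
    rw [ha0, zero_add]
    have : (I • (⊤ : Submodule R M)).map N.mkQ ≤ I • (⊤ : Submodule R (M ⧸ N)) := by
      rw [Submodule.map_smul'']
      exact smul_mono_right _ le_top
    exact this ⟨b, hb, rfl⟩
  obtain ⟨p, hmonic, -, hcoeff, hp⟩ :=
    LinearMap.exists_monic_and_natDegree_eq_and_coeff_mem_pow_and_aeval_eq_zero R g I hg
  rw [Polynomial.aeval_algebraMap_apply_eq_algebraMap_eval] at hp
  refine ⟨p.natDegree, p.eval s - s ^ p.natDegree, ?_, fun m => ?_⟩
  · rw [Polynomial.eval_eq_sum_range, Finset.sum_range_succ, hmonic.coeff_natDegree, one_mul,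
      add_sub_cancel_right]
    refine Submodule.sum_mem _ fun k hk => Ideal.mul_mem_right _ _ ?_
    have hk' : p.natDegree - k ≠ 0 := by
      have := Finset.mem_range.mp hk
      omega
    exact Ideal.pow_le_self hk' (hcoeff k)
  · have h1 : s ^ p.natDegree + (p.eval s - s ^ p.natDegree) = p.eval s := by ring
    rw [h1, ← Submodule.Quotient.mk_eq_zero, Submodule.Quotient.mk_smul]
    have := congrArg (fun e : Module.End R (M ⧸ N) => e (Submodule.Quotient.mk m)) hp
    simpa [Module.algebraMap_end_apply] using this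

/-- Step C: if `f` pushes `M` into `span x`, then `x` generates `M_f`. -/
lemma stepC {R : Type u} [CommRing R] (M : Type u)
    [AddCommGroup M] [Module R M] {r : ℕ} (x : Fin r → M) (f : R)
    (hf : ∀ m : M, f • m ∈ Submodule.span R (Set.range x)) :
    Submodule.span (Localization.Away f) (Set.range fun j =>
      LocalizedModule.mkLinearMap (Submonoid.powers f) M (x j)) = ⊤ := by
  rw [eq_top_iff]
  rintro z -
  induction z using LocalizedModule.induction_on with
  | h m t =>
    have h1 : LocalizedModule.mk m t =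
        Localization.mk 1 (⟨f, Submonoid.mem_powers f⟩ * t) •
          LocalizedModule.mkLinearMap (Submonoid.powers f) M (f • m) := by
      rw [LocalizedModule.mkLinearMap_apply, LocalizedModule.mk_smul_mk, one_smul, mul_one]
      exact (LocalizedModule.mk_cancel_common_left ⟨f, Submonoid.mem_powers f⟩ t m).symm
    rw [h1]
    refine Submodule.smul_mem _ _ ?_
    have h2 : ∀ y ∈ Submodule.span R (Set.range x),
        LocalizedModule.mkLinearMap (Submonoid.powers f) M y ∈
          Submodule.span (Localization.Away f) (Set.range fun j =>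
            LocalizedModule.mkLinearMap (Submonoid.powers f) M (x j)) := by
      intro y hy
      refine Submodule.span_induction ?_ ?_ ?_ ?_ hy
      · rintro _ ⟨j, rfl⟩
        exact Submodule.subset_span ⟨j, rfl⟩
      · rw [map_zero]; exact Submodule.zero_mem _
      · intro a b _ _ ha hb
        rw [map_add]; exact Submodule.add_mem _ ha hb
      · intro a b _ hb
        rw [map_smul, ← algebraMap_smul (Localization.Away f) a]
        exact Submodule.smul_mem _ _ hb
    exact h2 _ (hf m)

/-- Let R be a ring, S ⊆ R a multiplicative subset, I ⊆ R an ideal and M a finite R-module. If x₁, …,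
x_r ∈ M have images generating S⁻¹(M/IM) as an S⁻¹R-module, then there is f ∈ S + I (f = s + i with
s ∈ S, i ∈ I) such that x₁, …, x_r generate M_f as an R_f-module. -/
theorem result {R : Type u} [CommRing R] (S : Submonoid R) (I : Ideal R) (M : Type u) [AddCommGroup M] [Module R M] [Module.Finite R M] {r : ℕ} (x : Fin r → M) (hx : Submodule.span (Localization S) (Set.range fun j => LocalizedModule.mkLinearMap S (M ⧸ (I • (⊤ : Submodule R M))) (Submodule.Quotient.mk (x j))) = ⊤) : ∃ (s : R) (i : R), s ∈ S ∧ i ∈ I ∧ Submodule.span (Localization.Away (s + i)) (Set.range fun j => LocalizedModule.mkLinearMap (Submonoid.powers (s + i)) M (x j)) = ⊤ := by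
  obtain ⟨s, hsS, hs⟩ := stepA S I M x hx
  obtain ⟨n, i, hi, hf⟩ := stepB I M (Submodule.span R (Set.range x)) s hs
  exact ⟨s ^ n, i, Submonoid.pow_mem S hsS n, hi, stepC M x (s ^ n + i) hf⟩

end Groth.Agent.S6310
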