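import Groth.Statements.S6311
import Mathlib
-- import your own Groth.Agent.* helpers here

set_option autoImplicit false
universe u
open CategoryTheory
open CAlg

namespace Groth.Agent.S6311

abbrev P (R : Type u) [CommRing R] : ObjectProperty (ModuleCat.{u} R) :=
  fun M : ModuleCat.{u} R => Module.Finite R M ∧ Module.Projective R M

variable (R : Type u) [CommRing R] [IsLocalRing R]

noncomputable def rho : FreeAbelianGroup (Subtype (P R)) →+ ℤ :=
  FreeAbelianGroup.lift (fun M => (Module.finrank R M.1 : ℤ))

theorem free_of_P {M : ModuleCat.{u} R} (h : P R M) : Module.Free R M := by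
  obtain ⟨h1, h2⟩ := h
  exact Module.free_of_flat_of_isLocalRing

theorem rho_rel : KZero.relSub (P R) ≤ (rho R).ker := by
  rw [KZero.relSub, AddSubgroup.closure_le]
  rintro x ⟨S, h₁, h₂, h₃, hS, rfl⟩
  rw [SetLike.mem_coe, AddMonoidHom.mem_ker, map_sub, map_sub]
  simp only [rho, FreeAbelianGroup.lift_apply_of]
  haveI := free_of_P R h₁
  haveI := free_of_P R h₃
  haveI := h₁.1
  haveI := h₃.1
  have := ModuleCat.free_shortExact_finrank_add hS rfl rfl
  rw [this]
  push_cast
  ring

noncomputable def e : KZero.K0sub (P R) →+ ℤ :=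
  QuotientAddGroup.lift (KZero.relSub (P R)) (rho R) (rho_rel R)

noncomputable def cl' (M : ModuleCat.{u} R) (h : P R M) : KZero.K0sub (P R) :=
  QuotientAddGroup.mk (FreeAbelianGroup.of ⟨M, h⟩)

theorem e_cl' (M : ModuleCat.{u} R) (h : P R M) : e R (cl' R M h) = Module.finrank R M := by
  simp [e, cl', rho]

theorem cl'_rel (S : ShortComplex (ModuleCat.{u} R)) (h₁ : P R S.X₁) (h₂ : P R S.X₂) (h₃ : P R S.X₃)
    (hS : S.ShortExact) : cl' R S.X₂ h₂ = cl' R S.X₁ h₁ + cl' R S.X₃ h₃ := by
  have : (QuotientAddGroup.mk (FreeAbelianGroup.of ⟨S.X₂, h₂⟩ - FreeAbelianGroup.of ⟨S.X₁, h₁⟩ -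
      FreeAbelianGroup.of ⟨S.X₃, h₃⟩) : KZero.K0sub (P R)) = 0 := by
    rw [QuotientAddGroup.eq_zero_iff]
    exact AddSubgroup.subset_closure ⟨S, h₁, h₂, h₃, hS, rfl⟩
  rw [QuotientAddGroup.mk_sub, QuotientAddGroup.mk_sub, sub_sub, sub_eq_zero] at this
  exact this

theorem hR : P R (ModuleCat.of R R) := ⟨inferInstanceAs (Module.Finite R R), inferInstanceAs (Module.Projective R R)⟩

theorem key (n : ℕ) : ∀ (M : Type u) [AddCommGroup M] [Module R M] (h : P R (ModuleCat.of R M)),
    Module.finrank R M = n → cl' R (ModuleCat.of R M) h = n • cl' R (ModuleCat.of R R) (hR R) := by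
  induction n with
  | zero =>
    intro M _ _ h hn
    haveI : Module.Free R M := free_of_P R h
    haveI : Module.Finite R M := h.1
    haveI : Subsingleton M := (Module.finrank_eq_zero_iff_of_free R M).mp hn
    let S : ShortComplex (ModuleCat.{u} R) :=
      ShortComplex.mk (0 : ModuleCat.of R M ⟶ ModuleCat.of R M) (0 : ModuleCat.of R M ⟶ ModuleCat.of R M)
        (by simp)
    have hS : S.ShortExact := by
      refine ShortComplex.ShortExact.mk' ?_ ?_ ?_
      · rw [ShortComplex.ShortExact.moduleCat_exact_iff_function_exact]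
        intro x
        constructor
        · intro _; exact ⟨0, Subsingleton.elim _ _⟩
        · intro _; exact Subsingleton.elim _ _
      · rw [ModuleCat.mono_iff_injective]
        intro x y _; exact Subsingleton.elim _ _
      · rw [ModuleCat.epi_iff_surjective]
        intro x; exact ⟨0, Subsingleton.elim _ _⟩
    have := cl'_rel R S h h h hS
    rw [zero_smul]
    exact (add_eq_left.mp this.symm)
  | succ n ih =>
    intro M _ _ h hn
    haveI : Module.Free R M := free_of_P R h
    haveI : Module.Finite R M := h.1
    haveI : Module.Projective R M := h.2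
    let b := Module.Free.chooseBasis R M
    have hne : Nonempty (Module.Free.ChooseBasisIndex R M) := by
      by_contra hemp
      rw [not_nonempty_iff] at hemp
      have : Module.finrank R M = 0 := by
        rw [Module.finrank_eq_card_chooseBasisIndex]
        exact Fintype.card_eq_zero
      omega
    obtain ⟨i⟩ := hne
    let φ : M →ₗ[R] R := b.coord i
    have hφb : φ (b i) = 1 := by simp [φ]
    have hφ : Function.Surjective φ := fun r => ⟨r • b i, by rw [map_smul, hφb, smul_eq_mul, mul_one]⟩
    let K : Submodule R M := LinearMap.ker φ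
    let π : M →ₗ[R] K := LinearMap.codRestrict K (LinearMap.id - (LinearMap.toSpanSingleton R M (b i)).comp φ)
      (by
        intro x
        simp only [K, LinearMap.mem_ker, LinearMap.sub_apply, LinearMap.id_apply, LinearMap.comp_apply,
          LinearMap.toSpanSingleton_apply, map_sub, map_smul, hφb, smul_eq_mul, mul_one, sub_self])
    have hπ : π.comp K.subtype = LinearMap.id := by
      ext x
      have hx : φ x = 0 := x.2
      simp [π, hx]
    have hπs : Function.Surjective π := fun x => ⟨x, LinearMap.congr_fun hπ x⟩
    have hK : P R (ModuleCat.of R K) :=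
      ⟨Module.Finite.of_surjective π hπs, Module.Projective.of_split K.subtype π hπ⟩
    let S : ShortComplex (ModuleCat.{u} R) :=
      ShortComplex.mk (ModuleCat.ofHom K.subtype) (ModuleCat.ofHom φ) (by
        ext x
        exact x.2)
    have hS : S.ShortExact := by
      refine ShortComplex.ShortExact.mk' ?_ ?_ ?_
      · rw [ShortComplex.ShortExact.moduleCat_exact_iff_function_exact]
        exact LinearMap.exact_subtype_ker_map φ
      · rw [ModuleCat.mono_iff_injective]
        exact K.injective_subtype
      · rw [ModuleCat.epi_iff_surjective]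
        exact hφ
    haveI : Module.Free R (ModuleCat.of R K) := free_of_P R hK
    haveI : Module.Finite R (ModuleCat.of R K) := hK.1
    haveI : Module.Free R S.X₁ := free_of_P R hK
    haveI : Module.Finite R S.X₁ := hK.1
    haveI : Module.Free R S.X₃ := inferInstanceAs (Module.Free R R)
    haveI : Module.Finite R S.X₃ := inferInstanceAs (Module.Finite R R)
    have hadd := ModuleCat.free_shortExact_finrank_add hS (n := Module.finrank R K) (p := 1) rfl
      (Module.finrank_self R)
    have hKn : Module.finrank R K = n := by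
      have : Module.finrank R M = Module.finrank R K + 1 := hadd
      omega
    have h1 := cl'_rel R S hK h (hR R) hS
    have h2 := ih K hK hKn
    rw [succ_nsmul]
    rw [← h2]
    exact h1

/-- Let R be a local ring. Then K₀(R), the Grothendieck group of the category of finite projective
R-modules, is isomorphic to ℤ via the rank; precisely, there is an isomorphism K₀(R) ≅ ℤ of abelian
groups sending the class [R] to 1 (such an isomorphism is then unique, K₀(R) being generated by
[R]). -/
theorem result (R : Type u) [CommRing R] [IsLocalRing R] : ∃ e : KZero.K0sub (fun M : ModuleCat.{u} R => Module.Finite R M ∧ Module.Projective R M) ≃+ ℤ, e (KZero.clSub (fun M : ModuleCat.{u} R => Module.Finite R M ∧ Module.Projective R M) (ModuleCat.of R R)) = 1 := by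
  classical
  let ψ : ℤ →+ KZero.K0sub (P R) := zmultiplesHom _ (cl' R (ModuleCat.of R R) (hR R))
  have h1 : (e R).comp ψ = AddMonoidHom.id ℤ := by
    apply AddMonoidHom.ext_int
    simp [ψ, e_cl']
  have h2 : ψ.comp (e R) = AddMonoidHom.id _ := by
    apply QuotientAddGroup.addMonoidHom_ext
    apply FreeAbelianGroup.lift_ext
    rintro ⟨M, hM⟩
    have hk := key R (Module.finrank R M) M hM rfl
    change ψ (e R (cl' R M hM)) = cl' R M hM
    rw [e_cl']
    simp only [ψ, zmultiplesHom_apply, natCast_zsmul]
    exact hk.symm
  let E : KZero.K0sub (P R) ≃+ ℤ := AddMonoidHom.toAddEquiv (e R) ψ h2 h1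
  refine ⟨E, ?_⟩
  have : KZero.clSub (P R) (ModuleCat.of R R) = cl' R (ModuleCat.of R R) (hR R) := by
    rw [KZero.clSub, dif_pos (hR R)]
    rfl
  change e R (KZero.clSub (P R) (ModuleCat.of R R)) = 1
  rw [this, e_cl']
  simp

end Groth.Agent.S6311
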