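import Groth.Statements.S6318
import Mathlib
-- import your own Groth.Agent.* helpers here

set_option autoImplicit false
universe u
open CategoryTheory
open CAlg

namespace Groth.Agent.S6318

section
variable (R : Type u) [CommRing R] [IsNoetherianRing R]

/-- a stage: a finite module (to be covered by a finite free module). -/
structure Stg where
  K : Type u
  [ag : AddCommGroup K]
  [md : Module R K]
  [fin : Module.Finite R K]

attribute [instance] Stg.ag Stg.md Stg.fin

variable {R}

noncomputable def Stg.n (s : Stg R) : ℕ := (Module.Finite.exists_fin' R s.K).choose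

noncomputable def Stg.p (s : Stg R) : (Fin s.n → R) →ₗ[R] s.K :=
  (Module.Finite.exists_fin' R s.K).choose_spec.choose

lemma Stg.p_surj (s : Stg R) : Function.Surjective s.p :=
  (Module.Finite.exists_fin' R s.K).choose_spec.choose_spec

noncomputable def Stg.next (s : Stg R) : Stg R :=
  haveI : Module.Finite R (LinearMap.ker s.p) :=
    Module.Finite.iff_fg.2 (IsNoetherian.noetherian _)
  ⟨LinearMap.ker s.p⟩

/-- the cover of the kernel, typed as landing in the kernel. -/
noncomputable def Stg.q (s : Stg R) : (Fin s.next.n → R) →ₗ[R] (LinearMap.ker s.p) := s.next.p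

lemma Stg.q_surj (s : Stg R) : Function.Surjective s.q := s.next.p_surj

noncomputable def Stg.dd (s : Stg R) : (Fin s.next.n → R) →ₗ[R] (Fin s.n → R) :=
  (LinearMap.ker s.p).subtype ∘ₗ s.q

lemma Stg.p_dd (s : Stg R) (x : Fin s.next.n → R) : s.p (s.dd x) = 0 :=
  (s.q x).2

lemma Stg.range_dd (s : Stg R) : LinearMap.range s.dd = LinearMap.ker s.p := by
  rw [Stg.dd, LinearMap.range_comp, LinearMap.range_eq_top.2 s.q_surj, Submodule.map_top,
    Submodule.range_subtype]

lemma Stg.ker_dd (s : Stg R) : LinearMap.ker s.dd = LinearMap.ker s.q := by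
  rw [Stg.dd, LinearMap.ker_comp, Submodule.ker_subtype, Submodule.comap_bot]

lemma Stg.dd_dd (s : Stg R) (x : Fin s.next.next.n → R) : s.dd (s.next.dd x) = 0 := by
  have h : s.q (s.next.dd x) = 0 := s.next.p_dd x
  have h' : s.next.dd x ∈ LinearMap.ker s.q := h
  rw [← Stg.ker_dd] at h'
  exact h'

lemma Stg.exact (s : Stg R) (x : Fin s.next.n → R) (hx : s.dd x = 0) :
    ∃ y, s.next.dd y = x := by
  have h : x ∈ LinearMap.ker s.dd := hx
  rw [Stg.ker_dd] at h
  have h2 : x ∈ LinearMap.ker s.next.p := h
  rw [← Stg.range_dd] at h2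
  exact h2

variable (R)
variable (M : Type u) [AddCommGroup M] [Module R M] [Module.Finite R M]

noncomputable def stg : ℕ → Stg R
  | 0 => ⟨M⟩
  | n + 1 => (stg n).next

noncomputable def X (n : ℕ) : ModuleCat.{u} R := ModuleCat.of R (Fin (stg R M n).n → R)

noncomputable def d (n : ℕ) : X R M (n + 1) ⟶ X R M n := ModuleCat.ofHom (stg R M n).dd

lemma d_comp (n : ℕ) : d R M (n + 1) ≫ d R M n = 0 := by
  ext x
  exact (stg R M n).dd_dd x

noncomputable def cx : ChainComplex (ModuleCat.{u} R) ℕ :=
  ChainComplex.of (X R M) (d R M) (d_comp R M)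

lemma cx_d (n : ℕ) : (cx R M).d (n + 1) n = d R M n := ChainComplex.of_d _ _ n

noncomputable def eps : X R M 0 ⟶ ModuleCat.of R M := ModuleCat.ofHom (stg R M 0).p

lemma cx_d_eps : (cx R M).d 1 0 ≫ eps R M = 0 := by
  rw [cx_d]
  ext x
  exact (stg R M 0).p_dd x

lemma cx_exactAt_succ (n : ℕ) : (cx R M).ExactAt (n + 1) := by
  rw [HomologicalComplex.exactAt_iff' _ (n + 1 + 1) (n + 1) n (by simp) (by simp)]
  rw [ShortComplex.moduleCat_exact_iff]
  intro x hx
  change ((cx R M).d (n + 1) n).hom x = 0 at hx
  rw [cx_d] at hx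
  obtain ⟨y, hy⟩ := (stg R M n).exact x hx
  refine ⟨y, ?_⟩
  change ((cx R M).d (n + 1 + 1) (n + 1)).hom y = x
  rw [cx_d]
  exact hy

end

/-- Let R be a Noetherian ring and R M a finite R-module. Then M has a resolution … → F₂ → F₁ → F₀ → M → 0
with every Fᵢ finite free; stated as the existence of a projective resolution of M in the category
of R-modules all of whose terms are finite free. -/
theorem result (R : Type u) [CommRing R] [IsNoetherianRing R] (M : Type u) [AddCommGroup M] [Module R M] [Module.Finite R M] : ∃ F : ProjectiveResolution (ModuleCat.of R M), ∀ n : ℕ, Module.Finite R (F.complex.X n) ∧ Module.Free R (F.complex.X n) := by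
  refine ⟨{ complex := cx R M
            projective := fun n => ?_
            π := (ChainComplex.toSingle₀Equiv _ _).symm ⟨eps R M, cx_d_eps R M⟩
            quasiIso := ?_ }, fun n => ⟨?_, ?_⟩⟩
  · change Projective (ModuleCat.of R (Fin (stg R M n).n → R))
    exact ModuleCat.projective_of_free (Pi.basisFun R _)
  · refine ⟨fun n => ?_⟩
    cases n with
    | zero =>
      rw [ChainComplex.quasiIsoAt₀_iff, ShortComplex.quasiIso_iff_of_zeros']
      · have hπ := ChainComplex.toSingle₀Equiv_symm_apply_f_zero (C := cx R M)
          (X := ModuleCat.of R M) (eps R M) (cx_d_eps R M)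
        constructor
        · rw [ShortComplex.moduleCat_exact_iff]
          intro x hx
          change ((((cx R M).toSingle₀Equiv (ModuleCat.of R M)).symm
            ⟨eps R M, cx_d_eps R M⟩).f 0).hom x = 0 at hx
          rw [hπ] at hx
          have h2 : x ∈ LinearMap.ker (stg R M 0).p := hx
          rw [← Stg.range_dd] at h2
          obtain ⟨y, hy⟩ := h2
          refine ⟨y, ?_⟩
          change ((cx R M).d 1 0).hom y = x
          rw [cx_d]
          exact hy
        · change Epi ((((cx R M).toSingle₀Equiv (ModuleCat.of R M)).symm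
            ⟨eps R M, cx_d_eps R M⟩).f 0)
          rw [hπ]
          have : Epi (eps R M) := (ModuleCat.epi_iff_surjective _).2 (stg R M 0).p_surj
          exact this
      all_goals rfl
    | succ n =>
      rw [quasiIsoAt_iff_exactAt']
      · exact cx_exactAt_succ R M n
      · exact ChainComplex.exactAt_succ_single_obj _ _
  · change Module.Finite R (Fin (stg R M n).n → R)
    infer_instance
  · change Module.Free R (Fin (stg R M n).n → R)
    infer_instance

end Groth.Agent.S6318
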