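import Groth.Statements.S6319
import Mathlib.RingTheory.HopkinsLevitzki
import Mathlib.Algebra.Homology.ShortComplex.ModuleCat

set_option autoImplicit false
universe u
open CategoryTheory
open CAlg

namespace Groth.Agent.S6319

/-- Let R be an Artinian local ring. The length function defines a homomorphism of abelian groups
length_R : K'₀(R) → ℤ on the Grothendieck group of finite R-modules, sending the class of a finite
module M to its (finite) length. -/
theorem result (R : Type u) [CommRing R] [IsArtinianRing R] [IsLocalRing R] : ∃ φ : KZero.K0sub (fun M : ModuleCat.{u} R => Module.Finite R M) →+ ℤ, ∀ (M : ModuleCat.{u} R), Module.Finite R M → (φ (KZero.clSub (fun M : ModuleCat.{u} R => Module.Finite R M) M) : ℤ) = (Module.length R M).toNat := by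
  classical
  let P : ObjectProperty (ModuleCat.{u} R) := fun M : ModuleCat.{u} R => Module.Finite R M
  let ψ : FreeAbelianGroup (Subtype P) →+ ℤ :=
    FreeAbelianGroup.lift (fun M : Subtype P => ((Module.length R M.1).toNat : ℤ))
  have hfin : ∀ M : ModuleCat.{u} R, Module.Finite R M → Module.length R M ≠ ⊤ := by
    intro M hM
    have : IsNoetherian R M := isNoetherian_of_isNoetherianRing_of_finite R M
    have : IsArtinian R M := isArtinian_of_fg_of_artinian'
    exact Module.length_ne_top
  have hker : KZero.relSub P ≤ ψ.ker := by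
    refine (AddSubgroup.closure_le _).mpr ?_
    rintro x ⟨S, h₁, h₂, h₃, hS, rfl⟩
    have hadd := Module.length_eq_add_of_exact S.f.hom S.g.hom hS.moduleCat_injective_f
      hS.moduleCat_surjective_g ((ShortComplex.ShortExact.moduleCat_exact_iff_function_exact S).mp hS.exact)
    simp only [SetLike.mem_coe, AddMonoidHom.mem_ker, map_sub, ψ, FreeAbelianGroup.lift_apply_of]
    have e1 := hfin _ h₁
    have e2 := hfin _ h₂
    have e3 := hfin _ h₃
    obtain ⟨a, ha⟩ := ENat.ne_top_iff_exists.mp e1
    obtain ⟨b, hb⟩ := ENat.ne_top_iff_exists.mp e2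
    obtain ⟨c, hc⟩ := ENat.ne_top_iff_exists.mp e3
    rw [← ha, ← hb, ← hc] at hadd ⊢
    have : b = a + c := by exact_mod_cast hadd
    simp only [ENat.toNat_natCast]
    omega
  refine ⟨QuotientAddGroup.lift _ ψ hker, ?_⟩
  intro M hM
  have hM' : P M := hM
  unfold KZero.clSub
  rw [dif_pos hM']
  simp [ψ]

end Groth.Agent.S6319
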