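import Groth.Statements.S6321
import Mathlib

set_option autoImplicit false
universe u
open CAlg

namespace Groth.Agent.S6321

theorem map_mem_smul_top {R : Type*} [CommRing R] {A B : Type*} [CommRing A] [CommRing B]
    [Algebra R A] [Algebra R B] (g : A →ₐ[R] B) (m : Ideal R) {y : A}
    (hy : y ∈ m • (⊤ : Submodule R A)) : g y ∈ m • (⊤ : Submodule R B) := by
  have : (m • (⊤ : Submodule R A)).map g.toLinearMap ≤ m • ⊤ := by
    rw [Submodule.map_smul'']
    exact Submodule.smul_mono le_rfl le_top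
  exact this ⟨y, hy, rfl⟩

theorem ff_of_directed {R : Type u} [CommRing R] {ι : Type u} [Preorder ι] [Nonempty ι]
    [IsDirected ι (· ≤ ·)]
    (G : ι → Type u) [∀ i, CommRing (G i)] [∀ i, Algebra R (G i)]
    (φ : ∀ i j, i ≤ j → G i →ₐ[R] G j)
    (S : Type u) [CommRing S] [Algebra R S] (ψ : ∀ i, G i →ₐ[R] S)
    (ha : ∀ i j (h : i ≤ j) (y : G i), ψ j (φ i j h y) = ψ i y)
    (hb : ∀ s : S, ∃ i y, ψ i y = s)
    (hc : ∀ i (y : G i), ψ i y = 0 → ∃ j, ∃ h : i ≤ j, φ i j h y = 0)
    (hd : ∀ i, Module.FaithfullyFlat R (G i)) : Module.FaithfullyFlat R S := by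
  have hflat : Module.Flat R S := by
    refine Module.Flat.of_forall_isTrivialRelation ?_
    intro l c x hx
    choose jx yx hyx using fun k => hb (x k)
    obtain ⟨j, hj⟩ := Finite.exists_le jx
    let y : Fin l → G j := fun k => φ (jx k) j (hj k) (yx k)
    have hy : ∀ k, ψ j (y k) = x k := fun k => by rw [ha, hyx]
    have h0 : ψ j (∑ k, c k • y k) = 0 := by
      rw [map_sum]
      simp only [map_smul, hy]
      exact hx
    obtain ⟨j', hjj', hz⟩ := hc j _ h0
    rw [map_sum] at hz
    simp only [map_smul] at hz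
    have := hd j'
    obtain ⟨m, a, z, hz1, hz2⟩ := Module.Flat.isTrivialRelation_of_sum_smul_eq_zero (R := R)
      (M := G j') (f := c) (x := fun k => φ j j' hjj' (y k)) hz
    refine ⟨m, a, fun t => ψ j' (z t), fun k => ?_, hz2⟩
    have hz1k : φ j j' hjj' (y k) = ∑ t, a k t • z t := hz1 k
    rw [← hy k, ← ha j j' hjj' (y k), hz1k, map_sum]
    simp only [map_smul]
  refine { toFlat := hflat, submodule_ne_top := ?_ }
  intro m hm htop
  have key : ∀ s ∈ m • (⊤ : Submodule R S),
      ∃ j, ∃ y ∈ m • (⊤ : Submodule R (G j)), ψ j y = s := by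
    intro s hs
    refine Submodule.smul_induction_on hs ?_ ?_
    · intro r hr s _
      obtain ⟨j, y, rfl⟩ := hb s
      exact ⟨j, r • y, Submodule.smul_mem_smul hr trivial, by rw [map_smul]⟩
    · rintro s1 s2 ⟨j1, y1, hy1, rfl⟩ ⟨j2, y2, hy2, rfl⟩
      obtain ⟨j, hj1, hj2⟩ := exists_ge_ge j1 j2
      exact ⟨j, φ j1 j hj1 y1 + φ j2 j hj2 y2,
        Submodule.add_mem _ (map_mem_smul_top _ m hy1) (map_mem_smul_top _ m hy2),
        by rw [map_add, ha, ha]⟩
  obtain ⟨j, y, hy, hy1⟩ := key 1 (by rw [htop]; exact Submodule.mem_top)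
  have h0 : ψ j (y - 1) = 0 := by rw [map_sub, hy1, map_one, sub_self]
  obtain ⟨j', hjj', hz⟩ := hc j _ h0
  rw [map_sub, map_one, sub_eq_zero] at hz
  have h1 : (1 : G j') ∈ m • (⊤ : Submodule R (G j')) := hz ▸ map_mem_smul_top _ m hy
  apply (hd j').submodule_ne_top hm
  rw [Ideal.smul_top_eq_map] at h1 ⊢
  have : Ideal.map (algebraMap R (G j')) m = ⊤ := (Ideal.eq_top_iff_one _).mpr h1
  rw [this]
  rfl

/-- Let R be a ring and (Sᵢ, φᵢⱼ) a directed system of faithfully flat R-algebras whose transition maps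
are R-algebra maps. Then S = colim Sᵢ is a faithfully flat R-algebra: for any index i the composite
R → Sᵢ → S is faithfully flat. -/
theorem result {R : Type u} [CommRing R] {ι : Type u} [Preorder ι] [Nonempty ι] [IsDirected ι (· ≤ ·)] (G : ι → Type u) [∀ i, CommRing (G i)] [∀ i, Algebra R (G i)] (f : ∀ i j, i ≤ j → G i →+* G j) [DirectedSystem G fun i j h => f i j h] (hcompat : ∀ i j (h : i ≤ j), (f i j h).comp (algebraMap R (G i)) = algebraMap R (G j)) (hff : ∀ i, (algebraMap R (G i)).FaithfullyFlat) (i : ι) : ((Ring.DirectLimit.of G (fun i j h => f i j h) i).comp (algebraMap R (G i))).FaithfullyFlat := by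
  classical
  let S := Ring.DirectLimit G (fun i j h => f i j h)
  let ρ : R →+* S := (Ring.DirectLimit.of G (fun i j h => f i j h) i).comp (algebraMap R (G i))
  have hρ : ∀ j (r : R), Ring.DirectLimit.of G (fun i j h => f i j h) j (algebraMap R (G j) r)
      = ρ r := by
    intro j r
    obtain ⟨k, hik, hjk⟩ := exists_ge_ge i j
    have e1 : algebraMap R (G k) r = f i k hik (algebraMap R (G i) r) :=
      (RingHom.congr_fun (hcompat i k hik) r).symm
    have e2 : algebraMap R (G k) r = f j k hjk (algebraMap R (G j) r) :=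
      (RingHom.congr_fun (hcompat j k hjk) r).symm
    change _ = Ring.DirectLimit.of G (fun i j h => f i j h) i (algebraMap R (G i) r)
    rw [← Ring.DirectLimit.of_f (f := fun i j h => f i j h) hik,
      ← Ring.DirectLimit.of_f (f := fun i j h => f i j h) hjk (algebraMap R (G j) r),
      ← e1, ← e2]
  change @Module.FaithfullyFlat R S _ _ ρ.toAlgebra.toModule
  let alg : Algebra R S := ρ.toAlgebra
  let φ : ∀ i j, i ≤ j → G i →ₐ[R] G j := fun i j h =>
    { toRingHom := f i j h
      commutes' := fun r => RingHom.congr_fun (hcompat i j h) r }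
  let ψ : ∀ j, G j →ₐ[R] S := fun j =>
    { toRingHom := Ring.DirectLimit.of G (fun i j h => f i j h) j
      commutes' := fun r => hρ j r }
  refine ff_of_directed G φ S ψ ?_ ?_ ?_ ?_
  · intro i j h y
    exact Ring.DirectLimit.of_f (f := fun i j h => f i j h) h y
  · intro s
    exact Ring.DirectLimit.exists_of s
  · intro i y hy
    exact Ring.DirectLimit.of.zero_exact hy
  · intro j
    exact RingHom.faithfullyFlat_algebraMap_iff.mp (hff j)

end Groth.Agent.S6321
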