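import Groth.Statements.S6322
import Mathlib
-- import your own Groth.Agent.* helpers here

set_option autoImplicit false
universe u
open CategoryTheory
open CAlg

namespace Groth.Agent.S6322

section
open CategoryTheory.Limits Category

universe v' u'
variable {C : Type u'} [Category.{v'} C] [Abelian C] {Y Z : C}

/-- `Q → Z[0]` is a (not necessarily projective) resolution, in elementary exactness terms. -/
structure Res (Q : ChainComplex C ℕ) (πQ : Q ⟶ (ChainComplex.single₀ C).obj Z) : Prop where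
  zero : Q.d 1 0 ≫ πQ.f 0 = 0
  exact₀ : (ShortComplex.mk (Q.d 1 0) (πQ.f 0) zero).Exact
  epi : Epi (πQ.f 0)
  exact_succ : ∀ n : ℕ, (ShortComplex.mk _ _ (Q.d_comp_d (n + 2) (n + 1) n)).Exact

lemma res_of_quasiIso (Q : ChainComplex C ℕ) (πQ : Q ⟶ (ChainComplex.single₀ C).obj Z)
    [QuasiIso πQ] : Res Q πQ := by
  have hzero : Q.d 1 0 ≫ πQ.f 0 = 0 := by
    rw [← πQ.comm 1 0, HomologicalComplex.single_obj_d, comp_zero]
  have h0 : QuasiIsoAt πQ 0 := inferInstance
  rw [ChainComplex.quasiIsoAt₀_iff, ShortComplex.quasiIso_iff_of_zeros'] at h0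
  · refine ⟨hzero, h0.1, h0.2, fun n => ?_⟩
    have hex : Q.ExactAt (n + 1) := by
      rw [← quasiIsoAt_iff_exactAt' πQ (n + 1) (ChainComplex.exactAt_succ_single_obj _ _)]
      infer_instance
    exact ((HomologicalComplex.exactAt_iff' _ (n + 2) (n + 1) n)
      (by simp only [ChainComplex.prev]; rfl) (by simp)).1 hex
  all_goals first | rfl | exact Q.shape _ _ (by simp) | simp

variable (f : Y ⟶ Z) (P Q : ChainComplex C ℕ) [∀ n, Projective (P.X n)]
  (πP : P ⟶ (ChainComplex.single₀ C).obj Y) (πQ : Q ⟶ (ChainComplex.single₀ C).obj Z)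
  (hQ : Res Q πQ)

include hQ in
lemma exists_lift : ∃ φ : P ⟶ Q, φ ≫ πQ = πP ≫ (ChainComplex.single₀ C).map f := by
  haveI := hQ.epi
  have hPzero : P.d 1 0 ≫ πP.f 0 = 0 := by
    rw [← πP.comm 1 0, HomologicalComplex.single_obj_d, comp_zero]
  let z : P.X 0 ⟶ Q.X 0 := Projective.factorThru (πP.f 0 ≫ ((ChainComplex.single₀ C).map f).f 0) (πQ.f 0)
  have hz : z ≫ πQ.f 0 = πP.f 0 ≫ ((ChainComplex.single₀ C).map f).f 0 := Projective.factorThru_comp _ _
  have h1 : (P.d 1 0 ≫ z) ≫ πQ.f 0 = 0 := by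
    rw [assoc, hz, ← assoc, hPzero, zero_comp]
  let o : P.X 1 ⟶ Q.X 1 := hQ.exact₀.liftFromProjective (P.d 1 0 ≫ z) h1
  have ho : o ≫ Q.d 1 0 = P.d 1 0 ≫ z := hQ.exact₀.liftFromProjective_comp _ _
  let φ : P ⟶ Q := ChainComplex.mkHom _ _ z o ho
    fun n ⟨g, g', w⟩ =>
      ⟨(hQ.exact_succ n).liftFromProjective (P.d (n + 2) (n + 1) ≫ g') (by simp [w]),
        (hQ.exact_succ n).liftFromProjective_comp _ _⟩
  refine ⟨φ, ?_⟩
  apply HomologicalComplex.to_single_hom_ext (j := 0)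
  simp only [HomologicalComplex.comp_f]
  have : φ.f 0 = z := ChainComplex.mkHom_f_0 _ _ _ _ _ _
  rw [this, hz]

omit [∀ n, Projective (P.X n)] in
include hQ in
lemma homotopy_zero [∀ n, Projective (P.X n)] (φ : P ⟶ Q) (comm : φ ≫ πQ = 0) :
    Nonempty (Homotopy φ 0) := by
  have c0 : φ.f 0 ≫ πQ.f 0 = 0 := congr_fun (congr_arg HomologicalComplex.Hom.f comm) 0
  let zz : P.X 0 ⟶ Q.X 1 := hQ.exact₀.liftFromProjective (φ.f 0) c0
  have hzz : zz ≫ Q.d 1 0 = φ.f 0 := hQ.exact₀.liftFromProjective_comp _ _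
  have h1 : (φ.f 1 - P.d 1 0 ≫ zz) ≫ Q.d 1 0 = 0 := by
    rw [Preadditive.sub_comp, assoc, HomologicalComplex.Hom.comm, hzz, sub_self]
  let zo : P.X 1 ⟶ Q.X 2 := (hQ.exact_succ 0).liftFromProjective (φ.f 1 - P.d 1 0 ≫ zz) h1
  have hzo : zo ≫ Q.d 2 1 = φ.f 1 - P.d 1 0 ≫ zz := (hQ.exact_succ 0).liftFromProjective_comp _ _
  exact ⟨Homotopy.mkInductive _ zz (by simp [hzz]) zo (by simp [hzo])
    fun n ⟨g, g', w⟩ =>
      ⟨(hQ.exact_succ (n + 1)).liftFromProjective (φ.f (n + 2) - P.d _ _ ≫ g') (by simp [w]),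
        by simp [(hQ.exact_succ (n + 1)).liftFromProjective_comp]⟩⟩

end

/-- Let R be a ring, M → N a map of R-modules, N• → N a resolution (a chain complex with a
quasi-isomorphism onto N placed in degree 0) and … → F₁ → F₀ → M a complex with every Fᵢ free (F• a
chain complex with an augmentation to M in degree 0, exactness not required). Then (1) there is a
map of complexes F• → N• compatible with M → N through the augmentations, and (2) any two such maps
are homotopic. -/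
theorem result (R : Type u) [CommRing R] (M N : ModuleCat.{u} R) (g : M ⟶ N) (F Nc : ChainComplex (ModuleCat.{u} R) ℕ) (hF : ∀ i, Module.Free R (F.X i)) (εF : F ⟶ (ChainComplex.single₀ (ModuleCat.{u} R)).obj M) (εN : Nc ⟶ (ChainComplex.single₀ (ModuleCat.{u} R)).obj N) [QuasiIso εN] : (∃ φ : F ⟶ Nc, φ ≫ εN = εF ≫ (ChainComplex.single₀ (ModuleCat.{u} R)).map g) ∧ ∀ α β : F ⟶ Nc, α ≫ εN = εF ≫ (ChainComplex.single₀ (ModuleCat.{u} R)).map g → β ≫ εN = εF ≫ (ChainComplex.single₀ (ModuleCat.{u} R)).map g → Nonempty (Homotopy α β) := by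
  haveI : ∀ n, Projective (F.X n) := fun n => by
    haveI := hF n
    exact (IsProjective.iff_projective (R := R) (P := F.X n)).1 inferInstance
  have hQ := res_of_quasiIso Nc εN
  refine ⟨exists_lift g F Nc εF εN hQ, fun α β hα hβ => ?_⟩
  obtain ⟨h⟩ := homotopy_zero F Nc εN hQ (α - β) (by rw [Preadditive.sub_comp, hα, hβ, sub_self])
  exact ⟨Homotopy.equivSubZero.invFun h⟩

end Groth.Agent.S6322
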