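import Groth.Statements.S6324
import Mathlib.Algebra.Polynomial.Monic
import Mathlib.Algebra.Polynomial.Eval.Coeff
import Mathlib.Algebra.Polynomial.Eval.Degree

set_option autoImplicit false
universe u
open CAlg

namespace Groth.Agent.S6324

/-- Let R → S be a ring map, I ⊆ R an ideal and A = Σ Iⁿtⁿ ⊆ R[t] the Rees algebra of I. For s ∈ S,
being integral over I is equivalent to s·t ∈ S[t] being integral over A (via A ⊆ R[t] → S[t]). -/
theorem result {R S : Type u} [CommRing R] [CommRing S] [Algebra R S] (I : Ideal R) (s : S) : W4stkalgebra1.IsIntegralOverIdeal I s ↔ ((Polynomial.mapRingHom (algebraMap R S)).comp (reesAlgebra I).val.toRingHom).IsIntegralElem (Polynomial.C s * Polynomial.X) := by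
  classical
  set φ : (reesAlgebra I) →+* Polynomial S :=
    (Polynomial.mapRingHom (algebraMap R S)).comp (reesAlgebra I).val.toRingHom with hφ
  have hφ_apply : ∀ b : reesAlgebra I, φ b = Polynomial.map (algebraMap R S) (b : Polynomial R) :=
    fun b => rfl
  have hpow : ∀ j : ℕ, (Polynomial.C s * Polynomial.X : Polynomial S) ^ j =
      Polynomial.C (s ^ j) * Polynomial.X ^ j := by
    intro j
    rw [mul_pow, ← Polynomial.C_pow]
  constructor
  · rintro ⟨p, hp, hcoeff, hroot⟩
    set d := p.natDegree with hd
    have hmem : ∀ j : ℕ, Polynomial.monomial (d - j) (p.coeff j) ∈ reesAlgebra I := by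
      intro j
      rw [reesAlgebra.monomial_mem]
      rcases lt_trichotomy j d with h | h | h
      · exact hcoeff j h
      · subst h
        simp
      · rw [Polynomial.coeff_eq_zero_of_natDegree_lt h]
        exact zero_mem _
    let b : ℕ → reesAlgebra I := fun j => ⟨Polynomial.monomial (d - j) (p.coeff j), hmem j⟩
    let q : Polynomial (reesAlgebra I) :=
      ∑ j ∈ Finset.range (d + 1), Polynomial.C (b j) * Polynomial.X ^ j
    have hqd : q.coeff d = 1 := by
      simp only [q, Polynomial.finsetSum_coeff, Polynomial.coeff_C_mul_X_pow]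
      rw [Finset.sum_eq_single d]
      · simp only [if_true]
        apply Subtype.ext
        simp only [b, Nat.sub_self]
        rw [hd, hp.coeff_natDegree]
        rfl
      · intro j _ hj
        rw [if_neg (Ne.symm hj)]
      · intro h
        exact absurd (Finset.mem_range.mpr (Nat.lt_succ_self d)) h
    have hqdeg : q.natDegree ≤ d := by
      apply Polynomial.natDegree_sum_le_of_forall_le
      intro j hj
      exact (Polynomial.natDegree_C_mul_X_pow_le _ _).trans (Nat.lt_succ_iff.mp (Finset.mem_range.mp hj))
    refine ⟨q, Polynomial.monic_of_natDegree_le_of_coeff_eq_one d hqdeg hqd, ?_⟩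
    simp only [q, Polynomial.eval₂_finsetSum, Polynomial.eval₂_mul, Polynomial.eval₂_C,
      Polynomial.eval₂_pow, Polynomial.eval₂_X]
    have hterm : ∀ j ∈ Finset.range (d + 1),
        φ (b j) * (Polynomial.C s * Polynomial.X) ^ j =
          Polynomial.C (algebraMap R S (p.coeff j) * s ^ j) * Polynomial.X ^ d := by
      intro j hj
      have hjd : j ≤ d := Nat.lt_succ_iff.mp (Finset.mem_range.mp hj)
      rw [hφ_apply, hpow]
      simp only [b, Polynomial.map_monomial]
      rw [← Polynomial.C_mul_X_pow_eq_monomial, Polynomial.C_mul]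
      have : (Polynomial.X : Polynomial S) ^ d = Polynomial.X ^ (d - j) * Polynomial.X ^ j := by
        rw [← pow_add, Nat.sub_add_cancel hjd]
      rw [this]
      ring
    rw [Finset.sum_congr rfl hterm, ← Finset.sum_mul, ← map_sum]
    rw [Polynomial.eval₂_eq_sum_range] at hroot
    rw [hroot, map_zero, zero_mul]
  · rintro ⟨q, hq, hroot⟩
    change Polynomial.eval₂ φ (Polynomial.C s * Polynomial.X) q = 0 at hroot
    set d := q.natDegree with hd
    let p : Polynomial R :=
      ∑ j ∈ Finset.range (d + 1), Polynomial.C (((q.coeff j : reesAlgebra I) : Polynomial R).coeff (d - j)) * Polynomial.X ^ j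
    have hpcoeff : ∀ j, p.coeff j = if j ≤ d then ((q.coeff j : reesAlgebra I) : Polynomial R).coeff (d - j) else 0 := by
      intro j
      simp only [p, Polynomial.finsetSum_coeff, Polynomial.coeff_C_mul_X_pow]
      by_cases hj : j ≤ d
      · rw [if_pos hj, Finset.sum_eq_single j]
        · simp
        · intro i _ hi
          rw [if_neg (Ne.symm hi)]
        · intro h
          exact absurd (Finset.mem_range.mpr (Nat.lt_succ_of_le hj)) h
      · rw [if_neg hj]
        apply Finset.sum_eq_zero
        intro i hi
        have : i ≤ d := Nat.lt_succ_iff.mp (Finset.mem_range.mp hi)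
        rw [if_neg]
        omega
    have hpd : p.coeff d = 1 := by
      rw [hpcoeff, if_pos le_rfl, hd, hq.coeff_natDegree, Nat.sub_self]
      simp
    have hpdeg : p.natDegree ≤ d := by
      apply Polynomial.natDegree_sum_le_of_forall_le
      intro j hj
      exact (Polynomial.natDegree_C_mul_X_pow_le _ _).trans (Nat.lt_succ_iff.mp (Finset.mem_range.mp hj))
    have hpmonic : p.Monic := Polynomial.monic_of_natDegree_le_of_coeff_eq_one d hpdeg hpd
    by_cases hR : Subsingleton R
    · refine ⟨1, Polynomial.monic_one, ?_, ?_⟩
      · intro j hj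
        simp at hj
      · have : Subsingleton S := (algebraMap R S).codomain_trivial
        exact Subsingleton.elim _ _
    rw [not_subsingleton_iff_nontrivial] at hR
    have hpnat : p.natDegree = d := by
      apply le_antisymm hpdeg
      apply Polynomial.le_natDegree_of_ne_zero
      rw [hpd]
      exact one_ne_zero
    refine ⟨p, hpmonic, ?_, ?_⟩
    · intro j hj
      rw [hpnat] at hj ⊢
      rw [hpcoeff, if_pos hj.le]
      exact (mem_reesAlgebra_iff I _).mp (q.coeff j).2 (d - j)
    · rw [Polynomial.eval₂_eq_sum_range, hpnat]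
      rw [Polynomial.eval₂_eq_sum_range] at hroot
      have := congrArg (fun r => Polynomial.coeff r d) hroot
      simp only [Polynomial.finsetSum_coeff, Polynomial.coeff_zero] at this
      rw [← this]
      apply Finset.sum_congr rfl
      intro j hj
      have hjd : j ≤ d := Nat.lt_succ_iff.mp (Finset.mem_range.mp hj)
      rw [hpow, hφ_apply, ← mul_assoc, Polynomial.coeff_mul_X_pow', if_pos hjd,
        Polynomial.coeff_mul_C, Polynomial.coeff_map, hpcoeff, if_pos hjd]

end Groth.Agent.S6324
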