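import Groth.Statements.S6325
import Groth.Agent.S6324
import Mathlib.RingTheory.IntegralClosure.Algebra.Basic

set_option autoImplicit false
universe u
open CAlg

namespace Groth.Agent.S6325

/-- Let R → S be a ring map and I ⊆ R an ideal. The elements of S integral over I form an R-submodule of
S; moreover, the product s s' is integral over I for any s ∈ S integral over R and any s' ∈ S
integral over I. -/
theorem result {R S : Type u} [CommRing R] [CommRing S] [Algebra R S] (I : Ideal R) : (∃ N : Submodule R S, ∀ s : S, s ∈ N ↔ W4stkalgebra1.IsIntegralOverIdeal I s) ∧ (∀ s s' : S, IsIntegral R s → W4stkalgebra1.IsIntegralOverIdeal I s' → W4stkalgebra1.IsIntegralOverIdeal I (s * s')) := by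
  classical
  set φ : (reesAlgebra I) →+* Polynomial S :=
    (Polynomial.mapRingHom (algebraMap R S)).comp (reesAlgebra I).val.toRingHom with hφ
  have key : ∀ s : S, W4stkalgebra1.IsIntegralOverIdeal I s ↔
      φ.IsIntegralElem (Polynomial.C s * Polynomial.X) := fun s => Groth.Agent.S6324.result I s
  have hcomp : φ.comp (algebraMap R (reesAlgebra I)) =
      (Polynomial.C : S →+* Polynomial S).comp (algebraMap R S) := by
    refine RingHom.ext fun r => ?_
    change Polynomial.map (algebraMap R S) (Polynomial.C r) = Polynomial.C (algebraMap R S r)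
    simp
  have hC : ∀ s : S, IsIntegral R s → φ.IsIntegralElem (Polynomial.C s) := by
    intro s hs
    have h1 : ((Polynomial.C : S →+* Polynomial S).comp (algebraMap R S)).IsIntegralElem
        (Polynomial.C s) := RingHom.IsIntegralElem.map hs Polynomial.C
    rw [← hcomp] at h1
    exact RingHom.IsIntegralElem.of_comp h1
  refine ⟨⟨{ carrier := {s | W4stkalgebra1.IsIntegralOverIdeal I s}
             add_mem' := ?_
             zero_mem' := ?_
             smul_mem' := ?_ }, fun s => Iff.rfl⟩, ?_⟩
  · intro a b ha hb
    simp only [Set.mem_ofPred_eq] at ha hb ⊢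
    rw [key] at ha hb ⊢
    rw [map_add, add_mul]
    exact RingHom.IsIntegralElem.add φ ha hb
  · simp only [Set.mem_ofPred_eq]
    rw [key, map_zero, zero_mul]
    exact φ.isIntegralElem_zero
  · intro r s hs
    simp only [Set.mem_ofPred_eq] at hs ⊢
    rw [key] at hs ⊢
    rw [Algebra.smul_def, map_mul, mul_assoc]
    exact RingHom.IsIntegralElem.mul φ (hC _ isIntegral_algebraMap) hs
  · intro s s' hs hs'
    rw [key] at hs' ⊢
    rw [map_mul, mul_assoc]
    exact RingHom.IsIntegralElem.mul φ (hC s hs) hs'

end Groth.Agent.S6325
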