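import Groth.Statements.S6326
import Mathlib
-- import your own Groth.Agent.* helpers here

set_option autoImplicit false
universe u
open CategoryTheory CategoryTheory.Limits
open CAlg

namespace Groth.Agent.S6326

section
variable (R : Type u) [CommRing R] (N : Type u) [AddCommGroup N] [Module R N]

abbrev J := {N₁ : Submodule R N // N₁.FG}

instance : IsDirected (J R N) (· ≤ ·) :=
  ⟨fun a b => ⟨⟨a.1 ⊔ b.1, a.2.sup b.2⟩, le_sup_left, le_sup_right⟩⟩

instance : Nonempty (J R N) := ⟨⟨⊥, Submodule.fg_bot⟩⟩

noncomputable def F : J R N ⥤ ModuleCat.{u} R where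
  obj N₁ := ModuleCat.of R (N ⧸ N₁.1)
  map {N₁ N₂} h := ModuleCat.ofHom (Submodule.factor (leOfHom h))
  map_id N₁ := by
    ext x
    simp
  map_comp f g := by
    ext x
    simp

end

/-- Let R be a ring and N an R-module such that whenever M is the colimit of a filtered diagram (Mᵢ) of
R-modules (indexed by a filtered category in the same universe), the comparison map colim Hom_R(N,
Mᵢ) → Hom_R(N, M) is injective. Then N is finitely generated. (The implication from finite
generation back to this injectivity also holds; only the characterizing direction is stated here.) -/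
theorem result (R : Type u) [CommRing R] (N : Type u) [AddCommGroup N] [Module R N] (h : ∀ (J : Type u) [SmallCategory J] [IsFiltered J] (F : J ⥤ ModuleCat.{u} R), Function.Injective (colimit.post F (coyoneda.obj (Opposite.op (ModuleCat.of R N))))) : Module.Finite R N := by
  classical
  have hinj := h (J R N) (F R N)
  let b : J R N := ⟨⊥, Submodule.fg_bot⟩
  let x : (F R N ⋙ coyoneda.obj (Opposite.op (ModuleCat.of R N))).obj b :=
    ModuleCat.ofHom (Submodule.mkQ (⊥ : Submodule R N))
  let y : (F R N ⋙ coyoneda.obj (Opposite.op (ModuleCat.of R N))).obj b :=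
    (0 : ModuleCat.of R N ⟶ (F R N).obj b)
  have hxy : colimit.post (F R N) (coyoneda.obj (Opposite.op (ModuleCat.of R N)))
      (colimit.ι (F R N ⋙ coyoneda.obj (Opposite.op (ModuleCat.of R N))) b x)
      = colimit.post (F R N) (coyoneda.obj (Opposite.op (ModuleCat.of R N)))
      (colimit.ι (F R N ⋙ coyoneda.obj (Opposite.op (ModuleCat.of R N))) b y) := by
    have e1 : (colimit.ι (F R N ⋙ coyoneda.obj (Opposite.op (ModuleCat.of R N))) b ≫
        colimit.post (F R N) (coyoneda.obj (Opposite.op (ModuleCat.of R N)))) x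
        = ((coyoneda.obj (Opposite.op (ModuleCat.of R N))).map (colimit.ι (F R N) b)) x := by
      rw [colimit.ι_post]
    have e2 : (colimit.ι (F R N ⋙ coyoneda.obj (Opposite.op (ModuleCat.of R N))) b ≫
        colimit.post (F R N) (coyoneda.obj (Opposite.op (ModuleCat.of R N)))) y
        = ((coyoneda.obj (Opposite.op (ModuleCat.of R N))).map (colimit.ι (F R N) b)) y := by
      rw [colimit.ι_post]
    simp only [types_comp_apply] at e1 e2
    rw [e1, e2]
    change (ModuleCat.ofHom (Submodule.mkQ (⊥ : Submodule R N)) : ModuleCat.of R N ⟶ (F R N).obj b)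
        ≫ colimit.ι (F R N) b
      = (0 : ModuleCat.of R N ⟶ (F R N).obj b) ≫ colimit.ι (F R N) b
    rw [Limits.zero_comp]
    apply ModuleCat.hom_ext
    apply LinearMap.ext
    intro n
    -- n lies in the f.g. submodule span {n}
    let c : J R N := ⟨Submodule.span R {n}, Submodule.fg_span_singleton n⟩
    have hbc : b ≤ c := (bot_le : (⊥ : Submodule R N) ≤ Submodule.span R {n})
    have hι : colimit.ι (F R N) b = (F R N).map (homOfLE hbc) ≫ colimit.ι (F R N) c :=
      (colimit.w (F R N) (homOfLE hbc)).symm
    rw [hι]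
    have h0 : ((F R N).map (homOfLE hbc)).hom (Submodule.mkQ (⊥ : Submodule R N) n) = 0 := by
      change Submodule.factor (show (⊥ : Submodule R N) ≤ Submodule.span R {n} from bot_le)
        (Submodule.mkQ (⊥ : Submodule R N) n) = 0
      rw [Submodule.factor_mk, Submodule.mkQ_apply, Submodule.Quotient.mk_eq_zero]
      exact Submodule.mem_span_singleton_self n
    change (colimit.ι (F R N) c).hom (((F R N).map (homOfLE hbc)).hom
      (Submodule.mkQ (⊥ : Submodule R N) n)) = 0
    rw [h0, map_zero]
  have hcol := hinj hxy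
  rw [Types.FilteredColimit.colimit_eq_iff] at hcol
  obtain ⟨k, f, g, hfg⟩ := hcol
  -- hfg : x ≫ F.map f = y ≫ F.map g
  have hfg' : (ModuleCat.ofHom (Submodule.mkQ (⊥ : Submodule R N)) : ModuleCat.of R N ⟶ (F R N).obj b)
      ≫ (F R N).map f = (0 : ModuleCat.of R N ⟶ (F R N).obj b) ≫ (F R N).map g := hfg
  rw [Limits.zero_comp] at hfg'
  have htop : k.1 = ⊤ := by
    rw [eq_top_iff]
    intro n _
    have := congrArg (fun φ : ModuleCat.of R N ⟶ (F R N).obj k => φ.hom n) hfg'
    change Submodule.factor (show (⊥ : Submodule R N) ≤ k.1 from bot_le)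
      (Submodule.mkQ (⊥ : Submodule R N) n) = 0 at this
    rwa [Submodule.factor_mk, Submodule.mkQ_apply, Submodule.Quotient.mk_eq_zero] at this
  rw [Module.finite_def, ← htop]
  exact k.2

end Groth.Agent.S6326
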