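import Groth.Statements.S6328
import Mathlib
-- import your own Groth.Agent.* helpers here

set_option autoImplicit false
universe u
open CAlg

namespace Groth.Agent.S6328

section
open scoped Classical
variable (R : Type u) [CommRing R] (M : Type u) [AddCommGroup M] [Module R M]

/-- the free module on `M` (type synonym of `M →₀ R`, to avoid instance diamonds on submodules). -/
def Fr : Type u := M →₀ R
noncomputable instance : AddCommGroup (Fr R M) := inferInstanceAs (AddCommGroup (M →₀ R))
noncomputable instance : Module R (Fr R M) := inferInstanceAs (Module R (M →₀ R))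

/-- identification with finsupp -/
noncomputable def eF : Fr R M ≃ₗ[R] (M →₀ R) := LinearEquiv.refl R (M →₀ R)

/-- the canonical surjection from the free module on `M`. -/
noncomputable def pr : Fr R M →ₗ[R] M := (Finsupp.linearCombination R id).comp (eF R M).toLinearMap

noncomputable def sgl (m : M) : Fr R M := (eF R M).symm (Finsupp.single m 1)

lemma pr_sgl (m : M) : pr R M (sgl R M m) = m := by
  simp [pr, sgl]

noncomputable def supp (s : Set M) : Submodule R (Fr R M) :=
  (Finsupp.supported R R s).comap (eF R M).toLinearMap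

lemma supp_mono {s t : Set M} (h : s ⊆ t) : supp R M s ≤ supp R M t :=
  Submodule.comap_mono (Finsupp.supported_mono h)

lemma sgl_mem (m : M) (s : Set M) (h : m ∈ s) : sgl R M m ∈ supp R M s := by
  change (eF R M) ((eF R M).symm (Finsupp.single m 1)) ∈ Finsupp.supported R R s
  rw [LinearEquiv.apply_symm_apply]
  exact Finsupp.single_mem_supported R 1 h

noncomputable def suppEquiv (s : Set M) : supp R M s ≃ₗ[R] (s →₀ R) :=
  ((eF R M).submoduleMap (supp R M s)).trans
    ((LinearEquiv.ofEq _ _ (by
      rw [supp]
      exact Submodule.map_comap_eq_of_surjective (eF R M).surjective _)).trans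
    (Finsupp.supportedEquivFinsupp s))

/-- index: finite subset `S` of `M`, f.g. submodule of relations supported in `S`. -/
abbrev Idx : Type u :=
  {x : Finset M × Submodule R (Fr R M) //
    x.2.FG ∧ x.2 ≤ LinearMap.ker (pr R M) ⊓ supp R M (x.1 : Set M)}

instance : Nonempty (Idx R M) := ⟨⟨(∅, ⊥), Submodule.fg_bot, bot_le⟩⟩

instance : IsDirected (Idx R M) (· ≤ ·) :=
  ⟨fun a b => ⟨⟨(a.1.1 ∪ b.1.1, a.1.2 ⊔ b.1.2), a.2.1.sup b.2.1, by
      refine sup_le ?_ ?_
      · refine le_trans a.2.2 (inf_le_inf_left _ (supp_mono R M ?_))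
        exact_mod_cast Finset.subset_union_left
      · refine le_trans b.2.2 (inf_le_inf_left _ (supp_mono R M ?_))
        exact_mod_cast Finset.subset_union_right⟩,
    ⟨Finset.subset_union_left, le_sup_left⟩, ⟨Finset.subset_union_right, le_sup_right⟩⟩⟩

/-- the supporting free module -/
noncomputable abbrev Sp (i : Idx R M) : Submodule R (Fr R M) := supp R M (i.1.1 : Set M)

/-- the relations -/
noncomputable abbrev Rl (i : Idx R M) : Submodule R (Sp R M i) := i.1.2.comap (Sp R M i).subtype

noncomputable abbrev G (i : Idx R M) : Type u := (Sp R M i) ⧸ (Rl R M i)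

lemma sp_mono {i j : Idx R M} (h : i ≤ j) : Sp R M i ≤ Sp R M j :=
  supp_mono R M (by exact_mod_cast h.1)

noncomputable def f (i j : Idx R M) (h : i ≤ j) : G R M i →ₗ[R] G R M j :=
  Submodule.mapQ _ _ (Submodule.inclusion (sp_mono R M h)) (by
    intro x hx
    exact h.2 hx)

lemma f_mk (i j : Idx R M) (h : i ≤ j) (x : Sp R M i) :
    f R M i j h (Submodule.Quotient.mk x) =
      Submodule.Quotient.mk (Submodule.inclusion (sp_mono R M h) x) := rfl

instance : DirectedSystem (G R M) fun i j h => f R M i j h where
  map_self i x := by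
    obtain ⟨x, rfl⟩ := Submodule.Quotient.mk_surjective _ x
    rfl
  map_map k j i hij hjk x := by
    obtain ⟨x, rfl⟩ := Submodule.Quotient.mk_surjective _ x
    rfl

noncomputable def g (i : Idx R M) : G R M i →ₗ[R] M :=
  Submodule.liftQ _ ((pr R M).comp (Sp R M i).subtype) (by
    intro x hx
    exact (i.2.2 hx).1)

lemma g_mk (i : Idx R M) (x : Sp R M i) :
    g R M i (Submodule.Quotient.mk x) = pr R M x.1 := rfl

lemma g_f (i j : Idx R M) (h : i ≤ j) (x : G R M i) : g R M j (f R M i j h x) = g R M i x := by
  obtain ⟨x, rfl⟩ := Submodule.Quotient.mk_surjective _ x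
  rfl

lemma fp (i : Idx R M) : Module.FinitePresentation R (G R M i) := by
  haveI : Module.FinitePresentation R (Sp R M i) :=
    Module.FinitePresentation.of_equiv (suppEquiv R M (i.1.1 : Set M)).symm
  refine Module.finitePresentation_of_surjective (Rl R M i).mkQ (Submodule.mkQ_surjective _) ?_
  rw [Submodule.ker_mkQ]
  have hle : i.1.2 ≤ Sp R M i := le_trans i.2.2 inf_le_right
  haveI : Module.Finite R i.1.2 := Module.Finite.iff_fg.2 i.2.1
  have := Module.Finite.equiv (Submodule.comapSubtypeEquivOfLe hle).symm
  exact Module.Finite.iff_fg.1 this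

end

/-- Every module M over a ring R can be written as the direct limit of a directed system (Mᵢ, μᵢⱼ) of
finitely presented R-modules. -/
theorem result (R : Type u) [CommRing R] (M : Type u) [AddCommGroup M] [Module R M] : ∃ (ι : Type u) (_ : Preorder ι) (_ : IsDirected ι (· ≤ ·)) (_ : Nonempty ι) (_ : DecidableEq ι) (G : ι → Type u) (_ : ∀ i, AddCommGroup (G i)) (_ : ∀ i, Module R (G i)) (f : ∀ i j, i ≤ j → G i →ₗ[R] G j) (_ : DirectedSystem G fun i j h => f i j h), (∀ i, Module.FinitePresentation R (G i)) ∧ Nonempty (Module.DirectLimit G f ≃ₗ[R] M) := by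
  classical
  refine ⟨Idx R M, inferInstance, inferInstance, inferInstance, inferInstance, G R M,
    fun i => inferInstance, fun i => inferInstance, f R M, inferInstance, fp R M, ?_⟩
  let L : Module.DirectLimit (G R M) (f R M) →ₗ[R] M :=
    Module.DirectLimit.lift R (Idx R M) (G R M) (f R M) (g R M) (g_f R M)
  refine ⟨LinearEquiv.ofBijective L ⟨?_, ?_⟩⟩
  · rw [injective_iff_map_eq_zero]
    intro z hz
    obtain ⟨i, x, rfl⟩ := Module.DirectLimit.exists_of z
    obtain ⟨y, rfl⟩ := Submodule.Quotient.mk_surjective _ x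
    have hy : pr R M y.1 = 0 := by
      have := Module.DirectLimit.lift_of (R := R) (ι := Idx R M) (G := G R M) (f := f R M)
        (g R M) (g_f R M) (i := i) (Submodule.Quotient.mk y)
      rw [← g_mk, ← this]; exact hz
    let j : Idx R M := ⟨(i.1.1, i.1.2 ⊔ Submodule.span R {y.1}),
      i.2.1.sup (Submodule.fg_span_singleton _), by
        refine sup_le i.2.2 ?_
        rw [Submodule.span_singleton_le_iff_mem]
        exact ⟨hy, y.2⟩⟩
    have hij : i ≤ j := ⟨le_rfl, le_sup_left⟩
    rw [← Module.DirectLimit.of_f (hij := hij), f_mk]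
    have : (Submodule.Quotient.mk (Submodule.inclusion (sp_mono R M hij) y) : G R M j) = 0 := by
      rw [Submodule.Quotient.mk_eq_zero]
      change y.1 ∈ i.1.2 ⊔ Submodule.span R {y.1}
      exact Submodule.mem_sup_right (Submodule.mem_span_singleton_self _)
    rw [this, map_zero]
  · intro m
    let i : Idx R M := ⟨({m}, ⊥), Submodule.fg_bot, bot_le⟩
    have hm : sgl R M m ∈ Sp R M i := by
      apply sgl_mem
      simp [i]
    refine ⟨Module.DirectLimit.of R (Idx R M) (G R M) (f R M) i
      (Submodule.Quotient.mk ⟨sgl R M m, hm⟩), ?_⟩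
    change L _ = m
    rw [Module.DirectLimit.lift_of, g_mk, pr_sgl]

end Groth.Agent.S6328
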