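import Groth.Statements.S6327
import Mathlib
import Groth.Agent.S6328
-- import your own Groth.Agent.* helpers here

set_option autoImplicit false
universe u
open CategoryTheory CategoryTheory.Limits
open CAlg

namespace Groth.Agent.S6327

/-- a retract of a finitely presented module is finitely presented. -/
lemma fp_of_retract {R : Type u} [CommRing R] {N P : Type u} [AddCommGroup N] [Module R N]
    [AddCommGroup P] [Module R P] [Module.FinitePresentation R P]
    (s : N →ₗ[R] P) (r : P →ₗ[R] N) (hrs : ∀ n, r (s n) = n) : Module.FinitePresentation R N := by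
  have hsurj : Function.Surjective r := fun n => ⟨s n, hrs n⟩
  refine Module.finitePresentation_of_surjective r hsurj ?_
  have hker : LinearMap.ker r = LinearMap.range (LinearMap.id - s.comp r) := by
    ext x
    constructor
    · intro hx
      refine ⟨x, ?_⟩
      have : r x = 0 := hx
      simp [this]
    · rintro ⟨y, rfl⟩
      simp [hrs]
  rw [hker, LinearMap.range_eq_map]
  exact Submodule.FG.map _ Module.Finite.fg_top


/-- Let R be a ring and N an R-module such that whenever M is the colimit of a filtered diagram (Mᵢ) of
R-modules (indexed by a filtered category in the same universe), the comparison map colim Hom_R(N,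
Mᵢ) → Hom_R(N, M) is bijective. Then N is finitely presented. (The implication from finite
presentation back to this bijectivity also holds; only the characterizing direction is stated here.) -/
theorem result (R : Type u) [CommRing R] (N : Type u) [AddCommGroup N] [Module R N] (h : ∀ (J : Type u) [SmallCategory J] [IsFiltered J] (F : J ⥤ ModuleCat.{u} R), Function.Bijective (colimit.post F (coyoneda.obj (Opposite.op (ModuleCat.of R N))))) : Module.FinitePresentation R N := by
  obtain ⟨ι, instP, instD, instN, instDec, G, instG, instMod, f, instDS, hfp, ⟨e⟩⟩ :=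
    Groth.Agent.S6328.result R N
  let F : ι ⥤ ModuleCat.{u} R := ModuleCat.directLimitDiagram G f
  let c : Cocone F := ModuleCat.directLimitCocone G f
  have hc : IsColimit c := ModuleCat.directLimitIsColimit G f
  let E : colimit F ≅ c.pt := colimit.isoColimitCocone ⟨c, hc⟩
  let H := coyoneda.obj (Opposite.op (ModuleCat.of R N))
  let ψ : ModuleCat.of R N ⟶ c.pt := ModuleCat.ofHom e.symm.toLinearMap
  let φ : ModuleCat.of R N ⟶ colimit F := ψ ≫ E.inv
  obtain ⟨z, hz⟩ := (h ι F).2 φ
  obtain ⟨i, x, rfl⟩ := Types.jointly_surjective' z
  have e1 : (colimit.ι (F ⋙ H) i ≫ colimit.post F H) x = (H.map (colimit.ι F i)) x := by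
    rw [colimit.ι_post]
  simp only [types_comp_apply] at e1
  have e2 : (x : ModuleCat.of R N ⟶ F.obj i) ≫ colimit.ι F i = φ := by
    rw [← hz]; exact e1.symm
  have h3 : c.ι.app i = colimit.ι F i ≫ E.hom := by
    simp [E]
  have h4 : (x : ModuleCat.of R N ⟶ F.obj i) ≫ c.ι.app i = ψ := by
    rw [h3, ← Category.assoc, e2]
    change (ψ ≫ E.inv) ≫ E.hom = ψ
    rw [Category.assoc, E.inv_hom_id]
    exact Category.comp_id _
  have h5 : ∀ n : N, e (Module.DirectLimit.of R ι G f i ((x : ModuleCat.of R N ⟶ F.obj i).hom n))
      = n := by
    intro n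
    have h6 := congrArg (fun ψ : ModuleCat.of R N ⟶ c.pt => ψ.hom n) h4
    have h7 : Module.DirectLimit.of R ι G f i ((x : ModuleCat.of R N ⟶ F.obj i).hom n)
        = e.symm n := h6
    rw [h7, LinearEquiv.apply_symm_apply]
  have hfpi : Module.FinitePresentation R (G i) := hfp i
  exact @fp_of_retract R _ N (G i) _ _ (instG i) (instMod i) hfpi (x : ModuleCat.of R N ⟶ F.obj i).hom
    (e.toLinearMap.comp (Module.DirectLimit.of R ι G f i)) h5

end Groth.Agent.S6327
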