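import Groth.Statements.S6330
import Mathlib
import Groth.Agent.S6308
import Groth.Agent.Lib.Helper45.ResidueTensor

set_option autoImplicit false
universe u
open scoped TensorProduct
open CAlg

namespace Groth.Agent.S6330

/-- Let R be a ring and φ : P₁ → P₂ a map of finite projective R-modules. The set W of primes p of R
such that φ ⊗ κ(p) is surjective is open, and for every f ∈ R with D(f) ⊆ W the map (P₁)_f → (P₂)_f
is surjective and Ker(φ)_f is a finite projective module over R_f. -/
theorem result {R : Type u} [CommRing R] {P₁ P₂ : Type u} [AddCommGroup P₁] [Module R P₁] [AddCommGroup P₂] [Module R P₂] [Module.Finite R P₁] [Module.Projective R P₁] [Module.Finite R P₂] [Module.Projective R P₂] (φ : P₁ →ₗ[R] P₂) : IsOpen {p : PrimeSpectrum R | Function.Surjective (φ.lTensor p.asIdeal.ResidueField)} ∧ ∀ f : R, (↑(PrimeSpectrum.basicOpen f) : Set (PrimeSpectrum R)) ⊆ {p : PrimeSpectrum R | Function.Surjective (φ.lTensor p.asIdeal.ResidueField)} → Function.Surjective (LocalizedModule.map (Submonoid.powers f) φ) ∧ Module.Finite (Localization.Away f) (LocalizedModule (Submonoid.powers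 f) (LinearMap.ker φ)) ∧ Module.Projective (Localization.Away f) (LocalizedModule (Submonoid.powers f) (LinearMap.ker φ)) := by
  obtain ⟨h1, h2, h3⟩ := Groth.Agent.S6308.result φ
  have hset : {p : PrimeSpectrum R | Function.Surjective (φ.lTensor p.asIdeal.ResidueField)} =
      {p : PrimeSpectrum R | Function.Surjective (LocalizedModule.map p.asIdeal.primeCompl φ)} := by
    ext p
    exact (h1 p).symm
  rw [hset]
  refine ⟨h2, fun f hf => ?_⟩
  have hsurj := h3 f hf
  refine ⟨hsurj, ?_⟩
  have hex0 : Function.Exact (LinearMap.ker φ).subtype φ := LinearMap.exact_subtype_ker_map φ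
  have hex : Function.Exact (LocalizedModule.map (Submonoid.powers f) (LinearMap.ker φ).subtype)
      (LocalizedModule.map (Submonoid.powers f) φ) :=
    LocalizedModule.map_exact (Submonoid.powers f) _ _ hex0
  have hinj : Function.Injective (LocalizedModule.map (Submonoid.powers f) (LinearMap.ker φ).subtype) :=
    LocalizedModule.map_injective _ _ Subtype.val_injective
  obtain ⟨l, hl⟩ := Groth.Agent.Lib.Helper45.ResidueTensor.exists_retraction_of_exact _ _ hex hinj hsurj
  have hlsurj : Function.Surjective l := fun x => ⟨_, LinearMap.congr_fun hl x⟩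
  exact ⟨Module.Finite.of_surjective l hlsurj, Module.Projective.of_split _ l hl⟩

end Groth.Agent.S6330
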