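import Groth.Statements.S6331
import Mathlib.Dynamics.Newton
import Mathlib.RingTheory.Ideal.Quotient.Operations

set_option autoImplicit false
universe u
open CAlg

namespace Groth.Agent.S6331

open Polynomial in
/-- Uniqueness of `n`-th roots congruent to one modulo nilpotents, when `n` is invertible. -/
theorem root_unique {S : Type u} [CommRing S] (n : ℕ) (hn : 1 ≤ n) (hS : IsUnit ((n : ℕ) : S))
    (c : S) (hc : IsNilpotent (1 - c)) (r₁ r₂ : S) (h₁ : IsNilpotent (1 - r₁)) (h₁' : r₁ ^ n = c)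
    (h₂ : IsNilpotent (1 - r₂)) (h₂' : r₂ ^ n = c) : r₁ = r₂ := by
  have hP : IsNilpotent (aeval (1 : S) (X ^ n - C c : S[X])) := by
    simpa using hc
  have hP' : IsUnit (aeval (1 : S) (derivative (X ^ n - C c : S[X]))) := by
    simpa [derivative_X_pow] using hS
  obtain ⟨r, -, hr⟩ := existsUnique_nilpotent_sub_and_aeval_eq_zero hP hP'
  have e₁ : r₁ = r := hr r₁ ⟨h₁, by simp [h₁']⟩
  have e₂ : r₂ = r := hr r₂ ⟨h₂, by simp [h₂']⟩
  rw [e₁, e₂]

open Polynomial in
/-- Existence of `n`-th roots congruent to one modulo nilpotents, when `n` is invertible. -/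
theorem root_exists {S : Type u} [CommRing S] (n : ℕ) (hS : IsUnit ((n : ℕ) : S))
    (c : S) (hc : IsNilpotent (1 - c)) : ∃ r : S, IsNilpotent (1 - r) ∧ r ^ n = c := by
  have hP : IsNilpotent (aeval (1 : S) (X ^ n - C c : S[X])) := by
    simpa using hc
  have hP' : IsUnit (aeval (1 : S) (derivative (X ^ n - C c : S[X]))) := by
    simpa [derivative_X_pow] using hS
  obtain ⟨r, ⟨hr1, hr2⟩, -⟩ := existsUnique_nilpotent_sub_and_aeval_eq_zero hP hP'
  refine ⟨r, hr1, ?_⟩
  simpa [sub_eq_zero] using hr2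

/-- Let R be a ring, I ⊆ R an ideal all of whose elements are nilpotent, and n ≥ 1 an integer whose
image in R/I is invertible. Then (1) raising to the n-th power is a bijection of the subset 1 + I of
R onto itself: for every y ∈ I there is exactly one x ∈ I with (1 + x)ⁿ = 1 + y; (2) a unit u of R
has an n-th root in R exactly when the residue class of u has an n-th root in R/I. -/
theorem result {R : Type u} [CommRing R] (I : Ideal R) (hI : ∀ x ∈ I, IsNilpotent x) (n : ℕ) (hn : 1 ≤ n) (hinv : IsUnit ((n : ℕ) : R ⧸ I)) : (∀ y ∈ I, ∃! x : R, x ∈ I ∧ (1 + x) ^ n = 1 + y) ∧ (∀ u : Rˣ, (∃ v : R, v ^ n = (u : R)) ↔ ∃ w : R ⧸ I, w ^ n = Ideal.Quotient.mk I (u : R)) := by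
  -- `n` is a unit of `R`
  have hnR : IsUnit ((n : ℕ) : R) := by
    obtain ⟨w, hw⟩ := hinv.exists_right_inv
    obtain ⟨m, rfl⟩ := Ideal.Quotient.mk_surjective w
    have h1 : ((n : ℕ) : R) * m - 1 ∈ I := by
      rw [← Ideal.Quotient.eq_zero_iff_mem, map_sub, map_mul, map_natCast, hw, map_one, sub_self]
    have h2 : IsUnit (1 + (((n : ℕ) : R) * m - 1)) := (hI _ h1).isUnit_one_add
    rw [add_sub_cancel] at h2
    exact isUnit_of_mul_isUnit_left h2
  have key : ∀ y ∈ I, ∃! x : R, x ∈ I ∧ (1 + x) ^ n = 1 + y := by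
    intro y hy
    have hc : IsNilpotent (1 - (1 + y)) := by
      have : 1 - (1 + y) = -y := by ring
      rw [this]
      exact (hI y hy).neg
    obtain ⟨r, hr1, hr2⟩ := root_exists n hnR (1 + y) hc
    -- the root is congruent to one modulo `I`
    have hrI : r - 1 ∈ I := by
      rw [← Ideal.Quotient.eq_zero_iff_mem, map_sub, map_one, sub_eq_zero]
      refine root_unique (S := R ⧸ I) n hn hinv 1 (by simp) _ _ ?_ ?_ (by simp) (by simp)
      · have := hr1.map (Ideal.Quotient.mk I)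
        simpa using this
      · rw [← map_pow, hr2, map_add, map_one, Ideal.Quotient.eq_zero_iff_mem.2 hy, add_zero]
    refine ⟨r - 1, ⟨hrI, by rw [add_sub_cancel, hr2]⟩, ?_⟩
    rintro x ⟨hx1, hx2⟩
    have hx : IsNilpotent (1 - (1 + x)) := by
      have : 1 - (1 + x) = -x := by ring
      rw [this]
      exact (hI x hx1).neg
    have := root_unique n hn hnR (1 + y) hc (1 + x) r hx hx2 hr1 hr2
    rw [← this]
    ring
  refine ⟨key, ?_⟩
  intro u
  constructor
  · rintro ⟨v, hv⟩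
    exact ⟨Ideal.Quotient.mk I v, by rw [← map_pow, hv]⟩
  · rintro ⟨w, hw⟩
    obtain ⟨v₀, rfl⟩ := Ideal.Quotient.mk_surjective w
    have h1 : v₀ ^ n - (u : R) ∈ I := by
      rw [← Ideal.Quotient.eq_zero_iff_mem, map_sub, map_pow, hw, sub_self]
    have h2 : ((u⁻¹ : Rˣ) : R) * (v₀ ^ n - (u : R)) ∈ I := I.mul_mem_left _ h1
    obtain ⟨x, ⟨hx1, hx2⟩, -⟩ := key _ h2
    obtain ⟨t, ht⟩ := (hI x hx1).isUnit_one_add
    refine ⟨v₀ * ((t⁻¹ : Rˣ) : R), ?_⟩
    have h3 : v₀ ^ n = (u : R) * (1 + ((u⁻¹ : Rˣ) : R) * (v₀ ^ n - (u : R))) := by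
      have : (u : R) * ((u⁻¹ : Rˣ) : R) = 1 := by simp
      linear_combination (-(v₀ ^ n - (u : R))) * this
    rw [mul_pow, h3, ← hx2, ← ht, mul_assoc, ← mul_pow]
    simp

end Groth.Agent.S6331
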