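import Groth.Statements.S6332
import Mathlib.RingTheory.Trace.Basic
import Mathlib.GroupTheory.SpecificGroups.Cyclic.Basic
import Mathlib.Algebra.CharP.Lemmas
import Mathlib.Algebra.CharP.Algebra
import Mathlib.LinearAlgebra.FiniteDimensional.Lemmas

set_option autoImplicit false
universe u
open Fields

namespace Groth.Agent.S6332

open IntermediateField in
/-- Let L/K be a finite Galois extension of fields of characteristic p > 0 whose degree equals the prime
p (equivalently, the Galois group is cyclic of order p). Then there is an element z of L with z ^ p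
- z in K which generates L over K. -/
theorem result {K L : Type u} [Field K] [Field L] [Algebra K L] (p : ℕ)
    [Fact p.Prime] [CharP K p] [FiniteDimensional K L] [IsGalois K L]
    (hdeg : Module.finrank K L = p) :
    ∃ z : L, z ^ p - z ∈ Set.range (algebraMap K L) ∧ K⟮z⟯ = ⊤ := by
  classical
  have hp : p.Prime := Fact.out
  have hcharL : CharP L p := charP_of_injective_algebraMap (algebraMap K L).injective p
  have hcard : Nat.card (L ≃ₐ[K] L) = p := by rw [IsGalois.card_aut_eq_finrank, hdeg]
  have hnt : Nontrivial (L ≃ₐ[K] L) := by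
    have h1 : 1 < Nat.card (L ≃ₐ[K] L) := hcard ▸ hp.one_lt
    exact Finite.one_lt_card_iff_nontrivial.1 h1
  obtain ⟨σ, hσ⟩ := exists_ne (1 : L ≃ₐ[K] L)
  have hgen : Subgroup.zpowers σ = ⊤ := zpowers_eq_top_of_prime_card hcard hσ
  let N : L →ₗ[K] L := σ.toLinearMap - LinearMap.id
  have hN : ∀ x, N x = σ x - x := fun x => rfl
  -- elements fixed by `σ` lie in `K`
  have hfix : ∀ x : L, σ x = x → x ∈ Set.range (algebraMap K L) := by
    intro x hx
    rw [IsGalois.mem_range_algebraMap_iff_fixed]
    intro τ
    have hτ : τ ∈ Subgroup.zpowers σ := hgen ▸ Subgroup.mem_top τ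
    have hle : Subgroup.zpowers σ ≤ MulAction.stabilizer (L ≃ₐ[K] L) x := by
      rw [Subgroup.zpowers_le]
      exact hx
    exact hle hτ
  have hkerN : Module.finrank K (LinearMap.ker N) = 1 := by
    have h1 : LinearMap.ker N = LinearMap.range (Algebra.linearMap K L) := by
      ext x
      rw [LinearMap.mem_ker, hN, sub_eq_zero, LinearMap.mem_range]
      constructor
      · intro hx
        exact hfix x hx
      · rintro ⟨y, rfl⟩
        simp
    rw [h1, LinearMap.finrank_range_of_inj (algebraMap K L).injective, Module.finrank_self]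
  have hrangeN : Module.finrank K (LinearMap.range N) = p - 1 := by
    have := LinearMap.finrank_range_add_finrank_ker N
    omega
  -- the trace
  have hTsurj : Function.Surjective (Algebra.trace K L) := Algebra.trace_surjective K L
  have hkerT : Module.finrank K (LinearMap.ker (Algebra.trace K L)) = p - 1 := by
    have := LinearMap.finrank_range_add_finrank_ker (Algebra.trace K L)
    rw [LinearMap.range_eq_top.2 hTsurj, finrank_top, Module.finrank_self] at this
    omega
  have hle : LinearMap.range N ≤ LinearMap.ker (Algebra.trace K L) := by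
    rintro _ ⟨x, rfl⟩
    rw [LinearMap.mem_ker, hN, map_sub, Algebra.trace_eq_of_algEquiv, sub_self]
  have heq : LinearMap.range N = LinearMap.ker (Algebra.trace K L) :=
    Submodule.eq_of_le_of_finrank_eq hle (by rw [hrangeN, hkerT])
  have h1 : (1 : L) ∈ LinearMap.ker (Algebra.trace K L) := by
    rw [LinearMap.mem_ker]
    have := Algebra.trace_algebraMap (R := K) (S := L) 1
    rw [map_one] at this
    rw [this, hdeg]
    simp
  rw [← heq] at h1
  obtain ⟨z, hz⟩ := h1
  have hσz : σ z = z + 1 := by
    have := hN z
    rw [hz] at this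
    linear_combination -this
  refine ⟨z, hfix _ ?_, ?_⟩
  · rw [map_sub, map_pow, hσz, add_pow_char, one_pow]
    ring
  · have hsimple := IntermediateField.isSimpleOrder_of_finrank_prime K L (hdeg ▸ hp)
    rcases eq_bot_or_eq_top K⟮z⟯ with h | h
    · exfalso
      have hz1 : z ∈ K⟮z⟯ := mem_adjoin_simple_self K z
      rw [h, IntermediateField.mem_bot] at hz1
      obtain ⟨y, rfl⟩ := hz1
      rw [AlgEquiv.commutes] at hσz
      have : (1 : L) = 0 := by linear_combination -hσz
      exact one_ne_zero this
    · exact h

end Groth.Agent.S6332
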