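import Groth.Statements.S6334
import Mathlib.FieldTheory.KummerPolynomial
import Mathlib.Algebra.CharP.Reduced
import Mathlib.Algebra.CharP.Algebra
import Mathlib.FieldTheory.IntermediateField.Adjoin.Basic
import Mathlib.Data.Fin.Tuple.Basic

set_option autoImplicit false
universe u
open Fields

namespace Groth.Agent.S6334

open IntermediateField Polynomial in
/-- Adjoining a `p`-th root of an element which is not a `p`-th power gives degree `p`. -/
theorem finrank_adjoin_simple_eq {M E : Type*} [Field M] [Field E] [Algebra M E] (p : ℕ)
    [Fact p.Prime] [CharP M p] (y : E) (hy : y ^ p ∈ Set.range (algebraMap M E))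
    (hy' : y ∉ Set.range (algebraMap M E)) : Module.finrank M M⟮y⟯ = p := by
  obtain ⟨c, hc⟩ := hy
  have hp : p.Prime := Fact.out
  have hcharE : CharP E p := charP_of_injective_algebraMap (algebraMap M E).injective p
  have hirr : Irreducible (X ^ p - C c : M[X]) := by
    apply X_pow_sub_C_irreducible_of_prime hp
    intro b hb
    apply hy'
    refine ⟨b, ?_⟩
    have h1 : (algebraMap M E b) ^ p = y ^ p := by rw [← map_pow, hb, hc]
    exact frobenius_inj E p h1
  have hroot : aeval y (X ^ p - C c : M[X]) = 0 := by simp [hc]
  have hint : IsIntegral M y := ⟨X ^ p - C c, monic_X_pow_sub_C c hp.ne_zero, hroot⟩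
  have hmin : minpoly M y = X ^ p - C c :=
    (minpoly.eq_of_irreducible_of_monic hirr hroot (monic_X_pow_sub_C c hp.ne_zero)).symm
  rw [adjoin.finrank hint, hmin, natDegree_X_pow_sub_C]

open IntermediateField in
/-- One step of the tower: adjoining a `p`-th root multiplies the degree by `p`. -/
theorem finrank_adjoin_insert {F E : Type u} [Field F] [Field E] [Algebra F E] (p : ℕ)
    [Fact p.Prime] [CharP F p] (S : Set E) (y : E)
    (hy : y ^ p ∈ adjoin F S) (hy' : y ∉ adjoin F S) :
    Module.finrank F (adjoin F (insert y S)) = Module.finrank F (adjoin F S) * p := by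
  have hchar : CharP (adjoin F S) p :=
    charP_of_injective_algebraMap (algebraMap F (adjoin F S)).injective p
  have h1 : Module.finrank (adjoin F S) (adjoin F S)⟮y⟯ = p := by
    apply finrank_adjoin_simple_eq
    · exact ⟨⟨y ^ p, hy⟩, rfl⟩
    · rintro ⟨⟨z, hz⟩, rfl⟩
      exact hy' hz
  have h2 := Module.finrank_mul_finrank F (adjoin F S) (adjoin F S)⟮y⟯
  rw [h1] at h2
  rw [h2]
  have h3 : ((adjoin F S)⟮y⟯).restrictScalars F = adjoin F (insert y S) := by
    rw [adjoin_adjoin_left, Set.union_singleton]
  rw [← h3]
  rfl

open IntermediateField in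
/-- Let E/F be a finite purely inseparable extension of fields of characteristic p > 0. Then there are
elements a_1, ..., a_n of E generating E over F such that for each i the p-th power of a_i lies in
F(a_1, ..., a_{i-1}) while a_i itself does not (so each step adjoins a p-th root and has degree p);
in particular [E : F] = p ^ n. -/
theorem result {F E : Type u} [Field F] [Field E] [Algebra F E] (p : ℕ)
    [Fact p.Prime] [CharP F p] [FiniteDimensional F E] [IsPurelyInseparable F E] :
    ∃ (n : ℕ) (a : Fin n → E), adjoin F (Set.range a) = ⊤ ∧
      (∀ i : Fin n, a i ^ p ∈ adjoin F (a '' {j | j < i}) ∧ a i ∉ adjoin F (a '' {j | j < i})) ∧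
      Module.finrank F E = p ^ n := by
  classical
  have hp : p.Prime := Fact.out
  -- the induction: extend a good partial tower
  have key : ∀ (d n : ℕ) (a : Fin n → E),
      (∀ i : Fin n, a i ^ p ∈ adjoin F (a '' {j | j < i}) ∧ a i ∉ adjoin F (a '' {j | j < i})) →
      Module.finrank F (adjoin F (Set.range a)) = p ^ n →
      Module.finrank F E - p ^ n ≤ d →
      ∃ (n : ℕ) (a : Fin n → E), adjoin F (Set.range a) = ⊤ ∧
        (∀ i : Fin n, a i ^ p ∈ adjoin F (a '' {j | j < i}) ∧
          a i ∉ adjoin F (a '' {j | j < i})) ∧ Module.finrank F E = p ^ n := by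
    intro d
    induction d with
    | zero =>
      intro n a ha hfin hd
      refine ⟨n, a, ?_, ha, ?_⟩
      · apply IntermediateField.eq_of_le_of_finrank_le le_top
        rw [IntermediateField.finrank_top', hfin]
        omega
      · have h1 : Module.finrank F (adjoin F (Set.range a)) ≤ Module.finrank F E :=
          (adjoin F (Set.range a)).toSubmodule.finrank_le
        omega
    | succ d ih =>
      intro n a ha hfin hd
      by_cases htop : adjoin F (Set.range a) = ⊤
      · refine ⟨n, a, htop, ha, ?_⟩
        rw [← hfin, htop, IntermediateField.finrank_top']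
      · -- choose an element outside, and a suitable power of it
        obtain ⟨x, -, hx⟩ := SetLike.exists_of_lt (lt_of_le_of_ne le_top htop)
        have hex : ∃ k : ℕ, x ^ p ^ k ∈ adjoin F (Set.range a) := by
          obtain ⟨k, hk⟩ := IsPurelyInseparable.pow_mem F p x
          refine ⟨k, ?_⟩
          obtain ⟨c, hc⟩ := hk
          rw [← hc]
          exact (adjoin F (Set.range a)).algebraMap_mem c
        have hk0 : Nat.find hex ≠ 0 := by
          intro h0
          have := Nat.find_spec hex
          rw [h0, pow_zero, pow_one] at this
          exact hx this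
        obtain ⟨k', hk'⟩ := Nat.exists_eq_succ_of_ne_zero hk0
        set y := x ^ p ^ k' with hy
        have hyp : y ^ p ∈ adjoin F (Set.range a) := by
          have := Nat.find_spec hex
          rw [hk', pow_succ, pow_mul] at this
          exact this
        have hynot : y ∉ adjoin F (Set.range a) := by
          have := Nat.find_min hex (m := k') (by omega)
          exact this
        have hset1 : ∀ j : Fin n, (Fin.snoc a y : Fin (n + 1) → E) '' {l | l < Fin.castSucc j}
            = a '' {l | l < j} := by
          intro j
          ext z
          simp only [Set.mem_image, Set.mem_setOf_eq, Fin.exists_fin_succ', Fin.snoc_castSucc,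
            Fin.snoc_last, Fin.castSucc_lt_castSucc_iff]
          constructor
          · rintro (h | ⟨h, -⟩)
            · exact h
            · exact absurd h (not_lt.2 (Fin.le_last _))
          · intro h
            exact Or.inl h
        have hset2 : (Fin.snoc a y : Fin (n + 1) → E) '' {l | l < Fin.last n} = Set.range a := by
          ext z
          simp only [Set.mem_image, Set.mem_setOf_eq, Fin.exists_fin_succ', Fin.snoc_castSucc,
            Fin.snoc_last, Fin.castSucc_lt_last, true_and, lt_self_iff_false, false_and,
            or_false, Set.mem_range]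
        have hfin' : Module.finrank F (adjoin F (Set.range (Fin.snoc a y : Fin (n + 1) → E)))
            = p ^ (n + 1) := by
          rw [Fin.range_snoc, finrank_adjoin_insert p _ y hyp hynot, hfin, pow_succ]
        have hle : Module.finrank F (adjoin F (Set.range (Fin.snoc a y : Fin (n + 1) → E)))
            ≤ Module.finrank F E :=
          (adjoin F (Set.range (Fin.snoc a y : Fin (n + 1) → E))).toSubmodule.finrank_le
        have hlt : p ^ n < p ^ (n + 1) := Nat.pow_lt_pow_right hp.one_lt (Nat.lt_succ_self n)
        refine ih (n + 1) (Fin.snoc a y) ?_ hfin' (by omega)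
        intro i
        refine Fin.lastCases ?_ (fun j => ?_) i
        · rw [hset2, Fin.snoc_last]
          exact ⟨hyp, hynot⟩
        · rw [hset1, Fin.snoc_castSucc]
          exact ha j
  refine key (Module.finrank F E) 0 Fin.elim0 (fun i => i.elim0) ?_ (by omega)
  rw [pow_zero]
  have : Set.range (Fin.elim0 : Fin 0 → E) = ∅ := Set.range_eq_empty _
  rw [this, adjoin_empty, IntermediateField.finrank_bot]

end Groth.Agent.S6334
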