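import Groth.Statements.S6335
import Mathlib.FieldTheory.PurelyInseparable.PerfectClosure
import Mathlib.Algebra.Polynomial.Expand
import Mathlib.Algebra.Polynomial.Eval.Subring

set_option autoImplicit false
universe u
open Fields

namespace Groth.Agent.S6335

/-- Let K be a field of characteristic p > 0, L/K a separable algebraic extension and a an element of L.
If a is a root of a polynomial P over K which is separable (pairwise distinct roots in an algebraic
closure) and all of whose coefficients are p-th powers in K, then a is a p-th power in L. (Part (1),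
the case where P is the minimal polynomial of a, is a special case.) -/
theorem result {K L : Type u} [Field K] [Field L] [Algebra K L]
    (p : ℕ) [Fact p.Prime] [CharP K p] [Algebra.IsSeparable K L] (a : L) (P : Polynomial K)
    (hroot : Polynomial.aeval a P = 0) (hsep : P.Separable) (hcoeff : ∀ i : ℕ, ∃ b : K, b ^ p = P.coeff i) :
    ∃ c : L, c ^ p = a := by
  classical
  have hp : p.Prime := Fact.out
  -- a polynomial `Q` whose Frobenius twist is `P`
  have hmem : P ∈ (Polynomial.mapRingHom (frobenius K p)).range := by
    rw [Polynomial.mem_map_range]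
    intro i
    obtain ⟨b, hb⟩ := hcoeff i
    exact ⟨b, by simpa [frobenius_def] using hb⟩
  obtain ⟨Q, hQ⟩ := hmem
  rw [Polynomial.coe_mapRingHom] at hQ
  have hQsep : Q.Separable := by
    rw [← Polynomial.separable_map (frobenius K p), hQ]
    exact hsep
  -- work in an algebraic closure of `L`
  let Ω := AlgebraicClosure L
  obtain ⟨c, hc⟩ := IsAlgClosed.exists_pow_nat_eq (algebraMap L Ω a) hp.pos
  have hQp : Q ^ p = Polynomial.expand K p P := by
    rw [← Polynomial.map_frobenius_expand, Polynomial.map_expand, hQ]
  have hQc : Polynomial.aeval c Q = 0 := by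
    have h1 : (Polynomial.aeval c Q) ^ p = 0 := by
      rw [← map_pow, hQp, Polynomial.expand_aeval, hc, Polynomial.aeval_algebraMap_apply, hroot,
        map_zero]
    exact pow_eq_zero_iff hp.ne_zero |>.1 h1
  have hcsep : IsSeparable K c := hQsep.of_dvd (minpoly.dvd K c hQc)
  have hadj := IntermediateField.adjoin_simple_eq_adjoin_pow_expChar_of_isSeparable K Ω hcsep p
  have hcmem : c ∈ (IsScalarTower.toAlgHom K L Ω).fieldRange := by
    have h1 : c ∈ IntermediateField.adjoin K {c} := IntermediateField.mem_adjoin_simple_self K c
    rw [hadj, hc] at h1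
    have h2 : IntermediateField.adjoin K {algebraMap L Ω a} ≤
        (IsScalarTower.toAlgHom K L Ω).fieldRange := by
      rw [IntermediateField.adjoin_simple_le_iff]
      exact ⟨a, rfl⟩
    exact h2 h1
  obtain ⟨c₀, hc₀⟩ := hcmem
  refine ⟨c₀, (algebraMap L Ω).injective ?_⟩
  rw [map_pow, ← hc]
  congr 1

end Groth.Agent.S6335
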