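import Groth.Statements.S6336
import Mathlib.FieldTheory.IntermediateField.Adjoin.Basic
import Mathlib.FieldTheory.Minpoly.Field

set_option autoImplicit false
universe u
open Fields

namespace Groth.Agent.S6336

/-- If every element of a multiset is `a` up to a scalar, then so is the product. -/
theorem exists_pow_card_eq {K L : Type*} [Field K] [Field L] [Algebra K L] (a : L)
    (s : Multiset L) (hs : ∀ r ∈ s, ∃ ζ : K, a = algebraMap K L ζ * r) :
    ∃ z : K, a ^ (Multiset.card s) = algebraMap K L z * s.prod := by
  induction s using Multiset.induction_on with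
  | empty => exact ⟨1, by simp⟩
  | cons r s ih =>
    obtain ⟨z, hz⟩ := ih (fun r' hr' => hs r' (Multiset.mem_cons_of_mem hr'))
    obtain ⟨ζ, hζ⟩ := hs r (Multiset.mem_cons_self r s)
    refine ⟨z * ζ, ?_⟩
    rw [Multiset.card_cons, pow_succ, hz, Multiset.prod_cons, map_mul]
    linear_combination (algebraMap K L z * s.prod) * hζ

open IntermediateField Polynomial in
/-- The degree of `L` over an intermediate field, when `L` is generated by `a`. -/
theorem finrank_eq_natDegree_minpoly {K L : Type*} [Field K] [Field L] [Algebra K L]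
    [FiniteDimensional K L] (a : L) (ha : K⟮a⟯ = ⊤) (M : IntermediateField K L) :
    Module.finrank M L = (minpoly M a).natDegree := by
  have htop : M⟮a⟯ = ⊤ := by
    rw [eq_top_iff]
    intro x _
    have h1 : K⟮a⟯ ≤ (M⟮a⟯).restrictScalars K := by
      rw [adjoin_simple_le_iff]
      exact mem_adjoin_simple_self M a
    have h2 : x ∈ K⟮a⟯ := ha ▸ mem_top
    exact h1 h2
  have hint : IsIntegral M a := Algebra.IsIntegral.isIntegral a
  rw [← adjoin.finrank hint, htop, IntermediateField.finrank_top']

open IntermediateField Polynomial in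
/-- With an added hypothesis: let L/K be a finite extension of degree e generated by a single element a
whose e-th power lies in K, and assume that the polynomial X ^ e - 1 splits into linear factors over
K (so every e-th root of unity of any extension of K already lies in K; this holds when K contains a
primitive e-th root of unity, and when e is a power of the characteristic). Then every intermediate
field of L/K is generated by a ^ d for some divisor d of e. (The published statement has no
hypothesis on roots of unity; for K the rationals and a a primitive 8-th root of unity, e = 4 and a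
^ 4 = -1, the intermediate field generated by a + a⁻¹, a square root of 2, is none of K(a), K(a ^
2), K(a ^ 4); the published proof uses that the e-th roots of unity met are fixed by the
automorphisms it constructs, which the splitting hypothesis guarantees.) -/
theorem result {K L : Type u} [Field K] [Field L] [Algebra K L]
    [FiniteDimensional K L] (a : L) (ha : K⟮a⟯ = ⊤)
    (hpow : a ^ Module.finrank K L ∈ Set.range (algebraMap K L))
    (hroots : (X ^ Module.finrank K L - 1 : K[X]).Splits) (L' : IntermediateField K L) :
    ∃ d : ℕ, d ∣ Module.finrank K L ∧ L' = K⟮a ^ d⟯ := by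
  classical
  have hepos : 0 < Module.finrank K L := Module.finrank_pos
  by_cases ha0 : a = 0
  · refine ⟨1, one_dvd _, ?_⟩
    rw [pow_one, ha]
    have hbot : (⊥ : IntermediateField K L) = ⊤ := by
      rw [← ha, ha0, adjoin_zero]
    exact le_antisymm le_top (hbot ▸ bot_le)
  obtain ⟨c, hc⟩ := hpow
  generalize he : Module.finrank K L = e at *
  -- splitting of `X ^ e - a ^ e` over `L`
  have hsplitL : (X ^ e - 1 : L[X]).Splits := by
    have := hroots.map (algebraMap K L)
    simpa using this
  have hsplit : (X ^ e - C (a ^ e) : L[X]).Splits := by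
    have h2 : ((X ^ e - 1 : L[X]).comp (C a⁻¹ * X)).Splits :=
      hsplitL.comp_of_degree_le_one (degree_C_mul_X_le _)
    have h3 := h2.C_mul (a ^ e)
    have h4 : C (a ^ e) * (X ^ e - 1 : L[X]).comp (C a⁻¹ * X) = X ^ e - C (a ^ e) := by
      simp only [sub_comp, pow_comp, X_comp, one_comp, mul_pow, mul_sub, mul_one, ← C_pow,
        ← mul_assoc, ← C_mul]
      rw [← mul_pow, mul_inv_cancel₀ ha0, one_pow, C_1, one_mul]
    rwa [h4] at h3
  have hne : (X ^ e - C (a ^ e) : L[X]) ≠ 0 := X_pow_sub_C_ne_zero hepos _
  have hint : IsIntegral L' a := Algebra.IsIntegral.isIntegral a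
  have hfmonic : (minpoly L' a).Monic := minpoly.monic hint
  have hdvd : minpoly L' a ∣ (X ^ e - C (algebraMap K L' c) : L'[X]) := by
    apply minpoly.dvd
    rw [map_sub, map_pow, aeval_X, aeval_C, ← IsScalarTower.algebraMap_apply, hc, sub_self]
  have hdvdL : (minpoly L' a).map (algebraMap L' L) ∣ (X ^ e - C (a ^ e) : L[X]) := by
    have := Polynomial.map_dvd (algebraMap L' L) hdvd
    rw [Polynomial.map_sub, Polynomial.map_pow, map_X, map_C, ← IsScalarTower.algebraMap_apply,
      hc] at this
    exact this
  have hfLsplit : ((minpoly L' a).map (algebraMap L' L)).Splits := hsplit.of_dvd hne hdvdL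
  have hfLmonic : ((minpoly L' a).map (algebraMap L' L)).Monic := hfmonic.map _
  have hdeg : ((minpoly L' a).map (algebraMap L' L)).natDegree = (minpoly L' a).natDegree :=
    hfmonic.natDegree_map _
  have hcard : Multiset.card ((minpoly L' a).map (algebraMap L' L)).roots
      = (minpoly L' a).natDegree := by
    rw [← hfLsplit.natDegree_eq_card_roots, hdeg]
  have hcoeff := hfLsplit.coeff_zero_eq_prod_roots_of_monic hfLmonic
  rw [hdeg, coeff_map] at hcoeff
  -- every root is `a` up to an `e`-th root of unity in `K`
  have hrootsK : ∀ r ∈ ((minpoly L' a).map (algebraMap L' L)).roots,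
      ∃ ζ : K, a = algebraMap K L ζ * r := by
    intro r hr
    have hr1 : (X ^ e - C (a ^ e) : L[X]).IsRoot r :=
      (Polynomial.mem_roots hne).1 (Polynomial.roots.le_of_dvd hne hdvdL |> Multiset.subset_of_le
        |> fun h => h hr)
    have hr2 : r ^ e = a ^ e := by
      simpa [sub_eq_zero] using hr1
    have hr0 : r ≠ 0 := by
      rintro rfl
      rw [zero_pow hepos.ne'] at hr2
      exact ha0 (pow_eq_zero_iff hepos.ne' |>.1 hr2.symm)
    have hX : (X ^ e - 1 : K[X]) ≠ 0 := by
      have := X_pow_sub_C_ne_zero hepos (1 : K)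
      simpa using this
    have hr3 : ((X ^ e - 1 : K[X]).map (algebraMap K L)).IsRoot (a / r) := by
      simp [div_pow, hr2, div_self (pow_ne_zero e ha0)]
    obtain ⟨ζ, hζ⟩ := hroots.mem_range_of_isRoot hX hr3
    refine ⟨ζ, ?_⟩
    rw [hζ, div_mul_cancel₀ _ hr0]
  obtain ⟨z, hz⟩ := exists_pow_card_eq a _ hrootsK
  rw [hcard] at hz
  -- so `a ^ m` lies in `L'`
  have hmem : a ^ (minpoly L' a).natDegree ∈ L' := by
    have h1 : ((minpoly L' a).map (algebraMap L' L)).roots.prod
        = (-1) ^ (minpoly L' a).natDegree * algebraMap L' L ((minpoly L' a).coeff 0) := by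
      rw [hcoeff, ← mul_assoc, ← mul_pow]
      simp
    rw [hz, h1]
    refine L'.mul_mem (L'.algebraMap_mem z) (L'.mul_mem (pow_mem (neg_mem (one_mem L')) _) ?_)
    exact ((minpoly L' a).coeff 0).2
  have hle : K⟮a ^ (minpoly L' a).natDegree⟯ ≤ L' := by
    rw [adjoin_simple_le_iff]
    exact hmem
  -- degrees
  have hd1 : Module.finrank L' L = (minpoly L' a).natDegree :=
    finrank_eq_natDegree_minpoly a ha L'
  have hd2 : Module.finrank K⟮a ^ (minpoly L' a).natDegree⟯ L ≤ (minpoly L' a).natDegree := by
    rw [finrank_eq_natDegree_minpoly a ha]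
    have hint' : IsIntegral K⟮a ^ (minpoly L' a).natDegree⟯ a := Algebra.IsIntegral.isIntegral a
    have hdvd' : minpoly K⟮a ^ (minpoly L' a).natDegree⟯ a ∣
        (X ^ (minpoly L' a).natDegree - C (⟨a ^ (minpoly L' a).natDegree,
          mem_adjoin_simple_self K _⟩ : K⟮a ^ (minpoly L' a).natDegree⟯)) := by
      apply minpoly.dvd
      rw [map_sub, map_pow, aeval_X, aeval_C]
      exact sub_self _
    have hmpos : 0 < (minpoly L' a).natDegree := minpoly.natDegree_pos hint
    have := Polynomial.natDegree_le_of_dvd hdvd' (X_pow_sub_C_ne_zero hmpos _)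
    rwa [natDegree_X_pow_sub_C] at this
  have hm1 := Module.finrank_mul_finrank K L' L
  have hm2 := Module.finrank_mul_finrank K K⟮a ^ (minpoly L' a).natDegree⟯ L
  refine ⟨(minpoly L' a).natDegree, ⟨Module.finrank K L', ?_⟩, ?_⟩
  · rw [← hd1, mul_comm, hm1, he]
  · symm
    apply IntermediateField.eq_of_le_of_finrank_le hle
    have hpos1 : 0 < Module.finrank L' L := Module.finrank_pos
    have hpos2 : 0 < Module.finrank K⟮a ^ (minpoly L' a).natDegree⟯ L := Module.finrank_pos
    rw [hd1] at hm1 hpos1
    have h5 : Module.finrank K L' * (minpoly L' a).natDegree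
        ≤ Module.finrank K K⟮a ^ (minpoly L' a).natDegree⟯ * (minpoly L' a).natDegree := by
      calc Module.finrank K L' * (minpoly L' a).natDegree = Module.finrank K L := hm1
        _ = Module.finrank K K⟮a ^ (minpoly L' a).natDegree⟯
            * Module.finrank K⟮a ^ (minpoly L' a).natDegree⟯ L := hm2.symm
        _ ≤ _ := Nat.mul_le_mul_left _ hd2
    exact Nat.le_of_mul_le_mul_right h5 hpos1

end Groth.Agent.S6336
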