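import Groth.Statements.S6341
import Groth.Agent.Lib.Helper54.ML
import Mathlib.LinearAlgebra.TensorProduct.DirectLimit

set_option autoImplicit false
universe u
open CAlg

namespace Groth.Agent.S6341

open TensorProduct in
/-- Tensoring with a trivial module gives a trivial module. -/
theorem tensor_eq_zero_of_forall_eq_zero {R : Type u} [CommRing R] {A B : Type u}
    [AddCommGroup A] [Module R A] [AddCommGroup B] [Module R B] (hA : ∀ a : A, a = 0)
    (z : A ⊗[R] B) : z = 0 := by
  induction z using TensorProduct.induction_on with
  | zero => rfl
  | tmul a b => rw [hA a, TensorProduct.zero_tmul]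
  | add a b ha hb => rw [ha, hb, add_zero]

/-- The colimit of a directed system of Mittag-Leffler modules with universally injective transition
maps is Mittag-Leffler. -/
theorem result (R : Type u) [CommRing R] {ι : Type u}
    [Preorder ι] [IsDirected ι (· ≤ ·)] [DecidableEq ι] (G : ι → Type u) [∀ i, AddCommGroup (G i)]
    [∀ i, Module R (G i)] (f : ∀ i j, i ≤ j → G i →ₗ[R] G j) [DirectedSystem G fun i j h => f i j h]
    (hf : ∀ i j (h : i ≤ j), CAlgX.UniversallyInjective R (f i j h))
    (hG : ∀ i, CAlg.IsMittagLeffler R (G i)) :
    CAlg.IsMittagLeffler R (Module.DirectLimit G f) := by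
  -- the structure maps into the colimit are universally injective
  have hof : ∀ i, CAlgX.UniversallyInjective R (Module.DirectLimit.of R ι G f i) := by
    intro i N _ _
    rw [injective_iff_map_eq_zero]
    intro w hw
    have h1 := TensorProduct.directLimitLeft_rTensor_of f N w
    rw [hw, map_zero] at h1
    obtain ⟨j, hij, hj⟩ := Module.DirectLimit.of.zero_exact h1.symm
    exact (injective_iff_map_eq_zero _).1 (hf i j hij N) w hj
  intro κ Q _ _
  rw [injective_iff_map_eq_zero]
  intro x hx
  rcases isEmpty_or_nonempty ι with hι | hι
  · -- the colimit over an empty index set is trivial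
    apply tensor_eq_zero_of_forall_eq_zero
    intro g
    induction g using Quotient.inductionOn' with
    | h a =>
      have : a = 0 := by
        apply DFinsupp.ext
        intro i
        exact (hι.false i).elim
      rw [this]
      rfl
  · obtain ⟨i, y, hy⟩ := Module.DirectLimit.exists_of
      (TensorProduct.directLimitLeft f (∀ k, Q k) x)
    have hxy : x = (Module.DirectLimit.of R ι G f i).rTensor (∀ k, Q k) y := by
      apply (TensorProduct.directLimitLeft f (∀ k, Q k)).injective
      rw [TensorProduct.directLimitLeft_rTensor_of, hy]
    have hy0 : y = 0 := by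
      apply hG i κ Q
      rw [map_zero]
      funext k
      apply hof i (Q k)
      rw [← Groth.Agent.Lib.Helper54.piRightHom_rTensor, ← hxy, hx]
      simp
    rw [hxy, hy0, map_zero]

end Groth.Agent.S6341
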