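import Groth.Statements.S6345
import Groth.Agent.Lib.Helper54.MLFP
import Groth.Agent.S6348
import Mathlib.RingTheory.TensorProduct.Basic

set_option autoImplicit false
universe u
open CAlg

namespace Groth.Agent.S6345

/-- Let I be a finitely generated ideal of a commutative ring R and M an R/I-module. Then M is
Mittag-Leffler over R if and only if it is Mittag-Leffler over R/I. -/
theorem result (R : Type u) [CommRing R] (I : Ideal R) (hI : I.FG)
    (M : Type u) [AddCommGroup M] [Module (R ⧸ I) M] [Module R M] [IsScalarTower R (R ⧸ I) M] :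
    CAlg.IsMittagLeffler R M ↔ CAlg.IsMittagLeffler (R ⧸ I) M := by
  constructor
  · intro h
    -- `M → (R ⧸ I) ⊗ M` is a split injection of `R ⧸ I`-modules
    have hsm : ∀ (a : R ⧸ I) (m : M),
        (1 : R ⧸ I) ⊗ₜ[R] (a • m) = a • ((1 : R ⧸ I) ⊗ₜ[R] m) := by
      intro a m
      obtain ⟨r, rfl⟩ := Ideal.Quotient.mk_surjective a
      have h1 : (Ideal.Quotient.mk I r) • m = r • m := by
        rw [← algebraMap_smul (R ⧸ I) r m]; rfl
      rw [h1, TensorProduct.tmul_smul, TensorProduct.smul_tmul', TensorProduct.smul_tmul',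
        smul_eq_mul, mul_one]
      congr 1
      rw [Algebra.smul_def, mul_one]; rfl
    let f : M →ₗ[R ⧸ I] TensorProduct R (R ⧸ I) M :=
      { toFun := fun m => (1 : R ⧸ I) ⊗ₜ[R] m
        map_add' := fun a b => TensorProduct.tmul_add _ a b
        map_smul' := fun a m => hsm a m }
    let g : TensorProduct R (R ⧸ I) M →ₗ[R ⧸ I] M :=
      LinearMap.liftBaseChange (R ⧸ I) (LinearMap.id : M →ₗ[R] M)
    have hgf : g ∘ₗ f = LinearMap.id := by
      ext m
      change g ((1 : R ⧸ I) ⊗ₜ[R] m) = m
      rw [LinearMap.liftBaseChange_tmul, one_smul, LinearMap.id_apply]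
    refine Groth.Agent.S6338.result (R ⧸ I) f ?_ (Groth.Agent.S6348.result R (R ⧸ I) M h)
    intro Q _ _
    apply Function.LeftInverse.injective (g := g.rTensor Q)
    intro x
    rw [← LinearMap.comp_apply, ← LinearMap.rTensor_comp, hgf, LinearMap.rTensor_id,
      LinearMap.id_apply]
  · intro h
    have : Module.FinitePresentation R (R ⧸ I) := by
      refine Module.finitePresentation_of_surjective (Algebra.linearMap R (R ⧸ I))
        Ideal.Quotient.mk_surjective ?_
      have : LinearMap.ker (Algebra.linearMap R (R ⧸ I)) = I := by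
        ext r
        simp [Ideal.Quotient.eq_zero_iff_mem]
      rw [this]
      exact hI
    exact Groth.Agent.Lib.Helper54.isMittagLeffler_restrictScalars_of_bijective R (R ⧸ I) M
      (fun ι Q _ _ =>
        Groth.Agent.Lib.Helper54.piRightHom_bijective_of_finitePresentation R (R ⧸ I) Q) h

end Groth.Agent.S6345
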