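import Groth.Statements.S6346
import Groth.Agent.Lib.Helper54.ML
import Mathlib.RingTheory.Flat.Basic
import Mathlib.LinearAlgebra.TensorProduct.Finiteness
import Mathlib.RingTheory.Finiteness.Cardinality

set_option autoImplicit false
universe u
open scoped TensorProduct
open CAlg

namespace Groth.Agent.S6346

open TensorProduct in
/-- Naturality of the commutativity isomorphism (`lTensor` to `rTensor`). -/
theorem comm_lTensor {R : Type u} [CommRing R] {M N N' : Type u} [AddCommGroup M] [Module R M]
    [AddCommGroup N] [Module R N] [AddCommGroup N'] [Module R N'] (g : N →ₗ[R] N')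
    (x : M ⊗[R] N) :
    g.rTensor M (TensorProduct.comm R M N x) = TensorProduct.comm R M N' (g.lTensor M x) := by
  induction x using TensorProduct.induction_on with
  | zero => simp
  | tmul f q => simp
  | add x y hx hy => simp only [map_add, hx, hy]

open TensorProduct in
/-- For flat `M`, the kernel of `g ⊗ M` is the image of `ker g ⊗ M`. -/
theorem mem_range_ker_of_rTensor_eq_zero {R : Type u} [CommRing R] (M : Type u)
    [AddCommGroup M] [Module R M] [Module.Flat R M] {F N : Type u} [AddCommGroup F] [Module R F]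
    [AddCommGroup N] [Module R N] (g : F →ₗ[R] N) (y : F ⊗[R] M) (hy : g.rTensor M y = 0) :
    y ∈ LinearMap.range ((LinearMap.ker g).subtype.rTensor M) :=
  (Module.Flat.rTensor_exact M (LinearMap.exact_subtype_ker_map g) y).1 hy

open TensorProduct in
/-- An element coming from `F'' ⊗ M` dies in `(F / F'') ⊗ M`. -/
theorem mkQ_rTensor_eq_zero {R : Type u} [CommRing R] (M : Type u)
    [AddCommGroup M] [Module R M] {F : Type u} [AddCommGroup F] [Module R F]
    (F'' : Submodule R F) (x : F ⊗[R] M) (hx : x ∈ LinearMap.range (F''.subtype.rTensor M)) :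
    F''.mkQ.rTensor M x = 0 := by
  obtain ⟨z, rfl⟩ := hx
  rw [← LinearMap.comp_apply, ← LinearMap.rTensor_comp]
  have h4 : F''.mkQ ∘ₗ F''.subtype = 0 := by
    ext v
    simp
  rw [h4, LinearMap.rTensor_zero, LinearMap.zero_apply]

/-- Let M be a flat module over a commutative ring R. Then M is Mittag-Leffler exactly when, for each
finite free module F = R^n and each element x of F ⊗ M there is a smallest submodule F' of F such
that x lies in the image of F' ⊗ M → F ⊗ M. -/
theorem result (R : Type u) [CommRing R] (M : Type u)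
    [AddCommGroup M] [Module R M] [Module.Flat R M] :
    CAlg.IsMittagLeffler R M ↔
      ∀ (n : ℕ) (x : (Fin n → R) ⊗[R] M), ∃ F' : Submodule R (Fin n → R),
        x ∈ LinearMap.range (F'.subtype.rTensor M) ∧
        ∀ F'' : Submodule R (Fin n → R), x ∈ LinearMap.range (F''.subtype.rTensor M) → F' ≤ F'' := by
  constructor
  · intro hML n x
    -- the family of all submodules through which `x` factors
    let 𝓢 : Type u :=
      {F'' : Submodule R (Fin n → R) // x ∈ LinearMap.range (F''.subtype.rTensor M)}
    let Q : 𝓢 → Type u := fun F'' => (Fin n → R) ⧸ F''.1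
    let g : (Fin n → R) →ₗ[R] (∀ F'' : 𝓢, Q F'') := LinearMap.pi fun F'' => F''.1.mkQ
    have hg : g.rTensor M x = 0 := by
      apply (TensorProduct.comm R (∀ F'' : 𝓢, Q F'') M).injective
      rw [map_zero]
      apply hML 𝓢 Q
      rw [map_zero]
      funext F''
      rw [Groth.Agent.Lib.Helper54.piRightHom_apply]
      have h1 := comm_lTensor (M := M) (LinearMap.proj F'' : (∀ F'' : 𝓢, Q F'') →ₗ[R] Q F'')
        (TensorProduct.comm R (∀ F'' : 𝓢, Q F'') M (g.rTensor M x))
      apply (TensorProduct.comm R M (Q F'')).injective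
      rw [← h1]
      change _ = (TensorProduct.comm R M (Q F'')) 0
      rw [map_zero]
      have h2 : (TensorProduct.comm R M (∀ F'' : 𝓢, Q F''))
          ((TensorProduct.comm R (∀ F'' : 𝓢, Q F'') M) (g.rTensor M x)) = g.rTensor M x := by
        simp
      rw [h2, ← LinearMap.comp_apply, ← LinearMap.rTensor_comp]
      have h3 : (LinearMap.proj F'' : (∀ F'' : 𝓢, Q F'') →ₗ[R] Q F'') ∘ₗ g = F''.1.mkQ := by
        ext v
        rfl
      rw [h3]
      exact mkQ_rTensor_eq_zero M F''.1 x F''.2
    refine ⟨LinearMap.ker g, mem_range_ker_of_rTensor_eq_zero M g x hg, ?_⟩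
    intro F'' hF'' v hv
    have h5 : g v ⟨F'', hF''⟩ = 0 := by
      rw [LinearMap.mem_ker.1 hv]; rfl
    exact (Submodule.Quotient.mk_eq_zero F'').1 h5
  · intro h ι Q _ _
    rw [injective_iff_map_eq_zero]
    intro x hx
    -- `x` comes from a finite free module
    obtain ⟨N', hfin, hN'⟩ :=
      TensorProduct.exists_finite_submodule_right_of_setFinite ({x} : Set (M ⊗[R] (∀ i, Q i)))
        (Set.finite_singleton x)
    obtain ⟨x', hx'⟩ := hN' (Set.mem_singleton x)
    obtain ⟨n, π, hπ⟩ := Module.Finite.exists_fin' R N'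
    obtain ⟨x₀, hx₀⟩ := LinearMap.lTensor_surjective M hπ x'
    let g : (Fin n → R) →ₗ[R] (∀ i, Q i) := N'.subtype ∘ₗ π
    have hgx : g.lTensor M x₀ = x := by
      rw [LinearMap.lTensor_comp, LinearMap.comp_apply, hx₀, hx']
    let y₀ : (Fin n → R) ⊗[R] M := TensorProduct.comm R M (Fin n → R) x₀
    obtain ⟨F', hF'1, hF'2⟩ := h n y₀
    -- `F'` lies in the kernel of every component of `g`
    have hle : ∀ i, F' ≤ LinearMap.ker ((LinearMap.proj i : (∀ i, Q i) →ₗ[R] Q i) ∘ₗ g) := by
      intro i
      apply hF'2
      apply mem_range_ker_of_rTensor_eq_zero M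
      rw [comm_lTensor, LinearMap.lTensor_comp, LinearMap.comp_apply, hgx,
        ← Groth.Agent.Lib.Helper54.piRightHom_apply, hx]
      simp
    have hle' : F' ≤ LinearMap.ker g := by
      intro v hv
      rw [LinearMap.mem_ker]
      funext i
      exact LinearMap.mem_ker.1 (hle i hv)
    obtain ⟨z, hz⟩ := hF'1
    have h6 : g.rTensor M y₀ = 0 := by
      rw [← hz, ← LinearMap.comp_apply, ← LinearMap.rTensor_comp]
      have : g ∘ₗ F'.subtype = 0 :=
        LinearMap.ext fun v => LinearMap.mem_ker.1 (hle' v.2)
      rw [this, LinearMap.rTensor_zero, LinearMap.zero_apply]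
    rw [comm_lTensor, hgx] at h6
    simpa using h6

end Groth.Agent.S6346
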