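import Groth.Statements.S6347
import Groth.Agent.Lib.Helper54.MLFP
import Mathlib.RingTheory.Flat.Tensor
import Mathlib.LinearAlgebra.TensorProduct.Finiteness

set_option autoImplicit false
universe u
open CAlg

namespace Groth.Agent.S6347

open TensorProduct

variable (R : Type u) [CommRing R] (A : Type u)

/-- Naturality of `piScalarRightHom` in the module. -/
theorem theta_natural {P P' : Type u} [AddCommGroup P] [Module R P] [AddCommGroup P'] [Module R P']
    (g : P →ₗ[R] P') (x : P ⊗[R] (A → R)) (a : A) :
    TensorProduct.piScalarRightHom R R P' A (g.rTensor (A → R) x) a =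
      g (TensorProduct.piScalarRightHom R R P A x a) := by
  induction x using TensorProduct.induction_on with
  | zero => simp
  | tmul p f => simp
  | add x y hx hy => simp only [map_add, Pi.add_apply, hx, hy]

/-- `piScalarRightHom` is `piRightHom` for the constant family `R` followed by `rid`. -/
theorem theta_eq {P : Type u} [AddCommGroup P] [Module R P] (x : P ⊗[R] (A → R)) (a : A) :
    TensorProduct.piScalarRightHom R R P A x a =
      TensorProduct.rid R P (TensorProduct.piRightHom R R P (fun _ : A => R) x a) := by
  induction x using TensorProduct.induction_on with
  | zero => simp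
  | tmul p f => simp
  | add x y hx hy => simp only [map_add, Pi.add_apply, hx, hy]

/-- For finitely presented `P`, `P ⊗ R^A → P^A` is injective. -/
theorem theta_injective_of_fp {P : Type u} [AddCommGroup P] [Module R P]
    [Module.FinitePresentation R P] :
    Function.Injective (TensorProduct.piScalarRightHom R R P A) := by
  rw [injective_iff_map_eq_zero]
  intro x hx
  apply Groth.Agent.Lib.Helper54.isMittagLeffler_of_finitePresentation R P A (fun _ => R)
  rw [map_zero]
  funext a
  apply (TensorProduct.rid R P).injective
  rw [← theta_eq, hx]
  simp

/-- Over a Noetherian ring, `N ⊗ R^A → N^A` is injective for every module `N`. -/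
theorem theta_injective [IsNoetherianRing R] {N : Type u} [AddCommGroup N] [Module R N] :
    Function.Injective (TensorProduct.piScalarRightHom R R N A) := by
  rw [injective_iff_map_eq_zero]
  intro x hx
  obtain ⟨N', hfin, hN'⟩ :=
    TensorProduct.exists_finite_submodule_left_of_setFinite ({x} : Set (N ⊗[R] (A → R)))
      (Set.finite_singleton x)
  obtain ⟨x', rfl⟩ := hN' (Set.mem_singleton x)
  have : Module.FinitePresentation R N' := Module.finitePresentation_of_finite R N'
  have hx' : TensorProduct.piScalarRightHom R R N' A x' = 0 := by
    funext a
    apply Subtype.val_injective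
    have := theta_natural R A N'.subtype x' a
    rw [hx] at this
    simpa using this.symm
  have hx0 : x' = 0 := (injective_iff_map_eq_zero _).1 (theta_injective_of_fp R A) x' hx'
  rw [hx0, map_zero]

/-- Naturality of the commutativity isomorphism. -/
theorem comm_lTensor {M N N' : Type u} [AddCommGroup M] [Module R M] [AddCommGroup N] [Module R N]
    [AddCommGroup N'] [Module R N'] (g : N →ₗ[R] N') (x : M ⊗[R] N) :
    g.rTensor M (TensorProduct.comm R M N x) = TensorProduct.comm R M N' (g.lTensor M x) := by
  induction x using TensorProduct.induction_on with
  | zero => simp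
  | tmul f q => simp
  | add x y hx hy => simp only [map_add, hx, hy]

/-- Over a Noetherian ring R, the product module R^A (functions from any set A to R) is flat and
Mittag-Leffler. -/
theorem result (R : Type u) [CommRing R] [IsNoetherianRing R]
    (A : Type u) : Module.Flat R (A → R) ∧ CAlg.IsMittagLeffler R (A → R) := by
  constructor
  · rw [Module.Flat.iff_rTensor_injective']
    intro I
    rw [injective_iff_map_eq_zero]
    intro x hx
    apply theta_injective R A
    rw [map_zero]
    funext a
    apply Subtype.val_injective
    have := theta_natural R A I.subtype x a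
    rw [hx] at this
    simpa using this.symm
  · intro ι Q _ _
    rw [injective_iff_map_eq_zero]
    intro x hx
    apply (TensorProduct.comm R (A → R) (∀ i, Q i)).injective
    rw [map_zero]
    apply theta_injective R A
    rw [map_zero]
    funext a i
    have h1 := theta_natural R A (LinearMap.proj i : (∀ i, Q i) →ₗ[R] Q i)
      (TensorProduct.comm R (A → R) (∀ i, Q i) x) a
    have h2 : (LinearMap.proj i : (∀ i, Q i) →ₗ[R] Q i).rTensor (A → R)
        (TensorProduct.comm R (A → R) (∀ i, Q i) x) =
        TensorProduct.comm R (A → R) (Q i) (TensorProduct.piRightHom R R (A → R) Q x i) := by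
      rw [Groth.Agent.Lib.Helper54.piRightHom_apply, comm_lTensor]
    rw [h2, hx] at h1
    simpa using h1.symm

end Groth.Agent.S6347
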