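import Groth.Statements.S6350
import Mathlib.RingTheory.LocalRing.Module
import Mathlib.LinearAlgebra.TensorProduct.Basis

set_option autoImplicit false
universe u
open scoped TensorProduct
open CAlg

namespace Groth.Agent.S6350

/-- Nakayama's lemma for a nilpotent ideal, without finiteness hypotheses. -/
theorem eq_top_of_sup_smul_eq_top {R : Type u} [CommRing R] {M : Type u} [AddCommGroup M]
    [Module R M] (I : Ideal R) (hI : IsNilpotent I) (N : Submodule R M)
    (h : N ⊔ I • (⊤ : Submodule R M) = ⊤) : N = ⊤ := by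
  have key : ∀ j : ℕ, N ⊔ (I ^ j) • (⊤ : Submodule R M) = ⊤ := by
    intro j
    induction j with
    | zero => simp
    | succ j ih =>
      rw [eq_top_iff]
      calc (⊤ : Submodule R M) = N ⊔ (I ^ j) • (⊤ : Submodule R M) := ih.symm
        _ = N ⊔ (I ^ j) • (N ⊔ I • (⊤ : Submodule R M)) := by rw [h]
        _ = N ⊔ ((I ^ j) • N ⊔ (I ^ j) • (I • (⊤ : Submodule R M))) := by
          rw [Submodule.smul_sup]
        _ ≤ N ⊔ (I ^ (j + 1)) • (⊤ : Submodule R M) := by
          rw [← Submodule.mul_smul, ← pow_succ]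
          refine sup_le le_sup_left (sup_le ?_ le_sup_right)
          exact le_trans Submodule.smul_le_right le_sup_left
  obtain ⟨k, hk⟩ := hI
  have := key k
  rw [hk, Submodule.zero_eq_bot, Submodule.bot_smul, sup_bot_eq] at this
  exact this

/-- Let (R, m) be a local ring with nilpotent maximal ideal and M a flat R-module. A family of elements
of M is a basis of M over R if and only if its image is a basis of the R/m-vector space M/mM = R/m ⊗
M. -/
theorem result (R : Type u) [CommRing R] [IsLocalRing R]
    (hnil : IsNilpotent (IsLocalRing.maximalIdeal R)) (M : Type u) [AddCommGroup M] [Module R M] [Module.Flat R M]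
    {A : Type u} (x : A → M) :
    (LinearIndependent R x ∧ Submodule.span R (Set.range x) = ⊤) ↔
      (LinearIndependent (R ⧸ IsLocalRing.maximalIdeal R)
          (fun a => (1 : R ⧸ IsLocalRing.maximalIdeal R) ⊗ₜ[R] x a) ∧
        Submodule.span (R ⧸ IsLocalRing.maximalIdeal R)
          (Set.range fun a => (1 : R ⧸ IsLocalRing.maximalIdeal R) ⊗ₜ[R] x a) = ⊤) := by
  constructor
  · rintro ⟨hli, hsp⟩
    let b : Module.Basis A R M := Module.Basis.mk hli hsp.ge
    have hb : ∀ a, (b.baseChange (R ⧸ IsLocalRing.maximalIdeal R)) a =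
        (1 : R ⧸ IsLocalRing.maximalIdeal R) ⊗ₜ[R] x a := by
      intro a
      rw [Module.Basis.baseChange_apply, Module.Basis.mk_apply]
    have hfun : (fun a => (1 : R ⧸ IsLocalRing.maximalIdeal R) ⊗ₜ[R] x a) =
        ⇑(b.baseChange (R ⧸ IsLocalRing.maximalIdeal R)) := funext fun a => (hb a).symm
    rw [hfun]
    exact ⟨(b.baseChange (R ⧸ IsLocalRing.maximalIdeal R)).linearIndependent,
      (b.baseChange (R ⧸ IsLocalRing.maximalIdeal R)).span_eq⟩
  · rintro ⟨hli, hsp⟩
    refine ⟨Module.IsLocalRing.linearIndependent_of_flat x hli, ?_⟩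
    apply eq_top_of_sup_smul_eq_top (IsLocalRing.maximalIdeal R) hnil
    rw [← LinearMap.ker_tensorProductMk (I := IsLocalRing.maximalIdeal R) (Q := M),
      ← Submodule.comap_map_eq, Submodule.map_span,
      ← Submodule.restrictScalars_span R (R ⧸ IsLocalRing.maximalIdeal R)
        Ideal.Quotient.mk_surjective]
    have : (TensorProduct.mk R (R ⧸ IsLocalRing.maximalIdeal R) M 1) '' Set.range x =
        Set.range fun a => (1 : R ⧸ IsLocalRing.maximalIdeal R) ⊗ₜ[R] x a := by
      rw [← Set.range_comp]
      rfl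
    rw [this, hsp]
    simp

end Groth.Agent.S6350
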