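import Groth.Statements.S6351
import Mathlib.LinearAlgebra.TensorProduct.RightExactness
import Mathlib.LinearAlgebra.TensorProduct.Quotient
import Mathlib.LinearAlgebra.Finsupp.LinearCombination
import Mathlib.LinearAlgebra.LinearIndependent.Basic

set_option autoImplicit false
universe u
open scoped TensorProduct
open CAlg

namespace Groth.Agent.S6351

open TensorProduct

/-- Nakayama for nilpotent ideals: `N ≤ I • N` forces `N = ⊥`. -/
theorem eq_bot_of_le_smul {R : Type u} [CommRing R] (I : Ideal R) (hI : IsNilpotent I)
    {M : Type u} [AddCommGroup M] [Module R M] (N : Submodule R M) (h : N ≤ I • N) : N = ⊥ := by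
  obtain ⟨n, hn⟩ := hI
  have key : ∀ k : ℕ, N ≤ I ^ k • N := by
    intro k
    induction k with
    | zero => simp
    | succ k ih =>
      calc N ≤ I • N := h
        _ ≤ I • (I ^ k • N) := Submodule.smul_mono le_rfl ih
        _ = I ^ (k + 1) • N := by rw [← Submodule.mul_smul, ← pow_succ']
  have := key n
  rw [hn] at this
  rw [eq_bot_iff]
  refine this.trans ?_
  rw [Ideal.zero_eq_bot, Submodule.bot_smul]

/-- Let I be a nilpotent ideal of a commutative ring R and M an R-module with Tor_1^R(R/I, M) = 0, i.e.
I ⊗_R M → M injective. If a family of elements of M maps to a basis of the R/I-module M/IM = R/I ⊗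
M, then it is a basis of M over R. -/
theorem result (R : Type u) [CommRing R] (I : Ideal R)
    (hI : IsNilpotent I) (M : Type u) [AddCommGroup M] [Module R M]
    (htor : Function.Injective ((Submodule.subtype I).rTensor M)) {A : Type u} (x : A → M)
    (hli : LinearIndependent (R ⧸ I) (fun a => (1 : R ⧸ I) ⊗ₜ[R] x a))
    (hsp : Submodule.span (R ⧸ I) (Set.range fun a => (1 : R ⧸ I) ⊗ₜ[R] x a) = ⊤) :
    LinearIndependent R x ∧ Submodule.span R (Set.range x) = ⊤ := by
  classical
  -- spanning first
  have hspan : Submodule.span R (Set.range x) = ⊤ := by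
    set N : Submodule R M := Submodule.span R (Set.range x) with hN
    -- `(R ⧸ I) ⊗ (M ⧸ N)` is trivial
    have hzero : (LinearMap.baseChange (R ⧸ I) N.mkQ) = 0 := by
      apply LinearMap.ext_on_range hsp
      intro a
      rw [LinearMap.baseChange_tmul, LinearMap.zero_apply]
      have : N.mkQ (x a) = 0 := by
        rw [Submodule.mkQ_apply, Submodule.Quotient.mk_eq_zero]
        exact Submodule.subset_span ⟨a, rfl⟩
      rw [this, tmul_zero]
    have hsurj : Function.Surjective (LinearMap.baseChange (R ⧸ I) N.mkQ) :=
      LinearMap.lTensor_surjective _ N.mkQ_surjective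
    have hsub : Subsingleton ((R ⧸ I) ⊗[R] (M ⧸ N)) := by
      refine ⟨fun y z => ?_⟩
      obtain ⟨y', rfl⟩ := hsurj y
      obtain ⟨z', rfl⟩ := hsurj z
      rw [hzero, LinearMap.zero_apply, LinearMap.zero_apply]
    have hsub2 : Subsingleton ((M ⧸ N) ⧸ (I • (⊤ : Submodule R (M ⧸ N)))) :=
      (TensorProduct.quotTensorEquivQuotSMul (M ⧸ N) I).symm.toEquiv.subsingleton
    have htop : I • (⊤ : Submodule R (M ⧸ N)) = ⊤ := Submodule.Quotient.subsingleton_iff.mp hsub2
    have hbot : (⊤ : Submodule R (M ⧸ N)) = ⊥ := eq_bot_of_le_smul I hI ⊤ (by rw [htop])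
    have : Subsingleton (M ⧸ N) := by
      rw [← Submodule.subsingleton_iff R]
      exact subsingleton_of_bot_eq_top hbot.symm
    exact Submodule.Quotient.subsingleton_iff.mp this
  refine ⟨?_, hspan⟩
  · -- linear independence
    rw [linearIndependent_iff]
    set φ : (A →₀ R) →ₗ[R] M := Finsupp.linearCombination R x with hφ
    have hφsurj : Function.Surjective φ := by
      rw [← LinearMap.range_eq_top, hφ, Finsupp.range_linearCombination, hspan]
    set K : Submodule R (A →₀ R) := LinearMap.ker φ with hK
    suffices hKbot : K = ⊥ by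
      intro c hc
      have : c ∈ K := hc
      rw [hKbot] at this
      exact this
    apply eq_bot_of_le_smul I hI
    intro c hc
    have hc0 : φ c = 0 := hc
    -- Step 1: coefficients lie in `I`
    have hcI : ∀ a, c a ∈ I := by
      rw [linearIndependent_iff] at hli
      have h0 : Finsupp.linearCombination (R ⧸ I) (fun a => (1 : R ⧸ I) ⊗ₜ[R] x a)
          (c.mapRange (Ideal.Quotient.mk I) (map_zero _)) = 0 := by
        rw [Finsupp.linearCombination_apply, Finsupp.sum_mapRange_index (by simp)]
        have : (1 : R ⧸ I) ⊗ₜ[R] φ c = 0 := by rw [hc0, tmul_zero]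
        rw [← this, hφ, Finsupp.linearCombination_apply, Finsupp.sum, Finsupp.sum, tmul_sum]
        refine Finset.sum_congr rfl fun a _ => ?_
        rw [tmul_smul, ← Ideal.Quotient.algebraMap_eq, algebraMap_smul]
      have h1 := hli _ h0
      intro a
      have := DFunLike.congr_fun h1 a
      rw [Finsupp.mapRange_apply, Finsupp.zero_apply, Ideal.Quotient.eq_zero_iff_mem] at this
      exact this
    -- Step 2: the tensor `t = Σ c_a ⊗ e_a` in `I ⊗ F`
    let t : I ⊗[R] (A →₀ R) := ∑ a ∈ c.support, (⟨c a, hcI a⟩ : I) ⊗ₜ[R] Finsupp.single a (1 : R)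
    have ht0 : (LinearMap.lTensor I φ) t = 0 := by
      apply htor
      rw [map_zero]
      simp only [t, map_sum, LinearMap.lTensor_tmul, LinearMap.rTensor_tmul, Submodule.subtype_apply]
      have : ∀ a ∈ c.support, (c a) ⊗ₜ[R] φ (Finsupp.single a (1 : R)) =
          (1 : R) ⊗ₜ[R] (c a • x a) := by
        intro a _
        rw [hφ, Finsupp.linearCombination_single, one_smul, tmul_smul, smul_tmul', smul_eq_mul,
          mul_one]
      rw [Finset.sum_congr rfl this, ← tmul_sum]
      have : ∑ a ∈ c.support, c a • x a = φ c := by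
        rw [hφ, Finsupp.linearCombination_apply, Finsupp.sum]
      rw [this, hc0, tmul_zero]
    have hex := @lTensor_exact R K (A →₀ R) M _ _ _ _ _ _ _ K.subtype φ I _ _ (LinearMap.exact_subtype_ker_map φ) hφsurj
    obtain ⟨t', ht'⟩ := (hex t).mp ht0
    -- multiplication map
    let μ : I ⊗[R] (A →₀ R) →ₗ[R] (A →₀ R) :=
      TensorProduct.lift ((LinearMap.lsmul R (A →₀ R)).comp I.subtype)
    have hμt : μ t = c := by
      simp only [t, map_sum, μ, TensorProduct.lift.tmul, LinearMap.comp_apply,
        Submodule.subtype_apply, LinearMap.lsmul_apply]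
      conv_rhs => rw [← Finsupp.sum_single c]
      rw [Finsupp.sum]
      refine Finset.sum_congr rfl fun a _ => ?_
      rw [Finsupp.smul_single, smul_eq_mul, mul_one]
    have hμK : ∀ s : I ⊗[R] K, μ (LinearMap.lTensor I K.subtype s) ∈ I • K := by
      intro s
      induction s using TensorProduct.induction_on with
      | zero => simp
      | tmul r k =>
        rw [LinearMap.lTensor_tmul]
        simp only [μ, TensorProduct.lift.tmul, LinearMap.comp_apply,
          Submodule.subtype_apply, LinearMap.lsmul_apply]
        exact Submodule.smul_mem_smul r.2 k.2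
      | add s s' hs hs' =>
        rw [map_add, map_add]
        exact Submodule.add_mem _ hs hs'
    rw [← hμt, ← ht']
    exact hμK t'

end Groth.Agent.S6351
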