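import Groth.Statements.S6353
-- import your own Groth.Agent.* helpers here

set_option autoImplicit false
universe u
open CAlg

namespace Groth.Agent.S6353

/-- An ideal such that every element `x` satisfies `x = x * y` for some `y` in it is pure. -/
theorem pure_of_forall_exists_eq_mul {R : Type u} [CommRing R] (I : Ideal R)
    (h : ∀ x ∈ I, ∃ y ∈ I, x = x * y) : I.Pure := by
  apply Ideal.Pure.of_inf_eq_mul
  intro J _
  refine le_antisymm ?_ Ideal.mul_le_inf
  rintro x ⟨hxI, hxJ⟩
  obtain ⟨y, hy, heq⟩ := h x hxI
  rw [heq, mul_comm x y]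
  exact Ideal.mul_mem_mul hy hxJ

/-- The ideal `{x | x ∈ x J}`. -/
def idealOf {R : Type u} [CommRing R] (J : Ideal R) : Ideal R where
  carrier := {x | ∃ y ∈ J, x = x * y}
  zero_mem' := ⟨0, J.zero_mem, by simp⟩
  add_mem' := by
    rintro x y ⟨f, hf, hxf⟩ ⟨g, hg, hyg⟩
    refine ⟨f + g - f * g, J.sub_mem (J.add_mem hf hg) (J.mul_mem_right _ hf), ?_⟩
    have e1 : x * f = x := hxf.symm
    have e2 : y * g = y := hyg.symm
    have : (x + y) * (f + g - f * g) = x * f + (x * g - (x * f) * g) + (y * f - (y * g) * f) + y * g := by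
      ring
    rw [this, e1, e2]
    ring
  smul_mem' := by
    rintro c x ⟨f, hf, hxf⟩
    refine ⟨f, hf, ?_⟩
    rw [smul_eq_mul, mul_assoc, ← hxf]

theorem mem_idealOf {R : Type u} [CommRing R] (J : Ideal R) (x : R) :
    x ∈ idealOf J ↔ ∃ y ∈ J, x = x * y := Iff.rfl

open PrimeSpectrum in
/-- For a commutative ring R, I ↦ V(I) is a bijection between pure ideals (R/I flat over R) and closed
subsets of Spec R stable under generalization. Stated here as: V(I) is stable under generalization
for I pure, and every closed generalization-stable subset is V(I) for some pure I (injectivity on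
pure ideals being the standard fact that pure ideals with the same zero locus coincide). -/
theorem result (R : Type u) [CommRing R] :
    (∀ I : Ideal R, I.Pure → StableUnderGeneralization (zeroLocus (I : Set R))) ∧
      ∀ Z : Set (PrimeSpectrum R), IsClosed Z → StableUnderGeneralization Z →
        ∃ I : Ideal R, I.Pure ∧ zeroLocus (I : Set R) = Z := by
  constructor
  · intro I hI p q hqp hp
    rw [PrimeSpectrum.mem_zeroLocus] at hp ⊢
    have hle : q.asIdeal ≤ p.asIdeal := (PrimeSpectrum.le_iff_specializes q p).mpr hqp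
    intro a ha
    obtain ⟨y, hy, heq⟩ := Ideal.exists_eq_mul_of_pure (I := I) ha
    have h0 : a * (1 - y) = 0 := by rw [mul_sub, mul_one, ← heq, sub_self]
    have : a * (1 - y) ∈ q.asIdeal := by rw [h0]; exact q.asIdeal.zero_mem
    rcases q.2.mem_or_mem this with h | h
    · exact h
    · exfalso
      apply p.2.ne_top
      rw [Ideal.eq_top_iff_one]
      have h1 : (1 - y) + y = 1 := by ring
      rw [← h1]
      exact p.asIdeal.add_mem (hle h) (hp hy)
  · intro Z hZc hZg
    set J := PrimeSpectrum.vanishingIdeal Z with hJ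
    have hZJ : PrimeSpectrum.zeroLocus (J : Set R) = Z := by
      rw [hJ, PrimeSpectrum.zeroLocus_vanishingIdeal_eq_closure, hZc.closure_eq]
    have hIJ : idealOf J ≤ J := by
      rintro x ⟨y, hy, heq⟩
      rw [heq]; exact J.mul_mem_left _ hy
    have hV : PrimeSpectrum.zeroLocus (idealOf J : Set R) = Z := by
      apply le_antisymm
      · intro p hp
        rw [PrimeSpectrum.mem_zeroLocus] at hp
        -- the submonoid `(R ∖ p) (1 + J)`
        let S : Submonoid R :=
          { carrier := {s | ∃ t ∉ p.asIdeal, ∃ j ∈ J, s = t * (1 + j)}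
            one_mem' := ⟨1, fun h => p.2.ne_top ((Ideal.eq_top_iff_one _).mpr h), 0, J.zero_mem,
              by simp⟩
            mul_mem' := by
              rintro a b ⟨t, ht, j, hj, rfl⟩ ⟨t', ht', j', hj', rfl⟩
              refine ⟨t * t', fun h => (p.2.mem_or_mem h).elim ht ht', j + j' + j * j',
                J.add_mem (J.add_mem hj hj') (J.mul_mem_left _ hj'), by ring⟩ }
        have hdisj : Disjoint ((⊥ : Ideal R) : Set R) S := by
          rw [Set.disjoint_left]
          rintro x hx ⟨t, ht, j, hj, rfl⟩
          have hx0 : t * (1 + j) = 0 := hx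
          apply ht
          apply hp
          refine ⟨-j, J.neg_mem hj, ?_⟩
          have : t * (1 + j) = t - t * (-j) := by ring
          rw [this, sub_eq_zero] at hx0
          exact hx0
        obtain ⟨q, hqprime, -, hqS⟩ := Ideal.exists_le_prime_disjoint (⊥ : Ideal R) S hdisj
        rw [Set.disjoint_left] at hqS
        have hqp : q ≤ p.asIdeal := by
          intro x hx
          by_contra hxp
          exact hqS hx ⟨x, hxp, 0, J.zero_mem, by simp⟩
        have hne : q ⊔ J ≠ ⊤ := by
          intro htop
          rw [Ideal.eq_top_iff_one, Submodule.mem_sup] at htop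
          obtain ⟨a, ha, j, hj, haj⟩ := htop
          refine hqS ha ⟨1, fun h => p.2.ne_top ((Ideal.eq_top_iff_one _).mpr h), -j,
            J.neg_mem hj, ?_⟩
          linear_combination haj
        obtain ⟨m, hm, hle⟩ := Ideal.exists_le_maximal _ hne
        have hmZ : (⟨m, hm.isPrime⟩ : PrimeSpectrum R) ∈ Z := by
          rw [← hZJ, PrimeSpectrum.mem_zeroLocus]
          exact fun x hx => hle (Ideal.mem_sup_right hx)
        have hqZ : (⟨q, hqprime⟩ : PrimeSpectrum R) ∈ Z := by
          refine hZg ?_ hmZ
          rw [← PrimeSpectrum.le_iff_specializes]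
          exact fun x hx => hle (Ideal.mem_sup_left hx)
        rw [← hZJ, PrimeSpectrum.mem_zeroLocus] at hqZ ⊢
        exact fun x hx => hqp (hqZ hx)
      · rw [← hZJ]
        exact PrimeSpectrum.zeroLocus_anti_mono_ideal hIJ
    refine ⟨idealOf J, ?_, hV⟩
    apply pure_of_forall_exists_eq_mul
    rintro x ⟨y, hy, heq⟩
    have hrad : J ≤ (idealOf J).radical := by
      rw [← PrimeSpectrum.vanishingIdeal_zeroLocus_eq_radical, hV]
    obtain ⟨n, hn⟩ := hrad hy
    refine ⟨y ^ n, hn, ?_⟩
    clear hn
    induction n with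
    | zero => simp
    | succ n ih => rw [pow_succ, ← mul_assoc, ← ih, ← heq]

end Groth.Agent.S6353
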