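import Groth.Statements.S6354
-- import your own Groth.Agent.* helpers here

set_option autoImplicit false
universe u
open CAlg

namespace Groth.Agent.S6354

theorem pure_fg_of_idem {R : Type u} [CommRing R] (I : Ideal R)
    (h : ∃ e : R, IsIdempotentElem e ∧ I = Ideal.span {e}) : I.Pure ∧ I.FG := by
  have hfg : I.FG := by
    obtain ⟨e, -, rfl⟩ := h
    exact ⟨{e}, by simp⟩
  exact ⟨Ideal.Pure.of_isIdempotentElem hfg ((Ideal.isIdempotentElem_iff_of_fg I hfg).mpr h), hfg⟩

theorem projective_of_idem {R : Type u} [CommRing R] (e : R) (he : IsIdempotentElem e) :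
    Module.Projective R (R ⧸ Ideal.span {e}) := by
  let i : (R ⧸ Ideal.span {e}) →ₗ[R] R :=
    Submodule.liftQ (Ideal.span {e}) (LinearMap.mulLeft R (1 - e)) (by
      rw [Ideal.span_le]
      intro x hx
      rw [Set.mem_singleton_iff] at hx
      change (1 - e) * x = 0
      rw [hx, sub_mul, one_mul, he.eq, sub_self])
  refine Module.Projective.of_split i (Submodule.mkQ (Ideal.span {e})) ?_
  ext
  change Ideal.Quotient.mk _ ((1 - e) * 1) = Ideal.Quotient.mk _ 1
  rw [mul_one, map_sub, sub_eq_self, Ideal.Quotient.eq_zero_iff_mem]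
  exact Ideal.mem_span_singleton_self e

open PrimeSpectrum in
/-- For an ideal I of a commutative ring R these four conditions are equivalent: (1) I is finitely
generated and pure; (2) I = (e) for some idempotent e; (3) I is pure with V(I) open in Spec R; (4)
R/I is projective as an R-module. -/
theorem result (R : Type u) [CommRing R] (I : Ideal R) :
    List.TFAE [I.Pure ∧ I.FG, ∃ e : R, IsIdempotentElem e ∧ I = Ideal.span {e},
      I.Pure ∧ IsOpen (zeroLocus (I : Set R)), Module.Projective R (R ⧸ I)] := by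
  tfae_have 1 → 2 := by
    rintro ⟨hp, hfg⟩
    exact (Ideal.isIdempotentElem_iff_of_fg I hfg).mp (Ideal.isIdempotentElem_of_pure I)
  tfae_have 2 → 1 := pure_fg_of_idem I
  tfae_have 2 → 3 := by
    intro h
    refine ⟨(pure_fg_of_idem I h).1, ?_⟩
    obtain ⟨e, he, rfl⟩ := h
    rw [PrimeSpectrum.zeroLocus_span, PrimeSpectrum.zeroLocus_eq_basicOpen_of_isIdempotentElem e he]
    exact (PrimeSpectrum.basicOpen _).2
  tfae_have 3 → 2 := by
    rintro ⟨hp, ho⟩
    obtain ⟨e, he, heq⟩ := PrimeSpectrum.isClopen_iff_zeroLocus.mp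
      ⟨PrimeSpectrum.isClosed_zeroLocus _, ho⟩
    refine ⟨e, he, ?_⟩
    have hp' : (Ideal.span {e}).Pure := (pure_fg_of_idem _ ⟨e, he, rfl⟩).1
    rw [← PrimeSpectrum.zeroLocus_span {e}] at heq
    exact Ideal.zeroLocus_inj_of_pure.mp heq
  tfae_have 2 → 4 := by
    rintro ⟨e, he, rfl⟩
    exact projective_of_idem e he
  tfae_have 4 → 1 := by
    intro hproj
    refine ⟨inferInstance, ?_⟩
    obtain ⟨s, hs⟩ := Module.projective_lifting_property (Submodule.mkQ I) LinearMap.id
      (Submodule.mkQ_surjective I)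
    let φ : R →ₗ[R] R := LinearMap.id - s ∘ₗ Submodule.mkQ I
    refine ⟨{φ 1}, ?_⟩
    apply le_antisymm
    · rw [Finset.coe_singleton, Ideal.span_le, Set.singleton_subset_iff, SetLike.mem_coe,
        ← Ideal.Quotient.eq_zero_iff_mem]
      have := LinearMap.congr_fun hs (Submodule.mkQ I 1)
      change Submodule.mkQ I (1 - s (Submodule.mkQ I 1)) = 0
      rw [map_sub]
      simp only [LinearMap.comp_apply, LinearMap.id_apply] at this
      rw [this, sub_self]
    · intro x hx
      have hx0 : Submodule.mkQ I x = 0 := (Submodule.Quotient.mk_eq_zero I).mpr hx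
      have : φ x = x := by
        change x - s (Submodule.mkQ I x) = x
        rw [hx0, map_zero, sub_zero]
      rw [← this, show x = x • (1 : R) by simp, map_smul, Finset.coe_singleton]
      exact Ideal.mul_mem_left _ _ (Ideal.subset_span rfl)
  tfae_finish

end Groth.Agent.S6354
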