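import Groth.Statements.S6355
import Mathlib
import Groth.Agent.Lib.Helper45.FibreDimFlat
import Groth.Agent.S6353
import Groth.Agent.S6354

set_option autoImplicit false
universe u
open CAlg

namespace Groth.Agent.S6355

/-- For a commutative ring R the following are equivalent: (1) every subset of Spec R which is closed
and stable under generalization is open; (2) every finite flat R-module is finite locally free, i.e.
(for finite modules) projective. -/
theorem result (R : Type u) [CommRing R] :
    (∀ Z : Set (PrimeSpectrum R), IsClosed Z → StableUnderGeneralization Z → IsOpen Z) ↔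
      ∀ (M : Type u) [AddCommGroup M] [Module R M], Module.Finite R M → Module.Flat R M →
        Module.Projective R M := by
  open Groth.Agent.Lib.Helper45.Fitting in
  constructor
  · intro hopen M _ _ hfin hflat
    apply projective_of_flat_of_isLocallyConstant_fibreDim
    -- the loci `{fibreDim ≥ r}` are closed and stable under generalization, hence open
    have hZ : ∀ r : ℕ, IsOpen {p : PrimeSpectrum R | r ≤ fibreDim R M p} := by
      intro r
      rcases Nat.eq_zero_or_pos r with rfl | hr
      · simp
      apply hopen
      · have : {p : PrimeSpectrum R | r ≤ fibreDim R M p} =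
            PrimeSpectrum.zeroLocus (Fitt.ideal R M (r - 1) : Set R) := by
          ext p
          rw [Set.mem_setOf_eq, PrimeSpectrum.mem_zeroLocus]
          have := fibreDim_le_iff (M := M) (r - 1) p
          constructor
          · intro h1
            by_contra h2
            have := this.mpr h2
            omega
          · intro h1
            by_contra h2
            exact (this.mp (by omega)) h1
        rw [this]
        exact PrimeSpectrum.isClosed_zeroLocus _
      · intro p q hqp hp
        -- `q ⤳ p` means `q ≤ p`
        have hle : q ≤ p := (PrimeSpectrum.le_iff_specializes q p).mpr hqp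
        rw [Set.mem_setOf_eq] at hp ⊢
        rw [fibreDim_eq_of_le_of_flat hle]
        exact hp
    rw [IsLocallyConstant.iff_exists_open]
    intro p
    refine ⟨{q | fibreDim R M p ≤ fibreDim R M q} ∩ {q | fibreDim R M q ≤ fibreDim R M p}, ?_, ?_, ?_⟩
    · exact (hZ _).inter (isOpen_fibreDim_le _)
    · exact ⟨le_refl (fibreDim R M p), le_refl (fibreDim R M p)⟩
    · rintro q ⟨h1, h2⟩
      exact le_antisymm h2 h1
  · intro hproj Z hZc hZg
    obtain ⟨I, hI, rfl⟩ := (Groth.Agent.S6353.result R).2 Z hZc hZg
    have hfl : Module.Flat R (R ⧸ I) := hI
    have hp : Module.Projective R (R ⧸ I) := hproj (R ⧸ I) inferInstance hfl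
    have := ((Groth.Agent.S6354.result R I).out 3 2).mp hp
    exact this.2

end Groth.Agent.S6355
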