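import Groth.Statements.S6356
import Groth.Agent.Lib.Helper54.MLDom2

set_option autoImplicit false
universe u
open scoped TensorProduct
open CAlg

namespace Groth.Agent.S6356

/-- An R-module M is Mittag-Leffler if and only if for every finitely presented module P and every
linear map f : P → M there exist a finitely presented module Q and a linear map g : P → Q such that
f and g dominate each other, i.e. for every module N the maps f ⊗ id_N and g ⊗ id_N have the same
kernel. -/
theorem result (R : Type u) [CommRing R] (M : Type u)
    [AddCommGroup M] [Module R M] :
    CAlg.IsMittagLeffler R M ↔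
      ∀ (P : Type u) [AddCommGroup P] [Module R P] [Module.FinitePresentation R P] (f : P →ₗ[R] M),
        ∃ (Q : Type u) (_ : AddCommGroup Q) (_ : Module R Q) (_ : Module.FinitePresentation R Q) (g : P →ₗ[R] Q),
          ∀ (N : Type u) [AddCommGroup N] [Module R N],
            LinearMap.ker (f.rTensor N) = LinearMap.ker (g.rTensor N) := by
  constructor
  · intro hML P _ _ _ f
    obtain ⟨Q, i1, i2, i3, g, _, hg⟩ := Groth.Agent.Lib.Helper54.exists_dominating hML P f
    exact ⟨Q, i1, i2, i3, g, hg⟩
  · intro h
    apply Groth.Agent.Lib.Helper54.isMittagLeffler_of_dominate
    intro n f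
    exact h (Fin n → R) f

end Groth.Agent.S6356
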