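import Groth.Statements.S6362
import Mathlib.FieldTheory.PrimitiveElement
import Mathlib.FieldTheory.Fixed
import Mathlib.LinearAlgebra.Basis.VectorSpace
import Mathlib.LinearAlgebra.Dimension.Constructions
import Mathlib.LinearAlgebra.FiniteDimensional.Lemmas

set_option autoImplicit false
universe u
open scoped TensorProduct
open Fields

namespace Groth.Agent.S6362

/-- Let K/F be a finite separable extension and L/F an extension with L algebraically closed. Then the
L-algebra map K ⊗_F L → ∏_σ L, indexed by the F-algebra maps σ : K → L and sending a ⊗ b to (σ(a)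
b)_σ, is an isomorphism; stated as bijectivity of that map. -/
theorem result {F K L : Type u} [Field F] [Field K] [Field L]
    [Algebra F K] [Algebra F L] [FiniteDimensional F K] [Algebra.IsSeparable F K] [IsAlgClosed L] :
    Function.Bijective (fun x : K ⊗[F] L => fun σ : K →ₐ[F] L =>
      Algebra.TensorProduct.lift σ (AlgHom.id F L) (fun a b => Commute.all (σ a) b) x) := by
  classical
  let ψ : (K →ₐ[F] L) → (L ⊗[F] K →ₐ[L] L) := fun σ =>
    Algebra.TensorProduct.lift (AlgHom.id L L) σ (fun a b => Commute.all _ _)
  let Ψ : L ⊗[F] K →ₗ[L] ((K →ₐ[F] L) → L) := LinearMap.pi (fun σ => (ψ σ).toLinearMap)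
  have hcomm : (fun x : K ⊗[F] L => fun σ : K →ₐ[F] L =>
      Algebra.TensorProduct.lift σ (AlgHom.id F L) (fun a b => Commute.all (σ a) b) x) =
      Ψ ∘ (Algebra.TensorProduct.comm F K L) := by
    funext x σ
    induction x using TensorProduct.induction_on with
    | zero => simp
    | tmul a b =>
      simp only [Function.comp_apply, Algebra.TensorProduct.comm_tmul, Ψ, LinearMap.pi_apply,
        AlgHom.toLinearMap_apply, ψ, Algebra.TensorProduct.lift_tmul, AlgHom.id_apply]
      rw [mul_comm]
    | add x y hx hy =>
      simp only [map_add, Function.comp_apply, Pi.add_apply] at hx hy ⊢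
      rw [hx, hy]
  rw [hcomm]
  refine Function.Bijective.comp ?_ (Algebra.TensorProduct.comm F K L).bijective
  have hfr : Module.finrank L (L ⊗[F] K) = Module.finrank L ((K →ₐ[F] L) → L) := by
    rw [Module.finrank_baseChange, Module.finrank_fintype_fun_eq_card, AlgHom.card]
  have hsurj : Function.Surjective Ψ := by
    rw [← LinearMap.range_eq_top]
    by_contra hne
    obtain ⟨f, hf0, hf⟩ := (LinearMap.range Ψ).exists_le_ker_of_lt_top (lt_top_iff_ne_top.mpr hne)
    apply hf0
    -- coefficients of the functional
    let c : (K →ₐ[F] L) → L := fun σ => f (fun τ => if σ = τ then 1 else 0)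
    have hc : ∀ a : K, ∑ σ, c σ • (σ.toLinearMap : K →ₗ[F] L) a = 0 := by
      intro a
      have h1 : f (Ψ ((1 : L) ⊗ₜ[F] a)) = 0 := hf ⟨_, rfl⟩
      rw [LinearMap.pi_apply_eq_sum_univ f] at h1
      rw [← h1]
      refine Finset.sum_congr rfl fun σ _ => ?_
      simp only [Ψ, LinearMap.pi_apply, AlgHom.toLinearMap_apply, ψ,
        Algebra.TensorProduct.lift_tmul, AlgHom.id_apply, one_mul, smul_eq_mul, c, mul_comm]
    have hli := linearIndependent_toLinearMap F K L
    rw [Fintype.linearIndependent_iff] at hli
    have hc0 : ∀ σ, c σ = 0 := by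
      apply hli c
      ext a
      rw [LinearMap.sum_apply, LinearMap.zero_apply]
      exact hc a
    apply LinearMap.ext
    intro v
    rw [LinearMap.pi_apply_eq_sum_univ f, LinearMap.zero_apply]
    exact Finset.sum_eq_zero fun σ _ => by rw [show f (fun τ => if σ = τ then 1 else 0) = c σ from rfl, hc0 σ, smul_zero]
  exact ⟨(LinearMap.injective_iff_surjective_of_finrank_eq_finrank hfr).mpr hsurj, hsurj⟩

end Groth.Agent.S6362
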