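import Groth.Statements.S6363
import Mathlib

set_option autoImplicit false
universe u
open scoped TensorProduct
open Fields

namespace Groth.Agent.S6363

/-- For a finite field extension L/K and a normal closure M of L/K, some K-algebra homomorphism from the
n-fold tensor power L ⊗_K ⋯ ⊗_K L to M is surjective, where n = [L : K]_s is the separable degree
(so n ≤ [L : K]). -/
theorem result {K L M : Type u} [Field K] [Field L] [Field M]
    [Algebra K L] [Algebra K M] [Algebra L M] [IsScalarTower K L M] [FiniteDimensional K L]
    [IsNormalClosure K L M] :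
    ∃ f : (⨂[K] _ : Fin (Field.finSepDegree K L), L) →ₐ[K] M, Function.Surjective f := by
  classical
  have hnormal : Normal K M := IsNormalClosure.normal (F := K) (K := L) (L := M)
  have hncl := (Algebra.IsAlgebraic.isNormalClosure_iff (F := K) (K := L) (L := M)).mp inferInstance
  obtain ⟨hsplits, htop⟩ := hncl
  -- cardinality of the embeddings
  have hcard : Field.finSepDegree K L = Nat.card (L →ₐ[K] M) := by
    rw [Field.finSepDegree_eq_of_isAlgClosed K L (AlgebraicClosure M)]
    exact (Nat.card_congr
      (Algebra.IsAlgebraic.algHomEquivAlgHomOfSplits (AlgebraicClosure M) M hsplits)).symm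
  have hfin : Fintype (L →ₐ[K] M) := inferInstance
  have hcard' : Fintype.card (L →ₐ[K] M) = Field.finSepDegree K L := by
    rw [hcard, Nat.card_eq_fintype_card]
  let e : (L →ₐ[K] M) ≃ Fin (Field.finSepDegree K L) := Fintype.equivFinOfCardEq hcard'
  let σ : Fin (Field.finSepDegree K L) → (L →ₐ[K] M) := fun i => e.symm i
  let μ : MultilinearMap K (fun _ : Fin (Field.finSepDegree K L) => L) M :=
    (MultilinearMap.mkPiAlgebra K (Fin (Field.finSepDegree K L)) M).compLinearMap
      (fun i => (σ i).toLinearMap)
  have hμ : ∀ x : Fin (Field.finSepDegree K L) → L, μ x = ∏ i, σ i (x i) := by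
    intro x
    simp [μ, MultilinearMap.compLinearMap_apply, MultilinearMap.mkPiAlgebra_apply]
  let f : (⨂[K] _ : Fin (Field.finSepDegree K L), L) →ₐ[K] M :=
    PiTensorProduct.liftAlgHom μ (by rw [hμ]; simp)
      (by intro x y; rw [hμ, hμ, hμ]; simp [Finset.prod_mul_distrib])
  refine ⟨f, ?_⟩
  -- the range is an intermediate field containing all images
  have halg : Algebra.IsAlgebraic K M := hnormal.toIsAlgebraic
  let F : IntermediateField K M :=
    Subalgebra.toIntermediateField' f.range (Subalgebra.isField_of_algebraic f.range)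
  have hF : ∀ τ : L →ₐ[K] M, τ.fieldRange ≤ F := by
    intro τ y hy
    obtain ⟨a, rfl⟩ := hy
    change τ a ∈ f.range
    refine ⟨PiTensorProduct.tprod K (Pi.mulSingle (e τ) a), ?_⟩
    change PiTensorProduct.lift μ (PiTensorProduct.tprod K (Pi.mulSingle (e τ) a)) = τ a
    rw [PiTensorProduct.lift.tprod, hμ, Finset.prod_eq_single (e τ)]
    · simp [σ]
    · intro j _ hj
      simp [Pi.mulSingle_apply, hj]
    · intro h; exact absurd (Finset.mem_univ _) h
  have hFtop : F = ⊤ := by
    rw [eq_top_iff, ← htop]
    exact iSup_le hF
  intro y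
  have hy : y ∈ F := hFtop ▸ IntermediateField.mem_top
  exact hy

end Groth.Agent.S6363
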