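import Groth.Statements.S6364
import Mathlib.LinearAlgebra.Charpoly.ToMatrix
import Mathlib.LinearAlgebra.Matrix.Charpoly.Minpoly
import Mathlib.RingTheory.Norm.Defs

set_option autoImplicit false
universe u
open Fields

namespace Groth.Agent.S6364

theorem charpoly_blockDiagonal_const {R : Type*} [CommRing R] {m o : Type*} [Fintype m] [DecidableEq m]
    [Fintype o] [DecidableEq o] (M : Matrix m m R) :
    (Matrix.blockDiagonal fun _ : o => M).charpoly = M.charpoly ^ Fintype.card o := by
  have h : Matrix.charmatrix (Matrix.blockDiagonal fun _ : o => M) =
      Matrix.blockDiagonal fun _ : o => Matrix.charmatrix M := by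
    ext ⟨i, k⟩ ⟨j, k'⟩
    by_cases hk : k = k'
    · subst hk
      by_cases hij : i = j
      · subst hij
        simp [Matrix.blockDiagonal_apply]
      · simp [Matrix.blockDiagonal_apply, hij]
    · simp [Matrix.blockDiagonal_apply, hk]
  rw [Matrix.charpoly, h, Matrix.det_blockDiagonal, Finset.prod_const, Finset.card_univ]
  rfl

open IntermediateField in
/-- Let L/K be a finite extension and a ∈ L with minimal polynomial P over K. Then P ^ e, with e = [L :
K(a)], is the characteristic polynomial of multiplication by a (the K-linear map x ↦ a x on L), and
e · deg P = [L : K]. -/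
theorem result {K L : Type u} [Field K] [Field L] [Algebra K L] [FiniteDimensional K L]
    (a : L) :
    (Algebra.lmul K L a).charpoly = minpoly K a ^ Module.finrank K⟮a⟯ L ∧
      Module.finrank K⟮a⟯ L * (minpoly K a).natDegree = Module.finrank K L := by
  classical
  have ha : IsIntegral K a := Algebra.IsIntegral.isIntegral a
  constructor
  · let pb := IntermediateField.adjoin.powerBasis ha
    let c := Module.Free.chooseBasis K⟮a⟯ L
    have h1 : (Algebra.lmul K L a).charpoly =
        (Algebra.leftMulMatrix (pb.basis.smulTower c)
          (algebraMap K⟮a⟯ L (IntermediateField.AdjoinSimple.gen K a))).charpoly := by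
      rw [IntermediateField.AdjoinSimple.algebraMap_gen, Algebra.leftMulMatrix_apply,
        LinearMap.charpoly_toMatrix]
    rw [h1, Algebra.smulTower_leftMulMatrix_algebraMap, charpoly_blockDiagonal_const,
      ← Module.finrank_eq_card_chooseBasisIndex]
    have h3 : (Algebra.leftMulMatrix pb.basis (IntermediateField.AdjoinSimple.gen K a)).charpoly =
        minpoly K a := by
      have := charpoly_leftMulMatrix pb
      rw [IntermediateField.adjoin.powerBasis_gen, IntermediateField.minpoly_gen] at this
      exact this
    rw [h3]
  · rw [← IntermediateField.adjoin.finrank ha, mul_comm, Module.finrank_mul_finrank]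

end Groth.Agent.S6364
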