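import Groth.Statements.S6368
-- import your own Groth.Agent.* helpers here

set_option autoImplicit false
universe u
open scoped TensorProduct
open CAlg

namespace Groth.Agent.S6368

/-- Let R → S be faithfully flat and M an R-module. If the S-module S ⊗_R M is countably generated then
M is countably generated. -/
theorem result (R S : Type u) [CommRing R] [CommRing S] [Algebra R S]
    [Module.FaithfullyFlat R S] (M : Type u) [AddCommGroup M] [Module R M]
    (h : CAlg.IsCountablyGenerated S (S ⊗[R] M)) : CAlg.IsCountablyGenerated R M := by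
  obtain ⟨s, hsc, hs⟩ := h
  choose F hF using fun y : S ⊗[R] M => TensorProduct.exists_finset y
  let T : Set M := ⋃ y ∈ s, (fun i : S × M => i.2) '' (F y : Set (S × M))
  refine ⟨T, ?_, ?_⟩
  · exact Set.Countable.biUnion hsc fun y _ => ((F y).finite_toSet.image _).countable
  · apply Submodule.baseChange_injective (A := S)
    rw [Submodule.baseChange_top, Submodule.baseChange_span, eq_top_iff, ← hs, Submodule.span_le]
    intro y hy
    rw [hF y]
    refine Submodule.sum_mem _ fun i hi => ?_
    have : i.1 ⊗ₜ[R] i.2 = i.1 • ((1 : S) ⊗ₜ[R] i.2) := by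
      rw [TensorProduct.smul_tmul', smul_eq_mul, mul_one]
    rw [this]
    refine Submodule.smul_mem _ _ (Submodule.subset_span ⟨i.2, ?_, rfl⟩)
    exact Set.mem_biUnion hy ⟨i, hi, rfl⟩

end Groth.Agent.S6368
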