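import Groth.Statements.S6369
import Mathlib.RingTheory.DedekindDomain.Ideal.Basic

set_option autoImplicit false
universe u
open CAlg

namespace Groth.Agent.S6369

open scoped nonZeroDivisors

open Ideal in
/-- an ideal which divides a nonzero principal ideal -/
def IsCan {R : Type u} [CommRing R] (I : Ideal R) : Prop :=
  ∃ (J : Ideal R) (a : R), a ≠ 0 ∧ I * J = Ideal.span {a}

section

variable {R : Type u} [CommRing R] [IsDomain R]

lemma IsCan.cancel {I A B : Ideal R} (hI : IsCan I) (h : I * A = I * B) : A = B := by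
  obtain ⟨J, a, ha, hIJ⟩ := hI
  have h2 : Ideal.span {a} * A = Ideal.span {a} * B := by
    rw [← hIJ, mul_comm I J, mul_assoc, mul_assoc, h]
  exact (Ideal.span_singleton_mul_right_inj ha).mp h2

lemma IsCan.of_mul_left {A B : Ideal R} (h : IsCan (A * B)) : IsCan A := by
  obtain ⟨J, a, ha, hJ⟩ := h
  exact ⟨B * J, a, ha, by rw [← mul_assoc, hJ]⟩

lemma IsCan.mul {A B : Ideal R} (hA : IsCan A) (hB : IsCan B) : IsCan (A * B) := by
  obtain ⟨J, a, ha, hJ⟩ := hA
  obtain ⟨J', a', ha', hJ'⟩ := hB
  refine ⟨J * J', a * a', mul_ne_zero ha ha', ?_⟩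
  rw [mul_mul_mul_comm, hJ, hJ', Ideal.span_singleton_mul_span_singleton]

lemma isCan_span {a : R} (ha : a ≠ 0) : IsCan (Ideal.span {a}) :=
  ⟨⊤, a, ha, by simp⟩

lemma isCan_top : IsCan (⊤ : Ideal R) := ⟨⊤, 1, one_ne_zero, by simp⟩

lemma IsCan.of_mem_of_prod {s : Multiset (Ideal R)} (h : IsCan s.prod) {p : Ideal R} (hp : p ∈ s) :
    IsCan p := by
  obtain ⟨t, rfl⟩ := Multiset.exists_cons_of_mem hp
  rw [Multiset.prod_cons] at h
  exact h.of_mul_left

lemma IsCan.ne_bot {I : Ideal R} (h : IsCan I) : I ≠ ⊥ := by
  rintro rfl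
  obtain ⟨J, a, ha, hJ⟩ := h
  rw [Ideal.bot_mul] at hJ
  exact ha (Ideal.span_singleton_eq_bot.mp hJ.symm)

/-- uniqueness of factorization into cancellable primes -/
lemma prod_cancel_unique : ∀ (n : ℕ) (s t : Multiset (Ideal R)), Multiset.card s = n →
    (∀ p ∈ s, p.IsPrime ∧ IsCan p) → (∀ p ∈ t, p.IsPrime) → s.prod = t.prod → s = t := by
  intro n
  induction n with
  | zero =>
    intro s t hs _ ht h
    rw [Multiset.card_eq_zero] at hs
    subst hs
    rw [Multiset.prod_zero] at h
    by_contra hne
    obtain ⟨q, hq⟩ := Multiset.exists_mem_of_ne_zero (Ne.symm hne)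
    have : t.prod ≤ q := Ideal.multiset_prod_le_inf.trans (Multiset.inf_le hq)
    rw [← h] at this
    exact (ht q hq).ne_top (top_le_iff.mp (by simpa using this))
  | succ n ih =>
    intro s t hs hsp ht h
    -- choose a minimal element of s
    have hsne : s ≠ 0 := by
      intro h0; rw [h0] at hs; simp at hs
    classical
    obtain ⟨p, hp, hpmin⟩ : ∃ p ∈ s, ∀ p' ∈ s, p' ≤ p → p' = p := by
      have hfin : (s.toFinset : Set (Ideal R)).Finite := Finset.finite_toSet _
      obtain ⟨p₀, hp₀⟩ := Multiset.exists_mem_of_ne_zero hsne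
      obtain ⟨p, hp, hmin⟩ := hfin.exists_minimal ⟨p₀, by simpa using hp₀⟩
      refine ⟨p, by simpa using hp, fun p' hp' hle => ?_⟩
      exact le_antisymm hle (hmin (by simpa using hp') hle)
    have hpprime := (hsp p hp).1
    have h1 : t.prod ≤ p := by
      rw [← h]
      exact Ideal.multiset_prod_le_inf.trans (Multiset.inf_le hp)
    obtain ⟨q, hq, hqp⟩ := (Ideal.IsPrime.multiset_prod_le hpprime).mp h1
    have hqprime := ht q hq
    have h2 : s.prod ≤ q := by
      rw [h]
      exact Ideal.multiset_prod_le_inf.trans (Multiset.inf_le hq)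
    obtain ⟨p', hp', hp'q⟩ := (Ideal.IsPrime.multiset_prod_le hqprime).mp h2
    have hp'p : p' = p := hpmin p' hp' (hp'q.trans hqp)
    have hqeq : q = p := le_antisymm hqp (hp'p ▸ hp'q)
    subst hqeq
    obtain ⟨s', rfl⟩ := Multiset.exists_cons_of_mem hp
    obtain ⟨t', rfl⟩ := Multiset.exists_cons_of_mem hq
    rw [Multiset.prod_cons, Multiset.prod_cons] at h
    have h3 := (hsp q hp).2.cancel h
    rw [Multiset.card_cons] at hs
    have := ih s' t' (by omega) (fun x hx => hsp x (Multiset.mem_cons_of_mem hx))
      (fun x hx => ht x (Multiset.mem_cons_of_mem hx)) h3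
    rw [this]

end


/-- (1) ⇒ (3): let R be a domain such that every nonzero ideal is a product of nonzero prime ideals,
uniquely up to permutation of the factors. Then R is Noetherian, integrally closed and of dimension
at most one, i.e. a Dedekind domain in the Noetherian sense. (The converse and the description by
discrete valuation rings at maximal ideals are the standard equivalences.) -/
theorem result (R : Type u) [CommRing R] [IsDomain R]
    (h : ∀ I : Ideal R, I ≠ ⊥ → ∃! s : Multiset (Ideal R), (∀ p ∈ s, p.IsPrime ∧ p ≠ ⊥) ∧ s.prod = I) :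
    IsDedekindDomain R := by
  classical
  have hex : ∀ I : Ideal R, I ≠ ⊥ →
      ∃ s : Multiset (Ideal R), (∀ p ∈ s, p.IsPrime ∧ p ≠ ⊥) ∧ s.prod = I :=
    fun I hI => (h I hI).exists
  -- Step 1: cancellable primes are maximal
  have step1 : ∀ P : Ideal R, P.IsPrime → IsCan P → P.IsMaximal := by
    intro P hP hPc
    have key : ∀ a : R, a ∉ P → P ⊔ Ideal.span {a} = ⊤ := by
      intro a ha
      set A := P ⊔ Ideal.span {a} with hA
      set B := P ⊔ Ideal.span {a ^ 2} with hB
      have hPA : P ≤ A := le_sup_left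
      have hPB : P ≤ B := le_sup_left
      have hAne : A ≠ ⊥ := fun h0 => hPc.ne_bot (le_bot_iff.mp (h0 ▸ hPA))
      have hBne : B ≠ ⊥ := fun h0 => hPc.ne_bot (le_bot_iff.mp (h0 ▸ hPB))
      obtain ⟨s, hs, hsA⟩ := hex A hAne
      obtain ⟨t, ht, htB⟩ := hex B hBne
      have hsP : ∀ p ∈ s, P ≤ p := fun p hp => by
        have : s.prod ≤ p := Ideal.multiset_prod_le_inf.trans (Multiset.inf_le hp)
        exact hPA.trans (hsA ▸ this)
      have htP : ∀ p ∈ t, P ≤ p := fun p hp => by
        have : t.prod ≤ p := Ideal.multiset_prod_le_inf.trans (Multiset.inf_le hp)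
        exact hPB.trans (htB ▸ this)
      let π := Ideal.Quotient.mk P
      have hπ : Function.Surjective π := Ideal.Quotient.mk_surjective
      have hker : RingHom.ker π = P := Ideal.mk_ker
      have hπa : π a ≠ 0 := fun h0 => ha (Ideal.Quotient.eq_zero_iff_mem.mp h0)
      have hmapA : Ideal.map π A = Ideal.span {π a} := by
        rw [hA, Ideal.map_sup, Ideal.map_quotient_self, bot_sup_eq, Ideal.map_span,
          Set.image_singleton]
      have hmapB : Ideal.map π B = Ideal.span {π a ^ 2} := by
        rw [hB, Ideal.map_sup, Ideal.map_quotient_self, bot_sup_eq, Ideal.map_span,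
          Set.image_singleton, map_pow]
      have hsbar : (s.map (Ideal.mapHom π)).prod = Ideal.span {π a} := by
        rw [← map_multiset_prod, hsA]; exact hmapA
      have htbar : (t.map (Ideal.mapHom π)).prod = Ideal.span {π a ^ 2} := by
        rw [← map_multiset_prod, htB]; exact hmapB
      have hprime_map : ∀ p : Ideal R, p.IsPrime → P ≤ p → (Ideal.map π p).IsPrime := by
        intro p hp hPp
        exact Ideal.map_isPrime_of_surjective hπ (by rw [hker]; exact hPp)
      have hcomap_map : ∀ p : Ideal R, P ≤ p → Ideal.comap π (Ideal.map π p) = p := by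
        intro p hPp
        rw [Ideal.comap_map_of_surjective π hπ, ← RingHom.ker_eq_comap_bot, hker]
        exact sup_eq_left.mpr hPp
      have hcan_s : IsCan (s.map (Ideal.mapHom π)).prod := by
        rw [hsbar]; exact isCan_span hπa
      have hss : ∀ p ∈ s.map (Ideal.mapHom π) + s.map (Ideal.mapHom π), p.IsPrime ∧ IsCan p := by
        intro p hp
        have hp' : p ∈ s.map (Ideal.mapHom π) := by
          rcases Multiset.mem_add.mp hp with h | h <;> exact h
        refine ⟨?_, hcan_s.of_mem_of_prod hp'⟩
        obtain ⟨q, hq, rfl⟩ := Multiset.mem_map.mp hp'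
        exact hprime_map q (hs q hq).1 (hsP q hq)
      have htt : ∀ p ∈ t.map (Ideal.mapHom π), p.IsPrime := by
        intro p hp
        obtain ⟨q, hq, rfl⟩ := Multiset.mem_map.mp hp
        exact hprime_map q (ht q hq).1 (htP q hq)
      have hprodeq : (s.map (Ideal.mapHom π) + s.map (Ideal.mapHom π)).prod =
          (t.map (Ideal.mapHom π)).prod := by
        rw [Multiset.prod_add, hsbar, htbar, Ideal.span_singleton_mul_span_singleton, pow_two]
      have huniq := prod_cancel_unique _ _ _ rfl hss htt hprodeq
      have hst : s + s = t := by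
        have h1 := congrArg (Multiset.map (Ideal.comap π)) huniq
        rw [← Multiset.map_add, Multiset.map_map, Multiset.map_map] at h1
        have e1 : (s + s).map (Ideal.comap π ∘ Ideal.mapHom π) = s + s := by
          conv_rhs => rw [← Multiset.map_id (s + s)]
          refine Multiset.map_congr rfl fun p hp => ?_
          have hp' : p ∈ s := by rcases Multiset.mem_add.mp hp with h | h <;> exact h
          exact hcomap_map p (hsP p hp')
        have e2 : t.map (Ideal.comap π ∘ Ideal.mapHom π) = t := by
          conv_rhs => rw [← Multiset.map_id t]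
          refine Multiset.map_congr rfl fun p hp => ?_
          exact hcomap_map p (htP p hp)
        rw [e1, e2] at h1
        exact h1
      have hBA : B = A * A := by
        rw [← htB, ← hst, Multiset.prod_add, hsA]
      -- P ≤ P * A
      have hAA : A * A ≤ P * P ⊔ Ideal.span {a} := by
        rw [hA, Ideal.sup_mul, Ideal.mul_sup, Ideal.mul_sup]
        refine sup_le (sup_le le_sup_left ?_) (sup_le ?_ ?_)
        · exact le_sup_of_le_right Ideal.mul_le_right
        · exact le_sup_of_le_right Ideal.mul_le_left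
        · exact le_sup_of_le_right Ideal.mul_le_right
      have hPPA : P ≤ P * A := by
        intro x hx
        have hx' : x ∈ P * P ⊔ Ideal.span {a} := hAA (hBA ▸ hPB hx)
        obtain ⟨y, hy, z, hz, rfl⟩ := Submodule.mem_sup.mp hx'
        obtain ⟨c, rfl⟩ := Ideal.mem_span_singleton'.mp hz
        have hyP : y ∈ P := Ideal.mul_le_right hy
        have hca : c * a ∈ P := by
          have := P.sub_mem hx hyP
          rwa [add_sub_cancel_left] at this
        have hc : c ∈ P := (hP.mem_or_mem hca).resolve_right ha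
        rw [hA, Ideal.mul_sup]
        refine Submodule.add_mem_sup hy ?_
        exact Ideal.mul_mem_mul hc (Ideal.mem_span_singleton_self a)
      have hPA' : P * A = P * ⊤ := by
        rw [Ideal.mul_top]
        exact le_antisymm Ideal.mul_le_left hPPA
      exact hPc.cancel hPA'
    rw [Ideal.isMaximal_def]
    refine ⟨hP.ne_top, fun J hJ => ?_⟩
    obtain ⟨a, haJ, haP⟩ := Set.exists_of_ssubset hJ
    have := key a haP
    rw [eq_top_iff, ← this]
    exact sup_le hJ.le ((Ideal.span_singleton_le_iff_mem J).mpr haJ)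
  -- Step 2: nonzero primes are cancellable
  have step2 : ∀ P : Ideal R, P.IsPrime → P ≠ ⊥ → IsCan P := by
    intro P hP hP0
    obtain ⟨a, haP, ha0⟩ := Submodule.exists_mem_ne_zero_of_ne_bot hP0
    have hane : Ideal.span {a} ≠ ⊥ := by
      rw [Ne, Ideal.span_singleton_eq_bot]; exact ha0
    obtain ⟨s, hs, hsa⟩ := hex _ hane
    have hcan : IsCan s.prod := hsa ▸ isCan_span ha0
    have hle : s.prod ≤ P := by
      rw [hsa]; exact (Ideal.span_singleton_le_iff_mem P).mpr haP
    obtain ⟨p, hp, hpP⟩ := (Ideal.IsPrime.multiset_prod_le hP).mp hle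
    have hpc := hcan.of_mem_of_prod hp
    have hpmax := step1 p (hs p hp).1 hpc
    have := hpmax.eq_of_le hP.ne_top hpP
    exact this ▸ hpc
  have hall : ∀ I : Ideal R, I ≠ ⊥ → IsCan I := by
    intro I hI
    obtain ⟨s, hs, rfl⟩ := hex I hI
    have : ∀ s : Multiset (Ideal R), (∀ p ∈ s, IsCan p) → IsCan s.prod := by
      intro s
      induction s using Multiset.induction_on with
      | empty => intro _; rw [Multiset.prod_zero, Ideal.one_eq_top]; exact isCan_top
      | cons p s ih =>
        intro hps
        rw [Multiset.prod_cons]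
        exact (hps p (Multiset.mem_cons_self p s)).mul
          (ih fun q hq => hps q (Multiset.mem_cons_of_mem hq))
    exact this s fun p hp => step2 p (hs p hp).1 (hs p hp).2
  rw [isDedekindDomain_iff_mul_inv_cancel (K := FractionRing R)]
  intro I hI
  rw [FractionalIdeal.mul_inv_cancel_iff_isUnit]
  obtain ⟨a, J, ha, rfl⟩ := FractionalIdeal.exists_eq_spanSingleton_mul I
  have hJ0 : J ≠ ⊥ := by
    rintro rfl
    apply hI
    simp
  obtain ⟨J', b, hb, hJJ'⟩ := hall J hJ0
  have hunit_span : ∀ x : FractionRing R, x ≠ 0 →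
      IsUnit (FractionalIdeal.spanSingleton R⁰ x) := by
    intro x hx
    refine IsUnit.of_mul_eq_one (FractionalIdeal.spanSingleton R⁰ x⁻¹) ?_
    rw [FractionalIdeal.spanSingleton_mul_spanSingleton, mul_inv_cancel₀ hx,
      FractionalIdeal.spanSingleton_one]
  have hb' : algebraMap R (FractionRing R) b ≠ 0 :=
    mt IsFractionRing.to_map_eq_zero_iff.mp hb
  have ha' : algebraMap R (FractionRing R) a ≠ 0 :=
    mt IsFractionRing.to_map_eq_zero_iff.mp ha
  have hJunit : IsUnit (J : FractionalIdeal R⁰ (FractionRing R)) := by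
    have h1 : (J : FractionalIdeal R⁰ (FractionRing R)) * (J' : FractionalIdeal R⁰ (FractionRing R))
        = FractionalIdeal.spanSingleton R⁰ (algebraMap R (FractionRing R) b) := by
      rw [← FractionalIdeal.coeIdeal_mul, hJJ', FractionalIdeal.coeIdeal_span_singleton]
    exact isUnit_of_mul_isUnit_left (h1 ▸ hunit_span _ hb')
  exact (hunit_span _ (inv_ne_zero ha')).mul hJunit


end Groth.Agent.S6369
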