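import Groth.Statements.S6370
import Groth.Agent.Lib.Helper39.KrullAkizuki
-- import your own Groth.Agent.* helpers here

set_option autoImplicit false
universe u
open CAlg

namespace Groth.Agent.S6370

section Helpers

open Groth.Agent.Lib.Helper39

theorem main6370 (A K L B : Type u) [CommRing A] [IsDomain A]
    [IsNoetherianRing A] (hdim : ringKrullDim A = 1) [Field K] [Algebra A K] [IsFractionRing A K]
    [Field L] [Algebra K L] [FiniteDimensional K L] [Algebra A L] [IsScalarTower A K L]
    [CommRing B] [IsDomain B] [Algebra A B] [Algebra B L] [IsScalarTower A B L] [IsIntegralClosure B A L] :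
    IsDedekindDomain B ∧ Function.Surjective (PrimeSpectrum.comap (algebraMap A B)) ∧
      (∀ p : PrimeSpectrum A, (PrimeSpectrum.comap (algebraMap A B) ⁻¹' {p}).Finite) ∧
      ∀ Q : Ideal B, Q.IsMaximal → Module.Finite (A ⧸ Q.comap (algebraMap A B)) (B ⧸ Q) := by
  have := KA.krullDimLE_one_of_eq hdim
  have hBL : Function.Injective (algebraMap B L) := IsIntegralClosure.algebraMap_injective B A L
  have hAB : Function.Injective (algebraMap A B) := by
    have h1 : Function.Injective (algebraMap A L) := by
      rw [IsScalarTower.algebraMap_eq A K L]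
      exact (algebraMap K L).injective.comp (IsFractionRing.injective A K)
    rw [IsScalarTower.algebraMap_eq A B L] at h1
    exact Function.Injective.of_comp h1
  have : FaithfulSMul A B := (faithfulSMul_iff_algebraMap_injective A B).mpr hAB
  have hint : Algebra.IsIntegral A B := IsIntegralClosure.isIntegral_algebra A L
  have hB1 := KA.krullDimLE_one_of_between A K hBL
  have hBN := KA.isNoetherianRing_of_between A K hBL
  have hAnf : ¬ IsField A := by
    intro hf
    have := ringKrullDim_eq_zero_of_isField hf
    rw [hdim] at this
    exact one_ne_zero this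
  have hBnf : ¬ IsField B := by
    intro hf
    exact hAnf (isField_of_isIntegral_of_isField hAB hf)
  refine ⟨?_, ?_, ?_, ?_⟩
  · have : IsFractionRing B L := IsIntegralClosure.isFractionRing_of_finite_extension A K L B
    exact
    { hBN,
      (⟨fun hp0 hp => Ring.krullDimLE_one_iff_of_noZeroDivisors.mp hB1 _ hp0 hp⟩ :
        Ring.DimensionLEOne B),
      (isIntegrallyClosed_iff L).mpr fun {x} hx =>
        ⟨IsIntegralClosure.mk' B x (isIntegral_trans (R := A) _ hx),
          IsIntegralClosure.algebraMap_mk' _ _ _⟩ with : IsDedekindDomain B }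
  · exact Algebra.IsIntegral.comap_surjective A B
  · intro p
    by_cases hp : p.asIdeal = ⊥
    · refine (Set.finite_singleton (⊥ : PrimeSpectrum B)).subset ?_
      intro Q hQ
      rw [Set.mem_preimage, Set.mem_singleton_iff] at hQ
      rw [Set.mem_singleton_iff]
      ext1
      apply Ideal.eq_bot_of_comap_eq_bot (R := A)
      rw [← hp, ← hQ]
      rfl
    · obtain ⟨x, hxp, hx0⟩ := Submodule.exists_mem_ne_zero_of_ne_bot hp
      have hI0 : (Ideal.span {algebraMap A B x} : Ideal B) ≠ ⊥ := by
        rw [Ne, Ideal.span_singleton_eq_bot, map_eq_zero_iff _ hAB]; exact hx0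
      have hfin := KA.finite_primes_ge A K hBL _ hI0
      refine Set.Finite.of_finite_image (f := PrimeSpectrum.asIdeal) (hfin.subset ?_) ?_
      · rintro _ ⟨Q, hQ, rfl⟩
        refine ⟨Q.2, ?_⟩
        rw [Ideal.span_singleton_le_iff_mem]
        rw [Set.mem_preimage, Set.mem_singleton_iff] at hQ
        have : x ∈ (PrimeSpectrum.comap (algebraMap A B) Q).asIdeal := by rw [hQ]; exact hxp
        exact this
      · intro Q _ Q' _ h
        exact PrimeSpectrum.ext h
  · intro Q hQ
    have hQ0 : Q ≠ ⊥ := Ring.ne_bot_of_isMaximal_of_not_isField hQ hBnf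
    have := KA.finite_quotient_ideal A K hBL Q hQ0
    exact Module.Finite.of_restrictScalars_finite A _ _

end Helpers

/-- For a one-dimensional Noetherian domain A with fraction field K, a finite field extension L of K
(separable or not) and B the integral closure of A in L: B is a Dedekind domain, Spec B → Spec A is
surjective and has finite fibres, and at every maximal ideal Q of B the residue field B/Q is finite
over A/(Q ∩ A). -/
theorem result (A K L B : Type u) [CommRing A] [IsDomain A]
    [IsNoetherianRing A] (hdim : ringKrullDim A = 1) [Field K] [Algebra A K] [IsFractionRing A K]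
    [Field L] [Algebra K L] [FiniteDimensional K L] [Algebra A L] [IsScalarTower A K L]
    [CommRing B] [IsDomain B] [Algebra A B] [Algebra B L] [IsScalarTower A B L] [IsIntegralClosure B A L] :
    IsDedekindDomain B ∧ Function.Surjective (PrimeSpectrum.comap (algebraMap A B)) ∧
      (∀ p : PrimeSpectrum A, (PrimeSpectrum.comap (algebraMap A B) ⁻¹' {p}).Finite) ∧
      ∀ Q : Ideal B, Q.IsMaximal → Module.Finite (A ⧸ Q.comap (algebraMap A B)) (B ⧸ Q) := by
  exact main6370 A K L B hdim

end Groth.Agent.S6370
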