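import Groth.Statements.S6371
import Groth.Agent.Lib.Helper5.Epi
import Mathlib.RingTheory.Localization.BaseChange
import Mathlib.RingTheory.Localization.Algebra
import Mathlib.RingTheory.LocalProperties.Submodule

set_option autoImplicit false
universe u
open CAlg

namespace Groth.Agent.S6371

open TensorProduct Groth.Agent.Lib.Helper5 in
theorem fwd (R S : Type u) [CommRing R] [CommRing S] [Algebra R S] [Algebra.IsEpi R S]
    (p : Ideal R) [p.IsPrime] :
    Algebra.IsEpi (Localization.AtPrime p) (Localization (Algebra.algebraMapSubmonoid S p.primeCompl)) := by
  have : Algebra.IsEpi (Localization.AtPrime p) ((Localization.AtPrime p) ⊗[R] S) :=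
    isEpi_baseChange R S (Localization.AtPrime p)
  exact isEpi_of_surjective_algHom (Localization.tensorRightAlgEquiv p.primeCompl S).toAlgHom
    (Localization.tensorRightAlgEquiv p.primeCompl S).surjective

open TensorProduct Groth.Agent.Lib.Helper5 in
theorem bwd (R S : Type u) [CommRing R] [CommRing S] [Algebra R S]
    (h : ∀ (p : Ideal R) [p.IsPrime],
      Algebra.IsEpi (Localization.AtPrime p) (Localization (Algebra.algebraMapSubmonoid S p.primeCompl))) :
    Algebra.IsEpi R S := by
  rw [Algebra.isEpi_iff_forall_one_tmul_eq]
  intro s
  let T := S ⊗[R] S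
  let f : S →ₐ[R] T := Algebra.TensorProduct.includeLeft
  let g : S →ₐ[R] T := Algebra.TensorProduct.includeRight
  change g s = f s
  refine Module.eq_of_localization_maximal (R := R)
    (fun P _ => Localization (Algebra.algebraMapSubmonoid T P.primeCompl))
    (fun P _ => (IsScalarTower.toAlgHom R T (Localization (Algebra.algebraMapSubmonoid T P.primeCompl))).toLinearMap)
    (g s) (f s) ?_
  intro P hP
  have := h P
  let fP := IsLocalization.mapₐ P.primeCompl (Localization.AtPrime P)
    (Localization (Algebra.algebraMapSubmonoid S P.primeCompl))
    (Localization (Algebra.algebraMapSubmonoid T P.primeCompl)) f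
  let gP := IsLocalization.mapₐ P.primeCompl (Localization.AtPrime P)
    (Localization (Algebra.algebraMapSubmonoid S P.primeCompl))
    (Localization (Algebra.algebraMapSubmonoid T P.primeCompl)) g
  have hfg : fP = gP := algHom_eq_of_isEpi fP gP
  have := congrArg (fun φ => φ (algebraMap S _ s)) hfg
  simp only [fP, gP, IsLocalization.mapₐ_coe, IsLocalization.map_eq] at this
  exact this.symm


/-- A ring map R → S is an epimorphism of rings if and only if for every prime p of R the localized map
R_p → S_p is an epimorphism, where S_p is S localized at the image of R ∖ p. -/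
theorem result (R S : Type u) [CommRing R] [CommRing S] [Algebra R S] :
    Algebra.IsEpi R S ↔ ∀ (p : Ideal R) [p.IsPrime],
      Algebra.IsEpi (Localization.AtPrime p) (Localization (Algebra.algebraMapSubmonoid S p.primeCompl)) := by
  constructor
  · intro h p _
    exact fwd R S p
  · intro h
    exact bwd R S h

end Groth.Agent.S6371
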