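import Groth.Statements.S6372
-- import your own Groth.Agent.* helpers here

set_option autoImplicit false
universe u
open CAlg

namespace Groth.Agent.S6372

/-- A faithfully flat epimorphism of rings is an isomorphism: if R → S is faithfully flat and an
epimorphism in the category of rings then it is bijective. -/
theorem result (R S : Type u) [CommRing R] [CommRing S] [Algebra R S]
    [Module.FaithfullyFlat R S] [Algebra.IsEpi R S] : Function.Bijective (algebraMap R S) := by
  open TensorProduct in
  have hμi : Function.Injective (TensorProduct.lift (LinearMap.mul R S)) :=
    Algebra.IsEpi.injective_lift_mul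
  have hcomp : (TensorProduct.lift (LinearMap.mul R S)) ∘ₗ ((Algebra.linearMap R S).lTensor S) =
      (TensorProduct.rid R S).toLinearMap := by
    ext s
    simp
  have hbij : Function.Bijective ((Algebra.linearMap R S).lTensor S) := by
    constructor
    · have h1 : Function.Injective ((TensorProduct.lift (LinearMap.mul R S)) ∘ₗ
          ((Algebra.linearMap R S).lTensor S)) := by
        rw [hcomp]; exact (TensorProduct.rid R S).injective
      exact Function.Injective.of_comp (f := TensorProduct.lift (LinearMap.mul R S)) h1
    · intro y
      obtain ⟨x, hx⟩ := (TensorProduct.rid R S).surjective (TensorProduct.lift (LinearMap.mul R S) y)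
      refine ⟨x, hμi ?_⟩
      have := congrArg (fun g => g x) hcomp
      simp only [LinearMap.coe_comp, Function.comp_apply] at this
      rw [this]
      exact hx
  have := (Module.FaithfullyFlat.lTensor_bijective_iff_bijective R S (Algebra.linearMap R S)).1 hbij
  exact this

end Groth.Agent.S6372
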