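import Groth.Statements.S6374
import Groth.Agent.Lib.Helper5.Epi

set_option autoImplicit false
universe u
open CAlg

namespace Groth.Agent.S6374

/-- For an epimorphism of rings R → S, the induced map Spec S → Spec R is injective and induces trivial
residue field extensions; stated in the form the proof gives: for every prime p of R the fibre ring
S ⊗_R κ(p) is either zero or κ(p) → S ⊗_R κ(p) is bijective, together with injectivity of Spec S →
Spec R. -/
theorem result (R S : Type u) [CommRing R] [CommRing S] [Algebra R S]
    [Algebra.IsEpi R S] :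
    Function.Injective (PrimeSpectrum.comap (algebraMap R S)) ∧
      ∀ (p : Ideal R) [p.IsPrime],
        Subsingleton (p.Fiber S) ∨ Function.Bijective (algebraMap p.ResidueField (p.Fiber S)) := by
  have hfib : ∀ (p : Ideal R) [p.IsPrime],
      Subsingleton (p.Fiber S) ∨ Function.Bijective (algebraMap p.ResidueField (p.Fiber S)) := by
    intro p _
    have : Algebra.IsEpi p.ResidueField (p.Fiber S) :=
      Groth.Agent.Lib.Helper5.isEpi_baseChange R S p.ResidueField
    exact Groth.Agent.Lib.Helper5.isEpi_field p.ResidueField (p.Fiber S)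
  refine ⟨?_, fun p _ => hfib p⟩
  intro q₁ q₂ h
  have hsub : Subsingleton (PrimeSpectrum ((PrimeSpectrum.comap (algebraMap R S) q₂).asIdeal.Fiber S)) := by
    rcases hfib (PrimeSpectrum.comap (algebraMap R S) q₂).asIdeal with h1 | h1
    · exact ⟨fun a b => (IsEmpty.false a).elim⟩
    · let e := RingEquiv.ofBijective (algebraMap _ _) h1
      exact (PrimeSpectrum.comapEquiv e).symm.toEquiv.subsingleton
  let E := PrimeSpectrum.preimageEquivFiber R S (PrimeSpectrum.comap (algebraMap R S) q₂)
  have h₁ : q₁ ∈ PrimeSpectrum.comap (algebraMap R S) ⁻¹' {PrimeSpectrum.comap (algebraMap R S) q₂} := h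
  have h₂ : q₂ ∈ PrimeSpectrum.comap (algebraMap R S) ⁻¹' {PrimeSpectrum.comap (algebraMap R S) q₂} := rfl
  have := E.injective (Subsingleton.elim (E ⟨q₁, h₁⟩) (E ⟨q₂, h₂⟩))
  exact congrArg Subtype.val this

end Groth.Agent.S6374
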