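import Groth.Statements.S6375
import Mathlib.Algebra.Colimit.TensorProduct
import Mathlib.LinearAlgebra.TensorProduct.Vanishing
import Mathlib.Algebra.Algebra.Epi
import Mathlib.SetTheory.Cardinal.Arithmetic

set_option autoImplicit false
universe u
open CAlg

namespace Groth.Agent.S6375

open TensorProduct

variable {R S : Type u} [CommRing R] [CommRing S] [Algebra R S]

/-- the target vector `(s, -1, 0, …, 0)` -/
def vec (n : ℕ) (s : S) : Fin (n + 2) → S := Fin.cons s (Fin.cons (-1) (fun _ => 0))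

/-- zigzag data for `s` with coefficient matrix `a` -/
def Z (s : S) (n k : ℕ) (a : Fin (n + 2) → Fin k → R) : Prop :=
  ∃ (x : Fin (n + 2) → S) (y : Fin k → S), x 0 = 1 ∧ x 1 = s ∧
    (∀ j, ∑ i, a i j • x i = 0) ∧ ∀ i, ∑ j, a i j • y j = vec n s i

theorem sum_mul_vec (n : ℕ) (s : S) (x : Fin (n + 2) → S) :
    ∑ i, x i * vec n s i = x 0 * s - x 1 := by
  rw [Fin.sum_univ_succ, Fin.sum_univ_succ]
  simp [vec, Fin.cons_succ, Fin.cons_zero]
  ring

theorem Z_unique {s s' : S} {n k : ℕ} {a : Fin (n + 2) → Fin k → R}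
    (h : Z s n k a) (h' : Z s' n k a) : s = s' := by
  obtain ⟨x, y, hx0, hx1, hxa, hya⟩ := h
  obtain ⟨x', y', hx0', hx1', hxa', hya'⟩ := h'
  have h1 : ∑ j, (∑ i, a i j • x' i) * y j = 0 := by
    refine Finset.sum_eq_zero fun j _ => ?_
    rw [hxa' j, zero_mul]
  have h2 : ∑ j, (∑ i, a i j • x' i) * y j = ∑ i, x' i * vec n s i := by
    simp_rw [← hya, Finset.sum_mul, Finset.mul_sum]
    rw [Finset.sum_comm]
    refine Finset.sum_congr rfl fun i _ => Finset.sum_congr rfl fun j _ => ?_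
    rw [smul_mul_assoc, mul_smul_comm]
  rw [h2, sum_mul_vec, hx0', hx1', one_mul, sub_eq_zero] at h1
  exact h1

theorem exists_Z [Algebra.IsEpi R S] (s : S) :
    ∃ (n k : ℕ) (a : Fin (n + 2) → Fin k → R), Z s n k a := by
  classical
  let N : Submodule R S := Submodule.span R {1, s}
  have hN : N.FG := Submodule.fg_span (by simp)
  have h1N : (1 : S) ∈ N := Submodule.subset_span (by simp)
  have hsN : s ∈ N := Submodule.subset_span (by simp)
  have heq : N.subtype.rTensor S ((⟨1, h1N⟩ : N) ⊗ₜ[R] s) =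
      N.subtype.rTensor S ((⟨s, hsN⟩ : N) ⊗ₜ[R] (1 : S)) := by
    simp only [LinearMap.rTensor_tmul, Submodule.subtype_apply]
    exact (Algebra.isEpi_iff_forall_one_tmul_eq R S).mp inferInstance s
  obtain ⟨N', hN', hle, heq'⟩ := hN.exists_rTensor_fg_inclusion_eq heq
  simp only [LinearMap.rTensor_tmul] at heq'
  haveI : Module.Finite R N' := Module.Finite.iff_fg.mpr hN'
  obtain ⟨n, g, hg⟩ := Module.Finite.exists_fin (R := R) (M := N')
  let m : Fin (n + 2) → N' :=
    Fin.cons (N.inclusion hle ⟨1, h1N⟩) (Fin.cons (N.inclusion hle ⟨s, hsN⟩) g)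
  have hm : Submodule.span R (Set.range m) = ⊤ := by
    rw [eq_top_iff, ← hg]
    apply Submodule.span_mono
    rintro _ ⟨i, rfl⟩
    exact ⟨i.succ.succ, by simp [m]⟩
  have hsum : ∑ i, m i ⊗ₜ[R] vec n s i = (0 : N' ⊗[R] S) := by
    rw [Fin.sum_univ_succ, Fin.sum_univ_succ]
    have hm0 : m 0 = N.inclusion hle ⟨1, h1N⟩ := rfl
    have hm1 : m (Fin.succ 0) = N.inclusion hle ⟨s, hsN⟩ := rfl
    have hv0 : vec n s 0 = s := rfl
    have hv1 : vec n s (Fin.succ 0) = -1 := rfl
    have hv2 : ∀ i : Fin n, vec n s i.succ.succ = 0 := fun _ => rfl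
    rw [hm0, hm1, hv0, hv1, heq', TensorProduct.tmul_neg]
    rw [Finset.sum_eq_zero (fun i _ => by rw [hv2 i, TensorProduct.tmul_zero]), add_zero]
    exact add_neg_cancel (G := ↥N' ⊗[R] S) _
  obtain ⟨k, a, y, h1, h2⟩ := TensorProduct.vanishesTrivially_of_sum_tmul_eq_zero R hm hsum
  refine ⟨n, k, a, fun i => (m i : S), y, by simp [m], by simp [m], fun j => ?_, fun i => (h1 i).symm⟩
  have := congrArg N'.subtype (h2 j)
  simpa using this


section card
open Cardinal
theorem card_fun_le (a : ℕ) (T : Type u) (c : Cardinal.{u}) (hc : ℵ₀ ≤ c) (hT : #T ≤ c) :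
    #(Fin a → T) ≤ c := by
  rw [Cardinal.mk_arrow]
  simp only [Cardinal.mk_fin, Cardinal.lift_natCast, Cardinal.lift_id, Cardinal.lift_uzero]
  calc #T ^ (a : Cardinal) ≤ c ^ (a : Cardinal) := Cardinal.power_le_power_right hT
    _ ≤ c := Cardinal.power_nat_le hc

theorem card_code_le (R : Type u) [Infinite R] :
    #(Σ (n : ℕ) (k : ℕ), (Fin (n + 2) → Fin k → R)) ≤ #R := by
  have hR : ℵ₀ ≤ #R := Cardinal.aleph0_le_mk R
  rw [Cardinal.mk_sigma]
  have h1 : ∀ n : ℕ, #(Σ (k : ℕ), (Fin (n + 2) → Fin k → R)) ≤ #R := by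
    intro n
    rw [Cardinal.mk_sigma]
    calc Cardinal.sum (fun k : ℕ => #(Fin (n + 2) → Fin k → R))
        ≤ Cardinal.sum (fun _ : ℕ => #R) :=
          Cardinal.sum_le_sum _ _ (fun k => card_fun_le _ _ _ hR (card_fun_le _ _ _ hR le_rfl))
      _ = ℵ₀ * #R := by rw [Cardinal.sum_const]; simp
      _ = #R := Cardinal.aleph0_mul_eq hR
  calc Cardinal.sum (fun n : ℕ => #(Σ (k : ℕ), (Fin (n + 2) → Fin k → R)))
      ≤ Cardinal.sum (fun _ : ℕ => #R) := Cardinal.sum_le_sum _ _ h1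
    _ = ℵ₀ * #R := by rw [Cardinal.sum_const]; simp
    _ = #R := Cardinal.aleph0_mul_eq hR

end card

open Cardinal in
/-- For an infinite source ring: if R → S is an epimorphism of rings with R infinite, then |S| ≤ |R| as
cardinals. -/
theorem result (R S : Type u) [CommRing R] [CommRing S] [Algebra R S] [Algebra.IsEpi R S]
    [Infinite R] : Cardinal.mk S ≤ Cardinal.mk R := by
  classical
  have hex : ∀ s : S, ∃ c : (Σ (n : ℕ) (k : ℕ), (Fin (n + 2) → Fin k → R)),
      Z s c.1 c.2.1 c.2.2 := by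
    intro s
    obtain ⟨n, k, a, h⟩ := exists_Z (R := R) s
    exact ⟨⟨n, k, a⟩, h⟩
  choose f hf' using hex
  have hf : Function.Injective f := by
    intro s s' h
    have hs := hf' s
    have hs' := hf' s'
    rw [← h] at hs'
    exact Z_unique hs hs'
  exact (Cardinal.mk_le_of_injective hf).trans (card_code_le R)

end Groth.Agent.S6375
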