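import Groth.Statements.S6378
import Groth.Agent.Lib.Helper46.TorShift
import Mathlib.RingTheory.FiniteLength
import Mathlib.RingTheory.SimpleModule.Basic

set_option autoImplicit false
universe u
open CategoryTheory
open CAlg

namespace Groth.Agent.S6378

/-- Let (R, m, κ) be a local ring and M an R-module with Tor_1^R(κ, M) = 0. Then Tor_1^R(N, M) = 0 for
every finite length R-module N. -/
theorem result (R : Type u) [CommRing R] [IsLocalRing R]
    (M : Type u) [AddCommGroup M] [Module R M]
    (h : Limits.IsZero (((CategoryTheory.Tor (ModuleCat.{u} R) 1).obj (ModuleCat.of R (IsLocalRing.ResidueField R))).obj (ModuleCat.of R M)))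
    (N : Type u) [AddCommGroup N] [Module R N] (hN : IsFiniteLength R N) :
    Limits.IsZero (((CategoryTheory.Tor (ModuleCat.{u} R) 1).obj (ModuleCat.of R N)).obj (ModuleCat.of R M)) := by
  induction hN with
  | of_subsingleton =>
    rename_i N' _ _ _
    haveI := Module.Free.of_subsingleton R N'
    exact Groth.Agent.Lib.Helper46.TorShift.isZero_of_flat_left N' M 0
  | of_simple_quotient hN' ih =>
    rename_i N' _ _ K hsimple
    obtain ⟨I, hI, ⟨e⟩⟩ := isSimpleModule_iff_quot_maximal.mp hsimple
    obtain rfl := IsLocalRing.eq_maximalIdeal hI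
    have hq : Limits.IsZero (Groth.Agent.Lib.Helper46.TorShift.T R 1 (N' ⧸ K) M) :=
      Groth.Agent.Lib.Helper46.TorShift.isZero_congr e.symm (LinearEquiv.refl R M) 1 h
    exact Groth.Agent.Lib.Helper46.TorShift.isZero_mid₁ (N := M) K.subtype K.mkQ
      Subtype.val_injective (LinearMap.exact_subtype_mkQ K) (Submodule.mkQ_surjective K) 1 ih hq

end Groth.Agent.S6378
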