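import Groth.Statements.S6379
import Groth.Agent.S6346
import Groth.Agent.Lib.Helper54.ML

set_option autoImplicit false
universe u
open scoped TensorProduct
open CAlg

namespace Groth.Agent.S6379

/-- Let M be a flat Mittag-Leffler module over a commutative ring R, F an R-module and x ∈ F ⊗_R M. Then
among the submodules F' of F with x in the image of F' ⊗ M → F ⊗ M there is a smallest one, and it
is a finitely generated module. -/
theorem result (R : Type u) [CommRing R] (M : Type u)
    [AddCommGroup M] [Module R M] [Module.Flat R M] (hM : CAlg.IsMittagLeffler R M)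
    (F : Type u) [AddCommGroup F] [Module R F] (x : F ⊗[R] M) :
    ∃ F' : Submodule R F, F'.FG ∧ x ∈ LinearMap.range (F'.subtype.rTensor M) ∧
      ∀ F'' : Submodule R F, x ∈ LinearMap.range (F''.subtype.rTensor M) → F' ≤ F'' := by
  classical
  -- the family of all submodules through which `x` factors
  let 𝓢 : Type u :=
    {F'' : Submodule R F // x ∈ LinearMap.range (F''.subtype.rTensor M)}
  let Q : 𝓢 → Type u := fun F'' => F ⧸ F''.1
  let g : F →ₗ[R] (∀ F'' : 𝓢, Q F'') := LinearMap.pi fun F'' => F''.1.mkQ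
  have hg : g.rTensor M x = 0 := by
    apply (TensorProduct.comm R (∀ F'' : 𝓢, Q F'') M).injective
    rw [map_zero]
    apply hM 𝓢 Q
    rw [map_zero]
    funext F''
    rw [Groth.Agent.Lib.Helper54.piRightHom_apply]
    have h1 := Groth.Agent.S6346.comm_lTensor (M := M)
      (LinearMap.proj F'' : (∀ F'' : 𝓢, Q F'') →ₗ[R] Q F'')
      (TensorProduct.comm R (∀ F'' : 𝓢, Q F'') M (g.rTensor M x))
    apply (TensorProduct.comm R M (Q F'')).injective
    rw [← h1]
    change _ = (TensorProduct.comm R M (Q F'')) 0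
    rw [map_zero]
    have h2 : (TensorProduct.comm R M (∀ F'' : 𝓢, Q F''))
        ((TensorProduct.comm R (∀ F'' : 𝓢, Q F'') M) (g.rTensor M x)) = g.rTensor M x := by
      simp
    rw [h2, ← LinearMap.comp_apply, ← LinearMap.rTensor_comp]
    have h3 : (LinearMap.proj F'' : (∀ F'' : 𝓢, Q F'') →ₗ[R] Q F'') ∘ₗ g = F''.1.mkQ := by
      ext v
      rfl
    rw [h3]
    exact Groth.Agent.S6346.mkQ_rTensor_eq_zero M F''.1 x F''.2
  have hmem : x ∈ LinearMap.range ((LinearMap.ker g).subtype.rTensor M) :=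
    Groth.Agent.S6346.mem_range_ker_of_rTensor_eq_zero M g x hg
  have hmin : ∀ F'' : Submodule R F, x ∈ LinearMap.range (F''.subtype.rTensor M) →
      LinearMap.ker g ≤ F'' := by
    intro F'' hF'' v hv
    have h5 : g v ⟨F'', hF''⟩ = 0 := by
      rw [LinearMap.mem_ker.1 hv]; rfl
    exact (Submodule.Quotient.mk_eq_zero F'').1 h5
  refine ⟨LinearMap.ker g, ?_, hmem, hmin⟩
  -- finite generation: `x` already comes from a finitely generated submodule of `ker g`
  obtain ⟨z, hz⟩ := hmem
  obtain ⟨k, a, m, rfl⟩ := TensorProduct.exists_sum_tmul_eq z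
  let F₀ : Submodule R F := Submodule.span R (Set.range fun j => ((a j : LinearMap.ker g) : F))
  have hF₀ : F₀ ≤ LinearMap.ker g := by
    rw [Submodule.span_le]
    rintro _ ⟨j, rfl⟩
    exact (a j).2
  have hx₀ : x ∈ LinearMap.range (F₀.subtype.rTensor M) := by
    refine ⟨∑ j, (⟨(a j : F), Submodule.subset_span ⟨j, rfl⟩⟩ : F₀) ⊗ₜ[R] m j, ?_⟩
    have h7 : (F₀.subtype.rTensor M)
        (∑ j, (⟨(a j : F), Submodule.subset_span ⟨j, rfl⟩⟩ : F₀) ⊗ₜ[R] m j) =
        ((LinearMap.ker g).subtype.rTensor M) (∑ j, a j ⊗ₜ[R] m j) := by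
      rw [map_sum, map_sum]
      rfl
    exact h7.trans hz
  have heq : LinearMap.ker g = F₀ := le_antisymm (hmin F₀ hx₀) hF₀
  rw [heq]
  exact Submodule.fg_span (Set.finite_range _)

end Groth.Agent.S6379
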