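import Groth.Statements.S6381
import Mathlib

set_option autoImplicit false
universe u
open CAlg

namespace Groth.Agent.S6381

open Polynomial nonZeroDivisors

section
variable {R : Type u} [CommRing R] (p : Ideal R) [p.IsPrime] {L : Type u} [Field L] [Algebra R L]
  (hker : RingHom.ker (algebraMap R L) = p)

include hker in
lemma unit_of_notMem : p.primeCompl ≤ (IsUnit.submonoid L).comap (algebraMap R L) := by
  intro x hx
  show IsUnit (algebraMap R L x)
  rw [isUnit_iff_ne_zero]
  intro h
  apply hx
  rw [← hker]
  exact h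

/-- the induced map `κ(p) → L` -/
noncomputable def psi : p.ResidueField →+* L :=
  Ideal.ResidueField.lift p (algebraMap R L) (le_of_eq hker.symm) (unit_of_notMem p hker)

lemma psi_algebraMap (r : R) : psi p hker (algebraMap R p.ResidueField r) = algebraMap R L r :=
  Ideal.ResidueField.lift_algebraMap _ _ _ _ r

include hker in
lemma step1 (α : L) (hα : ∃ g : R[X], g.map (algebraMap R L) ≠ 0 ∧ aeval α g = 0) :
    ∃ (f : R[X]) (c : R), f.Monic ∧ c ∉ p ∧ aeval (algebraMap R L c * α) f = 0 ∧
      (∀ g : R[X], aeval (algebraMap R L c * α) g = 0 → g.natDegree < f.natDegree →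
        ∀ i, g.coeff i ∈ p) := by
  classical
  letI : Algebra p.ResidueField L := (psi p hker).toAlgebra
  haveI : IsScalarTower R p.ResidueField L :=
    IsScalarTower.of_algebraMap_eq (fun r => (psi_algebraMap p hker r).symm)
  obtain ⟨g, hg0, hgα⟩ := hα
  have hαK : IsIntegral p.ResidueField α := by
    apply IsAlgebraic.isIntegral
    refine ⟨g.map (algebraMap R p.ResidueField), ?_, ?_⟩
    · intro h
      apply hg0
      rw [IsScalarTower.algebraMap_eq R p.ResidueField L, ← Polynomial.map_map, h,
        Polynomial.map_zero]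
    · rw [aeval_map_algebraMap]; exact hgα
  set m := minpoly p.ResidueField α with hm
  let d : (R ⧸ p)⁰ := IsLocalization.commonDenom (R ⧸ p)⁰ m.support m.coeff
  obtain ⟨c, hc⟩ := Ideal.Quotient.mk_surjective (d : R ⧸ p)
  have hcp : c ∉ p := by
    intro h
    have h0 : (d : R ⧸ p) = 0 := by rw [← hc]; exact Ideal.Quotient.eq_zero_iff_mem.mpr h
    exact nonZeroDivisors.coe_ne_zero d h0
  set cK : p.ResidueField := algebraMap (R ⧸ p) p.ResidueField d with hcK
  have hcK' : cK = algebraMap R p.ResidueField c := by
    rw [hcK, ← hc]; rfl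
  have hcK0 : cK ≠ 0 := by
    rw [hcK']
    intro h
    exact hcp (Ideal.algebraMap_residueField_eq_zero.mp h)
  have hlift : m.scaleRoots cK ∈ lifts (algebraMap (R ⧸ p) p.ResidueField) :=
    IsLocalization.scaleRoots_commonDenom_mem_lifts (R ⧸ p)⁰ m (by
      rw [(minpoly.monic hαK).leadingCoeff]; exact one_mem _)
  have hlift' : m.scaleRoots cK ∈ lifts (algebraMap R p.ResidueField) := by
    rw [lifts_iff_coeff_lifts] at hlift ⊢
    intro n
    obtain ⟨x, hx⟩ := hlift n
    obtain ⟨y, rfl⟩ := Ideal.Quotient.mk_surjective x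
    exact ⟨y, hx⟩
  obtain ⟨f, hfmap, hfdeg, hfmonic⟩ := lifts_and_natDegree_eq_and_monic hlift'
    ((monic_scaleRoots_iff cK).mpr (minpoly.monic hαK))
  have hβ : algebraMap R L c * α = cK • α := by
    rw [Algebra.smul_def, hcK', ← IsScalarTower.algebraMap_apply]
  have hmin : minpoly p.ResidueField (cK • α) = m.scaleRoots cK :=
    IsIntegrallyClosed.minpoly_smul hcK0 hαK
  refine ⟨f, c, hfmonic, hcp, ?_, ?_⟩
  · rw [hβ, ← aeval_map_algebraMap p.ResidueField, hfmap, ← hmin]
    exact minpoly.aeval _ _
  · intro g hg hdeg i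
    rw [hβ] at hg
    have h1 : minpoly p.ResidueField (cK • α) ∣ g.map (algebraMap R p.ResidueField) := by
      apply minpoly.dvd
      rw [aeval_map_algebraMap]; exact hg
    have h2 : g.map (algebraMap R p.ResidueField) = 0 := by
      by_contra hne
      have := Polynomial.natDegree_le_of_dvd h1 hne
      rw [hmin, ← hfmap] at this
      have h3 : (f.map (algebraMap R p.ResidueField)).natDegree = f.natDegree :=
        hfmonic.natDegree_map _
      have h4 := Polynomial.natDegree_map_le (f := algebraMap R p.ResidueField) (p := g)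
      omega
    have h5 := congrArg (fun q => q.coeff i) h2
    simp only [coeff_map, coeff_zero] at h5
    exact Ideal.algebraMap_residueField_eq_zero.mp h5

/-- the evaluation map `R[x]/(f) → L` -/
noncomputable def phi1 (f : R[X]) (β : L) (hβ : aeval β f = 0) : AdjoinRoot f →ₐ[R] L :=
  AdjoinRoot.liftAlgHom f (Algebra.ofId R L) β hβ

lemma phi1_mk (f : R[X]) (β : L) (hβ : aeval β f = 0) (g : R[X]) :
    phi1 f β hβ (AdjoinRoot.mk f g) = aeval β g := rfl

include hker in
lemma step2 (f : R[X]) (hf : f.Monic) (β : L) (hβ : aeval β f = 0)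
    (hmin : ∀ g : R[X], aeval β g = 0 → g.natDegree < f.natDegree → ∀ i, g.coeff i ∈ p) :
    RingHom.ker (phi1 f β hβ) = p.map (algebraMap R (AdjoinRoot f)) := by
  apply le_antisymm
  · intro s hs
    obtain ⟨g, rfl⟩ := AdjoinRoot.mk_surjective s
    rw [RingHom.mem_ker, phi1_mk] at hs
    have hf1 : f ≠ 1 := by
      rintro rfl
      simp at hβ
    have hdeg : (g %ₘ f).natDegree < f.natDegree := natDegree_modByMonic_lt g hf hf1
    have hdecomp : g %ₘ f + f * (g /ₘ f) = g := modByMonic_add_div g f
    have hr : aeval β (g %ₘ f) = 0 := by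
      have := congrArg (aeval β) hdecomp
      rw [map_add, map_mul, hβ, zero_mul, add_zero, hs] at this
      exact this
    have hcoef := hmin _ hr hdeg
    have hmk : AdjoinRoot.mk f g = AdjoinRoot.mk f (g %ₘ f) := by
      rw [AdjoinRoot.mk_eq_mk]
      exact ⟨g /ₘ f, by nth_rewrite 1 [← hdecomp]; ring⟩
    rw [hmk, ← AdjoinRoot.aeval_eq, aeval_eq_sum_range]
    apply Ideal.sum_mem
    intro i _
    rw [Algebra.smul_def]
    exact Ideal.mul_mem_right _ _ (Ideal.mem_map_of_mem _ (hcoef i))
  · rw [Ideal.map_le_iff_le_comap]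
    intro r hr
    rw [Ideal.mem_comap, RingHom.mem_ker, AlgHom.commutes]
    rw [← hker] at hr
    exact hr

end

theorem G' (n : ℕ) : ∀ (R : Type u) [CommRing R] (p : Ideal R) [p.IsPrime] (L : Type u) [Field L]
    [Algebra R L] (hker : RingHom.ker (algebraMap R L) = p) (gens : Fin n → L)
    (halg : ∀ i, ∃ g : R[X], g.map (algebraMap R L) ≠ 0 ∧ aeval (gens i) g = 0)
    (hgen : Subfield.closure (Set.range (algebraMap R L) ∪ Set.range gens) = ⊤),
    ∃ (S : Type u) (_ : CommRing S) (_ : Algebra R S) (_ : Module.Finite R S) (_ : Module.Free R S)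
      (φ : S →ₐ[R] L), RingHom.ker φ = p.map (algebraMap R S) ∧
        ∀ y : L, ∃ a b : S, φ b ≠ 0 ∧ y = φ a / φ b := by
  induction n with
  | zero =>
    intro R _ p _ L _ _ hker gens halg hgen
    refine ⟨R, inferInstance, inferInstance, inferInstance, inferInstance, Algebra.ofId R L, ?_, ?_⟩
    · rw [Algebra.algebraMap_self, Ideal.map_id]; exact hker
    · intro y
      have hy : y ∈ Subfield.closure (Set.range (algebraMap R L) ∪ Set.range gens) := by
        rw [hgen]; trivial
      have hrange : Set.range gens = ∅ := Set.range_eq_empty _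
      rw [hrange, Set.union_empty, Subfield.mem_closure_iff] at hy
      obtain ⟨a, ha, b, hb, rfl⟩ := hy
      have hcl : Subring.closure (Set.range (algebraMap R L)) = (algebraMap R L).range := by
        rw [← RingHom.coe_range]; exact Subring.closure_eq _
      rw [hcl] at ha hb
      obtain ⟨a, rfl⟩ := ha
      obtain ⟨b, rfl⟩ := hb
      by_cases hb0 : algebraMap R L b = 0
      · exact ⟨0, 1, by simp, by simp [hb0]⟩
      · exact ⟨a, b, hb0, rfl⟩
  | succ n ih =>
    intro R _ p _ L _ _ hker gens halg hgen
    obtain ⟨f, c, hfm, hcp, hroot, hmin⟩ := step1 p hker (gens (Fin.last n)) (halg _)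
    set β := algebraMap R L c * gens (Fin.last n) with hβdef
    let φ₁ : AdjoinRoot f →ₐ[R] L := phi1 f β hroot
    have hkerφ₁ := step2 p hker f hfm β hroot hmin
    letI : Algebra (AdjoinRoot f) L := φ₁.toRingHom.toAlgebra
    haveI : IsScalarTower R (AdjoinRoot f) L :=
      IsScalarTower.of_algebraMap_eq (fun r => (φ₁.commutes r).symm)
    have hprime : (p.map (algebraMap R (AdjoinRoot f))).IsPrime := by
      rw [← hkerφ₁]; exact RingHom.ker_isPrime _
    have hker₁ : RingHom.ker (algebraMap (AdjoinRoot f) L) = p.map (algebraMap R (AdjoinRoot f)) :=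
      hkerφ₁
    haveI : Module.Finite R (AdjoinRoot f) := (AdjoinRoot.powerBasis' hfm).finite
    haveI : Module.Free R (AdjoinRoot f) := Module.Free.of_basis (AdjoinRoot.powerBasis' hfm).basis
    have hroot' : algebraMap (AdjoinRoot f) L (AdjoinRoot.root f) = β := by
      show φ₁ (AdjoinRoot.root f) = β
      rw [← AdjoinRoot.mk_X]
      show phi1 f β hroot (AdjoinRoot.mk f X) = β
      rw [phi1_mk, aeval_X]
    have halg' : ∀ i : Fin n, ∃ g : (AdjoinRoot f)[X], g.map (algebraMap (AdjoinRoot f) L) ≠ 0 ∧
        aeval (gens i.castSucc) g = 0 := by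
      intro i
      obtain ⟨g, hg0, hg⟩ := halg i.castSucc
      refine ⟨g.map (algebraMap R (AdjoinRoot f)), ?_, ?_⟩
      · rw [Polynomial.map_map, ← IsScalarTower.algebraMap_eq]; exact hg0
      · rw [aeval_map_algebraMap]; exact hg
    have hgen' : Subfield.closure (Set.range (algebraMap (AdjoinRoot f) L) ∪
        Set.range (fun i : Fin n => gens i.castSucc)) = ⊤ := by
      rw [eq_top_iff, ← hgen, Subfield.closure_le]
      rintro x (⟨r, rfl⟩ | ⟨i, rfl⟩)
      · apply Subfield.subset_closure
        left
        exact ⟨algebraMap R (AdjoinRoot f) r, (IsScalarTower.algebraMap_apply R (AdjoinRoot f) L r).symm⟩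
      · refine Fin.lastCases ?_ (fun j => ?_) i
        · have hc0 : algebraMap R L c ≠ 0 := by
            intro h
            apply hcp
            rw [← hker]; exact h
          have : gens (Fin.last n) = β / algebraMap R L c := by
            rw [hβdef]; field_simp
          rw [this]
          apply div_mem
          · apply Subfield.subset_closure
            left
            exact ⟨AdjoinRoot.root f, hroot'⟩
          · apply Subfield.subset_closure
            left
            exact ⟨algebraMap R (AdjoinRoot f) c, (IsScalarTower.algebraMap_apply R (AdjoinRoot f) L c).symm⟩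
        · apply Subfield.subset_closure
          right
          exact ⟨j, rfl⟩
    obtain ⟨S₂, _, _, _, _, φ₂, hkerφ₂, hfrac⟩ := ih (AdjoinRoot f) (p.map (algebraMap R (AdjoinRoot f))) L
      hker₁ (fun i => gens i.castSucc) halg' hgen'
    letI : Algebra R S₂ := ((algebraMap (AdjoinRoot f) S₂).comp (algebraMap R (AdjoinRoot f))).toAlgebra
    haveI : IsScalarTower R (AdjoinRoot f) S₂ := IsScalarTower.of_algebraMap_eq (fun r => rfl)
    refine ⟨S₂, inferInstance, inferInstance, Module.Finite.trans (AdjoinRoot f) S₂,
      Module.Free.trans (R := R) (S := AdjoinRoot f) (M := S₂), φ₂.restrictScalars R, ?_, hfrac⟩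
    show RingHom.ker φ₂ = _
    rw [hkerφ₂, Ideal.map_map]
    rfl

/-- Let R be a ring, p ⊆ R a prime and L a finite extension of the residue field κ(p). Then one can find
a ring map R → S, with S finite free over R, for which q = pS is a prime of S and the residue field
κ(q) is isomorphic to L over κ(p) (stated as a ring isomorphism κ(q) ≅ L compatible with the maps
from R, which determines compatibility with κ(p)). -/
theorem result (R : Type u) [CommRing R] (p : Ideal R) [p.IsPrime]
    (L : Type u) [Field L] [Algebra p.ResidueField L] [FiniteDimensional p.ResidueField L]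
    [Algebra R L] [IsScalarTower R p.ResidueField L] :
    ∃ (S : Type u) (_ : CommRing S) (_ : Algebra R S) (_ : Module.Finite R S) (_ : Module.Free R S)
      (_ : (p.map (algebraMap R S)).IsPrime)
      (e : (p.map (algebraMap R S)).ResidueField ≃+* L),
      ∀ r : R, e (algebraMap R (p.map (algebraMap R S)).ResidueField r) = algebraMap R L r := by
  classical
  have hker : RingHom.ker (algebraMap R L) = p := by
    ext r
    rw [RingHom.mem_ker, IsScalarTower.algebraMap_apply R p.ResidueField L,
      map_eq_zero_iff _ (algebraMap p.ResidueField L).injective]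
    exact Ideal.algebraMap_residueField_eq_zero
  let b := Module.finBasis p.ResidueField L
  letI : Algebra (R ⧸ p) L :=
    ((algebraMap p.ResidueField L).comp (algebraMap (R ⧸ p) p.ResidueField)).toAlgebra
  haveI : IsScalarTower (R ⧸ p) p.ResidueField L := IsScalarTower.of_algebraMap_eq (fun r => rfl)
  haveI : IsScalarTower R (R ⧸ p) L := IsScalarTower.of_algebraMap_eq (fun r => by
    rw [IsScalarTower.algebraMap_apply R p.ResidueField L,
      IsScalarTower.algebraMap_apply (R ⧸ p) p.ResidueField L]
    rfl)
  have halg : ∀ x : L, ∃ g : R[X], g.map (algebraMap R L) ≠ 0 ∧ aeval x g = 0 := by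
    intro x
    have hx : IsIntegral p.ResidueField x := Algebra.IsIntegral.isIntegral x
    let μ := minpoly p.ResidueField x
    let g₀ : (R ⧸ p)[X] := IsLocalization.integerNormalization (R ⧸ p)⁰ μ
    have hg₀ : g₀ ≠ 0 := by
      intro h
      exact minpoly.ne_zero hx (IsFractionRing.integerNormalization_eq_zero_iff.mp h)
    have hg₀x : aeval x g₀ = 0 :=
      IsLocalization.integerNormalization_aeval_eq_zero (R ⧸ p)⁰ μ (minpoly.aeval _ _)
    obtain ⟨g, hg⟩ := Polynomial.map_surjective (Ideal.Quotient.mk p) Ideal.Quotient.mk_surjective g₀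
    refine ⟨g, ?_, ?_⟩
    · have h1 : algebraMap R L = (algebraMap (R ⧸ p) L).comp (Ideal.Quotient.mk p) :=
        IsScalarTower.algebraMap_eq R (R ⧸ p) L
      rw [h1, ← Polynomial.map_map, hg]
      intro h
      apply hg₀
      have hinj : Function.Injective (algebraMap (R ⧸ p) L) := by
        rw [IsScalarTower.algebraMap_eq (R ⧸ p) p.ResidueField L]
        exact (algebraMap p.ResidueField L).injective.comp
          (Ideal.injective_algebraMap_quotient_residueField p)
      exact Polynomial.map_injective _ hinj (by rw [h, Polynomial.map_zero])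
    · have : aeval x g = aeval x g₀ := by
        rw [← hg]
        rw [aeval_def, aeval_def, eval₂_map]
        congr 1
        exact IsScalarTower.algebraMap_eq R (R ⧸ p) L
      rw [this, hg₀x]
  have hgen : Subfield.closure (Set.range (algebraMap R L) ∪ Set.range b) = ⊤ := by
    rw [eq_top_iff]
    intro y _
    rw [← b.sum_repr y]
    apply sum_mem
    intro i _
    rw [Algebra.smul_def]
    apply mul_mem
    · -- image of κ(p) lies in the closure
      obtain ⟨a, s, hs, h⟩ := IsFractionRing.div_surjective (A := R ⧸ p) (b.repr y i)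
      rw [← h, map_div₀]
      obtain ⟨a, rfl⟩ := Ideal.Quotient.mk_surjective a
      obtain ⟨s, rfl⟩ := Ideal.Quotient.mk_surjective s
      apply div_mem
      · apply Subfield.subset_closure
        left
        refine ⟨a, ?_⟩
        rw [IsScalarTower.algebraMap_apply R p.ResidueField L]
        rfl
      · apply Subfield.subset_closure
        left
        refine ⟨s, ?_⟩
        rw [IsScalarTower.algebraMap_apply R p.ResidueField L]
        rfl
    · apply Subfield.subset_closure
      right
      exact ⟨i, rfl⟩
  obtain ⟨S, _, _, hfin, hfree, φ, hkerφ, hfrac⟩ := G' _ R p L hker b (fun i => halg _) hgen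
  have hprime : (p.map (algebraMap R S)).IsPrime := by
    rw [← hkerφ]; exact RingHom.ker_isPrime _
  have hker' : RingHom.ker (φ : S →+* L) = p.map (algebraMap R S) := hkerφ
  letI : Algebra S L := (φ : S →+* L).toAlgebra
  have hkerS : RingHom.ker (algebraMap S L) = p.map (algebraMap R S) := hkerφ
  let ψ : (p.map (algebraMap R S)).ResidueField →+* L := psi (p.map (algebraMap R S)) hkerS
  have hψ : ∀ s : S, ψ (algebraMap S _ s) = φ s := fun s => psi_algebraMap _ hkerS s
  have hbij : Function.Bijective ψ := by
    refine ⟨ψ.injective, fun y => ?_⟩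
    obtain ⟨a, c, hc, rfl⟩ := hfrac y
    refine ⟨algebraMap S _ a / algebraMap S _ c, ?_⟩
    rw [map_div₀, hψ, hψ]
  refine ⟨S, inferInstance, inferInstance, hfin, hfree, hprime, RingEquiv.ofBijective ψ hbij, ?_⟩
  intro r
  rw [RingEquiv.ofBijective_apply,
    IsScalarTower.algebraMap_apply R S (p.map (algebraMap R S)).ResidueField, hψ]
  exact φ.commutes r

end Groth.Agent.S6381
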