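import Groth.Statements.S6384
import Groth.Agent.Lib.Helper54.LocalFlat6

set_option autoImplicit false
universe u
open scoped TensorProduct
open CAlg

namespace Groth.Agent.S6384

/-- Let φ : R → R' be a ring map, I ⊆ R an ideal and M an R-module such that M/IM is R/I-flat and R' ⊗_R
M is R'-flat. Put I₂ = φ⁻¹(φ(I²) R'). Then M/I₂M is flat over R/I₂. -/
theorem result (R R' : Type u) [CommRing R] [CommRing R'] [Algebra R R']
    (I : Ideal R) (M : Type u) [AddCommGroup M] [Module R M] [Module.Flat (R ⧸ I) ((R ⧸ I) ⊗[R] M)]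
    [Module.Flat R' (R' ⊗[R] M)] :
    Module.Flat (R ⧸ ((I ^ 2).map (algebraMap R R')).comap (algebraMap R R'))
      ((R ⧸ ((I ^ 2).map (algebraMap R R')).comap (algebraMap R R')) ⊗[R] M) := by
  refine Groth.Agent.Lib.Helper54.LocalFlat.flat_baseChange_of_jointly_injective I M
    (fun _ : Unit => R') 2 (fun _ => R' ⧸ (I ^ 2).map (algebraMap R R')) ?_
    (R ⧸ ((I ^ 2).map (algebraMap R R')).comap (algebraMap R R'))
    (fun _ => (Ideal.Quotient.liftₐ (((I ^ 2).map (algebraMap R R')).comap (algebraMap R R'))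
      (Algebra.ofId R (R' ⧸ (I ^ 2).map (algebraMap R R'))) (by
        intro a ha
        rw [Ideal.mem_comap] at ha
        rw [Algebra.ofId_apply, IsScalarTower.algebraMap_apply R R']
        exact Ideal.Quotient.eq_zero_iff_mem.2 ha)).toLinearMap) ?_
  · intro _ a ha x
    rw [← algebraMap_smul R' a x, Algebra.smul_def]
    change Ideal.Quotient.mk _ (algebraMap R R' a) * x = 0
    rw [Ideal.Quotient.eq_zero_iff_mem.2 (Ideal.mem_map_of_mem _ ha), zero_mul]
  · intro x hx
    obtain ⟨a, rfl⟩ := Ideal.Quotient.mk_surjective x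
    rw [Ideal.Quotient.eq_zero_iff_mem, Ideal.mem_comap, ← Ideal.Quotient.eq_zero_iff_mem]
    exact hx ()

end Groth.Agent.S6384
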