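import Groth.Statements.S6385
import Groth.Agent.Lib.Helper11.IntegralDim

set_option autoImplicit false
universe u

namespace Groth.Agent.S6385

open Groth.Agent.Lib.Helper11.IntegralDim

theorem dim_eq_of_finite_inj (k : Type u) [Field k] (T : Type u) [CommRing T] [Algebra k T] (n : ℕ)
    (φ : MvPolynomial (Fin n) k →ₐ[k] T) (hinj : Function.Injective φ) (hfin : φ.toRingHom.Finite) :
    ringKrullDim T = n := by
  letI := φ.toRingHom.toAlgebra
  haveI : Module.Finite (MvPolynomial (Fin n) k) T := hfin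
  haveI : Algebra.IsIntegral (MvPolynomial (Fin n) k) T := Algebra.IsIntegral.of_finite _ _
  have h1 := ringKrullDim_eq_of_isIntegral_of_injective (R := MvPolynomial (Fin n) k) (S := T) hinj
  rw [h1, MvPolynomial.ringKrullDim_of_isNoetherianRing, ringKrullDim_eq_zero_of_field]
  simp

theorem result (k S : Type u) [Field k] [CommRing S] [Algebra k S]
    [Algebra.FiniteType k S] (q : Ideal S) [q.IsPrime] :
    ∃ (g : S) (d : ℕ), g ∉ q ∧ ringKrullDim (Localization.Away g) = d ∧
      (∀ g' : S, g' ∉ q → ringKrullDim (Localization.Away g) ≤ ringKrullDim (Localization.Away g')) ∧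
      ∃ φ : MvPolynomial (Fin d) k →ₐ[k] Localization.Away g, Function.Injective φ ∧ φ.toRingHom.Finite := by
  classical
  have hNN : ∀ g' : S, g' ∉ q → ∃ n, ∃ φ : MvPolynomial (Fin n) k →ₐ[k] Localization.Away g',
      Function.Injective φ ∧ φ.toRingHom.Finite := by
    intro g' hg'
    haveI : Nontrivial (Localization.Away g') := by
      have hu : IsUnit (algebraMap S (Localization.AtPrime q) g') :=
        IsLocalization.map_units (Localization.AtPrime q) (⟨g', hg'⟩ : q.primeCompl)
      exact (IsLocalization.Away.lift (S := Localization.Away g') g' hu).domain_nontrivial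
    haveI : Algebra.FiniteType S (Localization.Away g') := IsLocalization.finiteType_of_monoid_fg
      (Submonoid.powers g') _
    haveI : Algebra.FiniteType k (Localization.Away g') :=
      Algebra.FiniteType.trans (R := k) (S := S) (A := Localization.Away g') inferInstance inferInstance
    exact exists_finite_inj_algHom_of_fg k (Localization.Away g')
  let A : Set ℕ := {n | ∃ g' : S, g' ∉ q ∧ ∃ φ : MvPolynomial (Fin n) k →ₐ[k] Localization.Away g',
      Function.Injective φ ∧ φ.toRingHom.Finite}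
  have hA : A.Nonempty := by
    have h1q : (1 : S) ∉ q := (Ideal.ne_top_iff_one q).mp (Ideal.IsPrime.ne_top inferInstance)
    obtain ⟨n, φ, h1, h2⟩ := hNN 1 h1q
    exact ⟨n, 1, h1q, φ, h1, h2⟩
  obtain ⟨g, hg, φ, hφ1, hφ2⟩ : sInf A ∈ A := Nat.sInf_mem hA
  refine ⟨g, sInf A, hg, dim_eq_of_finite_inj k _ _ φ hφ1 hφ2, fun g' hg' => ?_, φ, hφ1, hφ2⟩
  obtain ⟨n', φ', h1, h2⟩ := hNN g' hg'
  rw [dim_eq_of_finite_inj k _ _ φ hφ1 hφ2, dim_eq_of_finite_inj k _ _ φ' h1 h2]
  have hmem : n' ∈ A := ⟨g', hg', φ', h1, h2⟩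
  exact_mod_cast Nat.sInf_le hmem

end Groth.Agent.S6385
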