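import Groth.Statements.S6386
import Mathlib

set_option autoImplicit false
universe u
open CAlg

namespace Groth.Agent.S6386

open Cardinal

variable {A B : Type u} [CommRing A] [CommRing B] [Algebra A B]

/-- relations with coefficients in `A` among elements of `E` -/
def Rel (E : Subalgebra A B) : Type u :=
  Σ l : ℕ, {p : (Fin l → A) × (Fin l → E) // ∑ i, p.1 i • ((p.2 i : E) : B) = 0}

variable [Module.Flat A B]

theorem triv (E : Subalgebra A B) (r : Rel E) :
    Module.IsTrivialRelation r.2.1.1 (fun i => ((r.2.1.2 i : E) : B)) :=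
  Module.Flat.isTrivialRelation_of_sum_smul_eq_zero r.2.2

/-- the chosen witnesses -/
noncomputable def ys (E : Subalgebra A B) (r : Rel E) : Set B :=
  Set.range (triv E r).choose_spec.choose_spec.choose

noncomputable def next (E : Subalgebra A B) : Subalgebra A B :=
  Algebra.adjoin A ((E : Set B) ∪ ⋃ r : Rel E, ys E r)

theorem le_next (E : Subalgebra A B) : E ≤ next E := fun _ hx =>
  Algebra.subset_adjoin (Or.inl hx)

theorem next_triv (E : Subalgebra A B) {l : ℕ} (f : Fin l → A) (x : Fin l → E)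
    (h : ∑ i, f i • ((x i : E) : B) = 0) :
    ∃ (k : ℕ) (a : Fin l → Fin k → A) (y : Fin k → next E),
      (∀ i, ((x i : E) : B) = ∑ j, a i j • ((y j : next E) : B)) ∧ ∀ j, ∑ i, f i * a i j = 0 := by
  let r : Rel E := ⟨l, ⟨(f, x), h⟩⟩
  have hspec := (triv E r).choose_spec.choose_spec.choose_spec
  refine ⟨(triv E r).choose, (triv E r).choose_spec.choose,
    fun j => ⟨(triv E r).choose_spec.choose_spec.choose j, ?_⟩, hspec.1, hspec.2⟩
  exact Algebra.subset_adjoin (Or.inr (Set.mem_iUnion.mpr ⟨r, ⟨j, rfl⟩⟩))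

theorem card_fun_le (a : ℕ) (T : Type u) (c : Cardinal.{u}) (hc : ℵ₀ ≤ c) (hT : #T ≤ c) :
    #(Fin a → T) ≤ c := by
  rw [Cardinal.mk_arrow]
  simp only [Cardinal.mk_fin, Cardinal.lift_natCast, Cardinal.lift_id, Cardinal.lift_uzero]
  calc #T ^ (a : Cardinal) ≤ c ^ (a : Cardinal) := Cardinal.power_le_power_right hT
    _ ≤ c := Cardinal.power_nat_le hc

theorem card_rel_le (E : Subalgebra A B) (c : Cardinal.{u}) (hc : ℵ₀ ≤ c) (hA : #A ≤ c)
    (hE : #E ≤ c) : #(Rel E) ≤ c := by
  have hinj : Function.Injective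
      (fun r : Rel E => (⟨r.1, r.2.1⟩ : Σ l : ℕ, (Fin l → A) × (Fin l → E))) := by
    rintro ⟨l, p, hp⟩ ⟨l', p', hp'⟩ h
    simp only [Sigma.mk.injEq] at h
    obtain ⟨rfl, h2⟩ := h
    have := eq_of_heq h2
    subst this
    rfl
  refine (Cardinal.mk_le_of_injective hinj).trans ?_
  rw [Cardinal.mk_sigma]
  calc Cardinal.sum (fun l : ℕ => #((Fin l → A) × (Fin l → E)))
      ≤ Cardinal.sum (fun _ : ℕ => c) := by
        refine Cardinal.sum_le_sum _ _ (fun l => ?_)
        rw [Cardinal.mk_prod, Cardinal.lift_id, Cardinal.lift_id]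
        calc #(Fin l → A) * #(Fin l → E) ≤ c * c :=
              mul_le_mul' (card_fun_le l A c hc hA) (card_fun_le l E c hc hE)
          _ = c := Cardinal.mul_eq_self hc
    _ = ℵ₀ * c := by rw [Cardinal.sum_const]; simp
    _ = c := Cardinal.aleph0_mul_eq hc

theorem card_next_le (E : Subalgebra A B) (c : Cardinal.{u}) (hc : ℵ₀ ≤ c) (hA : #A ≤ c)
    (hE : #E ≤ c) : #(next E) ≤ c := by
  have h1 : #(⋃ r : Rel E, ys E r) ≤ c := by
    refine (Cardinal.mk_iUnion_le _).trans ?_
    have h2 : (⨆ r : Rel E, #(ys E r)) ≤ ℵ₀ := by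
      apply ciSup_le'
      intro r
      haveI : Finite (ys E r) := Set.finite_range _
      exact (Cardinal.lt_aleph0_of_finite _).le
    calc #(Rel E) * ⨆ r : Rel E, #(ys E r) ≤ c * ℵ₀ := mul_le_mul' (card_rel_le E c hc hA hE) h2
      _ = c := Cardinal.mul_aleph0_eq hc
  have h3 : #((E : Set B) ∪ ⋃ r : Rel E, ys E r : Set B) ≤ c := by
    refine (Cardinal.mk_union_le _ _).trans ?_
    calc #(E : Set B) + #(⋃ r : Rel E, ys E r) ≤ c + c := add_le_add hE h1
      _ = c := Cardinal.add_eq_self hc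
  refine (Algebra.cardinalMk_adjoin_le A _).trans ?_
  exact sup_le (sup_le hA h3) hc

noncomputable def chain (E : Subalgebra A B) : ℕ → Subalgebra A B
  | 0 => E
  | n + 1 => next (chain E n)

theorem chain_mono (E : Subalgebra A B) : Monotone (chain E) :=
  monotone_nat_of_le_succ (fun n => le_next (chain E n))

theorem card_chain_le (E : Subalgebra A B) (c : Cardinal.{u}) (hc : ℵ₀ ≤ c) (hA : #A ≤ c)
    (hE : #E ≤ c) : ∀ n, #(chain E n) ≤ c
  | 0 => hE
  | n + 1 => card_next_le (chain E n) c hc hA (card_chain_le E c hc hA hE n)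

theorem result (A B : Type u) [CommRing A] [CommRing B] [Algebra A B]
    [Module.Flat A B] (E : Subalgebra A B) (hE : Cardinal.mk E ≤ max (Cardinal.mk A) Cardinal.aleph0) :
    ∃ B' : Subalgebra A B, E ≤ B' ∧ Module.Flat A B' ∧ Cardinal.mk B' ≤ max (Cardinal.mk A) Cardinal.aleph0 := by
  classical
  set c : Cardinal.{u} := max (Cardinal.mk A) Cardinal.aleph0 with hcdef
  have hc : ℵ₀ ≤ c := le_max_right _ _
  have hA : #A ≤ c := le_max_left _ _
  have hcoe : ((⨆ n, chain E n : Subalgebra A B) : Set B) = ⋃ n, (chain E n : Set B) :=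
    Subalgebra.coe_iSup_of_directed (chain_mono E).directed_le
  have hmem : ∀ x : B, x ∈ (⨆ n, chain E n : Subalgebra A B) ↔ ∃ n, x ∈ chain E n := by
    intro x
    rw [← SetLike.mem_coe, hcoe, Set.mem_iUnion]
    rfl
  refine ⟨⨆ n, chain E n, le_iSup (chain E) 0, ?_, ?_⟩
  · apply Module.Flat.of_forall_isTrivialRelation
    intro l f x h
    have hx : ∀ i, ∃ n, (x i : B) ∈ chain E n := fun i => (hmem _).mp (x i).2
    choose n hn using hx
    set N := Finset.univ.sup n with hN
    have hxN : ∀ i, (x i : B) ∈ chain E N := fun i =>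
      chain_mono E (Finset.le_sup (Finset.mem_univ i)) (hn i)
    let x' : Fin l → chain E N := fun i => ⟨(x i : B), hxN i⟩
    have h' : ∑ i, f i • ((x' i : chain E N) : B) = 0 := by
      have := congrArg (Subalgebra.val (⨆ n, chain E n)) h
      simpa [map_sum, map_smul] using this
    obtain ⟨k, a, y, hy1, hy2⟩ := next_triv (chain E N) f x' h'
    refine ⟨k, a, fun j => ⟨(y j : B), (le_iSup (chain E) (N + 1)) (y j).2⟩, ?_, hy2⟩
    intro i
    apply Subtype.ext
    have := hy1 i
    simp only [x'] at this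
    rw [this]
    simp
  · have h1 : #((⨆ n, chain E n : Subalgebra A B) : Set B) ≤ c := by
      rw [hcoe]
      have := Cardinal.mk_iUnion_le_lift (fun n : ℕ => (chain E n : Set B))
      simp only [Cardinal.lift_uzero, Cardinal.mk_nat, Cardinal.lift_aleph0] at this
      refine this.trans ?_
      calc ℵ₀ * ⨆ n : ℕ, #(chain E n : Set B) ≤ ℵ₀ * c := by
            refine mul_le_mul' le_rfl (ciSup_le' fun n => ?_)
            exact card_chain_le E c hc hA hE n
        _ = c := Cardinal.aleph0_mul_eq hc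
    exact h1

end Groth.Agent.S6386
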