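import Groth.Statements.S6387
import Groth.Agent.S0393
import Mathlib


set_option autoImplicit false
universe u
open CategoryTheory
open CAlg

namespace Groth.Agent.S6387

open TensorProduct in
/-- Comparison of `I • ⊤` over `R` and `(I S) • ⊤` over `S`. -/
lemma mem_map_smul_top_iff {R S : Type u} [CommRing R] [CommRing S] [Algebra R S] (I : Ideal R)
    {X : Type u} [AddCommGroup X] [Module S X] [Module R X] [IsScalarTower R S X] (x : X) :
    x ∈ (I.map (algebraMap R S) • (⊤ : Submodule S X)) ↔ x ∈ (I • (⊤ : Submodule R X)) := by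
  constructor
  · intro hx
    refine Submodule.smul_induction_on hx ?_ ?_
    · intro s hs x' _
      have hs' : s ∈ Submodule.span S (⇑(algebraMap R S) '' (I : Set R)) := hs
      have : ∀ x' : X, s • x' ∈ I • (⊤ : Submodule R X) := by
        refine Submodule.span_induction
          (p := fun s _ => ∀ x' : X, s • x' ∈ I • (⊤ : Submodule R X)) ?_ ?_ ?_ ?_ hs'
        · rintro _ ⟨r, hr, rfl⟩ x'
          rw [algebraMap_smul]
          exact Submodule.smul_mem_smul hr Submodule.mem_top
        · intro x'; rw [zero_smul]; exact zero_mem _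
        · intro a b _ _ ha hb x'; rw [add_smul]; exact add_mem (ha x') (hb x')
        · intro t a _ ha x'
          rw [smul_eq_mul, mul_comm, mul_smul]
          exact ha _
      exact this x'
    · intro a b ha hb; exact add_mem ha hb
  · intro hx
    refine Submodule.smul_induction_on hx ?_ ?_
    · intro r hr x' _
      rw [← algebraMap_smul S r x']
      exact Submodule.smul_mem_smul (Ideal.mem_map_of_mem _ hr) Submodule.mem_top
    · intro a b ha hb; exact add_mem ha hb

open TensorProduct in
/-- Elementwise criterion for injectivity modulo the maximal ideal. -/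
lemma lTensor_residue_injective {R : Type u} [CommRing R] [IsLocalRing R] {N M : Type u}
    [AddCommGroup N] [Module R N] [AddCommGroup M] [Module R M] (u : N →ₗ[R] M)
    (H : ∀ n : N, u n ∈ (IsLocalRing.maximalIdeal R • (⊤ : Submodule R M)) →
      n ∈ (IsLocalRing.maximalIdeal R • (⊤ : Submodule R N))) :
    Function.Injective (LinearMap.lTensor (IsLocalRing.ResidueField R) u) := by
  have key : Function.Injective (LinearMap.lTensor (R ⧸ IsLocalRing.maximalIdeal R) u) := by
    rw [injective_iff_map_eq_zero]
    intro z hz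
    obtain ⟨n, rfl⟩ := TensorProduct.mk_surjective R N (R ⧸ IsLocalRing.maximalIdeal R)
      Ideal.Quotient.mk_surjective z
    have h1 : (1 : R ⧸ IsLocalRing.maximalIdeal R) ⊗ₜ[R] u n = 0 := by simpa using hz
    have h2 := congrArg (TensorProduct.quotTensorEquivQuotSMul M (IsLocalRing.maximalIdeal R)) h1
    rw [← map_one (Ideal.Quotient.mk _), TensorProduct.quotTensorEquivQuotSMul_mk_tmul, map_zero,
      one_smul, Submodule.Quotient.mk_eq_zero] at h2
    have h3 := H n h2
    apply (TensorProduct.quotTensorEquivQuotSMul N (IsLocalRing.maximalIdeal R)).injective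
    rw [map_zero]
    show TensorProduct.quotTensorEquivQuotSMul N _ ((1 : R ⧸ _) ⊗ₜ n) = 0
    rw [← map_one (Ideal.Quotient.mk _), TensorProduct.quotTensorEquivQuotSMul_mk_tmul, one_smul,
      Submodule.Quotient.mk_eq_zero]
    exact h3
  exact key

open TensorProduct in
/-- Module-level core: exactness modulo `m` at the middle of `A → B → C` (with `C` flat over `R`)
gives exactness and flatness of the cokernel of `B → C`. -/
theorem key {R S : Type u} [CommRing R] [CommRing S] [Algebra R S]
    [IsLocalRing R] [IsLocalRing S] [IsNoetherianRing S] [IsLocalHom (algebraMap R S)]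
    {A B C : Type u} [AddCommGroup A] [Module S A] [AddCommGroup B] [Module S B] [Module R B]
    [IsScalarTower R S B] [Module.Finite S B]
    [AddCommGroup C] [Module S C] [Module R C] [IsScalarTower R S C] [Module.Flat R C]
    (f : A →ₗ[S] B) (g : B →ₗ[S] C) (hgf : ∀ a, g (f a) = 0)
    (hex : ∀ y : (S ⧸ (IsLocalRing.maximalIdeal R).map (algebraMap R S)) ⊗[S] B,
      (g.lTensor (S ⧸ (IsLocalRing.maximalIdeal R).map (algebraMap R S))) y = 0 →
        ∃ x, (f.lTensor (S ⧸ (IsLocalRing.maximalIdeal R).map (algebraMap R S))) x = y) :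
    (∀ b, g b = 0 → ∃ a, f a = b) ∧ Module.Flat R (C ⧸ LinearMap.range g) := by
  obtain ⟨J, hJ⟩ : ∃ J : Ideal S, J = (IsLocalRing.maximalIdeal R).map (algebraMap R S) := ⟨_, rfl⟩
  rw [← hJ] at hex
  have step1 : ∀ b : B, g b ∈ (J • (⊤ : Submodule S C)) →
      ∃ a : A, b - f a ∈ (J • (⊤ : Submodule S B)) := by
    intro b hb
    have h0 : (g.lTensor (S ⧸ J)) ((1 : S ⧸ J) ⊗ₜ[S] b) = 0 := by
      rw [LinearMap.lTensor_tmul]
      apply (TensorProduct.quotTensorEquivQuotSMul C J).injective
      rw [map_zero, ← map_one (Ideal.Quotient.mk J), TensorProduct.quotTensorEquivQuotSMul_mk_tmul,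
        one_smul, Submodule.Quotient.mk_eq_zero]
      exact hb
    obtain ⟨x, hx⟩ := hex _ h0
    obtain ⟨a, rfl⟩ := TensorProduct.mk_surjective S A (S ⧸ J) Ideal.Quotient.mk_surjective x
    refine ⟨a, ?_⟩
    have h1 : (1 : S ⧸ J) ⊗ₜ[S] (b - f a) = 0 := by
      rw [TensorProduct.tmul_sub, ← hx]; simp
    have h2 := congrArg (TensorProduct.quotTensorEquivQuotSMul B J) h1
    rwa [← map_one (Ideal.Quotient.mk J), TensorProduct.quotTensorEquivQuotSMul_mk_tmul, map_zero,
      one_smul, Submodule.Quotient.mk_eq_zero] at h2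
  have hle : LinearMap.range f ≤ LinearMap.ker g := by
    rintro _ ⟨a, rfl⟩; exact hgf a
  obtain ⟨uS, huS⟩ : ∃ uS : (B ⧸ LinearMap.range f) →ₗ[S] C,
      ∀ b, uS (Submodule.Quotient.mk b) = g b :=
    ⟨(LinearMap.range f).liftQ g hle, fun b => rfl⟩
  obtain ⟨u, hu0⟩ : ∃ u : (B ⧸ LinearMap.range f) →ₗ[R] C, ∀ n, u n = uS n :=
    ⟨uS.restrictScalars R, fun n => rfl⟩
  have hu : Function.Injective (LinearMap.lTensor (IsLocalRing.ResidueField R) u) := by
    apply lTensor_residue_injective
    intro n hn
    obtain ⟨b, rfl⟩ := Submodule.Quotient.mk_surjective _ n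
    rw [hu0, huS, ← mem_map_smul_top_iff (S := S), ← hJ] at hn
    obtain ⟨a, ha⟩ := step1 b hn
    rw [hJ, mem_map_smul_top_iff] at ha
    have h2 : (Submodule.Quotient.mk b : B ⧸ LinearMap.range f) =
        Submodule.Quotient.mk (b - f a) := by
      rw [Submodule.Quotient.eq]; exact ⟨a, by abel⟩
    rw [h2]
    refine Submodule.smul_induction_on ha ?_ ?_
    · intro r hr x' _
      rw [Submodule.Quotient.mk_smul]
      exact Submodule.smul_mem_smul hr Submodule.mem_top
    · intro a b ha hb
      rw [Submodule.Quotient.mk_add]; exact add_mem ha hb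
  obtain ⟨hinj, hfl⟩ := Groth.Agent.S0393.result (S := S) u hu
  refine ⟨fun b hb => ?_, ?_⟩
  · have h1 : u (Submodule.Quotient.mk b) = u 0 := by rw [hu0, huS, hb, map_zero]
    have h2 := hinj h1
    rw [Submodule.Quotient.mk_eq_zero] at h2
    exact h2
  · have hr : LinearMap.range u = (LinearMap.range g).restrictScalars R := by
      ext c
      constructor
      · rintro ⟨n, rfl⟩
        obtain ⟨b, rfl⟩ := Submodule.Quotient.mk_surjective _ n
        exact ⟨b, by rw [hu0, huS]⟩
      · rintro ⟨b, rfl⟩
        exact ⟨Submodule.Quotient.mk b, by rw [hu0, huS]⟩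
    exact Module.Flat.of_linearEquiv
      ((Submodule.Quotient.restrictScalarsEquiv R (LinearMap.range g)).symm.trans
        (Submodule.quotEquivOfEq _ _ hr.symm))


/-- Let R and S be Noetherian local rings, R → S a local ring map, and m the maximal ideal of R. Take a
bounded complex F_e → … → F_1 → F_0 of finitely generated S-modules, zero to the left of F_e (a
chain complex C with C_j = 0 for j > e) such that every F_j is flat over R and the complex 0 →
F_e/mF_e → … → F_0/mF_0 (C tensored over S with S/mS) is exact at F_e, …, F_1. Then 0 → F_e → … →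
F_0 is exact at F_e, …, F_1 and the cokernel of F_1 → F_0 (the homology of C in degree 0) is flat
over R. -/
theorem result {R S : Type u} [CommRing R] [CommRing S]
    [IsLocalRing R] [IsLocalRing S] [IsNoetherianRing R] [IsNoetherianRing S] [Algebra R S]
    [IsLocalHom (algebraMap R S)] (C : ChainComplex (ModuleCat.{u} S) ℕ) (e : ℕ)
    (hzero : ∀ j, e < j → Limits.IsZero (C.X j)) (hfin : ∀ j, Module.Finite S (C.X j))
    (hflat : ∀ j, Module.Flat R ((ModuleCat.restrictScalars (algebraMap R S)).obj (C.X j)))
    (hex : ∀ j, 1 ≤ j → j ≤ e →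
      (((MonoidalCategory.tensorLeft
          (ModuleCat.of S (S ⧸ (IsLocalRing.maximalIdeal R).map (algebraMap R S)))).mapHomologicalComplex
          (ComplexShape.down ℕ)).obj C).ExactAt j) :
    (∀ j, 1 ≤ j → j ≤ e → C.ExactAt j) ∧
      Module.Flat R ((ModuleCat.restrictScalars (algebraMap R S)).obj (C.homology 0)) := by
  let modR : ∀ j, Module R (C.X j) := fun j => Module.compHom (C.X j) (algebraMap R S)
  have tower : ∀ j, IsScalarTower R S (C.X j) :=
    fun j => IsScalarTower.of_algebraMap_smul fun _ _ => rfl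
  have : ∀ j, Module.Finite S (C.X j) := hfin
  have hflat' : ∀ j, Module.Flat R (C.X j) := hflat
  have main : ∀ i : ℕ,
      (∀ b : C.X (i + 1), (C.d (i + 1) i).hom b = 0 → ∃ a : C.X (i + 2), (C.d (i + 2) (i + 1)).hom a = b) ∧
        Module.Flat R (C.X i ⧸ LinearMap.range (C.d (i + 1) i).hom) := by
    intro i
    refine key (C.d (i + 2) (i + 1)).hom (C.d (i + 1) i).hom (fun a => ?_) ?_
    · have := C.d_comp_d (i + 2) (i + 1) i
      exact congrArg (fun φ => ModuleCat.Hom.hom φ a) this
    · intro y hy
      by_cases hi : i + 1 ≤ e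
      · have hE := hex (i + 1) (by omega) hi
        rw [HomologicalComplex.exactAt_iff' _ (i + 2) (i + 1) i (by simp) (by simp),
          ShortComplex.moduleCat_exact_iff] at hE
        exact hE y hy
      · have hsub : Subsingleton (C.X (i + 1)) :=
          ModuleCat.subsingleton_of_isZero (hzero (i + 1) (by omega))
        exact ⟨0, Subsingleton.elim _ _⟩
  refine ⟨?_, ?_⟩
  · intro j hj1 hje
    obtain ⟨i, rfl⟩ : ∃ i, j = i + 1 := ⟨j - 1, by omega⟩
    rw [HomologicalComplex.exactAt_iff' _ (i + 2) (i + 1) i (by simp) (by simp),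
      ShortComplex.moduleCat_exact_iff]
    exact (main i).1
  · have h0 := (main 0).2
    have hc1 := C.opcyclesIsCokernel 1 0 (by simp)
    have hc2 := ModuleCat.cokernelIsColimit (C.d 1 0)
    obtain ⟨e, -⟩ : ∃ e : C.homology 0 ≃ₗ[S] (C.X 0 ⧸ LinearMap.range (C.d 1 0).hom), e = e :=
      ⟨(C.isoHomologyι₀ ≪≫ hc1.coconePointUniqueUpToIso hc2).toLinearEquiv, rfl⟩
    let eR : ((ModuleCat.restrictScalars (algebraMap R S)).obj (C.homology 0)) ≃ₗ[R]
        (C.X 0 ⧸ LinearMap.range (C.d 1 0).hom) :=
      { toFun := fun x => e x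
        invFun := fun y => e.symm y
        left_inv := e.left_inv
        right_inv := e.right_inv
        map_add' := fun x y => map_add e x y
        map_smul' := fun r x => by
          have h1 : e (algebraMap R S r • (show ↑(C.homology 0) from x)) =
              algebraMap R S r • e x := map_smul e _ _
          have h2 : algebraMap R S r • e x = r • e x := algebraMap_smul S r (e x)
          exact h1.trans h2 }
    exact Module.Flat.of_linearEquiv eR

end Groth.Agent.S6387
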