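import Groth.Statements.S6388
import Mathlib.LinearAlgebra.TensorProduct.RightExactness

set_option autoImplicit false
universe u
open CAlg

namespace Groth.Agent.S6388

/-- Let f : M → N and g : M → M' be maps of R-modules and let N' be their pushout, realised as the
quotient of M' × N by the submodule of elements (g x, -f x). Then g dominates f — for every module Q
the kernel of f ⊗ id_Q is contained in the kernel of g ⊗ id_Q — if and only if the canonical map M'
→ N' is universally injective. -/
theorem result (R : Type u) [CommRing R] {M N M' : Type u}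
    [AddCommGroup M] [Module R M] [AddCommGroup N] [Module R N] [AddCommGroup M'] [Module R M']
    (f : M →ₗ[R] N) (g : M →ₗ[R] M') :
    (∀ (Q : Type u) [AddCommGroup Q] [Module R Q], LinearMap.ker (f.rTensor Q) ≤ LinearMap.ker (g.rTensor Q)) ↔
      CAlgX.UniversallyInjective R
        ((LinearMap.range (g.prod (-f))).mkQ ∘ₗ LinearMap.inl R M' N) := by
  classical
  have hex : Function.Exact (g.prod (-f)) (LinearMap.range (g.prod (-f))).mkQ := by
    intro y
    rw [Submodule.mkQ_apply, Submodule.Quotient.mk_eq_zero]
    rfl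
  have hsurj : Function.Surjective (LinearMap.range (g.prod (-f))).mkQ :=
    Submodule.mkQ_surjective _
  have hfst : LinearMap.fst R M' N ∘ₗ g.prod (-f) = g := by
    apply LinearMap.ext; intro m; rfl
  have hsnd : LinearMap.snd R M' N ∘ₗ g.prod (-f) = -f := by
    apply LinearMap.ext; intro m; rfl
  have hfi : LinearMap.fst R M' N ∘ₗ LinearMap.inl R M' N = LinearMap.id := by
    apply LinearMap.ext; intro m; rfl
  have hsi : LinearMap.snd R M' N ∘ₗ LinearMap.inl R M' N = 0 := by
    apply LinearMap.ext; intro m; rfl
  constructor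
  · intro hdom Q _ _
    rw [injective_iff_map_eq_zero]
    intro z hz
    rw [LinearMap.rTensor_comp, LinearMap.comp_apply] at hz
    obtain ⟨w, hw⟩ := (rTensor_exact Q hex hsurj _).1 hz
    have h1 : f.rTensor Q w = 0 := by
      have := congrArg ((LinearMap.snd R M' N).rTensor Q) hw
      rw [← LinearMap.comp_apply, ← LinearMap.rTensor_comp, hsnd, ← LinearMap.comp_apply,
        ← LinearMap.rTensor_comp, hsi, LinearMap.rTensor_zero, LinearMap.zero_apply,
        LinearMap.rTensor_neg, LinearMap.neg_apply, neg_eq_zero] at this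
      exact this
    have h2 : g.rTensor Q w = 0 := LinearMap.mem_ker.1 (hdom Q (LinearMap.mem_ker.2 h1))
    have h3 := congrArg ((LinearMap.fst R M' N).rTensor Q) hw
    rw [← LinearMap.comp_apply, ← LinearMap.rTensor_comp, hfst, ← LinearMap.comp_apply,
      ← LinearMap.rTensor_comp, hfi, LinearMap.rTensor_id, LinearMap.id_apply, h2] at h3
    exact h3.symm
  · intro hinj Q _ _ w hw
    rw [LinearMap.mem_ker] at hw ⊢
    apply hinj Q
    rw [map_zero, ← LinearMap.comp_apply, ← LinearMap.rTensor_comp]
    have e1 : ((LinearMap.range (g.prod (-f))).mkQ ∘ₗ LinearMap.inl R M' N) ∘ₗ g =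
        (LinearMap.range (g.prod (-f))).mkQ ∘ₗ (g.prod (-f)) +
          ((LinearMap.range (g.prod (-f))).mkQ ∘ₗ LinearMap.inr R M' N) ∘ₗ f := by
      apply LinearMap.ext
      intro m
      simp only [LinearMap.comp_apply, LinearMap.add_apply, ← map_add]
      congr 1
      apply Prod.ext <;> simp
    have e2 : (LinearMap.range (g.prod (-f))).mkQ ∘ₗ (g.prod (-f)) = 0 := by
      apply LinearMap.ext
      intro m
      exact (hex _).2 ⟨m, rfl⟩
    rw [e1, e2, zero_add, LinearMap.rTensor_comp, LinearMap.comp_apply, hw, map_zero]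

end Groth.Agent.S6388
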