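import Groth.Statements.S6389
import Mathlib

set_option autoImplicit false
universe u
open CAlg

namespace Groth.Agent.S6389

section
variable {R : Type u} [CommRing R] {M : Type u} [AddCommGroup M] [Module R M]
  {S : Type u} [LinearOrder S] [WellFoundedLT S] (Mf : S → Submodule R M) (hmono : Monotone Mf)
  (hlim : ∀ s : S, Order.IsSuccPrelimit s → Mf s = ⨆ t : {t : S // t < s}, Mf t.1)
  (C : {p : S × S // p.1 ⋖ p.2} → Submodule R M)
  (hC1 : ∀ p, Mf p.1.1 ⊓ C p = ⊥) (hC2 : ∀ p, Mf p.1.1 ⊔ C p = Mf p.1.2)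

include hlim hC2 in
lemma span_le (s : S) : Mf s ≤ ⨆ p, C p := by
  induction s using WellFoundedLT.induction with
  | ind s ih =>
    by_cases h : Order.IsSuccPrelimit s
    · rw [hlim s h]
      apply iSup_le
      rintro ⟨t, ht⟩
      exact ih t ht
    · rw [Order.not_isSuccPrelimit_iff] at h
      obtain ⟨s', hs'⟩ := h
      rw [← hC2 ⟨(s', s), hs'⟩]
      exact sup_le (ih s' hs'.lt) (le_iSup C ⟨(s', s), hs'⟩)

include hC2 in
lemma C_le (p : {p : S × S // p.1 ⋖ p.2}) : C p ≤ Mf p.1.2 := by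
  rw [← hC2 p]; exact le_sup_right

include hmono hC1 hC2 in
lemma indep : iSupIndep C := by
  classical
  apply iSupIndep_of_dfinsupp_lsum_injective
  rw [injective_iff_map_eq_zero]
  intro x hx
  by_contra hne
  have hsupp : x.support.Nonempty := by
    rw [Finset.nonempty_iff_ne_empty, Ne, DFinsupp.support_eq_empty]
    exact hne
  obtain ⟨p₀, hp₀, hmax⟩ := Finset.exists_max_image x.support (fun p => p.1.2) hsupp
  have hsum : ∑ q ∈ x.support, ((x q : C q) : M) = 0 := by
    rw [DFinsupp.lsum_apply_apply, DFinsupp.sumAddHom_apply] at hx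
    exact hx
  rw [← Finset.add_sum_erase _ _ hp₀] at hsum
  have hrest : ∑ q ∈ x.support.erase p₀, ((x q : C q) : M) ∈ Mf p₀.1.1 := by
    apply Submodule.sum_mem
    intro q hq
    rw [Finset.mem_erase] at hq
    have hle : q.1.2 ≤ p₀.1.2 := hmax q hq.2
    have hne2 : q.1.2 ≠ p₀.1.2 := by
      intro h
      apply hq.1
      have h1 : q.1.1 = p₀.1.1 := by
        have hq' := q.2
        have hp' := p₀.2
        rw [h] at hq'
        rcases lt_trichotomy q.1.1 p₀.1.1 with h2 | h2 | h2
        · exact absurd hp'.lt (hq'.2 h2)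
        · exact h2
        · exact absurd hq'.lt (hp'.2 h2)
      exact Subtype.ext (Prod.ext h1 h)
    have hlt : q.1.2 < p₀.1.2 := lt_of_le_of_ne hle hne2
    have hle2 : q.1.2 ≤ p₀.1.1 := by
      by_contra hcon
      exact p₀.2.2 (not_le.mp hcon) hlt
    exact hmono hle2 (C_le Mf C hC2 q (x q).2)
  have hmem : ((x p₀ : C p₀) : M) ∈ Mf p₀.1.1 ⊓ C p₀ := by
    refine ⟨?_, (x p₀).2⟩
    have : ((x p₀ : C p₀) : M) = - ∑ q ∈ x.support.erase p₀, ((x q : C q) : M) :=
      eq_neg_of_add_eq_zero_left hsum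
    rw [this]
    exact neg_mem hrest
  rw [hC1 p₀, Submodule.mem_bot] at hmem
  rw [DFinsupp.mem_support_toFun] at hp₀
  exact hp₀ (Subtype.ext hmem)

include hC1 hC2 in
lemma quot_bij (p : {p : S × S // p.1 ⋖ p.2}) :
    Function.Bijective ((Submodule.mkQ (Submodule.comap (Mf p.1.2).subtype (Mf p.1.1))).comp
      (Submodule.inclusion (C_le Mf C hC2 p))) := by
  constructor
  · rw [← LinearMap.ker_eq_bot, LinearMap.ker_eq_bot']
    intro c hc
    rw [LinearMap.comp_apply, Submodule.mkQ_apply, Submodule.Quotient.mk_eq_zero,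
      Submodule.mem_comap] at hc
    have hmem : (c : M) ∈ Mf p.1.1 ⊓ C p := ⟨hc, c.2⟩
    rw [hC1 p, Submodule.mem_bot] at hmem
    exact Subtype.ext hmem
  · intro y
    obtain ⟨⟨m, hm⟩, rfl⟩ := Submodule.mkQ_surjective _ y
    have hm' := hm
    rw [← hC2 p, Submodule.mem_sup] at hm'
    obtain ⟨a, ha, c, hc, hac⟩ := hm'
    refine ⟨⟨c, hc⟩, ?_⟩
    rw [LinearMap.comp_apply, Submodule.mkQ_apply, Submodule.mkQ_apply, Submodule.Quotient.eq,
      Submodule.mem_comap]
    have : ((Mf p.1.2).subtype (Submodule.inclusion (C_le Mf C hC2 p) ⟨c, hc⟩ - ⟨m, hm⟩)) = -a := by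
      simp [← hac]
    rw [this]
    exact neg_mem ha

end

/-- Let (M_s)_{s ∈ S} be a direct sum dévissage of an R-module M: an increasing family of submodules
indexed by a well-ordered set S with M_s = ⋃_{t<s} M_t at every index s that is not a successor (in
particular the first term is 0), ⋃_s M_s = M, and M_s a direct summand of M_t whenever t is the
successor of s. Then M is isomorphic to the direct sum, over the successor steps s ⋖ t, of the
quotients M_t/M_s (existence of an isomorphism; the map in the source depends on chosen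
complements). -/
theorem result (R : Type u) [CommRing R] (M : Type u)
    [AddCommGroup M] [Module R M] (S : Type u) [LinearOrder S] [WellFoundedLT S] (Mf : S → Submodule R M)
    (hmono : Monotone Mf) :
    (∀ s : S, Order.IsSuccPrelimit s → Mf s = ⨆ t : {t : S // t < s}, Mf t.1) →
      (⨆ s, Mf s) = ⊤ →
      (∀ s t : S, s ⋖ t → ∃ C : Submodule R M, Mf s ⊓ C = ⊥ ∧ Mf s ⊔ C = Mf t) →
      Nonempty (M ≃ₗ[R] DirectSum {p : S × S // p.1 ⋖ p.2}
        fun p => ↥(Mf p.1.2) ⧸ Submodule.comap (Mf p.1.2).subtype (Mf p.1.1)) := by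
  classical
  intro hlim htop hcompl
  choose C hC1 hC2 using (fun p : {p : S × S // p.1 ⋖ p.2} => hcompl p.1.1 p.1.2 p.2)
  have hCtop : (⨆ p, C p) = ⊤ := by
    rw [eq_top_iff, ← htop]
    exact iSup_le (fun s => span_le Mf hlim C hC2 s)
  have hint : DirectSum.IsInternal C :=
    DirectSum.isInternal_submodule_of_iSupIndep_of_iSup_eq_top (indep Mf hmono C hC1 hC2) hCtop
  let e1 : (DirectSum _ fun p => C p) ≃ₗ[R] M := LinearEquiv.ofBijective (DirectSum.coeLinearMap C) hint
  let e2 : (DirectSum _ fun p => C p) ≃ₗ[R] DirectSum {p : S × S // p.1 ⋖ p.2}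
        fun p => ↥(Mf p.1.2) ⧸ Submodule.comap (Mf p.1.2).subtype (Mf p.1.1) :=
    DFinsupp.mapRange.linearEquiv (fun p => LinearEquiv.ofBijective _ (quot_bij Mf C hC1 hC2 p))
  exact ⟨e1.symm.trans e2⟩

end Groth.Agent.S6389
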