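import Groth.Statements.S6390
import Groth.Agent.S6389
import Mathlib

set_option autoImplicit false
universe u
open scoped Classical
open CAlg

namespace Groth.Agent.S6390

open CAlg

section
variable {R : Type u} [CommRing R]

lemma cg_of_surjective {A B : Type u} [AddCommGroup A] [Module R A] [AddCommGroup B] [Module R B]
    (f : A →ₗ[R] B) (hf : Function.Surjective f) (hA : IsCountablyGenerated R A) :
    IsCountablyGenerated R B := by
  obtain ⟨s, hs, hspan⟩ := hA
  refine ⟨f '' s, hs.image f, ?_⟩
  rw [← Submodule.map_span, hspan, Submodule.map_top, LinearMap.range_eq_top]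
  exact hf

variable {M : Type u} [AddCommGroup M] [Module R M]

lemma quot_bij (A C B : Submodule R M) (h1 : A ⊓ C = ⊥) (h2 : A ⊔ C = B) :
    Function.Bijective ((Submodule.mkQ (Submodule.comap B.subtype A)).comp
      (Submodule.inclusion (show C ≤ B from h2 ▸ le_sup_right))) := by
  have hCB : C ≤ B := h2 ▸ le_sup_right
  constructor
  · rw [← LinearMap.ker_eq_bot, LinearMap.ker_eq_bot']
    intro c hc
    rw [LinearMap.comp_apply, Submodule.mkQ_apply, Submodule.Quotient.mk_eq_zero,
      Submodule.mem_comap] at hc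
    have hmem : (c : M) ∈ A ⊓ C := ⟨hc, c.2⟩
    rw [h1, Submodule.mem_bot] at hmem
    exact Subtype.ext hmem
  · intro y
    obtain ⟨⟨m, hm⟩, rfl⟩ := Submodule.mkQ_surjective _ y
    have hm' := hm
    rw [← h2, Submodule.mem_sup] at hm'
    obtain ⟨a, ha, c, hc, hac⟩ := hm'
    refine ⟨⟨c, hc⟩, ?_⟩
    rw [LinearMap.comp_apply, Submodule.mkQ_apply, Submodule.mkQ_apply, Submodule.Quotient.eq,
      Submodule.mem_comap]
    have : (B.subtype (Submodule.inclusion hCB ⟨c, hc⟩ - ⟨m, hm⟩)) = -a := by
      simp [← hac]
    rw [this]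
    exact neg_mem ha

end

/-- An R-module M is a direct sum of countably generated modules if and only if it admits a Kaplansky
dévissage, i.e. an increasing family of submodules (M_s) indexed by a well-ordered set S with M_s =
⋃_{t<s} M_t at non-successor indices (so the first term is 0), ⋃_s M_s = M, and, whenever t is the
successor of s, M_s a direct summand of M_t with M_t/M_s countably generated. -/
theorem result (R : Type u) [CommRing R] (M : Type u)
    [AddCommGroup M] [Module R M] :
    (∃ (ι : Type u) (N : ι → Submodule R M), DirectSum.IsInternal N ∧ ∀ i, CAlg.IsCountablyGenerated R (N i)) ↔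
      ∃ (S : Type u) (_ : LinearOrder S) (_ : WellFoundedLT S) (Mf : S → Submodule R M), Monotone Mf ∧
        (∀ s : S, Order.IsSuccPrelimit s → Mf s = ⨆ t : {t : S // t < s}, Mf t.1) ∧
        (⨆ s, Mf s) = ⊤ ∧
        (∀ s t : S, s ⋖ t → ∃ C : Submodule R M, Mf s ⊓ C = ⊥ ∧ Mf s ⊔ C = Mf t ∧
          CAlg.IsCountablyGenerated R (↥(Mf t) ⧸ Submodule.comap (Mf t).subtype (Mf s))) := by
  classical
  constructor
  · rintro ⟨ι, N, hint, hcg⟩
    have hindep : iSupIndep N := hint.submodule_iSupIndep
    have htopN : iSup N = ⊤ := hint.submodule_iSup_eq_top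
    obtain ⟨lo, wf⟩ := exists_wellFoundedLT ι
    let Mf : WithTop ι → Submodule R M := fun s => ⨆ (i : ι) (_ : (i : WithTop ι) < s), N i
    have hmono : Monotone Mf := by
      intro s t hst
      apply iSup₂_le
      intro i hi
      exact le_iSup₂_of_le i (lt_of_lt_of_le hi hst) le_rfl
    refine ⟨WithTop ι, inferInstance, inferInstance, Mf, hmono, ?_, ?_, ?_⟩
    · intro s hs
      apply le_antisymm
      · apply iSup₂_le
        intro i hi
        have hncov : ¬ ((i : WithTop ι) ⋖ s) := hs _
        rw [not_covBy_iff hi] at hncov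
        obtain ⟨t, hit, hts⟩ := hncov
        exact le_trans (le_iSup₂_of_le i hit le_rfl) (le_iSup (fun t : {t : WithTop ι // t < s} => Mf t.1) ⟨t, hts⟩)
      · apply iSup_le
        rintro ⟨t, ht⟩
        exact hmono ht.le
    · rw [eq_top_iff, ← htopN]
      apply iSup_le
      intro i
      exact le_trans (le_iSup₂_of_le i (WithTop.coe_lt_top i) le_rfl) (le_iSup Mf ⊤)
    · intro s t hst
      have hsne : s ≠ ⊤ := ne_top_of_lt hst.lt
      obtain ⟨i, rfl⟩ := WithTop.ne_top_iff_exists.mp hsne
      have h1 : Mf (i : WithTop ι) ⊓ N i = ⊥ := by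
        have hle : Mf (i : WithTop ι) ≤ ⨆ (j : ι) (_ : j ≠ i), N j := by
          apply iSup₂_le
          intro j hj
          exact le_iSup₂_of_le j (ne_of_lt (WithTop.coe_lt_coe.mp hj)) le_rfl
        have hd := hindep i
        rw [disjoint_iff] at hd
        rw [eq_bot_iff, ← hd, inf_comm]
        exact inf_le_inf_left _ hle
      have h2 : Mf (i : WithTop ι) ⊔ N i = Mf t := by
        apply le_antisymm
        · exact sup_le (hmono hst.le) (le_iSup₂_of_le i hst.lt le_rfl)
        · apply iSup₂_le
          intro j hj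
          have hji : (j : WithTop ι) ≤ i := by
            by_contra hcon
            exact hst.2 (not_le.mp hcon) hj
          rcases lt_or_eq_of_le hji with h | h
          · exact le_trans (le_iSup₂_of_le j h le_rfl) le_sup_left
          · have : j = i := WithTop.coe_injective h
            rw [this]; exact le_sup_right
      refine ⟨N i, h1, h2, ?_⟩
      exact cg_of_surjective _ (quot_bij _ _ _ h1 h2).2 (hcg i)
  · rintro ⟨S, lo, wf, Mf, hmono, hlim, htop, hcompl⟩
    choose C hC1 hC2 hC3 using (fun p : {p : S × S // p.1 ⋖ p.2} => hcompl p.1.1 p.1.2 p.2)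
    have hCtop : (⨆ p, C p) = ⊤ := by
      rw [eq_top_iff, ← htop]
      exact iSup_le (fun s => Groth.Agent.S6389.span_le Mf hlim C hC2 s)
    refine ⟨{p : S × S // p.1 ⋖ p.2}, C, ?_, fun p => ?_⟩
    · exact DirectSum.isInternal_submodule_of_iSupIndep_of_iSup_eq_top
        (dec_ι := fun a b => Classical.propDecidable (a = b))
        (Groth.Agent.S6389.indep Mf hmono C hC1 hC2) hCtop
    let e := LinearEquiv.ofBijective _ (quot_bij _ _ _ (hC1 p) (hC2 p))
    exact cg_of_surjective e.symm.toLinearMap e.symm.surjective (hC3 p)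

end Groth.Agent.S6390
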