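import Groth.Statements.S6391
import Groth.Agent.Lib.Helper4.HenselCoreflection

set_option autoImplicit false
universe u
open CAlg

namespace Groth.Agent.S6391

open Groth.Agent.Lib.Helper4

/-- Let R be a ring, S and S' henselian local rings which are filtered colimits of étale R-algebras, and
K a field together with R-algebra maps S → K and S' → K identifying K with the residue field of each
(surjective with kernel the maximal ideal). Then exactly one isomorphism of R-algebras S → S'
commutes with the two maps to K. -/
theorem result (R S S' K : Type u) [CommRing R]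
    [CommRing S] [CommRing S'] [Field K] [HenselianLocalRing S] [HenselianLocalRing S']
    [Algebra R S] [Algebra R S'] [Algebra R K] (hS : EtPBC.IsIndEtale R S) (hS' : EtPBC.IsIndEtale R S')
    (u : S →ₐ[R] K) (u' : S' →ₐ[R] K) (hu : Function.Surjective u) (hu' : Function.Surjective u')
    (hku : RingHom.ker u.toRingHom = IsLocalRing.maximalIdeal S)
    (hku' : RingHom.ker u'.toRingHom = IsLocalRing.maximalIdeal S') :
    ∃! e : S ≃ₐ[R] S', u'.comp (e : S →ₐ[R] S') = u := by
  have hSf := (isIndEtale_iff_hasFactorization S).mp hS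
  have hSf' := (isIndEtale_iff_hasFactorization S').mp hS'
  obtain ⟨ε, hε⟩ := exists_algEquiv_Et u hu hku hSf
  obtain ⟨ε', hε'⟩ := exists_algEquiv_Et u' hu' hku' hSf'
  refine ⟨ε.trans ε'.symm, ?_, ?_⟩
  · ext s
    change u' (ε'.symm (ε s)) = u s
    have h1 : etπ R K (ε' (ε'.symm (ε s))) = u' (ε'.symm (ε s)) :=
      congrArg (fun m => m (ε'.symm (ε s))) hε'
    have h2 : etπ R K (ε s) = u s := congrArg (fun m => m s) hε
    rw [← h1, AlgEquiv.apply_symm_apply, h2]
  · intro e he
    have h3 : (e : S →ₐ[R] S') = ((ε.trans ε'.symm : S ≃ₐ[R] S') : S →ₐ[R] S') := by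
      apply hom_henselian_ext u' hku' S hSf
      rw [he]
      ext s
      change u s = u' (ε'.symm (ε s))
      have h1 : etπ R K (ε' (ε'.symm (ε s))) = u' (ε'.symm (ε s)) :=
        congrArg (fun m => m (ε'.symm (ε s))) hε'
      have h2 : etπ R K (ε s) = u s := congrArg (fun m => m s) hε
      rw [← h1, AlgEquiv.apply_symm_apply, h2]
    ext s
    exact congrArg (fun m => m s) h3

end Groth.Agent.S6391
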