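import Groth.Statements.S6392
import Groth.Agent.Lib.Helper54.MLCount

set_option autoImplicit false
universe u
open CAlg

namespace Groth.Agent.S6392

/-- Suppose M is the colimit of finitely presented R-modules G_i along a directed system over a nonempty
directed index set (transition maps f_ij), and M is both Mittag-Leffler and countably generated.
Then some countable directed subset I' of the indices already computes M: the canonical map from the
colimit of the G_i with i ∈ I' to M is bijective. -/
theorem result (R : Type u) [CommRing R]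
    {ι : Type u} [Preorder ι] [IsDirected ι (· ≤ ·)] [Nonempty ι] [DecidableEq ι] (G : ι → Type u)
    [∀ i, AddCommGroup (G i)] [∀ i, Module R (G i)] [∀ i, Module.FinitePresentation R (G i)]
    (f : ∀ i j, i ≤ j → G i →ₗ[R] G j) [DirectedSystem G fun i j h => f i j h]
    (hML : CAlg.IsMittagLeffler R (Module.DirectLimit G f))
    (hc : CAlg.IsCountablyGenerated R (Module.DirectLimit G f)) :
    ∃ I' : Set ι, I'.Countable ∧ DirectedOn (· ≤ ·) I' ∧
      Function.Bijective (Module.DirectLimit.lift R I' (fun i : I' => G i.1)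
        (fun (i j : I') (h : i ≤ j) => f i.1 j.1 h)
        (fun i : I' => Module.DirectLimit.of R ι G f i.1)
        (fun (i j : I') (h : i ≤ j) (x : G i.1) => Module.DirectLimit.of_f)) := by
  classical
  obtain ⟨x, hx⟩ := Groth.Agent.Lib.Helper54.exists_seq_span_eq_top hc
  have hfac := (Groth.Agent.Lib.Helper54.isMittagLeffler_directLimit_iff G f).1 hML
  choose jf hjf hjfac using hfac
  have hxa : ∀ n, ∃ a : ι, ∃ y : G a, Module.DirectLimit.of R ι G f a y = x n :=
    fun n => Module.DirectLimit.exists_of (x n)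
  choose a y hy using hxa
  have hub : ∀ i j : ι, ∃ k, i ≤ k ∧ j ≤ k := fun i j => exists_ge_ge i j
  choose ub hub1 hub2 using hub
  let seq : ℕ → ι := fun n => Nat.rec (a 0) (fun k ik => ub (jf ik) (a (k + 1))) n
  have hseq : ∀ n, seq (n + 1) = ub (jf (seq n)) (a (n + 1)) := fun n => rfl
  have hstep : ∀ n, jf (seq n) ≤ seq (n + 1) := fun n => hub1 _ _
  have hmono : Monotone seq := monotone_nat_of_le_succ fun n => (hjf (seq n)).trans (hstep n)
  have ha : ∀ n, a n ≤ seq n := by
    intro n
    cases n with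
    | zero => exact le_rfl
    | succ n => exact hub2 _ _
  refine ⟨Set.range seq, Set.countable_range seq, ?_, ?_⟩
  · rw [directedOn_range]
    exact hmono.directed_le
  have hdir : DirectedOn (· ≤ ·) (Set.range seq) := by
    rw [directedOn_range]
    exact hmono.directed_le
  haveI : IsDirected ↥(Set.range seq) (· ≤ ·) := hdir.isDirectedOrder
  haveI : Nonempty ↥(Set.range seq) := ⟨⟨seq 0, ⟨0, rfl⟩⟩⟩
  haveI : DirectedSystem (fun i : ↥(Set.range seq) => G i.1)
      (fun (i j : ↥(Set.range seq)) (h : i ≤ j) => f i.1 j.1 h) :=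
    ⟨fun i x => DirectedSystem.map_self' (f := f) x,
      fun k j i hij hjk x => DirectedSystem.map_map' (f := f) hij hjk x⟩
  constructor
  · -- injectivity
    rw [injective_iff_map_eq_zero]
    intro z hz
    obtain ⟨⟨i, hi⟩, w, rfl⟩ := Module.DirectLimit.exists_of z
    obtain ⟨n, rfl⟩ := hi
    rw [Module.DirectLimit.lift_of] at hz
    obtain ⟨k, hk, hkw⟩ := Module.DirectLimit.of.zero_exact hz
    obtain ⟨h, hh⟩ := hjfac (seq n) k hk
    have h1 : f (seq n) (jf (seq n)) (hjf (seq n)) w = 0 := by
      rw [hh, LinearMap.comp_apply, hkw, map_zero]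
    have h2 : f (seq n) (seq (n + 1)) ((hjf (seq n)).trans (hstep n)) w = 0 := by
      rw [← DirectedSystem.map_map' (f := f) (hjf (seq n)) (hstep n) w, h1, map_zero]
    have h3 := Module.DirectLimit.of_f (R := R) (ι := ↥(Set.range seq))
      (G := fun i : ↥(Set.range seq) => G i.1)
      (f := fun (i j : ↥(Set.range seq)) (h : i ≤ j) => f i.1 j.1 h)
      (i := ⟨seq n, ⟨n, rfl⟩⟩) (j := ⟨seq (n + 1), ⟨n + 1, rfl⟩⟩)
      (hij := (hjf (seq n)).trans (hstep n)) (x := w)
    rw [← h3]
    exact (congrArg (Module.DirectLimit.of R ↥(Set.range seq)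
      (fun i : ↥(Set.range seq) => G i.1)
      (fun (i j : ↥(Set.range seq)) (h : i ≤ j) => f i.1 j.1 h)
      ⟨seq (n + 1), ⟨n + 1, rfl⟩⟩) h2).trans (map_zero _)
  · -- surjectivity
    rw [← LinearMap.range_eq_top, eq_top_iff, ← hx, Submodule.span_le]
    rintro _ ⟨n, rfl⟩
    refine ⟨Module.DirectLimit.of R _ _ _ ⟨seq n, ⟨n, rfl⟩⟩ (f (a n) (seq n) (ha n) (y n)), ?_⟩
    rw [Module.DirectLimit.lift_of]
    show Module.DirectLimit.of R ι G f (seq n) (f (a n) (seq n) (ha n) (y n)) = x n
    rw [Module.DirectLimit.of_f, hy]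

end Groth.Agent.S6392
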