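import Groth.Statements.S6405
import Groth.Agent.Lib.Helper80.FibCat2
-- import your own Groth.Agent.* helpers here

set_option autoImplicit false
open CategoryTheory
universe v u
open FibCat

namespace Groth.Agent.S6405

/-- (2) ⇒ (1): if `𝒳` is fibred in groupoids over `C` and the canonical functor `I_𝒳 ⟶ 𝒳` from its
inertia is an equivalence over `C`, then `𝒳` is fibred in setoids. (The published statement is an
equivalence; this row states only that the inertia condition implies that `𝒳` is fibred in setoids.) -/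
theorem result {C : Type u} [Category.{v} C] {𝒳 : BasedCategory.{v, max u v} C} (h𝒳 : FibCat.IsFibGrpd 𝒳.p)
    (h : FibCat.IsEquivOver (FibCat.inertiaToBase (FibCat.toSelf 𝒳))) : FibCat.IsFibSetoid 𝒳.p := by
  refine ⟨h𝒳, fun U x y => ⟨fun φ₁ φ₂ => ?_⟩⟩
  have hfull : (FibCat.inertiaToBase (FibCat.toSelf 𝒳)).toFunctor.Full :=
    (Groth.Agent.Lib.Helper80.IsEquivOver.isFFEssSurjOver h).full
  have hg := Groth.Agent.Lib.Helper80.IsFibGrpd.isGroupoid_fiber 𝒳.p h𝒳 U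
  have := hg.all_isIso φ₂
  -- the automorphism `φ₁ ≫ φ₂⁻¹` of `x`
  let α : x ≅ x := ⟨φ₁ ≫ inv φ₂, φ₂ ≫ (hg.all_isIso φ₁).out.choose, by
    have := (hg.all_isIso φ₁).out.choose_spec
    rw [Category.assoc, IsIso.inv_hom_id_assoc]; exact this.1, by
    have := (hg.all_isIso φ₁).out.choose_spec
    rw [Category.assoc, ← Category.assoc _ φ₁, this.2, Category.id_comp, IsIso.hom_inv_id]⟩
  let α' : x.1 ≅ x.1 := Functor.Fiber.fiberInclusion.mapIso α
  have hα' : 𝒳.p.IsHomLift (𝟙 U) α'.hom := α.hom.2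
  have hmap : (FibCat.toSelf 𝒳).map α'.hom = 𝟙 _ := by
    change 𝒳.p.map α'.hom = 𝟙 _
    rw [IsHomLift.fac' 𝒳.p (𝟙 U) α'.hom]
    simp
  let X : (FibCat.inertia (FibCat.toSelf 𝒳)).obj := ⟨x.1, α', hmap⟩
  let X₀ : (FibCat.inertia (FibCat.toSelf 𝒳)).obj :=
    ⟨x.1, Iso.refl x.1, (FibCat.toSelf 𝒳).map_id x.1⟩
  obtain ⟨m, hm⟩ := (FibCat.inertiaToBase (FibCat.toSelf 𝒳)).toFunctor.map_surjective
    (X := X) (Y := X₀) (𝟙 x.1)
  have hm' : m.hom = 𝟙 x.1 := hm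
  have hcomm := m.comm
  rw [hm'] at hcomm
  have hα1 : α'.hom = 𝟙 x.1 := by
    change α'.hom ≫ 𝟙 x.1 = 𝟙 x.1 ≫ 𝟙 x.1 at hcomm
    simpa using hcomm
  have hα2 : α.hom = 𝟙 x := Functor.Fiber.hom_ext hα1
  have : φ₁ ≫ inv φ₂ = 𝟙 x := hα2
  calc φ₁ = (φ₁ ≫ inv φ₂) ≫ φ₂ := by simp
    _ = φ₂ := by rw [this, Category.id_comp]

end Groth.Agent.S6405
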