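import Groth.Statements.S6407
import Groth.Agent.Lib.Helper80.FibCat2
-- import your own Groth.Agent.* helpers here

set_option autoImplicit false
open CategoryTheory
universe v u
open FibCat

namespace Groth.Agent.S6407

set_option backward.isDefEq.respectTransparency false in
/-- In a category fibred in setoids, a morphism is determined by its source, its target and
the morphism of the base it lies over. -/
theorem hom_ext_of_isFibSetoid {C : Type u} [Category.{v} C] {𝒴 : BasedCategory.{v, max u v} C}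
    (h𝒴 : FibCat.IsFibSetoid 𝒴.p) {R S : C} (u : R ⟶ S) {a b : 𝒴.obj} (m₁ m₂ : a ⟶ b)
    [𝒴.p.IsHomLift u m₁] [𝒴.p.IsHomLift u m₂] : m₁ = m₂ := by
  have := Groth.Agent.Lib.Helper80.IsFibGrpd.isStronglyCartesian' 𝒴.p h𝒴.1 u m₂
  let χ := Functor.IsCartesian.map 𝒴.p u m₂ m₁
  have hχ : χ ≫ m₂ = m₁ := Functor.IsCartesian.fac 𝒴.p u m₂ m₁
  let x : 𝒴.p.Fiber R := Functor.Fiber.mk (IsHomLift.domain_eq 𝒴.p u m₁)
  let χ' : x ⟶ x := ⟨χ, inferInstance⟩
  let i' : x ⟶ x := 𝟙 x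
  have h1 : χ' = i' := ((h𝒴.2 R) x x).elim _ _
  have h2 : χ = 𝟙 a := congrArg Subtype.val h1
  rw [← hχ, h2, Category.id_comp]

/-- For categories `𝒳, 𝒴` fibred in setoids over `C` and functors `f, g : 𝒳 ⟶ 𝒴` over `C` that agree on
isomorphism classes of objects of each fibre category, there is a unique 2-isomorphism `f ≅ g` over
`C`. -/
theorem result {C : Type u} [Category.{v} C] {𝒳 𝒴 : BasedCategory.{v, max u v} C} (h𝒳 : FibCat.IsFibSetoid 𝒳.p) (h𝒴 : FibCat.IsFibSetoid 𝒴.p) (f g : 𝒳 ⥤ᵇ 𝒴)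
    (hfg : ∀ (U : C) (x : 𝒳.p.Fiber U), Nonempty ((FibCat.fiberFunctor f U).obj x ≅ (FibCat.fiberFunctor g U).obj x)) :
    Nonempty (Unique (f ≅ g)) := by
  classical
  -- choose componentwise isomorphisms lying over identities
  have hex : ∀ a : 𝒳.obj, ∃ e : f.obj a ≅ g.obj a, 𝒴.p.IsHomLift (𝟙 (𝒳.p.obj a)) e.hom := by
    intro a
    obtain ⟨e⟩ := hfg (𝒳.p.obj a) (Functor.Fiber.mk (p := 𝒳.p) (a := a) rfl)
    exact ⟨Functor.Fiber.fiberInclusion.mapIso e, e.hom.2⟩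
  choose e he using hex
  have hnat : ∀ {a b : 𝒳.obj} (φ : a ⟶ b), f.map φ ≫ (e b).hom = (e a).hom ≫ g.map φ := by
    intro a b φ
    have := he a
    have := he b
    have h1 : 𝒴.p.IsHomLift (𝒳.p.map φ) (f.map φ ≫ (e b).hom) := by
      have : 𝒴.p.IsHomLift (𝒳.p.map φ ≫ 𝟙 (𝒳.p.obj b)) (f.map φ ≫ (e b).hom) := inferInstance
      simpa using this
    have h2 : 𝒴.p.IsHomLift (𝒳.p.map φ) ((e a).hom ≫ g.map φ) := by
      have : 𝒴.p.IsHomLift (𝟙 (𝒳.p.obj a) ≫ 𝒳.p.map φ) ((e a).hom ≫ g.map φ) := inferInstance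
      simpa using this
    exact hom_ext_of_isFibSetoid h𝒴 (𝒳.p.map φ) _ _
  let E : f ≅ g := BasedNatIso.mkNatIso (NatIso.ofComponents e (fun φ => hnat φ)) (fun a => he a)
  refine ⟨⟨⟨E⟩, fun β => ?_⟩⟩
  apply Iso.ext
  apply BasedNatTrans.ext
  ext a
  have h1 : 𝒴.p.IsHomLift (𝟙 (𝒳.p.obj a)) (β.hom.toNatTrans.app a) := β.hom.isHomLift' a
  have h2 : 𝒴.p.IsHomLift (𝟙 (𝒳.p.obj a)) (E.hom.toNatTrans.app a) := E.hom.isHomLift' a
  exact hom_ext_of_isFibSetoid h𝒴 (𝟙 (𝒳.p.obj a)) _ _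

end Groth.Agent.S6407
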