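import Groth.Statements.S6408
import Groth.Agent.Lib.Helper80.FibCat2
-- import your own Groth.Agent.* helpers here

set_option autoImplicit false
open CategoryTheory
universe v u
open FibCat

namespace Groth.Agent.S6408

/-- Between categories fibred in sets over `C` the only 2-morphisms over `C` are identities. -/
theorem result {C : Type u} [Category.{v} C] {𝒳 𝒴 : BasedCategory.{v, max u v} C} (h𝒳 : FibCat.IsFibSet 𝒳.p) (h𝒴 : FibCat.IsFibSet 𝒴.p) {F G : 𝒳 ⥤ᵇ 𝒴} (α : F ⟶ G) :
    ∃ h : F = G, α = eqToHom h := by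
  -- each component is a morphism of a discrete fibre, hence an `eqToHom`
  have hobj : ∀ a : 𝒳.obj, F.obj a = G.obj a := by
    intro a
    have := h𝒴.2 (𝒳.p.obj a)
    let x : 𝒴.p.Fiber (𝒳.p.obj a) := Functor.Fiber.mk (F.w_obj a)
    let y : 𝒴.p.Fiber (𝒳.p.obj a) := Functor.Fiber.mk (G.w_obj a)
    let m : x ⟶ y := ⟨α.toNatTrans.app a, α.isHomLift' a⟩
    exact congrArg Subtype.val ((h𝒴.2 (𝒳.p.obj a)).eq_of_hom m)
  have happ : ∀ a : 𝒳.obj, α.toNatTrans.app a = eqToHom (hobj a) := by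
    intro a
    have := h𝒴.2 (𝒳.p.obj a)
    let x : 𝒴.p.Fiber (𝒳.p.obj a) := Functor.Fiber.mk (F.w_obj a)
    let y : 𝒴.p.Fiber (𝒳.p.obj a) := Functor.Fiber.mk (G.w_obj a)
    let m : x ⟶ y := ⟨α.toNatTrans.app a, α.isHomLift' a⟩
    have hxy : x = y := (h𝒴.2 (𝒳.p.obj a)).eq_of_hom m
    have hm : m = eqToHom hxy := ((h𝒴.2 (𝒳.p.obj a)).subsingleton x y).elim _ _
    have : Functor.Fiber.fiberInclusion.map m = Functor.Fiber.fiberInclusion.map (eqToHom hxy) := by
      rw [hm]
    rw [eqToHom_map] at this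
    exact this
  have hFG : F.toFunctor = G.toFunctor := by
    refine Functor.ext hobj ?_
    intro a b φ
    have := α.toNatTrans.naturality φ
    rw [happ a, happ b] at this
    rw [← Category.assoc, ← this]
    simp
  have h : F = G := by
    cases F; cases G
    simp only at hFG
    subst hFG
    rfl
  refine ⟨h, ?_⟩
  subst h
  apply BasedNatTrans.ext
  ext a
  rw [happ a]
  simp

end Groth.Agent.S6408
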