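import Groth.Statements.S6412
import Groth.Agent.Lib.Helper80.FibCat19

set_option backward.isDefEq.respectTransparency false

set_option autoImplicit false
open CategoryTheory CategoryTheory.Limits
universe v u
open FibCat

namespace Groth.Agent.S6412


open Groth.Agent.Lib.Helper80 in
theorem forward {C : Type u} [Category.{v} C] [HasBinaryProducts C]
    {𝒮 : BasedCategory.{v, max u v} C}
    (hΔ : FibCat.IsRepresentable1 (FibCat.diag (FibCat.toSelf 𝒮)))
    (U : C) (G : FibCat.overCat U ⥤ᵇ 𝒮) : FibCat.IsRepresentable1 G := by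
  intro V G'
  let a := overMap (prod.fst : V ⨯ U ⟶ V)
  let b := overMap (prod.snd : V ⨯ U ⟶ U)
  let ε' : BasedFunctor.comp (BasedFunctor.comp a G') (FibCat.toSelf 𝒮) ≅
    BasedFunctor.comp (BasedFunctor.comp b G) (FibCat.toSelf 𝒮) := selfOverIso _ _
  have h1 := magic_isEquivOver G' G a b ε' (selfOverIso _ _) (overProd_isFFEssSurjOver V U _)
  exact (isRepresentable_iff_of_isEquivOver _ h1).mp (hΔ (V ⨯ U) (pairToSq G' G a b ε'))

open Groth.Agent.Lib.Helper80 in
theorem backward {C : Type u} [Category.{v} C] [HasBinaryProducts C] [HasPullbacks C]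
    {𝒮 : BasedCategory.{v, max u v} C}
    (hall : ∀ (U : C) (G : FibCat.overCat U ⥤ᵇ 𝒮), FibCat.IsRepresentable1 G) :
    FibCat.IsRepresentable1 (FibCat.diag (FibCat.toSelf 𝒮)) := by
  intro T H
  let pr₁ := FibCat.fpFst (FibCat.toSelf 𝒮) (FibCat.toSelf 𝒮)
  let pr₂ := FibCat.fpSnd (FibCat.toSelf 𝒮) (FibCat.toSelf 𝒮)
  let H₁ := BasedFunctor.comp H pr₁
  let H₂ := BasedFunctor.comp H pr₂
  let a := overMap (prod.fst : T ⨯ T ⟶ T)
  let b := overMap (prod.snd : T ⨯ T ⟶ T)
  let ε' : BasedFunctor.comp (BasedFunctor.comp a H₁) (FibCat.toSelf 𝒮) ≅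
    BasedFunctor.comp (BasedFunctor.comp b H₂) (FibCat.toSelf 𝒮) := selfOverIso _ _
  let H₁₂ := pairToSq H₁ H₂ a b ε'
  let Δ := FibCat.diag (FibCat.toSelf 𝒮)
  have hmagic := magic_isEquivOver H₁ H₂ a b ε' (selfOverIso _ _) (overProd_isFFEssSurjOver T T _)
  -- `fp H₁₂ Δ` is representable
  have hrep : FibCat.IsRepresentable (FibCat.fp H₁₂ Δ) :=
    (isRepresentable_iff_of_isEquivOver _ hmagic).mpr (hall T H₂ T H₁)
  obtain ⟨W, K, hK⟩ := hrep
  obtain ⟨K', hK', -, -⟩ := IsEquivOver.symm hK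
  -- the diagonal of `T`
  let d : T ⟶ T ⨯ T := prod.lift (𝟙 T) (𝟙 T)
  -- `H ≅ overMap d ⋙ H₁₂`
  let i₁ : BasedFunctor.comp H pr₁ ≅ BasedFunctor.comp (BasedFunctor.comp (overMap d) H₁₂) pr₁ :=
    whiskerRightIso (overMapRetractIso d prod.fst (prod.lift_fst _ _)) H₁
  let i₂ : BasedFunctor.comp H pr₂ ≅ BasedFunctor.comp (BasedFunctor.comp (overMap d) H₁₂) pr₂ :=
    whiskerRightIso (overMapRetractIso d prod.snd (prod.lift_snd _ _)) H₂
  let i : H ≅ BasedFunctor.comp (overMap d) H₁₂ := sqIsoMk i₁ i₂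
  -- chain of equivalences
  have e1 := fpMapLeft_isEquivOver (BasedFunctor.comp (overMap d) H₁₂) Δ (BasedFunctor.id _) H i
    isEquivOver_id
  have e2 := fpPasteLeft_isEquivOver (overMap d) H₁₂ Δ
  have e3 := fpMapRight_isEquivOver (overMap d) (FibCat.fpFst H₁₂ Δ) K'
    (BasedFunctor.comp K' (FibCat.fpFst H₁₂ Δ)) (BasedNatIso.id _) hK'
  let w := overClassify (BasedFunctor.comp K' (FibCat.fpFst H₁₂ Δ))
  have e4 := fpMapRight_isEquivOver (overMap d) (overMap w) (BasedFunctor.id _)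
    (BasedFunctor.comp K' (FibCat.fpFst H₁₂ Δ)) (isoOverMap _) isEquivOver_id
  have r4 : FibCat.IsRepresentable (FibCat.fp (overMap d) (overMap w)) :=
    isRepresentable_fp_overMap d w
  have r3 := (isRepresentable_iff_of_isEquivOver _ e4).mpr r4
  have r2 := (isRepresentable_iff_of_isEquivOver _ e3).mp r3
  have r1 := (isRepresentable_iff_of_isEquivOver _ e2).mpr r2
  exact (isRepresentable_iff_of_isEquivOver _ e1).mpr r1

/-- For `C` with binary products and fibre products and `𝒮` fibred in groupoids over `C`, the diagonal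
`𝒮 ⟶ 𝒮 ×_C 𝒮` is representable if and only if every functor `C/U ⟶ 𝒮` over `C` is representable.
(Representability of each base change to a slice `C/V` is taken as a category over `C`; for
categories fibred in groupoids this agrees with representability over `C/V`.) -/
theorem result {C : Type u} [Category.{v} C] [HasBinaryProducts C] [HasPullbacks C] {𝒮 : BasedCategory.{v, max u v} C} (h𝒮 : FibCat.IsFibGrpd 𝒮.p) :
    FibCat.IsRepresentable1 (FibCat.diag (FibCat.toSelf 𝒮)) ↔ ∀ (U : C) (G : FibCat.overCat U ⥤ᵇ 𝒮), FibCat.IsRepresentable1 G := by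
  exact ⟨fun hΔ U G => forward hΔ U G, fun hall => backward hall⟩

end Groth.Agent.S6412
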