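import Groth.Statements.S6414
-- import your own Groth.Agent.* helpers here

set_option autoImplicit false
open CategoryTheory
universe v₁ u₁ v₂ u₂ v₃ u₃
open FibCat

namespace Groth.Agent.S6414

/-- A morphism that is strongly cartesian with respect to `F : 𝒜 ⥤ ℬ` and whose image is strongly
cartesian with respect to `G : ℬ ⥤ 𝒞` is strongly cartesian with respect to `F ⋙ G`. -/
theorem result {𝒜 : Type u₁} [Category.{v₁} 𝒜] {ℬ : Type u₂} [Category.{v₂} ℬ] {𝒞 : Type u₃} [Category.{v₃} 𝒞] (F : 𝒜 ⥤ ℬ) (G : ℬ ⥤ 𝒞) {x y : 𝒜} (φ : x ⟶ y)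
    [F.IsStronglyCartesian (F.map φ) φ] [G.IsStronglyCartesian (G.map (F.map φ)) (F.map φ)] :
    (F ⋙ G).IsStronglyCartesian ((F ⋙ G).map φ) φ := by
  refine { toIsHomLift := ?_, universal_property' := ?_ }
  · infer_instance
  · intro a' g φ' hφ'
    have h1 : g ≫ G.map (F.map φ) = G.map (F.map φ') := by
      have := IsHomLift.eq_of_isHomLift (F ⋙ G) (g ≫ (F ⋙ G).map φ) φ'
      simpa using this
    have : G.IsHomLift (g ≫ G.map (F.map φ)) (F.map φ') := by
      rw [h1]; infer_instance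
    obtain ⟨β, ⟨hβ1, hβ2⟩, hβu⟩ :=
      Functor.IsStronglyCartesian.universal_property' (p := G) (f := G.map (F.map φ)) (φ := F.map φ) g (F.map φ')
    have : F.IsHomLift (β ≫ F.map φ) φ' := by
      rw [hβ2]; infer_instance
    obtain ⟨χ, ⟨hχ1, hχ2⟩, hχu⟩ :=
      Functor.IsStronglyCartesian.universal_property' (p := F) (f := F.map φ) (φ := φ) β φ'
    have hFχ : β = F.map χ := IsHomLift.eq_of_isHomLift F β χ
    have hGβ : g = G.map β := IsHomLift.eq_of_isHomLift G g β
    refine ⟨χ, ⟨?_, hχ2⟩, ?_⟩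
    · have : g = (F ⋙ G).map χ := by rw [hGβ, hFχ]; rfl
      rw [this]; infer_instance
    · rintro χ' ⟨hχ'1, hχ'2⟩
      have hg : g = G.map (F.map χ') := IsHomLift.eq_of_isHomLift (F ⋙ G) g χ'
      have hβ' : F.map χ' = β := by
        apply hβu
        refine ⟨?_, ?_⟩
        · rw [hg]; infer_instance
        · rw [← F.map_comp, hχ'2]
      apply hχu
      refine ⟨?_, hχ'2⟩
      rw [← hβ']; infer_instance

end Groth.Agent.S6414
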