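import Groth.Statements.S6415
import Groth.Agent.S6414

set_option autoImplicit false
open CategoryTheory
universe v₁ u₁ v₂ u₂ v₃ u₃
open FibCat

namespace Groth.Agent.S6415

theorem comp_general {𝒜 : Type u₁} [Category.{v₁} 𝒜] {ℬ : Type u₂} [Category.{v₂} ℬ] {𝒞 : Type u₃} [Category.{v₃} 𝒞]
    (F : 𝒜 ⥤ ℬ) (G : ℬ ⥤ 𝒞) {R S : 𝒞} {b' a' : ℬ} {x y : 𝒜} (f : R ⟶ S) (ψ : b' ⟶ a') (φ : x ⟶ y)
    [hF : F.IsStronglyCartesian ψ φ] [hG : G.IsStronglyCartesian f ψ] :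
    (F ⋙ G).IsStronglyCartesian f φ := by
  obtain ⟨⟩ := (inferInstance : F.IsHomLift ψ φ)
  obtain ⟨⟩ := (inferInstance : G.IsHomLift f (F.map φ))
  exact Groth.Agent.S6414.result F G φ


/-- The composite of two fibred functors is fibred. -/
theorem result {𝒜 : Type u₁} [Category.{v₁} 𝒜] {ℬ : Type u₂} [Category.{v₂} ℬ] {𝒞 : Type u₃} [Category.{v₃} 𝒞] (F : 𝒜 ⥤ ℬ) (G : ℬ ⥤ 𝒞) [F.IsFibered] [G.IsFibered] : (F ⋙ G).IsFibered := by
  apply Functor.IsFibered.of_exists_isStronglyCartesian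
  intro a R f
  obtain ⟨b', ψ, hψ⟩ := Functor.IsPreFibered.exists_isCartesian' (p := G) (a := F.obj a) f
  obtain ⟨b, φ, hφ⟩ := Functor.IsPreFibered.exists_isCartesian' (p := F) (a := a) ψ
  have hψ' : G.IsStronglyCartesian f ψ := inferInstance
  have hφ' : F.IsStronglyCartesian ψ φ := inferInstance
  exact ⟨b, φ, comp_general F G f ψ φ⟩

end Groth.Agent.S6415
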