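import Groth.Statements.S6417
-- import your own Groth.Agent.* helpers here

set_option autoImplicit false
open CategoryTheory CategoryTheory.Limits
universe v₁ u₁ v₂ u₂
open FibCat

namespace Groth.Agent.S6417

open Functor in
theorem sc_map {𝒮 : Type u₁} [Category.{v₁} 𝒮] {C : Type u₂} [Category.{v₂} C] (p : 𝒮 ⥤ C)
    {R S : C} {a b : 𝒮} (f : R ⟶ S) (φ : a ⟶ b) [h : p.IsStronglyCartesian f φ] :
    p.IsStronglyCartesian (p.map φ) φ := by
  obtain ⟨⟩ := (inferInstance : p.IsHomLift f φ)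
  exact h

open Functor in
theorem clean {𝒮 : Type u₁} [Category.{v₁} 𝒮] {C : Type u₂} [Category.{v₂} C] (p : 𝒮 ⥤ C)
    {x y z w : 𝒮} (φ : x ⟶ y) (ψ : z ⟶ y) (a : w ⟶ z)
    [p.IsStronglyCartesian (p.map φ) φ] [p.IsStronglyCartesian (p.map a) a]
    (fst' : p.obj w ⟶ p.obj x) (hP : IsPullback fst' (p.map a) (p.map φ) (p.map ψ)) :
    ∃ b : w ⟶ x, p.map b = fst' ∧ IsPullback b a φ ψ := by
  have hf' : p.map (a ≫ ψ) = fst' ≫ p.map φ := by rw [p.map_comp, hP.w]
  let b := IsStronglyCartesian.map p (p.map φ) φ (g := fst') (f' := p.map (a ≫ ψ)) hf' (a ≫ ψ)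
  have hb1 : p.IsHomLift fst' b := IsStronglyCartesian.map_isHomLift p (p.map φ) φ hf' (a ≫ ψ)
  have hb1' : fst' = p.map b := IsHomLift.eq_of_isHomLift p fst' b
  have hb2 : b ≫ φ = a ≫ ψ := IsStronglyCartesian.fac p (p.map φ) φ hf' (a ≫ ψ)
  refine ⟨b, hb1'.symm, ⟨⟨hb2⟩, ⟨?_⟩⟩⟩
  -- data for each cone
  have key : ∀ s : PullbackCone φ ψ, ∃ l : s.pt ⟶ w, l ≫ b = s.fst ∧ l ≫ a = s.snd ∧
      ∀ m : s.pt ⟶ w, m ≫ b = s.fst → m ≫ a = s.snd → m = l := by
    intro s
    have hc : p.map s.fst ≫ p.map φ = p.map s.snd ≫ p.map ψ := by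
      rw [← p.map_comp, ← p.map_comp, s.condition]
    let h := hP.lift (p.map s.fst) (p.map s.snd) hc
    have hh1 : h ≫ fst' = p.map s.fst := hP.lift_fst _ _ _
    have hh2 : h ≫ p.map a = p.map s.snd := hP.lift_snd _ _ _
    let l := IsStronglyCartesian.map p (p.map a) a (g := h) (f' := p.map s.snd) hh2.symm s.snd
    have hl1 : p.IsHomLift h l := IsStronglyCartesian.map_isHomLift p (p.map a) a hh2.symm s.snd
    have hl2 : l ≫ a = s.snd := IsStronglyCartesian.fac p (p.map a) a hh2.symm s.snd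
    have hl1' : h = p.map l := IsHomLift.eq_of_isHomLift p h l
    refine ⟨l, ?_, hl2, ?_⟩
    · have i1 : p.IsHomLift (p.map s.fst) (l ≫ b) := by
        have : p.map s.fst = p.map (l ≫ b) := by
          rw [p.map_comp, ← hl1', ← hb1', hh1]
        rw [this]; infer_instance
      apply IsStronglyCartesian.ext p (p.map φ) φ (p.map s.fst)
      rw [Category.assoc, hb2, ← Category.assoc, hl2, s.condition]
    · intro m hm1 hm2
      have hm : p.IsHomLift h m := by
        have : h = p.map m := by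
          apply hP.hom_ext
          · rw [hh1, hb1', ← p.map_comp, hm1]
          · rw [hh2, ← p.map_comp, hm2]
        rw [this]; infer_instance
      exact IsStronglyCartesian.map_uniq p (p.map a) a hh2.symm s.snd m hm2
  choose lift hl1 hl2 hl3 using key
  exact PullbackCone.IsLimit.mk _ lift hl1 hl2 (fun s m hm1 hm2 => hl3 s m hm1 hm2)


/-- For `p : 𝒮 ⥤ C`, a strongly cartesian `φ : x ⟶ y`, any `ψ : z ⟶ y`, and a strongly cartesian `a : w
⟶ z` lying over the second projection of `p x ×_{p y} p z`, the object `w` is a fibre product `x ×_y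
z`: there is `b : w ⟶ x` over the first projection with `(b, a)` a pullback square. -/
theorem result {𝒮 : Type u₁} [Category.{v₁} 𝒮] {C : Type u₂} [Category.{v₂} C] (p : 𝒮 ⥤ C) {x y z w : 𝒮} (φ : x ⟶ y) (ψ : z ⟶ y)
    [p.IsStronglyCartesian (p.map φ) φ] [HasPullback (p.map φ) (p.map ψ)] (a : w ⟶ z)
    [p.IsStronglyCartesian (pullback.snd (p.map φ) (p.map ψ)) a] :
    ∃ b : w ⟶ x, p.IsHomLift (pullback.fst (p.map φ) (p.map ψ)) b ∧ IsPullback b a φ ψ := by
  have hw : p.obj w = pullback (p.map φ) (p.map ψ) :=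
    IsHomLift.domain_eq p (pullback.snd (p.map φ) (p.map ψ)) a
  have ha : p.map a = eqToHom hw ≫ pullback.snd (p.map φ) (p.map ψ) := by
    have := IsHomLift.fac' p (pullback.snd (p.map φ) (p.map ψ)) a
    simpa using this
  have hsc : p.IsStronglyCartesian (p.map a) a := sc_map p (pullback.snd (p.map φ) (p.map ψ)) a
  have hP : IsPullback (eqToHom hw ≫ pullback.fst (p.map φ) (p.map ψ)) (p.map a) (p.map φ) (p.map ψ) := by
    refine (IsPullback.of_hasPullback (p.map φ) (p.map ψ)).of_iso (eqToIso hw.symm) (Iso.refl _)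
      (Iso.refl _) (Iso.refl _) ?_ ?_ ?_ ?_
    · simp
    · simp [ha]
    · simp
    · simp
  obtain ⟨b, hb, hpb⟩ := clean p φ ψ a _ hP
  refine ⟨b, ?_, hpb⟩
  apply IsHomLift.of_fac' p _ b hw rfl
  simp [hb]

end Groth.Agent.S6417
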