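import Groth.Statements.S6418
import Groth.Agent.Lib.Helper45.OverFib

set_option autoImplicit false
open CategoryTheory
universe v₁ u₁ v₂ u₂
open FibCat

namespace Groth.Agent.S6418

/-- If `p' : 𝒮 ⥤ C/U` composed with the forgetful functor `C/U ⥤ C` is a fibred category, then so is
`p'`. -/
theorem result {𝒮 : Type u₁} [Category.{v₁} 𝒮] {C : Type u₂} [Category.{v₂} C] {U : C} (p' : 𝒮 ⥤ Over U) [(p' ⋙ Over.forget U).IsFibered] : p'.IsFibered := by
  apply Functor.IsFibered.of_exists_isStronglyCartesian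
  intro a R f
  let q := p' ⋙ Over.forget U
  let fl : R.left ⟶ q.obj a := f.left
  obtain ⟨b, φ, hφ⟩ := Functor.IsPreFibered.exists_isCartesian' (p := q) (a := a) fl
  have hφ' : q.IsStronglyCartesian fl φ := inferInstance
  exact ⟨b, φ, Groth.Agent.Lib.Helper45.sc_of_comp_forget' p' f φ (h := hφ')⟩

end Groth.Agent.S6418
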