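import Groth.Statements.S6419
import Groth.Agent.Lib.Helper45.OverFib

set_option autoImplicit false
open CategoryTheory
universe v₁ u₁ v₂ u₂
open FibCat

namespace Groth.Agent.S6419

/-- If `p' : 𝒮 ⥤ C/U` composed with the forgetful functor `C/U ⥤ C` is fibred in groupoids, then so is
`p'`. -/
theorem result {𝒮 : Type u₁} [Category.{v₁} 𝒮] {C : Type u₂} [Category.{v₂} C] {U : C} (p' : 𝒮 ⥤ Over U) (h : FibCat.IsFibGrpd (p' ⋙ Over.forget U)) : FibCat.IsFibGrpd p' := by
  refine { exists_lift := ?_, isStronglyCartesian := ?_ }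
  · intro x V f
    let q := p' ⋙ Over.forget U
    let fl : V.left ⟶ q.obj x := f.left
    obtain ⟨y, φ, hφ⟩ := h.exists_lift (x := x) fl
    exact ⟨y, φ, Groth.Agent.Lib.Helper45.isHomLift_of_comp_forget p' f φ (h := hφ)⟩
  · intro y x φ
    have := h.isStronglyCartesian φ
    exact Groth.Agent.Lib.Helper45.sc_of_comp_forget p' φ

end Groth.Agent.S6419
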