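import Groth.Statements.S6421
import Groth.Agent.S6420

set_option autoImplicit false
open CategoryTheory CategoryTheory.Limits
universe v u
open FibCat

namespace Groth.Agent.S6421

open CategoricalPullback in
theorem obj_iso_hom {X Y Z A B C : Type u} [Category.{v} X] [Category.{v} Y] [Category.{v} Z] [Category.{v} A] [Category.{v} B] [Category.{v} C] {H : X ⥤ Z} {I : Y ⥤ Z} {F : A ⥤ C} {G : B ⥤ C} (ψ : CatCospanTransform H I F G)
    (x : CategoricalPullback H I) :
    ((FibCat.categoricalPullbackMap ψ).obj x).iso.hom =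
      ψ.squareLeft.iso.inv.app x.fst ≫ ψ.base.map x.iso.hom ≫ ψ.squareRight.iso.hom.app x.snd := by
  simp [FibCat.categoricalPullbackMap]
  rfl

theorem core {X Y Z A B C : Type u} [Category.{v} X] [Category.{v} Y] [Category.{v} Z] [Category.{v} A] [Category.{v} B] [Category.{v} C] {H : X ⥤ Z} {I : Y ⥤ Z} {F : A ⥤ C} {G : B ⥤ C} (ψ : CatCospanTransform H I F G) [ψ.base.Faithful]
    (x y : CategoricalPullback H I) (a : x.fst ⟶ y.fst) (b : x.snd ⟶ y.snd)
    (hw : F.map (ψ.left.map a) ≫ (ψ.squareLeft.iso.inv.app y.fst ≫ ψ.base.map y.iso.hom ≫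
        ψ.squareRight.iso.hom.app y.snd) =
      (ψ.squareLeft.iso.inv.app x.fst ≫ ψ.base.map x.iso.hom ≫ ψ.squareRight.iso.hom.app x.snd) ≫
        G.map (ψ.right.map b)) :
    H.map a ≫ y.iso.hom = x.iso.hom ≫ I.map b := by
  apply ψ.base.map_injective
  have nL : ψ.base.map (H.map a) ≫ ψ.squareLeft.iso.hom.app y.fst =
      ψ.squareLeft.iso.hom.app x.fst ≫ F.map (ψ.left.map a) :=
    ψ.squareLeft.iso.hom.naturality a
  have nR : ψ.base.map (I.map b) ≫ ψ.squareRight.iso.hom.app y.snd =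
      ψ.squareRight.iso.hom.app x.snd ≫ G.map (ψ.right.map b) :=
    ψ.squareRight.iso.hom.naturality b
  have e : ψ.base.map (H.map a) =
      ψ.squareLeft.iso.hom.app x.fst ≫ F.map (ψ.left.map a) ≫ ψ.squareLeft.iso.inv.app y.fst := by
    rw [← Category.assoc, ← nL, Category.assoc, Iso.hom_inv_id_app]
    exact (Category.comp_id _).symm
  rw [← cancel_mono (ψ.squareRight.iso.hom.app y.snd)]
  simp only [Functor.map_comp, Category.assoc]
  rw [nR, e]
  simp only [Category.assoc]
  rw [hw]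
  simp

theorem full_aux {X Y Z A B C : Type u} [Category.{v} X] [Category.{v} Y] [Category.{v} Z] [Category.{v} A] [Category.{v} B] [Category.{v} C] {H : X ⥤ Z} {I : Y ⥤ Z} {F : A ⥤ C} {G : B ⥤ C} (ψ : CatCospanTransform H I F G) [ψ.left.Full] [ψ.left.Faithful] [ψ.right.Full] [ψ.right.Faithful] [ψ.base.Faithful] :
    (FibCat.categoricalPullbackMap ψ).Full := by
  constructor
  intro x y h
  let hf : ψ.left.obj x.fst ⟶ ψ.left.obj y.fst := h.fst
  let hs : ψ.right.obj x.snd ⟶ ψ.right.obj y.snd := h.snd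
  let a : x.fst ⟶ y.fst := ψ.left.preimage hf
  let b : x.snd ⟶ y.snd := ψ.right.preimage hs
  have ha : ψ.left.map a = hf := ψ.left.map_preimage hf
  have hb : ψ.right.map b = hs := ψ.right.map_preimage hs
  have hw : F.map hf ≫ ((FibCat.categoricalPullbackMap ψ).obj y).iso.hom =
      ((FibCat.categoricalPullbackMap ψ).obj x).iso.hom ≫ G.map hs := h.w
  rw [obj_iso_hom, obj_iso_hom, ← ha, ← hb] at hw
  have w : H.map a ≫ y.iso.hom = x.iso.hom ≫ I.map b := core ψ x y a b hw
  refine ⟨⟨a, b, w⟩, ?_⟩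
  apply CategoricalPullback.hom_ext
  · rw [Groth.Agent.S6420.map_fst]; exact ha
  · rw [Groth.Agent.S6420.map_snd]; exact hb


/-- For a 2-commutative morphism of cospans of categories whose outer functors `X ⥤ A`, `Y ⥤ B` are
fully faithful and whose middle functor `Z ⥤ C` is faithful, the induced functor `X ×_Z Y ⥤ A ×_C B`
is fully faithful. -/
theorem result {X Y Z A B C : Type u} [Category.{v} X] [Category.{v} Y] [Category.{v} Z] [Category.{v} A] [Category.{v} B] [Category.{v} C] {H : X ⥤ Z} {I : Y ⥤ Z} {F : A ⥤ C} {G : B ⥤ C} (ψ : CatCospanTransform H I F G) [ψ.left.Full] [ψ.left.Faithful] [ψ.right.Full] [ψ.right.Faithful] [ψ.base.Faithful] :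
    (FibCat.categoricalPullbackMap ψ).Full ∧ (FibCat.categoricalPullbackMap ψ).Faithful := by
  exact ⟨full_aux ψ, Groth.Agent.S6420.result ψ⟩

end Groth.Agent.S6421
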