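import Groth.Statements.S6422
import Groth.Agent.S6421

set_option autoImplicit false
open CategoryTheory CategoryTheory.Limits
universe v u
open FibCat

namespace Groth.Agent.S6422

theorem essSurj_aux {X Y Z A B C : Type u} [Category.{v} X] [Category.{v} Y] [Category.{v} Z] [Category.{v} A] [Category.{v} B] [Category.{v} C] {H : X ⥤ Z} {I : Y ⥤ Z} {F : A ⥤ C} {G : B ⥤ C} (ψ : CatCospanTransform H I F G) [ψ.left.EssSurj] [ψ.right.EssSurj] [ψ.base.Full] [ψ.base.Faithful] :
    (FibCat.categoricalPullbackMap ψ).EssSurj := by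
  constructor
  intro z
  let x₀ := ψ.left.objPreimage z.fst
  let α : ψ.left.obj x₀ ≅ z.fst := ψ.left.objObjPreimageIso z.fst
  let y₀ := ψ.right.objPreimage z.snd
  let β : ψ.right.obj y₀ ≅ z.snd := ψ.right.objObjPreimageIso z.snd
  let θ : ψ.base.obj (H.obj x₀) ≅ ψ.base.obj (I.obj y₀) :=
    ψ.squareLeft.iso.app x₀ ≪≫ F.mapIso α ≪≫ z.iso ≪≫ (G.mapIso β).symm ≪≫
      (ψ.squareRight.iso.app y₀).symm
  let φ : H.obj x₀ ≅ I.obj y₀ := ψ.base.preimageIso θ
  let w : CategoricalPullback H I := ⟨x₀, y₀, φ⟩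
  refine ⟨w, ⟨CategoricalPullback.mkIso (x := (FibCat.categoricalPullbackMap ψ).obj w) (y := z) α β ?_⟩⟩
  rw [Groth.Agent.S6421.obj_iso_hom]
  have hφ : ψ.base.map φ.hom = θ.hom := by simp [φ]
  change F.map α.hom ≫ z.iso.hom = (ψ.squareLeft.iso.inv.app x₀ ≫ ψ.base.map φ.hom ≫
    ψ.squareRight.iso.hom.app y₀) ≫ G.map β.hom
  rw [hφ]
  simp [θ, ← Functor.map_comp]


/-- For a 2-commutative morphism of cospans of categories whose outer functors `X ⥤ A`, `Y ⥤ B` are
equivalences and whose middle functor `Z ⥤ C` is fully faithful, the induced functor `X ×_Z Y ⥤ A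
×_C B` is an equivalence of categories. -/
theorem result {X Y Z A B C : Type u} [Category.{v} X] [Category.{v} Y] [Category.{v} Z] [Category.{v} A] [Category.{v} B] [Category.{v} C] {H : X ⥤ Z} {I : Y ⥤ Z} {F : A ⥤ C} {G : B ⥤ C} (ψ : CatCospanTransform H I F G) [ψ.left.IsEquivalence] [ψ.right.IsEquivalence] [ψ.base.Full] [ψ.base.Faithful] :
    (FibCat.categoricalPullbackMap ψ).IsEquivalence := by
  have h1 := (Groth.Agent.S6421.result ψ)
  have h3 := essSurj_aux ψ
  exact { faithful := h1.2, full := h1.1, essSurj := h3 }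

end Groth.Agent.S6422
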