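import Groth.Statements.S6425
import Mathlib.CategoryTheory.Limits.Types.Products
import Mathlib.CategoryTheory.Limits.Preserves.Shapes.BinaryProducts
import Mathlib.CategoryTheory.Limits.FunctorCategory.Basic

set_option autoImplicit false
open CategoryTheory CategoryTheory.Limits
universe v
open CatLim

namespace Groth.Agent.S6425

/-- Over an index category in which any two objects map to a common object, the comparison map `colim (M
× N) → colim M × colim N` for diagrams of sets is surjective. -/
theorem result {I : Type v} [SmallCategory I]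
    (hI : ∀ x y : I, ∃ (z : I) (_ : x ⟶ z) (_ : y ⟶ z), True) (M N : I ⥤ Type v) :
    Function.Surjective (prodComparison (colim : (I ⥤ Type v) ⥤ Type v) M N) := by
  intro t
  -- decompose t
  let a : colimit M := (prod.fst : colim.obj M ⨯ colim.obj N ⟶ colim.obj M) t
  let b : colimit N := (prod.snd : colim.obj M ⨯ colim.obj N ⟶ colim.obj N) t
  obtain ⟨i, m, hm⟩ := Types.jointly_surjective' a
  obtain ⟨j, n, hn⟩ := Types.jointly_surjective' b
  obtain ⟨z, f, g, -⟩ := hI i j
  let ev := (evaluation I (Type v)).obj z
  let e1 : (M ⨯ N).obj z ≅ M.obj z ⨯ N.obj z := PreservesLimitPair.iso ev M N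
  let e2 : M.obj z ⨯ N.obj z ≅ M.obj z × N.obj z := Types.binaryProductIso _ _
  let mn : M.obj z × N.obj z := ⟨M.map f m, N.map g n⟩
  let p : (M ⨯ N).obj z := e1.inv (e2.inv mn)
  have hp1 : (prod.fst : M ⨯ N ⟶ M).app z p = M.map f m := by
    have h1 : e1.inv ≫ ev.map (prod.fst : M ⨯ N ⟶ M) = prod.fst :=
      PreservesLimitPair.iso_inv_fst ev M N
    have h2 := ConcreteCategory.congr_hom h1 (e2.inv mn)
    have h3 := ConcreteCategory.congr_hom (Types.binaryProductIso_inv_comp_fst (M.obj z) (N.obj z))
      mn
    rw [ConcreteCategory.comp_apply] at h2 h3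
    exact h2.trans h3
  have hp2 : (prod.snd : M ⨯ N ⟶ N).app z p = N.map g n := by
    have h1 : e1.inv ≫ ev.map (prod.snd : M ⨯ N ⟶ N) = prod.snd :=
      PreservesLimitPair.iso_inv_snd ev M N
    have h2 := ConcreteCategory.congr_hom h1 (e2.inv mn)
    have h3 := ConcreteCategory.congr_hom (Types.binaryProductIso_inv_comp_snd (M.obj z) (N.obj z))
      mn
    rw [ConcreteCategory.comp_apply] at h2 h3
    exact h2.trans h3
  refine ⟨colimit.ι (M ⨯ N) z p, ?_⟩
  -- compare projections
  have hinj : Function.Injective (Types.binaryProductIso (colim.obj M) (colim.obj N)).hom :=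
    (Types.binaryProductIso _ _).toEquiv.injective
  apply hinj
  have hf : ∀ s : (colim.obj M ⨯ colim.obj N : Type v),
      ((Types.binaryProductIso (colim.obj M) (colim.obj N)).hom s).1 =
        (prod.fst : colim.obj M ⨯ colim.obj N ⟶ colim.obj M) s := fun s => by
    have := ConcreteCategory.congr_hom (Types.binaryProductIso_hom_comp_fst (colim.obj M) (colim.obj N)) s
    rw [ConcreteCategory.comp_apply] at this
    exact this
  have hs : ∀ s : (colim.obj M ⨯ colim.obj N : Type v),
      ((Types.binaryProductIso (colim.obj M) (colim.obj N)).hom s).2 =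
        (prod.snd : colim.obj M ⨯ colim.obj N ⟶ colim.obj N) s := fun s => by
    have := ConcreteCategory.congr_hom (Types.binaryProductIso_hom_comp_snd (colim.obj M) (colim.obj N)) s
    rw [ConcreteCategory.comp_apply] at this
    exact this
  apply Prod.ext
  · rw [hf, hf]
    have h1 := ConcreteCategory.congr_hom (prodComparison_fst (colim : (I ⥤ Type v) ⥤ Type v) (A := M) (B := N))
      (colimit.ι (M ⨯ N) z p)
    rw [ConcreteCategory.comp_apply] at h1
    rw [h1]
    have h2 := ConcreteCategory.congr_hom (colimit.ι_map (prod.fst : M ⨯ N ⟶ M) z) p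
    rw [ConcreteCategory.comp_apply, ConcreteCategory.comp_apply] at h2
    rw [h2, hp1]
    change _ = a
    rw [← hm]
    exact ConcreteCategory.congr_hom (colimit.w M f) m
  · rw [hs, hs]
    have h1 := ConcreteCategory.congr_hom (prodComparison_snd (colim : (I ⥤ Type v) ⥤ Type v) (A := M) (B := N))
      (colimit.ι (M ⨯ N) z p)
    rw [ConcreteCategory.comp_apply] at h1
    rw [h1]
    have h2 := ConcreteCategory.congr_hom (colimit.ι_map (prod.snd : M ⨯ N ⟶ N) z) p
    rw [ConcreteCategory.comp_apply, ConcreteCategory.comp_apply] at h2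
    rw [h2, hp2]
    change _ = b
    rw [← hn]
    exact ConcreteCategory.congr_hom (colimit.w N g) n

end Groth.Agent.S6425
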