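import Groth.Statements.S6426
-- import your own Groth.Agent.* helpers here

set_option autoImplicit false
open CategoryTheory CategoryTheory.Limits
universe v
open CatLim

namespace Groth.Agent.S6426

/-- Over a nonempty index category in which any two objects map to a common object, the set-theoretic
colimit of a diagram of abelian groups surjects onto its colimit in abelian groups. (The published
statement does not require the index category to be nonempty; this row assumes it, because for the
empty index category the colimit of sets is empty while the colimit of abelian groups is the zero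
group.) -/
theorem result {I : Type v} [SmallCategory I] [Nonempty I]
    (hI : ∀ x y : I, ∃ (z : I) (_ : x ⟶ z) (_ : y ⟶ z), True) (M : I ⥤ AddCommGrpCat.{v}) :
    Function.Surjective (colimit.post M (forget AddCommGrpCat.{v})) := by
  classical
  let L := colimit M
  have hw : ∀ {i j : I} (f : i ⟶ j) (m : M.obj i), colimit.ι M j (M.map f m) = colimit.ι M i m := by
    intro i j f m
    exact ConcreteCategory.congr_hom (colimit.w M f) m
  let S : AddSubgroup L :=
    { carrier := {x | ∃ (i : I) (m : M.obj i), colimit.ι M i m = x}
      add_mem' := by
        rintro a b ⟨i, m, rfl⟩ ⟨j, n, rfl⟩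
        obtain ⟨z, f, g, -⟩ := hI i j
        refine ⟨z, M.map f m + M.map g n, ?_⟩
        rw [map_add, hw, hw]
      zero_mem' := by
        obtain ⟨i⟩ := ‹Nonempty I›
        exact ⟨i, 0, map_zero _⟩
      neg_mem' := by
        rintro a ⟨i, m, rfl⟩
        exact ⟨i, -m, map_neg _ _⟩ }
  let c : Cocone M :=
    { pt := AddCommGrpCat.of S
      ι :=
        { app := fun i => AddCommGrpCat.ofHom
            ((colimit.ι M i).hom.codRestrict S (fun m => ⟨i, m, rfl⟩))
          naturality := by
            intro i j f
            ext m
            apply Subtype.ext
            simp only [Functor.const_obj_obj, Functor.const_obj_map, Category.comp_id]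
            exact hw f m } }
  let d : L ⟶ AddCommGrpCat.of S := colimit.desc M c
  let incl : AddCommGrpCat.of S ⟶ L := AddCommGrpCat.ofHom S.subtype
  have hid : d ≫ incl = 𝟙 L := by
    apply colimit.hom_ext
    intro i
    rw [← Category.assoc, colimit.ι_desc]
    ext m
    rfl
  have hmem : ∀ x : L, x ∈ S := by
    intro x
    have : incl (d x) = x := ConcreteCategory.congr_hom hid x
    rw [← this]
    exact (d x).2
  intro x
  obtain ⟨i, m, hm⟩ := hmem x
  refine ⟨colimit.ι (M ⋙ forget AddCommGrpCat.{v}) i m, ?_⟩
  have := ConcreteCategory.congr_hom (colimit.ι_post M (forget AddCommGrpCat.{v}) i) m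
  rw [ConcreteCategory.comp_apply] at this
  rw [this]
  exact hm

end Groth.Agent.S6426
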