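import Groth.Statements.S6428
-- import your own Groth.Agent.* helpers here

set_option autoImplicit false
open CategoryTheory CategoryTheory.Limits
universe v₁ u₁ v₂ u₂ v₃ u₃
open CatLim

namespace Groth.Agent.S6428

section
variable {I : Type u₁} [Category.{v₁} I] {I' : Type u₂} [Category.{v₂} I'] {C : Type u₃} [Category.{v₃} C]

/-- candidate component of the extended cocone, computed at a point of the fibre -/
def cmp (F : I ⥤ I') (M : I' ⥤ C) (c : Cocone (F ⋙ M)) {x' : I'} (x : I) (hx : F.obj x = x') :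
    M.obj x' ⟶ c.pt :=
  M.map (eqToHom hx.symm) ≫ c.ι.app x

theorem cmp_const (F : I ⥤ I') (M : I' ⥤ C) (c : Cocone (F ⋙ M)) {x' : I'}
    (h1 : IsConnected (F.Fiber x')) (x : I) (hx : F.obj x = x') (y : I) (hy : F.obj y = x') :
    cmp F M c x hx = cmp F M c y hy := by
  have key := constant_of_preserves_morphisms (J := F.Fiber x')
    (fun a => cmp F M c (Functor.Fiber.fiberInclusion.obj a) a.2) ?_ ⟨x, hx⟩ ⟨y, hy⟩
  · exact key
  · intro a b β
    have hβ2 : F.IsHomLift (𝟙 x') (Functor.Fiber.fiberInclusion.map β) := inferInstance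
    have hβ := IsHomLift.fac' F (𝟙 x') (Functor.Fiber.fiberInclusion.map β)
    have hw := c.w (Functor.Fiber.fiberInclusion.map β)
    simp only [cmp]
    rw [← hw]
    simp only [Functor.comp_map, hβ]
    rw [← Category.assoc, ← M.map_comp]
    congr 1
    simp

theorem cmp_self (F : I ⥤ I') (M : I' ⥤ C) (c : Cocone (F ⋙ M)) (x : I) :
    cmp F M c x rfl = c.ι.app x := by
  simp [cmp]

theorem exists_fibre (F : I ⥤ I') (h1 : ∀ x' : I', IsConnected (F.Fiber x')) (x' : I') :
    ∃ x : I, F.obj x = x' := by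
  obtain ⟨a⟩ := (h1 x').is_nonempty
  exact ⟨a.1, a.2⟩

/-- extend a cocone on `F ⋙ M` to a cocone on `M` -/
@[reducible] noncomputable def extend (F : I ⥤ I') (M : I' ⥤ C)
    (h1 : ∀ x' : I', IsConnected (F.Fiber x'))
    (h2 : ∀ ⦃x' y' : I'⦄ (α' : x' ⟶ y'), ∃ (x y : I) (hx : F.obj x = x') (hy : F.obj y = y')
      (α : x ⟶ y), F.map α = eqToHom hx ≫ α' ≫ eqToHom hy.symm)
    (c : Cocone (F ⋙ M)) : Cocone M where
  pt := c.pt
  ι :=
    { app := fun x' =>
        cmp F M c (Classical.choose (exists_fibre F h1 x')) (Classical.choose_spec (exists_fibre F h1 x'))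
      naturality := by
        intro x' y' α'
        obtain ⟨x, y, hx, hy, α, hα⟩ := h2 α'
        rw [cmp_const F M c (h1 x') _ _ x hx, cmp_const F M c (h1 y') _ _ y hy]
        simp only [cmp, Functor.const_obj_obj, Functor.const_obj_map, Category.comp_id]
        have hw := c.w α
        rw [← hw]
        simp only [Functor.comp_map, hα, M.map_comp, Category.assoc]
        rw [← M.map_comp_assoc (eqToHom _) (eqToHom _)]
        simp }

theorem extend_app (F : I ⥤ I') (M : I' ⥤ C)
    (h1 : ∀ x' : I', IsConnected (F.Fiber x'))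
    (h2 : ∀ ⦃x' y' : I'⦄ (α' : x' ⟶ y'), ∃ (x y : I) (hx : F.obj x = x') (hy : F.obj y = y')
      (α : x ⟶ y), F.map α = eqToHom hx ≫ α' ≫ eqToHom hy.symm)
    (c : Cocone (F ⋙ M)) {x' : I'} (x : I) (hx : F.obj x = x') :
    (extend F M h1 h2 c).ι.app x' = cmp F M c x hx :=
  cmp_const F M c (h1 x') (Classical.choose (exists_fibre F h1 x'))
    (Classical.choose_spec (exists_fibre F h1 x')) x hx

theorem extend_app_self (F : I ⥤ I') (M : I' ⥤ C)
    (h1 : ∀ x' : I', IsConnected (F.Fiber x'))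
    (h2 : ∀ ⦃x' y' : I'⦄ (α' : x' ⟶ y'), ∃ (x y : I) (hx : F.obj x = x') (hy : F.obj y = y')
      (α : x ⟶ y), F.map α = eqToHom hx ≫ α' ≫ eqToHom hy.symm)
    (c : Cocone (F ⋙ M)) (x : I) :
    (extend F M h1 h2 c).ι.app (F.obj x) = c.ι.app x := by
  rw [extend_app F M h1 h2 c x rfl, cmp_self]

/-- a general cocone component expressed through the fibre -/
theorem cocone_app_fibre (F : I ⥤ I') (M : I' ⥤ C) (s : Cocone M) {x' : I'} (x : I)
    (hx : F.obj x = x') :
    s.ι.app x' = M.map (eqToHom hx.symm) ≫ s.ι.app (F.obj x) := by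
  subst hx
  simp

noncomputable def isColimitExtend (F : I ⥤ I') (M : I' ⥤ C)
    (h1 : ∀ x' : I', IsConnected (F.Fiber x'))
    (h2 : ∀ ⦃x' y' : I'⦄ (α' : x' ⟶ y'), ∃ (x y : I) (hx : F.obj x = x') (hy : F.obj y = y')
      (α : x ⟶ y), F.map α = eqToHom hx ≫ α' ≫ eqToHom hy.symm)
    (c : Cocone (F ⋙ M)) (hc : IsColimit c) : IsColimit (extend F M h1 h2 c) where
  desc s := hc.desc (s.whisker F)
  fac s x' := by
    obtain ⟨x, hx⟩ := exists_fibre F h1 x'
    rw [extend_app F M h1 h2 c x hx, cocone_app_fibre F M s x hx]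
    have := hc.fac (s.whisker F) x
    simp only [cmp, Category.assoc]
    rw [this]
    rfl
  uniq s m hm := by
    apply hc.uniq (s.whisker F)
    intro x
    have := hm (F.obj x)
    rw [extend_app_self F M h1 h2 c x] at this
    exact this

noncomputable def isColimitWhisker (F : I ⥤ I') (M : I' ⥤ C)
    (h1 : ∀ x' : I', IsConnected (F.Fiber x'))
    (h2 : ∀ ⦃x' y' : I'⦄ (α' : x' ⟶ y'), ∃ (x y : I) (hx : F.obj x = x') (hy : F.obj y = y')
      (α : x ⟶ y), F.map α = eqToHom hx ≫ α' ≫ eqToHom hy.symm)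
    (d : Cocone M) (hd : IsColimit d) : IsColimit (d.whisker F) where
  desc c := hd.desc (extend F M h1 h2 c)
  fac c x := by
    have := hd.fac (extend F M h1 h2 c) (F.obj x)
    rw [extend_app_self] at this
    exact this
  uniq c m hm := by
    apply hd.uniq (extend F M h1 h2 c)
    intro x'
    obtain ⟨x, hx⟩ := exists_fibre F h1 x'
    rw [extend_app F M h1 h2 c x hx, cocone_app_fibre F M d x hx]
    simp only [cmp, Category.assoc]
    congr 1
    exact hm x

end


/-- If `F : I ⥤ I'` has connected fibre categories and is surjective on morphisms, then for every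
diagram `M : I' ⥤ C` the colimit of `F ⋙ M` exists if and only if that of `M` does, and the
canonical comparison between them is then an isomorphism. -/
theorem result {I : Type u₁} [Category.{v₁} I] {I' : Type u₂} [Category.{v₂} I'] {C : Type u₃} [Category.{v₃} C] (F : I ⥤ I')
    (h1 : ∀ x' : I', IsConnected (F.Fiber x'))
    (h2 : ∀ ⦃x' y' : I'⦄ (α' : x' ⟶ y'), ∃ (x y : I) (hx : F.obj x = x') (hy : F.obj y = y') (α : x ⟶ y), F.map α = eqToHom hx ≫ α' ≫ eqToHom hy.symm)
    (M : I' ⥤ C) :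
    (HasColimit (F ⋙ M) ↔ HasColimit M) ∧ ∀ [HasColimit (F ⋙ M)] [HasColimit M], IsIso (colimit.pre M F) := by
  refine ⟨⟨?_, ?_⟩, ?_⟩
  · intro h
    exact ⟨⟨⟨_, isColimitExtend F M h1 h2 _ (colimit.isColimit (F ⋙ M))⟩⟩⟩
  · intro h
    exact ⟨⟨⟨_, isColimitWhisker F M h1 h2 _ (colimit.isColimit M)⟩⟩⟩
  · intro _ _
    have hw := isColimitWhisker F M h1 h2 _ (colimit.isColimit M)
    have : colimit.pre M F =
        (IsColimit.coconePointUniqueUpToIso (colimit.isColimit (F ⋙ M)) hw).hom := rfl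
    rw [this]
    infer_instance

end Groth.Agent.S6428
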