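import Groth.Statements.S6429
-- import your own Groth.Agent.* helpers here

set_option autoImplicit false
open CategoryTheory CategoryTheory.MonoidalCategory
universe v u
open MonCat

namespace Groth.Agent.S6429

noncomputable def leftEquiv {C : Type u} [Category.{v} C] [MonoidalCategory C] (X X' : C)
    (e1 : X ⊗ X' ≅ 𝟙_ C) (e2 : X' ⊗ X ≅ 𝟙_ C) : C ≌ C :=
  CategoryTheory.Equivalence.mk (tensorLeft X) (tensorLeft X')
    ((leftUnitorNatIso C).symm ≪≫ ((tensoringLeft C).mapIso e2).symm ≪≫ tensorLeftTensor X' X)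
    ((tensorLeftTensor X X').symm ≪≫ (tensoringLeft C).mapIso e1 ≪≫ leftUnitorNatIso C)

noncomputable def rightEquiv {C : Type u} [Category.{v} C] [MonoidalCategory C] (X X' : C)
    (e1 : X ⊗ X' ≅ 𝟙_ C) (e2 : X' ⊗ X ≅ 𝟙_ C) : C ≌ C :=
  CategoryTheory.Equivalence.mk (tensorRight X) (tensorRight X')
    ((rightUnitorNatIso C).symm ≪≫ ((tensoringRight C).mapIso e1).symm ≪≫ tensorRightTensor X X')
    ((tensorRightTensor X' X).symm ≪≫ (tensoringRight C).mapIso e2 ≪≫ rightUnitorNatIso C)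


/-- An object `X` of a monoidal category is invertible (some `X'` has `X ⊗ X' ≅ 𝟙` and `X' ⊗ X ≅ 𝟙`) if
and only if tensoring on the left by `X` is an equivalence, if and only if tensoring on the right by
`X` is an equivalence. -/
theorem result {C : Type u} [Category.{v} C] [MonoidalCategory C] (X : C) :
    ((tensorLeft X).IsEquivalence ↔ ∃ X' : C, Nonempty (X ⊗ X' ≅ 𝟙_ C) ∧ Nonempty (X' ⊗ X ≅ 𝟙_ C)) ∧
      ((tensorRight X).IsEquivalence ↔ ∃ X' : C, Nonempty (X ⊗ X' ≅ 𝟙_ C) ∧ Nonempty (X' ⊗ X ≅ 𝟙_ C)) := by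
  refine ⟨⟨?_, ?_⟩, ⟨?_, ?_⟩⟩
  · intro h
    let X' := (tensorLeft X).objPreimage (𝟙_ C)
    let e1 : X ⊗ X' ≅ 𝟙_ C := (tensorLeft X).objObjPreimageIso (𝟙_ C)
    let θ : (tensorLeft X).obj (X' ⊗ X) ≅ (tensorLeft X).obj (𝟙_ C) :=
      (α_ X X' X).symm ≪≫ whiskerRightIso e1 X ≪≫ λ_ X ≪≫ (ρ_ X).symm
    exact ⟨X', ⟨e1⟩, ⟨(tensorLeft X).preimageIso θ⟩⟩
  · rintro ⟨X', ⟨e1⟩, ⟨e2⟩⟩
    exact (leftEquiv X X' e1 e2).isEquivalence_functor
  · intro h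
    let X' := (tensorRight X).objPreimage (𝟙_ C)
    let e2 : X' ⊗ X ≅ 𝟙_ C := (tensorRight X).objObjPreimageIso (𝟙_ C)
    let θ : (tensorRight X).obj (X ⊗ X') ≅ (tensorRight X).obj (𝟙_ C) :=
      α_ X X' X ≪≫ whiskerLeftIso X e2 ≪≫ ρ_ X ≪≫ (λ_ X).symm
    exact ⟨X', ⟨(tensorRight X).preimageIso θ⟩, ⟨e2⟩⟩
  · rintro ⟨X', ⟨e1⟩, ⟨e2⟩⟩
    exact (rightEquiv X X' e1 e2).isEquivalence_functor

end Groth.Agent.S6429
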