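import Groth.Statements.S6430
import Groth.Agent.Lib.Helper45.OverFib

set_option autoImplicit false
open CategoryTheory
universe v₂ u₂ v u
open FibCat

namespace Groth.Agent.S6430

/-- For a fibred category `p : 𝒮 ⥤ C`, the wide subcategory of `𝒮` on the strongly cartesian morphisms
is fibred in groupoids over `C`. -/
theorem result {C : Type u} [Category.{v} C] {𝒮 : Type u₂} [Category.{v₂} 𝒮] (p : 𝒮 ⥤ C) [p.IsFibered] :
    FibCat.IsFibGrpd (FibCat.cartSubProj p) := by
  refine { exists_lift := ?_, isStronglyCartesian := ?_ }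
  · intro x V f
    let f' : V ⟶ p.obj x.obj := f
    obtain ⟨y, φ, hφ⟩ := Functor.IsPreFibered.exists_isCartesian' (p := p) (a := x.obj) f'
    have hsc : p.IsStronglyCartesian f' φ := inferInstance
    have hsc' : p.IsStronglyCartesian (p.map φ) φ := Groth.Agent.Lib.Helper45.sc_map' p f' φ
    refine ⟨⟨y⟩, ⟨φ, hsc'⟩, ?_⟩
    have hd : p.obj y = V := IsHomLift.domain_eq p f' φ
    have hfac := IsHomLift.fac' p f' φ
    apply IsHomLift.of_fac' (FibCat.cartSubProj p) f _ hd rfl
    exact hfac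
  · intro y x φ
    have hφ : p.IsStronglyCartesian (p.map φ.1) φ.1 := φ.2
    refine { toIsHomLift := inferInstance, universal_property' := ?_ }
    intro a' g φ' hφ'
    let q := FibCat.cartSubProj p
    have h1 : g ≫ q.map φ = q.map φ' := IsHomLift.eq_of_isHomLift q _ φ'
    let g' : p.obj a'.obj ⟶ p.obj y.obj := g
    have h1' : g' ≫ p.map φ.1 = p.map φ'.1 := h1
    have : p.IsHomLift (g' ≫ p.map φ.1) φ'.1 := by rw [h1']; infer_instance
    obtain ⟨χ, ⟨hχ1, hχ2⟩, hχu⟩ :=
      Functor.IsStronglyCartesian.universal_property' (p := p) (f := p.map φ.1) (φ := φ.1) g' φ'.1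
    have hg : g' = p.map χ := IsHomLift.eq_of_isHomLift p g' χ
    have hφ'sc : p.IsStronglyCartesian (p.map φ'.1) φ'.1 := φ'.2
    have hχsc : p.IsStronglyCartesian (p.map χ) χ := by
      have : p.IsStronglyCartesian (p.map χ ≫ p.map φ.1) (χ ≫ φ.1) := by
        rw [hχ2, ← hg, h1']; exact hφ'sc
      exact Functor.IsStronglyCartesian.of_comp p (f := p.map χ) (g := p.map φ.1) (φ := χ) (ψ := φ.1)
    refine ⟨⟨χ, hχsc⟩, ⟨?_, ?_⟩, ?_⟩
    · have : g = q.map ⟨χ, hχsc⟩ := hg
      rw [this]; infer_instance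
    · ext; exact hχ2
    · rintro χ' ⟨h1χ', h2χ'⟩
      ext
      apply hχu
      refine ⟨?_, ?_⟩
      · have h3 : g = q.map χ' := IsHomLift.eq_of_isHomLift q g χ'
        have h4 : g' = p.map χ'.1 := h3
        rw [h4]; infer_instance
      · exact congrArg (fun k => k.1) h2χ'

end Groth.Agent.S6430
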