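import Groth.Statements.S6434
import Groth.Agent.S6433
import Mathlib.CategoryTheory.FinCategory.Basic
import Mathlib.Data.Fintype.Sigma
import Mathlib.CategoryTheory.Limits.Preserves.Finite
-- import your own Groth.Agent.* helpers here

set_option autoImplicit false
open CategoryTheory
universe v u v' u'
open CatLoc

namespace Groth.Agent.S6434

section

variable {C : Type u} [Category.{v} C] {D : Type u'} [Category.{v'} D] (W : MorphismProperty C)
  (L : C ⥤ D) [L.IsLocalization W] [W.HasLeftCalculusOfFractions]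

include W

lemma exists_equalizing {ι : Type} [Finite ι] (Y' : C) (X : ι → C) (f f' : ∀ i, X i ⟶ Y')
    (h : ∀ i, L.map (f i) = L.map (f' i)) :
    ∃ (Y'' : C) (t : Y' ⟶ Y'') (_ : W t), ∀ i, f i ≫ t = f' i ≫ t := by
  classical
  have := Fintype.ofFinite ι
  have key : ∀ S : Finset ι, ∃ (Y'' : C) (t : Y' ⟶ Y'') (_ : W t),
      ∀ i ∈ S, f i ≫ t = f' i ≫ t := by
    intro S
    induction S using Finset.induction_on with
    | empty => exact ⟨Y', 𝟙 Y', W.id_mem Y', by simp⟩
    | insert a S ha ih =>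
      obtain ⟨Y₁, t₁, ht₁, h₁⟩ := ih
      have ha' : L.map (f a ≫ t₁) = L.map (f' a ≫ t₁) := by
        rw [L.map_comp, L.map_comp, h a]
      rw [MorphismProperty.map_eq_iff_postcomp L W] at ha'
      obtain ⟨Y₂, t₂, ht₂, h₂⟩ := ha'
      refine ⟨Y₂, t₁ ≫ t₂, W.comp_mem _ _ ht₁ ht₂, ?_⟩
      intro i hi
      rw [Finset.mem_insert] at hi
      rcases hi with rfl | hi
      · simpa only [Category.assoc] using h₂
      · rw [← Category.assoc, h₁ i hi, Category.assoc]
  obtain ⟨Y'', t, ht, h'⟩ := key Finset.univ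
  exact ⟨Y'', t, ht, fun i => h' i (Finset.mem_univ i)⟩

lemma exists_desc {J : Type} [SmallCategory J] [FinCategory J] (K : J ⥤ C)
    (c : Limits.Cocone K) (hc : Limits.IsColimit c)
    (Y : C) (g : ∀ j, L.obj (K.obj j) ⟶ L.obj Y)
    (hg : ∀ (j j' : J) (u : j ⟶ j'), L.map (K.map u) ≫ g j' = g j) :
    ∃ d : L.obj c.pt ⟶ L.obj Y, ∀ j, L.map (c.ι.app j) ≫ d = g j := by
  obtain ⟨Y', s, hs, f, hf⟩ := Groth.Agent.S6433.result W L (fun j => K.obj j) Y g
  obtain ⟨Y'', t, ht, hft⟩ := exists_equalizing W L Y' (ι := Σ (j : J) (j' : J), (j ⟶ j'))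
    (fun a => K.obj a.1) (fun a => K.map a.2.2 ≫ f a.2.1) (fun a => f a.1) (by
      rintro ⟨j, j', u⟩
      dsimp
      rw [L.map_comp, ← hf j', ← hf j, ← Category.assoc, hg j j' u])
  have hnat : ∀ (j j' : J) (u : j ⟶ j'), K.map u ≫ (f j' ≫ t) = (f j ≫ t) ≫ 𝟙 Y'' := by
    intro j j' u
    have := hft ⟨j, j', u⟩
    dsimp at this
    simp only [Category.assoc] at this
    rw [this, Category.comp_id]
  let c' : Limits.Cocone K := ⟨Y'', ⟨fun j => f j ≫ t, fun j j' u => hnat j j' u⟩⟩
  have hst : IsIso (L.map (s ≫ t)) := Localization.inverts L W _ (W.comp_mem _ _ hs ht)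
  refine ⟨L.map (hc.desc c') ≫ inv (L.map (s ≫ t)), fun j => ?_⟩
  rw [← Category.assoc, ← L.map_comp, hc.fac c' j]
  change L.map (f j ≫ t) ≫ _ = _
  rw [IsIso.comp_inv_eq, L.map_comp, L.map_comp, ← hf j, Category.assoc]

lemma desc_unique {J : Type} [SmallCategory J] [FinCategory J] (K : J ⥤ C)
    (c : Limits.Cocone K) (hc : Limits.IsColimit c)
    (Y : C) (d d' : L.obj c.pt ⟶ L.obj Y)
    (h : ∀ j, L.map (c.ι.app j) ≫ d = L.map (c.ι.app j) ≫ d') : d = d' := by
  obtain ⟨Y', s, hs, f, hf⟩ := Groth.Agent.S6433.result W L (ι := Bool) (fun _ => c.pt) Y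
    (fun b => cond b d d')
  have hf1 : d ≫ L.map s = L.map (f true) := hf true
  have hf2 : d' ≫ L.map s = L.map (f false) := hf false
  obtain ⟨Y'', t, ht, hft⟩ := exists_equalizing W L Y' (ι := J)
    (fun j => K.obj j) (fun j => c.ι.app j ≫ f true) (fun j => c.ι.app j ≫ f false) (by
      intro j
      rw [L.map_comp, L.map_comp, ← hf1, ← hf2, ← Category.assoc, ← Category.assoc, h j])
  have heq : f true ≫ t = f false ≫ t := hc.hom_ext (fun j => by
    simpa only [Category.assoc] using hft j)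
  have hs' : IsIso (L.map s) := Localization.inverts L W _ hs
  have ht' : IsIso (L.map t) := Localization.inverts L W _ ht
  have : L.map (f true) = L.map (f false) := by
    rw [← cancel_mono (L.map t), ← L.map_comp, ← L.map_comp, heq]
  rw [← cancel_mono (L.map s), hf1, hf2, this]

end


/-- The localization functor at a left multiplicative system commutes with finite colimits. -/
theorem result {C : Type u} [Category.{v} C] {D : Type u'} [Category.{v'} D] (W : MorphismProperty C) (L : C ⥤ D) [L.IsLocalization W] [W.HasLeftCalculusOfFractions] :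
    Limits.PreservesFiniteColimits L := by
  refine ⟨fun J _ _ => ⟨fun {K} => ⟨fun {c} hc => ⟨?_⟩⟩⟩⟩
  apply Limits.IsColimit.ofExistsUnique
  intro s
  have := Localization.essSurj L W
  let Y := L.objPreimage s.pt
  let eY : L.obj Y ≅ s.pt := L.objObjPreimageIso s.pt
  obtain ⟨d, hd⟩ := exists_desc W L K c hc Y (fun j => s.ι.app j ≫ eY.inv) (by
    intro j j' u
    have := s.w u
    dsimp at this
    rw [← Category.assoc, this])
  refine ⟨d ≫ eY.hom, fun j => ?_, fun d' hd' => ?_⟩
  · dsimp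
    rw [← Category.assoc, hd j, Category.assoc, Iso.inv_hom_id, Category.comp_id]
  · have : d' ≫ eY.inv = d := desc_unique W L K c hc Y _ _ (fun j => by
      rw [hd j, ← Category.assoc]
      congr 1
      exact hd' j)
    rw [← this, Category.assoc, Iso.inv_hom_id, Category.comp_id]

end Groth.Agent.S6434
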