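import Groth.Statements.S6437
import Groth.Agent.S6448
import Mathlib.CategoryTheory.Limits.FilteredColimitCommutesFiniteLimit
import Mathlib.CategoryTheory.Limits.Preserves.FunctorCategory
import Mathlib.CategoryTheory.ConnectedComponents
import Mathlib.CategoryTheory.Limits.Types.Limits
-- import your own Groth.Agent.* helpers here

set_option autoImplicit false
open CategoryTheory CategoryTheory.Limits
universe v
open CatLim

namespace Groth.Agent.S6437

section

variable {I : Type v} [SmallCategory I]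

/-- The disjoint union of the colimits over the connected components. -/
abbrev D (G : I ⥤ Type v) : Type v :=
  Σ comp : ConnectedComponents I, colimit (comp.ι ⋙ G)

lemma ι_comp_eq (G : I ⥤ Type v) (comp : ConnectedComponents I) {i i' : I} (f : i ⟶ i')
    (hi : ConnectedComponents.mk i = comp) (hi' : ConnectedComponents.mk i' = comp)
    (a : G.obj i) :
    colimit.ι (comp.ι ⋙ G) ⟨i', hi'⟩ (G.map f a) = colimit.ι (comp.ι ⋙ G) ⟨i, hi⟩ a := by
  have := colimit.w_apply (comp.ι ⋙ G)
    (ObjectProperty.homMk f : (⟨i, hi⟩ : comp.Component) ⟶ ⟨i', hi'⟩) a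
  exact this

lemma mk_eq (G : I ⥤ Type v) (comp comp' : ConnectedComponents I) (h : comp = comp') (i : I)
    (hi : ConnectedComponents.mk i = comp) (a : G.obj i) :
    (⟨comp, colimit.ι (comp.ι ⋙ G) ⟨i, hi⟩ a⟩ : D G) =
      ⟨comp', colimit.ι (comp'.ι ⋙ G) ⟨i, hi.trans h⟩ a⟩ := by
  subst h; rfl

/-- The cocone defining the decomposition map. -/
noncomputable def toSigmaCocone (G : I ⥤ Type v) : Cocone G where
  pt := D G
  ι :=
    { app := fun i => ↾(fun a => (⟨ConnectedComponents.mk i,
        colimit.ι ((ConnectedComponents.mk i).ι ⋙ G) ⟨i, rfl⟩ a⟩ : D G))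
      naturality := by
        intro i i' f
        ext a
        have h : ConnectedComponents.mk i = ConnectedComponents.mk i' :=
          Quotient.sound' (Zigzag.of_hom f)
        change (⟨ConnectedComponents.mk i',
          colimit.ι ((ConnectedComponents.mk i').ι ⋙ G) ⟨i', rfl⟩ (G.map f a)⟩ : D G) =
          ⟨ConnectedComponents.mk i, colimit.ι ((ConnectedComponents.mk i).ι ⋙ G) ⟨i, rfl⟩ a⟩
        rw [ι_comp_eq G _ f h rfl a]
        exact (mk_eq G _ _ h i rfl a).symm }

/-- The decomposition map. -/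
noncomputable def toSigma (G : I ⥤ Type v) (x : colimit G) : D G :=
  colimit.desc G (toSigmaCocone G) x

lemma toSigma_ι (G : I ⥤ Type v) (i : I) (a : G.obj i) :
    toSigma G (colimit.ι G i a) = ⟨ConnectedComponents.mk i,
      colimit.ι ((ConnectedComponents.mk i).ι ⋙ G) ⟨i, rfl⟩ a⟩ :=
  colimit.ι_desc_apply (toSigmaCocone G) i a

lemma toSigma_ι' (G : I ⥤ Type v) (comp : ConnectedComponents I) (i : I)
    (hi : ConnectedComponents.mk i = comp) (a : G.obj i) :
    toSigma G (colimit.ι G i a) = ⟨comp, colimit.ι (comp.ι ⋙ G) ⟨i, hi⟩ a⟩ := by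
  subst hi
  exact toSigma_ι G i a

lemma toSigma_pre (G : I ⥤ Type v) (comp : ConnectedComponents I)
    (y : colimit (comp.ι ⋙ G)) :
    toSigma G (colimit.pre G comp.ι y) = ⟨comp, y⟩ := by
  obtain ⟨⟨i, hi⟩, a, rfl⟩ := Types.jointly_surjective' y
  have h1 : colimit.pre G comp.ι (colimit.ι (comp.ι ⋙ G) ⟨i, hi⟩ a) = colimit.ι G i a :=
    ConcreteCategory.congr_hom (colimit.ι_pre G comp.ι ⟨i, hi⟩) a
  rw [h1]
  exact toSigma_ι' G comp i hi a

lemma pre_toSigma (G : I ⥤ Type v) (x : colimit G) :
    colimit.pre G (toSigma G x).1.ι (toSigma G x).2 = x := by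
  obtain ⟨i, a, rfl⟩ := Types.jointly_surjective' x
  rw [toSigma_ι]
  exact ConcreteCategory.congr_hom (colimit.ι_pre G (ConnectedComponents.mk i).ι ⟨i, rfl⟩) a

lemma toSigma_injective (G : I ⥤ Type v) : Function.Injective (toSigma G) := by
  intro x x' h
  rw [← pre_toSigma G x, ← pre_toSigma G x', h]

lemma toSigma_map {G G' : I ⥤ Type v} (α : G ⟶ G') (x : colimit G) :
    toSigma G' (colim.map α x) =
      ⟨(toSigma G x).1, colim.map (Functor.whiskerLeft (toSigma G x).1.ι α) (toSigma G x).2⟩ := by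
  obtain ⟨i, a, rfl⟩ := Types.jointly_surjective' x
  have h1 : colim.map α (colimit.ι G i a) = colimit.ι G' i (α.app i a) :=
    ConcreteCategory.congr_hom (colimit.ι_map α i) a
  rw [h1, toSigma_ι, toSigma_ι]
  congr 1
  exact (ConcreteCategory.congr_hom
    (colimit.ι_map (Functor.whiskerLeft (ConnectedComponents.mk i).ι α) ⟨i, rfl⟩) a).symm

end


/-- Over an index category in which spans can be completed to commutative squares and parallel pairs can
be coequalized (a disjoint union of filtered categories), colimits of sets commute with finite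
connected limits. -/
theorem result {I : Type v} [SmallCategory I]
    (h1 : ∀ ⦃w x y : I⦄ (a : w ⟶ x) (b : w ⟶ y), ∃ (z : I) (c : x ⟶ z) (d : y ⟶ z), a ≫ c = b ≫ d)
    (h2 : ∀ ⦃x y : I⦄ (a b : x ⟶ y), ∃ (z : I) (c : y ⟶ z), a ≫ c = b ≫ c)
    (J : Type) [SmallCategory J] [FinCategory J] [IsConnected J] :
    PreservesLimitsOfShape J (colim : (I ⥤ Type v) ⥤ Type v) := by
  refine ⟨fun {K} => ⟨fun {c} hc => ?_⟩⟩
  rw [Types.isLimit_iff]
  intro s hs
  have hs' : ∀ {j j' : J} (f : j ⟶ j'), colim.map (K.map f) (s j) = s j' := fun f => hs f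
  obtain ⟨comp, hcomp⟩ := constant_of_preserves_morphisms'
    (fun j => (toSigma (K.obj j) (s j)).1) (by
      intro j j' f
      rw [← hs' f, toSigma_map])
  have hy : ∀ j, ∃ y : colimit (comp.ι ⋙ K.obj j), toSigma (K.obj j) (s j) = ⟨comp, y⟩ := by
    intro j
    have h := hcomp j
    generalize toSigma (K.obj j) (s j) = z at h
    obtain ⟨c', y⟩ := z
    subst h
    exact ⟨y, rfl⟩
  choose y hy using hy
  have hfilt : IsFiltered comp.Component := Groth.Agent.S6448.result h1 h2 comp
  let W := (Functor.whiskeringLeft comp.Component I (Type v)).obj comp.ι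
  have hc' : IsLimit (W.mapCone c) := isLimitOfPreserves W hc
  have hc'' : IsLimit ((colim : (comp.Component ⥤ Type v) ⥤ Type v).mapCone (W.mapCone c)) :=
    isLimitOfPreserves colim hc'
  have hsec := (Types.isLimit_iff _).1 ⟨hc''⟩ y (by
    intro j j' f
    have e1 := toSigma_map (K.map f) (s j)
    rw [hs' f, hy j, hy j'] at e1
    exact (eq_of_heq (Sigma.mk.inj e1).2).symm)
  obtain ⟨z, hz, hzuniq⟩ := hsec
  have key : ∀ (comp' : ConnectedComponents I) (z' : colimit (comp'.ι ⋙ c.pt)),
      (∀ j, (⟨comp, y j⟩ : D (K.obj j)) =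
        ⟨comp', colim.map (Functor.whiskerLeft comp'.ι (c.π.app j)) z'⟩) →
      (⟨comp', z'⟩ : D c.pt) = ⟨comp, z⟩ := by
    intro comp' z' h
    obtain ⟨j₀⟩ : Nonempty J := inferInstance
    have h0 : comp = comp' := (Sigma.mk.inj (h j₀)).1
    subst h0
    have h1 : z' = z := hzuniq z' (fun j => (eq_of_heq (Sigma.mk.inj (h j)).2).symm)
    rw [h1]
  refine ⟨colimit.pre c.pt comp.ι z, fun j => ?_, fun x' hx' => ?_⟩
  · apply toSigma_injective
    have e1 := toSigma_map (G := c.pt) (G' := K.obj j) (c.π.app j) (colimit.pre c.pt comp.ι z)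
    rw [toSigma_pre] at e1
    change toSigma (K.obj j) (colim.map (c.π.app j) (colimit.pre c.pt comp.ι z)) = _
    rw [e1, hy j]
    congr 1
    exact hz j
  · apply toSigma_injective
    rw [toSigma_pre]
    rcases hzz : toSigma c.pt x' with ⟨comp', z'⟩
    apply key
    intro j
    have e1 := toSigma_map (G := c.pt) (G' := K.obj j) (c.π.app j) x'
    have hxj : colim.map (c.π.app j) x' = s j := hx' j
    rw [hxj, hy j, hzz] at e1
    exact e1

end Groth.Agent.S6437
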