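import Groth.Statements.S6438
import Mathlib.CategoryTheory.Limits.Shapes.Multiequalizer
import Mathlib.CategoryTheory.Limits.Final
import Mathlib.CategoryTheory.Limits.IsConnected
import Mathlib.CategoryTheory.FinCategory.Basic
import Mathlib.Data.Fintype.EquivFin
import Mathlib.Data.Finite.Sum
import Mathlib.Data.Fintype.Sum
-- import your own Groth.Agent.* helpers here

set_option autoImplicit false
open CategoryTheory
universe v u
open CatLim

namespace Groth.Agent.S6438

open Limits

section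

variable {I : Type u} [Category.{v} I] {n m : ℕ} (eI : I ≃ Fin n)
  (ga : Fin m → Σ x y : I, x ⟶ y)

/-- The shape of the finite category: one "vertex" object for each object of `I` and one "edge"
object for each generator. -/
abbrev shape : MultispanShape.{0, 0} where
  L := Fin m
  R := Fin n
  fst a := eI (ga a).1
  snd a := eI (ga a).2.1

/-- The diagram data. -/
def index : MultispanIndex (shape eI ga) I where
  left a := (ga a).1
  right k := eI.symm k
  fst a := eqToHom (eI.symm_apply_apply (ga a).1).symm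
  snd a := (ga a).2.2 ≫ eqToHom (eI.symm_apply_apply (ga a).2.1).symm

/-- The functor from the finite category. -/
def FF : WalkingMultispan (shape eI ga) ⥤ I := (index eI ga).multispan

/-- vertex objects -/
def vtx (k : Fin n) : WalkingMultispan (shape eI ga) := WalkingMultispan.right k

/-- edge objects -/
def edg (a : Fin m) : WalkingMultispan (shape eI ga) := WalkingMultispan.left a

/-- the source map of an edge -/
def fstHom (a : Fin m) : edg eI ga a ⟶ vtx eI ga (eI (ga a).1) :=
  WalkingMultispan.Hom.fst (J := shape eI ga) a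

/-- the target map of an edge -/
def sndHom (a : Fin m) : edg eI ga a ⟶ vtx eI ga (eI (ga a).2.1) :=
  WalkingMultispan.Hom.snd (J := shape eI ga) a

lemma FF_obj_vtx (k : Fin n) : (FF eI ga).obj (vtx eI ga k) = eI.symm k := rfl

lemma FF_obj_edg (a : Fin m) : (FF eI ga).obj (edg eI ga a) = (ga a).1 := rfl

lemma FF_map_fst (a : Fin m) : (FF eI ga).map (fstHom eI ga a) =
    eqToHom (eI.symm_apply_apply (ga a).1).symm := rfl

lemma FF_map_snd (a : Fin m) : (FF eI ga).map (sndHom eI ga a) =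
    (ga a).2.2 ≫ eqToHom (eI.symm_apply_apply (ga a).2.1).symm := rfl

/-- The finite category structure. -/
noncomputable def finCat : FinCategory (WalkingMultispan (shape eI ga)) := by
  have h1 : Finite (WalkingMultispan (shape eI ga)) :=
    Finite.of_equiv (Fin m ⊕ Fin n) (WalkingMultispan.equiv (shape eI ga)).symm
  have h2 : Finite (Arrow (WalkingMultispan (shape eI ga))) :=
    Finite.of_equiv (WalkingMultispan (shape eI ga) ⊕ Fin m ⊕ Fin m)
      (WalkingMultispan.arrowEquiv (shape eI ga)).symm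
  exact
    { fintypeObj := Fintype.ofFinite _
      fintypeHom := fun X Y => by
        have : Finite (X ⟶ Y) := Finite.of_injective _ (Arrow.mk_injective X Y)
        exact Fintype.ofFinite _ }

/-! ### Structured arrows -/

/-- The vertex objects of the structured arrow category. -/
def V (i x : I) (ψ : i ⟶ x) : StructuredArrow i (FF eI ga) :=
  StructuredArrow.mk (Y := vtx eI ga (eI x))
    (show i ⟶ (FF eI ga).obj (vtx eI ga (eI x)) from
      ψ ≫ eqToHom (eI.symm_apply_apply x).symm)

/-- The edge objects of the structured arrow category. -/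
def E (i : I) (a : Fin m) (ψ : i ⟶ (ga a).1) : StructuredArrow i (FF eI ga) :=
  StructuredArrow.mk (Y := edg eI ga a) (show i ⟶ (FF eI ga).obj (edg eI ga a) from ψ)

lemma zigzag_gen (i : I) (a : Fin m) (ψ : i ⟶ (ga a).1) :
    Zigzag (V eI ga i (ga a).1 ψ) (V eI ga i (ga a).2.1 (ψ ≫ (ga a).2.2)) := by
  have f1 : E eI ga i a ψ ⟶ V eI ga i (ga a).1 ψ :=
    StructuredArrow.homMk (fstHom eI ga a) (by
      change ψ ≫ (FF eI ga).map (fstHom eI ga a) = ψ ≫ eqToHom _
      rw [FF_map_fst]
      rfl)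
  have f2 : E eI ga i a ψ ⟶ V eI ga i (ga a).2.1 (ψ ≫ (ga a).2.2) :=
    StructuredArrow.homMk (sndHom eI ga a) (by
      change ψ ≫ (FF eI ga).map (sndHom eI ga a) = (ψ ≫ (ga a).2.2) ≫ eqToHom _
      rw [FF_map_snd, Category.assoc]
      rfl)
  exact Zigzag.of_inv_hom f1 f2

section Structured

variable (gen : Finset (Σ x y : I, x ⟶ y))
  (hga : ∀ s ∈ gen, ∃ a, ga a = s)
  (hgen : ∀ P : MorphismProperty I, P.IsMultiplicative → (∀ a ∈ gen, P a.2.2) → P = ⊤)

include hga hgen

lemma zigzag_all (i x : I) (ψ : i ⟶ x) :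
    Zigzag (V eI ga i i (𝟙 i)) (V eI ga i x ψ) := by
  let P : MorphismProperty I := fun k₁ k₂ φ =>
    ∀ (i : I) (ψ : i ⟶ k₁), Zigzag (V eI ga i k₁ ψ) (V eI ga i k₂ (ψ ≫ φ))
  have hP : P.IsMultiplicative :=
    { id_mem := fun k i ψ => by
        rw [Category.comp_id]
      comp_mem := fun f g hf hg i ψ => by
        rw [← Category.assoc]
        exact (hf i ψ).trans (hg i (ψ ≫ f)) }
  have hPgen : ∀ s ∈ gen, P s.2.2 := by
    intro s hs i ψ
    obtain ⟨a, rfl⟩ := hga s hs
    exact zigzag_gen eI ga i a ψ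
  have hP' := hgen P hP hPgen
  have h : P ψ := by
    rw [hP']
    trivial
  have h' := h i (𝟙 i)
  rwa [Category.id_comp] at h'

omit hga hgen in
lemma mk_vtx_eq (i : I) (k k' : Fin n) (h : k = k') (φ : i ⟶ eI.symm k) :
    (StructuredArrow.mk (Y := vtx eI ga k)
      (φ : i ⟶ (FF eI ga).obj (vtx eI ga k)) : StructuredArrow i (FF eI ga)) =
    StructuredArrow.mk (Y := vtx eI ga k')
      ((φ ≫ eqToHom (congrArg eI.symm h)) : i ⟶ (FF eI ga).obj (vtx eI ga k')) := by
  subst h
  have e : φ ≫ eqToHom (congrArg eI.symm (rfl : k = k)) = φ := by simp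
  exact congrArg (fun t : i ⟶ (FF eI ga).obj (vtx eI ga k) =>
    (StructuredArrow.mk (Y := vtx eI ga k) t : StructuredArrow i (FF eI ga))) e.symm

omit hga hgen in
lemma zigzag_obj (i : I) (X : StructuredArrow i (FF eI ga)) :
    ∃ (x : I) (ψ : i ⟶ x), Zigzag X (V eI ga i x ψ) := by
  obtain ⟨⟨⟨⟩⟩, j, φ⟩ := X
  cases j with
  | left a =>
    refine ⟨(ga a).1, φ, Zigzag.of_hom (StructuredArrow.homMk (fstHom eI ga a) ?_)⟩
    exact congrArg (fun t => φ ≫ t) (FF_map_fst eI ga a)
  | right k =>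
    refine ⟨eI.symm k, φ, ?_⟩
    have := mk_vtx_eq eI ga i k (eI (eI.symm k)) (eI.apply_symm_apply k).symm φ
    change Zigzag (StructuredArrow.mk (Y := vtx eI ga k)
      (φ : i ⟶ (FF eI ga).obj (vtx eI ga k)) : StructuredArrow i (FF eI ga)) _
    rw [this]
    exact Zigzag.refl _

lemma isConnected_structuredArrow (i : I) : IsConnected (StructuredArrow i (FF eI ga)) := by
  have : Nonempty (StructuredArrow i (FF eI ga)) := ⟨V eI ga i i (𝟙 i)⟩
  apply zigzag_isConnected
  intro X Y
  obtain ⟨x, ψ, hX⟩ := zigzag_obj eI ga i X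
  obtain ⟨y, ψ', hY⟩ := zigzag_obj eI ga i Y
  have h1 := zigzag_all eI ga gen hga hgen i x ψ
  have h2 := zigzag_all eI ga gen hga hgen i y ψ'
  exact hX.trans (h1.symm.trans (h2.trans hY.symm))

end Structured

section Costructured

/-- The vertex objects of the costructured arrow category. -/
def V' (i x : I) (ψ : x ⟶ i) : CostructuredArrow (FF eI ga) i :=
  CostructuredArrow.mk (Y := vtx eI ga (eI x))
    ((eqToHom (eI.symm_apply_apply x) ≫ ψ : (FF eI ga).obj (vtx eI ga (eI x)) ⟶ i))

/-- The edge objects of the costructured arrow category. -/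
def E' (i : I) (a : Fin m) (ψ : (ga a).1 ⟶ i) : CostructuredArrow (FF eI ga) i :=
  CostructuredArrow.mk (Y := edg eI ga a) (ψ : (FF eI ga).obj (edg eI ga a) ⟶ i)

lemma FF_map_fst_comp {Z : I} (a : Fin m) (χ : (ga a).1 ⟶ Z) :
    (FF eI ga).map (fstHom eI ga a) ≫ eqToHom (eI.symm_apply_apply (ga a).1) ≫ χ = χ := by
  have e : (eqToHom (eI.symm_apply_apply (ga a).1).symm :
      (ga a).1 ⟶ eI.symm (eI (ga a).1)) ≫ eqToHom (eI.symm_apply_apply (ga a).1) ≫ χ = χ := by
    simp
  exact e

lemma FF_map_snd_comp {Z : I} (a : Fin m) (χ : (ga a).2.1 ⟶ Z) :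
    (FF eI ga).map (sndHom eI ga a) ≫ eqToHom (eI.symm_apply_apply (ga a).2.1) ≫ χ =
      (ga a).2.2 ≫ χ := by
  have e : ((ga a).2.2 ≫ (eqToHom (eI.symm_apply_apply (ga a).2.1).symm :
      (ga a).2.1 ⟶ eI.symm (eI (ga a).2.1))) ≫ eqToHom (eI.symm_apply_apply (ga a).2.1) ≫ χ =
      (ga a).2.2 ≫ χ := by simp
  exact e

lemma zigzag_gen' (i : I) (a : Fin m) (ψ : (ga a).2.1 ⟶ i) :
    Zigzag (V' eI ga i (ga a).1 ((ga a).2.2 ≫ ψ)) (V' eI ga i (ga a).2.1 ψ) := by
  have f1 : E' eI ga i a ((ga a).2.2 ≫ ψ) ⟶ V' eI ga i (ga a).1 ((ga a).2.2 ≫ ψ) :=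
    CostructuredArrow.homMk (fstHom eI ga a) (FF_map_fst_comp eI ga a _)
  have f2 : E' eI ga i a ((ga a).2.2 ≫ ψ) ⟶ V' eI ga i (ga a).2.1 ψ :=
    CostructuredArrow.homMk (sndHom eI ga a) (FF_map_snd_comp eI ga a _)
  exact Zigzag.of_inv_hom f1 f2

lemma mk_vtx_eq' (i : I) (k k' : Fin n) (h : k = k') (φ : eI.symm k ⟶ i) :
    (CostructuredArrow.mk (Y := vtx eI ga k)
      (φ : (FF eI ga).obj (vtx eI ga k) ⟶ i) : CostructuredArrow (FF eI ga) i) =
    CostructuredArrow.mk (Y := vtx eI ga k')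
      ((eqToHom (congrArg eI.symm h.symm) ≫ φ) : (FF eI ga).obj (vtx eI ga k') ⟶ i) := by
  subst h
  have e : eqToHom (congrArg eI.symm (rfl : k = k)) ≫ φ = φ := by simp
  exact congrArg (fun t : (FF eI ga).obj (vtx eI ga k) ⟶ i =>
    (CostructuredArrow.mk (Y := vtx eI ga k) t : CostructuredArrow (FF eI ga) i)) e.symm

lemma zigzag_obj' (i : I) (X : CostructuredArrow (FF eI ga) i) :
    ∃ (x : I) (ψ : x ⟶ i), Zigzag X (V' eI ga i x ψ) := by
  obtain ⟨j, ⟨⟨⟩⟩, φ⟩ := X
  cases j with
  | left a =>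
    exact ⟨(ga a).1, φ, Zigzag.of_hom (CostructuredArrow.homMk (fstHom eI ga a)
      (FF_map_fst_comp eI ga a φ))⟩
  | right k =>
    refine ⟨eI.symm k, φ, ?_⟩
    have := mk_vtx_eq' eI ga i k (eI (eI.symm k)) (eI.apply_symm_apply k).symm φ
    change Zigzag (CostructuredArrow.mk (Y := vtx eI ga k)
      (φ : (FF eI ga).obj (vtx eI ga k) ⟶ i) : CostructuredArrow (FF eI ga) i) _
    rw [this]
    exact Zigzag.refl _

variable (gen : Finset (Σ x y : I, x ⟶ y))
  (hga : ∀ s ∈ gen, ∃ a, ga a = s)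
  (hgen : ∀ P : MorphismProperty I, P.IsMultiplicative → (∀ a ∈ gen, P a.2.2) → P = ⊤)

include hga hgen

lemma zigzag_all' (i x : I) (ψ : x ⟶ i) :
    Zigzag (V' eI ga i x ψ) (V' eI ga i i (𝟙 i)) := by
  let P : MorphismProperty I := fun k₁ k₂ φ =>
    ∀ (i : I) (ψ : k₂ ⟶ i), Zigzag (V' eI ga i k₁ (φ ≫ ψ)) (V' eI ga i k₂ ψ)
  have hP : P.IsMultiplicative :=
    { id_mem := fun k i ψ => by
        rw [Category.id_comp]
      comp_mem := fun f g hf hg i ψ => by
        rw [Category.assoc]
        exact (hf i (g ≫ ψ)).trans (hg i ψ) }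
  have hPgen : ∀ s ∈ gen, P s.2.2 := by
    intro s hs i ψ
    obtain ⟨a, rfl⟩ := hga s hs
    exact zigzag_gen' eI ga i a ψ
  have hP' := hgen P hP hPgen
  have h : P ψ := by
    rw [hP']
    trivial
  have h' := h i (𝟙 i)
  rwa [Category.comp_id] at h'

lemma isConnected_costructuredArrow (i : I) :
    IsConnected (CostructuredArrow (FF eI ga) i) := by
  have : Nonempty (CostructuredArrow (FF eI ga) i) := ⟨V' eI ga i i (𝟙 i)⟩
  apply zigzag_isConnected
  intro X Y
  obtain ⟨x, ψ, hX⟩ := zigzag_obj' eI ga i X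
  obtain ⟨y, ψ', hY⟩ := zigzag_obj' eI ga i Y
  have h1 := zigzag_all' eI ga gen hga hgen i x ψ
  have h2 := zigzag_all' eI ga gen hga hgen i y ψ'
  exact hX.trans (h1.trans (h2.symm.trans hY.symm))

end Costructured

end


/-- A category with finitely many objects whose morphisms are generated under composition by finitely
many of them receives a functor from a finite category which is both final and initial, the finite
category being connected (resp. nonempty) exactly when the given one is. (The published statement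
says that limits and colimits of every diagram are computed after restriction along the functor;
this is expressed here through finality and initiality.) -/
theorem result {I : Type u} [Category.{v} I] [Finite I]
    (gen : Finset (Σ x y : I, x ⟶ y))
    (hgen : ∀ P : MorphismProperty I, P.IsMultiplicative → (∀ a ∈ gen, P a.2.2) → P = ⊤) :
    ∃ (J : Type) (_ : SmallCategory J) (_ : FinCategory J) (F : J ⥤ I),
      F.Final ∧ F.Initial ∧ (IsConnected J ↔ IsConnected I) ∧ (Nonempty J ↔ Nonempty I) := by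
  classical
  obtain ⟨n, ⟨eI⟩⟩ := Finite.exists_equiv_fin I
  let ga : Fin gen.card → Σ x y : I, x ⟶ y := fun a => (gen.equivFin.symm a).1
  have hga : ∀ s ∈ gen, ∃ a, ga a = s := fun s hs => ⟨gen.equivFin ⟨s, hs⟩, by simp [ga]⟩
  have hfinal : (FF eI ga).Final :=
    ⟨fun i => isConnected_structuredArrow eI ga gen hga hgen i⟩
  have hinitial : (FF eI ga).Initial :=
    ⟨fun i => isConnected_costructuredArrow eI ga gen hga hgen i⟩
  refine ⟨WalkingMultispan (shape eI ga), inferInstance, finCat eI ga, FF eI ga,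
    hfinal, hinitial, ?_, ?_⟩
  · exact Functor.isConnected_iff_of_final (FF eI ga)
  · constructor
    · rintro ⟨j⟩
      exact ⟨(FF eI ga).obj j⟩
    · rintro ⟨x⟩
      exact ⟨vtx eI ga (eI x)⟩

end Groth.Agent.S6438
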