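import Groth.Statements.S6439
-- import your own Groth.Agent.* helpers here

set_option autoImplicit false
open CategoryTheory
universe v u
open FibCat

namespace Groth.Agent.S6439

open Bicategory in
/-- Precomposition with an equivalence in a bicategory is an equivalence of hom categories. -/
theorem precomp_isEquivalence {B : Type*} [Bicategory B] {a b : B} (c : B) (f : a ⟶ b) (g : b ⟶ a)
    (e₁ : f ≫ g ≅ 𝟙 a) (e₂ : g ≫ f ≅ 𝟙 b) : (Bicategory.precomp c f).IsEquivalence := by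
  let unitIso : 𝟭 (b ⟶ c) ≅ Bicategory.precomp c f ⋙ Bicategory.precomp c g :=
    (leftUnitorNatIso b c).symm ≪≫ (precomposing b b c).mapIso e₂.symm ≪≫
      associatorNatIsoRight g f c
  let counitIso : Bicategory.precomp c g ⋙ Bicategory.precomp c f ≅ 𝟭 (a ⟶ c) :=
    (associatorNatIsoRight f g c).symm ≪≫ (precomposing a a c).mapIso e₁ ≪≫
      leftUnitorNatIso a c
  exact (CategoryTheory.Equivalence.mk (Bicategory.precomp c f) (Bicategory.precomp c g)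
    unitIso counitIso).isEquivalence_functor

open Bicategory in
/-- Postcomposition with an equivalence in a bicategory is an equivalence of hom categories. -/
theorem postcomp_isEquivalence {B : Type*} [Bicategory B] {a b : B} (c : B) (f : a ⟶ b) (g : b ⟶ a)
    (e₁ : f ≫ g ≅ 𝟙 a) (e₂ : g ≫ f ≅ 𝟙 b) : (Bicategory.postcomp c f).IsEquivalence := by
  let unitIso : 𝟭 (c ⟶ a) ≅ Bicategory.postcomp c f ⋙ Bicategory.postcomp c g :=
    (rightUnitorNatIso c a).symm ≪≫ (postcomposing c a a).mapIso e₁.symm ≪≫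
      (associatorNatIsoLeft c f g).symm
  let counitIso : Bicategory.postcomp c g ⋙ Bicategory.postcomp c f ≅ 𝟭 (c ⟶ b) :=
    associatorNatIsoLeft c g f ≪≫ (postcomposing c b b).mapIso e₂ ≪≫
      rightUnitorNatIso c b
  exact (CategoryTheory.Equivalence.mk (Bicategory.postcomp c f) (Bicategory.postcomp c g)
    unitIso counitIso).isEquivalence_functor


/-- For categories fibred in groupoids over `C` and equivalences `φ : 𝒮₁ ⟶ 𝒮₂`, `ψ : 𝒮₃ ⟶ 𝒮₄` over `C`,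
the functor `α ↦ ψ ∘ α ∘ φ` between the categories of functors over `C` is an equivalence of
categories. -/
theorem result {C : Type u} [Category.{v} C] {𝒮₁ 𝒮₂ 𝒮₃ 𝒮₄ : BasedCategory.{v, max u v} C}
    (h₁ : FibCat.IsFibGrpd 𝒮₁.p) (h₂ : FibCat.IsFibGrpd 𝒮₂.p) (h₃ : FibCat.IsFibGrpd 𝒮₃.p) (h₄ : FibCat.IsFibGrpd 𝒮₄.p)
    (φ : 𝒮₁ ⟶ 𝒮₂) (ψ : 𝒮₃ ⟶ 𝒮₄) (hφ : FibCat.IsEquivOver φ) (hψ : FibCat.IsEquivOver ψ) :
    (Bicategory.precomp 𝒮₃ φ ⋙ Bicategory.postcomp 𝒮₁ ψ).IsEquivalence := by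
  obtain ⟨φ', ⟨e₁⟩, ⟨e₂⟩⟩ := hφ
  obtain ⟨ψ', ⟨e₃⟩, ⟨e₄⟩⟩ := hψ
  have := precomp_isEquivalence 𝒮₃ φ φ' e₁ e₂
  have := postcomp_isEquivalence 𝒮₁ ψ ψ' e₃ e₄
  infer_instance

end Groth.Agent.S6439
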