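import Groth.Statements.S6441
import Mathlib.CategoryTheory.Sites.LocallyBijective
import Mathlib.CategoryTheory.Sites.Localization
import Mathlib.CategoryTheory.Sites.ConcreteSheafification
-- import your own Groth.Agent.* helpers here

set_option autoImplicit false
open CategoryTheory CategoryTheory.Limits Opposite
universe u
open SiteMisc

namespace Groth.Agent.S6441

/-- For a continuous and almost cocontinuous functor `u` between small sites and a presheaf of sets `G`
taking singleton values on sheaf theoretically empty objects, sheafification commutes with `u^p`: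
the canonical comparison `(u^p G)^# ⟶ u^p(G^#)` is an isomorphism. -/
theorem result {C D : Type u} [SmallCategory C] [SmallCategory D]
    (J : GrothendieckTopology C) (K : GrothendieckTopology D) (u : C ⥤ D) [u.IsContinuous J K]
    (hu : BigSite.IsAlmostCocontinuous u J K) (G : Dᵒᵖ ⥤ Type u)
    (hG : ∀ V : D, (⊥ : Sieve V) ∈ K V → Nonempty (Unique (G.obj (op V)))) :
    IsIso (((sheafificationAdjunction J (Type u)).homEquiv (u.op ⋙ G)
      ((u.sheafPushforwardContinuous (Type u) J K).obj ((presheafToSheaf K (Type u)).obj G))).symm
        (Functor.whiskerLeft u.op (toSheafify K G))) := by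
  let φ : u.op ⋙ G ⟶ u.op ⋙ sheafify K G := Functor.whiskerLeft u.op (toSheafify K G)
  have locInj : Presheaf.IsLocallyInjective J φ := ⟨fun {X} x y h => by
    have hR : Presheaf.equalizerSieve (F := G) (X := u.op.obj X) x y ∈ K (u.obj X.unop) :=
      Presheaf.equalizerSieve_mem K (toSheafify K G) (X := u.op.obj X) x y h
    obtain ⟨R', hR', hR''⟩ := hu X.unop _ hR
    refine J.superset_covering ?_ hR'
    intro V g hg
    rcases hR'' g hg with hempty | hRg
    · obtain ⟨hU⟩ := hG (u.obj V) hempty
      exact hU.instSubsingleton.elim _ _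
    · exact hRg⟩
  have locSurj : Presheaf.IsLocallySurjective J φ := ⟨fun {U} s => by
    have hR : Presheaf.imageSieve (toSheafify K G) (U := u.obj U) s ∈ K (u.obj U) :=
      Presheaf.imageSieve_mem K (toSheafify K G) (U := op (u.obj U)) s
    obtain ⟨R', hR', hR''⟩ := hu U _ hR
    refine J.superset_covering ?_ hR'
    intro V g hg
    rcases hR'' g hg with hempty | hRg
    · obtain ⟨hU⟩ := hG (u.obj V) hempty
      refine ⟨hU.default, ?_⟩
      exact (((isSheaf_iff_isSheaf_of_type _ _).1
        ((presheafToSheaf K (Type u)).obj G).2).isSeparated _ hempty).ext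
          (fun Y f hf => hf.elim)
    · exact hRg⟩
  have hiso : IsIso ((presheafToSheaf J (Type u)).map φ) := by
    rw [← GrothendieckTopology.W_iff, GrothendieckTopology.W_iff_isLocallyBijective]
    exact ⟨locInj, locSurj⟩
  let F : Sheaf J (Type u) :=
    (u.sheafPushforwardContinuous (Type u) J K).obj ((presheafToSheaf K (Type u)).obj G)
  let φ' : u.op ⋙ G ⟶ (sheafToPresheaf J (Type u)).obj F := φ
  have hiso' : IsIso ((presheafToSheaf J (Type u)).map φ') := hiso
  change IsIso (((sheafificationAdjunction J (Type u)).homEquiv (u.op ⋙ G) F).symm φ')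
  rw [Adjunction.homEquiv_counit]
  exact IsIso.comp_isIso

end Groth.Agent.S6441
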