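import Groth.Statements.S6440
import Groth.Agent.S6441
import Mathlib.CategoryTheory.Sites.Limits
import Mathlib.CategoryTheory.Limits.Types.Products
import Mathlib.CategoryTheory.Limits.FunctorCategory.Basic
import Mathlib.CategoryTheory.Limits.Preserves.FunctorCategory
-- import your own Groth.Agent.* helpers here

set_option autoImplicit false
open CategoryTheory CategoryTheory.Limits Opposite
universe u
open SiteMisc

namespace Groth.Agent.S6440

/-- A connected colimit of singletons is a singleton. -/
lemma unique_colimit_of_unique {I : Type} [SmallCategory I] [IsConnected I] (T : I ⥤ Type u)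
    (hT : ∀ i, Nonempty (Unique (T.obj i))) : Nonempty (Unique (colimit T)) := by
  have hU : ∀ i, Unique (T.obj i) := fun i => (hT i).some
  obtain ⟨x₀, hx₀⟩ := constant_of_preserves_morphisms'
    (fun i => colimit.ι T i (hU i).default) (by
      intro i i' g
      have e1 : colimit.ι T i' (T.map g (hU i).default) = colimit.ι T i (hU i).default :=
        ConcreteCategory.congr_hom (colimit.w T g) (hU i).default
      rw [← e1, (hU i').uniq (T.map g (hU i).default)])
  refine ⟨⟨⟨x₀⟩, fun x => ?_⟩⟩
  obtain ⟨i, a, rfl⟩ := Types.jointly_surjective' x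
  change colimit.ι T i a = x₀
  rw [← hx₀ i, (hU i).uniq a]


/-- For a continuous and almost cocontinuous functor `u` between small sites, the functor `u^s` on
sheaves of sets preserves finite connected colimits. -/
theorem result {C D : Type u} [SmallCategory C] [SmallCategory D]
    (J : GrothendieckTopology C) (K : GrothendieckTopology D) (u : C ⥤ D) [u.IsContinuous J K]
    (hu : BigSite.IsAlmostCocontinuous u J K) (I : Type) [SmallCategory I] [FinCategory I] [IsConnected I] :
    PreservesColimitsOfShape I (u.sheafPushforwardContinuous (Type u) J K) := by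
  refine ⟨fun {Fd} => ?_⟩
  let E : Cocone (Fd ⋙ sheafToPresheaf K (Type u)) := colimit.cocone _
  have hE : IsColimit E := colimit.isColimit _
  let c : Cocone Fd := Sheaf.sheafifyCocone E
  have hc : IsColimit c := Sheaf.isColimitSheafifyCocone E hE
  apply preservesColimit_of_preserves_colimit_cocone hc
  let P := (Functor.whiskeringLeft Cᵒᵖ Dᵒᵖ (Type u)).obj u.op
  let E' : Cocone ((Fd ⋙ u.sheafPushforwardContinuous (Type u) J K) ⋙
      sheafToPresheaf J (Type u)) := P.mapCocone E
  have hE' : IsColimit E' := isColimitOfPreserves P hE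
  let c' : Cocone (Fd ⋙ u.sheafPushforwardContinuous (Type u) J K) := Sheaf.sheafifyCocone E'
  have hc' : IsColimit c' := Sheaf.isColimitSheafifyCocone E' hE'
  have hQ : ∀ V : D, (⊥ : Sieve V) ∈ K V → Nonempty (Unique (E.pt.obj (op V))) := by
    intro V hV
    have h1 : Nonempty (Unique (colimit ((Fd ⋙ sheafToPresheaf K (Type u)) ⋙
        (evaluation Dᵒᵖ (Type u)).obj (op V)))) :=
      unique_colimit_of_unique _ (fun i =>
        ⟨Types.isTerminalEquivUnique _ (Sheaf.isTerminalOfBotCover (Fd.obj i) V hV)⟩)
    obtain ⟨h1⟩ := h1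
    exact ⟨(colimitObjIsoColimitCompEvaluation (Fd ⋙ sheafToPresheaf K (Type u))
      (op V)).toEquiv.unique⟩
  have hθ := Groth.Agent.S6441.result J K u hu E.pt hQ
  let θ : c'.pt ⟶ ((u.sheafPushforwardContinuous (Type u) J K).mapCocone c).pt :=
    ((sheafificationAdjunction J (Type u)).homEquiv (u.op ⋙ E.pt)
      ((u.sheafPushforwardContinuous (Type u) J K).obj
        ((presheafToSheaf K (Type u)).obj E.pt))).symm
      (Functor.whiskerLeft u.op (toSheafify K E.pt))
  have hθ' : IsIso θ := hθ
  refine IsColimit.ofIsoColimit hc' (Cocone.ext (asIso θ) (fun i => ?_))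
  apply Sheaf.hom_ext
  have e1 : (c'.ι.app i).hom = E'.ι.app i ≫ toSheafify J E'.pt :=
    Sheaf.sheafifyCocone_ι_app_val E' i
  have e2 : (c.ι.app i).hom = E.ι.app i ≫ toSheafify K E.pt :=
    Sheaf.sheafifyCocone_ι_app_val E i
  let θh : sheafify J (u.op ⋙ E.pt) ⟶ u.op ⋙ sheafify K E.pt := θ.hom
  have e3 : toSheafify J (u.op ⋙ E.pt) ≫ θh =
      Functor.whiskerLeft u.op (toSheafify K E.pt) := by
    have h1 : ((sheafificationAdjunction J (Type u)).homEquiv (u.op ⋙ E.pt)
      ((u.sheafPushforwardContinuous (Type u) J K).obj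
        ((presheafToSheaf K (Type u)).obj E.pt))) θ =
        Functor.whiskerLeft u.op (toSheafify K E.pt) := Equiv.apply_symm_apply _ _
    rw [Adjunction.homEquiv_unit] at h1
    exact h1
  have main : (Functor.whiskerLeft u.op (E.ι.app i) ≫ toSheafify J (u.op ⋙ E.pt)) ≫ θh =
      Functor.whiskerLeft u.op (E.ι.app i ≫ toSheafify K E.pt) := by
    rw [Category.assoc, e3]
    rfl
  change (c'.ι.app i).hom ≫ θ.hom = Functor.whiskerLeft u.op (c.ι.app i).hom
  rw [e1, e2]
  exact main

end Groth.Agent.S6440
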