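import Groth.Statements.S6442
import Mathlib.CategoryTheory.Sites.LocallyBijective
import Mathlib.CategoryTheory.Sites.LocallySurjective
import Mathlib.CategoryTheory.Sites.ConcreteSheafification
-- import your own Groth.Agent.* helpers here

set_option autoImplicit false
open CategoryTheory CategoryTheory.Limits Opposite
universe u
open SiteMisc

namespace Groth.Agent.S6442

section

variable {C : Type u} [SmallCategory C] (J : GrothendieckTopology C) {U : C}

/-- The index type of the arrows of a sieve. -/
abbrev Idx (S : Sieve U) : Type u := Σ V : C, {f : V ⟶ U // S f}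

/-- The coproduct of the representable presheaves of the domains of the arrows of `S`. -/
noncomputable abbrev P (S : Sieve U) : Cᵒᵖ ⥤ Type u := ∐ fun i : Idx S => yoneda.obj i.1

/-- The canonical map to the representable presheaf of `U`. -/
noncomputable abbrev π (S : Sieve U) : P S ⟶ yoneda.obj U :=
  Sigma.desc (fun i : Idx S => yoneda.map i.2.1)

lemma isLocallySurjective_π (S : Sieve U) (hS : S ∈ J U) :
    Presheaf.IsLocallySurjective J (π S) where
  imageSieve_mem {V} g := by
    let g' : V ⟶ U := g
    refine J.superset_covering ?_ (J.pullback_stable g' hS)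
    intro V' h hh
    refine ⟨(Sigma.ι (fun i : Idx S => yoneda.obj i.1) ⟨V', h ≫ g', hh⟩).app (op V') (𝟙 V'), ?_⟩
    have h1 : Sigma.ι (fun i : Idx S => yoneda.obj i.1) ⟨V', h ≫ g', hh⟩ ≫ π S =
        yoneda.map (h ≫ g') := Sigma.ι_desc _ _
    have h2 := congr_app h1 (op V')
    rw [NatTrans.comp_app] at h2
    have h3 := ConcreteCategory.congr_hom h2 (𝟙 V')
    rw [ConcreteCategory.comp_apply] at h3
    refine h3.trans ?_
    simp [g']

end


/-- An object `U` of a site is weakly contractible, i.e. for every covering sieve `S` the sheafified map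
`(∐_{V → U ∈ S} h_V)^# ⟶ h_U^#` has a section, if and only if taking sections over `U` turns
epimorphisms of sheaves of sets into surjections. (Coverings are taken as covering sieves; the
coproduct is formed in presheaves and then sheafified.) -/
theorem result {C : Type u} [SmallCategory C] (J : GrothendieckTopology C) (U : C) :
    (∀ S : Sieve U, S ∈ J U →
      IsSplitEpi ((presheafToSheaf J (Type u)).map
        (Sigma.desc (fun i : (Σ V : C, {f : V ⟶ U // S f}) => yoneda.map i.2.1) :
          (∐ fun i : (Σ V : C, {f : V ⟶ U // S f}) => yoneda.obj i.1) ⟶ yoneda.obj U))) ↔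
    ∀ (F G : Sheaf J (Type u)) (φ : F ⟶ G), Epi φ → Function.Surjective (φ.hom.app (op U)) := by
  have adj := sheafificationAdjunction J (Type u)
  constructor
  · intro hU F G φ hφ s
    have hls : Sheaf.IsLocallySurjective φ := (Sheaf.isLocallySurjective_iff_epi φ).2 hφ
    let S : Sieve U := Presheaf.imageSieve φ.hom s
    have hS : S ∈ J U := Presheaf.imageSieve_mem J φ.hom (U := op U) s
    obtain ⟨⟨σ, hσ⟩⟩ := hU S hS
    let t : ∀ i : Idx S, F.obj.obj (op i.1) :=
      fun i => Presheaf.localPreimage φ.hom (U := op U) s i.2.1 i.2.2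
    have ht : ∀ i, φ.hom.app _ (t i) = G.obj.map i.2.1.op s :=
      fun i => Presheaf.app_localPreimage φ.hom (U := op U) s i.2.1 i.2.2
    let τ : P S ⟶ F.obj := Sigma.desc (fun i => yonedaEquiv.symm (t i))
    have hτ : τ ≫ φ.hom = π S ≫ yonedaEquiv.symm s := by
      apply Sigma.hom_ext
      intro i
      rw [Sigma.ι_desc_assoc, Sigma.ι_desc_assoc, yonedaEquiv_symm_naturality_right,
        yonedaEquiv_symm_naturality_left, ht]
    let τ' := (adj.homEquiv _ _).symm τ
    let s' := (adj.homEquiv _ _).symm (yonedaEquiv.symm s)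
    have h' : τ' ≫ φ = (presheafToSheaf J (Type u)).map (π S) ≫ s' := by
      rw [← adj.homEquiv_naturality_right_symm, ← adj.homEquiv_naturality_left_symm]
      congr 1
    refine ⟨yonedaEquiv (adj.homEquiv _ _ (σ ≫ τ')), ?_⟩
    rw [← yonedaEquiv_comp]
    have key : adj.homEquiv _ _ (σ ≫ τ') ≫ φ.hom = yonedaEquiv.symm s := by
      have e1 := adj.homEquiv_naturality_right (σ ≫ τ') φ
      rw [show adj.homEquiv _ _ (σ ≫ τ') ≫ φ.hom = adj.homEquiv _ _ ((σ ≫ τ') ≫ φ) from e1.symm]
      rw [Category.assoc, h', ← Category.assoc, hσ, Category.id_comp]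
      exact (adj.homEquiv _ _).apply_symm_apply _
    rw [key, Equiv.apply_symm_apply]
  · intro H S hS
    have hls : Presheaf.IsLocallySurjective J (π S) := isLocallySurjective_π J S hS
    have hls' : Sheaf.IsLocallySurjective ((presheafToSheaf J (Type u)).map (π S)) :=
      (Presheaf.isLocallySurjective_presheafToSheaf_map_iff J (π S)).2 hls
    have hepi : Epi ((presheafToSheaf J (Type u)).map (π S)) := inferInstance
    obtain ⟨y, hy⟩ := H _ _ _ hepi
      (yonedaEquiv (adj.homEquiv _ _ (𝟙 ((presheafToSheaf J (Type u)).obj (yoneda.obj U)))))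
    refine ⟨⟨⟨(adj.homEquiv _ _).symm (yonedaEquiv.symm y), ?_⟩⟩⟩
    apply (adj.homEquiv _ _).injective
    rw [adj.homEquiv_naturality_right, Equiv.apply_symm_apply, yonedaEquiv_symm_naturality_right]
    rw [show ((sheafToPresheaf J (Type u)).map ((presheafToSheaf J (Type u)).map (π S))).app
      (op U) y = _ from hy]
    exact yonedaEquiv.symm_apply_apply _

end Groth.Agent.S6442
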