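import Groth.Statements.S6443
import Mathlib.CategoryTheory.Limits.Preserves.Shapes.Terminal
import Mathlib.CategoryTheory.Limits.Constructions.Over.Basic
import Mathlib.CategoryTheory.Adjunction.Limits
-- import your own Groth.Agent.* helpers here

set_option autoImplicit false
open CategoryTheory
universe v u
open FibCat

namespace Groth.Agent.S6443

variable {C : Type u} [Category.{v} C]

section Plain

variable {X X' : C} (F : Over X' ⥤ Over X) (hF : F ⋙ Over.forget X = Over.forget X')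

include hF in
lemma obj_left (a : Over X') : (F.obj a).left = a.left :=
  Functor.congr_obj hF a

/-- The morphism `X' ⟶ X` attached to a functor `C/X' ⥤ C/X` over `C`. -/
noncomputable def baseHom : X' ⟶ X :=
  eqToHom (obj_left F hF (Over.mk (𝟙 X'))).symm ≫ (F.obj (Over.mk (𝟙 X'))).hom

lemma map_left {a b : Over X'} (φ : a ⟶ b) :
    (F.map φ).left = eqToHom (obj_left F hF a) ≫ φ.left ≫ eqToHom (obj_left F hF b).symm :=
  Functor.congr_hom hF φ

lemma obj_hom (a : Over X') :
    (F.obj a).hom = eqToHom (obj_left F hF a) ≫ a.hom ≫ baseHom F hF := by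
  let φ : a ⟶ Over.mk (𝟙 X') := Over.homMk a.hom
  have h1 := Over.w (F.map φ)
  rw [map_left F hF] at h1
  rw [← h1]
  simp only [baseHom, φ, Over.homMk_left, Over.mk_left, Category.assoc]

/-- A functor `C/X' ⥤ C/X` over `C` is isomorphic to `Over.map` of its base morphism. -/
noncomputable def isoOverMap : F ≅ Over.map (baseHom F hF) :=
  NatIso.ofComponents
    (fun a => Over.isoMk (eqToIso (obj_left F hF a)) (by
      rw [obj_hom F hF a]; simp))
    (fun {a b} φ => by
      apply Over.OverMorphism.ext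
      simp [map_left F hF])

lemma isoOverMap_hom_app_left (a : Over X') :
    ((isoOverMap F hF).hom.app a).left = eqToHom (obj_left F hF a) := rfl

lemma isoOverMap_isHomLift (a : Over X') :
    (Over.forget X).IsHomLift (𝟙 ((Over.forget X').obj a)) ((isoOverMap F hF).hom.app a) := by
  apply IsHomLift.of_fac _ _ _ (obj_left F hF a) rfl
  change 𝟙 a.left = eqToHom (obj_left F hF a).symm ≫ eqToHom (obj_left F hF a) ≫ 𝟙 a.left
  simp

end Plain

/-- If a category `𝒮` fibred in groupoids over `C` is represented by `X` via `j : 𝒮 ⟶ C/X` and by `X'`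
via `j' : 𝒮 ⟶ C/X'` (equivalences over `C`), then there is an isomorphism `X' ≅ X` under which `j'`
becomes 2-isomorphic to `j` over `C`. -/
theorem result {C : Type u} [Category.{v} C] {𝒮 : BasedCategory.{v, max u v} C} (h𝒮 : FibCat.IsFibGrpd 𝒮.p)
    {X X' : C} (j : 𝒮 ⥤ᵇ FibCat.overCat X) (j' : 𝒮 ⥤ᵇ FibCat.overCat X') (hj : FibCat.IsEquivOver j) (hj' : FibCat.IsEquivOver j') :
    ∃ e : X' ≅ X, Nonempty (BasedFunctor.comp j' (⟨Over.map e.hom, Over.mapForget_eq e.hom⟩ : FibCat.overCat X' ⥤ᵇ FibCat.overCat X) ≅ j) := by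
  obtain ⟨k, ⟨e₁⟩, ⟨e₂⟩⟩ := hj
  obtain ⟨k', ⟨e₁'⟩, ⟨e₂'⟩⟩ := hj'
  let F : Over X' ⥤ Over X := k'.toFunctor ⋙ j.toFunctor
  have hF : F ⋙ Over.forget X = Over.forget X' := (BasedFunctor.comp k' j).w
  have hjE : j.toFunctor.IsEquivalence :=
    (CategoryTheory.Equivalence.mk j.toFunctor k.toFunctor
      ((BasedNatTrans.forgetful _ _).mapIso e₁).symm
      ((BasedNatTrans.forgetful _ _).mapIso e₂)).isEquivalence_functor
  have hkE : k'.toFunctor.IsEquivalence :=
    (CategoryTheory.Equivalence.mk k'.toFunctor j'.toFunctor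
      ((BasedNatTrans.forgetful _ _).mapIso e₂').symm
      ((BasedNatTrans.forgetful _ _).mapIso e₁')).isEquivalence_functor
  have hFE : F.IsEquivalence := by
    have := hjE; have := hkE
    exact Functor.isEquivalence_trans k'.toFunctor j.toFunctor
  let e : X' ⟶ X := baseHom F hF
  have hME : (Over.map e).IsEquivalence := Functor.isEquivalence_of_iso (isoOverMap F hF)
  have hT : Limits.IsTerminal ((Over.map e).obj (Over.mk (𝟙 X'))) :=
    Limits.IsTerminal.isTerminalObj (Over.map e) _ Over.mkIdTerminal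
  let i := hT.uniqueUpToIso (Over.mkIdTerminal (X := X))
  have hi : i.hom.left = e := by
    have := Over.w i.hom
    simpa using this
  have he : IsIso e := by
    rw [← hi]
    exact (inferInstance : IsIso ((Over.forget X).mapIso i).hom)
  let M : FibCat.overCat X' ⥤ᵇ FibCat.overCat X := ⟨Over.map e, Over.mapForget_eq e⟩
  let β : BasedFunctor.comp k' j ≅ M :=
    BasedNatIso.mkNatIso (isoOverMap F hF) (fun a => isoOverMap_isHomLift F hF a)
  refine ⟨asIso e, ⟨?_⟩⟩
  let j₁ : 𝒮 ⟶ FibCat.overCat X := j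
  let j₁' : 𝒮 ⟶ FibCat.overCat X' := j'
  let k₁' : FibCat.overCat X' ⟶ 𝒮 := k'
  let M₁ : FibCat.overCat X' ⟶ FibCat.overCat X := M
  let β₁ : k₁' ≫ j₁ ≅ M₁ := β
  let ε₁ : j₁' ≫ k₁' ≅ 𝟙 𝒮 := e₁'
  have res : j₁' ≫ M₁ ≅ j₁ :=
    Bicategory.whiskerLeftIso j₁' β₁.symm ≪≫ (Bicategory.associator j₁' k₁' j₁).symm ≪≫
      Bicategory.whiskerRightIso ε₁ j₁ ≪≫ Bicategory.leftUnitor j₁
  exact res

end Groth.Agent.S6443
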