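import Groth.Statements.S6446
import Mathlib.CategoryTheory.Limits.Types.Filtered
-- import your own Groth.Agent.* helpers here

set_option autoImplicit false
open CategoryTheory CategoryTheory.Limits Opposite
universe v u
open CatLim

namespace Groth.Agent.S6446

/-- (2) ⇒ (1): over a filtered index category, a diagram `M` with a cocone `(X, M_i → X)` inducing
bijections `colim_i Mor(W, M_i) → Mor(W, X)` for all `W` is essentially constant as an ind-object
with value `X`. -/
theorem result {I : Type v} [SmallCategory I] [IsFiltered I] {C : Type u} [Category.{v} C]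
    (M : I ⥤ C) (c : Cocone M)
    (h : ∀ W : C, Function.Bijective (colimit.desc (M ⋙ coyoneda.obj (op W)) ((coyoneda.obj (op W)).mapCocone c))) :
    CatLim.IsEssConstInd M c := by
  obtain ⟨x, hx⟩ := (h c.pt).2 (𝟙 c.pt)
  obtain ⟨i, (s : c.pt ⟶ M.obj i), rfl⟩ := Types.jointly_surjective' x
  have hs : s ≫ c.ι.app i = 𝟙 c.pt := by
    have := ConcreteCategory.congr_hom (colimit.ι_desc ((coyoneda.obj (op c.pt)).mapCocone c) i) s
    simpa using this.symm.trans hx
  refine ⟨i, s, hs, fun j => ?_⟩
  let y : M.obj j ⟶ M.obj i := c.ι.app j ≫ s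
  have key : colimit.ι (M ⋙ coyoneda.obj (op (M.obj j))) j (𝟙 (M.obj j)) =
      colimit.ι (M ⋙ coyoneda.obj (op (M.obj j))) i y := by
    apply (h (M.obj j)).1
    have h1 := ConcreteCategory.congr_hom
      (colimit.ι_desc ((coyoneda.obj (op (M.obj j))).mapCocone c) j) (𝟙 (M.obj j))
    have h2 := ConcreteCategory.congr_hom
      (colimit.ι_desc ((coyoneda.obj (op (M.obj j))).mapCocone c) i) y
    rw [ConcreteCategory.comp_apply] at h1 h2
    rw [h1, h2]
    simp [y, hs]
  rw [Types.FilteredColimit.colimit_eq_iff] at key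
  obtain ⟨k, f, g, hk⟩ := key
  refine ⟨k, g, f, ?_⟩
  simpa [y] using hk

end Groth.Agent.S6446
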