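import Groth.Statements.S6447
-- import your own Groth.Agent.* helpers here

set_option autoImplicit false
open CategoryTheory CategoryTheory.Limits
universe v u
open FibCat

namespace Groth.Agent.S6447

open CategoricalPullback

noncomputable section

variable {X Y V : Type u} [Category.{v} X] [Category.{v} Y] [Category.{v} V] (p : X ⥤ Y) (q : V ⥤ Y)

/-- The diagonal of `U = X ×_Y V` over `V`. -/
abbrev diagU : CategoricalPullback p q ⥤ CategoricalPullback (π₂ p q) (π₂ p q) :=
  (CatCommSqOver.toFunctorToCategoricalPullback (π₂ p q) (π₂ p q)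
    (CategoricalPullback p q)).obj ⟨𝟭 _, 𝟭 _, Iso.refl _⟩

/-- The diagonal of `X` over `Y`. -/
abbrev diagX : X ⥤ CategoricalPullback p p :=
  (CatCommSqOver.toFunctorToCategoricalPullback p p X).obj ⟨𝟭 _, 𝟭 _, Iso.refl _⟩

/-- The morphism of cospans inducing `U ×_V U ⥤ X ×_Y X`. -/
abbrev psi : CatCospanTransform (π₂ p q) (π₂ p q) p p :=
  ⟨π₁ p q, q, π₁ p q, ⟨(CatCommSq.iso (π₁ p q) (π₂ p q) p q).symm⟩,
    ⟨(CatCommSq.iso (π₁ p q) (π₂ p q) p q).symm⟩⟩

/-- The induced functor `U ×_V U ⥤ X ×_Y X`. -/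
abbrev mapG : CategoricalPullback (π₂ p q) (π₂ p q) ⥤ CategoricalPullback p p :=
  FibCat.categoricalPullbackMap (psi p q)

lemma mapG_obj_fst (w : CategoricalPullback (π₂ p q) (π₂ p q)) :
    ((mapG p q).obj w).fst = w.fst.fst := rfl

lemma mapG_obj_snd (w : CategoricalPullback (π₂ p q) (π₂ p q)) :
    ((mapG p q).obj w).snd = w.snd.fst := rfl

lemma mapG_map_fst {w w' : CategoricalPullback (π₂ p q) (π₂ p q)} (f : w ⟶ w') :
    ((mapG p q).map f).fst = f.fst.fst := rfl

lemma mapG_map_snd {w w' : CategoricalPullback (π₂ p q) (π₂ p q)} (f : w ⟶ w') :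
    ((mapG p q).map f).snd = f.snd.fst := rfl

/-- The structural isomorphism of an object of `U ×_V U`, with normalised type. -/
def isoV (w : CategoricalPullback (π₂ p q) (π₂ p q)) : w.fst.snd ≅ w.snd.snd := w.iso

lemma mapG_obj_iso_hom (w : CategoricalPullback (π₂ p q) (π₂ p q)) :
    ((mapG p q).obj w).iso.hom =
      w.fst.iso.hom ≫ q.map (isoV p q w).hom ≫ w.snd.iso.inv := by
  simp [mapG, psi, FibCat.categoricalPullbackMap]
  rfl

/-- The filling 2-isomorphism. -/
def eIso : π₁ p q ⋙ diagX p ≅ diagU p q ⋙ mapG p q :=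
  NatIso.ofComponents
    (fun u => CategoricalPullback.mkIso (Iso.refl _) (Iso.refl _) (by
      change p.map (𝟙 u.fst) ≫ ((mapG p q).obj ((diagU p q).obj u)).iso.hom =
        𝟙 _ ≫ p.map (𝟙 u.fst)
      rw [mapG_obj_iso_hom]
      change p.map (𝟙 u.fst) ≫ u.iso.hom ≫ q.map (𝟙 u.snd) ≫ u.iso.inv = 𝟙 _ ≫ p.map (𝟙 u.fst)
      simp))
    (fun {u u'} f => by
      apply CategoricalPullback.hom_ext
      · change f.fst ≫ 𝟙 _ = 𝟙 _ ≫ f.fst
        simp
      · change f.fst ≫ 𝟙 _ = 𝟙 _ ≫ f.fst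
        simp)

/-- The comparison functor. -/
abbrev phi : CategoricalPullback p q ⥤ CategoricalPullback (diagX p) (mapG p q) :=
  (CatCommSqOver.toFunctorToCategoricalPullback (diagX p) (mapG p q)
    (CategoricalPullback p q)).obj ⟨π₁ p q, diagU p q, eIso p q⟩

lemma phi_faithful : (phi p q).Faithful where
  map_injective {u u'} f g h := by
    have := congrArg (fun k => k.snd.fst) h
    exact this

lemma phi_full : (phi p q).Full where
  map_surjective {u u'} h := by
    have hw := h.w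
    have h1 : h.fst = h.snd.fst.fst := by
      have := congrArg (fun k => k.fst) hw
      change h.fst ≫ 𝟙 _ = 𝟙 _ ≫ h.snd.fst.fst at this
      simpa using this
    have h2 : h.fst = h.snd.snd.fst := by
      have := congrArg (fun k => k.snd) hw
      change h.fst ≫ 𝟙 _ = 𝟙 _ ≫ h.snd.snd.fst at this
      simpa using this
    have h3 : h.snd.fst.snd = h.snd.snd.snd := by
      have := h.snd.w
      change h.snd.fst.snd ≫ 𝟙 _ = 𝟙 _ ≫ h.snd.snd.snd at this
      simpa using this
    have h4 : h.snd.fst = h.snd.snd := CategoricalPullback.hom_ext (h1.symm.trans h2) h3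
    refine ⟨h.snd.fst, ?_⟩
    apply CategoricalPullback.hom_ext
    · exact h1.symm
    · apply CategoricalPullback.hom_ext
      · rfl
      · exact h4

lemma phi_essSurj : (phi p q).EssSurj where
  mem_essImage z := by
    let γ₁ : z.fst ≅ z.snd.fst.fst := (π₁ p p).mapIso z.iso
    let γ₂ : z.fst ≅ z.snd.snd.fst := (π₂ p p).mapIso z.iso
    have cw : p.map γ₁.hom ≫ ((mapG p q).obj z.snd).iso.hom = p.map γ₂.hom := by
      have := z.iso.hom.w
      change p.map γ₁.hom ≫ ((mapG p q).obj z.snd).iso.hom = 𝟙 _ ≫ p.map γ₂.hom at this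
      simpa using this
    rw [mapG_obj_iso_hom] at cw
    replace cw : p.map γ₁.hom ≫ z.snd.fst.iso.hom ≫ q.map (isoV p q z.snd).hom ≫
        z.snd.snd.iso.inv = p.map γ₂.hom := cw
    have hβ : p.map (γ₁.symm ≪≫ γ₂).hom ≫ z.snd.snd.iso.hom =
        z.snd.fst.iso.hom ≫ q.map (isoV p q z.snd).hom := by
      have h0 : p.map γ₁.inv ≫ p.map γ₁.hom = 𝟙 _ := by
        rw [← Functor.map_comp, Iso.inv_hom_id, Functor.map_id]
      have h1 : p.map (γ₁.symm ≪≫ γ₂).hom = p.map γ₁.inv ≫ p.map γ₂.hom := by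
        simp only [Iso.trans_hom, Iso.symm_hom, Functor.map_comp]
      rw [h1, ← cw]
      simp only [Category.assoc, Iso.inv_hom_id, Category.comp_id]
      rw [← Category.assoc, h0, Category.id_comp]
    let β : z.snd.fst ≅ z.snd.snd :=
      CategoricalPullback.mkIso (γ₁.symm ≪≫ γ₂) (isoV p q z.snd) hβ
    let eᵣ : (diagU p q).obj z.snd.fst ≅ z.snd :=
      CategoricalPullback.mkIso (Iso.refl _) β (by
        change 𝟙 z.snd.fst.snd ≫ (isoV p q z.snd).hom = 𝟙 _ ≫ (isoV p q z.snd).hom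
        rfl)
    refine ⟨z.snd.fst, ⟨CategoricalPullback.mkIso γ₁.symm eᵣ ?_⟩⟩
    apply CategoricalPullback.hom_ext
    · change γ₁.inv ≫ γ₁.hom = 𝟙 _ ≫ 𝟙 _
      simp
    · change γ₁.inv ≫ γ₂.hom = 𝟙 _ ≫ (γ₁.inv ≫ γ₂.hom)
      simp

lemma phi_isEquivalence : (phi p q).IsEquivalence where
  faithful := phi_faithful p q
  full := phi_full p q
  essSurj := phi_essSurj p q

end


/-- For a 2-fibre product `U = X ×_Y V` of categories, the square formed by `U ⟶ X`, the diagonals `U ⟶
U ×_V U`, `X ⟶ X ×_Y X` and the induced functor `U ×_V U ⟶ X ×_Y X` is 2-cartesian. (The filling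
2-isomorphism is the one whose two components at every object are identities; it exists and is
unique with that property.) -/
theorem result {X Y V : Type u} [Category.{v} X] [Category.{v} Y] [Category.{v} V] (p : X ⥤ Y) (q : V ⥤ Y) :
    ∃ e, (∀ u, (e.hom.app u).fst = 𝟙 _ ∧ (e.hom.app u).snd = 𝟙 _) ∧ FibCat.IsTwoCart
      (CategoricalPullback.π₁ p q)
      ((CategoricalPullback.CatCommSqOver.toFunctorToCategoricalPullback (CategoricalPullback.π₂ p q) (CategoricalPullback.π₂ p q) (CategoricalPullback p q)).obj ⟨𝟭 _, 𝟭 _, Iso.refl _⟩)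
      ((CategoricalPullback.CatCommSqOver.toFunctorToCategoricalPullback p p X).obj ⟨𝟭 _, 𝟭 _, Iso.refl _⟩)
      (FibCat.categoricalPullbackMap (⟨CategoricalPullback.π₁ p q, q, CategoricalPullback.π₁ p q, ⟨(CatCommSq.iso (CategoricalPullback.π₁ p q) (CategoricalPullback.π₂ p q) p q).symm⟩, ⟨(CatCommSq.iso (CategoricalPullback.π₁ p q) (CategoricalPullback.π₂ p q) p q).symm⟩⟩ : CatCospanTransform (CategoricalPullback.π₂ p q) (CategoricalPullback.π₂ p q) p p))
      e := by
  refine ⟨eIso p q, fun u => ⟨rfl, rfl⟩, ?_⟩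
  exact phi_isEquivalence p q

end Groth.Agent.S6447
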