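import Groth.Statements.S6453
import Mathlib
import Groth.Agent.Lib.Helper46.TorRegular
import Groth.Agent.Lib.Helper46.TorPrime
import Groth.Agent.Lib.Helper91.StalkIdeal

set_option autoImplicit false
universe u
open CategoryTheory AlgebraicGeometry
attribute [local instance] HasDerivedCategory.standard
open IntMult

namespace Groth.Agent.S6453

open CategoryTheory.Limits Groth.Agent.Lib.Helper46 Groth.Agent.Lib.Helper46.TorShift Groth.Agent.Lib.Helper46.TorRegular

/-- `(A/J) ⊗ (A/(g)) ≃ A/(J ⊔ (g))`. -/
noncomputable def tensorQuotEquiv {A : Type u} [CommRing A] (J K : Ideal A) :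
    TensorProduct A (A ⧸ J) (A ⧸ K) ≃ₗ[A] (A ⧸ (J ⊔ K)) := by
  refine (TensorProduct.quotTensorEquivQuotSMul (A ⧸ K) J) ≪≫ₗ ?_
  have h : (J • (⊤ : Submodule A (A ⧸ K))) = Submodule.map (Submodule.mkQ K) J := by
    have h1 : (⊤ : Submodule A (A ⧸ K)) = Submodule.map (Submodule.mkQ K) ⊤ := by
      rw [Submodule.map_top, Submodule.range_mkQ]
    rw [h1, ← Submodule.map_smul'']
    congr 1
    exact Ideal.mul_top J
  refine (Submodule.quotEquivOfEq _ _ h) ≪≫ₗ ?_
  refine (Submodule.quotientQuotientEquivQuotientSup K J) ≪≫ₗ ?_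
  exact Submodule.quotEquivOfEq _ _ (sup_comm _ _)

theorem tor_subsingleton {A : Type u} [CommRing A] (J : Ideal A) [J.IsPrime] (g : A)
    (hreg : IsSMulRegular A g) (hgJ : g ∉ J) (i : ℕ) (hi : i ≠ 0) :
    Subsingleton (DRing.Tor A i (A ⧸ J) (A ⧸ Ideal.span {g})) := by
  have hw : RingTheory.Sequence.IsWeaklyRegular A [g] :=
    (RingTheory.Sequence.isWeaklyRegular_singleton_iff A g).mpr hreg
  obtain ⟨hvan, ⟨e⟩⟩ := tor_quot_regular (A ⧸ J) [g] hw
  have hof : Ideal.ofList [g] = Ideal.span {g} := Ideal.ofList_singleton g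
  rw [hof] at hvan e
  have hz : IsZero (T A i (A ⧸ Ideal.span {g}) (A ⧸ J)) := by
    rcases Nat.lt_or_ge 1 i with h1 | h1
    · exact hvan i (by simpa using h1)
    · have hi1 : i = 1 := by omega
      subst hi1
      have : Subsingleton ((A ⧸ Ideal.span {g}) →ₗ[A] (A ⧸ J)) := by
        constructor
        intro φ ψ
        have key : ∀ χ : (A ⧸ Ideal.span {g}) →ₗ[A] (A ⧸ J), χ = 0 := by
          intro χ
          have h1 : χ (Ideal.Quotient.mk _ 1) = 0 := by
            have h2 : g • χ (Ideal.Quotient.mk _ 1) = 0 := by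
              rw [← map_smul]
              have : g • (Ideal.Quotient.mk (Ideal.span {g}) 1) = 0 := by
                rw [Algebra.smul_def, map_one, mul_one]
                exact Ideal.Quotient.eq_zero_iff_mem.mpr (Ideal.mem_span_singleton_self g)
              rw [this, map_zero]
            obtain ⟨a, ha⟩ := Ideal.Quotient.mk_surjective (χ (Ideal.Quotient.mk _ 1))
            rw [← ha, Algebra.smul_def] at h2
            change Ideal.Quotient.mk J g * Ideal.Quotient.mk J a = 0 at h2
            rw [← map_mul, Ideal.Quotient.eq_zero_iff_mem] at h2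
            rcases Ideal.IsPrime.mem_or_mem ‹_› h2 with h3 | h3
            · exact absurd h3 hgJ
            · rw [← ha]; exact Ideal.Quotient.eq_zero_iff_mem.mpr h3
          refine LinearMap.ext fun x => ?_
          obtain ⟨a, rfl⟩ := Ideal.Quotient.mk_surjective x
          have : Ideal.Quotient.mk (Ideal.span {g}) a = a • Ideal.Quotient.mk _ 1 := by
            rw [Algebra.smul_def, map_one, mul_one]; rfl
          rw [this, map_smul, h1, smul_zero]; rfl
        rw [key φ, key ψ]
      have hs : Subsingleton (T A 1 (A ⧸ Ideal.span {g}) (A ⧸ J)) := e.toEquiv.subsingleton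
      exact ModuleCat.isZero_of_subsingleton _
  have hz' : IsZero (T A i (A ⧸ J) (A ⧸ Ideal.span {g})) :=
    hz.of_iso (TorPrime.torSymm _ _ i)
  exact ModuleCat.subsingleton_of_isZero hz'

theorem chi_quot_span_singleton {A : Type u} [CommRing A] (J : Ideal A) [J.IsPrime] (g : A)
    (hreg : IsSMulRegular A g) (hgJ : g ∉ J) :
    IntMult.chi A (A ⧸ J) (A ⧸ Ideal.span {g}) =
      (Module.length A (A ⧸ (J ⊔ Ideal.span {g}))).toNat := by
  unfold IntMult.chi
  rw [finsum_eq_single _ 0]
  · simp only [pow_zero, one_mul]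
    congr 2
    exact LinearEquiv.length_eq ((torZeroEquiv (A ⧸ J) (A ⧸ Ideal.span {g})) ≪≫ₗ tensorQuotEquiv J _)
  · intro i hi
    haveI := tor_subsingleton J g hreg hgJ i hi
    rw [Module.length_eq_zero]
    simp


open TopologicalSpace Order in
theorem dim_succ_le {X : Type*} [TopologicalSpace X] [IrreducibleSpace X] (V : Set X)
    (hV : IsClosed V) (hne : V ≠ Set.univ) (r : ℕ) (hr : topologicalKrullDim V = r) :
    ((r + 1 : ℕ) : WithBot ℕ∞) ≤ topologicalKrullDim X := by
  unfold topologicalKrullDim at hr ⊢
  obtain ⟨p, hp⟩ := (Order.le_krullDim_iff).mp (le_of_eq hr.symm)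
  have hind : Topology.IsInducing (Subtype.val : V → X) := Topology.IsInducing.subtypeVal
  have hf : StrictMono (IrreducibleCloseds.map (Subtype.val : V → X) hind.continuous) :=
    IrreducibleCloseds.map_strictMono_of_isInducing hind
  let top : IrreducibleCloseds X := ⟨Set.univ, IrreducibleSpace.isIrreducible_univ X, isClosed_univ⟩
  have hlt : (p.map _ hf).last < top := by
    rw [lt_iff_le_and_ne]
    refine ⟨fun x _ => Set.mem_univ x, ?_⟩
    intro h
    apply hne
    have h1 : ((p.map _ hf).last : Set X) = Set.univ := congrArg (fun c : IrreducibleCloseds X => (c : Set X)) h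
    have h2 : ((p.map _ hf).last : Set X) ⊆ V := by
      rw [LTSeries.last_map]
      change closure (Subtype.val '' (p.last : Set V)) ⊆ V
      apply closure_minimal _ hV
      rintro _ ⟨x, -, rfl⟩
      exact x.2
    exact Set.eq_univ_of_univ_subset (h1 ▸ h2)
  have := LTSeries.length_le_krullDim ((p.map _ hf).snoc top hlt)
  rw [RelSeries.snoc_length, LTSeries.map_length, hp] at this
  exact_mod_cast this


/-- Suppose the ideal of V in O_{X,ξ} is generated by a single nonzerodivisor g (c = 1: V is an
effective Cartier divisor at ξ). Then e(X, V·W, Z) = length_{O_{X,ξ}}(O_{W,ξ}/g O_{W,ξ}), i.e. the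
length of O_{X,ξ}/(I_{W,ξ} + (g)). Here X is a nonsingular variety over an algebraically closed
field K (smooth, separated, quasi-compact, integral), V and W are closed subvarieties given by
quasi-coherent ideal sheaves with integral subschemes, of dimensions r and s with dim X = n,
intersecting properly, and ξ is the generic point of an irreducible component Z of V ∩ W (a point of
V ∩ W maximal under specialization); e(X, V·W, Z) = IntMult.mult is the alternating sum of lengths
of Tor over O_{X,ξ}, and O_{W,ξ} = O_{X,ξ}/I_{W,ξ}. -/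
theorem result (K : Type u) [Field K] [IsAlgClosed K] (X : Scheme.{u}) (f : X ⟶ Spec (CommRingCat.of K)) [Smooth f] [IsSeparated f] [QuasiCompact f] [IsIntegral X] (IV IW : X.IdealSheafData) [IsIntegral IV.subscheme] [IsIntegral IW.subscheme] (n r s : ℕ) (hn : topologicalKrullDim X = n) (hr : topologicalKrullDim IV.support = r) (hs : topologicalKrullDim IW.support = s) (hprop : IntMult.ProperInt (IV.support : Set X) (IW.support : Set X) n r s) (ξ : X) (hξV : ξ ∈ IV.support) (hξW : ξ ∈ IW.support) (hmax : ∀ ξ' : X, ξ' ∈ IV.support → ξ' ∈ IW.support → ξ' ⤳ ξ → ξ' = ξ) (g : ↑(X.presheaf.stalk ξ)) (hg : IntMult.stalkIdeal IV ξ = Ideal.span {g}) (hreg : IsSMulRegular (↑(X.presheaf.stalk ξ)) g) : (IntMult.mult IV IW ξ : ℤ) = (Module.length (X.presheaf.stalk ξ) (↑(X.presheaf.stalk ξ) ⧸ (IntMult.stalkIdeal IW ξ ⊔ Ideal.span {g}))).toNat := by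
  classical
  have hspW := Groth.Agent.Lib.Helper91.IntegralSub.genericPoint_specializes_of_mem_support IW hξW
  have hJ : IntMult.stalkIdeal IW ξ = Groth.Agent.Lib.Helper91.GenPrime.primeOf hspW :=
    Groth.Agent.Lib.Helper91.StalkIdeal.stalkIdeal_eq_primeOf IW hξW
  haveI hJp : (IntMult.stalkIdeal IW ξ).IsPrime := by rw [hJ]; infer_instance
  have hgJ : g ∉ IntMult.stalkIdeal IW ξ := by
    intro hmem
    have hle : IntMult.stalkIdeal IV ξ ≤ IntMult.stalkIdeal IW ξ := by
      rw [hg, Ideal.span_singleton_le_iff_mem]; exact hmem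
    have hηV : IW.subschemeι (genericPoint IW.subscheme) ∈ IV.support := by
      by_contra hnot
      have htop := (Groth.Agent.Lib.Helper91.StalkIdeal.stalkIdeal_eq_top_iff IV _).mpr hnot
      have hmap := Groth.Agent.Lib.Helper91.StalkIdeal.map_stalkSpecializes IV hspW
      have h1 : (Groth.Agent.Lib.Helper91.StalkIdeal.stalkIdeal IV ξ).map
          (X.presheaf.stalkSpecializes hspW).hom ≤ IsLocalRing.maximalIdeal _ := by
        rw [Ideal.map_le_iff_le_comap]
        exact hle.trans (le_of_eq hJ)
      rw [hmap, htop] at h1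
      exact (IsLocalRing.maximalIdeal.isMaximal _).ne_top (top_le_iff.mp h1)
    have hWV : (IW.support : Set X) ⊆ IV.support := fun x hx =>
      (Groth.Agent.Lib.Helper91.IntegralSub.genericPoint_specializes_of_mem_support IW hx).mem_closed
        IV.support.isClosed hηV
    obtain ⟨hn1, hdim⟩ := hprop ⟨ξ, hξV, hξW⟩
    have hinter : (IV.support : Set X) ∩ IW.support = IW.support := Set.inter_eq_right.mpr hWV
    rw [hinter] at hdim
    have hs' : topologicalKrullDim ↥(IW.support : Set X) = s := hs
    rw [hs'] at hdim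
    have hs2 : s ≤ r + s - n := by exact_mod_cast hdim
    have hne : (IV.support : Set X) ≠ Set.univ := by
      intro huniv
      have hspX : genericPoint X ⤳ ξ := (genericPoint_spec X).specializes trivial
      have hmemX : genericPoint X ∈ IV.support := by
        change genericPoint X ∈ (IV.support : Set X); rw [huniv]; trivial
      have hntop : Groth.Agent.Lib.Helper91.StalkIdeal.stalkIdeal IV (genericPoint X) ≠ ⊤ :=
        fun h => ((Groth.Agent.Lib.Helper91.StalkIdeal.stalkIdeal_eq_top_iff IV _).mp h) hmemX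
      rw [← Groth.Agent.Lib.Helper91.StalkIdeal.map_stalkSpecializes IV hspX] at hntop
      have hgIV : Groth.Agent.Lib.Helper91.StalkIdeal.stalkIdeal IV ξ = Ideal.span {g} := hg
      rw [hgIV, Ideal.map_span, Set.image_singleton] at hntop
      have h0 : (X.presheaf.stalkSpecializes hspX).hom g = 0 := by
        by_contra hne0
        apply hntop
        have hu : IsUnit ((X.presheaf.stalkSpecializes hspX).hom g : X.functionField) :=
          isUnit_iff_ne_zero.mpr hne0
        exact Ideal.span_singleton_eq_top.mpr hu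
      have hinj : Function.Injective (X.presheaf.stalkSpecializes hspX).hom :=
        IsFractionRing.injective (X.presheaf.stalk ξ) X.functionField
      have hg0 : g = 0 := hinj (by rw [h0, map_zero])
      have : (1 : X.presheaf.stalk ξ) = 0 := hreg (by simp [hg0])
      exact one_ne_zero this
    have hr' : topologicalKrullDim ↥(IV.support : Set X) = r := hr
    have h3 := dim_succ_le (IV.support : Set X) IV.support.isClosed hne r hr'
    rw [hn] at h3
    have h4 : r + 1 ≤ n := by exact_mod_cast h3
    omega
  have key : ∀ I : Ideal (X.presheaf.stalk ξ), I = Ideal.span {g} →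
      IntMult.chi (X.presheaf.stalk ξ) (X.presheaf.stalk ξ ⧸ IntMult.stalkIdeal IW ξ)
        (X.presheaf.stalk ξ ⧸ I) =
      (Module.length (X.presheaf.stalk ξ)
        (X.presheaf.stalk ξ ⧸ (IntMult.stalkIdeal IW ξ ⊔ Ideal.span {g}))).toNat := by
    rintro _ rfl
    exact chi_quot_span_singleton _ g hreg hgJ
  exact key _ hg

end Groth.Agent.S6453
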