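import Groth.Statements.S6454
import Mathlib
import Groth.Agent.Lib.Helper22.TensorOrd
import Groth.Agent.Lib.Helper22.C1Indep
-- import your own Groth.Agent.* helpers here

set_option autoImplicit false
universe u
open CategoryTheory AlgebraicGeometry
open Cyc

namespace Groth.Agent.S6454

section PRE
open Groth.Agent.Lib.Helper22.TensorOrd Groth.Agent.Lib.Helper22.C1Indep
open Groth.Agent.Lib.Helper22.FlatDiv (locQuot_conds)
open Groth.Agent.Lib.QCoh

theorem main (X : Scheme.{u}) (δ : X → ℤ) (hX : Cyc.IsSetup X δ) (L N : X.Modules)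
    (hL : PicF.IsInvertible L) (hN : PicF.IsInvertible N) (k : ℤ) (α : AlgebraicCycle X ℤ)
    (hα : α ∈ Cyc.Zk X δ (k + 1)) (sL : (ξ : X) → Cyc.secFibre L ξ) (hsL : ∀ ξ, sL ξ ≠ 0)
    (sN : (ξ : X) → Cyc.secFibre N ξ) (hsN : ∀ ξ, sN ξ ≠ 0)
    (sT : (ξ : X) → Cyc.secFibre (CohB1.tensorMod L N) ξ) (hsT : ∀ ξ, sT ξ ≠ 0)
    (γL γN γT : AlgebraicCycle X ℤ) (hγL : ⇑γL = Cyc.c1CapFun δ L ⇑α sL)
    (hγN : ⇑γN = Cyc.c1CapFun δ N ⇑α sN)
    (hγT : ⇑γT = Cyc.c1CapFun δ (CohB1.tensorMod L N) ⇑α sT) :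
    Cyc.RatEquiv δ k (γL + γN) γT := by
  haveI := hX.1
  have hδ := hX.2.2
  have hLN : PicF.IsInvertible (CohB1.tensorMod L N) := isInvertible_tensorMod hL hN
  choose w hw0 hw using fun ξ => exists_tensor_section hL hN ξ (sL ξ) (sN ξ) (hsL ξ) (hsN ξ)
  obtain ⟨ι, ξ, f, h1, h2, h3, h4⟩ := c1Cap_indep δ hδ hLN k α hα w sT hw0 hsT
  refine ⟨ι, ξ, f, h1, h2, h3, fun x => ?_⟩
  rw [← h4 x, Function.locallyFinsuppWithin.coe_sub, Function.locallyFinsuppWithin.coe_add]
  show γL x + γN x - γT x = _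
  rw [congrFun hγL x, congrFun hγN x, congrFun hγT x]
  congr 1
  unfold c1CapFun
  have hfin : ∀ (M : X.Modules) (σ : (ξ : X) → secFibre M ξ),
      (Function.support fun ξ : X => α ξ * secDivFun δ M ξ (σ ξ) x).Finite := by
    intro M σ
    refine (finite_gen_support α x).subset ?_
    intro ξ hξ
    have h0 : α ξ * secDivFun δ M ξ (σ ξ) x ≠ 0 := hξ
    exact ⟨left_ne_zero_of_mul h0, secDivFun_ne_zero δ ξ _ x (right_ne_zero_of_mul h0)⟩
  rw [← finsum_add_distrib (hfin L sL) (hfin N sN)]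
  apply finsum_congr
  intro ξ
  rw [← mul_add]
  congr 1
  unfold secDivFun
  by_cases h : ξ ⤳ x ∧ δ x + 1 = δ ξ
  · rw [dif_pos h, dif_pos h, dif_pos h]
    exact (hw ξ x h.1 (locQuot_conds δ hδ x ξ h.1 h.2)).symm
  · rw [dif_neg h, dif_neg h, dif_neg h, add_zero]

end PRE

/-- Let L, N be invertible O_X-modules and α a (k + 1)-cycle on X. Then c_1(L) ∩ α + c_1(N) ∩ α = c_1(L
⊗ N) ∩ α in CH_k(X): for any nonzero rational sections used to compute the three caps (the tensor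
product is CohB1.tensorMod), the sum of the first two k-cycles is rationally equivalent to the
third. Here L(ξ) = L_ξ/𝔪_ξ L_ξ is the space of rational sections of L on the closure of ξ,
div_{L|W}(s) and c_1(L) ∩ α are computed as coefficient functions from chosen nonzero rational
sections (Cyc.secDivFun, Cyc.c1CapFun), and results are compared up to rational equivalence for any
cycles with those coefficients. A pair (X, δ) with Cyc.IsSetup plays the role of a scheme locally of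
finite type over the base (S, δ) (X locally Noetherian with universally catenary local rings, δ a
dimension function). -/
theorem result (X : Scheme.{u}) (δ : X → ℤ) (hX : Cyc.IsSetup X δ) (L N : X.Modules) (hL : PicF.IsInvertible L) (hN : PicF.IsInvertible N) (k : ℤ) (α : AlgebraicCycle X ℤ) (hα : α ∈ Cyc.Zk X δ (k + 1)) (sL : (ξ : X) → Cyc.secFibre L ξ) (hsL : ∀ ξ, sL ξ ≠ 0) (sN : (ξ : X) → Cyc.secFibre N ξ) (hsN : ∀ ξ, sN ξ ≠ 0) (sT : (ξ : X) → Cyc.secFibre (CohB1.tensorMod L N) ξ) (hsT : ∀ ξ, sT ξ ≠ 0) (γL γN γT : AlgebraicCycle X ℤ) (hγL : ⇑γL = Cyc.c1CapFun δ L ⇑α sL) (hγN : ⇑γN = Cyc.c1CapFun δ N ⇑α sN) (hγT : ⇑γT = Cyc.c1CapFun δ (CohB1.tensorMod L N) ⇑α sT) : Cyc.RatEquiv δ k (γL + γN) γT := by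
  exact main X δ hX L N hL hN k α hα sL hsL sN hsN sT hsT γL γN γT hγL hγN hγT

end Groth.Agent.S6454
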