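import Groth.Statements.S6455
import Mathlib
import Groth.Agent.Lib.Helper22.TensorOrd
import Groth.Agent.Lib.Helper22.C1Indep
import Groth.Agent.Lib.Ample.Helper50_GenPow
-- import your own Groth.Agent.* helpers here

set_option autoImplicit false
universe u
open CategoryTheory AlgebraicGeometry
open Cyc

namespace Groth.Agent.S6455

section PRE
open Groth.Agent.Lib.Helper22.TensorOrd Groth.Agent.Lib.Helper22.C1Indep
open Groth.Agent.Lib.Helper22.InvStalk
open Groth.Agent.Lib.Helper22.FlatDiv (locQuot_conds)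
open Groth.Agent.Lib.QCoh Groth.Agent.Lib.Ample

theorem main (X : Scheme.{u}) (δ : X → ℤ) (hX : Cyc.IsSetup X δ) (k : ℤ)
    (α : AlgebraicCycle X ℤ) (hα : α ∈ Cyc.Zk X δ (k + 1))
    (s : (ξ : X) → Cyc.secFibre (Coh.structureModule X) ξ) (hs : ∀ ξ, s ξ ≠ 0)
    (γ : AlgebraicCycle X ℤ) (hγ : ⇑γ = Cyc.c1CapFun δ (Coh.structureModule X) ⇑α s) :
    Cyc.RatEquivZero δ k γ := by
  haveI := hX.1
  have hδ := hX.2.2
  have hO : PicF.IsInvertible (Coh.structureModule X) := isInvertible_structureModule X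
  have he := isGenerator_one (X := X) ⊤
  obtain ⟨e, hee⟩ : ∃ e : Γ(Coh.structureModule X, ⊤),
      e = (show Γ(Coh.structureModule X, ⊤) from (1 : Γ(X, ⊤))) := ⟨_, rfl⟩
  rw [← hee] at he
  obtain ⟨σ, hσdef⟩ : ∃ σ : (ξ : X) → secFibre (Coh.structureModule X) ξ, ∀ ξ, σ ξ =
      (Submodule.Quotient.mk ((Coh.structureModule X).presheaf.germ ⊤ ξ trivial e) :
        secFibre (Coh.structureModule X) ξ) := ⟨fun ξ => _, fun ξ => rfl⟩
  have hσ : ∀ ξ, σ ξ ≠ 0 := by
    intro ξ h0
    have hb := isBasis_germ hO he ξ trivial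
    have : (1 : X.presheaf.stalk ξ) ∈ IsLocalRing.maximalIdeal (X.presheaf.stalk ξ) := by
      apply hb.2
      rw [one_smul, ← hσdef ξ, h0]
    exact (Ideal.ne_top_iff_one _).mp (IsLocalRing.maximalIdeal.isMaximal _).ne_top this
  have hzero : ∀ ξ x, secDivFun δ (Coh.structureModule X) ξ (σ ξ) x = 0 := by
    intro ξ x
    unfold secDivFun
    by_cases h : ξ ⤳ x ∧ δ x + 1 = δ ξ
    · rw [dif_pos h]
      have es : σ ξ = (1 : X.presheaf.stalk ξ) • (Submodule.Quotient.mk
          ((Coh.structureModule X).presheaf.germ ⊤ ξ (h.1.mem_open (⊤ : X.Opens).isOpen trivial) e) :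
          secFibre (Coh.structureModule X) ξ) := by
        rw [one_smul, hσdef ξ]
      rw [secOrdAt_coord hO he h.1 trivial (locQuot_conds δ hδ x ξ h.1 h.2) (σ ξ) 1 es, map_one]
      have := ordAt_specMap_unit h.1 (1 : X.presheaf.stalk x) isUnit_one
      rwa [map_one] at this
    · rw [dif_neg h]
  obtain ⟨ι, ξ, f, h1, h2, h3, h4⟩ := c1Cap_indep δ hδ hO k α hα s σ hs hσ
  refine ⟨ι, ξ, f, h1, h2, h3, fun x => ?_⟩
  rw [← h4 x, congrFun hγ x]
  have : c1CapFun δ (Coh.structureModule X) (⇑α) σ x = 0 := by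
    unfold c1CapFun
    simp only [hzero, mul_zero, finsum_zero]
  rw [this, sub_zero]

end PRE

/-- c_1(O_X) ∩ α = 0 in CH_k(X) for every (k + 1)-cycle α: computed with any nonzero rational sections
of the structure sheaf, the k-cycle c_1(O_X) ∩ α is rationally equivalent to zero. Here L(ξ) =
L_ξ/𝔪_ξ L_ξ is the space of rational sections of L on the closure of ξ, div_{L|W}(s) and c_1(L) ∩ α
are computed as coefficient functions from chosen nonzero rational sections (Cyc.secDivFun,
Cyc.c1CapFun), and results are compared up to rational equivalence for any cycles with those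
coefficients. A pair (X, δ) with Cyc.IsSetup plays the role of a scheme locally of finite type over
the base (S, δ) (X locally Noetherian with universally catenary local rings, δ a dimension
function). -/
theorem result (X : Scheme.{u}) (δ : X → ℤ) (hX : Cyc.IsSetup X δ) (k : ℤ) (α : AlgebraicCycle X ℤ) (hα : α ∈ Cyc.Zk X δ (k + 1)) (s : (ξ : X) → Cyc.secFibre (Coh.structureModule X) ξ) (hs : ∀ ξ, s ξ ≠ 0) (γ : AlgebraicCycle X ℤ) (hγ : ⇑γ = Cyc.c1CapFun δ (Coh.structureModule X) ⇑α s) : Cyc.RatEquivZero δ k γ := by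
  exact main X δ hX k α hα s hs γ hγ

end Groth.Agent.S6455
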