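import Groth.Statements.S6460
import Mathlib.AlgebraicGeometry.Noetherian
import Mathlib.Topology.Sober
import Mathlib.Topology.NoetherianSpace

set_option autoImplicit false
universe u
open CategoryTheory AlgebraicGeometry
open Cyc

namespace Groth.Agent.S6460

section top

variable {α : Type*} [TopologicalSpace α]

/-- a point maximal under specialization in a quasi-sober space is a generic point of an
irreducible component -/
theorem mem_genericPoints_of_maximal [QuasiSober α] (ξ : α)
    (h : ∀ ξ' : α, ξ' ⤳ ξ → ξ' = ξ) : ξ ∈ genericPoints α := by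
  let Z : irreducibleComponents α := ⟨irreducibleComponent ξ, irreducibleComponent_mem_irreducibleComponents ξ⟩
  have hg := genericPoints.isGenericPoint_ofComponent Z
  have hξZ : ξ ∈ (Z : Set α) := mem_irreducibleComponent
  have hsp : (genericPoints.ofComponent Z).1 ⤳ ξ := by
    rw [specializes_iff_mem_closure, hg.def]
    exact hξZ
  have := h _ hsp
  rw [← this]
  exact (genericPoints.ofComponent Z).2

theorem maximal_of_mem_genericPoints [T0Space α] (ξ : α) (hξ : ξ ∈ genericPoints α) :
    ∀ ξ' : α, ξ' ⤳ ξ → ξ' = ξ := by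
  intro ξ' h
  have h1 : closure {ξ} ⊆ closure {ξ'} := h.closure_subset
  have h2 : IsIrreducible (closure ({ξ'} : Set α)) := isIrreducible_singleton.closure
  have h3 : closure {ξ'} ⊆ closure ({ξ} : Set α) := by
    have hmax : Maximal IsIrreducible (closure ({ξ} : Set α)) := hξ
    exact hmax.2 h2 h1
  have h4 : closure ({ξ'} : Set α) = closure {ξ} := le_antisymm h3 h1
  have : IsGenericPoint ξ' (closure {ξ}) := h4
  exact this.eq rfl

/-- every point has a maximal generization -/
theorem exists_maximal_generization [QuasiSober α] [T0Space α] (y : α) :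
    ∃ ξ : α, (∀ ξ' : α, ξ' ⤳ ξ → ξ' = ξ) ∧ ξ ⤳ y := by
  let Z : irreducibleComponents α := ⟨irreducibleComponent y, irreducibleComponent_mem_irreducibleComponents y⟩
  have hg := genericPoints.isGenericPoint_ofComponent Z
  refine ⟨(genericPoints.ofComponent Z).1, maximal_of_mem_genericPoints _ (genericPoints.ofComponent Z).2, ?_⟩
  rw [specializes_iff_mem_closure, hg.def]
  exact mem_irreducibleComponent

end top

/-- (3) ⇒ (1): suppose that for every x ∈ X there is an integer n_x with δ(ξ) = n_x for every generic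
point ξ of an irreducible component of X containing x. Then X decomposes into open and closed
subschemes X_n (n ∈ ℤ) such that every irreducible component of X_n has δ-dimension n; stated as the
existence of a locally constant c : X → ℤ with δ(ξ) = c(ξ) for every point ξ that is maximal under
specialization. (The converse implications are immediate and not stated.) Here a pair (X, δ) with
Cyc.IsSetup plays the role of a scheme locally of finite type over the base (S, δ) (X locally
Noetherian with universally catenary local rings, δ a dimension function). -/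
theorem result (X : Scheme.{u}) (δ : X → ℤ) (hX : Cyc.IsSetup X δ) (h3 : ∀ x : X, ∃ n : ℤ, ∀ ξ : X, (∀ ξ' : X, ξ' ⤳ ξ → ξ' = ξ) → ξ ⤳ x → δ ξ = n) : ∃ c : X → ℤ, IsLocallyConstant c ∧ ∀ ξ : X, (∀ ξ' : X, ξ' ⤳ ξ → ξ' = ξ) → δ ξ = c ξ := by
  classical
  haveI : IsLocallyNoetherian X := hX.1
  choose c hc using h3
  refine ⟨c, ?_, fun ξ hξ => hc ξ ξ hξ specializes_rfl⟩
  rw [IsLocallyConstant.iff_exists_open]
  intro x
  -- affine open neighbourhood
  obtain ⟨U, hU, hxU, -⟩ := exists_isAffineOpen_mem_and_subset (x := x) (U := ⊤) trivial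
  haveI : IsNoetherianRing Γ(X, U) := IsLocallyNoetherian.component_noetherian ⟨U, hU⟩
  haveI : TopologicalSpace.NoetherianSpace U := noetherianSpace_of_isAffineOpen U hU
  haveI : QuasiSober U := U.isOpenEmbedding'.quasiSober
  have hfin : (genericPoints U).Finite :=
    genericPoints.finite TopologicalSpace.NoetherianSpace.finite_irreducibleComponents
  -- the bad generic points
  let S : Set X := {ξ | ξ ∈ U ∧ (∀ ξ' : X, ξ' ⤳ ξ → ξ' = ξ) ∧ ¬ ξ ⤳ x}
  have hS : S.Finite := by
    refine (hfin.image Subtype.val).subset ?_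
    rintro ξ ⟨hξU, hξmax, -⟩
    refine ⟨⟨ξ, hξU⟩, ?_, rfl⟩
    refine @mem_genericPoints_of_maximal U _ this _ ?_
    rintro ⟨ξ', hξ'U⟩ hsp
    have : ξ' ⤳ ξ := (subtype_specializes_iff _ _).mp hsp
    exact Subtype.ext (hξmax ξ' this)
  have hclosed : IsClosed (⋃ ξ ∈ S, closure ({ξ} : Set X)) :=
    hS.isClosed_biUnion (fun _ _ => isClosed_closure)
  refine ⟨(U : Set X) ∩ (⋃ ξ ∈ S, closure ({ξ} : Set X))ᶜ, U.2.inter hclosed.isOpen_compl, ⟨hxU, ?_⟩, ?_⟩
  · intro hx
    simp only [Set.mem_iUnion] at hx
    obtain ⟨ξ, hξS, hxξ⟩ := hx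
    exact hξS.2.2 (specializes_iff_mem_closure.mpr hxξ)
  · rintro y ⟨hyU, hy⟩
    obtain ⟨ξ, hξmax, hξy⟩ := exists_maximal_generization y
    have hξU : ξ ∈ U := hξy.mem_open U.2 hyU
    have hξx : ξ ⤳ x := by
      by_contra hcon
      apply hy
      simp only [Set.mem_iUnion]
      exact ⟨ξ, ⟨hξU, hξmax, hcon⟩, specializes_iff_mem_closure.mp hξy⟩
    rw [← hc y ξ hξmax hξy, ← hc x ξ hξmax hξx]

end Groth.Agent.S6460
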