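import Groth.Statements.S6461
import Groth.Agent.S6459
import Groth.Agent.S6460
import Groth.Agent.S6462
import Groth.Agent.Lib.Helper29.CM
import Mathlib.RingTheory.Ideal.AssociatedPrime.Localization
import Mathlib.RingTheory.KrullDimension.Module

set_option autoImplicit false
universe u
open CategoryTheory AlgebraicGeometry
open Cyc

namespace Groth.Agent.S6461

/-- If all local rings of X are Cohen–Macaulay then every x ∈ X has an open neighbourhood U and an
integer n with δ(ξ) = n for every generic point ξ of an irreducible component of U (every point of U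
maximal under specialization). Here a pair (X, δ) with Cyc.IsSetup plays the role of a scheme
locally of finite type over the base (S, δ) (X locally Noetherian with universally catenary local
rings, δ a dimension function). -/
theorem result (X : Scheme.{u}) (δ : X → ℤ) (hX : Cyc.IsSetup X δ) (hCM : ∀ x : X, LocCoh.IsCohenMacaulayLocalRing ↑(X.presheaf.stalk x)) (x : X) : ∃ (U : X.Opens) (n : ℤ), x ∈ U ∧ ∀ ξ : X, ξ ∈ U → (∀ ξ' : X, ξ' ⤳ ξ → ξ' = ξ) → δ ξ = n := by
  classical
  have hδ := hX.2.2
  have h3 : ∀ x : X, ∃ n : ℤ, ∀ ξ : X, (∀ ξ' : X, ξ' ⤳ ξ → ξ' = ξ) → ξ ⤳ x → δ ξ = n := by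
    intro x
    haveI hcm := hCM x
    have hM : LocCoh.IsCohenMacaulayModule (X.presheaf.stalk x) (X.presheaf.stalk x) :=
      hcm.supportDim_eq_depth
    obtain ⟨k, -, hk⟩ := Groth.Agent.Lib.Helper29.CMLib.exists_nat_of_isCM
      (X.presheaf.stalk x) (X.presheaf.stalk x) hM
    refine ⟨δ x + k, ?_⟩
    intro ξ hgen h
    have h1 := Groth.Agent.S6462.dim_locQuot δ hδ ξ x h
    have h2 := Groth.Agent.S6459.delta_le δ hδ h
    have hIp : (RingHom.ker (specMap x ξ h)).IsPrime := Groth.Agent.S6462.ker_specMap_isPrime x ξ h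
    have hImin : RingHom.ker (specMap x ξ h) ∈
        (Module.annihilator (X.presheaf.stalk x) (X.presheaf.stalk x)).minimalPrimes := by
      refine ⟨⟨hIp, ?_⟩, ?_⟩
      · rw [Module.annihilator_eq_bot.mpr inferInstance]
        exact bot_le
      · rintro q ⟨hq, -⟩ hqI
        have hs : Groth.Agent.S6459.pt x ⟨q, hq⟩ ⤳ Groth.Agent.S6459.pt x ⟨_, hIp⟩ :=
          (Groth.Agent.S6459.pt_specializes_iff x _ _).mpr hqI
        rw [Groth.Agent.S6462.pt_ker_specMap] at hs
        have e1 := hgen _ hs
        have e2 := Groth.Agent.S6459.pt_injective x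
          (e1.trans (Groth.Agent.S6462.pt_ker_specMap x ξ h).symm)
        exact (congrArg PrimeSpectrum.asIdeal e2).ge
    have hIass := Module.associatedPrimes.minimalPrimes_annihilator_subset_associatedPrimes _ _ hImin
    have h4 := Groth.Agent.Lib.Helper29.CMLib.ringKrullDim_quotient_eq_of_isCM
      (X.presheaf.stalk x) (X.presheaf.stalk x) hM hIass
    rw [hk] at h4
    have h5 : (((δ ξ - δ x).toNat : ℕ) : WithBot ℕ∞) = (k : WithBot ℕ∞) := by
      rw [← h1, ← h4]
    have h6 : (δ ξ - δ x).toNat = k := by exact_mod_cast h5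
    omega
  obtain ⟨c, hc, hcδ⟩ := Groth.Agent.S6460.result X δ hX h3
  refine ⟨⟨c ⁻¹' {c x}, hc.isOpen_fiber _⟩, c x, rfl, ?_⟩
  intro ξ hξ hgen
  rw [hcδ ξ hgen]
  exact hξ

end Groth.Agent.S6461
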