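import Groth.Statements.S6464
import Mathlib.RingTheory.Length

set_option autoImplicit false
universe u v
open CycAlg

namespace Groth.Agent.S6464

section aux
variable {R : Type u} [CommRing R] {M N : Type v} [AddCommGroup M] [Module R M] [AddCommGroup N] [Module R N]

theorem length_ker_add_range (φ : M →ₗ[R] N) :
    Module.length R M = Module.length R (LinearMap.ker φ) + Module.length R (LinearMap.range φ) := by
  refine Module.length_eq_add_of_exact (LinearMap.ker φ).subtype φ.rangeRestrict
    (Submodule.subtype_injective _) φ.surjective_rangeRestrict ?_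
  intro y
  constructor
  · intro hy
    have : φ y = 0 := congrArg Subtype.val hy
    exact ⟨⟨y, this⟩, rfl⟩
  · rintro ⟨z, rfl⟩
    exact Subtype.ext z.2

theorem length_ker_eq (φ : M →ₗ[R] N) (ψ : N →ₗ[R] M) (h : φ ∘ₗ ψ = 0) :
    Module.length R (LinearMap.ker φ) =
      Module.length R (LinearMap.range ψ) + Module.length R (CycAlg.perH φ ψ) := by
  have hle : LinearMap.range ψ ≤ LinearMap.ker φ := by
    rintro _ ⟨n, rfl⟩
    exact LinearMap.congr_fun h n
  have e : ((LinearMap.range ψ).submoduleOf (LinearMap.ker φ)) ≃ₗ[R] LinearMap.range ψ :=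
    Submodule.submoduleOfEquivOfLe hle
  rw [← e.length_eq]
  exact Module.length_eq_add_of_exact
    ((LinearMap.range ψ).submoduleOf (LinearMap.ker φ)).subtype
    ((LinearMap.range ψ).submoduleOf (LinearMap.ker φ)).mkQ
    (Submodule.subtype_injective _) (Submodule.mkQ_surjective _)
    (LinearMap.exact_subtype_mkQ _)

end aux

/-- Let (M, N, φ, ψ) be a 2-periodic complex over a ring R with M and N of finite length. Then its
cohomology modules have finite length and e_R(M, N, φ, ψ) = length_R(M) − length_R(N). (The case M =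
N, where the conclusion reads e_R(M, φ, ψ) = 0, is the special case and is not restated.) -/
theorem result {R : Type u} [CommRing R] {M N : Type v} [AddCommGroup M] [Module R M] [AddCommGroup N] [Module R N] (φ : M →ₗ[R] N) (ψ : N →ₗ[R] M) (h : CycAlg.IsPeriodic φ ψ) (hM : Module.length R M < ⊤) (hN : Module.length R N < ⊤) : CycAlg.FinCoh R φ ψ ∧ CycAlg.herbrand R φ ψ = ((Module.length R M).toNat : ℤ) - ((Module.length R N).toNat : ℤ) := by
  obtain ⟨h1, h2⟩ := h
  have e1 := length_ker_add_range φ
  have e2 := length_ker_add_range ψ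
  have e3 := length_ker_eq φ ψ h1
  have e4 := length_ker_eq ψ φ h2
  rw [e3] at e1
  rw [e4] at e2
  unfold CycAlg.FinCoh CycAlg.herbrand
  generalize Module.length R (CycAlg.perH φ ψ) = H0 at *
  generalize Module.length R (CycAlg.perH ψ φ) = H1 at *
  generalize Module.length R (LinearMap.range φ) = a at *
  generalize Module.length R (LinearMap.range ψ) = b at *
  generalize Module.length R M = lM at *
  generalize Module.length R N = lN at *
  have hH0 : H0 < ⊤ := lt_of_le_of_lt (by rw [e1]; exact le_trans le_add_self le_self_add) hM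
  have hH1 : H1 < ⊤ := lt_of_le_of_lt (by rw [e2]; exact le_trans le_add_self le_self_add) hN
  have ha : a < ⊤ := lt_of_le_of_lt (by rw [e1]; exact le_add_self) hM
  have hb : b < ⊤ := lt_of_le_of_lt (by rw [e2]; exact le_add_self) hN
  refine ⟨⟨hH0, hH1⟩, ?_⟩
  lift H0 to ℕ using hH0.ne
  lift H1 to ℕ using hH1.ne
  lift a to ℕ using ha.ne
  lift b to ℕ using hb.ne
  lift lM to ℕ using hM.ne
  lift lN to ℕ using hN.ne
  simp only [ENat.toNat_natCast]
  have e1' : lM = b + H0 + a := by exact_mod_cast e1
  have e2' : lN = a + H1 + b := by exact_mod_cast e2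
  omega

end Groth.Agent.S6464
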