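import Groth.Statements.S6465
import Mathlib
import Groth.Agent.Lib.Helper22.ClosedC1
import Groth.Agent.Lib.Helper22.C1Indep
-- import your own Groth.Agent.* helpers here

set_option autoImplicit false
universe u
open CategoryTheory AlgebraicGeometry
open Cyc

namespace Groth.Agent.S6465

section PRE
open Groth.Agent.Lib.Helper22.InvStalk Groth.Agent.Lib.Helper22.OrdFlat
open Groth.Agent.Lib.Helper22.TensorOrd Groth.Agent.Lib.Helper22.PullC1
open Groth.Agent.Lib.Helper22.ClosedC1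
open Groth.Agent.Lib.Helper22.FlatDiv (locQuot_conds)
open Groth.Agent.Lib.Helper22.C1Indep (c1Cap_indep)
open Groth.Agent.Lib.QCoh (isInvertible_pullback)

theorem main (X D : Scheme.{u}) (δ : X → ℤ) (hX : Cyc.IsSetup X δ) (L : X.Modules) (hL : PicF.IsInvertible L) (s : L.presheaf.obj (Opposite.op ⊤)) (i : D ⟶ X) [IsClosedImmersion i] (k : ℤ) (α : AlgebraicCycle D ℤ) (hα : α ∈ Cyc.Zk D (fun d => δ (i d)) k) (w : (ξ : X) → Cyc.secFibre L ξ) (hw : ∀ ξ, w ξ ≠ 0) (t : (d : D) → Cyc.secFibre ((Scheme.Modules.pullback i).obj L) d) (ht : ∀ d, t d ≠ 0) (ζ₁ ζ₂ : AlgebraicCycle D ℤ) (h₁ : ∀ d, ζ₁ d = Cyc.c1CapFun δ L ⇑(AlgebraicCycle.map i (fun d => δ (i d)) δ α) (Cyc.gysinChoice L s w) (i d)) (h₂ : ⇑ζ₂ = Cyc.c1CapFun (fun d => δ (i d)) ((Scheme.Modules.pullback i).obj L) ⇑α t) : Cyc.RatEquiv (fun d => δ (i d)) (k - 1) ζ₁ ζ₂ := by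
  haveI := hX.1
  haveI : IsLocallyNoetherian D := LocallyOfFiniteType.isLocallyNoetherian i
  have hδD := ci_dimFun i δ hX.2.2
  have hL' : PicF.IsInvertible ((Scheme.Modules.pullback i).obj L) := isInvertible_pullback i hL
  have hσ : ∀ ξ, Cyc.gysinChoice L s w ξ ≠ 0 := by
    intro ξ
    unfold Cyc.gysinChoice
    split_ifs with h
    · exact h
    · exact hw ξ
  choose s' hs' using fun ξ' => exists_pullSection i hL (Cyc.gysinChoice L s w) ξ'
  have hs'0 : ∀ ξ', s' ξ' ≠ 0 := fun ξ' =>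
    pullSection_ne_zero i hL (Cyc.gysinChoice L s w) s' hs' ξ' (hσ (i ξ'))
  have hα' : α ∈ Cyc.Zk D (fun d => δ (i d)) (k - 1 + 1) := by
    rw [sub_add_cancel]; exact hα
  obtain ⟨ι, ξ, f, h1, h2, h3, h4⟩ :=
    c1Cap_indep (fun d => δ (i d)) hδD hL' (k - 1) α hα' s' t hs'0 ht
  refine ⟨ι, ξ, f, h1, h2, h3, fun d => ?_⟩
  rw [Function.locallyFinsuppWithin.coe_sub]
  show ζ₁ d - ζ₂ d = _
  rw [h₁ d, congrFun h₂ d, ← h4 d]
  congr 1
  unfold Cyc.c1CapFun
  set v := Cyc.gysinChoice L s w with hv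
  set β := AlgebraicCycle.map i (fun d => δ (i d)) δ α with hβ
  have hsupp : Function.support (fun ξ : X => β ξ * secDivFun δ L ξ (v ξ) (i d)) ⊆ Set.range i := by
    intro z hz
    by_contra hzr
    apply hz
    show β z * _ = 0
    rw [map_closedImm_notMem i δ α z hzr, zero_mul]
  have e1 : ∑ᶠ ξ : X, β ξ * secDivFun δ L ξ (v ξ) (i d) =
      ∑ᶠ ξ ∈ Set.range i, β ξ * secDivFun δ L ξ (v ξ) (i d) := by
    rw [finsum_mem_def, Set.indicator_eq_self.mpr hsupp]
  rw [e1, finsum_mem_range (ci_injective i)]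
  refine finsum_congr fun ξ' => ?_
  rw [hβ, map_closedImm_apply i δ α ξ']
  congr 1
  unfold Cyc.secDivFun
  by_cases hc : ξ' ⤳ d ∧ δ (i d) + 1 = δ (i ξ')
  · have hc' : i ξ' ⤳ i d ∧ δ (i d) + 1 = δ (i ξ') := ⟨(ci_specializes_iff i ξ' d).mpr hc.1, hc.2⟩
    rw [dif_pos hc, dif_pos hc']
    obtain ⟨g, hg1, hg2⟩ := exists_local_coord i hL v s' hs' d
    have hA := locQuot_conds δ hX.2.2 (i d) (i ξ') hc'.1 hc.2
    have hB := locQuot_conds (fun d => δ (i d)) hδD d ξ' hc.1 hc.2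
    rw [hg1 (i ξ') hc'.1 hA, hg2 ξ' hc.1 hB]
    exact (ordAt_closedImm i d ξ' hc.1 (g (i ξ')) hA hB).symm
  · have hc' : ¬ (i ξ' ⤳ i d ∧ δ (i d) + 1 = δ (i ξ')) := by
      intro h
      exact hc ⟨(ci_specializes_iff i ξ' d).mp h.1, h.2⟩
    rw [dif_neg hc, dif_neg hc']

end PRE

/-- Let (L, s, i : D → X) be a triple defining a Gysin map. Then i^* i_* : CH_k(D) → CH_{k−1}(D) sends
the class of a k-cycle α on D to c_1(L|_D) ∩ α: the (k − 1)-cycle i^*(i_* α) is rationally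
equivalent on D to c_1(i^*L) ∩ α computed with any nonzero rational sections. Here i : D → X is the
zero scheme of a global section s of the invertible module L (Cyc.IsZeroSchemeOf), the Gysin map i^*
: Z_{k+1}(X) → CH_k(D) is computed on coefficient functions as c_1(L) ∩ − with the rational sections
taken to be s where it is nonzero and a nonzero fallback elsewhere (Cyc.gysinChoice), restricted to
the points of D, and classes on D are compared up to rational equivalence on D for the restricted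
dimension function; (X, δ) with Cyc.IsSetup stands for a scheme locally of finite type over the base
(S, δ). -/
theorem result (X D : Scheme.{u}) (δ : X → ℤ) (hX : Cyc.IsSetup X δ) (L : X.Modules) (hL : PicF.IsInvertible L) (s : L.presheaf.obj (Opposite.op ⊤)) (i : D ⟶ X) [IsClosedImmersion i] (hD : Cyc.IsZeroSchemeOf i L s) (k : ℤ) (α : AlgebraicCycle D ℤ) (hα : α ∈ Cyc.Zk D (fun d => δ (i d)) k) (w : (ξ : X) → Cyc.secFibre L ξ) (hw : ∀ ξ, w ξ ≠ 0) (t : (d : D) → Cyc.secFibre ((Scheme.Modules.pullback i).obj L) d) (ht : ∀ d, t d ≠ 0) (ζ₁ ζ₂ : AlgebraicCycle D ℤ) (h₁ : ∀ d, ζ₁ d = Cyc.c1CapFun δ L ⇑(AlgebraicCycle.map i (fun d => δ (i d)) δ α) (Cyc.gysinChoice L s w) (i d)) (h₂ : ⇑ζ₂ = Cyc.c1CapFun (fun d => δ (i d)) ((Scheme.Modules.pullback i).obj L) ⇑α t) : Cyc.RatEquiv (fun d => δ (i d)) (k - 1) ζ₁ ζ₂ := by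
  exact main X D δ hX L hL s i k α hα w hw t ht ζ₁ ζ₂ h₁ h₂

end Groth.Agent.S6465
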