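import Groth.Statements.S6473
import Mathlib
import Groth.Agent.Lib.Helper91.ProperInt6

set_option autoImplicit false
universe u
open CategoryTheory CategoryTheory.Limits AlgebraicGeometry
open IntMult

namespace Groth.Agent.S6473

/-- Let f : X → Y be a morphism of varieties over K which is a regular immersion of codimension c, and Z
⊂ Y a closed subvariety of dimension d. Then each irreducible component T of f⁻¹(Z) = X ×_Y Z
satisfies dim T ≥ d − c; stated as d ≤ dim T + c. Varieties: integral, separated, of finite type
over the algebraically closed field K. (The published statement takes f to be a closed immersion,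
regular immersions being closed there; this row allows any immersion cut out, locally on Y where it
is closed, by a regular sequence of length c, the bound being local on Y. The published statement
also has a second part, for local complete intersection morphisms of a given relative dimension,
which this row does not state.) -/
theorem result (K : Type u) [Field K] [IsAlgClosed K] (X Y Z : Scheme.{u}) (gX : X ⟶ Spec (CommRingCat.of K)) (gY : Y ⟶ Spec (CommRingCat.of K)) [IsSeparated gX] [LocallyOfFiniteType gX] [QuasiCompact gX] [IsIntegral X] [IsSeparated gY] [LocallyOfFiniteType gY] [QuasiCompact gY] [IsIntegral Y] (f : X ⟶ Y) (hf : f ≫ gY = gX) (c : ℕ) (hreg : RegImm.IsRegularImmersionOfCodim RegImm.Kind.regular c f) (ι : Z ⟶ Y) [IsClosedImmersion ι] [IsIntegral Z] (d : ℕ) (hd : topologicalKrullDim Z = d) (T : Set ↥(pullback f ι)) (hT : T ∈ irreducibleComponents ↥(pullback f ι)) : ((d : ℕ) : WithBot ℕ∞) ≤ topologicalKrullDim ↥T + c := by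
  haveI := hreg.1
  have hrange : Set.range (pullback.snd f ι) = (Set.univ ∩ ι ⁻¹' Set.range f : Set Z) := by
    rw [Set.univ_inter]
    exact AlgebraicGeometry.Scheme.Pullback.range_snd f ι
  let e : ↥(pullback f ι) ≃ₜ ↥(Set.univ ∩ ι ⁻¹' Set.range f : Set Z) :=
    ((pullback.snd f ι).isEmbedding.toHomeomorph).trans (Homeomorph.setCongr hrange)
  have hQ := Groth.Agent.Lib.Helper91.ProperInt.image_mem_irreducibleComponents e T hT
  have hdim := Groth.Agent.Lib.Helper91.ProperInt.dim_image_homeomorph e T
  have huniv : topologicalKrullDim ↥(Set.univ : Set Z) = d := by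
    rw [← hd]
    exact (Homeomorph.Set.univ Z).isHomeomorph.topologicalKrullDim_eq
  have := Groth.Agent.Lib.Helper91.ProperInt.le_dim_component (ι ≫ gY) ι f RegImm.Kind.regular d c
    hreg Set.univ isClosed_univ (IrreducibleSpace.isIrreducible_univ Z) huniv (e '' T) hQ
  rwa [hdim] at this

end Groth.Agent.S6473
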