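import Groth.Statements.S6478
import Mathlib
import Groth.Agent.S1857
import Groth.Agent.S9358
import Groth.Agent.S9684
-- import your own Groth.Agent.* helpers here

set_option autoImplicit false
universe u
open CategoryTheory AlgebraicGeometry
open CategoryTheory.Limits
open Cyc

namespace Groth.Agent.S6478

section PRE
open Groth.Agent.S6479 (MaxFib max_comp dim_iff len_sch)

theorem main' (X X' X'' : Scheme.{u}) (p : X' ⟶ X) (p' : X'' ⟶ X') [Flat p'] (δ : X → ℤ)
    (δ' : X' → ℤ) (δ'' : X'' → ℤ) (hd' : Cyc.IsDimFun X' δ') (hd'' : Cyc.IsDimFun X'' δ'')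
    (c c' : ℤ) (hc : ∀ x' : X', MaxFib p x' → δ' x' = δ (p x') + c)
    (hc' : ∀ x'' : X'', MaxFib p' x'' → δ'' x'' = δ' (p' x'') + c') (α : X → ℤ) :
    Cyc.pullFun (p' ≫ p) δ'' δ (c + c') α = Cyc.pullFun p' δ'' δ' c' (Cyc.pullFun p δ' δ c α) := by
  have d' := dim_iff p δ δ' hd' c hc
  have d'' := dim_iff p' δ' δ'' hd'' c' hc'
  have part1 : ∀ x'', MaxFib (p' ≫ p) x'' → δ'' x'' = δ ((p' ≫ p) x'') + (c + c') := by
    intro x'' h
    obtain ⟨h1, h2⟩ := (max_comp p p' x'').mp h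
    rw [hc' x'' h1, hc _ h2, Scheme.Hom.comp_apply]; ring
  have d3 := dim_iff (p' ≫ p) δ δ'' hd'' (c + c') part1
  funext x''
  unfold Cyc.pullFun
  by_cases h : MaxFib (p' ≫ p) x''
  · obtain ⟨h1, h2⟩ := (max_comp p p' x'').mp h
    rw [if_pos ((d3 x'').mpr h), if_pos ((d'' x'').mpr h1), if_pos ((d' _).mpr h2)]
    rw [len_sch, ENat.toNat_mul]; push_cast; rw [Scheme.Hom.comp_apply]; ring
  · have : ¬ (MaxFib p' x'' ∧ MaxFib p (p' x'')) := fun hh => h ((max_comp p p' x'').mpr hh)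
    rw [if_neg (fun hh => h ((d3 x'').mp hh))]
    by_cases h1 : MaxFib p' x''
    · rw [if_pos ((d'' x'').mpr h1), if_neg (fun hh => this ⟨h1, (d' _).mp hh⟩)]; simp
    · rw [if_neg (fun hh => h1 ((d'' x'').mp hh))]

theorem main (X X' Y : Scheme.{u}) (f : Y ⟶ X) (p : X' ⟶ X) [Flat f] [LocallyOfFiniteType f] [Flat p] (r : ℕ) (hr : Cyc.HasRelDim f r) (δ : X → ℤ) (δ' : X' → ℤ) (δY : Y → ℤ) (δY' : ↥(pullback f p) → ℤ) (hX : Cyc.IsSetup X δ) (hX' : Cyc.IsSetup X' δ') (hY : Cyc.IsSetup Y δY) (hf : Cyc.DeltaCompat f δY δ) (hf' : Cyc.DeltaCompat (pullback.snd f p) δY' δ') (c : ℤ) (hc : ∀ x' : X', (∀ y, p y = p x' → y ⤳ x' → y = x') → δ' x' = δ (p x') + c) (hcY : ∀ y' : ↥(pullback f p), (∀ y, pullback.fst f p y = pullback.fst f p y' → y ⤳ y' → y = y') → δY' y' = δY (pullback.fst f p y') + c) (k : ℤ) (α : AlgebraicCycle X ℤ) (hα : α ∈ Cyc.Zk X δ k) : Cyc.HasRelDim (pullback.snd f p) r ∧ Cyc.pullFun (pullback.snd f p) δY' δ' r (Cyc.pullFun p δ' δ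 c ⇑α) = Cyc.pullFun (pullback.fst f p) δY' δY c (Cyc.pullFun f δY δ r ⇑α) := by
  haveI := hX.1
  haveI := hX'.1
  have hrel' : Cyc.HasRelDim (pullback.snd f p) r :=
    (Groth.Agent.S9358.result f p (pullback.fst f p) (pullback.snd f p)
      (IsPullback.of_hasPullback f p) r).2.2 hr
  refine ⟨hrel', ?_⟩
  have hdY' : Cyc.IsDimFun (pullback f p) δY' :=
    Groth.Agent.S9684.result (pullback.snd f p) δ' hX' δY' hf'
  have hc_snd : ∀ y' : ↥(pullback f p), MaxFib (pullback.snd f p) y' →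
      δY' y' = δ' (pullback.snd f p y') + r := by
    intro y' hy'
    obtain ⟨n, hn, hδ⟩ := hf' y'
    have := Groth.Agent.S1857.td_eq_of_max (pullback.snd f p) r hrel' y' hy' n hn
    rw [hδ, this]
  have hc_f : ∀ y : Y, MaxFib f y → δY y = δ (f y) + r := by
    intro y hy
    obtain ⟨n, hn, hδ⟩ := hf y
    have := Groth.Agent.S1857.td_eq_of_max f r hr y hy n hn
    rw [hδ, this]
  have e1 := main' X X' (pullback f p) p (pullback.snd f p) δ δ' δY' hX'.2.2 hdY' c r hc hc_snd ⇑α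
  have e2 := main' X Y (pullback f p) f (pullback.fst f p) δ δY δY' hY.2.2 hdY' r c hc_f hcY ⇑α
  rw [← e1, ← e2, pullback.condition, add_comm]

end PRE

/-- Let f : Y → X be flat, locally of finite type, of relative dimension r, Y' = Y ×_X X' with f' : Y' →
X' and q : Y' → Y, δY, δY' the induced dimension functions (q again has shift c at generic points of
its fibres). Then f' is flat of relative dimension r and (f')^* ∘ g^* = g^* ∘ f^* on k-cycles,
coefficientwise. Setting: p : X' → X is flat (not necessarily of finite type), (X, δ) and (X', δ')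
satisfy Cyc.IsSetup, and δ'(x') = δ(p x') + c whenever x' is maximal under generalization inside its
fibre p⁻¹(p x'); g^* : Z_k(X) → Z_{k+c}(X') is the coefficientwise flat pullback Cyc.pullFun p δ' δ
c. (The published statement takes X′ = X ×_S S′ and Y′ = Y ×_S S′ for a flat S′ → S, with X and Y
locally of finite type over S, and also records the same square on Chow groups, which follows; this
row allows any flat p : X′ → X with the shift condition and states the cycle-level square.) -/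
theorem result (X X' Y : Scheme.{u}) (f : Y ⟶ X) (p : X' ⟶ X) [Flat f] [LocallyOfFiniteType f] [Flat p] (r : ℕ) (hr : Cyc.HasRelDim f r) (δ : X → ℤ) (δ' : X' → ℤ) (δY : Y → ℤ) (δY' : ↥(pullback f p) → ℤ) (hX : Cyc.IsSetup X δ) (hX' : Cyc.IsSetup X' δ') (hY : Cyc.IsSetup Y δY) (hf : Cyc.DeltaCompat f δY δ) (hf' : Cyc.DeltaCompat (pullback.snd f p) δY' δ') (c : ℤ) (hc : ∀ x' : X', (∀ y, p y = p x' → y ⤳ x' → y = x') → δ' x' = δ (p x') + c) (hcY : ∀ y' : ↥(pullback f p), (∀ y, pullback.fst f p y = pullback.fst f p y' → y ⤳ y' → y = y') → δY' y' = δY (pullback.fst f p y') + c) (k : ℤ) (α : AlgebraicCycle X ℤ) (hα : α ∈ Cyc.Zk X δ k) : Cyc.HasRelDim (pullback.snd f p) r ∧ Cyc.pullFun (pullback.snd f p) δY' δ' r (Cyc.pullFun p δ' δ c ⇑α) = Cyc.pullFun (pullback.fst f p) δY' δY c (Cyc.pullFun f δY δ r ⇑α) := by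
  exact main X X' Y f p r hr δ δ' δY δY' hX hX' hY hf hf' c hc hcY k α hα

end Groth.Agent.S6478
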