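import Groth.Statements.S6480
import Mathlib
import Groth.Agent.S1833

set_option autoImplicit false
universe u
open CycAlg

namespace Groth.Agent.S6480

section helpers
open Pointwise
variable {A : Type u} [CommRing A] {M : Type u} [AddCommGroup M] [Module A M]

lemma smul_top_eq_range (c : A) :
    c • (⊤ : Submodule A M) = LinearMap.range (LinearMap.lsmul A M c) := by
  ext x
  simp [Submodule.mem_smul_pointwise_iff_exists]

/-- For `N = c⁻¹ N''` and `N'' ≤ cM`: `length(M/N'') = length(M/N) + length(M/cM)`. -/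
lemma len_add (c : A) (N N'' : Submodule A M)
    (hN : N = Submodule.comap (LinearMap.lsmul A M c) N'')
    (hle : N'' ≤ LinearMap.range (LinearMap.lsmul A M c)) :
    Module.length A (M ⧸ N'') = Module.length A (M ⧸ N) +
      Module.length A (M ⧸ c • (⊤ : Submodule A M)) := by
  have hN' : N ≤ Submodule.comap (LinearMap.lsmul A M c) N'' := hN.le
  have hle' : N'' ≤ c • (⊤ : Submodule A M) := by rwa [smul_top_eq_range]
  let f : (M ⧸ N) →ₗ[A] (M ⧸ N'') := Submodule.mapQ N N'' (LinearMap.lsmul A M c) hN'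
  let g : (M ⧸ N'') →ₗ[A] (M ⧸ c • (⊤ : Submodule A M)) :=
    Submodule.mapQ N'' _ LinearMap.id (by simpa using hle')
  refine Module.length_eq_add_of_exact f g ?_ ?_ ?_
  · rw [← LinearMap.ker_eq_bot, LinearMap.ker_eq_bot']
    intro x hx
    obtain ⟨m, rfl⟩ := Submodule.Quotient.mk_surjective _ x
    have : c • m ∈ N'' := by
      have h2 : f (Submodule.Quotient.mk m) = Submodule.Quotient.mk (c • m) := by
        simp [f, Submodule.mapQ_apply]
      rw [h2, Submodule.Quotient.mk_eq_zero] at hx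
      exact hx
    rw [Submodule.Quotient.mk_eq_zero, hN]
    exact this
  · intro x
    obtain ⟨m, rfl⟩ := Submodule.Quotient.mk_surjective _ x
    exact ⟨Submodule.Quotient.mk m, by simp [g, Submodule.mapQ_apply]⟩
  · intro x
    obtain ⟨m, rfl⟩ := Submodule.Quotient.mk_surjective _ x
    constructor
    · intro h
      have h' : m ∈ c • (⊤ : Submodule A M) := by simpa [g, Submodule.mapQ_apply] using h
      rw [smul_top_eq_range] at h'
      obtain ⟨y, rfl⟩ := h'
      exact ⟨Submodule.Quotient.mk y, by simp [f, Submodule.mapQ_apply]⟩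
    · rintro ⟨y, hy⟩
      obtain ⟨m', rfl⟩ := Submodule.Quotient.mk_surjective _ y
      rw [← hy]
      simp only [f, g, Submodule.mapQ_apply, LinearMap.lsmul_apply, LinearMap.id_apply]
      rw [Submodule.Quotient.mk_eq_zero]
      exact Submodule.smul_mem_pointwise_smul m' c ⊤ Submodule.mem_top

lemma krullDimLE_one (hA : ringKrullDim A = 1) : Ring.KrullDimLE 1 A := by
  rw [Ring.krullDimLE_iff, hA]; rfl

lemma not_mem_of_minimal {a : A} (ha : a ∈ nonZeroDivisors A) {q : Ideal A}
    (hq : q ∈ minimalPrimes A) : a ∉ q := fun h =>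
  Set.disjoint_left.mp (Ideal.disjoint_nonZeroDivisors_of_mem_minimalPrimes hq) h ha

variable [IsLocalRing A]

lemma maximalIdeal_not_minimal (hA : ringKrullDim A = 1) :
    IsLocalRing.maximalIdeal A ∉ minimalPrimes A := by
  intro hm
  have hpos : 0 < ringKrullDim A := by rw [hA]; exact zero_lt_one
  obtain ⟨x, y, hxy⟩ := Order.krullDim_pos_iff.mp hpos
  have hy : y.asIdeal ≤ IsLocalRing.maximalIdeal A := IsLocalRing.le_maximalIdeal y.2.ne_top
  have hx : x.asIdeal ≤ IsLocalRing.maximalIdeal A := le_trans hxy.le hy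
  have := hm.2 ⟨x.2, bot_le⟩ hx
  exact absurd (lt_of_lt_of_le hxy (hy.trans this)) (lt_irrefl _)

lemma minimal_iff_ne_max (hA : ringKrullDim A = 1) (p : Ideal A) [hp : p.IsPrime] :
    p ∈ minimalPrimes A ↔ p ≠ IsLocalRing.maximalIdeal A := by
  constructor
  · intro h e
    exact maximalIdeal_not_minimal hA (e ▸ h)
  · intro h
    have := krullDimLE_one hA
    rcases Ring.krullDimLE_one_iff.mp this p hp with h1 | h1
    · exact h1
    · exact absurd (IsLocalRing.eq_maximalIdeal h1) h

variable [IsNoetherianRing A]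

lemma isSMulRegular_of_nzd [Module.Finite A M] {a : A} (ha : a ∈ nonZeroDivisors A)
    (hMemb : ∀ p ∈ associatedPrimes A M, p ∈ minimalPrimes A) : IsSMulRegular M a := by
  by_contra h
  have : a ∈ {r : A | IsSMulRegular M r}ᶜ := h
  rw [← biUnion_associatedPrimes_eq_compl_regular] at this
  simp only [Set.mem_iUnion] at this
  obtain ⟨p, hp, hap⟩ := this
  exact not_mem_of_minimal ha (hMemb p hp) hap

lemma mem_of_mem_support_quot [Module.Finite A M] {a : A} {p : PrimeSpectrum A}
    (hp : p ∈ Module.support A (M ⧸ a • (⊤ : Submodule A M))) : a ∈ p.asIdeal := by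
  rw [Module.mem_support_iff_of_finite] at hp
  apply hp
  rw [Module.mem_annihilator]
  intro x
  obtain ⟨m, rfl⟩ := Submodule.Quotient.mk_surjective _ x
  rw [← Submodule.Quotient.mk_smul, Submodule.Quotient.mk_eq_zero]
  exact Submodule.smul_mem_pointwise_smul m a ⊤ Submodule.mem_top

lemma supportDim_quot_le_zero (hA : ringKrullDim A = 1) [Module.Finite A M] {a : A}
    (ha : a ∈ nonZeroDivisors A) :
    Module.supportDim A (M ⧸ a • (⊤ : Submodule A M)) ≤ 0 := by
  have hsub : ∀ p ∈ Module.support A (M ⧸ a • (⊤ : Submodule A M)),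
      p = IsLocalRing.closedPoint A := by
    intro p hp
    have hap : a ∈ p.asIdeal := mem_of_mem_support_quot hp
    have : p.asIdeal = IsLocalRing.maximalIdeal A := by
      by_contra hne
      exact not_mem_of_minimal ha ((minimal_iff_ne_max hA p.asIdeal).mpr hne) hap
    exact PrimeSpectrum.ext this
  have : Subsingleton (Module.support A (M ⧸ a • (⊤ : Submodule A M))) :=
    ⟨fun x y => Subtype.ext ((hsub x.1 x.2).trans (hsub y.1 y.2).symm)⟩
  exact Order.krullDim_nonpos_of_subsingleton

lemma len_quot_eq (hA : ringKrullDim A = 1) [Module.Finite A M] {c : A}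
    (hc : c ∈ nonZeroDivisors A)
    (hMemb : ∀ p ∈ associatedPrimes A M, p ∈ minimalPrimes A)
    (hsupp : Module.support A M = Set.univ) :
    Module.length A (M ⧸ c • (⊤ : Submodule A M)) =
      ∑ᶠ (q : PrimeSpectrum A) (_ : q.asIdeal ∈ minimalPrimes A),
        Ring.ord (A ⧸ q.asIdeal) (Ideal.Quotient.mk q.asIdeal c) *
          Module.length (Localization.AtPrime q.asIdeal)
            (LocalizedModule q.asIdeal.primeCompl M) := by
  have h1 : Module.supportDim A M ≤ 1 := by
    rw [← hA]; exact Module.supportDim_le_ringKrullDim A M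
  have h := Groth.Agent.S1833.result A M c h1 (supportDim_quot_le_zero hA hc)
  have hker : LinearMap.ker (LinearMap.lsmul A M c) = ⊥ := by
    rw [LinearMap.ker_eq_bot]
    exact isSMulRegular_of_nzd hc hMemb
  rw [hker] at h
  rw [h]
  simp only [Module.length_bot, zero_add]
  refine finsum_congr fun p => ?_
  have : (p ∈ Module.support A M ∧ p.asIdeal ≠ IsLocalRing.maximalIdeal A) =
      (p.asIdeal ∈ minimalPrimes A) := by
    rw [hsupp, minimal_iff_ne_max hA p.asIdeal]
    simp
  rw [this]

/-- data at a minimal prime -/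
lemma ordFrac_eq (hA : ringKrullDim A = 1) {a b : A} (ha : a ∈ nonZeroDivisors A)
    (hb : b ∈ nonZeroDivisors A) (q : Ideal A) [q.IsPrime] (hq : q ∈ minimalPrimes A) :
    Ring.ord (A ⧸ q) (Ideal.Quotient.mk q a) ≠ ⊤ ∧ Ring.ord (A ⧸ q) (Ideal.Quotient.mk q b) ≠ ⊤ ∧
    CycAlg.ordFrac (A ⧸ q) q.ResidueField
      (algebraMap A q.ResidueField a / algebraMap A q.ResidueField b) =
      ((Ring.ord (A ⧸ q) (Ideal.Quotient.mk q a)).toNat : ℤ) -
        ((Ring.ord (A ⧸ q) (Ideal.Quotient.mk q b)).toNat : ℤ) := by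
  have := krullDimLE_one hA
  have hdim : Ring.KrullDimLE 1 (A ⧸ q) := by
    rw [Ring.krullDimLE_iff]
    exact (ringKrullDim_quotient_le q).trans (Ring.krullDimLE_iff.mp this)
  have ha0 : Ideal.Quotient.mk q a ≠ 0 := by
    rw [Ne, Ideal.Quotient.eq_zero_iff_mem]; exact not_mem_of_minimal ha hq
  have hb0 : Ideal.Quotient.mk q b ≠ 0 := by
    rw [Ne, Ideal.Quotient.eq_zero_iff_mem]; exact not_mem_of_minimal hb hq
  have ha' : Ideal.Quotient.mk q a ∈ nonZeroDivisors (A ⧸ q) := mem_nonZeroDivisors_of_ne_zero ha0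
  have hb' : Ideal.Quotient.mk q b ∈ nonZeroDivisors (A ⧸ q) := mem_nonZeroDivisors_of_ne_zero hb0
  have hat := Ring.ord_ne_top ha'
  have hbt := Ring.ord_ne_top hb'
  refine ⟨hat, hbt, ?_⟩
  have hcond : IsNoetherianRing (A ⧸ q) ∧ Ring.KrullDimLE 1 (A ⧸ q) ∧ Nontrivial (A ⧸ q) ∧
      IsFractionRing (A ⧸ q) q.ResidueField := ⟨inferInstance, hdim, inferInstance, inferInstance⟩
  unfold CycAlg.ordFrac
  rw [dif_pos hcond]
  have e1 : algebraMap A q.ResidueField a =
      algebraMap (A ⧸ q) q.ResidueField (Ideal.Quotient.mk q a) := rfl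
  have e2 : algebraMap A q.ResidueField b =
      algebraMap (A ⧸ q) q.ResidueField (Ideal.Quotient.mk q b) := rfl
  rw [e1, e2, map_div₀, Ring.ordFrac_eq_ord _ ha0, Ring.ordFrac_eq_ord _ hb0]
  obtain ⟨n, hn⟩ := ENat.ne_top_iff_exists.mp hat
  obtain ⟨m, hm⟩ := ENat.ne_top_iff_exists.mp hbt
  rw [Ring.ordMonoidWithZeroHom_eq_coe _ ha' hn.symm,
    Ring.ordMonoidWithZeroHom_eq_coe _ hb' hm.symm, ← hn, ← hm]
  simp only [ENat.toNat_natCast]
  rw [← WithZero.coe_div, WithZero.recZeroCoe_coe]
  simp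

lemma length_loc_ne_top [Module.Finite A M] (q : Ideal A) [q.IsPrime] (hq : q ∈ minimalPrimes A) :
    Module.length (Localization.AtPrime q) (LocalizedModule q.primeCompl M) ≠ ⊤ := by
  have : Ring.KrullDimLE 0 (Localization.AtPrime q) := .of_isLocalization q hq _
  have : IsArtinianRing (Localization.AtPrime q) := IsNoetherianRing.isArtinianRing_of_krullDimLE_zero
  rw [Module.length_ne_top_iff, isFiniteLength_iff_isNoetherian_isArtinian]
  exact ⟨inferInstance, inferInstance⟩

lemma finsum_minimal {β : Type*} [AddCommMonoid β] (f : PrimeSpectrum A → β)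
    (hfin : {q : PrimeSpectrum A | q.asIdeal ∈ minimalPrimes A}.Finite) :
    ∑ᶠ (q : PrimeSpectrum A) (_ : q.asIdeal ∈ minimalPrimes A), f q =
      ∑ q ∈ hfin.toFinset, f q :=
  finsum_mem_eq_finite_toFinset_sum f hfin

theorem main [Module.Finite A M] (hA : ringKrullDim A = 1) (a b : A) (ha : a ∈ nonZeroDivisors A) (hb : b ∈ nonZeroDivisors A) (hAemb : ∀ p ∈ associatedPrimes A A, p ∈ minimalPrimes A) (hMemb : ∀ p ∈ associatedPrimes A M, p ∈ minimalPrimes A) (hsupp : Module.support A M = Set.univ) (I : Ideal A) (hI : I = (Ideal.span {b}).colon (Ideal.span {a})) (P : Submodule A M) (hP : P = Submodule.comap (LinearMap.lsmul A M b) ((Ideal.span {a} * I) • (⊤ : Submodule A M))) : (Ideal.span {a} * I) • (⊤ : Submodule A M) ≤ LinearMap.range (LinearMap.lsmul A M b) ∧ ((Module.length A (M ⧸ P)).toNat : ℤ) - ((Module.length A (M ⧸ I • (⊤ : Submodule A M))).toNat : ℤ) = ∑ᶠ (q : PrimeSpectrum A) (_ : q.asIdeal ∈ minimalPrimes A), ((Module.length (Localization.AtPrime q.asIdeal) (LocalizedModule q.asIdeal.primeCompl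 M)).toNat : ℤ) * CycAlg.ordFrac (A ⧸ q.asIdeal) q.asIdeal.ResidueField (algebraMap A q.asIdeal.ResidueField a / algebraMap A q.asIdeal.ResidueField b) := by
  subst hI hP
  classical
  have hareg : IsSMulRegular M a := isSMulRegular_of_nzd ha hMemb
  -- `a I M ⊆ b M`
  have hle : (Ideal.span {a} * (Ideal.span {b}).colon (Ideal.span {a})) • (⊤ : Submodule A M) ≤
      LinearMap.range (LinearMap.lsmul A M b) := by
    rw [Submodule.smul_le]
    intro r hr n _
    have hr' : r ∈ Ideal.span {b} := by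
      refine Submodule.mul_induction_on hr ?_ ?_
      · intro x hx y hy
        have := Submodule.mem_colon.mp hy x hx
        rw [smul_eq_mul] at this
        rwa [mul_comm]
      · intro x y hx hy
        exact add_mem hx hy
    obtain ⟨s, rfl⟩ := Ideal.mem_span_singleton'.mp hr'
    exact ⟨s • n, by simp [mul_smul]⟩
  refine ⟨hle, ?_⟩
  set I : Ideal A := (Ideal.span {b}).colon (Ideal.span {a}) with hIdef
  set N1 : Submodule A M := (Ideal.span {a} * I) • (⊤ : Submodule A M) with hN1
  have hbI : b ∈ I := by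
    rw [hIdef, Submodule.mem_colon]
    intro s _
    exact Ideal.mul_mem_right _ _ (Ideal.mem_span_singleton_self b)
  -- exact sequences
  have e1 := len_add b (Submodule.comap (LinearMap.lsmul A M b) N1) N1 rfl hle
  have hN1' : N1 = a • (I • (⊤ : Submodule A M)) := by
    rw [hN1, mul_smul]
    exact Submodule.ideal_span_singleton_smul a _
  have e2 := len_add a (I • (⊤ : Submodule A M)) N1
    (by
      ext x
      rw [Submodule.mem_comap, hN1', LinearMap.lsmul_apply,
        Submodule.mem_smul_pointwise_iff_exists]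
      constructor
      · intro hx; exact ⟨x, hx, rfl⟩
      · rintro ⟨y, hy, hyx⟩
        rwa [← hareg hyx])
    (by
      rw [hN1']
      intro x hx
      obtain ⟨y, _, rfl⟩ := (Submodule.mem_smul_pointwise_iff_exists _ _ _).mp hx
      exact ⟨y, rfl⟩)
  have ea := len_quot_eq (M := M) hA ha hMemb hsupp
  have eb := len_quot_eq (M := M) hA hb hMemb hsupp
  have hfin : {q : PrimeSpectrum A | q.asIdeal ∈ minimalPrimes A}.Finite := by
    have := minimalPrimes.finite_of_isNoetherianRing A
    exact this.preimage (fun x _ y _ h => PrimeSpectrum.ext h)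
  have hmemT : ∀ q, q ∈ hfin.toFinset ↔ q.asIdeal ∈ minimalPrimes A := fun q => by simp
  have ea' : Module.length A (M ⧸ a • (⊤ : Submodule A M)) =
      ((∑ q ∈ hfin.toFinset, (Ring.ord (A ⧸ q.asIdeal) (Ideal.Quotient.mk q.asIdeal a)).toNat *
        (Module.length (Localization.AtPrime q.asIdeal)
          (LocalizedModule q.asIdeal.primeCompl M)).toNat : ℕ) : ℕ∞) := by
    rw [ea, finsum_minimal _ hfin, Nat.cast_sum]
    refine Finset.sum_congr rfl fun q hq => ?_
    have hq' := (hmemT q).mp hq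
    obtain ⟨h1, h2, _⟩ := ordFrac_eq hA ha hb q.asIdeal hq'
    rw [Nat.cast_mul, ENat.coe_toNat h1, ENat.coe_toNat (length_loc_ne_top q.asIdeal hq')]
  have eb' : Module.length A (M ⧸ b • (⊤ : Submodule A M)) =
      ((∑ q ∈ hfin.toFinset, (Ring.ord (A ⧸ q.asIdeal) (Ideal.Quotient.mk q.asIdeal b)).toNat *
        (Module.length (Localization.AtPrime q.asIdeal)
          (LocalizedModule q.asIdeal.primeCompl M)).toNat : ℕ) : ℕ∞) := by
    rw [eb, finsum_minimal _ hfin, Nat.cast_sum]
    refine Finset.sum_congr rfl fun q hq => ?_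
    have hq' := (hmemT q).mp hq
    obtain ⟨h1, h2, _⟩ := ordFrac_eq hA ha hb q.asIdeal hq'
    rw [Nat.cast_mul, ENat.coe_toNat h2, ENat.coe_toNat (length_loc_ne_top q.asIdeal hq')]
  -- finiteness of `length (M/IM)`
  have hIle : Module.length A (M ⧸ I • (⊤ : Submodule A M)) ≤
      Module.length A (M ⧸ b • (⊤ : Submodule A M)) := by
    have hsub : b • (⊤ : Submodule A M) ≤ I • (⊤ : Submodule A M) := by
      intro x hx
      obtain ⟨y, _, rfl⟩ := (Submodule.mem_smul_pointwise_iff_exists _ _ _).mp hx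
      exact Submodule.smul_mem_smul hbI Submodule.mem_top
    refine Module.length_le_of_surjective (Submodule.mapQ _ _ LinearMap.id (by simpa using hsub)) ?_
    intro x
    obtain ⟨m, rfl⟩ := Submodule.Quotient.mk_surjective _ x
    exact ⟨Submodule.Quotient.mk m, by simp [Submodule.mapQ_apply]⟩
  have hbfin : Module.length A (M ⧸ b • (⊤ : Submodule A M)) ≠ ⊤ := by
    rw [eb']; exact ENat.coe_ne_top _
  have hIfin : Module.length A (M ⧸ I • (⊤ : Submodule A M)) ≠ ⊤ :=
    ne_top_of_le_ne_top hbfin hIle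
  have hafin : Module.length A (M ⧸ a • (⊤ : Submodule A M)) ≠ ⊤ := by
    rw [ea']; exact ENat.coe_ne_top _
  have hN1fin : Module.length A (M ⧸ N1) ≠ ⊤ := by
    rw [e2]; exact WithTop.add_ne_top.mpr ⟨hIfin, hafin⟩
  have hPfin : Module.length A (M ⧸ Submodule.comap (LinearMap.lsmul A M b) N1) ≠ ⊤ := by
    intro h
    rw [h, top_add] at e1
    exact hN1fin e1
  -- natural number equation
  have hnat : (Module.length A (M ⧸ Submodule.comap (LinearMap.lsmul A M b) N1)).toNat +
      (Module.length A (M ⧸ b • (⊤ : Submodule A M))).toNat =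
      (Module.length A (M ⧸ I • (⊤ : Submodule A M))).toNat +
        (Module.length A (M ⧸ a • (⊤ : Submodule A M))).toNat := by
    have h := e1.symm.trans e2
    rw [← ENat.coe_toNat hPfin, ← ENat.coe_toNat hbfin, ← ENat.coe_toNat hIfin,
      ← ENat.coe_toNat hafin, ← Nat.cast_add, ← Nat.cast_add, Nat.cast_inj] at h
    simpa using h
  rw [ea', eb', ENat.toNat_natCast, ENat.toNat_natCast] at hnat
  rw [finsum_minimal _ hfin]
  have hrhs : ∀ q ∈ hfin.toFinset,
      ((Module.length (Localization.AtPrime q.asIdeal)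
          (LocalizedModule q.asIdeal.primeCompl M)).toNat : ℤ) *
        CycAlg.ordFrac (A ⧸ q.asIdeal) q.asIdeal.ResidueField
          (algebraMap A q.asIdeal.ResidueField a / algebraMap A q.asIdeal.ResidueField b) =
      ((Ring.ord (A ⧸ q.asIdeal) (Ideal.Quotient.mk q.asIdeal a)).toNat *
        (Module.length (Localization.AtPrime q.asIdeal)
          (LocalizedModule q.asIdeal.primeCompl M)).toNat : ℕ) -
      ((Ring.ord (A ⧸ q.asIdeal) (Ideal.Quotient.mk q.asIdeal b)).toNat *
        (Module.length (Localization.AtPrime q.asIdeal)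
          (LocalizedModule q.asIdeal.primeCompl M)).toNat : ℕ) := by
    intro q hq
    have hq' := (hmemT q).mp hq
    obtain ⟨_, _, h3⟩ := ordFrac_eq hA ha hb q.asIdeal hq'
    rw [h3]
    push_cast
    ring
  rw [Finset.sum_congr rfl hrhs, Finset.sum_sub_distrib, ← Nat.cast_sum, ← Nat.cast_sum]
  omega

end helpers

/-- Let A be a Noetherian local ring of dimension 1, a, b ∈ A nonzerodivisors, A without embedded
primes, M a finite A-module without embedded associated primes and with Supp(M) = Spec(A). Put I =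
{x ∈ A | x·(a/b) ∈ A}, and write 𝔮_1, …, 𝔮_t for the minimal prime ideals of A. The conclusion is
that M contains (a/b)IM, and that the difference length_A(M/(a/b)IM) minus length_A(M/IM) equals the
sum over i of length_{A_{𝔮_i}}(M_{𝔮_i}) multiplied by ord_{A/𝔮_i}(a/b). Encoding: I is the ideal
quotient (bA : aA); '(a/b)IM ⊂ M' is aIM ⊆ bM; (a/b)IM is the submodule of m with bm ∈ aIM (b acts
injectively on M); ord_{A/𝔮}(a/b) is CycAlg.ordFrac on κ(𝔮) = Frac(A/𝔮); lengths are truncated to ℕ
(they are finite here). -/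
theorem result {A : Type u} [CommRing A] [IsNoetherianRing A] [IsLocalRing A] (hA : ringKrullDim A = 1) {M : Type u} [AddCommGroup M] [Module A M] [Module.Finite A M] (a b : A) (ha : a ∈ nonZeroDivisors A) (hb : b ∈ nonZeroDivisors A) (hAemb : ∀ p ∈ associatedPrimes A A, p ∈ minimalPrimes A) (hMemb : ∀ p ∈ associatedPrimes A M, p ∈ minimalPrimes A) (hsupp : Module.support A M = Set.univ) (I : Ideal A) (hI : I = (Ideal.span {b}).colon (Ideal.span {a})) (P : Submodule A M) (hP : P = Submodule.comap (LinearMap.lsmul A M b) ((Ideal.span {a} * I) • (⊤ : Submodule A M))) : (Ideal.span {a} * I) • (⊤ : Submodule A M) ≤ LinearMap.range (LinearMap.lsmul A M b) ∧ ((Module.length A (M ⧸ P)).toNat : ℤ) - ((Module.length A (M ⧸ I • (⊤ : Submodule A M))).toNat : ℤ) = ∑ᶠ (q : PrimeSpectrum A) (_ : q.asIdeal ∈ minimalPrimes A), ((Module.length (Localization.AtPrime q.asIdeal) (LocalizedModule q.asIdeal.primeCompl M)).toNat : ℤ) * CycAlg.ordFrac (A ⧸ q.asIdeal) q.asIdeal.ResidueField (algebraMap A q.asIdeal.ResidueField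 a / algebraMap A q.asIdeal.ResidueField b) := by
  exact main hA a b ha hb hAemb hMemb hsupp I hI P hP

end Groth.Agent.S6480
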