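import Groth.Statements.S6481
import Groth.Agent.Lib.Helper64.GlueH1

set_option autoImplicit false
universe u
open CycAlg

namespace Groth.Agent.S6481

/-- Let (A, 𝔪) be a 2-dimensional Noetherian local ring, t ∈ 𝔪 a nonzerodivisor with V(t) = {𝔪, 𝔮_1, …,
𝔮_r}, and A_{𝔮_i} ⊂ B_i finite ring extensions with B_i/A_{𝔮_i} annihilated by a power of t and with
t a nonzerodivisor on each B_i. Then A admits some finite extension A ⊂ B whose quotient B/A is
killed by some power of t, such that for every i the localization B_{𝔮_i} = B ⊗_A A_{𝔮_i} is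
isomorphic to B_i (existence of an A_{𝔮_i}-algebra isomorphism; B itself is only asserted to exist).
(The published statement allows any finite ring extensions A_{𝔮_i} ⊂ B_i; this row asks t to be a
nonzerodivisor on each B_i, the case its proof treats, where B_i sits inside t^{-n}A_{𝔮_i}. The
published statement also makes B local with the same residue field as A; this row omits that
clause.) Finite extension with quotient killed by a power of t: CycAlg.IsFinExt with the ideal (t). -/
theorem result (A : Type u) [CommRing A] [IsNoetherianRing A] [IsLocalRing A] (hA : ringKrullDim A = 2) (t : A) (ht : t ∈ IsLocalRing.maximalIdeal A) (htnz : t ∈ nonZeroDivisors A) (r : ℕ) (q : Fin r → Ideal A) (hq : ∀ i, (q i).IsPrime) (hinj : Function.Injective q) (hqm : ∀ i, q i ≠ IsLocalRing.maximalIdeal A) (htq : ∀ i, t ∈ q i) (hV : ∀ p : Ideal A, p.IsPrime → t ∈ p → p = IsLocalRing.maximalIdeal A ∨ ∃ i, p = q i) (B : Fin r → Type u) [∀ i, CommRing (B i)] [∀ i, Algebra (Localization.AtPrime (q i)) (B i)] (hB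 : ∀ i, CycAlg.IsFinExt (Localization.AtPrime (q i)) (B i) (Ideal.span {algebraMap A (Localization.AtPrime (q i)) t})) (htB : ∀ i, IsSMulRegular (B i) (algebraMap A (Localization.AtPrime (q i)) t)) : ∃ (C : Type u) (_ : CommRing C) (_ : Algebra A C), CycAlg.IsFinExt A C (Ideal.span {t}) ∧ ∀ i, Nonempty (TensorProduct A (Localization.AtPrime (q i)) C ≃ₐ[Localization.AtPrime (q i)] B i) := by
  classical
  have hn0 : ∀ i, ∃ n : ℕ, ∀ y ∈ Ideal.span {algebraMap A (Localization.AtPrime (q i)) t} ^ n,
      ∀ b : B i, y • b ∈ (algebraMap (Localization.AtPrime (q i)) (B i)).range :=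
    fun i => (hB i).2.2
  choose nn hnn using hn0
  obtain ⟨n, hnle⟩ : ∃ n : ℕ, ∀ i, nn i ≤ n :=
    ⟨Finset.univ.sup nn, fun i => Finset.le_sup (Finset.mem_univ i)⟩
  have hn : ∀ i, ∀ b : B i, ((algebraMap A (Localization.AtPrime (q i)) t) ^ n) • b ∈
      (algebraMap (Localization.AtPrime (q i)) (B i)).range := fun i b =>
    hnn i _ (Ideal.pow_le_pow_right (hnle i)
      (Ideal.pow_mem_pow (Ideal.mem_span_singleton_self _) n)) b
  have hinj' : ∀ i, Function.Injective (algebraMap (Localization.AtPrime (q i)) (B i)) :=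
    fun i => (hB i).1
  have hdim : ∀ (P : Ideal A) [P.IsPrime], t ∈ P → ∀ j, P ≤ q j → P = q j :=
    fun P _ htP j hPj =>
      Groth.Agent.Lib.Helper64.GlueH1.dim_lemma t q hA htnz hqm hV P htP j hPj
  obtain ⟨c, hc⟩ := Groth.Agent.Lib.Helper64.GlueH1.exists_pow_le_bb t q B n hinj' htB hn hV
  have hav1 : ∀ i, ∃ s ∈ (q i).primeCompl, s ∈ IsLocalRing.maximalIdeal A ^ c := by
    intro i
    by_contra H
    have h1 : IsLocalRing.maximalIdeal A ^ c ≤ q i := by
      intro s hs
      by_contra h
      exact H ⟨s, h, hs⟩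
    have h2 : IsLocalRing.maximalIdeal A ≤ q i := Ideal.IsPrime.le_of_pow_le h1
    exact hqm i ((IsLocalRing.maximalIdeal.isMaximal A).eq_of_le (hq i).ne_top h2).symm
  have hav2 := fun i =>
    Groth.Agent.Lib.Helper64.GlueH1.exists_avoid t q B n hdim htq hinj i
  obtain ⟨h1, h2, h3, h4⟩ := Groth.Agent.Lib.Helper64.GlueH1.exists_glue t q B n hinj' htB hn
    (IsLocalRing.maximalIdeal A ^ c) htnz hc hav1 hav2
  exact ⟨Groth.Agent.Lib.Helper64.GlueH1.Csub t q B n _ hc, inferInstance, inferInstance,
    ⟨h1, h2, n, h3⟩, h4⟩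

end Groth.Agent.S6481
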