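import Groth.Statements.S6482
import Mathlib.RingTheory.AlgebraicIndependent.Transcendental
import Mathlib.LinearAlgebra.Dimension.FreeAndStrongRankCondition
-- import your own Groth.Agent.* helpers here

set_option autoImplicit false
universe u
open CategoryTheory AlgebraicGeometry
open CategoryTheory.Limits
open Cyc

namespace Groth.Agent.S6482

/-- Let f : Y → X be an envelope. Then f_* : Z_k(Y) → Z_k(X) is surjective, hence so is f_* : CH_k(Y) →
CH_k(X). An envelope is a proper, completely decomposed morphism (every point of the target has a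
point over it with trivial residue field extension; this prelude's Cyc.IsCompletelyDecomposed). Here
a pair (X, δ) with Cyc.IsSetup plays the role of a scheme locally of finite type over the base (S,
δ) (X locally Noetherian with universally catenary local rings, δ a dimension function), and
Cyc.DeltaCompat records that the dimension function upstairs is the induced one. -/
theorem result (X Y : Scheme.{u}) (δ : X → ℤ) (δY : Y → ℤ) (hX : Cyc.IsSetup X δ) (hY : Cyc.IsSetup Y δY) (f : Y ⟶ X) [IsProper f] (hcd : Cyc.IsCompletelyDecomposed f) (hδ : Cyc.DeltaCompat f δY δ) (k : ℤ) (α : AlgebraicCycle X ℤ) (hα : α ∈ Cyc.Zk X δ k) : ∃ β : AlgebraicCycle Y ℤ, β ∈ Cyc.Zk Y δY k ∧ AlgebraicCycle.map f δY δ β = α := by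
  classical
  choose s hs1 hs2 using hcd
  -- residue field facts at the chosen points
  have hbij : ∀ x : X, Function.Bijective (f.residueFieldMap (s x)).hom := fun x =>
    ⟨(f.residueFieldMap (s x)).hom.injective, hs2 x⟩
  have hdeg : ∀ x : X, f.residueDegree (s x) = 1 := by
    intro x
    letI := (f.residueFieldMap (s x)).hom.toAlgebra
    exact Module.finrank_of_bijective_algebraMap (hbij x)
  have hδs : ∀ x : X, δY (s x) = δ (f (s x)) := by
    intro x
    obtain ⟨n, hn1, hn2⟩ := hδ (s x)
    letI := (f.residueFieldMap (s x)).hom.toAlgebra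
    have halg : Algebra.IsAlgebraic (X.residueField (f (s x))) (Y.residueField (s x)) := by
      constructor
      intro a
      obtain ⟨b, rfl⟩ := hs2 x a
      exact isAlgebraic_algebraMap b
    have h0 : Algebra.trdeg (X.residueField (f (s x))) (Y.residueField (s x)) = 0 :=
      _root_.trdeg_eq_zero
    have hn0 : n = 0 := by
      have : ((n : ℕ) : Cardinal) = 0 := by rw [← hn1]; exact h0
      exact_mod_cast this
    rw [hn2, hn0]; simp
  let βf : Y → ℤ := fun y => if y = s (f y) then α (f y) else 0
  have hβsupp : ∀ y, βf y ≠ 0 → y = s (f y) ∧ α (f y) ≠ 0 := by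
    intro y hy
    simp only [βf] at hy
    split_ifs at hy with h
    · exact ⟨h, hy⟩
    · exact absurd rfl hy
  let β : AlgebraicCycle Y ℤ :=
    { toFun := βf
      supportWithinDomain' := Set.subset_univ _
      supportLocallyFiniteWithinDomain' := by
        intro y₀ _
        obtain ⟨t, ht, hfin⟩ := α.supportLocallyFiniteWithinDomain' (f y₀) (Set.mem_univ _)
        refine ⟨f ⁻¹' t, f.continuous.continuousAt ht, ?_⟩
        refine (hfin.image s).subset ?_
        rintro y ⟨hy1, hy2⟩
        obtain ⟨h1, h2⟩ := hβsupp y hy2
        exact ⟨f y, ⟨hy1, h2⟩, h1.symm⟩ }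
  have hβ : ∀ y, β y = βf y := fun _ => rfl
  refine ⟨β, ?_, ?_⟩
  · intro y hy
    by_contra hne
    obtain ⟨h1, h2⟩ := hβsupp y hne
    apply h2
    apply hα
    rw [h1, hδs (f y), hs1] at hy
    exact hy
  · ext x
    change ∑ᶠ y ∈ f ⁻¹' {x}, β y * ((AlgebraicCycle.mapCoeff f δY δ y : ℕ) : ℤ) = α x
    rw [finsum_mem_def, finsum_eq_single _ (s x)]
    · rw [Set.indicator_of_mem (by simp [hs1 x])]
      have h1 : β (s x) = α x := by
        rw [hβ]
        simp only [βf, hs1 x, if_true]
      have h2 : AlgebraicCycle.mapCoeff f δY δ (s x) = 1 := by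
        unfold AlgebraicCycle.mapCoeff
        rw [if_pos (hδs x), hdeg x]
      rw [h1, h2]; simp
    · intro y hy
      by_cases hfy : f y = x
      · rw [Set.indicator_of_mem (by simpa using hfy)]
        have : β y = 0 := by
          rw [hβ]
          simp only [βf]
          rw [if_neg]
          rw [hfy]; exact hy
        rw [this, zero_mul]
      · rw [Set.indicator_of_notMem (by simpa using hfy)]

end Groth.Agent.S6482
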