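import Groth.Statements.S6484
-- import your own Groth.Agent.* helpers here

set_option autoImplicit false
universe u
open CategoryTheory AlgebraicGeometry
open CategoryTheory.Limits
open Cyc

namespace Groth.Agent.S6484

/-- If f : Y → X is completely decomposed (this prelude's Cyc.IsCompletelyDecomposed: over every point
of X lies a point of Y with trivial residue field extension) and g : X' → X is any morphism of
schemes, then the base change Y ×_X X' → X' is completely decomposed. Consequently the base change
of an envelope (a proper completely decomposed morphism) is an envelope, properness being preserved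
by base change. (The published envelope statement takes X′ → X between schemes locally of finite
type over a base; this row allows any g.) -/
theorem result (X X' Y : Scheme.{u}) (f : Y ⟶ X) (g : X' ⟶ X) (hcd : Cyc.IsCompletelyDecomposed f) : Cyc.IsCompletelyDecomposed (pullback.snd f g) := by
  intro x'
  obtain ⟨y, hy, hs⟩ := hcd (g x')
  have hbij : Function.Bijective (f.residueFieldMap y).hom :=
    ⟨(f.residueFieldMap y).hom.injective, hs⟩
  haveI : IsIso (f.residueFieldMap y) :=
    (ConcreteCategory.isIso_iff_bijective (f.residueFieldMap y)).mpr hbij
  let φ : Y.residueField y ⟶ X'.residueField x' :=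
    inv (f.residueFieldMap y) ≫ (X.residueFieldCongr hy).hom ≫ g.residueFieldMap x'
  let a : Spec (X'.residueField x') ⟶ X' := X'.fromSpecResidueField x'
  let b : Spec (X'.residueField x') ⟶ Y := Spec.map φ ≫ Y.fromSpecResidueField y
  have hcompat : b ≫ f = a ≫ g := by
    simp only [a, b, φ, Category.assoc]
    rw [← Scheme.Hom.SpecMap_residueFieldMap_fromSpecResidueField,
      ← Scheme.Hom.SpecMap_residueFieldMap_fromSpecResidueField, ← Spec.map_comp_assoc,
      IsIso.hom_inv_id_assoc, Spec.map_comp_assoc, Scheme.residueFieldCongr_fromSpecResidueField]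
  let ℓ : Spec (.of (X'.residueField x')) ⟶ pullback f g := pullback.lift b a hcompat
  have hℓ : ℓ ≫ pullback.snd f g = a := pullback.lift_snd _ _ _
  let z : ↥(pullback f g) := ℓ (IsLocalRing.closedPoint (X'.residueField x'))
  have hz : pullback.snd f g z = x' := by
    have : (ℓ ≫ pullback.snd f g) (IsLocalRing.closedPoint (X'.residueField x')) = x' := by
      rw [hℓ]; exact Scheme.fromSpecResidueField_apply _ _
    exact this
  refine ⟨z, hz, ?_⟩
  have key := Scheme.descResidueField_stalkClosedPointTo_comp (pullback.snd f g) ℓ
  -- the left-hand side is an isomorphism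
  have hA : Function.Surjective
      (Scheme.descResidueField (Scheme.stalkClosedPointTo (ℓ ≫ pullback.snd f g))).hom := by
    have h1 : (Scheme.SpecToEquivOfField (X'.residueField x') X') (ℓ ≫ pullback.snd f g) =
        ⟨x', 𝟙 _⟩ := by
      rw [← Equiv.eq_symm_apply, hℓ]
      simp only [a, Scheme.SpecToEquivOfField, Equiv.coe_fn_symm_mk]
      rw [Spec.map_id]
      exact (Category.id_comp (X'.fromSpecResidueField x')).symm
    rw [Scheme.SpecToEquivOfField_eq_iff] at h1
    obtain ⟨e, he⟩ := h1
    simp only [Scheme.SpecToEquivOfField_apply_snd, Category.comp_id] at he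
    rw [he]
    exact ((ConcreteCategory.isIso_iff_bijective (X'.residueFieldCongr e).hom).mp inferInstance).2
  intro w
  obtain ⟨v, hv⟩ := hA ((Scheme.descResidueField (Scheme.stalkClosedPointTo ℓ)).hom w)
  refine ⟨v, ?_⟩
  apply (Scheme.descResidueField (Scheme.stalkClosedPointTo ℓ)).hom.injective
  rw [← hv]
  have := congrArg (fun t => t.hom v) key
  exact this.symm

end Groth.Agent.S6484
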