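import Groth.Statements.S6499
import Groth.Agent.Lib.QCoh.Helper18_Ass
import Groth.Agent.Lib.QCoh.Helper50_FinitePush

set_option autoImplicit false
universe u
open CategoryTheory AlgebraicGeometry
open Cyc

namespace Groth.Agent.S6499

open Groth.Agent.Lib.QCoh TopologicalSpace in
theorem exists_nontrivial_stalk_of_pushforward {X Y : Scheme.{u}} (π : X ⟶ Y)
    (hcl : IsClosedMap π) (F : X.Modules) (y : Y)
    (h : Nontrivial (((Scheme.Modules.pushforward π).obj F).presheaf.stalk y)) :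
    ∃ x, π x = y ∧ Nontrivial (F.presheaf.stalk x) := by
  by_contra hcon
  push Not at hcon
  have hsub : ∀ x, π x = y → Subsingleton (F.presheaf.stalk x) :=
    fun x hx => hcon x hx
  set P := (Scheme.Modules.pushforward π).obj F with hP
  suffices h0 : ∀ a : P.presheaf.stalk y, a = 0 by
    obtain ⟨a, b, hab⟩ := h.exists_pair_ne
    exact hab ((h0 a).trans (h0 b).symm)
  intro a
  obtain ⟨V, hyV, s, rfl⟩ := TopCat.Presheaf.exists_germ_eq P.presheaf a
  let s' : Γ(F, π ⁻¹ᵁ V) := s
  let Wset : Set X := {x | ∃ hx : x ∈ π ⁻¹ᵁ V, F.presheaf.germ (π ⁻¹ᵁ V) x hx s' = 0}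
  have hWopen : IsOpen Wset := by
    rw [isOpen_iff_forall_mem_open]
    rintro x ⟨hx, hx0⟩
    obtain ⟨W', hxW', i1, i2, hres⟩ :=
      TopCat.Presheaf.germ_eq F.presheaf x hx hx s' 0 (hx0.trans (map_zero _).symm)
    refine ⟨W', ?_, W'.2, hxW'⟩
    intro x' hx'
    refine ⟨i1.le hx', ?_⟩
    rw [← TopCat.Presheaf.germ_res_apply F.presheaf i1 x' hx' s', hres, map_zero, map_zero]
  have hZ : IsClosed Wsetᶜ := hWopen.isClosed_compl
  have hπZ : IsClosed (π '' Wsetᶜ) := hcl _ hZ
  have hy : y ∉ π '' Wsetᶜ := by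
    rintro ⟨x, hxZ, hxy⟩
    apply hxZ
    have hx : x ∈ π ⁻¹ᵁ V := by
      show π x ∈ V
      rw [hxy]; exact hyV
    exact ⟨hx, (hsub x hxy).elim _ _⟩
  let V' : Y.Opens := V ⊓ ⟨(π '' Wsetᶜ)ᶜ, hπZ.isOpen_compl⟩
  have hyV' : y ∈ V' := ⟨hyV, hy⟩
  have hres0 : P.presheaf.map (homOfLE (inf_le_left : V' ≤ V)).op s = 0 := by
    refine section_eq_zero_of_germ_eq_zero F (π ⁻¹ᵁ V') _ ?_
    intro x hx
    have hxW : x ∈ Wset := by
      by_contra hxn
      exact hx.2 ⟨x, hxn, rfl⟩
    obtain ⟨hx1, hx0⟩ := hxW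
    have hle : π ⁻¹ᵁ V' ≤ π ⁻¹ᵁ V := (Opens.map π.base).monotone inf_le_left
    exact (TopCat.Presheaf.germ_res_apply F.presheaf (homOfLE hle) x hx s').trans hx0
  rw [← TopCat.Presheaf.germ_res_apply P.presheaf (homOfLE inf_le_left) y hyV' s, hres0, map_zero]

open Groth.Agent.Lib.QCoh in
/-- Suppose X and Y are schemes locally of finite type over the base, and π : X → Y is a morphism
between them that is finite. Then π_* sends Coh_{≤k}(X) into Coh_{≤k}(Y): for F coherent on X with
dim_δ Supp(F) ≤ k, the direct image π_*F is coherent with dim_δ Supp(π_*F) ≤ k (Cyc.CohLe).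
(Exactness of π_* and the commutative diagram with the cycle maps are not restated; the latter is
the existing compatibility of [−]_k with π_*.) Here a pair (X, δ) with Cyc.IsSetup plays the role of
a scheme locally of finite type over the base (S, δ) (X locally Noetherian with universally catenary
local rings, δ a dimension function), and Cyc.DeltaCompat records that the dimension function
upstairs is the induced one. -/
theorem result (X Y : Scheme.{u}) (δX : X → ℤ) (δY : Y → ℤ) (hX : Cyc.IsSetup X δX) (hY : Cyc.IsSetup Y δY) (π : X ⟶ Y) [IsFinite π] (hδ : Cyc.DeltaCompat π δX δY) (k : ℤ) (F : X.Modules) (hF : Cyc.CohLe δX k F) : Cyc.CohLe δY k ((Coh.push π).obj F) := by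
  obtain ⟨⟨hq, hft⟩, hsupp⟩ := hF
  have : F.IsQuasicoherent := hq
  have : F.IsFiniteType := hft
  refine ⟨⟨isQuasicoherent_pushforward_of_isAffineHom π F,
    isFiniteType_pushforward_of_isFinite π F⟩, ?_⟩
  intro y hy
  obtain ⟨x, rfl, hx⟩ := exists_nontrivial_stalk_of_pushforward π π.isClosedMap F y hy
  obtain ⟨n, -, hn⟩ := hδ x
  have := hsupp x hx
  omega

end Groth.Agent.S6499
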