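import Groth.Statements.S6500
import Mathlib
import Groth.Agent.S0563
import Groth.Agent.Lib.Helper33.TorPd
import Groth.Agent.Lib.Helper62.SmoothStalk
import Groth.Agent.Lib.QCoh.Helper74_TorsionFreeDimOne

set_option autoImplicit false
universe u
open CategoryTheory CategoryTheory.Limits AlgebraicGeometry
attribute [local instance] HasDerivedCategory.standard
open IntMult

namespace Groth.Agent.S6500

/-- Let X be a nonsingular variety of dimension n and F, G coherent O_X-modules. The Tor sheaves
Tor_p^{O_X}(F, G), whose stalks are Tor_p^{O_{X,x}}(F_x, G_x), are nonzero only for p ∈ {0, …, n}: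
for every point x and every p > n, Tor_p^{O_{X,x}}(F_x, G_x) = 0. (Coherence of the Tor sheaves and
the support statement are not restated.) Nonsingular variety: X → Spec K smooth, separated,
quasi-compact, X integral, K algebraically closed; n = dim X. -/
theorem result (K : Type u) [Field K] [IsAlgClosed K] (X : Scheme.{u}) (f : X ⟶ Spec (CommRingCat.of K)) [Smooth f] [IsSeparated f] [QuasiCompact f] [IsIntegral X] (n : ℕ) (hn : topologicalKrullDim X = n) (F G : X.Modules) (hF : Coh.IsCoh F) (hG : Coh.IsCoh G) (x : X) (p : ℕ) (hp : n < p) : Subsingleton (DRing.Tor ↑(X.presheaf.stalk x) p ↑(F.presheaf.stalk x) ↑(G.presheaf.stalk x)) := by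
  haveI : IsRegularLocalRing (X.presheaf.stalk x) :=
    Groth.Agent.Lib.Helper62.SmoothStalk.isRegularLocalRing_stalk f x
  have hle : ringKrullDim (X.presheaf.stalk x) ≤ (n : WithBot ℕ∞) := by
    rw [← hn]
    exact Groth.Agent.Lib.QCoh.TFDimOne74.ringKrullDim_stalk_le X x
  obtain ⟨d, hd⟩ : ∃ d : ℕ, ringKrullDim (X.presheaf.stalk x) = d := by
    have h0 : (0 : WithBot ℕ∞) ≤ ringKrullDim (X.presheaf.stalk x) := ringKrullDim_nonneg_of_nontrivial
    generalize ringKrullDim (X.presheaf.stalk x) = r at hle h0
    induction r using WithBot.recBotCoe with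
    | bot => exact absurd h0 (by simp)
    | coe r =>
      have h1 : r ≤ (n : ℕ∞) := by exact_mod_cast hle
      obtain ⟨m, rfl⟩ := ENat.ne_top_iff_exists.mp (ne_top_of_le_ne_top (ENat.coe_ne_top n) h1)
      exact ⟨m, rfl⟩
  have hdn : d ≤ n := by
    rw [hd] at hle
    exact_mod_cast hle
  have hpd := Groth.Agent.S0563.result (X.presheaf.stalk x) d hd (F.presheaf.stalk x)
  have hz := Groth.Agent.Lib.Helper33.TorPd.isZero_tor_of_hasProjectiveDimensionLT
    (ModuleCat.of (X.presheaf.stalk x) (G.presheaf.stalk x)) d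
    (ModuleCat.of (X.presheaf.stalk x) (F.presheaf.stalk x)) hpd p (lt_of_le_of_lt hdn hp)
  exact ModuleCat.subsingleton_of_isZero hz

end Groth.Agent.S6500
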