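import Groth.Statements.S6501
-- import your own Groth.Agent.* helpers here

set_option autoImplicit false
universe u
open DPow

namespace Groth.Agent.S6501


open Finset Nat in
theorem cancel {A : Type u} [CommRing A] [IsAddTorsionFree A] {k : ℕ} (hk : k ≠ 0) {a b : A}
    (h : (k : A) * a = (k : A) * b) : a = b := by
  have := IsAddTorsionFree.nsmul_right_injective (M := A) hk
  apply this
  simpa [nsmul_eq_mul] using h

theorem acf (i j : ℕ) : (i + j).choose i * i.factorial * j.factorial = (i + j).factorial := by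
  rw [Nat.choose_symm_add]; exact Nat.add_choose_mul_factorial_mul_factorial i j

/-- `x` has a divided power sequence in `I`. -/
def Q {A : Type u} [CommRing A] (I : Ideal A) (x : A) : Prop :=
  ∃ f : ℕ → A, f 0 = 1 ∧ (∀ n, 1 ≤ n → f n ∈ I) ∧ ∀ n, (Nat.factorial n : A) * f n = x ^ n

theorem Q_zero {A : Type u} [CommRing A] (I : Ideal A) : Q I 0 := by
  refine ⟨fun n => if n = 0 then 1 else 0, by simp, ?_, ?_⟩
  · intro n hn
    have : n ≠ 0 := by omega
    simp [this]
  · intro n
    by_cases hn : n = 0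
    · subst hn; simp
    · simp [hn]

theorem Q_smul {A : Type u} [CommRing A] (I : Ideal A) (a : A) {x : A} (hx : Q I x) :
    Q I (a * x) := by
  obtain ⟨f, f0, fI, ff⟩ := hx
  refine ⟨fun n => a ^ n * f n, by simp [f0], ?_, ?_⟩
  · intro n hn
    exact I.mul_mem_left _ (fI n hn)
  · intro n
    rw [mul_pow, ← ff n]; ring

theorem Q_add {A : Type u} [CommRing A] (I : Ideal A) {x y : A} (hx : Q I x) (hy : Q I y) :
    Q I (x + y) := by
  obtain ⟨f, f0, fI, ff⟩ := hx
  obtain ⟨g, g0, gI, gg⟩ := hy
  refine ⟨fun n => ∑ k ∈ Finset.antidiagonal n, f k.1 * g k.2, by simp [f0, g0], ?_, ?_⟩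
  · intro n hn
    apply Submodule.sum_mem
    intro k hk
    rw [Finset.mem_antidiagonal] at hk
    by_cases h1 : 1 ≤ k.1
    · exact I.mul_mem_right _ (fI _ h1)
    · exact I.mul_mem_left _ (gI _ (by omega))
  · intro n
    rw [Commute.add_pow' (Commute.all x y), Finset.mul_sum]
    apply Finset.sum_congr rfl
    intro k hk
    rw [Finset.mem_antidiagonal] at hk
    rw [← ff k.1, ← gg k.2, nsmul_eq_mul, ← hk, ← acf k.1 k.2]
    push_cast
    ring

theorem Q_of_mem {A : Type u} [CommRing A] (I : Ideal A) (S : Set A) (hS : Ideal.span S = I)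
    (h : ∀ x ∈ S, ∀ n : ℕ, 1 ≤ n → x ^ n ∈ Ideal.span {(Nat.factorial n : A)} * I)
    {x : A} (hx : x ∈ I) : Q I x := by
  rw [← hS] at hx
  induction hx using Submodule.span_induction with
  | mem x hx =>
    have h' : ∀ n : ℕ, ∃ y : A, (1 ≤ n → y ∈ I) ∧ (n = 0 → y = 1) ∧
        (Nat.factorial n : A) * y = x ^ n := by
      intro n
      by_cases hn : n = 0
      · subst hn
        exact ⟨1, by simp, by simp, by simp⟩
      · have := h x hx n (by omega)
        rw [Ideal.mem_span_singleton_mul] at this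
        obtain ⟨z, hz, hzz⟩ := this
        exact ⟨z, fun _ => hz, fun h0 => absurd h0 hn, hzz⟩
    choose f hf1 hf2 hf3 using h'
    exact ⟨f, hf2 0 rfl, hf1, hf3⟩
  | zero => exact Q_zero I
  | add x y _ _ hx hy => exact Q_add I hx hy
  | smul a x _ hx => exact Q_smul I a hx

open Classical in
/-- The divided power function. -/
noncomputable def g {A : Type u} [CommRing A] (I : Ideal A) (hQ : ∀ x ∈ I, Q I x) (n : ℕ) (x : A) : A :=
  if h : x ∈ I then Classical.choose (hQ x h) n else 0

theorem g_spec {A : Type u} [CommRing A] (I : Ideal A) (hQ : ∀ x ∈ I, Q I x) {x : A} (hx : x ∈ I) :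
    g I hQ 0 x = 1 ∧ (∀ n, 1 ≤ n → g I hQ n x ∈ I) ∧
      ∀ n, (Nat.factorial n : A) * g I hQ n x = x ^ n := by
  have := Classical.choose_spec (hQ x hx)
  simp only [g, dif_pos hx]
  exact this

theorem g_null {A : Type u} [CommRing A] (I : Ideal A) (hQ : ∀ x ∈ I, Q I x) {x : A} (hx : x ∉ I)
    (n : ℕ) : g I hQ n x = 0 := by
  simp [g, hx]

open Finset Nat in
/-- The divided power structure. -/
noncomputable def dp {A : Type u} [CommRing A] [IsAddTorsionFree A] (I : Ideal A)
    (hQ : ∀ x ∈ I, Q I x) : DividedPowers I where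
  dpow := g I hQ
  dpow_null hx := g_null I hQ hx _
  dpow_zero hx := (g_spec I hQ hx).1
  dpow_one {x} hx := by
    have := (g_spec I hQ hx).2.2 1
    simpa using this
  dpow_mem {n x} hn hx := (g_spec I hQ hx).2.1 n (by omega)
  dpow_add {n x y} hx hy := by
    apply cancel (Nat.factorial_ne_zero n)
    rw [(g_spec I hQ (I.add_mem hx hy)).2.2 n, Commute.add_pow' (Commute.all x y), Finset.mul_sum]
    apply Finset.sum_congr rfl
    intro k hk
    rw [Finset.mem_antidiagonal] at hk
    rw [← (g_spec I hQ hx).2.2 k.1, ← (g_spec I hQ hy).2.2 k.2, nsmul_eq_mul, ← hk,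
      ← acf k.1 k.2]
    push_cast
    ring
  dpow_mul {n a x} hx := by
    apply cancel (Nat.factorial_ne_zero n)
    rw [(g_spec I hQ (I.mul_mem_left a hx)).2.2 n, mul_pow, ← (g_spec I hQ hx).2.2 n]
    ring
  mul_dpow {m n x} hx := by
    apply cancel (Nat.mul_ne_zero (Nat.factorial_ne_zero m) (Nat.factorial_ne_zero n))
    have h1 := (g_spec I hQ hx).2.2 m
    have h2 := (g_spec I hQ hx).2.2 n
    have h3 := (g_spec I hQ hx).2.2 (m + n)
    have h4 := acf m n
    push_cast
    calc (m ! : A) * (n ! : A) * (g I hQ m x * g I hQ n x)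
        = ((m ! : A) * g I hQ m x) * ((n ! : A) * g I hQ n x) := by ring
      _ = x ^ (m + n) := by rw [h1, h2, pow_add]
      _ = ((m + n) ! : A) * g I hQ (m + n) x := h3.symm
      _ = (((m + n).choose m * m ! * n ! : ℕ) : A) * g I hQ (m + n) x := by rw [h4]
      _ = (m ! : A) * (n ! : A) * (((m + n).choose m : A) * g I hQ (m + n) x) := by
        push_cast; ring
  dpow_comp {m n x} hn hx := by
    have hgn : g I hQ n x ∈ I := (g_spec I hQ hx).2.1 n (by omega)
    apply cancel (Nat.mul_ne_zero (pow_ne_zero m (Nat.factorial_ne_zero n)) (Nat.factorial_ne_zero m))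
    have h1 := (g_spec I hQ hgn).2.2 m
    have h2 := (g_spec I hQ hx).2.2 n
    have h3 := (g_spec I hQ hx).2.2 (m * n)
    have h4 := Nat.uniformBell_mul_eq m hn
    push_cast
    calc (n ! : A) ^ m * (m ! : A) * g I hQ m (g I hQ n x)
        = (n ! : A) ^ m * ((m ! : A) * g I hQ m (g I hQ n x)) := by ring
      _ = ((n ! : A) * g I hQ n x) ^ m := by rw [h1, mul_pow]
      _ = x ^ (m * n) := by rw [h2, ← pow_mul, mul_comm]
      _ = ((m * n) ! : A) * g I hQ (m * n) x := h3.symm
      _ = ((Nat.uniformBell m n * n ! ^ m * m ! : ℕ) : A) * g I hQ (m * n) x := by rw [h4]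
      _ = (n ! : A) ^ m * (m ! : A) * ((Nat.uniformBell m n : A) * g I hQ (m * n) x) := by
        push_cast; ring

/-- Let A be a commutative ring whose additive group is torsion free and I an ideal of A. Then I carries
at most one divided power structure, and it carries one if and only if I is generated by a set S
such that for every x in S and every n ≥ 1 the power x^n lies in the ideal generated by the products
of n! with elements of I. -/
theorem result {A : Type u} [CommRing A] [IsAddTorsionFree A] (I : Ideal A) :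
    Subsingleton (DividedPowers I) ∧
    (Nonempty (DividedPowers I) ↔ ∃ S : Set A, Ideal.span S = I ∧
      ∀ x ∈ S, ∀ n : ℕ, 1 ≤ n → x ^ n ∈ Ideal.span {(Nat.factorial n : A)} * I) := by
  refine ⟨⟨fun h h' => ?_⟩, ⟨?_, ?_⟩⟩
  · apply DividedPowers.ext
    intro n x hx
    apply cancel (Nat.factorial_ne_zero n)
    rw [h.factorial_mul_dpow_eq_pow hx, h'.factorial_mul_dpow_eq_pow hx]
  · rintro ⟨h⟩
    refine ⟨(I : Set A), Ideal.span_eq I, ?_⟩
    intro x hx n hn
    rw [Ideal.mem_span_singleton_mul]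
    exact ⟨h.dpow n x, h.dpow_mem (by omega) hx, h.factorial_mul_dpow_eq_pow hx⟩
  · rintro ⟨S, hS, h⟩
    exact ⟨dp I (fun x hx => Q_of_mem I S hS h hx)⟩

end Groth.Agent.S6501
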