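import Groth.Statements.S6511
import Groth.Agent.Lib.Helper99.MVSch

set_option autoImplicit false
universe u
open CategoryTheory
attribute [local instance] HasDerivedCategory.standard
open DCoh

namespace Groth.Agent.S6511

open AlgebraicGeometry CategoryTheory.Limits in
/-- Let f : X → Y be a morphism of schemes and X = U ∪ V with U, V open; write a, b, c for the
restrictions of f to U, V, U ∩ V. For every E ∈ D(O_X) there is a distinguished triangle Rf_*E →
Ra_*(E|_U) ⊕ Rb_*(E|_V) → Rc_*(E|_{U∩V}) → Rf_*E[1] in D(O_Y). The objects are the stated ones; the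
morphisms are only asserted to exist. (The published statement is for ringed spaces; this row is for
schemes.) -/
theorem result {X Y : Scheme.{u}} (f : X ⟶ Y) (U V : X.Opens) (hUV : U ⊔ V = ⊤)
    [DCoh.HasRpush f] [DCoh.HasRpush (U.ι ≫ f)] [DCoh.HasRpush (V.ι ≫ f)] [DCoh.HasRpush ((U ⊓ V).ι ≫ f)]
    [PreservesFiniteLimits (Scheme.Modules.restrictFunctor U.ι)]
    [PreservesFiniteLimits (Scheme.Modules.restrictFunctor V.ι)]
    [PreservesFiniteLimits (Scheme.Modules.restrictFunctor (U ⊓ V).ι)] (E : DCoh.D X) :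
    ∃ (a : (DCoh.Rpush f).obj E ⟶ ((DCoh.Rpush (U.ι ≫ f)).obj ((DCoh.restrictD U.ι).obj E) ⊞ (DCoh.Rpush (V.ι ≫ f)).obj ((DCoh.restrictD V.ι).obj E))) (b : ((DCoh.Rpush (U.ι ≫ f)).obj ((DCoh.restrictD U.ι).obj E) ⊞ (DCoh.Rpush (V.ι ≫ f)).obj ((DCoh.restrictD V.ι).obj E)) ⟶ (DCoh.Rpush ((U ⊓ V).ι ≫ f)).obj ((DCoh.restrictD (U ⊓ V).ι).obj E)) (c : (DCoh.Rpush ((U ⊓ V).ι ≫ f)).obj ((DCoh.restrictD (U ⊓ V).ι).obj E) ⟶ ((DCoh.Rpush f).obj E)⟦(1 : ℤ)⟧),
      Pretriangulated.Triangle.mk a b c ∈ Pretriangulated.distinguishedTriangles := by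
  open Groth.Agent.Lib.Helper99 Groth.Agent.Lib.Helper99.MVSch Groth.Agent.Lib.Helper99.RestrKInj in
  classical
  have w : aT (Scheme.Modules.pushforward f) (Scheme.Modules.pushforwardComp U.ι f) ≫
      bT (Scheme.Modules.pushforward f) (inf_le_left : U ⊓ V ≤ U)
        (Scheme.Modules.pushforwardComp U.ι f) (Scheme.Modules.pushforwardComp (U ⊓ V).ι f) =
      aT (Scheme.Modules.pushforward f) (Scheme.Modules.pushforwardComp V.ι f) ≫
      bT (Scheme.Modules.pushforward f) (inf_le_right : U ⊓ V ≤ V)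
        (Scheme.Modules.pushforwardComp V.ι f) (Scheme.Modules.pushforwardComp (U ⊓ V).ι f) :=
    (aT_bT _ _ _ _).trans (aT_bT _ _ _ _).symm
  exact MV.exists_mv_triangle
    (Scheme.Modules.restrictFunctor U.ι) (fun I _ => isKInjective_restrict U I)
    (Scheme.Modules.restrictFunctor V.ι) (fun I _ => isKInjective_restrict V I)
    (Scheme.Modules.restrictFunctor (U ⊓ V).ι) (fun I _ => isKInjective_restrict (U ⊓ V) I)
    (Scheme.Modules.pushforward f) (Scheme.Modules.pushforward (U.ι ≫ f))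
    (Scheme.Modules.pushforward (V.ι ≫ f)) (Scheme.Modules.pushforward ((U ⊓ V).ι ≫ f))
    (DCoh.Rpush f)
    ((DCoh.pushKh f).totalRightDerivedUnit DerivedCategory.Qh
      (HomotopyCategory.quasiIso X.Modules (ComplexShape.up ℤ)))
    (DCoh.Rpush (U.ι ≫ f))
    ((DCoh.pushKh (U.ι ≫ f)).totalRightDerivedUnit DerivedCategory.Qh
      (HomotopyCategory.quasiIso (U : Scheme.{u}).Modules (ComplexShape.up ℤ)))
    (DCoh.Rpush (V.ι ≫ f))
    ((DCoh.pushKh (V.ι ≫ f)).totalRightDerivedUnit DerivedCategory.Qh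
      (HomotopyCategory.quasiIso (V : Scheme.{u}).Modules (ComplexShape.up ℤ)))
    (DCoh.Rpush ((U ⊓ V).ι ≫ f))
    ((DCoh.pushKh ((U ⊓ V).ι ≫ f)).totalRightDerivedUnit DerivedCategory.Qh
      (HomotopyCategory.quasiIso ((U ⊓ V : X.Opens) : Scheme.{u}).Modules (ComplexShape.up ℤ)))
    _ _ _ _ w
    (fun J hJ => sc_shortExact_modules _ _ _ _ w J (fun O => mvExact_case2 f U V hUV J hJ O))
    E

end Groth.Agent.S6511
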