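import Groth.Statements.S6513
import Groth.Agent.Lib.Helper99.MVExt

set_option autoImplicit false
universe u
open CategoryTheory
attribute [local instance] HasDerivedCategory.standard
open DCoh

namespace Groth.Agent.S6513

open AlgebraicGeometry CategoryTheory.Limits in
/-- If a scheme X is the union of two opens U and V, then for every E ∈ D(O_X) there is a distinguished
triangle j_{U∩V,!}(E|_{U∩V}) → j_{U,!}(E|_U) ⊕ j_{V,!}(E|_V) → E → j_{U∩V,!}(E|_{U∩V})[1] in D(O_X),
where j_! is extension by zero computed termwise (its exactness is carried as an instance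
hypothesis). The objects are the stated ones; the morphisms are only asserted to exist. (The
published statement is for ringed spaces; this row is for schemes.) -/
theorem result {X : Scheme.{u}} (U V : X.Opens) (hUV : U ⊔ V = ⊤)
    [PreservesFiniteLimits (CxOX.extZero U.ι)] [PreservesFiniteLimits (CxOX.extZero V.ι)]
    [PreservesFiniteLimits (CxOX.extZero (U ⊓ V).ι)] (E : DCoh.D X) :
    ∃ (a : (CxOX.extZeroD (U ⊓ V).ι).obj ((DCoh.restrictD (U ⊓ V).ι).obj E) ⟶ ((CxOX.extZeroD U.ι).obj ((DCoh.restrictD U.ι).obj E) ⊞ (CxOX.extZeroD V.ι).obj ((DCoh.restrictD V.ι).obj E))) (b : ((CxOX.extZeroD U.ι).obj ((DCoh.restrictD U.ι).obj E) ⊞ (CxOX.extZeroD V.ι).obj ((DCoh.restrictD V.ι).obj E)) ⟶ E) (c : E ⟶ ((CxOX.extZeroD (U ⊓ V).ι).obj ((DCoh.restrictD (U ⊓ V).ι).obj E))⟦(1 : ℤ)⟧),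
      Pretriangulated.Triangle.mk a b c ∈ Pretriangulated.distinguishedTriangles := by
  open Groth.Agent.Lib.Helper99 Groth.Agent.Lib.Helper99.MVSch Groth.Agent.Lib.Helper99.MVExt in
  classical
  let K := (DerivedCategory.Q : _ ⥤ DCoh.D X).objPreimage E
  let e : E ≅ DerivedCategory.Q.obj K := (DerivedCategory.Q.objObjPreimageIso E).symm
  have T := MV.exists_triangle
    (MVDual.sig (adjC U) (adjC (U ⊓ V)) (rho (inf_le_left : U ⊓ V ≤ U)))
    (MVDual.sig (adjC V) (adjC (U ⊓ V)) (rho (inf_le_right : U ⊓ V ≤ V)))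
    (MVDual.eps (adjC U) (eta U)) (MVDual.eps (adjC V) (eta V))
    (MVDual.w' (adjC U) (adjC V) (adjC (U ⊓ V)) (eta U) (eta V) _ _ (eta_rho_w U V)) K
    (fun n => dual_shortExact U V hUV (K.X n))
  exact MV.exists_triangle_of_isos
    ((CxOX.extZeroD (U ⊓ V).ι).mapIso ((DCoh.restrictD (U ⊓ V).ι).mapIso e) ≪≫
      extPieceIso (U ⊓ V) K)
    ((CxOX.extZeroD U.ι).mapIso ((DCoh.restrictD U.ι).mapIso e) ≪≫ extPieceIso U K)
    ((CxOX.extZeroD V.ι).mapIso ((DCoh.restrictD V.ι).mapIso e) ≪≫ extPieceIso V K)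
    (e ≪≫ MV.idCxIso K) T

end Groth.Agent.S6513
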