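import Groth.Statements.S6524
import Groth.Agent.Lib.Helper14.GenMono

set_option autoImplicit false
universe u
open CategoryTheory
open CohSite

namespace Groth.Agent.S6524

section Helpers
open Opposite Limits MorphismProperty

variable {C : Type u} [SmallCategory C] (J : GrothendieckTopology C)

/-- The composite adjunction (free abelian sheaf on a presheaf of sets) ⊣ (underlying presheaf of sets). -/
noncomputable def adj :
    (Functor.whiskeringRight Cᵒᵖ _ _).obj AddCommGrpCat.free.{u} ⋙ presheafToSheaf J AddCommGrpCat.{u} ⊣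
      sheafToPresheaf J AddCommGrpCat.{u} ⋙ (Functor.whiskeringRight Cᵒᵖ _ _).obj (forget AddCommGrpCat.{u}) :=
  (AddCommGrpCat.adj.whiskerRight Cᵒᵖ).comp (sheafificationAdjunction J AddCommGrpCat.{u})

/-- The family of inclusions of subsheaves of the free sheaves. -/
def W : MorphismProperty (Sheaf J AddCommGrpCat.{u}) :=
  MorphismProperty.ofHoms (fun (p : Σ X : C, Subobject (CohCx.freeSheaf J X)) ↦ p.2.arrow)

theorem exists_nonfactoring {A B : Sheaf J AddCommGrpCat.{u}} (p : A ⟶ B) [Mono p] (hp : ¬ IsIso p) :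
    ∃ (X : C) (f : CohCx.freeSheaf J X ⟶ B), ∀ a : CohCx.freeSheaf J X ⟶ A, a ≫ p ≠ f := by
  by_contra hcon
  push_neg at hcon
  apply hp
  have hsurj : ∀ X : C, Function.Surjective (p.hom.app (op X)) := by
    intro X s
    obtain ⟨a, ha⟩ := hcon X (((adj J).homEquiv (yoneda.obj X) B).symm (yonedaEquiv.symm s))
    refine ⟨yonedaEquiv ((adj J).homEquiv (yoneda.obj X) A a), ?_⟩
    have h1 := congrArg ((adj J).homEquiv (yoneda.obj X) B) ha
    rw [Adjunction.homEquiv_naturality_right, Equiv.apply_symm_apply] at h1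
    have h2 := congrArg yonedaEquiv h1
    rw [yonedaEquiv_comp, Equiv.apply_symm_apply] at h2
    exact h2
  have hmono : Mono p.hom := inferInstanceAs (Mono ((sheafToPresheaf J AddCommGrpCat.{u}).map p))
  have hinj : ∀ X : Cᵒᵖ, Function.Injective (p.hom.app X) := by
    intro X
    have : Mono (p.hom.app X) := inferInstance
    exact (AddCommGrpCat.mono_iff_injective _).1 this
  have hiso : ∀ X : Cᵒᵖ, IsIso (p.hom.app X) := by
    intro X
    rw [ConcreteCategory.isIso_iff_bijective]
    exact ⟨hinj X, hsurj X.unop⟩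
  have : IsIso p.hom := NatIso.isIso_of_isIso_app _
  have : IsIso ((sheafToPresheaf J AddCommGrpCat.{u}).map p) := this
  exact isIso_of_reflects_iso p (sheafToPresheaf J AddCommGrpCat.{u})

set_option backward.isDefEq.respectTransparency false in
theorem hasEnoughPushouts : Groth.Agent.Lib.Helper14.GenMono.HasEnoughPushouts (W J) := by
  intro A B p _ hp
  obtain ⟨X, f, hf⟩ := exists_nonfactoring J p hp
  refine ⟨pushout (pullback.fst p f) (pullback.snd p f), pushout.inl _ _,
    pushout.desc p f pullback.condition,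
    ⟨_, _, _, (Subobject.underlyingIso _).hom ≫ pullback.fst _ _,
    pushout.inr _ _, ⟨(⟨X, Subobject.mk (pullback.snd p f)⟩ : Σ X : C, Subobject (CohCx.freeSheaf J X))⟩,
    (IsPushout.of_hasPushout (pullback.fst p f) (pullback.snd p f)).of_iso
      ((Subobject.underlyingIso _).symm) (Iso.refl _) (Iso.refl _)
      (Iso.refl _) (by simp) (by simp) (by simp) (by simp)⟩, ?_, ?_, by simp⟩
  · intro h
    rw [isIso_iff_yoneda_map_bijective] at h
    obtain ⟨a, ha⟩ := (h (CohCx.freeSheaf J X)).2 (pushout.inr _ _)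
    exact hf a (by simpa using ha =≫ pushout.desc p f pullback.condition)
  · exact (IsPushout.of_hasPushout _ _).mono_of_isPullback_of_mono
      (IsPullback.of_hasPullback p f) _ (by simp) (by simp)

theorem isomorphisms_le [Nonempty C] :
    MorphismProperty.isomorphisms (Sheaf J AddCommGrpCat.{u}) ≤ (W J).pushouts := by
  obtain ⟨X₀⟩ := ‹Nonempty C›
  exact MorphismProperty.isomorphisms_le_pushouts _
    (fun _ ↦ ⟨_, _, _, ⟨(⟨X₀, ⊤⟩ : Σ X : C, Subobject (CohCx.freeSheaf J X))⟩, 0, inferInstance⟩)

end Helpers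

/-- Let (C, J) be a small site and I an abelian sheaf. Suppose that for every object X of C, every
abelian subsheaf S of the free abelian sheaf Z_X^# on X (given as a monomorphism S → Z_X^#) and
every morphism S → I, the morphism extends to Z_X^# → I. Then I is an injective abelian sheaf. -/
theorem result {C : Type u} [SmallCategory C]
    (J : GrothendieckTopology C) (I : Sheaf J AddCommGrpCat.{u})
    (h : ∀ (X : C) (S : Sheaf J AddCommGrpCat.{u}) (i : S ⟶ CohCx.freeSheaf J X) [Mono i] (φ : S ⟶ I),
      ∃ ψ : CohCx.freeSheaf J X ⟶ I, i ≫ ψ = φ) :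
    Injective I := by
  by_cases hC : Nonempty C
  · rw [injective_iff_rlp_monomorphisms_zero]
    refine Groth.Agent.Lib.Helper14.GenMono.rlp_le_monomorphisms_rlp.{u} (hasEnoughPushouts J)
      (isomorphisms_le J) _ ?_
    rintro _ _ _ ⟨⟨X, S⟩⟩
    constructor
    intro φ g sq
    obtain ⟨ψ, hψ⟩ := h X _ S.arrow φ
    exact ⟨⟨{ l := ψ, fac_left := hψ, fac_right := (Limits.isZero_zero _).eq_of_tgt _ _ }⟩⟩
  · rw [not_nonempty_iff] at hC
    constructor
    intro A B f i _
    refine ⟨0, ?_⟩
    apply Sheaf.hom_ext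
    ext X
    exact (hC.false X.unop).elim

end Groth.Agent.S6524
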