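import Groth.Statements.S6530
-- import your own Groth.Agent.* helpers here

set_option autoImplicit false
universe u
open DPow

namespace Groth.Agent.S6530

open Finset

section aux

variable {A : Type u} [CommRing A] {I : Ideal A} (γ : DividedPowers I) (p : ℕ) (t : ℕ)
  (ht : Ideal.span {(p : A)} ^ t ≤ I)

/-- the ideal `(p)` -/
abbrev J (A : Type u) [CommRing A] (p : ℕ) : Ideal A := Ideal.span {(p : A)}

theorem p_pow_mem (n : ℕ) : (p : A) ^ n ∈ J A p ^ n :=
  Ideal.pow_mem_pow (Ideal.mem_span_singleton_self _) n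

include ht in
/-- continuity of the divided powers for the `p`-adic topology -/
theorem dpow_sub_mem (n j : ℕ) {a b : A} (ha : a ∈ I) (hab : b - a ∈ J A p ^ (n + t)) :
    γ.dpow j b - γ.dpow j a ∈ J A p ^ n := by
  rw [J, Ideal.span_singleton_pow, Ideal.mem_span_singleton] at hab
  obtain ⟨w, hw⟩ := hab
  have hu : (p : A) ^ t * w ∈ I := by
    apply ht
    rw [Ideal.span_singleton_pow]
    exact Ideal.mem_span_singleton.2 ⟨w, rfl⟩
  have hb' : b = a + (p : A) ^ n * ((p : A) ^ t * w) := by
    rw [← mul_assoc, ← pow_add, ← hw]; ring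
  rw [hb', γ.dpow_add ha (I.mul_mem_left _ hu),
    ← Finset.add_sum_erase _ _ (show (j, 0) ∈ antidiagonal j by simp)]
  simp only [γ.dpow_zero (I.mul_mem_left _ hu), mul_one, add_sub_cancel_left]
  apply Ideal.sum_mem
  rintro ⟨i, l⟩ hil
  rw [Finset.mem_erase, mem_antidiagonal] at hil
  have hl : l ≠ 0 := by
    rintro rfl
    apply hil.1
    have := hil.2
    simp only [add_zero] at this
    rw [this]
  simp only
  rw [γ.dpow_mul hu]
  obtain ⟨l', rfl⟩ := Nat.exists_eq_succ_of_ne_zero hl
  rw [pow_succ ((p : A) ^ n) l']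
  apply Ideal.mul_mem_left
  apply Ideal.mul_mem_right
  apply Ideal.mul_mem_left
  exact p_pow_mem p n

/-- the completion -/
abbrev Ahat (A : Type u) [CommRing A] (p : ℕ) : Type u := AdicCompletion (J A p) A

/-- the map to `A ⧸ I` -/
noncomputable def π : Ahat A p →+* A ⧸ I :=
  (Ideal.Quotient.factor ht).comp (AdicCompletion.evalₐ (Ideal.span {(p : A)}) t).toRingHom

/-- `a` represents `x` at level `n`. -/
def Rep (x : Ahat A p) (n : ℕ) (a : A) : Prop :=
  AdicCompletion.evalₐ (J A p) n x = Ideal.Quotient.mk _ a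

theorem exists_rep (x : Ahat A p) (n : ℕ) : ∃ a, Rep p x n a := by
  obtain ⟨a, ha⟩ := Ideal.Quotient.mk_surjective (AdicCompletion.evalₐ (J A p) n x)
  exact ⟨a, ha.symm⟩

theorem Rep.mono {x : Ahat A p} {n m : ℕ} {a : A} (h : Rep p x n a) (hmn : m ≤ n) :
    Rep p x m a := by
  obtain ⟨f, rfl⟩ := AdicCompletion.mk_surjective (J A p) A x
  unfold Rep at h ⊢
  rw [AdicCompletion.evalₐ_mk] at h ⊢
  rw [Ideal.Quotient.eq] at h ⊢
  have h1 : f.val n - a ∈ J A p ^ m := Ideal.pow_le_pow_right hmn h
  have h2 : f.val m - f.val n ∈ J A p ^ m := by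
    have := f.property hmn
    rw [SModEq.sub_mem] at this
    simpa using this
  have : f.val m - a = (f.val m - f.val n) + (f.val n - a) := by ring
  rw [this]
  exact Ideal.add_mem _ h2 h1

theorem Rep.sub_mem {x : Ahat A p} {n : ℕ} {a b : A} (ha : Rep p x n a) (hb : Rep p x n b) :
    b - a ∈ J A p ^ n := by
  unfold Rep at ha hb
  rw [ha] at hb
  rw [← Ideal.Quotient.eq]
  exact hb.symm

theorem mem_ker_iff {x : Ahat A p} {a : A} (h : Rep p x t a) :
    x ∈ RingHom.ker (π p t ht) ↔ a ∈ I := by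
  rw [RingHom.mem_ker, π, RingHom.comp_apply]
  have : (AdicCompletion.evalₐ (Ideal.span {(p : A)}) t).toRingHom x = Ideal.Quotient.mk _ a := h
  rw [this, Ideal.Quotient.factor_mk, Ideal.Quotient.eq_zero_iff_mem]

theorem mem_of_rep {x : Ahat A p} (hx : x ∈ RingHom.ker (π p t ht)) {n : ℕ} (hn : t ≤ n) {a : A}
    (h : Rep p x n a) : a ∈ I :=
  (mem_ker_iff p t ht (h.mono p hn)).1 hx

theorem ext_rep {x y : Ahat A p} (h : ∀ n, ∃ a, Rep p x n a ∧ Rep p y n a) : x = y := by
  apply AdicCompletion.ext_evalₐ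
  intro n
  obtain ⟨a, h1, h2⟩ := h n
  rw [h1, h2]

/-- chosen representatives -/
noncomputable def r (x : Ahat A p) (n : ℕ) : A := (exists_rep p x n).choose

theorem rep_r (x : Ahat A p) (n : ℕ) : Rep p x n (r p x n) := (exists_rep p x n).choose_spec

open Classical in
/-- the divided powers on the completion -/
noncomputable def δ (j : ℕ) (x : Ahat A p) : Ahat A p :=
  if hx : x ∈ RingHom.ker (π p t ht) then
    AdicCompletion.mk (J A p) A (AdicCompletion.AdicCauchySequence.mk (J A p) A
      (fun n => γ.dpow j (r p x (n + t))) (by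
        intro n
        rw [SModEq.sub_mem]
        have h1 : Rep p x (n + t) (r p x (n + t)) := rep_r p x (n + t)
        have h2 : Rep p x (n + t) (r p x (n + 1 + t)) :=
          (rep_r p x (n + 1 + t)).mono p (by omega)
        have := dpow_sub_mem γ p t ht n j (mem_of_rep p t ht hx (by omega) h2)
          (Rep.sub_mem p h2 h1)
        simpa using this))
  else 0

theorem rep_δ (j : ℕ) {x : Ahat A p} (hx : x ∈ RingHom.ker (π p t ht)) {n : ℕ} {a : A}
    (h : Rep p x (n + t) a) : Rep p (δ γ p t ht j x) n (γ.dpow j a) := by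
  unfold Rep
  rw [δ, dif_pos hx, AdicCompletion.evalₐ_mk, Ideal.Quotient.eq]
  exact dpow_sub_mem γ p t ht n j (mem_of_rep p t ht hx (by omega) h)
    (Rep.sub_mem p h (rep_r p x (n + t)))

theorem eval_δ (j : ℕ) {x : Ahat A p} (hx : x ∈ RingHom.ker (π p t ht)) {n : ℕ} {a : A}
    (h : Rep p x (n + t) a) :
    AdicCompletion.evalₐ (J A p) n (δ γ p t ht j x) = Ideal.Quotient.mk _ (γ.dpow j a) :=
  rep_δ γ p t ht j hx h

theorem δ_mem {j : ℕ} (hj : j ≠ 0) {x : Ahat A p} (hx : x ∈ RingHom.ker (π p t ht)) :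
    δ γ p t ht j x ∈ RingHom.ker (π p t ht) := by
  obtain ⟨a, ha⟩ := exists_rep p x (t + t)
  have h1 := rep_δ γ p t ht j hx ha
  rw [mem_ker_iff p t ht h1]
  exact γ.dpow_mem hj (mem_of_rep p t ht hx (by omega) ha)

/-- the divided power structure -/
noncomputable def dp : DividedPowers (RingHom.ker (π p t ht)) where
  dpow := δ γ p t ht
  dpow_null {n x} hx := by rw [δ, dif_neg hx]
  dpow_zero {x} hx := by
    apply AdicCompletion.ext_evalₐ
    intro n
    obtain ⟨a, ha⟩ := exists_rep p x (n + t)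
    rw [eval_δ γ p t ht 0 hx ha, γ.dpow_zero (mem_of_rep p t ht hx (by omega) ha), map_one,
      map_one]
  dpow_one {x} hx := by
    apply AdicCompletion.ext_evalₐ
    intro n
    obtain ⟨a, ha⟩ := exists_rep p x (n + t)
    rw [eval_δ γ p t ht 1 hx ha, γ.dpow_one (mem_of_rep p t ht hx (by omega) ha)]
    exact (ha.mono p (by omega)).symm
  dpow_mem {n x} hn hx := δ_mem γ p t ht hn hx
  dpow_add {n x y} hx hy := by
    apply AdicCompletion.ext_evalₐ
    intro k
    obtain ⟨a, ha⟩ := exists_rep p x (k + t)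
    obtain ⟨b, hb⟩ := exists_rep p y (k + t)
    have hab : Rep p (x + y) (k + t) (a + b) := by
      unfold Rep at ha hb ⊢
      rw [map_add, map_add, ha, hb]
    rw [eval_δ γ p t ht n (Ideal.add_mem _ hx hy) hab,
      γ.dpow_add (mem_of_rep p t ht hx (by omega) ha) (mem_of_rep p t ht hy (by omega) hb),
      map_sum, map_sum]
    apply Finset.sum_congr rfl
    intro ij _
    rw [map_mul, map_mul, eval_δ γ p t ht _ hx ha, eval_δ γ p t ht _ hy hb]
  dpow_mul {n c x} hx := by
    apply AdicCompletion.ext_evalₐ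
    intro k
    obtain ⟨a, ha⟩ := exists_rep p x (k + t)
    obtain ⟨c₀, hc⟩ := exists_rep p c (k + t)
    have hca : Rep p (c * x) (k + t) (c₀ * a) := by
      unfold Rep at ha hc ⊢
      rw [map_mul, map_mul, ha, hc]
    have hc' : Rep p c k c₀ := hc.mono p (by omega)
    rw [eval_δ γ p t ht n (Ideal.mul_mem_left _ _ hx) hca,
      γ.dpow_mul (mem_of_rep p t ht hx (by omega) ha), map_mul, map_mul, map_pow, map_pow,
      eval_δ γ p t ht n hx ha]
    unfold Rep at hc'
    rw [hc']
  mul_dpow {m n x} hx := by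
    apply AdicCompletion.ext_evalₐ
    intro k
    obtain ⟨a, ha⟩ := exists_rep p x (k + t)
    rw [map_mul, map_mul, eval_δ γ p t ht m hx ha, eval_δ γ p t ht n hx ha,
      eval_δ γ p t ht (m + n) hx ha, ← map_mul,
      γ.mul_dpow (mem_of_rep p t ht hx (by omega) ha), map_mul, map_natCast, map_natCast]
  dpow_comp {m n x} hn hx := by
    apply AdicCompletion.ext_evalₐ
    intro k
    obtain ⟨a, ha⟩ := exists_rep p x (k + t + t)
    have h1 : Rep p (δ γ p t ht n x) (k + t) (γ.dpow n a) := rep_δ γ p t ht n hx ha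
    have ha' : Rep p x (k + t) a := ha.mono p (by omega)
    rw [eval_δ γ p t ht m (δ_mem γ p t ht hn hx) h1,
      γ.dpow_comp hn (mem_of_rep p t ht hx (by omega) ha), map_mul, map_mul, map_natCast,
      map_natCast, eval_δ γ p t ht (m * n) hx ha']

end aux

/-- Let (A, I, γ) be a divided power ring and p a prime number with p^t A ⊆ I for some t ≥ 0, so that p
is nilpotent in A/I. Let A^∧ be the p-adic completion of A and π : A^∧ → A/I the composite of the
evaluation A^∧ → A/p^tA with the projection A/p^tA → A/I. Then π is surjective, and there is a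
divided power structure on Ker(π) (this kernel is the p-adic completion of I) such that the
canonical map A → A^∧ is a homomorphism of divided power rings. -/
theorem result {A : Type u} [CommRing A] {I : Ideal A}
    (γ : DividedPowers I) (p : ℕ) [Fact p.Prime] (t : ℕ) (ht : Ideal.span {(p : A)} ^ t ≤ I) :
    Function.Surjective ((Ideal.Quotient.factor ht).comp
      (AdicCompletion.evalₐ (Ideal.span {(p : A)}) t).toRingHom) ∧
    ∃ δ : DividedPowers (RingHom.ker ((Ideal.Quotient.factor ht).comp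
      (AdicCompletion.evalₐ (Ideal.span {(p : A)}) t).toRingHom)),
      γ.IsDPMorphism δ (algebraMap A (AdicCompletion (Ideal.span {(p : A)}) A)) := by
  refine ⟨?_, dp γ p t ht, ?_, ?_⟩
  · exact (Ideal.Quotient.factor_surjective ht).comp
      (AdicCompletion.surjective_evalₐ (Ideal.span {(p : A)}) t)
  · rw [Ideal.map_le_iff_le_comap]
    intro a ha
    rw [Ideal.mem_comap]
    have hrep : Rep p (algebraMap A (Ahat A p) a) t a := by
      unfold Rep
      rw [AdicCompletion.algebraMap_apply]
      exact AdicCompletion.evalₐ_of _ _ _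
    exact (mem_ker_iff p t ht hrep).2 ha
  · intro n a ha
    have hrep : ∀ k, Rep p (algebraMap A (Ahat A p) a) k a := by
      intro k
      unfold Rep
      rw [AdicCompletion.algebraMap_apply]
      exact AdicCompletion.evalₐ_of _ _ _
    have hmem : algebraMap A (Ahat A p) a ∈ RingHom.ker (π p t ht) :=
      (mem_ker_iff p t ht (hrep t)).2 ha
    apply AdicCompletion.ext_evalₐ
    intro k
    change AdicCompletion.evalₐ (J A p) k (δ γ p t ht n (algebraMap A (Ahat A p) a)) = _
    rw [eval_δ γ p t ht n hmem (hrep (k + t)), AdicCompletion.algebraMap_apply]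
    exact (AdicCompletion.evalₐ_of _ _ _).symm

end Groth.Agent.S6530
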