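import Groth.Statements.S6533
import Groth.Agent.Lib.Helper99.FilKInjMain

set_option autoImplicit false
universe v u
open CategoryTheory
open CohDer

namespace Groth.Agent.S6533

open CategoryTheory.Limits in
/-- Let A be a Grothendieck abelian category and K a filtered complex of A. There exist a filtered
complex J and a morphism of filtered complexes j : K → J such that (1) the objects J^n, F^pJ^n,
J^n/F^pJ^n and F^pJ^n/F^{p'}J^n (p ≤ p') are injective, (2) the complexes J, F^pJ, J/F^pJ and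
F^pJ/F^{p'}J are K-injective, and (3) j is a quasi-isomorphism and so are the maps it induces on
F^p, on the quotients by F^p and on F^p/F^{p'} (each induced map is characterised by its
compatibility with the inclusion, respectively the projection). -/
theorem result {A : Type u} [Category.{v} A] [Abelian A]
    [IsGrothendieckAbelian.{v} A] (K : SpSeq.FilCx A) :
    ∃ (J : SpSeq.FilCx A) (j : K ⟶ J),
      (∀ n p : ℤ, Injective (J.obj.X n) ∧ Injective ((J.XFil n).step p) ∧ Injective ((J.XFil n).quot p) ∧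
        ∀ (p' : ℤ) (h : p ≤ p'), Injective (cokernel ((J.XFil n).stepLE h))) ∧
      (CochainComplex.IsKInjective J.obj ∧ ∀ p : ℤ, CochainComplex.IsKInjective (J.step p) ∧
        CochainComplex.IsKInjective (J.quot p) ∧
        ∀ (p' : ℤ) (h : p ≤ p'), CochainComplex.IsKInjective (cokernel (J.stepLE h))) ∧
      QuasiIso j.hom ∧
      (∀ p : ℤ, ∃ jp : K.step p ⟶ J.step p, jp ≫ (J.fil p).arrow = (K.fil p).arrow ≫ j.hom ∧ QuasiIso jp ∧
        (∀ (p' : ℤ) (h : p ≤ p'), ∃ (jp' : K.step p' ⟶ J.step p') (jg : cokernel (K.stepLE h) ⟶ cokernel (J.stepLE h)),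
          jp' ≫ (J.fil p').arrow = (K.fil p').arrow ≫ j.hom ∧ jp' ≫ J.stepLE h = K.stepLE h ≫ jp ∧
          cokernel.π (K.stepLE h) ≫ jg = jp ≫ cokernel.π (J.stepLE h) ∧ QuasiIso jg)) ∧
      (∀ p : ℤ, ∃ jq : K.quot p ⟶ J.quot p,
        cokernel.π (K.fil p).arrow ≫ jq = j.hom ≫ cokernel.π (J.fil p).arrow ∧ QuasiIso jq) := by
  obtain ⟨I, r, hI, hr, -, hInj⟩ :=
    Groth.Agent.Lib.Helper99.KInj.exists_kInjective_resolution
      (Groth.Agent.Lib.Helper99.FilKInj.Mcx K)
  haveI := hI
  open Groth.Agent.Lib.Helper99.FilKInj in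
  refine ⟨Jfc I, jmor K I r, ?_, ?_, ?_, ?_, ?_⟩
  · intro n p
    exact ⟨Groth.Agent.Lib.Helper99.FilKInj.injective_J_X I hInj n,
      Groth.Agent.Lib.Helper99.FilKInj.injective_J_step I hInj n p,
      Groth.Agent.Lib.Helper99.FilKInj.injective_J_quot I hInj n p,
      fun p' h => Groth.Agent.Lib.Helper99.FilKInj.injective_J_coker I hInj n p p' h⟩
  · exact ⟨Groth.Agent.Lib.Helper99.FilKInj.isKInjective_J_obj I, fun p =>
      ⟨Groth.Agent.Lib.Helper99.FilKInj.isKInjective_J_step I hInj p,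
        Groth.Agent.Lib.Helper99.FilKInj.isKInjective_J_quot I hInj p,
        fun p' h => Groth.Agent.Lib.Helper99.FilKInj.isKInjective_J_coker I hInj p p' h⟩⟩
  · exact Groth.Agent.Lib.Helper99.FilKInj.quasiIso_jhom K I r hr
  · intro p
    exact ⟨Groth.Agent.Lib.Helper99.FilKInj.jp K I r p,
      Groth.Agent.Lib.Helper99.FilKInj.jp_arrow K I r p,
      Groth.Agent.Lib.Helper99.FilKInj.quasiIso_jp K I r hInj hr p, fun p' h =>
      ⟨Groth.Agent.Lib.Helper99.FilKInj.jp K I r p', Groth.Agent.Lib.Helper99.FilKInj.jg K I r h,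
        Groth.Agent.Lib.Helper99.FilKInj.jp_arrow K I r p',
        Groth.Agent.Lib.Helper99.FilKInj.jp_stepLE K I r h,
        Groth.Agent.Lib.Helper99.FilKInj.π_jg K I r h,
        Groth.Agent.Lib.Helper99.FilKInj.quasiIso_jg K I r hInj hr h⟩⟩
  · intro p
    exact ⟨Groth.Agent.Lib.Helper99.FilKInj.jq K I r p,
      Groth.Agent.Lib.Helper99.FilKInj.π_jq K I r p,
      Groth.Agent.Lib.Helper99.FilKInj.quasiIso_jq K I r hInj hr p⟩

end Groth.Agent.S6533
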