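import Groth.Statements.S6534
import Groth.Agent.Lib.Helper68.Telescope3
import Groth.Agent.Lib.Helper68.DerProdGroth
import Groth.Agent.Lib.Helper68.Bous4

set_option autoImplicit false
universe w v u
open CategoryTheory
open CohDer

namespace Groth.Agent.S6534

open CategoryTheory.Limits in
/-- Let A be a Grothendieck abelian category, E ∈ D(A), and … → E^{i+1} → E^i → … → E an inverse system
in D(A) over ℤ with compatible maps to E. Then there exists a filtered complex K of A such that K
represents E and F^iK represents E^i, compatibly: there are isomorphisms in D(A) from the images of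
K and of the subcomplexes F^iK to E and E^i under which the inclusions F^iK → K and F^{i+1}K → F^iK
correspond to the given maps E^i → E and E^{i+1} → E^i. -/
theorem result {A : Type u} [Category.{v} A] [Abelian A]
    [IsGrothendieckAbelian.{v} A] [HasDerivedCategory.{w} A]
    (E : DerivedCategory A) (Es : ℤ → DerivedCategory A) (t : ∀ i : ℤ, Es (i + 1) ⟶ Es i)
    (a : ∀ i : ℤ, Es i ⟶ E) (hat : ∀ i : ℤ, t i ≫ a i = a (i + 1)) :
    ∃ (K : SpSeq.FilCx A) (e : DerivedCategory.Q.obj K.obj ≅ E)
      (ei : ∀ i : ℤ, DerivedCategory.Q.obj (K.step i) ≅ Es i),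
      (∀ i : ℤ, DerivedCategory.Q.map (K.fil i).arrow ≫ e.hom = (ei i).hom ≫ a i) ∧
      (∀ i : ℤ, DerivedCategory.Q.map (K.stepLE (le_of_lt (Int.lt_succ_self i))) ≫ (ei i).hom =
        (ei (i + 1)).hom ≫ t i) := by
  classical
  have : HasCoproducts.{0} A := inferInstance
  -- K-injective representatives
  choose I hI ρ using fun k => Groth.Agent.Lib.Helper68.DerProd.exists_kInjective_iso (Es k)
  obtain ⟨I0, hI0, ⟨ρ0⟩⟩ := Groth.Agent.Lib.Helper68.DerProd.exists_kInjective_iso E
  have : ∀ k, (I k).IsKInjective := hI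
  let ρ' : ∀ k, Es k ≅ DerivedCategory.Q.obj (I k) := fun k => (ρ k).some
  -- chain maps representing the morphisms
  choose τ hτ using fun k => Groth.Agent.Lib.Helper68.Bousfield.exists_Q_map_eq
    ((ρ' (k + 1)).inv ≫ t k ≫ (ρ' k).hom)
  choose α hα using fun k => Groth.Agent.Lib.Helper68.Bousfield.exists_Q_map_eq
    ((ρ' k).inv ≫ a k ≫ ρ0.hom)
  have hh : ∀ k, Nonempty (Homotopy (τ k ≫ α k) (α (k + 1))) := by
    intro k
    have h0 : DerivedCategory.Q.map (τ k ≫ α k - α (k + 1)) = 0 := by
      rw [Functor.map_sub, Functor.map_comp, hτ, hα, hα]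
      simp only [Category.assoc, Iso.hom_inv_id_assoc]
      rw [reassoc_of% (hat k), sub_self]
    obtain ⟨ho⟩ := (Groth.Agent.Lib.Helper68.Bousfield.Q_map_eq_zero_iff _).1 h0
    exact ⟨Homotopy.equivSubZero.symm ho⟩
  let hh' : ∀ k, Homotopy (τ k ≫ α k) (α (k + 1)) := fun k => (hh k).some
  let m : ∀ i, Groth.Agent.Lib.Helper68.Telescope.Tel I τ i ⟶
      Groth.Agent.Lib.Helper68.Telescope.KK I τ I0 :=
    fun i => Groth.Agent.Lib.Helper68.Telescope.mi I τ I0 α hh' i
  have : ∀ i, Mono (m i) := fun i => by dsimp only [m]; infer_instance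
  have hm : ∀ i, Groth.Agent.Lib.Helper68.Telescope.telLE I τ i ≫ m i = m (i + 1) :=
    fun i => Groth.Agent.Lib.Helper68.Telescope.telLE_mi I τ I0 α hh' i
  let K : SpSeq.FilCx A :=
    { obj := Groth.Agent.Lib.Helper68.Telescope.KK I τ I0
      fil := fun i => Subobject.mk (m i)
      anti := antitone_int_of_succ_le (fun i =>
        Subobject.mk_le_mk_of_comm (Groth.Agent.Lib.Helper68.Telescope.telLE I τ i) (hm i)) }
  let ν : ∀ i, K.step i ≅ Groth.Agent.Lib.Helper68.Telescope.Tel I τ i :=
    fun i => Subobject.underlyingIso (m i)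
  have hν : ∀ i, (ν i).hom ≫ m i = (K.fil i).arrow :=
    fun i => Subobject.underlyingIso_hom_comp_eq_mk (m i)
  have hstep : ∀ i, (K.stepLE (le_of_lt (Int.lt_succ_self i)) : K.step (i + 1) ⟶ K.step i) ≫
      (ν i).hom = (ν (i + 1)).hom ≫ Groth.Agent.Lib.Helper68.Telescope.telLE I τ i := by
    intro i
    rw [← cancel_mono (m i), Category.assoc, Category.assoc, hν, hm, hν]
    exact Subobject.ofLE_arrow _
  let u := fun i => Groth.Agent.Lib.Helper68.Telescope.uT I τ i
  have : ∀ i, QuasiIso (u i) := fun i => by dsimp only [u]; infer_instance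
  refine ⟨K, asIso (DerivedCategory.Q.map
      (biprod.fst : Groth.Agent.Lib.Helper68.Telescope.KK I τ I0 ⟶ I0)) ≪≫ ρ0.symm,
    fun i => DerivedCategory.Q.mapIso (ν i) ≪≫ (asIso (DerivedCategory.Q.map (u i))).symm ≪≫
      (ρ' i).symm, ?_, ?_⟩
  · intro i
    dsimp only [Iso.trans_hom, Iso.symm_hom, asIso_hom, asIso_inv, Functor.mapIso_hom]
    rw [← hν, Functor.map_comp]
    simp only [Category.assoc]
    congr 1
    rw [← cancel_epi (DerivedCategory.Q.map (u i))]
    simp only [IsIso.hom_inv_id_assoc]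
    rw [← Functor.map_comp_assoc, ← Functor.map_comp_assoc, Category.assoc]
    dsimp only [u, m]
    rw [Groth.Agent.Lib.Helper68.Telescope.uT_mi_fst, hα]
    simp
  · intro i
    dsimp only [Iso.trans_hom, Iso.symm_hom, asIso_hom, asIso_inv, Functor.mapIso_hom]
    change DerivedCategory.Q.map (K.stepLE (le_of_lt (Int.lt_succ_self i)) :
      K.step (i + 1) ⟶ K.step i) ≫ _ = _
    rw [← Functor.map_comp_assoc, hstep, Functor.map_comp]
    simp only [Category.assoc]
    congr 1
    rw [← cancel_epi (DerivedCategory.Q.map (u (i + 1)))]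
    simp only [IsIso.hom_inv_id_assoc]
    rw [← Functor.map_comp_assoc]
    dsimp only [u]
    rw [DerivedCategory.Q_map_eq_of_homotopy _
      (Groth.Agent.Lib.Helper68.Telescope.uT_homotopy I τ i), Functor.map_comp, hτ]
    simp



end Groth.Agent.S6534
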