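import Groth.Statements.S6535
import Groth.Agent.Lib.Helper32.HyperPB
-- import your own Groth.Agent.* helpers here

set_option autoImplicit false
universe u
open CategoryTheory
open Hyper

namespace Groth.Agent.S6535

open Opposite CategoryTheory.Limits in
/-- Let C be a small site with fibre products, X an object, K, L, M simplicial semi-representable
objects over X with morphisms a : K → L and b : M → L, and P = K ×_L M a fibre product (a pullback
square of simplicial objects). Assume (1) K is a hypercovering of X, (2) M_0 → L_0 is a covering,
and (3) for every n ≥ 0 the canonical morphism γ : M_{n+1} → L_{n+1} ×_{(cosk_n sk_n L)_{n+1}}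
(cosk_n sk_n M)_{n+1} is a covering (stated for every fibre product of that cospan and the induced
γ). Then P is a hypercovering of X. -/
theorem result {C : Type u} [SmallCategory C] [HasPullbacks C]
    (J : GrothendieckTopology C) (X : C)
    [∀ (n : ℕ) (F : (SimplexCategory.Truncated n)ᵒᵖ ⥤ Limits.FormalCoproduct.{u} (Over X)),
      (SimplexCategory.Truncated.inclusion n).op.HasRightKanExtension F]
    {K L M P : SimplicialObject (FormalCoproduct.{u} (Over X))} (a : K ⟶ L) (b : M ⟶ L)
    (p1 : P ⟶ K) (p2 : P ⟶ M) (hP : IsPullback p1 p2 a b)
    (hK : Hyper.IsHypercovering J X K)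
    (h0 : Hyper.IsSRCovering (J.over X) (b.app (op (SimplexCategory.mk 0))))
    (hγ : ∀ (n : ℕ) (Q : FormalCoproduct.{u} (Over X))
      (q1 : Q ⟶ L.obj (op (SimplexCategory.mk (n + 1))))
      (q2 : Q ⟶ ((SimplicialObject.truncation n ⋙ SimplicialObject.Truncated.cosk n).obj M).obj
        (op (SimplexCategory.mk (n + 1))))
      (γ : M.obj (op (SimplexCategory.mk (n + 1))) ⟶ Q),
      IsPullback q1 q2 (((SimplicialObject.coskAdj n).unit.app L).app (op (SimplexCategory.mk (n + 1))))
        (((SimplicialObject.truncation n ⋙ SimplicialObject.Truncated.cosk n).map b).app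
          (op (SimplexCategory.mk (n + 1)))) →
      γ ≫ q1 = b.app (op (SimplexCategory.mk (n + 1))) →
      γ ≫ q2 = ((SimplicialObject.coskAdj n).unit.app M).app (op (SimplexCategory.mk (n + 1))) →
      Hyper.IsSRCovering (J.over X) γ) :
    Hyper.IsHypercovering J X P := by
  classical
  refine ⟨?_, ?_⟩
  · -- degree 0
    have h0P := hP.map ((evaluation _ _).obj (op (SimplexCategory.mk 0)))
    have hp1 : Hyper.IsSRCovering (J.over X) (p1.app (op (SimplexCategory.mk 0))) :=
      Groth.Agent.Lib.Helper32.HyperPB.srCov_of_isPullback (J.over X) h0P h0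
    exact Groth.Agent.Lib.Helper32.HyperPB.cover_of_srCovering J _ hp1 hK.1
  · intro n
    have hP' := hP.map ((evaluation _ _).obj (op (SimplexCategory.mk (n + 1))))
    haveI : PreservesLimitsOfShape WalkingCospan
        (SimplicialObject.truncation (C := FormalCoproduct.{u} (Over X)) n) := by
      unfold SimplicialObject.truncation
      infer_instance
    haveI : PreservesLimitsOfShape WalkingCospan
        (SimplicialObject.Truncated.cosk (C := FormalCoproduct.{u} (Over X)) n) :=
      ((SimplicialObject.coskAdj n).rightAdjoint_preservesLimits).preservesLimitsOfShape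
    have hcP := (hP.map (SimplicialObject.truncation n ⋙ SimplicialObject.Truncated.cosk n)).map
      ((evaluation _ _).obj (op (SimplexCategory.mk (n + 1))))
    have nat : ∀ {A B : SimplicialObject (FormalCoproduct.{u} (Over X))} (φ : A ⟶ B),
        ((SimplicialObject.coskAdj n).unit.app A).app (op (SimplexCategory.mk (n + 1))) ≫
          ((SimplicialObject.truncation n ⋙ SimplicialObject.Truncated.cosk n).map φ).app
            (op (SimplexCategory.mk (n + 1))) =
        φ.app (op (SimplexCategory.mk (n + 1))) ≫
          ((SimplicialObject.coskAdj n).unit.app B).app (op (SimplexCategory.mk (n + 1))) := by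
      intro A B φ
      have := congrArg (fun t => NatTrans.app t (op (SimplexCategory.mk (n + 1))))
        ((SimplicialObject.coskAdj n).unit.naturality φ)
      exact this.symm
    refine Groth.Agent.Lib.Helper32.HyperPB.key
      (Groth.Agent.Lib.Helper32.HyperPB.srCov (J.over X)) hP' hcP (nat a) (nat b) (nat p1) (nat p2)
      (hK.2 n) ?_
    exact hγ n _ _ _ _ (IsPullback.of_hasPullback _ _) (pullback.lift_fst _ _ _)
      (pullback.lift_snd _ _ _)

end Groth.Agent.S6535
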