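import Groth.Statements.S6553
import Groth.Agent.Lib.Helper76.NodeBC7

set_option autoImplicit false
universe u
open CategoryTheory CategoryTheory.Limits AlgebraicGeometry
open Curves

namespace Groth.Agent.S6553

open Groth.Agent.Lib.Helper76.NodeBC Groth.Agent.Lib.Helper76.NodeChar IsLocalRing

set_option backward.isDefEq.respectTransparency.types false

/-- a quadratic-cone description without the compatibility clause already gives the full one -/
theorem quadCone_of_iso (k : Type u) [Field k] (X : Scheme.{u}) [X.Over (Spec (CommRingCat.of k))]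
    [LocallyOfFiniteType (X ↘ Spec (CommRingCat.of k))] (x : X) (hx : IsClosed ({x} : Set X))
    (hsep : letI := Curv2.stalkAlgebra k X x
      Algebra.IsSeparable k (ResidueField (X.presheaf.stalk x)))
    (a b c : ResidueField (X.presheaf.stalk x)) (hd : 4 * a * c - b ^ 2 ≠ 0)
    (e : AdicCompletion (maximalIdeal (X.presheaf.stalk x)) (X.presheaf.stalk x) ≃+*
      (MvPowerSeries (Fin 2) (ResidueField (X.presheaf.stalk x)) ⧸ Ideal.span {qf a b c})) :
    QuadCone k X x := by
  obtain ⟨xb, hxb⟩ := exists_point_over k X (AlgebraicClosure k) x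
  subst hxb
  refine quadCone_of_isOrdDoublePt k X xb hx ?_
  letI instOver : (Curv2.bc k X (AlgebraicClosure k)).Over
      (Spec (CommRingCat.of (AlgebraicClosure k))) := ⟨Curv2.bcSnd k X (AlgebraicClosure k)⟩
  letI algA := Curv2.stalkAlgebra k X (Curv2.bcFst k X (AlgebraicClosure k) xb)
  letI algB := Curv2.stalkAlgebra (AlgebraicClosure k) (Curv2.bc k X (AlgebraicClosure k)) xb
  haveI hess : Algebra.EssFiniteType k
      (X.presheaf.stalk (Curv2.bcFst k X (AlgebraicClosure k) xb)) :=
    stalkMap_essFiniteType k X _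
  haveI := hsep
  obtain ⟨P', hP'prime, hP', ⟨f⟩⟩ := bridge k X (AlgebraicClosure k) xb
  haveI := hP'prime
  exact isOrdDoublePt_of_algEquiv f (alg_backward P' hP' hd e)

theorem toGlobal_comp {X : Scheme.{u}} {A B : Type u} [CommRing A] [CommRing B] (φ : A →+* B)
    (f : X ⟶ Spec (CommRingCat.of B)) :
    Coh.toGlobal (f ≫ Spec.map (CommRingCat.ofHom φ)) = (Coh.toGlobal f).comp φ := by
  ext t
  have h := Scheme.ΓSpecIso_inv_naturality (CommRingCat.ofHom φ)
  have h2 : (Spec.map (CommRingCat.ofHom φ)).appTop.hom
      ((Scheme.ΓSpecIso (CommRingCat.of A)).inv.hom t) =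
      (Scheme.ΓSpecIso (CommRingCat.of B)).inv.hom (φ t) := by
    have := congrArg (fun g => g.hom t) h
    exact this.symm
  simp only [Coh.toGlobal, Scheme.Hom.comp_appTop, CommRingCat.hom_comp]
  show (Scheme.Hom.appTop f).hom ((Spec.map (CommRingCat.ofHom φ)).appTop.hom
      ((Scheme.ΓSpecIso (CommRingCat.of A)).inv.hom t)) =
    (Scheme.Hom.appTop f).hom ((Scheme.ΓSpecIso (CommRingCat.of B)).inv.hom (φ t))
  rw [h2]

/-- Let k'/k be a finite separable extension of fields, X a scheme locally of finite type over k' of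
dimension 1, and x ∈ X a closed point. Then x is a node of the k'-scheme X if and only if x is a
node of X viewed as a k-scheme via Spec k' → Spec k. -/
theorem result (k : Type u) [Field k] (k' : Type u) [Field k'] [Algebra k k']
    [FiniteDimensional k k'] [Algebra.IsSeparable k k']
    (X : Scheme.{u}) [X.Over (Spec (CommRingCat.of k'))] [LocallyOfFiniteType (X ↘ (Spec (CommRingCat.of k')))] (hdim : topologicalKrullDim X = 1)
    (x : X) (hx : IsClosed ({x} : Set X)) :
    Curv2.IsNode k' X x ↔
      @Curv2.IsNode k _ X ⟨(X ↘ (Spec (CommRingCat.of k'))) ≫ Spec.map (CommRingCat.ofHom (algebraMap k k'))⟩ x := by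
  letI instk : X.Over (Spec (CommRingCat.of k)) :=
    ⟨(X ↘ (Spec (CommRingCat.of k'))) ≫ Spec.map (CommRingCat.ofHom (algebraMap k k'))⟩
  haveI hlft : LocallyOfFiniteType (X ↘ Spec (CommRingCat.of k)) := by
    show LocallyOfFiniteType ((X ↘ (Spec (CommRingCat.of k'))) ≫
      Spec.map (CommRingCat.ofHom (algebraMap k k')))
    haveI : LocallyOfFiniteType (Spec.map (CommRingCat.ofHom (algebraMap k k'))) := by
      rw [HasRingHomProperty.Spec_iff (P := @LocallyOfFiniteType)]
      exact RingHom.finiteType_algebraMap.mpr inferInstance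
    infer_instance
  show Curv2.IsNode k' X x ↔ Curv2.IsNode k X x
  rw [isNode_iff_quadCone k' X x hx, isNode_iff_quadCone k X x hx]
  letI algA' := Curv2.stalkAlgebra k' X x
  letI algA := Curv2.stalkAlgebra k X x
  haveI tower : IsScalarTower k k' (X.presheaf.stalk x) := by
    refine IsScalarTower.of_algebraMap_eq fun t => ?_
    show Curv2.stalkMap k X x t = Curv2.stalkMap k' X x (algebraMap k k' t)
    unfold Curv2.stalkMap
    have h := toGlobal_comp (algebraMap k k') (X ↘ (Spec (CommRingCat.of k')))
    have h' : Coh.toGlobal (X ↘ Spec (CommRingCat.of k)) =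
        (Coh.toGlobal (X ↘ (Spec (CommRingCat.of k')))).comp (algebraMap k k') := h
    rw [h']
    rfl
  haveI towerR : IsScalarTower k k' (ResidueField (X.presheaf.stalk x)) := by
    refine IsScalarTower.of_algebraMap_eq fun t => ?_
    show residue _ (algebraMap k (X.presheaf.stalk x) t) =
      residue _ (algebraMap k' (X.presheaf.stalk x) (algebraMap k k' t))
    rw [IsScalarTower.algebraMap_apply k k' (X.presheaf.stalk x)]
  constructor
  · rintro ⟨hsep, a, b, c, hd, e, -⟩
    haveI := hsep
    exact quadCone_of_iso k X x hx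
      (Algebra.IsSeparable.trans k k' (ResidueField (X.presheaf.stalk x))) a b c hd e
  · rintro ⟨hsep, a, b, c, hd, e, -⟩
    haveI := hsep
    exact quadCone_of_iso k' X x hx
      (Algebra.isSeparable_tower_top_of_isSeparable k k' (ResidueField (X.presheaf.stalk x)))
      a b c hd e

end Groth.Agent.S6553
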