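import Groth.Statements.S6557
import Groth.Agent.S2805
import Groth.Agent.Lib.Helper82.FlatDedekind

set_option autoImplicit false
set_option backward.isDefEq.respectTransparency.types false
universe u
open CategoryTheory CategoryTheory.Limits AlgebraicGeometry
open Curves

namespace Groth.Agent.S6557

/-- Let k be a field and f : X → Y a surjective morphism over k of curves over k (integral, separated,
of finite type over k, of dimension one). If X is smooth over k and every local ring of Y is an
integrally closed domain, then Y is also smooth over k. -/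
theorem result (k : Type u) [Field k]
    (X Y : Scheme.{u}) [X.Over (Spec (CommRingCat.of k))] [Y.Over (Spec (CommRingCat.of k))]
    [IsIntegral X] [IsSeparated (X ↘ (Spec (CommRingCat.of k)))] [LocallyOfFiniteType (X ↘ (Spec (CommRingCat.of k)))] [QuasiCompact (X ↘ (Spec (CommRingCat.of k)))] (hdX : topologicalKrullDim X = 1) [IsIntegral Y] [IsSeparated (Y ↘ (Spec (CommRingCat.of k)))] [LocallyOfFiniteType (Y ↘ (Spec (CommRingCat.of k)))] [QuasiCompact (Y ↘ (Spec (CommRingCat.of k)))] (hdY : topologicalKrullDim Y = 1)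
    (f : X ⟶ Y) (hf : f ≫ (Y ↘ (Spec (CommRingCat.of k))) = X ↘ (Spec (CommRingCat.of k))) [Surjective f]
    [Smooth (X ↘ (Spec (CommRingCat.of k)))] (hY : Pi1.IsNormalScheme Y) :
    Smooth (Y ↘ (Spec (CommRingCat.of k))) := by
  haveI : IsLocallyNoetherian Y :=
    LocallyOfFiniteType.isLocallyNoetherian (Y ↘ (Spec (CommRingCat.of k)))
  -- the local rings of `Y` are regular
  have hreg : ∀ y : Y, IsRegularLocalRing (Y.presheaf.stalk y) := by
    intro y
    obtain ⟨-, hic⟩ := hY y
    have hdim : ringKrullDim (Y.presheaf.stalk y) ≤ 1 :=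
      (Groth.Agent.Lib.QCoh.TFDimOne74.ringKrullDim_stalk_le Y y).trans hdY.le
    haveI : Ring.KrullDimLE 1 (Y.presheaf.stalk y) :=
      Ring.krullDimLE_iff.2 (by simpa using hdim)
    have h30 := (tfae_of_isNoetherianRing_of_isLocalRing_of_isDomain (Y.presheaf.stalk y)).out 3 0
    haveI : IsPrincipalIdealRing (Y.presheaf.stalk y) :=
      h30.1 ⟨hic, fun P hP0 hP => IsLocalRing.eq_maximalIdeal (hP.isMaximal_of_ne_bot hP0)⟩
    infer_instance
  -- `f` is flat
  haveI hflat : Flat f := by
    rw [Groth.Agent.Lib.Helper82.FlatDedekind.flat_iff_weakAss f hreg hdY.le]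
    intro x hx
    have hxg : genericPoint X = x :=
      Groth.Agent.Lib.QCoh.generic_of_isWeakAssPoint_structureModule_of_isReduced x hx _
        ((genericPoint_spec X).specializes trivial)
    rw [← hxg]
    obtain ⟨x0, hx0⟩ := f.surjective (genericPoint Y)
    have h1 : f.base (genericPoint X) ⤳ genericPoint Y := by
      rw [← hx0]
      exact ((genericPoint_spec X).specializes trivial).map f.continuous
    have h2 : genericPoint Y ⤳ f.base (genericPoint X) :=
      (genericPoint_spec Y).specializes trivial
    exact (h1.antisymm h2).eq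
  have hloc : ∀ y : Y, ∃ V : Y.Opens, y ∈ V ∧
      Smooth (V.ι ≫ (Y ↘ (Spec (CommRingCat.of k)))) := by
    intro y
    obtain ⟨x, rfl⟩ := f.surjective y
    refine Groth.Agent.S2805.result (Y ↘ (Spec (CommRingCat.of k)))
      (X ↘ (Spec (CommRingCat.of k))) f hf x (Flat.stalkMap f x) ⟨⊤, trivial, ?_⟩
    exact IsZariskiLocalAtSource.comp (P := @Smooth) inferInstance _
  choose V hyV hV using hloc
  exact IsZariskiLocalAtSource.of_iSup_eq_top (P := @Smooth) V
    (top_le_iff.1 fun y _ => TopologicalSpace.Opens.mem_iSup.2 ⟨y, hyV y⟩) hV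

end Groth.Agent.S6557
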