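import Groth.Statements.S6564
-- import your own Groth.Agent.* helpers here

set_option autoImplicit false
universe u
open CategoryTheory CategoryTheory.Limits AlgebraicGeometry
open Curves

namespace Groth.Agent.S6564

/-- Let X be proper over the field k of dimension at most 1. If X has a g^r_d (an invertible module L of
degree d with an ordered family of r + 1 global sections linearly independent over k), then X has a
g^s_d for every 0 ≤ s ≤ r. -/
theorem result (k : Type u) [Field k] (X : Scheme.{u}) [X.Over (Spec (CommRingCat.of k))] [IsProper (X ↘ (Spec (CommRingCat.of k)))] (hdim : topologicalKrullDim X ≤ 1)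
    (d r : ℕ) (L : X.Modules) (σ : Fin (r + 1) → LinSer.Sect X L) (hL : LinSer.IsLinSer k X L d r σ)
    (s : ℕ) (hs : s ≤ r) :
    ∃ (L' : X.Modules) (τ : Fin (s + 1) → LinSer.Sect X L'), LinSer.IsLinSer k X L' d s τ := by
  classical
  obtain ⟨hinv, hdeg, hli⟩ := hL
  have hsr : s + 1 ≤ r + 1 := Nat.succ_le_succ hs
  refine ⟨L, fun i => σ (Fin.castLE hsr i), hinv, hdeg, ?_⟩
  intro c hc
  -- extend `c` by zero
  let c' : Fin (r + 1) → k := fun j => if h : (j : ℕ) < s + 1 then c ⟨j, h⟩ else 0
  have hc' : c' = 0 := by
    apply hli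
    have hsum : (∑ j, (Coh.toGlobal (X ↘ Spec (CommRingCat.of k)) (c' j)) • σ j) =
        ∑ i, (Coh.toGlobal (X ↘ Spec (CommRingCat.of k)) (c i)) • σ (Fin.castLE hsr i) := by
      symm
      refine Finset.sum_of_injOn (Fin.castLE hsr) ?_ ?_ ?_ ?_
      · exact fun a _ b _ h => Fin.castLE_injective hsr h
      · intro a _
        exact Finset.mem_coe.mpr (Finset.mem_univ _)
      · intro j _ hj
        have hj' : ¬ ((j : ℕ) < s + 1) := by
          intro hlt
          apply hj
          exact ⟨⟨j, hlt⟩, Finset.mem_coe.mpr (Finset.mem_univ _), Fin.ext rfl⟩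
        simp only [c', dif_neg hj', map_zero, zero_smul]
      · intro i _
        have hi : ((Fin.castLE hsr i : Fin (r + 1)) : ℕ) < s + 1 := by
          rw [Fin.val_castLE]; exact i.isLt
        simp only [c', dif_pos hi]
        rfl
    rw [hsum]
    exact hc
  funext i
  have := congrFun hc' (Fin.castLE hsr i)
  have hi : ((Fin.castLE hsr i : Fin (r + 1)) : ℕ) < s + 1 := by
    rw [Fin.val_castLE]; exact i.isLt
  simp only [c', dif_pos hi, Pi.zero_apply] at this
  exact this

end Groth.Agent.S6564
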