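import Groth.Statements.S6580
import Mathlib.Tactic.NoncommRing
-- import your own Groth.Agent.* helpers here

set_option autoImplicit false
universe v u
open CategoryTheory CategoryTheory.Limits
open CohDer

namespace Groth.Agent.S6580

theorem ring_idem {R : Type*} [Ring R] (x : R) (h : (x * x - x) * (x * x - x) = 0) :
    ((x * x + x * x + x * x) - (x * x * x + x * x * x)) *
      ((x * x + x * x + x * x) - (x * x * x + x * x * x)) =
      (x * x + x * x + x * x) - (x * x * x + x * x * x) := by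
  have key : ((x * x + x * x + x * x) - (x * x * x + x * x * x)) *
      ((x * x + x * x + x * x) - (x * x * x + x * x * x)) -
      ((x * x + x * x + x * x) - (x * x * x + x * x * x)) =
      - ((x * x - x) * (x * x - x)) * ((3 - 2 * x) * (2 * x + 1)) := by
    noncomm_ring
  rw [h] at key
  rw [← sub_eq_zero, key]
  simp

open CategoryTheory.Pretriangulated in
/-- Let (X, Y, Z, f, g, h) be a distinguished triangle of a pretriangulated category, and let a : X ⟶ X
and c : Z ⟶ Z be idempotents with h ≫ a⟦1⟧ = c ≫ h. Then there is an idempotent b : Y ⟶ Y such that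
(a, b, c) is an endomorphism of the triangle. -/
theorem result {D : Type u} [Category.{v} D] [Preadditive D] [HasZeroObject D] [HasShift D ℤ]
    [∀ n : ℤ, (shiftFunctor D n).Additive] [Pretriangulated D]
    (T : Triangle D) (hT : T ∈ distinguishedTriangles) (a : T.obj₁ ⟶ T.obj₁) (c : T.obj₃ ⟶ T.obj₃)
    (ha : a ≫ a = a) (hc : c ≫ c = c) (comm : T.mor₃ ≫ (shiftFunctor D (1 : ℤ)).map a = c ≫ T.mor₃) :
    ∃ b : T.obj₂ ⟶ T.obj₂, b ≫ b = b ∧ T.mor₁ ≫ b = a ≫ T.mor₁ ∧ T.mor₂ ≫ c = b ≫ T.mor₂ := by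
  obtain ⟨b', h1, h2⟩ := complete_distinguished_triangle_morphism₂ T T hT hT a c comm
  -- powers of b'
  have h1' : T.mor₁ ≫ b' ≫ b' = a ≫ T.mor₁ := by
    rw [← Category.assoc, h1, Category.assoc, h1, ← Category.assoc, ha]
  have h1'' : T.mor₁ ≫ b' ≫ b' ≫ b' = a ≫ T.mor₁ := by
    rw [← Category.assoc, h1, Category.assoc, h1', ← Category.assoc, ha]
  have h2' : (b' ≫ b') ≫ T.mor₂ = T.mor₂ ≫ c := by
    rw [Category.assoc, ← h2, ← Category.assoc, ← h2, Category.assoc, hc]
  have h2'' : (b' ≫ b' ≫ b') ≫ T.mor₂ = T.mor₂ ≫ c := by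
    rw [Category.assoc, h2', ← Category.assoc, ← h2, Category.assoc, hc]
  -- d = b'b' - b' squares to zero
  have hd1 : T.mor₁ ≫ (b' ≫ b' - b') = 0 := by
    rw [Preadditive.comp_sub, h1', h1, sub_self]
  have hd2 : (b' ≫ b' - b') ≫ T.mor₂ = 0 := by
    rw [Preadditive.sub_comp, h2', ← h2, sub_self]
  obtain ⟨k, hk⟩ := Triangle.yoneda_exact₂ T hT _ hd1
  have hdd : (b' ≫ b' - b') ≫ (b' ≫ b' - b') = 0 := by
    conv_lhs => rw [hk]
    rw [← Category.assoc, ← hk, hd2, zero_comp]
  -- translate to the endomorphism ring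
  let x : End T.obj₂ := b'
  have hx : (x * x - x) * (x * x - x) = 0 := hdd
  have hidem := ring_idem x hx
  refine ⟨(b' ≫ b' + b' ≫ b' + b' ≫ b') - (b' ≫ b' ≫ b' + b' ≫ b' ≫ b'), ?_, ?_, ?_⟩
  · have e : ((x * x + x * x + x * x) - (x * x * x + x * x * x) : End T.obj₂) =
        ((b' ≫ b' + b' ≫ b' + b' ≫ b') - (b' ≫ b' ≫ b' + b' ≫ b' ≫ b') : T.obj₂ ⟶ T.obj₂) := by
      simp only [End.mul_def, x]
    rw [e] at hidem
    exact hidem
  · simp only [Preadditive.comp_sub, Preadditive.comp_add, h1', h1'']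
    abel
  · simp only [Preadditive.sub_comp, Preadditive.add_comp, h2', h2'']
    abel

end Groth.Agent.S6580
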