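import Groth.Statements.S6583
-- import your own Groth.Agent.* helpers here

set_option autoImplicit false
universe v u v' u'
open CategoryTheory CategoryTheory.Limits
open CohDer

namespace Groth.Agent.S6583

open CategoryTheory.Pretriangulated in
/-- Let H : D ⥤ A be a homological functor from a pretriangulated category to an abelian category. The
full subcategory of D on the objects X with H(X⟦n⟧) = 0 for all n ≪ 0 is a strictly full
pretriangulated subcategory (zero object, stable under shifts and isomorphisms, closed under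
extensions) and is saturated: if X ⊞ Y belongs to it then so do X and Y. -/
theorem result {D : Type u} [Category.{v} D] [Preadditive D] [HasZeroObject D] [HasShift D ℤ]
    [∀ n : ℤ, (shiftFunctor D n).Additive] [Pretriangulated D]
    {A : Type u'} [Category.{v'} A] [Abelian A] (H : D ⥤ A) [H.IsHomological] :
    (ObjectProperty.IsTriangulated (fun X : D => ∃ N : ℤ, ∀ n : ℤ, n ≤ N → IsZero (H.obj ((shiftFunctor D n).obj X)))) ∧
    (ObjectProperty.IsClosedUnderIsomorphisms (fun X : D => ∃ N : ℤ, ∀ n : ℤ, n ≤ N → IsZero (H.obj ((shiftFunctor D n).obj X)))) ∧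
    (∀ X Y : D, (∃ N : ℤ, ∀ n : ℤ, n ≤ N → IsZero (H.obj ((shiftFunctor D n).obj (X ⊞ Y)))) →
      (∃ N : ℤ, ∀ n : ℤ, n ≤ N → IsZero (H.obj ((shiftFunctor D n).obj X))) ∧
      (∃ N : ℤ, ∀ n : ℤ, n ≤ N → IsZero (H.obj ((shiftFunctor D n).obj Y)))) := by
  obtain ⟨Z0, hZ0⟩ := HasZeroObject.zero (C := D)
  refine ⟨?_, ?_, ?_⟩
  · refine
      { exists_zero := ⟨Z0, hZ0, 0, fun n _ => (shiftFunctor D n ⋙ H).map_isZero hZ0⟩
        isStableUnderShiftBy := fun a => ⟨fun X hX => ?_⟩
        ext₂' := fun T hT h₁ h₃ => ?_ }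
    · obtain ⟨N, hN⟩ := hX
      refine ⟨N - a, fun b hb => ?_⟩
      exact (hN (a + b) (by omega)).of_iso (H.mapIso ((shiftFunctorAdd D a b).app X).symm)
    · refine ObjectProperty.le_isoClosure _ _ ?_
      obtain ⟨N₁, hN₁⟩ := h₁
      obtain ⟨N₃, hN₃⟩ := h₃
      refine ⟨min N₁ N₃, fun n hn => ?_⟩
      exact (H.map_distinguished_exact _
        (Triangle.shift_distinguished T hT n)).isZero_of_both_zeros
          ((hN₁ n (hn.trans (min_le_left _ _))).eq_of_src _ _) ((hN₃ n (hn.trans (min_le_right _ _))).eq_of_tgt _ _)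
  · refine ⟨fun e hX => ?_⟩
    obtain ⟨N, hN⟩ := hX
    exact ⟨N, fun n hn => (hN n hn).of_iso ((shiftFunctor D n ⋙ H).mapIso e.symm)⟩
  · rintro X Y ⟨N, hN⟩
    constructor
    · refine ⟨N, fun n hn => ?_⟩
      have h := hN n hn
      rw [IsZero.iff_id_eq_zero, ← H.map_id, ← (shiftFunctor D n).map_id,
        ← biprod.inl_fst (X := X) (Y := Y), (shiftFunctor D n).map_comp, H.map_comp,
        h.eq_of_tgt (H.map ((shiftFunctor D n).map biprod.inl)) 0, zero_comp]
    · refine ⟨N, fun n hn => ?_⟩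
      have h := hN n hn
      rw [IsZero.iff_id_eq_zero, ← H.map_id, ← (shiftFunctor D n).map_id,
        ← biprod.inr_snd (X := X) (Y := Y), (shiftFunctor D n).map_comp, H.map_comp,
        h.eq_of_tgt (H.map ((shiftFunctor D n).map biprod.inr)) 0, zero_comp]

end Groth.Agent.S6583
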