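import Groth.Statements.S6585
import Mathlib.CategoryTheory.Triangulated.Generators
-- import your own Groth.Agent.* helpers here

set_option autoImplicit false
universe v u
open CategoryTheory CategoryTheory.Limits
open CohDer

namespace Groth.Agent.S6585

section aux
open CategoryTheory.Pretriangulated

variable {D : Type u} [Category.{v} D] [Preadditive D] [HasZeroObject D] [HasShift D ℤ]
    [∀ n : ℤ, (shiftFunctor D n).Additive] [Pretriangulated D]

/-- Objects all of whose morphisms to all shifts of `K` vanish. -/
def leftOrth (K : D) : ObjectProperty D :=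
  fun X => ∀ (i : ℤ) (f : X ⟶ (shiftFunctor D i).obj K), f = 0

theorem leftOrth_shift (K : D) (a : ℤ) (X : D) (hX : leftOrth K X) :
    leftOrth K ((shiftFunctor D a).obj X) := by
  intro i f
  -- apply the shift by `-a`, which is faithful
  apply (shiftFunctor D (-a)).map_injective
  rw [Functor.map_zero]
  have h1 := hX (i + -a)
    ((shiftFunctorCompIsoId D a (-a) (by omega)).inv.app X ≫ (shiftFunctor D (-a)).map f ≫
      ((shiftFunctorAdd D i (-a)).app K).inv)
  have h2 : (shiftFunctorCompIsoId D a (-a) (by omega)).hom.app X ≫
      ((shiftFunctorCompIsoId D a (-a) (by omega)).inv.app X ≫ (shiftFunctor D (-a)).map f ≫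
      ((shiftFunctorAdd D i (-a)).app K).inv) ≫ ((shiftFunctorAdd D i (-a)).app K).hom =
      (shiftFunctor D (-a)).map f := by
    simp
  rw [← h2, h1]
  simp

instance leftOrth_isStableUnderRetracts (K : D) : (leftOrth K).IsStableUnderRetracts where
  of_retract {X Y} r hY i f := by
    have : f = r.i ≫ r.r ≫ f := by rw [← Category.assoc, r.retract, Category.id_comp]
    rw [this, hY i (r.r ≫ f), comp_zero]

instance leftOrth_isTriangulated (K : D) : (leftOrth K).IsTriangulated where
  exists_zero := by
    obtain ⟨Z0, hZ0⟩ := HasZeroObject.zero (C := D)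
    exact ⟨Z0, hZ0, fun i f => hZ0.eq_of_src _ _⟩
  isStableUnderShiftBy a := ⟨fun X hX => leftOrth_shift K a X hX⟩
  ext₂' T hT h₁ h₃ := by
    refine ObjectProperty.le_isoClosure _ _ ?_
    intro i f
    obtain ⟨g, hg⟩ := Triangle.yoneda_exact₂ T hT f (h₁ i _)
    rw [hg, h₃ i g, comp_zero]

theorem key [IsTriangulated D] (E K : D)
    (h : ∀ (i : ℤ) (f : E ⟶ (shiftFunctor D i).obj K), f = 0) (E' : D)
    (hE' : (ObjectProperty.singleton E).triangEnvelope E') (f : E' ⟶ K) : f = 0 := by
  have hle : (ObjectProperty.singleton E).triangEnvelope ≤ leftOrth K := by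
    rw [ObjectProperty.triangEnvelope_le_iff, ObjectProperty.singleton_le_iff]
    exact h
  have h0 := hle E' hE' 0 (f ≫ (shiftFunctorZero D ℤ).inv.app K)
  have : f = (f ≫ (shiftFunctorZero D ℤ).inv.app K) ≫ (shiftFunctorZero D ℤ).hom.app K := by
    simp
  rw [this, h0, zero_comp]

end aux

open CategoryTheory.Pretriangulated in
/-- Let D be a triangulated category and E, K objects of D. Then Hom(E, K⟦i⟧) = 0 for all integers i if
and only if Hom(E', K) = 0 for every E' in ⟨E⟩, the smallest strictly full saturated triangulated
subcategory of D containing E (the objects obtained from E by shifts, finite direct sums, direct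
summands and extensions). -/
theorem result {D : Type u} [Category.{v} D] [Preadditive D] [HasZeroObject D] [HasShift D ℤ]
    [∀ n : ℤ, (shiftFunctor D n).Additive] [Pretriangulated D] [IsTriangulated D]
    (E K : D) :
    (∀ (i : ℤ) (f : E ⟶ (shiftFunctor D i).obj K), f = 0) ↔
      ∀ (E' : D), (ObjectProperty.singleton E).triangEnvelope E' → ∀ f : E' ⟶ K, f = 0 := by
  constructor
  · intro h E' hE' f
    exact key E K h E' hE' f
  · intro h i f
    -- `E⟦-i⟧` belongs to the envelope
    have hE : (ObjectProperty.singleton E).triangEnvelope E :=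
      ObjectProperty.le_triangEnvelope _ _ ((ObjectProperty.singleton_iff E E).mpr rfl)
    have hEi : (ObjectProperty.singleton E).triangEnvelope ((shiftFunctor D (-i)).obj E) :=
      (ObjectProperty.singleton E).triangEnvelope.le_shift (-i) _ hE
    apply (shiftFunctor D (-i)).map_injective
    rw [Functor.map_zero]
    have h1 := h _ hEi ((shiftFunctor D (-i)).map f ≫
      (shiftFunctorCompIsoId D i (-i) (by omega)).hom.app K)
    have h2 : ((shiftFunctor D (-i)).map f ≫
      (shiftFunctorCompIsoId D i (-i) (by omega)).hom.app K) ≫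
      (shiftFunctorCompIsoId D i (-i) (by omega)).inv.app K = (shiftFunctor D (-i)).map f := by
      simp
    rw [← h2, h1, zero_comp]

end Groth.Agent.S6585
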