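import Groth.Statements.S6587
-- import your own Groth.Agent.* helpers here

set_option autoImplicit false
universe v u
open CategoryTheory CategoryTheory.Limits Opposite
open CohDer

namespace Groth.Agent.S6587

open CategoryTheory.Pretriangulated in
/-- Let D be a triangulated category and let X_n → Y_n → Z_n → X_n⟦1⟧ be an inverse system of
distinguished triangles of D indexed by ℕ (levelwise maps f, g, h of inverse systems, each level
distinguished). If the inverse system (Z_n) is pro-zero, then the levelwise map f : (X_n) → (Y_n) is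
a pro-isomorphism. -/
theorem result {D : Type u} [Category.{v} D] [Preadditive D] [HasZeroObject D] [HasShift D ℤ]
    [∀ n : ℤ, (shiftFunctor D n).Additive] [Pretriangulated D] [IsTriangulated D]
    (X Y Z : ARSys.PS D) (f : X ⟶ Y) (g : Y ⟶ Z) (h : Z ⟶ X ⋙ shiftFunctor D (1 : ℤ))
    (hT : ∀ n : ℕ, Triangle.mk (f.app (op n)) (g.app (op n)) (h.app (op n)) ∈ distinguishedTriangles)
    (hZ : DerCA.IsProZero Z) :
    DerCA.IsProIso f := by
  intro n
  obtain ⟨m₁, hm₁, hz₁⟩ := hZ n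
  obtain ⟨m₂, hm₂, hz₂⟩ := hZ m₁
  -- transition maps are compatible with f, g, h
  have natf : ∀ {a b : ℕ} (hab : a ≤ b), ARSys.tr X hab ≫ f.app (op a) = f.app (op b) ≫ ARSys.tr Y hab :=
    fun hab => (f.naturality (homOfLE hab).op)
  have natg : ∀ {a b : ℕ} (hab : a ≤ b), ARSys.tr Y hab ≫ g.app (op a) = g.app (op b) ≫ ARSys.tr Z hab :=
    fun hab => (g.naturality (homOfLE hab).op)
  have nath : ∀ {a b : ℕ} (hab : a ≤ b), ARSys.tr Z hab ≫ h.app (op a) =
      h.app (op b) ≫ (shiftFunctor D (1 : ℤ)).map (ARSys.tr X hab) :=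
    fun hab => (h.naturality (homOfLE hab).op)
  -- factor the transition map of Y through f at level m₁
  have hY2 : ARSys.tr Y hm₂ ≫ g.app (op m₁) = 0 := by rw [natg, hz₂, comp_zero]
  have ex2 : ∀ (m : ℕ) {W : D} (u : W ⟶ Y.obj (op m)), u ≫ g.app (op m) = 0 →
      ∃ v : W ⟶ X.obj (op m), u = v ≫ f.app (op m) :=
    fun m W u hu => Triangle.coyoneda_exact₂ _ (hT m) u hu
  have ex1 : ∀ (m : ℕ) {W : D} (u : W ⟶ (shiftFunctor D (1 : ℤ)).obj (X.obj (op m))),
      u ≫ (shiftFunctor D (1 : ℤ)).map (f.app (op m)) = 0 →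
      ∃ v : W ⟶ Z.obj (op m), u = v ≫ h.app (op m) :=
    fun m W u hu => Triangle.coyoneda_exact₁ _ (hT m) u hu
  obtain ⟨b₂, hb₂⟩ := ex2 m₁ (ARSys.tr Y hm₂) hY2
  refine ⟨m₂, hm₁.trans hm₂, b₂ ≫ ARSys.tr X hm₁, ?_, ?_⟩
  · -- the error term dies after the next transition
    have he : (f.app (op m₂) ≫ b₂ - ARSys.tr X hm₂) ≫ f.app (op m₁) = 0 := by
      rw [Preadditive.sub_comp, Category.assoc, ← hb₂, natf, sub_self]
    have he' : (shiftFunctor D (1 : ℤ)).map (f.app (op m₂) ≫ b₂ - ARSys.tr X hm₂) ≫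
        (shiftFunctor D (1 : ℤ)).map (f.app (op m₁)) = 0 := by
      rw [← Functor.map_comp, he, Functor.map_zero]
    obtain ⟨k, hk⟩ := ex1 m₁ _ he'
    have hzero : (f.app (op m₂) ≫ b₂ - ARSys.tr X hm₂) ≫ ARSys.tr X hm₁ = 0 := by
      apply (shiftFunctor D (1 : ℤ)).map_injective
      rw [Functor.map_comp, hk, Category.assoc, ← nath, hz₁, zero_comp, comp_zero, Functor.map_zero]
    rw [Preadditive.sub_comp, sub_eq_zero, Category.assoc] at hzero
    rw [hzero]
    simp only [ARSys.tr, ← Functor.map_comp]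
    rfl
  · rw [Category.assoc, natf, ← Category.assoc, ← hb₂]
    simp only [ARSys.tr, ← Functor.map_comp]
    rfl

end Groth.Agent.S6587
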