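import Groth.Statements.S6594
-- import your own Groth.Agent.* helpers here

set_option autoImplicit false
universe v u
open CategoryTheory CategoryTheory.Limits
open CohDer

namespace Groth.Agent.S6594

open ZeroObject Pretriangulated

set_option backward.defeqAttrib.useBackward true in
set_option backward.isDefEq.respectTransparency false in

open CategoryTheory.Pretriangulated in
/-- (1) ⇔ (3): let D be a pretriangulated category and f : X ⟶ Y a morphism. Then f has a kernel if and
only if f is isomorphic to a composite K ⊞ Z → Z → Z ⊞ Q of a projection and a coprojection for some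
objects K, Z, Q. -/
theorem result {D : Type u} [Category.{v} D] [Preadditive D] [HasZeroObject D] [HasShift D ℤ]
    [∀ n : ℤ, (shiftFunctor D n).Additive] [Pretriangulated D]
    {X Y : D} (f : X ⟶ Y) :
    HasKernel f ↔ ∃ (K Z Q : D) (e₁ : X ≅ K ⊞ Z) (e₂ : Y ≅ Z ⊞ Q),
      f = e₁.hom ≫ biprod.snd ≫ biprod.inl ≫ e₂.inv := by
  constructor
  · intro hker
    -- the kernel inclusion is a (split) mono; complete it to a triangle
    let i : kernel f ⟶ X := kernel.ι f
    obtain ⟨Z, p, h, hT⟩ := distinguished_cocone_triangle i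
    have h0 : h = 0 := Triangle.mor₃_eq_zero_of_mono₁ _ hT (inferInstanceAs (Mono i))
    obtain ⟨e₁, he₁, hp⟩ := exists_iso_binaryBiproduct_of_distTriang _ hT h0
    dsimp at e₁ he₁ hp
    have hepi : Epi p := Triangle.epi₂ _ hT h0
    have := isSplitEpi_of_epi p
    obtain ⟨f', hf'⟩ := Triangle.yoneda_exact₂ _ hT f (kernel.condition f)
    dsimp at f' hf'
    have hmono : Mono f' := by
      rw [Preadditive.mono_iff_cancel_zero]
      intro W t ht
      have h1 : (t ≫ section_ p) ≫ f = 0 := by
        rw [hf', Category.assoc, IsSplitEpi.id_assoc, ht]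
      have h2 : t ≫ section_ p = kernel.lift f _ h1 ≫ i := (kernel.lift_ι f _ h1).symm
      calc t = (t ≫ section_ p) ≫ p := by rw [Category.assoc, IsSplitEpi.id, Category.comp_id]
        _ = 0 := by
          rw [h2, Category.assoc]
          have : i ≫ p = 0 := comp_distTriang_mor_zero₁₂ _ hT
          rw [this, comp_zero]
    obtain ⟨Q, p', h', hT'⟩ := distinguished_cocone_triangle f'
    have h0' : h' = 0 := Triangle.mor₃_eq_zero_of_mono₁ _ hT' hmono
    obtain ⟨e₂, he₂, -⟩ := exists_iso_binaryBiproduct_of_distTriang _ hT' h0'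
    dsimp at e₂ he₂
    refine ⟨kernel f, Z, Q, e₁, e₂, ?_⟩
    calc f = p ≫ f' := hf'
      _ = (e₁.hom ≫ biprod.snd) ≫ f' := by rw [← hp]
      _ = e₁.hom ≫ biprod.snd ≫ biprod.inl ≫ e₂.inv := by
        rw [← he₂]
        simp
  · rintro ⟨K, Z, Q, e₁, e₂, hf⟩
    have hm : Mono (biprod.inl ≫ e₂.inv : Z ⟶ Y) := mono_comp _ _
    have hw : (biprod.inl ≫ e₁.inv : K ⟶ X) ≫ f = 0 := by
      rw [hf]; simp
    refine ⟨⟨⟨KernelFork.ofι _ hw, ?_⟩⟩⟩
    refine KernelFork.IsLimit.ofι _ _ (fun {W} s hs => s ≫ e₁.hom ≫ biprod.fst) ?_ ?_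
    · intro W s hs
      have hs' : s ≫ e₁.hom ≫ biprod.snd = 0 := by
        rw [← cancel_mono (biprod.inl ≫ e₂.inv : Z ⟶ Y), zero_comp]
        rw [hf] at hs
        simpa using hs
      rw [← cancel_mono e₁.hom]
      apply biprod.hom_ext
      · simp
      · simp [hs']
    · intro W s hs m hm'
      rw [← hm']
      simp

end Groth.Agent.S6594
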