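import Groth.Statements.S6595
-- import your own Groth.Agent.* helpers here

set_option autoImplicit false
universe v u
open CategoryTheory CategoryTheory.Limits
open CohDer

namespace Groth.Agent.S6595

open ZeroObject Pretriangulated

section Aux

variable {D : Type u} [Category.{v} D] [Preadditive D] [HasZeroObject D] [HasShift D ℤ]
    [∀ n : ℤ, (shiftFunctor D n).Additive]

/-- vanishing of a Hom group is invariant under shifting source and target -/
theorem hom_shift_eq_zero {W V : D} (p q p' : ℤ) (h : p + q = p')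
    (hz : ∀ ψ : (shiftFunctor D p).obj W ⟶ V, ψ = 0)
    (ψ : (shiftFunctor D p').obj W ⟶ (shiftFunctor D q).obj V) : ψ = 0 := by
  let e : (shiftFunctor D p').obj W ≅ (shiftFunctor D q).obj ((shiftFunctor D p).obj W) :=
    (shiftFunctorAdd' D p q p' h).app W
  obtain ⟨ψ₀, hψ₀⟩ := (shiftFunctor D q).map_surjective (e.inv ≫ ψ)
  have : e.inv ≫ ψ = 0 := by rw [← hψ₀, hz ψ₀, Functor.map_zero]
  rw [← cancel_epi e.inv, this, comp_zero]

end Aux

set_option backward.defeqAttrib.useBackward true in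
set_option backward.isDefEq.respectTransparency false in

open CategoryTheory.Pretriangulated in
/-- Let D be a triangulated category, X and X' chain complexes in D considered in degrees ≤ n, where a
Postnikov system for the complex X_n → … → X_0 consists of objects Y_k, an isomorphism Y_0 ⟶ X_0,
and for 0 ≤ k < n distinguished triangles Y_{k+1} ⟶ X_{k+1} ⟶ Y_k ⟶ Y_{k+1}⟦1⟧ with X_{k+1} ⟶ Y_k ⟶
X_k the differential. Suppose X' carries a Postnikov system (Y', a', b', c'). If Hom(X_i⟦i - j - 1⟧,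
X'_j) = 0 for all j + 1 < i ≤ n, then Hom(X_i⟦i - j - 1⟧, Y'_j) = 0 for all j + 1 < i ≤ n. -/
theorem result {D : Type u} [Category.{v} D] [Preadditive D] [HasZeroObject D] [HasShift D ℤ]
    [∀ n : ℤ, (shiftFunctor D n).Additive] [Pretriangulated D] [IsTriangulated D]
    (X X' : ChainComplex D ℕ) (n : ℕ)
    (Y : ℕ → D) (a : ∀ k, Y k ⟶ X'.X k) (b : ∀ k, X'.X (k + 1) ⟶ Y k)
    (c : ∀ k, Y k ⟶ (shiftFunctor D (1 : ℤ)).obj (Y (k + 1)))
    (h0 : IsIso (a 0))
    (hP : ∀ k, k < n → Triangle.mk (a (k + 1)) (b k) (c k) ∈ distinguishedTriangles ∧ b k ≫ a k = X'.d (k + 1) k)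
    (hX : ∀ i j : ℕ, j + 1 < i → i ≤ n → ∀ ψ : (shiftFunctor D ((i : ℤ) - j - 1)).obj (X.X i) ⟶ X'.X j, ψ = 0)
    (i j : ℕ) (hij : j + 1 < i) (hi : i ≤ n) (ψ : (shiftFunctor D ((i : ℤ) - j - 1)).obj (X.X i) ⟶ Y j) :
    ψ = 0 := by
  induction j generalizing i with
  | zero =>
    have := hX i 0 hij hi (ψ ≫ a 0)
    rw [← cancel_mono (a 0), this, zero_comp]
  | succ j ih =>
    have hjn : j < n := by omega
    obtain ⟨hT, -⟩ := hP j hjn
    have h1 : ψ ≫ a (j + 1) = 0 := hX i (j + 1) hij hi _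
    obtain ⟨g, hg⟩ := Triangle.coyoneda_exact₂ _ (inv_rot_of_distTriang _ hT) ψ h1
    dsimp at g hg
    have hg0 : g = 0 := by
      refine hom_shift_eq_zero ((i : ℤ) - j - 1) (-1) _ ?_ (fun ψ' => ih i (by omega) hi ψ') g
      omega
    rw [hg, hg0, zero_comp]

end Groth.Agent.S6595
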