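import Groth.Statements.S6596
import Groth.Agent.S6595
-- import your own Groth.Agent.* helpers here

set_option autoImplicit false
universe v u
open CategoryTheory CategoryTheory.Limits
open CohDer

namespace Groth.Agent.S6596

open ZeroObject Pretriangulated

set_option backward.defeqAttrib.useBackward true in
set_option backward.isDefEq.respectTransparency false in

open CategoryTheory.Pretriangulated in
/-- Let D be a triangulated category and φ : X ⟶ X' a morphism of chain complexes in D considered in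
degrees ≤ n, where a Postnikov system for the complex X_n → … → X_0 consists of objects Y_k, an
isomorphism Y_0 ⟶ X_0, and for 0 ≤ k < n distinguished triangles Y_{k+1} ⟶ X_{k+1} ⟶ Y_k ⟶
Y_{k+1}⟦1⟧ with X_{k+1} ⟶ Y_k ⟶ X_k the differential. Suppose X and X' carry Postnikov systems (Y,
a, b, c) and (Y', a', b', c'). If Hom(X_i⟦i - j - 1⟧, X'_j) = 0 for all j + 1 < i ≤ n, then φ
extends to a morphism of Postnikov systems: morphisms y_k : Y_k ⟶ Y'_k for k ≤ n forming, with the
φ_k, morphisms of the distinguished triangles and compatible with Y_0 ⟶ X_0 and Y'_0 ⟶ X'_0. -/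
theorem result {D : Type u} [Category.{v} D] [Preadditive D] [HasZeroObject D] [HasShift D ℤ]
    [∀ n : ℤ, (shiftFunctor D n).Additive] [Pretriangulated D] [IsTriangulated D]
    (X X' : ChainComplex D ℕ) (φ : X ⟶ X') (n : ℕ)
    (Y : ℕ → D) (a : ∀ k, Y k ⟶ X.X k) (b : ∀ k, X.X (k + 1) ⟶ Y k)
    (c : ∀ k, Y k ⟶ (shiftFunctor D (1 : ℤ)).obj (Y (k + 1)))
    (h0 : IsIso (a 0))
    (hP : ∀ k, k < n → Triangle.mk (a (k + 1)) (b k) (c k) ∈ distinguishedTriangles ∧ b k ≫ a k = X.d (k + 1) k)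
    (qY : ℕ → D) (qa : ∀ k, qY k ⟶ X'.X k) (qb : ∀ k, X'.X (k + 1) ⟶ qY k)
    (qc : ∀ k, qY k ⟶ (shiftFunctor D (1 : ℤ)).obj (qY (k + 1)))
    (qh0 : IsIso (qa 0))
    (qhP : ∀ k, k < n → Triangle.mk (qa (k + 1)) (qb k) (qc k) ∈ distinguishedTriangles ∧ qb k ≫ qa k = X'.d (k + 1) k)
    (hX : ∀ i j : ℕ, j + 1 < i → i ≤ n → ∀ ψ : (shiftFunctor D ((i : ℤ) - j - 1)).obj (X.X i) ⟶ X'.X j, ψ = 0) :
    ∃ y : ∀ k, Y k ⟶ qY k,
      (∀ k, k ≤ n → y k ≫ qa k = a k ≫ φ.f k) ∧
      (∀ k, k < n → b k ≫ y k = φ.f (k + 1) ≫ qb k ∧ c k ≫ (shiftFunctor D (1 : ℤ)).map (y (k + 1)) = y k ≫ qc k) := by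
  -- vanishing from S6595
  have hvan : ∀ m' : ℕ, m' + 2 ≤ n →
      ∀ ψ : (shiftFunctor D (1 : ℤ)).obj (X.X (m' + 2)) ⟶ qY m', ψ = 0 := by
    intro m' hm'
    have key : ∀ (p : ℤ), p = 1 →
        (∀ ψ : (shiftFunctor D p).obj (X.X (m' + 2)) ⟶ qY m', ψ = 0) →
        ∀ ψ : (shiftFunctor D (1 : ℤ)).obj (X.X (m' + 2)) ⟶ qY m', ψ = 0 := by
      rintro p rfl h
      exact h
    exact key _ (by push_cast; omega) (fun ψ =>
      Groth.Agent.S6595.result X X' n qY qa qb qc qh0 qhP hX (m' + 2) m' (by omega) hm' ψ)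
  suffices H : ∀ m, m ≤ n → ∃ y : ∀ k, Y k ⟶ qY k,
      (∀ k, k ≤ m → y k ≫ qa k = a k ≫ φ.f k) ∧
      (∀ k, k < m → b k ≫ y k = φ.f (k + 1) ≫ qb k ∧
        c k ≫ (shiftFunctor D (1 : ℤ)).map (y (k + 1)) = y k ≫ qc k) from H n le_rfl
  intro m
  induction m with
  | zero =>
    intro _
    refine ⟨fun k => match k with
      | 0 => a 0 ≫ φ.f 0 ≫ inv (qa 0)
      | (k + 1) => 0, ?_, ?_⟩
    · intro k hk
      obtain rfl : k = 0 := by omega
      simp
    · intro k hk
      omega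
  | succ m ih =>
    intro hm
    obtain ⟨y, hy₁, hy₂⟩ := ih (by omega)
    have hmn : m < n := by omega
    obtain ⟨hT₁, hd₁⟩ := hP m hmn
    obtain ⟨hT₂, hd₂⟩ := qhP m hmn
    have hδ : (b m ≫ y m - φ.f (m + 1) ≫ qb m) ≫ qa m = 0 := by
      rw [Preadditive.sub_comp, Category.assoc, hy₁ m le_rfl, ← Category.assoc, hd₁,
        Category.assoc, hd₂, φ.comm, sub_self]
    have comm : b m ≫ y m = φ.f (m + 1) ≫ qb m := by
      rw [← sub_eq_zero]
      cases m with
      | zero =>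
        rw [← cancel_mono (qa 0), hδ, zero_comp]
      | succ m' =>
        obtain ⟨hT₂', -⟩ := qhP m' (by omega)
        obtain ⟨g, hg⟩ := Triangle.coyoneda_exact₂ _ (inv_rot_of_distTriang _ hT₂') _ hδ
        dsimp at g hg
        have hg0 : g = 0 := by
          have h0 := Groth.Agent.S6595.hom_shift_eq_zero (W := X.X (m' + 2)) (V := qY m') 1 (-1) 0 (by omega)
            (hvan m' hm) ((shiftFunctorZero D ℤ).hom.app _ ≫ g)
          rw [← cancel_epi ((shiftFunctorZero D ℤ).hom.app (X.X (m' + 2))), h0, comp_zero]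
        rw [hg, hg0, zero_comp]
    obtain ⟨a₀, ha₁, ha₂⟩ :=
      complete_distinguished_triangle_morphism₁ _ _ hT₁ hT₂ (φ.f (m + 1)) (y m) comm
    dsimp at a₀ ha₁ ha₂
    refine ⟨Function.update y (m + 1) a₀, ?_, ?_⟩
    · intro k hk
      by_cases hkm : k = m + 1
      · subst hkm
        rw [Function.update_self]
        exact ha₁.symm
      · rw [Function.update_of_ne hkm]
        exact hy₁ k (by omega)
    · intro k hk
      by_cases hkm : k = m
      · subst hkm
        rw [Function.update_self, Function.update_of_ne (by omega)]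
        exact ⟨comm, ha₂⟩
      · rw [Function.update_of_ne (by omega), Function.update_of_ne (by omega)]
        exact hy₂ k (by omega)

end Groth.Agent.S6596
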