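import Groth.Statements.S6597
import Groth.Agent.S6595
-- import your own Groth.Agent.* helpers here

set_option autoImplicit false
universe v u
open CategoryTheory CategoryTheory.Limits
open CohDer

namespace Groth.Agent.S6597

open ZeroObject Pretriangulated

section Aux

variable {D : Type u} [Category.{v} D] [Preadditive D] [HasZeroObject D] [HasShift D ℤ]
    [∀ n : ℤ, (shiftFunctor D n).Additive]

/-- vanishing of a Hom group can be checked after shifting source and target -/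
theorem hom_unshift_eq_zero {W V : D} (p q p' : ℤ) (h : p + q = p')
    (hz : ∀ ψ : (shiftFunctor D p').obj W ⟶ (shiftFunctor D q).obj V, ψ = 0)
    (ψ : (shiftFunctor D p).obj W ⟶ V) : ψ = 0 := by
  let e : (shiftFunctor D p').obj W ≅ (shiftFunctor D q).obj ((shiftFunctor D p).obj W) :=
    (shiftFunctorAdd' D p q p' h).app W
  have h1 : e.hom ≫ (shiftFunctor D q).map ψ = 0 := hz _
  have h2 : (shiftFunctor D q).map ψ = 0 := by
    rw [← cancel_epi e.hom, h1, comp_zero]
  apply (shiftFunctor D q).map_injective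
  rw [h2, Functor.map_zero]

theorem hom_cast_eq_zero {W V : D} (p p' : ℤ) (h : p = p')
    (hz : ∀ ψ : (shiftFunctor D p).obj W ⟶ V, ψ = 0)
    (ψ : (shiftFunctor D p').obj W ⟶ V) : ψ = 0 := by
  subst h
  exact hz ψ

end Aux

set_option backward.defeqAttrib.useBackward true in
set_option backward.isDefEq.respectTransparency false in

open CategoryTheory.Pretriangulated in
/-- Let D be a triangulated category, φ : X ⟶ X' a morphism of chain complexes in D considered in
degrees ≤ n, where a Postnikov system for the complex X_n → … → X_0 consists of objects Y_k, an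
isomorphism Y_0 ⟶ X_0, and for 0 ≤ k < n distinguished triangles Y_{k+1} ⟶ X_{k+1} ⟶ Y_k ⟶
Y_{k+1}⟦1⟧ with X_{k+1} ⟶ Y_k ⟶ X_k the differential; let (Y, a, b, c) and (Y', a', b', c') be
Postnikov systems for X and X'. If Hom(X_i⟦i⟧, Y'_n⟦n⟧) = 0 for i = 1, …, n, then two morphisms of
Postnikov systems extending φ agree on Y_n. (The published statement says there is at most one
morphism of Postnikov systems; the argument, by induction along Y_0 → Y_1⟦1⟧ → … → Y_n⟦n⟧,
determines the component in degree n, which is what is asserted here.) -/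
theorem result {D : Type u} [Category.{v} D] [Preadditive D] [HasZeroObject D] [HasShift D ℤ]
    [∀ n : ℤ, (shiftFunctor D n).Additive] [Pretriangulated D] [IsTriangulated D]
    (X X' : ChainComplex D ℕ) (φ : X ⟶ X') (n : ℕ)
    (Y : ℕ → D) (a : ∀ k, Y k ⟶ X.X k) (b : ∀ k, X.X (k + 1) ⟶ Y k)
    (c : ∀ k, Y k ⟶ (shiftFunctor D (1 : ℤ)).obj (Y (k + 1)))
    (h0 : IsIso (a 0))
    (hP : ∀ k, k < n → Triangle.mk (a (k + 1)) (b k) (c k) ∈ distinguishedTriangles ∧ b k ≫ a k = X.d (k + 1) k)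
    (qY : ℕ → D) (qa : ∀ k, qY k ⟶ X'.X k) (qb : ∀ k, X'.X (k + 1) ⟶ qY k)
    (qc : ∀ k, qY k ⟶ (shiftFunctor D (1 : ℤ)).obj (qY (k + 1)))
    (qh0 : IsIso (qa 0))
    (qhP : ∀ k, k < n → Triangle.mk (qa (k + 1)) (qb k) (qc k) ∈ distinguishedTriangles ∧ qb k ≫ qa k = X'.d (k + 1) k)
    (hv : ∀ i : ℕ, 1 ≤ i → i ≤ n → ∀ ψ : (shiftFunctor D (i : ℤ)).obj (X.X i) ⟶ (shiftFunctor D (n : ℤ)).obj (qY n), ψ = 0)
    (y z : ∀ k, Y k ⟶ qY k)
    (hy : (∀ k, k ≤ n → y k ≫ qa k = a k ≫ φ.f k) ∧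
      (∀ k, k < n → b k ≫ y k = φ.f (k + 1) ≫ qb k ∧ c k ≫ (shiftFunctor D (1 : ℤ)).map (y (k + 1)) = y k ≫ qc k))
    (hz : (∀ k, k ≤ n → z k ≫ qa k = a k ≫ φ.f k) ∧
      (∀ k, k < n → b k ≫ z k = φ.f (k + 1) ≫ qb k ∧ c k ≫ (shiftFunctor D (1 : ℤ)).map (z (k + 1)) = z k ≫ qc k)) :
    y n = z n := by
  suffices H : ∀ k, k ≤ n → ∀ (A : D) (θ : qY k ⟶ A),
      (∀ i : ℕ, 1 ≤ i → i ≤ k →
        ∀ ψ : (shiftFunctor D ((i : ℤ) - k)).obj (X.X i) ⟶ A, ψ = 0) →
      (y k - z k) ≫ θ = 0 by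
    have := H n le_rfl (qY n) (𝟙 _) (fun i h1 hi ψ =>
      hom_unshift_eq_zero ((i : ℤ) - n) n i (by omega) (hv i h1 hi) ψ)
    rw [Category.comp_id, sub_eq_zero] at this
    exact this
  intro k
  induction k with
  | zero =>
    intro _ A θ _
    have : y 0 - z 0 = 0 := by
      rw [← cancel_mono (qa 0), Preadditive.sub_comp, hy.1 0 (Nat.zero_le _),
        hz.1 0 (Nat.zero_le _), sub_self, zero_comp]
    rw [this, zero_comp]
  | succ k ih =>
    intro hk A θ H
    have hkn : k < n := by omega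
    obtain ⟨hT, -⟩ := hP k hkn
    have ih' := ih (by omega) ((shiftFunctor D (1 : ℤ)).obj A)
      (qc k ≫ (shiftFunctor D (1 : ℤ)).map θ) (fun i h1 hi ψ =>
        Groth.Agent.S6595.hom_shift_eq_zero ((i : ℤ) - (k + 1 : ℕ)) 1 _ (by push_cast; omega)
          (H i h1 (by omega)) ψ)
    have hc : c k ≫ (shiftFunctor D (1 : ℤ)).map (y (k + 1) - z (k + 1)) =
        (y k - z k) ≫ qc k := by
      rw [Functor.map_sub, Preadditive.comp_sub, (hy.2 k hkn).2, (hz.2 k hkn).2,
        Preadditive.sub_comp]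
    have h0 : c k ≫ (shiftFunctor D (1 : ℤ)).map ((y (k + 1) - z (k + 1)) ≫ θ) = 0 := by
      rw [Functor.map_comp, ← Category.assoc, hc, Category.assoc, ih']
    obtain ⟨g, hg⟩ := Triangle.yoneda_exact₃ _ (rot_of_distTriang _ hT) _ h0
    dsimp at g hg
    have hg0 : g = 0 := by
      refine Groth.Agent.S6595.hom_shift_eq_zero (W := X.X (k + 1)) (V := A) 0 1 1 (by omega)
        ?_ g
      exact hom_cast_eq_zero _ _ (by push_cast; omega) (H (k + 1) (by omega) le_rfl)
    apply (shiftFunctor D (1 : ℤ)).map_injective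
    rw [hg, hg0, comp_zero, Functor.map_zero]

end Groth.Agent.S6597
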