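import Groth.Statements.S6598
import Mathlib.Algebra.Homology.HomotopyCategory.Pretriangulated
import Mathlib.Algebra.Homology.HomologicalComplexBiprod
import Mathlib.Algebra.Homology.Embedding.CochainComplex
-- import your own Groth.Agent.* helpers here

set_option autoImplicit false
universe v u
open CategoryTheory CategoryTheory.Limits
open CohDer

namespace Groth.Agent.S6598

open CochainComplex HomologicalComplex

section Aux

variable {V : Type u} [Category.{v} V] [Preadditive V] [HasBinaryBiproducts V]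

theorem exists_iso_of_split {A B C : V}
    (i : A ⟶ B) (r : B ⟶ A) (j : C ⟶ B) (q : B ⟶ C)
    (hir : i ≫ r = 𝟙 A) (hiq : i ≫ q = 0) (hjr : j ≫ r = 0) (hjq : j ≫ q = 𝟙 C)
    (htot : r ≫ i + q ≫ j = 𝟙 B) :
    ∃ e : B ≅ A ⊞ C, i ≫ e.hom = biprod.inl := by
  refine ⟨⟨biprod.lift r q, biprod.desc i j, ?_, ?_⟩, ?_⟩
  · simp [htot]
  · ext <;> simp [hir, hiq, hjr, hjq]
  · ext <;> simp [hir, hiq]

end Aux

set_option backward.defeqAttrib.useBackward true in
set_option backward.isDefEq.respectTransparency false in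

/-- Let α : K ⟶ L be a morphism of cochain complexes over an additive category. There is a factorization
K ⟶ L' ⟶ L of α such that (1) K ⟶ L' is a termwise split injection (in each degree isomorphic to the
inclusion of a direct summand) and (2) L' ⟶ L admits a section s : L ⟶ L' (s followed by L' ⟶ L is
the identity) such that L' ⟶ L followed by s is homotopic to the identity of L'. Moreover if K and L
are both bounded below, resp. both bounded above, then L' may be chosen bounded below, resp. bounded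
above. -/
theorem result {V : Type u} [Category.{v} V] [Preadditive V] [HasBinaryBiproducts V] [HasZeroObject V]
    (K L : CochainComplex V ℤ) (α : K ⟶ L) :
    ∃ (L' : CochainComplex V ℤ) (α' : K ⟶ L') (π : L' ⟶ L) (s : L ⟶ L'),
      α' ≫ π = α ∧ s ≫ π = 𝟙 L ∧ Nonempty (Homotopy (π ≫ s) (𝟙 L')) ∧
      (∀ n : ℤ, ∃ (C : V) (e : L'.X n ≅ K.X n ⊞ C), α'.f n ≫ e.hom = biprod.inl) ∧
      (∀ a : ℤ, K.IsStrictlyGE a → L.IsStrictlyGE a → ∃ a' : ℤ, L'.IsStrictlyGE a') ∧
      (∀ a : ℤ, K.IsStrictlyLE a → L.IsStrictlyLE a → ∃ a' : ℤ, L'.IsStrictlyLE a') := by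
  let Cn := mappingCone (𝟙 K)
  let α' : K ⟶ L ⊞ Cn := biprod.lift α (mappingCone.inr (𝟙 K))
  refine ⟨L ⊞ Cn, α', biprod.fst, biprod.inl, by simp [α'], by simp, ?_, ?_, ?_, ?_⟩
  · -- homotopy
    have h₀ : Homotopy (𝟙 Cn) 0 := mappingCone.homotopyToZeroOfId K
    have H1 : Homotopy ((biprod.snd : L ⊞ Cn ⟶ Cn) ≫ 𝟙 Cn ≫ (biprod.inr : Cn ⟶ L ⊞ Cn))
        ((biprod.snd : L ⊞ Cn ⟶ Cn) ≫ 0 ≫ (biprod.inr : Cn ⟶ L ⊞ Cn)) :=
      (h₀.compRight biprod.inr).compLeft biprod.snd
    have H2 := (Homotopy.refl ((biprod.fst : L ⊞ Cn ⟶ L) ≫ biprod.inl)).add H1.symm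
    refine ⟨(Homotopy.ofEq ?_).trans (H2.trans (Homotopy.ofEq ?_))⟩
    · simp
    · simp
  · -- termwise split
    intro n
    let F := (biprod.fst : L ⊞ Cn ⟶ L).f n
    let Sn := (biprod.snd : L ⊞ Cn ⟶ Cn).f n
    let IL := (biprod.inl : L ⟶ L ⊞ Cn).f n
    let IR := (biprod.inr : Cn ⟶ L ⊞ Cn).f n
    let r : (L ⊞ Cn).X n ⟶ K.X n := Sn ≫ (mappingCone.snd (𝟙 K)).v n n (add_zero n)
    let q : (L ⊞ Cn).X n ⟶ L.X n ⊞ K.X (n + 1) :=
      biprod.lift (F - r ≫ α.f n) (Sn ≫ (mappingCone.fst (𝟙 K)).1.v n (n + 1) rfl)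
    let j : L.X n ⊞ K.X (n + 1) ⟶ (L ⊞ Cn).X n :=
      biprod.desc IL ((mappingCone.inl (𝟙 K)).v (n + 1) n (by omega) ≫ IR)
    have hα' : α'.f n = α.f n ≫ IL + (mappingCone.inr (𝟙 K)).f n ≫ IR := by
      apply biprodX_ext_to <;> simp [α', IL, IR, Cn]
    refine ⟨L.X n ⊞ K.X (n + 1), exists_iso_of_split (α'.f n) r j q ?_ ?_ ?_ ?_ ?_⟩
    · simp [α', r, Sn]
    · apply biprod.hom_ext <;> simp [α', q, r, Sn, F]
    · apply biprod.hom_ext' <;> simp [j, r, IL, IR, Sn]
    · apply biprod.hom_ext' <;> apply biprod.hom_ext <;> simp [j, q, r, IL, IR, Sn, F]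
    · rw [hα']
      simp only [q, j, r]
      rw [biprod.lift_desc]
      have hid := mappingCone.id_X (𝟙 K) n (n + 1) rfl
      have htot := biprod_total_f L Cn n
      simp only [Preadditive.sub_comp, Preadditive.comp_add, Category.assoc]
      rw [← htot]
      have : Sn ≫ IR = Sn ≫ ((mappingCone.fst (𝟙 K)).1.v n (n + 1) rfl ≫
          (mappingCone.inl (𝟙 K)).v (n + 1) n (by omega) +
          (mappingCone.snd (𝟙 K)).v n n (add_zero n) ≫ (mappingCone.inr (𝟙 K)).f n) ≫ IR := by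
        rw [hid, Category.id_comp]
      simp only [F, Sn, IL, IR] at this ⊢
      rw [this]
      simp only [Preadditive.add_comp, Preadditive.comp_add, Category.assoc]
      abel
  · -- bounded below
    intro a hK hL
    refine ⟨a - 1, ?_⟩
    rw [isStrictlyGE_iff]
    intro i hi
    refine IsZero.of_iso ?_ (biprodXIso L Cn i)
    rw [biprod_isZero_iff, mappingCone.isZero_X_iff]
    exact ⟨L.isZero_of_isStrictlyGE a i (by omega), K.isZero_of_isStrictlyGE a _ (by omega),
      K.isZero_of_isStrictlyGE a i (by omega)⟩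
  · -- bounded above
    intro a hK hL
    refine ⟨a, ?_⟩
    rw [isStrictlyLE_iff]
    intro i hi
    refine IsZero.of_iso ?_ (biprodXIso L Cn i)
    rw [biprod_isZero_iff, mappingCone.isZero_X_iff]
    exact ⟨L.isZero_of_isStrictlyLE a i (by omega), K.isZero_of_isStrictlyLE a _ (by omega),
      K.isZero_of_isStrictlyLE a i (by omega)⟩

end Groth.Agent.S6598
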