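import Groth.Statements.S6599
import Mathlib.Algebra.Homology.HomotopyCategory.MappingCocone
import Mathlib.Algebra.Homology.HomologicalComplexBiprod
import Mathlib.Algebra.Homology.Embedding.CochainComplex
-- import your own Groth.Agent.* helpers here

set_option autoImplicit false
universe v u
open CategoryTheory CategoryTheory.Limits
open CohDer

namespace Groth.Agent.S6599

open CochainComplex HomologicalComplex

section Aux

variable {V : Type u} [Category.{v} V] [Preadditive V] [HasBinaryBiproducts V]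

theorem exists_iso_of_split' {A B C : V}
    (p : B ⟶ A) (σ : A ⟶ B) (j : C ⟶ B) (q : B ⟶ C)
    (hσp : σ ≫ p = 𝟙 A) (hσq : σ ≫ q = 0) (hjp : j ≫ p = 0) (hjq : j ≫ q = 𝟙 C)
    (htot : q ≫ j + p ≫ σ = 𝟙 B) :
    ∃ e : B ≅ C ⊞ A, e.inv ≫ p = biprod.snd := by
  refine ⟨⟨biprod.lift q p, biprod.desc j σ, ?_, ?_⟩, ?_⟩
  · simp [htot]
  · ext <;> simp [hσp, hσq, hjp, hjq]
  · ext <;> simp [hσp, hjp]

end Aux

set_option backward.defeqAttrib.useBackward true in
set_option backward.isDefEq.respectTransparency false in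

/-- Let α : K ⟶ L be a morphism of cochain complexes over an additive category. There is a factorization
K ⟶ K' ⟶ L of α such that (1) K' ⟶ L is a termwise split surjection (in each degree isomorphic to
the projection onto a direct summand) and (2) K ⟶ K' admits a retraction s : K' ⟶ K (K ⟶ K' followed
by s is the identity) such that s followed by K ⟶ K' is homotopic to the identity of K'. Moreover if
K and L are both bounded below, resp. both bounded above, then K' may be chosen bounded below, resp.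
bounded above. -/
theorem result {V : Type u} [Category.{v} V] [Preadditive V] [HasBinaryBiproducts V] [HasZeroObject V]
    (K L : CochainComplex V ℤ) (α : K ⟶ L) :
    ∃ (K' : CochainComplex V ℤ) (i : K ⟶ K') (α' : K' ⟶ L) (s : K' ⟶ K),
      i ≫ α' = α ∧ i ≫ s = 𝟙 K ∧ Nonempty (Homotopy (s ≫ i) (𝟙 K')) ∧
      (∀ n : ℤ, ∃ (C : V) (e : K'.X n ≅ C ⊞ L.X n), e.inv ≫ α'.f n = biprod.snd) ∧
      (∀ a : ℤ, K.IsStrictlyGE a → L.IsStrictlyGE a → ∃ a' : ℤ, K'.IsStrictlyGE a') ∧
      (∀ a : ℤ, K.IsStrictlyLE a → L.IsStrictlyLE a → ∃ a' : ℤ, K'.IsStrictlyLE a') := by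
  let Co := mappingCocone (𝟙 L)
  let α' : K ⊞ Co ⟶ L := biprod.desc α (mappingCocone.fst (𝟙 L))
  refine ⟨K ⊞ Co, biprod.inl, α', biprod.fst, by simp [α'], by simp, ?_, ?_, ?_, ?_⟩
  · -- homotopy
    have h₀ : Homotopy (𝟙 Co) 0 := by
      have h := (mappingCone.homotopyToZeroOfId L).shift (-1)
      refine (Homotopy.ofEq ?_).trans (h.trans (Homotopy.ofEq ?_))
      · exact (CategoryTheory.Functor.map_id _ _).symm
      · exact CategoryTheory.Functor.map_zero _ _ _
    have H1 : Homotopy ((biprod.snd : K ⊞ Co ⟶ Co) ≫ 𝟙 Co ≫ (biprod.inr : Co ⟶ K ⊞ Co))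
        ((biprod.snd : K ⊞ Co ⟶ Co) ≫ 0 ≫ (biprod.inr : Co ⟶ K ⊞ Co)) :=
      (h₀.compRight biprod.inr).compLeft biprod.snd
    have H2 := (Homotopy.refl ((biprod.fst : K ⊞ Co ⟶ K) ≫ biprod.inl)).add H1.symm
    refine ⟨(Homotopy.ofEq ?_).trans (H2.trans (Homotopy.ofEq ?_))⟩
    · simp
    · simp
  · -- termwise split
    intro n
    let F := (biprod.fst : K ⊞ Co ⟶ K).f n
    let Sn := (biprod.snd : K ⊞ Co ⟶ Co).f n
    let IL := (biprod.inl : K ⟶ K ⊞ Co).f n
    let IR := (biprod.inr : Co ⟶ K ⊞ Co).f n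
    let σ : L.X n ⟶ (K ⊞ Co).X n := (mappingCocone.inl (𝟙 L)).v n n (add_zero n) ≫ IR
    let q : (K ⊞ Co).X n ⟶ K.X n ⊞ L.X (n - 1) :=
      biprod.lift F (Sn ≫ (mappingCocone.snd (𝟙 L)).v n (n - 1) (by omega))
    let j : K.X n ⊞ L.X (n - 1) ⟶ (K ⊞ Co).X n :=
      biprod.desc (IL - α.f n ≫ σ) ((mappingCocone.inr (𝟙 L)).1.v (n - 1) n (by omega) ≫ IR)
    have hα' : α'.f n = F ≫ α.f n + Sn ≫ (mappingCocone.fst (𝟙 L)).f n := by
      apply biprodX_ext_from <;> simp [α', F, Sn, Co]
    refine ⟨K.X n ⊞ L.X (n - 1), exists_iso_of_split' (α'.f n) σ j q ?_ ?_ ?_ ?_ ?_⟩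
    · simp [α', σ, IR]
    · apply biprod.hom_ext <;> simp [q, σ, IR, F, Sn]
    · apply biprod.hom_ext' <;> simp [α', j, σ, IL, IR]
    · apply biprod.hom_ext' <;> apply biprod.hom_ext <;> simp [j, q, σ, IL, IR, Sn, F]
    · rw [hα']
      simp only [q, j, σ]
      rw [biprod.lift_desc]
      have hid := mappingCocone.id_X (𝟙 L) n (n - 1) (by omega)
      have htot := biprod_total_f K Co n
      simp only [Preadditive.comp_sub, Preadditive.add_comp, Category.assoc]
      rw [← htot]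
      have : Sn ≫ IR = Sn ≫ ((mappingCocone.fst (𝟙 L)).f n ≫
          (mappingCocone.inl (𝟙 L)).v n n (add_zero n) +
          (mappingCocone.snd (𝟙 L)).v n (n - 1) (by omega) ≫
            (mappingCocone.inr (𝟙 L)).1.v (n - 1) n (by omega)) ≫ IR := by
        rw [hid, Category.id_comp]
      simp only [F, Sn, IL, IR] at this ⊢
      rw [this]
      simp only [Preadditive.add_comp, Preadditive.comp_add, Category.assoc]
      abel
  · -- bounded below
    intro a hK hL
    refine ⟨a, ?_⟩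
    rw [isStrictlyGE_iff]
    intro i hi
    refine IsZero.of_iso ?_ (biprodXIso K Co i)
    rw [biprod_isZero_iff]
    refine ⟨K.isZero_of_isStrictlyGE a i (by omega), ?_⟩
    change IsZero ((mappingCone (𝟙 L)).X (i + -1))
    rw [mappingCone.isZero_X_iff]
    exact ⟨L.isZero_of_isStrictlyGE a _ (by omega), L.isZero_of_isStrictlyGE a _ (by omega)⟩
  · -- bounded above
    intro a hK hL
    refine ⟨a + 1, ?_⟩
    rw [isStrictlyLE_iff]
    intro i hi
    refine IsZero.of_iso ?_ (biprodXIso K Co i)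
    rw [biprod_isZero_iff]
    refine ⟨K.isZero_of_isStrictlyLE a i (by omega), ?_⟩
    change IsZero ((mappingCone (𝟙 L)).X (i + -1))
    rw [mappingCone.isZero_X_iff]
    exact ⟨L.isZero_of_isStrictlyLE a _ (by omega), L.isZero_of_isStrictlyLE a _ (by omega)⟩

end Groth.Agent.S6599
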