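import Groth.Statements.S6600
-- import your own Groth.Agent.* helpers here

set_option autoImplicit false
universe v u
open CategoryTheory CategoryTheory.Limits
open CohDer

namespace Groth.Agent.S6600

open ZeroObject Pretriangulated

set_option backward.defeqAttrib.useBackward true in
set_option backward.isDefEq.respectTransparency false in

open CategoryTheory.Pretriangulated in
/-- Let D be a triangulated category, A ⊂ D a full subcategory invariant under all shifts, and X → Y → Z
→ X⟦1⟧ a distinguished triangle. Then Z lies in the right orthogonal A^⊥ if and only if Hom(A, X) →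
Hom(A, Y) is bijective for every object A of A. -/
theorem result {D : Type u} [Category.{v} D] [Preadditive D] [HasZeroObject D] [HasShift D ℤ]
    [∀ n : ℤ, (shiftFunctor D n).Additive] [Pretriangulated D] [IsTriangulated D]
    (P : ObjectProperty D) [P.IsStableUnderShift ℤ] (T : Triangle D) (hT : T ∈ distinguishedTriangles) :
    P.rightOrthogonal T.obj₃ ↔ ∀ A : D, P A → Function.Bijective (fun u : A ⟶ T.obj₁ => u ≫ T.mor₁) := by
  constructor
  · intro hZ A hA
    constructor
    · -- injective
      suffices ∀ u : A ⟶ T.obj₁, u ≫ T.mor₁ = 0 → u = 0 by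
        intro u₁ u₂ h
        have := this (u₁ - u₂) (by simpa [sub_eq_zero] using h)
        simpa [sub_eq_zero] using this
      intro u hu
      apply (shiftFunctor D (1 : ℤ)).map_injective
      rw [Functor.map_zero]
      obtain ⟨g, hg⟩ := Triangle.coyoneda_exact₁ T hT ((shiftFunctor D (1 : ℤ)).map u)
        (by rw [← Functor.map_comp, hu, Functor.map_zero])
      rw [hg, hZ g (P.le_shift (1 : ℤ) _ hA), zero_comp]
    · -- surjective
      intro v
      obtain ⟨u, hu⟩ := Triangle.coyoneda_exact₂ T hT v (hZ _ hA)
      exact ⟨u, hu.symm⟩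
  · intro h A u hA
    -- first `u ≫ T.mor₃ = 0`
    have h₁ : u ≫ T.mor₃ = 0 := by
      have hA' : P ((shiftFunctor D (-1 : ℤ)).obj A) := P.le_shift (-1 : ℤ) _ hA
      let e : (shiftFunctor D (1 : ℤ)).obj ((shiftFunctor D (-1 : ℤ)).obj A) ≅ A :=
        (shiftEquiv D (1 : ℤ)).counitIso.app A
      rw [← cancel_epi e.hom, comp_zero]
      obtain ⟨w', hw'⟩ := (shiftFunctor D (1 : ℤ)).map_surjective (e.hom ≫ u ≫ T.mor₃)
      rw [← hw']
      have : w' = 0 := by
        apply (h _ hA').1
        dsimp only
        rw [zero_comp]
        apply (shiftFunctor D (1 : ℤ)).map_injective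
        rw [Functor.map_comp, hw', Functor.map_zero, Category.assoc, Category.assoc,
          comp_distTriang_mor_zero₃₁ _ hT, comp_zero, comp_zero]
      rw [this, Functor.map_zero]
    obtain ⟨v, hv⟩ := Triangle.coyoneda_exact₃ T hT u h₁
    obtain ⟨w, hw⟩ := (h _ hA).2 v
    dsimp only at hw
    rw [hv, ← hw, Category.assoc, comp_distTriang_mor_zero₁₂ _ hT, comp_zero]

end Groth.Agent.S6600
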