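import Groth.Statements.S6601
import Mathlib.CategoryTheory.Triangulated.Orthogonal
-- import your own Groth.Agent.* helpers here

set_option autoImplicit false
universe v u
open CategoryTheory CategoryTheory.Limits
open CohDer

namespace Groth.Agent.S6601

open ZeroObject Pretriangulated

set_option backward.defeqAttrib.useBackward true in
set_option backward.isDefEq.respectTransparency false in

open CategoryTheory.Pretriangulated in
/-- Let D be a triangulated category, B ⊂ D a full subcategory invariant under all shifts, and X → Y → Z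
→ X⟦1⟧ a distinguished triangle. Then X lies in the left orthogonal ^⊥B if and only if Hom(Z, B) →
Hom(Y, B) is bijective for every object B of B. -/
theorem result {D : Type u} [Category.{v} D] [Preadditive D] [HasZeroObject D] [HasShift D ℤ]
    [∀ n : ℤ, (shiftFunctor D n).Additive] [Pretriangulated D] [IsTriangulated D]
    (P : ObjectProperty D) [P.IsStableUnderShift ℤ] (T : Triangle D) (hT : T ∈ distinguishedTriangles) :
    P.leftOrthogonal T.obj₁ ↔ ∀ B : D, P B → Function.Bijective (fun u : T.obj₃ ⟶ B => T.mor₂ ≫ u) := by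
  constructor
  · intro hX B hB
    constructor
    · -- injective
      suffices ∀ u : T.obj₃ ⟶ B, T.mor₂ ≫ u = 0 → u = 0 by
        intro u₁ u₂ h
        have := this (u₁ - u₂) (by simpa [sub_eq_zero] using h)
        simpa [sub_eq_zero] using this
      intro u hu
      obtain ⟨w, hw⟩ := Triangle.yoneda_exact₃ T hT u hu
      have hX' : P.leftOrthogonal ((shiftFunctor D (1 : ℤ)).obj T.obj₁) :=
        P.leftOrthogonal.le_shift (1 : ℤ) _ hX
      rw [hw, hX' w hB, comp_zero]
    · -- surjective
      intro v
      obtain ⟨u, hu⟩ := Triangle.yoneda_exact₂ T hT v (hX _ hB)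
      exact ⟨u, hu.symm⟩
  · intro h B u hB
    have hB' : P ((shiftFunctor D (1 : ℤ)).obj B) := P.le_shift (1 : ℤ) _ hB
    -- first `T.mor₃ ≫ u⟦1⟧ = 0`
    have h₁ : T.mor₃ ≫ (shiftFunctor D (1 : ℤ)).map u = 0 := by
      apply (h _ hB').1
      dsimp only
      rw [comp_zero, ← Category.assoc, comp_distTriang_mor_zero₂₃ _ hT, zero_comp]
    obtain ⟨ψ, hψ⟩ := Triangle.yoneda_exact₃ _ (rot_of_distTriang _ hT)
      ((shiftFunctor D (1 : ℤ)).map u) h₁
    dsimp at ψ hψ
    obtain ⟨ψ', rfl⟩ := (shiftFunctor D (1 : ℤ)).map_surjective ψ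
    have hu : u = T.mor₁ ≫ (-ψ') := by
      apply (shiftFunctor D (1 : ℤ)).map_injective
      rw [hψ, Functor.map_comp, Functor.map_neg]
      simp
    obtain ⟨w, hw⟩ := (h _ hB).2 (-ψ')
    dsimp only at hw
    rw [hu, ← hw, ← Category.assoc, comp_distTriang_mor_zero₁₂ _ hT, zero_comp]

end Groth.Agent.S6601
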