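import Groth.Statements.S6602
import Groth.Agent.S6601
import Mathlib.CategoryTheory.Adjunction.Comma
-- import your own Groth.Agent.* helpers here

set_option autoImplicit false
universe v u
open CategoryTheory CategoryTheory.Limits
open CohDer

namespace Groth.Agent.S6602

open ZeroObject Pretriangulated

set_option backward.defeqAttrib.useBackward true in
set_option backward.isDefEq.respectTransparency false in

open CategoryTheory.Pretriangulated in
/-- (1) ⇔ (2): let D be a triangulated category and B a full triangulated subcategory. The inclusion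
functor B → D has a left adjoint if and only if for every X in D there is a distinguished triangle A
→ X → B → A⟦1⟧ with B in B and A in the left orthogonal ^⊥B. (The published statement further
asserts that B is then saturated and, when strictly full, equals the right orthogonal of its left
orthogonal; this row asserts only the equivalence.) -/
theorem result {D : Type u} [Category.{v} D] [Preadditive D] [HasZeroObject D] [HasShift D ℤ]
    [∀ n : ℤ, (shiftFunctor D n).Additive] [Pretriangulated D] [IsTriangulated D]
    (P : ObjectProperty D) [P.IsTriangulated] :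
    P.ι.IsRightAdjoint ↔ ∀ X : D, ∃ (A B : D) (f : A ⟶ X) (g : X ⟶ B) (h : B ⟶ (shiftFunctor D (1 : ℤ)).obj A),
      Triangle.mk f g h ∈ distinguishedTriangles ∧ P B ∧ P.leftOrthogonal A := by
  constructor
  · intro hadj X
    let L := P.ι.leftAdjoint
    let adj : L ⊣ P.ι := Adjunction.ofIsRightAdjoint P.ι
    let η : X ⟶ (L.obj X).obj := adj.unit.app X
    obtain ⟨A, f, h, hT⟩ := distinguished_cocone_triangle₁ η
    refine ⟨A, (L.obj X).obj, f, η, h, hT, (L.obj X).property, ?_⟩
    refine (Groth.Agent.S6601.result P (Triangle.mk f η h) hT).2 ?_
    intro B' hB'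
    have key : ∀ φ : L.obj X ⟶ ⟨B', hB'⟩, η ≫ φ.hom = adj.homEquiv X ⟨B', hB'⟩ φ := by
      intro φ
      rw [Adjunction.homEquiv_unit]
      rfl
    constructor
    · intro u₁ u₂ hu
      dsimp only [Triangle.mk] at hu
      have h₁ := key (ObjectProperty.homMk u₁)
      have h₂ := key (ObjectProperty.homMk u₂)
      dsimp only [ObjectProperty.homMk_hom] at h₁ h₂
      have : ObjectProperty.homMk (P := P) (X := L.obj X) (Y := ⟨B', hB'⟩) u₁ =
          ObjectProperty.homMk u₂ :=
        (adj.homEquiv X ⟨B', hB'⟩).injective (by rw [← h₁, ← h₂, hu])
      exact congrArg (fun φ => φ.hom) this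
    · intro v
      refine ⟨((adj.homEquiv X ⟨B', hB'⟩).symm v).hom, ?_⟩
      dsimp only [Triangle.mk]
      rw [key, Equiv.apply_symm_apply]
  · intro hdec
    have : ∀ X : D, HasInitial (StructuredArrow X P.ι) := by
      intro X
      obtain ⟨A, B, f, g, h, hT, hB, hA⟩ := hdec X
      have hbij := (Groth.Agent.S6601.result P (Triangle.mk f g h) hT).1 hA
      dsimp only [Triangle.mk] at hbij
      let B₀ : P.FullSubcategory := ⟨B, hB⟩
      let I : StructuredArrow X P.ι := StructuredArrow.mk (Y := B₀) (show X ⟶ P.ι.obj B₀ from g)
      have hex : ∀ Y' : StructuredArrow X P.ι, ∃ u : B ⟶ Y'.right.obj, g ≫ u = Y'.hom :=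
        fun Y' => (hbij _ Y'.right.property).2 Y'.hom
      choose u hu using hex
      have hI : IsInitial I := by
        refine IsInitial.ofUniqueHom
          (fun Y' => StructuredArrow.homMk (ObjectProperty.homMk (u Y')) (hu Y'))
          (fun Y' m => ?_)
        apply StructuredArrow.ext
        apply ObjectProperty.hom_ext
        apply (hbij _ Y'.right.property).1
        have hm : g ≫ m.right.hom = Y'.hom := StructuredArrow.w m
        change g ≫ m.right.hom = g ≫ u Y'
        rw [hm, hu]
      exact hI.hasInitial
    exact isRightAdjointOfStructuredArrowInitials P.ι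

end Groth.Agent.S6602
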