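import Groth.Statements.S6603
import Groth.Agent.S6608
import Mathlib.CategoryTheory.Localization.CalculusOfFractions.Preadditive
-- import your own Groth.Agent.* helpers here

set_option autoImplicit false
universe v u v' u'
open CategoryTheory CategoryTheory.Limits
open CohDer

namespace Groth.Agent.S6603

open ZeroObject Pretriangulated

set_option backward.defeqAttrib.useBackward true in
set_option backward.isDefEq.respectTransparency false in

open CategoryTheory.Pretriangulated in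
/-- (1) ⇔ (2) ⇔ (3) ⇔ (4): let D be a pretriangulated category, S a multiplicative system compatible
with the triangulated structure, and Q : D → S⁻¹D the localization functor. For an object Z of D the
following are equivalent: (1) Q(Z) = 0; (2) 0 : Z ⟶ Z' is in S for some Z'; (3) 0 : Z' ⟶ Z is in S
for some Z'; (4) there are an object Z' and a distinguished triangle (X, Y, Z ⊞ Z', f, g, h) with f
∈ S. (The further equivalences (5)–(7) for saturated S are not asserted.) -/
theorem result {D : Type u} [Category.{v} D] [Preadditive D] [HasZeroObject D] [HasShift D ℤ]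
    [∀ n : ℤ, (shiftFunctor D n).Additive] [Pretriangulated D]
    (S : MorphismProperty D) [S.HasLeftCalculusOfFractions] [S.HasRightCalculusOfFractions]
    [S.IsCompatibleWithTriangulation]
    {E : Type u'} [Category.{v'} E] (Q : D ⥤ E) [Q.IsLocalization S] (Z : D) :
    (IsZero (Q.obj Z) ↔ ∃ Z' : D, S (0 : Z ⟶ Z')) ∧
    (IsZero (Q.obj Z) ↔ ∃ Z' : D, S (0 : Z' ⟶ Z)) ∧
    (IsZero (Q.obj Z) ↔ ∃ (Z' X Y : D) (f : X ⟶ Y) (g : Y ⟶ Z ⊞ Z') (h : Z ⊞ Z' ⟶ (shiftFunctor D (1 : ℤ)).obj X),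
      Triangle.mk f g h ∈ distinguishedTriangles ∧ S f) := by
  let _ : Preadditive E := Localization.preadditive Q S
  have : Q.Additive := Localization.functor_additive Q S
  -- a zero morphism which becomes invertible has zero source and target
  have hsrc : ∀ {A A' : D}, S (0 : A ⟶ A') → IsZero (Q.obj A) := by
    intro A A' h0
    have := Localization.inverts Q S _ h0
    have hq : Q.map (0 : A ⟶ A') = 0 := Functor.map_zero _ _ _
    rw [IsZero.iff_id_eq_zero]
    calc 𝟙 (Q.obj A) = Q.map (0 : A ⟶ A') ≫ inv (Q.map (0 : A ⟶ A')) := (IsIso.hom_inv_id _).symm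
      _ = 0 ≫ inv (Q.map (0 : A ⟶ A')) := congrArg (· ≫ inv (Q.map (0 : A ⟶ A'))) hq
      _ = 0 := zero_comp
  have htgt : ∀ {A A' : D}, S (0 : A' ⟶ A) → IsZero (Q.obj A) := by
    intro A A' h0
    have := Localization.inverts Q S _ h0
    have hq : Q.map (0 : A' ⟶ A) = 0 := Functor.map_zero _ _ _
    rw [IsZero.iff_id_eq_zero]
    calc 𝟙 (Q.obj A) = inv (Q.map (0 : A' ⟶ A)) ≫ Q.map (0 : A' ⟶ A) := (IsIso.inv_hom_id _).symm
      _ = inv (Q.map (0 : A' ⟶ A)) ≫ 0 := congrArg (inv (Q.map (0 : A' ⟶ A)) ≫ ·) hq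
      _ = 0 := comp_zero
  have h2 : IsZero (Q.obj Z) → ∃ Z' : D, S (0 : Z' ⟶ Z) := by
    intro hZ
    have h1 : Q.map (𝟙 Z) = Q.map (0 : Z ⟶ Z) := hZ.eq_of_src _ _
    obtain ⟨Z'', s, hs, hfac⟩ := (MorphismProperty.map_eq_iff_precomp Q S _ _).1 h1
    have hs0 : s = 0 := by simpa using hfac
    exact ⟨Z'', hs0 ▸ hs⟩
  refine ⟨⟨?_, fun ⟨Z', h⟩ => hsrc h⟩, ⟨h2, fun ⟨Z', h⟩ => htgt h⟩, ⟨?_, ?_⟩⟩
  · intro hZ
    have h1 : Q.map (𝟙 Z) = Q.map (0 : Z ⟶ Z) := hZ.eq_of_src _ _
    obtain ⟨Z'', s, hs, hfac⟩ := (MorphismProperty.map_eq_iff_postcomp Q S _ _).1 h1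
    have hs0 : s = 0 := by simpa using hfac
    exact ⟨Z'', hs0 ▸ hs⟩
  · intro hZ
    obtain ⟨Z'', h0⟩ := h2 hZ
    let Z' := (shiftFunctor D (1 : ℤ)).obj Z''
    have hT := inv_rot_of_distTriang _ (binaryBiproductTriangle_distinguished Z Z')
    have hf : (binaryBiproductTriangle Z Z').invRotate.mor₁ =
        ((shiftEquiv D (1 : ℤ)).unitIso.app Z'').inv ≫ (0 : Z'' ⟶ Z) := by
      simp [Triangle.invRotate]
    have hS : S (binaryBiproductTriangle Z Z').invRotate.mor₁ := by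
      rw [hf]
      exact S.comp_mem _ _ (Groth.Agent.S6608.result S _) h0
    exact ⟨Z', _, _, _, _, _, hT, hS⟩
  · rintro ⟨Z', X, Y, f, g, h, hT, hf⟩
    obtain ⟨c, hc, -, -⟩ := MorphismProperty.compatible_with_triangulation (W := S) _ _ hT
      (contractible_distinguished Y) f (𝟙 Y) hf (S.id_mem _) (by simp)
    dsimp at c hc
    have hc0 : c = 0 := (isZero_zero D).eq_of_tgt _ _
    have hZZ : IsZero (Q.obj (Z ⊞ Z')) := hsrc (hc0 ▸ hc)
    rw [IsZero.iff_id_eq_zero]
    have : 𝟙 (Q.obj Z) = Q.map (biprod.inl : Z ⟶ Z ⊞ Z') ≫ Q.map biprod.fst := by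
      rw [← Q.map_comp]; simp
    rw [this, hZZ.eq_of_tgt (Q.map (biprod.inl : Z ⟶ Z ⊞ Z')) 0, zero_comp]

end Groth.Agent.S6603
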