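import Groth.Statements.S6607
import Mathlib.CategoryTheory.Triangulated.Orthogonal
import Mathlib.CategoryTheory.Triangulated.Subcategory
-- import your own Groth.Agent.* helpers here

set_option autoImplicit false
universe v u
open CategoryTheory CategoryTheory.Limits
open CohDer

namespace Groth.Agent.S6607

open ZeroObject Pretriangulated ObjectProperty

section Aux

variable {D : Type u} [Category.{v} D] [Preadditive D] [HasZeroObject D] [HasShift D ℤ]
    [∀ n : ℤ, (shiftFunctor D n).Additive] [Pretriangulated D]

set_option backward.defeqAttrib.useBackward true in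
set_option backward.isDefEq.respectTransparency false in
/-- An extension of an object of `⊥B` by an object of `B` (in the wrong order) splits. -/
theorem swap_le (B : ObjectProperty D) [B.IsStableUnderShift ℤ] :
    extensionProduct B B.leftOrthogonal ≤ extensionProduct B.leftOrthogonal B := by
  intro X ⟨Y, Z, f, g, h, hT, hY, hZ⟩
  have h0 : h = 0 := hZ h (B.le_shift (1 : ℤ) _ hY)
  obtain ⟨e, -, -⟩ := exists_iso_binaryBiproduct_of_distTriang _ hT h0
  dsimp at e
  have hE : extensionProduct B.leftOrthogonal B (Z ⊞ Y) :=
    ⟨Z, Y, _, _, _, binaryBiproductTriangle_distinguished Z Y, hZ, hY⟩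
  exact (extensionProduct B.leftOrthogonal B).prop_of_iso
    ((biprod.braiding Z Y).trans e.symm) hE

theorem ext_le [IsTriangulated D] (B : ObjectProperty D) [B.IsTriangulated] :
    extensionProduct (extensionProduct B.leftOrthogonal B) (extensionProduct B.leftOrthogonal B) ≤
      extensionProduct B.leftOrthogonal B := by
  have hBB : extensionProduct B B ≤ B.isoClosure :=
    extensionProduct_le_of_isTriangulatedClosed₂' le_rfl le_rfl
  have hAA : extensionProduct B.leftOrthogonal B.leftOrthogonal ≤ B.leftOrthogonal :=
    extensionProduct_le_of_isTriangulatedClosed₂ le_rfl le_rfl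
  calc extensionProduct (extensionProduct B.leftOrthogonal B) (extensionProduct B.leftOrthogonal B)
      = extensionProduct B.leftOrthogonal
          (extensionProduct (extensionProduct B B.leftOrthogonal) B) := by
        rw [extensionProduct_assoc, extensionProduct_assoc B B.leftOrthogonal B]
    _ ≤ extensionProduct B.leftOrthogonal
          (extensionProduct (extensionProduct B.leftOrthogonal B) B) :=
        monotone_extensionProduct_right _ (monotone_extensionProduct_left _ (swap_le B))
    _ = extensionProduct B.leftOrthogonal
          (extensionProduct B.leftOrthogonal (extensionProduct B B)) := by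
        rw [extensionProduct_assoc B.leftOrthogonal B B]
    _ ≤ extensionProduct B.leftOrthogonal
          (extensionProduct B.leftOrthogonal B.isoClosure) :=
        monotone_extensionProduct_right _ (monotone_extensionProduct_right _ hBB)
    _ = extensionProduct B.leftOrthogonal (extensionProduct B.leftOrthogonal B) := by
        rw [extensionProduct_isoClosure_right]
    _ = extensionProduct (extensionProduct B.leftOrthogonal B.leftOrthogonal) B := by
        rw [extensionProduct_assoc]
    _ ≤ extensionProduct B.leftOrthogonal B := monotone_extensionProduct_left _ hAA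

theorem isTriangulated_ext [IsTriangulated D] (B : ObjectProperty D) [B.IsTriangulated] :
    (extensionProduct B.leftOrthogonal B).IsTriangulated where
  exists_zero := by
    obtain ⟨Z, hZ, hB⟩ := B.exists_prop_of_containsZero
    exact ⟨Z, hZ, le_extensionProduct_right _ _ hB⟩
  ext₂' T hT h₁ h₃ := by
    apply ObjectProperty.le_isoClosure
    exact ext_le B _ ⟨_, _, _, _, _, hT, h₁, h₃⟩

end Aux


open CategoryTheory.Pretriangulated in
/-- Let D be a triangulated category and B a full triangulated subcategory. Let P(X) be the property:
there is a distinguished triangle A → X → B → A⟦1⟧ with B in B and A in ^⊥B. Then P satisfies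
two-out-of-three in distinguished triangles, i.e. it is stable under all shifts and closed under
extensions (a triangulated object property). -/
theorem result {D : Type u} [Category.{v} D] [Preadditive D] [HasZeroObject D] [HasShift D ℤ]
    [∀ n : ℤ, (shiftFunctor D n).Additive] [Pretriangulated D] [IsTriangulated D]
    (B : ObjectProperty D) [B.IsTriangulated] :
    ObjectProperty.IsTriangulated (fun X : D => ∃ (A Y : D) (f : A ⟶ X) (g : X ⟶ Y) (h : Y ⟶ (shiftFunctor D (1 : ℤ)).obj A),
      Triangle.mk f g h ∈ distinguishedTriangles ∧ B Y ∧ B.leftOrthogonal A) := by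
  have : (fun X : D => ∃ (A Y : D) (f : A ⟶ X) (g : X ⟶ Y)
      (h : Y ⟶ (shiftFunctor D (1 : ℤ)).obj A),
      Triangle.mk f g h ∈ distinguishedTriangles ∧ B Y ∧ B.leftOrthogonal A) =
      extensionProduct B.leftOrthogonal B := by
    funext X
    apply propext
    constructor
    · rintro ⟨A, Y, f, g, h, hT, hY, hA⟩
      exact ⟨A, Y, f, g, h, hT, hA, hY⟩
    · rintro ⟨A, Y, f, g, h, hT, hA, hY⟩
      exact ⟨A, Y, f, g, h, hT, hY, hA⟩
  rw [this]
  exact isTriangulated_ext B

end Groth.Agent.S6607
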