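import Groth.Statements.S6610
import Groth.Agent.Lib.Helper6.CochainDual
import Groth.Agent.Lib.Helper6.InjRes

set_option autoImplicit false
universe v u
open CategoryTheory CategoryTheory.Limits
open CohDer

namespace Groth.Agent.S6610

open Lib.Helper6.CochainDual in
lemma comm_aux {A : Type u} [Category.{v} A] [Abelian A] {K L : CochainComplex A ℤ} (f : K ⟶ L)
    {M N : CochainComplex Aᵒᵖ ℤ} (a : dual K ⟶ M) (b : dual L ⟶ N) (g : N ⟶ M)
    (h : dualMap f ≫ a = b ≫ g) :
    (undualMap a ≫ (undualDualIso K).hom) ≫ f =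
      undualMap g ≫ undualMap b ≫ (undualDualIso L).hom := by
  rw [Category.assoc, ← undualDualIso_hom_naturality f, ← Category.assoc, ← Category.assoc,
    ← undualMap_comp, ← undualMap_comp, h]

open Lib.Helper6.CochainDual in
lemma qi_aux {A : Type u} [Category.{v} A] [Abelian A] {K : CochainComplex A ℤ}
    {M : CochainComplex Aᵒᵖ ℤ} (a : dual K ⟶ M) (h : QuasiIso a) :
    QuasiIso (undualMap a ≫ (undualDualIso K).hom) := by
  have : QuasiIso (undualMap a) := (quasiIso_undualMap_iff _).mpr h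
  infer_instance

/-- Let A be an abelian category with enough projectives and S : 0 → A• → B• → C• → 0 a short exact
sequence of cochain complexes all vanishing above degree n. Then there are a short exact sequence T
: 0 → P₁ → P₂ → P₃ → 0 of complexes of projective objects vanishing above degree n and a morphism of
short exact sequences T ⟶ S whose three components are quasi-isomorphisms (projective resolutions).
(The published statement is phrased for bounded below complexes; projective resolutions are bounded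
above by definition and exist only for complexes with cohomology bounded above, so the statement is
given here for bounded above complexes, the case dual to the injective one.) -/
theorem result {A : Type u} [Category.{v} A] [Abelian A] [EnoughProjectives A]
    (S : ShortComplex (CochainComplex A ℤ)) (hS : S.ShortExact) (n : ℤ)
    [S.X₁.IsStrictlyLE n] [S.X₂.IsStrictlyLE n] [S.X₃.IsStrictlyLE n] :
    ∃ (T : ShortComplex (CochainComplex A ℤ)) (φ : T ⟶ S), T.ShortExact ∧
      T.X₁.IsStrictlyLE n ∧ T.X₂.IsStrictlyLE n ∧ T.X₃.IsStrictlyLE n ∧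
      (∀ k : ℤ, Projective (T.X₁.X k) ∧ Projective (T.X₂.X k) ∧ Projective (T.X₃.X k)) ∧
      QuasiIso φ.τ₁ ∧ QuasiIso φ.τ₂ ∧ QuasiIso φ.τ₃ := by
  have h1 : (Lib.Helper6.CochainDual.dual S.X₁).IsStrictlyGE (-n) :=
    Lib.Helper6.CochainDual.isStrictlyGE_dual S.X₁ n
  have h2 : (Lib.Helper6.CochainDual.dual S.X₂).IsStrictlyGE (-n) :=
    Lib.Helper6.CochainDual.isStrictlyGE_dual S.X₂ n
  have h3 : (Lib.Helper6.CochainDual.dual S.X₃).IsStrictlyGE (-n) :=
    Lib.Helper6.CochainDual.isStrictlyGE_dual S.X₃ n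
  obtain ⟨T', φ', hT', hT1, hT2, hT3, hinj, q1, q2, q3⟩ :=
    @Lib.Helper6.InjRes.horseshoe Aᵒᵖ _ _ _ (Lib.Helper6.CochainDual.dualSC S)
      (Lib.Helper6.CochainDual.shortExact_dualSC S hS) (-n) h3 h2 h1
  refine ⟨Lib.Helper6.CochainDual.undualSC T',
    { τ₁ := Lib.Helper6.CochainDual.undualMap φ'.τ₃ ≫
        (Lib.Helper6.CochainDual.undualDualIso S.X₁).hom
      τ₂ := Lib.Helper6.CochainDual.undualMap φ'.τ₂ ≫
        (Lib.Helper6.CochainDual.undualDualIso S.X₂).hom
      τ₃ := Lib.Helper6.CochainDual.undualMap φ'.τ₁ ≫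
        (Lib.Helper6.CochainDual.undualDualIso S.X₃).hom
      comm₁₂ := ?_
      comm₂₃ := ?_ }, Lib.Helper6.CochainDual.shortExact_undualSC T' hT', ?_, ?_, ?_, ?_, ?_, ?_, ?_⟩
  · exact comm_aux S.f φ'.τ₃ φ'.τ₂ T'.g φ'.comm₂₃.symm
  · exact comm_aux S.g φ'.τ₂ φ'.τ₁ T'.f φ'.comm₁₂.symm
  · exact Lib.Helper6.CochainDual.isStrictlyLE_undual T'.X₃ (-n) n (neg_neg n)
  · exact Lib.Helper6.CochainDual.isStrictlyLE_undual T'.X₂ (-n) n (neg_neg n)
  · exact Lib.Helper6.CochainDual.isStrictlyLE_undual T'.X₁ (-n) n (neg_neg n)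
  · intro k
    obtain ⟨i1, i2, i3⟩ := hinj (-k)
    exact ⟨inferInstanceAs (Projective (Opposite.unop (T'.X₃.X (-k)))),
      inferInstanceAs (Projective (Opposite.unop (T'.X₂.X (-k)))),
      inferInstanceAs (Projective (Opposite.unop (T'.X₁.X (-k))))⟩
  · exact qi_aux φ'.τ₃ q3
  · exact qi_aux φ'.τ₂ q2
  · exact qi_aux φ'.τ₁ q1

end Groth.Agent.S6610
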