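import Groth.Statements.S6611
import Mathlib
-- import your own Groth.Agent.* helpers here

set_option autoImplicit false
universe v u
open CategoryTheory CategoryTheory.Limits
open CohDer

namespace Groth.Agent.S6611

/-- Let A be an abelian category, α : K ⟶ L a quasi-isomorphism of cochain complexes which is injective
in every degree, I a bounded below complex of injective objects and γ : K ⟶ I a morphism. Then there
is a morphism β : L ⟶ I with α ≫ β = γ. -/
theorem result {A : Type u} [Category.{v} A] [Abelian A]
    (K L I : CochainComplex A ℤ) (α : K ⟶ L) [QuasiIso α] (hα : ∀ n : ℤ, Mono (α.f n))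
    (a : ℤ) [I.IsStrictlyGE a] (hI : ∀ n : ℤ, Injective (I.X n)) (γ : K ⟶ I) :
    ∃ β : L ⟶ I, α ≫ β = γ := by
  classical
  let _ := Limits.HasZeroObject.zero' (CochainComplex A ℤ)
  have : ∀ n, Injective (I.X n) := hI
  have : ∀ n, Mono (α.f n) := hα
  have : Mono α := HomologicalComplex.mono_of_mono_f _ inferInstance
  have : I.IsKInjective := CochainComplex.isKInjective_of_injective _ a
  have sq : CommSq γ α (0 : I ⟶ 0) (0 : L ⟶ 0) := ⟨by simp⟩
  have hsq : ∀ n, (sq.map (HomologicalComplex.eval _ _ n)).LiftStruct := fun n =>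
    { l := (Injective.factorThru (γ.f n) (α.f n) : L.X n ⟶ I.X n)
      fac_left := Injective.comp_factorThru (γ.f n) (α.f n)
      fac_right := by
        exact Limits.comp_zero }
  have hι : 𝟙 I ≫ (0 : I ⟶ 0) = 0 := by simp
  have hK : Limits.IsLimit (Limits.KernelFork.ofι (𝟙 I) hι) :=
    Limits.KernelFork.IsLimit.ofId (0 : I ⟶ 0) rfl
  have hQ := Limits.cokernelIsCokernel α
  let β : CochainComplex.HomComplex.Cocycle (Limits.cokernel α) I 1 :=
    CochainComplex.Lifting.cocycle₁ sq hsq hQ hK (hπ := Limits.cokernel.condition α)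
  have hacyc : (Limits.cokernel α).Acyclic := by
    have : (ShortComplex.mk _ _ (Limits.cokernel.condition α)).ShortExact :=
      { exact := ShortComplex.exact_cokernel α }
    exact this.acyclic_X₃ (by dsimp; infer_instance)
  obtain ⟨ε, hε⟩ := CochainComplex.IsKInjective.eq_δ_of_cocycle β hacyc 0 (by simp)
  have hl : sq.HasLift := CochainComplex.Lifting.hasLift sq hsq hQ hK ε hε
  exact ⟨sq.lift, sq.fac_left⟩

end Groth.Agent.S6611
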