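import Groth.Statements.S6612
-- import your own Groth.Agent.* helpers here

set_option autoImplicit false
universe v u
open CategoryTheory CategoryTheory.Limits
open CohDer

namespace Groth.Agent.S6612

/-- Let A be an additive category and 0 → A₂ → B₂ → C₂ → 0 a termwise split exact sequence of complexes.
Given a chain map b from a complex B₁ into B₂ and a chain map b' from B₂ into a complex B₃, suppose
that both composites b ≫ (B₂ → C₂) and (A₂ → B₂) ≫ b' are null-homotopic. Then b ≫ b' is homotopic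
to zero. (The published statement has three termwise split sequences Aᵢ → Bᵢ → Cᵢ and asks both
squares of each diagram to commute up to homotopy; this row keeps only the middle sequence and the
two conditions at B₂ that the argument uses, so it is more general.) -/
theorem result {V : Type u} [Category.{v} V] [Preadditive V] [HasBinaryBiproducts V]
    (S : ShortComplex (CochainComplex V ℤ))
    (σ : ∀ n : ℤ, (S.map (HomologicalComplex.eval V (ComplexShape.up ℤ) n)).Splitting)
    {B₁ B₃ : CochainComplex V ℤ} (b : B₁ ⟶ S.X₂) (b' : S.X₂ ⟶ B₃)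
    (hb : Nonempty (Homotopy (b ≫ S.g) 0)) (hb' : Nonempty (Homotopy (S.f ≫ b') 0)) :
    Nonempty (Homotopy (b ≫ b') 0) := by
  obtain ⟨H⟩ := hb
  obtain ⟨H'⟩ := hb'
  obtain ⟨r, hr⟩ : ∃ r : ∀ n, S.X₂.X n ⟶ S.X₁.X n, ∀ n, r n = (σ n).r := ⟨fun n => (σ n).r, fun _ => rfl⟩
  obtain ⟨s, hs⟩ : ∃ s : ∀ n, S.X₃.X n ⟶ S.X₂.X n, ∀ n, s n = (σ n).s := ⟨fun n => (σ n).s, fun _ => rfl⟩
  have hsg : ∀ n, s n ≫ S.g.f n = 𝟙 (S.X₃.X n) := fun n => by rw [hs]; exact (σ n).s_g
  have hfr : ∀ n, S.f.f n ≫ r n = 𝟙 (S.X₁.X n) := fun n => by rw [hr]; exact (σ n).f_r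
  have hid : ∀ n, r n ≫ S.f.f n + S.g.f n ≫ s n = 𝟙 (S.X₂.X n) := fun n => by
    rw [hr, hs]; exact (σ n).id
  clear hr hs
  let hom' : ∀ i j, (ComplexShape.up ℤ).Rel j i → (B₁.X i ⟶ S.X₂.X j) :=
    fun i j _ => H.hom i j ≫ s j
  let c : B₁ ⟶ S.X₂ := Homotopy.nullHomotopicMap' hom'
  have hc : Homotopy c 0 := Homotopy.nullHomotopy' hom'
  have hcg : c ≫ S.g = b ≫ S.g := by
    ext n
    have e1 : c ≫ S.g = Homotopy.nullHomotopicMap' (fun i j _ => H.hom i j) := by
      rw [Homotopy.nullHomotopicMap'_comp]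
      congr 1
      funext i j hij
      simp only [hom', Category.assoc, hsg, Category.comp_id]
    rw [e1]
    have := H.comm n
    rw [Homotopy.nullHomotopicMap'_f (show (ComplexShape.up ℤ).Rel (n - 1) n by simp)
      (show (ComplexShape.up ℤ).Rel n (n + 1) by simp)]
    rw [this, dNext_eq _ (show (ComplexShape.up ℤ).Rel n (n + 1) by simp),
      prevD_eq _ (show (ComplexShape.up ℤ).Rel (n - 1) n by simp)]
    simp
  have h1 : (b - c) ≫ S.g = 0 := by
    rw [Preadditive.sub_comp, hcg, sub_self]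
  have h1n : ∀ n, (b - c).f n ≫ S.g.f n = 0 := fun n => by
    have := congrArg (fun φ => φ.f n) h1
    simpa using this
  have h2n : ∀ n, (b - c).f n = ((b - c).f n ≫ r n) ≫ S.f.f n := fun n => by
    have : (b - c).f n ≫ (r n ≫ S.f.f n + S.g.f n ≫ s n) = (b - c).f n := by
      rw [hid]; exact Category.comp_id _
    rw [Preadditive.comp_add, ← Category.assoc _ (S.g.f n), h1n, zero_comp, add_zero] at this
    rw [Category.assoc]
    exact this.symm
  have : ∀ n, Mono (S.f.f n) := fun n => SplitMono.mono ⟨r n, hfr n⟩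
  let a : B₁ ⟶ S.X₁ :=
    { f := fun n => (b - c).f n ≫ r n
      comm' := fun i j _ => by
        rw [← cancel_mono (S.f.f j)]
        rw [Category.assoc, Category.assoc, ← S.f.comm, ← Category.assoc, ← Category.assoc,
          ← h2n, Category.assoc, ← h2n]
        exact (b - c).comm i j }
  have h2 : b - c = a ≫ S.f := by
    ext n
    exact h2n n
  have e : b ≫ b' = a ≫ (S.f ≫ b') + c ≫ b' := by
    rw [← Category.assoc, ← h2, ← Preadditive.add_comp, sub_add_cancel]
  exact ⟨(Homotopy.ofEq e).trans (((H'.compLeft a).add (hc.compRight b')).trans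
    (Homotopy.ofEq (by simp)))⟩

end Groth.Agent.S6612
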