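import Groth.Statements.S6618
import Groth.Agent.Lib.Helper47.RDerLES

set_option autoImplicit false
universe v v' u u'
open CategoryTheory CategoryTheory.Limits
open CohDer

namespace Groth.Agent.S6618

/-- a degreewise (in degree `0`) monomorphism of `ℕ`-indexed cochain complexes induces a
monomorphism on `H⁰`. -/
lemma mono_homologyMap_zero {B : Type u'} [Category.{v'} B] [Abelian B]
    {K L : CochainComplex B ℕ} (φ : K ⟶ L) [Mono (φ.f 0)] :
    Mono (HomologicalComplex.homologyMap φ 0) := by
  have h1 : IsIso (K.homologyπ 0) := K.isIso_homologyπ 0 0 (by simp) (by simp)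
  have h2 : IsIso (L.homologyπ 0) := L.isIso_homologyπ 0 0 (by simp) (by simp)
  have h3 : Mono (HomologicalComplex.cyclesMap φ 0) := by
    have : Mono (HomologicalComplex.cyclesMap φ 0 ≫ L.iCycles 0) := by
      rw [HomologicalComplex.cyclesMap_i]; infer_instance
    exact mono_of_mono _ (L.iCycles 0)
  have e : HomologicalComplex.homologyMap φ 0 =
      inv (K.homologyπ 0) ≫ HomologicalComplex.cyclesMap φ 0 ≫ L.homologyπ 0 := by
    rw [IsIso.eq_inv_comp, HomologicalComplex.homologyπ_naturality]
  rw [e]
  infer_instance

lemma mono_of_conj {B : Type u'} [Category.{v'} B] {X Y X' Y' : B} (f : X ⟶ Y) (g : X' ⟶ Y')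
    (a : X ≅ X') (b : Y ≅ Y') (h : f ≫ b.hom = a.hom ≫ g) [Mono g] : Mono f := by
  have e : f = (a.hom ≫ g) ≫ b.inv := by rw [← h]; simp
  rw [e]
  infer_instance

open Groth.Agent.Lib.Helper47.RDerLES RDer in
lemma mono_rightDerived_zero_map {A : Type u} [Category.{v} A] [Abelian A] [EnoughInjectives A]
    {B : Type u'} [Category.{v'} B] [Abelian B] (F : A ⥤ B) [F.Additive]
    (S : ShortComplex A) (hS : S.ShortExact) : Mono ((F.rightDerived 0).map S.f) := by
  let T := chosen hS
  have h := map_f_iso F T 0
  have hm : Mono ((F.mapHomologicalComplex (ComplexShape.up ℕ)).map T.f) :=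
    (T.map_shortExact F).mono_f
  have hm0 : Mono (((F.mapHomologicalComplex (ComplexShape.up ℕ)).map T.f).f 0) :=
    inferInstanceAs (Mono ((HomologicalComplex.eval B (ComplexShape.up ℕ) 0).map
      ((F.mapHomologicalComplex (ComplexShape.up ℕ)).map T.f)))
  have := mono_homologyMap_zero ((F.mapHomologicalComplex (ComplexShape.up ℕ)).map T.f)
  exact @mono_of_conj _ _ _ _ _ _ _ _ _ _ h this

/-- Part (2): (3), in the case where A has enough injectives: let F : A ⥤ B be an additive functor
between abelian categories, A with enough injectives. Then R⁰F is left exact; moreover, F itself is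
left exact exactly when the canonical comparison morphism from F to R⁰F is invertible. -/
theorem result {A : Type u} [Category.{v} A] [Abelian A] [EnoughInjectives A]
    {B : Type u'} [Category.{v'} B] [Abelian B] (F : A ⥤ B) [F.Additive] :
    PreservesFiniteLimits (F.rightDerived 0) ∧ (IsIso F.toRightDerivedZero ↔ PreservesFiniteLimits F) := by
  have h1 : PreservesFiniteLimits (F.rightDerived 0) := by
    rw [Functor.preservesFiniteLimits_iff_forall_exact_map_and_mono]
    intro S hS
    exact ⟨(Groth.Agent.Lib.Helper47.RDerLES.derivedLES F).exact₂ S hS 0,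
      mono_rightDerived_zero_map F S hS⟩
  refine ⟨h1, fun h => ?_, fun h => inferInstance⟩
  exact preservesFiniteLimits_of_natIso (asIso F.toRightDerivedZero).symm

end Groth.Agent.S6618
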