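import Groth.Statements.S6619
import Groth.Agent.Lib.Helper47.RDerLES

set_option autoImplicit false
universe v v' u u'
open CategoryTheory CategoryTheory.Limits
open CohDer

namespace Groth.Agent.S6619

section
variable {A : Type u} [Category.{v} A] [Abelian A] [EnoughInjectives A]
    {B : Type u'} [Category.{v'} B] [Abelian B] (F : A ⥤ B) [F.Additive] [PreservesFiniteLimits F]
    (S : ShortComplex A) (hS : S.ShortExact)

include hS

/-- `F S` is short exact as soon as `F g` is an epimorphism. -/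
lemma shortExact_of_epi (hg : Epi (F.map S.g)) : (S.map F).ShortExact := by
  have h := (Functor.preservesFiniteLimits_iff_forall_exact_map_and_mono F).mp inferInstance S hS
  exact { exact := h.1, mono_f := h.2, epi_g := hg }

/-- `F g` is an epimorphism when `R¹F(X₁) = 0`. -/
lemma epi_of_isZero_one (h1 : IsZero ((F.rightDerived 1).obj S.X₁)) : Epi (F.map S.g) := by
  let Δ := Groth.Agent.Lib.Helper47.RDerLES.derivedLES F
  have hex := Δ.exact₃ S hS 0 1 rfl
  have hepi : Epi ((F.rightDerived 0).map S.g) := hex.epi_f (h1.eq_of_tgt _ _)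
  have nat := F.toRightDerivedZero.naturality S.g
  have e : F.map S.g = (F.toRightDerivedZero.app S.X₂ ≫ (F.rightDerived 0).map S.g) ≫
      inv (F.toRightDerivedZero.app S.X₃) := by
    rw [← nat]; simp
  rw [e]
  infer_instance

end

/-- In the case where A has enough injectives (an object X is right acyclic for the left exact functor F
when RⁱF(X) = 0 for all i > 0): suppose A and B are abelian categories, A has enough injectives, F :
A ⥤ B is left exact, and 0 → X₁ → X₂ → X₃ → 0 is a short exact sequence of A. (1) If X₁, X₃ are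
right acyclic so is X₂; (2) if X₁, X₂ are right acyclic so is X₃; (3) if X₂, X₃ are right acyclic
and F(X₂) ⟶ F(X₃) is surjective then X₁ is right acyclic. In each of the three cases 0 → F(X₁) →
F(X₂) → F(X₃) → 0 is short exact. -/
theorem result {A : Type u} [Category.{v} A] [Abelian A] [EnoughInjectives A]
    {B : Type u'} [Category.{v'} B] [Abelian B] (F : A ⥤ B) [F.Additive] [PreservesFiniteLimits F]
    (S : ShortComplex A) (hS : S.ShortExact) :
    ((∀ i : ℕ, 0 < i → IsZero ((F.rightDerived i).obj S.X₁)) → (∀ i : ℕ, 0 < i → IsZero ((F.rightDerived i).obj S.X₃)) →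
      (∀ i : ℕ, 0 < i → IsZero ((F.rightDerived i).obj S.X₂)) ∧ (S.map F).ShortExact) ∧
    ((∀ i : ℕ, 0 < i → IsZero ((F.rightDerived i).obj S.X₁)) → (∀ i : ℕ, 0 < i → IsZero ((F.rightDerived i).obj S.X₂)) →
      (∀ i : ℕ, 0 < i → IsZero ((F.rightDerived i).obj S.X₃)) ∧ (S.map F).ShortExact) ∧
    ((∀ i : ℕ, 0 < i → IsZero ((F.rightDerived i).obj S.X₂)) → (∀ i : ℕ, 0 < i → IsZero ((F.rightDerived i).obj S.X₃)) →
      Epi (F.map S.g) → (∀ i : ℕ, 0 < i → IsZero ((F.rightDerived i).obj S.X₁)) ∧ (S.map F).ShortExact) := by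
  let Δ := Groth.Agent.Lib.Helper47.RDerLES.derivedLES F
  refine ⟨fun h₁ h₃ => ⟨fun i hi => ?_, ?_⟩, fun h₁ h₂ => ⟨fun i hi => ?_, ?_⟩,
    fun h₂ h₃ hg => ⟨fun i hi => ?_, ?_⟩⟩
  · exact (Δ.exact₂ S hS i).isZero_X₂ ((h₁ i hi).eq_of_src _ _) ((h₃ i hi).eq_of_tgt _ _)
  · exact shortExact_of_epi F S hS (epi_of_isZero_one F S hS (h₁ 1 Nat.one_pos))
  · exact (Δ.exact₃ S hS i (i + 1) rfl).isZero_X₂ ((h₂ i hi).eq_of_src _ _)
      ((h₁ (i + 1) (Nat.succ_pos i)).eq_of_tgt _ _)
  · exact shortExact_of_epi F S hS (epi_of_isZero_one F S hS (h₁ 1 Nat.one_pos))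
  · obtain ⟨j, rfl⟩ : ∃ j, i = j + 1 := ⟨i - 1, by lia⟩
    have hex := Δ.exact₁ S hS j (j + 1) rfl
    rcases Nat.eq_zero_or_pos j with rfl | hj
    · -- degree one
      have hepi : Epi (Δ.δ S hS 0 1 rfl) := hex.epi_f ((h₂ 1 Nat.one_pos).eq_of_tgt _ _)
      have hepi0 : Epi ((F.rightDerived 0).map S.g) := by
        have nat := F.toRightDerivedZero.naturality S.g
        have e : (F.rightDerived 0).map S.g = inv (F.toRightDerivedZero.app S.X₂) ≫
            F.map S.g ≫ F.toRightDerivedZero.app S.X₃ := by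
          rw [nat]; simp
        rw [e]
        infer_instance
      have hz : Δ.δ S hS 0 1 rfl = 0 := by
        rw [← cancel_epi ((F.rightDerived 0).map S.g), Δ.comp_δ, comp_zero]
      rw [IsZero.iff_id_eq_zero, ← cancel_epi (Δ.δ S hS 0 1 rfl), hz, zero_comp, zero_comp]
    · exact hex.isZero_X₂ ((h₃ j hj).eq_of_src _ _) ((h₂ (j + 1) (Nat.succ_pos j)).eq_of_tgt _ _)
  · exact shortExact_of_epi F S hS hg

end Groth.Agent.S6619
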