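import Groth.Statements.S6623
import Mathlib
import Groth.Agent.S6595
import Groth.Agent.S6597
-- import your own Groth.Agent.* helpers here

set_option autoImplicit false
universe v u
open CategoryTheory CategoryTheory.Limits
open CohDer

namespace Groth.Agent.S6623

open ZeroObject Pretriangulated
open Groth.Agent.S6595 (hom_shift_eq_zero)
open Groth.Agent.S6597 (hom_unshift_eq_zero hom_cast_eq_zero)

section Aux

variable {D : Type u} [Category.{v} D] [Preadditive D] [HasZeroObject D] [HasShift D ℤ]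
    [∀ n : ℤ, (shiftFunctor D n).Additive]

theorem hom_zero_shift_iff {W V : D} :
    (∀ ψ : (shiftFunctor D (0 : ℤ)).obj W ⟶ V, ψ = 0) ↔ (∀ ψ : W ⟶ V, ψ = 0) := by
  constructor
  · intro h ψ
    have := h ((shiftFunctorZero D ℤ).hom.app W ≫ ψ)
    rwa [← cancel_epi ((shiftFunctorZero D ℤ).hom.app W), comp_zero]
  · intro h ψ
    have := h ((shiftFunctorZero D ℤ).inv.app W ≫ ψ)
    rwa [← cancel_epi ((shiftFunctorZero D ℤ).inv.app W), comp_zero]

/-- `Hom(W[p], V) = 0` and `p + q = 0` imply `Hom(W, V[q]) = 0`. -/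
theorem hom_target_shift_eq_zero {W V : D} (p q : ℤ) (h : p + q = 0)
    (hz : ∀ ψ : (shiftFunctor D p).obj W ⟶ V, ψ = 0)
    (ψ : W ⟶ (shiftFunctor D q).obj V) : ψ = 0 :=
  hom_zero_shift_iff.mp (fun ψ' => hom_shift_eq_zero p q 0 h hz ψ') ψ

/-- `Hom(W, V[q]) = 0` and `p + q = 0` imply `Hom(W[p], V) = 0`. -/
theorem hom_source_shift_eq_zero {W V : D} (p q : ℤ) (h : p + q = 0)
    (hz : ∀ ψ : W ⟶ (shiftFunctor D q).obj V, ψ = 0)
    (ψ : (shiftFunctor D p).obj W ⟶ V) : ψ = 0 :=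
  hom_unshift_eq_zero p q 0 h (hom_zero_shift_iff.mpr hz) ψ

theorem hom_shift_shift_eq_zero {W V : D} (p q r : ℤ) (h : p + q = r)
    (hz : ∀ ψ : (shiftFunctor D r).obj W ⟶ V, ψ = 0)
    (ψ : (shiftFunctor D q).obj ((shiftFunctor D p).obj W) ⟶ V) : ψ = 0 := by
  have := hz ((shiftFunctorAdd' D p q r h).hom.app W ≫ ψ)
  rwa [← cancel_epi ((shiftFunctorAdd' D p q r h).hom.app W), comp_zero]

theorem hom_target_shift_shift_eq_zero {W V : D} (p q r : ℤ) (h : p + q = r)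
    (hz : ∀ ψ : W ⟶ (shiftFunctor D r).obj V, ψ = 0)
    (ψ : W ⟶ (shiftFunctor D q).obj ((shiftFunctor D p).obj V)) : ψ = 0 := by
  have := hz (ψ ≫ (shiftFunctorAdd' D p q r h).inv.app V)
  rwa [← cancel_mono ((shiftFunctorAdd' D p q r h).inv.app V), zero_comp]

end Aux

section Devissage

variable {D : Type u} [Category.{v} D] [Preadditive D] [HasZeroObject D] [HasShift D ℤ]
    [∀ n : ℤ, (shiftFunctor D n).Additive] [Pretriangulated D] [IsTriangulated D]

set_option backward.defeqAttrib.useBackward true in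
set_option backward.isDefEq.respectTransparency false in
/-- Dévissage: `Hom(Y_k, Z) = 0` as soon as `Hom(X_s, Z[l]) = 0` for all `s + l = k`. -/
theorem homY_eq_zero (X : ChainComplex D ℕ) (n : ℕ)
    (Y : ℕ → D) (a : ∀ k, Y k ⟶ X.X k) (b : ∀ k, X.X (k + 1) ⟶ Y k)
    (c : ∀ k, Y k ⟶ (shiftFunctor D (1 : ℤ)).obj (Y (k + 1)))
    (h0 : IsIso (a 0))
    (hP : ∀ k, k < n → Triangle.mk (a (k + 1)) (b k) (c k) ∈ distinguishedTriangles ∧
      b k ≫ a k = X.d (k + 1) k)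
    (k : ℕ) (hk : k ≤ n) (Z : D)
    (H : ∀ (s l : ℕ) (m : ℤ), s + l = k → m = l →
      ∀ ψ : X.X s ⟶ (shiftFunctor D m).obj Z, ψ = 0)
    (ψ : Y k ⟶ Z) : ψ = 0 := by
  induction k generalizing Z with
  | zero =>
    have h1 : ∀ ψ' : X.X 0 ⟶ Z, ψ' = 0 := fun ψ' => by
      have := H 0 0 0 rfl rfl (ψ' ≫ (shiftFunctorZero D ℤ).inv.app Z)
      rwa [← cancel_mono ((shiftFunctorZero D ℤ).inv.app Z), zero_comp]
    have := h1 (inv (a 0) ≫ ψ)
    rw [← cancel_epi (inv (a 0)), this, comp_zero]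
  | succ k ih =>
    have hkn : k < n := by omega
    obtain ⟨hT, -⟩ := hP k hkn
    have ih' : c k ≫ (shiftFunctor D (1 : ℤ)).map ψ = 0 :=
      ih (by omega) ((shiftFunctor D (1 : ℤ)).obj Z) (fun s l m hsl hm ψ' =>
        hom_target_shift_shift_eq_zero 1 m (m + 1) (by omega)
          (H s (l + 1) (m + 1) (by omega) (by push_cast; omega)) ψ') _
    obtain ⟨g, hg⟩ := Triangle.yoneda_exact₃ _ (rot_of_distTriang _ hT) _ ih'
    dsimp at g hg
    obtain ⟨g₀, rfl⟩ := (shiftFunctor D (1 : ℤ)).map_surjective g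
    have hg0 : g₀ = 0 := by
      have := H (k + 1) 0 0 (by omega) rfl (g₀ ≫ (shiftFunctorZero D ℤ).inv.app Z)
      rwa [← cancel_mono ((shiftFunctorZero D ℤ).inv.app Z), zero_comp]
    apply (shiftFunctor D (1 : ℤ)).map_injective
    rw [hg, hg0, Functor.map_zero, comp_zero, Functor.map_zero]

set_option backward.defeqAttrib.useBackward true in
set_option backward.isDefEq.respectTransparency false in
/-- Dévissage: `Hom(W, Y'_k) = 0` as soon as `Hom(W[l], X'_s) = 0` for all `s + l = k`. -/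
theorem homToY_eq_zero (X' : ChainComplex D ℕ) (n : ℕ)
    (qY : ℕ → D) (qa : ∀ k, qY k ⟶ X'.X k) (qb : ∀ k, X'.X (k + 1) ⟶ qY k)
    (qc : ∀ k, qY k ⟶ (shiftFunctor D (1 : ℤ)).obj (qY (k + 1)))
    (qh0 : IsIso (qa 0))
    (qhP : ∀ k, k < n → Triangle.mk (qa (k + 1)) (qb k) (qc k) ∈ distinguishedTriangles ∧
      qb k ≫ qa k = X'.d (k + 1) k)
    (k : ℕ) (hk : k ≤ n) (W : D)
    (H : ∀ (s l : ℕ) (m : ℤ), s + l = k → m = l →
      ∀ ψ : (shiftFunctor D m).obj W ⟶ X'.X s, ψ = 0)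
    (ψ : W ⟶ qY k) : ψ = 0 := by
  induction k generalizing W with
  | zero =>
    have := hom_zero_shift_iff.mp (H 0 0 0 rfl rfl) (ψ ≫ qa 0)
    rw [← cancel_mono (qa 0), this, zero_comp]
  | succ k ih =>
    have hkn : k < n := by omega
    obtain ⟨hT, -⟩ := qhP k hkn
    have h1 : ψ ≫ qa (k + 1) = 0 := hom_zero_shift_iff.mp (H (k + 1) 0 0 (by omega) rfl) _
    obtain ⟨g, hg⟩ := Triangle.coyoneda_exact₂ _ (inv_rot_of_distTriang _ hT) ψ h1
    dsimp at g hg
    have hg0 : g = 0 := by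
      refine hom_target_shift_eq_zero 1 (-1) (by omega) ?_ g
      intro ψ'
      exact ih (by omega) ((shiftFunctor D (1 : ℤ)).obj W) (fun s l m hsl hm ψ'' =>
        hom_shift_shift_eq_zero 1 m (m + 1) (by omega)
          (H s (l + 1) (m + 1) (by omega) (by push_cast; omega)) ψ'') ψ'
    rw [hg, hg0, zero_comp]

end Devissage


set_option backward.defeqAttrib.useBackward true in
set_option backward.isDefEq.respectTransparency false in
open CategoryTheory.Pretriangulated in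
/-- Let D be a triangulated category, φ : X ⟶ X' a morphism of chain complexes in D considered in
degrees ≤ n, where a Postnikov system for the complex X_n → … → X_0 consists of objects Y_k, an
isomorphism Y_0 ⟶ X_0, and for 0 ≤ k < n distinguished triangles Y_{k+1} ⟶ X_{k+1} ⟶ Y_k ⟶
Y_{k+1}⟦1⟧ with X_{k+1} ⟶ Y_k ⟶ X_k the differential; let (Y, a, b, c) and (Y', a', b', c') be
Postnikov systems for X and X'. If Hom(X_{j-i}⟦1-i⟧, X'_j) = 0 and Hom(X_j, X'_{j-i}⟦-i⟧) = 0 for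
all 0 < i ≤ j ≤ n, then there is at most one morphism of Postnikov systems extending φ: two such
morphisms agree on Y_k for every k ≤ n. -/
theorem result {D : Type u} [Category.{v} D] [Preadditive D] [HasZeroObject D] [HasShift D ℤ]
    [∀ n : ℤ, (shiftFunctor D n).Additive] [Pretriangulated D] [IsTriangulated D]
    (X X' : ChainComplex D ℕ) (φ : X ⟶ X') (n : ℕ)
    (Y : ℕ → D) (a : ∀ k, Y k ⟶ X.X k) (b : ∀ k, X.X (k + 1) ⟶ Y k)
    (c : ∀ k, Y k ⟶ (shiftFunctor D (1 : ℤ)).obj (Y (k + 1)))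
    (h0 : IsIso (a 0))
    (hP : ∀ k, k < n → Triangle.mk (a (k + 1)) (b k) (c k) ∈ distinguishedTriangles ∧ b k ≫ a k = X.d (k + 1) k)
    (qY : ℕ → D) (qa : ∀ k, qY k ⟶ X'.X k) (qb : ∀ k, X'.X (k + 1) ⟶ qY k)
    (qc : ∀ k, qY k ⟶ (shiftFunctor D (1 : ℤ)).obj (qY (k + 1)))
    (qh0 : IsIso (qa 0))
    (qhP : ∀ k, k < n → Triangle.mk (qa (k + 1)) (qb k) (qc k) ∈ distinguishedTriangles ∧ qb k ≫ qa k = X'.d (k + 1) k)
    (hv : ∀ i j : ℕ, 0 < i → i ≤ j → j ≤ n →
      (∀ ψ : (shiftFunctor D (1 - (i : ℤ))).obj (X.X (j - i)) ⟶ X'.X j, ψ = 0) ∧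
      (∀ ψ : X.X j ⟶ (shiftFunctor D (-(i : ℤ))).obj (X'.X (j - i)), ψ = 0))
    (y z : ∀ k, Y k ⟶ qY k)
    (hy : (∀ k, k ≤ n → y k ≫ qa k = a k ≫ φ.f k) ∧
      (∀ k, k < n → b k ≫ y k = φ.f (k + 1) ≫ qb k ∧ c k ≫ (shiftFunctor D (1 : ℤ)).map (y (k + 1)) = y k ≫ qc k))
    (hz : (∀ k, k ≤ n → z k ≫ qa k = a k ≫ φ.f k) ∧
      (∀ k, k < n → b k ≫ z k = φ.f (k + 1) ≫ qb k ∧ c k ≫ (shiftFunctor D (1 : ℤ)).map (z (k + 1)) = z k ≫ qc k))
    (k : ℕ) (hk : k ≤ n) :
    y k = z k := by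
  have hv1 : ∀ (s t : ℕ) (m : ℤ), s < t → t ≤ n → m = 1 - ((t : ℤ) - s) →
      ∀ ψ : (shiftFunctor D m).obj (X.X s) ⟶ X'.X t, ψ = 0 := by
    intro s t m hst ht hm
    have h := (hv (t - s) t (by omega) (by omega) ht).1
    have e1 : t - (t - s) = s := by omega
    have e2 : 1 - ((t - s : ℕ) : ℤ) = m := by omega
    rw [e1, e2] at h
    exact h
  have hv2 : ∀ (s t : ℕ) (m : ℤ), s < t → t ≤ n → m = -((t : ℤ) - s) →
      ∀ ψ : X.X t ⟶ (shiftFunctor D m).obj (X'.X s), ψ = 0 := by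
    intro s t m hst ht hm
    have h := (hv (t - s) t (by omega) (by omega) ht).2
    have e1 : t - (t - s) = s := by omega
    have e2 : -((t - s : ℕ) : ℤ) = m := by omega
    rw [e1, e2] at h
    exact h
  suffices H : ∀ k, k ≤ n → y k - z k = 0 from sub_eq_zero.mp (H k hk)
  clear hk k
  intro k
  induction k with
  | zero =>
    intro _
    rw [← cancel_mono (qa 0), Preadditive.sub_comp, hy.1 0 (Nat.zero_le _),
      hz.1 0 (Nat.zero_le _), sub_self, zero_comp]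
  | succ k ih =>
    intro hk
    have hkn : k < n := by omega
    obtain ⟨hT, -⟩ := hP k hkn
    obtain ⟨qhT, -⟩ := qhP k hkn
    have ih' := ih (by omega)
    have hc : c k ≫ (shiftFunctor D (1 : ℤ)).map (y (k + 1) - z (k + 1)) = 0 := by
      rw [Functor.map_sub, Preadditive.comp_sub, (hy.2 k hkn).2, (hz.2 k hkn).2,
        ← Preadditive.sub_comp, ih', zero_comp]
    obtain ⟨g, hg⟩ := Triangle.yoneda_exact₃ _ (rot_of_distTriang _ hT) _ hc
    dsimp at g hg
    obtain ⟨t, rfl⟩ := (shiftFunctor D (1 : ℤ)).map_surjective g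
    -- `w = - a ≫ t`
    have hw : y (k + 1) - z (k + 1) = - (a (k + 1) ≫ t) := by
      apply (shiftFunctor D (1 : ℤ)).map_injective
      rw [hg, Functor.map_neg, Functor.map_comp, Preadditive.neg_comp]
    have hwa : (y (k + 1) - z (k + 1)) ≫ qa (k + 1) = 0 := by
      rw [Preadditive.sub_comp, hy.1 (k + 1) hk, hz.1 (k + 1) hk, sub_self]
    have h1 : a (k + 1) ≫ (t ≫ qa (k + 1)) = 0 := by
      rw [hw, Preadditive.neg_comp, neg_eq_zero, Category.assoc] at hwa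
      exact hwa
    obtain ⟨r, hr⟩ := Triangle.yoneda_exact₂ _ hT _ h1
    dsimp at r hr
    have hr0 : r = 0 := by
      refine homY_eq_zero X n Y a b c h0 hP k (by omega) (X'.X (k + 1)) ?_ r
      intro s l m hsl hm ψ
      refine hom_target_shift_eq_zero (-m) m (by omega) ?_ ψ
      exact hv1 s (k + 1) (-m) (by omega) hk (by push_cast; omega)
    have h2 : t ≫ qa (k + 1) = 0 := by rw [hr, hr0, comp_zero]
    obtain ⟨g', hg'⟩ := Triangle.coyoneda_exact₂ _ (inv_rot_of_distTriang _ qhT) t h2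
    dsimp at g' hg'
    have hg'0 : g' = 0 := by
      refine hom_target_shift_eq_zero 1 (-1) (by omega) ?_ g'
      intro ψ'
      refine homToY_eq_zero X' n qY qa qb qc qh0 qhP k (by omega) _ ?_ ψ'
      intro s l m hsl hm ψ
      refine hom_shift_shift_eq_zero 1 m (m + 1) (by omega) ?_ ψ
      intro ψ''
      refine hom_source_shift_eq_zero (m + 1) (-(m + 1)) (by omega) ?_ ψ''
      exact hv2 s (k + 1) (-(m + 1)) (by omega) hk (by push_cast; omega)
    rw [hw, hg', hg'0, zero_comp, comp_zero, neg_zero]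

end Groth.Agent.S6623
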