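import Groth.Statements.S6625
import Groth.Agent.Lib.Helper6.RDPlus2

set_option autoImplicit false
universe w w' v v' u u'
open CategoryTheory CategoryTheory.Limits
open CohDer

namespace Groth.Agent.S6625


open Groth.Agent.Lib.Helper6.RDPlus

section

variable {A : Type u} [Category.{v} A] [Abelian A] [HasDerivedCategory.{w} A] [EnoughInjectives A]
    {B : Type u'} [Category.{v'} B] [Abelian B] [HasDerivedCategory.{w'} B]
    (F : A ⥤ B) [F.Additive] (I : ObjectProperty A)
    (h1 : ∀ X : A, ∃ (Y : A) (ι : X ⟶ Y), I Y ∧ Mono ι)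
    (h2 : ∀ S : ShortComplex A, S.ShortExact → I S.X₁ → I S.X₂ → I S.X₃ ∧ (S.map F).ShortExact)

include h2 in
lemma h2G (S : ShortComplex A) (hS : S.ShortExact) (a : I S.X₁) (b : I S.X₂) :
    (S.map (G F 0)).ShortExact :=
  ShortComplex.shortExact_of_iso (S.mapNatIso (GZeroIso F)).symm (h2 S hS a b).2

include h2 in
lemma mono_τ (S : ShortComplex A) (hS : S.ShortExact) (a : I S.X₁) (b : I S.X₂)
    (E : A) [Injective E] (u : S.X₁ ⟶ E) (j : E ⟶ S.X₂) (fac : u ≫ j = S.f) :
    Mono ((τ F 0).app S.X₁) := by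
  have hS' := h2G F I h2 S hS a b
  have m1 : Mono ((G F 0).map S.f) := hS'.mono_f
  have m2 : Mono ((G F 0).map u) := by
    rw [← fac, Functor.map_comp] at m1
    exact mono_of_mono _ ((G F 0).map j)
  have := isIso_τ_app_of_injective F E 0
  have m3 : Mono ((τ F 0).app S.X₁ ≫ (R F 0).map u) := by
    rw [← (τ F 0).naturality u]
    infer_instance
  exact mono_of_mono _ ((R F 0).map u)

include h2 in
lemma isIso_τ (S : ShortComplex A) (hS : S.ShortExact) (a : I S.X₁) (b : I S.X₂)
    (E : A) [Injective E] (u : S.X₁ ⟶ E) (j : E ⟶ S.X₂) (fac : u ≫ j = S.f)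
    (mR : Mono ((τ F 0).app S.X₃)) :
    IsIso ((τ F 0).app S.X₁) := by
  have hS' := h2G F I h2 S hS a b
  have := mono_τ F I h2 S hS a b E u j fac
  have := isIso_τ_app_of_injective F E 0
  have := hS.mono_f
  have mRi : Mono ((R F 0).map S.f) := mono_R_zero_map F _
  let c : (R F 0).obj S.X₁ ⟶ (G F 0).obj S.X₂ :=
    (R F 0).map u ≫ inv ((τ F 0).app E) ≫ (G F 0).map j
  have hc : c ≫ (τ F 0).app S.X₂ = (R F 0).map S.f := by
    dsimp only [c]
    rw [Category.assoc, Category.assoc, (τ F 0).naturality j, IsIso.inv_hom_id_assoc,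
      ← Functor.map_comp, fac]
  have hc0 : c ≫ (G F 0).map S.g = 0 := by
    rw [← cancel_mono ((τ F 0).app S.X₃), Category.assoc, (τ F 0).naturality S.g,
      ← Category.assoc, hc, zero_comp, ← Functor.map_comp, S.zero, Functor.map_zero]
  have m1 : Mono ((G F 0).map S.f) := hS'.mono_f
  have : Mono (S.map (G F 0)).f := hS'.mono_f
  obtain ⟨s, hs⟩ : ∃ s : (R F 0).obj S.X₁ ⟶ (G F 0).obj S.X₁, s ≫ (G F 0).map S.f = c :=
    ⟨hS'.exact.lift c hc0, hS'.exact.lift_f c hc0⟩
  have hsτ : s ≫ (τ F 0).app S.X₁ = 𝟙 _ := by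
    rw [← cancel_mono ((R F 0).map S.f), Category.assoc, Category.id_comp,
      ← (τ F 0).naturality S.f, ← Category.assoc, hs, hc]
  have : Epi ((τ F 0).app S.X₁) := ⟨fun a b hab => by
    have h : s ≫ (τ F 0).app S.X₁ ≫ a = s ≫ (τ F 0).app S.X₁ ≫ b := by rw [hab]
    rwa [← Category.assoc, ← Category.assoc, hsτ, Category.id_comp, Category.id_comp] at h⟩
  exact isIso_of_mono_of_epi _

/-- the data attached to an object of `I`: `X ↪ E ↪ Y` with `E` injective and `Y ∈ I`. -/
structure Dat (X : A) where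
  Y : A
  Z : A
  f : X ⟶ Y
  g : Y ⟶ Z
  zero : f ≫ g = 0
  hS : (ShortComplex.mk f g zero).ShortExact
  E : A
  inj : Injective E
  u : X ⟶ E
  j : E ⟶ Y
  fac : u ≫ j = f
  hY : I Y

include h1 in
lemma exists_dat (X : A) : Nonempty (Dat I X) := by
  obtain ⟨Y, j, hY, hj⟩ := h1 (Injective.under X)
  have : Mono (Injective.ι X ≫ j) := mono_comp _ _
  exact ⟨{
    Y := Y
    Z := cokernel (Injective.ι X ≫ j)
    f := Injective.ι X ≫ j
    g := cokernel.π _
    zero := cokernel.condition _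
    hS :=
      { exact := ShortComplex.exact_cokernel _
        mono_f := this
        epi_g := inferInstanceAs (Epi (cokernel.π (Injective.ι X ≫ j))) }
    E := Injective.under X
    inj := inferInstance
    u := Injective.ι X
    j := j
    fac := rfl
    hY := hY }⟩

include h1 h2 in
lemma isIso_τ' (X : A) (hX : I X) : IsIso ((τ F 0).app X) := by
  obtain ⟨d⟩ := exists_dat I h1 X
  have hR : I d.Z := (h2 _ d.hS hX d.hY).1
  obtain ⟨dR⟩ := exists_dat I h1 d.Z
  have := d.inj
  have := dR.inj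
  have mR : Mono ((τ F 0).app d.Z) :=
    mono_τ F I h2 (ShortComplex.mk dR.f dR.g dR.zero) dR.hS hR dR.hY dR.E dR.u dR.j dR.fac
  exact isIso_τ F I h2 (ShortComplex.mk d.f d.g d.zero) d.hS hX d.hY d.E d.u d.j d.fac mR

/-- the inductive step -/
lemma isZero_step (S : ShortComplex A) (hS : S.ShortExact)
    (E : A) [Injective E] (u : S.X₁ ⟶ E) (j : E ⟶ S.X₂) (fac : u ≫ j = S.f) (n : ℤ) (hn : n + 1 ≠ 0)
    (H : ∀ (δ : (R F n).obj S.X₃ ⟶ (R F (n + 1)).obj S.X₁), (R F n).map S.g ≫ δ = 0 → δ = 0) :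
    IsZero ((R F (n + 1)).obj S.X₁) := by
  obtain ⟨δ, w₁, w₂, w₃, e₁, e₂, e₃⟩ := les_R F S hS n
  have hz : (R F (n + 1)).map S.f = 0 := by
    rw [← fac, Functor.map_comp, (isZero_R_obj_of_injective F E (n + 1) hn).eq_of_tgt
          ((R F (n + 1)).map u) 0, zero_comp]
  have hδepi : Epi δ := e₃.epi_f hz
  have hδ0 : δ = 0 := H δ w₂
  rw [IsZero.iff_id_eq_zero, ← cancel_epi δ, Category.comp_id, comp_zero]
  exact hδ0

include h1 h2 in
lemma isZero_R (n : ℕ) : ∀ (X : A) (_ : I X), IsZero ((R F ((n : ℤ) + 1)).obj X) := by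
  induction n with
  | zero =>
    intro X hX
    obtain ⟨d⟩ := exists_dat I h1 X
    have := d.inj
    have hR : I d.Z := (h2 _ d.hS hX d.hY).1
    have hS' := h2G F I h2 _ d.hS hX d.hY
    have := isIso_τ' F I h1 h2 d.Z hR
    have eg : Epi ((G F 0).map d.g) := hS'.epi_g
    have : Epi ((R F 0).map d.g) := by
      have e : Epi ((τ F 0).app d.Y ≫ (R F 0).map d.g) := by
        rw [← (τ F 0).naturality d.g]
        infer_instance
      exact epi_of_epi ((τ F 0).app d.Y) _
    have := isZero_step F (ShortComplex.mk d.f d.g d.zero) d.hS d.E d.u d.j d.fac 0 (by lia)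
      (fun δ hδ => by
        have h : (R F 0).map d.g ≫ δ = 0 := hδ
        rw [← cancel_epi ((R F 0).map d.g), h, comp_zero])
    exact this
  | succ n ih =>
    intro X hX
    obtain ⟨d⟩ := exists_dat I h1 X
    have := d.inj
    have hR : I d.Z := (h2 _ d.hS hX d.hY).1
    have := isZero_step F (ShortComplex.mk d.f d.g d.zero) d.hS d.E d.u d.j d.fac ((n : ℤ) + 1)
      (by lia) (fun δ _ => (ih d.Z hR).eq_of_src _ _)
    exact IsZero.of_iso this (eqToIso (by push_cast; rfl))

end

/-- In the case where A has enough injectives: let F : A ⥤ B be an additive functor between abelian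
categories, A with enough injectives, and I a class of objects of A such that (1) each object of A
embeds by a monomorphism into some object of I, and (2) whenever 0 → P → Q → R → 0 is a short exact
sequence whose terms P and Q lie in I, the third term R also lies in I, and applying F to the
sequence yields a short exact sequence in B. Under these assumptions, each X belonging to I is right
acyclic for F, meaning the map F(X)[0] ⟶ RF(X[0]) is an isomorphism. -/
theorem result {A : Type u} [Category.{v} A] [Abelian A] [HasDerivedCategory.{w} A] [EnoughInjectives A]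
    {B : Type u'} [Category.{v'} B] [Abelian B] [HasDerivedCategory.{w'} B]
    (F : A ⥤ B) [F.Additive] (I : ObjectProperty A)
    (h1 : ∀ X : A, ∃ (Y : A) (ι : X ⟶ Y), I Y ∧ Mono ι)
    (h2 : ∀ S : ShortComplex A, S.ShortExact → I S.X₁ → I S.X₂ → I S.X₃ ∧ (S.map F).ShortExact)
    (X : A) (hX : I X) :
    IsIso (F.rightDerivedFunctorPlusUnit.app ((HomotopyCategory.Plus.singleFunctor A 0).obj X)) := by
  rw [isIso_unit_single_iff']
  refine ⟨isIso_τ' F I h1 h2 X hX, fun n hn => ?_⟩
  obtain ⟨k, rfl⟩ : ∃ k : ℕ, n = (k : ℤ) + 1 := ⟨(n - 1).toNat, by lia⟩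
  exact isZero_R F I h1 h2 k X hX

end Groth.Agent.S6625
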