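import Groth.Statements.S6628
import Groth.Agent.Lib.Helper70.PropADescent
import Groth.Agent.S6627

set_option autoImplicit false
open CategoryTheory CategoryTheory.Limits AlgebraicGeometry Opposite
universe u
open EtCore

namespace Groth.Agent.S6628

/-- An integral morphism of schemes satisfies condition (A): for every etale U ⟶ X and every point u of
U there are an etale V ⟶ Y, an open and closed subscheme W of X ×_Y V and an X-morphism W ⟶ U whose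
image contains u. -/
theorem result {X Y : Scheme.{u}} (f : X ⟶ Y) [IsIntegralHom f] : BigSite.PropA f := by
  intro U g _ u
  -- affine opens
  obtain ⟨_, ⟨(Y₀ : Y.Opens), hY₀, rfl⟩, hyY₀, -⟩ :=
    Y.isBasis_affineOpens.exists_subset_of_mem_open (Set.mem_univ (f (g u))) isOpen_univ
  have hX₀ : IsAffineOpen (f ⁻¹ᵁ Y₀) := hY₀.preimage f
  obtain ⟨_, ⟨(U₀ : U.Opens), hU₀, rfl⟩, huU₀, hU₀le⟩ :=
    U.isBasis_affineOpens.exists_subset_of_mem_open (show u ∈ (g ⁻¹ᵁ (f ⁻¹ᵁ Y₀) : Set U) from hyY₀)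
      (g ⁻¹ᵁ (f ⁻¹ᵁ Y₀)).2
  have hle : U₀ ≤ g ⁻¹ᵁ (f ⁻¹ᵁ Y₀) := hU₀le
  obtain ⟨A₀, B₀, α, ι, β, ρ, hαι, hα, hβ, hpo⟩ :=
    Groth.Agent.Lib.Helper70.PropADescent.exists_descent (f.appLE Y₀ (f ⁻¹ᵁ Y₀) le_rfl)
      (g.appLE (f ⁻¹ᵁ Y₀) U₀ hle)
      (by rw [← Scheme.Hom.app_eq_appLE]; exact f.isIntegral_app Y₀ hY₀)
      (HasRingHomProperty.appLE @Etale g inferInstance ⟨_, hX₀⟩ ⟨_, hU₀⟩ hle)
  have hfin : IsFinite (Spec.map α) := (IsFinite.SpecMap_iff α).mpr hα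
  have het : Etale (Spec.map β) := (HasRingHomProperty.Spec_iff (P := @Etale)).mpr hβ
  have hpb : IsPullback (Spec.map ρ) (Spec.map (g.appLE (f ⁻¹ᵁ Y₀) U₀ hle)) (Spec.map β)
      (Spec.map ι) := (isPullback_SpecMap_of_isPushout _ _ _ _ hpo).flip
  obtain ⟨u₀, hu₀⟩ : ∃ u₀ : Spec Γ(U, U₀), hU₀.fromSpec u₀ = u := by
    have : u ∈ Set.range hU₀.fromSpec.base := by rw [hU₀.range_fromSpec]; exact huU₀
    exact this
  have hoY : IsOpenImmersion hY₀.fromSpec := hY₀.isOpenImmersion_fromSpec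
  have hoX : IsOpenImmersion hX₀.fromSpec := hX₀.isOpenImmersion_fromSpec
  have : LocallyQuasiFinite (Spec.map α ≫ hY₀.fromSpec) := inferInstance
  have hA : BigSite.PropA (Spec.map α ≫ hY₀.fromSpec) :=
    Groth.Agent.S6627.result (Spec.map α ≫ hY₀.fromSpec)
  exact Groth.Agent.Lib.Helper70.PropADescent.propA_of_descent f g u hY₀.fromSpec hX₀.fromSpec
    hU₀.fromSpec (Spec.map (f.appLE Y₀ (f ⁻¹ᵁ Y₀) le_rfl)) (Spec.map (g.appLE (f ⁻¹ᵁ Y₀) U₀ hle))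
    (hY₀.SpecMap_appLE_fromSpec f hX₀ le_rfl).symm (hX₀.SpecMap_appLE_fromSpec g hU₀ hle).symm
    (by rw [hY₀.range_fromSpec, hX₀.range_fromSpec]; rfl) u₀ hu₀ (Spec.map ι) (Spec.map α)
    (by rw [← Spec.map_comp, hαι]) (Spec.map β) (Spec.map ρ) hpb hA

end Groth.Agent.S6628
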