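import Groth.Statements.S6631
-- import your own Groth.Agent.* helpers here

set_option autoImplicit false
open CategoryTheory CategoryTheory.Limits AlgebraicGeometry Opposite
universe u
open EtDesc

namespace Groth.Agent.S6631

/-- A surjective morphism in the small etale site generates a covering sieve. -/
theorem cover_of_surj {X : Scheme.{u}} {W U : X.Etale} (k : W ⟶ U)
    (hk : Function.Surjective k.left.base) :
    Sieve.ofArrows (fun _ : Unit => W) (fun _ => k) ∈ X.smallEtaleTopology U := by
  rw [Scheme.ofArrows_mem_smallEtaleTopology_iff]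
  ext y
  simp only [Set.mem_iUnion, Set.mem_range, Set.mem_univ, iff_true]
  obtain ⟨w, hw⟩ := hk y
  exact ⟨(), w, hw⟩

/-- The morphism `X ×_Y V ⟶ U` of PropC as a morphism in the small etale site of `X`. -/
noncomputable def kMor {X Y : Scheme.{u}} (f : X ⟶ Y) (U : X.Etale) (V : Scheme.{u}) (v : V ⟶ Y) [Etale v]
    (h : pullback f v ⟶ U.left) (hh : h ≫ U.hom = pullback.fst f v) :
    (EtCoh.bc f).obj (Scheme.Etale.mk v) ⟶ U :=
  MorphismProperty.Over.homMk ((pullbackSymmetry v f).hom ≫ h) 
    ((Category.assoc _ _ _).trans ((congrArg _ hh).trans (pullbackSymmetry_hom_comp_fst v f)))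

theorem kMor_surj {X Y : Scheme.{u}} (f : X ⟶ Y) (U : X.Etale) (V : Scheme.{u}) (v : V ⟶ Y) [Etale v]
    (h : pullback f v ⟶ U.left) (hh : h ≫ U.hom = pullback.fst f v) (hs : Surjective h) :
    Function.Surjective (kMor f U V v h hh).left.base := by
  have : (kMor f U V v h hh).left = (pullbackSymmetry v f).hom ≫ h := rfl
  rw [this]
  have : Surjective ((pullbackSymmetry v f).hom ≫ h) := inferInstance
  exact this.surj



universe v₁ u₁ w

theorem inj_of_cover {C : Type u₁} [Category.{v₁} C] {J : GrothendieckTopology C}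
    (F : Sheaf J (Type w)) {W U : C} (k : W ⟶ U)
    (hk : Sieve.ofArrows (fun _ : Unit => W) (fun _ => k) ∈ J U) :
    Function.Injective (F.obj.map k.op) := by
  intro s t hst
  apply (((isSheaf_iff_isSheaf_of_type _ _).1 F.2).isSeparated _ hk).ext
  rintro Z g ⟨Z', a, b, ⟨⟩, rfl⟩
  simp only [op_comp, Functor.map_comp, types_comp_apply]
  rw [hst]

theorem inj_of_mono {C : Type u₁} [Category.{v₁} C] {J : GrothendieckTopology C}
    [HasSheafify J (Type w)]
    {F G : Sheaf J (Type w)} (φ : F ⟶ G) [Mono φ] (U : Cᵒᵖ) :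
    Function.Injective (φ.hom.app U) := by
  have h1 : Mono ((sheafToPresheaf J _).map φ) := inferInstance
  rw [NatTrans.mono_iff_mono_app] at h1
  exact (mono_iff_injective _).1 (h1 U)

theorem reflMono {X Y : Scheme.{u}} (f : X ⟶ Y) (hC : BigSite.PropC f) :
    (EtDesc.pushSh f).ReflectsMonomorphisms := by
  constructor
  intro F G φ hφ
  apply Sheaf.mono_of_injective
  intro U s t hst
  obtain ⟨V, v, hv, h, hh, hs⟩ := hC U.unop.left U.unop.hom
  have hcov := cover_of_surj (kMor f U.unop V v h hh) (kMor_surj f U.unop V v h hh hs)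
  apply inj_of_cover F _ hcov
  have := inj_of_mono ((EtDesc.pushSh f).map φ) (op (Scheme.Etale.mk v))
  apply this
  have n1 := NatTrans.naturality_apply φ.hom (kMor f U.unop V v h hh).op s
  have n2 := NatTrans.naturality_apply φ.hom (kMor f U.unop V v h hh).op t
  exact n1.trans ((congrArg _ hst).trans n2.symm)



theorem reflEpi {X Y : Scheme.{u}} (f : X ⟶ Y) (hC : BigSite.PropC f) :
    (EtDesc.pushSh f).ReflectsEpimorphisms := by
  constructor
  intro F G φ hφ
  rw [← Sheaf.isLocallySurjective_iff_epi] at hφ ⊢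
  constructor
  intro U t
  obtain ⟨V, v, hv, h, hh, hs⟩ := hC U.left U.hom
  have hcov := cover_of_surj (kMor f U V v h hh) (kMor_surj f U V v h hh hs)
  apply X.smallEtaleTopology.transitive hcov
  set k := kMor f U V v h hh
  have hS := Presheaf.imageSieve_mem Y.smallEtaleTopology ((EtDesc.pushSh f).map φ).hom
    (U := op (Scheme.Etale.mk v)) (G.obj.map k.op t)
  have hS' := (EtCoh.coverPreserving_bc f).cover_preserve hS
  rintro Z g ⟨Z', a, b, hb, rfl⟩
  cases hb
  rw [Sieve.pullback_comp]
  apply X.smallEtaleTopology.pullback_stable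
  rw [Presheaf.pullback_imageSieve]
  refine X.smallEtaleTopology.superset_covering ?_ hS'
  rintro W g ⟨V'', b, a, ⟨s, hs⟩, rfl⟩
  refine ⟨F.obj.map a.op s, ?_⟩
  have n1 := NatTrans.naturality_apply φ.hom a.op s
  refine n1.trans ?_
  have hs2 : φ.hom.app (op ((EtCoh.bc f).obj V'')) s =
    G.obj.map ((EtCoh.bc f).map b).op (G.obj.map k.op t) := hs
  refine (congrArg _ hs2).trans ?_
  rw [op_comp, Functor.map_comp]
  rfl



/-- Let f : X ⟶ Y be a morphism of schemes satisfying condition (C) (for every etale U ⟶ X there are an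
etale V ⟶ Y and a surjective X-morphism X ×_Y V ⟶ U). Then the direct image of sheaves of sets on
the small etale sites along f reflects monomorphisms and epimorphisms. -/
theorem result {X Y : Scheme.{u}} (f : X ⟶ Y) (hC : BigSite.PropC f) :
    (EtDesc.pushSh f).ReflectsMonomorphisms ∧ (EtDesc.pushSh f).ReflectsEpimorphisms := by
  exact ⟨reflMono f hC, reflEpi f hC⟩

end Groth.Agent.S6631
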