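import Groth.Statements.S6636
import Groth.Agent.Lib.Helper70.BigClosedImm
import Groth.Agent.Lib.Helper70.AlmostCocont

set_option autoImplicit false
open CategoryTheory CategoryTheory.Limits AlgebraicGeometry Opposite
universe u
open BigSite

namespace Groth.Agent.S6636

/-- For the etale and the smooth topologies: for a closed immersion of schemes f : X ⟶ Y the big direct
image along f preserves coequalizers and pushouts of sheaves of sets, and preserves finite colimits
of abelian sheaves (so it is exact there, being a right adjoint). (The published statement also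
covers the syntomic topology; this row treats the etale and smooth topologies only.) -/
theorem result {X Y : Scheme.{u}} (f : X ⟶ Y) [IsClosedImmersion f]
    (K : Precoverage Scheme.{u}) (hK : K = Scheme.etalePrecoverage ∨ K = Scheme.precoverage @Smooth) :
    PreservesColimitsOfShape WalkingParallelPair (BigSite.pushBig K f (Type (u + 1))) ∧
      PreservesColimitsOfShape WalkingSpan (BigSite.pushBig K f (Type (u + 1))) ∧
      PreservesFiniteColimits (BigSite.pushBig K f AddCommGrpCat.{u + 1}) := by
  have hu := Groth.Agent.Lib.Helper70.BigClosedImm.isAlmostCocontinuous f K hK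
  refine ⟨?_, ?_, ?_⟩
  · exact Groth.Agent.Lib.Helper70.AlmostCocont.preservesColimitsOfShape_of_isConnected
      (QuotSh.J K Y) (QuotSh.J K X) (Over.pullback f) hu WalkingParallelPair
  · exact Groth.Agent.Lib.Helper70.AlmostCocont.preservesColimitsOfShape_of_isConnected
      (QuotSh.J K Y) (QuotSh.J K X) (Over.pullback f) hu WalkingSpan
  · haveI : (BigSite.pushBig K f AddCommGrpCat.{u + 1}).IsRightAdjoint :=
      (BigSite.bigAdj K f AddCommGrpCat.{u + 1}).isRightAdjoint
    exact Groth.Agent.Lib.Helper70.AlmostCocont.preservesFiniteColimits_ab
      (QuotSh.J K Y) (QuotSh.J K X) (Over.pullback f) hu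

end Groth.Agent.S6636
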