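import Groth.Statements.S6637
-- import your own Groth.Agent.* helpers here

set_option autoImplicit false
open CategoryTheory CategoryTheory.Limits AlgebraicGeometry Opposite
universe u
open BigSite

namespace Groth.Agent.S6637

/-- For a monomorphism `f`, the unit of `Over.map f ⊣ Over.pullback f` is an isomorphism. -/
theorem unit_iso {X Y : Scheme.{u}} (f : X ⟶ Y) [Mono f] (U : Over X) :
    IsIso ((Over.mapPullbackAdj f).unit.app U) := by
  have : IsIso ((Over.forget X).map ((Over.mapPullbackAdj f).unit.app U)) := by
    refine ⟨pullback.fst _ _, ?_, ?_⟩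
    · simp only [Over.mapPullbackAdj_unit_app, Over.forget_map, Over.homMk_left]
      exact pullback.lift_fst _ _ _
    · simp only [Over.mapPullbackAdj_unit_app, Over.forget_map, Over.homMk_left]
      apply pullback.hom_ext
      · erw [Category.assoc, pullback.lift_fst]; simp
      · rw [← cancel_mono f]
        erw [Category.assoc, Category.assoc, pullback.lift_snd_assoc, Category.id_comp,
          ← pullback.condition]
        simp
  exact isIso_of_reflects_iso _ (Over.forget X)

universe v₁ v₂ v₃ u₁ u₂ u₃

/-- If the unit of an adjunction of continuous functors is an isomorphism, so is the counit of the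
induced adjunction on sheaves. -/
theorem counit_iso {C : Type u₁} [Category.{v₁} C] {D : Type u₂} [Category.{v₂} D]
    {E : Type u₃} [Category.{v₃} E]
    {F : C ⥤ D} {G : D ⥤ C} (adj : F ⊣ G)
    (J : GrothendieckTopology C) (K : GrothendieckTopology D) [F.IsContinuous J K]
    [G.IsContinuous K J] (hu : ∀ c, IsIso (adj.unit.app c)) (P : Sheaf J E) :
    IsIso ((adj.sheafPushforwardContinuous (E := E) J K).counit.app P) := by
  have : IsIso ((sheafToPresheaf J E).map
      ((adj.sheafPushforwardContinuous (E := E) J K).counit.app P)) := by
    rw [NatTrans.isIso_iff_isIso_app]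
    intro c
    have h1 : IsIso (adj.unit.app (unop c)) := hu (unop c)
    have h2 : IsIso (adj.unit.app (unop c)).op := isIso_op _
    simp
    exact Functor.map_isIso P.obj _
  exact isIso_of_reflects_iso _ (sheafToPresheaf J E)

/-- For the Zariski, etale, smooth and fppf topologies: for a monomorphism of schemes f : X ⟶ Y the
counit f_big⁻¹ f_big,* F ⟶ F is an isomorphism for every sheaf of sets F on the big site of X, and
for every abelian sheaf. (The published statement also covers the syntomic topology; this row treats
the Zariski, etale, smooth and fppf topologies only.) -/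
theorem result {X Y : Scheme.{u}} (f : X ⟶ Y) [Mono f]
    (K : Precoverage Scheme.{u}) (hK : K = Scheme.zariskiPrecoverage ∨ K = Scheme.etalePrecoverage ∨
      K = Scheme.precoverage @Smooth ∨ K = Scheme.fppfPrecoverage) :
    (∀ F : QuotSh.Sh K X, IsIso ((BigSite.bigAdj K f (Type (u + 1))).counit.app F)) ∧
      (∀ F : BigSite.Ab K X, IsIso ((BigSite.bigAdj K f AddCommGrpCat.{u + 1}).counit.app F)) := by
  exact ⟨fun F => counit_iso _ _ _ (unit_iso f) F, fun F => counit_iso _ _ _ (unit_iso f) F⟩

end Groth.Agent.S6637
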