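import Groth.Statements.S6639
import Mathlib

set_option autoImplicit false
universe u
open scoped TensorProduct
open EtBase

open Polynomial

namespace Groth.Agent.S6639

/-- solutions in `k'` of a `p`-linear system with coefficients in an algebraically closed subfield `k`
already lie in `k` -/
theorem mem_range_of_frobenius_system {k k' : Type*} [Field k] [IsAlgClosed k] [Field k'] [Algebra k k']
    (p : ℕ) [hp : Fact p.Prime] [CharP k p] {n : ℕ} (a : Fin n → Fin n → k) (x : Fin n → k')
    (hx : ∀ i, x i = ∑ j, algebraMap k k' (a i j) * x j ^ p) (i : Fin n) :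
    x i ∈ Set.range (algebraMap k k') := by
  classical
  have : CharP k' p := charP_of_injective_algebraMap (algebraMap k k').injective p
  let S : ℕ → Submodule k k' := fun m => Submodule.span k (Set.range fun j => x j ^ p ^ m)
  have hS : ∀ m, S m ≤ S (m + 1) := by
    intro m
    rw [Submodule.span_le]
    rintro _ ⟨j, rfl⟩
    change x j ^ p ^ m ∈ S (m + 1)
    rw [hx j, sum_pow_char_pow]
    refine Submodule.sum_mem _ fun l _ => ?_
    rw [mul_pow, ← map_pow, ← pow_mul, ← pow_succ', ← Algebra.smul_def]
    exact Submodule.smul_mem _ _ (Submodule.subset_span ⟨l, rfl⟩)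
  have hmono : Monotone S := monotone_nat_of_le_succ hS
  have hmem : ∀ m : Fin (n + 1), x i ^ p ^ (m : ℕ) ∈ S n := fun m =>
    hmono (Nat.lt_succ_iff.mp m.2) (Submodule.subset_span ⟨i, rfl⟩)
  -- linear dependence
  have hdep : ¬ LinearIndependent k (fun m : Fin (n + 1) => x i ^ p ^ (m : ℕ)) := by
    intro hli
    have h1 := linearIndependent_le_span' _ hli (Set.range fun j => x j ^ p ^ n) (by
      rintro _ ⟨m, rfl⟩
      exact hmem m)
    rw [Cardinal.mk_fintype, Fintype.card_fin, Nat.cast_le] at h1
    have h2 : Fintype.card (Set.range fun j => x j ^ p ^ n) ≤ n := by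
      have := Fintype.card_range_le (fun j : Fin n => x j ^ p ^ n)
      rwa [Fintype.card_fin] at this
    omega
  rw [Fintype.not_linearIndependent_iff] at hdep
  obtain ⟨g, hg, m₀, hm₀⟩ := hdep
  let P : k[X] := ∑ m : Fin (n + 1), C (g m) * X ^ p ^ (m : ℕ)
  have hP0 : P ≠ 0 := by
    intro h0
    have := congrArg (fun Q : k[X] => Q.coeff (p ^ (m₀ : ℕ))) h0
    simp only [P, finsetSum_coeff, coeff_C_mul, coeff_X_pow, coeff_zero] at this
    rw [Finset.sum_eq_single m₀] at this
    · simp at this
      exact hm₀ this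
    · intro b _ hb
      rw [if_neg, mul_zero]
      intro h
      exact hb (Fin.ext (Nat.pow_right_injective hp.out.two_le h)).symm
    · intro h; exact absurd (Finset.mem_univ _) h
  have hPx : aeval (x i) P = 0 := by
    simp only [P, map_sum, map_mul, aeval_C, map_pow, aeval_X]
    rw [← hg]
    refine Finset.sum_congr rfl fun m _ => ?_
    rw [Algebra.smul_def]
  have halg : IsAlgebraic k (x i) := ⟨P, hP0, hPx⟩
  have : Algebra.IsAlgebraic k (IntermediateField.adjoin k {x i}) :=
    IntermediateField.isAlgebraic_adjoin_simple halg.isIntegral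
  have hbot := IntermediateField.eq_bot_of_isAlgClosed_of_isAlgebraic (IntermediateField.adjoin k {x i})
  have hxi : x i ∈ IntermediateField.adjoin k {x i} := IntermediateField.mem_adjoin_simple_self k (x i)
  rw [hbot, IntermediateField.mem_bot] at hxi
  exact hxi

end Groth.Agent.S6639

namespace Groth.Agent.S6639

/-- Let k ⟶ k' be a homomorphism of algebraically closed fields of characteristic p > 0 (an extension of
algebraically closed fields), V a finite-dimensional k-vector space, F : V ⟶ V additive with F(c •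
v) = c^p • F(v), and F' the additive endomorphism of V' = k' ⊗_k V satisfying F'(c ⊗ v) = c^p ⊗
F(v). Then v ↦ 1 ⊗ v maps the fixed vectors of F bijectively onto the fixed vectors of F'. -/
theorem result {k k' V : Type u} [Field k] [IsAlgClosed k] [Field k']
    [IsAlgClosed k'] [Algebra k k'] (p : ℕ) [Fact p.Prime] [CharP k p]
    [AddCommGroup V] [Module k V] [FiniteDimensional k V] (F : V →+ V)
    (hF : ∀ (c : k) (v : V), F (c • v) = c ^ p • F v)
    (F' : k' ⊗[k] V →+ k' ⊗[k] V) (hF' : ∀ (c : k') (v : V), F' (c ⊗ₜ[k] v) = (c ^ p) ⊗ₜ[k] F v) :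
    Set.BijOn (fun v : V => (1 : k') ⊗ₜ[k] v) {v : V | F v = v} {w : k' ⊗[k] V | F' w = w} := by
  classical
  set n := Module.finrank k V with hn
  let b : Module.Basis (Fin n) k V := Module.finBasis k V
  let b' : Module.Basis (Fin n) k' (k' ⊗[k] V) := b.baseChange k'
  have hb' : ∀ i, b' i = (1 : k') ⊗ₜ[k] b i := fun i => Module.Basis.baseChange_apply k' b i
  have hinj : Function.Injective (fun v : V => (1 : k') ⊗ₜ[k] v) :=
    Module.FaithfullyFlat.tensorProduct_mk_injective (A := k) (B := k') V
  have hone : ∀ v : V, F' ((1 : k') ⊗ₜ[k] v) = (1 : k') ⊗ₜ[k] F v := by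
    intro v
    rw [hF', one_pow]
  refine ⟨?_, hinj.injOn, ?_⟩
  · intro v hv
    simp only [Set.mem_ofPred_eq] at hv ⊢
    rw [hone, hv]
  · intro w hw
    simp only [Set.mem_ofPred_eq] at hw
    let x : Fin n → k' := fun i => b'.repr w i
    let a : Fin n → Fin n → k := fun i j => b.repr (F (b j)) i
    have hw' : w = ∑ j, x j ⊗ₜ[k] b j := by
      conv_lhs => rw [← b'.sum_repr w]
      refine Finset.sum_congr rfl fun j _ => ?_
      rw [hb', TensorProduct.smul_tmul', smul_eq_mul, mul_one]
    have hFb : ∀ j, F (b j) = ∑ i, a i j • b i := fun j => (b.sum_repr (F (b j))).symm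
    have hFw : F' w = ∑ i, (∑ j, algebraMap k k' (a i j) * x j ^ p) • b' i := by
      conv_lhs => rw [hw', map_sum]
      simp_rw [hF', hFb, TensorProduct.tmul_sum, hb', Finset.sum_smul]
      rw [Finset.sum_comm]
      refine Finset.sum_congr rfl fun i _ => Finset.sum_congr rfl fun j _ => ?_
      rw [TensorProduct.tmul_smul, TensorProduct.smul_tmul', TensorProduct.smul_tmul', smul_eq_mul, mul_one,
        Algebra.smul_def]
    have hx : ∀ i, x i = ∑ j, algebraMap k k' (a i j) * x j ^ p := by
      intro i
      have h1 : b'.repr (F' w) i = ∑ j, algebraMap k k' (a i j) * x j ^ p := by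
        rw [hFw, b'.repr_sum_self]
      rw [← h1, hw]
    choose c hc using fun i => mem_range_of_frobenius_system p a x hx i
    have hv : (1 : k') ⊗ₜ[k] (∑ i, c i • b i) = w := by
      conv_rhs => rw [hw']
      rw [TensorProduct.tmul_sum]
      refine Finset.sum_congr rfl fun i _ => ?_
      rw [TensorProduct.tmul_smul, TensorProduct.smul_tmul', ← hc i, Algebra.smul_def, mul_one]
    refine ⟨∑ i, c i • b i, ?_, hv⟩
    simp only [Set.mem_ofPred_eq]
    apply hinj
    change (1 : k') ⊗ₜ[k] F (∑ i, c i • b i) = (1 : k') ⊗ₜ[k] (∑ i, c i • b i)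
    rw [← hone, hv, hw]

end Groth.Agent.S6639
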