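import Groth.Statements.S6647
import Groth.Agent.Lib.Cohomology.Helper3_LocConst2
-- import your own Groth.Agent.* helpers here

set_option autoImplicit false
open CategoryTheory CategoryTheory.Limits AlgebraicGeometry Opposite
universe u
open EtCore

namespace Groth.Agent.S6647

/-- Let φ : F ⟶ G be a map of locally constant abelian sheaves on the small etale site of a scheme X,
with F finite locally constant. Then on the members of some etale covering of X the restriction of φ
is, up to isomorphisms with constant sheaves on both sides, the map of constant sheaves induced by a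
homomorphism of abelian groups. -/
theorem result {X : Scheme.{u}} (F G : EtCoh.Ab X) (φ : F ⟶ G)
    (hF : EtCoh.IsFiniteLocallyConstant F) (hG : EtRest.IsLocallyConstant G) :
    ∃ (ι : Type u) (U : ι → X.Etale), EtCoh.Covers U ∧ ∀ i, ∃ (M N : Type (u + 1)) (_ : AddCommGroup M) (_ : AddCommGroup N)
      (h : M →+ N)
      (α : EtCoh.restr F (U i) ≅ (constantSheaf (X.smallEtaleTopology.over (U i)) AddCommGrpCat.{u + 1}).obj (AddCommGrpCat.of M))
      (β : EtCoh.restr G (U i) ≅ (constantSheaf (X.smallEtaleTopology.over (U i)) AddCommGrpCat.{u + 1}).obj (AddCommGrpCat.of N)),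
      (X.smallEtaleTopology.overPullback AddCommGrpCat.{u + 1} (U i)).map φ ≫ β.hom = α.hom ≫ (constantSheaf (X.smallEtaleTopology.over (U i)) AddCommGrpCat.{u + 1}).map (AddCommGrpCat.ofHom h) := by
  classical
  obtain ⟨ι₁, U₁, hc₁, hα⟩ := hF
  obtain ⟨ι₂, U₂, hc₂, hβ⟩ := hG
  choose i₁ y₁ hy₁ using hc₁
  choose i₂ y₂ hy₂ using hc₂
  have hW : ∀ x : X, ∃ (W : X.Etale) (_ : W ⟶ U₁ (i₁ x)) (_ : W ⟶ U₂ (i₂ x)) (w : W.left),
      W.hom.base w = x := by
    intro x
    obtain ⟨W, p, q, w, hw⟩ := Groth.Agent.Lib.Cohomology.LocConst.exists_common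
      (U₁ (i₁ x)) (U₂ (i₂ x)) (y₁ x) (y₂ x) ((hy₁ x).trans (hy₂ x).symm)
    exact ⟨W, p, q, w, hw.trans (hy₁ x)⟩
  choose W p q w hw using hW
  choose M₀ iM₀ fM₀ hα' using hα
  choose N₀ iN₀ hβ' using hβ
  -- trivialisations on `W x`
  let αW : ∀ x : X, F.over (W x) ≅ (Groth.Agent.Lib.Cohomology.LocConst.cS X.smallEtaleTopology (W x)).obj
      (AddCommGrpCat.of (ULift.{u + 1} (M₀ (i₁ x)))) := fun x =>
    Groth.Agent.Lib.Cohomology.LocConst.restrTriv X.smallEtaleTopology F (p x) (hα' (i₁ x)).some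
  let βW : ∀ x : X, G.over (W x) ≅ (Groth.Agent.Lib.Cohomology.LocConst.cS X.smallEtaleTopology (W x)).obj
      (AddCommGrpCat.of (N₀ (i₂ x))) := fun x =>
    Groth.Agent.Lib.Cohomology.LocConst.restrTriv X.smallEtaleTopology G (q x) (hβ' (i₂ x)).some
  have key : ∀ (x : X) (w' : (W x).left), ∃ (T : X.Etale) (g : T ⟶ W x) (t : T.left)
      (h : AddCommGrpCat.of (ULift.{u + 1} (M₀ (i₁ x))) ⟶ AddCommGrpCat.of (N₀ (i₂ x))),
      g.left.base t = w' ∧
      (X.smallEtaleTopology.overPullback AddCommGrpCat.{u + 1} T).map φ ≫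
          (Groth.Agent.Lib.Cohomology.LocConst.restrTriv X.smallEtaleTopology G g (βW x)).hom =
        (Groth.Agent.Lib.Cohomology.LocConst.restrTriv X.smallEtaleTopology F g (αW x)).hom ≫
          (Groth.Agent.Lib.Cohomology.LocConst.cS X.smallEtaleTopology T).map h := by
    intro x w'
    haveI : Finite (AddCommGrpCat.of (ULift.{u + 1} (M₀ (i₁ x)))) := by
      haveI := fM₀ (i₁ x)
      change Finite (ULift.{u + 1} (M₀ (i₁ x)))
      infer_instance
    exact Groth.Agent.Lib.Cohomology.LocConst.exists_cover_groupHom φ (W x) (αW x) (βW x) w'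
  choose T g t h hgt hcomm using key
  refine ⟨Σ x : X, (W x).left, fun i => T i.1 i.2, ?_, ?_⟩
  · intro x
    refine ⟨⟨x, w x⟩, t x (w x), ?_⟩
    have h1 : (g x (w x)).left ≫ (W x).hom = (T x (w x)).hom := CategoryTheory.Over.w (g x (w x)).toCommaMorphism
    rw [← h1, Scheme.Hom.comp_base, TopCat.comp_app, hgt, hw]
  · rintro ⟨x, w'⟩
    exact ⟨ULift.{u + 1} (M₀ (i₁ x)), N₀ (i₂ x), inferInstance, inferInstance, (h x w').hom,
      Groth.Agent.Lib.Cohomology.LocConst.restrTriv X.smallEtaleTopology F (g x w') (αW x),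
      Groth.Agent.Lib.Cohomology.LocConst.restrTriv X.smallEtaleTopology G (g x w') (βW x),
      hcomm x w'⟩

end Groth.Agent.S6647
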