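import Groth.Statements.S6649
import Mathlib
import Groth.Agent.S0212
import Groth.Agent.S0214
import Groth.Agent.Lib.Helper73.DimField

set_option autoImplicit false
set_option linter.style.haveILetI false
open CategoryTheory CategoryTheory.Limits AlgebraicGeometry Opposite
universe u
open Curves

namespace Groth.Agent.S6649

theorem ringKrullDim_le (X : Scheme.{u}) (U : X.affineOpens) :
    ringKrullDim Γ(X, U) ≤ topologicalKrullDim X := by
  rw [← PrimeSpectrum.topologicalKrullDim_eq_ringKrullDim Γ(X, U)]
  change topologicalKrullDim (Spec Γ(X, U)) ≤ _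
  rw [← IsHomeomorph.topologicalKrullDim_eq _ U.2.isoSpec.hom.homeomorph.isHomeomorph]
  exact topologicalKrullDim_subspace_le X U

/-- For a curve C over an algebraically closed field k (C integral of dimension one, separated and of
finite type over k) the Brauer group of the function field of C is zero: every finite-dimensional
central division algebra over the function field has dimension one. -/
theorem result (k : Type u) [Field k] [IsAlgClosed k] (C : Scheme.{u})
    (f : C ⟶ Spec (CommRingCat.of k)) [IsSeparated f] [LocallyOfFiniteType f] [QuasiCompact f] [IsIntegral C]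
    (hdim : topologicalKrullDim ↥C = 1)
    (D : Type u) [DivisionRing D] [Algebra ↑C.functionField D] [Algebra.IsCentral ↑C.functionField D]
    [FiniteDimensional ↑C.functionField D] : Module.finrank ↑C.functionField D = 1 := by
  classical
  -- a nonempty affine open
  obtain ⟨x⟩ : Nonempty C := inferInstance
  obtain ⟨_, ⟨U, hU : IsAffineOpen U, rfl⟩, hxU, -⟩ :=
    C.isBasis_affineOpens.exists_subset_of_mem_open (Set.mem_univ x) isOpen_univ
  haveI : Nonempty U := ⟨⟨x, hxU⟩⟩
  -- the `k`-algebra structure on `Γ(C, U)` and on the function field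
  let φ₀ : k →+* Γ(C, U) :=
    (f.appLE ⊤ U le_top).hom.comp (Scheme.ΓSpecIso (CommRingCat.of k)).inv.hom
  have hφ₀ : φ₀.FiniteType := by
    have h1 : (f.appLE ⊤ U le_top).hom.FiniteType :=
      HasRingHomProperty.appLE @LocallyOfFiniteType f inferInstance
        ⟨⊤, isAffineOpen_top _⟩ ⟨U, hU⟩ le_top
    have h2 : (Scheme.ΓSpecIso (CommRingCat.of k)).inv.hom.FiniteType :=
      RingHom.FiniteType.of_surjective _
        (Scheme.ΓSpecIso (CommRingCat.of k)).symm.commRingCatIsoToRingEquiv.surjective
    exact h1.comp h2
  letI : Algebra k Γ(C, U) := φ₀.toAlgebra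
  haveI : Algebra.FiniteType k Γ(C, U) := hφ₀
  letI : Algebra k C.functionField := ((algebraMap Γ(C, U) C.functionField).comp φ₀).toAlgebra
  haveI : IsScalarTower k Γ(C, U) C.functionField := IsScalarTower.of_algebraMap_eq (fun _ => rfl)
  haveI := functionField_isFractionRing_of_isAffineOpen C U hU
  -- transcendence degree
  obtain ⟨n, hn1, hn2, -, -⟩ :=
    Groth.Agent.Lib.Helper73.DimFormula.exists_trdeg_eq_ringKrullDim k Γ(C, U)
  have hnle : n ≤ 1 := by
    have := ringKrullDim_le C ⟨U, hU⟩
    rw [hn2, hdim] at this
    exact_mod_cast this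
  have htr : Algebra.trdeg k C.functionField = n := by
    rw [← hn1]
    haveI : Algebra.IsAlgebraic Γ(C, U) C.functionField :=
      IsLocalization.isAlgebraic C.functionField (nonZeroDivisors Γ(C, U))
    exact Groth.Agent.Lib.Helper73.DimFormula.trdeg_eq_of_isAlgebraic_top k
  have hCi := Groth.Agent.S0212.result k C.functionField n htr
  have hCr : Curves.IsCr C.functionField 1 := by
    intro N d g hg hd hlt
    obtain ⟨a, ha, hz⟩ := hCi 1 N (fun _ => g) (fun _ => d) (fun _ => hg) (fun _ => hd) (by
      simp only [Finset.univ_unique, Finset.sum_const, Finset.card_singleton, one_smul]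
      calc d ^ n ≤ d ^ 1 := Nat.pow_le_pow_right hd hnle
        _ < N := hlt)
    exact ⟨a, ha, hz 0⟩
  exact Groth.Agent.S0214.result _ hCr D

end Groth.Agent.S6649
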