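import Groth.Statements.S6655
import Groth.Agent.Lib.Cohomology.Helper3_LocConstMod2
import Groth.Agent.Lib.Cohomology.Helper3_LocConst4
-- import your own Groth.Agent.* helpers here

set_option autoImplicit false
open CategoryTheory CategoryTheory.Limits AlgebraicGeometry Opposite
universe u
open EtModW

namespace Groth.Agent.S6655

/-- Part (3): with both sheaves of finite type: let Λ be a commutative ring and φ : F ⟶ G a map of
finite type locally constant sheaves of Λ-modules on the small etale site of a scheme X. Then on the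
members of some etale covering of X the restriction of φ is, up to isomorphisms with constant
sheaves on both sides, the map of constant sheaves induced by a Λ-linear map. (The published
statement allows G to be any locally constant sheaf of Λ-modules; this row assumes G of finite type
as well.) -/
theorem result (Λ : Type (u + 1)) [CommRing Λ] {X : Scheme.{u}} (F G : EtModW.Mod Λ X)
    (φ : F ⟶ G) (hF : EtModW.IsFTLocConst Λ F) (hG : EtModW.IsFTLocConst Λ G) :
    ∃ (ι : Type u) (U : ι → X.Etale), EtCoh.Covers U ∧ ∀ i, ∃ (M N : Type (u + 1)) (_ : AddCommGroup M) (_ : AddCommGroup N)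
      (_ : Module Λ M) (_ : Module Λ N) (h : M →ₗ[Λ] N)
      (α : EtModW.restr Λ F (U i) ≅ (constantSheaf (X.smallEtaleTopology.over (U i)) (ModuleCat.{u + 1} Λ)).obj (ModuleCat.of Λ M))
      (β : EtModW.restr Λ G (U i) ≅ (constantSheaf (X.smallEtaleTopology.over (U i)) (ModuleCat.{u + 1} Λ)).obj (ModuleCat.of Λ N)),
      (X.smallEtaleTopology.overPullback (ModuleCat.{u + 1} Λ) (U i)).map φ ≫ β.hom =
        α.hom ≫ (constantSheaf (X.smallEtaleTopology.over (U i)) (ModuleCat.{u + 1} Λ)).map (ModuleCat.ofHom h) := by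
  classical
  have key : ∀ x : X, ∃ (T : X.Etale) (t : T.left) (M N : ModuleCat.{u + 1} Λ) (h : M ⟶ N)
      (α : F.over T ≅ (Groth.Agent.Lib.Cohomology.LocConstMod.cS X.smallEtaleTopology T).obj M)
      (β : G.over T ≅ (Groth.Agent.Lib.Cohomology.LocConstMod.cS X.smallEtaleTopology T).obj N),
      T.hom.base t = x ∧
      (X.smallEtaleTopology.overPullback (ModuleCat.{u + 1} Λ) T).map φ ≫ β.hom =
        α.hom ≫ (Groth.Agent.Lib.Cohomology.LocConstMod.cS X.smallEtaleTopology T).map h := by
    intro x
    obtain ⟨W, w, M, N, fM, fN, hw, ⟨α⟩, ⟨β⟩⟩ :=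
      Groth.Agent.Lib.Cohomology.LocConstMod.exists_common_triv hF hG x
    obtain ⟨T, g, t, h, ht, hc⟩ :=
      Groth.Agent.Lib.Cohomology.LocConstMod.exists_cover_linearMap φ W α β w
    exact ⟨T, t, M, N, h, _, _,
      (Groth.Agent.Lib.Cohomology.LocConst.hom_base_of_hom g t).trans ((congrArg _ ht).trans hw), hc⟩
  choose T t M N h α β ht hc using key
  refine ⟨X, T, fun x => ⟨x, t x, ht x⟩, fun x => ?_⟩
  exact ⟨M x, N x, inferInstance, inferInstance, inferInstance, inferInstance, (h x).hom,
    α x, β x, hc x⟩

end Groth.Agent.S6655
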