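import Groth.Statements.S6659
import Groth.Agent.Lib.Helper34.ExactAdjDer
import Groth.Agent.Lib.Helper34.EtOpenZero
import Groth.Agent.S0067
import Groth.Agent.S0068
import Groth.Agent.S0101

set_option autoImplicit false
universe u
open CategoryTheory CategoryTheory.Limits AlgebraicGeometry Opposite
attribute [local instance] HasDerivedCategory.standard
open EtDual

namespace Groth.Agent.S6659

/-- Let i : Z → X be a closed immersion of schemes with open complement j : U → X. The direct image i_*
of abelian etale sheaves is exact (its right exactness is carried as an instance hypothesis), and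
the induced functor D(Z_et) → D(X_et) is fully faithful; an object K of D(X_et) lies in its
essential image if and only if every cohomology sheaf of K has zero restriction to U, i.e. K has
cohomology sheaves supported on Z. (The identification of the quasi-inverse with the derived functor
of sections supported on Z is not part of this row.) -/
theorem result {Z X U : Scheme.{u}} (i : Z ⟶ X)
    [IsClosedImmersion i] (j : U ⟶ X) [IsOpenImmersion j] (hZU : Set.range j = (Set.range i)ᶜ)
    [PreservesFiniteColimits (EtCoh.push i)] :
    ((EtCoh.push i).mapDerivedCategory.Full ∧ (EtCoh.push i).mapDerivedCategory.Faithful) ∧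
      ∀ K : DCoh.DEt X,
        (EtCoh.push i).mapDerivedCategory.essImage K ↔
          ∀ n : ℤ, IsZero ((EtCoh.pull j).obj (DCoh.HDEt K n)) := by
  open Groth.Agent.Lib.Helper34 in
  obtain ⟨hfull, hfaith⟩ := Groth.Agent.S0067.result i
  haveI : PreservesFiniteLimits (EtCoh.pull i) := Groth.Agent.S0101.result i
  haveI : PreservesFiniteColimits (EtCoh.pull i) := by
    have : PreservesColimitsOfSize.{0, 0} (EtCoh.pull i) :=
      (EtCoh.pullPushAdj i).leftAdjoint_preservesColimits
    infer_instance
  haveI : PreservesFiniteLimits (EtCoh.push i) := by
    have : PreservesLimitsOfSize.{0, 0} (EtCoh.push i) :=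
      (EtCoh.pullPushAdj i).rightAdjoint_preservesLimits
    infer_instance
  haveI : (EtCoh.pull i).Additive := (EtCoh.pullPushAdj i).left_adjoint_additive
  have hc : ∀ Y : EtCoh.Ab Z, IsIso ((EtCoh.pullPushAdj i).counit.app Y) := fun Y => inferInstance
  have ff := ExactAdjDer.fullyFaithfulMapDerivedCategory (EtCoh.pullPushAdj i) hc
  refine ⟨⟨ff.full, ff.faithful⟩, fun K => ?_⟩
  have hrange : Set.range j.base = (Set.range i.base)ᶜ := hZU
  have key : ∀ F : EtCoh.Ab X, (EtCoh.push i).essImage F ↔ IsZero ((EtCoh.pull j).obj F) := by
    intro F
    rw [Groth.Agent.S0068.result i F, EtOpenZero.isZero_pull_iff j F]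
    constructor
    · intro h U' hU'
      apply h U'
      rw [Set.disjoint_iff]
      rintro x ⟨hx1, hx2⟩
      have := hU' hx1
      rw [hrange] at this
      exact this hx2
    · intro h U' hU'
      apply h U'
      intro x hx
      rw [hrange]
      intro hx2
      exact (Set.disjoint_iff.1 hU') ⟨hx, hx2⟩
  constructor
  · intro hK n
    rw [← key]
    exact ExactAdjDer.essImage_homology_of_essImage (EtCoh.pullPushAdj i) K hK n
  · intro hK
    apply ExactAdjDer.essImage_of_essImage_homology (EtCoh.pullPushAdj i) K
    intro n
    rw [key]
    exact hK n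

end Groth.Agent.S6659
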