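import Groth.Statements.S6687
import Groth.Agent.S6184
import Groth.Agent.S6185
import Groth.Agent.Lib.Helper43.BigSmallBC

set_option autoImplicit false
universe u
open CategoryTheory CategoryTheory.Limits AlgebraicGeometry Opposite
open BigSite

namespace Groth.Agent.S6687

section ExtIso

open Abelian

variable {𝒜 : Type*} [Category 𝒜] [Abelian 𝒜] [HasExt.{u + 1} 𝒜]

/-- `Ext` is invariant under isomorphism in the second variable. -/
noncomputable def extIsoRight (Z : 𝒜) {F F' : 𝒜} (e : F ≅ F') (n : ℕ) :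
    Ext.{u + 1} Z F n ≃+ Ext.{u + 1} Z F' n where
  toFun x := x.comp (Ext.mk₀ e.hom) (add_zero n)
  invFun y := y.comp (Ext.mk₀ e.inv) (add_zero n)
  left_inv x := by
    show (x.comp (Ext.mk₀ e.hom) (add_zero n)).comp (Ext.mk₀ e.inv) (add_zero n) = x
    rw [Ext.comp_assoc_of_third_deg_zero, Ext.mk₀_comp_mk₀, e.hom_inv_id, Ext.comp_mk₀_id]
  right_inv y := by
    show (y.comp (Ext.mk₀ e.inv) (add_zero n)).comp (Ext.mk₀ e.hom) (add_zero n) = y
    rw [Ext.comp_assoc_of_third_deg_zero, Ext.mk₀_comp_mk₀, e.inv_hom_id, Ext.comp_mk₀_id]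
  map_add' x y := Ext.add_comp _ _ _ _

end ExtIso

/-- Let f : T → S be a morphism of schemes, F an abelian sheaf on the small etale site of S and n ≥ 0.
Write π_S⁻¹ F for the pullback of F to the big etale site of S. Then the cohomology of π_S⁻¹ F over
the object (T → S) of the big site is isomorphic to H^n(T_et, f⁻¹ F). (Existence of an isomorphism
of abelian groups only; the published statement identifies the two through the restriction of π_S⁻¹
F to the small etale site of T, which is f⁻¹ F.) -/
theorem result {T S : Scheme.{u}} (f : T ⟶ S) (n : ℕ) (F : EtCoh.Ab S) :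
    Nonempty (BigSite.HU Scheme.etalePrecoverage ((BigSite.piEtPull Scheme.etalePrecoverage S).obj F) n (Over.mk f) ≃+
      EtCoh.H T ((EtCoh.pull f).obj F) n) := by
  -- left adjoints of isomorphic right adjoints
  let adj1 : BigSite.piEtPull Scheme.etalePrecoverage S ⋙
      BigSite.pullBig Scheme.etalePrecoverage f AddCommGrpCat.{u + 1} ⊣
      BigSite.pushBig Scheme.etalePrecoverage f AddCommGrpCat.{u + 1} ⋙
        BigSite.resEt Scheme.etalePrecoverage S :=
    (BigSite.piEtAdj Scheme.etalePrecoverage S).comp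
      (BigSite.bigAdj Scheme.etalePrecoverage f AddCommGrpCat.{u + 1})
  let adj2 : EtCoh.pull f ⋙ BigSite.piEtPull Scheme.etalePrecoverage T ⊣
      BigSite.resEt Scheme.etalePrecoverage T ⋙ EtCoh.push f :=
    (EtCoh.pullPushAdj f).comp (BigSite.piEtAdj Scheme.etalePrecoverage T)
  let eL : BigSite.piEtPull Scheme.etalePrecoverage S ⋙
      BigSite.pullBig Scheme.etalePrecoverage f AddCommGrpCat.{u + 1} ≅
      EtCoh.pull f ⋙ BigSite.piEtPull Scheme.etalePrecoverage T :=
    (adj1.ofNatIsoRight
      (Groth.Agent.Lib.Helper43.BigSmallBC.pushResIso Scheme.etalePrecoverage f)).leftAdjointUniq adj2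
  let G : EtCoh.Ab T := (EtCoh.pull f).obj F
  obtain ⟨e3⟩ := Groth.Agent.S6185.result T
    ((BigSite.piEtPull Scheme.etalePrecoverage T).obj G) n
  haveI := (Groth.Agent.S6184.result T).2 G
  let eU : G ≅ (BigSite.resEt Scheme.etalePrecoverage T).obj
      ((BigSite.piEtPull Scheme.etalePrecoverage T).obj G) :=
    asIso ((BigSite.piEtAdj Scheme.etalePrecoverage T).unit.app G)
  exact ⟨(extIsoRight _ (eL.app F) n).trans (e3.symm.trans (extIsoRight _ eU.symm n))⟩

end Groth.Agent.S6687
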