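import Groth.Statements.S6707
import Groth.Agent.Lib.Helper34.Efface
-- import your own Groth.Agent.* helpers here

set_option autoImplicit false
universe w v u
open CategoryTheory
open DEquiv

namespace Groth.Agent.S6707

open CategoryTheory.Limits in
/-- Let A be an abelian category in which every object X is the target of an epimorphism N ⟶ X with
Hom(X, N) = 0. Let f : X ⟶ X' be a morphism between bounded objects of D(A) and b an integer with
H^i(X) = 0 for i > b and H^i(X') = 0 for i ≥ b. Then there exist an object N of A and a morphism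
N⟦-b⟧ ⟶ X (N placed in degree b) inducing an epimorphism N ⟶ H^b(X), with Hom(H^b(X), N) = 0, and
whose composite with f is zero. -/
theorem result
    {A : Type u} [Category.{v} A] [Abelian A] [HasDerivedCategory.{w} A]
    (hneg : ∀ X : A, ∃ (N : A) (p : N ⟶ X), Epi p ∧ ∀ f : X ⟶ N, f = 0)
    (X X' : DerivedCategory A) (f : X ⟶ X') (a b a' : ℤ) [X.IsGE a] [X.IsLE b] [X'.IsGE a']
    [X'.IsLE (b - 1)] :
    ∃ (N : A) (g : (DerivedCategory.singleFunctor A b).obj N ⟶ X),
      Epi ((DerivedCategory.homologyFunctor A b).map g) ∧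
        (∀ φ : (DerivedCategory.homologyFunctor A b).obj X ⟶ N, φ = 0) ∧ g ≫ f = 0 := by
  obtain ⟨N₀, g₀, hg₀, hg₀f⟩ := Groth.Agent.Lib.Helper34.Efface.exists_singleFunctor_efface X X' f b
  obtain ⟨N, p, hp, hN⟩ := hneg N₀
  let e := DerivedCategory.singleFunctorCompHomologyFunctorIso A b
  have hH : Epi ((DerivedCategory.homologyFunctor A b).map
      ((DerivedCategory.singleFunctor A b).map p)) := by
    have nat := e.hom.naturality p
    have h1 : Epi (e.hom.app N ≫ p) := epi_comp' inferInstance hp
    have h2 : Epi ((DerivedCategory.homologyFunctor A b).map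
        ((DerivedCategory.singleFunctor A b).map p) ≫ e.hom.app N₀) := by
      have : (DerivedCategory.homologyFunctor A b).map
          ((DerivedCategory.singleFunctor A b).map p) ≫ e.hom.app N₀ = e.hom.app N ≫ p := nat
      rw [this]; exact h1
    have h3 := epi_comp' h2 (inferInstance : Epi (e.inv.app N₀))
    rw [Category.assoc, Iso.hom_inv_id_app] at h3
    erw [Category.comp_id] at h3
    exact h3
  refine ⟨N, (DerivedCategory.singleFunctor A b).map p ≫ g₀, ?_, ?_, ?_⟩
  · rw [Functor.map_comp]
    exact epi_comp' hH hg₀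
  · intro φ
    have h0 := hN (e.inv.app N₀ ≫ (DerivedCategory.homologyFunctor A b).map g₀ ≫ φ)
    rw [← cancel_epi ((DerivedCategory.homologyFunctor A b).map g₀), comp_zero,
      ← cancel_epi (e.inv.app N₀), comp_zero]
    exact h0
  · rw [Category.assoc, hg₀f, comp_zero]

end Groth.Agent.S6707
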