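import Groth.Statements.S6708
import Mathlib.CategoryTheory.Triangulated.Pretriangulated
-- import your own Groth.Agent.* helpers here

set_option autoImplicit false
universe v u
open CategoryTheory
open DEquiv

namespace Groth.Agent.S6708

open CategoryTheory.Limits CategoryTheory.Pretriangulated in
/-- Let D be a pretriangulated category, D' ⊆ D a full triangulated subcategory (given as a property of
objects that is triangulated in Mathlib's sense) and X an object of D. Then the category of arrows E
⟶ X with E in D' is filtered. -/
theorem result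
    {D : Type u} [Category.{v} D] [Preadditive D] [HasZeroObject D] [HasShift D ℤ]
    [∀ n : ℤ, (shiftFunctor D n).Additive] [Pretriangulated D]
    (P : ObjectProperty D) [P.IsTriangulated] (X : D) :
    IsFiltered (CostructuredArrow P.ι X) := by
  have hne : Nonempty (CostructuredArrow P.ι X) := by
    obtain ⟨Z, hZ, hPZ⟩ := P.exists_prop_of_containsZero
    exact ⟨CostructuredArrow.mk (Y := (⟨Z, hPZ⟩ : P.FullSubcategory)) (hZ.to_ X)⟩
  have : IsFilteredOrEmpty (CostructuredArrow P.ι X) := by
    constructor
    · -- cocone on two objects: the biproduct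
      intro a b
      obtain ⟨Y, hY, ⟨e'⟩⟩ := P.ext_of_isTriangulatedClosed₂' _
        (binaryBiproductTriangle_distinguished a.left.obj b.left.obj) a.left.property b.left.property
      let e : a.left.obj ⊞ b.left.obj ≅ Y := e'
      -- e : a.left.obj ⊞ b.left.obj ≅ Y
      refine ⟨CostructuredArrow.mk (Y := (⟨Y, hY⟩ : P.FullSubcategory))
        (e.inv ≫ biprod.desc a.hom b.hom),
        CostructuredArrow.homMk (ObjectProperty.homMk (biprod.inl ≫ e.hom)) ?_,
        CostructuredArrow.homMk (ObjectProperty.homMk (biprod.inr ≫ e.hom)) ?_, trivial⟩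
      · simp
      · simp
    · -- cocone on two parallel maps: the cone of the difference
      intro a b f g
      obtain ⟨Z, c, d, hT⟩ := distinguished_cocone_triangle (f.left.hom - g.left.hom)
      obtain ⟨Y, hY, ⟨e'⟩⟩ := P.ext_of_isTriangulatedClosed₃' _ hT a.left.property b.left.property
      let e : Z ≅ Y := e'
      have hfg : (f.left.hom - g.left.hom) ≫ b.hom = 0 := by
        have h1 := CostructuredArrow.w f
        have h2 := CostructuredArrow.w g
        simp only [ObjectProperty.ι_map] at h1 h2
        rw [Preadditive.sub_comp, h1, h2, sub_self]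
      obtain ⟨k', hk'⟩ := Triangle.yoneda_exact₂ _ hT b.hom hfg
      let k : Z ⟶ X := k'
      have hk : b.hom = c ≫ k := hk'
      refine ⟨CostructuredArrow.mk (Y := (⟨Y, hY⟩ : P.FullSubcategory)) (e.inv ≫ k),
        CostructuredArrow.homMk (ObjectProperty.homMk (c ≫ e.hom)) ?_, ?_⟩
      · simp [hk]
      · ext
        have h0 : (f.left.hom - g.left.hom) ≫ c = 0 := comp_distTriang_mor_zero₁₂ _ hT
        rw [Preadditive.sub_comp, sub_eq_zero] at h0
        simp [reassoc_of% h0]
  exact { nonempty := hne }

end Groth.Agent.S6708
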