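import Groth.Statements.S6710
import Mathlib.RingTheory.Finiteness.Ideal
import Mathlib.RingTheory.Ideal.MinimalPrime.Localization
import Mathlib.RingTheory.LocalRing.MaximalIdeal.Basic
import Mathlib.Tactic
-- import your own Groth.Agent.* helpers here

set_option autoImplicit false
universe u v
open CategoryTheory
open FunMor

namespace Groth.Agent.S6710

/-- A nontrivial finite module has a nontrivial cyclic quotient by a finitely generated
submodule. -/
theorem exists_cyclic_quotient {B : Type u} [CommRing B] (P : Type v) [AddCommGroup P] [Module B P]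
    [Module.Finite B P] [Nontrivial P] :
    ∃ (M'' : Submodule B P) (p0 : P), M''.FG ∧ M'' ≠ ⊤ ∧
      Submodule.span B {M''.mkQ p0} = ⊤ := by
  classical
  have hex : ∃ n : ℕ, ∃ f : Fin n → P, Submodule.span B (Set.range f) = ⊤ := by
    obtain ⟨n, f, hf⟩ := Module.Finite.exists_fin (R := B) (M := P)
    exact ⟨n, f, hf⟩
  obtain ⟨n, hn⟩ : ∃ n, n = Nat.find hex := ⟨_, rfl⟩
  have hmin : ∀ k < n, ¬ ∃ f : Fin k → P, Submodule.span B (Set.range f) = ⊤ := by
    intro k hk; rw [hn] at hk; exact Nat.find_min hex hk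
  obtain ⟨f, hf⟩ : ∃ f : Fin n → P, Submodule.span B (Set.range f) = ⊤ := by
    rw [hn]; exact Nat.find_spec hex
  clear hn
  have hn0 : n ≠ 0 := by
    intro h0
    have hf' : Submodule.span B (Set.range f) = ⊥ := by
      rw [Submodule.span_eq_bot]
      rintro x ⟨i, rfl⟩
      exact (Fin.elim0 (h0 ▸ i))
    rw [hf] at hf'
    exact top_ne_bot hf'
  obtain ⟨k, hk⟩ := Nat.exists_eq_succ_of_ne_zero hn0
  subst hk
  refine ⟨Submodule.span B (Set.range (f ∘ Fin.succ)), f 0,
    Submodule.fg_span (Set.finite_range _), ?_, ?_⟩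
  · intro htop
    exact hmin k (Nat.lt_succ_self k) ⟨f ∘ Fin.succ, htop⟩
  · set M'' := Submodule.span B (Set.range (f ∘ Fin.succ))
    have h1 : Submodule.span B (Set.range (M''.mkQ ∘ f)) = ⊤ := by
      rw [Set.range_comp, ← Submodule.map_span, hf, Submodule.map_top, Submodule.range_mkQ]
    rw [eq_top_iff, ← h1, Submodule.span_le]
    rintro x ⟨i, rfl⟩
    induction i using Fin.cases with
    | zero => exact Submodule.subset_span rfl
    | succ j =>
      have : M''.mkQ (f j.succ) = 0 := by
        rw [Submodule.mkQ_apply, Submodule.Quotient.mk_eq_zero]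
        exact Submodule.subset_span ⟨j, rfl⟩
      simp only [Function.comp_apply, this]
      exact Submodule.zero_mem _

/-- Local case. -/
theorem exists_ne_zero_local {B : Type u} [CommRing B] [IsLocalRing B]
    (P : Type v) [AddCommGroup P] [Module B P] [Module.FinitePresentation B P] [Nontrivial P]
    (Q : Type v) [AddCommGroup Q] [Module B Q] (y : Q) (hy : y ≠ 0)
    (hnil : ∀ b ∈ IsLocalRing.maximalIdeal B, ∃ n : ℕ, b ^ n • y = 0) :
    ∃ g : P →ₗ[B] Q, g ≠ 0 := by
  classical
  obtain ⟨M'', p0, hfg, hne, hspan⟩ := exists_cyclic_quotient (B := B) P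
  -- the cyclic quotient
  have hC : Module.FinitePresentation B (P ⧸ M'') :=
    Module.finitePresentation_of_surjective M''.mkQ (Submodule.mkQ_surjective _)
      (by rw [Submodule.ker_mkQ]; exact hfg)
  set c0 : P ⧸ M'' := M''.mkQ p0 with hc0
  set φ : B →ₗ[B] (P ⧸ M'') := LinearMap.toSpanSingleton B (P ⧸ M'') c0 with hφ
  have hφsurj : Function.Surjective φ := by
    rw [← LinearMap.range_eq_top, LinearMap.range_toSpanSingleton]
    exact hspan
  set I : Ideal B := LinearMap.ker φ with hI
  have hIfg : I.FG := Module.FinitePresentation.fg_ker φ hφsurj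
  have hIne : I ≠ ⊤ := by
    intro htop
    have h1 : (1 : B) ∈ I := htop ▸ Submodule.mem_top
    have h2 : c0 = 0 := by simpa [hI, hφ] using h1
    apply hne
    rw [h2] at hspan
    have : (⊤ : Submodule B (P ⧸ M'')) = ⊥ := by rw [← hspan]; simp
    have hsub : Subsingleton (P ⧸ M'') := by
      constructor
      intro a b
      have ha : a ∈ (⊥ : Submodule B (P ⧸ M'')) := this ▸ Submodule.mem_top
      have hb : b ∈ (⊥ : Submodule B (P ⧸ M'')) := this ▸ Submodule.mem_top
      rw [Submodule.mem_bot] at ha hb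
      rw [ha, hb]
    exact Submodule.Quotient.subsingleton_iff.1 hsub
  have hIm : I ≤ IsLocalRing.maximalIdeal B := IsLocalRing.le_maximalIdeal hIne
  -- the annihilator of y
  set J : Ideal B := LinearMap.ker (LinearMap.toSpanSingleton B Q y) with hJ
  have hJmem : ∀ b : B, b ∈ J ↔ b • y = 0 := by
    intro b; simp [hJ]
  have hIJ : I ≤ J.radical := by
    intro b hb
    obtain ⟨n, hn⟩ := hnil b (hIm hb)
    exact ⟨n, (hJmem _).2 hn⟩
  have hex := Ideal.exists_pow_le_of_le_radical_of_fg hIJ hIfg
  have hk0 : Nat.find hex ≠ 0 := by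
    intro h0
    have := Nat.find_spec hex
    rw [h0, pow_zero, Ideal.one_eq_top] at this
    have h1 : (1 : B) ∈ J := this Submodule.mem_top
    rw [hJmem, one_smul] at h1
    exact hy h1
  obtain ⟨k, hk⟩ := Nat.exists_eq_succ_of_ne_zero hk0
  have hk1 : I ^ (k + 1) ≤ J := by
    have := Nat.find_spec hex
    rwa [hk] at this
  have hk2 : ¬ I ^ k ≤ J := Nat.find_min hex (by rw [hk]; exact Nat.lt_succ_self k)
  obtain ⟨b, hbI, hbJ⟩ := SetLike.not_le_iff_exists.1 hk2
  set z : Q := b • y with hz
  have hz0 : z ≠ 0 := fun h0 => hbJ ((hJmem b).2 h0)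
  have hIz : ∀ a ∈ I, a • z = 0 := by
    intro a ha
    have : a * b ∈ I ^ (k + 1) := by
      rw [pow_succ']
      exact Ideal.mul_mem_mul ha hbI
    have := (hJmem _).1 (hk1 this)
    rwa [mul_smul] at this
  -- the map out of the cyclic quotient
  let e : (B ⧸ I) ≃ₗ[B] (P ⧸ M'') := LinearMap.quotKerEquivOfSurjective φ hφsurj
  let ψ : (B ⧸ I) →ₗ[B] Q := Submodule.liftQ I (LinearMap.toSpanSingleton B Q z) (by
    intro a ha
    simpa using hIz a ha)
  refine ⟨ψ ∘ₗ e.symm.toLinearMap ∘ₗ M''.mkQ, ?_⟩
  intro h0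
  have h1 := LinearMap.congr_fun h0 p0
  have h2 : e.symm (M''.mkQ p0) = Submodule.Quotient.mk 1 := by
    rw [LinearEquiv.symm_apply_eq]
    change _ = φ 1
    simp [hφ, hc0]
  simp only [LinearMap.coe_comp, LinearEquiv.coe_coe, Function.comp_apply, h2,
    LinearMap.zero_apply] at h1
  apply hz0
  have h3 : ψ (Submodule.Quotient.mk 1) = z := by
    change (LinearMap.toSpanSingleton B Q z) 1 = z
    simp
  rw [← h3]; exact h1

/-- The statement for an affine scheme written in terms of modules: let A be a commutative ring, M a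
finitely presented A-module and N a nonzero A-module with Supp(N) ⊆ Supp(M). Then Hom_A(M, N) is
nonzero. -/
theorem result
    (A : Type u) [CommRing A] (M : Type v) [AddCommGroup M] [Module A M]
    [Module.FinitePresentation A M] (N : Type v) [AddCommGroup N] [Module A N] [Nontrivial N]
    (h : Module.support A N ⊆ Module.support A M) : Nontrivial (M →ₗ[A] N) := by
  classical
  obtain ⟨x, hx⟩ := exists_ne (0 : N)
  set J : Ideal A := (Submodule.span A {x}).annihilator with hJ
  have hJmem : ∀ a : A, a ∈ J ↔ a • x = 0 := by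
    intro a; rw [hJ, Submodule.mem_annihilator_span_singleton]
  have hJne : J ≠ ⊤ := by
    intro htop
    have : (1 : A) ∈ J := htop ▸ Submodule.mem_top
    rw [hJmem, one_smul] at this
    exact hx this
  obtain ⟨⟨p, hp⟩⟩ := Ideal.nonempty_minimalPrimes hJne
  have hpprime : p.IsPrime := hp.1.1
  have hJp : J ≤ p := hp.1.2
  -- `p` lies in the support of `N`, hence of `M`
  have hpN : (⟨p, hpprime⟩ : PrimeSpectrum A) ∈ Module.support A N :=
    Module.mem_support_iff_exists_annihilator.2 ⟨x, hJp⟩
  have hpM := h hpN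
  rw [Module.mem_support_iff] at hpM
  -- notation
  let B := Localization.AtPrime p
  let P := LocalizedModule p.primeCompl M
  let Q := LocalizedModule p.primeCompl N
  let y : Q := LocalizedModule.mkLinearMap p.primeCompl N x
  have hy : y ≠ 0 := by
    intro h0
    have : x ∈ LinearMap.ker (LocalizedModule.mkLinearMap p.primeCompl N) := h0
    rw [LocalizedModule.mem_ker_mkLinearMap_iff] at this
    obtain ⟨r, hr, hrx⟩ := this
    exact hr (hJp ((hJmem r).2 hrx))
  have hann : J.map (algebraMap A B) ≤ LinearMap.ker (LinearMap.toSpanSingleton B Q y) := by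
    rw [Ideal.map_le_iff_le_comap]
    intro a ha
    rw [Ideal.mem_comap, LinearMap.mem_ker, LinearMap.toSpanSingleton_apply, algebraMap_smul]
    change a • LocalizedModule.mkLinearMap p.primeCompl N x = 0
    rw [← LinearMap.map_smul, (hJmem a).1 ha, map_zero]
  have hnil : ∀ b ∈ IsLocalRing.maximalIdeal B, ∃ n : ℕ, b ^ n • y = 0 := by
    intro b hb
    have hrad := IsLocalization.AtPrime.radical_map_of_mem_minimalPrimes (A := B) p J hp
    rw [IsLocalization.AtPrime.map_eq_maximalIdeal p B] at hrad
    rw [← hrad] at hb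
    obtain ⟨n, hn⟩ := hb
    exact ⟨n, by simpa using hann hn⟩
  obtain ⟨g, hg⟩ := exists_ne_zero_local (B := B) P Q y hy hnil
  -- restrict to `M`
  let g' : M →ₗ[A] Q := (g.restrictScalars A) ∘ₗ LocalizedModule.mkLinearMap p.primeCompl M
  have hg' : g' ≠ 0 := by
    intro h0
    apply hg
    apply LinearMap.ext
    intro m
    induction m using LocalizedModule.induction_on with
    | h m s =>
      have h1 : g (LocalizedModule.mk m 1) = 0 := LinearMap.congr_fun h0 m
      have h2 : LocalizedModule.mk m s = (Localization.mk 1 s : B) • LocalizedModule.mk m 1 := by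
        rw [LocalizedModule.mk_smul_mk, one_smul, mul_one]
      rw [h2, map_smul, h1, smul_zero, LinearMap.zero_apply]
  obtain ⟨h', s, hs⟩ := Module.FinitePresentation.exists_lift_of_isLocalizedModule p.primeCompl
    (LocalizedModule.mkLinearMap p.primeCompl N) g'
  refine nontrivial_of_ne h' 0 ?_
  intro h0
  apply hg'
  rw [h0, LinearMap.comp_zero] at hs
  apply LinearMap.ext
  intro m
  have h1 : s • g' m = 0 := by
    have := LinearMap.congr_fun hs m
    simpa using this.symm
  have hinj := IsLocalizedModule.smul_injective (LocalizedModule.mkLinearMap p.primeCompl N) s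
  apply hinj
  change s • g' m = s • (0 : M →ₗ[A] Q) m
  rw [LinearMap.zero_apply, smul_zero]
  exact h1

end Groth.Agent.S6710
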