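import Groth.Statements.S6718
import Mathlib
-- import your own Groth.Agent.* helpers here

set_option autoImplicit false
universe w v u
open CategoryTheory
open DEquiv

namespace Groth.Agent.S6718

section Helpers

variable {k : Type w} [Field k] {T : Type u} [Category.{v} T] [Preadditive T] [Linear k T]
  [∀ X Y : T, Module.Finite k (X ⟶ Y)]

/-- (1) ⇒ (2), representability part. -/
theorem rep_of_serre (S : T ≌ T)
    (c : ∀ X Y : T, (X ⟶ Y) ≃ₗ[k] Module.Dual k (Y ⟶ S.functor.obj X))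
    (hc1 : ∀ (X Y Y' : T) (f : X ⟶ Y) (g : Y ⟶ Y'),
          c X Y' (f ≫ g) = (c X Y f) ∘ₗ Linear.leftComp k (S.functor.obj X) g) (X : T) :
    ∃ (SX : T) (e : ∀ Y : T, (Y ⟶ SX) ≃ₗ[k] Module.Dual k (X ⟶ Y)),
        ∀ (Y Y' : T) (g : Y' ⟶ Y) (f : Y ⟶ SX),
          e Y' (g ≫ f) = (e Y f) ∘ₗ Linear.rightComp k X g := by
  refine ⟨S.functor.obj X, fun Y => (Module.evalEquiv k (Y ⟶ S.functor.obj X)) ≪≫ₗ
    (c X Y).dualMap, ?_⟩
  intro Y Y' g f
  ext u
  have := LinearMap.congr_fun (hc1 X Y' Y u g) f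
  simpa using this.symm

/-- (1) ⇒ (2), corepresentability part. -/
theorem corep_of_serre (S : T ≌ T)
    (c : ∀ X Y : T, (X ⟶ Y) ≃ₗ[k] Module.Dual k (Y ⟶ S.functor.obj X))
    (hc1 : ∀ (X Y Y' : T) (f : X ⟶ Y) (g : Y ⟶ Y'),
          c X Y' (f ≫ g) = (c X Y f) ∘ₗ Linear.leftComp k (S.functor.obj X) g) (X : T) :
    ∃ (RX : T) (e : ∀ Y : T, (RX ⟶ Y) ≃ₗ[k] Module.Dual k (Y ⟶ X)),
        ∀ (Y Y' : T) (g : Y ⟶ Y') (f : RX ⟶ Y),
          e Y' (f ≫ g) = (e Y f) ∘ₗ Linear.leftComp k X g := by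
  refine ⟨S.inverse.obj X, fun Y => (c (S.inverse.obj X) Y) ≪≫ₗ
    (Linear.homCongr k (Iso.refl Y) (S.counitIso.app X)).symm.dualMap, ?_⟩
  intro Y Y' g f
  ext u
  have := LinearMap.congr_fun (hc1 (S.inverse.obj X) Y Y' f g) (u ≫ (S.counitIso.app X).inv)
  simpa [Linear.homCongr_symm_apply] using this

section Converse

variable (SX : T → T) (eS : ∀ X Y : T, (Y ⟶ SX X) ≃ₗ[k] Module.Dual k (X ⟶ Y))
  (heS : ∀ (X Y Y' : T) (g : Y' ⟶ Y) (f : Y ⟶ SX X),
    eS X Y' (g ≫ f) = (eS X Y f) ∘ₗ Linear.rightComp k X g)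

include heS in
lemma eS_comp (X Y Y' : T) (g : Y' ⟶ Y) (f : Y ⟶ SX X) (u : X ⟶ Y') :
    eS X Y' (g ≫ f) u = eS X Y f (u ≫ g) := by
  have := LinearMap.congr_fun (heS X Y Y' g f) u
  simpa using this

/-- The action of `S` on morphisms. -/
noncomputable def Smap {X' X : T} (a : X' ⟶ X) : SX X' ⟶ SX X :=
  (eS X (SX X')).symm ((eS X' (SX X') (𝟙 _)) ∘ₗ Linear.leftComp k (SX X') a)

include heS in
lemma star {X' X : T} (a : X' ⟶ X) {Y : T} (h : Y ⟶ SX X') (f : X ⟶ Y) :
    eS X Y (h ≫ Smap SX eS a) f = eS X' Y h (a ≫ f) := by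
  rw [eS_comp SX eS heS, Smap, LinearEquiv.apply_symm_apply]
  have := eS_comp SX eS heS X' _ _ h (𝟙 _) (a ≫ f)
  rw [Category.comp_id] at this
  rw [this]
  simp

lemma eS_ext {X Y : T} (m m' : Y ⟶ SX X) (h : ∀ f : X ⟶ Y, eS X Y m f = eS X Y m' f) :
    m = m' :=
  (eS X Y).injective (LinearMap.ext h)

include heS in
lemma star' {X' X : T} (a : X' ⟶ X) (f : X ⟶ SX X') :
    eS X (SX X') (Smap SX eS a) f = eS X' (SX X') (𝟙 _) (a ≫ f) := by
  have := star SX eS heS a (𝟙 _) f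
  rwa [Category.id_comp] at this

/-- The Serre functor built from representing objects. -/
noncomputable def Sfun : T ⥤ T where
  obj := SX
  map a := Smap SX eS a
  map_id X := by
    apply eS_ext SX eS
    intro f
    rw [star' SX eS heS, Category.id_comp]
  map_comp {X'' X' X} a' a := by
    apply eS_ext SX eS
    intro f
    rw [star' SX eS heS, star SX eS heS, star' SX eS heS, Category.assoc]

instance : (Sfun SX eS heS).Additive where
  map_add {X' X a b} := by
    apply eS_ext SX eS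
    intro f
    change eS X _ (Smap SX eS (a + b)) f = eS X _ (Smap SX eS a + Smap SX eS b) f
    rw [map_add, LinearMap.add_apply, star' SX eS heS, star' SX eS heS, star' SX eS heS,
      Preadditive.add_comp, map_add]

instance : (Sfun SX eS heS).Linear k where
  map_smul {X' X} a r := by
    apply eS_ext SX eS
    intro f
    change eS X _ (Smap SX eS (r • a)) f = eS X _ (r • Smap SX eS a) f
    rw [map_smul, LinearMap.smul_apply, star' SX eS heS, star' SX eS heS,
      Linear.smul_comp, map_smul]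

include heS in
lemma Smap_eq_zero {X' X : T} (d : X' ⟶ X) (hd : Smap SX eS d = 0) : d = 0 := by
  rw [← Module.forall_dual_apply_eq_zero_iff k]
  intro φ
  obtain ⟨h, rfl⟩ := (eS X' X).surjective φ
  have := star SX eS heS d h (𝟙 X)
  rw [hd, Limits.comp_zero, map_zero, LinearMap.zero_apply, Category.comp_id] at this
  exact this.symm

instance : (Sfun SX eS heS).Faithful where
  map_injective {X' X a b} hab := by
    rw [← sub_eq_zero]
    apply Smap_eq_zero SX eS heS
    have : (Sfun SX eS heS).map (a - b) = 0 := by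
      rw [Functor.map_sub, hab, sub_self]
    exact this

instance : (Sfun SX eS heS).Full where
  map_surjective {X' X} := by
    have hfin : Module.finrank k (X' ⟶ X) = Module.finrank k (SX X' ⟶ SX X) := by
      rw [(eS X (SX X')).finrank_eq, Subspace.dual_finrank_eq, (eS X' X).finrank_eq,
        Subspace.dual_finrank_eq]
    let L : (X' ⟶ X) →ₗ[k] (SX X' ⟶ SX X) :=
      { toFun := fun a => (Sfun SX eS heS).map a
        map_add' := fun a b => Functor.map_add _
        map_smul' := fun r a => Functor.map_smul _ _ _ }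
    have hinj : Function.Injective L := (Sfun SX eS heS).map_injective
    exact (LinearMap.injective_iff_surjective_of_finrank_eq_finrank hfin).1 hinj

variable (RX : T → T) (eR : ∀ X Y : T, (RX X ⟶ Y) ≃ₗ[k] Module.Dual k (Y ⟶ X))
  (heR : ∀ (X Y Y' : T) (g : Y ⟶ Y') (f : RX X ⟶ Y),
    eR X Y' (f ≫ g) = (eR X Y f) ∘ₗ Linear.leftComp k X g)

include heR in
lemma eR_comp (X Y Y' : T) (g : Y ⟶ Y') (f : RX X ⟶ Y) (u : Y' ⟶ X) :
    eR X Y' (f ≫ g) u = eR X Y f (g ≫ u) := by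
  have := LinearMap.congr_fun (heR X Y Y' g f) u
  simpa using this

/-- The comparison `Hom(Y, S R X) ≃ Hom(Y, X)`. -/
noncomputable def phi (X Y : T) : (Y ⟶ SX (RX X)) ≃ₗ[k] (Y ⟶ X) :=
  eS (RX X) Y ≪≫ₗ (eR X Y).dualMap.symm ≪≫ₗ (Module.evalEquiv k (Y ⟶ X)).symm

lemma phi_spec (X Y : T) (h : Y ⟶ SX (RX X)) (r : RX X ⟶ Y) :
    eS (RX X) Y h r = eR X Y r (phi SX eS RX eR X Y h) := by
  have h1 : (eR X Y).dualMap (Module.evalEquiv k (Y ⟶ X) (phi SX eS RX eR X Y h)) =
      eS (RX X) Y h := by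
    ext r
    simp [phi]
  rw [← h1]
  simp

include heS heR in
lemma phi_comp (X Y Y' : T) (g : Y' ⟶ Y) (h : Y ⟶ SX (RX X)) :
    phi SX eS RX eR X Y' (g ≫ h) = g ≫ phi SX eS RX eR X Y h := by
  apply (Module.evalEquiv k (Y' ⟶ X)).injective
  apply (eR X Y').dualMap.injective
  ext r'
  have h1 := phi_spec SX eS RX eR X Y' (g ≫ h) r'
  have h2 := phi_spec SX eS RX eR X Y h (r' ≫ g)
  rw [eS_comp SX eS heS] at h1
  rw [eR_comp RX eR heR] at h2
  simp only [LinearEquiv.dualMap_apply, Module.evalEquiv_apply, Module.Dual.eval_apply]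
  rw [← h1, h2]

include heR in
lemma essSurj_Sfun : (Sfun SX eS heS).EssSurj := by
  refine ⟨fun X => ⟨RX X, ⟨?_⟩⟩⟩
  have hc := phi_comp SX eS heS RX eR heR X
  change SX (RX X) ≅ X
  refine
    { hom := phi SX eS RX eR X (SX (RX X)) (𝟙 _)
      inv := (phi SX eS RX eR X X).symm (𝟙 X)
      hom_inv_id := ?_
      inv_hom_id := ?_ }
  · apply (phi SX eS RX eR X (SX (RX X))).injective
    rw [hc, LinearEquiv.apply_symm_apply, Category.comp_id]
  · have := hc _ _ ((phi SX eS RX eR X X).symm (𝟙 X)) (𝟙 _)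
    rw [Category.comp_id, LinearEquiv.apply_symm_apply] at this
    exact this.symm

end Converse

end Helpers

open CategoryTheory.Limits CategoryTheory.Pretriangulated in
/-- Let k be a field and T a k-linear (pre)triangulated category with dim_k Hom(X, Y) < ∞ for all X, Y.
The following are equivalent: (1) there are a k-linear equivalence S : T ⥤ T and k-linear
isomorphisms c_{X,Y} : Hom(X, Y) ≅ Hom(Y, S X)^∨ natural in X and in Y; (2) for every object X the
functor Y ↦ Hom(X, Y)^∨ is representable and the functor Y ↦ Hom(Y, X)^∨ is corepresentable, by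
k-linear isomorphisms natural in Y. (Here V^∨ is the k-linear dual.) -/
theorem result
    {k : Type w} [Field k]
    {T : Type u} [Category.{v} T] [Preadditive T] [Linear k T] [HasZeroObject T] [HasShift T ℤ]
    [∀ n : ℤ, (shiftFunctor T n).Additive] [∀ n : ℤ, (shiftFunctor T n).Linear k] [Pretriangulated T]
    [∀ X Y : T, Module.Finite k (X ⟶ Y)] :
    (∃ (S : T ≌ T) (_ : S.functor.Additive) (_ : S.functor.Linear k)
        (c : ∀ X Y : T, (X ⟶ Y) ≃ₗ[k] Module.Dual k (Y ⟶ S.functor.obj X)),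
        (∀ (X Y Y' : T) (f : X ⟶ Y) (g : Y ⟶ Y'),
          c X Y' (f ≫ g) = (c X Y f) ∘ₗ Linear.leftComp k (S.functor.obj X) g) ∧
        (∀ (X' X Y : T) (a : X' ⟶ X) (f : X ⟶ Y),
          c X' Y (a ≫ f) = (c X Y f) ∘ₗ Linear.rightComp k Y (S.functor.map a))) ↔
    ((∀ X : T, ∃ (SX : T) (e : ∀ Y : T, (Y ⟶ SX) ≃ₗ[k] Module.Dual k (X ⟶ Y)),
        ∀ (Y Y' : T) (g : Y' ⟶ Y) (f : Y ⟶ SX),
          e Y' (g ≫ f) = (e Y f) ∘ₗ Linear.rightComp k X g) ∧
      (∀ X : T, ∃ (RX : T) (e : ∀ Y : T, (RX ⟶ Y) ≃ₗ[k] Module.Dual k (Y ⟶ X)),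
        ∀ (Y Y' : T) (g : Y ⟶ Y') (f : RX ⟶ Y),
          e Y' (f ≫ g) = (e Y f) ∘ₗ Linear.leftComp k X g)) := by
  constructor
  · rintro ⟨S, _, _, c, hc1, -⟩
    exact ⟨rep_of_serre S c hc1, corep_of_serre S c hc1⟩
  · rintro ⟨h1, h2⟩
    choose SX eS heS using h1
    choose RX eR heR using h2
    haveI := essSurj_Sfun SX eS heS RX eR heR
    haveI : (Sfun SX eS heS).IsEquivalence := {}
    refine ⟨(Sfun SX eS heS).asEquivalence, inferInstanceAs (Sfun SX eS heS).Additive,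
      inferInstanceAs ((Sfun SX eS heS).Linear k),
      fun X Y => (Module.evalEquiv k (X ⟶ Y)) ≪≫ₗ (eS X Y).dualMap, ?_, ?_⟩
    · intro X Y Y' f g
      ext h
      have := eS_comp SX eS heS X Y' Y g h f
      change eS X Y' h (f ≫ g) = eS X Y (g ≫ h) f
      exact this.symm
    · intro X' X Y a f
      ext h
      have := star SX eS heS a h f
      change eS X' Y h (a ≫ f) = eS X Y (h ≫ Smap SX eS a) f
      exact this.symm

end Groth.Agent.S6718
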