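import Groth.Statements.S6731
import Groth.Agent.Lib.Helper34.SerreDuality
-- import your own Groth.Agent.* helpers here

set_option autoImplicit false
universe w v u
open CategoryTheory
open DEquiv

namespace Groth.Agent.S6731

open CategoryTheory.Limits CategoryTheory.Pretriangulated in
/-- Let k be a field and T a k-linear triangulated category with dim_k Hom(X, Y) < ∞ for all X, Y. Let
(S, c) and (S', c') be Serre functors: k-linear equivalences T ⥤ T with k-linear isomorphisms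
c_{X,Y} : Hom(X, Y) ≅ Hom(Y, S X)^∨ natural in X and Y (likewise c'). Then there is a unique
isomorphism of functors φ : S ≅ S' compatible with c and c', i.e. c_{X,Y}(f) is c'_{X,Y}(f) composed
with postcomposition by φ_X. -/
theorem result
    {k : Type w} [Field k]
    {T : Type u} [Category.{v} T] [Preadditive T] [Linear k T] [HasZeroObject T] [HasShift T ℤ]
    [∀ n : ℤ, (shiftFunctor T n).Additive] [∀ n : ℤ, (shiftFunctor T n).Linear k] [Pretriangulated T]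
    [IsTriangulated T] [∀ X Y : T, Module.Finite k (X ⟶ Y)]
    (S : T ≌ T) [S.functor.Additive] [S.functor.Linear k]
    (c : ∀ X Y : T, (X ⟶ Y) ≃ₗ[k] Module.Dual k (Y ⟶ S.functor.obj X))
    (hc₁ : ∀ (X Y Y' : T) (f : X ⟶ Y) (g : Y ⟶ Y'),
      c X Y' (f ≫ g) = (c X Y f) ∘ₗ Linear.leftComp k (S.functor.obj X) g)
    (hc₂ : ∀ (X' X Y : T) (a : X' ⟶ X) (f : X ⟶ Y),
      c X' Y (a ≫ f) = (c X Y f) ∘ₗ Linear.rightComp k Y (S.functor.map a))
    (S' : T ≌ T) [S'.functor.Additive] [S'.functor.Linear k]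
    (c' : ∀ X Y : T, (X ⟶ Y) ≃ₗ[k] Module.Dual k (Y ⟶ S'.functor.obj X))
    (hc'₁ : ∀ (X Y Y' : T) (f : X ⟶ Y) (g : Y ⟶ Y'),
      c' X Y' (f ≫ g) = (c' X Y f) ∘ₗ Linear.leftComp k (S'.functor.obj X) g)
    (hc'₂ : ∀ (X' X Y : T) (a : X' ⟶ X) (f : X ⟶ Y),
      c' X' Y (a ≫ f) = (c' X Y f) ∘ₗ Linear.rightComp k Y (S'.functor.map a)) :
    ∃! φ : S.functor ≅ S'.functor, ∀ (X Y : T) (f : X ⟶ Y),
      c X Y f = (c' X Y f) ∘ₗ Linear.rightComp k Y (φ.hom.app X) := by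
  open Groth.Agent.Lib.Helper34.Serre in
  obtain ⟨φ, hφ⟩ := exists_natTrans S.functor S'.functor c hc₁ hc₂ c' hc'₁ hc'₂
  obtain ⟨ψ, hψ⟩ := exists_natTrans S'.functor S.functor c' hc'₁ hc'₂ c hc₁ hc₂
  have h1 : φ ≫ ψ = 𝟙 _ := comp_eq_id S.functor S'.functor c hc₁ c' hc'₁ φ ψ hφ hψ
  have h2 : ψ ≫ φ = 𝟙 _ := comp_eq_id S'.functor S.functor c' hc'₁ c hc₁ ψ φ hψ hφ
  have H1 : ∀ (X Y Y' : T) (f : X ⟶ Y) (g : Y ⟶ Y') (m : Y' ⟶ S.functor.obj X),
      c X Y' (f ≫ g) m = c X Y f (g ≫ m) := fun X Y Y' f g m => by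
    rw [hc₁]; rfl
  have H1' : ∀ (X Y Y' : T) (f : X ⟶ Y) (g : Y ⟶ Y') (m : Y' ⟶ S'.functor.obj X),
      c' X Y' (f ≫ g) m = c' X Y f (g ≫ m) := fun X Y Y' f g m => by
    rw [hc'₁]; rfl
  refine ⟨⟨φ, ψ, h1, h2⟩, ?_, ?_⟩
  · intro X Y f
    ext g
    simp only [LinearMap.coe_comp, Function.comp_apply, Linear.rightComp_apply]
    have := hφ X (f ≫ g)
    rw [H1', H1, Category.comp_id] at this
    exact this.symm
  · intro φ' hφ'
    ext X
    apply sep (c' X (S.functor.obj X))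
    intro h
    have h3 := LinearMap.congr_fun (hφ' X (S.functor.obj X) h) (𝟙 _)
    simp only [LinearMap.coe_comp, Function.comp_apply, Linear.rightComp_apply,
      Category.id_comp] at h3
    rw [← h3]
    exact (hφ X h).symm

end Groth.Agent.S6731
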