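import Groth.Statements.S6769
import Groth.Agent.Lib.Helper71.EilenbergWatts
import Mathlib

set_option autoImplicit false
universe u
open CategoryTheory CategoryTheory.Limits TensorProduct
open scoped ModuleCat.Algebra
open FunMor

namespace Groth.Agent.S6769

open CategoryTheory CategoryTheory.Limits TensorProduct
open scoped ModuleCat.Algebra
open Groth.Agent.Lib.Helper71

section
variable {A B : Type u} [CommRing A] [CommRing B]
  (F F' : ModuleCat.{u} A ⥤ ModuleCat.{u} B) [F.Additive] [F'.Additive]

/-- type ascription helper -/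
def asKK (F : ModuleCat.{u} A ⥤ ModuleCat.{u} B) (y : F.obj (ModuleCat.of A A)) : EW.KK F := y

/-- an `A`-equivariant `B`-linear map `F(A) → F'(A)` as an `A`-linear map of the bimodules -/
noncomputable def phiA (φ : F.obj (ModuleCat.of A A) ⟶ F'.obj (ModuleCat.of A A))
    (hφ : ∀ a : A, F.map (EW.mulA a) ≫ φ = φ ≫ F'.map (EW.mulA a)) :
    EW.KK F →ₗ[A] EW.KK F' where
  toFun x := φ.hom x
  map_add' x y := map_add φ.hom x y
  map_smul' a x := by
    show φ.hom ((F.map (EW.mulA a)).hom x) = (F'.map (EW.mulA a)).hom (φ.hom x)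
    have := congrArg (fun f => f.hom x) (hφ a)
    exact this

/-- `φ ⊗ id` as a `B`-linear map -/
noncomputable def tau (φ : F.obj (ModuleCat.of A A) ⟶ F'.obj (ModuleCat.of A A))
    (hφ : ∀ a : A, F.map (EW.mulA a) ≫ φ = φ ≫ F'.map (EW.mulA a)) (M : ModuleCat.{u} A) :
    EW.KK F ⊗[A] M →ₗ[B] EW.KK F' ⊗[A] M where
  toFun := LinearMap.rTensor M (phiA F F' φ hφ)
  map_add' := map_add _
  map_smul' b z := by
    induction z using TensorProduct.induction_on with
    | zero => simp
    | add x y hx hy => rw [smul_add, map_add, hx, hy, map_add, smul_add]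
    | tmul x m =>
      rw [TensorProduct.smul_tmul', LinearMap.rTensor_tmul, LinearMap.rTensor_tmul,
        RingHom.id_apply, TensorProduct.smul_tmul']
      congr 1
      exact map_smul φ.hom b x

lemma tau_tmul (φ : F.obj (ModuleCat.of A A) ⟶ F'.obj (ModuleCat.of A A))
    (hφ : ∀ a : A, F.map (EW.mulA a) ≫ φ = φ ≫ F'.map (EW.mulA a)) (M : ModuleCat.{u} A)
    (x : EW.KK F) (m : M) : tau F F' φ hφ M (x ⊗ₜ m) = asKK F' (φ.hom x) ⊗ₜ[A] m := rfl

lemma tau_natural (φ : F.obj (ModuleCat.of A A) ⟶ F'.obj (ModuleCat.of A A))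
    (hφ : ∀ a : A, F.map (EW.mulA a) ≫ φ = φ ≫ F'.map (EW.mulA a)) {M N : ModuleCat.{u} A}
    (f : M ⟶ N) (z : EW.KK F ⊗[A] M) :
    tau F F' φ hφ N (LinearMap.lTensor (EW.KK F) f.hom z) =
      LinearMap.lTensor (EW.KK F') f.hom (tau F F' φ hφ M z) := by
  induction z using TensorProduct.induction_on with
  | zero => simp
  | add x y hx hy => simp only [map_add, hx, hy]
  | tmul x m => rfl

end

section
variable {R : Type u} [CommRing R] {A B : Type u} [CommRing A] [CommRing B] [Algebra R A]
  [Algebra R B]

lemma lin_smul_id {M : ModuleCat.{u} A} (r : R) :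
    (r • 𝟙 M : M ⟶ M) = ModuleCat.ofHom (algebraMap R A r • LinearMap.id) := by
  apply ModuleCat.hom_ext; apply LinearMap.ext; intro m; rfl

lemma lin_smul_apply {X Y : ModuleCat.{u} B} (r : R) (g : X ⟶ Y) (y : X) :
    (r • g).hom y = algebraMap R B r • g.hom y := rfl

lemma map_mulA_algebraMap (F : ModuleCat.{u} A ⥤ ModuleCat.{u} B) [F.Additive] [F.Linear R]
    (r : R) (x : F.obj (ModuleCat.of A A)) :
    (F.map (EW.mulA (algebraMap R A r))).hom x = algebraMap R B r • x := by
  have h1 := lin_smul_id (R := R) (M := ModuleCat.of A A) r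
  have h2 : EW.mulA (algebraMap R A r) = ModuleCat.ofHom (algebraMap R A r • LinearMap.id) := rfl
  rw [h2, ← h1, Functor.map_smul, F.map_id, lin_smul_apply]
  rfl

end

/-- Let R be a commutative ring and A, B commutative R-algebras; Mod_A and Mod_B are R-linear
categories. Suppose F, F' : Mod_A ⥤ Mod_B are R-linear functors, each of which preserves finite
colimits (so is right exact) and also preserves direct sums indexed by any set. Then: (i) there is
an A ⊗_R B-module K — a module over A and over B with commuting actions on which the two R-actions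
agree — and B-linear isomorphisms K ⊗_A M ≅ F(M) natural in the A-module M; (ii) a natural
transformation F ⟶ F' is determined by its component at A, and a B-linear map φ : F(A) ⟶ F'(A) is
the component at A of some natural transformation F ⟶ F' if and only if it commutes with the
A-actions, i.e. F(a · id_A) ≫ φ = φ ≫ F'(a · id_A) for all a ∈ A. (Together: K ↦ (- ⊗_A K) is an
equivalence from Mod_{A ⊗_R B} onto the category of such functors.) -/
theorem result
    (R : Type u) [CommRing R] (A B : Type u) [CommRing A] [CommRing B] [Algebra R A] [Algebra R B]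
    (F F' : ModuleCat.{u} A ⥤ ModuleCat.{u} B) [F.Additive] [F.Linear R] [F'.Additive] [F'.Linear R]
    [PreservesFiniteColimits F] [∀ J : Type u, PreservesColimitsOfShape (Discrete J) F]
    [PreservesFiniteColimits F'] [∀ J : Type u, PreservesColimitsOfShape (Discrete J) F'] :
    (∃ (K : Type u) (_ : AddCommGroup K) (_ : Module A K) (_ : Module B K) (_ : SMulCommClass A B K),
      (∀ (r : R) (x : K), algebraMap R A r • x = algebraMap R B r • x) ∧
      ∃ η : ∀ M : ModuleCat.{u} A, (K ⊗[A] M) ≃ₗ[B] F.obj M,
        ∀ (M N : ModuleCat.{u} A) (f : M ⟶ N) (x : K ⊗[A] M),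
          η N (LinearMap.lTensor K f.hom x) = F.map f (η M x)) ∧
    (∀ t t' : F ⟶ F', t.app (ModuleCat.of A A) = t'.app (ModuleCat.of A A) → t = t') ∧
    (∀ φ : F.obj (ModuleCat.of A A) ⟶ F'.obj (ModuleCat.of A A),
      (∃ t : F ⟶ F', t.app (ModuleCat.of A A) = φ) ↔
        ∀ a : A, F.map (a • 𝟙 (ModuleCat.of A A)) ≫ φ = φ ≫ F'.map (a • 𝟙 (ModuleCat.of A A))) := by
  have hsum : ∀ J : Type u, PreservesColimitsOfShape (Discrete J) F := fun J => inferInstance
  have hsum' : ∀ J : Type u, PreservesColimitsOfShape (Discrete J) F' := fun J => inferInstance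
  have hmul : ∀ a : A, a • 𝟙 (ModuleCat.of A A) = EW.mulA a := by
    intro a
    apply ModuleCat.hom_ext
    apply LinearMap.ext
    intro c
    rfl
  refine ⟨?_, ?_, ?_⟩
  · refine ⟨EW.KK F, inferInstance, inferInstance, inferInstance, inferInstance, ?_,
      fun M => EW.etaEquiv F hsum M, ?_⟩
    · intro r x
      rw [EW.smul_def]
      exact map_mulA_algebraMap F r x
    · intro M N f x
      exact EW.eta_natural F f x
  · intro t t' htt
    ext M y
    obtain ⟨z, rfl⟩ := EW.eta_surjective F hsum M y
    induction z using TensorProduct.induction_on with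
    | zero => rw [map_zero, map_zero, map_zero]
    | add x y hx hy => rw [map_add, map_add, map_add, hx, hy]
    | tmul x m =>
      rw [EW.eta_tmul]
      have h1 := congrArg (fun f => f.hom x) (t.naturality (EW.rho M m))
      have h2 := congrArg (fun f => f.hom x) (t'.naturality (EW.rho M m))
      simp only [ModuleCat.hom_comp] at h1 h2
      rw [htt] at h1
      exact h1.trans h2.symm
  · intro φ
    simp only [hmul]
    constructor
    · rintro ⟨t, rfl⟩ a
      exact t.naturality (EW.mulA a)
    · intro hφ
      let tM : ∀ M : ModuleCat.{u} A, F.obj M ⟶ F'.obj M := fun M =>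
        ModuleCat.ofHom ((EW.eta F' M) ∘ₗ (tau F F' φ hφ M) ∘ₗ
          (EW.etaEquiv F hsum M).symm.toLinearMap)
      have htM : ∀ (M : ModuleCat.{u} A) (z : EW.KK F ⊗[A] M),
          (tM M).hom (EW.eta F M z) = EW.eta F' M (tau F F' φ hφ M z) := by
        intro M z
        show EW.eta F' M (tau F F' φ hφ M ((EW.etaEquiv F hsum M).symm (EW.eta F M z))) = _
        rw [← EW.etaEquiv_apply F hsum M z, LinearEquiv.symm_apply_apply]
      refine ⟨⟨tM, ?_⟩, ?_⟩
      · intro M N f
        apply ModuleCat.hom_ext
        apply LinearMap.ext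
        intro y
        obtain ⟨z, rfl⟩ := EW.eta_surjective F hsum M y
        show (tM N).hom ((F.map f).hom (EW.eta F M z)) = (F'.map f).hom ((tM M).hom (EW.eta F M z))
        rw [← EW.eta_natural, htM, htM, tau_natural, EW.eta_natural]
      · apply ModuleCat.hom_ext
        apply LinearMap.ext
        intro y
        have hy : EW.eta F (ModuleCat.of A A) (asKK F y ⊗ₜ[A] (1 : A)) = y := by
          rw [EW.eta_tmul, EW.rho_self, EW.mulA_one, F.map_id]; rfl
        show (tM (ModuleCat.of A A)).hom y = φ.hom y
        conv_lhs => rw [← hy]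
        rw [htM, tau_tmul, EW.eta_tmul, EW.rho_self, EW.mulA_one, F'.map_id]; rfl

end Groth.Agent.S6769
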