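import Groth.Statements.S6772
-- import your own Groth.Agent.* helpers here
import Groth.Agent.Lib.QCoh.Helper50_AffineDict
import Groth.Agent.Lib.QCoh.Helper24_Colimits
import Groth.Agent.Lib.QCoh.TensorColim
import Groth.Agent.Lib.QCoh.TensorQCoh
import Groth.Agent.Lib.QCoh.Helper50_Pullback
import Groth.Agent.Lib.Helper42.PushSigma

set_option autoImplicit false
universe u
open CategoryTheory AlgebraicGeometry
attribute [local instance] HasDerivedCategory.standard
open FunMor

namespace Groth.Agent.S6772

open Groth.Agent.Lib.QCoh Limits ZeroObject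

section Sub
variable (X : Scheme.{u})

instance containsZero_isQCoh : (QCohCat.isQCoh X).ContainsZero where
  exists_zero := ⟨0, isZero_zero _, by
    have h0 : (SheafOfModules.free (R := X.ringCatSheaf) PUnit.{u + 1}).IsQuasicoherent :=
      inferInstance
    have h : (kernel (𝟙 (SheafOfModules.free (R := X.ringCatSheaf) PUnit.{u + 1}))).IsQuasicoherent :=
      isQuasicoherent_kernel _
    exact isQuasicoherent_of_iso
      ((isZero_kernel_of_mono (𝟙 (SheafOfModules.free (R := X.ringCatSheaf) PUnit.{u + 1}))).iso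
        (isZero_zero _)) h⟩

instance isClosedUnderKernels_isQCoh : (QCohCat.isQCoh X).IsClosedUnderKernels where
  kernels_le := by
    rintro _ ⟨φ, k, hk, ⟨h1, h2⟩⟩
    have h1' : Coh.IsQCoh (X := X) _ := h1
    have h2' : Coh.IsQCoh (X := X) _ := h2
    exact isQuasicoherent_of_iso (IsLimit.conePointUniqueUpToIso hk (kernelIsKernel φ)).symm
      (isQuasicoherent_kernel φ)

instance isClosedUnderCokernels_isQCoh : (QCohCat.isQCoh X).IsClosedUnderCokernels where
  cokernels_le := by
    rintro _ ⟨φ, k, hk, ⟨h1, h2⟩⟩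
    have h1' : Coh.IsQCoh (X := X) _ := h1
    have h2' : Coh.IsQCoh (X := X) _ := h2
    exact isQuasicoherent_of_iso (IsColimit.coconePointUniqueUpToIso hk (cokernelIsCokernel φ)).symm
      (isQuasicoherent_cokernel φ)

instance isClosedUnderFiniteProducts_isQCoh : (QCohCat.isQCoh X).IsClosedUnderFiniteProducts where
  isClosedUnderLimitsOfShape J _ := ⟨by
    rintro M ⟨p⟩
    have e : M ≅ ∏ᶜ (fun j : J => p.diag.obj ⟨j⟩) :=
      IsLimit.conePointsIsoOfNatIso p.isLimit (limit.isLimit _) Discrete.natIsoFunctor
    exact isQuasicoherent_of_iso e.symm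
      (isQuasicoherent_pi_of_finite _ fun j => p.prop_diag_obj _)⟩

noncomputable instance abelian_QCoh : Abelian (QCohCat.QCoh X) :=
  inferInstanceAs (Abelian (QCohCat.isQCoh X).FullSubcategory)

instance preservesFiniteColimits_ι : PreservesFiniteColimits (QCohCat.isQCoh X).ι :=
  ((Functor.preservesFiniteColimits_tfae (QCohCat.isQCoh X).ι).out 2 3).1
    (fun _ _ f => (QCohCat.isQCoh X).preservesCokernels_ι f)

instance isClosedUnderColimitsOfShape_isQCoh (J : Type u) [SmallCategory J] :
    (QCohCat.isQCoh X).IsClosedUnderColimitsOfShape J :=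
  inferInstanceAs ((SheafOfModules.isQuasicoherent X.ringCatSheaf).IsClosedUnderColimitsOfShape J)

instance preservesColimitsOfShape_ι (J : Type u) [SmallCategory J] :
    PreservesColimitsOfShape J (QCohCat.isQCoh X).ι := inferInstance

end Sub

section PushSigma

open Groth.Agent.Lib.Helper42.Internal.PushColim Groth.Agent.Lib.Helper42.Internal.PushSigma

variable {P Y : Scheme.{u}} (f : P ⟶ Y) {ι : Type u}

theorem pushforward_comp_toSheaf :
    Scheme.Modules.pushforward f ⋙ SheafOfModules.toSheaf Y.ringCatSheaf =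
      SheafOfModules.toSheaf P.ringCatSheaf ⋙ push f :=
  rfl

theorem preservesColimit_pushforward_sigma [IsAffineHom f] (F : ι → P.Modules) :
    PreservesColimit (Discrete.functor F) (Scheme.Modules.pushforward f) := by
  have hX := Groth.Agent.Lib.Helper94.ModSiteBasic.toSheaf_preservesColimitsOfSize P.ringCatSheaf
  have hS := Groth.Agent.Lib.Helper94.ModSiteBasic.toSheaf_preservesColimitsOfSize Y.ringCatSheaf
  have h0 : PreservesColimit
      (Discrete.functor ((SheafOfModules.toSheaf P.ringCatSheaf).obj ∘ F)) (push f) :=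
    preservesColimit_push_sigma f _
  have h1 : PreservesColimit (Discrete.functor F ⋙ SheafOfModules.toSheaf P.ringCatSheaf)
      (push f) :=
    (preservesColimit_iff_of_iso_diagram (push f)
      (Discrete.compNatIsoDiscrete F (SheafOfModules.toSheaf P.ringCatSheaf))).mpr h0
  have h2 : PreservesColimit (Discrete.functor F) (Scheme.Modules.pushforward f ⋙
      SheafOfModules.toSheaf Y.ringCatSheaf) := by
    rw [pushforward_comp_toSheaf]
    have hD : PreservesColimit (Discrete.functor F) (SheafOfModules.toSheaf P.ringCatSheaf) :=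
      (hX.preservesColimitsOfShape (J := Discrete ι)).preservesColimit (K := Discrete.functor F)
    exact comp_preservesColimit _ _
  have h4 : HasColimitsOfShape (Discrete ι) Y.Modules := inferInstance
  have h4' : HasColimitsOfShape (Discrete ι) (SheafOfModules.{u} Y.ringCatSheaf) := h4
  have h5 : PreservesColimitsOfShape (Discrete ι) (SheafOfModules.toSheaf Y.ringCatSheaf) :=
    hS.preservesColimitsOfShape (J := Discrete ι)
  have h3 : ReflectsColimitsOfShape (Discrete ι) (SheafOfModules.toSheaf Y.ringCatSheaf) :=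
    reflectsColimitsOfShape_of_reflectsIsomorphisms
  have h6 : ReflectsColimit (Discrete.functor F ⋙ Scheme.Modules.pushforward f)
      (SheafOfModules.toSheaf Y.ringCatSheaf) := h3.reflectsColimit
  exact preservesColimit_of_reflects_of_preserves (Scheme.Modules.pushforward f)
    (SheafOfModules.toSheaf Y.ringCatSheaf)

end PushSigma

section Push
variable {P Y : Scheme.{u}} (f : P ⟶ Y) [IsAffineHom f]

theorem epi_push_map {M N : P.Modules} (φ : M ⟶ N) [Epi φ] [M.IsQuasicoherent]
    [N.IsQuasicoherent] : Epi ((Scheme.Modules.pushforward f).map φ) := by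
  refine epi_of_forall_affine_surjective _ (fun V => ?_)
  exact surjective_app_of_epi φ (V.2.preimage f)

theorem exact_map_push (T : ShortComplex P.Modules) (hT : T.Exact) [Epi T.g]
    [T.X₁.IsQuasicoherent] [T.X₂.IsQuasicoherent] [T.X₃.IsQuasicoherent] :
    (T.map (Scheme.Modules.pushforward f)).Exact ∧
      Epi ((Scheme.Modules.pushforward f).map T.g) := by
  refine ⟨?_, epi_push_map f T.g⟩
  have hI : (kernel T.g).IsQuasicoherent := isQuasicoherent_kernel T.g
  let e : T.X₁ ⟶ kernel T.g := kernel.lift T.g T.f T.zero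
  have he : Epi e := (T.exact_iff_epi_kernel_lift).1 hT
  let T₂ : ShortComplex P.Modules := ShortComplex.mk (kernel.ι T.g) T.g (kernel.condition T.g)
  have hT₂ : T₂.Exact := ShortComplex.exact_of_f_is_kernel T₂ (kernelIsKernel T.g)
  have hm : Mono T₂.f := inferInstanceAs (Mono (kernel.ι T.g))
  have hT₂' : (T₂.map (Scheme.Modules.pushforward f)).Exact :=
    hT₂.map_of_mono_of_preservesKernel _ hm inferInstance
  let φ : T.map (Scheme.Modules.pushforward f) ⟶ T₂.map (Scheme.Modules.pushforward f) :=
    { τ₁ := (Scheme.Modules.pushforward f).map e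
      τ₂ := 𝟙 _
      τ₃ := 𝟙 _
      comm₁₂ := show _ ≫ (Scheme.Modules.pushforward f).map (kernel.ι _) =
          (Scheme.Modules.pushforward f).map _ ≫ 𝟙 _ by
        rw [← Functor.map_comp, kernel.lift_ι, Category.comp_id]
      comm₂₃ := show 𝟙 _ ≫ (Scheme.Modules.pushforward f).map T.g =
          (Scheme.Modules.pushforward f).map T.g ≫ 𝟙 _ by
        rw [Category.id_comp, Category.comp_id] }
  have : Epi φ.τ₁ := epi_push_map f e
  have : IsIso φ.τ₂ := inferInstanceAs (IsIso (𝟙 _))
  have : Mono φ.τ₃ := inferInstanceAs (Mono (𝟙 _))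
  exact (ShortComplex.exact_iff_of_epi_of_isIso_of_mono φ).2 hT₂'

end Push

section Main

variable {X P Y : Scheme.{u}} (p : P ⟶ X) (q : P ⟶ Y) [IsAffineHom q] (K : P.Modules)

/-- the part of the kernel functor before the direct image. -/
noncomputable abbrev preF : QCohCat.QCoh X ⥤ P.Modules :=
  ObjectProperty.ι (QCohCat.isQCoh X) ⋙ Scheme.Modules.pullback p ⋙ DCoh.tensorRightMod K

instance preservesFiniteColimits_tensorRightMod :
    PreservesFiniteColimits (DCoh.tensorRightMod K) :=
  inferInstanceAs (PreservesFiniteColimits (tensorRightFunctor K))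

instance preservesColimitsOfSize_tensorRightMod :
    PreservesColimitsOfSize.{u, u} (DCoh.tensorRightMod K) :=
  inferInstanceAs (PreservesColimitsOfSize.{u, u} (tensorRightFunctor K))

theorem isQuasicoherent_preF (hK : Coh.IsQCoh K) (M : QCohCat.QCoh X) :
    ((preF p K).obj M).IsQuasicoherent := by
  have : Coh.IsQCoh K := hK
  have : M.obj.IsQuasicoherent := M.property
  have : ((Scheme.Modules.pullback p).obj M.obj).IsQuasicoherent := isQuasicoherent_pullback p M.obj
  exact isQuasicoherent_tensorMod ((Scheme.Modules.pullback p).obj M.obj) K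

theorem main (hK : Coh.IsQCoh K) :
    PreservesFiniteColimits (preF p K ⋙ Scheme.Modules.pushforward q) ∧
      ∀ J : Type u, PreservesColimitsOfShape (Discrete J)
        (preF p K ⋙ Scheme.Modules.pushforward q) := by
  refine ⟨?_, fun J => ⟨fun {D} => ?_⟩⟩
  · have hG : PreservesFiniteColimits (preF p K) := inferInstance
    refine ((Functor.preservesFiniteColimits_tfae
      (preF p K ⋙ Scheme.Modules.pushforward q)).out 0 3).1 (fun S hS => ?_)
    have h2' : ∀ (T : ShortComplex (QCohCat.QCoh X)), T.Exact ∧ Epi T.g →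
        (T.map (preF p K)).Exact ∧ Epi ((preF p K).map T.g) :=
      ((Functor.preservesFiniteColimits_tfae (preF p K)).out 3 1).1 hG
    have h2 := h2' S ⟨hS.exact, hS.epi_g⟩
    have : Epi (S.map (preF p K)).g := h2.2
    have : (S.map (preF p K)).X₁.IsQuasicoherent := isQuasicoherent_preF p K hK _
    have : (S.map (preF p K)).X₂.IsQuasicoherent := isQuasicoherent_preF p K hK _
    have : (S.map (preF p K)).X₃.IsQuasicoherent := isQuasicoherent_preF p K hK _
    exact exact_map_push q (S.map (preF p K)) h2.1
  · have h1 : PreservesColimit D (preF p K) := inferInstance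
    have h0 : PreservesColimit (Discrete.functor ((D ⋙ preF p K).obj ∘ Discrete.mk))
        (Scheme.Modules.pushforward q) :=
      preservesColimit_pushforward_sigma q ((D ⋙ preF p K).obj ∘ Discrete.mk)
    have h2 : PreservesColimit (D ⋙ preF p K) (Scheme.Modules.pushforward q) :=
      preservesColimit_of_iso_diagram _ (Discrete.natIsoFunctor (F := D ⋙ preF p K)).symm
    exact comp_preservesColimit _ _

end Main


/-- The direction from kernels to functors: let R be a ring and X, Y schemes over R with X affine, and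
let K be a quasi-coherent O_{X ×_R Y}-module. Then the functor F_K : M ↦ pr_{2,*}(pr_1^* M ⊗ K),
from quasi-coherent O_X-modules to O_Y-modules, is right exact (preserves finite colimits) and
commutes with arbitrary direct sums. (pr_2 is affine, so pr_{2,*} is exact on quasi-coherent
modules.) -/
theorem result
    (R : Type u) [CommRing R] (X Y : Scheme.{u}) [X.Over (Spec (.of R))] [Y.Over (Spec (.of R))] [IsAffine X]
    (K : (Limits.pullback (X ↘ Spec (.of R)) (Y ↘ Spec (.of R))).Modules) (hK : Coh.IsQCoh K) :
    Limits.PreservesFiniteColimits (ObjectProperty.ι (QCohCat.isQCoh X) ⋙ Scheme.Modules.pullback (Limits.pullback.fst (X ↘ Spec (.of R)) (Y ↘ Spec (.of R))) ⋙ DCoh.tensorRightMod K ⋙ Coh.push (Limits.pullback.snd (X ↘ Spec (.of R)) (Y ↘ Spec (.of R)))) ∧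
      ∀ J : Type u, Limits.PreservesColimitsOfShape (Discrete J) (ObjectProperty.ι (QCohCat.isQCoh X) ⋙ Scheme.Modules.pullback (Limits.pullback.fst (X ↘ Spec (.of R)) (Y ↘ Spec (.of R))) ⋙ DCoh.tensorRightMod K ⋙ Coh.push (Limits.pullback.snd (X ↘ Spec (.of R)) (Y ↘ Spec (.of R)))) := by
  have h1 : IsAffineHom (X ↘ Spec (.of R)) := inferInstance
  have h2 : IsAffineHom (Limits.pullback.snd (X ↘ Spec (.of R)) (Y ↘ Spec (.of R))) :=
    MorphismProperty.pullback_snd (P := @IsAffineHom) _ _ h1
  exact main (Limits.pullback.fst (X ↘ Spec (.of R)) (Y ↘ Spec (.of R)))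
    (Limits.pullback.snd (X ↘ Spec (.of R)) (Y ↘ Spec (.of R))) K hK

end Groth.Agent.S6772
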