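import Groth.Statements.S6776
import Mathlib.CategoryTheory.Abelian.CommSq
import Mathlib.Algebra.Homology.ShortComplex.ShortExact
-- import your own Groth.Agent.* helpers here

set_option autoImplicit false
open CategoryTheory CategoryTheory.Limits
universe v u
open CategoryTheory CategoryTheory.Abelian

namespace Groth.Agent.S6776

/-- In an abelian category a cocartesian square whose left arrow `g` is a monomorphism is also
cartesian, and the arrow `h` opposite to `g` is a monomorphism. -/
theorem result {A : Type u} [Category.{v} A] [Abelian A] {w x y z : A} (f : w ⟶ y) (g : w ⟶ x) (h : y ⟶ z) (k : x ⟶ z) (sq : IsPushout f g h k) [Mono g] : IsPullback f g h k ∧ Mono h := by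
  have hh : Mono h := Abelian.mono_inl_of_isColimit f g sq.isColimit
  refine ⟨?_, hh⟩
  have hS := sq.exact_shortComplex
  have he : Epi sq.shortComplex.g := sq.epi_shortComplex_g
  have hm : Mono sq.shortComplex.f := by
    have : Mono (biprod.lift f (-g) ≫ biprod.snd) := by
      rw [biprod.lift_snd]; infer_instance
    exact mono_of_mono (biprod.lift f (-g)) biprod.snd
  have hSE : sq.shortComplex.ShortExact := { exact := hS }
  have hker := hSE.fIsKernel
  have hz : ∀ s : PullbackCone h k, biprod.lift s.fst (-s.snd) ≫ biprod.desc h k = 0 := by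
    intro s
    rw [biprod.lift_desc, Preadditive.neg_comp, s.condition, add_neg_cancel]
  have hfac : ∀ s : PullbackCone h k,
      hker.lift (KernelFork.ofι (biprod.lift s.fst (-s.snd)) (hz s)) ≫ biprod.lift f (-g) =
      biprod.lift s.fst (-s.snd) := fun s =>
    hker.fac (KernelFork.ofι (biprod.lift s.fst (-s.snd)) (hz s)) WalkingParallelPair.zero
  have hm' : Mono (biprod.lift f (-g)) := hm
  have hex : ∀ s : PullbackCone h k, ∃ d : s.pt ⟶ w,
      d ≫ biprod.lift f (-g) = biprod.lift s.fst (-s.snd) := fun s => ⟨_, hfac s⟩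
  choose d hd using hex
  refine ⟨⟨sq.w⟩, ⟨PullbackCone.IsLimit.mk _ d ?_ ?_ ?_⟩⟩
  · intro s
    have h2 := hd s =≫ biprod.fst
    rwa [Category.assoc, biprod.lift_fst, biprod.lift_fst] at h2
  · intro s
    have h2 := hd s =≫ biprod.snd
    rwa [Category.assoc, biprod.lift_snd, biprod.lift_snd, Preadditive.comp_neg, neg_inj] at h2
  · intro s m hm1 hm2
    rw [← cancel_mono (biprod.lift f (-g)), hd s]
    apply biprod.hom_ext <;> simp [hm1, hm2]

end Groth.Agent.S6776
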