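import Groth.Statements.S6779
import Mathlib
import Groth.Agent.Lib.Helper57.SimplicialGroupKan
-- import your own Groth.Agent.* helpers here

set_option autoImplicit false
open CategoryTheory
universe u
open SSet

namespace Groth.Agent.S6779

open CategoryTheory Simplicial Opposite SSet
open Groth.Agent.Lib.Helper57.SimplicialGroupKan

section Inst

variable (X : SimplicialObject GrpCat.{u})

/-- ℕ-indexed faces. -/
noncomputable def D (m : ℕ) (j : ℕ) : X _⦋m + 1⦌ →* X _⦋m⦌ :=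
  if h : j < m + 2 then (X.δ ⟨j, h⟩).hom else 1

/-- ℕ-indexed degeneracies. -/
noncomputable def S (m : ℕ) (j : ℕ) : X _⦋m⦌ →* X _⦋m + 1⦌ :=
  if h : j < m + 1 then (X.σ ⟨j, h⟩).hom else 1

theorem D_of_lt (m j : ℕ) (h : j < m + 2) : D X m j = (X.δ ⟨j, h⟩).hom := dif_pos h

theorem S_of_lt (m j : ℕ) (h : j < m + 1) : S X m j = (X.σ ⟨j, h⟩).hom := dif_pos h

theorem dd (m : ℕ) (i j : ℕ) (hij : i < j) (hj : j < m + 3) (y : X _⦋m + 2⦌) :
    D X m i (D X (m + 1) j y) = D X m (j - 1) (D X (m + 1) i y) := by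
  obtain ⟨j, rfl⟩ : ∃ j', j = j' + 1 := ⟨j - 1, by omega⟩
  rw [Nat.add_sub_cancel, D_of_lt X m i (by omega), D_of_lt X (m + 1) (j + 1) hj,
    D_of_lt X m j (by omega), D_of_lt X (m + 1) i (by omega)]
  have H : (⟨i, by omega⟩ : Fin (m + 2)) ≤ ⟨j, by omega⟩ := by
    rw [Fin.mk_le_mk]; omega
  have := congrArg (fun φ => φ.hom y) (X.δ_comp_δ H)
  exact this

theorem ds_lt (m : ℕ) (i j : ℕ) (hij : i < j) (hj : j + 1 < m + 3) (y : X _⦋m + 1⦌) :
    D X (m + 1) i (S X (m + 1) j y) = S X m (j - 1) (D X m i y) := by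
  obtain ⟨j, rfl⟩ : ∃ j', j = j' + 1 := ⟨j - 1, by omega⟩
  rw [Nat.add_sub_cancel, D_of_lt X (m + 1) i (by omega), S_of_lt X (m + 1) (j + 1) (by omega),
    S_of_lt X m j (by omega), D_of_lt X m i (by omega)]
  have H : (⟨i, by omega⟩ : Fin (m + 2)) ≤ Fin.castSucc (⟨j, by omega⟩ : Fin (m + 1)) := by
    rw [Fin.le_def]; simp; omega
  have := congrArg (fun φ => φ.hom y) (X.δ_comp_σ_of_le H)
  exact this

theorem ds_self (m : ℕ) (j : ℕ) (hj : j + 1 < m + 3) (y : X _⦋m + 1⦌) :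
    D X (m + 1) j (S X (m + 1) j y) = y := by
  rw [D_of_lt X (m + 1) j (by omega), S_of_lt X (m + 1) j (by omega)]
  have := congrArg (fun φ => φ.hom y) (X.δ_comp_σ_self (i := (⟨j, by omega⟩ : Fin (m + 2))))
  exact this

theorem ds_succ (m : ℕ) (j : ℕ) (hj : j + 1 < m + 3) (y : X _⦋m + 1⦌) :
    D X (m + 1) (j + 1) (S X (m + 1) j y) = y := by
  rw [D_of_lt X (m + 1) (j + 1) (by omega), S_of_lt X (m + 1) j (by omega)]
  have := congrArg (fun φ => φ.hom y) (X.δ_comp_σ_succ (i := (⟨j, by omega⟩ : Fin (m + 2))))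
  exact this

theorem ds_gt (m : ℕ) (i j : ℕ) (hji : j + 1 < i) (hi : i < m + 3) (y : X _⦋m + 1⦌) :
    D X (m + 1) i (S X (m + 1) j y) = S X m j (D X m (i - 1) y) := by
  obtain ⟨i, rfl⟩ : ∃ i', i = i' + 1 := ⟨i - 1, by omega⟩
  rw [Nat.add_sub_cancel, D_of_lt X (m + 1) (i + 1) (by omega), S_of_lt X (m + 1) j (by omega),
    S_of_lt X m j (by omega), D_of_lt X m i (by omega)]
  have H : Fin.castSucc (⟨j, by omega⟩ : Fin (m + 1)) < (⟨i, by omega⟩ : Fin (m + 2)) := by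
    rw [Fin.lt_def]; simp; omega
  have := congrArg (fun φ => φ.hom y) (X.δ_comp_σ_of_gt H)
  exact this

end Inst

/-- The underlying simplicial set of a simplicial group is a Kan complex. -/
theorem result (X : SimplicialObject GrpCat.{u}) : SSet.KanComplex (X ⋙ forget GrpCat.{u}) := by
  rw [SSet.KanComplex.iff]
  intro n i f hf
  obtain _ | m := n
  · -- horns in dimension 1
    obtain ⟨j₀, hj₀⟩ : ∃ j₀ : Fin 2, j₀ ≠ i := by
      by_cases h : i = 0
      · exact ⟨1, by rw [h]; decide⟩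
      · exact ⟨0, fun h' => h h'.symm⟩
    have huniq : ∀ j : Fin 2, j ≠ i → j = j₀ := by
      intro j hj
      fin_cases i <;> fin_cases j <;> fin_cases j₀ <;> simp_all
    let x : X _⦋0⦌ := yonedaEquiv (f j₀ hj₀)
    let y : X _⦋0 + 1⦌ := (X.σ (0 : Fin 1)).hom x
    refine ⟨yonedaEquiv.symm (y : (X ⋙ forget GrpCat.{u}) _⦋0 + 1⦌), ?_⟩
    intro j hj
    obtain rfl := huniq j hj
    rw [stdSimplex.δ_comp_yonedaEquiv_symm, Equiv.symm_apply_eq]
    have h0 : (X.δ (0 : Fin 2)).hom ((X.σ (0 : Fin 1)).hom x) = x :=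
      congrArg (fun φ => φ.hom x) (X.δ_comp_σ_self (i := (0 : Fin 1)))
    have h1 : (X.δ (1 : Fin 2)).hom ((X.σ (0 : Fin 1)).hom x) = x :=
      congrArg (fun φ => φ.hom x) (X.δ_comp_σ_succ (i := (0 : Fin 1)))
    fin_cases j
    · exact h0
    · exact h1
  · -- general case
    let x : ℕ → X _⦋m + 1⦌ := fun j =>
      if h : j < m + 3 then
        (if h' : (⟨j, h⟩ : Fin (m + 3)) = i then 1
          else (yonedaEquiv (f ⟨j, h⟩ h') : (X ⋙ forget GrpCat.{u}) _⦋m + 1⦌))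
      else 1
    have hx : ∀ (j : Fin (m + 3)) (hj : j ≠ i), x j.val = yonedaEquiv (f j hj) := by
      intro j hj
      simp only [x, dif_pos j.isLt, Fin.eta, dif_neg hj]
    have compat : ∀ a b, a < b → b < m + 3 → a ≠ i.val → b ≠ i.val →
        D X m a (x b) = D X m (b - 1) (x a) := by
      intro a b hab hb hai hbi
      obtain ⟨b, rfl⟩ : ∃ b', b = b' + 1 := ⟨b - 1, by omega⟩
      have haN : a < m + 3 := by omega
      have hai' : (⟨a, haN⟩ : Fin (m + 3)) ≠ i := fun h => hai (by rw [← h])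
      have hbi' : (⟨b + 1, hb⟩ : Fin (m + 3)) ≠ i := fun h => hbi (by rw [← h])
      have hlt : (⟨a, haN⟩ : Fin (m + 3)) < ⟨b + 1, hb⟩ := by rw [Fin.mk_lt_mk]; exact hab
      have h1 := (horn.isCompatible_iff f).1 hf ⟨a, haN⟩ ⟨b + 1, hb⟩ hai' hbi' hlt
      have h2 := congrArg yonedaEquiv h1
      rw [stdSimplex.yonedaEquiv_δ_comp, stdSimplex.yonedaEquiv_δ_comp] at h2
      rw [Nat.add_sub_cancel, D_of_lt X m a (by omega), D_of_lt X m b (by omega)]
      have e1 := hx ⟨a, haN⟩ hai'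
      have e2 := hx ⟨b + 1, hb⟩ hbi'
      simp only at e1 e2
      rw [e1, e2]
      exact h2.symm
    obtain ⟨y, -, hy⟩ := exists_filler (m + 3) (D X (m + 1)) (D X m) (S X (m + 1)) (S X m)
      (dd X m) (ds_lt X m) (ds_self X m) (ds_succ X m) (ds_gt X m) ⊤ ⊤
      (fun _ _ _ => Subgroup.mem_top _) (fun _ _ _ => Subgroup.mem_top _)
      i.val i.isLt x (fun _ _ _ => Subgroup.mem_top _) compat
    refine ⟨yonedaEquiv.symm (y : (X ⋙ forget GrpCat.{u}) _⦋m + 1 + 1⦌), ?_⟩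
    intro j hj
    rw [stdSimplex.δ_comp_yonedaEquiv_symm, Equiv.symm_apply_eq]
    have h1 := hy j.val j.isLt (fun h => hj (Fin.ext h))
    rw [D_of_lt X (m + 1) j.val j.isLt, hx j hj] at h1
    exact h1

end Groth.Agent.S6779
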