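import Groth.Statements.S6780
import Mathlib
import Groth.Agent.Lib.Helper57.SimplicialGroupKan
-- import your own Groth.Agent.* helpers here

set_option autoImplicit false
open CategoryTheory
universe u
open SSet

namespace Groth.Agent.S6780

open CategoryTheory Simplicial Opposite SSet
open Groth.Agent.Lib.Helper57.SimplicialGroupKan

section Inst

variable (X : SimplicialObject AddCommGrpCat.{u})

/-- ℕ-indexed faces. -/
noncomputable def D (m : ℕ) (j : ℕ) : X _⦋m + 1⦌ →+ X _⦋m⦌ :=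
  if h : j < m + 2 then (X.δ ⟨j, h⟩).hom else 0

/-- ℕ-indexed degeneracies. -/
noncomputable def S (m : ℕ) (j : ℕ) : X _⦋m⦌ →+ X _⦋m + 1⦌ :=
  if h : j < m + 1 then (X.σ ⟨j, h⟩).hom else 0

theorem D_of_lt (m j : ℕ) (h : j < m + 2) : D X m j = (X.δ ⟨j, h⟩).hom := dif_pos h

theorem S_of_lt (m j : ℕ) (h : j < m + 1) : S X m j = (X.σ ⟨j, h⟩).hom := dif_pos h

theorem dd (m : ℕ) (i j : ℕ) (hij : i < j) (hj : j < m + 3) (y : X _⦋m + 2⦌) :
    D X m i (D X (m + 1) j y) = D X m (j - 1) (D X (m + 1) i y) := by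
  obtain ⟨j, rfl⟩ : ∃ j', j = j' + 1 := ⟨j - 1, by omega⟩
  rw [Nat.add_sub_cancel, D_of_lt X m i (by omega), D_of_lt X (m + 1) (j + 1) hj,
    D_of_lt X m j (by omega), D_of_lt X (m + 1) i (by omega)]
  have H : (⟨i, by omega⟩ : Fin (m + 2)) ≤ ⟨j, by omega⟩ := by
    rw [Fin.mk_le_mk]; omega
  have := congrArg (fun φ => φ.hom y) (X.δ_comp_δ H)
  exact this

theorem ds_lt (m : ℕ) (i j : ℕ) (hij : i < j) (hj : j + 1 < m + 3) (y : X _⦋m + 1⦌) :
    D X (m + 1) i (S X (m + 1) j y) = S X m (j - 1) (D X m i y) := by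
  obtain ⟨j, rfl⟩ : ∃ j', j = j' + 1 := ⟨j - 1, by omega⟩
  rw [Nat.add_sub_cancel, D_of_lt X (m + 1) i (by omega), S_of_lt X (m + 1) (j + 1) (by omega),
    S_of_lt X m j (by omega), D_of_lt X m i (by omega)]
  have H : (⟨i, by omega⟩ : Fin (m + 2)) ≤ Fin.castSucc (⟨j, by omega⟩ : Fin (m + 1)) := by
    rw [Fin.le_def]; simp; omega
  have := congrArg (fun φ => φ.hom y) (X.δ_comp_σ_of_le H)
  exact this

theorem ds_self (m : ℕ) (j : ℕ) (hj : j + 1 < m + 3) (y : X _⦋m + 1⦌) :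
    D X (m + 1) j (S X (m + 1) j y) = y := by
  rw [D_of_lt X (m + 1) j (by omega), S_of_lt X (m + 1) j (by omega)]
  have := congrArg (fun φ => φ.hom y) (X.δ_comp_σ_self (i := (⟨j, by omega⟩ : Fin (m + 2))))
  exact this

theorem ds_succ (m : ℕ) (j : ℕ) (hj : j + 1 < m + 3) (y : X _⦋m + 1⦌) :
    D X (m + 1) (j + 1) (S X (m + 1) j y) = y := by
  rw [D_of_lt X (m + 1) (j + 1) (by omega), S_of_lt X (m + 1) j (by omega)]
  have := congrArg (fun φ => φ.hom y) (X.δ_comp_σ_succ (i := (⟨j, by omega⟩ : Fin (m + 2))))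
  exact this

theorem ds_gt (m : ℕ) (i j : ℕ) (hji : j + 1 < i) (hi : i < m + 3) (y : X _⦋m + 1⦌) :
    D X (m + 1) i (S X (m + 1) j y) = S X m j (D X m (i - 1) y) := by
  obtain ⟨i, rfl⟩ : ∃ i', i = i' + 1 := ⟨i - 1, by omega⟩
  rw [Nat.add_sub_cancel, D_of_lt X (m + 1) (i + 1) (by omega), S_of_lt X (m + 1) j (by omega),
    S_of_lt X m j (by omega), D_of_lt X m i (by omega)]
  have H : Fin.castSucc (⟨j, by omega⟩ : Fin (m + 1)) < (⟨i, by omega⟩ : Fin (m + 2)) := by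
    rw [Fin.lt_def]; simp; omega
  have := congrArg (fun φ => φ.hom y) (X.δ_comp_σ_of_gt H)
  exact this

end Inst

section Lift

variable {X Y : SimplicialObject AddCommGrpCat.{u}} (f : X ⟶ Y)

theorem f_δ {n : ℕ} (j : Fin (n + 2)) (y : X _⦋n + 1⦌) :
    (f.app (op ⦋n⦌)).hom ((X.δ j).hom y) = (Y.δ j).hom ((f.app (op ⦋n + 1⦌)).hom y) :=
  congrArg (fun φ => φ.hom y) (SimplicialObject.δ_naturality f j)

theorem f_σ {n : ℕ} (j : Fin (n + 1)) (y : X _⦋n⦌) :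
    (f.app (op ⦋n + 1⦌)).hom ((X.σ j).hom y) = (Y.σ j).hom ((f.app (op ⦋n⦌)).hom y) :=
  congrArg (fun φ => φ.hom y) (SimplicialObject.σ_naturality f j)

/-- the element-level lifting statement -/
theorem exists_lift_elem (hf : ∀ n : SimplexCategoryᵒᵖ, Function.Surjective (f.app n))
    (n : ℕ) (i : Fin (n + 2))
    (t : (Λ[n + 1, i] : SSet.{u}) ⟶ X ⋙ forget AddCommGrpCat.{u}) (yb : Y _⦋n + 1⦌)
    (h : ∀ (j : Fin (n + 2)) (hj : j ≠ i),
      (f.app (op ⦋n⦌)).hom (yonedaEquiv (horn.ι i j hj ≫ t) : (X ⋙ forget AddCommGrpCat.{u}) _⦋n⦌)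
        = (Y.δ j).hom yb) :
    ∃ y : X _⦋n + 1⦌, (f.app (op ⦋n + 1⦌)).hom y = yb ∧
      ∀ (j : Fin (n + 2)) (hj : j ≠ i),
        (X.δ j).hom y = (yonedaEquiv (horn.ι i j hj ≫ t) : (X ⋙ forget AddCommGrpCat.{u}) _⦋n⦌) := by
  obtain ⟨xt, hxt⟩ := hf (op ⦋n + 1⦌) yb
  have hxt' : (f.app (op ⦋n + 1⦌)).hom xt = yb := hxt
  obtain _ | m := n
  · obtain ⟨j₀, hj₀⟩ : ∃ j₀ : Fin 2, j₀ ≠ i := by
      by_cases h : i = 0
      · exact ⟨1, by rw [h]; decide⟩
      · exact ⟨0, fun h' => h h'.symm⟩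
    have huniq : ∀ j : Fin 2, j ≠ i → j = j₀ := by
      intro j hj
      fin_cases i <;> fin_cases j <;> fin_cases j₀ <;> simp_all
    set x₀ : X _⦋0⦌ := (yonedaEquiv (horn.ι i j₀ hj₀ ≫ t) : (X ⋙ forget AddCommGrpCat.{u}) _⦋0⦌)
      with hx₀
    set z₀ : X _⦋0⦌ := x₀ - (X.δ j₀).hom xt with hz₀
    have hz₀f : (f.app (op ⦋0⦌)).hom z₀ = 0 := by
      rw [hz₀, map_sub, f_δ, hxt', h j₀ hj₀, sub_self]
    refine ⟨xt + (X.σ (0 : Fin 1)).hom z₀, ?_, ?_⟩
    · rw [map_add, f_σ, hz₀f, map_zero, add_zero, hxt']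
    · intro j hj
      obtain rfl := huniq j hj
      have h0 : (X.δ (0 : Fin 2)).hom ((X.σ (0 : Fin 1)).hom z₀) = z₀ :=
        congrArg (fun φ => φ.hom z₀) (X.δ_comp_σ_self (i := (0 : Fin 1)))
      have h1 : (X.δ (1 : Fin 2)).hom ((X.σ (0 : Fin 1)).hom z₀) = z₀ :=
        congrArg (fun φ => φ.hom z₀) (X.δ_comp_σ_succ (i := (0 : Fin 1)))
      have hd : (X.δ j).hom ((X.σ (0 : Fin 1)).hom z₀) = z₀ := by
        fin_cases j
        · exact h0
        · exact h1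
      rw [map_add, hd, hz₀, ← hx₀]
      abel
  · -- general case
    let xx : ∀ (j : Fin (m + 3)), j ≠ i → X _⦋m + 1⦌ := fun j hj =>
      (yonedaEquiv (horn.ι i j hj ≫ t) : (X ⋙ forget AddCommGrpCat.{u}) _⦋m + 1⦌)
    let z : ℕ → X _⦋m + 1⦌ := fun j =>
      if h : j < m + 3 then
        (if h' : (⟨j, h⟩ : Fin (m + 3)) = i then 0
          else xx ⟨j, h⟩ h' - (X.δ ⟨j, h⟩).hom xt)
      else 0
    have hz : ∀ (j : Fin (m + 3)) (hj : j ≠ i), z j.val = xx j hj - (X.δ j).hom xt := by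
      intro j hj
      simp only [z, dif_pos j.isLt, Fin.eta, dif_neg hj]
    have hxxcompat := horn.IsCompatible.of_hom t
    have compat : ∀ a b, a < b → b < m + 3 → a ≠ i.val → b ≠ i.val →
        D X m a (z b) = D X m (b - 1) (z a) := by
      intro a b hab hb hai hbi
      obtain ⟨b, rfl⟩ : ∃ b', b = b' + 1 := ⟨b - 1, by omega⟩
      have haN : a < m + 3 := by omega
      have hai' : (⟨a, haN⟩ : Fin (m + 3)) ≠ i := fun h => hai (by rw [← h])
      have hbi' : (⟨b + 1, hb⟩ : Fin (m + 3)) ≠ i := fun h => hbi (by rw [← h])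
      have hlt : (⟨a, haN⟩ : Fin (m + 3)) < ⟨b + 1, hb⟩ := by rw [Fin.mk_lt_mk]; exact hab
      have h1 := (horn.isCompatible_iff _).1 hxxcompat ⟨a, haN⟩ ⟨b + 1, hb⟩ hai' hbi' hlt
      have h2 := congrArg yonedaEquiv h1
      rw [stdSimplex.yonedaEquiv_δ_comp, stdSimplex.yonedaEquiv_δ_comp] at h2
      have h2' : (X.δ (⟨b, by omega⟩ : Fin (m + 2))).hom (xx ⟨a, haN⟩ hai') =
          (X.δ (⟨a, by omega⟩ : Fin (m + 2))).hom (xx ⟨b + 1, hb⟩ hbi') := h2
      have h3 := dd X m a (b + 1) hab hb xt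
      rw [Nat.add_sub_cancel, D_of_lt X m a (by omega), D_of_lt X (m + 1) (b + 1) hb,
        D_of_lt X m b (by omega), D_of_lt X (m + 1) a (by omega)] at h3
      rw [Nat.add_sub_cancel, D_of_lt X m a (by omega), D_of_lt X m b (by omega)]
      have e1 := hz ⟨a, haN⟩ hai'
      have e2 := hz ⟨b + 1, hb⟩ hbi'
      simp only at e1 e2
      rw [e1, e2, map_sub, map_sub, h2', h3]
    -- kernels
    let H1 : AddSubgroup (X _⦋m + 1⦌) := (f.app (op ⦋m + 1⦌)).hom.ker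
    let H2 : AddSubgroup (X _⦋m + 2⦌) := (f.app (op ⦋m + 2⦌)).hom.ker
    have hD : ∀ j y, y ∈ H2 → D X (m + 1) j y ∈ H1 := by
      intro j y hy
      by_cases hj : j < m + 3
      · rw [D_of_lt X (m + 1) j hj]
        change (f.app (op ⦋m + 1⦌)).hom _ = 0
        rw [f_δ]
        have : (f.app (op ⦋m + 2⦌)).hom y = 0 := hy
        rw [this, map_zero]
      · have : D X (m + 1) j = 0 := dif_neg hj
        rw [this]; exact H1.zero_mem
    have hS : ∀ j y, y ∈ H1 → S X (m + 1) j y ∈ H2 := by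
      intro j y hy
      by_cases hj : j < m + 2
      · rw [S_of_lt X (m + 1) j hj]
        change (f.app (op ⦋m + 2⦌)).hom _ = 0
        rw [f_σ]
        have : (f.app (op ⦋m + 1⦌)).hom y = 0 := hy
        rw [this, map_zero]
      · have : S X (m + 1) j = 0 := dif_neg hj
        rw [this]; exact H2.zero_mem
    have hzH : ∀ j, j < m + 3 → j ≠ i.val → z j ∈ H1 := by
      intro j hj hji
      have hji' : (⟨j, hj⟩ : Fin (m + 3)) ≠ i := fun h => hji (by rw [← h])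
      have e := hz ⟨j, hj⟩ hji'
      simp only at e
      rw [e]
      change (f.app (op ⦋m + 1⦌)).hom _ = 0
      rw [map_sub, f_δ, hxt', h ⟨j, hj⟩ hji', sub_self]
    obtain ⟨w, hwH, hw⟩ := exists_filler_add (m + 3) (D X (m + 1)) (D X m) (S X (m + 1)) (S X m)
      (dd X m) (ds_lt X m) (ds_self X m) (ds_succ X m) (ds_gt X m) H1 H2 hD hS
      i.val i.isLt z hzH compat
    refine ⟨xt + w, ?_, ?_⟩
    · have : (f.app (op ⦋m + 2⦌)).hom w = 0 := hwH
      rw [map_add, this, add_zero, hxt']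
    · intro j hj
      have h1 := hw j.val j.isLt (fun h => hj (Fin.ext h))
      rw [D_of_lt X (m + 1) j.val j.isLt, hz j hj] at h1
      have h1' : (X.δ j).hom w = xx j hj - (X.δ j).hom xt := h1
      rw [map_add, h1']
      abel

end Lift

theorem rlp_aux {X₀ Y₀ : SimplicialObject AddCommGrpCat.{u}} (f : X₀ ⟶ Y₀)
    (hf : ∀ n : SimplexCategoryᵒᵖ, Function.Surjective (f.app n)) :
    SSet.modelCategoryQuillen.J.rlp (X := X₀ ⋙ forget AddCommGrpCat.{u})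
      (Y := Y₀ ⋙ forget AddCommGrpCat.{u}) (Functor.whiskerRight f (forget AddCommGrpCat.{u})) := by
  intro A B g hg
  simp only [SSet.modelCategoryQuillen.J, MorphismProperty.iSup_iff] at hg
  obtain ⟨n, ⟨i⟩⟩ := hg
  refine ⟨fun {t b} sq => ?_⟩
  have hcomm : ∀ (j : Fin (n + 2)) (hj : j ≠ i),
      (f.app (op ⦋n⦌)).hom
        (yonedaEquiv (horn.ι i j hj ≫ t) : (X₀ ⋙ forget AddCommGrpCat.{u}) _⦋n⦌) =
        (Y₀.δ j).hom (yonedaEquiv b : (Y₀ ⋙ forget AddCommGrpCat.{u}) _⦋n + 1⦌) := by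
    intro j hj
    have h1 : (horn.ι i j hj ≫ t) ≫ Functor.whiskerRight f (forget AddCommGrpCat.{u}) =
        stdSimplex.δ j ≫ b := by
      rw [Category.assoc, sq.w, ← Category.assoc, horn.ι_ι]
    have h2 := congrArg yonedaEquiv h1
    rw [yonedaEquiv_comp, stdSimplex.yonedaEquiv_δ_comp] at h2
    exact h2
  obtain ⟨y, hy1, hy2⟩ := exists_lift_elem f hf n i t
    (yonedaEquiv b : (Y₀ ⋙ forget AddCommGrpCat.{u}) _⦋n + 1⦌) hcomm
  refine ⟨⟨{ l := yonedaEquiv.symm (y : (X₀ ⋙ forget AddCommGrpCat.{u}) _⦋n + 1⦌)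
             fac_left := ?_
             fac_right := ?_ }⟩⟩
  · apply horn.hom_ext'
    intro j hj
    rw [← Category.assoc, horn.ι_ι, stdSimplex.δ_comp_yonedaEquiv_symm, Equiv.symm_apply_eq]
    exact hy2 j hj
  · rw [SSet.yonedaEquiv_symm_comp, Equiv.symm_apply_eq]
    exact hy1


/-- A degreewise surjective homomorphism of simplicial abelian groups is a Kan fibration of the
underlying simplicial sets. -/
theorem result {X Y : SimplicialObject AddCommGrpCat.{u}} (f : X ⟶ Y) (hf : ∀ n : SimplexCategoryᵒᵖ, Function.Surjective (f.app n)) : SSet.modelCategoryQuillen.J.rlp (X := X ⋙ forget AddCommGrpCat.{u}) (Y := Y ⋙ forget AddCommGrpCat.{u}) (Functor.whiskerRight f (forget AddCommGrpCat.{u})) := by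
  exact rlp_aux f hf

end Groth.Agent.S6780
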