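import Groth.Statements.S6781
import Mathlib
import Groth.Agent.Lib.Helper57.SimplicialAbKan
-- import your own Groth.Agent.* helpers here

set_option autoImplicit false
open CategoryTheory
universe u
open SSet

namespace Groth.Agent.S6781

open CategoryTheory Simplicial Opposite SSet AlgebraicTopology
open Groth.Agent.Lib.Helper57.SimplicialAbKan

section KerComplex

variable {X Y : SimplicialObject AddCommGrpCat.{u}} (f : X ⟶ Y)

/-- the chain complex of `X`. -/
noncomputable abbrev KX (X : SimplicialObject AddCommGrpCat.{u}) : ChainComplex AddCommGrpCat.{u} ℕ :=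
  (alternatingFaceMapComplex AddCommGrpCat.{u}).obj X

/-- the differential as an additive map. -/
noncomputable def dX (X : SimplicialObject AddCommGrpCat.{u}) (n : ℕ) : X _⦋n + 1⦌ →+ X _⦋n⦌ :=
  ((KX X).d (n + 1) n).hom

theorem f_dX (n : ℕ) (x : X _⦋n + 1⦌) :
    (f.app (op ⦋n⦌)).hom (dX X n x) = dX Y n ((f.app (op ⦋n + 1⦌)).hom x) := by
  have := ((alternatingFaceMapComplex AddCommGrpCat.{u}).map f).comm (n + 1) n
  exact (congrArg (fun φ => φ.hom x) this).symm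

theorem dX_dX (n : ℕ) (x : X _⦋n + 2⦌) : dX X n (dX X (n + 1) x) = 0 := by
  have := (KX X).d_comp_d (n + 2) (n + 1) n
  exact congrArg (fun φ => φ.hom x) this

/-- kernel subgroups -/
def kerf (n : ℕ) : AddSubgroup (X _⦋n⦌) := (f.app (op ⦋n⦌)).hom.ker

theorem mem_kerf (n : ℕ) (x : X _⦋n⦌) : x ∈ kerf f n ↔ (f.app (op ⦋n⦌)).hom x = 0 := Iff.rfl

/-- restricted differential -/
noncomputable def dK (n : ℕ) : kerf f (n + 1) →+ kerf f n :=
  ((dX X n).comp (kerf f (n + 1)).subtype).codRestrict (kerf f n) (by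
    rintro ⟨x, hx⟩
    rw [mem_kerf]
    change (f.app (op ⦋n⦌)).hom (dX X n x) = 0
    rw [f_dX, (mem_kerf f _ x).1 hx, map_zero])

theorem dK_coe (n : ℕ) (x : kerf f (n + 1)) : ((dK f n x : kerf f n) : X _⦋n⦌) = dX X n x := rfl

/-- the kernel complex -/
noncomputable def Kc : ChainComplex AddCommGrpCat.{u} ℕ :=
  ChainComplex.of (fun n => AddCommGrpCat.of (kerf f n)) (fun n => AddCommGrpCat.ofHom (dK f n))
    (by
      intro n
      ext x
      exact dX_dX (X := X) n x.1)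

/-- inclusion of the kernel complex -/
noncomputable def ιK : Kc f ⟶ KX X where
  f n := AddCommGrpCat.ofHom (kerf f n).subtype
  comm' i j hij := by
    obtain rfl : j + 1 = i := hij
    ext x
    have h1 : (Kc f).d (j + 1) j = AddCommGrpCat.ofHom (dK f j) := by
      unfold Kc
      exact ChainComplex.of_d (V := AddCommGrpCat.{u}) (fun n => AddCommGrpCat.of (kerf f n))
        (fun n => AddCommGrpCat.ofHom (dK f n)) j
    rw [h1]
    rfl

theorem Kc_d (n : ℕ) : (Kc f).d (n + 1) n = AddCommGrpCat.ofHom (dK f n) := by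
  unfold Kc
  exact ChainComplex.of_d (V := AddCommGrpCat.{u}) (fun n => AddCommGrpCat.of (kerf f n))
    (fun n => AddCommGrpCat.ofHom (dK f n)) n

/-- the short complex of chain complexes -/
noncomputable def SC : ShortComplex (ChainComplex AddCommGrpCat.{u} ℕ) :=
  ShortComplex.mk (ιK f) ((alternatingFaceMapComplex AddCommGrpCat.{u}).map f) (by
    ext n x
    exact x.2)

theorem SC_shortExact (hf : ∀ n : SimplexCategoryᵒᵖ, Function.Surjective (f.app n)) :
    (SC f).ShortExact := by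
  apply HomologicalComplex.shortExact_of_degreewise_shortExact
  intro n
  have hmono : Mono ((SC f).map (HomologicalComplex.eval _ _ n)).f := by
    rw [AddCommGrpCat.mono_iff_injective]
    intro a b hab
    exact Subtype.ext hab
  have hepi : Epi ((SC f).map (HomologicalComplex.eval _ _ n)).g := by
    rw [AddCommGrpCat.epi_iff_surjective]
    exact hf (op ⦋n⦌)
  refine ShortComplex.ShortExact.mk' ?_ hmono hepi
  rw [ShortComplex.ab_exact_iff]
  intro x hx
  exact ⟨⟨x, hx⟩, rfl⟩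

theorem Kc_acyclic (hf : ∀ n : SimplexCategoryᵒᵖ, Function.Surjective (f.app n))
    (hq : QuasiIso ((AlgebraicTopology.alternatingFaceMapComplex AddCommGrpCat.{u}).map f)) :
    (Kc f).Acyclic :=
  (SC_shortExact f hf).acyclic_X₁ hq

/-- Goal B, positive degree. -/
theorem exists_boundary_succ (hf : ∀ n : SimplexCategoryᵒᵖ, Function.Surjective (f.app n))
    (hq : QuasiIso ((AlgebraicTopology.alternatingFaceMapComplex AddCommGrpCat.{u}).map f))
    (n : ℕ) (c : X _⦋n + 1⦌) (hc : (f.app (op ⦋n + 1⦌)).hom c = 0) (hdc : dX X n c = 0) :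
    ∃ u : X _⦋n + 2⦌, (f.app (op ⦋n + 2⦌)).hom u = 0 ∧ dX X (n + 1) u = c := by
  have h1 := Kc_acyclic f hf hq (n + 1)
  rw [HomologicalComplex.exactAt_iff' (Kc f) (n + 2) (n + 1) n (by simp) (by simp),
    ShortComplex.ab_exact_iff] at h1
  obtain ⟨u, hu⟩ := h1 ⟨c, hc⟩ (by
    change ((Kc f).d (n + 1) n).hom ⟨c, hc⟩ = 0
    rw [Kc_d]
    apply Subtype.ext
    exact hdc)
  change ((Kc f).d (n + 2) (n + 1)).hom u = ⟨c, hc⟩ at hu
  rw [Kc_d] at hu
  exact ⟨u.1, u.2, congrArg Subtype.val hu⟩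

/-- Goal B, degree zero. -/
theorem exists_boundary_zero (hf : ∀ n : SimplexCategoryᵒᵖ, Function.Surjective (f.app n))
    (hq : QuasiIso ((AlgebraicTopology.alternatingFaceMapComplex AddCommGrpCat.{u}).map f))
    (c : X _⦋0⦌) (hc : (f.app (op ⦋0⦌)).hom c = 0) :
    ∃ u : X _⦋0 + 1⦌, (f.app (op ⦋0 + 1⦌)).hom u = 0 ∧ dX X 0 u = c := by
  have h1 := Kc_acyclic f hf hq 0
  rw [HomologicalComplex.exactAt_iff' (Kc f) 1 0 0 (by simp) (by simp),
    ShortComplex.ab_exact_iff] at h1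
  obtain ⟨u, hu⟩ := h1 ⟨c, hc⟩ (by
    change ((Kc f).d 0 0).hom ⟨c, hc⟩ = 0
    rw [(Kc f).shape 0 0 (by simp)]
    rfl)
  change ((Kc f).d (0 + 1) 0).hom u = ⟨c, hc⟩ at hu
  rw [Kc_d] at hu
  exact ⟨u.1, u.2, congrArg Subtype.val hu⟩

end KerComplex

section PInf

open AlgebraicTopology.DoldKan

variable {X Y : SimplicialObject AddCommGrpCat.{u}} (f : X ⟶ Y)

/-- `P_∞` as an additive map. -/
noncomputable def Pinf (X : SimplicialObject AddCommGrpCat.{u}) (n : ℕ) : X _⦋n⦌ →+ X _⦋n⦌ :=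
  ((PInfty : KX X ⟶ KX X).f n).hom

theorem Pinf_higher (n : ℕ) (j : Fin (n + 1)) (u : X _⦋n + 1⦌) :
    (X.δ j.succ).hom (Pinf X (n + 1) u) = 0 := by
  have h1 := HigherFacesVanish.of_P (X := X) (n + 1) n j (by omega)
  rw [← PInfty_f] at h1
  exact congrArg (fun φ => φ.hom u) h1

theorem f_Pinf (n : ℕ) (u : X _⦋n⦌) :
    (f.app (op ⦋n⦌)).hom (Pinf X n u) = Pinf Y n ((f.app (op ⦋n⦌)).hom u) := by
  have h1 := PInfty_f_naturality n f
  exact (congrArg (fun φ => φ.hom u) h1).symm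

theorem dX_Pinf (n : ℕ) (u : X _⦋n + 1⦌) :
    dX X n (Pinf X (n + 1) u) = Pinf X n (dX X n u) := by
  have h1 := (PInfty : KX X ⟶ KX X).comm (n + 1) n
  exact congrArg (fun φ => φ.hom u) h1

theorem Pinf_zero (c : X _⦋0⦌) : Pinf X 0 c = c := by
  have h1 := PInfty_f_0 (X := X)
  exact congrArg (fun φ => φ.hom c) h1

theorem Pinf_of_higher (m : ℕ) (c : X _⦋m + 1⦌)
    (hc : ∀ j : Fin (m + 1), (X.δ j.succ).hom c = 0) : Pinf X (m + 1) c = c := by
  let N : AddSubgroup (X _⦋m + 1⦌) := ⨅ j : Fin (m + 1), (X.δ j.succ).hom.ker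
  let φ : AddCommGrpCat.of N ⟶ X _⦋m + 1⦌ := AddCommGrpCat.ofHom N.subtype
  have hφ : HigherFacesVanish (m + 1) φ := by
    intro j _
    ext x
    have := (AddSubgroup.mem_iInf.1 x.2) j
    exact this
  have h1 := hφ.comp_P_eq_self
  rw [← PInfty_f] at h1
  have hcN : c ∈ N := AddSubgroup.mem_iInf.2 hc
  exact congrArg (fun ψ => ψ.hom (⟨c, hcN⟩ : N)) h1

theorem hom_sum {A B : AddCommGrpCat.{u}} {ι : Type*} (s : Finset ι) (g : ι → (A ⟶ B)) (x : A) :
    (∑ i ∈ s, g i).hom x = ∑ i ∈ s, (g i).hom x := by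
  classical
  induction s using Finset.induction_on with
  | empty => simp
  | insert a s ha ih =>
    rw [Finset.sum_insert ha, Finset.sum_insert ha, ← ih]
    rfl

theorem dX_eq (n : ℕ) (v : X _⦋n + 1⦌) (hv : ∀ j : Fin (n + 1), (X.δ j.succ).hom v = 0) :
    dX X n v = (X.δ 0).hom v := by
  unfold dX
  have h0 : (KX X).d (n + 1) n = ∑ i : Fin (n + 2), (-1 : ℤ) ^ (i : ℕ) • X.δ i :=
    AlternatingFaceMapComplex.obj_d_eq X n
  rw [h0, hom_sum, Fin.sum_univ_succ]
  have h2 : ∀ j : Fin (n + 1), ((-1 : ℤ) ^ (j.succ : ℕ) • X.δ j.succ).hom v = 0 := by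
    intro j
    change (-1 : ℤ) ^ (j.succ : ℕ) • (X.δ j.succ).hom v = 0
    rw [hv j, smul_zero]
  rw [Finset.sum_eq_zero (fun j _ => h2 j), add_zero]
  change (-1 : ℤ) ^ ((0 : Fin (n + 2)) : ℕ) • (X.δ 0).hom v = (X.δ 0).hom v
  simp

end PInf

section Fill

variable {X Y : SimplicialObject AddCommGrpCat.{u}} (f : X ⟶ Y)
  (hf : ∀ n : SimplexCategoryᵒᵖ, Function.Surjective (f.app n))
  (hq : QuasiIso ((AlgebraicTopology.alternatingFaceMapComplex AddCommGrpCat.{u}).map f))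

include hf hq

theorem fill_succ (m : ℕ) (xx : Fin (m + 3) → X _⦋m + 1⦌)
    (hcompat : ∀ (j k : Fin (m + 3)) (hjk : j < k),
      (X.δ (k.pred (Fin.ne_zero_of_lt hjk))).hom (xx j) =
        (X.δ (j.castPred (Fin.ne_last_of_lt hjk))).hom (xx k))
    (yb : Y _⦋m + 2⦌)
    (h : ∀ j : Fin (m + 3), (f.app (op ⦋m + 1⦌)).hom (xx j) = (Y.δ j).hom yb) :
    ∃ y : X _⦋m + 2⦌, (f.app (op ⦋m + 2⦌)).hom y = yb ∧
      ∀ j : Fin (m + 3), (X.δ j).hom y = xx j := by
  obtain ⟨w, hw1, hw2⟩ := exists_lift_family f hf m 0 (fun j _ => xx j)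
    (fun j k _ _ hjk => hcompat j k hjk) yb (fun j _ => h j)
  set c : X _⦋m + 1⦌ := xx 0 - (X.δ 0).hom w with hc_def
  have hc : (f.app (op ⦋m + 1⦌)).hom c = 0 := by
    rw [hc_def, map_sub, h 0, f_δ, hw1, sub_self]
  have hfaces : ∀ l : Fin (m + 2), (X.δ l).hom c = 0 := by
    intro l
    have e1 : (X.δ l).hom ((X.δ 0).hom w) = (X.δ 0).hom ((X.δ l.succ).hom w) := by
      have := X.δ_comp_δ (i := (0 : Fin (m + 2))) (j := l) (Fin.zero_le l)
      exact (congrArg (fun φ => φ.hom w) this).symm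
    have e2 := hw2 l.succ (Fin.succ_ne_zero l)
    have e3 := hcompat 0 l.succ (Fin.succ_pos l)
    simp only [Fin.pred_succ, Fin.castPred_zero] at e3
    rw [hc_def, map_sub, e1, e2, e3, sub_self]
  have hc' : ∀ j : Fin (m + 1), (X.δ j.succ).hom c = 0 := fun j => hfaces j.succ
  have hdc : dX X m c = 0 := by rw [dX_eq m c hc', hfaces 0]
  obtain ⟨u, hu1, hu2⟩ := exists_boundary_succ f hf hq m c hc hdc
  set v : X _⦋m + 2⦌ := Pinf X (m + 2) u with hv_def
  have hv1 : (f.app (op ⦋m + 2⦌)).hom v = 0 := by rw [hv_def, f_Pinf, hu1, map_zero]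
  have hv2 : ∀ j : Fin (m + 2), (X.δ j.succ).hom v = 0 := fun j => Pinf_higher (m + 1) j u
  have hv3 : (X.δ 0).hom v = c := by
    rw [← dX_eq (m + 1) v hv2, hv_def, dX_Pinf, hu2, Pinf_of_higher m c hc']
  refine ⟨w + v, by rw [map_add, hw1, hv1, add_zero], ?_⟩
  intro j
  rcases Fin.eq_zero_or_eq_succ j with rfl | ⟨l, rfl⟩
  · rw [map_add, hv3, hc_def]
    abel
  · rw [map_add, hv2 l, add_zero, hw2 l.succ (Fin.succ_ne_zero l)]

theorem fill_one (xx : Fin 2 → X _⦋0⦌) (yb : Y _⦋0 + 1⦌)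
    (h : ∀ j : Fin 2, (f.app (op ⦋0⦌)).hom (xx j) = (Y.δ j).hom yb) :
    ∃ y : X _⦋0 + 1⦌, (f.app (op ⦋0 + 1⦌)).hom y = yb ∧
      ∀ j : Fin 2, (X.δ j).hom y = xx j := by
  obtain ⟨w, hw1, hw2⟩ := exists_lift_one f hf 1 (xx 1) yb (h 1)
  set c : X _⦋0⦌ := xx 0 - (X.δ 0).hom w with hc_def
  have hc : (f.app (op ⦋0⦌)).hom c = 0 := by
    rw [hc_def, map_sub, h 0, f_δ, hw1, sub_self]
  obtain ⟨u, hu1, hu2⟩ := exists_boundary_zero f hf hq c hc
  set v : X _⦋0 + 1⦌ := Pinf X (0 + 1) u with hv_def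
  have hv1 : (f.app (op ⦋0 + 1⦌)).hom v = 0 := by rw [hv_def, f_Pinf, hu1, map_zero]
  have hv2 : ∀ j : Fin (0 + 1), (X.δ j.succ).hom v = 0 := fun j => Pinf_higher 0 j u
  have hv3 : (X.δ 0).hom v = c := by
    rw [← dX_eq 0 v hv2, hv_def, dX_Pinf, hu2, Pinf_zero]
  refine ⟨w + v, by rw [map_add, hw1, hv1, add_zero], ?_⟩
  intro j
  rcases Fin.eq_zero_or_eq_succ j with rfl | ⟨l, rfl⟩
  · rw [map_add, hv3, hc_def]
    abel
  · have hl : l = 0 := Subsingleton.elim _ _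
    subst hl
    rw [map_add, hv2 0, add_zero]
    exact hw2

end Fill


theorem rlp_aux {X₀ Y₀ : SimplicialObject AddCommGrpCat.{u}} (f : X₀ ⟶ Y₀)
    (hf : ∀ n : SimplexCategoryᵒᵖ, Function.Surjective (f.app n))
    (hq : QuasiIso ((AlgebraicTopology.alternatingFaceMapComplex AddCommGrpCat.{u}).map f)) :
    SSet.modelCategoryQuillen.I.rlp (X := X₀ ⋙ forget AddCommGrpCat.{u})
      (Y := Y₀ ⋙ forget AddCommGrpCat.{u}) (Functor.whiskerRight f (forget AddCommGrpCat.{u})) := by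
  intro A B g hg
  obtain ⟨n⟩ := hg
  refine ⟨fun {t b} sq => ?_⟩
  rcases n with _ | n
  · -- n = 0
    obtain ⟨y, hy⟩ := hf (op ⦋0⦌) (yonedaEquiv b : (Y₀ ⋙ forget AddCommGrpCat.{u}) _⦋0⦌)
    refine ⟨⟨{ l := yonedaEquiv.symm (y : (X₀ ⋙ forget AddCommGrpCat.{u}) _⦋0⦌)
               fac_left := ?_
               fac_right := ?_ }⟩⟩
    · exact boundary.hom_ext₀
    · rw [SSet.yonedaEquiv_symm_comp, Equiv.symm_apply_eq]
      exact hy
  · have hcomm : ∀ (j : Fin (n + 2)),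
        (f.app (op ⦋n⦌)).hom
          (yonedaEquiv (boundary.ι j ≫ t) : (X₀ ⋙ forget AddCommGrpCat.{u}) _⦋n⦌) =
          (Y₀.δ j).hom (yonedaEquiv b : (Y₀ ⋙ forget AddCommGrpCat.{u}) _⦋n + 1⦌) := by
      intro j
      have h1 : (boundary.ι j ≫ t) ≫ Functor.whiskerRight f (forget AddCommGrpCat.{u}) =
          stdSimplex.δ j ≫ b := by
        rw [Category.assoc, sq.w, ← Category.assoc, boundary.ι_ι]
      have h2 := congrArg yonedaEquiv h1
      rw [yonedaEquiv_comp, stdSimplex.yonedaEquiv_δ_comp] at h2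
      exact h2
    have hfill : ∃ y : X₀ _⦋n + 1⦌, (f.app (op ⦋n + 1⦌)).hom y =
          (yonedaEquiv b : (Y₀ ⋙ forget AddCommGrpCat.{u}) _⦋n + 1⦌) ∧
        ∀ j : Fin (n + 2), (X₀.δ j).hom y =
          (yonedaEquiv (boundary.ι j ≫ t) : (X₀ ⋙ forget AddCommGrpCat.{u}) _⦋n⦌) := by
      rcases n with _ | m
      · exact fill_one f hf hq
          (fun j => (yonedaEquiv (boundary.ι j ≫ t) : (X₀ ⋙ forget AddCommGrpCat.{u}) _⦋0⦌))
          (yonedaEquiv b : (Y₀ ⋙ forget AddCommGrpCat.{u}) _⦋0 + 1⦌) hcomm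
      · refine fill_succ f hf hq m
          (fun j => (yonedaEquiv (boundary.ι j ≫ t) : (X₀ ⋙ forget AddCommGrpCat.{u}) _⦋m + 1⦌))
          ?_ (yonedaEquiv b : (Y₀ ⋙ forget AddCommGrpCat.{u}) _⦋m + 2⦌) hcomm
        intro j k hjk
        obtain ⟨j, rfl⟩ := j.eq_castSucc_of_ne_last (Fin.ne_last_of_lt hjk)
        obtain ⟨k, rfl⟩ := k.eq_succ_of_ne_zero (Fin.ne_zero_of_lt hjk)
        have hjk' : j ≤ k := by
          rw [Fin.castSucc_lt_succ_iff] at hjk
          exact hjk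
        have e : stdSimplex.δ k ≫ boundary.ι (n := m + 1) j.castSucc =
            stdSimplex.δ j ≫ boundary.ι (n := m + 1) k.succ := by
          rw [← cancel_mono (Subcomplex.ι _), Category.assoc, Category.assoc, boundary.ι_ι,
            boundary.ι_ι]
          exact (stdSimplex.δ_comp_δ hjk').symm
        have e2 := congrArg (fun φ => yonedaEquiv (φ ≫ t)) e
        simp only [Category.assoc] at e2
        rw [stdSimplex.yonedaEquiv_δ_comp, stdSimplex.yonedaEquiv_δ_comp] at e2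
        simp only [Fin.pred_succ, Fin.castPred_castSucc]
        exact e2
    obtain ⟨y, hy1, hy2⟩ := hfill
    refine ⟨⟨{ l := yonedaEquiv.symm (y : (X₀ ⋙ forget AddCommGrpCat.{u}) _⦋n + 1⦌)
               fac_left := ?_
               fac_right := ?_ }⟩⟩
    · apply boundary.hom_ext
      intro j
      rw [← Category.assoc, boundary.ι_ι, stdSimplex.δ_comp_yonedaEquiv_symm, Equiv.symm_apply_eq]
      exact hy2 j
    · rw [SSet.yonedaEquiv_symm_comp, Equiv.symm_apply_eq]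
      exact hy1

/-- A degreewise surjective homomorphism of simplicial abelian groups inducing a quasi-isomorphism of
the associated chain complexes is a trivial Kan fibration of the underlying simplicial sets. -/
theorem result {X Y : SimplicialObject AddCommGrpCat.{u}} (f : X ⟶ Y) (hf : ∀ n : SimplexCategoryᵒᵖ, Function.Surjective (f.app n)) (hq : QuasiIso ((AlgebraicTopology.alternatingFaceMapComplex AddCommGrpCat.{u}).map f)) : SSet.modelCategoryQuillen.I.rlp (X := X ⋙ forget AddCommGrpCat.{u}) (Y := Y ⋙ forget AddCommGrpCat.{u}) (Functor.whiskerRight f (forget AddCommGrpCat.{u})) := by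
  exact rlp_aux f hf hq

end Groth.Agent.S6781
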