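import Groth.Statements.S6789
import Groth.Agent.Lib.Helper43.CechNerveHtpy

set_option autoImplicit false
open CategoryTheory CategoryTheory.Limits
universe v u
open CategoryTheory CategoryTheory.SimplicialObject

namespace Groth.Agent.S6789

/-- For a morphism `f : Y ⟶ X` with a section `s`, the endomorphism of the Čech nerve of `f` (the
simplicial object of iterated fibre products of `Y` over `X`) that applies `s ∘ f` factorwise admits
simplicial homotopies to and from the identity: the published formula gives one direction and its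
mirror image (exchange the roles of the identity and `s ∘ f`) gives the other. -/
theorem result {C : Type u} [Category.{v} C] {Y X : C} (f : Y ⟶ X) (s : X ⟶ Y) (hs : s ≫ f = 𝟙 X) [∀ n : ℕ, HasWidePullback (Arrow.mk f).right (fun _ : Fin (n + 1) => (Arrow.mk f).left) (fun _ => (Arrow.mk f).hom)] (φ : Arrow.mk f ⟶ Arrow.mk f) (hφl : φ.left = f ≫ s) (hφr : φ.right = 𝟙 X) : Nonempty (SimplicialObject.Homotopy (𝟙 (Arrow.mk f).cechNerve) (Arrow.mapCechNerve φ)) ∧ Nonempty (SimplicialObject.Homotopy (Arrow.mapCechNerve φ) (𝟙 (Arrow.mk f).cechNerve)) := by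
  have h1 : CommaMorphism.right (𝟙 (Arrow.mk f)) = 𝟙 _ := rfl
  constructor
  · have H := Groth.Agent.Lib.Helper43.CechNerveHtpy.homotopy (𝟙 (Arrow.mk f)) φ h1 hφr
    rw [Groth.Agent.Lib.Helper43.CechNerveHtpy.mapCechNerve_id] at H
    exact ⟨H⟩
  · have H := Groth.Agent.Lib.Helper43.CechNerveHtpy.homotopy φ (𝟙 (Arrow.mk f)) hφr h1
    rw [Groth.Agent.Lib.Helper43.CechNerveHtpy.mapCechNerve_id] at H
    exact ⟨H⟩

end Groth.Agent.S6789
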