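import Groth.Statements.S6790
import Mathlib.Tactic.CategoryTheory.Monoidal.Basic
import Mathlib.Tactic.CategoryTheory.Coherence
-- import your own Groth.Agent.* helpers here

set_option autoImplicit false
open CategoryTheory CategoryTheory.Limits MonoidalCategory
universe v u
open CategoryTheory CategoryTheory.Monoidal

namespace Groth.Agent.S6790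

section aux

variable {C : Type u} [Category.{v} C] [MonoidalCategory C]

open MonoidalCategory

/-- A retract of an object with a right dual, together with a splitting of the mate idempotent on
the dual, has a right dual. -/
@[instance_reducible]
def exactPairingOfRetract {X X₁ Y₁ : C} [HasRightDual X] (i : X₁ ⟶ X) (p : X ⟶ X₁)
    (hip : i ≫ p = 𝟙 X₁) (i₁ : Y₁ ⟶ Xᘁ) (p₁ : Xᘁ ⟶ Y₁) (hi₁p₁ : i₁ ≫ p₁ = 𝟙 Y₁)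
    (hsplit : p₁ ≫ i₁ = (p ≫ i)ᘁ) : ExactPairing X₁ Y₁ where
  evaluation' := i₁ ▷ X₁ ≫ Xᘁ ◁ i ≫ ε_ X Xᘁ
  coevaluation' := η_ X Xᘁ ≫ p ▷ Xᘁ ≫ X₁ ◁ p₁
  evaluation_coevaluation' := by
    have hie : i ≫ p ≫ i = i := by rw [← Category.assoc, hip, Category.id_comp]
    calc
      _ = η_ X Xᘁ ▷ X₁ ⊗≫ p ▷ (Xᘁ ⊗ X₁) ⊗≫ X₁ ◁ ((p₁ ≫ i₁) ▷ X₁) ⊗≫ X₁ ◁ (Xᘁ ◁ i) ⊗≫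
          X₁ ◁ ε_ X Xᘁ := by
        monoidal
      _ = η_ X Xᘁ ▷ X₁ ⊗≫ p ▷ (Xᘁ ⊗ X₁) ⊗≫ X₁ ◁ ((p ≫ i)ᘁ ▷ X₁ ≫ Xᘁ ◁ i) ⊗≫
          X₁ ◁ ε_ X Xᘁ := by
        rw [hsplit]; monoidal
      _ = η_ X Xᘁ ▷ X₁ ⊗≫ p ▷ (Xᘁ ⊗ X₁) ⊗≫ X₁ ◁ (Xᘁ ◁ i) ⊗≫
          X₁ ◁ ((p ≫ i)ᘁ ▷ X ≫ ε_ X Xᘁ) := by
        rw [← whisker_exchange]; monoidal
      _ = η_ X Xᘁ ▷ X₁ ⊗≫ p ▷ (Xᘁ ⊗ X₁) ⊗≫ X₁ ◁ (Xᘁ ◁ (i ≫ p ≫ i)) ⊗≫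
          X₁ ◁ ε_ X Xᘁ := by
        rw [rightAdjointMate_comp_evaluation]; monoidal
      _ = η_ X Xᘁ ▷ X₁ ⊗≫ (p ▷ (Xᘁ ⊗ X₁) ≫ X₁ ◁ (Xᘁ ◁ i)) ⊗≫ X₁ ◁ ε_ X Xᘁ := by
        rw [hie]; monoidal
      _ = 𝟙 _ ⊗≫ (η_ X Xᘁ ▷ X₁ ≫ (X ⊗ Xᘁ) ◁ i) ⊗≫
          (p ▷ (Xᘁ ⊗ X) ≫ X₁ ◁ ε_ X Xᘁ) ⊗≫ 𝟙 _ := by
        rw [← whisker_exchange]; monoidal
      _ = 𝟙 _ ⊗≫ i ⊗≫ (η_ X Xᘁ ▷ X ⊗≫ X ◁ ε_ X Xᘁ) ⊗≫ p ⊗≫ 𝟙 _ := by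
        rw [← whisker_exchange, ← whisker_exchange]; monoidal
      _ = 𝟙 _ ⊗≫ (i ≫ p) ⊗≫ 𝟙 _ := by
        rw [ExactPairing.evaluation_coevaluation'']; monoidal
      _ = (λ_ X₁).hom ≫ (ρ_ X₁).inv := by
        rw [hip]
        monoidal
  coevaluation_evaluation' := by
    calc
      _ = Y₁ ◁ η_ X Xᘁ ⊗≫ Y₁ ◁ (p ▷ Xᘁ) ⊗≫ (Y₁ ◁ (X₁ ◁ p₁) ≫ i₁ ▷ (X₁ ⊗ Y₁)) ⊗≫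
          (Xᘁ ◁ i) ▷ Y₁ ⊗≫ ε_ X Xᘁ ▷ Y₁ := by
        monoidal
      _ = Y₁ ◁ η_ X Xᘁ ⊗≫ Y₁ ◁ (p ▷ Xᘁ) ⊗≫ i₁ ▷ (X₁ ⊗ Xᘁ) ⊗≫ (Xᘁ ◁ (X₁ ◁ p₁ ≫ i ▷ Y₁)) ⊗≫
          ε_ X Xᘁ ▷ Y₁ := by
        rw [whisker_exchange]; monoidal
      _ = Y₁ ◁ η_ X Xᘁ ⊗≫ Y₁ ◁ (p ▷ Xᘁ) ⊗≫ (i₁ ▷ (X₁ ⊗ Xᘁ) ≫ Xᘁ ◁ (i ▷ Xᘁ)) ⊗≫
          Xᘁ ◁ (X ◁ p₁) ⊗≫ ε_ X Xᘁ ▷ Y₁ := by
        rw [whisker_exchange]; monoidal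
      _ = Y₁ ◁ (η_ X Xᘁ ≫ (p ≫ i) ▷ Xᘁ) ⊗≫ i₁ ▷ (X ⊗ Xᘁ) ⊗≫
          Xᘁ ◁ (X ◁ p₁) ⊗≫ ε_ X Xᘁ ▷ Y₁ := by
        rw [← whisker_exchange]; monoidal
      _ = Y₁ ◁ η_ X Xᘁ ⊗≫ Y₁ ◁ (X ◁ (p₁ ≫ i₁)) ⊗≫ i₁ ▷ (X ⊗ Xᘁ) ⊗≫
          Xᘁ ◁ (X ◁ p₁) ⊗≫ ε_ X Xᘁ ▷ Y₁ := by
        rw [← coevaluation_comp_rightAdjointMate, hsplit]; monoidal
      _ = Y₁ ◁ η_ X Xᘁ ⊗≫ Y₁ ◁ (X ◁ p₁) ⊗≫ (Y₁ ◁ (X ◁ i₁) ≫ i₁ ▷ (X ⊗ Xᘁ)) ⊗≫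
          Xᘁ ◁ (X ◁ p₁) ⊗≫ ε_ X Xᘁ ▷ Y₁ := by
        monoidal
      _ = Y₁ ◁ η_ X Xᘁ ⊗≫ Y₁ ◁ (X ◁ p₁) ⊗≫ i₁ ▷ (X ⊗ Y₁) ⊗≫ Xᘁ ◁ (X ◁ (i₁ ≫ p₁)) ⊗≫
          ε_ X Xᘁ ▷ Y₁ := by
        rw [whisker_exchange]; monoidal
      _ = Y₁ ◁ η_ X Xᘁ ⊗≫ (Y₁ ◁ (X ◁ p₁) ≫ i₁ ▷ (X ⊗ Y₁)) ⊗≫ ε_ X Xᘁ ▷ Y₁ := by
        rw [hi₁p₁]; monoidal
      _ = 𝟙 _ ⊗≫ (Y₁ ◁ η_ X Xᘁ ≫ i₁ ▷ (X ⊗ Xᘁ)) ⊗≫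
          ((Xᘁ ⊗ X) ◁ p₁ ≫ ε_ X Xᘁ ▷ Y₁) ⊗≫ 𝟙 _ := by
        rw [whisker_exchange]; monoidal
      _ = 𝟙 _ ⊗≫ i₁ ⊗≫ (Xᘁ ◁ η_ X Xᘁ ⊗≫ ε_ X Xᘁ ▷ Xᘁ) ⊗≫ p₁ ⊗≫ 𝟙 _ := by
        rw [whisker_exchange, whisker_exchange]; monoidal
      _ = 𝟙 _ ⊗≫ (i₁ ≫ p₁) ⊗≫ 𝟙 _ := by
        rw [ExactPairing.coevaluation_evaluation'']; monoidal
      _ = (ρ_ Y₁).hom ≫ (λ_ Y₁).inv := by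
        rw [hi₁p₁]
        monoidal

end aux

/-- In an idempotent-complete additive monoidal category, a direct summand of an object admitting a dual
(with coevaluation `𝟙_ A ⟶ X ⊗ Y` and evaluation `Y ⊗ X ⟶ 𝟙_ A`) again admits such a dual. -/
theorem result {A : Type u} [Category.{v} A] [Preadditive A] [HasFiniteBiproducts A] [MonoidalCategory A] [MonoidalPreadditive A] [IsIdempotentComplete A] {X X₁ : A} (i : X₁ ⟶ X) (p : X ⟶ X₁) (hip : i ≫ p = 𝟙 X₁) [HasRightDual X] : Nonempty (HasRightDual X₁) := by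
  have hidem : (p ≫ i)ᘁ ≫ (p ≫ i)ᘁ = (p ≫ i)ᘁ := by
    rw [← comp_rightAdjointMate]
    congr 1
    rw [Category.assoc, ← Category.assoc i, hip, Category.id_comp]
  obtain ⟨Y₁, i₁, p₁, h1, h2⟩ := IsIdempotentComplete.idempotents_split _ _ hidem
  have : ExactPairing X₁ Y₁ := exactPairingOfRetract i p hip i₁ p₁ h1 h2
  exact ⟨⟨Y₁⟩⟩

end Groth.Agent.S6790
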