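import Groth.Statements.S6791
import Mathlib.CategoryTheory.Abelian.SerreClass.Localization
-- import your own Groth.Agent.* helpers here

set_option autoImplicit false
open CategoryTheory CategoryTheory.Limits
universe v u v' u' v'' u''
open CategoryTheory CategoryTheory.SerreClass

namespace Groth.Agent.S6791

/-- For an exact functor `F : A ⥤ B` of abelian categories and a Serre class `P` of `A` killed by `F`,
with `L : A ⥤ Q` a model of the quotient `A/P` and `Fbar : Q ⥤ B` the induced functor, `P` is
exactly the kernel of `F` if and only if `Fbar` is faithful. -/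
theorem result {A : Type u} [Category.{v} A] [Abelian A] {B : Type u'} [Category.{v'} B] [Abelian B] (F : A ⥤ B) [F.Additive] [PreservesFiniteLimits F] [PreservesFiniteColimits F] (P : ObjectProperty A) [P.IsSerreClass] (hP : ∀ X : A, P X → IsZero (F.obj X)) {Q : Type u''} [Category.{v''} Q] [Abelian Q] (L : A ⥤ Q) [L.IsLocalization P.isoModSerre] [L.Additive] [PreservesFiniteLimits L] [PreservesFiniteColimits L] (Fbar : Q ⥤ B) (e : L ⋙ Fbar ≅ F) : (∀ X : A, IsZero (F.obj X) → P X) ↔ Fbar.Faithful := by
  have hadd : Fbar.Additive := by
    rw [Localization.functor_additive_iff L P.isoModSerre Fbar]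
    exact Functor.additive_of_iso e.symm
  constructor
  · intro hker
    -- key: a morphism between objects in the image of `L` killed by `Fbar` is zero
    have key0 : ∀ {X Y : A} (h : L.obj X ⟶ L.obj Y), Fbar.map h = 0 → h = 0 := by
      intro X Y h hh
      obtain ⟨φ, hφ⟩ := Localization.exists_rightFraction L P.isoModSerre h
      have hs : IsIso (L.map φ.s) := Localization.inverts L P.isoModSerre φ.s φ.hs
      have h1 : L.map φ.s ≫ h = L.map φ.f := by
        rw [hφ, MorphismProperty.RightFraction.map_s_comp_map]
      have h2 : Fbar.map (L.map φ.f) = 0 := by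
        rw [← h1, Fbar.map_comp, hh, comp_zero]
      have h3 : F.map φ.f = 0 := by
        have nat := e.hom.naturality φ.f
        simp only [Functor.comp_map] at nat
        rw [h2, zero_comp] at nat
        have : IsIso (e.hom.app φ.X') := inferInstance
        exact (cancel_epi (e.hom.app φ.X')).mp (by rw [← nat, comp_zero])
      have h4 : IsZero (F.obj (Abelian.image φ.f)) := by
        rw [IsZero.iff_id_eq_zero]
        have hfac : F.map (Abelian.factorThruImage φ.f) ≫ F.map (Abelian.image.ι φ.f) = 0 := by
          rw [← F.map_comp, Abelian.image.fac, h3]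
        have hepi : Epi (F.map (Abelian.factorThruImage φ.f)) := inferInstance
        have hmono : Mono (F.map (Abelian.image.ι φ.f)) := inferInstance
        have h5 : F.map (Abelian.image.ι φ.f) = 0 := by
          rw [← cancel_epi (F.map (Abelian.factorThruImage φ.f)), hfac, comp_zero]
        rw [← cancel_mono (F.map (Abelian.image.ι φ.f)), h5, comp_zero, comp_zero]
      have h6 : L.map φ.f = 0 :=
        (ObjectProperty.SerreClassLocalization.map_eq_zero_iff L P φ.f).mpr (hker _ h4)
      rw [h6] at h1
      exact (cancel_epi (L.map φ.s)).mp (by rw [h1, comp_zero])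
    have hess : L.EssSurj := Localization.essSurj L P.isoModSerre
    have key : ∀ {X Y : Q} (h : X ⟶ Y), Fbar.map h = 0 → h = 0 := by
      intro X Y h hh
      have := key0 ((L.objObjPreimageIso X).hom ≫ h ≫ (L.objObjPreimageIso Y).inv) (by
        rw [Fbar.map_comp, Fbar.map_comp, hh, zero_comp, comp_zero])
      rw [← cancel_epi (L.objObjPreimageIso X).hom, ← cancel_mono (L.objObjPreimageIso Y).inv,
        Category.assoc, this, comp_zero, zero_comp]
    refine ⟨fun {X Y f g} h => ?_⟩
    rw [← sub_eq_zero]
    apply key
    rw [Fbar.map_sub, h, sub_self]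
  · intro hfaith X hX
    rw [← ObjectProperty.SerreClassLocalization.isZero_obj_iff L P X, IsZero.iff_id_eq_zero]
    apply Fbar.map_injective
    have hz : IsZero (Fbar.obj (L.obj X)) := hX.of_iso (e.app X)
    exact hz.eq_of_src _ _

end Groth.Agent.S6791
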