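import Groth.Statements.S6792
import Groth.Agent.Lib.Helper99.SubobjImage
import Mathlib.Algebra.Homology.QuasiIso
import Mathlib.Data.Int.Interval
import Mathlib.Data.Set.Finite.Basic

set_option autoImplicit false
open CategoryTheory
universe v u
open SpSeq SpSeq.FilCx

namespace Groth.Agent.S6792


open CategoryTheory CategoryTheory.Limits Groth.Agent.Lib.Helper99

section Helpers

variable {A : Type u} [Category.{v} A] [Abelian A]

theorem isZero_subquot_of_eq {X : A} (Z B : Subobject X) (h : B ≤ Z) (hBZ : B = Z) :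
    IsZero (SpSeq.subquot Z B h) := by
  subst hBZ
  unfold SpSeq.subquot
  have : IsIso (B.ofLE B h) := by
    have : B.ofLE B h = 𝟙 _ := by
      apply (cancel_mono B.arrow).mp
      simp
    rw [this]
    infer_instance
  exact isZero_cokernel_of_epi _

theorem pullback_bot_eq_kernel {X Y : A} (f : X ⟶ Y) :
    (Subobject.pullback f).obj ⊥ = kernelSubobject f := by
  apply le_antisymm
  · apply le_kernelSubobject
    have h1 : ((Subobject.pullback f).obj ⊥).Factors ((Subobject.pullback f).obj ⊥).arrow := by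
      have := Subobject.factors_comp_arrow (𝟙 (((Subobject.pullback f).obj (⊥ : Subobject Y) : A)))
      rwa [Category.id_comp] at this
    rw [pullback_factors_iff] at h1
    exact (Subobject.bot_factors_iff_zero _).mp h1
  · exact SpSeq.FilCx.kernelSubobject_le_pullback f ⊥

theorem isGLB_range_of_eventually {α : Type*} [PartialOrder α] (f : ℕ → α) (S : α)
    (hle : ∀ r, S ≤ f r) (r₀ : ℕ) (h : f r₀ = S) : IsGLB (Set.range f) S := by
  constructor
  · rintro _ ⟨r, rfl⟩
    exact hle r
  · intro T hT
    rw [← h]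
    exact hT ⟨r₀, rfl⟩

theorem isLUB_range_of_eventually {α : Type*} [PartialOrder α] (f : ℕ → α) (S : α)
    (hle : ∀ r, f r ≤ S) (r₀ : ℕ) (h : f r₀ = S) : IsLUB (Set.range f) S := by
  constructor
  · rintro _ ⟨r, rfl⟩
    exact hle r
  · intro T hT
    rw [← h]
    exact hT ⟨r₀, rfl⟩

end Helpers

/-- For a filtered complex whose filtration is finite in each degree, the associated spectral sequence
is bounded (from page `0` on), the induced filtration on each cohomology object is finite, and the
spectral sequence converges to the cohomology. -/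
theorem result {A : Type u} [Category.{v} A] [Abelian A] (K : SpSeq.FilCx A) (hK : ∀ n : ℤ, (K.XFil n).IsFinite) : K.IsBounded 0 ∧ (∀ n : ℤ, (K.HFil n).IsFinite) ∧ K.Converges := by
  classical
  have hanti : ∀ n : ℤ, Antitone fun p => K.filX p n := K.filX_anti
  have hK1 : ∀ n : ℤ, ∃ a : ℤ, K.filX a n = ⊤ := fun n => (hK n).1
  have hK2 : ∀ n : ℤ, ∃ b : ℤ, K.filX b n = ⊥ := fun n => (hK n).2
  choose a ha using hK1
  choose b hb using hK2
  have htop : ∀ (n p : ℤ), p ≤ a n → K.filX p n = ⊤ := fun n p hp =>
    top_le_iff.mp ((ha n) ▸ hanti n hp)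
  have hbot : ∀ (n p : ℤ), b n ≤ p → K.filX p n = ⊥ := fun n p hp =>
    le_bot_iff.mp ((hb n) ▸ hanti n hp)
  have hiso : ∀ (n p : ℤ), p ≤ a n → IsIso ((K.fil p).arrow.f n) := fun n p hp =>
    (Subobject.isIso_iff_mk_eq_top _).mpr (htop n p hp)
  -- Part 2 : the induced filtration on cohomology is finite
  have hHtop : ∀ n : ℤ, K.filH (min (a (n - 1)) (a n)) n = ⊤ := by
    intro n
    set p := min (a (n - 1)) (a n) with hp
    have h2 : IsIso ((K.fil p).arrow.f n) := hiso n p (min_le_right _ _)
    have h1 : IsIso ((K.fil p).arrow.f ((ComplexShape.up ℤ).prev n)) := by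
      rw [CochainComplex.prev]
      exact hiso (n - 1) p (min_le_left _ _)
    have h3 : IsIso (HomologicalComplex.homologyMap (K.fil p).arrow n) :=
      ShortComplex.isIso_homologyMap_of_epi_of_isIso_of_mono'
        ((HomologicalComplex.shortComplexFunctor A (ComplexShape.up ℤ) n).map (K.fil p).arrow)
        (by
          show Epi ((K.fil p).arrow.f ((ComplexShape.up ℤ).prev n))
          infer_instance)
        (by
          show IsIso ((K.fil p).arrow.f n)
          exact h2)
        (by
          show Mono ((K.fil p).arrow.f ((ComplexShape.up ℤ).next n))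
          infer_instance)
    unfold SpSeq.FilCx.filH
    exact imageSubobject_eq_top_of_epi _
  have hHbot : ∀ n : ℤ, K.filH (b n) n = ⊥ := by
    intro n
    have h0 : (K.fil (b n)).arrow.f n = 0 := Subobject.mk_eq_bot_iff_zero.mp (hb n)
    have hz : IsZero ((K.fil (b n) : CochainComplex A ℤ).X n) := IsZero.of_mono_eq_zero _ h0
    have hz2 : IsZero ((K.fil (b n) : CochainComplex A ℤ).homology n) :=
      ShortComplex.isZero_homology_of_isZero_X₂ _ hz
    unfold SpSeq.FilCx.filH
    exact le_bot_iff.mp ((imageSubobject_le_iff _ _).mpr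
      ((Subobject.bot_factors_iff_zero _).mpr (hz2.eq_of_src _ _)))
  refine ⟨?_, fun n => ⟨⟨_, hHtop n⟩, ⟨_, hHbot n⟩⟩, ?_, ⟨?_, ?_⟩, ?_⟩
  · -- bounded
    intro n
    apply Set.Finite.subset (Set.finite_Ico (a n) (b n))
    intro p hp
    rw [Set.mem_setOf_eq] at hp
    by_contra hcon
    apply hp
    rw [Set.mem_Ico, not_and_or, not_le, not_lt] at hcon
    unfold SpSeq.FilCx.E
    apply isZero_subquot_of_eq
    unfold SpSeq.FilCx.ZSub SpSeq.FilCx.BSub
    rcases hcon with hlt | hge
    · rw [htop n (p + 1) (by omega)]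
      simp
    · rw [hbot n p hge, hbot n (p + 1) (by omega)]
      simp
  · -- regular
    intro p n
    refine ⟨(b (n + 1) - p).toNat, fun r hr => ?_⟩
    unfold SpSeq.FilCx.ZSub
    rw [hbot (n + 1) (p + r) (by omega), hbot (n + 1) (p + ((b (n + 1) - p).toNat : ℕ)) (by omega)]
  · -- weakly converges
    intro p n
    constructor
    · refine isGLB_range_of_eventually (fun r => K.ZSub r p n) (K.ZTop p n) ?_
        (b (n + 1) - p).toNat ?_
      · intro r
        exact sup_le_sup_right (inf_le_inf_left _ (SpSeq.FilCx.kernelSubobject_le_pullback _ _)) _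
      · show K.ZSub (b (n + 1) - p).toNat p n = K.ZTop p n
        unfold SpSeq.FilCx.ZSub SpSeq.FilCx.ZTop
        rw [hbot (n + 1) (p + ((b (n + 1) - p).toNat : ℕ)) (by omega), pullback_bot_eq_kernel]
    · refine isLUB_range_of_eventually (fun r => K.BSub r p n) (K.BBot p n) ?_
        (p + 1 - a (n - 1)).toNat ?_
      · intro r
        exact sup_le_sup_right (inf_le_inf_left _ (imageSubobject_comp_le _ _)) _
      · show K.BSub (p + 1 - a (n - 1)).toNat p n = K.BBot p n
        unfold SpSeq.FilCx.BSub SpSeq.FilCx.BBot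
        have h1 : K.filX (p - ((p + 1 - a (n - 1)).toNat : ℕ) + 1) (n - 1) = ⊤ :=
          htop (n - 1) _ (by omega)
        have h2 : IsIso (K.filX (p - ((p + 1 - a (n - 1)).toNat : ℕ) + 1) (n - 1)).arrow :=
          (Subobject.isIso_arrow_iff_eq_top _).mpr h1
        rw [imageSubobject_iso_comp]
  · -- separated and exhaustive
    intro n
    constructor
    · exact ⟨fun _ _ => bot_le, fun T hT => hT ⟨b n, hHbot n⟩⟩
    · exact ⟨fun _ _ => le_top, fun T hT => hT ⟨_, hHtop n⟩⟩
  · -- complete
    intro n T f hf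
    have h0 : ∀ p : ℤ, b n ≤ p → ((K.HFil n).fil p).arrow = 0 := by
      intro p hp
      have h1 : (K.HFil n).fil p = ⊥ := le_bot_iff.mp ((hHbot n) ▸ (K.HFil n).anti hp)
      exact Subobject.mk_eq_bot_iff_zero.mp (by rw [Subobject.mk_arrow]; exact h1)
    let s : (K.HFil n).quot (b n) ⟶ (K.HFil n).obj :=
      cokernel.desc _ (𝟙 _) (by rw [h0 (b n) le_rfl, zero_comp])
    have hs : cokernel.π ((K.HFil n).fil (b n)).arrow ≫ s = 𝟙 _ := cokernel.π_desc _ _ _
    refine ⟨f (b n) ≫ s, fun p => ?_⟩
    rcases le_total p (b n) with hp | hp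
    · rw [← hf p (b n) hp, Category.assoc]
      congr 1
      apply (cancel_epi (cokernel.π ((K.HFil n).fil (b n)).arrow)).mp
      rw [← Category.assoc, hs, Category.id_comp]
      unfold SpSeq.FilObj.quotMap
      rw [cokernel.π_desc]
    · have h1 := hf (b n) p hp
      rw [← h1, Category.assoc, Category.assoc]
      have h2 : (K.HFil n).quotMap hp ≫ s ≫ cokernel.π ((K.HFil n).fil p).arrow = 𝟙 _ := by
        apply (cancel_epi (cokernel.π ((K.HFil n).fil p).arrow)).mp
        unfold SpSeq.FilObj.quotMap
        rw [← Category.assoc, cokernel.π_desc, ← Category.assoc, hs, Category.id_comp,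
          Category.comp_id]
      rw [h2, Category.comp_id]

end Groth.Agent.S6792
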