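import Groth.Statements.S6799
-- import your own Groth.Agent.* helpers here

set_option autoImplicit false
open CategoryTheory Opposite
universe u
open SSet
open CategoryTheory Simplicial Opposite MonoidalCategory SimplicialObject

namespace Groth.Agent.S6799


open CategoryTheory Simplicial Opposite MonoidalCategory SimplicialObject in
/-- agreement of `f₀`, `f₁` on simplices factoring through lower dimension -/
theorem agree_aux {U V : SSet.{u}} (f₀ f₁ : V ⟶ U) (n : ℕ)
    (h : ∀ i : ℕ, i < n → f₀.app (op (SimplexCategory.mk i)) = f₁.app (op (SimplexCategory.mk i)))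
    (A B : SimplexCategory) (θ : A ⟶ B) (v : V.obj (op B)) (hA : A.len ≤ n)
    (hcase : A.len < n ∨ ¬ Mono θ) :
    f₀.app (op A) (V.map θ.op v) = f₁.app (op A) (V.map θ.op v) := by
  induction A using SimplexCategory.rec with
  | _ j =>
    rcases hcase with hlt | hnm
    · have hj : j < n := hlt
      rw [h j hj]
    · rw [SimplexCategory.mono_iff_injective] at hnm
      cases j with
      | zero =>
        exfalso
        apply hnm
        intro x y _
        apply Fin.ext
        have hx := x.isLt
        have hy := y.isLt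
        simp only [SimplexCategory.len_mk] at hx hy
        omega
      | succ j' =>
        obtain ⟨i, θ', rfl⟩ := SimplexCategory.eq_σ_comp_of_not_injective θ hnm
        have hj' : j' < n := hA
        rw [op_comp, Functor.map_comp_apply]
        have e0 := NatTrans.naturality_apply f₀ (SimplexCategory.σ i).op (V.map θ'.op v)
        have e1 := NatTrans.naturality_apply f₁ (SimplexCategory.σ i).op (V.map θ'.op v)
        rw [e0, e1, h j' hj']

theorem const_ne (X : SimplexCategoryᵒᵖ)  :
     stdSimplex.const.{u} 1 1 X ≠ stdSimplex.const 1 0 X := by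
  intro h
  have := congrArg (fun z => (stdSimplex.objEquiv z).toOrderHom 0) h
  simp [stdSimplex.const] at this

open Classical in
theorem nat_aux {U V : SSet.{u}} (f₀ f₁ : V ⟶ U) (n : ℕ)
    (h : ∀ i : ℕ, i < n → f₀.app (op (SimplexCategory.mk i)) = f₁.app (op (SimplexCategory.mk i)))
    (A B : SimplexCategory) (θ : A ⟶ B) (hA : A.len ≤ n) (hB : B.len ≤ n)
    (v : V.obj (op B)) (w : (Δ[1] : SSet.{u}).obj (op B)) :
    (if (Δ[1] : SSet.{u}).map θ.op w = stdSimplex.const 1 0 (op A) then
        f₀.app (op A) (V.map θ.op v) else f₁.app (op A) (V.map θ.op v)) =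
      U.map θ.op (if w = stdSimplex.const 1 0 (op B) then f₀.app (op B) v else f₁.app (op B) v) := by
  by_cases hw : w = stdSimplex.const 1 0 (op B)
  · have hw' : (Δ[1] : SSet.{u}).map θ.op w = stdSimplex.const 1 0 (op A) := by
      rw [hw]; rfl
    rw [if_pos hw, if_pos hw']
    exact NatTrans.naturality_apply f₀ θ.op v
  · rw [if_neg hw]
    by_cases hw' : (Δ[1] : SSet.{u}).map θ.op w = stdSimplex.const 1 0 (op A)
    · rw [if_pos hw']
      have key : f₀.app (op A) (V.map θ.op v) = f₁.app (op A) (V.map θ.op v) := by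
        by_cases hmono : Mono θ
        · by_cases hlt : A.len < n
          · exact agree_aux f₀ f₁ n h A B θ v hA (Or.inl hlt)
          · exfalso
            have hle := SimplexCategory.len_le_of_mono θ
            have heq : A.len = B.len := by omega
            have hiso : IsIso θ := (SimplexCategory.isIso_iff_of_mono θ).2 heq
            have : IsIso ((Δ[1] : SSet.{u}).map θ.op) := inferInstance
            have hinj := ((isIso_iff_bijective _).1 this).1
            apply hw
            apply hinj
            rw [hw']; rfl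
        · exact agree_aux f₀ f₁ n h A B θ v hA (Or.inr hmono)
      rw [key]
      exact NatTrans.naturality_apply f₁ θ.op v
    · rw [if_neg hw']
      exact NatTrans.naturality_apply f₁ θ.op v

open Classical in
/-- the truncated homotopy -/
noncomputable def tau {U V : SSet.{u}} (f₀ f₁ : V ⟶ U) (n : ℕ)
    (h : ∀ i : ℕ, i < n → f₀.app (op (SimplexCategory.mk i)) = f₁.app (op (SimplexCategory.mk i))) :
    (SimplexCategory.Truncated.inclusion n).op ⋙ (V ⊗ Δ[1]) ⟶
      (SimplexCategory.Truncated.inclusion n).op ⋙ U where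
  app X := ↾fun z => if z.2 = stdSimplex.const 1 0 _ then f₀.app _ z.1 else f₁.app _ z.1
  naturality X Y g := by
    ext z
    obtain ⟨v, w⟩ := z
    exact nat_aux f₀ f₁ n h Y.unop.obj X.unop.obj g.unop.hom Y.unop.property X.unop.property v w


/-- Two maps between `n`-coskeletal simplicial sets which agree on simplices of dimension `< n` are
homotopic, by a single homotopy. -/
theorem result {U V : SSet.{u}} (f₀ f₁ : V ⟶ U) (n : ℕ) (h : ∀ i : ℕ, i < n → f₀.app (op (SimplexCategory.mk i)) = f₁.app (op (SimplexCategory.mk i))) [SimplicialObject.IsCoskeletal U n] [SimplicialObject.IsCoskeletal V n] : Nonempty (SSet.Homotopy f₀ f₁) := by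
  classical
  let L := (SimplexCategory.Truncated.inclusion n).op
  let τ := tau f₀ f₁ n h
  let hm : V ⊗ Δ[1] ⟶ U := U.liftOfIsRightKanExtension (𝟙 (L ⋙ U)) (V ⊗ Δ[1]) τ
  have fac : ∀ X, hm.app (L.obj X) ≫ NatTrans.app (𝟙 (L ⋙ U)) X = τ.app X :=
    U.liftOfIsRightKanExtension_fac_app (𝟙 _) _ τ
  have fac' : ∀ X, hm.app (L.obj X) = τ.app X := by
    intro X
    rw [← fac X]
    simp
  refine ⟨{ h := hm, h₀ := ?_, h₁ := ?_, rel := ?_ }⟩
  · apply Functor.hom_ext_of_isRightKanExtension U (𝟙 (L ⋙ U))
    ext X v
    dsimp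
    rw [fac' X]
    have e : (ι₀.app (L.obj X) v : (V ⊗ Δ[1]).obj (L.obj X)).2 = stdSimplex.const 1 0 (L.obj X) := rfl
    change (if (ι₀.app (L.obj X) v : (V ⊗ Δ[1]).obj (L.obj X)).2 = stdSimplex.const 1 0 (L.obj X) then _ else _) = _
    rw [if_pos e]
    rfl
  · apply Functor.hom_ext_of_isRightKanExtension U (𝟙 (L ⋙ U))
    ext X v
    dsimp
    rw [fac' X]
    have e : (ι₁.app (L.obj X) v : (V ⊗ Δ[1]).obj (L.obj X)).2 = stdSimplex.const 1 1 (L.obj X) := rfl
    change (if (ι₁.app (L.obj X) v : (V ⊗ Δ[1]).obj (L.obj X)).2 = stdSimplex.const 1 0 (L.obj X) then _ else _) = _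
    rw [if_neg (by rw [e]; exact const_ne _)]
    rfl
  · ext X ⟨⟨v, hv⟩, w⟩
    exact hv.elim

end Groth.Agent.S6799
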