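import Groth.Statements.S6802
import Groth.Agent.Lib.Helper99.SubobjImage

set_option autoImplicit false
open CategoryTheory
universe v u
open SpSeq SpSeq.FilObj

namespace Groth.Agent.S6802

/-- The composite of two strict morphisms of filtered objects is strict when the first one is an
epimorphism. -/
theorem result {A : Type u} [Category.{v} A] [Abelian A] {K L M : SpSeq.FilObj A} (f : K ⟶ L) (g : L ⟶ M) (hf : SpSeq.FilObj.IsStrict f) (hg : SpSeq.FilObj.IsStrict g) [Epi f.hom] : SpSeq.FilObj.IsStrict (f ≫ g) := by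
  intro p
  change Limits.imageSubobject ((K.fil p).arrow ≫ f.hom ≫ g.hom) =
    Limits.imageSubobject (f.hom ≫ g.hom) ⊓ M.fil p
  have hf' := hf p
  have hg' : Groth.Agent.Lib.Helper99.dirIm g.hom (L.fil p) = Limits.imageSubobject g.hom ⊓ M.fil p := hg p
  have htop : Limits.imageSubobject f.hom = ⊤ := Groth.Agent.Lib.Helper99.imageSubobject_eq_top_of_epi _
  have h1 : Limits.imageSubobject (f.hom ≫ g.hom) = Limits.imageSubobject g.hom := by
    rw [Groth.Agent.Lib.Helper99.imageSubobject_comp_eq_dirIm, htop,
      ← Groth.Agent.Lib.Helper99.imageSubobject_eq_dirIm_top]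
  rw [← Category.assoc, Groth.Agent.Lib.Helper99.imageSubobject_comp_eq_dirIm, hf', htop,
    top_inf_eq, hg', h1]

end Groth.Agent.S6802
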