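import Groth.Statements.S6805
import Mathlib.CategoryTheory.Functor.KanExtension.Pointwise
import Mathlib.CategoryTheory.Limits.Types.Colimits
-- import your own Groth.Agent.* helpers here

set_option autoImplicit false
open CategoryTheory
universe u
open SSet

namespace Groth.Agent.S6805

/-- The simplicial set freely generated by an `m`-truncated simplicial set (its image under the left
adjoint of `m`-truncation) has only degenerate simplices above dimension `m`. -/
theorem result (m : ℕ) (U : SSet.Truncated.{u} m) : ((SSet.Truncated.sk m).obj U).HasDimensionLT (m + 1) := by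
  constructor
  intro n hn
  ext x
  simp only [Set.top_eq_univ, Set.mem_univ, iff_true]
  let L := (SimplexCategory.Truncated.inclusion m).op
  have hL : L.HasPointwiseLeftKanExtension U := inferInstance
  let X : SSet.{u} := L.leftKanExtension U
  let α : U ⟶ L ⋙ X := L.leftKanExtensionUnit U
  have hpt := Functor.isPointwiseLeftKanExtensionOfIsLeftKanExtension X α
  have hcolim : Limits.IsColimit ((Functor.LeftExtension.mk X α).coconeAt
    (Opposite.op (SimplexCategory.mk n))) := hpt _
  obtain ⟨g, u, hu⟩ := Limits.Types.jointly_surjective_of_isColimit hcolim x
  refine ⟨g.left.unop.obj.len, ?_, ?_, ?_⟩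
  · have := g.left.unop.property
    omega
  · exact g.hom.unop
  · refine ⟨α.app g.left u, ?_⟩
    exact hu

end Groth.Agent.S6805
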