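import Groth.Statements.S6806
import Groth.Agent.Lib.Helper99.TruncFin
import Mathlib.AlgebraicTopology.DoldKan.Normalized
import Mathlib.AlgebraicTopology.DoldKan.Degeneracies

set_option autoImplicit false
open CategoryTheory CategoryTheory.Limits
universe v u
open CategoryTheory CategoryTheory.Abelian

namespace Groth.Agent.S6806

/-- For an `m`-truncated simplicial object `U` of an abelian category, the normalized Moore complex of
its free extension `i_{m!} U` (left adjoint of truncation) is zero in every degree `n > m`. Here the
normalized complex in degree `n` is the intersection of the kernels of the faces `d_1, …, d_n`; the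
published statement intersects the kernels of `d_0, …, d_{n-1}` instead, and the two versions
correspond under reversal of the ordering of each `[n]`, so both vanish. -/
theorem result {A : Type u} [Category.{v} A] [Abelian A] (m : ℕ) [∀ F : (SimplexCategory.Truncated m)ᵒᵖ ⥤ A, (SimplexCategory.Truncated.inclusion m).op.HasLeftKanExtension F] (U : SimplicialObject.Truncated A m) (n : ℕ) (hn : m < n) : AlgebraicTopology.NormalizedMooreComplex.objX ((SimplicialObject.Truncated.sk m).obj U) n = ⊥ := by
  obtain ⟨n, rfl⟩ : ∃ n', n = n' + 1 := ⟨n - 1, by omega⟩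
  let L := (SimplexCategory.Truncated.inclusion m).op
  have hL : L.HasPointwiseLeftKanExtension U :=
    Groth.Agent.Lib.Helper99.TruncFin.hasPointwiseLeftKanExtension m U
  let X : SimplicialObject A := L.leftKanExtension U
  let α : U ⟶ L ⋙ X := L.leftKanExtensionUnit U
  have hpt := Functor.isPointwiseLeftKanExtensionOfIsLeftKanExtension X α
  have hcolim : IsColimit ((Functor.LeftExtension.mk X α).coconeAt
    (Opposite.op (SimplexCategory.mk (n + 1)))) := hpt _
  have key : ∀ {Z : A} (h : X.obj (Opposite.op (SimplexCategory.mk (n + 1))) ⟶ Z),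
      (∀ i : Fin (n + 1), X.σ i ≫ h = 0) → h = 0 := by
    intro Z h hh
    refine hcolim.hom_ext (f' := 0) (fun g => ?_)
    change (α.app g.left ≫ X.map g.hom) ≫ h = (α.app g.left ≫ X.map g.hom) ≫ 0
    rw [comp_zero]
    have hninj : ¬ Function.Injective g.hom.unop.toOrderHom := by
      intro hinj
      have h1 := Fintype.card_le_of_injective _ hinj
      have h2 := g.left.unop.property
      simp only [Fintype.card_fin] at h1
      change n + 1 + 1 ≤ g.left.unop.obj.len + 1 at h1
      omega
    obtain ⟨i, θ', hθ⟩ := SimplexCategory.eq_σ_comp_of_not_injective g.hom.unop hninj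
    have hmap : X.map g.hom = X.map θ'.op ≫ X.σ i := by
      rw [SimplicialObject.σ, ← X.map_comp, ← op_comp, ← hθ]
      rfl
    rw [hmap, Category.assoc, Category.assoc, hh i, comp_zero, comp_zero]
  have hP : (AlgebraicTopology.DoldKan.PInfty :
      (AlgebraicTopology.alternatingFaceMapComplex A).obj X ⟶ _).f (n + 1) = 0 :=
    key _ (fun i => AlgebraicTopology.DoldKan.σ_comp_PInfty X i)
  have hincl := congrArg (fun φ => φ.f (n + 1))
    (AlgebraicTopology.DoldKan.inclusionOfMooreComplexMap_comp_PInfty X)
  simp only [HomologicalComplex.comp_f, AlgebraicTopology.inclusionOfMooreComplexMap_f] at hincl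
  rw [hP, comp_zero] at hincl
  change AlgebraicTopology.NormalizedMooreComplex.objX X (n + 1) = ⊥
  apply le_antisymm _ bot_le
  apply Subobject.le_of_factors
  rw [Subobject.bot_factors_iff_zero]
  exact hincl.symm

end Groth.Agent.S6806
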