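import Groth.Statements.S6808
-- import your own Groth.Agent.* helpers here

set_option autoImplicit false
open CategoryTheory Opposite
universe u
open SSet

namespace Groth.Agent.S6808

/-- A map of simplicial sets preserving non-degeneracy of simplices and injective on non-degenerate
simplices is injective in every dimension. -/
theorem result {U V : SSet.{u}} (f : U ⟶ V) (ha : ∀ (n : ℕ) (x : U.obj (op (SimplexCategory.mk n))), x ∈ U.nonDegenerate n → f.app (op (SimplexCategory.mk n)) x ∈ V.nonDegenerate n) (hb : ∀ n : ℕ, Set.InjOn (f.app (op (SimplexCategory.mk n))) (U.nonDegenerate n)) (n : ℕ) : Function.Injective (f.app (op (SimplexCategory.mk n))) := by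
  intro x₁ x₂ h
  obtain ⟨m₁, g₁, hg₁, y₁, hy₁⟩ := U.exists_nonDegenerate x₁
  obtain ⟨m₂, g₂, hg₂, y₂, hy₂⟩ := U.exists_nonDegenerate x₂
  have nat : ∀ {a b : SimplexCategory} (g : a ⟶ b) (y : U.obj (op b)),
      f.app (op a) (U.map g.op y) = V.map g.op (f.app (op b) y) := by
    intro a b g y
    exact NatTrans.naturality_apply f g.op y
  have e₁ : f.app (op (SimplexCategory.mk n)) x₁ =
      V.map g₁.op (f.app (op (SimplexCategory.mk m₁)) y₁.1) := by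
    rw [hy₁, nat]
  have e₂ : f.app (op (SimplexCategory.mk n)) x₁ =
      V.map g₂.op (f.app (op (SimplexCategory.mk m₂)) y₂.1) := by
    rw [h, hy₂, nat]
  have hm : m₁ = m₂ :=
    V.unique_nonDegenerate_dim (f.app (op (SimplexCategory.mk n)) x₁)
      g₁ ⟨_, ha m₁ y₁.1 y₁.2⟩ e₁ g₂ ⟨_, ha m₂ y₂.1 y₂.2⟩ e₂
  subst hm
  have hy : (⟨_, ha m₁ y₁.1 y₁.2⟩ : V.nonDegenerate m₁) = ⟨_, ha m₁ y₂.1 y₂.2⟩ :=
    V.unique_nonDegenerate_simplex (f.app (op (SimplexCategory.mk n)) x₁)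
      g₁ ⟨_, ha m₁ y₁.1 y₁.2⟩ e₁ g₂ ⟨_, ha m₁ y₂.1 y₂.2⟩ e₂
  have hg : g₁ = g₂ :=
    V.unique_nonDegenerate_map (f.app (op (SimplexCategory.mk n)) x₁)
      g₁ ⟨_, ha m₁ y₁.1 y₁.2⟩ e₁ g₂ ⟨_, ha m₁ y₂.1 y₂.2⟩ e₂
  have hy' : y₁.1 = y₂.1 := hb m₁ y₁.2 y₂.2 (congrArg Subtype.val hy)
  rw [hy₁, hy₂, hg, hy']

end Groth.Agent.S6808
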