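import Groth.Statements.S6815
-- import your own Groth.Agent.* helpers here

set_option autoImplicit false
open CategoryTheory CategoryTheory.Limits
universe w v u
open CategoryTheory CategoryTheory.SimplicialObject

namespace Groth.Agent.S6815

open Simplicial Opposite

section
variable {C : Type u} [Category.{v} C] {T : Type w} [HasLimitsOfShape (Discrete T) C]

/-- Evaluation at `k` of the product cone is a limit cone. -/
noncomputable def evalIsLimit (Y : T → SimplicialObject C) (k : SimplexCategoryᵒᵖ) :
    IsLimit (((evaluation SimplexCategoryᵒᵖ C).obj k).mapCone (limit.cone (Discrete.functor Y))) :=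
  isLimitOfPreserves _ (limit.isLimit _)

theorem pi_hom_ext (Y : T → SimplicialObject C) (k : SimplexCategoryᵒᵖ) {Z : C}
    (p q : Z ⟶ (∏ᶜ Y).obj k) (h : ∀ t, p ≫ (Pi.π Y t).app k = q ≫ (Pi.π Y t).app k) : p = q :=
  (evalIsLimit Y k).hom_ext (fun ⟨t⟩ => h t)

/-- The cone with given legs. -/
def coneOf (Y : T → SimplicialObject C) (k : SimplexCategoryᵒᵖ) {Z : C}
    (g : ∀ t, Z ⟶ (Y t).obj k) :
    Cone (Discrete.functor Y ⋙ (evaluation SimplexCategoryᵒᵖ C).obj k) where
  pt := Z
  π := Discrete.natTrans (fun t => g t.as)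

/-- Lift to a product of simplicial objects, degreewise. -/
noncomputable def piLift (Y : T → SimplicialObject C) (k : SimplexCategoryᵒᵖ) {Z : C}
    (g : ∀ t, Z ⟶ (Y t).obj k) : Z ⟶ (∏ᶜ Y).obj k :=
  (evalIsLimit Y k).lift (coneOf Y k g)

@[reassoc (attr := simp)]
theorem piLift_π (Y : T → SimplicialObject C) (k : SimplexCategoryᵒᵖ) {Z : C}
    (g : ∀ t, Z ⟶ (Y t).obj k) (t : T) : piLift Y k g ≫ (Pi.π Y t).app k = g t :=
  (evalIsLimit Y k).fac (coneOf Y k g) ⟨t⟩

/-- Homotopies into the factors assemble to a homotopy into the product. -/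
noncomputable def homotopyOfPi {W : SimplicialObject C} {Y : T → SimplicialObject C}
    (f g : W ⟶ ∏ᶜ Y)
    (H : ∀ t, SimplicialObject.Homotopy (f ≫ Pi.π Y t) (g ≫ Pi.π Y t)) :
    SimplicialObject.Homotopy f g where
  h {n} i := piLift Y (op ⦋n + 1⦌) (fun t => (H t).h i)
  h_zero_comp_δ_zero n := by
    apply pi_hom_ext; intro t
    rw [Category.assoc, SimplicialObject.δ_naturality, piLift_π_assoc,
      (H t).h_zero_comp_δ_zero]; rfl
  h_last_comp_δ_last n := by
    apply pi_hom_ext; intro t
    rw [Category.assoc, SimplicialObject.δ_naturality, piLift_π_assoc,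
      (H t).h_last_comp_δ_last]; rfl
  h_succ_comp_δ_castSucc_of_lt i j hij := by
    apply pi_hom_ext; intro t
    rw [Category.assoc, SimplicialObject.δ_naturality, piLift_π_assoc,
      (H t).h_succ_comp_δ_castSucc_of_lt i j hij, Category.assoc, piLift_π]
  h_succ_comp_δ_castSucc_succ j := by
    apply pi_hom_ext; intro t
    rw [Category.assoc, SimplicialObject.δ_naturality, piLift_π_assoc,
      (H t).h_succ_comp_δ_castSucc_succ j, Category.assoc, SimplicialObject.δ_naturality,
      piLift_π_assoc]
  h_castSucc_comp_δ_succ_of_lt i j hji := by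
    apply pi_hom_ext; intro t
    rw [Category.assoc, SimplicialObject.δ_naturality, piLift_π_assoc,
      (H t).h_castSucc_comp_δ_succ_of_lt i j hji, Category.assoc, piLift_π]
  h_comp_σ_castSucc_of_le i j hij := by
    apply pi_hom_ext; intro t
    rw [Category.assoc, SimplicialObject.σ_naturality, piLift_π_assoc,
      (H t).h_comp_σ_castSucc_of_le i j hij, Category.assoc, piLift_π]
  h_comp_σ_succ_of_lt i j hji := by
    apply pi_hom_ext; intro t
    rw [Category.assoc, SimplicialObject.σ_naturality, piLift_π_assoc,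
      (H t).h_comp_σ_succ_of_lt i j hji, Category.assoc, piLift_π]

end

/-- Homotopies between the factors of two product morphisms of simplicial objects assemble to a homotopy
between the products. -/
theorem result {C : Type u} [Category.{v} C] {T : Type w} [HasLimitsOfShape (Discrete T) C] {X Y : T → SimplicialObject C} (a b : ∀ t, X t ⟶ Y t) (h : ∀ t, Nonempty (SimplicialObject.Homotopy (a t) (b t))) : Nonempty (SimplicialObject.Homotopy (Limits.Pi.map a) (Limits.Pi.map b)) := by
  refine ⟨homotopyOfPi _ _ (fun t => ?_)⟩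
  have e1 : Limits.Pi.map a ≫ Pi.π Y t = Pi.π X t ≫ a t := Limits.Pi.map_π a t
  have e2 : Limits.Pi.map b ≫ Pi.π Y t = Pi.π X t ≫ b t := Limits.Pi.map_π b t
  rw [e1, e2]
  exact (h t).some.precomp (Pi.π X t)

end Groth.Agent.S6815
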