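import Groth.Statements.S6816
-- import your own Groth.Agent.* helpers here

set_option autoImplicit false
open CategoryTheory CategoryTheory.Limits
universe v u
open CochainComplex

namespace Groth.Agent.S6816

open HomologicalComplex HomComplex Preadditive Category

section
variable {C : Type u} [Category.{v} C] [Preadditive C]
  (S : ShortComplex (CochainComplex C ℤ))
  (σ σ' : ∀ n : ℤ, (S.map (HomologicalComplex.eval C (ComplexShape.up ℤ) n)).Splitting)

/-- The section, with its type in terms of the complexes. -/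
abbrev sec (n : ℤ) : S.X₃.X n ⟶ S.X₂.X n := (σ n).s

/-- The retraction, with its type in terms of the complexes. -/
abbrev ret (n : ℤ) : S.X₂.X n ⟶ S.X₁.X n := (σ n).r

theorem f_ret (n : ℤ) : S.f.f n ≫ ret S σ n = 𝟙 _ := (σ n).f_r
theorem sec_g (n : ℤ) : sec S σ n ≫ S.g.f n = 𝟙 _ := (σ n).s_g
theorem sec_ret (n : ℤ) : sec S σ n ≫ ret S σ n = 0 := (σ n).s_r
theorem split_id (n : ℤ) : ret S σ n ≫ S.f.f n + S.g.f n ≫ sec S σ n = 𝟙 _ := (σ n).id

/-- The `0`-cochain comparing two degreewise splittings. -/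
def uCochain : Cochain S.X₃ S.X₁ 0 :=
  Cochain.mk (fun p q _ => sec S σ' p ≫ (S.X₂.XIsoOfEq (show p = q by lia)).hom ≫ ret S σ q)

theorem uCochain_v (p : ℤ) : (uCochain S σ σ').v p p (add_zero p) = sec S σ' p ≫ ret S σ p := by
  simp [uCochain]

theorem s'_eq (p : ℤ) : sec S σ' p = sec S σ p + (sec S σ' p ≫ ret S σ p) ≫ S.f.f p := by
  have h1 := split_id S σ p
  have h2 := sec_g S σ' p
  calc sec S σ' p = sec S σ' p ≫ (ret S σ p ≫ S.f.f p + S.g.f p ≫ sec S σ p) := by
        rw [h1, comp_id]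
    _ = _ := by rw [comp_add, reassoc_of% h2, add_comm, assoc]

theorem r'_eq (q : ℤ) : ret S σ' q = ret S σ q - S.g.f q ≫ (sec S σ' q ≫ ret S σ q) := by
  have h1 := split_id S σ q
  have h2 := f_ret S σ' q
  have h3 := sec_ret S σ' q
  have h4 := s'_eq S σ σ' q
  have h5 : sec S σ q ≫ ret S σ' q = - (sec S σ' q ≫ ret S σ q) := by
    have : sec S σ q = sec S σ' q - (sec S σ' q ≫ ret S σ q) ≫ S.f.f q := by
      rw [eq_sub_iff_add_eq]; exact h4.symm
    rw [this, sub_comp, h3, assoc, assoc, h2, comp_id, zero_sub]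
  calc ret S σ' q = (ret S σ q ≫ S.f.f q + S.g.f q ≫ sec S σ q) ≫ ret S σ' q := by
        rw [h1, id_comp]
    _ = _ := by rw [add_comp, assoc, h2, comp_id, assoc, h5, comp_neg, sub_eq_add_neg]

theorem cocycle_v (p q : ℤ) (hpq : p + 1 = q) :
    (cocycleOfDegreewiseSplit S σ).1.v p q hpq = sec S σ p ≫ S.X₂.d p q ≫ ret S σ q := by
  rfl

theorem key : (cocycleOfDegreewiseSplit S σ').1 =
    (cocycleOfDegreewiseSplit S σ).1 + δ 0 1 (uCochain S σ σ') := by
  ext p q hpq
  obtain rfl : q = p + 1 := hpq.symm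
  rw [Cochain.add_v, δ_v 0 1 (zero_add 1) _ p (p + 1) rfl p (p + 1) (by lia) rfl,
    cocycle_v, cocycle_v, uCochain_v, uCochain_v]
  have hs := s'_eq S σ σ' p
  have hr := r'_eq S σ σ' (p + 1)
  set up := sec S σ' p ≫ ret S σ p with hup
  set uq := sec S σ' (p + 1) ≫ ret S σ (p + 1) with huq
  rw [hs, hr]
  have hg : S.X₂.d p (p + 1) ≫ S.g.f (p + 1) = S.g.f p ≫ S.X₃.d p (p + 1) := (S.g.comm p (p+1)).symm
  have hf : S.f.f p ≫ S.X₂.d p (p + 1) = S.X₁.d p (p + 1) ≫ S.f.f (p + 1) := S.f.comm p (p+1)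
  have hfg : S.f.f (p + 1) ≫ S.g.f (p + 1) = 0 := by
    rw [← HomologicalComplex.comp_f, S.zero]; rfl
  have hfg' : S.f.f p ≫ S.g.f p = 0 := by
    rw [← HomologicalComplex.comp_f, S.zero]; rfl
  simp only [add_comp, comp_sub, assoc, reassoc_of% hg, reassoc_of% hf,
    reassoc_of% (sec_g S σ p), f_ret S σ (p + 1), comp_id, reassoc_of% hfg', zero_comp, comp_zero,
    Int.negOnePow_one, Units.neg_smul, one_smul]
  abel

theorem ofHom_hom : Cochain.ofHom (homOfDegreewiseSplit S σ) =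
    (cocycleOfDegreewiseSplit S σ).1.rightShift 1 0 (zero_add 1) := by
  have := (Cocycle.equivHom S.X₃ (S.X₁⟦(1 : ℤ)⟧)).apply_symm_apply
    ((cocycleOfDegreewiseSplit S σ).rightShift 1 0 (zero_add 1))
  exact congrArg Subtype.val this

end

/-- The boundary morphisms `C ⟶ A⟦1⟧` attached to two degreewise splittings of a degreewise split
sequence `A ⟶ B ⟶ C` of cochain complexes are homotopic. -/
theorem result {C : Type u} [Category.{v} C] [Preadditive C] [HasBinaryBiproducts C] (S : ShortComplex (CochainComplex C ℤ)) (σ σ' : ∀ n : ℤ, (S.map (HomologicalComplex.eval C (ComplexShape.up ℤ) n)).Splitting) : Nonempty (Homotopy (CochainComplex.homOfDegreewiseSplit S σ) (CochainComplex.homOfDegreewiseSplit S σ')) := by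
  refine ⟨(Cochain.equivHomotopy _ _).symm
    ⟨(uCochain S σ σ').rightShift 1 (-1) (by lia), ?_⟩⟩
  rw [ofHom_hom, ofHom_hom, key S σ σ', Cochain.rightShift_add,
    Cochain.δ_rightShift (uCochain S σ σ') 1 (-1) 0 (by lia) 1 (by lia)]
  simp

end Groth.Agent.S6816
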