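import Groth.Statements.S6817
import Groth.Agent.Lib.Helper32.SAbQis

set_option autoImplicit false
open CategoryTheory
universe u
open SSet

namespace Groth.Agent.S6817

/-- A homomorphism of simplicial abelian groups whose underlying map of simplicial sets is a homotopy
equivalence induces a quasi-isomorphism of associated chain complexes. (The published statement
allows the composites with a homotopy inverse to be joined to the identities by chains of
homotopies; this row assumes single homotopies, in either direction.) -/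
theorem result {X Y : SimplicialObject AddCommGrpCat.{u}} (f : X ⟶ Y) (g : (Y ⋙ forget AddCommGrpCat.{u} : SSet.{u}) ⟶ (X ⋙ forget AddCommGrpCat.{u} : SSet.{u})) (hX : Nonempty (SSet.Homotopy (Functor.whiskerRight f (forget AddCommGrpCat.{u}) ≫ g) (𝟙 _)) ∨ Nonempty (SSet.Homotopy (𝟙 _) (Functor.whiskerRight f (forget AddCommGrpCat.{u}) ≫ g))) (hY : Nonempty (SSet.Homotopy (g ≫ Functor.whiskerRight f (forget AddCommGrpCat.{u})) (𝟙 _)) ∨ Nonempty (SSet.Homotopy (𝟙 _) (g ≫ Functor.whiskerRight f (forget AddCommGrpCat.{u})))) : QuasiIso ((AlgebraicTopology.alternatingFaceMapComplex AddCommGrpCat.{u}).map f) := by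
  open Groth.Agent.Lib.Helper32.SAbQis in
  have e1 : ∀ {A B C : SSet.{u}} (a : A ⟶ B) (b : B ⟶ C),
      SSet.chainComplexMap (a ≫ b) R.{u} = SSet.chainComplexMap a R.{u} ≫ SSet.chainComplexMap b R.{u} :=
    fun a b => CategoryTheory.Functor.map_comp _ a b
  open Groth.Agent.Lib.Helper32.SAbQis in
  have e2 : ∀ (A : SSet.{u}), SSet.chainComplexMap (𝟙 A) R.{u} = 𝟙 _ :=
    fun A => CategoryTheory.Functor.map_id _ A
  open Groth.Agent.Lib.Helper32.SAbQis in
  have H₁ : Nonempty (_root_.Homotopy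
      (SSet.chainComplexMap (Functor.whiskerRight f (forget AddCommGrpCat.{u})) R.{u} ≫
        SSet.chainComplexMap g R.{u}) (𝟙 (ZC X))) := by
    rcases hX with ⟨⟨h⟩⟩ | ⟨⟨h⟩⟩
    · have h' := h.chainComplexMap R.{u}
      rw [e1, e2] at h'
      exact ⟨h'⟩
    · have h' := h.chainComplexMap R.{u}
      rw [e1, e2] at h'
      exact ⟨h'.symm⟩
  open Groth.Agent.Lib.Helper32.SAbQis in
  have H₂ : Nonempty (_root_.Homotopy
      (SSet.chainComplexMap g R.{u} ≫
        SSet.chainComplexMap (Functor.whiskerRight f (forget AddCommGrpCat.{u})) R.{u})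
      (𝟙 (ZC Y))) := by
    rcases hY with ⟨⟨h⟩⟩ | ⟨⟨h⟩⟩
    · have h' := h.chainComplexMap R.{u}
      rw [e1, e2] at h'
      exact ⟨h'⟩
    · have h' := h.chainComplexMap R.{u}
      rw [e1, e2] at h'
      exact ⟨h'.symm⟩
  obtain ⟨H₁⟩ := H₁
  obtain ⟨H₂⟩ := H₂
  exact Groth.Agent.Lib.Helper32.SAbQis.quasiIso_of_htpy f _ H₁ H₂

end Groth.Agent.S6817
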