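import Groth.Statements.S6820
-- import your own Groth.Agent.* helpers here

set_option autoImplicit false
universe u
open Smoothing

namespace Groth.Agent.S6820

/-- A finitely generated submodule all of whose elements are killed by elements of a submonoid `S`
is killed by a single element of `S`. -/
theorem exists_mem_smul_eq_zero {A : Type u} [CommRing A] {M : Type u} [AddCommGroup M] [Module A M]
    (S : Submonoid A) (K : Submodule A M) (hfg : K.FG) (hK : ∀ m ∈ K, ∃ t ∈ S, t • m = 0) :
    ∃ s ∈ S, ∀ m ∈ K, s • m = 0 := by
  classical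
  obtain ⟨G, rfl⟩ := hfg
  have hG : ∀ g ∈ G, ∃ t ∈ S, t • g = 0 := fun g hg => hK g (Submodule.subset_span hg)
  choose! t htS ht using hG
  refine ⟨∏ g ∈ G, t g, Submonoid.prod_mem S (fun g hg => htS g hg), ?_⟩
  intro m hm
  induction hm using Submodule.span_induction with
  | mem x hx =>
    rw [← Finset.mul_prod_erase G t hx, mul_comm, mul_smul, ht x hx, smul_zero]
  | zero => simp
  | add x y _ _ hx hy => rw [smul_add, hx, hy, add_zero]
  | smul a x _ hx => rw [smul_comm, hx, smul_zero]

/-- Let A be a Noetherian ring, M a finite A-module, S a multiplicative subset of A and π an element of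
A such that on the localised module S⁻¹M the kernels of multiplication by π and by π² agree. Then
there is an element s of S such that for every n > 0 the kernels of multiplication by sⁿπ and by
(sⁿπ)² on M agree. (Kernel equalities are written as implications, the reverse inclusions being
automatic.) -/
theorem result {A : Type u} [CommRing A] [IsNoetherianRing A]
    (M : Type u) [AddCommGroup M] [Module A M] [Module.Finite A M] (S : Submonoid A) (π : A)
    (h : ∀ m : LocalizedModule S M, π ^ 2 • m = 0 → π • m = 0) :
    ∃ s ∈ S, ∀ n : ℕ, 0 < n → ∀ m : M, (s ^ n * π) ^ 2 • m = 0 → (s ^ n * π) • m = 0 := by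
  have hNoeth : IsNoetherian A M := inferInstance
  obtain ⟨s, hsS, hs⟩ := exists_mem_smul_eq_zero S (LinearMap.ker (LocalizedModule.mkLinearMap S M))
    (IsNoetherian.noetherian _) (fun m hm => LocalizedModule.mem_ker_mkLinearMap_iff.1 hm)
  refine ⟨s, hsS, fun n hn m hm => ?_⟩
  -- pass to the localisation
  have h1 : π ^ 2 • LocalizedModule.mkLinearMap S M m = 0 := by
    have h2 : (s ^ n * π) ^ 2 • LocalizedModule.mkLinearMap S M m = 0 := by
      rw [← LinearMap.map_smul, hm, map_zero]
    have h3 : (s ^ n * π) ^ 2 = (s ^ (2 * n)) * π ^ 2 := by ring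
    rw [h3, mul_smul] at h2
    have hunit : IsUnit ((algebraMap A (Module.End A (LocalizedModule S M))) (s ^ (2 * n))) :=
      IsLocalizedModule.map_units (LocalizedModule.mkLinearMap S M)
        (⟨s ^ (2 * n), Submonoid.pow_mem S hsS _⟩ : S)
    have hinj := ((Module.End.isUnit_iff _).1 hunit).injective
    apply hinj
    rw [map_zero]
    exact h2
  have h4 := h _ h1
  rw [← LinearMap.map_smul] at h4
  have h5 : s • (π • m) = 0 := hs _ h4
  obtain ⟨k, rfl⟩ : ∃ k, n = k + 1 := Nat.exists_eq_succ_of_ne_zero hn.ne'
  rw [pow_succ, mul_assoc, mul_smul, mul_smul s π, h5, smul_zero]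

end Groth.Agent.S6820
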