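import Groth.Statements.S6822
import Mathlib
import Groth.Agent.Lib.Helper57.S6822U
-- import your own Groth.Agent.* helpers here

set_option autoImplicit false
universe u
open Smoothing

namespace Groth.Agent.S6822

set_option linter.style.haveILetI false

open Groth.Agent.Lib.Helper57.S6822U

/-- the map induced on quotients, linear over the quotient base -/
noncomputable def φq {R A Λ : Type u} [CommRing R] [CommRing A] [Algebra R A] [CommRing Λ]
    [Algebra R Λ] (φ : A →ₐ[R] Λ) (I : Ideal R) :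
    (A ⧸ I.map (algebraMap R A)) →ₐ[R ⧸ I] (Λ ⧸ I.map (algebraMap R Λ)) :=
  { Ideal.quotientMap (I.map (algebraMap R Λ)) φ.toRingHom (by
      rw [Ideal.map_le_iff_le_comap]
      intro t ht
      rw [Ideal.mem_comap, Ideal.mem_comap]
      change φ (algebraMap R A t) ∈ _
      rw [φ.commutes]
      exact Ideal.mem_map_of_mem _ ht) with
    commutes' := fun x => by
      obtain ⟨t, rfl⟩ := Ideal.Quotient.mk_surjective x
      change Ideal.Quotient.mk _ (φ (algebraMap R A t)) = Ideal.Quotient.mk _ (algebraMap R Λ t)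
      rw [φ.commutes] }

theorem φq_mk {R A Λ : Type u} [CommRing R] [CommRing A] [Algebra R A] [CommRing Λ]
    [Algebra R Λ] (φ : A →ₐ[R] Λ) (I : Ideal R) (a : A) :
    φq φ I (Ideal.Quotient.mk _ a) = Ideal.Quotient.mk _ (φ a) := rfl

theorem cstep {R A Λ : Type u} [CommRing R] [IsNoetherianRing R] [CommRing A] [Algebra R A]
    [Algebra.FinitePresentation R A] [CommRing Λ] [Algebra R Λ] (φ : A →ₐ[R] Λ)
    (𝔮 : Ideal Λ) [𝔮.IsPrime]
    (p : R) (hstd : IsStrictlyStandard R A (algebraMap R A p))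
    (I I' : Ideal R) (hI' : I' = I ⊔ Ideal.span {p ^ 8}) (hI𝔮 : I'.map (algebraMap R Λ) ≤ 𝔮)
    (hR : ∀ x : R ⧸ I, Ideal.Quotient.mk I p ^ 2 * x = 0 → Ideal.Quotient.mk I p * x = 0)
    (hΛ : ∀ x : Λ ⧸ I.map (algebraMap R Λ),
      Ideal.Quotient.mk (I.map (algebraMap R Λ)) (algebraMap R Λ p) ^ 2 * x = 0 →
        Ideal.Quotient.mk (I.map (algebraMap R Λ)) (algebraMap R Λ p) * x = 0)
    (hres : Resolvable (R ⧸ I') (φq φ I')
      (𝔮.map (Ideal.Quotient.mk (I'.map (algebraMap R Λ))))) :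
    Resolvable (R ⧸ I) (φq φ I) (𝔮.map (Ideal.Quotient.mk (I.map (algebraMap R Λ)))) :=
  ustep φ 𝔮 p hstd I I' hI' hI𝔮 (φq φ I) (φq φ I')
    (Ideal.Quotient.mk I) (Ideal.Quotient.mk _) (Ideal.Quotient.mk _)
    Ideal.Quotient.mk_surjective Ideal.Quotient.mk_surjective Ideal.Quotient.mk_surjective
    Ideal.mk_ker Ideal.mk_ker Ideal.mk_ker (fun _ => rfl) (fun _ => rfl) (fun _ => rfl)
    (Ideal.Quotient.mk I') (Ideal.Quotient.mk _) (Ideal.Quotient.mk _)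
    Ideal.Quotient.mk_surjective Ideal.Quotient.mk_surjective Ideal.Quotient.mk_surjective
    Ideal.mk_ker Ideal.mk_ker Ideal.mk_ker (fun _ => rfl) (fun _ => rfl) (fun _ => rfl)
    hR hΛ hres

theorem fstep {R A Λ : Type u} [CommRing R] [IsNoetherianRing R] [CommRing A] [Algebra R A]
    [Algebra.FinitePresentation R A] [CommRing Λ] [Algebra R Λ] (φ : A →ₐ[R] Λ)
    (𝔮 : Ideal Λ) [𝔮.IsPrime]
    (p : R) (hstd : IsStrictlyStandard R A (algebraMap R A p))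
    (I' : Ideal R) (hI' : I' = Ideal.span {p ^ 8}) (hI𝔮 : I'.map (algebraMap R Λ) ≤ 𝔮)
    (hR : ∀ x : R, p ^ 2 * x = 0 → p * x = 0)
    (hΛ : ∀ x : Λ, algebraMap R Λ p ^ 2 * x = 0 → algebraMap R Λ p * x = 0)
    (hres : Resolvable (R ⧸ I') (φq φ I')
      (𝔮.map (Ideal.Quotient.mk (I'.map (algebraMap R Λ))))) :
    Resolvable R φ 𝔮 := by
  have hkid : ∀ (X : Type u) [CommRing X], RingHom.ker (RingHom.id X) = ⊥ := fun X _ =>
    (RingHom.injective_iff_ker_eq_bot _).1 Function.injective_id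
  have h := ustep φ 𝔮 p hstd ⊥ I' (by rw [hI', bot_sup_eq]) hI𝔮 φ (φq φ I')
    (RingHom.id R) (RingHom.id A) (RingHom.id Λ)
    Function.surjective_id Function.surjective_id Function.surjective_id
    (hkid R) (by rw [Ideal.map_bot]; exact hkid A) (by rw [Ideal.map_bot]; exact hkid Λ)
    (fun _ => rfl) (fun _ => rfl) (fun _ => rfl)
    (Ideal.Quotient.mk I') (Ideal.Quotient.mk _) (Ideal.Quotient.mk _)
    Ideal.Quotient.mk_surjective Ideal.Quotient.mk_surjective Ideal.Quotient.mk_surjective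
    Ideal.mk_ker Ideal.mk_ker Ideal.mk_ker (fun _ => rfl) (fun _ => rfl) (fun _ => rfl)
    hR hΛ hres
  rwa [Ideal.map_id] at h

/-- the ideal generated by the eighth powers of the first `k` elements -/
def Ik {R : Type u} [CommRing R] {r : ℕ} (π : Fin r → R) (k : ℕ) : Ideal R :=
  Ideal.span (Set.range fun j : {j : Fin r // (j : ℕ) < k} => π j ^ 8)

theorem Ik_zero {R : Type u} [CommRing R] {r : ℕ} (π : Fin r → R) : Ik π 0 = ⊥ := by
  rw [Ik, Ideal.span_eq_bot]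
  rintro _ ⟨⟨j, hj⟩, rfl⟩
  exact absurd hj (Nat.not_lt_zero _)

theorem Ik_succ {R : Type u} [CommRing R] {r : ℕ} (π : Fin r → R) (k : ℕ) (hk : k < r) :
    Ik π (k + 1) = Ik π k ⊔ Ideal.span {π ⟨k, hk⟩ ^ 8} := by
  apply le_antisymm
  · rw [Ik, Ideal.span_le]
    rintro _ ⟨⟨j, hj⟩, rfl⟩
    rcases Nat.lt_succ_iff_lt_or_eq.1 hj with h | h
    · exact Ideal.mem_sup_left (Ideal.subset_span ⟨⟨j, h⟩, rfl⟩)
    · have : j = ⟨k, hk⟩ := Fin.ext h
      subst this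
      exact Ideal.mem_sup_right (Ideal.mem_span_singleton_self _)
  · rw [sup_le_iff]
    constructor
    · rw [Ik, Ideal.span_le]
      rintro _ ⟨⟨j, hj⟩, rfl⟩
      exact Ideal.subset_span ⟨⟨j, Nat.lt_succ_of_lt hj⟩, rfl⟩
    · rw [Ideal.span_le, Set.singleton_subset_iff]
      exact Ideal.subset_span ⟨⟨⟨k, hk⟩, Nat.lt_succ_self k⟩, rfl⟩

theorem Ik_map {R Λ : Type u} [CommRing R] [CommRing Λ] [Algebra R Λ] {r : ℕ} (π : Fin r → R)
    (k : ℕ) : (Ik π k).map (algebraMap R Λ) =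
      Ideal.span (Set.range fun j : {j : Fin r // (j : ℕ) < k} => algebraMap R Λ (π j) ^ 8) := by
  rw [Ik, Ideal.map_span, ← Set.range_comp]
  congr 2
  funext j
  simp only [Function.comp_apply, map_pow]

theorem Ik_map_le {R Λ : Type u} [CommRing R] [CommRing Λ] [Algebra R Λ] {r : ℕ} (π : Fin r → R)
    (𝔮 : Ideal Λ) (h : ∀ i, algebraMap R Λ (π i) ∈ 𝔮) (k : ℕ) :
    (Ik π k).map (algebraMap R Λ) ≤ 𝔮 := by
  rw [Ik_map, Ideal.span_le]
  rintro _ ⟨j, rfl⟩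
  exact Ideal.pow_mem_of_mem _ (h j) 8 (by norm_num)


/-- Let R be Noetherian, A a finitely presented R-algebra, φ : A → Λ an R-algebra map and 𝔮 ⊆ Λ a prime.
Let r ≥ 1 and π₁, …, π_r ∈ R map into 𝔮, and assume: for each i the annihilators of π_i and of π_i²
agree in R/(π₁⁸, …, π_{i−1}⁸) and in Λ/(π₁⁸, …, π_{i−1}⁸)Λ, and each π_i maps to a strictly standard
element of A over R. Write K = (π₁⁸, …, π_r⁸). If the reduced problem R/K → A/KA → Λ/KΛ ⊇ 𝔮/KΛ can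
be resolved (for the map A/KA → Λ/KΛ induced by φ), then R → A → Λ ⊇ 𝔮 can be resolved. -/
theorem result {R A Λ : Type u} [CommRing R] [IsNoetherianRing R]
    [CommRing A] [Algebra R A] [Algebra.FinitePresentation R A] [CommRing Λ] [Algebra R Λ]
    (φ : A →ₐ[R] Λ) (𝔮 : Ideal Λ) [𝔮.IsPrime] {r : ℕ} (hr : 0 < r) (π : Fin r → R)
    (hπ𝔮 : ∀ i, algebraMap R Λ (π i) ∈ 𝔮)
    (hR : ∀ i : Fin r, ∀ x : R ⧸ Ideal.span (Set.range fun j : {j : Fin r // (j : ℕ) < (i : ℕ)} => π j ^ 8),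
      Ideal.Quotient.mk _ (π i) ^ 2 * x = 0 → Ideal.Quotient.mk _ (π i) * x = 0)
    (hΛ : ∀ i : Fin r, ∀ x : Λ ⧸ Ideal.span (Set.range fun j : {j : Fin r // (j : ℕ) < (i : ℕ)} =>
        algebraMap R Λ (π j) ^ 8),
      Ideal.Quotient.mk _ (algebraMap R Λ (π i)) ^ 2 * x = 0 → Ideal.Quotient.mk _ (algebraMap R Λ (π i)) * x = 0)
    (hstd : ∀ i, Smoothing.IsStrictlyStandard R A (algebraMap R A (π i)))
    (K : Ideal R) (hK : K = Ideal.span (Set.range fun i => π i ^ 8))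
    (φK : (A ⧸ K.map (algebraMap R A)) →ₐ[R ⧸ K] (Λ ⧸ K.map (algebraMap R Λ)))
    (hφK : ∀ a : A, φK (Ideal.Quotient.mk _ a) = Ideal.Quotient.mk _ (φ a))
    (hres : Smoothing.Resolvable (R ⧸ K) φK (𝔮.map (Ideal.Quotient.mk (K.map (algebraMap R Λ))))) :
    Smoothing.Resolvable R φ 𝔮 := by
  have hKr : K = Ik π r := by
    rw [hK, Ik]
    apply le_antisymm
    · rw [Ideal.span_le]
      rintro _ ⟨i, rfl⟩
      exact Ideal.subset_span ⟨⟨i, i.2⟩, rfl⟩
    · rw [Ideal.span_le]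
      rintro _ ⟨⟨i, hi⟩, rfl⟩
      exact Ideal.subset_span ⟨i, rfl⟩
  subst hKr
  have hφ : φK = φq φ (Ik π r) := AlgHom.ext fun x => by
    obtain ⟨a, rfl⟩ := Ideal.Quotient.mk_surjective x
    rw [hφK]
    rfl
  rw [hφ] at hres
  have hΛgen : ∀ (i : Fin r) (L : Ideal Λ),
      L = Ideal.span (Set.range fun j : {j : Fin r // (j : ℕ) < (i : ℕ)} =>
        algebraMap R Λ (π j) ^ 8) →
      ∀ x : Λ ⧸ L, Ideal.Quotient.mk L (algebraMap R Λ (π i)) ^ 2 * x = 0 →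
        Ideal.Quotient.mk L (algebraMap R Λ (π i)) * x = 0 := by
    rintro i L rfl
    exact hΛ i
  have chain : ∀ k, 1 ≤ k → k ≤ r →
      Resolvable (R ⧸ Ik π k) (φq φ (Ik π k))
        (𝔮.map (Ideal.Quotient.mk ((Ik π k).map (algebraMap R Λ)))) →
      Resolvable (R ⧸ Ik π 1) (φq φ (Ik π 1))
        (𝔮.map (Ideal.Quotient.mk ((Ik π 1).map (algebraMap R Λ)))) := by
    intro k hk1
    induction k, hk1 using Nat.le_induction with
    | base => intro _ h; exact h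
    | succ k hk1 ih =>
      intro hk h
      have hkr : k < r := hk
      apply ih (le_of_lt hkr)
      exact cstep φ 𝔮 (π ⟨k, hkr⟩) (hstd _) (Ik π k) (Ik π (k + 1)) (Ik_succ π k hkr)
        (Ik_map_le π 𝔮 hπ𝔮 _) (hR ⟨k, hkr⟩) (hΛgen ⟨k, hkr⟩ _ (Ik_map π k)) h
  have h1 := chain r hr le_rfl hres
  have hI1 : Ik π 1 = Ideal.span {π ⟨0, hr⟩ ^ 8} := by
    have := Ik_succ π 0 hr
    rw [Ik_zero, bot_sup_eq] at this
    exact this
  have hbot : Ideal.span (Set.range fun j : {j : Fin r // (j : ℕ) < ((⟨0, hr⟩ : Fin r) : ℕ)} =>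
      π j ^ 8) = ⊥ := Ik_zero π
  have hbotΛ : Ideal.span (Set.range fun j : {j : Fin r // (j : ℕ) < ((⟨0, hr⟩ : Fin r) : ℕ)} =>
      algebraMap R Λ (π j) ^ 8) = ⊥ := by
    rw [Ideal.span_eq_bot]
    rintro _ ⟨⟨j, hj⟩, rfl⟩
    exact absurd hj (Nat.not_lt_zero _)
  refine fstep φ 𝔮 (π ⟨0, hr⟩) (hstd _) (Ik π 1) hI1 (Ik_map_le π 𝔮 hπ𝔮 _) ?_ ?_ h1
  · intro x hx
    have h2 := hR ⟨0, hr⟩ (Ideal.Quotient.mk _ x) (by rw [← map_pow, ← map_mul, hx, map_zero])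
    rw [← map_mul, Ideal.Quotient.eq_zero_iff_mem, hbot] at h2
    exact h2
  · intro x hx
    have h2 := hΛ ⟨0, hr⟩ (Ideal.Quotient.mk _ x) (by rw [← map_pow, ← map_mul, hx, map_zero])
    rw [← map_mul, Ideal.Quotient.eq_zero_iff_mem, hbotΛ] at h2
    exact h2

end Groth.Agent.S6822
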