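import Groth.Statements.S6826
import Groth.Agent.Lib.Helper26.SL3
import Groth.Agent.Lib.Helper26.SL4
import Groth.Agent.Lib.Helper26.SL5
import Groth.Agent.Lib.Helper26.SL7c
import Groth.Agent.Lib.Helper26.SL7d
import Groth.Agent.Lib.Helper8.NLPerfect
import Groth.Agent.Lib.Helper9.QRegLocalA
import Groth.Agent.S9269

set_option autoImplicit false
universe u
open Smoothing

namespace Groth.Agent.S6826

/-- Let R → R₀ be a surjective ring map with kernel I (so R₀ = R/I) and A₀ a syntomic R₀-algebra (flat,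
finitely presented, with local complete intersection fibres). Then there is a syntomic R-algebra A
with A/IA isomorphic to A₀ as an R/I-algebra. -/
theorem result {R A₀ : Type u} [CommRing R] (I : Ideal R) [CommRing A₀]
    [Algebra (R ⧸ I) A₀] (h : Synt.IsSyntomic (R ⧸ I) A₀) :
    ∃ (A : Type u) (_ : CommRing A) (_ : Algebra R A), Synt.IsSyntomic R A ∧
      Nonempty ((A ⧸ I.map (algebraMap R A)) ≃ₐ[R ⧸ I] A₀) := by
  classical
  obtain ⟨hflat, hlci⟩ := (Groth.Agent.Lib.Helper8.SyntLCI.isSyntomic_iff _ _).1 h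
  have := hflat
  have hfp : Algebra.FinitePresentation (R ⧸ I) A₀ := h.2.1
  obtain ⟨n, πb, hπ, hfg⟩ := Algebra.FinitePresentation.out (R := R ⧸ I) (A := A₀)
  obtain ⟨m, fb, hfb⟩ := Submodule.fg_iff_exists_fin_generating_family.mp hfg
  have hfb' : Ideal.span (Set.range fb) = RingHom.ker πb.toRingHom := hfb
  -- the conormal module is projective
  have hKos : LCI.IsKoszulRegularIdeal (RingHom.ker πb.toRingHom) := by
    obtain ⟨-, n', α, hα, hKα⟩ := hlci
    exact Groth.Agent.S9269.result (R ⧸ I) A₀ n' n α hα πb hπ hKα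
  have hproj : Module.Projective (MvPolynomial (Fin n) (R ⧸ I) ⧸ RingHom.ker πb.toRingHom)
      (RingHom.ker πb.toRingHom).Cotangent :=
    Groth.Agent.Lib.Helper9.QRegLocalA.projective_of_locallyQuasiRegular _
      (Groth.Agent.Lib.Helper8.NLPerfect.isLocallyQuasiRegular_of_isKoszulRegularIdeal _ hKos)
  obtain ⟨Bb, hB1, hB2, hB3⟩ :=
    Groth.Agent.Lib.Helper26.SL3.exists_matrix (RingHom.ker πb.toRingHom) fb hfb'
  -- reduction map
  obtain ⟨red, hredd⟩ : ∃ red : MvPolynomial (Fin n) R →+* MvPolynomial (Fin n) (R ⧸ I),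
      red = MvPolynomial.map (Ideal.Quotient.mk I) := ⟨_, rfl⟩
  have hred : Function.Surjective red := by
    rw [hredd]; exact MvPolynomial.map_surjective _ Ideal.Quotient.mk_surjective
  have hkred : RingHom.ker red = I.map (algebraMap R (MvPolynomial (Fin n) R)) := by
    rw [hredd, MvPolynomial.ker_map, Ideal.mk_ker, MvPolynomial.algebraMap_eq]
  choose f hf using fun l => hred (fb l)
  obtain ⟨π, hπd⟩ : ∃ π : MvPolynomial (Fin n) R →+* A₀, π = πb.toRingHom.comp red := ⟨_, rfl⟩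
  have hπsurj : Function.Surjective π := by rw [hπd]; exact hπ.comp hred
  obtain ⟨𝔞, h𝔞d⟩ : ∃ 𝔞 : Ideal (MvPolynomial (Fin n) R), 𝔞 = RingHom.ker π := ⟨_, rfl⟩
  have h𝔞c : 𝔞 = (RingHom.ker πb.toRingHom).comap red := by
    rw [h𝔞d, hπd, RingHom.comap_ker]
  have hmapf : (Ideal.span (Set.range f)).map red = Ideal.span (Set.range fb) := by
    rw [Ideal.map_span]
    congr 1
    ext x
    constructor
    · rintro ⟨_, ⟨l, rfl⟩, rfl⟩; exact ⟨l, (hf l).symm⟩
    · rintro ⟨l, rfl⟩; exact ⟨_, ⟨l, rfl⟩, hf l⟩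
  have h𝔞 : 𝔞 = I.map (algebraMap R (MvPolynomial (Fin n) R)) ⊔ Ideal.span (Set.range f) := by
    rw [h𝔞c, ← hfb', ← hmapf, Ideal.comap_map_of_surjective red hred, ← RingHom.ker_eq_comap_bot,
      hkred, sup_comm]
  have hf𝔞 : ∀ l, f l ∈ 𝔞 := fun l => by
    rw [h𝔞]; exact Ideal.mem_sup_right (Ideal.subset_span ⟨l, rfl⟩)
  obtain ⟨B0, -, H1, H2, H3⟩ := Groth.Agent.Lib.Helper26.SL4.lift_matrix red hred
    (RingHom.ker πb.toRingHom) fb Bb hB1 hB2 hB3 f hf
  rw [← h𝔞c, hkred] at H1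
  rw [← h𝔞c] at H2
  rw [← h𝔞c, hkred] at H3
  -- the étale neighbourhood
  obtain ⟨B, _, _, _, _, hfe, hfpB, E, hE, hEE, ψ, hψ, hψk, h𝔞B⟩ :=
    Groth.Agent.Lib.Helper26.SL5.exists_nbhd I f B0 𝔞 h𝔞 H1 H2
  have := hfe
  have := hfpB
  subst h𝔞d
  let θ : (MvPolynomial (Fin n) R ⧸ RingHom.ker π) ≃+* A₀ :=
    RingHom.quotientKerEquivOfSurjective hπsurj
  obtain ⟨gB, hgBd⟩ : ∃ gB : B →+* A₀, gB = θ.toRingHom.comp ψ.toRingHom := ⟨_, rfl⟩
  have hgB : Function.Surjective gB := by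
    rw [hgBd]; exact θ.surjective.comp hψ
  have hcomm : ∀ r, gB (algebraMap R B r) = algebraMap (R ⧸ I) A₀ (Ideal.Quotient.mk I r) := by
    intro r
    rw [hgBd]
    change θ (ψ (algebraMap R B r)) = _
    rw [IsScalarTower.algebraMap_apply R (MvPolynomial (Fin n) R) B, ψ.commutes]
    change θ (Ideal.Quotient.mk _ _) = _
    rw [RingHom.quotientKerEquivOfSurjective_apply_mk, hπd, hredd]
    change πb (MvPolynomial.map (Ideal.Quotient.mk I) (algebraMap R (MvPolynomial (Fin n) R) r)) = _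
    rw [MvPolynomial.algebraMap_eq, MvPolynomial.map_C, ← MvPolynomial.algebraMap_eq, πb.commutes]
  have hgBk : RingHom.ker gB =
      (RingHom.ker π).map (algebraMap (MvPolynomial (Fin n) R) B) := by
    rw [← hψk, hgBd]
    ext x
    simp only [RingHom.mem_ker, RingHom.comp_apply]
    exact map_eq_zero_iff _ θ.injective
  obtain ⟨K, hK⟩ : ∃ K : Ideal B, K = Ideal.span (Set.range fun j =>
      ∑ l, E j l * algebraMap (MvPolynomial (Fin n) R) B (f l)) := ⟨_, rfl⟩
  have h𝔞B' : (RingHom.ker π).map (algebraMap (MvPolynomial (Fin n) R) B) =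
      K ⊔ I.map (algebraMap R B) := by
    rw [h𝔞B, hK]
    rfl
  have hKle : ∀ a ∈ K, gB a = 0 := fun a ha => by
    rw [← RingHom.mem_ker, hgBk, h𝔞B']; exact Ideal.mem_sup_left ha
  -- the quotient
  have hkS : RingHom.ker (Ideal.Quotient.lift K gB hKle) = I.map (algebraMap R (B ⧸ K)) :=
    Groth.Agent.Lib.Helper26.SL7c.ker_lift_quot I K gB (hgBk.trans h𝔞B') hKle
  refine Groth.Agent.Lib.Helper26.SL7d.exists_global I (Ideal.Quotient.lift K gB hKle)
    (Ideal.Quotient.lift_surjective_of_surjective _ _ hgB) (fun r => hcomm r) hkS ?_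
  intro q₀ hq₀ hIq₀
  have := hq₀
  have : (q₀.comap (Ideal.Quotient.mk K)).IsPrime := Ideal.comap_isPrime _ _
  have hq : (RingHom.ker π).map (algebraMap (MvPolynomial (Fin n) R) B) ≤
      q₀.comap (Ideal.Quotient.mk K) := by
    rw [h𝔞B']
    refine sup_le ?_ ?_
    · intro x hx
      rw [Ideal.mem_comap, Ideal.Quotient.eq_zero_iff_mem.2 hx]
      exact zero_mem _
    · rw [Ideal.map_le_iff_le_comap]
      intro r hr
      rw [Ideal.mem_comap, Ideal.mem_comap]
      exact hIq₀ (Ideal.mem_map_of_mem (algebraMap R (B ⧸ K)) hr)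
  obtain ⟨w, hw, hsyn⟩ := Groth.Agent.Lib.Helper26.SL7c.exists_away_syntomic I f B0 (RingHom.ker π)
    hf𝔞 H2 H3 E hE hEE ψ hψk K hK h𝔞B' hlci gB hgB hcomm hgBk (q₀.comap (Ideal.Quotient.mk K)) hq
  exact ⟨Ideal.Quotient.mk K w, hw, hsyn⟩

end Groth.Agent.S6826
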