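import Groth.Statements.S6829
import Mathlib.RingTheory.Extension.Presentation.Basic

set_option autoImplicit false
universe u
open Smoothing

namespace Groth.Agent.S6829

open MvPolynomial TensorProduct

section aux

variable {R A R' : Type u} [CommRing R] [CommRing A] [Algebra R A] [CommRing R'] [Algebra R R']

lemma aeval_hom_X (P : MarkedPresentation R A) :
    (aeval (R := R) fun i => P.hom (X i)) = P.hom := by
  apply MvPolynomial.algHom_ext
  intro i
  simp

/-- the Mathlib presentation underlying a marked presentation -/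
noncomputable def pres (P : MarkedPresentation R A) :
    Algebra.Presentation R A (Fin P.n) (Fin P.m) where
  toGenerators := Algebra.Generators.ofSurjective (fun i => P.hom (X i))
    (by rw [aeval_hom_X]; exact P.surj)
  relation := P.rel
  span_range_relation_eq_ker := by
    rw [Algebra.Generators.ker_eq_ker_aeval_val]
    apply Ideal.ext
    intro x
    rw [← P.ker_eq, RingHom.mem_ker, RingHom.mem_ker]
    change P.hom x = 0 ↔ aeval (R := R) (fun i => P.hom (X i)) x = 0
    rw [aeval_hom_X]

lemma jacobianMinor_map {n m c : ℕ} (f : Fin m → MvPolynomial (Fin n) R) (rows : Fin c → Fin m)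
    (cols : Fin c → Fin n) :
    jacobianMinor (fun j => MvPolynomial.map (algebraMap R R') (f j)) rows cols
      = MvPolynomial.map (algebraMap R R') (jacobianMinor f rows cols) := by
  unfold jacobianMinor
  rw [RingHom.map_det]
  congr 1
  refine Matrix.ext fun j k => ?_
  simp only [Matrix.of_apply, RingHom.mapMatrix_apply, Matrix.map_apply]
  rw [MvPolynomial.pderiv_map]

/-- the structure map of the base change -/
noncomputable def bcHom (P : MarkedPresentation R A) :
    MvPolynomial (Fin P.n) R' →ₐ[R'] R' ⊗[R] A :=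
  aeval ((pres P).baseChange R').val

lemma bcHom_X (P : MarkedPresentation R A) (i : Fin P.n) :
    bcHom (R' := R') P (X i) = (1 : R') ⊗ₜ[R] P.hom (X i) := by
  unfold bcHom
  rw [aeval_X]
  rfl

lemma bcHom_map (P : MarkedPresentation R A) (q : MvPolynomial (Fin P.n) R) :
    bcHom (R' := R') P (MvPolynomial.map (algebraMap R R') q) = (1 : R') ⊗ₜ[R] P.hom q := by
  induction q using MvPolynomial.induction_on with
  | C r =>
    have h1 : bcHom (R' := R') P (C (algebraMap R R' r)) = (algebraMap R R' r) ⊗ₜ[R] (1 : A) := by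
      rw [← MvPolynomial.algebraMap_eq, AlgHom.commutes, Algebra.TensorProduct.algebraMap_apply]
      rfl
    have h2 : P.hom (C r) = algebraMap R A r := by
      rw [← MvPolynomial.algebraMap_eq, AlgHom.commutes]
    rw [MvPolynomial.map_C, h1, h2, Algebra.algebraMap_eq_smul_one r (A := R'),
      Algebra.algebraMap_eq_smul_one (A := A) r, TensorProduct.smul_tmul]
  | add p q hp hq => rw [map_add, map_add, hp, hq, map_add, tmul_add]
  | mul_X p i hp =>
    rw [map_mul, map_mul, hp, MvPolynomial.map_X, map_mul, bcHom_X,
      Algebra.TensorProduct.tmul_mul_tmul, mul_one]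

/-- the base change of a marked presentation -/
noncomputable def bc (P : MarkedPresentation R A) : MarkedPresentation R' (R' ⊗[R] A) where
  n := P.n
  m := P.m
  c := P.c
  hcn := P.hcn
  hcm := P.hcm
  rel := fun j => MvPolynomial.map (algebraMap R R') (P.rel j)
  hom := bcHom P
  surj := ((pres P).baseChange R').aeval_val_surjective
  ker_eq := by
    have h := ((pres P).baseChange R').span_range_relation_eq_ker
    rw [Algebra.Generators.ker_eq_ker_aeval_val] at h
    apply Ideal.ext
    intro x
    have h' := (Ideal.ext_iff.1 h x).symm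
    rw [RingHom.mem_ker] at h' ⊢
    exact h'

lemma killsTail_bc (P : MarkedPresentation R A) (a : A) (h : KillsTail P a) :
    KillsTail (bc (R' := R') P) ((1 : R') ⊗ₜ[R] a) := by
  intro b' hb' j hj
  obtain ⟨a₀, ha₀⟩ := P.surj a
  have h0 := h a₀ ha₀ j hj
  change MvPolynomial (Fin P.n) R' at b'
  change Fin P.m at j
  change bcHom P b' = _ at hb'
  change P.c ≤ (j : ℕ) at hj
  let rel' : Fin P.m → MvPolynomial (Fin P.n) R' :=
    fun j => MvPolynomial.map (algebraMap R R') (P.rel j)
  change b' * rel' j ∈ Ideal.span (rel' '' {j' : Fin P.m | (j' : ℕ) < P.c}) ⊔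
      Ideal.span (Set.range rel') ^ 2
  set φ := MvPolynomial.map (σ := Fin P.n) (algebraMap R R') with hφ
  have hker : ∀ x : MvPolynomial (Fin P.n) R', bcHom (R' := R') P x = 0 →
      x ∈ Ideal.span (Set.range rel') := by
    intro x hx
    have := (bc (R' := R') P).ker_eq
    have h2 : x ∈ RingHom.ker (bc (R' := R') P).hom.toRingHom := hx
    rw [this] at h2
    exact h2
  have hmem : b' - φ a₀ ∈ Ideal.span (Set.range rel') := by
    apply hker
    rw [map_sub, hb', hφ, bcHom_map, ha₀, sub_self]
  have hrel : rel' j ∈ Ideal.span (Set.range rel') := Ideal.subset_span ⟨j, rfl⟩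
  have hdec : b' * rel' j = φ (a₀ * P.rel j) + (b' - φ a₀) * rel' j := by
    rw [map_mul]
    change _ = φ a₀ * rel' j + _
    ring
  rw [hdec]
  apply Ideal.add_mem
  · have h1 := Ideal.mem_map_of_mem φ h0
    rw [Ideal.map_sup, Ideal.map_pow, Ideal.map_span, Ideal.map_span, Set.image_image,
      ← Set.range_comp] at h1
    exact h1
  · have h2 := Ideal.mul_mem_mul hmem hrel
    rw [← sq] at h2
    exact Ideal.mem_sup_right h2

end aux

open TensorProduct in
/-- Let A be a finitely presented R-algebra, R → R' a ring map and a ∈ A. If a is elementary standard,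
resp. strictly standard, in A over R, then a ⊗ 1 is elementary standard, resp. strictly standard, in
A ⊗_R R' over R' (written here as 1 ⊗ a in R' ⊗_R A). -/
theorem result {R A R' : Type u} [CommRing R] [CommRing A] [Algebra R A]
    [Algebra.FinitePresentation R A] [CommRing R'] [Algebra R R'] (a : A) :
    (Smoothing.IsElementaryStandard R A a →
        Smoothing.IsElementaryStandard R' (R' ⊗[R] A) ((1 : R') ⊗ₜ[R] a)) ∧
      (Smoothing.IsStrictlyStandard R A a →
        Smoothing.IsStrictlyStandard R' (R' ⊗[R] A) ((1 : R') ⊗ₜ[R] a)) := by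
  constructor
  · rintro ⟨P, ⟨a', ha'⟩, hk⟩
    refine ⟨bc P, ⟨(1 : R') ⊗ₜ[R] a', ?_⟩, killsTail_bc P a hk⟩
    have : jacobianMinor (bc (R' := R') P).rel (Fin.castLE (bc (R' := R') P).hcm)
        (Fin.castLE (bc (R' := R') P).hcn)
        = MvPolynomial.map (algebraMap R R')
          (jacobianMinor P.rel (Fin.castLE P.hcm) (Fin.castLE P.hcn)) :=
      jacobianMinor_map P.rel _ _
    rw [this]
    change _ = _ * bcHom P _
    rw [bcHom_map, Algebra.TensorProduct.tmul_mul_tmul, mul_one, ← ha']
  · rintro ⟨P, hmem, hk⟩
    have hgen : ∀ cols : Fin P.c → Fin P.n,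
        (1 : R') ⊗ₜ[R] P.hom (jacobianMinor P.rel (Fin.castLE P.hcm) cols)
          = (bc (R' := R') P).hom (jacobianMinor (bc (R' := R') P).rel
              (Fin.castLE (bc (R' := R') P).hcm) cols) := by
      intro cols
      have : jacobianMinor (bc (R' := R') P).rel (Fin.castLE (bc (R' := R') P).hcm) cols
          = MvPolynomial.map (algebraMap R R') (jacobianMinor P.rel (Fin.castLE P.hcm) cols) :=
        jacobianMinor_map P.rel _ _
      rw [this]
      change _ = bcHom P _
      rw [bcHom_map]
    have hk' := killsTail_bc (R' := R') P a hk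
    clear hk
    refine ⟨bc P, ?_, hk'⟩
    clear hk'
    induction hmem using Submodule.span_induction with
    | mem y hy =>
      obtain ⟨cols, rfl⟩ := hy
      rw [hgen]
      exact Ideal.subset_span ⟨cols, rfl⟩
    | zero => rw [tmul_zero]; exact Ideal.zero_mem _
    | add y z _ _ hy hz => rw [tmul_add]; exact Ideal.add_mem _ hy hz
    | smul x y _ hy =>
      have : (1 : R') ⊗ₜ[R] (x • y) = ((1 : R') ⊗ₜ[R] x) * ((1 : R') ⊗ₜ[R] y) := by
        rw [Algebra.TensorProduct.tmul_mul_tmul, mul_one, smul_eq_mul]
      rw [this]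
      exact Ideal.mul_mem_left _ _ hy

end Groth.Agent.S6829
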