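import Groth.Statements.S6838
import Groth.Agent.Lib.Helper94.ModFlat

set_option autoImplicit false
universe u
open CategoryTheory CategoryTheory.Limits TopologicalSpace
open ModSite

namespace Groth.Agent.S6838

/-- On a ringed space (X, O), the direct sum of any family of flat O-modules is flat. (Flat: − ⊗_O F is
exact.) -/
theorem result {X : TopCat.{u}} (O : TopCat.Sheaf CommRingCat.{u} X)
    {ι : Type u} (F : ι → ModSite.Mod O) (hF : ∀ i, ModSite.IsFlat (F i)) : ModSite.IsFlat (∐ F) :=
  Groth.Agent.Lib.Helper94.ModFlat.isFlat_of_isColimit_cofan O F hF _ (Limits.coproductIsCoproduct F)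

end Groth.Agent.S6838
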