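import Groth.Statements.S6844
import Groth.Agent.Lib.Helper94.FlatEq

set_option autoImplicit false
universe u
open CategoryTheory CategoryTheory.Limits TopologicalSpace
open ModSite

namespace Groth.Agent.S6844

/-- Equational criterion of flatness, sheaf form: let (X, O) be a ringed space, F a flat O-module (− ⊗_O
F exact), U ⊆ X open, f₁, …, f_n ∈ O(U) and s₁, …, s_n ∈ F(U) with Σ f_i s_i = 0 (so that O_U →
O_U^n → F|_U is a complex). Then every x ∈ U has an open neighbourhood V ⊆ U together with m,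
sections t₁, …, t_m ∈ F(V) and a_{ij} ∈ O(V) such that s_i|_V = Σ_j a_{ij} t_j for all i and Σ_i
f_i|_V a_{ij} = 0 for all j. -/
theorem result {X : TopCat.{u}} (O : TopCat.Sheaf CommRingCat.{u} X)
    (F : ModSite.Mod O) (hF : ModSite.IsFlat F) (U : Opens X) {n : ℕ}
    (f : Fin n → (ModSite.ringSh O).obj.obj (Opposite.op U)) (s : Fin n → ModSite.sect F U)
    (hrel : ∑ i, f i • s i = 0) (x : X) (hx : x ∈ U) :
    ∃ (V : Opens X) (hV : V ≤ U) (m : ℕ) (a : Fin n → Fin m → (ModSite.ringSh O).obj.obj (Opposite.op V))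
      (t : Fin m → ModSite.sect F V), x ∈ V ∧
      (∀ i, (F.val.map (homOfLE hV).op).hom (s i) = ∑ j, a i j • t j) ∧
        ∀ j, ∑ i, ((ModSite.ringSh O).obj.map (homOfLE hV).op).hom (f i) * a i j = 0 := by
  obtain ⟨S, hS, h⟩ := Groth.Agent.Lib.Helper94.FlatEq.exists_trivialisation_over O n 1 F hF U
    (fun _ i => f i) s (fun _ => hrel)
  obtain ⟨V, g, hg, hxV⟩ := hS x hx
  obtain ⟨m, t, a, h1, h2⟩ := h g hg
  have hgl : g = homOfLE (leOfHom g) := Subsingleton.elim _ _
  refine ⟨V, leOfHom g, m, a, t, hxV, ?_, ?_⟩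
  · intro i
    rw [← hgl]
    exact h1 i
  · intro j
    rw [← hgl]
    refine Eq.trans ?_ (h2 0 j)
    refine Finset.sum_congr rfl fun i _ => ?_
    exact mul_comm (G := O.obj.obj (Opposite.op V)) _ _

end Groth.Agent.S6844
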