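import Groth.Statements.S6846
import Groth.Agent.Lib.Helper19.ModPlainFG

set_option autoImplicit false
universe u
open CategoryTheory CategoryTheory.Limits TopologicalSpace
open ModSite

namespace Groth.Agent.S6846

/-- Let i : (Z, O_Z) → (X, O_X) be a morphism of ringed spaces. Suppose the underlying continuous map
embeds Z homeomorphically as a closed subset of X, and that the comorphism i♯ : O_X → i_*O_Z is
surjective as a map of sheaves (locally surjective). Then, given any O_Z-module F, finite type of F
is equivalent to finite type of the pushforward O_X-module i_*F. -/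
theorem result {Z X : TopCat.{u}} (i : Z ⟶ X)
    (O_Z : TopCat.Sheaf CommRingCat.{u} Z) (O_X : TopCat.Sheaf CommRingCat.{u} X)
    (c : O_X ⟶ ((TopologicalSpace.Opens.map i).sheafPushforwardContinuous CommRingCat.{u}
      (Opens.grothendieckTopology X) (Opens.grothendieckTopology Z)).obj O_Z)
    (hi : Topology.IsClosedEmbedding i) (hc : Sheaf.IsLocallySurjective c) (F : ModSite.Mod O_Z) :
    SheafOfModules.IsFiniteType (R := ModSite.ringSh O_X)
        ((ModSite.RMor.ofFlat (TopologicalSpace.Opens.map i) c).push.obj F) ↔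
      SheafOfModules.IsFiniteType (R := ModSite.ringSh O_Z) F := by
  have hN := Groth.Agent.Lib.Helper19.ModPlainFG.isFiniteType_iff_gen
    (Groth.Agent.Lib.Helper19.ModPlainFG.pushMod i c F)
  have hF := Groth.Agent.Lib.Helper19.ModPlainFG.isFiniteType_iff_gen F
  refine hN.trans (Iff.trans ?_ hF.symm)
  constructor
  · intro H z
    obtain ⟨U, hU, T, _, t, ht⟩ := H (i z)
    exact ⟨(Opens.map i).obj U, hU, T, inferInstance, _,
      Groth.Agent.Lib.Helper19.ModPlainFG.gen_of_gen_push i c F hi.isInducing U t ht⟩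
  · intro H x
    by_cases hx : x ∈ Set.range i
    · obtain ⟨z, rfl⟩ := hx
      obtain ⟨W, hW, T, _, t, ht⟩ := H z
      obtain ⟨V, hV, hVW⟩ := hi.isInducing.isOpen_iff.1 W.isOpen
      have h1 : (Opens.map i).obj (⟨V, hV⟩ : Opens X) ≤ W := by
        intro z' hz'
        have hz2 : z' ∈ i ⁻¹' V := hz'
        rw [hVW] at hz2
        exact hz2
      have hz : i z ∈ (⟨V, hV⟩ : Opens X) := by
        have hz2 : z ∈ i ⁻¹' V := by
          rw [hVW]
          exact hW
        exact hz2
      exact ⟨⟨V, hV⟩, hz, T, inferInstance, _,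
        Groth.Agent.Lib.Helper19.ModPlainFG.gen_push_of_gen i c F hi hc ⟨V, hV⟩ _ (ht.res h1)⟩
    · refine ⟨⟨(Set.range i)ᶜ, hi.isClosed_range.isOpen_compl⟩, hx, PEmpty.{u + 1}, inferInstance,
        fun e => e.elim, ?_⟩
      intro U' h s y hy
      have hempty : ∀ z, z ∉ (Opens.map i).obj U' := by
        intro z hz
        exact (leOfHom h hz) ⟨z, rfl⟩
      refine ⟨U', 𝟙 U', hy, fun e => e.elim, ?_⟩
      exact Groth.Agent.Lib.Helper19.ModPlainFG.eq_of_forall_not_mem F ((Opens.map i).obj U')
        hempty _ _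

end Groth.Agent.S6846
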