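import Groth.Statements.S6852
import Groth.Agent.Lib.Helper32.PullGen

set_option autoImplicit false
universe u
open CategoryTheory CategoryTheory.Limits TopologicalSpace
open ModSite

namespace Groth.Agent.S6852

open Groth.Agent.Lib.Helper32.PullGen Opposite

lemma isIso_star_map {X Y : TopCat.{u}} (f : X ⟶ Y) (U W : Opens Y) :
    IsIso ((Over.star ((Opens.map f).obj U)).map
      ((Opens.map f).map (prod.snd : U ⨯ W ⟶ W))) := by
  let V := (Opens.map f).obj U
  have hle : (Over.forget V).obj ((Over.star V).obj ((Opens.map f).obj W)) ≤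
      (Opens.map f).obj (U ⨯ W) := by
    intro x hx
    have h1 : x ∈ V := leOfHom ((Over.star V).obj ((Opens.map f).obj W)).hom hx
    have h2 : x ∈ (Opens.map f).obj W :=
      leOfHom ((Over.forgetAdjStar V).counit.app ((Opens.map f).obj W)) hx
    have h3 : f x ∈ U ⊓ W := ⟨h1, h2⟩
    exact leOfHom (prod.lift (homOfLE inf_le_left) (homOfLE inf_le_right) : U ⊓ W ⟶ U ⨯ W) h3
  let inv' : (Over.star V).obj ((Opens.map f).obj W) ⟶ (Over.star V).obj ((Opens.map f).obj (U ⨯ W)) :=
    (Over.forgetAdjStar V).homEquiv _ _ (homOfLE hle)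
  exact ⟨⟨inv', Subsingleton.elim _ _, Subsingleton.elim _ _⟩⟩

theorem result {X Y : TopCat.{u}} (f : X ⟶ Y) (O_X : TopCat.Sheaf CommRingCat.{u} X)
    (O_Y : TopCat.Sheaf CommRingCat.{u} Y)
    (c : O_Y ⟶ ((TopologicalSpace.Opens.map f).sheafPushforwardContinuous CommRingCat.{u}
      (Opens.grothendieckTopology Y) (Opens.grothendieckTopology X)).obj O_X)
    (G : ModSite.Mod O_Y) (hG : Nonempty (SheafOfModules.LocalGeneratorsData.{u} (R := ModSite.ringSh O_Y) G)) :
    Nonempty (SheafOfModules.LocalGeneratorsData.{u} (R := ModSite.ringSh O_X)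
      ((ModSite.RMor.ofFlat (TopologicalSpace.Opens.map f) c).pull.obj G)) := by
  obtain ⟨d⟩ := hG
  let φ := (ModSite.RMor.ofFlat (TopologicalSpace.Opens.map f) c).sharpR
  haveI : (SheafOfModules.pushforward.{u} φ).IsRightAdjoint :=
    ModSite.RMor.isRightAdjoint_push (ModSite.RMor.ofFlat (TopologicalSpace.Opens.map f) c)
  refine ⟨{ I := d.I
            X := fun i => (Opens.map f).obj (d.X i)
            coversTop := ?_
            generators := fun i =>
              { I := (d.generators i).I
                s := fun k => sec φ G (d.X i) ((d.generators i).s k)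
                epi := epi_sec φ (fun W => isIso_star_map f (d.X i) W) (d.generators i) } }⟩
  intro W
  rw [Opens.mem_grothendieckTopology]
  intro x hx
  have h := d.coversTop ⊤
  rw [Opens.mem_grothendieckTopology] at h
  obtain ⟨N, g, ⟨i, ⟨k⟩⟩, hN⟩ := h (f x) trivial
  refine ⟨W ⊓ (Opens.map f).obj N, homOfLE inf_le_left, ⟨i, ⟨homOfLE ?_⟩⟩, ⟨hx, hN⟩⟩
  intro z hz
  exact leOfHom k hz.2

end Groth.Agent.S6852
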