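import Groth.Statements.S6860
-- import your own Groth.Agent.* helpers here

set_option autoImplicit false
universe u
open Smoothing

namespace Groth.Agent.S6860

open MvPolynomial

section aux

variable {A : Type u} [CommRing A] {m : ℕ} (e : Fin m → A)

lemma aeval_surj : Function.Surjective (aeval (R := A) e) := fun a =>
  ⟨C a, by simp⟩

lemma ker_aeval_eq :
    Ideal.span (Set.range fun i : Fin m => (X i - C (e i) : MvPolynomial (Fin m) A))
      = RingHom.ker (aeval (R := A) e) := by
  apply le_antisymm
  · rw [Ideal.span_le]
    rintro _ ⟨i, rfl⟩
    simp [RingHom.mem_ker]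
  · intro f hf
    rw [RingHom.mem_ker] at hf
    set J := Ideal.span (Set.range fun i : Fin m => (X i - C (e i) : MvPolynomial (Fin m) A))
    -- the two algebra maps `mk` and `mk ∘ C ∘ aeval e` agree
    have h : (Ideal.Quotient.mkₐ A J) =
        (Ideal.Quotient.mkₐ A J).comp ((Algebra.ofId A (MvPolynomial (Fin m) A)).comp (aeval e)) := by
      apply MvPolynomial.algHom_ext
      intro i
      simp only [Ideal.Quotient.mkₐ_eq_mk, AlgHom.comp_apply, aeval_X, Algebra.ofId_apply,
        MvPolynomial.algebraMap_eq]
      rw [Ideal.Quotient.eq]
      exact Ideal.subset_span ⟨i, rfl⟩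
    have h2 := congrArg (fun g => g f) h
    simp only [Ideal.Quotient.mkₐ_eq_mk, AlgHom.comp_apply, hf, map_zero] at h2
    exact Ideal.Quotient.eq_zero_iff_mem.1 h2

/-- the presentation of `A` over itself with generators `e i` and relations `X i - e i` -/
noncomputable def preQ : Algebra.PreSubmersivePresentation A A (Fin m) (Fin m) where
  toGenerators := Algebra.Generators.ofSurjective e (aeval_surj e)
  relation := fun i => X i - C (e i)
  span_range_relation_eq_ker := by
    rw [Algebra.Generators.ker_eq_ker_aeval_val]
    exact ker_aeval_eq e
  map := id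
  map_inj := Function.injective_id

lemma preQ_val (i : Fin m) : (preQ e).val i = e i := rfl

lemma preQ_jacobian : (preQ e).jacobian = 1 := by
  classical
  rw [Algebra.PreSubmersivePresentation.jacobian_eq_jacobiMatrix_det]
  have : (preQ e).jacobiMatrix = 1 := by
    refine Matrix.ext fun i j => ?_
    rw [Algebra.PreSubmersivePresentation.jacobiMatrix_apply]
    change pderiv i (X j - C (e j) : MvPolynomial (Fin m) A) = _
    rw [map_sub, pderiv_C, sub_zero, pderiv_X, Matrix.one_apply]
    by_cases h : i = j
    · subst h; simp
    · rw [if_neg h, Pi.single_eq_of_ne (Ne.symm h)]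
  rw [this, Matrix.det_one, map_one]

noncomputable def Q : Algebra.SubmersivePresentation A A (Fin m) (Fin m) where
  toPreSubmersivePresentation := preQ e
  jacobian_isUnit := by rw [preQ_jacobian]; exact isUnit_one

end aux

/-- Let R → A be standard smooth and E ⊆ A a finite subset. Then A admits a standard smooth presentation
A = R[x₁, …, x_N]/(f₁, …, f_c) (a submersive presentation: finitely many generators and relations,
an injection from the relations to the variables picking the distinguished variables, and the
Jacobian of the relations with respect to the distinguished variables invertible in A) in which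
every element of E is the class of a distinguished variable. (The published statement arranges E to
be exactly the classes of the first n = |E| variables, all of them distinguished, with c ≥ n; this
row states that E is contained in the set of classes of the distinguished variables, which is what
that arrangement gives.) -/
theorem result {R A : Type u} [CommRing R] [CommRing A] [Algebra R A]
    [Algebra.IsStandardSmooth R A] (E : Finset A) :
    ∃ (ι σ : Type) (_ : Finite ι) (_ : Finite σ) (P : Algebra.SubmersivePresentation R A ι σ),
      (↑E : Set A) ⊆ Set.range (P.val ∘ P.map) := by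
  classical
  obtain ⟨ι, σ, _, _, ⟨P⟩⟩ := Algebra.IsStandardSmooth.out (R := R) (S := A)
  let e : Fin E.card → A := fun i => (E.equivFin.symm i : A)
  refine ⟨Fin E.card ⊕ ι, Fin E.card ⊕ σ, inferInstance, inferInstance, (Q e).comp P, ?_⟩
  intro x hx
  refine ⟨Sum.inl (E.equivFin ⟨x, hx⟩), ?_⟩
  change ((Q e).comp P).val (((Q e).comp P).map (Sum.inl (E.equivFin ⟨x, hx⟩))) = x
  have h1 : ((Q e).comp P).map (Sum.inl (E.equivFin ⟨x, hx⟩))
      = Sum.inl (E.equivFin ⟨x, hx⟩) := rfl
  rw [h1]
  change e (E.equivFin ⟨x, hx⟩) = x
  simp [e]

end Groth.Agent.S6860
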