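import Groth.Statements.S6864
import Mathlib.RingTheory.Nakayama
import Mathlib.LinearAlgebra.TensorProduct.Quotient
-- import your own Groth.Agent.* helpers here

set_option autoImplicit false
universe u
open TensorProduct
open CAlg

namespace Groth.Agent.S6864

open TensorProduct

/-- every element of `(R ⧸ I) ⊗ M` is of the form `1 ⊗ m`. -/
theorem exists_one_tmul {R : Type u} [CommRing R] (I : Ideal R) {M : Type u} [AddCommGroup M] [Module R M]
    (z : (R ⧸ I) ⊗[R] M) : ∃ m : M, z = (1 : R ⧸ I) ⊗ₜ[R] m := by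
  obtain ⟨m, hm⟩ := Submodule.Quotient.mk_surjective _ (TensorProduct.quotTensorEquivQuotSMul M I z)
  refine ⟨m, ?_⟩
  apply (TensorProduct.quotTensorEquivQuotSMul M I).injective
  rw [← hm, TensorProduct.quotTensorEquivQuotSMul_mk_one_tmul]

theorem one_tmul_eq_zero_iff {R : Type u} [CommRing R] (I : Ideal R) {M : Type u} [AddCommGroup M] [Module R M]
    (m : M) : (1 : R ⧸ I) ⊗ₜ[R] m = 0 ↔ m ∈ I • (⊤ : Submodule R M) := by
  rw [← Submodule.Quotient.mk_eq_zero, ← TensorProduct.quotTensorEquivQuotSMul_mk_one_tmul,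
    LinearEquiv.map_eq_zero_iff]

theorem surjective_of_baseChange {R : Type u} [CommRing R] (I : Ideal R)
    (hI : I ≤ Ideal.jacobson (⊥ : Ideal R)) {P P' : Type u}
    [AddCommGroup P] [Module R P] [AddCommGroup P'] [Module R P'] [Module.Finite R P'] (φ : P →ₗ[R] P')
    (h : Function.Surjective (φ.baseChange (R ⧸ I))) : Function.Surjective φ := by
  apply LinearMap.surjective_of_surjective_comp_mkQ φ I hI
  intro y
  obtain ⟨n, rfl⟩ := Submodule.Quotient.mk_surjective _ y
  obtain ⟨z, hz⟩ := h ((1 : R ⧸ I) ⊗ₜ[R] n)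
  obtain ⟨m, rfl⟩ := exists_one_tmul I z
  refine ⟨m, ?_⟩
  rw [LinearMap.baseChange_tmul] at hz
  have := congrArg (TensorProduct.quotTensorEquivQuotSMul P' I) hz
  simpa using this

/-- Let `I` be an ideal of a commutative ring `R` contained in the Jacobson radical and let `φ : P → P'`
be an `R`-linear map between finite projective `R`-modules. If the induced map `P/IP → P'/IP'` is
bijective, then `φ` is bijective. -/
theorem result {R : Type u} [CommRing R] (I : Ideal R)
    (hI : I ≤ Ideal.jacobson (⊥ : Ideal R)) {P P' : Type u}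
    [AddCommGroup P] [Module R P] [Module.Finite R P] [Module.Projective R P]
    [AddCommGroup P'] [Module R P'] [Module.Finite R P'] [Module.Projective R P'] (φ : P →ₗ[R] P')
    (h : Function.Bijective (φ.baseChange (R ⧸ I))) : Function.Bijective φ := by
  have hsurj : Function.Surjective φ := surjective_of_baseChange I hI φ h.2
  refine ⟨?_, hsurj⟩
  obtain ⟨s, hs⟩ := Module.projective_lifting_property φ LinearMap.id hsurj
  have hs' : ∀ x, φ (s x) = x := fun x => LinearMap.congr_fun hs x
  let r : P →ₗ[R] P := LinearMap.id - s ∘ₗ φ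
  have hK : LinearMap.ker φ = LinearMap.range r := by
    apply le_antisymm
    · intro k hk
      refine ⟨k, ?_⟩
      have : φ k = 0 := hk
      simp [r, this]
    · rintro _ ⟨m, rfl⟩
      simp [r, hs']
  have hfg : (LinearMap.ker φ).FG := by
    rw [hK, LinearMap.range_eq_map]
    exact (Module.Finite.fg_top).map r
  have hle : LinearMap.ker φ ≤ I • LinearMap.ker φ := by
    intro k hk
    have hk0 : φ k = 0 := hk
    have h1 : (1 : R ⧸ I) ⊗ₜ[R] k = 0 := by
      apply h.1
      rw [LinearMap.baseChange_tmul, hk0, map_zero, TensorProduct.tmul_zero]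
    have h2 : k ∈ I • (⊤ : Submodule R P) := (one_tmul_eq_zero_iff I k).mp h1
    have h3 : r k ∈ (I • (⊤ : Submodule R P)).map r := Submodule.mem_map_of_mem h2
    rw [Submodule.map_smul'', Submodule.map_top, ← hK] at h3
    have : r k = k := by simp [r, hk0]
    rwa [this] at h3
  have hbot := Submodule.eq_bot_of_le_smul_of_le_jacobson_bot I _ hfg hle hI
  exact LinearMap.ker_eq_bot.mp hbot

end Groth.Agent.S6864
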