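import Groth.Statements.S6863
import Groth.Agent.S6864
import Mathlib.LinearAlgebra.TensorProduct.Basis
import Mathlib.LinearAlgebra.TensorProduct.RightExactness
import Mathlib.RingTheory.Finiteness.Prod
import Mathlib.LinearAlgebra.FreeModule.Finite.Basic
-- import your own Groth.Agent.* helpers here

set_option autoImplicit false
universe u
open TensorProduct
open CAlg

namespace Groth.Agent.S6863

open TensorProduct

/-- Every `R ⧸ I`-linear map between base changes of `R`-modules, the source being projective,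
is the base change of an `R`-linear map. -/
theorem exists_lift_baseChange {R : Type u} [CommRing R] (I : Ideal R) {P Q : Type u}
    [AddCommGroup P] [Module R P] [Module.Projective R P] [AddCommGroup Q] [Module R Q]
    (π : (R ⧸ I) ⊗[R] P →ₗ[R ⧸ I] (R ⧸ I) ⊗[R] Q) :
    ∃ φ : P →ₗ[R] Q, φ.baseChange (R ⧸ I) = π := by
  let g : Q →ₗ[R] (R ⧸ I) ⊗[R] Q := TensorProduct.mk R (R ⧸ I) Q 1
  have hg : Function.Surjective g := by
    intro z
    obtain ⟨m, rfl⟩ := Groth.Agent.S6864.exists_one_tmul I z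
    exact ⟨m, rfl⟩
  let f : P →ₗ[R] (R ⧸ I) ⊗[R] Q :=
    (π.restrictScalars R) ∘ₗ TensorProduct.mk R (R ⧸ I) P 1
  obtain ⟨φ, hφ⟩ := Module.projective_lifting_property g f hg
  have hφ' : ∀ p : P, (1 : R ⧸ I) ⊗ₜ[R] φ p = π ((1 : R ⧸ I) ⊗ₜ[R] p) := fun p =>
    LinearMap.congr_fun hφ p
  refine ⟨φ, ?_⟩
  apply TensorProduct.AlgebraTensorModule.ext
  intro a p
  obtain ⟨a, rfl⟩ := Ideal.Quotient.mk_surjective a
  rw [LinearMap.baseChange_tmul]
  have h1 : (Ideal.Quotient.mk I a) ⊗ₜ[R] φ p = (Ideal.Quotient.mk I a) • ((1 : R ⧸ I) ⊗ₜ[R] φ p) := by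
    rw [TensorProduct.smul_tmul', smul_eq_mul, mul_one]
  have h2 : (Ideal.Quotient.mk I a) ⊗ₜ[R] p = (Ideal.Quotient.mk I a) • ((1 : R ⧸ I) ⊗ₜ[R] p) := by
    rw [TensorProduct.smul_tmul', smul_eq_mul, mul_one]
  rw [h1, h2, hφ', map_smul]

/-- Let `I` be an ideal of a commutative ring `R` contained in the Jacobson radical (equivalently, `1 +
i` is a unit for each `i ∈ I`). Then each finitely generated stably free module `E` over `R/I`
lifts: there is a finite stably free `R`-module `M` with `M/IM ≅ E` (existence of an isomorphism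
only; the published statement names no map). -/
theorem result {R : Type u} [CommRing R] (I : Ideal R)
    (hI : I ≤ Ideal.jacobson (⊥ : Ideal R)) (E : Type u) [AddCommGroup E] [Module (R ⧸ I) E]
    [Module.Finite (R ⧸ I) E] [Module.IsStablyFree (R ⧸ I) E] :
    ∃ (M : Type u) (_ : AddCommGroup M) (_ : Module R M), Module.Finite R M ∧ Module.IsStablyFree R M ∧
      Nonempty ((R ⧸ I) ⊗[R] M ≃ₗ[R ⧸ I] E) := by
  classical
  obtain ⟨N, _, _, _, _, _⟩ := Module.IsStablyFree.exist_free_prod (R ⧸ I) E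
  -- bases
  let b := Module.Free.chooseBasis (R ⧸ I) (E × N)
  let c := Module.Free.chooseBasis (R ⧸ I) N
  let ι := Module.Free.ChooseBasisIndex (R ⧸ I) (E × N)
  let κ := Module.Free.ChooseBasisIndex (R ⧸ I) N
  let F := ι →₀ R
  let G := κ →₀ R
  let bF : Module.Basis ι R F := Finsupp.basisSingleOne
  let bG : Module.Basis κ R G := Finsupp.basisSingleOne
  let α : (R ⧸ I) ⊗[R] F ≃ₗ[R ⧸ I] (E × N) := (bF.baseChange (R ⧸ I)).equiv b (Equiv.refl ι)
  let β : (R ⧸ I) ⊗[R] G ≃ₗ[R ⧸ I] N := (bG.baseChange (R ⧸ I)).equiv c (Equiv.refl κ)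
  let π : (R ⧸ I) ⊗[R] F →ₗ[R ⧸ I] (R ⧸ I) ⊗[R] G :=
    β.symm.toLinearMap ∘ₗ LinearMap.snd (R ⧸ I) E N ∘ₗ α.toLinearMap
  obtain ⟨φ, hφ⟩ := exists_lift_baseChange I π
  have hπ : ∀ z, β (φ.baseChange (R ⧸ I) z) = (α z).2 := by
    intro z
    rw [hφ]
    simp [π]
  have hπsurj : Function.Surjective (φ.baseChange (R ⧸ I)) := by
    intro y
    refine ⟨α.symm (0, β y), ?_⟩
    apply β.injective
    rw [hπ]
    simp
  have : Module.Finite R G := Module.Finite.of_basis bG
  have : Module.Finite R F := Module.Finite.of_basis bF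
  have hφsurj : Function.Surjective φ := Groth.Agent.S6864.surjective_of_baseChange I hI φ hπsurj
  -- split
  obtain ⟨s, hs⟩ := Module.projective_lifting_property φ LinearMap.id hφsurj
  have hex : Function.Exact (LinearMap.ker φ).subtype φ := LinearMap.exact_subtype_ker_map φ
  let e : F ≃ₗ[R] (LinearMap.ker φ) × G :=
    (hex.splitSurjectiveEquiv (Submodule.subtype_injective _) ⟨s, hs⟩).1
  have he : (LinearMap.ker φ).subtype = e.symm.toLinearMap ∘ₗ LinearMap.inl R _ G :=
    (hex.splitSurjectiveEquiv (Submodule.subtype_injective _) ⟨s, hs⟩).2.1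
  let ρ : F →ₗ[R] LinearMap.ker φ := LinearMap.fst R _ G ∘ₗ e.toLinearMap
  have hρ : ρ ∘ₗ (LinearMap.ker φ).subtype = LinearMap.id := by
    rw [he]
    ext x
    simp [ρ]
  refine ⟨LinearMap.ker φ, inferInstance, inferInstance, ?_, ?_, ?_⟩
  · -- finite: quotient of F
    refine Module.Finite.of_surjective ρ ?_
    intro x
    exact ⟨(LinearMap.ker φ).subtype x, LinearMap.congr_fun hρ x⟩
  · -- stably free
    have : Module.Free R ((LinearMap.ker φ) × G) := Module.Free.of_equiv e
    exact Module.IsStablyFree.of_free_prod R (LinearMap.ker φ) G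
  · -- the isomorphism
    let jM := (LinearMap.ker φ).subtype
    have hjinj : Function.Injective (jM.baseChange (R ⧸ I)) := by
      have hcomp : (ρ.baseChange (R ⧸ I)) ∘ₗ (jM.baseChange (R ⧸ I)) = LinearMap.id := by
        rw [← LinearMap.baseChange_comp, hρ, LinearMap.baseChange_id]
      intro x y hxy
      have := congrArg (ρ.baseChange (R ⧸ I)) hxy
      have hx := LinearMap.congr_fun hcomp x
      have hy := LinearMap.congr_fun hcomp y
      simp only [LinearMap.comp_apply, LinearMap.id_apply] at hx hy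
      rw [← hx, ← hy, this]
    have hexT : Function.Exact (jM.baseChange (R ⧸ I)) (φ.baseChange (R ⧸ I)) := by
      have := @lTensor_exact R (LinearMap.ker φ) F G _ _ _ _ _ _ _ jM φ (R ⧸ I) _ _ hex hφsurj
      exact this
    let θ : (R ⧸ I) ⊗[R] (LinearMap.ker φ) →ₗ[R ⧸ I] E :=
      LinearMap.fst (R ⧸ I) E N ∘ₗ α.toLinearMap ∘ₗ (jM.baseChange (R ⧸ I))
    have hθ : Function.Bijective θ := by
      constructor
      · rw [injective_iff_map_eq_zero]
        intro z hz
        apply hjinj
        rw [map_zero]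
        apply α.injective
        rw [map_zero]
        have h1 : (α (jM.baseChange (R ⧸ I) z)).1 = 0 := hz
        have h2 : (α (jM.baseChange (R ⧸ I) z)).2 = 0 := by
          rw [← hπ, hexT.apply_apply_eq_zero, map_zero]
        exact Prod.ext h1 h2
      · intro x
        have hy : φ.baseChange (R ⧸ I) (α.symm (x, 0)) = 0 := by
          apply β.injective
          rw [hπ]
          simp
        obtain ⟨z, hz⟩ := (hexT _).mp hy
        refine ⟨z, ?_⟩
        change (α (jM.baseChange (R ⧸ I) z)).1 = x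
        rw [hz]
        simp
    exact ⟨LinearEquiv.ofBijective θ hθ⟩

end Groth.Agent.S6863
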