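import Groth.Statements.S6865
import Groth.Agent.S6864
-- import your own Groth.Agent.* helpers here

set_option autoImplicit false
universe u
open TensorProduct
open CAlg

namespace Groth.Agent.S6865

/-- Let `I` be an ideal of a commutative ring `R` contained in the Jacobson radical and let `P, P'` be
finite projective `R`-modules. If `P/IP` and `P'/IP'` are isomorphic `R/I`-modules, then `P` and
`P'` are isomorphic. -/
theorem result {R : Type u} [CommRing R] (I : Ideal R)
    (hI : I ≤ Ideal.jacobson (⊥ : Ideal R)) (P P' : Type u)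
    [AddCommGroup P] [Module R P] [Module.Finite R P] [Module.Projective R P]
    [AddCommGroup P'] [Module R P'] [Module.Finite R P'] [Module.Projective R P']
    (e : (R ⧸ I) ⊗[R] P ≃ₗ[R ⧸ I] (R ⧸ I) ⊗[R] P') : Nonempty (P ≃ₗ[R] P') := by
  -- lift `e` to a linear map `φ : P → P'`
  let g : P' →ₗ[R] (R ⧸ I) ⊗[R] P' := TensorProduct.mk R (R ⧸ I) P' 1
  have hg : Function.Surjective g := by
    intro z
    obtain ⟨m, rfl⟩ := Groth.Agent.S6864.exists_one_tmul I z
    exact ⟨m, rfl⟩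
  let f : P →ₗ[R] (R ⧸ I) ⊗[R] P' :=
    (e.toLinearMap.restrictScalars R) ∘ₗ TensorProduct.mk R (R ⧸ I) P 1
  obtain ⟨φ, hφ⟩ := Module.projective_lifting_property g f hg
  have hφ' : ∀ p : P, (1 : R ⧸ I) ⊗ₜ[R] φ p = e ((1 : R ⧸ I) ⊗ₜ[R] p) := fun p =>
    LinearMap.congr_fun hφ p
  have hbc : φ.baseChange (R ⧸ I) = e.toLinearMap := by
    apply TensorProduct.AlgebraTensorModule.ext
    intro a p
    obtain ⟨a, rfl⟩ := Ideal.Quotient.mk_surjective a
    rw [LinearMap.baseChange_tmul]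
    have h1 : (Ideal.Quotient.mk I a) ⊗ₜ[R] φ p = (Ideal.Quotient.mk I a) • ((1 : R ⧸ I) ⊗ₜ[R] φ p) := by
      rw [TensorProduct.smul_tmul', smul_eq_mul, mul_one]
    have h2 : (Ideal.Quotient.mk I a) ⊗ₜ[R] p = (Ideal.Quotient.mk I a) • ((1 : R ⧸ I) ⊗ₜ[R] p) := by
      rw [TensorProduct.smul_tmul', smul_eq_mul, mul_one]
    rw [h1, h2, hφ', LinearEquiv.coe_coe, map_smul]
  have hbij : Function.Bijective (φ.baseChange (R ⧸ I)) := by
    rw [hbc]
    exact e.bijective
  exact ⟨LinearEquiv.ofBijective φ (Groth.Agent.S6864.result I hI φ hbij)⟩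

end Groth.Agent.S6865
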