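import Groth.Statements.S6866
import Groth.Agent.Lib.Helper35.TorsionFree
-- import your own Groth.Agent.* helpers here

set_option autoImplicit false
universe u
open TensorProduct
open CAlg

namespace Groth.Agent.S6866

/-- If `M` is a torsion free module over a domain `R` and `R → R'` is a flat ring map to another domain,
then `R' ⊗_R M` is torsion free over `R'`. -/
theorem result (R R' : Type u) [CommRing R] [IsDomain R] [CommRing R']
    [IsDomain R'] [Algebra R R'] [Module.Flat R R'] (M : Type u) [AddCommGroup M] [Module R M]
    [Module.IsTorsionFree R M] : Module.IsTorsionFree R' (R' ⊗[R] M) := by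
  have hflat : Module.Flat R (FractionRing R ⊗[R] M) :=
    Groth.Agent.Lib.Helper35.flat_fractionRing_tensor R M
  let ι : M →ₗ[R] FractionRing R ⊗[R] M := TensorProduct.mk R (FractionRing R) M 1
  have hι : Function.Injective ι := Groth.Agent.Lib.Helper35.mk_fractionRing_injective R M
  have hinj : Function.Injective (ι.baseChange R') := by
    have := Module.Flat.lTensor_preserves_injective_linearMap (M := R') ι hι
    exact this
  have : Module.IsTorsionFree R' (R' ⊗[R] (FractionRing R ⊗[R] M)) := inferInstance
  exact Function.Injective.moduleIsTorsionFree (ι.baseChange R') hinj (fun r m => map_smul _ r m)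

end Groth.Agent.S6866
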