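import Groth.Statements.S6868
import Groth.Agent.Lib.Helper49.Serre
-- import your own Groth.Agent.* helpers here

set_option autoImplicit false
universe u
open CAlg

namespace Groth.Agent.S6868

/-- (1) ⇔ (3) ⇔ (4): for a Noetherian domain `R` and a nonzero finite `R`-module `M`, torsion-freeness
of `M` is equivalent to `(0)` being the unique associated prime of `M`, and also to the conjunction:
`(0)` belongs to the support of `M` and `M` satisfies Serre's condition `(S_1)`. (The published
statement also lists embedding into a finite free module and the absence of embedded associated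
primes; this row states the other three conditions.) -/
theorem result (R : Type u) [CommRing R]
    [IsDomain R] [IsNoetherianRing R] (M : Type u) [AddCommGroup M] [Module R M] [Module.Finite R M] [Nontrivial M] :
    (Module.IsTorsionFree R M ↔ associatedPrimes R M = {⊥}) ∧
    (Module.IsTorsionFree R M ↔
      (⟨⊥, Ideal.isPrime_bot⟩ : PrimeSpectrum R) ∈ Module.support R M ∧ LocCoh.HasSk 1 R M) := by
  have hA : Module.IsTorsionFree R M ↔ associatedPrimes R M = {⊥} := by
    constructor
    · intro hTF
      obtain ⟨P0, hP0⟩ := associatedPrimes.nonempty R M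
      have hall : ∀ P ∈ associatedPrimes R M, P = ⊥ := by
        intro P hP
        obtain ⟨hpp, m, hm⟩ := (isAssociatedPrime_iff).mp hP
        have hm0 : m ≠ 0 := by
          rintro rfl
          apply hpp.ne_top
          rw [hm]
          ext a
          simp [Submodule.mem_colon_singleton]
        rw [eq_bot_iff]
        intro r hr
        rw [hm, Submodule.mem_colon_singleton, Submodule.mem_bot] at hr
        rw [Ideal.mem_bot]
        exact (smul_eq_zero.mp hr).resolve_right hm0
      ext P
      constructor
      · intro hP; exact hall P hP
      · intro hP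
        rw [Set.mem_singleton_iff] at hP
        rw [hP, ← hall P0 hP0]; exact hP0
    · intro hAss
      refine ⟨fun r hr => ?_⟩
      rw [isSMulRegular_iff_right_eq_zero_of_smul]
      intro m hm
      by_contra hm0
      obtain ⟨P, hP, hle⟩ := exists_le_isAssociatedPrime_of_isNoetherianRing R m hm0
      have hPbot : P = ⊥ := by
        have : P ∈ associatedPrimes R M := hP
        rw [hAss] at this; exact this
      have : r ∈ P := hle (by rw [Submodule.mem_colon_singleton, Submodule.mem_bot]; exact hm)
      rw [hPbot, Ideal.mem_bot] at this
      exact hr.ne_zero this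
  refine ⟨hA, hA.trans ?_⟩
  rw [← Groth.Agent.Lib.Helper49.Serre.hasSk_one_iff]
  constructor
  · intro hAss
    have hbot : (⊥ : Ideal R) ∈ associatedPrimes R M := by rw [hAss]; rfl
    have hsupp := Groth.Agent.Lib.Helper49.Serre.mem_support_of_mem_associatedPrimes M ⊥ hbot
    refine ⟨hsupp, fun p hp => ?_⟩
    rw [hAss] at hp
    rw [Set.mem_singleton_iff.mp hp]
    rw [Module.mem_support_iff_of_finite] at hsupp
    exact ⟨⟨Ideal.isPrime_bot, hsupp⟩, fun q _ _ => bot_le⟩
  · rintro ⟨hsupp, hmin⟩
    rw [Module.mem_support_iff_of_finite] at hsupp
    have hann : Module.annihilator R M = ⊥ := le_bot_iff.mp hsupp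
    rw [hann] at hmin
    have hminR : (⊥ : Ideal R).minimalPrimes = {⊥} := IsDomain.minimalPrimes_eq_singleton_bot R
    rw [hminR] at hmin
    obtain ⟨P0, hP0⟩ := associatedPrimes.nonempty R M
    ext P
    constructor
    · intro hP; exact hmin P hP
    · intro hP
      rw [Set.mem_singleton_iff] at hP
      have := hmin P0 hP0
      rw [Set.mem_singleton_iff] at this
      rw [hP, ← this]; exact hP0

end Groth.Agent.S6868
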