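import Groth.Statements.S6870
import Groth.Agent.Lib.Helper35.Isogeny
-- import your own Groth.Agent.* helpers here

set_option autoImplicit false
universe u
open CAlg

namespace Groth.Agent.S6870

/-- Let `R` be a domain, `M` a finite `R`-module and `j : M → M**` the evaluation map into the double
dual. Then one nonzero `c ∈ R` kills the kernel of `j` and multiplies `M**` into the image of `j`.
(The published statement says only that the kernel and cokernel of `j` are torsion; this row gives
one such `c` for both.) -/
theorem result (R : Type u) [CommRing R] [IsDomain R] (M : Type u)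
    [AddCommGroup M] [Module R M] [Module.Finite R M] :
    ∃ c : R, c ≠ 0 ∧ (∀ x : M, Module.Dual.eval R M x = 0 → c • x = 0) ∧
      ∀ y : Module.Dual R (Module.Dual R M), c • y ∈ LinearMap.range (Module.Dual.eval R M) := by
  classical
  obtain ⟨n, f, σ, c, hc0, hfσ, hσf⟩ := Groth.Agent.Lib.Helper35.exists_isogeny_to_free R M
  refine ⟨c, hc0, ?_, ?_⟩
  · intro x hx
    have hfx : f x = 0 := by
      funext i
      have := LinearMap.congr_fun hx (LinearMap.proj i ∘ₗ f)
      simpa using this
    rw [← hσf, hfx, map_zero]
  · intro y
    let l : Fin n → R := fun i => y (LinearMap.proj i ∘ₗ f)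
    refine ⟨σ l, ?_⟩
    apply LinearMap.ext
    intro φ
    -- φ (σ l) = c * y φ
    have hl : l = ∑ i, l i • (Pi.single i (1 : R) : Fin n → R) := by
      funext k
      simp [Finset.sum_apply, Pi.single_apply]
    have h1 : φ (σ l) = ∑ i, l i * φ (σ (Pi.single i 1)) := by
      conv_lhs => rw [hl]
      simp [map_sum]
    have h2 : (∑ i, φ (σ (Pi.single i 1)) • (LinearMap.proj i ∘ₗ f) : Module.Dual R M) = c • φ := by
      apply LinearMap.ext
      intro m
      have h3 : f m = ∑ i, f m i • (Pi.single i (1 : R) : Fin n → R) := by
        funext k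
        simp [Finset.sum_apply, Pi.single_apply]
      have h4 : φ (σ (f m)) = ∑ i, f m i * φ (σ (Pi.single i 1)) := by
        conv_lhs => rw [h3]
        simp [map_sum]
      rw [hσf, map_smul] at h4
      simp only [LinearMap.sum_apply, LinearMap.smul_apply, LinearMap.comp_apply, LinearMap.proj_apply,
        smul_eq_mul]
      rw [smul_eq_mul] at h4
      rw [h4]
      exact Finset.sum_congr rfl (fun i _ => mul_comm _ _)
    have h5 : y (c • φ) = ∑ i, φ (σ (Pi.single i 1)) * l i := by
      rw [← h2, map_sum]
      exact Finset.sum_congr rfl (fun i _ => by rw [map_smul, smul_eq_mul])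
    rw [Module.Dual.eval_apply, LinearMap.smul_apply, h1, smul_eq_mul]
    rw [map_smul, smul_eq_mul] at h5
    rw [h5]
    exact Finset.sum_congr rfl (fun i _ => mul_comm _ _)

end Groth.Agent.S6870
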