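import Groth.Statements.S6877
import Groth.Agent.Lib.Helper29.CM
import Groth.Agent.S6876

set_option autoImplicit false
universe u
open CAlg

namespace Groth.Agent.S6877


open Groth.Agent.Lib.Helper29 in
theorem hasSk_linearMap (k : ℕ) (hk : k ≤ 2) (R : Type u) [CommRing R] [IsNoetherianRing R]
    (M N : Type u) [AddCommGroup M] [Module R M] [Module.Finite R M] [AddCommGroup N] [Module R N]
    [Module.Finite R N] (hN : LocCoh.HasSk k R N) : LocCoh.HasSk k R (M →ₗ[R] N) := by
  intro p hp
  have : Module.FinitePresentation R M := Module.finitePresentation_of_finite R M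
  let e : LocalizedModule p.primeCompl (M →ₗ[R] N) ≃ₗ[Localization.AtPrime p]
      (LocalizedModule p.primeCompl M →ₗ[Localization.AtPrime p] LocalizedModule p.primeCompl N) :=
    (Module.FinitePresentation.linearEquivMapExtendScalars p.primeCompl).extendScalarsOfIsLocalization
      p.primeCompl (Localization.AtPrime p)
  rw [Module.supportDim_eq_of_equiv e, CMLib.depth_congr e]
  have h6876 := Groth.Agent.S6876.result (Localization.AtPrime p) (LocalizedModule p.primeCompl M)
    (LocalizedModule p.primeCompl N)
  have hNp := hN p
  -- `dim Hom ≤ dim N_p`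
  have hdim : Module.supportDim (Localization.AtPrime p)
      (LocalizedModule p.primeCompl M →ₗ[Localization.AtPrime p] LocalizedModule p.primeCompl N) ≤
      Module.supportDim (Localization.AtPrime p) (LocalizedModule p.primeCompl N) := by
    rw [Module.supportDim_eq_ringKrullDim_quotient_annihilator,
      Module.supportDim_eq_ringKrullDim_quotient_annihilator]
    have hle : Module.annihilator (Localization.AtPrime p) (LocalizedModule p.primeCompl N) ≤
        Module.annihilator (Localization.AtPrime p)
          (LocalizedModule p.primeCompl M →ₗ[Localization.AtPrime p]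
            LocalizedModule p.primeCompl N) := by
      intro a ha
      rw [Module.mem_annihilator] at ha ⊢
      intro f
      ext m
      rw [LinearMap.smul_apply, ha, LinearMap.zero_apply]
    exact ringKrullDim_le_of_surjective (Ideal.Quotient.factor hle)
      (Ideal.Quotient.factor_surjective hle)
  rcases subsingleton_or_nontrivial (LocalizedModule p.primeCompl M →ₗ[Localization.AtPrime p]
      LocalizedModule p.primeCompl N) with hsub | hnt
  · rw [Module.supportDim_eq_bot_of_subsingleton]
    simp
  · set d := Module.supportDim (Localization.AtPrime p)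
      (LocalizedModule p.primeCompl M →ₗ[Localization.AtPrime p] LocalizedModule p.primeCompl N)
      with hd
    set δN := LocCoh.depth (Localization.AtPrime p) (LocalizedModule p.primeCompl N) with hδN
    set δH := LocCoh.depth (Localization.AtPrime p)
      (LocalizedModule p.primeCompl M →ₗ[Localization.AtPrime p] LocalizedModule p.primeCompl N)
      with hδH
    have hdne : d ≠ ⊥ := Module.supportDim_ne_bot_of_nontrivial _ _
    have hj : min (k : WithBot ℕ∞) d ≤ ((δN : ℕ∞) : WithBot ℕ∞) :=
      le_trans (min_le_min le_rfl hdim) hNp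
    -- write `min k d` as a natural number `j ≤ 2`
    obtain ⟨j, hjk, hjeq⟩ : ∃ j : ℕ, j ≤ k ∧ min (k : WithBot ℕ∞) d = ((j : ℕ∞) : WithBot ℕ∞) := by
      rcases le_total (k : WithBot ℕ∞) d with h | h
      · exact ⟨k, le_rfl, by rw [min_eq_left h]; rfl⟩
      · obtain ⟨d', hd'⟩ := WithBot.ne_bot_iff_exists.1 hdne
        rw [← hd'] at h
        have h' : d' ≤ (k : ℕ∞) := by exact_mod_cast h
        obtain ⟨j, hj⟩ := ENat.ne_top_iff_exists.1 (ne_top_of_le_ne_top (ENat.natCast_ne_top k) h')
        refine ⟨j, ?_, ?_⟩
        · rw [← hj] at h'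
          exact_mod_cast h'
        · rw [min_eq_right (by rw [← hd']; exact_mod_cast h'), ← hd', ← hj]
    rw [hjeq] at hj ⊢
    have hj' : (j : ℕ∞) ≤ δN := by exact_mod_cast hj
    have : (j : ℕ∞) ≤ δH := by
      have hj2 : j ≤ 2 := hjk.trans hk
      interval_cases j
      · exact bot_le
      · exact h6876.1 (by exact_mod_cast hj')
      · exact h6876.2 (by exact_mod_cast hj')
    exact_mod_cast this

/-- Let `R` be a Noetherian ring and `M, N` finite `R`-modules. If `N` has `(S_1)`, resp. `(S_2)`, then
so does `Hom_R(M, N)`. (The published statement has a third part, over a domain: `N` torsion free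
with `(S_2)` implies the same for `Hom_R(M, N)`; this row states parts one and two.) -/
theorem result (R : Type u) [CommRing R] [IsNoetherianRing R]
    (M N : Type u) [AddCommGroup M] [Module R M] [Module.Finite R M] [AddCommGroup N] [Module R N] [Module.Finite R N] :
    (LocCoh.HasSk 1 R N → LocCoh.HasSk 1 R (M →ₗ[R] N)) ∧
    (LocCoh.HasSk 2 R N → LocCoh.HasSk 2 R (M →ₗ[R] N)) := by
  exact ⟨hasSk_linearMap 1 (by norm_num) R M N, hasSk_linearMap 2 le_rfl R M N⟩

end Groth.Agent.S6877
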