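import Groth.Statements.S6878
-- import your own Groth.Agent.* helpers here

set_option autoImplicit false
universe u
open CAlg

namespace Groth.Agent.S6878

/-- Let `R` be a Noetherian ring and `φ : M → N` a map of `R`-modules. Suppose that for every prime `𝔭`
of `R` either `M_𝔭 → N_𝔭` is injective or `𝔭` is not an associated prime of `M`. Then `φ` is
injective. -/
theorem result (R : Type u) [CommRing R]
    [IsNoetherianRing R] {M N : Type u} [AddCommGroup M] [Module R M] [AddCommGroup N] [Module R N] (φ : M →ₗ[R] N)
    (h : ∀ (p : Ideal R) [p.IsPrime],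
      Function.Injective (LocalizedModule.map p.primeCompl φ) ∨ p ∉ associatedPrimes R M) :
    Function.Injective φ := by
  classical
  rw [← LinearMap.ker_eq_bot, eq_bot_iff]
  intro x hx
  by_contra hx0
  rw [Submodule.mem_bot] at hx0
  -- work in the module K = ker φ
  let K := LinearMap.ker φ
  have hx' : (⟨x, hx⟩ : K) ≠ 0 := by
    intro h0
    exact hx0 (congrArg Subtype.val h0)
  obtain ⟨P, hP, -⟩ := exists_le_isAssociatedPrime_of_isNoetherianRing R (⟨x, hx⟩ : K) hx'
  have hPM : IsAssociatedPrime P M := hP.map_of_injective K.subtype K.subtype_injective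
  obtain ⟨hPprime, y, hy⟩ := (isAssociatedPrime_iff).1 hP
  have := hPprime
  rcases h P with hinj | hnot
  · -- y/1 = 0 in M_P
    have h1 : LocalizedModule.map P.primeCompl φ (LocalizedModule.mk (y : M) 1) =
        LocalizedModule.map P.primeCompl φ (LocalizedModule.mk 0 1) := by
      rw [LocalizedModule.map_mk, LocalizedModule.map_mk]
      have : φ (y : M) = 0 := y.2
      rw [this, map_zero]
    have h2 := hinj h1
    rw [LocalizedModule.mk_eq] at h2
    obtain ⟨u, hu⟩ := h2
    simp only [one_smul, smul_zero] at hu
    have hmem : (u : R) ∈ P := by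
      have h3 : (u : R) ∈ (⊥ : Submodule R K).colon {y} := by
        rw [Submodule.mem_colon_singleton, Submodule.mem_bot]
        apply Subtype.ext
        have hu' : (u : R) • (y : M) = 0 := hu
        simpa using hu'
      exact hy ▸ h3
    exact u.2 hmem
  · exact hnot hPM

end Groth.Agent.S6878
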