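import Groth.Statements.S6882
import Mathlib.Algebra.Module.Torsion.Basic
import Mathlib.LinearAlgebra.FreeModule.PID
import Mathlib.Algebra.Module.PID
-- import your own Groth.Agent.* helpers here

set_option autoImplicit false
universe u
open CAlg

namespace Groth.Agent.S6882

/-- For a finite module `M` over a discrete valuation ring `R`, the evaluation map from `M` to its
double dual `M**` is surjective. -/
theorem result (R : Type u) [CommRing R] [IsDomain R]
    [IsDiscreteValuationRing R] (M : Type u) [AddCommGroup M] [Module R M] [Module.Finite R M] :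
    Function.Surjective (Module.Dual.eval R M) := by
  classical
  -- the torsion-free quotient `F = M / torsion` is finite and torsion-free over a PID, hence free, hence reflexive
  let T := Submodule.torsion R M
  let π : M →ₗ[R] (M ⧸ T) := T.mkQ
  have hπ : Function.Surjective π := T.mkQ_surjective
  have : Module.Finite R (M ⧸ T) := Module.Finite.of_surjective π hπ
  have : Module.IsTorsionFree R (M ⧸ T) := Submodule.QuotientTorsion.instIsTorsionFree
  have : Module.Free R (M ⧸ T) := Module.free_of_finite_type_torsion_free'
  have : Module.IsReflexive R (M ⧸ T) := inferInstance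
  -- every functional on `M` kills the torsion
  have hkill : ∀ (φ : Module.Dual R M), T ≤ LinearMap.ker φ := by
    intro φ t ht
    obtain ⟨a, ha⟩ := ht
    rw [LinearMap.mem_ker]
    have h1 : (a : R) • φ t = 0 := by
      have h2 : (a : R) • t = 0 := ha
      rw [← map_smul, h2, map_zero]
    have ha0 : (a : R) ≠ 0 := nonZeroDivisors.coe_ne_zero a
    rcases smul_eq_zero.1 h1 with h | h
    · exact absurd h ha0
    · exact h
  intro ξ
  -- transport `ξ` to the double dual of the quotient
  let ξ' : Module.Dual R (Module.Dual R (M ⧸ T)) := ξ.comp (Module.Dual.transpose (R := R) π)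
  obtain ⟨f, hf⟩ := (Module.bijective_dual_eval R (M ⧸ T)).2 ξ'
  obtain ⟨m, hm⟩ := hπ f
  refine ⟨m, ?_⟩
  ext φ
  -- factor φ through the quotient
  let ψ : Module.Dual R (M ⧸ T) := T.liftQ φ (hkill φ)
  have hψ : ψ.comp π = φ := T.liftQ_mkQ φ (hkill φ)
  have h1 : ξ' ψ = ξ φ := by
    change ξ (Module.Dual.transpose (R := R) π ψ) = ξ φ
    congr 1
  have h2 : ξ' ψ = ψ f := by
    rw [← hf]; rfl
  rw [Module.Dual.eval_apply, ← h1, h2, ← hm, ← hψ]
  rfl

end Groth.Agent.S6882
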