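import Groth.Statements.S6885
import Groth.Agent.S6883
import Groth.Agent.Lib.Helper26.MLFin1
import Groth.Agent.Lib.Helper26.MLFin2

set_option autoImplicit false
universe u
open TensorProduct
open CAlg

namespace Groth.Agent.S6885

/-- For an injective ring map `R → S` between Noetherian rings making `S` a finite `R`-module, an
`R`-module `P` whose base change `S ⊗_R P` is projective over `S` is projective over `R`. -/
theorem result (R S : Type u) [CommRing R]
    [IsNoetherianRing R] [CommRing S] [IsNoetherianRing S] [Algebra R S] [Module.Finite R S]
    (hinj : Function.Injective (algebraMap R S)) (P : Type u) [AddCommGroup P] [Module R P]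
    [Module.Projective S (S ⊗[R] P)] : Module.Projective R P := by
  apply Groth.Agent.Lib.Helper26.MLFin.projective_of_descent R S P
  intro N hN
  haveI := hN
  haveI : Module.Flat S (S ⊗[R] (P ⧸ N)) := inferInstance
  haveI : Module.Flat R (P ⧸ N) := Groth.Agent.S6883.result R S hinj (P ⧸ N)
  exact ⟨inferInstance,
    Groth.Agent.Lib.Helper26.MLFin.isMittagLeffler_of_finite_injective R S hinj (P ⧸ N)
      (Groth.Agent.Lib.Helper54.isMittagLeffler_of_projective (S ⊗[R] (P ⧸ N)))⟩

end Groth.Agent.S6885
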