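import Groth.Statements.S6886
import Groth.Agent.Lib.Helper26.SplitFamily

set_option autoImplicit false
universe u
open TensorProduct
open CAlg

namespace Groth.Agent.S6886

/-- Let `R → S` be a finite ring map. One can find an extension `R ⊆ R'` of rings, with `R'` finite and
free as an `R`-module, for which the ring `S ⊗_R R'` arises as a quotient of `R'[T_1, …,
T_n]/(P_1(T_1), …, P_n(T_n))` with each `P_i(T) = ∏_j (T - α_{ij})` a product of linear factors over
`R'`. -/
theorem result (R S : Type u) [CommRing R] [CommRing S] [Algebra R S]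
    [Module.Finite R S] :
    ∃ (R' : Type u) (_ : CommRing R') (_ : Algebra R R'), Module.Finite R R' ∧ Module.Free R R' ∧
      Function.Injective (algebraMap R R') ∧
      ∃ (n : ℕ) (d : Fin n → ℕ) (α : (i : Fin n) → Fin (d i) → R')
        (φ : MvPolynomial (Fin n) R' →ₐ[R'] R' ⊗[R] S), Function.Surjective φ ∧
          ∀ i, φ (∏ j, (MvPolynomial.X i - MvPolynomial.C (α i j))) = 0 := by
  classical
  obtain ⟨n, s, hs⟩ := Module.Finite.exists_fin (R := R) (M := S)
  have hint : ∀ i, ∃ P : Polynomial R, P.Monic ∧ Polynomial.aeval (s i) P = 0 := fun i => by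
    obtain ⟨P, hP, h0⟩ := Algebra.IsIntegral.isIntegral (R := R) (s i)
    exact ⟨P, hP, by rwa [Polynomial.aeval_def]⟩
  choose P hPm hP0 using hint
  obtain ⟨R', _, _, hfin, hfree, hinj, hsplit⟩ :=
    Groth.Agent.Lib.Helper26.SplitAlg.exists_split_family n R P hPm
  choose d α hα using hsplit
  refine ⟨R', inferInstance, inferInstance, hfin, hfree, hinj, n, d, α,
    MvPolynomial.aeval (fun i => (1 : R') ⊗ₜ[R] s i), ?_, ?_⟩
  · -- surjectivity
    intro z
    have hmem : ∀ t : S, (1 : R') ⊗ₜ[R] t ∈
        (MvPolynomial.aeval (fun i => (1 : R') ⊗ₜ[R] s i) :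
          MvPolynomial (Fin n) R' →ₐ[R'] R' ⊗[R] S).range := by
      intro t
      have ht : t ∈ Submodule.span R (Set.range s) := by rw [hs]; trivial
      induction ht using Submodule.span_induction with
      | mem t ht =>
        obtain ⟨i, rfl⟩ := ht
        exact ⟨MvPolynomial.X i, by simp⟩
      | zero => rw [TensorProduct.tmul_zero]; exact Subalgebra.zero_mem _
      | add t u _ _ ht hu => rw [TensorProduct.tmul_add]; exact Subalgebra.add_mem _ ht hu
      | smul c t _ ht =>
        rw [TensorProduct.tmul_smul, ← algebraMap_smul R' c ((1 : R') ⊗ₜ[R] t)]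
        exact Subalgebra.smul_mem _ ht _
    have hz : z ∈ (MvPolynomial.aeval (fun i => (1 : R') ⊗ₜ[R] s i) :
          MvPolynomial (Fin n) R' →ₐ[R'] R' ⊗[R] S).range := by
      induction z using TensorProduct.induction_on with
      | zero => exact Subalgebra.zero_mem _
      | tmul r t =>
        have : r ⊗ₜ[R] t = r • ((1 : R') ⊗ₜ[R] t) := by
          rw [TensorProduct.smul_tmul', smul_eq_mul, mul_one]
        rw [this]
        exact Subalgebra.smul_mem _ (hmem t) _
      | add z w hz hw => exact Subalgebra.add_mem _ hz hw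
    exact hz
  · intro i
    have h1 : (∏ j, (MvPolynomial.X i - MvPolynomial.C (α i j)) : MvPolynomial (Fin n) R') =
        Polynomial.aeval (MvPolynomial.X i : MvPolynomial (Fin n) R') ((P i).map (algebraMap R R')) := by
      rw [hα, map_prod]
      apply Finset.prod_congr rfl
      intro j _
      simp [MvPolynomial.algebraMap_eq]
    rw [h1, ← Polynomial.aeval_algHom_apply, MvPolynomial.aeval_X, Polynomial.aeval_map_algebraMap]
    have h2 : (1 : R') ⊗ₜ[R] s i = (Algebra.TensorProduct.includeRight : S →ₐ[R] R' ⊗[R] S) (s i) := rfl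
    rw [h2, Polynomial.aeval_algHom_apply, hP0, map_zero]

end Groth.Agent.S6886
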