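import Groth.Statements.S6887
import Mathlib.LinearAlgebra.Matrix.Charpoly.LinearMap
import Mathlib.LinearAlgebra.Matrix.Charpoly.Coeff
import Mathlib.RingTheory.Nakayama
-- import your own Groth.Agent.* helpers here

set_option autoImplicit false
universe u
open Polynomial
open CAlg

namespace Groth.Agent.S6887

/-- Cayley–Hamilton for a matrix representing an endomorphism with respect to a spanning family. -/
lemma aeval_charpoly_of_represents {ι : Type*} [Fintype ι] [DecidableEq ι] {R M : Type*}
    [CommRing R] [AddCommGroup M] [Module R M] (c : ι → M)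
    (hc : Submodule.span R (Set.range c) = ⊤) (T : Matrix ι ι R) (f : Module.End R M)
    (h : T.Represents c f) : Polynomial.aeval f T.charpoly = 0 := by
  have hT : T ∈ Matrix.isRepresentation R c := ⟨f, h⟩
  have e := Matrix.isRepresentation.eq_toEnd_of_represents R c hc ⟨T, hT⟩ h
  rw [← e, Polynomial.aeval_algHom_apply, ← map_zero (Matrix.isRepresentation.toEnd R c hc)]
  congr 1
  ext1
  rw [Polynomial.aeval_subalgebra_coe, Matrix.aeval_self_charpoly, Subalgebra.coe_zero]

/-- Let `(A, I)` be a Zariski pair (`I` inside the Jacobson radical) and `A → B` a finite ring map.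
Suppose `B/IB ≅ B₁ × B₂` as `A`-algebras with `A → B₁` surjective, and `b ∈ B` maps to `(1, 0)`.
Then there is a monic `f ∈ A[x]` with `f(b) = 0` whose reduction modulo `I` is `(x - 1) x^d` for
some `d ≥ 1`. -/
theorem result (A B : Type u) [CommRing A] [CommRing B]
    [Algebra A B] [Module.Finite A B] (I : Ideal A) (hI : I ≤ Ideal.jacobson (⊥ : Ideal A))
    (B₁ B₂ : Type u) [CommRing B₁] [CommRing B₂] [Algebra A B₁] [Algebra A B₂]
    (e : (B ⧸ I.map (algebraMap A B)) ≃ₐ[A] B₁ × B₂) (h₁ : Function.Surjective (algebraMap A B₁)) (b : B)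
    (hb : e (Ideal.Quotient.mk (I.map (algebraMap A B)) b) = (1, 0)) :
    ∃ (f : A[X]) (d : ℕ), f.Monic ∧ Polynomial.aeval b f = 0 ∧ 1 ≤ d ∧
      f.map (Ideal.Quotient.mk I) = (X - 1) * X ^ d := by
  classical
  let IB : Ideal B := I.map (algebraMap A B)
  let q : B →+* B ⧸ IB := Ideal.Quotient.mk IB
  have heq : e (q b) = (1, 0) := hb
  -- b (1 - b) ∈ IB
  have hbb : b * (1 - b) ∈ IB := by
    apply Ideal.Quotient.eq_zero_iff_mem.1
    apply e.injective
    change e (q (b * (1 - b))) = e 0
    rw [map_mul q, map_sub q, map_one q, map_mul e, map_sub e, map_one e, heq, map_zero e]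
    ext <;> simp
  -- b z ∈ A b + IB
  have hbz : ∀ z : B, ∃ α : A, b * z - α • b ∈ IB := by
    intro z
    obtain ⟨α, hα⟩ := h₁ (e (q z)).1
    refine ⟨α, ?_⟩
    apply Ideal.Quotient.eq_zero_iff_mem.1
    apply e.injective
    change e (q (b * z - α • b)) = e 0
    have h2 : q (α • b) = algebraMap A (B ⧸ IB) α * q b := by
      rw [Algebra.smul_def, map_mul q]; rfl
    have h3 : e (q (α • b)) = (algebraMap A B₁ α, 0) := by
      rw [h2, map_mul e, AlgEquiv.commutes, heq]
      ext <;> simp
    have h4 : e (q (b * z)) = ((e (q z)).1, 0) := by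
      rw [map_mul q, map_mul e, heq]
      ext <;> simp
    rw [map_sub q, map_sub e, h3, h4, hα, sub_self, map_zero e]
  -- generators
  obtain ⟨m0, g0, hg0⟩ := Module.Finite.exists_fin (R := A) (M := B)
  let g : Fin (m0 + 1) → B := Fin.cons 0 g0
  have hg : Submodule.span A (Set.range g) = ⊤ := by
    rw [eq_top_iff, ← hg0]
    apply Submodule.span_mono
    rintro _ ⟨i, rfl⟩
    exact ⟨i.succ, by simp [g]⟩
  let m := m0 + 1
  let c : Fin (m + 1) → B := Fin.cons b (fun i => (1 - b) * g i)
  have hItop : I • (⊤ : Submodule A B) = IB.restrictScalars A := Ideal.smul_top_eq_map I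
  have hc : Submodule.span A (Set.range c) = ⊤ := by
    rw [eq_top_iff]
    apply Submodule.le_of_le_smul_of_le_jacobson_bot Module.Finite.fg_top hI
    have key : ∀ i, g i ∈ Submodule.span A (Set.range c) ⊔ I • (⊤ : Submodule A B) := by
      intro i
      have hc0 : b ∈ Submodule.span A (Set.range c) := Submodule.subset_span ⟨0, by simp [c]⟩
      have hci : (1 - b) * g i ∈ Submodule.span A (Set.range c) :=
        Submodule.subset_span ⟨i.succ, by simp [c]⟩
      obtain ⟨α, hα⟩ := hbz (g i)
      have hα' : b * g i - α • b ∈ I • (⊤ : Submodule A B) := by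
        rw [hItop]; exact hα
      have : g i = ((1 - b) * g i + α • b) + (b * g i - α • b) := by ring
      rw [this]
      exact Submodule.add_mem _
        (Submodule.mem_sup_left (Submodule.add_mem _ hci (Submodule.smul_mem _ α hc0)))
        (Submodule.mem_sup_right hα')
    intro x _
    have hx : x ∈ Submodule.span A (Set.range g) := by rw [hg]; exact Submodule.mem_top
    exact (Submodule.span_le.2 (by rintro _ ⟨i, rfl⟩; exact key i)) hx
  -- the diagonal part
  let d : Fin (m + 1) → A := Fin.cons 1 (fun _ => 0)
  -- coefficients in I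
  have hcoef : ∀ j, ∃ t : Fin (m + 1) → A, (∀ i, t i ∈ I) ∧ ∑ i, t i • c i = b * c j - d j • c j := by
    intro j
    have hmem : b * c j - d j • c j ∈ I • Submodule.span A (Set.range c) := by
      rw [hc, hItop]
      change b * c j - d j • c j ∈ IB
      refine Fin.cases ?_ (fun i => ?_) j
      · have : b * c 0 - d 0 • c 0 = - (b * (1 - b)) := by
          simp only [c, d, Fin.cons_zero, one_smul]; ring
        rw [this]; exact IB.neg_mem hbb
      · have : b * c i.succ - d i.succ • c i.succ = (b * (1 - b)) * g i := by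
          simp only [c, d, Fin.cons_succ, zero_smul]; ring
        rw [this]; exact IB.mul_mem_right _ hbb
    obtain ⟨a, ha, hsum⟩ := (Submodule.mem_ideal_smul_span_iff_exists_sum I c _).1 hmem
    refine ⟨fun i => a i, ha, ?_⟩
    rw [← hsum, Finsupp.sum_fintype]
    intro i; exact zero_smul _ _
  choose t htI htsum using hcoef
  let T : Matrix (Fin (m + 1)) (Fin (m + 1)) A := Matrix.diagonal d + Matrix.of (fun i j => t j i)
  have hrep : T.Represents c (LinearMap.mulLeft A b) := by
    rw [Matrix.represents_iff']
    intro j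
    simp only [T, Matrix.add_apply, Matrix.of_apply, add_smul, Finset.sum_add_distrib, htsum j,
      LinearMap.mulLeft_apply]
    have : ∑ i, Matrix.diagonal d i j • c i = d j • c j := by
      rw [Finset.sum_eq_single j]
      · simp
      · intro i _ hij
        rw [Matrix.diagonal_apply_ne _ hij, zero_smul]
      · intro h; exact absurd (Finset.mem_univ j) h
    rw [this]; abel
  have hCH := aeval_charpoly_of_represents c hc T (LinearMap.mulLeft A b) hrep
  refine ⟨T.charpoly, m, T.charpoly_monic, ?_, Nat.le_add_left 1 m0, ?_⟩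
  · -- aeval b = 0
    have h1 : Polynomial.aeval (Algebra.lmul A B b) T.charpoly =
        Algebra.lmul A B (Polynomial.aeval b T.charpoly) :=
      Polynomial.aeval_algHom_apply (Algebra.lmul A B) b T.charpoly
    have h2 : Algebra.lmul A B b = LinearMap.mulLeft A b := rfl
    rw [h2, hCH] at h1
    have h3 := LinearMap.congr_fun h1 1
    simpa using h3.symm
  · -- reduction mod I
    rw [← Matrix.charpoly_map]
    let d' : Fin (m + 1) → A ⧸ I := Fin.cons 1 (fun _ => 0)
    have hT : T.map (Ideal.Quotient.mk I) = Matrix.diagonal d' := by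
      ext i j
      simp only [T, Matrix.map_apply, Matrix.add_apply, Matrix.of_apply, map_add]
      rw [Ideal.Quotient.eq_zero_iff_mem.2 (htI j i), add_zero]
      by_cases hij : i = j
      · subst hij
        rw [Matrix.diagonal_apply_eq, Matrix.diagonal_apply_eq]
        refine Fin.cases ?_ (fun k => ?_) i
        · simp [d, d']
        · simp [d, d']
      · rw [Matrix.diagonal_apply_ne _ hij, Matrix.diagonal_apply_ne _ hij, map_zero]
    rw [hT, Matrix.charpoly_diagonal, Fin.prod_univ_succ]
    simp [d']

end Groth.Agent.S6887
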