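import Groth.Statements.S6888
-- import your own Groth.Agent.* helpers here

set_option autoImplicit false
universe u
open Polynomial
open CAlg

namespace Groth.Agent.S6888

/-- An idempotent in an ideal contained in the Jacobson radical is zero. -/
lemma idem_eq_zero_of_mem {A : Type u} [CommRing A] {I : Ideal A}
    (hI : I ≤ Ideal.jacobson (⊥ : Ideal A)) {x : A} (hx : IsIdempotentElem x) (hxI : x ∈ I) :
    x = 0 := by
  have hu : IsUnit (x * (-1) + 1) := Ideal.mem_jacobson_bot.1 (hI hxI) (-1)
  have h0 : x * (x * (-1) + 1) = 0 := by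
    have := hx.eq
    calc x * (x * (-1) + 1) = x - x * x := by ring
      _ = 0 := by rw [this, sub_self]
  exact (hu.mul_left_eq_zero).1 h0

/-- Let `A` be absolutely integrally closed (every monic polynomial over `A` is a product of linear
factors) and `I ⊆ A` an ideal contained in the Jacobson radical such that `A → A/I` is surjective
(hence bijective) on idempotents. Then `(A, I)` is a henselian pair. (The published statement also
records the converse, which holds for every henselian pair; this row states the sufficiency only.) -/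
theorem result (A : Type u) [CommRing A]
    (hA : ∀ f : A[X], f.Monic → ∃ s : Multiset A, f = (s.map fun a => X - C a).prod) (I : Ideal A)
    (hI : I ≤ Ideal.jacobson (⊥ : Ideal A))
    (hidem : ∀ e : A ⧸ I, IsIdempotentElem e → ∃ e' : A, IsIdempotentElem e' ∧ Ideal.Quotient.mk I e' = e) :
    HenselianRing A I := by
  classical
  refine ⟨hI, ?_⟩
  intro f hf a₀ h₀ hunit
  obtain ⟨s, hs⟩ := hA f hf
  obtain ⟨l, rfl⟩ : ∃ l : List A, s = ↑l := ⟨s.toList, (Multiset.coe_toList s).symm⟩
  let n := l.length
  let a : Fin n → A := l.get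
  have hfprod : f = ∏ i : Fin n, (X - C (a i)) := by
    rw [hs, Multiset.map_coe, Multiset.prod_coe]
    conv_lhs => rw [← List.ofFn_get l]
    rw [List.map_ofFn, List.prod_ofFn]
    rfl
  let q := Ideal.Quotient.mk I
  let u : Fin n → A ⧸ I := fun i => q (a₀ - a i)
  let v : Fin n → A ⧸ I := fun i => ∏ j ∈ Finset.univ.erase i, u j
  have hprodu : ∏ i, u i = 0 := by
    have : q (f.eval a₀) = 0 := Ideal.Quotient.eq_zero_iff_mem.2 h₀
    rw [hfprod, Polynomial.eval_prod, map_prod] at this
    simpa [u] using this
  have huv : ∀ i, u i * v i = 0 := by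
    intro i
    rw [Finset.mul_prod_erase _ _ (Finset.mem_univ i)]
    exact hprodu
  have hvv : ∀ i j, i ≠ j → v i * v j = 0 := by
    intro i j hij
    have hj : j ∈ Finset.univ.erase i := Finset.mem_erase.2 ⟨hij.symm, Finset.mem_univ j⟩
    have : v i = u j * ∏ k ∈ (Finset.univ.erase i).erase j, u k :=
      (Finset.mul_prod_erase _ _ hj).symm
    rw [this, mul_right_comm, huv j, zero_mul]
  have hδ : IsUnit (∑ i, v i) := by
    have h1 : q (f.derivative.eval a₀) = ∑ i, v i := by
      rw [hfprod, Polynomial.derivative_prod_finset, Polynomial.eval_finsetSum, map_sum]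
      apply Finset.sum_congr rfl
      intro i _
      simp only [Polynomial.derivative_sub, Polynomial.derivative_X, Polynomial.derivative_C,
        sub_zero, mul_one, Polynomial.eval_prod, Polynomial.eval_sub, Polynomial.eval_X,
        Polynomial.eval_C, map_prod]
      rfl
    rw [← h1]; exact hunit
  obtain ⟨δ, hδeq⟩ := hδ
  let ebar : Fin n → A ⧸ I := fun i => v i * (↑δ⁻¹ : A ⧸ I)
  have hsum_ebar : ∑ i, ebar i = 1 := by
    simp only [ebar]
    rw [← Finset.sum_mul, ← hδeq, Units.mul_inv]
  have horth_ebar : ∀ i j, i ≠ j → ebar i * ebar j = 0 := by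
    intro i j hij
    simp only [ebar]
    calc v i * ↑δ⁻¹ * (v j * ↑δ⁻¹) = (v i * v j) * (↑δ⁻¹ * ↑δ⁻¹) := by ring
      _ = 0 := by rw [hvv i j hij, zero_mul]
  have hidem_ebar : ∀ i, IsIdempotentElem (ebar i) := by
    intro i
    have h1 : ebar i * ∑ j, ebar j = ebar i * ebar i := by
      rw [Finset.mul_sum]
      apply Finset.sum_eq_single i
      · intro j _ hji
        exact horth_ebar i j hji.symm
      · intro h; exact absurd (Finset.mem_univ i) h
    rw [hsum_ebar, mul_one] at h1
    exact h1.symm
  have hu_ebar : ∀ i, u i * ebar i = 0 := by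
    intro i
    simp only [ebar]
    rw [← mul_assoc, huv i, zero_mul]
  -- lift the idempotents
  choose e he_idem he_q using fun i => hidem (ebar i) (hidem_ebar i)
  have horth : ∀ i j, i ≠ j → e i * e j = 0 := by
    intro i j hij
    apply idem_eq_zero_of_mem hI ((he_idem i).mul (he_idem j))
    apply Ideal.Quotient.eq_zero_iff_mem.1
    rw [map_mul, he_q, he_q, horth_ebar i j hij]
  have hsq : ∀ i, e i * e i = e i := fun i => (he_idem i).eq
  have hsum_idem : IsIdempotentElem (∑ i, e i) := by
    change (∑ i, e i) * (∑ i, e i) = ∑ i, e i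
    rw [Finset.sum_mul]
    apply Finset.sum_congr rfl
    intro i _
    rw [Finset.mul_sum]
    rw [Finset.sum_eq_single i]
    · exact hsq i
    · intro j _ hji
      exact horth i j hji.symm
    · intro h; exact absurd (Finset.mem_univ i) h
  have hsum : ∑ i, e i = 1 := by
    have h1 : IsIdempotentElem (1 - ∑ i, e i) := hsum_idem.one_sub
    have h2 : (1 - ∑ i, e i) = 0 := by
      apply idem_eq_zero_of_mem hI h1
      apply Ideal.Quotient.eq_zero_iff_mem.1
      rw [map_sub, map_one, map_sum]
      simp only [he_q]
      rw [hsum_ebar, sub_self]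
    exact (sub_eq_zero.1 h2).symm
  refine ⟨∑ i, e i * a i, ?_, ?_⟩
  · -- root
    set b := ∑ i, e i * a i with hb
    have hkey : ∀ i, e i * (b - a i) = 0 := by
      intro i
      rw [mul_sub, hb, Finset.mul_sum, Finset.sum_eq_single i]
      · rw [← mul_assoc, hsq i, sub_self]
      · intro j _ hji
        rw [← mul_assoc, horth i j hji.symm, zero_mul]
      · intro h; exact absurd (Finset.mem_univ i) h
    rw [Polynomial.IsRoot.def, hfprod, Polynomial.eval_prod]
    simp only [Polynomial.eval_sub, Polynomial.eval_X, Polynomial.eval_C]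
    have : ∏ j, (b - a j) = (∑ i, e i) * ∏ j, (b - a j) := by rw [hsum, one_mul]
    rw [this, Finset.sum_mul]
    apply Finset.sum_eq_zero
    intro i _
    rw [← Finset.mul_prod_erase _ _ (Finset.mem_univ i), ← mul_assoc, hkey i, zero_mul]
  · -- congruence
    apply Ideal.Quotient.eq_zero_iff_mem.1
    have h1 : (∑ i, e i * a i) - a₀ = - ∑ i, e i * (a₀ - a i) := by
      have : a₀ = (∑ i, e i) * a₀ := by rw [hsum, one_mul]
      conv_lhs => rw [this]
      rw [Finset.sum_mul, ← Finset.sum_sub_distrib, ← Finset.sum_neg_distrib]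
      apply Finset.sum_congr rfl
      intro i _
      ring
    rw [h1, map_neg, map_sum, neg_eq_zero]
    apply Finset.sum_eq_zero
    intro i _
    rw [map_mul, he_q, mul_comm]
    exact hu_ebar i

end Groth.Agent.S6888
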