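import Groth.Statements.S6892
import Groth.Agent.Lib.Helper45.FittingIndep
-- import your own Groth.Agent.* helpers here

set_option autoImplicit false
universe u
open Fitt

namespace Groth.Agent.S6892

open Groth.Agent.Lib.Helper45.Fitting

/-- minors of a finite set of vectors generate a finitely generated ideal -/
lemma Min_fg {R : Type u} [CommRing R] {n : ℕ} (G : Set (Fin n → R)) (hG : G.Finite) (j : ℕ) :
    (Min G j).FG := by
  have hfin : {d | ∃ (z : Fin j → (Fin n → R)) (e : Fin j → Fin n), (∀ b, z b ∈ G) ∧ d = minor z e}.Finite := by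
    have h1 : (Set.univ.pi (fun _ : Fin j => G)).Finite := Set.Finite.pi (fun _ => hG)
    have h2 : ((Set.univ.pi (fun _ : Fin j => G)) ×ˢ (Set.univ : Set (Fin j → Fin n))).Finite :=
      h1.prod Set.finite_univ
    refine (h2.image (fun p => minor p.1 p.2)).subset ?_
    rintro d ⟨z, e, hz, rfl⟩
    exact ⟨(z, e), ⟨fun b _ => hz b, Set.mem_univ _⟩, rfl⟩
  exact Submodule.fg_span hfin


/-- Let `M` be a finite `R`-module. When `n` elements generate `M` one has `Fit_n(M) = R`; when `M` is
of finite presentation every `Fit_k(M)` is finitely generated as an ideal; and a surjection `M → M'`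
onto another module gives `Fit_k(M) ⊆ Fit_k(M')` for every `k`. -/
theorem result {R : Type u} [CommRing R] (M M' : Type u) [AddCommGroup M]
    [Module R M] [Module.Finite R M] [AddCommGroup M'] [Module R M'] (k : ℕ) :
    (∀ (n : ℕ) (x : Fin n → M), Submodule.span R (Set.range x) = ⊤ → Fitt.ideal R M n = ⊤) ∧
    (Module.FinitePresentation R M → (Fitt.ideal R M k).FG) ∧
    (∀ f : M →ₗ[R] M', Function.Surjective f → Fitt.ideal R M k ≤ Fitt.ideal R M' k) := by
  refine ⟨?_, ?_, ?_⟩
  · intro n x hx
    rw [fitt_eq_Min x hx n, Nat.sub_self, Min_zero]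
  · intro hfp
    obtain ⟨n, x, hx⟩ := Module.Finite.exists_fin (R := R) (M := M)
    rw [fitt_eq_Min x hx k]
    have hsurj : Function.Surjective (Fintype.linearCombination R x) := by
      rw [← LinearMap.range_eq_top, Fintype.range_linearCombination, hx]
    have hfg : (Rel R x).FG := Module.FinitePresentation.fg_ker _ hsurj
    obtain ⟨G, hG⟩ := hfg
    rw [← hG, Min_span]
    exact Min_fg _ G.finite_toSet _
  · intro f hf
    obtain ⟨n, x, hx⟩ := Module.Finite.exists_fin (R := R) (M := M)
    have hx' : Submodule.span R (Set.range (f ∘ x)) = ⊤ := by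
      rw [Set.range_comp, ← Submodule.map_span, hx, Submodule.map_top, LinearMap.range_eq_top]
      exact hf
    rw [fitt_eq_Min x hx k, fitt_eq_Min (f ∘ x) hx' k]
    apply Min_mono
    intro v hv
    have hv' := (mem_Rel x v).mp hv
    change v ∈ Rel R (f ∘ x)
    rw [mem_Rel]
    have := congrArg f hv'
    simpa using this

end Groth.Agent.S6892
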