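import Groth.Statements.S6893
import Mathlib

set_option autoImplicit false
universe u
open TensorProduct
open CAlg

namespace Groth.Agent.S6893

open TensorProduct

section helpers

variable {R : Type u} [CommRing R] (M : Type u) [AddCommGroup M] [Module R M]

/-- the equational criterion of flatness relative to an ideal -/
def E (I : Ideal R) : Prop :=
  ∀ (l : ℕ) (f : Fin l → R) (x : Fin l → M), ∑ i, f i • x i ∈ I • (⊤ : Submodule R M) →
    ∃ (k : ℕ) (a : Fin l → Fin k → R) (y : Fin k → M),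
      (∀ i, x i = ∑ j, a i j • y j) ∧ ∀ j, ∑ i, f i * a i j ∈ I

variable {M}

lemma one_tmul_eq_zero_iff (I : Ideal R) (m : M) :
    (1 : R ⧸ I) ⊗ₜ[R] m = 0 ↔ m ∈ I • (⊤ : Submodule R M) := by
  rw [← (quotTensorEquivQuotSMul M I).map_eq_zero_iff, ← map_one (Ideal.Quotient.mk I),
    quotTensorEquivQuotSMul_mk_tmul, one_smul, Submodule.Quotient.mk_eq_zero]

lemma mk_smul_one_tmul (I : Ideal R) (r : R) (m : M) :
    (Ideal.Quotient.mk I r) • ((1 : R ⧸ I) ⊗ₜ[R] m) = (1 : R ⧸ I) ⊗ₜ[R] (r • m) := by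
  rw [TensorProduct.smul_tmul', smul_eq_mul, mul_one, ← TensorProduct.smul_tmul, Algebra.smul_def, mul_one]
  rfl

lemma exists_one_tmul (I : Ideal R) (z : (R ⧸ I) ⊗[R] M) : ∃ m : M, (1 : R ⧸ I) ⊗ₜ[R] m = z := by
  induction z using TensorProduct.induction_on with
  | zero => exact ⟨0, tmul_zero _ _⟩
  | tmul r m =>
    obtain ⟨r, rfl⟩ := Ideal.Quotient.mk_surjective r
    refine ⟨r • m, ?_⟩
    rw [← mk_smul_one_tmul, TensorProduct.smul_tmul', smul_eq_mul, mul_one]
  | add a b ha hb =>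
    obtain ⟨m, rfl⟩ := ha
    obtain ⟨m', rfl⟩ := hb
    exact ⟨m + m', tmul_add _ _ _⟩

variable (M)

theorem flat_of_E (I : Ideal R) (hE : E M I) : Module.Flat (R ⧸ I) ((R ⧸ I) ⊗[R] M) := by
  apply Module.Flat.of_forall_isTrivialRelation
  intro l fbar xbar h
  choose f hf using fun i => Ideal.Quotient.mk_surjective (fbar i)
  choose x hx using fun i => exists_one_tmul I (xbar i)
  have h1 : ∑ i, f i • x i ∈ I • (⊤ : Submodule R M) := by
    rw [← one_tmul_eq_zero_iff, tmul_sum]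
    simp_rw [← mk_smul_one_tmul, hf, hx]
    exact h
  obtain ⟨k, a, y, hxy, hfa⟩ := hE l f x h1
  refine ⟨k, fun i j => Ideal.Quotient.mk I (a i j), fun j => (1 : R ⧸ I) ⊗ₜ[R] y j, ?_, ?_⟩
  · intro i
    rw [← hx i, hxy i, tmul_sum]
    simp_rw [mk_smul_one_tmul]
  · intro j
    simp_rw [← hf, ← map_mul, ← map_sum]
    exact Ideal.Quotient.eq_zero_iff_mem.mpr (hfa j)

theorem E_of_flat (I : Ideal R) [Module.Flat (R ⧸ I) ((R ⧸ I) ⊗[R] M)] : E M I := by
  classical
  intro l f x hfx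
  have h0 : ∑ i, (Ideal.Quotient.mk I (f i)) • ((1 : R ⧸ I) ⊗ₜ[R] x i) = 0 := by
    simp_rw [mk_smul_one_tmul]
    rw [← tmul_sum]
    exact (one_tmul_eq_zero_iff I _).mpr hfx
  obtain ⟨k, abar, ybar, hxy, hfa⟩ := Module.Flat.isTrivialRelation_of_sum_smul_eq_zero h0
  choose a ha using fun i j => Ideal.Quotient.mk_surjective (abar i j)
  choose y hy using fun j => exists_one_tmul I (ybar j)
  have hd : ∀ i, x i - ∑ j, a i j • y j ∈ I • (⊤ : Submodule R M) := by
    intro i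
    rw [← one_tmul_eq_zero_iff, tmul_sub, tmul_sum, sub_eq_zero]
    simp_rw [← mk_smul_one_tmul, ha, hy]
    exact hxy i
  have hd' : ∀ i, ∃ (c : M →₀ R) (_ : ∀ m, c m ∈ I), (c.sum fun m r => r • m) = x i - ∑ j, a i j • y j := by
    intro i
    have := hd i
    rw [← Submodule.span_univ, ← Set.range_id, Submodule.mem_ideal_smul_span_iff_exists_sum] at this
    exact this
  choose c hcI hc using hd'
  let T : Finset M := Finset.univ.biUnion (fun i => (c i).support)
  have hcT : ∀ i, x i - ∑ j, a i j • y j = ∑ m : T, c i (m : M) • (m : M) := by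
    intro i
    rw [← hc i, Finsupp.sum_of_support_subset (c i) (s := T) (by
      intro m hm
      exact Finset.mem_biUnion.mpr ⟨i, Finset.mem_univ _, hm⟩) _ (by intro m _; exact zero_smul _ _)]
    exact (Finset.sum_coe_sort T (fun m => c i m • m)).symm
  let e : (Fin k ⊕ T) ≃ Fin (Fintype.card (Fin k ⊕ T)) := Fintype.equivFin _
  refine ⟨Fintype.card (Fin k ⊕ T),
    fun i j' => Sum.elim (a i) (fun m : T => c i (m : M)) (e.symm j'),
    fun j' => Sum.elim y (fun m : T => (m : M)) (e.symm j'), ?_, ?_⟩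
  · intro i
    rw [Equiv.sum_comp e.symm (fun s : Fin k ⊕ T => Sum.elim (a i) (fun m : T => c i (m : M)) s •
      Sum.elim y (fun m : T => (m : M)) s), Fintype.sum_sum_type]
    simp only [Sum.elim_inl, Sum.elim_inr]
    rw [← hcT i]
    abel
  · intro j'
    change ∑ i, f i * Sum.elim (a i) (fun m : T => c i (m : M)) (e.symm j') ∈ I
    rcases h : e.symm j' with j | m
    · simp only [Sum.elim_inl]
      rw [← Ideal.Quotient.eq_zero_iff_mem, map_sum]
      simp_rw [map_mul, ha]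
      exact hfa j
    · simp only [Sum.elim_inr]
      exact I.sum_mem fun i _ => I.mul_mem_left _ (hcI i _)

theorem E_inf (I₁ I₂ : Ideal R) (h₁ : E M I₁) (h₂ : E M I₂) : E M (I₁ ⊓ I₂) := by
  intro l f x hfx
  have h1 : ∑ i, f i • x i ∈ I₁ • (⊤ : Submodule R M) := Submodule.smul_mono_left inf_le_left hfx
  obtain ⟨k, a, y, hxy, hfa⟩ := h₁ l f x h1
  have hsum : ∑ j, (∑ i, f i * a i j) • y j = ∑ i, f i • x i := by
    simp_rw [hxy, Finset.smul_sum, Finset.sum_smul, mul_smul]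
    rw [Finset.sum_comm]
  have h2 : ∑ j, (∑ i, f i * a i j) • y j ∈ I₂ • (⊤ : Submodule R M) := by
    rw [hsum]
    exact Submodule.smul_mono_left inf_le_right hfx
  obtain ⟨k', a', y', hyy', hha'⟩ := h₂ k (fun j => ∑ i, f i * a i j) y h2
  refine ⟨k', fun i t => ∑ j, a i j * a' j t, y', ?_, ?_⟩
  · intro i
    rw [hxy i]
    simp_rw [hyy', Finset.smul_sum, Finset.sum_smul, mul_smul]
    rw [Finset.sum_comm]
  · intro t
    have h3 : ∑ i, f i * ∑ j, a i j * a' j t = ∑ j, (∑ i, f i * a i j) * a' j t := by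
      simp_rw [Finset.mul_sum, Finset.sum_mul, mul_assoc]
      rw [Finset.sum_comm]
    rw [h3]
    exact ⟨I₁.sum_mem fun j _ => I₁.mul_mem_right _ (hfa j), hha' t⟩

end helpers

end Groth.Agent.S6893

namespace Groth.Agent.S6893

/-- Let `M` be a module over a ring `R` and `I₁, I₂ ⊆ R` ideals. Suppose flatness of `M/I₁M` as an
`R/I₁`-module holds, and likewise `M/I₂M` is a flat `R/I₂`-module; then the quotient `M/(I₁ ∩ I₂)M`
is also flat as a module over `R/(I₁ ∩ I₂)`. -/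
theorem result {R : Type u} [CommRing R] (M : Type u) [AddCommGroup M] [Module R M]
    (I₁ I₂ : Ideal R) [Module.Flat (R ⧸ I₁) ((R ⧸ I₁) ⊗[R] M)] [Module.Flat (R ⧸ I₂) ((R ⧸ I₂) ⊗[R] M)] :
    Module.Flat (R ⧸ (I₁ ⊓ I₂)) ((R ⧸ (I₁ ⊓ I₂)) ⊗[R] M) := by
  exact flat_of_E M _ (E_inf M I₁ I₂ (E_of_flat M I₁) (E_of_flat M I₂))

end Groth.Agent.S6893
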