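import Groth.Statements.S6894
import Mathlib
import Groth.Agent.Lib.Helper45.FittingLocal

set_option autoImplicit false
universe u
open TensorProduct
open Fitt

namespace Groth.Agent.S6894

open Groth.Agent.Lib.Helper45 Groth.Agent.Lib.Helper45.Fitting

/-- over a field, `Fitt_k V = ⊤` iff `dim V ≤ k` -/
lemma fitt_eq_top_iff_finrank_le {K : Type u} [Field K] (V : Type u) [AddCommGroup V] [Module K V]
    [Module.Finite K V] (k : ℕ) : Fitt.ideal K V k = ⊤ ↔ Module.finrank K V ≤ k := by
  constructor
  · intro h
    obtain ⟨g, hg⟩ := exists_span_of_fitt_eq_top (R := K) (M := V) k h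
    simpa using finrank_le_of_span_eq_top hg
  · intro h
    let b := Module.finBasis K V
    exact fitt_eq_top_of_span_of_le h b b.span_eq

/-- localization criterion -/
lemma map_eq_top_iff_not_le {R : Type u} [CommRing R] (I p : Ideal R) [p.IsPrime] :
    I.map (algebraMap R (Localization.AtPrime p)) = ⊤ ↔ ¬ I ≤ p := by
  have h := IsLocalization.map_algebraMap_ne_top_iff_disjoint p.primeCompl (Localization.AtPrime p) I
  rw [← not_iff_not, not_not, ← ne_eq, h, Set.disjoint_left]
  constructor
  · intro h1 x hx
    by_contra hxp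
    exact h1 hxp hx
  · intro h1 x hx hxI
    exact hx (h1 hxI)


/-- Let `M` be a finite `R`-module, `k ≥ 0` and `𝔭 ⊆ R` a prime. Then each of the following conditions
implies all the others: the Fitting ideal `Fit_k(M)` is not contained in `𝔭`; the fiber `M ⊗_R κ(𝔭)`
has dimension at most `k` over `κ(𝔭)`; some `k` elements span the localization `M_𝔭` over `R_𝔭`; and
for some `f ∉ 𝔭`, the module `M_f` is spanned over `R_f` by `k` elements. -/
theorem result {R : Type u} [CommRing R] (M : Type u) [AddCommGroup M] [Module R M]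
    [Module.Finite R M] (k : ℕ) (p : Ideal R) [p.IsPrime] :
    (¬ Fitt.ideal R M k ≤ p ↔ Module.finrank p.ResidueField (p.ResidueField ⊗[R] M) ≤ k) ∧
    (¬ Fitt.ideal R M k ≤ p ↔
      ∃ g : Fin k → LocalizedModule p.primeCompl M, Submodule.span (Localization.AtPrime p) (Set.range g) = ⊤) ∧
    (¬ Fitt.ideal R M k ≤ p ↔ ∃ f : R, f ∉ p ∧
      ∃ g : Fin k → LocalizedModule (Submonoid.powers f) M,
        Submodule.span (Localization.Away f) (Set.range g) = ⊤) := by
  have hmin : ¬ Fitt.ideal R M k ≤ p → ∃ (n : ℕ) (x : Fin n → M) (z : Fin (n - k) → (Fin n → R))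
      (e : Fin (n - k) → Fin n), Submodule.span R (Set.range x) = ⊤ ∧ (∀ b, z b ∈ Rel R x) ∧ minor z e ∉ p := by
    intro h
    obtain ⟨n, x, hx⟩ := Module.Finite.exists_fin (R := R) (M := M)
    obtain ⟨z, e, hz, hd⟩ := exists_minor_notMem x hx k p h
    exact ⟨n, x, z, e, hx, hz, hd⟩
  refine ⟨?_, ?_, ?_⟩
  · rw [← fitt_eq_top_iff_finrank_le, fitt_baseChange]
    have h2 : (Fitt.ideal R M k).map (algebraMap R p.ResidueField) = ⊥ ↔ Fitt.ideal R M k ≤ p := by
      rw [Ideal.map_eq_bot_iff_le_ker, Ideal.ker_algebraMap_residueField]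
    rw [← h2]
    rcases Ideal.eq_bot_or_top ((Fitt.ideal R M k).map (algebraMap R p.ResidueField)) with h | h
    · rw [h]; simp
    · rw [h]; simp
  · constructor
    · intro h
      obtain ⟨n, x, z, e, hx, hz, hd⟩ := hmin h
      refine exists_span_of_minor_unit (A := Localization.AtPrime p) k x z hz e
        (LocalizedModule.mkLinearMap p.primeCompl M) ?_ ?_
      · rw [Set.range_comp]
        exact span_eq_top_of_isLocalizedModule (Localization.AtPrime p) p.primeCompl _ hx
      · exact IsLocalization.map_units (Localization.AtPrime p) (⟨minor z e, hd⟩ : p.primeCompl)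
    · rintro ⟨g, hg⟩
      have h1 := fitt_eq_top_of_span g hg
      rw [fitt_localizedModule] at h1
      exact (map_eq_top_iff_not_le _ p).mp h1
  · constructor
    · intro h
      obtain ⟨n, x, z, e, hx, hz, hd⟩ := hmin h
      refine ⟨minor z e, hd, ?_⟩
      refine exists_span_of_minor_unit (A := Localization.Away (minor z e)) k x z hz e
        (LocalizedModule.mkLinearMap (Submonoid.powers (minor z e)) M) ?_ ?_
      · rw [Set.range_comp]
        exact span_eq_top_of_isLocalizedModule (Localization.Away (minor z e)) (Submonoid.powers (minor z e)) _ hx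
      · exact IsLocalization.map_units (Localization.Away (minor z e))
          (⟨minor z e, Submonoid.mem_powers _⟩ : Submonoid.powers (minor z e))
    · rintro ⟨f, hf, g, hg⟩
      have h1 := fitt_eq_top_of_span g hg
      rw [fitt_localizedModule] at h1
      intro hle
      have h2 := (not_iff_not.mpr (IsLocalization.map_algebraMap_ne_top_iff_disjoint (Submonoid.powers f)
        (Localization.Away f) (Fitt.ideal R M k))).mp (by rw [not_not]; exact h1)
      rw [Set.not_disjoint_iff] at h2
      obtain ⟨y, ⟨m, rfl⟩, hy⟩ := h2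
      exact hf (Ideal.IsPrime.mem_of_pow_mem inferInstance m (hle hy))

end Groth.Agent.S6894
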