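import Groth.Statements.S6896
import Mathlib
import Groth.Agent.Lib.Helper45.FittingLocal

set_option autoImplicit false
universe u
open Fitt

namespace Groth.Agent.S6896

open Groth.Agent.Lib.Helper45 Groth.Agent.Lib.Helper45.Fitting

/-- in a local ring, if the minors of relations generate a nonzero principal ideal `(f)`, one of them is a unit
multiple of `f` -/
lemma exists_minor_eq_unit_mul {R : Type u} [CommRing R] [IsLocalRing R] {n : ℕ} (K : Set (Fin n → R)) (j : ℕ)
    (f : R) (hf0 : f ≠ 0) (hF : Fitting.Min K j = Ideal.span {f}) :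
    ∃ (z : Fin j → (Fin n → R)) (e : Fin j → Fin n) (u : R), (∀ b, z b ∈ K) ∧ IsUnit u ∧ minor z e = u * f := by
  by_contra h
  push Not at h
  apply hf0
  have hle : Ideal.span {f} ≤ IsLocalRing.maximalIdeal R * Ideal.span {f} := by
    refine (le_of_eq hF.symm).trans ?_
    rw [Fitting.Min, Ideal.span_le]
    rintro d ⟨z, e, hz, rfl⟩
    have hmem : minor z e ∈ Ideal.span {f} := by
      rw [← hF]; exact minor_mem_Min z e hz
    obtain ⟨c, hc⟩ := Ideal.mem_span_singleton'.mp hmem
    have hcn : ¬ IsUnit c := fun hu => h z e c hz hu hc.symm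
    rw [← hc]
    exact Ideal.mul_mem_mul ((IsLocalRing.mem_maximalIdeal c).mpr hcn) (Ideal.mem_span_singleton_self f)
  have hfm := hle (Ideal.mem_span_singleton_self f)
  obtain ⟨c, hc, hcf⟩ := Ideal.mem_mul_span_singleton.mp hfm
  have hu : IsUnit (1 - c) := IsLocalRing.isUnit_one_sub_self_of_mem_nonunits c ((IsLocalRing.mem_maximalIdeal c).mp hc)
  have h0 : (1 - c) * f = 0 := by rw [sub_mul, one_mul, hcf, sub_self]
  exact (hu.mul_right_eq_zero).mp h0


/-- Let `R` be a local ring, `M` a finite `R`-module and `k ≥ 0` with `Fit_k(M) = (f)` principal. Then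
the quotient `M'` of `M` by the submodule `{x ∈ M | f x = 0}` can be generated by `k` elements. -/
theorem result {R : Type u} [CommRing R] [IsLocalRing R]
    (M : Type u) [AddCommGroup M] [Module R M] [Module.Finite R M] (k : ℕ) (f : R)
    (hf : Fitt.ideal R M k = Ideal.span {f}) :
    ∃ g : Fin k → M ⧸ LinearMap.ker (f • (LinearMap.id : M →ₗ[R] M)),
      Submodule.span R (Set.range g) = ⊤ := by
  classical
  set Q := M ⧸ LinearMap.ker (f • (LinearMap.id : M →ₗ[R] M)) with hQdef
  by_cases hf0 : f = 0
  · have hker : LinearMap.ker (f • (LinearMap.id : M →ₗ[R] M)) = ⊤ := by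
      subst hf0; simp
    have hz : ∀ q : Q, q = 0 := by
      intro q
      obtain ⟨m, rfl⟩ := Submodule.Quotient.mk_surjective _ q
      rw [Submodule.Quotient.mk_eq_zero, hker]
      exact Submodule.mem_top
    refine ⟨fun _ => 0, ?_⟩
    rw [eq_top_iff]
    rintro q -
    rw [hz q]
    exact Submodule.zero_mem _
  · obtain ⟨n, x, hx⟩ := Module.Finite.exists_fin (R := R) (M := M)
    have hF : Fitting.Min (Rel R x : Set (Fin n → R)) (n - k) = Ideal.span {f} := by
      rw [← fitt_eq_Min x hx k, hf]
    obtain ⟨z, e, u, hz, hu, hd⟩ := exists_minor_eq_unit_mul _ _ f hf0 hF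
    have he : Function.Injective e := by
      by_contra he
      rw [Function.Injective] at he
      push Not at he
      obtain ⟨a, a', hea, hne⟩ := he
      have hd0 := minor_eq_zero_of_eq z e hne hea
      rw [hd0] at hd
      exact hf0 ((hu.mul_right_eq_zero).mp hd.symm)
    let π := (LinearMap.ker (f • (LinearMap.id : M →ₗ[R] M))).mkQ
    have hQ : Submodule.span R (Set.range (π ∘ x)) = ⊤ := by
      rw [Set.range_comp, ← Submodule.map_span, hx, Submodule.map_top, LinearMap.range_eq_top]
      exact Submodule.mkQ_surjective _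
    have hspan : Submodule.span R ((π ∘ x) '' ((Finset.univ.image e)ᶜ : Finset (Fin n))) = ⊤ := by
      rw [eq_top_iff, ← hQ, Submodule.span_le]
      rintro _ ⟨i, rfl⟩
      by_cases hi : i ∈ Set.range e
      · obtain ⟨a, rfl⟩ := hi
        have hc : ∀ i, minor z (Function.update e a i) ∈ Ideal.span {f} := by
          intro i
          rw [← hF]
          exact minor_mem_Min _ _ hz
        choose w hw using fun i => Ideal.mem_span_singleton'.mp (hc i)
        have hker : u • x (e a) + ∑ i ∈ Finset.univ.filter (fun i => i ∉ Set.range e), w i • x i ∈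
            LinearMap.ker (f • (LinearMap.id : M →ₗ[R] M)) := by
          rw [LinearMap.mem_ker, LinearMap.smul_apply, LinearMap.id_apply, smul_add, smul_smul, mul_comm f u, ← hd,
            minor_smul_eq x z hz e a, Finset.smul_sum]
          simp only [smul_smul, mul_comm f, hw]
          exact neg_add_cancel _
        have h1 : π (u • x (e a) + ∑ i ∈ Finset.univ.filter (fun i => i ∉ Set.range e), w i • x i) = 0 := by
          rw [Submodule.mkQ_apply, Submodule.Quotient.mk_eq_zero]
          exact hker
        rw [map_add, map_smul, map_sum] at h1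
        have h2 : u • π (x (e a)) = - ∑ i ∈ Finset.univ.filter (fun i => i ∉ Set.range e), π (w i • x i) :=
          eq_neg_of_add_eq_zero_left h1
        obtain ⟨u', rfl⟩ := hu
        have h3 : π (x (e a)) = (↑u'⁻¹ : R) • ((u' : R) • π (x (e a))) := by
          rw [smul_smul, Units.inv_mul, one_smul]
        change π (x (e a)) ∈ _
        rw [h3, h2]
        apply Submodule.smul_mem
        apply Submodule.neg_mem
        apply Submodule.sum_mem
        intro i hi
        simp only [Finset.mem_filter, Finset.mem_univ, true_and] at hi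
        rw [map_smul]
        apply Submodule.smul_mem
        apply Submodule.subset_span
        refine ⟨i, ?_, rfl⟩
        simpa using hi
      · apply Submodule.subset_span
        refine ⟨i, ?_, rfl⟩
        simpa using hi
    apply exists_fin_span_of_card_le (π ∘ x) (Finset.univ.image e)ᶜ k _ hspan
    rw [Finset.card_compl, Finset.card_image_of_injective _ he]
    simp only [Fintype.card_fin, Finset.card_univ]
    omega

end Groth.Agent.S6896
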