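import Groth.Statements.S6897
import Mathlib
import Groth.Agent.Lib.Helper45.FittingSplit
import Groth.Agent.Lib.Helper45.FittingMatrix
import Groth.Agent.S6895

set_option autoImplicit false
universe u
open CategoryTheory
open Fitt

namespace Groth.Agent.S6897

open Groth.Agent.Lib.Helper45 Groth.Agent.Lib.Helper45.Fitting

/-- a nonzerodivisor acts injectively on a projective module -/
lemma smul_eq_zero_of_projective {R : Type u} [CommRing R] {P : Type*} [AddCommGroup P] [Module R P]
    [Module.Projective R P] (r : R) (hr : r ∈ nonZeroDivisors R) (q : P) (h : r • q = 0) : q = 0 := by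
  obtain ⟨s, hs⟩ := (Module.projective_def'.mp (inferInstance : Module.Projective R P))
  have h1 : r • s q = 0 := by rw [← map_smul, h, map_zero]
  have h2 : s q = 0 := by
    ext i
    have := DFunLike.congr_fun h1 i
    simp only [Finsupp.smul_apply, smul_eq_mul, Finsupp.coe_zero, Pi.zero_apply] at this
    exact (mul_right_mem_nonZeroDivisors_eq_zero_iff hr).mp (by rwa [mul_comm] at this)
  have h3 := LinearMap.congr_fun hs q
  simp only [LinearMap.comp_apply, LinearMap.id_apply] at h3
  rw [← h3, h2, map_zero]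


/-- Let `M` be a finitely presented `R`-module and `k ≥ 0` such that `Fit_k(M) = (f)` for a
nonzerodivisor `f` and `Fit_{k-1}(M) = 0` (no condition when `k = 0`). Let `M' = Ker(f : M → M)`.
Then: the projective dimension of `M` is at most `1`; `M'` coincides with the `f`-power torsion of
`M` and its projective dimension is at most `1`; every prime of `R` has a basic open neighbourhood
over which `M/M'` is free of rank `k`; and `M ≅ M/M' ⊕ M'` (existence of an isomorphism). -/
theorem result {R : Type u} [CommRing R] (M : Type u)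
    [AddCommGroup M] [Module R M] [Module.FinitePresentation R M] (k : ℕ) (f : R) (hf0 : f ∈ nonZeroDivisors R)
    (hf : Fitt.ideal R M k = Ideal.span {f}) (hk : k = 0 ∨ Fitt.ideal R M (k - 1) = ⊥) :
    HasProjectiveDimensionLT (ModuleCat.of R M) 2 ∧
    (∀ x : M, (∃ n : ℕ, f ^ n • x = 0) ↔ f • x = 0) ∧
    HasProjectiveDimensionLT (ModuleCat.of R ↥(LinearMap.ker (f • (LinearMap.id : M →ₗ[R] M)))) 2 ∧
    (∀ (p : Ideal R) [p.IsPrime], ∃ g : R, g ∉ p ∧
      Module.Free (Localization.Away g)
          (LocalizedModule (Submonoid.powers g) (M ⧸ LinearMap.ker (f • (LinearMap.id : M →ₗ[R] M)))) ∧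
        Module.finrank (Localization.Away g)
          (LocalizedModule (Submonoid.powers g) (M ⧸ LinearMap.ker (f • (LinearMap.id : M →ₗ[R] M)))) = k) ∧
    Nonempty (M ≃ₗ[R] (M ⧸ LinearMap.ker (f • (LinearMap.id : M →ₗ[R] M))) ×
      ↥(LinearMap.ker (f • (LinearMap.id : M →ₗ[R] M)))) := by
  have hMfin : Module.Finite R M := inferInstance
  set M' := LinearMap.ker (f • (LinearMap.id : M →ₗ[R] M)) with hM'
  obtain ⟨hbot, htop⟩ := fitt_quot_ker_smul (M := M) k f hf0 hf hk
  -- (4)
  have h4 := (Groth.Agent.S6895.result (M ⧸ M') k).mpr ⟨hbot, htop⟩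
  have hQproj : Module.Projective R (M ⧸ M') := by
    apply projective_of_locally_free
    intro p _
    obtain ⟨g, hg, hfree, -⟩ := h4 p
    exact ⟨g, hg, hfree⟩
  -- (5)
  obtain ⟨N', hcompl⟩ := exists_isCompl_of_projective_quotient M'
  let E : M ≃ₗ[R] (M ⧸ M') × M' :=
    (Submodule.prodEquivOfIsCompl M' N' hcompl).symm ≪≫ₗ (LinearEquiv.prodComm R M' N') ≪≫ₗ
      (LinearEquiv.prodCongr (Submodule.quotientEquivOfIsCompl M' N' hcompl).symm (LinearEquiv.refl R M'))
  -- (3)
  have hM'fin : Module.Finite R M' :=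
    Module.Finite.of_surjective ((LinearMap.snd R (M ⧸ M') M').comp E.toLinearMap)
      (fun m' => ⟨E.symm (0, m'), by simp⟩)
  have hF0 : Fitt.ideal R M' 0 = Ideal.span {f} := by
    rw [← hf, fitt_congr E k, fitt_prod (R := R) (M := M ⧸ M') (M' := M') k, Finset.sum_eq_single k]
    · rw [htop k le_rfl, Nat.sub_self, Ideal.top_mul]
    · intro i hi hik
      rw [Finset.mem_range] at hi
      rw [hbot i (by omega), Ideal.bot_mul]
      rfl
    · intro h
      exact absurd (Finset.mem_range.mpr (Nat.lt_succ_self k)) h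
  obtain ⟨b, y, hy⟩ := Module.Finite.exists_fin (R := R) (M := M')
  have hRelproj : Module.Projective R (LinearMap.ker (Fintype.linearCombination R y)) :=
    projective_Rel_of_fitt_zero y hy f hf0 hF0
  have hysurj : Function.Surjective (Fintype.linearCombination R y) := by
    rw [← LinearMap.range_eq_top, Fintype.range_linearCombination, hy]
  have h3 : HasProjectiveDimensionLT (ModuleCat.of R M') 2 :=
    pd_lt_two_of_surjective (Fintype.linearCombination R y) hysurj
  -- (1)
  have hQ2 : HasProjectiveDimensionLT (ModuleCat.of R (M ⧸ M')) 2 := by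
    have : Projective (ModuleCat.of R (M ⧸ M')) := (IsProjective.iff_projective (M ⧸ M')).mp hQproj
    infer_instance
  have h1 : HasProjectiveDimensionLT (ModuleCat.of R M) 2 := by
    have hb : HasProjectiveDimensionLT (ModuleCat.of R (M ⧸ M') ⊞ ModuleCat.of R M') 2 := inferInstance
    have hp : HasProjectiveDimensionLT (ModuleCat.of R ((M ⧸ M') × M')) 2 :=
      hasProjectiveDimensionLT_of_iso (ModuleCat.biprodIsoProd (ModuleCat.of R (M ⧸ M')) (ModuleCat.of R M')) 2
    exact hasProjectiveDimensionLT_of_iso E.symm.toModuleIso 2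
  refine ⟨h1, ?_, h3, h4, ⟨E⟩⟩
  -- (2)
  intro x
  constructor
  · rintro ⟨n, hn⟩
    have hq : f ^ n • M'.mkQ x = 0 := by
      rw [← map_smul, hn, map_zero]
    have hq0 := smul_eq_zero_of_projective (f ^ n) (pow_mem hf0 n) _ hq
    rw [Submodule.mkQ_apply, Submodule.Quotient.mk_eq_zero] at hq0
    simpa [hM'] using hq0
  · intro h
    exact ⟨1, by simpa using h⟩

end Groth.Agent.S6897
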