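import Groth.Statements.S6898
import Mathlib
import Groth.Agent.S6893

set_option autoImplicit false
universe u
open TensorProduct
open CAlg


namespace Groth.Agent.S6898

open IsLocalRing

variable {A : Type u} [CommRing A] [IsLocalRing A]

/-- Gaussian elimination over a local ring. -/
theorem matrix_lemma (J : Ideal A) : ∀ (r s : ℕ) (C : Fin r → Fin s → A) (a : Fin r → A),
    (∀ c : Fin r → A, (∀ j, ∑ i, c i * C i j ∈ maximalIdeal A) → ∀ i, c i ∈ maximalIdeal A) →
    (∀ j, ∑ i, a i * C i j ∈ J) → ∀ i, a i ∈ J := by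
  intro r
  induction r with
  | zero => intro s C a _ _ i; exact i.elim0
  | succ r ih =>
    intro s C a h1 h2
    have hpiv : ∃ j₀, C 0 j₀ ∉ maximalIdeal A := by
      by_contra hcon
      push Not at hcon
      have := h1 (Pi.single (0 : Fin (r + 1)) (1 : A) : Fin (r + 1) → A) (fun j => by
        have : ∑ i, (Pi.single (0 : Fin (r + 1)) (1 : A) : Fin (r + 1) → A) i * C i j = C 0 j := by
          rw [Finset.sum_eq_single 0]
          · simp
          · intro b _ hb
            rw [Pi.single_eq_of_ne hb, zero_mul]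
          · simp
        rw [this]
        exact hcon j) 0
      rw [Pi.single_eq_same] at this
      exact (maximalIdeal.isMaximal A).ne_top ((Ideal.eq_top_iff_one _).2 this)
    obtain ⟨j₀, hj₀⟩ := hpiv
    have hunit : IsUnit (C 0 j₀) := by
      rwa [mem_maximalIdeal, mem_nonunits_iff, not_not] at hj₀
    obtain ⟨w, hw⟩ := hunit.exists_right_inv
    have h2' : ∀ j, ∑ i : Fin r, a i.succ * (C i.succ j - C i.succ j₀ * w * C 0 j) ∈ J := by
      intro j
      have hR : ∀ j', ∑ i : Fin r, a i.succ * C i.succ j' =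
          (∑ i, a i * C i j') - a 0 * C 0 j' := by
        intro j'
        rw [Fin.sum_univ_succ]
        ring
      have : ∑ i : Fin r, a i.succ * (C i.succ j - C i.succ j₀ * w * C 0 j) =
          (∑ i, a i * C i j) - (∑ i, a i * C i j₀) * (w * C 0 j) := by
        have e1 : ∑ i : Fin r, a i.succ * (C i.succ j - C i.succ j₀ * w * C 0 j) =
            (∑ i : Fin r, a i.succ * C i.succ j) -
              (∑ i : Fin r, a i.succ * C i.succ j₀) * (w * C 0 j) := by
          rw [Finset.sum_mul, ← Finset.sum_sub_distrib]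
          refine Finset.sum_congr rfl fun i _ => ?_
          ring
        rw [e1, hR j, hR j₀]
        linear_combination (a 0 * C 0 j) * hw
      rw [this]
      exact J.sub_mem (h2 j) (J.mul_mem_right _ (h2 j₀))
    have h1' : ∀ c : Fin r → A,
        (∀ j, ∑ i, c i * (C i.succ j - C i.succ j₀ * w * C 0 j) ∈ maximalIdeal A) →
        ∀ i, c i ∈ maximalIdeal A := by
      intro c hc i
      have := h1 (Fin.cons (-(∑ i, c i * C i.succ j₀) * w) c) (fun j => by
        have : ∑ i : Fin (r + 1), (Fin.cons (-(∑ i, c i * C i.succ j₀) * w) c : Fin (r + 1) → A) i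
            * C i j = ∑ i, c i * (C i.succ j - C i.succ j₀ * w * C 0 j) := by
          rw [Fin.sum_univ_succ]
          simp only [Fin.cons_zero, Fin.cons_succ]
          have e1 : ∑ i : Fin r, c i * (C i.succ j - C i.succ j₀ * w * C 0 j) =
              (∑ i : Fin r, c i * C i.succ j) - (∑ i : Fin r, c i * C i.succ j₀) * (w * C 0 j) := by
            rw [Finset.sum_mul, ← Finset.sum_sub_distrib]
            refine Finset.sum_congr rfl fun i _ => ?_
            ring
          rw [e1]
          ring
        rw [this]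
        exact hc j) i.succ
      simpa using this
    have hsucc := ih s (fun i j => C i.succ j - C i.succ j₀ * w * C 0 j) (fun i => a i.succ) h1' h2'
    intro i
    refine Fin.cases ?_ (fun i => hsucc i) i
    have hR := h2 j₀
    rw [Fin.sum_univ_succ] at hR
    have hrest : ∑ i : Fin r, a i.succ * C i.succ j₀ ∈ J :=
      J.sum_mem fun i _ => J.mul_mem_right _ (hsucc i)
    have h0 : a 0 * C 0 j₀ ∈ J := by
      have := J.sub_mem hR hrest
      simpa using this
    have : a 0 = a 0 * C 0 j₀ * w := by rw [mul_assoc, hw, mul_one]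
    rw [this]
    exact J.mul_mem_right _ h0

theorem exists_repr {M : Type u} [AddCommGroup M] [Module A M] {r : ℕ} (a : Fin r → A) (x : M)
    (hx : x ∈ Ideal.span (Set.range a) • (⊤ : Submodule A M)) :
    ∃ m : Fin r → M, x = ∑ i, a i • m i := by
  refine Submodule.smul_induction_on hx ?_ ?_
  · intro c hc n _
    obtain ⟨t, rfl⟩ := (Ideal.mem_span_range_iff_exists_fun).1 hc
    refine ⟨fun i => t i • n, ?_⟩
    rw [Finset.sum_smul]
    refine Finset.sum_congr rfl fun i _ => ?_
    rw [smul_smul, mul_comm]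
  · rintro y z ⟨m1, rfl⟩ ⟨m2, rfl⟩
    exact ⟨m1 + m2, by simp [smul_add, Finset.sum_add_distrib]⟩

theorem exists_fg_le {M : Type u} [AddCommGroup M] [Module A M] (I : Ideal A) (x : M)
    (hx : x ∈ I • (⊤ : Submodule A M)) :
    ∃ I₀ : Ideal A, I₀.FG ∧ I₀ ≤ I ∧ x ∈ I₀ • (⊤ : Submodule A M) := by
  refine Submodule.smul_induction_on hx ?_ ?_
  · intro c hc n _
    exact ⟨Ideal.span {c}, ⟨{c}, by simp⟩, (Ideal.span_singleton_le_iff_mem _).2 hc,
      Submodule.smul_mem_smul (Ideal.mem_span_singleton_self c) Submodule.mem_top⟩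
  · rintro y z ⟨I1, h1, h1', h1''⟩ ⟨I2, h2, h2', h2''⟩
    exact ⟨I1 ⊔ I2, Submodule.FG.sup h1 h2, sup_le h1' h2',
      Submodule.add_mem _ (Submodule.smul_mono_left le_sup_left h1'')
        (Submodule.smul_mono_left le_sup_right h2'')⟩

theorem mem_of_indep {N : Type u} [AddCommGroup N] [Module A N] [Module.Flat A N] (J : Ideal A)
    {r : ℕ} (n : Fin r → N) (a : Fin r → A)
    (hind : ∀ c : Fin r → A, ∑ i, c i • n i ∈ maximalIdeal A • (⊤ : Submodule A N) →
      ∀ i, c i ∈ maximalIdeal A)
    (h : ∑ i, a i • n i ∈ J • (⊤ : Submodule A N)) : ∀ i, a i ∈ J := by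
  have hE := Groth.Agent.S6893.E_of_flat (M := N) J
  obtain ⟨s, C, y, hny, hCJ⟩ := hE r a n h
  refine matrix_lemma J r s C a ?_ hCJ
  intro c hc
  apply hind
  have : ∑ i, c i • n i = ∑ j, (∑ i, c i * C i j) • y j := by
    simp_rw [hny, Finset.smul_sum, smul_smul, Finset.sum_smul]
    rw [Finset.sum_comm]
  rw [this]
  exact Submodule.sum_mem _ fun j _ => Submodule.smul_mem_smul (hc j) Submodule.mem_top

theorem exists_min_repr {M : Type u} [AddCommGroup M] [Module A M] (x : M) (I : Ideal A)
    (hleast : ∀ J : Ideal A, x ∈ J • (⊤ : Submodule A M) → I ≤ J)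
    (hxI : x ∈ I • (⊤ : Submodule A M)) :
    ∀ (r : ℕ) (a : Fin r → A), Ideal.span (Set.range a) = I →
      ∃ (r' : ℕ) (a' : Fin r' → A) (m' : Fin r' → M), x = ∑ i, a' i • m' i ∧
        Ideal.span (Set.range a') = I ∧
        ∀ c : Fin r' → A, ∑ i, c i • m' i ∈ maximalIdeal A • (⊤ : Submodule A M) →
          ∀ i, c i ∈ maximalIdeal A := by
  intro r
  induction r with
  | zero =>
    intro a ha
    obtain ⟨m, hm⟩ := exists_repr a x (ha ▸ hxI)
    exact ⟨0, a, m, hm, ha, fun c _ i => i.elim0⟩
  | succ r ih =>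
    intro a ha
    obtain ⟨m, hm⟩ := exists_repr a x (ha ▸ hxI)
    by_cases hind : ∀ c : Fin (r + 1) → A,
        ∑ i, c i • m i ∈ maximalIdeal A • (⊤ : Submodule A M) → ∀ i, c i ∈ maximalIdeal A
    · exact ⟨r + 1, a, m, hm, ha, hind⟩
    · push Not at hind
      obtain ⟨c, hc, j, hj⟩ := hind
      have hunit : IsUnit (c j) := by
        rwa [mem_maximalIdeal, mem_nonunits_iff, not_not] at hj
      obtain ⟨w, hw⟩ := hunit.exists_left_inv
      have haI : ∀ i, a i ∈ I := fun i => ha ▸ Ideal.subset_span ⟨i, rfl⟩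
      apply ih (fun i => a (j.succAbove i) - a j * w * c (j.succAbove i))
      apply le_antisymm
      · rw [Ideal.span_le]
        rintro _ ⟨i, rfl⟩
        exact I.sub_mem (haI _) (I.mul_mem_right _ (I.mul_mem_right _ (haI j)))
      · have hIfg : I.FG := by
          rw [← ha]
          exact Submodule.fg_span (Set.finite_range a)
        apply Submodule.le_of_le_smul_of_le_jacobson_bot hIfg
          (IsLocalRing.maximalIdeal_le_jacobson ⊥)
        apply hleast
        rw [hm, Fin.sum_univ_succAbove _ j]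
        have hz : m j = w • (∑ i, c i • m i) -
            ∑ i, (w * c (j.succAbove i)) • m (j.succAbove i) := by
          rw [Fin.sum_univ_succAbove _ j, smul_add, smul_smul, hw, one_smul, Finset.smul_sum]
          simp only [smul_smul]
          abel
        have hrew : a j • m j + ∑ i, a (j.succAbove i) • m (j.succAbove i) =
            (a j * w) • (∑ i, c i • m i) +
              ∑ i, (a (j.succAbove i) - a j * w * c (j.succAbove i)) • m (j.succAbove i) := by
          rw [hz]
          simp only [sub_smul, smul_sub, Finset.sum_sub_distrib, smul_smul, Finset.smul_sum,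
            mul_assoc]
          abel
        rw [hrew]
        refine Submodule.add_mem _ ?_ ?_
        · have h1 : (a j * w) • (∑ i, c i • m i) ∈
              (I • maximalIdeal A) • (⊤ : Submodule A M) := by
            rw [Submodule.smul_assoc]
            exact Submodule.smul_mem_smul (I.mul_mem_right _ (haI j)) hc
          refine Submodule.smul_mono_left ?_ h1
          rw [smul_eq_mul, mul_comm]
          exact le_sup_right
        · refine Submodule.sum_mem _ fun i _ => Submodule.smul_mem_smul ?_ Submodule.mem_top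
          exact Submodule.mem_sup_left (Ideal.subset_span ⟨i, rfl⟩)

end Groth.Agent.S6898

namespace Groth.Agent.S6898

/-- Let `(A, 𝔪)` be a local ring and `u : M → N` a linear map between flat `A`-modules whose reduction
`M/𝔪M → N/𝔪N` is injective. If `I` is the content ideal of some `x ∈ M` (the least ideal `I` with `x
∈ IM`), then `I` is also the least ideal `J` with `u(x) ∈ J·N`. -/
theorem result {A : Type u} [CommRing A] [IsLocalRing A] {M N : Type u}
    [AddCommGroup M] [Module A M] [Module.Flat A M] [AddCommGroup N] [Module A N] [Module.Flat A N] (u : M →ₗ[A] N)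
    (hu : Function.Injective (u.baseChange (IsLocalRing.ResidueField A))) (x : M) (I : Ideal A)
    (hx : IsLeast {J : Ideal A | x ∈ J • (⊤ : Submodule A M)} I) :
    IsLeast {J : Ideal A | u x ∈ J • (⊤ : Submodule A N)} I := by
  obtain ⟨hxI, hleast⟩ := hx
  have hxI' : x ∈ I • (⊤ : Submodule A M) := hxI
  refine ⟨?_, ?_⟩
  · change u x ∈ I • (⊤ : Submodule A N)
    have : Submodule.map u (I • (⊤ : Submodule A M)) ≤ I • (⊤ : Submodule A N) := by
      rw [Submodule.map_smul'']
      exact Submodule.smul_mono le_rfl le_top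
    exact this ⟨x, hxI', rfl⟩
  · intro J hJ
    have hJ' : u x ∈ J • (⊤ : Submodule A N) := hJ
    obtain ⟨I₀, hI₀fg, hI₀le, hxI₀⟩ := Groth.Agent.S6898.exists_fg_le I x hxI'
    have hII₀ : I = I₀ := le_antisymm (hleast hxI₀) hI₀le
    have hIfg : I.FG := hII₀ ▸ hI₀fg
    obtain ⟨r, a, ha⟩ := Submodule.fg_iff_exists_fin_generating_family.1 hIfg
    obtain ⟨r', a', m', hxm, ha', hind⟩ :=
      Groth.Agent.S6898.exists_min_repr x I (fun J hJ => hleast hJ) hxI' r a ha
    have hind' : ∀ c : Fin r' → A,
        ∑ i, c i • u (m' i) ∈ IsLocalRing.maximalIdeal A • (⊤ : Submodule A N) →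
        ∀ i, c i ∈ IsLocalRing.maximalIdeal A := by
      intro c hc
      apply hind
      have keyM : ∀ y : M, (1 : IsLocalRing.ResidueField A) ⊗ₜ[A] y = 0 ↔
          y ∈ IsLocalRing.maximalIdeal A • (⊤ : Submodule A M) := fun y =>
        Groth.Agent.S6893.one_tmul_eq_zero_iff (IsLocalRing.maximalIdeal A) y
      have keyN : ∀ y : N, (1 : IsLocalRing.ResidueField A) ⊗ₜ[A] y = 0 ↔
          y ∈ IsLocalRing.maximalIdeal A • (⊤ : Submodule A N) := fun y =>
        Groth.Agent.S6893.one_tmul_eq_zero_iff (IsLocalRing.maximalIdeal A) y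
      rw [← keyM]
      rw [← keyN] at hc
      apply hu
      rw [map_zero, LinearMap.baseChange_tmul, map_sum]
      simp_rw [map_smul]
      exact hc
    have hmem := Groth.Agent.S6898.mem_of_indep J (fun i => u (m' i)) a' hind' (by
      rw [hxm, map_sum] at hJ'
      simpa [map_smul] using hJ')
    rw [← ha', Ideal.span_le]
    rintro _ ⟨i, rfl⟩
    exact hmem i

end Groth.Agent.S6898
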