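import Groth.Statements.S6899
import Groth.Agent.Lib.Helper56.MilnorGlue

set_option autoImplicit false
universe u
open TensorProduct
open EtAlg

namespace Groth.Agent.S6899

/-- Let `B' = B ×_A A'` be a fibre square of rings with `A' → A` surjective, and let `(N₁, M₁', φ₁) →
(N₂, M₂', φ₂)` be a morphism of glueing data (a `B`-linear `u : N₁ → N₂` and an `A'`-linear `v : M₁'
→ M₂'` compatible with the `φ_i`) with `u` and `v` surjective. Then the induced map of glued modules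
`N₁ ×_{φ₁} M₁' → N₂ ×_{φ₂} M₂'` is surjective. -/
theorem result (B' B A' A : Type u) [CommRing B'] [CommRing B] [CommRing A'] [CommRing A]
    [Algebra B' B] [Algebra B' A'] [Algebra B A] [Algebra A' A] [Algebra B' A] [IsScalarTower B' B A] [IsScalarTower B' A' A]
    (hsq : EtMil.IsFibreSquare B' B A' A)
    {N₁ N₂ M₁' M₂' : Type u} [AddCommGroup N₁] [Module B N₁] [Module B' N₁] [IsScalarTower B' B N₁]
    [AddCommGroup N₂] [Module B N₂] [Module B' N₂] [IsScalarTower B' B N₂]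
    [AddCommGroup M₁'] [Module A' M₁'] [Module B' M₁'] [IsScalarTower B' A' M₁']
    [AddCommGroup M₂'] [Module A' M₂'] [Module B' M₂'] [IsScalarTower B' A' M₂']
    (φ₁ : A ⊗[B] N₁ ≃ₗ[A] A ⊗[A'] M₁') (φ₂ : A ⊗[B] N₂ ≃ₗ[A] A ⊗[A'] M₂') (u : N₁ →ₗ[B] N₂) (v : M₁' →ₗ[A'] M₂')
    (hc : (v.baseChange A).comp φ₁.toLinearMap = φ₂.toLinearMap.comp (u.baseChange A))
    (hu : Function.Surjective u) (hv : Function.Surjective v) :
    ∀ y : N₂ × M₂', y ∈ EtMil.glue B' φ₂ → ∃ x : N₁ × M₁', x ∈ EtMil.glue B' φ₁ ∧ u x.1 = y.1 ∧ v x.2 = y.2 := by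
  rintro ⟨n₂, m₂'⟩ hy
  obtain ⟨n₁, rfl⟩ := hu n₂
  obtain ⟨m₁'', hm₁''⟩ := Groth.Agent.Lib.Helper56.Milnor.exists_mem_glue_fst φ₁ hsq n₁
  have h1 : (1 : A) ⊗ₜ[A'] v m₁'' = (1 : A) ⊗ₜ[A'] m₂' := by
    have e1 : (1 : A) ⊗ₜ[A'] v m₁'' = (v.baseChange A) ((1 : A) ⊗ₜ[A'] m₁'') := by
      rw [LinearMap.baseChange_tmul]
    have e2 := congrArg (fun f => f ((1 : A) ⊗ₜ[B] n₁)) hc
    simp only [LinearMap.comp_apply, LinearEquiv.coe_coe, LinearMap.baseChange_tmul] at e2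
    rw [e1, ← (Groth.Agent.Lib.Helper56.Milnor.mem_glue_iff φ₁ (n₁, m₁'')).mp hm₁'', e2]
    exact (Groth.Agent.Lib.Helper56.Milnor.mem_glue_iff φ₂ (u n₁, m₂')).mp hy
  have h2 : m₂' - v m₁'' ∈ RingHom.ker (algebraMap A' A) • (⊤ : Submodule A' M₂') :=
    Groth.Agent.Lib.Helper56.Milnor.mem_smul_top_of_one_tmul_eq_zero hsq.1 _
      (by rw [TensorProduct.tmul_sub, h1, sub_self])
  have h3 : ∃ x ∈ RingHom.ker (algebraMap A' A) • (⊤ : Submodule A' M₁'), v x = m₂' - v m₁'' := by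
    refine Submodule.smul_induction_on h2 ?_ ?_
    · intro i hi m _
      obtain ⟨m₁, rfl⟩ := hv m
      exact ⟨i • m₁, Submodule.smul_mem_smul hi trivial, map_smul v i m₁⟩
    · rintro a b ⟨xa, hxa, rfl⟩ ⟨xb, hxb, rfl⟩
      exact ⟨xa + xb, Submodule.add_mem _ hxa hxb, map_add v xa xb⟩
  obtain ⟨x, hx, hvx⟩ := h3
  refine ⟨(n₁, m₁'' + x), ?_, rfl, ?_⟩
  · have := Submodule.add_mem _ hm₁'' (Groth.Agent.Lib.Helper56.Milnor.zero_mem_glue φ₁ x hx)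
    simpa using this
  · change v (m₁'' + x) = m₂'
    rw [map_add, hvx]; abel

end Groth.Agent.S6899
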