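import Groth.Statements.S6904
import Mathlib
import Groth.Agent.Lib.Helper82.AcyclicDevissage
import Groth.Agent.Lib.Helper82.TensorExactFP
import Groth.Agent.Lib.Helper94.KFlatSymmInst
-- import your own Groth.Agent.* helpers here

set_option autoImplicit false
universe u
open CategoryTheory CategoryTheory.Limits MonoidalCategory
open DRing

namespace Groth.Agent.S6904

open HomologicalComplex
open Groth.Agent.Lib.Helper94.KFlatBi Groth.Agent.Lib.Helper94.KFlatAbs
  Groth.Agent.Lib.Helper94.KFlatTrunc Groth.Agent.Lib.Helper94.KFlatRing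
  Groth.Agent.Lib.Helper94.KFlatBdd Groth.Agent.Lib.Helper94.KFlatSymm
  Groth.Agent.Lib.Helper94.KFlatSymmInst
  Groth.Agent.Lib.Helper82.AcyclicDevissage Groth.Agent.Lib.Helper82.TensorExactFP

variable (R : Type u) [CommRing R]

/-- the hypothesis for finitely presented modules, in elementwise `lTensor` form -/
lemma exactAtTensor_of_hyp (K : DRing.Cx R) (M : Type u) [AddCommGroup M] [Module R M]
    (hK : ∀ i : ℤ, IsZero ((DRing.tensorCx K (ModuleCat.of R M)).homology i)) (p : ℤ) :
    ExactAtTensor (K.d (p - 1) p).hom (K.d p (p + 1)).hom M := by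
  have h1 := (exactAt_iff_isZero_homology _ p).2 (hK p)
  rw [exactAt_iff' _ (p - 1) p (p + 1) (by simp) (by simp),
    ShortComplex.moduleCat_exact_iff] at h1
  intro z hz
  obtain ⟨x₁, hx₁⟩ := h1 (TensorProduct.comm R M (K.X p) z) (by
    change LinearMap.rTensor M (K.d p (p + 1)).hom (TensorProduct.comm R M (K.X p) z) = 0
    rw [LinearMap.rTensor_comm, hz, map_zero])
  obtain ⟨x₁', hx₁'⟩ : ∃ x₁' : TensorProduct R (K.X (p - 1)) M, x₁' = x₁ := ⟨x₁, rfl⟩
  have hx₁'' : LinearMap.rTensor M (K.d (p - 1) p).hom x₁' = TensorProduct.comm R M (K.X p) z := by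
    rw [hx₁']
    exact hx₁
  refine ⟨(TensorProduct.comm R M (K.X (p - 1))).symm x₁', ?_⟩
  apply (TensorProduct.comm R M (K.X p)).injective
  rw [← LinearMap.rTensor_comm, LinearEquiv.apply_symm_apply]
  exact hx₁''

/-- Let `K•` be a complex of `R`-modules such that `K• ⊗_R M` is acyclic for every finitely presented
`R`-module `M`. Then `K•` is K-flat. -/
theorem result (R : Type u) [CommRing R] (K : DRing.Cx R)
    (hK : ∀ (M : Type u) [AddCommGroup M] [Module R M], Module.FinitePresentation R M →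
      (∀ i : ℤ, IsZero ((DRing.tensorCx K (ModuleCat.of R M)).homology i))) :
    (∀ L : DRing.Cx R, (∀ i : ℤ, IsZero (L.homology i)) → ∀ i : ℤ, IsZero ((L ⊗ K).homology i)) := by
  intro L _
  have hfp : ∀ (p : ℤ) (M : Type u) [AddCommGroup M] [Module R M],
      ExactAtTensor (K.d (p - 1) p).hom (K.d p (p + 1)).hom M := fun p M _ _ =>
    exactAtTensor_of_finitePresentation _ _
      (fun M' _ _ hM' => exactAtTensor_of_hyp R K M' (hK M' hM') p) M
  have key : ((Ψ₂ (curriedTensor (ModuleCat.{u} R)).flip K).obj L).Acyclic := by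
    have := preservesColimitsOfShape_Ψ₂ (curriedTensor (ModuleCat.{u} R)).flip (J := ℕ) K
    refine acyclic_obj_of_concentrated (Ψ₂ (curriedTensor (ModuleCat.{u} R)).flip K)
      (preservesSplit_Ψ₂ _ K) (fun L' q₀ hL' => ?_) L
    refine acyclic_mapBifunctor_of_concentrated (curriedTensor (ModuleCat.{u} R)).flip K L' q₀ hL'
      (fun p => ?_)
    rw [ShortComplex.moduleCat_exact_iff]
    exact hfp p (L'.X q₀)
  have h2 : (mapBifunctor L K (curriedTensor (ModuleCat.{u} R)) (ComplexShape.up ℤ)).Acyclic :=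
    acyclic_of_iso (mapBifunctorFlipIso L K (curriedTensor (ModuleCat.{u} R)) (ComplexShape.up ℤ)) key
  exact (acyclic_iff_isZero_homology _).1 h2

end Groth.Agent.S6904
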