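import Groth.Statements.S6906
import Groth.Agent.Lib.Helper46.DTenRelProj

set_option autoImplicit false
universe u
open CategoryTheory CategoryTheory.Limits MonoidalCategory
open DRing

namespace Groth.Agent.S6906

/-- For a ring map `φ : R → R'` and a K-flat complex `K•` of `R`-modules, the degreewise base change `K•
⊗_R R'` is K-flat over `R'`. -/
theorem result (R R' : Type u) [CommRing R] [CommRing R'] (φ : R →+* R') (K : DRing.Cx R)
    (hK : (∀ L : DRing.Cx R, (∀ i : ℤ, IsZero (L.homology i)) → ∀ i : ℤ, IsZero ((L ⊗ K).homology i))) :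
    ∀ L : DRing.Cx R', (∀ i : ℤ, IsZero (L.homology i)) →
      ∀ i : ℤ, IsZero ((L ⊗ ((ModuleCat.extendScalars φ).mapHomologicalComplex (ComplexShape.up ℤ)).obj K).homology i) := by
  intro L hL i
  have key : ∀ (X : DRing.Cx R') (j : ℤ),
      IsZero (((DTen.resCx φ).obj X).homology j) ↔ IsZero (X.homology j) := by
    intro X j
    rw [← HomologicalComplex.exactAt_iff_isZero_homology,
      ← HomologicalComplex.exactAt_iff_isZero_homology]
    exact ShortComplex.exact_map_iff_of_faithful (X.sc j) (ModuleCat.restrictScalars.{u} φ)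
  rw [← key]
  have h1 : ∀ j, IsZero (((DTen.resCx φ).obj L).homology j) := fun j => (key L j).2 (hL j)
  have h2 := hK ((DTen.resCx φ).obj L) h1 i
  let e : (DTen.resCx φ).obj L ⊗ K ≅
      (DTen.resCx φ).obj (L ⊗ ((ModuleCat.extendScalars φ).mapHomologicalComplex
        (ComplexShape.up ℤ)).obj K) :=
    DTen.braidCx _ _ ≪≫ asIso (Groth.Agent.Lib.Helper46.DTenRelProj.πhom φ K L) ≪≫
      (DTen.resCx φ).mapIso (DTen.braidCx _ _)
  exact h2.of_iso ((HomologicalComplex.homologyFunctor _ _ i).mapIso e.symm)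

end Groth.Agent.S6906
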