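import Groth.Statements.S6909
import Mathlib
-- import your own Groth.Agent.* helpers here

set_option autoImplicit false
universe u
open CAlg

namespace Groth.Agent.S6909

/-- a linear map whose values all lie in `I ^ k • ⊤` sends `I ^ r • ⊤` into `I ^ (r + k) • ⊤`. -/
theorem map_pow_smul_top {A : Type u} [CommRing A] (I : Ideal A) {M N : Type u} [AddCommGroup M]
    [Module A M] [AddCommGroup N] [Module A N] (h : M →ₗ[A] N) (k : ℕ)
    (hk : ∀ x, h x ∈ I ^ k • (⊤ : Submodule A N)) (r : ℕ) (a : M)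
    (ha : a ∈ I ^ r • (⊤ : Submodule A M)) : h a ∈ I ^ (r + k) • (⊤ : Submodule A N) := by
  refine Submodule.smul_induction_on ha ?_ ?_
  · intro i hi m _
    rw [map_smul, pow_add, Submodule.mul_smul]
    exact Submodule.smul_mem_smul hi (hk m)
  · intro x y hx hy
    rw [map_add]
    exact add_mem hx hy

theorem pow_smul_top_anti {A : Type u} [CommRing A] (I : Ideal A) {M : Type u} [AddCommGroup M]
    [Module A M] {m n : ℕ} (h : m ≤ n) :
    I ^ n • (⊤ : Submodule A M) ≤ I ^ m • (⊤ : Submodule A M) :=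
  Submodule.smul_mono_left (Ideal.pow_le_pow_right h)

/-- Let `A` be a Noetherian ring, `I ⊆ A` an ideal inside the Jacobson radical, and `L → M → N` two
complexes `(f, g)` and `(f', g')` of finite `A`-modules with `f' ≡ f` modulo `I^{c+1}M` and `g' ≡ g`
modulo `I^{c+1}N`. If `c` works in the Artin–Rees lemma for `f` and for `g` (that is `f(L) ∩ IⁿM ⊆
f(I^{n-c}L)` for `n ≥ c`, and likewise for `g`) and `(f, g)` is exact, then `c` works for `g'` and
`(f', g')` is exact. -/
theorem result {A : Type u} [CommRing A] [IsNoetherianRing A] (I : Ideal A)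
    (hI : I ≤ Ideal.jacobson (⊥ : Ideal A)) {L M N : Type u} [AddCommGroup L] [Module A L] [Module.Finite A L]
    [AddCommGroup M] [Module A M] [Module.Finite A M] [AddCommGroup N] [Module A N] [Module.Finite A N]
    (f f' : L →ₗ[A] M) (g g' : M →ₗ[A] N) (c : ℕ) (hgf : g.comp f = 0) (hgf' : g'.comp f' = 0)
    (hf : (∀ n : ℕ, c ≤ n → LinearMap.range f ⊓ (I ^ n • (⊤ : Submodule A M)) ≤ Submodule.map f (I ^ (n - c) • (⊤ : Submodule A L))))
    (hg : (∀ n : ℕ, c ≤ n → LinearMap.range g ⊓ (I ^ n • (⊤ : Submodule A N)) ≤ Submodule.map g (I ^ (n - c) • (⊤ : Submodule A M))))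
    (hex : Function.Exact f g)
    (hff' : ∀ x : L, f x - f' x ∈ I ^ (c + 1) • (⊤ : Submodule A M))
    (hgg' : ∀ y : M, g y - g' y ∈ I ^ (c + 1) • (⊤ : Submodule A N)) :
    (∀ n : ℕ, c ≤ n → LinearMap.range g' ⊓ (I ^ n • (⊤ : Submodule A N)) ≤ Submodule.map g' (I ^ (n - c) • (⊤ : Submodule A M))) ∧
    Function.Exact f' g' := by
  classical
  have hg'f' : ∀ b, g' (f' b) = 0 := fun b => LinearMap.congr_fun hgf' b
  -- the improvement step
  have step : ∀ (n : ℕ), c ≤ n → ∀ (r : ℕ), r + c + 1 ≤ n → ∀ a₀ : M,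
      a₀ ∈ I ^ r • (⊤ : Submodule A M) → g' a₀ ∈ I ^ n • (⊤ : Submodule A N) →
      ∃ b : L, a₀ - f' b ∈ I ^ (r + 1) • (⊤ : Submodule A M) := by
    intro n hn r hr a₀ ha₀ hga₀
    -- g a₀ ∈ I^{r+c+1} N
    have h1 : (g - g') a₀ ∈ I ^ (r + (c + 1)) • (⊤ : Submodule A N) :=
      map_pow_smul_top I (g - g') (c + 1) (fun y => hgg' y) r a₀ ha₀
    have h2 : g a₀ ∈ I ^ (r + c + 1) • (⊤ : Submodule A N) := by
      have : g a₀ = g' a₀ + (g - g') a₀ := by simp
      rw [this]
      exact add_mem (pow_smul_top_anti I hr hga₀) (by rwa [add_assoc])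
    have h3 := hg (r + c + 1) (by omega) ⟨⟨a₀, rfl⟩, h2⟩
    obtain ⟨a₁, ha₁, hga₁⟩ := h3
    have hrc : r + c + 1 - c = r + 1 := by omega
    rw [hrc] at ha₁
    -- a₀ - a₁ ∈ ker g = range f
    have h4 : g (a₀ - a₁) = 0 := by rw [map_sub, hga₁, sub_self]
    obtain ⟨b, hb⟩ := (hex (a₀ - a₁)).mp h4
    have hfb : f b ∈ I ^ r • (⊤ : Submodule A M) := by
      rw [hb]
      exact sub_mem ha₀ (pow_smul_top_anti I (Nat.le_succ r) ha₁)
    by_cases hrc' : c ≤ r
    · -- improve `b` by Artin–Rees for `f`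
      obtain ⟨b', hb', hfb'⟩ := hf r hrc' ⟨⟨b, rfl⟩, hfb⟩
      refine ⟨b', ?_⟩
      have h5 : (f - f') b' ∈ I ^ (r - c + (c + 1)) • (⊤ : Submodule A M) :=
        map_pow_smul_top I (f - f') (c + 1) (fun y => hff' y) (r - c) b' hb'
      have h6 : r - c + (c + 1) = r + 1 := by omega
      rw [h6] at h5
      have : a₀ - f' b' = (f - f') b' + a₁ := by
        have : f b' = a₀ - a₁ := by rw [hfb', hb]
        simp only [LinearMap.sub_apply]
        rw [this]; abel
      rw [this]
      exact add_mem h5 ha₁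
    · refine ⟨b, ?_⟩
      have h5 : (f - f') b ∈ I ^ (c + 1) • (⊤ : Submodule A M) := hff' b
      have : a₀ - f' b = (f - f') b + a₁ := by
        simp only [LinearMap.sub_apply]
        rw [hb]; abel
      rw [this]
      exact add_mem (pow_smul_top_anti I (by omega) h5) ha₁
  -- the main claim
  have claim : ∀ (n : ℕ), c ≤ n → ∀ a : M, g' a ∈ I ^ n • (⊤ : Submodule A N) →
      ∀ r : ℕ, r + c ≤ n → ∃ b : L, a - f' b ∈ I ^ r • (⊤ : Submodule A M) := by
    intro n hn a hga r
    induction r with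
    | zero => intro _; exact ⟨0, by simp⟩
    | succ r ih =>
      intro hr
      obtain ⟨b₀, hb₀⟩ := ih (by omega)
      have hg0 : g' (a - f' b₀) ∈ I ^ n • (⊤ : Submodule A N) := by
        rw [map_sub, hg'f', sub_zero]; exact hga
      obtain ⟨b, hb⟩ := step n hn r (by omega) (a - f' b₀) hb₀ hg0
      refine ⟨b₀ + b, ?_⟩
      have : a - f' (b₀ + b) = a - f' b₀ - f' b := by rw [map_add]; abel
      rw [this]
      exact hb
  constructor
  · intro n hn y hy
    obtain ⟨⟨a, rfl⟩, hy2⟩ := hy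
    obtain ⟨b, hb⟩ := claim n hn a hy2 (n - c) (by omega)
    refine ⟨a - f' b, hb, ?_⟩
    rw [map_sub, hg'f', sub_zero]
  · intro a
    constructor
    · intro ha
      -- Krull intersection on M ⧸ range f'
      have hkrull := Ideal.iInf_pow_smul_eq_bot_of_le_jacobson (M := M ⧸ LinearMap.range f') I hI
      have hmem : (LinearMap.range f').mkQ a ∈
          (⨅ i : ℕ, I ^ i • ⊤ : Submodule A (M ⧸ LinearMap.range f')) := by
        rw [Submodule.mem_iInf]
        intro i
        obtain ⟨b, hb⟩ := claim (i + c) (by omega) a (by rw [ha]; exact zero_mem _) i le_rfl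
        have h1 : (LinearMap.range f').mkQ a = (LinearMap.range f').mkQ (a - f' b) := by
          rw [map_sub]
          have : (LinearMap.range f').mkQ (f' b) = 0 := by
            rw [Submodule.mkQ_apply, Submodule.Quotient.mk_eq_zero]
            exact ⟨b, rfl⟩
          rw [this, sub_zero]
        rw [h1]
        have h2 := Submodule.mem_map_of_mem (f := (LinearMap.range f').mkQ) hb
        rw [Submodule.map_smul'', Submodule.map_top, Submodule.range_mkQ] at h2
        exact h2
      rw [hkrull, Submodule.mem_bot, Submodule.mkQ_apply, Submodule.Quotient.mk_eq_zero] at hmem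
      exact hmem
    · rintro ⟨b, rfl⟩
      exact hg'f' b

end Groth.Agent.S6909
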