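import Groth.Statements.S6910
import Mathlib
import Groth.Agent.S6909
-- import your own Groth.Agent.* helpers here

set_option autoImplicit false
universe u
open CAlg

namespace Groth.Agent.S6910


open Groth.Agent.S6909 in
/-- one inclusion, for maps `g`, `g'` congruent mod `I^{c+1}` with Artin–Rees constant `c` for `g` -/
theorem half {A : Type u} [CommRing A] (I : Ideal A) {M N : Type u}
    [AddCommGroup M] [Module A M] [AddCommGroup N] [Module A N]
    (g g' : M →ₗ[A] N) (c : ℕ)
    (hg : (∀ n : ℕ, c ≤ n → LinearMap.range g ⊓ (I ^ n • (⊤ : Submodule A N)) ≤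
      Submodule.map g (I ^ (n - c) • (⊤ : Submodule A M))))
    (hgg' : ∀ y : M, g y - g' y ∈ I ^ (c + 1) • (⊤ : Submodule A N)) (n : ℕ) :
    I ^ (n + 1) • (⊤ : Submodule A N) ⊔ (LinearMap.range g ⊓ I ^ n • (⊤ : Submodule A N)) ≤
      I ^ (n + 1) • (⊤ : Submodule A N) ⊔ (LinearMap.range g' ⊓ I ^ n • (⊤ : Submodule A N)) := by
  refine sup_le le_sup_left ?_
  rintro x ⟨⟨y, rfl⟩, hx⟩
  -- find y' with g y' = g y and (g - g') y' ∈ I^{n+1}
  have key : ∃ y' : M, g y' = g y ∧ (g - g') y' ∈ I ^ (n + 1) • (⊤ : Submodule A N) := by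
    by_cases hn : c ≤ n
    · obtain ⟨y', hy', hgy'⟩ := hg n hn ⟨⟨y, rfl⟩, hx⟩
      refine ⟨y', hgy', ?_⟩
      have := map_pow_smul_top I (g - g') (c + 1) (fun z => hgg' z) (n - c) y' hy'
      have h2 : n - c + (c + 1) = n + 1 := by omega
      rwa [h2] at this
    · refine ⟨y, rfl, ?_⟩
      exact pow_smul_top_anti I (by omega) (hgg' y)
  obtain ⟨y', hgy', hd⟩ := key
  have hsplit : g y = (g - g') y' + g' y' := by
    rw [LinearMap.sub_apply, hgy']; abel
  rw [hsplit]
  refine Submodule.add_mem _ (Submodule.mem_sup_left hd) (Submodule.mem_sup_right ⟨⟨y', rfl⟩, ?_⟩)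
  have : g' y' = g y - (g - g') y' := by rw [hsplit]; abel
  rw [this]
  exact Submodule.sub_mem _ hx (pow_smul_top_anti I (Nat.le_succ n) hd)

/-- Let `A` be a Noetherian ring, `I ⊆ A` an ideal inside the Jacobson radical, and `L → M → N` two
complexes `(f, g)` and `(f', g')` of finite `A`-modules with `f' ≡ f` modulo `I^{c+1}M` and `g' ≡ g`
modulo `I^{c+1}N`, such that the Artin–Rees bound holds with constant `c` for both `f` and `g`, and
`(f, g)` is exact. Then for every `n` the submodules `I^{n+1}N + g(M) ∩ IⁿN` and `I^{n+1}N + g'(M) ∩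
IⁿN` of `N` are equal; consequently the associated graded modules of `Coker g` and `Coker g'` with
respect to `I` coincide degreewise as subquotients of `N`. -/
theorem result {A : Type u} [CommRing A] [IsNoetherianRing A] (I : Ideal A)
    (hI : I ≤ Ideal.jacobson (⊥ : Ideal A)) {L M N : Type u} [AddCommGroup L] [Module A L] [Module.Finite A L]
    [AddCommGroup M] [Module A M] [Module.Finite A M] [AddCommGroup N] [Module A N] [Module.Finite A N]
    (f f' : L →ₗ[A] M) (g g' : M →ₗ[A] N) (c : ℕ) (hgf : g.comp f = 0) (hgf' : g'.comp f' = 0)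
    (hf : (∀ n : ℕ, c ≤ n → LinearMap.range f ⊓ (I ^ n • (⊤ : Submodule A M)) ≤ Submodule.map f (I ^ (n - c) • (⊤ : Submodule A L))))
    (hg : (∀ n : ℕ, c ≤ n → LinearMap.range g ⊓ (I ^ n • (⊤ : Submodule A N)) ≤ Submodule.map g (I ^ (n - c) • (⊤ : Submodule A M))))
    (hex : Function.Exact f g)
    (hff' : ∀ x : L, f x - f' x ∈ I ^ (c + 1) • (⊤ : Submodule A M))
    (hgg' : ∀ y : M, g y - g' y ∈ I ^ (c + 1) • (⊤ : Submodule A N)) (n : ℕ) :
    I ^ (n + 1) • (⊤ : Submodule A N) ⊔ (LinearMap.range g ⊓ I ^ n • (⊤ : Submodule A N)) =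
      I ^ (n + 1) • (⊤ : Submodule A N) ⊔ (LinearMap.range g' ⊓ I ^ n • (⊤ : Submodule A N)) := by
  have h9 := Groth.Agent.S6909.result I hI f f' g g' c hgf hgf' hf hg hex hff' hgg'
  apply le_antisymm
  · exact half I g g' c hg hgg' n
  · refine half I g' g c h9.1 (fun y => ?_) n
    have := hgg' y
    rw [← neg_sub]
    exact Submodule.neg_mem _ this

end Groth.Agent.S6910
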