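import Groth.Statements.S6911
import Mathlib.RingTheory.Flat.Equalizer
import Mathlib.LinearAlgebra.TensorProduct.Tower

set_option autoImplicit false
universe u
open TensorProduct
open CAlg

namespace Groth.Agent.S6911

section
variable {A B : Type u} [CommRing A] [CommRing B] [Algebra A B]
variable {M : Type u} [AddCommGroup M] [Module A M]

theorem baseChange_sup_le (P Q : Submodule A M) :
    (P ⊔ Q).baseChange B ≤ P.baseChange B ⊔ Q.baseChange B := by
  rw [Submodule.baseChange_eq_span, Submodule.map_sup, Submodule.span_le]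
  intro z hz
  obtain ⟨p, hp, q, hq, rfl⟩ := Submodule.mem_sup.mp hz
  refine Submodule.add_mem_sup ?_ ?_
  · obtain ⟨m, hm, rfl⟩ := hp
    exact Submodule.tmul_mem_baseChange_of_mem 1 hm
  · obtain ⟨m, hm, rfl⟩ := hq
    exact Submodule.tmul_mem_baseChange_of_mem 1 hm

theorem baseChange_pow_smul_top_le (I : Ideal A) (k : ℕ) :
    ((I ^ k • (⊤ : Submodule A M)).baseChange B) ≤
      (I.map (algebraMap A B)) ^ k • (⊤ : Submodule B (B ⊗[A] M)) := by
  rw [Submodule.baseChange_eq_span, Submodule.span_le]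
  rintro _ ⟨m, hm, rfl⟩
  rw [SetLike.mem_coe] at hm ⊢
  refine Submodule.smul_induction_on hm (fun a ha m _ => ?_) (fun x y hx hy => ?_)
  · have : (TensorProduct.mk A B M 1) (a • m) = algebraMap A B a • ((1 : B) ⊗ₜ[A] m) := by
      rw [TensorProduct.mk_apply, TensorProduct.tmul_smul, algebraMap_smul]
    rw [this]
    refine Submodule.smul_mem_smul ?_ Submodule.mem_top
    rw [← Ideal.map_pow]
    exact Ideal.mem_map_of_mem _ ha
  · rw [map_add]
    exact Submodule.add_mem _ hx hy

theorem pow_map_smul_top_le_ker (I : Ideal A) (n : ℕ) {Q : Type u} [AddCommGroup Q] [Module A Q]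
    (hQ : ∀ a ∈ I ^ n, ∀ q : Q, a • q = 0) (z : B ⊗[A] Q) (b : B)
    (hb : b ∈ (I.map (algebraMap A B)) ^ n) : b • z = 0 := by
  rw [← Ideal.map_pow] at hb
  refine Submodule.span_induction (p := fun b _ => b • z = 0) ?_ ?_ ?_ ?_ hb
  · rintro _ ⟨a, ha, rfl⟩
    induction z using TensorProduct.induction_on with
    | zero => simp
    | tmul b' q =>
      rw [TensorProduct.smul_tmul', smul_eq_mul, ← Algebra.smul_def,
        TensorProduct.smul_tmul, hQ a ha q, TensorProduct.tmul_zero]
    | add x y hx hy => rw [smul_add, hx, hy, add_zero]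
  · simp
  · intro x y _ _ hx hy
    rw [add_smul, hx, hy, add_zero]
  · intro c x _ hx
    rw [smul_eq_mul, mul_smul, hx, smul_zero]
end

/-- Let `A → B` be a flat map of Noetherian rings, `I ⊆ A` an ideal and `f : M → N` a map of finite
`A`-modules such that `c` works for `f` in the Artin–Rees lemma (`f(M) ∩ IⁿN ⊆ f(I^{n-c}M)` for `n ≥
c`). Then `c` works for `f ⊗ 1 : M ⊗_A B → N ⊗_A B` and the ideal `IB`. -/
theorem result {A B : Type u} [CommRing A] [IsNoetherianRing A] [CommRing B]
    [IsNoetherianRing B] [Algebra A B] [Module.Flat A B] (I : Ideal A) {M N : Type u} [AddCommGroup M] [Module A M]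
    [Module.Finite A M] [AddCommGroup N] [Module A N] [Module.Finite A N] (f : M →ₗ[A] N) (c : ℕ)
    (hf : (∀ n : ℕ, c ≤ n → LinearMap.range f ⊓ (I ^ n • (⊤ : Submodule A N)) ≤ Submodule.map f (I ^ (n - c) • (⊤ : Submodule A M)))) :
    ∀ n : ℕ, c ≤ n →
      LinearMap.range (f.baseChange B) ⊓ ((I.map (algebraMap A B)) ^ n • (⊤ : Submodule B (B ⊗[A] N))) ≤
        Submodule.map (f.baseChange B) ((I.map (algebraMap A B)) ^ (n - c) • (⊤ : Submodule B (B ⊗[A] M))) := by
  intro n hn
  let π : N →ₗ[A] N ⧸ (I ^ n • (⊤ : Submodule A N)) := (I ^ n • (⊤ : Submodule A N)).mkQ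
  let g : M →ₗ[A] N ⧸ (I ^ n • (⊤ : Submodule A N)) := π ∘ₗ f
  have hker : LinearMap.ker g ≤ I ^ (n - c) • (⊤ : Submodule A M) ⊔ LinearMap.ker f := by
    intro m hm
    have hm' : f m ∈ I ^ n • (⊤ : Submodule A N) := by
      have : π (f m) = 0 := hm
      simpa [π] using this
    obtain ⟨m', hm'1, hm'2⟩ := hf n hn ⟨⟨m, rfl⟩, hm'⟩
    have : m = m' + (m - m') := by abel
    rw [this]
    refine Submodule.add_mem_sup hm'1 ?_
    rw [LinearMap.mem_ker, map_sub, hm'2, sub_self]
  have hflat : LinearMap.ker (g.baseChange B) = (LinearMap.ker g).baseChange B :=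
    Module.Flat.ker_lTensor_eq B B g
  have hQ : ∀ a ∈ I ^ n, ∀ q : N ⧸ (I ^ n • (⊤ : Submodule A N)), a • q = 0 := by
    intro a ha q
    obtain ⟨x, rfl⟩ := Submodule.mkQ_surjective _ q
    rw [← map_smul, Submodule.mkQ_apply, Submodule.Quotient.mk_eq_zero]
    exact Submodule.smul_mem_smul ha Submodule.mem_top
  rintro z ⟨⟨y, rfl⟩, hz⟩
  have hy : y ∈ LinearMap.ker (g.baseChange B) := by
    rw [LinearMap.mem_ker]
    have hcomp : g.baseChange B = π.baseChange B ∘ₗ f.baseChange B :=
      LinearMap.baseChange_comp _ _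
    rw [hcomp, LinearMap.comp_apply]
    refine Submodule.smul_induction_on hz (fun b hb w _ => ?_) (fun x y hx hy => ?_)
    · rw [map_smul]
      exact pow_map_smul_top_le_ker I n hQ _ b hb
    · rw [map_add, hx, hy, add_zero]
  rw [hflat] at hy
  have hy2 := baseChange_sup_le (B := B) _ _ (Submodule.baseChange_mono B hker hy)
  obtain ⟨y1, hy1, y2, hy2', rfl⟩ := Submodule.mem_sup.mp hy2
  have hy1' := baseChange_pow_smul_top_le (B := B) (M := M) I (n - c) hy1
  have hy2'' : f.baseChange B y2 = 0 := by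
    have : (LinearMap.ker f).baseChange B ≤ LinearMap.ker (f.baseChange B) := by
      rw [Submodule.baseChange_eq_span, Submodule.span_le]
      rintro _ ⟨m, hm, rfl⟩
      rw [SetLike.mem_coe, LinearMap.mem_ker, TensorProduct.mk_apply, LinearMap.baseChange_tmul,
        LinearMap.mem_ker.mp hm, TensorProduct.tmul_zero]
    exact this hy2'
  refine ⟨y1, hy1', ?_⟩
  rw [map_add, hy2'', add_zero]

end Groth.Agent.S6911
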