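import Groth.Statements.S6912
import Mathlib.LinearAlgebra.Dimension.Localization
import Mathlib.LinearAlgebra.Dimension.Constructions
import Mathlib.LinearAlgebra.FreeModule.Finite.Matrix
import Mathlib.RingTheory.Localization.BaseChange
import Mathlib.RingTheory.Localization.Finiteness
import Mathlib.LinearAlgebra.TensorProduct.Tower

set_option autoImplicit false
universe u
open TensorProduct
open CAlg

namespace Groth.Agent.S6912

open nonZeroDivisors

theorem rank_tensor_frac (R : Type u) [CommRing R] [IsDomain R] (P : Type u)
    [AddCommGroup P] [Module R P] :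
    Module.rank (FractionRing R) (FractionRing R ⊗[R] P) = Module.rank R P := by
  rw [IsLocalization.rank_eq (FractionRing R) R⁰ le_rfl]
  exact IsLocalizedModule.rank_eq R⁰ le_rfl (TensorProduct.mk R (FractionRing R) P 1)

theorem rank_localized_frac (R : Type u) [CommRing R] [IsDomain R] (P : Type u)
    [AddCommGroup P] [Module R P] :
    Module.rank (FractionRing R) (LocalizedModule R⁰ P) = Module.rank R P := by
  rw [IsLocalization.rank_eq (FractionRing R) R⁰ le_rfl]
  exact IsLocalizedModule.rank_eq R⁰ le_rfl (LocalizedModule.mkLinearMap R⁰ P)

/-- Let `R` be a domain and `M`, `N` two `R`-modules; rank means dimension over the fraction field after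
base change. Then `rank (M ⊗_R N) = rank M · rank N`, and when `M` is finitely presented also `rank
Hom_R(M, N) = rank M · rank N`. -/
theorem result (R : Type u) [CommRing R] [IsDomain R] (M N : Type u)
    [AddCommGroup M] [Module R M] [AddCommGroup N] [Module R N] :
    Module.rank R (M ⊗[R] N) = Module.rank R M * Module.rank R N ∧
    (Module.FinitePresentation R M → Module.rank R (M →ₗ[R] N) = Module.rank R M * Module.rank R N) := by
  constructor
  · rw [← rank_tensor_frac R (M ⊗[R] N), ← rank_tensor_frac R M, ← rank_tensor_frac R N,
      (TensorProduct.AlgebraTensorModule.distribBaseChange R (FractionRing R) M N).rank_eq,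
      rank_tensorProduct']
  · intro hM
    have h1 : Module.rank R (LocalizedModule R⁰ M →ₗ[FractionRing R] LocalizedModule R⁰ N) =
        Module.rank R (M →ₗ[R] N) :=
      IsLocalizedModule.rank_eq R⁰ le_rfl (LocalizedModule.map R⁰ (M := M) (N := N))
    rw [← h1, ← IsLocalization.rank_eq (FractionRing R) R⁰ le_rfl, Module.rank_linearMap,
      Cardinal.lift_id, Cardinal.lift_id, rank_localized_frac, rank_localized_frac]

end Groth.Agent.S6912
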