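import Groth.Statements.S6915
import Mathlib
import Groth.Agent.Lib.Helper45.BlowupAlg
import Groth.Agent.S6895

set_option autoImplicit false
universe u
open TensorProduct
open Fitt

namespace Groth.Agent.S6915

open Groth.Agent.Lib.Helper45 Groth.Agent.Lib.Helper45.Fitting


/-- Let `M` be a finite `R`-module, `k ≥ 0` and `I = Fit_k(M)`, and assume `M_𝔭` is free of rank `k` for
every prime `𝔭` not containing `I`. Then for every `a ∈ I` and (a copy `R₁` of) the affine blow-up
algebra `R[I/a]`, the strict transform `M' = (M ⊗_R R₁)/(a-power torsion)` is finite locally free of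
rank `k`: every prime of `R₁` has a basic open neighbourhood over which `M'` is free of rank `k`. -/
theorem result {R : Type u} [CommRing R] (M : Type u) [AddCommGroup M]
    [Module R M] [Module.Finite R M] (k : ℕ)
    (hfree : ∀ (p : Ideal R) [p.IsPrime], ¬ Fitt.ideal R M k ≤ p →
      Module.Free (Localization.AtPrime p) (LocalizedModule p.primeCompl M) ∧
        Module.finrank (Localization.AtPrime p) (LocalizedModule p.primeCompl M) = k)
    (a : R) (ha : a ∈ Fitt.ideal R M k) (R₁ : Type u) [CommRing R₁] [Algebra R R₁] (e : R₁ ≃ₐ[R] ↥(BlowUp.affineAlgebra R (Fitt.ideal R M k) a)) :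
    ∀ (p' : Ideal R₁) [p'.IsPrime], ∃ g : R₁, g ∉ p' ∧
      Module.Free (Localization.Away g) (LocalizedModule (Submonoid.powers g) ((R₁ ⊗[R] M) ⧸ FlatCA.powTorsion R₁ (algebraMap R R₁ a) (R₁ ⊗[R] M))) ∧
      Module.finrank (Localization.Away g) (LocalizedModule (Submonoid.powers g) ((R₁ ⊗[R] M) ⧸ FlatCA.powTorsion R₁ (algebraMap R R₁ a) (R₁ ⊗[R] M))) = k := by
  have hnzd := BlowupAlg.algebraMap_mem_nonZeroDivisors (Fitt.ideal R M k) a e
  have hmap := BlowupAlg.map_eq_span (Fitt.ideal R M k) a e ha
  have hk : Fitt.ideal R₁ (R₁ ⊗[R] M) k = Ideal.span {algebraMap R R₁ a} := by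
    rw [fitt_baseChange, hmap]
  have hfree' : ∀ (p : Ideal R) [p.IsPrime], a ∉ p →
      Module.Free (Localization.AtPrime p) (LocalizedModule p.primeCompl M) ∧
        Module.finrank (Localization.AtPrime p) (LocalizedModule p.primeCompl M) = k := by
    intro p _ hap
    exact hfree p (fun hle => hap (hle ha))
  apply (Groth.Agent.S6895.result
    ((R₁ ⊗[R] M) ⧸ FlatCA.powTorsion R₁ (algebraMap R R₁ a) (R₁ ⊗[R] M)) k).mpr
  constructor
  · intro i hi
    apply fitt_quot_powTorsion_eq_bot (algebraMap R R₁ a) i hnzd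
    intro d hd
    rw [fitt_baseChange] at hd
    exact exists_pow_mul_eq_zero_of_mem_map (algebraMap R R₁) _ a
      (fun d hd => exists_pow_mul_eq_zero_of_free k a hfree' i hi d hd) d hd
  · intro i hi
    exact fitt_quot_powTorsion_eq_top (algebraMap R R₁ a) k hnzd hk i hi

end Groth.Agent.S6915
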