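import Groth.Statements.S6917
import Groth.Agent.Lib.Helper56.MilnorSpec
import Mathlib.Topology.Category.TopCat.Limits.Basic
import Mathlib.CategoryTheory.Limits.Types.Pushouts
import Mathlib.CategoryTheory.Limits.Preserves.Shapes.Pullbacks

set_option autoImplicit false
universe u
open CategoryTheory
open EtAlg

namespace Groth.Agent.S6917

open Limits

/-- A commutative square in `TopCat` which is a pushout of sets and carries the quotient topology
is a pushout. -/
theorem isPushout_of_forget {X Y Z W : TopCat.{u}} (f : X ⟶ Y) (g : X ⟶ Z) (inl : Y ⟶ W)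
    (inr : Z ⟶ W) (w : f ≫ inl = g ≫ inr)
    (hT : IsPushout ((forget TopCat).map f) ((forget TopCat).map g) ((forget TopCat).map inl)
      ((forget TopCat).map inr))
    (hclosed : ∀ s : Set W, IsClosed (inl ⁻¹' s) → IsClosed (inr ⁻¹' s) → IsClosed s) :
    IsPushout f g inl inr := by
  refine ⟨⟨w⟩, ?_⟩
  have hc : IsColimit ((forget TopCat).mapCocone (PushoutCocone.mk inl inr w)) :=
    (isColimitMapCoconePushoutCoconeEquiv (forget TopCat) w).symm hT.isColimit
  rw [TopCat.nonempty_isColimit_iff_eq_coinduced _ hc]
  apply le_antisymm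
  · intro s hs
    rw [isOpen_iSup_iff] at hs
    have h1 : IsOpen (inl ⁻¹' (s : Set W)) := isOpen_coinduced.mp (hs WalkingSpan.left)
    have h2 : IsOpen (inr ⁻¹' (s : Set W)) := isOpen_coinduced.mp (hs WalkingSpan.right)
    have h3 : IsClosed ((s : Set W)ᶜ) :=
      hclosed ((s : Set W)ᶜ) (by rw [Set.preimage_compl]; exact h1.isClosed_compl)
        (by rw [Set.preimage_compl]; exact h2.isClosed_compl)
    exact isClosed_compl_iff.mp h3
  · refine iSup_le fun j => ?_
    rw [← continuous_iff_coinduced_le]
    exact ((PushoutCocone.mk inl inr w).ι.app j).hom.continuous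

/-- Let `B' = B ×_A A'` be a fibre square of rings with `A' → A` surjective. Then `Spec(B') = Spec(B)
⨿_{Spec(A)} Spec(A')`: the square of prime spectra is a pushout of topological spaces. -/
theorem result (B' B A' A : Type u) [CommRing B'] [CommRing B] [CommRing A'] [CommRing A]
    [Algebra B' B] [Algebra B' A'] [Algebra B A] [Algebra A' A] [Algebra B' A] [IsScalarTower B' B A] [IsScalarTower B' A' A]
    (hsq : EtMil.IsFibreSquare B' B A' A) :
    IsPushout (TopCat.ofHom (ContinuousMap.mk (PrimeSpectrum.comap (algebraMap B A)) (PrimeSpectrum.continuous_comap _))) (TopCat.ofHom (ContinuousMap.mk (PrimeSpectrum.comap (algebraMap A' A)) (PrimeSpectrum.continuous_comap _)))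
      (TopCat.ofHom (ContinuousMap.mk (PrimeSpectrum.comap (algebraMap B' B)) (PrimeSpectrum.continuous_comap _)))
      (TopCat.ofHom (ContinuousMap.mk (PrimeSpectrum.comap (algebraMap B' A')) (PrimeSpectrum.continuous_comap _))) := by
  open Groth.Agent.Lib.Helper56.Milnor in
  have w : (TopCat.ofHom (ContinuousMap.mk (PrimeSpectrum.comap (algebraMap B A))
        (PrimeSpectrum.continuous_comap _))) ≫
      (TopCat.ofHom (ContinuousMap.mk (PrimeSpectrum.comap (algebraMap B' B))
        (PrimeSpectrum.continuous_comap _))) =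
      (TopCat.ofHom (ContinuousMap.mk (PrimeSpectrum.comap (algebraMap A' A))
        (PrimeSpectrum.continuous_comap _))) ≫
      (TopCat.ofHom (ContinuousMap.mk (PrimeSpectrum.comap (algebraMap B' A'))
        (PrimeSpectrum.continuous_comap _))) :=
    ConcreteCategory.hom_ext _ _ (fun x => spec_comm (B' := B') (B := B) (A' := A') (A := A) x)
  apply isPushout_of_forget _ _ _ _ w
  · have hmono : Mono ((forget TopCat).map (TopCat.ofHom (ContinuousMap.mk
        (PrimeSpectrum.comap (algebraMap B' B)) (PrimeSpectrum.continuous_comap _)))) := by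
      rw [mono_iff_injective]
      exact PrimeSpectrum.comap_injective_of_surjective _ (surjB (A' := A') (A := A) hsq)
    refine Types.isPushout_of_isPullback_of_mono' ?_ ?_ ?_
    · rw [Types.isPullback_iff]
      refine ⟨?_, ?_, ?_⟩
      · rw [← Functor.map_comp, ← Functor.map_comp, w]
      · rintro x y ⟨-, h⟩
        exact PrimeSpectrum.comap_injective_of_surjective _ hsq.1 h
      · intro 𝔮 𝔭' h
        exact exists_of_comap_eq hsq 𝔮 𝔭' h
    · rw [Set.eq_univ_iff_forall]
      intro 𝔭
      by_cases hJ : RingHom.ker (algebraMap B' B) ≤ 𝔭.asIdeal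
      · left; exact exists_comap_B_eq hsq 𝔭 hJ
      · right; exact exists_comap_A'_eq hsq 𝔭 hJ
    · intro x y hx hy hxy
      have hx' : ¬ RingHom.ker (algebraMap A' A) ≤ x.asIdeal := by
        intro hle
        apply hx
        have : x ∈ Set.range (PrimeSpectrum.comap (algebraMap A' A)) := by
          rw [_root_.range_comap_of_surjective _ _ hsq.1]; exact hle
        exact this
      exact comap_A'_inj hsq x y hx' hxy
  · intro Z hZB hZA
    exact isClosed_of_isClosed_preimage hsq Z hZB hZA

end Groth.Agent.S6917
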