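import Groth.Statements.S6918
import Groth.Agent.Lib.Helper83.FlatLoc
import Mathlib.RingTheory.Flat.Stability

set_option autoImplicit false
universe u
open FlatMor

namespace Groth.Agent.S6918

open TensorProduct

/-- Let `R → S` be a ring map, `J ⊆ S` an ideal, `M` an `S`-module, `I ⊆ R` an ideal, `R → R'` a ring
map and `I' ⊇ IR'`; put `S' = S ⊗_R R'`, `M' = M ⊗_R R'`. If `M_𝔮` is flat over `R` for all primes
`𝔮 ⊇ IS + J` of `S`, then `M'_{𝔮'}` is flat over `R'` for all primes `𝔮' ⊇ I'S' + JS'` of `S'`. (The
published statement passes from an arbitrary pair `(R', I')` over `R` to a further pair `(R'',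
I'')`; this row takes the first pair to be `(R, I)`.) -/
theorem result {R S R' S' : Type u} [CommRing R] [CommRing S] [CommRing R'] [CommRing S']
    [Algebra R S] [Algebra R R'] [Algebra S S'] [Algebra R' S'] [Algebra R S'] [IsScalarTower R S S']
    [IsScalarTower R R' S'] [Algebra.IsPushout R S R' S']
    (I : Ideal R) (I' : Ideal R') (hII' : I.map (algebraMap R R') ≤ I')
    {M M' : Type u} [AddCommGroup M] [Module S M] [Module R M] [IsScalarTower R S M]
    [AddCommGroup M'] [Module S' M'] [Module R' M'] [IsScalarTower R' S' M'] [Module S M'] [IsScalarTower S S' M']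
    (f : M →ₗ[S] M') (hf : IsBaseChange S' f) (J : Ideal S)
    (h : (∀ (q : Ideal S) [q.IsPrime], I.map (algebraMap R S) ⊔ J ≤ q → FlatCA.FlatAt R q M)) :
    (∀ (q : Ideal S') [q.IsPrime], I'.map (algebraMap R' S') ⊔ J.map (algebraMap S S') ≤ q → FlatCA.FlatAt R' q M') := by
  intro q' _ hq'
  have hqprime : (q'.comap (algebraMap S S')).IsPrime := Ideal.comap_isPrime _ _
  have hq : I.map (algebraMap R S) ⊔ J ≤ q'.comap (algebraMap S S') := by
    refine sup_le ?_ ?_
    · rw [Ideal.map_le_iff_le_comap]
      intro r hr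
      change algebraMap S S' (algebraMap R S r) ∈ q'
      rw [← IsScalarTower.algebraMap_apply R S S', IsScalarTower.algebraMap_apply R R' S']
      exact hq' (Ideal.mem_sup_left (Ideal.mem_map_of_mem _ (hII' (Ideal.mem_map_of_mem _ hr))))
    · intro s hs
      exact hq' (Ideal.mem_sup_right (Ideal.mem_map_of_mem _ hs))
  have hflat : Module.Flat R (LocalizedModule (q'.comap (algebraMap S S')).primeCompl M) :=
    h _ hq
  have hle : Algebra.algebraMapSubmonoid S' (q'.comap (algebraMap S S')).primeCompl ≤
      q'.primeCompl := by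
    rintro _ ⟨t, ht, rfl⟩
    exact ht
  have hk := Groth.Agent.Lib.Helper83.isLocalizedModule_baseChange (S' := S')
    (q'.comap (algebraMap S S')).primeCompl
    (LocalizedModule.mkLinearMap (q'.comap (algebraMap S S')).primeCompl M)
  let k₂ : M' →ₗ[S'] S' ⊗[S] LocalizedModule (q'.comap (algebraMap S S')).primeCompl M :=
    ((LocalizedModule.mkLinearMap (q'.comap (algebraMap S S')).primeCompl M).baseChange S') ∘ₗ
      hf.equiv.symm.toLinearMap
  have hk₂ : IsLocalizedModule
      (Algebra.algebraMapSubmonoid S' (q'.comap (algebraMap S S')).primeCompl) k₂ :=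
    IsLocalizedModule.of_linearEquiv_right _ _ _
  let iso := IsLocalizedModule.linearEquiv
    (Algebra.algebraMapSubmonoid S' (q'.comap (algebraMap S S')).primeCompl) k₂
    (LocalizedModule.mkLinearMap
      (Algebra.algebraMapSubmonoid S' (q'.comap (algebraMap S S')).primeCompl) M')
  let g : (S' ⊗[S] LocalizedModule (q'.comap (algebraMap S S')).primeCompl M) →ₗ[S']
      LocalizedModule q'.primeCompl M' :=
    (LocalizedModule.liftOfLE _ _ hle) ∘ₗ iso.toLinearMap
  have hg : IsLocalizedModule q'.primeCompl g := IsLocalizedModule.of_linearEquiv_right _ _ _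
  have hpo : Algebra.IsPushout R R' S S' := Algebra.IsPushout.symm inferInstance
  have hP : Module.Flat R' (S' ⊗[S] LocalizedModule (q'.comap (algebraMap S S')).primeCompl M) :=
    Module.Flat.of_linearEquiv (Algebra.IsPushout.cancelBaseChange R R' S S'
      (LocalizedModule (q'.comap (algebraMap S S')).primeCompl M))
  exact Groth.Agent.Lib.Helper83.flat_of_isLocalizedModule_tower q'.primeCompl g

end Groth.Agent.S6918
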