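import Groth.Statements.S6919
import Mathlib
import Groth.Agent.S6918
-- import your own Groth.Agent.* helpers here

set_option autoImplicit false
universe u
open FlatMor

namespace Groth.Agent.S6919

open CategoryTheory AlgebraicGeometry TensorProduct

theorem exists_prime_tensor {R S R' : Type u} [CommRing R] [CommRing S] [CommRing R']
    [Algebra R S] [Algebra R R'] (q : Ideal S) [q.IsPrime] (p' : Ideal R') [p'.IsPrime]
    (h : q.comap (algebraMap R S) = p'.comap (algebraMap R R')) :
    ∃ (Q : Ideal (S ⊗[R] R')), Q.IsPrime ∧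
      Q.comap (Algebra.TensorProduct.includeLeftRingHom : S →+* S ⊗[R] R') = q ∧
      Q.comap (Algebra.TensorProduct.includeRight : R' →ₐ[R] S ⊗[R] R').toRingHom = p' := by
  let x : Spec (CommRingCat.of S) := ⟨q, inferInstance⟩
  let y : Spec (CommRingCat.of R') := ⟨p', inferInstance⟩
  have hxy : (Spec.map (CommRingCat.ofHom (algebraMap R S))) x =
      (Spec.map (CommRingCat.ofHom (algebraMap R R'))) y := by
    apply PrimeSpectrum.ext
    exact h
  obtain ⟨z, hz1, hz2⟩ := Scheme.Pullback.exists_preimage_pullback x y hxy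
  let z' := (pullbackSpecIso R S R').hom z
  refine ⟨z'.asIdeal, z'.isPrime, ?_, ?_⟩
  · have h2 : (Spec.map (CommRingCat.ofHom
        (Algebra.TensorProduct.includeLeftRingHom : S →+* S ⊗[R] R'))) z' = x := by
      rw [← hz1, ← pullbackSpecIso_hom_fst R S R', Scheme.Hom.comp_apply]
    exact congrArg PrimeSpectrum.asIdeal h2
  · have h2 : (Spec.map (CommRingCat.ofHom
        ((Algebra.TensorProduct.includeRight : R' →ₐ[R] S ⊗[R] R').toRingHom))) z' = y := by
      rw [← hz2, ← pullbackSpecIso_hom_snd R S R', Scheme.Hom.comp_apply]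
      rfl
    exact congrArg PrimeSpectrum.asIdeal h2

theorem exists_prime_pushout {R S R' S' : Type u} [CommRing R] [CommRing S] [CommRing R'] [CommRing S']
    [Algebra R S] [Algebra R R'] [Algebra S S'] [Algebra R' S'] [Algebra R S'] [IsScalarTower R S S']
    [IsScalarTower R R' S'] [Algebra.IsPushout R S R' S']
    (q : Ideal S) [q.IsPrime] (p' : Ideal R') [p'.IsPrime]
    (h : q.comap (algebraMap R S) = p'.comap (algebraMap R R')) :
    ∃ (Q : Ideal S'), Q.IsPrime ∧ Q.comap (algebraMap S S') = q ∧ Q.comap (algebraMap R' S') = p' := by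
  obtain ⟨Q, hQ, h1, h2⟩ := exists_prime_tensor q p' h
  refine ⟨Q.comap ((Algebra.IsPushout.equiv R S R' S').symm : S' →+* S ⊗[R] R'),
    Ideal.comap_isPrime _ _, ?_, ?_⟩
  · rw [Ideal.comap_comap, ← h1]
    congr 1
    ext s
    simp [Algebra.IsPushout.equiv_symm_algebraMap_left]
  · rw [Ideal.comap_comap, ← h2]
    congr 1
    ext s
    simp [Algebra.IsPushout.equiv_symm_algebraMap_right]



section G

variable {R C C' : Type*} [CommRing R] [CommRing C] [CommRing C'] [Algebra R C] [Algebra C C']
  [Algebra R C'] [IsScalarTower R C C'] [Module.FaithfullyFlat C C']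
  {N P : Type*} [AddCommGroup N] [Module C N] [Module R N] [IsScalarTower R C N]
  [AddCommGroup P] [Module C' P] [Module C P] [IsScalarTower C C' P] [Module R P]
  [IsScalarTower R C P] [IsScalarTower R C' P]

theorem rTensor_injective_of_isBaseChange (g : N →ₗ[C] P) (hg : IsBaseChange C' g)
    (X : Type*) [AddCommGroup X] [Module R X] :
    Function.Injective ((g.restrictScalars R).rTensor X) := by
  -- Ψ : P ⊗[R] X → C' ⊗[C] (N ⊗[R] X)
  let Ψ : P ⊗[R] X →ₗ[R] C' ⊗[C] (N ⊗[R] X) :=
    ((AlgebraTensorModule.assoc R C C' C' N X).restrictScalars R).toLinearMap ∘ₗ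
      ((hg.equiv.symm.restrictScalars R).toLinearMap.rTensor X)
  have hΨ : Ψ ∘ₗ ((g.restrictScalars R).rTensor X) =
      ((TensorProduct.mk C C' (N ⊗[R] X) 1).restrictScalars R) := by
    apply TensorProduct.ext'
    intro n x
    simp only [LinearMap.comp_apply, LinearMap.rTensor_tmul, LinearMap.restrictScalars_apply, Ψ]
    have : hg.equiv.symm (g n) = (1 : C') ⊗ₜ[C] n := by
      rw [LinearEquiv.symm_apply_eq, IsBaseChange.equiv_tmul, one_smul]
    simp [this]
  have hinj : Function.Injective (TensorProduct.mk C C' (N ⊗[R] X) 1) :=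
    Module.FaithfullyFlat.tensorProduct_mk_injective (A := C) (B := C') (N ⊗[R] X)
  intro a b hab
  have := congrArg Ψ hab
  rw [← LinearMap.comp_apply, ← LinearMap.comp_apply, hΨ] at this
  exact hinj this

theorem flat_descent (g : N →ₗ[C] P) (hg : IsBaseChange C' g) [Module.Flat R P] :
    Module.Flat R N := by
  rw [Module.Flat.iff_lTensor_preserves_injective_linearMap]
  intro X Y _ _ _ _ u hu
  have h1 : Function.Injective (u.lTensor P) :=
    Module.Flat.lTensor_preserves_injective_linearMap u hu
  have h2 := rTensor_injective_of_isBaseChange (R := R) g hg X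
  have h3 : (u.lTensor P) ∘ₗ ((g.restrictScalars R).rTensor X) =
      ((g.restrictScalars R).rTensor Y) ∘ₗ (u.lTensor N) := by
    apply TensorProduct.ext'
    intro n x
    simp
  intro a b hab
  apply h2
  apply h1
  have := congrArg ((g.restrictScalars R).rTensor Y) hab
  rw [← LinearMap.comp_apply, ← LinearMap.comp_apply, ← h3] at this
  exact this

end G

theorem flat_case {R S S' : Type u} [CommRing R] [CommRing S] [CommRing S'] [Algebra R S]
    [Algebra S S'] [Algebra R S'] [IsScalarTower R S S'] [Module.Flat S S']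
    (q : Ideal S) [q.IsPrime] (q' : Ideal S') [q'.IsPrime] [q'.LiesOver q]
    {M M' : Type u} [AddCommGroup M] [Module S M] [Module R M] [IsScalarTower R S M]
    [AddCommGroup M'] [Module S' M'] [Module S M'] [IsScalarTower S S' M'] [Module R M']
    [IsScalarTower R S' M'] [IsScalarTower R S M']
    (f : M →ₗ[S] M') (hf : IsBaseChange S' f)
    (hP : Module.Flat R (LocalizedModule q'.primeCompl M')) :
    Module.Flat R (LocalizedModule q.primeCompl M) := by
  letI := Localization.AtPrime.algebraOfLiesOver q q'
  haveI : IsLocalHom (algebraMap (Localization.AtPrime q) (Localization.AtPrime q')) :=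
    Localization.isLocalHom_localRingHom q q' (algebraMap S S') Ideal.LiesOver.over
  haveI : Module.FaithfullyFlat (Localization.AtPrime q) (Localization.AtPrime q') :=
    Module.FaithfullyFlat.of_flat_of_isLocalHom
  letI : Module (Localization.AtPrime q) (LocalizedModule q'.primeCompl M') :=
    Module.compHom _ (algebraMap (Localization.AtPrime q) (Localization.AtPrime q'))
  haveI : IsScalarTower (Localization.AtPrime q) (Localization.AtPrime q')
      (LocalizedModule q'.primeCompl M') :=
    IsScalarTower.of_algebraMap_smul fun r x => rfl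
  haveI : IsScalarTower R (Localization.AtPrime q) (LocalizedModule q'.primeCompl M') :=
    IsScalarTower.of_algebraMap_smul fun r x => by
      change (algebraMap (Localization.AtPrime q) (Localization.AtPrime q')
        (algebraMap R (Localization.AtPrime q) r)) • x = r • x
      rw [← IsScalarTower.algebraMap_apply R (Localization.AtPrime q) (Localization.AtPrime q'),
        algebraMap_smul]
  haveI : IsScalarTower S (Localization.AtPrime q) (LocalizedModule q'.primeCompl M') :=
    IsScalarTower.of_algebraMap_smul fun r x => by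
      change (algebraMap (Localization.AtPrime q) (Localization.AtPrime q')
        (algebraMap S (Localization.AtPrime q) r)) • x = r • x
      rw [← IsScalarTower.algebraMap_apply S (Localization.AtPrime q) (Localization.AtPrime q'),
        algebraMap_smul]
  have hℓ : IsBaseChange (Localization.AtPrime q) (LocalizedModule.mkLinearMap q.primeCompl M) :=
    IsLocalizedModule.isBaseChange q.primeCompl _ _
  have hℓ' : IsBaseChange (Localization.AtPrime q') (LocalizedModule.mkLinearMap q'.primeCompl M') :=
    IsLocalizedModule.isBaseChange q'.primeCompl _ _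
  have hk : IsBaseChange (Localization.AtPrime q')
      (((LocalizedModule.mkLinearMap q'.primeCompl M').restrictScalars S).comp f) :=
    IsBaseChange.comp hf hℓ'
  let g : LocalizedModule q.primeCompl M →ₗ[Localization.AtPrime q] LocalizedModule q'.primeCompl M' :=
    hℓ.lift (((LocalizedModule.mkLinearMap q'.primeCompl M').restrictScalars S).comp f)
  have hg : IsBaseChange (Localization.AtPrime q') g := by
    apply IsBaseChange.of_comp hℓ
    have : (g : LocalizedModule q.primeCompl M →ₗ[S] LocalizedModule q'.primeCompl M') ∘ₗ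
        (LocalizedModule.mkLinearMap q.primeCompl M) =
        ((LocalizedModule.mkLinearMap q'.primeCompl M').restrictScalars S).comp f :=
      hℓ.lift_comp _
    rw [this]
    exact hk
  exact flat_descent (R := R) g hg

theorem main_aux {R S R'' S'' : Type u} [CommRing R] [CommRing S] [CommRing R''] [CommRing S'']
    [Algebra R S] [Algebra R R''] [Algebra S S''] [Algebra R'' S''] [Algebra R S'']
    [IsScalarTower R S S''] [IsScalarTower R R'' S''] [Algebra.IsPushout R S R'' S'']
    [Module.Flat R R'']
    {M M'' : Type u} [AddCommGroup M] [Module S M] [Module R M] [IsScalarTower R S M]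
    [AddCommGroup M''] [Module S'' M''] [Module R'' M''] [IsScalarTower R'' S'' M'']
    [Module S M''] [IsScalarTower S S'' M'']
    [Module R M''] [IsScalarTower R S'' M''] [IsScalarTower R S M''] [IsScalarTower R R'' M'']
    (f : M →ₗ[S] M'') (hf : IsBaseChange S'' f)
    (q : Ideal S) [q.IsPrime] (p'' : Ideal R'') [p''.IsPrime]
    (hqp : q.comap (algebraMap R S) = p''.comap (algebraMap R R''))
    (h : ∀ (q'' : Ideal S'') [q''.IsPrime], q''.comap (algebraMap S S'') = q →
      q''.comap (algebraMap R'' S'') = p'' → Module.Flat R'' (LocalizedModule q''.primeCompl M'')) :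
    Module.Flat R (LocalizedModule q.primeCompl M) := by
  obtain ⟨q'', hq''prime, h1, h2⟩ := exists_prime_pushout (S' := S'') q p'' hqp
  haveI := hq''prime
  haveI : q''.LiesOver q := ⟨h1.symm⟩
  haveI : Module.Flat S S'' := Module.Flat.isBaseChange R S R'' S'' (Algebra.IsPushout.out)
  have hP'' : Module.Flat R'' (LocalizedModule q''.primeCompl M'') := h q'' h1 h2
  haveI : Module.Flat R (LocalizedModule q''.primeCompl M'') := Module.Flat.trans R R'' _
  exact flat_case q q'' f hf inferInstance


attribute [local instance] Algebra.TensorProduct.rightAlgebra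

theorem core {R S R' S' : Type u} [CommRing R] [CommRing S] [CommRing R'] [CommRing S']
    [Algebra R S] [Algebra R R'] [Algebra S S'] [Algebra R' S'] [Algebra R S'] [IsScalarTower R S S']
    [IsScalarTower R R' S'] [Algebra.IsPushout R S R' S']
    (I' : Ideal R')
    {M M' : Type u} [AddCommGroup M] [Module S M] [Module R M] [IsScalarTower R S M]
    [AddCommGroup M'] [Module S' M'] [Module R' M'] [IsScalarTower R' S' M'] [Module S M']
    [IsScalarTower S S' M']
    (f : M →ₗ[S] M') (hf : IsBaseChange S' f) (J : Ideal S)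
    (h : (∀ (q : Ideal S') [q.IsPrime],
      I'.map (algebraMap R' S') ⊔ J.map (algebraMap S S') ≤ q → FlatCA.FlatAt R' q M'))
    (p' : Ideal R') [p'.IsPrime] (hI'p' : I' ≤ p')
    (R'' : Type u) [CommRing R''] [Algebra R' R''] [IsLocalization.AtPrime R'' p'] [Algebra R R'']
    [IsScalarTower R R' R''] [Module.Flat R R'']
    (q : Ideal S) [q.IsPrime] (hJq : J ≤ q)
    (hp'p : p'.comap (algebraMap R R') = q.comap (algebraMap R S)) :
    Module.Flat R (LocalizedModule q.primeCompl M) := by
  haveI : IsLocalRing R'' := IsLocalization.AtPrime.isLocalRing R'' p'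
  -- towers
  haveI hT1 : IsScalarTower R R'' (S' ⊗[R'] R'') :=
    IsScalarTower.of_algebraMap_eq fun r => by
      change (algebraMap R S' r) ⊗ₜ[R'] (1 : R'') = (1 : S') ⊗ₜ[R'] (algebraMap R R'' r)
      rw [IsScalarTower.algebraMap_apply R R' R'',
        IsScalarTower.algebraMap_apply R R' S', Algebra.algebraMap_eq_smul_one (algebraMap R R' r),
        Algebra.algebraMap_eq_smul_one (A := R'') (algebraMap R R' r),
        TensorProduct.smul_tmul]
  haveI hT2 : IsScalarTower R R'' ((S' ⊗[R'] R'') ⊗[S'] M') :=
    ⟨fun r x y => by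
      induction y using TensorProduct.induction_on with
      | zero => rw [TensorProduct.smul_zero, TensorProduct.smul_zero, TensorProduct.smul_zero]
      | tmul a b =>
        rw [TensorProduct.smul_tmul', TensorProduct.smul_tmul', TensorProduct.smul_tmul', smul_assoc]
      | add a b ha hb =>
        rw [TensorProduct.smul_add, TensorProduct.smul_add, TensorProduct.smul_add, ha, hb]⟩
  haveI hPO : Algebra.IsPushout R S R'' (S' ⊗[R'] R'') := by
    haveI h1 : Algebra.IsPushout R R' S S' := Algebra.IsPushout.symm inferInstance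
    have h2 : Algebra.IsPushout R' R'' S' (S' ⊗[R'] R'') :=
      Algebra.IsPushout.symm inferInstance
    have h3 := (Algebra.IsPushout.comp_iff R R' S (S' := S') (T := R'')
      (T' := S' ⊗[R'] R'')).mpr h2
    exact Algebra.IsPushout.symm h3
  -- the base change of M
  have hf' : IsBaseChange (S' ⊗[R'] R'') (TensorProduct.mk S' (S' ⊗[R'] R'') M' 1) :=
    TensorProduct.isBaseChange S' M' (S' ⊗[R'] R'')
  have hf'' : IsBaseChange (S' ⊗[R'] R'')
      (((TensorProduct.mk S' (S' ⊗[R'] R'') M' 1).restrictScalars S).comp f) :=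
    IsBaseChange.comp hf hf'
  have hmax : (IsLocalRing.maximalIdeal R'').comap (algebraMap R' R'') = p' :=
    IsLocalization.AtPrime.comap_maximalIdeal R'' p'
  have hqp : q.comap (algebraMap R S) = (IsLocalRing.maximalIdeal R'').comap (algebraMap R R'') := by
    rw [IsScalarTower.algebraMap_eq R R' R'', ← Ideal.comap_comap, hmax, hp'p]
  refine main_aux (R := R) (S := S) (R'' := R'') (S'' := S' ⊗[R'] R'') (M := M)
    (M'' := (S' ⊗[R'] R'') ⊗[S'] M')
    (((TensorProduct.mk S' (S' ⊗[R'] R'') M' 1).restrictScalars S).comp f) hf'' q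
    (IsLocalRing.maximalIdeal R'') hqp ?_
  intro q'' _ h1 h2
  refine Groth.Agent.S6918.result (R := R') (S := S') (R' := R'')
    (S' := S' ⊗[R'] R'') I' (I'.map (algebraMap R' R''))
    le_rfl (TensorProduct.mk S' (S' ⊗[R'] R'') M' 1) hf'
    (J.map (algebraMap S S')) h q'' ?_
  refine sup_le ?_ ?_
  · rw [Ideal.map_le_iff_le_comap, h2, Ideal.map_le_iff_le_comap, hmax]
    exact hI'p'
  · rw [Ideal.map_le_iff_le_comap, Ideal.map_le_iff_le_comap, Ideal.comap_comap,
      ← IsScalarTower.algebraMap_eq S S' (S' ⊗[R'] R''), h1]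
    exact hJq

/-- Let `R → S` be a ring map, `J ⊆ S` an ideal, `M` an `S`-module and `I ⊆ R` an ideal; let `R → R'` be
a ring map and `I' ⊆ R'` an ideal containing `IR'`, and put `S' = S ⊗_R R'`, `M' = M ⊗_R R'`. Assume
that every prime of `R` containing `I` is the contraction of a prime of `R'` containing `I'`, and
that `R'_{𝔭'}` is flat over `R` for every prime `𝔭' ⊇ I'`. If `M'_{𝔮'}` is flat over `R'` for every
prime `𝔮' ⊇ I'S' + JS'` of `S'`, then `M_𝔮` is flat over `R` for every prime `𝔮 ⊇ IS + J` of `S`.
(The published statement descends from a pair `(R'', I'')` to an arbitrary pair `(R', I')` over `R`;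
this row takes `(R', I') = (R, I)`.) -/
theorem result {R S R' S' : Type u} [CommRing R] [CommRing S] [CommRing R'] [CommRing S']
    [Algebra R S] [Algebra R R'] [Algebra S S'] [Algebra R' S'] [Algebra R S'] [IsScalarTower R S S']
    [IsScalarTower R R' S'] [Algebra.IsPushout R S R' S']
    (I : Ideal R) (I' : Ideal R') (hII' : I.map (algebraMap R R') ≤ I')
    {M M' : Type u} [AddCommGroup M] [Module S M] [Module R M] [IsScalarTower R S M]
    [AddCommGroup M'] [Module S' M'] [Module R' M'] [IsScalarTower R' S' M'] [Module S M'] [IsScalarTower S S' M']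
    (f : M →ₗ[S] M') (hf : IsBaseChange S' f) (J : Ideal S)
    (hsurj : ∀ (p : Ideal R) [p.IsPrime], I ≤ p → ∃ (p' : Ideal R') (_ : p'.IsPrime), I' ≤ p' ∧ p'.comap (algebraMap R R') = p)
    (hflat : ∀ (p' : Ideal R') [p'.IsPrime], I' ≤ p' → Module.Flat R (Localization.AtPrime p'))
    (h : (∀ (q : Ideal S') [q.IsPrime], I'.map (algebraMap R' S') ⊔ J.map (algebraMap S S') ≤ q → FlatCA.FlatAt R' q M')) :
    (∀ (q : Ideal S) [q.IsPrime], I.map (algebraMap R S) ⊔ J ≤ q → FlatCA.FlatAt R q M) := by
  intro q _ hq
  have hIq : I.map (algebraMap R S) ≤ q := le_trans le_sup_left hq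
  have hJq : J ≤ q := le_trans le_sup_right hq
  have hIp : I ≤ q.comap (algebraMap R S) := Ideal.map_le_iff_le_comap.mp hIq
  obtain ⟨p', hp'prime, hI'p', hp'p⟩ := hsurj (q.comap (algebraMap R S)) hIp
  haveI := hp'prime
  haveI : Module.Flat R (Localization.AtPrime p') := hflat p' hI'p'
  exact core I' f hf J h p' hI'p' (Localization.AtPrime p') q hJq hp'p

end Groth.Agent.S6919
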