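import Groth.Statements.S6920
import Mathlib.Algebra.Category.Ring.Epi
import Mathlib.Algebra.Algebra.Epi
import Mathlib.Algebra.Homology.ShortComplex.ModuleCat

set_option autoImplicit false
universe u
open CategoryTheory CategoryTheory.Limits MonoidalCategory
open DRing

namespace Groth.Agent.S6920

open TensorProduct in
/-- For a ring epimorphism, an additive map between `S`-modules commuting with the scalars coming
from `R` commutes with all scalars of `S`. -/
theorem map_smul_of_isEpi {R S : Type u} [CommRing R] [CommRing S] [Algebra R S]
    [Algebra.IsEpi R S]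
    {M N : Type u} [AddCommGroup M] [Module S M] [AddCommGroup N] [Module S N]
    (g : M →+ N) (hg : ∀ (r : R) (m : M), g (algebraMap R S r • m) = algebraMap R S r • g m)
    (s : S) (m : M) : g (s • m) = s • g m := by
  let f : S →+ S →+ N :=
    AddMonoidHom.mk' (fun s => AddMonoidHom.mk' (fun t => s • g (t • m))
      (fun a b => by simp only [add_smul, map_add, smul_add]))
      (fun a b => by ext t; simp [add_smul])
  have hf : ∀ (r : R) (s t : S), f (r • s) t = f s (r • t) := by
    intro r s t
    change (r • s) • g (t • m) = s • g ((r • t) • m)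
    rw [Algebra.smul_def, Algebra.smul_def, mul_smul (algebraMap R S r) t m, hg, ← mul_smul,
      mul_comm]
  have h1 := (Algebra.isEpi_iff_forall_one_tmul_eq R S).mp inferInstance s
  have h2 := congrArg (TensorProduct.liftAddHom f hf) h1
  rw [TensorProduct.liftAddHom_tmul, TensorProduct.liftAddHom_tmul] at h2
  simpa [f] using h2

/-- For an epimorphism of rings `φ : R → S` and a complex `I•` of `S`-modules, if the underlying complex
of `R`-modules of `I•` is K-injective, then `I•` itself is K-injective over `S`. -/
theorem result (R S : Type u) [CommRing R] [CommRing S] (φ : R →+* S)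
    (hφ : Epi (CommRingCat.ofHom φ)) (I : DRing.Cx S)
    [CochainComplex.IsKInjective ((DRing.restrictCx φ).obj I)] : CochainComplex.IsKInjective I := by
  let _ : Algebra R S := φ.toAlgebra
  have hepi : Algebra.IsEpi R S := CommRingCat.epi_iff_epi.mp hφ
  refine ⟨fun {K} f hK => ?_⟩
  have hK' : ((DRing.restrictCx φ).obj K).Acyclic := by
    intro i
    have h1 := hK i
    rw [HomologicalComplex.exactAt_iff, ShortComplex.moduleCat_exact_iff] at h1 ⊢
    intro x hx
    exact h1 x hx
  obtain ⟨h⟩ := CochainComplex.IsKInjective.nonempty_homotopy_zero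
    ((DRing.restrictCx φ).map f) hK'
  have lift : ∀ (i j : ℤ), ∃ g : K.X i ⟶ I.X j,
      (ModuleCat.restrictScalars φ).map g = h.hom i j := by
    intro i j
    refine ⟨ModuleCat.ofHom
      { toFun := fun x => (h.hom i j).hom x
        map_add' := fun x y => (h.hom i j).hom.map_add x y
        map_smul' := fun s x => ?_ }, rfl⟩
    exact map_smul_of_isEpi (R := R) (S := S) (M := K.X i) (N := I.X j)
      (AddMonoidHom.mk' (fun x => (h.hom i j).hom x) (fun x y => (h.hom i j).hom.map_add x y))
      (fun r m => (h.hom i j).hom.map_smul r m) s x
  choose hh hhh using lift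
  refine ⟨{ hom := hh, zero := ?_, comm := ?_ }⟩
  · intro i j hij
    apply (ModuleCat.restrictScalars φ).map_injective
    rw [hhh, h.zero i j hij, Functor.map_zero]
    rfl
  · intro i
    apply (ModuleCat.restrictScalars φ).map_injective
    have hc := h.comm i
    simp only [dNext, prevD, AddMonoidHom.mk'_apply, HomologicalComplex.zero_f, add_zero] at hc ⊢
    rw [Functor.map_add, Functor.map_comp, Functor.map_comp, hhh, hhh]
    exact hc

end Groth.Agent.S6920
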