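import Groth.Statements.S6923
import Mathlib
import Groth.Agent.Lib.Helper65.NilLift
import Groth.Agent.Lib.Helper83.InvSystem

set_option autoImplicit false
universe u
open Hensel

namespace Groth.Agent.S6923

open Groth.Agent.Lib.Helper65.NilLift

/-- compatibility of `toLin'` with a ring map -/
theorem map_toLin' {R S : Type*} [CommRing R] [CommRing S] (f : R →+* S) {r : ℕ}
    (Y : Matrix (Fin r) (Fin r) R) (X : Matrix (Fin r) (Fin r) S) (h : f.mapMatrix Y = X)
    (v : Fin r → R) :
    (fun i => f (Matrix.toLin' Y v i)) = Matrix.toLin' X (fun i => f (v i)) := by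
  ext i
  rw [← h, RingHom.mapMatrix_apply, Matrix.toLin'_apply, Matrix.toLin'_apply]
  exact RingHom.map_mulVec f Y v i

theorem pi_eq_sum_single {R : Type*} [CommRing R] {r : ℕ} (x : Fin r → R) :
    x = ∑ i, x i • (fun j => if i = j then (1 : R) else 0) := by
  ext j
  simp

theorem result (A : Type u) [CommRing A] (An : ℕ → Type u)
    [∀ n, CommRing (An n)] (t : ∀ n, An (n + 1) →+* An n) (π : ∀ n, A →+* An n)
    (ht : ∀ n, Function.Surjective (t n)) (hnil : ∀ n (x : An (n + 1)), t n x = 0 → IsNilpotent x)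
    (hA : FlatCA.IsRingLimit A An t π)
    (M : ℕ → Type u) [∀ n, AddCommGroup (M n)] [∀ n, Module (An n) (M n)] (u : ∀ n, M (n + 1) →ₛₗ[t n] M n)
    [Module.Projective (An 0) (M 0)] (hfin : ∀ n, Module.Finite (An n) (M n)) (hflat : ∀ n, Module.Flat (An n) (M n))
    (hu : ∀ n, Function.Surjective (u n) ∧ LinearMap.ker (u n) = RingHom.ker (t n) • (⊤ : Submodule (An (n + 1)) (M (n + 1)))) :
    ∃ (P : Type u) (_ : AddCommGroup P) (_ : Module A P) (p : ∀ n, P →ₛₗ[π n] M n),
      Module.Finite A P ∧ Module.Projective A P ∧ (∀ n (x : P), u n (p (n + 1) x) = p n x) ∧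
      (∀ n, Function.Surjective (p n) ∧ LinearMap.ker (p n) = RingHom.ker (π n) • (⊤ : Submodule A P)) ∧
      (∀ x : (∀ n, M n), (∀ n, u n (x (n + 1)) = x n) → ∃! q : P, ∀ n, p n q = x n) := by
  classical
  obtain ⟨hπt, hsep, hex⟩ := hA
  have hπt' : ∀ n a, t n (π (n + 1) a) = π n a := fun n a => RingHom.congr_fun (hπt n) a
  have hπsurj : ∀ n, Function.Surjective (π n) := by
    intro n b
    obtain ⟨x, hxn, hx⟩ :=
      Groth.Agent.Lib.Helper83.exists_compatible_through (fun k => t k) ht n b
    obtain ⟨a, ha⟩ := hex x hx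
    exact ⟨a, by rw [ha, hxn]⟩
  -- presentation of M 0
  haveI := hfin 0
  obtain ⟨r, s0, hs0⟩ := Module.Finite.exists_fin' (An 0) (M 0)
  obtain ⟨i0, hi0⟩ := Module.projective_lifting_property s0 LinearMap.id hs0
  have hi0' : ∀ m, s0 (i0 m) = m := fun m => LinearMap.congr_fun hi0 m
  obtain ⟨e0, he0def⟩ : ∃ e0 : Matrix (Fin r) (Fin r) (An 0), e0 = LinearMap.toMatrix' (i0 ∘ₗ s0) :=
    ⟨_, rfl⟩
  have hE0 : Matrix.toLin' e0 = i0 ∘ₗ s0 := by rw [he0def, Matrix.toLin'_toMatrix']
  have he0 : IsIdempotentElem e0 := by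
    have : Matrix.toLin' (e0 * e0) = Matrix.toLin' e0 := by
      rw [Matrix.toLin'_mul, hE0]
      ext x
      simp [hi0']
    exact Matrix.toLin'.injective this
  -- idempotent matrices at all levels
  obtain ⟨e, he0', heid, hesucc⟩ : ∃ e : ∀ n, Matrix (Fin r) (Fin r) (An n), e 0 = e0 ∧
      (∀ n, IsIdempotentElem (e n)) ∧ ∀ n, (t n).mapMatrix (e (n + 1)) = e n := by
    have stepE : ∀ n (X : {X : Matrix (Fin r) (Fin r) (An n) // IsIdempotentElem X}),
        ∃ Y : {Y : Matrix (Fin r) (Fin r) (An (n + 1)) // IsIdempotentElem Y},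
          (t n).mapMatrix Y.1 = X.1 := by
      intro n X
      obtain ⟨Y, hY, hYX⟩ := exists_idempotent_matrix_lift (t n) (ht n)
        (fun x hx => hnil n x (RingHom.mem_ker.mp hx)) X.1 X.2
      exact ⟨⟨Y, hY⟩, hYX⟩
    choose nxt hnxt using stepE
    refine ⟨fun n => (Nat.rec (motive := fun n =>
      {X : Matrix (Fin r) (Fin r) (An n) // IsIdempotentElem X}) ⟨e0, he0⟩ (fun n X => nxt n X) n).1,
      rfl, fun n => Subtype.property _, fun n => hnxt n _⟩
  obtain ⟨E, hEdef⟩ : ∃ E : ∀ n, (Fin r → An n) →ₗ[An n] (Fin r → An n),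
      E = fun n => Matrix.toLin' (e n) := ⟨_, rfl⟩
  have hEE : ∀ n x, E n (E n x) = E n x := by
    intro n x
    rw [hEdef]
    show Matrix.toLin' (e n) (Matrix.toLin' (e n) x) = _
    rw [← LinearMap.comp_apply, ← Matrix.toLin'_mul, (heid n).eq]
  have hEt : ∀ n (x : Fin r → An (n + 1)),
      (fun i => t n (E (n + 1) x i)) = E n (fun i => t n (x i)) := by
    intro n x
    rw [hEdef]
    exact map_toLin' (t n) _ _ (hesucc n) x
  -- the maps β n
  obtain ⟨β, hβE, hβsurj, hβker, hβu⟩ : ∃ β : ∀ n, (Fin r → An n) →ₗ[An n] M n,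
      (∀ n x, β n (E n x) = β n x) ∧ (∀ n, Function.Surjective (β n)) ∧
      (∀ n x, β n x = 0 → E n x = 0) ∧
      (∀ n x, u n (β (n + 1) x) = β n (fun i => t n (x i))) := by
    have stepB : ∀ n (b : {b : (Fin r → An n) →ₗ[An n] M n //
        (∀ x, b (E n x) = b x) ∧ Function.Surjective b ∧ ∀ x, b x = 0 → E n x = 0}),
        ∃ b' : {b : (Fin r → An (n + 1)) →ₗ[An (n + 1)] M (n + 1) //
          (∀ x, b (E (n + 1) x) = b x) ∧ Function.Surjective b ∧ ∀ x, b x = 0 → E (n + 1) x = 0},
          ∀ x, u n (b'.1 x) = b.1 (fun i => t n (x i)) := by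
      rintro n ⟨b, hbE, hbs, hbk⟩
      choose m hm using fun j : Fin r => (hu n).1 (b (fun l => if j = l then 1 else 0))
      obtain ⟨g', hg'def⟩ : ∃ g' : (Fin r → An (n + 1)) →ₗ[An (n + 1)] M (n + 1),
        g' = Fintype.linearCombination (An (n + 1)) m := ⟨_, rfl⟩
      have hg' : ∀ x, u n (g' x) = b (fun i => t n (x i)) := by
        intro x
        rw [hg'def, Fintype.linearCombination_apply, map_sum,
          LinearMap.pi_apply_eq_sum_univ b]
        refine Finset.sum_congr rfl fun j _ => ?_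
        rw [LinearMap.map_smulₛₗ, hm]
      obtain ⟨g, hgdef⟩ : ∃ g : (Fin r → An (n + 1)) →ₗ[An (n + 1)] M (n + 1),
        g = g' ∘ₗ E (n + 1) := ⟨_, rfl⟩
      have hgu : ∀ x, u n (g x) = b (fun i => t n (x i)) := by
        intro x
        rw [hgdef, LinearMap.comp_apply, hg', hEt, hbE]
      have hgE : ∀ x, g (E (n + 1) x) = g x := by
        intro x
        rw [hgdef, LinearMap.comp_apply, LinearMap.comp_apply, hEE]
      haveI := hfin (n + 1)
      haveI := hflat (n + 1)
      have hker : ∀ y : M (n + 1), u n y = 0 →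
          y ∈ RingHom.ker (t n) • (⊤ : Submodule (An (n + 1)) (M (n + 1))) := by
        intro y hy
        rw [← (hu n).2]
        exact hy
      have hker' : ∀ y : M (n + 1),
          y ∈ RingHom.ker (t n) • (⊤ : Submodule (An (n + 1)) (M (n + 1))) → u n y = 0 := by
        intro y hy
        rw [← (hu n).2] at hy
        exact hy
      obtain ⟨hgs, hgk⟩ := bijective_of_nil (RingHom.ker (t n))
        (fun a ha => hnil n a (RingHom.mem_ker.mp ha)) (E (n + 1))
        (LinearMap.ext fun x => hEE (n + 1) x) g (LinearMap.ext fun x => hgE x)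
        (by
          intro x hx i
          have h1 := hker' _ hx
          rw [hgu] at h1
          have h2 := hbk _ h1
          rw [← hEt] at h2
          exact RingHom.mem_ker.mpr (congrFun h2 i))
        (by
          intro y
          obtain ⟨z, hz⟩ := hbs (u n y)
          refine ⟨fun i => Function.surjInv (ht n) (z i), hker _ ?_⟩
          rw [map_sub, hgu]
          simp only [Function.surjInv_eq (ht n)]
          rw [hz, sub_self])
      exact ⟨⟨g, hgE, hgs, hgk⟩, hgu⟩
    choose nxt hnxt using stepB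
    have hb0 : (∀ x, s0 (E 0 x) = s0 x) ∧ Function.Surjective s0 ∧ ∀ x, s0 x = 0 → E 0 x = 0 := by
      have hE0' : E 0 = i0 ∘ₗ s0 := by rw [hEdef]; show Matrix.toLin' (e 0) = _; rw [he0', hE0]
      refine ⟨fun x => ?_, hs0, fun x hx => ?_⟩
      · rw [hE0', LinearMap.comp_apply, hi0']
      · rw [hE0', LinearMap.comp_apply, hx, map_zero]
    obtain ⟨B, hB⟩ : ∃ B : ∀ n, {b : (Fin r → An n) →ₗ[An n] M n //
        (∀ x, b (E n x) = b x) ∧ Function.Surjective b ∧ ∀ x, b x = 0 → E n x = 0},
        ∀ n x, u n ((B (n + 1)).1 x) = (B n).1 (fun i => t n (x i)) :=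
      ⟨fun n => Nat.rec (motive := fun n => {b : (Fin r → An n) →ₗ[An n] M n //
        (∀ x, b (E n x) = b x) ∧ Function.Surjective b ∧ ∀ x, b x = 0 → E n x = 0})
        ⟨s0, hb0⟩ (fun n b => nxt n b) n, fun n => hnxt n _⟩
    exact ⟨fun n => (B n).1, fun n => (B n).2.1, fun n => (B n).2.2.1,
      fun n => (B n).2.2.2, hB⟩
  -- limit matrix
  obtain ⟨einf, heinf⟩ : ∃ einf : Matrix (Fin r) (Fin r) A, ∀ n, (π n).mapMatrix einf = e n := by
    have : ∀ i j, ∃ a : A, ∀ n, π n a = e n i j := by
      intro i j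
      refine hex (fun n => e n i j) (fun n => ?_)
      have := Matrix.ext_iff.mpr (hesucc n) i j
      simpa using this
    choose a ha using this
    refine ⟨Matrix.of a, fun n => ?_⟩
    ext i j
    simp [ha]
  have heinf_id : einf * einf = einf := by
    ext i j
    apply hsep
    intro n
    have h1 : (π n).mapMatrix (einf * einf) = (π n).mapMatrix einf := by
      rw [map_mul, heinf, (heid n).eq]
    have := Matrix.ext_iff.mpr h1 i j
    simpa using this
  obtain ⟨Einf, hEinfdef⟩ : ∃ Einf : (Fin r → A) →ₗ[A] (Fin r → A),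
      Einf = Matrix.toLin' einf := ⟨_, rfl⟩
  have hEinf2 : ∀ x, Einf (Einf x) = Einf x := by
    intro x
    rw [hEinfdef, ← LinearMap.comp_apply, ← Matrix.toLin'_mul, heinf_id]
  have hEπ : ∀ n (x : Fin r → A), (fun i => π n (Einf x i)) = E n (fun i => π n (x i)) := by
    intro n x
    rw [hEinfdef, hEdef]
    exact map_toLin' (π n) _ _ (heinf n) x
  have hPmem : ∀ x : LinearMap.range Einf, Einf x.1 = x.1 := by
    rintro ⟨_, y, rfl⟩
    exact hEinf2 y
  let p : ∀ n, LinearMap.range Einf →ₛₗ[π n] M n := fun n =>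
    { toFun := fun x => β n (fun i => π n (x.1 i))
      map_add' := fun x y => by
        rw [← map_add]
        congr 1
        ext i
        simp
      map_smul' := fun a x => by
        rw [← map_smul]
        congr 1
        ext i
        simp }
  have hp : ∀ n (x : LinearMap.range Einf), p n x = β n (fun i => π n (x.1 i)) := fun _ _ => rfl
  -- vanishing of p n
  have hpzero : ∀ n (x : LinearMap.range Einf), p n x = 0 → ∀ i, π n (x.1 i) = 0 := by
    intro n x hx i
    rw [hp] at hx
    have h1 := hβker n _ hx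
    rw [← hEπ, hPmem] at h1
    exact congrFun h1 i
  refine ⟨LinearMap.range Einf, inferInstance, inferInstance, p, ?_, ?_, ?_, ?_, ?_⟩
  · exact Module.Finite.range Einf
  · refine Module.Projective.of_split (LinearMap.range Einf).subtype Einf.rangeRestrict ?_
    ext x : 1
    exact Subtype.ext (hPmem x)
  · intro n x
    rw [hp, hp, hβu]
    congr 1
    ext i
    exact hπt' n _
  · intro n
    constructor
    · intro m
      obtain ⟨y, hy⟩ := hβsurj n m
      refine ⟨⟨Einf (fun i => Function.surjInv (hπsurj n) (y i)), ⟨_, rfl⟩⟩, ?_⟩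
      rw [hp]
      show β n (fun i => π n (Einf _ i)) = m
      rw [hEπ]
      simp only [Function.surjInv_eq (hπsurj n)]
      rw [hβE, hy]
    · apply le_antisymm
      · intro x hx
        have hx0 := hpzero n x (LinearMap.mem_ker.mp hx)
        have hxsum : x = ∑ i, x.1 i • (⟨Einf (fun j => if i = j then (1 : A) else 0), ⟨_, rfl⟩⟩ :
            LinearMap.range Einf) := by
          apply Subtype.ext
          rw [Submodule.coe_sum]
          simp only [Submodule.coe_smul]
          conv_lhs => rw [← hPmem x, LinearMap.pi_apply_eq_sum_univ Einf x.1]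
        rw [hxsum]
        exact Submodule.sum_mem _ fun i _ =>
          Submodule.smul_mem_smul (RingHom.mem_ker.mpr (hx0 i)) Submodule.mem_top
      · rw [Submodule.smul_le]
        intro a ha x _
        rw [LinearMap.mem_ker, LinearMap.map_smulₛₗ, RingHom.mem_ker.mp ha, zero_smul]
  · intro x hx
    -- choose preimages z n = E n (y n)
    choose y hy using fun n => hβsurj n (x n)
    obtain ⟨z, hzdef⟩ : ∃ z : ∀ n, Fin r → An n, z = fun n => E n (y n) := ⟨_, rfl⟩
    have hzβ : ∀ n, β n (z n) = x n := fun n => by rw [hzdef]; show β n (E n (y n)) = _; rw [hβE, hy]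
    have hzE : ∀ n, E n (z n) = z n := fun n => by rw [hzdef]; exact hEE n _
    have hzt : ∀ n, (fun i => t n (z (n + 1) i)) = z n := by
      intro n
      have h1 : β n ((fun i => t n (z (n + 1) i)) - z n) = 0 := by
        rw [map_sub, ← hβu, hzβ, hzβ, hx, sub_self]
      have h2 := hβker n _ h1
      rw [map_sub, ← hEt, hzE, hzE, sub_eq_zero] at h2
      exact h2
    have : ∀ i, ∃ a : A, ∀ n, π n a = z n i :=
      fun i => hex (fun n => z n i) (fun n => congrFun (hzt n) i)
    choose q' hq' using this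
    have hq'E : Einf q' = q' := by
      ext i
      apply hsep
      intro n
      have : π n (Einf q' i) = E n (fun i => π n (q' i)) i := congrFun (hEπ n q') i
      rw [this]
      have h3 : (fun i => π n (q' i)) = z n := funext fun i => hq' i n
      rw [h3, hzE, hq']
    refine ⟨⟨q', ⟨q', hq'E⟩⟩, ?_, ?_⟩
    · intro n
      show β n (fun i => π n (q' i)) = x n
      have h3 : (fun i => π n (q' i)) = z n := funext fun i => hq' i n
      rw [h3, hzβ]
    · intro q2 hq2
      have hsub : ∀ n, p n (q2 - ⟨q', ⟨q', hq'E⟩⟩) = 0 := by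
        intro n
        rw [map_sub, hq2 n, sub_eq_zero]
        show x n = β n (fun i => π n (q' i))
        have h3 : (fun i => π n (q' i)) = z n := funext fun i => hq' i n
        rw [h3, hzβ]
      apply Subtype.ext
      ext i
      apply hsep
      intro n
      have := hpzero n _ (hsub n) i
      simpa [sub_eq_zero] using this

end Groth.Agent.S6923
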