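import Groth.Statements.S6924
import Mathlib
import Groth.Agent.Lib.Helper45.BlowupAlg
import Groth.Agent.S6895

set_option autoImplicit false
universe u
open TensorProduct
open Fitt

namespace Groth.Agent.S6924

open Groth.Agent.Lib.Helper45 Groth.Agent.Lib.Helper45.Fitting


/-- Let `M` be a finite `R`-module and `f ∈ R` such that every prime of `D(f)` has a basic open
neighbourhood `D(g) ⊆ D(f)` with `M_g` free of rank `r` (in other words `M_f` is, locally on `D(f)`,
free of rank `r`). Then there is a finitely generated ideal `I ⊆ R` with `V(I) = V(f)` such that for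
every `a ∈ I` and (a copy `R₁` of) the affine blow-up algebra `R[I/a]`, the strict transform `(M ⊗_R
R₁)/(a-power torsion)` is finite locally free of rank `r` over `R₁`. -/
theorem result {R : Type u} [CommRing R] (M : Type u) [AddCommGroup M]
    [Module R M] [Module.Finite R M] (f : R) (r : ℕ)
    (hf : ∀ (p : Ideal R) [p.IsPrime], f ∉ p → ∃ g : R, g ∉ p ∧ g ∈ (Ideal.span {f}).radical ∧
      Module.Free (Localization.Away g) (LocalizedModule (Submonoid.powers g) M) ∧
        Module.finrank (Localization.Away g) (LocalizedModule (Submonoid.powers g) M) = r) :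
    ∃ I : Ideal R, I.FG ∧ I.radical = (Ideal.span {f}).radical ∧ ∀ a ∈ I, ∀ (R₁ : Type u) [CommRing R₁] [Algebra R R₁] (e : R₁ ≃ₐ[R] ↥(BlowUp.affineAlgebra R I a)),
      ∀ (p' : Ideal R₁) [p'.IsPrime], ∃ g : R₁, g ∉ p' ∧
        Module.Free (Localization.Away g) (LocalizedModule (Submonoid.powers g) ((R₁ ⊗[R] M) ⧸ FlatCA.powTorsion R₁ (algebraMap R R₁ a) (R₁ ⊗[R] M))) ∧
        Module.finrank (Localization.Away g) (LocalizedModule (Submonoid.powers g) ((R₁ ⊗[R] M) ⧸ FlatCA.powTorsion R₁ (algebraMap R R₁ a) (R₁ ⊗[R] M))) = r := by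
  obtain ⟨n₀, x₀, hx₀⟩ := Module.Finite.exists_fin (R := R) (M := M)
  let x : Fin (n₀ + r) → M := Fin.append x₀ (fun _ => 0)
  have hx : Submodule.span R (Set.range x) = ⊤ := by
    rw [eq_top_iff, ← hx₀]
    apply Submodule.span_mono
    rintro _ ⟨i, rfl⟩
    exact ⟨Fin.castAdd r i, by simp [x]⟩
  have hf' : ∀ (p : Ideal R) [p.IsPrime], f ∉ p → ∃ g : R, g ∉ p ∧
      Module.Free (Localization.Away g) (LocalizedModule (Submonoid.powers g) M) ∧
        Module.finrank (Localization.Away g) (LocalizedModule (Submonoid.powers g) M) = r := by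
    intro p _ hfp
    obtain ⟨g, hg, -, h1, h2⟩ := hf p hfp
    exact ⟨g, hg, h1, h2⟩
  obtain ⟨N, hN⟩ := exists_pow_mem_fitt_of_locally_free (M := M) f r hf'
  rw [fitt_eq_Min x hx r, Nat.add_sub_cancel] at hN
  obtain ⟨G, hGfin, hGK, hGN⟩ := exists_finite_subset_mem_Min _ n₀ (f ^ N) hN
  have hIle : Ideal.span {f} * Fitting.Min G n₀ ≤ Ideal.span {f} := Ideal.mul_le_left
  refine ⟨Ideal.span {f} * Fitting.Min G n₀, ?_, ?_, ?_⟩
  · exact Ideal.FG.mul ⟨{f}, by simp⟩ (Min_fg G hGfin n₀)
  · apply le_antisymm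
    · exact Ideal.radical_mono hIle
    · rw [Ideal.radical_le_radical_iff, Ideal.span_le, Set.singleton_subset_iff]
      refine ⟨N + 1, ?_⟩
      rw [pow_succ']
      exact Ideal.mul_mem_mul (Ideal.mem_span_singleton_self f) hGN
  · intro a ha R₁ _ _ e
    have hnzd := BlowupAlg.algebraMap_mem_nonZeroDivisors (Ideal.span {f} * Fitting.Min G n₀) a e
    have hmap := BlowupAlg.map_eq_span (Ideal.span {f} * Fitting.Min G n₀) a e ha
    have htop := fitt_strict_eq_top (R₁ := R₁) x hx G hGK f a hnzd hmap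
    obtain ⟨s, hs⟩ := Ideal.mem_span_singleton'.mp (hIle ha)
    apply (Groth.Agent.S6895.result
      ((R₁ ⊗[R] M) ⧸ FlatCA.powTorsion R₁ (algebraMap R R₁ a) (R₁ ⊗[R] M)) r).mpr
    constructor
    · intro i hi
      apply fitt_quot_powTorsion_eq_bot (algebraMap R R₁ a) i hnzd
      intro d hd
      rw [fitt_baseChange] at hd
      refine exists_pow_mul_eq_zero_of_mem_map (algebraMap R R₁) _ a (fun d hd => ?_) d hd
      obtain ⟨m, hm⟩ := exists_pow_mul_eq_zero_of_locally_free (M := M) f r hf' i hi d hd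
      refine ⟨m, ?_⟩
      rw [← hs, mul_pow, mul_assoc, hm, mul_zero]
    · intro i hi
      rw [eq_top_iff, ← htop]
      exact fitt_mono hi

end Groth.Agent.S6924
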