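import Groth.Statements.S6925
import Groth.Agent.Lib.Helper86.Flattening1
import Groth.Agent.Lib.Helper86.Flattening2

set_option autoImplicit false
set_option linter.style.haveILetI false
universe u
open TensorProduct
open FlatMor

namespace Groth.Agent.S6925

/-- Let `(R, 𝔪)` be a complete Noetherian local ring, `R → S` a ring map with `S` Noetherian and `M` a
finite `S`-module. Then among ideals contained in `𝔪`, there is a smallest one `I` with the
following property: whenever `𝔮` is a prime of `S` lying over `𝔪`, the module `(M/IM)_𝔮` is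
`R/I`-flat. Namely, `I ⊆ 𝔪` has this property, and every ideal `J` with the property contains `I`. -/
theorem result (R S : Type u) [CommRing R] [IsLocalRing R]
    [IsNoetherianRing R] [IsAdicComplete (IsLocalRing.maximalIdeal R) R] [CommRing S] [Algebra R S] [IsNoetherianRing S]
    (M : Type u) [AddCommGroup M] [Module S M] [Module R M] [IsScalarTower R S M] [Module.Finite S M] :
    ∃ I : Ideal R, I ≤ IsLocalRing.maximalIdeal R ∧
      (∀ (q : Ideal S) [q.IsPrime], q.comap (algebraMap R S) = IsLocalRing.maximalIdeal R →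
        Module.Flat (R ⧸ I) ((R ⧸ I) ⊗[R] LocalizedModule q.primeCompl M)) ∧
      ∀ J : Ideal R, (∀ (q : Ideal S) [q.IsPrime], q.comap (algebraMap R S) = IsLocalRing.maximalIdeal R →
        Module.Flat (R ⧸ J) ((R ⧸ J) ⊗[R] LocalizedModule q.primeCompl M)) → I ≤ J := by
  classical
  let P : Ideal R → Prop := fun K => ∀ (q : Ideal S) [q.IsPrime],
    q.comap (algebraMap R S) = IsLocalRing.maximalIdeal R →
      Module.Flat (R ⧸ K) ((R ⧸ K) ⊗[R] LocalizedModule q.primeCompl M)
  have hmain := Groth.Agent.Lib.Helper86.Flattening.exists_least R P ?_ ?_ ?_ ?_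
  · obtain ⟨I, hIm, hI, hleast⟩ := hmain
    exact ⟨I, hIm, hI, hleast⟩
  · intro I J hIJ hI q _ hq
    exact Groth.Agent.Lib.Helper86.Flattening.flat_quot_mono R _ hIJ (hI q hq)
  · intro n I J hI hJ hPI hPJ q _ hq
    haveI := Groth.Agent.Lib.Helper86.Flattening.isArtinianRing_quot_of_pow_le R n (I ⊓ J)
      (le_inf hI hJ)
    exact Groth.Agent.Lib.Helper86.Flattening.flat_inf R _ I J (hPI q hq) (hPJ q hq)
  · intro q _ hq
    letI := Ideal.Quotient.field (IsLocalRing.maximalIdeal R)
    infer_instance
  · intro I h q _ hq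
    refine Groth.Agent.Lib.Helper86.Flattening.flat_quot_of_forall_pow R (Localization.AtPrime q)
      (LocalizedModule q.primeCompl M) I (IsLocalRing.maximalIdeal R) ?_ ?_
    · rw [IsLocalRing.jacobson_eq_maximalIdeal ⊥ bot_ne_top]
      rw [Ideal.map_le_iff_le_comap]
      intro r hr
      rw [Ideal.mem_comap, IsScalarTower.algebraMap_apply R S (Localization.AtPrime q),
        IsLocalization.AtPrime.to_map_mem_maximal_iff (Localization.AtPrime q) q]
      rw [← hq] at hr
      exact hr
    · intro n hn
      obtain ⟨k, rfl⟩ := Nat.exists_eq_succ_of_ne_zero (Nat.pos_iff_ne_zero.1 hn)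
      exact h k q hq

end Groth.Agent.S6925
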