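import Groth.Statements.S6926
import Groth.Agent.Lib.Helper86.Flattening2
import Groth.Agent.Lib.Helper86.Flattening4

set_option autoImplicit false
set_option linter.style.haveILetI false
universe u
open TensorProduct
open FlatMor

namespace Groth.Agent.S6926

/-- Let `(R, 𝔪)` be a complete Noetherian local ring, `R → S` with `S` Noetherian, `M` a finite
`S`-module, and `I ⊆ 𝔪` the least ideal with the property that, at each prime `𝔮` of `S` lying above
`𝔪`, the localization `(M/IM)_𝔮` is an `R/I`-flat module. Let `φ : R → R'` be a local homomorphism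
to a Noetherian local ring `(R', 𝔪')`, `S' = S ⊗_R R'`, `M' = M ⊗_R R'`. Then `M'_{𝔮'}` is flat over
`R'` for every prime `𝔮'` of `S'` lying over `𝔪'` if and only if `φ(I) = 0`. -/
theorem result {R S R' S' : Type u} [CommRing R] [IsLocalRing R]
    [IsNoetherianRing R] [IsAdicComplete (IsLocalRing.maximalIdeal R) R] [CommRing S] [IsNoetherianRing S]
    [CommRing R'] [IsLocalRing R'] [IsNoetherianRing R'] [CommRing S']
    [Algebra R S] [Algebra R R'] [IsLocalHom (algebraMap R R')] [Algebra S S'] [Algebra R' S'] [Algebra R S']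
    [IsScalarTower R S S'] [IsScalarTower R R' S'] [Algebra.IsPushout R S R' S']
    {M M' : Type u} [AddCommGroup M] [Module S M] [Module R M] [IsScalarTower R S M] [Module.Finite S M]
    [AddCommGroup M'] [Module S' M'] [Module R' M'] [IsScalarTower R' S' M'] [Module S M'] [IsScalarTower S S' M']
    (f : M →ₗ[S] M') (hf : IsBaseChange S' f) (I : Ideal R) (hIm : I ≤ IsLocalRing.maximalIdeal R)
    (hI : (∀ (q : Ideal S) [q.IsPrime], q.comap (algebraMap R S) = IsLocalRing.maximalIdeal R →
        Module.Flat (R ⧸ I) ((R ⧸ I) ⊗[R] LocalizedModule q.primeCompl M)))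
    (hmin : ∀ J : Ideal R, (∀ (q : Ideal S) [q.IsPrime], q.comap (algebraMap R S) = IsLocalRing.maximalIdeal R →
        Module.Flat (R ⧸ J) ((R ⧸ J) ⊗[R] LocalizedModule q.primeCompl M)) → I ≤ J) :
    (∀ (q' : Ideal S') [q'.IsPrime], q'.comap (algebraMap R' S') = IsLocalRing.maximalIdeal R' → FlatCA.FlatAt R' q' M') ↔
      I ≤ RingHom.ker (algebraMap R R') := by
  classical
  have hloc : (IsLocalRing.maximalIdeal R').comap (algebraMap R R') = IsLocalRing.maximalIdeal R :=
    ((IsLocalRing.local_hom_TFAE (algebraMap R R')).out 0 4).1 ‹IsLocalHom (algebraMap R R')›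
  constructor
  · intro h x hx
    rw [RingHom.mem_ker]
    -- show `φ x ∈ m'^(n+1)` for all n
    have hxn : ∀ n : ℕ, algebraMap R R' x ∈ IsLocalRing.maximalIdeal R' ^ (n + 1) := by
      intro n
      have hJ : I ≤ RingHom.ker (algebraMap R (R' ⧸ IsLocalRing.maximalIdeal R' ^ (n + 1))) := by
        apply hmin
        intro q _ hq
        have hpow : IsLocalRing.maximalIdeal R ^ (n + 1) ≤
            RingHom.ker (algebraMap R (R' ⧸ IsLocalRing.maximalIdeal R' ^ (n + 1))) := by
          intro y hy
          rw [RingHom.mem_ker, IsScalarTower.algebraMap_apply R R', Ideal.Quotient.algebraMap_eq,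
            Ideal.Quotient.eq_zero_iff_mem]
          have h1 : algebraMap R R' y ∈ (IsLocalRing.maximalIdeal R ^ (n + 1)).map (algebraMap R R') :=
            Ideal.mem_map_of_mem _ hy
          rw [Ideal.map_pow] at h1
          refine Ideal.pow_right_mono ?_ (n + 1) h1
          rw [Ideal.map_le_iff_le_comap, hloc]
        haveI := Groth.Agent.Lib.Helper86.Flattening.isArtinianRing_quot_of_pow_le R n _ hpow
        letI : Algebra (R ⧸ RingHom.ker (algebraMap R (R' ⧸ IsLocalRing.maximalIdeal R' ^ (n + 1))))
            (R' ⧸ IsLocalRing.maximalIdeal R' ^ (n + 1)) :=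
          (RingHom.kerLift (algebraMap R (R' ⧸ IsLocalRing.maximalIdeal R' ^ (n + 1)))).toAlgebra
        haveI : IsScalarTower R
            (R ⧸ RingHom.ker (algebraMap R (R' ⧸ IsLocalRing.maximalIdeal R' ^ (n + 1))))
            (R' ⧸ IsLocalRing.maximalIdeal R' ^ (n + 1)) :=
          IsScalarTower.of_algebraMap_eq (fun x => rfl)
        refine Groth.Agent.Lib.Helper86.Flattening.flat_of_injective R _
          (R' ⧸ IsLocalRing.maximalIdeal R' ^ (n + 1)) _ (RingHom.kerLift_injective _) ?_
        refine Groth.Agent.Lib.Helper86.Flattening.flat_tensor_localized_of_flatAt (R := R) f hf q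
          (IsLocalRing.maximalIdeal R' ^ (n + 1)) ?_
        intro p _ hp
        have hp' : p.comap (algebraMap R' S') = IsLocalRing.maximalIdeal R' := by
          have h1 : IsLocalRing.maximalIdeal R' ^ (n + 1) ≤ p.comap (algebraMap R' S') :=
            Ideal.map_le_iff_le_comap.1 hp
          have h2 : IsLocalRing.maximalIdeal R' ≤ p.comap (algebraMap R' S') :=
            (Ideal.IsPrime.comap (algebraMap R' S')).le_of_pow_le h1
          exact ((IsLocalRing.maximalIdeal.isMaximal R').eq_of_le
            (Ideal.IsPrime.comap (algebraMap R' S')).ne_top h2).symm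
        exact h p hp'
      have := hJ hx
      rw [RingHom.mem_ker, IsScalarTower.algebraMap_apply R R', Ideal.Quotient.algebraMap_eq,
        Ideal.Quotient.eq_zero_iff_mem] at this
      exact this
    have hbot : (⨅ i : ℕ, IsLocalRing.maximalIdeal R' ^ i) = ⊥ :=
      Ideal.iInf_pow_eq_bot_of_isLocalRing _ (IsLocalRing.maximalIdeal.isMaximal R').ne_top
    have hmem : algebraMap R R' x ∈ (⨅ i : ℕ, IsLocalRing.maximalIdeal R' ^ i) := by
      rw [Ideal.mem_iInf]
      intro i
      exact Ideal.pow_le_pow_right (Nat.le_succ i) (hxn i)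
    rw [hbot] at hmem
    exact hmem
  · intro hle q' _ hq'
    show Module.Flat R' (LocalizedModule q'.primeCompl M')
    apply Groth.Agent.Lib.Helper86.Flattening.flatAt_of_flat_tensor (R := R) f hf q'
    have hq : (q'.comap (algebraMap S S')).comap (algebraMap R S) = IsLocalRing.maximalIdeal R := by
      have hcomp : (algebraMap S S').comp (algebraMap R S) =
          (algebraMap R' S').comp (algebraMap R R') := by
        rw [← IsScalarTower.algebraMap_eq R S S', ← IsScalarTower.algebraMap_eq R R' S']
      rw [Ideal.comap_comap, hcomp, ← Ideal.comap_comap, hq', hloc]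
    have h1 := hI (q'.comap (algebraMap S S')) hq
    letI : Algebra (R ⧸ I) R' :=
      (Ideal.Quotient.lift I (algebraMap R R') (fun a ha => hle ha)).toAlgebra
    haveI : IsScalarTower R (R ⧸ I) R' := IsScalarTower.of_algebraMap_eq (fun x => rfl)
    exact Groth.Agent.Lib.Helper86.Flattening.flat_of_tower R (R ⧸ I) R' _ h1

end Groth.Agent.S6926
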