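import Groth.Statements.S6928
import Groth.Agent.Lib.Helper8.LevelTrans
import Groth.Agent.Lib.Helper8.FlatIdealStage
import Groth.Agent.Lib.Helper8.BCTransport
import Groth.Agent.Lib.Helper8.LocDescent
import Groth.Agent.Lib.Helper54.FlatPkg

set_option autoImplicit false
set_option maxHeartbeats 1600000
universe u
open FlatMor

namespace Groth.Agent.S6928

open TensorProduct
open Groth.Agent.Lib.Helper54 Groth.Agent.Lib.Helper54.FlatStage4
open Groth.Agent.Lib.Helper8 Groth.Agent.Lib.Helper8.LevelTrans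

attribute [local instance] Algebra.TensorProduct.rightAlgebra

theorem main {Z S0 N0 : Type u} [CommRing Z] [CommRing S0] [Algebra Z S0] [AddCommGroup N0]
    [Module Z N0] [Module S0 N0] [IsScalarTower Z S0 N0]
    [IsNoetherianRing Z] [Algebra.FiniteType Z S0] [Module.Finite S0 N0]
    {R S : Type u} [CommRing R] [CommRing S] [Algebra R S] [Algebra Z R]
    [Algebra (S0 ⊗[Z] R) S] [IsScalarTower R (S0 ⊗[Z] R) S]
    (T : Submonoid (S0 ⊗[Z] R)) [IsLocalization T S]
    {M : Type u} [AddCommGroup M] [Module S M] [Module (S0 ⊗[Z] R) M]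
    [IsScalarTower (S0 ⊗[Z] R) S M]
    (f₀ : (S0 ⊗[Z] R) ⊗[S0] N0 →ₗ[S0 ⊗[Z] R] M) (hf₀ : IsBaseChange S f₀)
    {ι : Type u} [Preorder ι] (G : ι → Type u) [∀ i, CommRing (G i)] [∀ i, Algebra R (G i)]
    (g : ∀ i j, i ≤ j → G i →+* G j)
    (hgR : ∀ i j (h : i ≤ j), (g i j h).comp (algebraMap R (G i)) = algebraMap R (G j))
    (R' : Type u) [CommRing R'] [Algebra R R'] [∀ i, Algebra (G i) R']
    [∀ i, IsScalarTower R (G i) R']
    (hcolim : FlatCA.IsDirectedColimitRing G g R')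
    (Il : ∀ i, Ideal (G i)) (hIl : ∀ i j (h : i ≤ j), (Il i).map (g i j h) ≤ Il j)
    {S' : Type u} [CommRing S'] [Algebra S S'] [Algebra R' S'] [Algebra R S'] [IsScalarTower R S S']
    [IsScalarTower R R' S'] [Algebra.IsPushout R S R' S']
    {M' : Type u} [AddCommGroup M'] [Module S' M'] [Module R' M'] [IsScalarTower R' S' M']
    [Module S M'] [IsScalarTower S S' M'] (f : M →ₗ[S] M') (hf : IsBaseChange S' f)
    (J : Ideal S)
    (h : ∀ (q' : Ideal S') [q'.IsPrime],
      (⨆ i, (Il i).map (algebraMap (G i) R')).map (algebraMap R' S') ⊔ J.map (algebraMap S S') ≤ q' →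
        FlatCA.FlatAt R' q' M') :
    ∃ i : ι, ∀ (Si Mi : Type u) [CommRing Si] [Algebra S Si] [Algebra (G i) Si] [Algebra R Si]
      [IsScalarTower R S Si] [IsScalarTower R (G i) Si] [Algebra.IsPushout R S (G i) Si]
      [AddCommGroup Mi] [Module Si Mi] [Module (G i) Mi]
      [IsScalarTower (G i) Si Mi] [Module S Mi] [IsScalarTower S Si Mi] (fi : M →ₗ[S] Mi),
      IsBaseChange Si fi →
      ∀ (q : Ideal Si) [q.IsPrime],
        (Il i).map (algebraMap (G i) Si) ⊔ J.map (algebraMap S Si) ≤ q → FlatCA.FlatAt (G i) q Mi := by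
  classical
  -- `Z`-algebra structures
  letI algZG : ∀ i, Algebra Z (G i) := fun i =>
    ((algebraMap R (G i)).comp (algebraMap Z R)).toAlgebra
  haveI towZRG : ∀ i, IsScalarTower Z R (G i) := fun i =>
    IsScalarTower.of_algebraMap_eq (fun _ => rfl)
  letI algZR' : Algebra Z R' := ((algebraMap R R').comp (algebraMap Z R)).toAlgebra
  haveI towZRR' : IsScalarTower Z R R' := IsScalarTower.of_algebraMap_eq (fun _ => rfl)
  haveI towZGR' : ∀ i, IsScalarTower Z (G i) R' := fun i =>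
    IsScalarTower.of_algebraMap_eq (fun z => by
      show algebraMap R R' (algebraMap Z R z) =
        algebraMap (G i) R' (algebraMap R (G i) (algebraMap Z R z))
      rw [← IsScalarTower.algebraMap_apply R (G i) R'])
  let gA : ∀ i j, i ≤ j → G i →ₐ[Z] G j := fun i j hij =>
    { g i j hij with
      commutes' := fun z => by
        show g i j hij (algebraMap R (G i) (algebraMap Z R z)) =
          algebraMap R (G j) (algebraMap Z R z)
        exact RingHom.congr_fun (hgR i j hij) _ }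
  have hcolimA : FlatCA.IsDirectedColimitRing G (fun i j hij => (gA i j hij).toRingHom) R' :=
    hcolim
  obtain ⟨hdir, hne, hid, hcomp, hcompat, hsurj, hinj⟩ := hcolim
  let ιA : ∀ i, G i →ₐ[Z] R' := fun i => IsScalarTower.toAlgHom Z (G i) R'
  -- compatibilities
  have hρ : ∀ i j (hij : i ≤ j), (gA i j hij).comp (rho Z R (G i)) = rho Z R (G j) := fun i j hij =>
    AlgHom.ext fun r => RingHom.congr_fun (hgR i j hij) r
  have hρ' : ∀ i, (ιA i).comp (rho Z R (G i)) = rho Z R R' := fun i =>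
    AlgHom.ext fun r => (IsScalarTower.algebraMap_apply R (G i) R' r).symm
  -- the ideal `J₀` and the families
  let J₀ : Ideal (S0 ⊗[Z] R) := J.comap (algebraMap (S0 ⊗[Z] R) S)
  have hJ₀ : J₀.map (algebraMap (S0 ⊗[Z] R) S) = J := IsLocalization.map_under T S J
  let c : ∀ i, Ideal (S0 ⊗[Z] G i) := fun i =>
    (Il i).map (algebraMap (G i) (S0 ⊗[Z] G i)) ⊔ J₀.map (SM S0 (rho Z R (G i)))
  let W : ∀ i, Submonoid (S0 ⊗[Z] G i) := fun i => T.map (SM S0 (rho Z R (G i)))
  have hSMalg : ∀ i j (hij : i ≤ j) (a : G i), SM S0 (gA i j hij) (algebraMap (G i) (S0 ⊗[Z] G i) a) =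
      algebraMap (G j) (S0 ⊗[Z] G j) (g i j hij a) := fun i j hij a => by
    rw [Algebra.TensorProduct.right_algebraMap_apply, Algebra.TensorProduct.right_algebraMap_apply]
    simp
    rfl
  have hc : ∀ i j (hij : i ≤ j), (c i).map (SM S0 (gA i j hij)) ≤ c j := by
    intro i j hij
    rw [Ideal.map_sup]
    refine sup_le_sup ?_ ?_
    · rw [Ideal.map_le_iff_le_comap, Ideal.map_le_iff_le_comap]
      intro a ha
      rw [Ideal.mem_comap, Ideal.mem_comap, hSMalg]
      exact Ideal.mem_map_of_mem _ (hIl i j hij (Ideal.mem_map_of_mem _ ha))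
    · rw [Ideal.map_le_iff_le_comap, Ideal.map_le_iff_le_comap]
      intro x hx
      rw [Ideal.mem_comap, Ideal.mem_comap, SM_comp, hρ]
      exact Ideal.mem_map_of_mem _ hx
  have hW : ∀ i j (hij : i ≤ j), ∀ w ∈ W i, SM S0 (gA i j hij) w ∈ W j := by
    rintro i j hij _ ⟨t, ht, rfl⟩
    refine ⟨t, ht, ?_⟩
    show SM S0 (rho Z R (G j)) t = SM S0 (gA i j hij) (SM S0 (rho Z R (G i)) t)
    rw [SM_comp, hρ]
  -- hypothesis of the core theorem
  letI algBRS' : Algebra (S0 ⊗[Z] R) S' :=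
    ((algebraMap S S').comp (algebraMap (S0 ⊗[Z] R) S)).toAlgebra
  haveI towBRSS' : IsScalarTower (S0 ⊗[Z] R) S S' := IsScalarTower.of_algebraMap_eq (fun _ => rfl)
  have H : ∀ (q' : Ideal (S0 ⊗[Z] R')) [q'.IsPrime],
      (∀ i, (c i).map (SM S0 (IsScalarTower.toAlgHom Z (G i) R')) ≤ q') →
      (∀ i, ∀ w ∈ W i, SM S0 (IsScalarTower.toAlgHom Z (G i) R') w ∉ q') →
      Module.Flat R' (LocalizedModule q'.primeCompl ((S0 ⊗[Z] R') ⊗[S0] N0)) := by
    intro q' _ hcq hWq
    have hT : ∀ t ∈ T, SM S0 (rho Z R R') t ∉ q' := by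
      intro t ht
      have := hWq hne.some (SM S0 (rho Z R (G hne.some)) t) ⟨t, ht, rfl⟩
      rwa [SM_comp, hρ'] at this
    obtain ⟨Q', hQ'prime, hQ'⟩ := exists_prime_comap Z S0 R R' S S' T q' hT
    haveI := hQ'prime
    have hle : (⨆ i, (Il i).map (algebraMap (G i) R')).map (algebraMap R' S') ⊔
        J.map (algebraMap S S') ≤ Q' := by
      refine sup_le ?_ ?_
      · rw [Ideal.map_le_iff_le_comap, iSup_le_iff]
        intro i
        rw [Ideal.map_le_iff_le_comap]
        intro a ha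
        rw [Ideal.mem_comap, Ideal.mem_comap, ← beta_right Z S0 R R' S S', ← Ideal.mem_comap, hQ']
        refine hcq i ?_
        have : (1 : S0) ⊗ₜ[Z] algebraMap (G i) R' a =
            SM S0 (IsScalarTower.toAlgHom Z (G i) R') (algebraMap (G i) (S0 ⊗[Z] G i) a) := by
          rw [Algebra.TensorProduct.right_algebraMap_apply]
          simp
        rw [this]
        exact Ideal.mem_map_of_mem _ (Ideal.mem_sup_left (Ideal.mem_map_of_mem _ ha))
      · rw [← hJ₀, Ideal.map_map, Ideal.map_le_iff_le_comap]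
        intro x hx
        rw [Ideal.mem_comap, RingHom.comp_apply, ← beta_left Z S0 R R' S S', ← Ideal.mem_comap, hQ',
          ← hρ' hne.some, ← SM_comp]
        exact hcq hne.some (Ideal.mem_map_of_mem _
          (Ideal.mem_sup_right (Ideal.mem_map_of_mem _ hx)))
    have hfl := h Q' hle
    have h1 := (flat_localized_iff Z S0 N0 R R' S S' T M f₀ hf₀ M' f hf Q').1 hfl
    exact FlatStage6.flat_prime_congr Z S0 N0 _ _ hQ' h1
  obtain ⟨l, hl⟩ := FlatIdealStage.exists_stage Z S0 N0 G gA R' hcolimA c hc W hW H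
  refine ⟨l, ?_⟩
  intro Si Mi _ _ _ _ _ _ _ _ _ _ _ _ _ fi hfi q _ hq
  letI algBRSi : Algebra (S0 ⊗[Z] R) Si :=
    ((algebraMap S Si).comp (algebraMap (S0 ⊗[Z] R) S)).toAlgebra
  haveI towBRSSi : IsScalarTower (S0 ⊗[Z] R) S Si := IsScalarTower.of_algebraMap_eq (fun _ => rfl)
  haveI : (q.comap (beta Z S0 R (G l) S Si)).IsPrime := Ideal.comap_isPrime _ _
  have hcq : c l ≤ q.comap (beta Z S0 R (G l) S Si) := by
    refine sup_le ?_ ?_
    · rw [Ideal.map_le_iff_le_comap]
      intro a ha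
      rw [Ideal.mem_comap, Ideal.mem_comap, Algebra.TensorProduct.right_algebraMap_apply,
        beta_right]
      exact hq (Ideal.mem_sup_left (Ideal.mem_map_of_mem _ ha))
    · rw [Ideal.map_le_iff_le_comap]
      intro x hx
      rw [Ideal.mem_comap, Ideal.mem_comap, beta_left]
      exact hq (Ideal.mem_sup_right (Ideal.mem_map_of_mem _ hx))
  have hWq : ∀ w ∈ W l, w ∉ q.comap (beta Z S0 R (G l) S Si) := by
    rintro _ ⟨t, ht, rfl⟩ hmem
    have hu := isUnit_beta Z S0 R (G l) S Si T t ht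
    exact (Ideal.IsPrime.ne_top inferInstance) (Ideal.eq_top_of_isUnit_mem q hmem hu)
  have hfl := hl (q.comap (beta Z S0 R (G l) S Si)) hcq hWq
  exact (flat_localized_iff Z S0 N0 R (G l) S Si T M f₀ hf₀ Mi fi hfi q).2 hfl


open Groth.Agent.Lib.Helper8.MatCok in

/-- Let `R → S` be a ring map that is essentially of finite presentation, `J ⊆ S` an ideal and `M` a
finitely presented `S`-module. Let `(R_λ)` be a directed system of `R`-algebras with colimit `R'`,
and `I_λ ⊆ R_λ` ideals with `I_λ R_μ ⊆ I_μ`, `I' = colim I_λ`, `S' = S ⊗_R R'`, `M' = M ⊗_R R'`. If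
`M'_{𝔮'}` is flat over `R'` for every prime `𝔮' ⊇ I'S' + JS'`, then there is `λ` such that, with
`S_λ = S ⊗_R R_λ` and `M_λ = M ⊗_R R_λ`, `(M_λ)_𝔮` is flat over `R_λ` for every prime `𝔮 ⊇ I_λ S_λ +
J S_λ`. -/
theorem result {R S : Type u} [CommRing R] [CommRing S] [Algebra R S] (hS : FlatCA.EssFinitePresentation R S)
    {M : Type u} [AddCommGroup M] [Module S M] [Module R M] [IsScalarTower R S M] [Module.FinitePresentation S M]
    {ι : Type u} [Preorder ι] (G : ι → Type u) [∀ i, CommRing (G i)] [∀ i, Algebra R (G i)]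
    (g : ∀ i j, i ≤ j → G i →+* G j) (hgR : ∀ i j (h : i ≤ j), (g i j h).comp (algebraMap R (G i)) = algebraMap R (G j))
    (R' : Type u) [CommRing R'] [Algebra R R'] [∀ i, Algebra (G i) R'] [∀ i, IsScalarTower R (G i) R']
    (hcolim : FlatCA.IsDirectedColimitRing G g R')
    (Il : ∀ i, Ideal (G i)) (hIl : ∀ i j (h : i ≤ j), (Il i).map (g i j h) ≤ Il j)
    {S' : Type u} [CommRing S'] [Algebra S S'] [Algebra R' S'] [Algebra R S'] [IsScalarTower R S S']
    [IsScalarTower R R' S'] [Algebra.IsPushout R S R' S']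
    {M' : Type u} [AddCommGroup M'] [Module S' M'] [Module R' M'] [IsScalarTower R' S' M'] [Module S M']
    [IsScalarTower S S' M'] (f : M →ₗ[S] M') (hf : IsBaseChange S' f)
    (J : Ideal S)
    (h : ∀ (q' : Ideal S') [q'.IsPrime],
      (⨆ i, (Il i).map (algebraMap (G i) R')).map (algebraMap R' S') ⊔ J.map (algebraMap S S') ≤ q' →
        FlatCA.FlatAt R' q' M') :
    ∃ i : ι, ∀ (Si Mi : Type u) [CommRing Si] [Algebra S Si] [Algebra (G i) Si] [Algebra R Si] [IsScalarTower R S Si]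
      [IsScalarTower R (G i) Si] [Algebra.IsPushout R S (G i) Si] [AddCommGroup Mi] [Module Si Mi] [Module (G i) Mi]
      [IsScalarTower (G i) Si Mi] [Module S Mi] [IsScalarTower S Si Mi] (fi : M →ₗ[S] Mi), IsBaseChange Si fi →
      ∀ (q : Ideal Si) [q.IsPrime], (Il i).map (algebraMap (G i) Si) ⊔ J.map (algebraMap S Si) ≤ q → FlatCA.FlatAt (G i) q Mi := by
  classical
  obtain ⟨S₁, _, _, _, _, T₁, hfp, hloc⟩ := hS
  haveI := hfp
  haveI := hloc
  obtain ⟨m, n, K, ⟨eM⟩⟩ := LocDescent.exists_matrix T₁ S M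
  haveI : Module.FinitePresentation S₁ (Cok K) := by
    refine Module.finitePresentation_of_free_of_surjective (cokMk K) (cokMk_surjective K) ?_
    rw [(exact_cokMk K).linearMap_ker_eq, LinearMap.range_eq_map]
    exact (Module.Finite.fg_top).map _
  letI : Module S₁ M := Module.compHom M (algebraMap S₁ S)
  haveI : IsScalarTower S₁ S M := IsScalarTower.of_algebraMap_smul (fun _ _ => rfl)
  have hf₁ : IsBaseChange S ((eM.symm.toLinearMap.restrictScalars S₁).comp (cokBC S K)) :=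
    (isBaseChange_cokBC S K).comp (IsBaseChange.ofEquiv eM.symm)
  obtain ⟨Z, _, _, S0, _, _, N0, _, _, _, _, θ, Θ, hft, -, hfp0, hfin, hθ, hΘ⟩ :=
    FlatPkg.exists_descent R S₁ (Cok K) ∅ Set.finite_empty
  haveI : IsNoetherianRing Z := Algebra.FiniteType.isNoetherianRing ℤ Z
  haveI : Algebra.FiniteType Z S0 := inferInstance
  letI : Algebra (S0 ⊗[Z] R) S := ((algebraMap S₁ S).comp θ.symm.symm.toRingHom).toAlgebra
  have halg : ∀ x : S0 ⊗[Z] R, algebraMap (S0 ⊗[Z] R) S x = algebraMap S₁ S (θ x) := fun _ => rfl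
  haveI : IsScalarTower R (S0 ⊗[Z] R) S := IsScalarTower.of_algebraMap_eq (fun r => by
    rw [halg, hθ, ← IsScalarTower.algebraMap_apply])
  haveI : IsLocalization (T₁.map θ.symm) S := IsLocalization.isLocalization_of_base_ringEquiv T₁ S θ.symm
  letI : Module (S0 ⊗[Z] R) M := Module.compHom M (algebraMap (S0 ⊗[Z] R) S)
  haveI : IsScalarTower (S0 ⊗[Z] R) S M := IsScalarTower.of_algebraMap_smul (fun _ _ => rfl)
  obtain ⟨f₀, hf₀, -⟩ := BCTransport.isBaseChange_transport θ Θ hΘ S halg M _ hf₁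
  exact main (T₁.map θ.symm) f₀ hf₀ G g hgR R' hcolim Il hIl f hf J h


end Groth.Agent.S6928
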