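import Groth.Statements.S6927
import Groth.Agent.S6926
import Groth.Agent.S6928
import Groth.Agent.Lib.Helper8.LocalColim

set_option autoImplicit false
set_option linter.style.haveILetI false
universe u
open TensorProduct
open FlatMor

namespace Groth.Agent.S6927

attribute [local instance] Algebra.TensorProduct.rightAlgebra in
theorem stage {R S Ri : Type u} [CommRing R] [IsLocalRing R]
    [IsNoetherianRing R] [IsAdicComplete (IsLocalRing.maximalIdeal R) R] [CommRing S]
    [IsNoetherianRing S]
    [CommRing Ri] [IsLocalRing Ri] [IsNoetherianRing Ri]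
    [Algebra R S] [Algebra R Ri] [IsLocalHom (algebraMap R Ri)]
    {M : Type u} [AddCommGroup M] [Module S M] [Module R M] [IsScalarTower R S M] [Module.Finite S M]
    (I : Ideal R) (hIm : I ≤ IsLocalRing.maximalIdeal R)
    (hI : (∀ (q : Ideal S) [q.IsPrime], q.comap (algebraMap R S) = IsLocalRing.maximalIdeal R →
        Module.Flat (R ⧸ I) ((R ⧸ I) ⊗[R] LocalizedModule q.primeCompl M)))
    (hmin : ∀ J : Ideal R, (∀ (q : Ideal S) [q.IsPrime], q.comap (algebraMap R S) = IsLocalRing.maximalIdeal R →
        Module.Flat (R ⧸ J) ((R ⧸ J) ⊗[R] LocalizedModule q.primeCompl M)) → I ≤ J)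
    (hA : ∀ (Si Mi : Type u) [CommRing Si] [Algebra S Si] [Algebra Ri Si] [Algebra R Si] [IsScalarTower R S Si]
      [IsScalarTower R Ri Si] [Algebra.IsPushout R S Ri Si] [AddCommGroup Mi] [Module Si Mi] [Module Ri Mi]
      [IsScalarTower Ri Si Mi] [Module S Mi] [IsScalarTower S Si Mi] (fi : M →ₗ[S] Mi), IsBaseChange Si fi →
      ∀ (q : Ideal Si) [q.IsPrime], (IsLocalRing.maximalIdeal Ri).map (algebraMap Ri Si) ⊔ (⊥ : Ideal S).map (algebraMap S Si) ≤ q → FlatCA.FlatAt Ri q Mi) :
    I ≤ RingHom.ker (algebraMap R Ri) := by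
  have hA' := hA (S ⊗[R] Ri) ((S ⊗[R] Ri) ⊗[S] M)
        (TensorProduct.mk S (S ⊗[R] Ri) M 1)
        (TensorProduct.isBaseChange S M (S ⊗[R] Ri))
  have key := (Groth.Agent.S6926.result (R := R) (S := S) (R' := Ri)
    (S' := S ⊗[R] Ri) (M := M) (M' := (S ⊗[R] Ri) ⊗[S] M)
    (TensorProduct.mk S (S ⊗[R] Ri) M 1)
    (TensorProduct.isBaseChange S M (S ⊗[R] Ri)) I hIm hI hmin).1 (by
      intro q' _ hq'
      refine hA' q' ?_
      rw [Ideal.map_bot, sup_bot_eq, Ideal.map_le_iff_le_comap, hq'])
  exact key

open Groth.Agent.Lib.Helper8 in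
theorem forward {R S R' S' : Type u} [CommRing R] [IsLocalRing R]
    [IsNoetherianRing R] [IsAdicComplete (IsLocalRing.maximalIdeal R) R] [CommRing S]
    [CommRing R'] [IsLocalRing R'] [CommRing S']
    [Algebra R S] [Algebra.FiniteType R S] [Algebra R R'] [IsLocalHom (algebraMap R R')] [Algebra S S'] [Algebra R' S']
    [Algebra R S'] [IsScalarTower R S S'] [IsScalarTower R R' S'] [Algebra.IsPushout R S R' S']
    {M M' : Type u} [AddCommGroup M] [Module S M] [Module R M] [IsScalarTower R S M] [Module.Finite S M]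
    [AddCommGroup M'] [Module S' M'] [Module R' M'] [IsScalarTower R' S' M'] [Module S M'] [IsScalarTower S S' M']
    (f : M →ₗ[S] M') (hf : IsBaseChange S' f) (I : Ideal R) (hIm : I ≤ IsLocalRing.maximalIdeal R)
    (hI : (∀ (q : Ideal S) [q.IsPrime], q.comap (algebraMap R S) = IsLocalRing.maximalIdeal R →
        Module.Flat (R ⧸ I) ((R ⧸ I) ⊗[R] LocalizedModule q.primeCompl M)))
    (hmin : ∀ J : Ideal R, (∀ (q : Ideal S) [q.IsPrime], q.comap (algebraMap R S) = IsLocalRing.maximalIdeal R →
        Module.Flat (R ⧸ J) ((R ⧸ J) ⊗[R] LocalizedModule q.primeCompl M)) → I ≤ J)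
    (h : ∀ (q' : Ideal S') [q'.IsPrime], q'.comap (algebraMap R' S') = IsLocalRing.maximalIdeal R' →
      FlatCA.FlatAt R' q' M') :
    I ≤ RingHom.ker (algebraMap R R') := by
  classical
  haveI : IsNoetherianRing S := Algebra.FiniteType.isNoetherianRing R S
  haveI : Algebra.FinitePresentation R S := Algebra.FinitePresentation.of_finiteType.1 inferInstance
  haveI : Module.FinitePresentation S M := Module.finitePresentation_of_finite S M
  have hS : FlatCA.EssFinitePresentation R S :=
    ⟨S, inferInstance, inferInstance, Algebra.id S, inferInstance, (⊥ : Submonoid S), inferInstance,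
      IsLocalization.self (by rintro x hx; rw [Submonoid.mem_bot] at hx; subst hx; exact isUnit_one)⟩
  obtain ⟨A, hA⟩ := Groth.Agent.S6928.result (R := R) (S := S) hS (M := M)
    (G := LocalColim.G (R := R) (R' := R')) LocalColim.g
    (fun i j hij => LocalColim.g_comp_algebraMap hij) R'
    LocalColim.isDirectedColimitRing
    (fun A => IsLocalRing.maximalIdeal (LocalColim.G A))
    (fun i j hij => LocalColim.map_maximalIdeal_le hij) f hf ⊥
    (by
      intro q' _ hq'
      apply h q'
      have h1 : IsLocalRing.maximalIdeal R' ≤ q'.comap (algebraMap R' S') := by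
        refine le_trans (LocalColim.maximalIdeal_le_iSup (R := R) (R' := R')) ?_
        rw [← Ideal.map_le_iff_le_comap]
        exact le_trans le_sup_left hq'
      exact ((IsLocalRing.maximalIdeal.isMaximal R').eq_of_le
        (Ideal.IsPrime.comap (algebraMap R' S')).ne_top h1).symm)
  haveI := LocalColim.isNoetherianRing_G A
  haveI := LocalColim.isLocalHom_algebraMap_R_G (R := R) A
  have key := stage (R := R) (S := S) (Ri := LocalColim.G A) (M := M) I hIm hI hmin hA
  exact le_trans key (LocalColim.ker_le A)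

/-- Let `(R, 𝔪)` be a complete Noetherian local ring, `R → S` of finite type, `M` a finite `S`-module,
and `I ⊆ 𝔪` the least ideal for which, at every prime `𝔮` of `S` lying over `𝔪`, the localization
`(M/IM)_𝔮` is an `R/I`-flat module. Then for every local homomorphism `φ : R → R'` of local rings
(`R'` arbitrary), with `S' = S ⊗_R R'` and `M' = M ⊗_R R'`: `M'_{𝔮'}` is flat over `R'` for every
prime `𝔮'` of `S'` over `𝔪'` if and only if `φ(I) = 0`. -/
theorem result {R S R' S' : Type u} [CommRing R] [IsLocalRing R]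
    [IsNoetherianRing R] [IsAdicComplete (IsLocalRing.maximalIdeal R) R] [CommRing S]
    [CommRing R'] [IsLocalRing R'] [CommRing S']
    [Algebra R S] [Algebra.FiniteType R S] [Algebra R R'] [IsLocalHom (algebraMap R R')] [Algebra S S'] [Algebra R' S']
    [Algebra R S'] [IsScalarTower R S S'] [IsScalarTower R R' S'] [Algebra.IsPushout R S R' S']
    {M M' : Type u} [AddCommGroup M] [Module S M] [Module R M] [IsScalarTower R S M] [Module.Finite S M]
    [AddCommGroup M'] [Module S' M'] [Module R' M'] [IsScalarTower R' S' M'] [Module S M'] [IsScalarTower S S' M']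
    (f : M →ₗ[S] M') (hf : IsBaseChange S' f) (I : Ideal R) (hIm : I ≤ IsLocalRing.maximalIdeal R)
    (hI : (∀ (q : Ideal S) [q.IsPrime], q.comap (algebraMap R S) = IsLocalRing.maximalIdeal R →
        Module.Flat (R ⧸ I) ((R ⧸ I) ⊗[R] LocalizedModule q.primeCompl M)))
    (hmin : ∀ J : Ideal R, (∀ (q : Ideal S) [q.IsPrime], q.comap (algebraMap R S) = IsLocalRing.maximalIdeal R →
        Module.Flat (R ⧸ J) ((R ⧸ J) ⊗[R] LocalizedModule q.primeCompl M)) → I ≤ J) :
    (∀ (q' : Ideal S') [q'.IsPrime], q'.comap (algebraMap R' S') = IsLocalRing.maximalIdeal R' → FlatCA.FlatAt R' q' M') ↔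
      I ≤ RingHom.ker (algebraMap R R') := by
  classical
  have hloc : (IsLocalRing.maximalIdeal R').comap (algebraMap R R') = IsLocalRing.maximalIdeal R :=
    ((IsLocalRing.local_hom_TFAE (algebraMap R R')).out 0 4).1 ‹IsLocalHom (algebraMap R R')›
  constructor
  · exact forward f hf I hIm hI hmin
  · intro hle q' _ hq'
    show Module.Flat R' (LocalizedModule q'.primeCompl M')
    apply Groth.Agent.Lib.Helper86.Flattening.flatAt_of_flat_tensor (R := R) f hf q'
    have hq : (q'.comap (algebraMap S S')).comap (algebraMap R S) = IsLocalRing.maximalIdeal R := by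
      have hcomp : (algebraMap S S').comp (algebraMap R S) =
          (algebraMap R' S').comp (algebraMap R R') := by
        rw [← IsScalarTower.algebraMap_eq R S S', ← IsScalarTower.algebraMap_eq R R' S']
      rw [Ideal.comap_comap, hcomp, ← Ideal.comap_comap, hq', hloc]
    have h1 := hI (q'.comap (algebraMap S S')) hq
    letI : Algebra (R ⧸ I) R' :=
      (Ideal.Quotient.lift I (algebraMap R R') (fun a ha => hle ha)).toAlgebra
    haveI : IsScalarTower R (R ⧸ I) R' := IsScalarTower.of_algebraMap_eq (fun x => rfl)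
    exact Groth.Agent.Lib.Helper86.Flattening.flat_of_tower R (R ⧸ I) R' _ h1

end Groth.Agent.S6927
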