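import Groth.Statements.S6929
import Mathlib.RingTheory.Adjoin.FG
import Mathlib.RingTheory.Polynomial.Basic

set_option autoImplicit false
universe u
open EtAlg

namespace Groth.Agent.S6929

/-- Let `R` be a Noetherian ring, `ι` a finite index type, and `φ_i : A_i → B_i`, `ψ_i : Q → B_i`
surjective `R`-algebra maps, where `Q` and all `A_i`, `B_i` are `R`-algebras of finite type. Then
the fibre product ring `P = Q ×_{∏ B_i} ∏ A_i` (pairs `(q, a)` with `ψ_i(q) = φ_i(a_i)` for all `i`)
is an `R`-algebra of finite type. -/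
theorem result (R : Type u) [CommRing R] [IsNoetherianRing R] {ι : Type u} [Fintype ι]
    (Q : Type u) [CommRing Q] [Algebra R Q] [Algebra.FiniteType R Q] (A B : ι → Type u) [∀ i, CommRing (A i)]
    [∀ i, CommRing (B i)] [∀ i, Algebra R (A i)] [∀ i, Algebra R (B i)] (hA : ∀ i, Algebra.FiniteType R (A i))
    (hB : ∀ i, Algebra.FiniteType R (B i)) (φ : ∀ i, A i →ₐ[R] B i) (ψ : ∀ i, Q →ₐ[R] B i)
    (hφ : ∀ i, Function.Surjective (φ i)) (hψ : ∀ i, Function.Surjective (ψ i)) :
    Algebra.FiniteType R ↥(AlgHom.equalizer ((AlgHom.pi ψ).comp (AlgHom.fst R Q (∀ i, A i)))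
      ((AlgHom.pi fun i => (φ i).comp (Pi.evalAlgHom R A i)).comp (AlgHom.snd R Q (∀ i, A i)))) := by
  classical
  set P := AlgHom.equalizer ((AlgHom.pi ψ).comp (AlgHom.fst R Q (∀ i, A i)))
      ((AlgHom.pi fun i => (φ i).comp (Pi.evalAlgHom R A i)).comp (AlgHom.snd R Q (∀ i, A i)))
    with hP
  have memP : ∀ x : Q × (∀ i, A i), x ∈ P ↔ ∀ i, ψ i x.1 = φ i (x.2 i) := by
    intro x
    rw [hP, AlgHom.mem_equalizer]
    constructor
    · intro h i
      exact congrFun h i
    · intro h
      funext i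
      exact h i
  -- sections
  have secQ : ∀ q : Q, ∃ x ∈ P, x.1 = q := by
    intro q
    choose a ha using fun i => hφ i (ψ i q)
    exact ⟨(q, a), (memP _).mpr fun i => (ha i).symm, rfl⟩
  have secA : ∀ i (a : A i), ∃ x ∈ P, x.2 i = a := by
    intro i a
    obtain ⟨q, hq⟩ := hψ i (φ i a)
    choose a' ha' using fun j => hφ j (ψ j q)
    refine ⟨(q, Function.update a' i a), (memP _).mpr fun j => ?_, by simp⟩
    by_cases hj : j = i
    · subst hj
      simp [hq]
    · simp [Function.update_of_ne hj, ha']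
  choose σQ hσQP hσQ using secQ
  choose σA hσAP hσA using secA
  -- generators
  obtain ⟨tQ, htQ⟩ := (Algebra.FiniteType.out : (⊤ : Subalgebra R Q).FG)
  have htA' : ∀ i, ∃ t : Finset (A i), Algebra.adjoin R (t : Set (A i)) = ⊤ := fun i => (hA i).out
  choose tA htA using htA'
  have hN : ∀ i, IsNoetherianRing (A i) := fun i => Algebra.FiniteType.isNoetherianRing R (A i)
  have hker : ∀ i, ∃ g : Finset (A i), Ideal.span (g : Set (A i)) = RingHom.ker (φ i) :=
    fun i => (IsNoetherian.noetherian (RingHom.ker (φ i)))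
  choose gI hgI using hker
  let T : Finset (Q × (∀ i, A i)) :=
    tQ.image σQ ∪ Finset.univ.biUnion (fun i => (tA i).image (σA i)) ∪
      Finset.univ.biUnion (fun i => (gI i).image (fun g => ((0 : Q), Pi.single i g)))
  have hTP : Algebra.adjoin R (T : Set (Q × (∀ i, A i))) ≤ P := by
    refine Algebra.adjoin_le ?_
    intro x hx
    simp only [T, Finset.coe_union, Finset.coe_image, Finset.coe_biUnion, Finset.coe_univ,
      Set.mem_univ, Set.iUnion_true, Set.mem_union, Set.mem_image, Set.mem_iUnion,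
      Finset.mem_coe] at hx
    rcases hx with (⟨q, _, rfl⟩ | ⟨i, a, _, rfl⟩) | ⟨i, g, hg, rfl⟩
    · exact hσQP q
    · exact hσAP i a
    · rw [SetLike.mem_coe, memP]
      intro j
      simp only [map_zero]
      by_cases hj : j = i
      · subst hj
        have : g ∈ RingHom.ker (φ j) := by
          rw [← hgI j]
          exact Ideal.subset_span hg
        simpa using (RingHom.mem_ker.mp this).symm
      · simp [Pi.single_eq_of_ne hj]
  have hCQ : ∀ q : Q, ∃ c ∈ Algebra.adjoin R (T : Set (Q × (∀ i, A i))), c.1 = q := by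
    have h1 : (⊤ : Subalgebra R Q) ≤
        (Algebra.adjoin R (T : Set (Q × (∀ i, A i)))).map (AlgHom.fst R Q (∀ i, A i)) := by
      rw [← htQ]
      refine Algebra.adjoin_le ?_
      intro q hq
      refine ⟨σQ q, Algebra.subset_adjoin ?_, hσQ q⟩
      simp only [T, Finset.coe_union, Set.mem_union, Finset.mem_coe, Finset.mem_image]
      exact Or.inl (Or.inl ⟨q, hq, rfl⟩)
    intro q
    obtain ⟨c, hc, hcq⟩ := h1 (Algebra.mem_top : q ∈ ⊤)
    exact ⟨c, hc, hcq⟩
  have hCA : ∀ i (a : A i), ∃ c ∈ Algebra.adjoin R (T : Set (Q × (∀ i, A i))), c.2 i = a := by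
    intro i
    have h1 : (⊤ : Subalgebra R (A i)) ≤
        (Algebra.adjoin R (T : Set (Q × (∀ i, A i)))).map
          ((Pi.evalAlgHom R A i).comp (AlgHom.snd R Q (∀ i, A i))) := by
      rw [← htA i]
      refine Algebra.adjoin_le ?_
      intro a ha
      refine ⟨σA i a, Algebra.subset_adjoin ?_, hσA i a⟩
      simp only [T, Finset.coe_union, Set.mem_union, Finset.mem_coe, Finset.mem_image,
        Finset.mem_biUnion, Finset.mem_univ, true_and]
      exact Or.inl (Or.inr ⟨i, a, ha, rfl⟩)
    intro a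
    obtain ⟨c, hc, hca⟩ := h1 (Algebra.mem_top : a ∈ ⊤)
    exact ⟨c, hc, hca⟩
  have hsingle : ∀ i, ∀ a ∈ Ideal.span ((gI i : Finset (A i)) : Set (A i)),
      (((0 : Q), Pi.single i a) : Q × (∀ i, A i)) ∈
        Algebra.adjoin R (T : Set (Q × (∀ i, A i))) := by
    intro i a ha
    refine Submodule.span_induction (p := fun a _ => (((0 : Q), Pi.single i a) : Q × (∀ i, A i)) ∈
        Algebra.adjoin R (T : Set (Q × (∀ i, A i)))) ?_ ?_ ?_ ?_ ha
    · intro g hg
      refine Algebra.subset_adjoin ?_
      simp only [T, Finset.coe_union, Set.mem_union, Finset.mem_coe, Finset.mem_image,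
        Finset.mem_biUnion, Finset.mem_univ, true_and]
      exact Or.inr ⟨i, g, hg, rfl⟩
    · have : (((0 : Q), Pi.single i (0 : A i)) : Q × (∀ i, A i)) = 0 := by
        ext <;> simp
      rw [this]
      exact Subalgebra.zero_mem _
    · intro x y _ _ hx hy
      have : (((0 : Q), Pi.single i (x + y)) : Q × (∀ i, A i)) =
          ((0 : Q), Pi.single i x) + ((0 : Q), Pi.single i y) := by
        ext <;> simp [Pi.single_add]
      rw [this]
      exact Subalgebra.add_mem _ hx hy
    · intro α x _ hx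
      obtain ⟨c, hc, hcα⟩ := hCA i α
      have : (((0 : Q), Pi.single i (α • x)) : Q × (∀ i, A i)) = c * ((0 : Q), Pi.single i x) := by
        refine Prod.ext (by simp) ?_
        funext j
        by_cases hj : j = i
        · subst hj
          simp [hcα]
        · simp [Pi.single_eq_of_ne hj]
      rw [this]
      exact Subalgebra.mul_mem _ hc hx
  have hT : Algebra.adjoin R (T : Set (Q × (∀ i, A i))) = P := by
    refine le_antisymm hTP ?_
    intro p hp
    obtain ⟨c, hc, hcp⟩ := hCQ p.1
    have hd : p - c ∈ P := Subalgebra.sub_mem _ hp (hTP hc)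
    have hd1 : (p - c).1 = 0 := by simp [hcp]
    have hd2 : ∀ i, (p - c).2 i ∈ Ideal.span ((gI i : Finset (A i)) : Set (A i)) := by
      intro i
      rw [hgI i, RingHom.mem_ker]
      have := (memP _).mp hd i
      rw [hd1, map_zero] at this
      exact this.symm
    have hsum : p - c = ∑ i, (((0 : Q), Pi.single i ((p - c).2 i)) : Q × (∀ i, A i)) := by
      refine Prod.ext ?_ ?_
      · rw [Prod.fst_sum]
        simp [hd1]
      · rw [Prod.snd_sum]
        exact (Finset.univ_sum_single ((p - c).2)).symm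
    have : p = c + (p - c) := by abel
    rw [this, hsum]
    exact Subalgebra.add_mem _ hc (Subalgebra.sum_mem _ fun i _ => hsingle i _ (hd2 i))
  exact ⟨(Subalgebra.fg_top P).mpr ⟨T, hT⟩⟩

end Groth.Agent.S6929
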