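import Groth.Statements.S6933
import Mathlib.Algebra.Category.Grp.EpiMono

set_option autoImplicit false
universe u
open CategoryTheory
open InjHull

namespace Groth.Agent.S6933

/-- An abelian group `J` that is injective as an object of the category of abelian groups is divisible:
`n J = J` for every nonzero integer `n`. (The published statement is an equivalence; this row states
the implication from injective to divisible.) -/
theorem result (J : Type u) [AddCommGroup J] (hJ : Injective (AddCommGrpCat.of J))
    (n : ℤ) (hn : n ≠ 0) (x : J) : ∃ y : J, n • y = x := by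
  -- multiplication by `n` on `ULift ℤ`
  let Z : AddCommGrpCat.{u} := AddCommGrpCat.of (ULift.{u} ℤ)
  let mulN : Z ⟶ Z := AddCommGrpCat.ofHom
    ((AddEquiv.ulift.symm.toAddMonoidHom.comp ((zmultiplesHom ℤ n))).comp
      AddEquiv.ulift.toAddMonoidHom)
  let toJ : Z ⟶ AddCommGrpCat.of J := AddCommGrpCat.ofHom
    ((zmultiplesHom J x).comp AddEquiv.ulift.toAddMonoidHom)
  have hmono : Mono mulN := by
    rw [AddCommGrpCat.mono_iff_injective]
    intro a b hab
    have h1 : n * a.down = n * b.down := by
      have := congrArg ULift.down hab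
      change a.down * n = b.down * n at this
      rw [mul_comm n, mul_comm n]
      exact this
    have h2 : a.down = b.down := mul_left_cancel₀ hn h1
    exact ULift.ext _ _ h2
  obtain ⟨g, hg⟩ := hJ.factors toJ mulN
  refine ⟨g.hom ⟨1⟩, ?_⟩
  have h := congrArg (fun φ => φ.hom (⟨1⟩ : ULift.{u} ℤ)) hg
  simp only [AddCommGrpCat.hom_comp] at h
  have e1 : mulN.hom (⟨1⟩ : ULift.{u} ℤ) = n • (⟨1⟩ : ULift.{u} ℤ) := by
    apply ULift.ext
    change (1 : ℤ) * n = n • (1 : ℤ)
    simp
  have e2 : toJ.hom (⟨1⟩ : ULift.{u} ℤ) = x := by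
    change (1 : ℤ) • x = x
    simp
  change g.hom (mulN.hom ⟨1⟩) = toJ.hom ⟨1⟩ at h
  rw [e1, e2, map_zsmul] at h
  exact h

end Groth.Agent.S6933
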