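import Groth.Statements.S6934
-- import your own Groth.Agent.* helpers here

set_option autoImplicit false
universe u
open EtAlg

namespace Groth.Agent.S6934

/-- Let `s : B → R`, `t : R' → R` be ring maps and `B' = B ×_R R'` the fibre product ring, i.e. a ring
`B'` with maps `p : B' → B`, `q : B' → R'`, `s ∘ p = t ∘ q`, such that `(p, q)` is injective with
image the pairs `(b, r')` with `s(b) = t(r')`. Let `h ∈ B'` with images `g = p(h)`, `f = q(h)`. Then
the square of localizations `B'_h → B_g`, `B'_h → R'_f`, `B_g → R_{s(g)}`, `R'_f → R_{t(f)} =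
R_{s(g)}` (the induced maps) is cartesian as well: `B'_h = B_g ×_{R_{s(g)}} R'_f`. -/
theorem result {B R R' B' : Type u} [CommRing B] [CommRing R] [CommRing R'] [CommRing B']
    (s : B →+* R) (t : R' →+* R) (p : B' →+* B) (q : B' →+* R') (hc : s.comp p = t.comp q)
    (hinj : ∀ x y : B', p x = p y → q x = q y → x = y) (hsurj : ∀ (b : B) (r' : R'), s b = t r' → ∃ x : B', p x = b ∧ q x = r')
    (h : B') (Bh Bg Rf Rsg : Type u) [CommRing Bh] [CommRing Bg] [CommRing Rf] [CommRing Rsg]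
    [Algebra B' Bh] [IsLocalization.Away h Bh] [Algebra B Bg] [IsLocalization.Away (p h) Bg]
    [Algebra R' Rf] [IsLocalization.Away (q h) Rf] [Algebra R Rsg] [IsLocalization.Away (s (p h)) Rsg]
    (pL : Bh →+* Bg) (qL : Bh →+* Rf) (sL : Bg →+* Rsg) (tL : Rf →+* Rsg)
    (hp : pL.comp (algebraMap B' Bh) = (algebraMap B Bg).comp p) (hq : qL.comp (algebraMap B' Bh) = (algebraMap R' Rf).comp q)
    (hs : sL.comp (algebraMap B Bg) = (algebraMap R Rsg).comp s) (ht : tL.comp (algebraMap R' Rf) = (algebraMap R Rsg).comp t) :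
    (∀ x y : Bh, pL x = pL y → qL x = qL y → x = y) ∧
    (∀ (b : Bg) (r : Rf), sL b = tL r → ∃ x : Bh, pL x = b ∧ qL x = r) := by
  have hp' : ∀ x, pL (algebraMap B' Bh x) = algebraMap B Bg (p x) := fun x => RingHom.congr_fun hp x
  have hq' : ∀ x, qL (algebraMap B' Bh x) = algebraMap R' Rf (q x) := fun x => RingHom.congr_fun hq x
  have hs' : ∀ x, sL (algebraMap B Bg x) = algebraMap R Rsg (s x) := fun x => RingHom.congr_fun hs x
  have ht' : ∀ x, tL (algebraMap R' Rf x) = algebraMap R Rsg (t x) := fun x => RingHom.congr_fun ht x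
  have hc' : ∀ x, s (p x) = t (q x) := fun x => RingHom.congr_fun hc x
  have uh : IsUnit (algebraMap B' Bh h) := IsLocalization.Away.algebraMap_isUnit h
  have ug : IsUnit (algebraMap B Bg (p h)) := IsLocalization.Away.algebraMap_isUnit (p h)
  have uf : IsUnit (algebraMap R' Rf (q h)) := IsLocalization.Away.algebraMap_isUnit (q h)
  constructor
  · -- injectivity
    intro x y hpxy hqxy
    rw [← sub_eq_zero]
    have hpz : pL (x - y) = 0 := by rw [map_sub, hpxy, sub_self]
    have hqz : qL (x - y) = 0 := by rw [map_sub, hqxy, sub_self]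
    generalize x - y = z at hpz hqz
    obtain ⟨n, b', hz⟩ := IsLocalization.Away.surj h z
    have h1 : algebraMap B Bg (p b') = algebraMap B Bg 0 := by
      rw [← hp', ← hz, map_mul, hpz, zero_mul, map_zero]
    have h2 : algebraMap R' Rf (q b') = algebraMap R' Rf 0 := by
      rw [← hq', ← hz, map_mul, hqz, zero_mul, map_zero]
    obtain ⟨k, hk⟩ := IsLocalization.Away.exists_of_eq (p h) h1
    obtain ⟨l, hl⟩ := IsLocalization.Away.exists_of_eq (q h) h2
    rw [mul_zero] at hk hl
    have h3 : h ^ (k + l) * b' = 0 := by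
      apply hinj
      · have e : p (h ^ (k + l) * b') = p h ^ l * (p h ^ k * p b') := by
          rw [map_mul, map_pow, pow_add]
          ring
        rw [e, hk, mul_zero, map_zero]
      · have e : q (h ^ (k + l) * b') = q h ^ k * (q h ^ l * q b') := by
          rw [map_mul, map_pow, pow_add]
          ring
        rw [e, hl, mul_zero, map_zero]
    have h4 : algebraMap B' Bh b' = 0 := by
      have := congrArg (algebraMap B' Bh) h3
      rw [map_mul, map_pow, map_zero] at this
      exact (uh.pow (k + l)).mul_right_eq_zero.mp this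
    rw [h4] at hz
    exact (uh.pow n).mul_left_eq_zero.mp hz
  · -- surjectivity
    intro b r hbr
    obtain ⟨n₁, b₀, hb⟩ := IsLocalization.Away.surj (p h) b
    obtain ⟨n₂, r₀, hr⟩ := IsLocalization.Away.surj (q h) r
    have hb1 : b * algebraMap B Bg (p h) ^ (n₁ + n₂) = algebraMap B Bg (b₀ * p h ^ n₂) := by
      rw [pow_add, ← mul_assoc, hb, map_mul, map_pow]
    have hr1 : r * algebraMap R' Rf (q h) ^ (n₁ + n₂) = algebraMap R' Rf (r₀ * q h ^ n₁) := by
      rw [pow_add, mul_comm (algebraMap R' Rf (q h) ^ n₁), ← mul_assoc, hr, map_mul, map_pow]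
    have h5 : algebraMap R Rsg (s (b₀ * p h ^ n₂)) = algebraMap R Rsg (t (r₀ * q h ^ n₁)) := by
      rw [← hs', ← ht', ← hb1, ← hr1, map_mul, map_mul, map_pow, map_pow, hs', ht', hbr, hc']
    obtain ⟨k, hk⟩ := IsLocalization.Away.exists_of_eq (s (p h)) h5
    have h6 : s (p h ^ k * (b₀ * p h ^ n₂)) = t (q h ^ k * (r₀ * q h ^ n₁)) := by
      have e1 : s (p h ^ k * (b₀ * p h ^ n₂)) = s (p h) ^ k * s (b₀ * p h ^ n₂) := by
        rw [map_mul, map_pow]
      have e2 : t (q h ^ k * (r₀ * q h ^ n₁)) = s (p h) ^ k * t (r₀ * q h ^ n₁) := by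
        rw [map_mul, map_pow, hc']
      rw [e1, e2, hk]
    obtain ⟨x₀, hx₀p, hx₀q⟩ := hsurj _ _ h6
    obtain ⟨u, hu⟩ := uh
    refine ⟨algebraMap B' Bh x₀ * ((u⁻¹ : (Bh)ˣ) : Bh) ^ (n₁ + n₂ + k), ?_, ?_⟩
    · apply (ug.pow (n₁ + n₂ + k)).mul_left_injective
      change _ * _ = _ * _
      have e : pL (algebraMap B' Bh x₀ * ((u⁻¹ : (Bh)ˣ) : Bh) ^ (n₁ + n₂ + k)) *
          algebraMap B Bg (p h) ^ (n₁ + n₂ + k) = pL (algebraMap B' Bh x₀) := by
        rw [← hp', ← map_pow, ← map_mul, ← hu, mul_assoc, ← mul_pow]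
        simp
      rw [e, hp', hx₀p, map_mul, map_pow, ← hb1, pow_add _ (n₁ + n₂) k]
      ring
    · apply (uf.pow (n₁ + n₂ + k)).mul_left_injective
      change _ * _ = _ * _
      have e : qL (algebraMap B' Bh x₀ * ((u⁻¹ : (Bh)ˣ) : Bh) ^ (n₁ + n₂ + k)) *
          algebraMap R' Rf (q h) ^ (n₁ + n₂ + k) = qL (algebraMap B' Bh x₀) := by
        rw [← hq', ← map_pow, ← map_mul, ← hu, mul_assoc, ← mul_pow]
        simp
      rw [e, hq', hx₀q, map_mul, map_pow, ← hr1, pow_add _ (n₁ + n₂) k]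
      ring

end Groth.Agent.S6934
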