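import Groth.Statements.S6939
import Groth.Agent.Lib.Helper12.DRingPCHomology
-- import your own Groth.Agent.* helpers here

set_option autoImplicit false
universe u
open CategoryTheory CategoryTheory.Limits
attribute [local instance] HasDerivedCategory.standard
open DRing

namespace Groth.Agent.S6939

/-- Let R be a commutative ring, m an integer and K an object of D(R) whose cohomology vanishes in large
degrees. If the module H^i(K) is (m - i)-pseudo-coherent for every i, then K is m-pseudo-coherent;
if every H^i(K) is a pseudo-coherent module, then K is pseudo-coherent. -/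
theorem result (R : Type u) [CommRing R] (m : ℤ)
    (K : Dual.D R) (hb : ∃ b : ℤ, ∀ i : ℤ, b < i → Subsingleton (Dual.HD R K i)) :
    ((∀ i : ℤ, DRing.IsPseudoCoherentModule R (m - i) (Dual.HD R K i)) → DRing.IsPseudoCoherent R m K) ∧
      ((∀ i : ℤ, DRing.IsPseudoCoherentModule' R (Dual.HD R K i)) → DRing.IsPseudoCoherent' R K) := by
  obtain ⟨b, hb⟩ := hb
  have hb' : ∀ i : ℤ, b < i → IsZero ((Groth.Agent.Lib.Helper12.HF R i).obj K) := fun i hi => by
    have := hb i hi
    exact ModuleCat.isZero_of_subsingleton _
  constructor
  · intro h
    exact Groth.Agent.Lib.Helper12.isPseudoCoherent_of_homology m K b hb' (fun i _ => h i)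
  · intro h
    apply Groth.Agent.Lib.Helper12.isPseudoCoherent'_of_forall
    intro m'
    refine Groth.Agent.Lib.Helper12.isPseudoCoherent_of_homology m' K b hb' (fun i _ => ?_)
    exact Groth.Agent.Lib.Helper12.isPseudoCoherent_of_isPseudoCoherent' (h i) _

end Groth.Agent.S6939
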