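import Groth.Statements.S6942
import Groth.Agent.Lib.Helper12.DRingPCHomology
-- import your own Groth.Agent.* helpers here

set_option autoImplicit false
universe u
open CategoryTheory CategoryTheory.Limits
attribute [local instance] HasDerivedCategory.standard
open DRing

namespace Groth.Agent.S6942

/-- Let R be a Noetherian commutative ring and m an integer. An object K of D(R) is m-pseudo-coherent
exactly when H^i(K) = 0 for all large i and H^i(K) is a finitely generated R-module for each i ≥ m.
Every finitely generated R-module M is pseudo-coherent, and conversely. -/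
theorem result (R : Type u) [CommRing R]
    [IsNoetherianRing R] (m : ℤ) (K : Dual.D R) (M : Type u) [AddCommGroup M] [Module R M] :
    (DRing.IsPseudoCoherent R m K ↔
      (∃ b : ℤ, ∀ i : ℤ, b < i → Subsingleton (Dual.HD R K i)) ∧ ∀ i : ℤ, m ≤ i → Module.Finite R (Dual.HD R K i)) ∧
      (DRing.IsPseudoCoherentModule' R M ↔ Module.Finite R M) := by
  constructor
  · rw [Groth.Agent.Lib.Helper12.isPseudoCoherent_iff_of_isNoetherianRing]
    constructor
    · rintro ⟨⟨b, hb⟩, h⟩
      exact ⟨⟨b, fun i hi => ModuleCat.subsingleton_of_isZero (hb i hi)⟩, h⟩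
    · rintro ⟨⟨b, hb⟩, h⟩
      refine ⟨⟨b, fun i hi => ?_⟩, h⟩
      have := hb i hi
      exact ModuleCat.isZero_of_subsingleton _
  · constructor
    · intro h
      have h0 : DRing.IsPseudoCoherent R 0 (Dual.inD R M) :=
        Groth.Agent.Lib.Helper12.isPseudoCoherent_of_isPseudoCoherent' h 0
      have h1 := Groth.Agent.S2068.part_a (Dual.inD R M) 0 h0
        (fun i hi => Groth.Agent.Lib.Helper12.isZero_HF_single 0 _ i (by omega))
      have e : (Groth.Agent.Lib.Helper12.HF R 0).obj (Dual.inD R M) ≅ ModuleCat.of R M :=
        Groth.Agent.Lib.Helper12.HFSingleIso 0 _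
      exact Module.Finite.equiv e.toLinearEquiv
    · intro h
      apply Groth.Agent.Lib.Helper12.isPseudoCoherent'_of_forall
      intro m'
      have : Module.Finite R (ModuleCat.of R M) := h
      exact Groth.Agent.Lib.Helper12.isPseudoCoherent_inD_of_finite_of_isNoetherianRing'
        (ModuleCat.of R M) m'

end Groth.Agent.S6942
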