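import Groth.Statements.S6949
import Groth.Agent.Lib.Helper12.DRingZariskiDescent
-- import your own Groth.Agent.* helpers here

set_option autoImplicit false
universe u
open CategoryTheory CategoryTheory.Limits
attribute [local instance] HasDerivedCategory.standard
open DRing

namespace Groth.Agent.S6949

/-- Let R be a commutative ring, f_1, ..., f_r elements generating the unit ideal, K a cochain complex
of R-modules and a, b integers. If for every i the termwise localization K ⊗_R R_(f_i) has tor
amplitude in [a, b] as an object of D(R_(f_i)), then K has tor amplitude in [a, b] as an object of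
D(R). -/
theorem result {R : Type u} [CommRing R] {r : ℕ} (f : Fin r → R)
    (hf : Ideal.span (Set.range f) = ⊤) (K : DRing.Cx R) (a b : ℤ)
    (hK : ∀ i, DRing.HasTorAmplitudeIn (Localization.Away (f i)) a b
      (DRing.toD (((ModuleCat.extendScalars (algebraMap R (Localization.Away (f i)))).mapHomologicalComplex
        (ComplexShape.up ℤ)).obj K))) :
    DRing.HasTorAmplitudeIn R a b (DRing.toD K) := by
  refine Groth.Agent.Lib.Helper12.hasTorAmplitudeIn_of_family (Groth.Agent.Lib.Helper12.jointlyFF_away f hf) a b (DRing.toD K) (fun i => ?_)
  exact Groth.Agent.Lib.Helper12.hasTorAmplitudeIn_of_iso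
    (Groth.Agent.Lib.Helper12.extScD_toD (A := R) (B := Localization.Away (f i)) K).symm (hK i)

end Groth.Agent.S6949
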