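import Groth.Statements.S6957
import Groth.Agent.Lib.Helper12.DerivedBaseChange
import Groth.Agent.Lib.Helper12.FlatExtendPerfect

set_option autoImplicit false
universe u
open CategoryTheory CategoryTheory.Limits
attribute [local instance] HasDerivedCategory.standard
open DRing

namespace Groth.Agent.S6957

open Groth.Agent.Lib.Helper12

/-- Let A → B be a homomorphism of commutative rings such that the derived base change D(A) → D(B)
exists, and let K be a perfect object of D(A). Then K ⊗^L_A B is a perfect object of D(B). -/
theorem result {A B : Type u} [CommRing A] [CommRing B] (φ : A →+* B)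
    [DRing.HasLBaseChange φ] (K : Dual.D A) (hK : DRing.IsPerfect A K) :
    DRing.IsPerfect B ((DRing.LBaseChange φ).obj K) := by
  obtain ⟨E, a, b, hE, hfp, ⟨e⟩⟩ := hK
  let _ : Algebra A B := φ.toAlgebra
  have hproj : ∀ i, Module.Projective A (E.X i) := fun i => (hfp i).2
  have : E.IsKProjective :=
    isKProjective_of_vanishesAbove E b (vanishesAbove_of_vanishesOutside hE) hproj
  refine ⟨bcCx φ E, a, b, ?_, ?_, ⟨(LBaseChangeIso φ E).symm ≪≫ (LBaseChange φ).mapIso e⟩⟩
  · intro i hi
    exact extSc_isZero (A := A) (B := B) _ (hE i hi)
  · intro i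
    have := (hfp i).1
    have := (hfp i).2
    exact extSc_finite_projective (A := A) (B := B) (E.X i)

end Groth.Agent.S6957
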