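import Groth.Statements.S6959
-- import your own Groth.Agent.* helpers here
import Mathlib
import Groth.Agent.Lib.Helper36.LTensorCxPC

set_option autoImplicit false
universe u
open CategoryTheory CategoryTheory.Limits
attribute [local instance] HasDerivedCategory.standard
open DRing

namespace Groth.Agent.S6959

/-- Let R be a commutative ring, K a perfect object of D(R) and L a cochain complex of R-modules
defining a perfect object of D(R); assume the derived tensor product - ⊗^L_R L exists on D(R). Then
K ⊗^L_R L is a perfect object of D(R). -/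
theorem result (R : Type u) [CommRing R] (K : Dual.D R) (hK : DRing.IsPerfect R K)
    (L : DRing.Cx R) (hL : DRing.IsPerfect R (DRing.toD L)) [DRing.HasLTensorCx R L] :
    DRing.IsPerfect R ((DRing.LTensorCx R L).obj K) := by
  obtain ⟨P, a, b, hb, hP, ⟨eK⟩⟩ := hK
  obtain ⟨L', a', b', hb', hL', ⟨eL⟩⟩ := hL
  have hPp : ∀ i, Module.Projective R (P.X i) := fun i => (hP i).2
  have hL'p : ∀ i, Module.Projective R (L'.X i) := fun i => (hL' i).2
  obtain ⟨e⟩ := Groth.Agent.Lib.Helper36.LTCx.nonempty_lTensorCx_iso L L' P b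
    (fun i hi => hb i (Or.inr hi)) hPp b' (fun i hi => hb' i (Or.inr hi)) hL'p eL
  refine ⟨MonoidalCategory.tensorObj P L', a + a', b + b',
    Groth.Agent.Lib.Helper36.TT.vanishesOutside_tensor P L' hb hb', ?_,
    ⟨e.symm ≪≫ (DRing.LTensorCx R L).mapIso eK⟩⟩
  intro n
  refine ⟨?_, Groth.Agent.Lib.Helper36.TT.projective_tensor_X P L' n hPp hL'p⟩
  refine Groth.Agent.Lib.Helper36.TT.finite_tensor_X P L' n (fun i => (hP i).1)
    (fun i => (hL' i).1) a b ?_
  intro p q hpq hp
  exact Or.inl (hb p hp)

end Groth.Agent.S6959
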