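import Groth.Statements.S6962
import Mathlib
import Groth.Agent.Lib.Helper12.DRingClosure
import Groth.Agent.Lib.Helper12.DRingPCHomology
import Groth.Agent.Lib.Helper12.DRingPCModule
import Groth.Agent.Lib.Helper12.DRingSingle
import Groth.Agent.S5165

set_option autoImplicit false
universe u
open CategoryTheory CategoryTheory.Limits
attribute [local instance] HasDerivedCategory.standard
open DRing

namespace Groth.Agent.S6962

open Groth.Agent.Lib.Helper12 CategoryTheory.Pretriangulated

/-- a finite projective module, placed in degree `0`, is perfect -/
theorem isPerfect_inD_of_finite_projective {A : Type u} [CommRing A] (M : ModuleCat.{u} A)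
    [Module.Finite A M] [Module.Projective A M] : IsPerfect A (Dual.inD A M) := by
  refine ⟨singleCx 0 M, 0, 0, ?_, ?_, ⟨toDSingleIso' 0 M⟩⟩
  · intro i hi
    have hi0 : i ≠ 0 := by omega
    exact HomologicalComplex.isZero_single_obj_X (ComplexShape.up ℤ) 0 M i hi0
  · intro i
    by_cases hi : i = 0
    · subst hi
      have e : (singleCx 0 M).X 0 ≅ M :=
        HomologicalComplex.singleObjXSelf (ComplexShape.up ℤ) 0 M
      exact ⟨Module.Finite.equiv e.symm.toLinearEquiv,
        Module.Projective.of_equiv e.symm.toLinearEquiv⟩
    · have hz : IsZero ((singleCx 0 M).X i) :=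
        HomologicalComplex.isZero_single_obj_X (ComplexShape.up ℤ) 0 M i hi
      have hsub : Subsingleton ((singleCx 0 M).X i) := ModuleCat.subsingleton_of_isZero hz
      exact ⟨inferInstance, inferInstance⟩

/-- over a Noetherian ring, a finite module of finite projective dimension is perfect -/
theorem isPerfect_inD_of_hasProjectiveDimensionLT {A : Type u} [CommRing A] [IsNoetherianRing A] :
    ∀ (n : ℕ) (M : ModuleCat.{u} A) [Module.Finite A M],
      HasProjectiveDimensionLT M (n + 1) → IsPerfect A (Dual.inD A M) := by
  intro n
  induction n with
  | zero =>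
    intro M _ h
    have hproj : Projective M := projective_iff_hasProjectiveDimensionLT_one.mpr h
    have : Module.Projective A M := (IsProjective.iff_projective M).mpr hproj
    exact isPerfect_inD_of_finite_projective M
  | succ n ih =>
    intro M _ h
    obtain ⟨r, p, hp⟩ := Module.Finite.exists_fin' A M
    let F : ModuleCat.{u} A := ModuleCat.of A (Fin r → A)
    let N : ModuleCat.{u} A := ModuleCat.of A (LinearMap.ker p)
    let S : ShortComplex (ModuleCat.{u} A) :=
      ShortComplex.mk (ModuleCat.ofHom (LinearMap.ker p).subtype) (ModuleCat.ofHom p) (by
        ext x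
        exact x.2)
    have hS : S.ShortExact := by
      refine ShortComplex.ShortExact.mk' ?_ ?_ ?_
      · rw [ShortComplex.ShortExact.moduleCat_exact_iff_function_exact]
        exact LinearMap.exact_subtype_ker_map p
      · exact (ModuleCat.mono_iff_injective _).mpr (Submodule.injective_subtype _)
      · exact (ModuleCat.epi_iff_surjective _).mpr hp
    have hT := hS.singleTriangle_distinguished
    have hN : Module.Finite A N :=
      inferInstanceAs (Module.Finite A (LinearMap.ker p))
    have hFfin : Module.Finite A F := inferInstanceAs (Module.Finite A (Fin r → A))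
    have hFproj : Module.Projective A F := inferInstanceAs (Module.Projective A (Fin r → A))
    have hFP : Projective F := (IsProjective.iff_projective F).mp hFproj
    have hNpd : HasProjectiveDimensionLT N (n + 1) := by
      have h2 : HasProjectiveDimensionLT S.X₂ (n + 1) := by
        have : Projective S.X₂ := hFP
        infer_instance
      exact hS.hasProjectiveDimensionLT_X₁ (n + 1) h2 h
    have h1 : IsPerfect A (Dual.inD A N) := ih N hNpd
    have h2 : IsPerfect A (Dual.inD A F) := isPerfect_inD_of_finite_projective F
    exact (RepBounded.two_out_of_three (finiteProjective A) finiteProjective_projective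
      hS.singleTriangle hT).1 h1 h2

/-- Let R be a regular commutative ring, i.e. R is Noetherian and its localization at every prime ideal
is a regular local ring. Then an R-module M is perfect (M[0] is isomorphic in D(R) to a bounded
complex of finite projective modules) if and only if M is finitely generated. -/
theorem result (R : Type u) [CommRing R] [IsNoetherianRing R]
    (hreg : ∀ p : PrimeSpectrum R, IsRegularLocalRing (Localization.AtPrime p.asIdeal))
    (M : Type u) [AddCommGroup M] [Module R M] :
    DRing.IsPerfectModule R M ↔ Module.Finite R M := by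
  constructor
  · rintro ⟨E, a, b, hE, hfp, ⟨e⟩⟩
    have h1 : Module.Finite R ((HF R 0).obj (toD E)) := finite_HF_toD_of_finite E 0 (hfp 0).1
    have e1 : (HF R 0).obj (toD E) ≅ (HF R 0).obj (Dual.inD R M) := (HF R 0).mapIso e
    have e2 : (HF R 0).obj (Dual.inD R M) ≅ ModuleCat.of R M :=
      (HFSingleNatIso 0).app (ModuleCat.of R M)
    exact Module.Finite.equiv (e1 ≪≫ e2).toLinearEquiv
  · intro hfin
    have hR : IsRegularRing R := by
      rw [isRegularRing_iff]
      intro p hp
      exact hreg ⟨p, hp⟩
    obtain ⟨d, hd⟩ := Groth.Agent.S5165.result R M
    have hd' : HasProjectiveDimensionLT (ModuleCat.of R M) (d + 1) := hd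
    exact isPerfect_inD_of_hasProjectiveDimensionLT d (ModuleCat.of R M) hd'

end Groth.Agent.S6962
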