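import Groth.Statements.S6963
-- import your own Groth.Agent.* helpers here
import Mathlib
import Groth.Agent.Lib.Helper36.HomCxKFlat.DualPerfect
import Groth.Agent.Lib.Helper36.HomCxKFlat.RHomRep
import Groth.Agent.Lib.Helper12.DRingSingle
import Groth.Agent.Lib.Helper12.DRingTower

set_option autoImplicit false
universe u
open CategoryTheory CategoryTheory.Limits
attribute [local instance] HasDerivedCategory.standard
open DRing

namespace Groth.Agent.S6963

/-- Let A be a commutative ring and K a perfect object of D(A), represented by a cochain complex E for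
which RHom_A(E, -) exists; write K^∨ = RHom_A(E, A). Then K^∨ is a perfect object of D(A), and for
every cochain complex E' representing K^∨ for which RHom_A(E', -) exists, RHom_A(E', A) is
isomorphic to K in D(A) (existence of an isomorphism only; the canonical one is the double-duality
map). -/
theorem result (A : Type u) [CommRing A] (K : Dual.D A) (hK : DRing.IsPerfect A K)
    (E : DRing.Cx A) (eK : DRing.toD E ≅ K) [DRing.HasRHomCx E] :
    DRing.IsPerfect A ((DRing.RHomCx E).obj (Dual.inD A A)) ∧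
      ∀ (E' : DRing.Cx A) (eK' : DRing.toD E' ≅ (DRing.RHomCx E).obj (Dual.inD A A)) [DRing.HasRHomCx E'],
        Nonempty ((DRing.RHomCx E').obj (Dual.inD A A) ≅ K) := by
  obtain ⟨P, a, b, hP, hfp, ⟨e⟩⟩ := hK
  -- the unit complex and its image in `D(A)`
  let eU : DRing.toD (Groth.Agent.Lib.Helper36.BD.U (A := A)) ≅ Dual.inD A A :=
    Groth.Agent.Lib.Helper12.toDSingleIso' 0 (ModuleCat.of A A)
  have hKP : P.IsKProjective :=
    Groth.Agent.Lib.Helper12.isKProjective_of_vanishesAbove P b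
      (Groth.Agent.Lib.Helper12.vanishesAbove_of_vanishesOutside hP) (fun i => (hfp i).2)
  -- a quasi-isomorphism `P ⟶ E`
  obtain ⟨g, hg⟩ := Groth.Agent.Lib.Helper12.exists_map_of_isKProjective P E (e.hom ≫ eK.inv)
  have hgiso : IsIso (DerivedCategory.Q.map g : (DerivedCategory.Q.obj P : Dual.D A) ⟶ _) := by
    rw [hg]
    infer_instance
  have hgq : QuasiIso g := (DerivedCategory.isIso_Q_map_iff_quasiIso (ModuleCat.{u} A) g).1 hgiso
  obtain ⟨e1⟩ := Groth.Agent.Lib.Helper36.RHR.nonempty_rhomCx_iso_of_quasiIso E P g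
    (Groth.Agent.Lib.Helper36.BD.U (A := A))
  -- the dual complex
  set Pd : DRing.Cx A := DRing.homCx P (Groth.Agent.Lib.Helper36.BD.U (A := A)) with hPd
  have hPdv : DRing.VanishesOutside Pd (-b) (-a) :=
    Groth.Agent.Lib.Helper36.BD.vanishesOutside_dual P a b hP
  have hPdf : DRing.TermwiseFiniteProjective Pd :=
    Groth.Agent.Lib.Helper36.BD.termwiseFiniteProjective_dual P hfp
  -- `K^∨ ≅ Q(Pd)`
  let eD : (DRing.RHomCx E).obj (Dual.inD A A) ≅ DRing.toD Pd :=
    (DRing.RHomCx E).mapIso eU.symm ≪≫ e1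
  refine ⟨⟨Pd, -b, -a, hPdv, hPdf, ⟨eD.symm⟩⟩, ?_⟩
  intro E' eK' _
  have hKPd : Pd.IsKProjective :=
    Groth.Agent.Lib.Helper12.isKProjective_of_vanishesAbove Pd (-a)
      (Groth.Agent.Lib.Helper12.vanishesAbove_of_vanishesOutside hPdv) (fun i => (hPdf i).2)
  obtain ⟨g', hg'⟩ := Groth.Agent.Lib.Helper12.exists_map_of_isKProjective Pd E'
    (eD.inv ≫ eK'.inv)
  have hg'iso : IsIso (DerivedCategory.Q.map g' : (DerivedCategory.Q.obj Pd : Dual.D A) ⟶ _) := by
    rw [hg']
    infer_instance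
  have hg'q : QuasiIso g' :=
    (DerivedCategory.isIso_Q_map_iff_quasiIso (ModuleCat.{u} A) g').1 hg'iso
  obtain ⟨e2⟩ := Groth.Agent.Lib.Helper36.RHR.nonempty_rhomCx_iso_of_quasiIso E' Pd g'
    (Groth.Agent.Lib.Helper36.BD.U (A := A))
  have h3 := Groth.Agent.Lib.Helper36.BD.isIso_Q_map_eta P a b hP hfp
  exact ⟨(DRing.RHomCx E').mapIso eU.symm ≪≫ e2 ≪≫
    (asIso (DerivedCategory.Q.map (Groth.Agent.Lib.Helper36.BD.eta
      (Groth.Agent.Lib.Helper36.BD.U (A := A)) P))).symm ≪≫ e⟩

end Groth.Agent.S6963
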