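import Groth.Statements.S6964
import Groth.Agent.Lib.Helper12.DRingExt
-- import your own Groth.Agent.* helpers here

set_option autoImplicit false
universe u
open CategoryTheory CategoryTheory.Limits
attribute [local instance] HasDerivedCategory.standard
open DRing

namespace Groth.Agent.S6964

open Groth.Agent.Lib.Helper12

lemma projective_of_retract {R : Type u} [CommRing R] {M P : ModuleCat.{u} R}
    (hP : Module.Projective R P) (s : M ⟶ P) (r : P ⟶ M) (h : s ≫ r = 𝟙 _) :
    Module.Projective R M := by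
  refine Module.Projective.of_split s.hom r.hom ?_
  rw [← ModuleCat.hom_comp, h]
  rfl

lemma one_two {R : Type u} [CommRing R] (K : Dual.D R) (a b : ℤ)
    (h : ∃ P : DRing.Cx R, DRing.VanishesOutside P a b ∧ (∀ i : ℤ, Module.Projective R (P.X i)) ∧
        Nonempty (DRing.toD P ≅ K)) (N : ModuleCat.{u} R) (n : ℤ) (hn : n < a ∨ b < n)
    (f : K ⟶ (Dual.inD R N)⟦-n⟧) : f = 0 := by
  obtain ⟨P, hP, hproj, ⟨e⟩⟩ := h
  have := hom_eq_zero_of_projective_amplitude P a b hP hproj N n hn (e.hom ≫ f)
  rw [← cancel_epi e.hom, this, comp_zero]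

lemma four_one {R : Type u} [CommRing R] (K : Dual.D R) (a b : ℤ)
    (h1 : ∀ n : ℤ, (n < a - 1 ∨ b < n) → IsZero ((HF R n).obj K))
    (h2 : ∀ (j : ℤ), j = -a + 1 → ∀ (N : ModuleCat.{u} R) (f : K ⟶ (Dual.inD R N)⟦j⟧), f = 0) :
    ∃ P : DRing.Cx R, DRing.VanishesOutside P a b ∧ (∀ i : ℤ, Module.Projective R (P.X i)) ∧
        Nonempty (DRing.toD P ≅ K) := by
  obtain ⟨P, hP, hproj, ⟨e⟩⟩ := exists_projective_rep K b (fun i hi => h1 i (Or.inr hi))
  obtain ⟨P', hP', hret, ⟨e'⟩⟩ := exists_truncation_of_hom_eq_zero P a b hP hproj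
    (fun i hi => (h1 i (Or.inl hi)).of_iso ((HF R i).mapIso e))
    (fun N f => by
      have := h2 (-(a - 1)) (by ring) N (e.inv ≫ f)
      rw [← cancel_epi e.inv, this, comp_zero])
  refine ⟨P', hP', fun i => ?_, ⟨e' ≪≫ e⟩⟩
  obtain ⟨s, r, hsr⟩ := hret i
  exact projective_of_retract (hproj i) s r hsr

/-- Let R be a commutative ring, K an object of D(R) and a, b integers. These four conditions are
equivalent: (1) the projective amplitude of K lies in [a, b], meaning K is isomorphic in D(R) to a
complex of projective R-modules vanishing outside [a, b]; (2) Hom(K, N[i]) = 0 in D(R) for every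
R-module N and every integer i outside [-b, -a]; (3) H^n(K) = 0 for all n > b and Hom(K, N[i]) = 0
for every R-module N and every i > -a; (4) H^n(K) = 0 for all n outside [a - 1, b] and Hom(K, N[-a +
1]) = 0 for every R-module N. -/
theorem result (R : Type u) [CommRing R] (K : Dual.D R) (a b : ℤ) :
    [∃ P : DRing.Cx R, DRing.VanishesOutside P a b ∧ (∀ i : ℤ, Module.Projective R (P.X i)) ∧
        Nonempty (DRing.toD P ≅ K),
      ∀ (N : Type u) [AddCommGroup N] [Module R N] (i : ℤ), (i < -b ∨ -a < i) →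
        Subsingleton (DRing.ExtD R K (Dual.inD R N) i),
      (∀ n : ℤ, b < n → Subsingleton (Dual.HD R K n)) ∧
        ∀ (N : Type u) [AddCommGroup N] [Module R N] (i : ℤ), -a < i → Subsingleton (DRing.ExtD R K (Dual.inD R N) i),
      (∀ n : ℤ, (n < a - 1 ∨ b < n) → Subsingleton (Dual.HD R K n)) ∧
        ∀ (N : Type u) [AddCommGroup N] [Module R N], Subsingleton (DRing.ExtD R K (Dual.inD R N) (-a + 1))].TFAE := by
  tfae_have 1 → 2 := by
    intro h N _ _ i hi
    obtain ⟨n, rfl⟩ : ∃ n : ℤ, i = -n := ⟨-i, by simp⟩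
    refine ⟨fun f g => ?_⟩
    have hn : n < a ∨ b < n := by omega
    have hf := one_two K a b h (ModuleCat.of R N) n hn f
    have hg := one_two K a b h (ModuleCat.of R N) n hn g
    exact hf.trans hg.symm
  tfae_have 2 → 3 := by
    intro h
    refine ⟨fun n hn => ?_, fun N _ _ i hi => h N i (Or.inr hi)⟩
    apply ModuleCat.subsingleton_of_isZero
    apply isZero_HF_of_forall_hom_eq_zero K n
    intro N f
    have := h N (-n) (Or.inl (by omega))
    exact Subsingleton.elim _ _
  tfae_have 3 → 4 := by
    rintro ⟨h1, h2⟩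
    refine ⟨fun n hn => ?_, fun N _ _ => h2 N (-a + 1) (by omega)⟩
    rcases hn with hn | hn
    · apply ModuleCat.subsingleton_of_isZero
      apply isZero_HF_of_forall_hom_eq_zero K n
      intro N f
      have := h2 N (-n) (by omega)
      exact Subsingleton.elim _ _
    · exact h1 n hn
  tfae_have 4 → 1 := by
    rintro ⟨h1, h2⟩
    refine four_one K a b (fun n hn => ?_) ?_
    · have := h1 n hn
      exact ModuleCat.isZero_of_subsingleton _
    · intro j hj N f
      subst hj
      have := h2 N
      exact Subsingleton.elim _ _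
  tfae_finish

end Groth.Agent.S6964
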