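import Groth.Statements.S6966
import Mathlib

set_option autoImplicit false
universe u
open CategoryTheory CategoryTheory.Limits
attribute [local instance] HasDerivedCategory.standard
open CAlg

namespace Groth.Agent.S6966

open Abelian in
/-- Precomposition with `r • 𝟙` is scalar multiplication on `Ext`. -/
theorem mk₀_smul_id_comp {R : Type u} [CommRing R] {X Y : ModuleCat.{u} R} {n : ℕ}
    (x : Ext X Y n) (r : R) :
    (Ext.mk₀ (r • 𝟙 X)).comp x (zero_add n) = r • x := by
  rw [Ext.mk₀_smul, Ext.smul_comp, Ext.mk₀_id_comp]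


/-- Let R be a commutative ring, I an ideal of R and M an R-module. Then the following two conditions
coincide: for each a ∈ I, the endomorphism of M given by multiplication by a can be written as a
composite M → P → M with P some projective R-module; and for every R-module N and every a ∈ I, a
annihilates Ext^1_R(M, N) = Hom(M[0], N[1]) in D(R). -/
theorem result (R : Type u) [CommRing R] (I : Ideal R) (M : Type u)
    [AddCommGroup M] [Module R M] :
    (∀ a ∈ I, ∃ (P : Type u) (_ : AddCommGroup P) (_ : Module R P) (_ : Module.Projective R P)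
        (f : M →ₗ[R] P) (g : P →ₗ[R] M), g ∘ₗ f = a • LinearMap.id) ↔
      ∀ (N : Type u) [AddCommGroup N] [Module R N], ∀ a ∈ I,
        ∀ x : DRing.ExtD R (Dual.inD R M) (Dual.inD R N) 1, a • x = 0 := by
  constructor
  · intro h N _ _ a ha x
    obtain ⟨P, _, _, _, f, g, hgf⟩ := h a ha
    -- transport to `Abelian.Ext`
    let E := Abelian.Ext.homLinearEquiv (R := R) (X := ModuleCat.of R M) (Y := ModuleCat.of R N) (n := 1)
    obtain ⟨e, rfl⟩ : ∃ e, E e = x := E.surjective x
    have hx : a • E e = E (a • e) := (E.map_smul a e).symm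
    rw [hx]
    suffices h0 : a • e = 0 by rw [h0, map_zero]
    rw [← mk₀_smul_id_comp]
    have hfac : a • 𝟙 (ModuleCat.of R M) = ModuleCat.ofHom f ≫ ModuleCat.ofHom g := by
      rw [← ModuleCat.ofHom_comp, hgf]
      rfl
    rw [hfac, ← Abelian.Ext.mk₀_comp_mk₀, Abelian.Ext.comp_assoc_of_second_deg_zero]
    have : Projective (ModuleCat.of R P) := by
      rw [← IsProjective.iff_projective]
      infer_instance
    rw [Abelian.Ext.eq_zero_of_projective ((Abelian.Ext.mk₀ (ModuleCat.ofHom g)).comp e (zero_add 1))]
    simp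
  · intro h a ha
    -- a free cover of `M`
    let g : (M →₀ R) →ₗ[R] M := Finsupp.linearCombination R id
    have hg : Function.Surjective g := Finsupp.linearCombination_id_surjective R M
    let K := LinearMap.ker g
    let ι : ModuleCat.of R K ⟶ ModuleCat.of R (M →₀ R) := ModuleCat.ofHom (X := ↥K) (Y := (M →₀ R)) K.subtype
    let S : ShortComplex (ModuleCat.{u} R) :=
      ShortComplex.moduleCatMkOfKerLERange ι (ModuleCat.ofHom g) (by
        rintro _ ⟨x, rfl⟩
        exact x.2)
    have hSex : S.Exact := ShortComplex.Exact.moduleCat_of_range_eq_ker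
      ι (ModuleCat.ofHom g) (by
        ext x
        simp [K, ι])
    have hmono : Mono S.f := (ModuleCat.mono_iff_injective _).mpr (Submodule.injective_subtype K)
    have hepi : Epi S.g := (ModuleCat.epi_iff_surjective _).mpr hg
    have hS : S.ShortExact := ShortComplex.ShortExact.mk hSex
    -- the extension class is killed by `a`
    let E := Abelian.Ext.homLinearEquiv (R := R) (X := S.X₃) (Y := S.X₁) (n := 1)
    have hkill : a • hS.extClass = 0 := by
      have h1 : a • E hS.extClass = 0 := h K a ha (E hS.extClass)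
      have h2 : E (a • hS.extClass) = 0 := by rw [E.map_smul]; exact h1
      exact E.injective (h2.trans (map_zero E).symm)
    have hcomp : (Abelian.Ext.mk₀ (a • 𝟙 S.X₃)).comp hS.extClass (zero_add 1) = 0 := by
      rw [mk₀_smul_id_comp]; exact hkill
    obtain ⟨x₂, hx₂⟩ := Abelian.Ext.covariant_sequence_exact₃ S.X₃ hS
      (Abelian.Ext.mk₀ (a • 𝟙 S.X₃)) (zero_add 1) hcomp
    obtain ⟨φ, rfl⟩ := (Abelian.Ext.mk₀_bijective _ _).2 x₂
    rw [Abelian.Ext.mk₀_comp_mk₀] at hx₂
    have hφ : φ ≫ S.g = a • 𝟙 S.X₃ := (Abelian.Ext.mk₀_bijective _ _).1 hx₂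
    refine ⟨(M →₀ R), inferInstance, inferInstance, inferInstance, φ.hom, g, ?_⟩
    have := congrArg ModuleCat.Hom.hom hφ
    exact this

end Groth.Agent.S6966
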