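import Groth.Statements.S6967
-- import your own Groth.Agent.* helpers here

set_option autoImplicit false
universe u
open CAlg

namespace Groth.Agent.S6967

/-- Let R be a commutative ring, I an ideal of R and 0 → K → P → M → 0 a short exact sequence of
R-modules with P projective. If multiplication by a on M factors through a projective R-module for
every a ∈ I, then multiplication by a on K factors through a projective R-module for every a ∈ I. -/
theorem result (R : Type u) [CommRing R] (I : Ideal R)
    {K P M : Type u} [AddCommGroup K] [Module R K] [AddCommGroup P] [Module R P] [Module.Projective R P]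
    [AddCommGroup M] [Module R M] (f : K →ₗ[R] P) (g : P →ₗ[R] M) (hf : Function.Injective f)
    (hg : Function.Surjective g) (hfg : LinearMap.range f = LinearMap.ker g)
    (hM : ∀ a ∈ I, ∃ (P : Type u) (_ : AddCommGroup P) (_ : Module R P) (_ : Module.Projective R P)
        (f : M →ₗ[R] P) (g : P →ₗ[R] M), g ∘ₗ f = a • LinearMap.id) :
    ∀ a ∈ I, ∃ (P : Type u) (_ : AddCommGroup P) (_ : Module R P) (_ : Module.Projective R P)
        (f : K →ₗ[R] P) (g : P →ₗ[R] K), g ∘ₗ f = a • LinearMap.id := by
  intro a ha
  obtain ⟨Q, _, _, _, f', g', hgf⟩ := hM a ha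
  -- lift g' : Q → M along the surjection g : P → M
  obtain ⟨h, hh⟩ := Module.projective_lifting_property g g' hg
  -- the endomorphism a • id - h ∘ f' ∘ g of P lands in ker g = range f
  let θ : P →ₗ[R] P := a • LinearMap.id - h ∘ₗ f' ∘ₗ g
  have hθ : ∀ p, θ p ∈ LinearMap.range f := by
    intro p
    rw [hfg, LinearMap.mem_ker]
    have h1 : g (h (f' (g p))) = g' (f' (g p)) := congrArg (fun t => t (f' (g p))) hh
    have h2 : g' (f' (g p)) = a • g p := congrArg (fun t => t (g p)) hgf
    simp only [θ, LinearMap.sub_apply, LinearMap.smul_apply, LinearMap.id_coe, id_eq,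
      LinearMap.coe_comp, Function.comp_apply, map_sub, map_smul]
    rw [h1, h2, sub_self]
  -- corestrict to K through the injective map f
  let e : K ≃ₗ[R] LinearMap.range f := LinearEquiv.ofInjective f hf
  let ψ : P →ₗ[R] K := e.symm.toLinearMap ∘ₗ (θ.codRestrict (LinearMap.range f) hθ)
  have hψ : ∀ p, f (ψ p) = θ p := by
    intro p
    have : (e (ψ p) : P) = θ p := by
      simp only [ψ, LinearMap.coe_comp, Function.comp_apply, LinearEquiv.coe_coe,
        LinearEquiv.apply_symm_apply, LinearMap.codRestrict_apply]
    rw [← this]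
    rfl
  refine ⟨P, inferInstance, inferInstance, inferInstance, f, ψ, ?_⟩
  ext x
  apply hf
  have hgfx : g (f x) = 0 := by
    rw [← LinearMap.mem_ker, ← hfg]
    exact ⟨x, rfl⟩
  simp only [LinearMap.coe_comp, Function.comp_apply, LinearMap.smul_apply, LinearMap.id_coe, id_eq,
    map_smul]
  rw [hψ]
  simp only [θ, LinearMap.sub_apply, LinearMap.smul_apply, LinearMap.id_coe, id_eq,
    LinearMap.coe_comp, Function.comp_apply, hgfx, map_zero, sub_zero]

end Groth.Agent.S6967
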