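import Groth.Statements.S6969
import Mathlib.RingTheory.Finiteness.Basic
import Mathlib.RingTheory.Finiteness.Finsupp

set_option autoImplicit false
universe u
open CAlg

namespace Groth.Agent.S6969

/-- Let R be a commutative ring and φ : M → N an R-linear map which factors through a projective
R-module. If M is finitely generated, then φ factors through a finitely generated projective
R-module. -/
theorem result (R : Type u) [CommRing R] {M N : Type u} [AddCommGroup M]
    [Module R M] [Module.Finite R M] [AddCommGroup N] [Module R N] (φ : M →ₗ[R] N)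
    (h : ∃ (P : Type u) (_ : AddCommGroup P) (_ : Module R P) (_ : Module.Projective R P) (f : M →ₗ[R] P)
      (g : P →ₗ[R] N), g ∘ₗ f = φ) :
    ∃ (P : Type u) (_ : AddCommGroup P) (_ : Module R P) (_ : Module.Projective R P) (_ : Module.Finite R P)
      (f : M →ₗ[R] P) (g : P →ₗ[R] N), g ∘ₗ f = φ := by
  classical
  obtain ⟨P, _, _, hP, f, g, rfl⟩ := h
  obtain ⟨s, hs⟩ := Module.projective_def'.mp hP
  obtain ⟨S, hS⟩ := (Module.finite_def.mp ‹Module.Finite R M›)
  let ι : M →ₗ[R] (P →₀ R) := s ∘ₗ f
  let X₀ : Finset P := S.biUnion fun m => (ι m).support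
  let P' : Submodule R (P →₀ R) := Finsupp.supported R R (↑X₀ : Set P)
  have hι : ∀ m, ι m ∈ P' := by
    intro m
    have hm : m ∈ Submodule.span R (↑S : Set M) := by rw [hS]; exact Submodule.mem_top
    have hle : Submodule.span R (↑S : Set M) ≤ P'.comap ι := by
      rw [Submodule.span_le]
      intro x hx
      rw [SetLike.mem_coe, Submodule.mem_comap, Finsupp.mem_supported]
      intro p hp
      exact Finset.mem_biUnion.mpr ⟨x, hx, hp⟩
    exact hle hm
  have e : P' ≃ₗ[R] ((↑X₀ : Set P) →₀ R) := Finsupp.supportedEquivFinsupp (↑X₀ : Set P)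
  have hproj : Module.Projective R P' := Module.Projective.of_equiv e.symm
  have hfin : Module.Finite R P' := Module.Finite.equiv e.symm
  refine ⟨P', inferInstance, inferInstance, hproj, hfin, ι.codRestrict P' hι,
    g ∘ₗ (Finsupp.linearCombination R id) ∘ₗ P'.subtype, ?_⟩
  ext m
  have := congrArg (fun t => t (f m)) hs
  simp only [LinearMap.coe_comp, Function.comp_apply, LinearMap.id_coe, id_eq] at this
  simp only [LinearMap.coe_comp, Function.comp_apply, Submodule.coe_subtype,
    LinearMap.codRestrict_apply, ι]
  rw [this]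

end Groth.Agent.S6969
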