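import Groth.Statements.S6970
import Groth.Agent.Lib.Helper12.PcLiftDerived
import Groth.Agent.Lib.Helper12.NilpotentLift
import Groth.Agent.Lib.Helper12.KProjBaseChange
import Groth.Agent.Lib.Helper36.KProjHtpy

set_option autoImplicit false
universe u
open CategoryTheory CategoryTheory.Limits
attribute [local instance] HasDerivedCategory.standard
open DRing

namespace Groth.Agent.S6970

open Groth.Agent.Lib.Helper12

/-- Let R be a commutative ring and I a nilpotent ideal of R such that the derived base change D(R) →
D(R/I) exists. Let K be an object of D(R) and E a bounded above cochain complex of projective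
R/I-modules which is isomorphic in D(R/I) to K ⊗^L_R R/I. Then there is a bounded above cochain
complex P of projective R-modules which is isomorphic to K in D(R) and whose termwise reduction P
⊗_R R/I is isomorphic to E as a complex of R/I-modules. -/
theorem result (R : Type u) [CommRing R] (I : Ideal R)
    (hI : IsNilpotent I) [DRing.HasLBaseChange (Ideal.Quotient.mk I)] (K : Dual.D R)
    (E : DRing.Cx (R ⧸ I)) (b : ℤ) (hEb : DRing.VanishesAbove E b)
    (hEp : ∀ i : ℤ, Module.Projective (R ⧸ I) (E.X i))
    (hE : Nonempty (DRing.toD E ≅ (DRing.LBaseChange (Ideal.Quotient.mk I)).obj K)) :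
    ∃ (P : DRing.Cx R) (b' : ℤ), DRing.VanishesAbove P b' ∧ (∀ i : ℤ, Module.Projective R (P.X i)) ∧
      Nonempty (DRing.toD P ≅ K) ∧ Nonempty ((((ModuleCat.extendScalars (Ideal.Quotient.mk I)).mapHomologicalComplex (ComplexShape.up ℤ)).obj P) ≅ E) := by
  classical
  have hPc := pcClass_projective_of_isNilpotent (R := R) hI
  obtain ⟨eE⟩ := hE
  -- a K-projective representative of `K`
  let K₀ : DRing.Cx R := (DerivedCategory.Q (C := ModuleCat.{u} R)).objPreimage K
  let e₀ : DRing.toD K₀ ≅ K := (DerivedCategory.Q (C := ModuleCat.{u} R)).objObjPreimageIso K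
  obtain ⟨Q, f, hf, hQK, hQp⟩ := Groth.Agent.Lib.Helper36.KP.exists_resolution K₀
  have : IsIso (DerivedCategory.Q.map f) := (DerivedCategory.isIso_Q_map_iff_quasiIso _ f).mpr hf
  let eK : DRing.toD Q ≅ K := asIso (DerivedCategory.Q.map f) ≪≫ e₀
  have := isKProjective_bcCx (Ideal.Quotient.mk I) Q
  -- lifts of the terms
  have hlift : ∀ i : ℤ, ∃ X : ModuleCat.{u} R, Module.Projective R X ∧
      Nonempty ((redI I).obj X ≅ E.X i) := fun i => by
    have := hEp i
    exact exists_projective_lift_of_isNilpotent hI (E.X i)
  choose X hX hθ using hlift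
  have hC : ∀ j, Module.Projective R (ModuleCat.of R (X (j + 1) × Q.X j)) := fun j => by
    have := hX (j + 1)
    have := hQp j
    show Module.Projective R (X (j + 1) × Q.X j)
    infer_instance
  obtain ⟨d, sq, hb, h1, h2⟩ := exists_lifting_explicit hPc K Q eK E b hEb X hX hC
    (fun i => (hθ i).some) eE
  exact ⟨CochainComplex.of X d sq, b, hb, hX, h1, h2⟩

end Groth.Agent.S6970
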