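import Groth.Statements.S6973
import Groth.Agent.Lib.Helper12.StablyFreeLift
import Groth.Agent.Lib.Helper12.PcLiftDerived
import Groth.Agent.Lib.Helper37.HenselProj

set_option autoImplicit false
universe u
open CategoryTheory CategoryTheory.Limits
attribute [local instance] HasDerivedCategory.standard
open DRing

namespace Groth.Agent.S6973

open Groth.Agent.Lib.Helper12 Groth.Agent.Lib.Helper37

section Aux

variable {R : Type u} [CommRing R] {I : Ideal R}

/-- the class of finite projective modules -/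
def finProjP (R : Type u) [CommRing R] : ObjectProperty (ModuleCat.{u} R) :=
  fun X => Module.Finite R X ∧ Module.Projective R X

lemma finProjP_prod (X Y : ModuleCat.{u} R) (hX : finProjP R X) (hY : finProjP R Y) :
    finProjP R (ModuleCat.of R (X × Y)) := by
  obtain ⟨hX1, hX2⟩ := hX
  obtain ⟨hY1, hY2⟩ := hY
  exact ⟨inferInstanceAs (Module.Finite R (X × Y)), inferInstanceAs (Module.Projective R (X × Y))⟩

lemma pcClass_finProj_of_le_jacobson (hI : I ≤ Ideal.jacobson ⊥) :
    PcClass I (finProjP R) where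
  iso e h := by
    obtain ⟨h1, h2⟩ := h
    exact ⟨Module.Finite.equiv e.toLinearEquiv, Module.Projective.of_equiv e.toLinearEquiv⟩
  proj X h := h.2
  sum X Y hX hXY := by
    obtain ⟨hXYf, hXYp⟩ := hXY
    have hXYf' : Module.Finite R (X × Y) := hXYf
    have hXYp' : Module.Projective R (X × Y) := hXYp
    refine ⟨Module.Finite.of_surjective (LinearMap.snd R X Y) LinearMap.snd_surjective, ?_⟩
    exact Module.Projective.of_split (LinearMap.inr R X Y) (LinearMap.snd R X Y)
      (LinearMap.snd_comp_inr R X Y)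
  surj X Y f hX hY h := by
    obtain ⟨hYf, -⟩ := hY
    rw [← LinearMap.range_eq_top, eq_top_iff]
    exact Submodule.le_of_le_smul_of_le_jacobson_bot (Module.Finite.fg_top) hI h.ge

/-- finite projective modules lift along a henselian pair -/
lemma exists_finProj_lift [HenselianRing R I] (Eb : ModuleCat.{u} (R ⧸ I))
    [Module.Finite (R ⧸ I) Eb] [Module.Projective (R ⧸ I) Eb] :
    ∃ X : ModuleCat.{u} R, finProjP R X ∧ Nonempty ((redI I).obj X ≅ Eb) := by
  obtain ⟨P, _, _, hfin, hproj, ⟨e⟩⟩ := exists_finite_projective_lift I Eb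
  refine ⟨ModuleCat.of R P, ⟨hfin, hproj⟩, ⟨?_⟩⟩
  exact ((extScObjEquiv (A := R) (B := R ⧸ I) P).trans e).toModuleIso

end Aux

/-- Let (R, I) be a henselian pair such that the derived base change D(R) → D(R/I) exists, K a
pseudo-coherent object of D(R), and E a bounded above cochain complex of finite projective
R/I-modules which is isomorphic in D(R/I) to K ⊗^L_R R/I. Then there is a bounded above cochain
complex P of finite projective R-modules, isomorphic to K in D(R), whose termwise reduction P ⊗_R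
R/I is isomorphic to E as a complex, and such that P^i is free for every i for which E^i is free. -/
theorem result (R : Type u) [CommRing R]
    (I : Ideal R) [HenselianRing R I] [DRing.HasLBaseChange (Ideal.Quotient.mk I)] (K : Dual.D R)
    (hK : DRing.IsPseudoCoherent' R K) (E : DRing.Cx (R ⧸ I)) (b : ℤ) (hEb : DRing.VanishesAbove E b)
    (hEp : DRing.TermwiseFiniteProjective E)
    (hE : Nonempty (DRing.toD E ≅ (DRing.LBaseChange (Ideal.Quotient.mk I)).obj K)) :
    ∃ (P : DRing.Cx R) (b' : ℤ), DRing.VanishesAbove P b' ∧ DRing.TermwiseFiniteProjective P ∧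
      Nonempty (DRing.toD P ≅ K) ∧ Nonempty ((((ModuleCat.extendScalars (Ideal.Quotient.mk I)).mapHomologicalComplex (ComplexShape.up ℤ)).obj P) ≅ E) ∧
      ∀ i : ℤ, Module.Free (R ⧸ I) (E.X i) → Module.Free R (P.X i) := by
  classical
  have hI : I ≤ Ideal.jacobson (⊥ : Ideal R) := HenselianRing.jac
  have hPc := pcClass_finProj_of_le_jacobson (R := R) hI
  have hK' : ∃ (Q : DRing.Cx R) (c : ℤ), DRing.VanishesAbove Q c ∧
      (∀ i : ℤ, finProjP R (Q.X i)) ∧ Nonempty (DRing.toD Q ≅ K) := by
    obtain ⟨Q, c, hQc, hQf, hQK⟩ := hK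
    refine ⟨Q, c, hQc, fun i => ?_, hQK⟩
    obtain ⟨h1, h2⟩ := hQf i
    exact ⟨h1, inferInstance⟩
  have hlift : ∀ i : ℤ, ∃ X : ModuleCat.{u} R, finProjP R X ∧
      Nonempty ((redI I).obj X ≅ E.X i) ∧ (Module.Free (R ⧸ I) (E.X i) → Module.Free R X) := by
    intro i
    obtain ⟨hfin, hproj⟩ := hEp i
    by_cases hfr : Module.Free (R ⧸ I) (E.X i)
    · obtain ⟨X, hX1, hX2, hX3⟩ := exists_free_lift (I := I) (E.X i)
      exact ⟨X, ⟨hX1, inferInstance⟩, hX3, fun _ => hX2⟩
    · obtain ⟨X, hX1, hX2⟩ := exists_finProj_lift (I := I) (E.X i)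
      exact ⟨X, hX1, hX2, fun h => absurd h hfr⟩
  choose X hX hθ hfree using hlift
  obtain ⟨d, sq, hb, h1, h2⟩ := exists_lifting_explicit_of_bounded hPc finProjP_prod K hK' E b
    hEb X hX (fun i => (hθ i).some) hE
  exact ⟨CochainComplex.of X d sq, b, hb, hX, h1, h2, hfree⟩

end Groth.Agent.S6973
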