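import Groth.Statements.S6975
-- import your own Groth.Agent.* helpers here
import Mathlib
import Groth.Agent.Lib.Helper36.LocalExact
import Groth.Agent.Lib.Helper36.LeftDerivedCompute
import Groth.Agent.Lib.Helper12.DRingTruncRep
import Groth.Agent.Lib.Helper12.DRingTorAmp

set_option autoImplicit false
universe u
open CategoryTheory CategoryTheory.Limits
attribute [local instance] HasDerivedCategory.standard
open DRing

namespace Groth.Agent.S6975

open Groth.Agent.Lib.Helper12 Groth.Agent.Lib.Helper36 Groth.Agent.Lib.Helper36.LT

/-- The residue field, as the restriction of scalars of the regular module over itself, is the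
residue field. -/
noncomputable def resEquiv (R : Type u) [CommRing R] [IsLocalRing R] :
    ((ModuleCat.restrictScalars (IsLocalRing.residue R)).obj
      (ModuleCat.of (IsLocalRing.ResidueField R) (IsLocalRing.ResidueField R))) ≃ₗ[R]
      IsLocalRing.ResidueField R where
  toFun x := x
  invFun x := x
  map_add' _ _ := rfl
  map_smul' r x := by
    have key : ∀ y : IsLocalRing.ResidueField R, (IsLocalRing.residue R r) * y = r • y := by
      intro y
      rw [Algebra.smul_def]
      rfl
    exact key x
  left_inv _ := rfl
  right_inv _ := rfl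

/-- Exactness of the base change to the residue field, concretely. -/
theorem exact_lTensor_of_exactAt (R : Type u) [CommRing R] [IsLocalRing R] (E : DRing.Cx R) (i j k : ℤ)
    (hij : i + 1 = j) (hjk : j + 1 = k)
    (h : (((ModuleCat.extendScalars.{u, u, u} (IsLocalRing.residue R)).mapHomologicalComplex
      (ComplexShape.up ℤ)).obj E).ExactAt j) :
    Function.Exact
      (LinearMap.lTensor ((ModuleCat.restrictScalars (IsLocalRing.residue R)).obj
        (ModuleCat.of (IsLocalRing.ResidueField R) (IsLocalRing.ResidueField R))) (E.d i j).hom)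
      (LinearMap.lTensor ((ModuleCat.restrictScalars (IsLocalRing.residue R)).obj
        (ModuleCat.of (IsLocalRing.ResidueField R) (IsLocalRing.ResidueField R))) (E.d j k).hom) := by
  rw [HomologicalComplex.exactAt_iff' _ i j k (by simp; omega) (by simp; omega),
    ShortComplex.ShortExact.moduleCat_exact_iff_function_exact] at h
  exact h

/-- Let R be a local commutative ring with residue field κ such that the derived base change D(R) → D(κ)
exists, and let K be a pseudo-coherent object of D(R). If there is an integer a with H^i(K ⊗^L_R κ)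
= 0 for all i < a, then K is perfect. -/
theorem result (R : Type u) [CommRing R] [IsLocalRing R]
    [DRing.HasLBaseChange (IsLocalRing.residue R)] (K : Dual.D R) (hK : DRing.IsPseudoCoherent' R K) (a : ℤ)
    (h : ∀ i : ℤ, i < a → Subsingleton (Dual.HD (IsLocalRing.ResidueField R)
      ((DRing.LBaseChange (IsLocalRing.residue R)).obj K) i)) :
    DRing.IsPerfect R K := by
  obtain ⟨E, b, hb, hff, ⟨e⟩⟩ := hK
  have hfin : ∀ i, Module.Finite R (E.X i) := fun i => (hff i).1
  have hfree : ∀ i, Module.Free R (E.X i) := fun i => (hff i).2
  have hproj : ∀ i, Module.Projective R (E.X i) := fun i => inferInstance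
  have hKP : E.IsKProjective := isKProjective_of_vanishesAbove E b hb hproj
  have e' : (DRing.LBaseChange (IsLocalRing.residue R)).obj K ≅
      DerivedCategory.Q.obj (((ModuleCat.extendScalars.{u, u, u}
        (IsLocalRing.residue R)).mapHomologicalComplex (ComplexShape.up ℤ)).obj E) :=
    (DRing.LBaseChange (IsLocalRing.residue R)).mapIso e.symm ≪≫
      lBaseChangeObjIso (IsLocalRing.residue R) E
  have hex' : ∀ i : ℤ, i < a → (((ModuleCat.extendScalars.{u, u, u}
      (IsLocalRing.residue R)).mapHomologicalComplex (ComplexShape.up ℤ)).obj E).ExactAt i := by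
    intro i hi
    apply exactAt_of_isZero_HF
    exact (@ModuleCat.isZero_of_subsingleton _ _ _ (h i hi)).of_iso
      ((HF (IsLocalRing.ResidueField R) i).mapIso e'.symm)
  have hd0 : ∀ i : ℤ, (E.d i (i + 1)).hom.comp (E.d (i - 1) i).hom = 0 := by
    intro i
    rw [← ModuleCat.hom_comp, E.d_comp_d]
    rfl
  have hexE : ∀ i : ℤ, i < a → E.ExactAt i := by
    intro i hi
    rw [HomologicalComplex.exactAt_iff' _ (i - 1) i (i + 1) (by simp) (by simp),
      ShortComplex.ShortExact.moduleCat_exact_iff_function_exact]
    exact LocalExact.exact_of_exact_lTensor_residueField' (resEquiv R) (E.d (i - 1) i).hom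
      (E.d i (i + 1)).hom (hd0 i)
      (exact_lTensor_of_exactAt R E (i - 1) i (i + 1) (by omega) rfl (hex' i hi))
  have hop : (finiteProjective R).P (E.opcycles a) := by
    have h1 : Module.Free R ((E.X a) ⧸ LinearMap.range (E.d (a - 1) a).hom) := by
      have h2 := LocalExact.free_quotient_range' (resEquiv R) (E.d (a - 1 - 1) (a - 1)).hom
        (E.d (a - 1) (a - 1 + 1)).hom (hd0 (a - 1))
        (exact_lTensor_of_exactAt R E (a - 1 - 1) (a - 1) (a - 1 + 1) (by omega) rfl
          (hex' (a - 1) (by omega)))
      have h3 : a - 1 + 1 = a := by omega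
      rw [h3] at h2
      exact h2
    have h4 : Module.Finite R ((E.X a) ⧸ LinearMap.range (E.d (a - 1) a).hom) := inferInstance
    have h5 : Module.Projective R ((E.X a) ⧸ LinearMap.range (E.d (a - 1) a).hom) := inferInstance
    exact (finiteProjective R).iso (opcyclesIsoQuot E a).symm ⟨h4, h5⟩
  obtain ⟨G, hG, hterm, ⟨g⟩⟩ := exists_truncGE_rep (finiteProjective R) E a b hb
    (fun j _ => ⟨hfin j, hproj j⟩) hop (fun i hi => by
      have := hexE i hi
      rw [HomologicalComplex.exactAt_iff_isZero_homology] at this
      exact this.of_iso ((DerivedCategory.homologyFunctorFactors (ModuleCat.{u} R) i).app E))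
  exact ⟨G, a, b, hG, hterm, ⟨g ≪≫ e⟩⟩

end Groth.Agent.S6975
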