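import Groth.Statements.S6978
import Groth.Agent.Lib.Helper46.DRingPerfectCompact
import Groth.Agent.Lib.Helper6.Compact

set_option autoImplicit false
universe u
open CategoryTheory CategoryTheory.Limits
attribute [local instance] HasDerivedCategory.standard
open DRing

namespace Groth.Agent.S6978

/-- Let R be a commutative ring and K an object of D(R). Then K is perfect if and only if K is a compact
object of D(R): for every family (E_i) of objects of D(R) indexed by a small type, the canonical map
from the direct sum of the Hom(K, E_i) to Hom(K, ⊕ E_i) is bijective. -/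
theorem result (R : Type u) [CommRing R] (K : Dual.D R) :
    DRing.IsPerfect R K ↔
      ∀ (I : Type u) (E : I → Dual.D R) [HasCoproduct fun i : ULift.{u + 1} I => E i.down],
        Function.Bijective (CohDer.homSumToHomCoprod K (fun i : ULift.{u + 1} I => E i.down)) := by
  classical
  rw [Groth.Agent.Lib.Helper46.DRingPerfectCompact.isPerfect_iff_isCpt]
  constructor
  · intro hK I E _
    refine ⟨Groth.Agent.Lib.Helper6.homSumToHomCoprod_injective K _, fun φ => ?_⟩
    obtain ⟨t, ht⟩ := hK.eq_sum_π_of_small (fun i : ULift.{u + 1} I => E i.down) φ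
    rw [ht]
    exact AddSubgroup.sum_mem (CohDer.homSumToHomCoprod K
      (fun i : ULift.{u + 1} I => E i.down)).range
      fun i _ => Groth.Agent.Lib.Helper6.comp_ι_mem_range K _ i _
  · intro H J Y φ
    haveI := hasCoproductsOfShape_of_small.{u} (Dual.D R) (ULift.{u + 1} J)
    let e : ULift.{u + 1} J ≃ J := Equiv.ulift
    let ρ : (∐ fun i : ULift.{u + 1} J => Y i.down) ≅ ∐ Y := Sigma.reindex e Y
    have hρ : ∀ i : ULift.{u + 1} J,
        Sigma.ι (fun i : ULift.{u + 1} J => Y i.down) i ≫ ρ.hom = Sigma.ι Y i.down :=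
      fun i => Sigma.ι_reindex_hom e Y i
    obtain ⟨x, hx⟩ := (H J Y).2 (φ ≫ ρ.inv)
    have h1 : φ ≫ ρ.inv =
        ∑ i ∈ DFinsupp.support x, x i ≫ Sigma.ι (fun i : ULift.{u + 1} J => Y i.down) i := by
      rw [← hx]
      conv_lhs => rw [← DirectSum.sum_support_of x]
      rw [map_sum]
      refine Finset.sum_congr rfl fun i _ => ?_
      convert Groth.Agent.Lib.Helper6.homSumToHomCoprod_of K
        (fun i : ULift.{u + 1} J => Y i.down) i (x i)
    have h2 : φ = (∑ i ∈ DFinsupp.support x,
        x i ≫ Sigma.ι (fun i : ULift.{u + 1} J => Y i.down) i) ≫ ρ.hom := by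
      rw [← h1, Category.assoc, Iso.inv_hom_id, Category.comp_id]
    refine ⟨(DFinsupp.support x).map e.toEmbedding, fun j => x ⟨j⟩, ?_⟩
    rw [h2, Preadditive.sum_comp, Finset.sum_map]
    refine Finset.sum_congr rfl fun i _ => ?_
    rw [Category.assoc, hρ]
    rfl

end Groth.Agent.S6978
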