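import Groth.Statements.S6979
import Groth.Agent.S6970
import Groth.Agent.Lib.Helper12.NilpotentLift
import Groth.Agent.Lib.Helper12.NilpotentFinite

set_option autoImplicit false
universe u
open CategoryTheory CategoryTheory.Limits
attribute [local instance] HasDerivedCategory.standard
open DRing

namespace Groth.Agent.S6979

open Groth.Agent.Lib.Helper12

/-- Let R be a commutative ring and I a nilpotent ideal of R such that the derived base change D(R) →
D(R/I) exists, and let K be an object of D(R). If K ⊗^L_R R/I is a perfect object of D(R/I), then K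
is a perfect object of D(R). -/
theorem result (R : Type u) [CommRing R] (I : Ideal R)
    (hI : IsNilpotent I) [DRing.HasLBaseChange (Ideal.Quotient.mk I)] (K : Dual.D R)
    (hK : DRing.IsPerfect (R ⧸ I) ((DRing.LBaseChange (Ideal.Quotient.mk I)).obj K)) :
    DRing.IsPerfect R K := by
  obtain ⟨E, a, b, hEab, hEfp, ⟨eE⟩⟩ := hK
  have hPc := pcClass_projective_of_isNilpotent (R := R) hI
  obtain ⟨P, b', hPb', hPp, hPK, ⟨eP⟩⟩ := Groth.Agent.S6970.result R I hI K E b
    (fun i hi => hEab i (Or.inr hi)) (fun i => (hEfp i).2) ⟨eE⟩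
  have θ : ∀ i, (redI I).obj (P.X i) ≅ E.X i := fun i =>
    (HomologicalComplex.eval _ _ i).mapIso eP
  refine ⟨P, a, b, ?_, ?_, hPK⟩
  · intro i hi
    exact hPc.isZero_of_isZero_map (hPp i) ((hEab i hi).of_iso (θ i))
  · intro i
    refine ⟨?_, hPp i⟩
    have : Module.Finite (R ⧸ I) ((redI I).obj (P.X i)) := by
      have := (hEfp i).1
      exact Module.Finite.equiv (θ i).symm.toLinearEquiv
    exact finite_of_finite_redI (P.X i)
      (fun N hN => eq_top_of_sup_smul_top_eq_top_of_isNilpotent hI N hN)

end Groth.Agent.S6979
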