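import Groth.Statements.S6980
import Groth.Agent.Lib.Helper68.TwoIdeal3

set_option autoImplicit false
universe u
open CategoryTheory CategoryTheory.Limits
attribute [local instance] HasDerivedCategory.standard
open DRing

namespace Groth.Agent.S6980

/-- Let R be a commutative ring, I and J ideals of R such that the derived base changes D(R) → D(R/I),
D(R/J), D(R/IJ) exist, and K an object of D(R). If K ⊗^L_R R/I is perfect in D(R/I) and K ⊗^L_R R/J
is perfect in D(R/J), then K ⊗^L_R R/IJ is perfect in D(R/IJ). -/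
theorem result (R : Type u) [CommRing R] (I J : Ideal R)
    [DRing.HasLBaseChange (Ideal.Quotient.mk I)] [DRing.HasLBaseChange (Ideal.Quotient.mk J)]
    [DRing.HasLBaseChange (Ideal.Quotient.mk (I * J))] (K : Dual.D R)
    (hI : DRing.IsPerfect (R ⧸ I) ((DRing.LBaseChange (Ideal.Quotient.mk I)).obj K))
    (hJ : DRing.IsPerfect (R ⧸ J) ((DRing.LBaseChange (Ideal.Quotient.mk J)).obj K)) :
    DRing.IsPerfect (R ⧸ (I * J)) ((DRing.LBaseChange (Ideal.Quotient.mk (I * J))).obj K) := by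
  open Groth.Agent.Lib.Helper68.TwoIdeal Groth.Agent.Lib.Helper36 in
  let φ₁ : R ⧸ (I * J) →+* R ⧸ I := Ideal.Quotient.factor Ideal.mul_le_left
  let φ₂ : R ⧸ (I * J) →+* R ⧸ J := Ideal.Quotient.factor Ideal.mul_le_right
  have hφ₁ : Function.Surjective φ₁ := Ideal.Quotient.factor_surjective _
  have hφ₂ : Function.Surjective φ₂ := Ideal.Quotient.factor_surjective _
  have h12 : RingHom.ker φ₁ * RingHom.ker φ₂ = ⊥ := by
    rw [Ideal.Quotient.factor_ker, Ideal.Quotient.factor_ker, ← Ideal.map_mul,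
      Ideal.map_quotient_self]
  have := LT.hasLBaseChange φ₁
  have := LT.hasLBaseChange φ₂
  obtain ⟨e₁⟩ := nonempty_lBaseChange_comp_iso (Ideal.Quotient.mk (I * J)) φ₁
    (Ideal.Quotient.mk I) (Ideal.Quotient.factor_comp_mk _).symm K
  obtain ⟨e₂⟩ := nonempty_lBaseChange_comp_iso (Ideal.Quotient.mk (I * J)) φ₂
    (Ideal.Quotient.mk J) (Ideal.Quotient.factor_comp_mk _).symm K
  apply isPerfect_of_two φ₁ φ₂ hφ₁ hφ₂ h12
  · obtain ⟨E, a, b, hE, hfp, ⟨e⟩⟩ := hI
    exact ⟨E, a, b, hE, hfp, ⟨e ≪≫ e₁.symm⟩⟩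
  · obtain ⟨E, a, b, hE, hfp, ⟨e⟩⟩ := hJ
    exact ⟨E, a, b, hE, hfp, ⟨e ≪≫ e₂.symm⟩⟩

end Groth.Agent.S6980
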