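import Groth.Statements.S6981
import Groth.Agent.Lib.Helper12.DRingRestrict
-- import your own Groth.Agent.* helpers here

set_option autoImplicit false
universe u
open CategoryTheory CategoryTheory.Limits
attribute [local instance] HasDerivedCategory.standard
open DRing

namespace Groth.Agent.S6981

open Groth.Agent.Lib.Helper12 Polynomial

/-- the `R[X]`-module `R` (via `X ↦ 0`) -/
noncomputable abbrev Rev (R : Type u) [CommRing R] : ModuleCat.{u} R[X] :=
  (resSc (Polynomial.evalRingHom (0 : R))).obj (ModuleCat.of R R)

/-- view an element of `R` in `Rev R` -/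
def toRev (R : Type u) [CommRing R] (r : R) : Rev R := r

lemma smul_toRev (R : Type u) [CommRing R] (q : R[X]) (r : R) :
    q • toRev R r = toRev R (Polynomial.eval 0 q * r) :=
  ModuleCat.restrictScalars.smul_def (Polynomial.evalRingHom (0 : R)) q (toRev R r)

/-- evaluation at `0` as an `R[X]`-linear map `R[X] → R` -/
noncomputable def evLin (R : Type u) [CommRing R] : R[X] →ₗ[R[X]] Rev R where
  toFun := fun p => toRev R (Polynomial.eval 0 p)
  map_add' := fun p q => by
    rw [Polynomial.eval_add]; rfl
  map_smul' := fun q p => by
    rw [RingHom.id_apply, smul_toRev, smul_eq_mul, Polynomial.eval_mul]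

lemma evLin_apply (R : Type u) [CommRing R] (p : R[X]) :
    evLin R p = toRev R (Polynomial.eval 0 p) := rfl

lemma toRev_eq_zero (R : Type u) [CommRing R] (r : R) : toRev R r = 0 ↔ r = 0 := Iff.rfl

lemma resPC_eval (R : Type u) [CommRing R] : ResPC (Polynomial.evalRingHom (0 : R)) := by
  intro m
  let T : ModuleCat.{u} R[X] := ModuleCat.of R[X] R[X]
  let S : ShortComplex (ModuleCat.{u} R[X]) :=
    ShortComplex.mk (ModuleCat.ofHom (LinearMap.mulLeft R[X] (X : R[X])) : T ⟶ T)
      (ModuleCat.ofHom (evLin R) : T ⟶ ModuleCat.of R[X] (Rev R)) (by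
        apply ModuleCat.hom_ext
        apply LinearMap.ext
        intro p
        change evLin R (X * p) = 0
        rw [evLin_apply, toRev_eq_zero]
        simp)
  have hS : S.ShortExact := by
    refine ShortComplex.ShortExact.mk' ?_ ?_ ?_
    · rw [ShortComplex.ShortExact.moduleCat_exact_iff_function_exact]
      intro p
      have h1 : (ConcreteCategory.hom S.g) p = evLin R p := rfl
      have h2 : ∀ q : R[X], (ConcreteCategory.hom S.f) q = X * q := fun q => rfl
      rw [h1, Set.mem_range]
      simp only [h2]
      rw [evLin_apply, toRev_eq_zero, ← Polynomial.coeff_zero_eq_eval_zero, ← Polynomial.X_dvd_iff]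
      constructor
      · rintro ⟨q, rfl⟩; exact ⟨q, rfl⟩
      · rintro ⟨q, rfl⟩; exact ⟨q, rfl⟩
    · rw [ModuleCat.mono_iff_injective]
      intro p q hpq
      have hpq' : X * p = X * q := hpq
      exact (Polynomial.isRegular_X (R := R)).left hpq'
    · rw [ModuleCat.epi_iff_surjective]
      intro r
      refine ⟨Polynomial.C (show R from r), ?_⟩
      have h1 : ∀ p, (ConcreteCategory.hom S.g) p = evLin R p := fun p => rfl
      rw [h1, evLin_apply, Polynomial.eval_C]
      rfl
  have hT := hS.singleTriangle_distinguished
  have h1 : ∀ m' : ℤ, DRing.IsPseudoCoherent R[X] m' (Dual.inD R[X] T) := fun m' =>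
    haveI : Module.Finite R[X] T := inferInstanceAs (Module.Finite R[X] R[X])
    haveI : Module.Free R[X] T := inferInstanceAs (Module.Free R[X] R[X])
    isPseudoCoherent_inD_of_finite_free T m'
  exact (isPseudoCoherent_two_out_of_three hS.singleTriangle hT m).1 (h1 _) (h1 _)

/-- Let R be a commutative ring, K an object of D(R), m an integer, and R[x] → R the R-algebra
homomorphism sending x to 0. Then K is m-pseudo-coherent over R if and only if K, regarded as an
object of D(R[x]) by restriction of scalars along this map, is m-pseudo-coherent over R[x]. -/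
theorem result (R : Type u) [CommRing R] (K : Dual.D R)
    (m : ℤ) :
    DRing.IsPseudoCoherent R m K ↔
      DRing.IsPseudoCoherent (Polynomial R) m ((DRing.restrictD (Polynomial.evalRingHom (0 : R))).obj K) := by
  exact isPseudoCoherent_restrictD_iff (resPC_eval R) m K

end Groth.Agent.S6981
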