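import Groth.Statements.S6989
import Groth.Agent.Lib.Helper12.DRingStrip
import Groth.Agent.Lib.Helper12.DRingPCHomology
import Groth.Agent.Lib.Helper12.DRingPCRep
import Mathlib.RingTheory.Filtration
-- import your own Groth.Agent.* helpers here

set_option autoImplicit false
universe u
open CategoryTheory CategoryTheory.Limits
attribute [local instance] HasDerivedCategory.standard
open DRing

namespace Groth.Agent.S6989

open Groth.Agent.Lib.Helper12 DRing

/-- Artin–Rees consequence: a submodule `H ⊆ M` with `𝔪 H ≠ H` is not contained in all `𝔪ⁿ M` -/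
lemma exists_pow_not_le {A : Type u} [CommRing A] [IsNoetherianRing A] (m : Ideal A)
    {H M : Type u} [AddCommGroup H] [Module A H] [AddCommGroup M] [Module A M] [Module.Finite A M]
    (ι : H →ₗ[A] M) (hι : Function.Injective ι) (hH : m • (⊤ : Submodule A H) ≠ ⊤) :
    ∃ n : ℕ, ¬ (LinearMap.range ι ≤ m ^ n • (⊤ : Submodule A M)) := by
  by_contra h
  push Not at h
  obtain ⟨k, hk⟩ := Ideal.exists_pow_inf_eq_pow_smul m (LinearMap.range ι)
  have h1 := hk (k + 1) (by omega)
  rw [inf_eq_right.2 (h (k + 1)), inf_eq_right.2 (h k), Nat.add_sub_cancel_left, pow_one] at h1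
  apply hH
  rw [eq_top_iff]
  rintro x -
  have hx : ι x ∈ m • LinearMap.range ι := by rw [← h1]; exact ⟨x, rfl⟩
  rw [LinearMap.range_eq_map, ← Submodule.map_smul''] at hx
  obtain ⟨y, hy, hyx⟩ := hx
  rwa [← hι hyx]

/-- `H^i(M[-i]) ≅ M`, naturally in `M` -/
noncomputable def Φ (A : Type u) [CommRing A] (i : ℤ) :
    (DerivedCategory.singleFunctor (ModuleCat.{u} A) 0 ⋙ shiftFunctor (Dual.D A) (-i)) ⋙ HF A i ≅
      𝟭 (ModuleCat.{u} A) :=
  Functor.isoWhiskerRight
    ((DerivedCategory.singleFunctors (ModuleCat.{u} A)).shiftIso (-i) i 0 (by omega)) (HF A i) ≪≫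
    HFSingleNatIso i

/-- Let A be a Noetherian commutative ring, K an object of D(A) whose cohomology vanishes in large
degrees and whose cohomology modules are all finitely generated, m a maximal ideal of A and i an
integer such that m H^i(K) ≠ H^i(K). Then some finitely generated A-module E killed by a power of m
receives a morphism K → E[-i] in D(A) whose induced map H^i(K) → H^i(E[-i]) is nonzero. -/
theorem result (A : Type u) [CommRing A]
    [IsNoetherianRing A] (K : Dual.D A) (hb : ∃ b : ℤ, ∀ j : ℤ, b < j → Subsingleton (Dual.HD A K j))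
    (hfin : ∀ j : ℤ, Module.Finite A (Dual.HD A K j)) (m : Ideal A) [m.IsMaximal] (i : ℤ)
    (hi : m • (⊤ : Submodule A (Dual.HD A K i)) ≠ ⊤) :
    ∃ (E : Type u) (_ : AddCommGroup E) (_ : Module A E) (_ : Module.Finite A E) (n : ℕ)
      (_ : m ^ n • (⊤ : Submodule A E) = ⊥) (f : K ⟶ (shiftFunctor (Dual.D A) (-i)).obj (Dual.inD A E)),
      (DerivedCategory.homologyFunctor (ModuleCat.{u} A) i).map f ≠ 0 := by
  obtain ⟨b, hb⟩ := hb
  have hKz : ∀ j : ℤ, b < j → IsZero ((HF A j).obj K) := fun j hj => by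
    have : Subsingleton ((HF A j).obj K) := hb j hj
    exact ModuleCat.isZero_of_subsingleton _
  have hK : IsPseudoCoherent' A K := isPseudoCoherent'_of_forall fun m' =>
    (isPseudoCoherent_iff_of_isNoetherianRing m' K).2 ⟨⟨b, hKz⟩, fun j _ => hfin j⟩
  obtain ⟨M, hM, f, hf⟩ := exists_hom_to_single_mono K hK i
  have hMfin : Module.Finite A M := inferInstance
  let M' : ModuleCat.{u} A := ModuleCat.of A M
  let ιc : (HF A i).obj K ⟶ M' := (HF A i).map f ≫ (Φ A i).hom.app M'
  have hιc : Mono ιc := mono_comp _ _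
  let ι : (HF A i).obj K →ₗ[A] M := ιc.hom
  have hι : Function.Injective ι := (ModuleCat.mono_iff_injective ιc).1 hιc
  obtain ⟨n, hn⟩ := exists_pow_not_le m ι hι hi
  let E := M ⧸ (m ^ n • (⊤ : Submodule A M))
  let π : M →ₗ[A] E := Submodule.mkQ _
  let πc : M' ⟶ ModuleCat.of A E := ModuleCat.ofHom π
  refine ⟨E, inferInstance, inferInstance, inferInstance, n, ?_,
    f ≫ (shiftFunctor (Dual.D A) (-i)).map
      ((DerivedCategory.singleFunctor (ModuleCat.{u} A) 0).map πc), ?_⟩
  · rw [eq_bot_iff, Submodule.smul_le]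
    intro r hr x _
    obtain ⟨y, rfl⟩ := Submodule.mkQ_surjective _ x
    rw [← map_smul, Submodule.mem_bot]
    exact (Submodule.Quotient.mk_eq_zero _).2 (Submodule.smul_mem_smul hr trivial)
  · intro h0
    apply hn
    rintro _ ⟨x, rfl⟩
    have nat := (Φ A i).hom.naturality πc
    have key : ιc ≫ πc = 0 := by
      have h1 : ιc ≫ πc = (HF A i).map (f ≫ (shiftFunctor (Dual.D A) (-i)).map
          ((DerivedCategory.singleFunctor (ModuleCat.{u} A) 0).map πc)) ≫
          (Φ A i).hom.app (ModuleCat.of A E) := by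
        rw [CategoryTheory.Functor.map_comp, Category.assoc, Category.assoc]
        congr 1
        exact nat.symm
      rw [h1, h0, zero_comp]
    have h2 : π (ι x) = 0 := by
      have := congrArg (fun g => g.hom x) key
      exact this
    exact (Submodule.Quotient.mk_eq_zero _).1 h2

end Groth.Agent.S6989
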