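import Groth.Statements.S6990
import Groth.Agent.Lib.Helper12.DRingPCShift
-- import your own Groth.Agent.* helpers here

set_option autoImplicit false
universe u
open CategoryTheory CategoryTheory.Limits
attribute [local instance] HasDerivedCategory.standard
open DRing

namespace Groth.Agent.S6990

open Groth.Agent.Lib.Helper12 in
lemma hom_zero {R : Type u} [CommRing R] (a b : ℤ)
    (L : Dual.D R) (hL : ∃ P : DRing.Cx R, DRing.VanishesOutside P a b ∧
      (∀ i : ℤ, Module.Projective R (P.X i)) ∧ Nonempty (DRing.toD P ≅ L)) (K : Dual.D R)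
    (hK : ∀ i : ℤ, a ≤ i → IsZero ((HF R i).obj K)) (f : L ⟶ K) : f = 0 := by
  obtain ⟨P, hP, hproj, ⟨e⟩⟩ := hL
  have h := hom_eq_zero_of_projective_of_isLE P a b hP hproj K hK (e.hom ≫ f)
  rw [← cancel_epi e.hom, h, comp_zero]

open CategoryTheory.Pretriangulated in
/-- Let R be a commutative ring, a, b integers, L an object of D(R) isomorphic to a complex of
projective R-modules vanishing outside [a, b], and K an object of D(R). (1) If H^i(K) = 0 for all i
≥ a, then every morphism L → K in D(R) is zero. (2) If H^i(K) = 0 for all i ≥ a + 1, then for every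
distinguished triangle K → M → L → K[1] there is an isomorphism M ≅ K ⊕ L carrying K → M to the
first inclusion and whose composite with the second projection is M → L. -/
theorem result (R : Type u) [CommRing R] (a b : ℤ)
    (L : Dual.D R) (hL : ∃ P : DRing.Cx R, DRing.VanishesOutside P a b ∧ (∀ i : ℤ, Module.Projective R (P.X i)) ∧
      Nonempty (DRing.toD P ≅ L)) (K : Dual.D R) :
    ((∀ i : ℤ, a ≤ i → Subsingleton (Dual.HD R K i)) → Subsingleton (L ⟶ K)) ∧
      ((∀ i : ℤ, a + 1 ≤ i → Subsingleton (Dual.HD R K i)) → ∀ (T : Triangle (Dual.D R)), T ∈ distinguishedTriangles →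
        T.obj₁ = K → T.obj₃ = L → ∀ [HasBinaryBiproduct T.obj₁ T.obj₃],
          ∃ e : T.obj₂ ≅ T.obj₁ ⊞ T.obj₃, T.mor₁ ≫ e.hom = biprod.inl ∧ e.hom ≫ biprod.snd = T.mor₂) := by
  constructor
  · intro hK
    refine ⟨fun f g => ?_⟩
    have hK' : ∀ i : ℤ, a ≤ i → IsZero ((Groth.Agent.Lib.Helper12.HF R i).obj K) := fun i hi => by
      have := hK i hi
      exact ModuleCat.isZero_of_subsingleton _
    rw [hom_zero a b L hL K hK' f, hom_zero a b L hL K hK' g]
  · intro hK T hT h1 h3 _
    subst h1 h3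
    have hK' : ∀ i : ℤ, a ≤ i →
        IsZero ((Groth.Agent.Lib.Helper12.HF R i).obj (T.obj₁⟦(1 : ℤ)⟧)) := fun i hi => by
      have := hK (1 + i) (by omega)
      have hz : IsZero ((Groth.Agent.Lib.Helper12.HF R (1 + i)).obj T.obj₁) :=
        ModuleCat.isZero_of_subsingleton _
      exact hz.of_iso ((Groth.Agent.Lib.Helper12.HFShiftIso (A := R) 1 i (1 + i) rfl).app T.obj₁)
    have h0 : T.mor₃ = 0 := hom_zero a b T.obj₃ hL _ hK' T.mor₃
    obtain ⟨e, he1, he2⟩ := Pretriangulated.exists_iso_binaryBiproduct_of_distTriang T hT h0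
    exact ⟨e, he1, he2.symm⟩

end Groth.Agent.S6990
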