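import Groth.Statements.S6994
import Mathlib
import Groth.Agent.S7069
import Groth.Agent.Lib.Helper33.DerivedHomVanish

set_option autoImplicit false
universe u
open CategoryTheory CategoryTheory.Limits
attribute [local instance] HasDerivedCategory.standard
open DRing

namespace Groth.Agent.S6994

/-- Let R be a Noetherian regular commutative ring (its localization at every prime is a regular local
ring) of finite Krull dimension d. Let K and L be objects of D(R) whose cohomology vanishes in large
degrees, and suppose there is an integer k with H^i(K) = 0 for all i ≤ k and H^i(L) = 0 for all i ≥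
k - d + 1. Then every morphism K → L in D(R) is zero. -/
theorem result (R : Type u) [CommRing R] [IsNoetherianRing R]
    (hreg : ∀ p : PrimeSpectrum R, IsRegularLocalRing (Localization.AtPrime p.asIdeal)) (d : ℕ)
    (hd : ringKrullDim R = d) (K L : Dual.D R) (hKb : ∃ b : ℤ, ∀ i : ℤ, b < i → Subsingleton (Dual.HD R K i))
    (hLb : ∃ b : ℤ, ∀ i : ℤ, b < i → Subsingleton (Dual.HD R L i)) (k : ℤ)
    (hK : ∀ i : ℤ, i ≤ k → Subsingleton (Dual.HD R K i)) (hL : ∀ i : ℤ, k - d + 1 ≤ i → Subsingleton (Dual.HD R L i)) :
    Subsingleton (K ⟶ L) := by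
  have hR : IsRegularRing R := by
    rw [isRegularRing_iff]
    intro p hp
    exact hreg ⟨p, hp⟩
  have hgl : ∀ M : ModuleCat.{u} R, HasProjectiveDimensionLT M (d + 1) := fun M =>
    Groth.Agent.S7069.hasProjectiveDimensionLT_of_isRegularRing R d hd.le M
  obtain ⟨b, hb⟩ := hKb
  have hKa : K.IsGE (k + 1) := by
    rw [DerivedCategory.isGE_iff]
    intro i hi
    have := hK i (by omega)
    exact ModuleCat.isZero_of_subsingleton _
  have hKb' : K.IsLE b := by
    rw [DerivedCategory.isLE_iff]
    intro i hi
    have := hb i hi
    exact ModuleCat.isZero_of_subsingleton _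
  have hLm : L.IsLE (k - d) := by
    rw [DerivedCategory.isLE_iff]
    intro i hi
    have := hL i (by omega)
    exact ModuleCat.isZero_of_subsingleton _
  by_cases hlt : b < k + 1
  · refine ⟨fun f g => ?_⟩
    have hz : IsZero K := DerivedCategory.TStructure.t.isZero K b (k + 1) hlt
    exact hz.eq_of_src _ _
  · refine ⟨fun f g => ?_⟩
    have key := Groth.Agent.Lib.Helper33.DerivedHomVanish.hom_eq_zero_of_gldim d hgl
      (b - (k + 1) + 1).toNat K (k + 1) b hKa hKb' (by omega) (k - d) (by omega) L
    rw [key f, key g]

end Groth.Agent.S6994
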