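import Groth.Statements.S6995
import Mathlib
import Groth.Agent.S7069
import Groth.Agent.Lib.Helper33.DerivedSplit
import Groth.Agent.Lib.Helper12.DRingFinite

set_option autoImplicit false
universe u
open CategoryTheory CategoryTheory.Limits
attribute [local instance] HasDerivedCategory.standard
open DRing

namespace Groth.Agent.S6995

/-- Let R be a Noetherian regular commutative ring of finite Krull dimension d ≥ 1, K a perfect object
of D(R) and k an integer such that H^i(K) = 0 for every i with k - d + 2 ≤ i ≤ k. Then K splits in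
D(R) as the direct sum of its canonical truncations: there is an isomorphism K ≅ τ_(≤ k-d+1) K ⊕
τ_(≥ k+1) K under which the truncation map τ_(≤ k-d+1) K → K becomes the first inclusion and K →
τ_(≥ k+1) K the second projection. -/
theorem result (R : Type u) [CommRing R] [IsNoetherianRing R]
    (hreg : ∀ p : PrimeSpectrum R, IsRegularLocalRing (Localization.AtPrime p.asIdeal)) (d : ℕ) (hd1 : 1 ≤ d)
    (hd : ringKrullDim R = d) (K : Dual.D R) (hK : DRing.IsPerfect R K) (k : ℤ)
    (hgap : ∀ i : ℤ, k - d + 2 ≤ i → i ≤ k → Subsingleton (Dual.HD R K i))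
    [HasBinaryBiproduct
      (((DerivedCategory.TStructure.t : Triangulated.TStructure (Dual.D R)).truncLT (k - d + 2)).obj K)
      (((DerivedCategory.TStructure.t : Triangulated.TStructure (Dual.D R)).truncGE (k + 1)).obj K)] :
    ∃ e : K ≅
      ((DerivedCategory.TStructure.t : Triangulated.TStructure (Dual.D R)).truncLT (k - d + 2)).obj K ⊞
        ((DerivedCategory.TStructure.t : Triangulated.TStructure (Dual.D R)).truncGE (k + 1)).obj K,
      ((DerivedCategory.TStructure.t : Triangulated.TStructure (Dual.D R)).truncLTι (k - d + 2)).app K ≫ e.hom =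
          biprod.inl ∧
        e.hom ≫ biprod.snd =
          ((DerivedCategory.TStructure.t : Triangulated.TStructure (Dual.D R)).truncGEπ (k + 1)).app K := by
  have hR : IsRegularRing R := by
    rw [isRegularRing_iff]
    intro p hp
    exact hreg ⟨p, hp⟩
  have hgl : ∀ M : ModuleCat.{u} R, HasProjectiveDimensionLT M (d + 1) := fun M =>
    Groth.Agent.S7069.hasProjectiveDimensionLT_of_isRegularRing R d hd.le M
  obtain ⟨E, a, b, hE, hfp, ⟨e⟩⟩ := hK
  have hKb : K.IsLE b := by
    rw [DerivedCategory.isLE_iff]
    intro i hi
    have h1 : IsZero ((Groth.Agent.Lib.Helper12.HF R i).obj (toD E)) :=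
      Groth.Agent.Lib.Helper12.isZero_HF_toD_of_isZero_X E i (hE i (Or.inr hi))
    exact h1.of_iso ((Groth.Agent.Lib.Helper12.HF R i).mapIso e.symm)
  exact Groth.Agent.Lib.Helper33.DerivedHomVanish.exists_iso_biprod_of_gap d hgl K b (k - d + 2) k
    (by omega) (by omega) (fun i h1 h2 => by
      have := hgap i h1 h2
      exact ModuleCat.isZero_of_subsingleton _)

end Groth.Agent.S6995
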