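import Groth.Statements.S7002
import Groth.Agent.Lib.Helper68.SplitLoc2

set_option autoImplicit false
universe u
open CategoryTheory CategoryTheory.Limits
attribute [local instance] HasDerivedCategory.standard
open DRing

namespace Groth.Agent.S7002

/-- Let R be a commutative ring, p a prime ideal of R with residue field κ(p), such that the derived
base change D(R) → D(κ(p)) exists; let i be an integer and K a cochain complex of R-modules which is
pseudo-coherent in D(R) and satisfies H^i(K ⊗^L_R κ(p)) = 0. Then there is an element f ∈ R with f ∉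
p such that, for the termwise localization K_f of K over R_f, the truncation τ_(≥ i+1) K_f is
perfect in D(R_f), its tor amplitude lying in [i+1, b] for some integer b, and K_f ≅ τ_(≥ i+1) K_f ⊕
τ_(≤ i-1) K_f in D(R_f) by an isomorphism carrying K_f → τ_(≥ i+1) K_f to the first projection and
τ_(≤ i-1) K_f → K_f to the second inclusion. -/
theorem result (R : Type u) [CommRing R]
    (p : Ideal R) [p.IsPrime] [DRing.HasLBaseChange (algebraMap R p.ResidueField)] (i : ℤ) (K : DRing.Cx R)
    (hK : DRing.IsPseudoCoherent' R (DRing.toD K))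
    (hi : Subsingleton (Dual.HD p.ResidueField ((DRing.LBaseChange (algebraMap R p.ResidueField)).obj (DRing.toD K)) i)) :
    ∃ f : R, f ∉ p ∧
      let Kf := DRing.toD (((ModuleCat.extendScalars (algebraMap R (Localization.Away f))).mapHomologicalComplex
        (ComplexShape.up ℤ)).obj K)
      let t := (DerivedCategory.TStructure.t : Triangulated.TStructure (Dual.D (Localization.Away f)))
      let Kge := (t.truncGE (i + 1)).obj Kf
      let Klt := (t.truncLT i).obj Kf
      DRing.IsPerfect (Localization.Away f) Kge ∧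
        (∃ b : ℤ, DRing.HasTorAmplitudeIn (Localization.Away f) (i + 1) b Kge) ∧
        ∀ [HasBinaryBiproduct Kge Klt], ∃ e : Kf ≅ Kge ⊞ Klt,
          e.hom ≫ biprod.fst = (t.truncGEπ (i + 1)).app Kf ∧ (t.truncLTι i).app Kf ≫ e.hom = biprod.inr := by
  open Groth.Agent.Lib.Helper12 Groth.Agent.Lib.Helper36 Groth.Agent.Lib.Helper36.LT
    Groth.Agent.Lib.Helper36.NilPC Groth.Agent.Lib.Helper68.SplitLoc in
  obtain ⟨E, b, hEb, hEff, ⟨eK⟩⟩ := hK
  have hEfl : ∀ j, Module.Flat R (E.X j) := fun j => by
    have := (hEff j).1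
    have := (hEff j).2
    infer_instance
  obtain ⟨eL⟩ := nonempty_lBaseChangeObjIso_of_flat (algebraMap R p.ResidueField) E b hEb hEfl
  have hz : IsZero ((HF p.ResidueField i).obj
      (toD ((extC (algebraMap R p.ResidueField)).obj E))) :=
    (ModuleCat.isZero_of_subsingleton _).of_iso ((HF p.ResidueField i).mapIso
      (eL.symm ≪≫ (DRing.LBaseChange (algebraMap R p.ResidueField)).mapIso eK))
  have hex : ((extC (algebraMap R p.ResidueField)).obj E).ExactAt i := by
    rw [HomologicalComplex.exactAt_iff_isZero_homology]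
    exact hz.of_iso ((DerivedCategory.homologyFunctorFactors (ModuleCat.{u} p.ResidueField) i).app
      _).symm
  obtain ⟨f, hf, hExf, hop⟩ := exists_away p i E hEff hex
  refine ⟨f, hf, ?_⟩
  intro Kf t Kge Klt
  have : Module.Flat R (Localization.Away f) := IsLocalization.flat _ (Submonoid.powers f)
  let Ef : DRing.Cx (Localization.Away f) := (extC (algebraMap R (Localization.Away f))).obj E
  have eKf : toD Ef ≅ Kf :=
    (extScD_toD E).symm ≪≫ (extScD R (Localization.Away f)).mapIso eK ≪≫ extScD_toD K
  obtain ⟨e1, -⟩ := exists_toDTruncGEIso Ef i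
  have hEfb : VanishesAbove Ef (max b (i + 1)) := fun j hj =>
    (ModuleCat.extendScalars.{u, u, u} (algebraMap R (Localization.Away f))).map_isZero
      (hEb j (lt_of_le_of_lt (le_max_left _ _) hj))
  have hP' : VanishesOutside (Ef.truncGE (i + 1)) (i + 1) (max b (i + 1)) :=
    vanishesOutside_truncGE Ef (i + 1) (max b (i + 1)) hEfb
  have hterm : Termwise (finiteProjective (Localization.Away f)) (Ef.truncGE (i + 1)) :=
    termwise_truncGE (finiteProjective (Localization.Away f)) Ef (i + 1) (fun j _ => by
      have h1 := finiteFree_extendScalars (algebraMap R (Localization.Away f)) _ (hEff j)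
      exact ⟨h1.1, @Module.Projective.of_free _ _ _ _ _ h1.2⟩) hop
  have e2 : toD (Ef.truncGE (i + 1)) ≅ Kge := e1 ≪≫ (t.truncGE (i + 1)).mapIso eKf
  have hHi : IsZero ((HF (Localization.Away f) i).obj Kf) := by
    rw [HomologicalComplex.exactAt_iff_isZero_homology] at hExf
    exact (hExf.of_iso ((DerivedCategory.homologyFunctorFactors
      (ModuleCat.{u} (Localization.Away f)) i).app Ef)).of_iso
        ((HF (Localization.Away f) i).mapIso eKf.symm)
  refine ⟨⟨Ef.truncGE (i + 1), i + 1, max b (i + 1), hP', hterm, ⟨e2⟩⟩,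
    ⟨max b (i + 1), Ef.truncGE (i + 1), hP', fun j => ?_, ⟨e2⟩⟩, ?_⟩
  · have := (hterm j).2
    infer_instance
  · intro _
    obtain ⟨e, h1, h2⟩ := exists_splitting_of_projective' Kf i hHi (Ef.truncGE (i + 1))
      (max b (i + 1)) hP' (fun j => (hterm j).2) e2
    refine ⟨e ≪≫ biprod.braiding _ _, ?_, ?_⟩
    · rw [Iso.trans_hom, Category.assoc, biprod.braiding_hom, biprod.lift_fst]
      exact h2
    · rw [Iso.trans_hom, ← Category.assoc, h1, biprod.braiding_hom]
      apply biprod.hom_ext
      · rw [Category.assoc, biprod.lift_fst, biprod.inl_snd, biprod.inr_fst]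
      · rw [Category.assoc, biprod.lift_snd, biprod.inl_fst, biprod.inr_snd]

end Groth.Agent.S7002
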