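import Groth.Statements.S7007
import Groth.Agent.Lib.Helper12.RelFPBaseChange
import Mathlib.RingTheory.LocalProperties.FinitePresentation

set_option autoImplicit false
universe u
open CAlg

namespace Groth.Agent.S7007

/-- the gluing direction -/
lemma fp_rel_of_localization_away {R A : Type u} [CommRing R] [CommRing A] [Algebra R A]
    {n : ℕ} (α : MvPolynomial (Fin n) R →ₐ[R] A) (hα : Function.Surjective α) (M : Type u)
    [AddCommGroup M] [Module A M] {r : ℕ} (f' : Fin r → MvPolynomial (Fin n) R)
    (hf : Ideal.span (Set.range (fun i => α (f' i))) = ⊤) (k : Fin r → ℕ)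
    (γ : ∀ i, MvPolynomial (Fin (k i)) R →ₐ[R] Localization.Away (α (f' i)))
    (hγ : ∀ i, Function.Surjective (γ i))
    (h : ∀ i, @Module.FinitePresentation (MvPolynomial (Fin (k i)) R)
      (LocalizedModule (Submonoid.powers (α (f' i))) M) _ _
      (Module.compHom (LocalizedModule (Submonoid.powers (α (f' i))) M) (γ i).toRingHom)) :
    @Module.FinitePresentation (MvPolynomial (Fin n) R) M _ _ (Module.compHom M α.toRingHom) := by
  classical
  -- coefficients
  have h1 : (1 : A) ∈ Ideal.span (Set.range (fun i => α (f' i))) := by rw [hf]; trivial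
  obtain ⟨a, ha⟩ := Ideal.mem_span_range_iff_exists_fun.mp h1
  choose a' ha' using fun i => hα (a i)
  let h₀ : MvPolynomial (Fin n) R := 1 - ∑ i, a' i * f' i
  have hh₀ : α h₀ = 0 := by
    simp only [h₀, map_sub, map_one, map_sum, map_mul, ha', ha, sub_self]
  let s : Set (MvPolynomial (Fin n) R) := Set.range f' ∪ {h₀}
  have hs : Ideal.span s = ⊤ := by
    rw [Ideal.eq_top_iff_one]
    have : (1 : MvPolynomial (Fin n) R) = ∑ i, a' i * f' i + h₀ := by simp [h₀]
    rw [this]
    refine Ideal.add_mem _ (Ideal.sum_mem _ fun i _ => Ideal.mul_mem_left _ _ ?_) ?_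
    · exact Ideal.subset_span (Or.inl ⟨i, rfl⟩)
    · exact Ideal.subset_span (Or.inr rfl)
  -- structures
  let _ : Algebra (MvPolynomial (Fin n) R) A := α.toRingHom.toAlgebra
  let _ : Module (MvPolynomial (Fin n) R) M := Module.compHom M α.toRingHom
  have : IsScalarTower (MvPolynomial (Fin n) R) A M := ⟨fun p a m => by
    show (α p * a) • m = α p • (a • m)
    rw [mul_smul]⟩
  let ψ : ∀ g : s, Localization.Away g.1 →ₐ[R] Localization.Away (α g.1) := fun g =>
    Localization.awayMapₐ α g.1
  have hψ : ∀ g : s, Function.Surjective (ψ g) := fun g =>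
    IsLocalization.Away.mapₐ_surjective_of_surjective g.1 hα
  let _ : ∀ g : s, Module (Localization.Away g.1) (LocalizedModule (Submonoid.powers (α g.1)) M) := fun g =>
    Module.compHom _ (ψ g).toRingHom
  have : ∀ g : s, IsScalarTower (MvPolynomial (Fin n) R) (Localization.Away g.1) (LocalizedModule (Submonoid.powers (α g.1)) M) :=
    fun g => IsScalarTower.of_algebraMap_smul fun p x => by
      have h1 : ψ g (algebraMap _ _ p) = algebraMap A (Localization.Away (α g.1)) (α p) := by
        simp [ψ, IsLocalization.Away.mapₐ_apply, IsLocalization.Away.map, IsLocalization.map_eq]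
      calc (algebraMap (MvPolynomial (Fin n) R) (Localization.Away g.1) p) • x
          = (ψ g (algebraMap _ _ p)) • x := rfl
        _ = (algebraMap A (Localization.Away (α g.1)) (α p)) • x := by rw [h1]
        _ = (α p) • x := algebraMap_smul _ _ _
        _ = p • x := algebraMap_smul A p x
  let ϕ : ∀ g : s, M →ₗ[MvPolynomial (Fin n) R] LocalizedModule (Submonoid.powers (α g.1)) M := fun g =>
    (LocalizedModule.mkLinearMap (Submonoid.powers (α g.1)) M).restrictScalars _
  have : ∀ g : s, IsLocalizedModule (Submonoid.powers g.1) (ϕ g) := fun g =>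
    IsLocalizedModule.restrictScalars_powers g.1
      (LocalizedModule.mkLinearMap (Submonoid.powers (α g.1)) M)
  refine Module.FinitePresentation.of_localizationSpan' s hs
    (Rₚ := fun g => Localization.Away g.1) (Mₚ := fun g => LocalizedModule (Submonoid.powers (α g.1)) M) ϕ ?_
  rintro ⟨g, hg⟩
  rcases hg with ⟨i, rfl⟩ | hg
  · exact (Lib.Helper12.fp_indep_gen _ (ψ ⟨f' i, _⟩) (hψ _) (γ i) (hγ i)).mpr (h i)
  · have hg' : g = h₀ := hg
    subst hg'
    have : Subsingleton (LocalizedModule (Submonoid.powers (α h₀)) M) :=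
      LocalizedModule.subsingleton (by rw [hh₀]; exact ⟨1, by simp⟩)
    infer_instance


/-- Let R → A be a finite type homomorphism of commutative rings with a surjective R-algebra
homomorphism α : R[x_1, ..., x_n] → A, M an A-module, f_1, ..., f_r elements of A generating the
unit ideal, and for each i a surjective R-algebra homomorphism γ_i : R[z_1, ..., z_(k_i)] → A_(f_i).
Then M is finitely presented as an R[x_1, ..., x_n]-module through α if and only if, for every i,
the localization M_(f_i) is finitely presented as an R[z_1, ..., z_(k_i)]-module through γ_i. -/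
theorem result {R A : Type u} [CommRing R] [CommRing A] [Algebra R A]
    {n : ℕ} (α : MvPolynomial (Fin n) R →ₐ[R] A) (hα : Function.Surjective α) (M : Type u) [AddCommGroup M]
    [Module A M] {r : ℕ} (f : Fin r → A) (hf : Ideal.span (Set.range f) = ⊤) (k : Fin r → ℕ)
    (γ : ∀ i, MvPolynomial (Fin (k i)) R →ₐ[R] Localization.Away (f i)) (hγ : ∀ i, Function.Surjective (γ i)) :
    @Module.FinitePresentation (MvPolynomial (Fin n) R) (M) _ _ (Module.compHom (M) α.toRingHom) ↔
      ∀ i, @Module.FinitePresentation (MvPolynomial (Fin (k i)) R) (LocalizedModule (Submonoid.powers (f i)) M) _ _ (Module.compHom (LocalizedModule (Submonoid.powers (f i)) M) (γ i).toRingHom) := by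
  constructor
  · intro hM i
    exact Lib.Helper12.fp_rel_localization_away (R' := R) α hα (f i) M hM (γ i) (hγ i)
  · intro h
    obtain ⟨f', hf'⟩ : ∃ f' : Fin r → MvPolynomial (Fin n) R, ∀ i, α (f' i) = f i :=
      ⟨fun i => (hα (f i)).choose, fun i => (hα (f i)).choose_spec⟩
    obtain rfl : f = fun i => α (f' i) := funext fun i => (hf' i).symm
    exact fp_rel_of_localization_away α hα M f' hf k γ hγ h

end Groth.Agent.S7007
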