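import Groth.Statements.S7009
import Groth.Agent.Lib.Helper68.MatCx3

set_option autoImplicit false
universe u
open CategoryTheory CategoryTheory.Limits
attribute [local instance] HasDerivedCategory.standard
open DRing

namespace Groth.Agent.S7009

open Groth.Agent.Lib.Helper68.MatCx Groth.Agent.Lib.Helper12

section Build

variable {R : Type u} [CommRing R]

lemma toMatrix'_comp_cat {l m k : ℕ}
    (f : ModuleCat.of R (Fin l → R) ⟶ ModuleCat.of R (Fin m → R))
    (g : ModuleCat.of R (Fin m → R) ⟶ ModuleCat.of R (Fin k → R)) :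
    LinearMap.toMatrix' (f ≫ g).hom = LinearMap.toMatrix' g.hom * LinearMap.toMatrix' f.hom := by
  rw [ModuleCat.hom_comp, LinearMap.toMatrix'_comp]

variable (E : Cx R) (n : ℤ → ℕ)
  (π : ∀ i, ModuleCat.of R (Fin (n i) → R) ⟶ E.X i)
  (σ : ∀ i, E.X i ⟶ ModuleCat.of R (Fin (n i) → R))
  (hσπ : ∀ i, σ i ≫ π i = 𝟙 _)

/-- the matrix model of a complex with chosen retractions from finite free modules -/
noncomputable def mkMC : MC n R where
  e i := LinearMap.toMatrix' (π i ≫ σ i).hom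
  D i := LinearMap.toMatrix' (π i ≫ E.d i (i + 1) ≫ σ (i + 1)).hom
  ee i := by
    rw [← toMatrix'_comp_cat]
    congr 2
    simp only [Category.assoc]
    rw [reassoc_of% (hσπ i)]
  eD i := by
    rw [← toMatrix'_comp_cat]
    congr 2
    simp only [Category.assoc]
    rw [reassoc_of% (hσπ (i + 1))]
  De i := by
    rw [← toMatrix'_comp_cat]
    congr 2
    simp only [Category.assoc]
    rw [reassoc_of% (hσπ i)]
  DD i := by
    rw [← toMatrix'_comp_cat]
    have : (π i ≫ E.d i (i + 1) ≫ σ (i + 1)) ≫ π (i + 1) ≫ E.d (i + 1) (i + 1 + 1) ≫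
        σ (i + 1 + 1) = 0 := by
      simp only [Category.assoc]
      rw [reassoc_of% (hσπ (i + 1)), HomologicalComplex.d_comp_d_assoc, zero_comp, comp_zero]
    rw [this]
    simp

lemma mkMC_e (i : ℤ) :
    ModuleCat.ofHom (Matrix.toLin' ((mkMC E n π σ hσπ).e i)) = π i ≫ σ i := by
  change ModuleCat.ofHom (Matrix.toLin' (LinearMap.toMatrix' (π i ≫ σ i).hom)) = _
  rw [Matrix.toLin'_toMatrix']
  rfl

lemma mkMC_D (i : ℤ) :
    ModuleCat.ofHom (Matrix.toLin' ((mkMC E n π σ hσπ).D i)) =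
      π i ≫ E.d i (i + 1) ≫ σ (i + 1) := by
  change ModuleCat.ofHom (Matrix.toLin' (LinearMap.toMatrix'
    (π i ≫ E.d i (i + 1) ≫ σ (i + 1)).hom)) = _
  rw [Matrix.toLin'_toMatrix']
  rfl

/-- a finite projective module is a retract of a finite free module; the zero module of the
zero free module. -/
lemma exists_retract (P : ModuleCat.{u} R) (hP : Module.Finite R P ∧ Module.Projective R P) :
    ∃ (m : ℕ) (π : ModuleCat.of R (Fin m → R) ⟶ P) (σ : P ⟶ ModuleCat.of R (Fin m → R)),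
      σ ≫ π = 𝟙 _ ∧ (IsZero P → m = 0) := by
  classical
  obtain ⟨hf, hp⟩ := hP
  by_cases hz : IsZero P
  · exact ⟨0, 0, 0, hz.eq_of_src _ _, fun _ => rfl⟩
  · obtain ⟨m, p, hp'⟩ := Module.Finite.exists_fin' R P
    obtain ⟨s, hs⟩ := Module.projective_lifting_property p LinearMap.id hp'
    refine ⟨m, ModuleCat.ofHom p, ModuleCat.ofHom s, ?_, fun h => absurd h hz⟩
    apply ModuleCat.hom_ext
    exact hs

end Build

/-- Let (R_j) be a diagram of commutative rings over a small filtered category with colimit R, such that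
the derived base change D(R_j) → D(R) exists for every j, and let K be a perfect object of D(R).
Then there exist an index j and a perfect object K_j of D(R_j) such that K_j ⊗^L R is isomorphic to
K in D(R). -/
theorem result {J : Type u} [SmallCategory J] [IsFiltered J]
    (F : J ⥤ CommRingCat.{u}) (c : Cocone F) (hc : IsColimit c)
    [∀ j : J, DRing.HasLBaseChange (c.ι.app j).hom] (K : Dual.D c.pt) (hK : DRing.IsPerfect c.pt K) :
    ∃ (j : J) (Kj : Dual.D (F.obj j)), DRing.IsPerfect (F.obj j) Kj ∧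
      Nonempty ((DRing.LBaseChange (c.ι.app j).hom).obj Kj ≅ K) := by
  obtain ⟨E, a, b, hv, hfp, ⟨eK⟩⟩ := hK
  have key : ∀ i : ℤ, ∃ (m : ℕ) (π : ModuleCat.of c.pt (Fin m → c.pt) ⟶ E.X i)
      (σ : E.X i ⟶ ModuleCat.of c.pt (Fin m → c.pt)),
      σ ≫ π = 𝟙 _ ∧ (i < a ∨ b < i → m = 0) := by
    intro i
    obtain ⟨m, π, σ, h1, h2⟩ := exists_retract (E.X i) (hfp i)
    exact ⟨m, π, σ, h1, fun hi => h2 (hv i hi)⟩
  choose n π σ hσπ hn using key
  obtain ⟨j, Mj, hMj⟩ := exists_lift hc a b hn (mkMC E n π σ hσπ)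
  have hvj : VanishesOutside Mj.toCx a b := fun i hi => Mj.isZero_X i (hn i hi)
  have hfpj : TermwiseFiniteProjective Mj.toCx := fun i => Mj.finite_projective i
  have : Mj.toCx.IsKProjective := isKProjective_of_vanishesAbove _ b
    (vanishesAbove_of_vanishesOutside hvj) (fun i => (hfpj i).2)
  have he : ∀ i, π i ≫ σ i =
      ModuleCat.ofHom (Matrix.toLin' ((Mj.e i).map (c.ι.app j).hom)) := by
    intro i
    rw [← mkMC_e E n π σ hσπ i, ← hMj]
    rfl
  have hD : ∀ i, π i ≫ E.d i (i + 1) ≫ σ (i + 1) =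
      ModuleCat.ofHom (Matrix.toLin' ((Mj.D i).map (c.ι.app j).hom)) := by
    intro i
    rw [← mkMC_D E n π σ hσπ i, ← hMj]
    rfl
  obtain ⟨cmp⟩ := nonempty_cmpIso (c.ι.app j).hom Mj E π σ hσπ he hD
  exact ⟨j, toD Mj.toCx, ⟨Mj.toCx, a, b, hvj, hfpj, ⟨Iso.refl _⟩⟩,
    ⟨LBaseChangeIso (c.ι.app j).hom Mj.toCx ≪≫ DerivedCategory.Q.mapIso cmp ≪≫ eK⟩⟩

end Groth.Agent.S7009
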