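import Groth.Statements.S7010
import Groth.Agent.Lib.Helper12.DRingSingle
-- import your own Groth.Agent.* helpers here

set_option autoImplicit false
universe u
open CategoryTheory CategoryTheory.Limits
attribute [local instance] HasDerivedCategory.standard
open DRing

namespace Groth.Agent.S7010

/-- splitting `R^n ≃ M × ker f` from a section -/
noncomputable def splitEquiv {R : Type u} [CommRing R] {M F : Type u} [AddCommGroup M] [Module R M]
    [AddCommGroup F] [Module R F] (f : F →ₗ[R] M) (s : M →ₗ[R] F) (hs : f ∘ₗ s = LinearMap.id) :
    F ≃ₗ[R] M × LinearMap.ker f :=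
  LinearEquiv.ofLinearMap
    (LinearMap.prod f (LinearMap.codRestrict (LinearMap.ker f) (LinearMap.id - s ∘ₗ f) (by
      intro x
      have := LinearMap.congr_fun hs (f x)
      simp only [LinearMap.comp_apply, LinearMap.id_apply] at this
      simp [this])))
    (LinearMap.coprod s (LinearMap.ker f).subtype)
    (by
      apply LinearMap.ext
      rintro ⟨m, k, hk⟩
      have h1 := LinearMap.congr_fun hs m
      simp only [LinearMap.comp_apply, LinearMap.id_apply] at h1
      have hk' : f k = 0 := hk
      apply Prod.ext
      · simp [h1, hk']
      · apply Subtype.ext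
        simp [h1, hk'])
    (by
      apply LinearMap.ext
      intro x
      simp)

open CategoryTheory.Pretriangulated in
/-- The inclusion of the perfect objects in the subcategory generated by R: let R be a commutative ring
and P a property of objects of D(R) which is closed under isomorphisms, holds for R[0], is stable
under all shifts, is closed under extensions (if it holds for the outer terms of a distinguished
triangle it holds for the middle term) and is closed under taking direct summands. Then P holds for
every perfect object of D(R). -/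
theorem result (R : Type u) [CommRing R]
    (P : ObjectProperty (Dual.D R)) [P.IsClosedUnderIsomorphisms] (hR : P (Dual.inD R R))
    (hshift : ∀ (K : Dual.D R) (n : ℤ), P K → P ((shiftFunctor (Dual.D R) n).obj K))
    (hext : ∀ T : Triangle (Dual.D R), T ∈ distinguishedTriangles → P T.obj₁ → P T.obj₃ → P T.obj₂)
    (hsum : ∀ (X Y : Dual.D R) [HasBinaryBiproduct X Y], P (X ⊞ Y) → P X)
    (K : Dual.D R) (hK : DRing.IsPerfect R K) : P K := by
  -- zero objects
  have hzero : ∀ K : Dual.D R, IsZero K → P K := by
    intro K hK
    have e : Dual.inD R R ≅ K ⊞ Dual.inD R R := isoZeroBiprod hK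
    exact hsum K (Dual.inD R R) (P.prop_of_iso e hR)
  -- binary sums
  have hbiprod : ∀ X Y : Dual.D R, P X → P Y → P (X ⊞ Y) := by
    intro X Y hX hY
    exact hext (binaryBiproductTriangle X Y) (binaryBiproductTriangle_distinguished X Y) hX hY
  -- products of modules
  have hprod : ∀ (M N : ModuleCat.{u} R), P (Dual.inD R M) → P (Dual.inD R N) →
      P (Dual.inD R (M × N)) := by
    intro M N hM hN
    exact P.prop_of_iso (Lib.Helper12.inDProdIso M N).symm (hbiprod _ _ hM hN)
  -- free modules
  have hfree : ∀ n : ℕ, P (Dual.inD R (Fin n → R)) := by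
    intro n
    induction n with
    | zero =>
      apply hzero
      exact Lib.Helper12.isZero_inD (M := ModuleCat.of R (Fin 0 → R))
        (ModuleCat.isZero_of_subsingleton _)
    | succ n ih =>
      have e : ModuleCat.of R (R × (Fin n → R)) ≅ ModuleCat.of R (Fin (n + 1) → R) :=
        (Fin.consLinearEquiv R (fun _ : Fin (n + 1) => R)).toModuleIso
      exact P.prop_of_iso (Lib.Helper12.inDMapIso e)
        (hprod (ModuleCat.of R R) (ModuleCat.of R (Fin n → R)) hR ih)
  -- finite projective modules
  have hfp : ∀ M : ModuleCat.{u} R, Module.Finite R M ∧ Module.Projective R M →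
      P (Dual.inD R M) := by
    rintro M ⟨h1, h2⟩
    obtain ⟨n, f, hf⟩ := Module.Finite.exists_fin' R M
    obtain ⟨s, hs⟩ := Module.projective_lifting_property f LinearMap.id hf
    have e : ModuleCat.of R (Fin n → R) ≅ ModuleCat.of R (M × LinearMap.ker f) :=
      (splitEquiv f s hs).toModuleIso
    have e2 : Dual.inD R (M × LinearMap.ker f) ≅
        Dual.inD R M ⊞ Dual.inD R (LinearMap.ker f) :=
      Lib.Helper12.inDProdIso M (ModuleCat.of R (LinearMap.ker f))
    exact hsum _ _ (P.prop_of_iso (Lib.Helper12.inDMapIso e ≪≫ e2) (hfree n))
  obtain ⟨E, a, b, hE, hterm, ⟨e⟩⟩ := hK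
  refine P.prop_of_iso e ?_
  refine Lib.Helper12.bounded_induction (fun K => P K)
    (fun M => Module.Finite R M ∧ Module.Projective R M)
    (fun {M N} i h => (Lib.Helper12.finiteProjective R).iso i h)
    (fun {M} h => (Lib.Helper12.finiteProjective R).zero h)
    hzero
    (fun M a hM => P.prop_of_iso (Lib.Helper12.toDSingleIso a M).symm (hshift _ (-a) (hfp M hM)))
    hext E a b hE hterm

end Groth.Agent.S7010
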