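import Groth.Statements.S7011
import Groth.Agent.Lib.Helper12.PcLiftDerived
import Groth.Agent.Lib.Helper12.StablyFreeLift

set_option autoImplicit false
universe u
open CategoryTheory CategoryTheory.Limits
attribute [local instance] HasDerivedCategory.standard
open DRing

namespace Groth.Agent.S7011

open Groth.Agent.Lib.Helper12

/-- Let R be a commutative ring and I an ideal contained in the Jacobson radical of R (every element of
1 + I is a unit), such that the derived base change D(R) → D(R/I) exists. Let K be a pseudo-coherent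
object of D(R) and E a bounded above cochain complex of finitely generated stably free R/I-modules
which is isomorphic in D(R/I) to K ⊗^L_R R/I. Then there is a bounded above cochain complex P of
finitely generated stably free R-modules, isomorphic to K in D(R), whose termwise reduction P ⊗_R
R/I is isomorphic to E as a complex, and such that P^i is free for every i for which E^i is free. -/
theorem result (R : Type u) [CommRing R] (I : Ideal R)
    (hI : I ≤ Ideal.jacobson (⊥ : Ideal R)) [DRing.HasLBaseChange (Ideal.Quotient.mk I)] (K : Dual.D R)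
    (hK : DRing.IsPseudoCoherent' R K) (E : DRing.Cx (R ⧸ I)) (b : ℤ) (hEb : DRing.VanishesAbove E b)
    (hEs : ∀ i : ℤ, Module.Finite (R ⧸ I) (E.X i) ∧ Module.IsStablyFree (R ⧸ I) (E.X i))
    (hE : Nonempty (DRing.toD E ≅ (DRing.LBaseChange (Ideal.Quotient.mk I)).obj K)) :
    ∃ (P : DRing.Cx R) (b' : ℤ), DRing.VanishesAbove P b' ∧
      (∀ i : ℤ, Module.Finite R (P.X i) ∧ Module.IsStablyFree R (P.X i)) ∧
      Nonempty (DRing.toD P ≅ K) ∧ Nonempty ((((ModuleCat.extendScalars (Ideal.Quotient.mk I)).mapHomologicalComplex (ComplexShape.up ℤ)).obj P) ≅ E) ∧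
      ∀ i : ℤ, Module.Free (R ⧸ I) (E.X i) → Module.Free R (P.X i) := by
  classical
  have hPc := pcClass_stablyFree_of_le_jacobson (R := R) hI
  have hK' : ∃ (Q : DRing.Cx R) (c : ℤ), DRing.VanishesAbove Q c ∧
      (∀ i : ℤ, stablyFreeP R (Q.X i)) ∧ Nonempty (DRing.toD Q ≅ K) := by
    obtain ⟨Q, c, hQc, hQf, hQK⟩ := hK
    refine ⟨Q, c, hQc, fun i => ?_, hQK⟩
    obtain ⟨h1, h2⟩ := hQf i
    exact ⟨h1, inferInstance⟩
  have hlift : ∀ i : ℤ, ∃ X : ModuleCat.{u} R, stablyFreeP R X ∧
      Nonempty ((redI I).obj X ≅ E.X i) ∧ (Module.Free (R ⧸ I) (E.X i) → Module.Free R X) := by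
    intro i
    obtain ⟨hfin, hsf⟩ := hEs i
    by_cases hfr : Module.Free (R ⧸ I) (E.X i)
    · obtain ⟨X, hX1, hX2, hX3⟩ := exists_free_lift (I := I) (E.X i)
      exact ⟨X, ⟨hX1, inferInstance⟩, hX3, fun _ => hX2⟩
    · obtain ⟨X, hX1, hX2, hX3⟩ := exists_stablyFree_lift hI (E.X i)
      exact ⟨X, ⟨hX1, hX2⟩, hX3, fun h => absurd h hfr⟩
  choose X hX hθ hfree using hlift
  obtain ⟨d, sq, hb, h1, h2⟩ := exists_lifting_explicit_of_bounded hPc stablyFreeP_prod K hK' E b
    hEb X hX (fun i => (hθ i).some) hE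
  exact ⟨CochainComplex.of X d sq, b, hb, hX, h1, h2, hfree⟩

end Groth.Agent.S7011
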