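import Groth.Statements.S7015
import Mathlib.RingTheory.Finiteness.Basic
import Mathlib.LinearAlgebra.TensorProduct.Finiteness
import Mathlib.LinearAlgebra.StdBasis
-- import your own Groth.Agent.* helpers here

set_option autoImplicit false
universe u
open CategoryTheory MonoidalCategory
open DRing

namespace Groth.Agent.S7015

open TensorProduct

/-- dual basis lemma: a finite "dual basis" makes a module finite projective. -/
theorem finite_projective_of_dualBasis {R : Type u} [CommRing R] {X : Type u} [AddCommGroup X] [Module R X]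
    {ι : Type u} (s : Finset ι) (m : ι → X) (φ : ι → X →ₗ[R] R)
    (h : ∀ x, x = ∑ i ∈ s, φ i x • m i) : Module.Finite R X ∧ Module.Projective R X := by
  classical
  let f : X →ₗ[R] (s → R) := LinearMap.pi (fun i => φ i.1)
  let g : (s → R) →ₗ[R] X := Fintype.linearCombination R (fun i : s => m i.1)
  have hgf : g ∘ₗ f = LinearMap.id := by
    ext x
    simp only [LinearMap.comp_apply, LinearMap.id_apply, g, f, Fintype.linearCombination_apply,
      LinearMap.pi_apply]
    rw [Finset.sum_coe_sort s (fun i => φ i x • m i)]
    exact (h x).symm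
  constructor
  · refine Module.Finite.of_surjective g ?_
    intro x
    exact ⟨f x, LinearMap.congr_fun hgf x⟩
  · exact Module.Projective.of_split f g hgf

/-- Let R be a commutative ring and M, N R-modules such that N is a left dual of M for the tensor
product of R-modules, i.e. there are a coevaluation R → M ⊗ N and an evaluation N ⊗ M → R satisfying
the triangle identities (an exact pairing). Then M and N are finitely generated projective
R-modules. -/
theorem result (R : Type u) [CommRing R] (M N : Type u) [AddCommGroup M]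
    [Module R M] [AddCommGroup N] [Module R N] [ExactPairing (ModuleCat.of R M) (ModuleCat.of R N)] :
    Module.Finite R M ∧ Module.Projective R M ∧ Module.Finite R N ∧ Module.Projective R N := by
  classical
  let X := ModuleCat.of R M
  let Y := ModuleCat.of R N
  let η : R →ₗ[R] M ⊗[R] N := (η_ X Y).hom
  let ε : N ⊗[R] M →ₗ[R] R := (ε_ X Y).hom
  obtain ⟨S, hS⟩ := TensorProduct.exists_finset (η 1)
  have h1 := congrArg ModuleCat.Hom.hom (ExactPairing.evaluation_coevaluation X Y)
  simp only [ModuleCat.hom_comp] at h1
  have h2 := congrArg ModuleCat.Hom.hom (ExactPairing.coevaluation_evaluation X Y)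
  simp only [ModuleCat.hom_comp] at h2
  have hX' : ∀ x : M, (ε.lTensor M) ((TensorProduct.assoc R M N M) ((η.rTensor M) ((1:R) ⊗ₜ[R] x))) =
      (TensorProduct.rid R M).symm ((TensorProduct.lid R M) ((1:R) ⊗ₜ[R] x)) := by
    intro x
    exact LinearMap.congr_fun h1 ((1:R) ⊗ₜ[R] x)
  have hY' : ∀ y : N, (ε.rTensor N) ((TensorProduct.assoc R N M N).symm ((η.lTensor N) (y ⊗ₜ[R] (1:R)))) =
      (TensorProduct.lid R N).symm ((TensorProduct.rid R N) (y ⊗ₜ[R] (1:R))) := by
    intro y
    exact LinearMap.congr_fun h2 (y ⊗ₜ[R] (1:R))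
  have hX : ∀ x : M, x = ∑ p ∈ S, ε (p.2 ⊗ₜ[R] x) • p.1 := by
    intro x
    have h := congrArg (TensorProduct.rid R M) (hX' x)
    simp only [LinearMap.rTensor_tmul, hS, TensorProduct.sum_tmul, map_sum, TensorProduct.assoc_tmul,
      LinearMap.lTensor_tmul, TensorProduct.rid_tmul, TensorProduct.lid_tmul, one_smul,
      LinearEquiv.apply_symm_apply] at h
    exact h.symm
  have hY : ∀ y : N, y = ∑ p ∈ S, ε (y ⊗ₜ[R] p.1) • p.2 := by
    intro y
    have h := congrArg (TensorProduct.lid R N) (hY' y)
    simp only [LinearMap.lTensor_tmul, hS, TensorProduct.tmul_sum, map_sum, TensorProduct.assoc_symm_tmul,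
      LinearMap.rTensor_tmul, TensorProduct.rid_tmul, TensorProduct.lid_tmul, one_smul,
      LinearEquiv.apply_symm_apply] at h
    exact h.symm
  have h1 := finite_projective_of_dualBasis (R := R) (X := M) S (fun p => p.1)
    (fun p => ε ∘ₗ (TensorProduct.mk R N M p.2)) (by intro x; simpa using hX x)
  have h2 := finite_projective_of_dualBasis (R := R) (X := N) S (fun p => p.2)
    (fun p => ε ∘ₗ (TensorProduct.mk R N M).flip p.1) (by intro y; simpa using hY y)
  exact ⟨h1.1, h1.2, h2.1, h2.2⟩

end Groth.Agent.S7015
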