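import Groth.Statements.S7016
-- import your own Groth.Agent.* helpers here
import Mathlib
import Groth.Agent.Lib.Helper36.CxPairing

set_option autoImplicit false
universe u
open CategoryTheory CategoryTheory.Limits
attribute [local instance] HasDerivedCategory.standard
open DRing

namespace Groth.Agent.S7016

open MonoidalCategory in
/-- Let R be a commutative ring and M, N cochain complexes of R-modules such that N is a left dual of M
for the tensor product of cochain complexes of R-modules (coevaluation R[0] → M ⊗ N and evaluation N
⊗ M → R[0] with the triangle identities, an exact pairing). Then M and N are bounded and every term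
M^n, N^n is a finitely generated projective R-module. -/
theorem result (R : Type u) [CommRing R] (M N : DRing.Cx R)
    [ExactPairing M N] :
    (∃ a b : ℤ, DRing.VanishesOutside M a b) ∧ (∃ a b : ℤ, DRing.VanishesOutside N a b) ∧
      DRing.TermwiseFiniteProjective M ∧ DRing.TermwiseFiniteProjective N := by
  have hb := ExactPairing.evaluation_coevaluation M N
  have ha := ExactPairing.coevaluation_evaluation M N
  exact ⟨Groth.Agent.Lib.Helper36.CxPairing.bounded_X M N (η_ M N) (ε_ M N) hb,
    Groth.Agent.Lib.Helper36.CxPairing.bounded_Y M N (η_ M N) (ε_ M N) ha,
    fun k => Groth.Agent.Lib.Helper36.CxPairing.finite_projective_X M N (η_ M N) (ε_ M N) hb k,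
    fun k => Groth.Agent.Lib.Helper36.CxPairing.finite_projective_Y M N (η_ M N) (ε_ M N) ha k⟩

end Groth.Agent.S7016
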