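import Groth.Statements.S7021
import Groth.Agent.Lib.Helper12.DerCARelAPI
import Groth.Agent.S6935
-- import your own Groth.Agent.* helpers here

set_option autoImplicit false
universe u
open CategoryTheory CategoryTheory.Limits
attribute [local instance] HasDerivedCategory.standard
open DerCA

namespace Groth.Agent.S7021

open Groth.Agent.Lib.Helper12

/-- Let R → A be a finite type homomorphism of commutative rings, α : R[x_1, ..., x_n] → A a surjective
R-algebra homomorphism and M an A-module. Then relative 0-pseudo-coherence of M over R amounts to M
being a finitely generated A-module, and relative (-1)-pseudo-coherence of M over R amounts to M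
being finitely presented as an R[x_1, ..., x_n]-module through α. -/
theorem result {R A : Type u} [CommRing R] [CommRing A]
    [Algebra R A] [Algebra.FiniteType R A] {n : ℕ} (α : MvPolynomial (Fin n) R →ₐ[R] A)
    (hα : Function.Surjective α) (M : Type u) [AddCommGroup M] [Module A M] :
    (DerCA.IsRelPseudoCoherentModule R A 0 M ↔ Module.Finite A M) ∧
      (DerCA.IsRelPseudoCoherentModule R A (-1) M ↔
        @Module.FinitePresentation (MvPolynomial (Fin n) R) M _ _ (Module.compHom M α.toRingHom)) := by
  let P := MvPolynomial (Fin n) R
  let N : ModuleCat.{u} P := (resSc (α : P →+* A)).obj (ModuleCat.of A M)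
  have key : ∀ m : ℤ, DerCA.IsRelPseudoCoherentModule R A m M ↔
      DRing.IsPseudoCoherentModule P m N := by
    intro m
    have h1 := isRelPseudoCoherent_iff_via α hα m (Dual.inD A M)
    have e : (DRing.restrictD (α : P →+* A)).obj (Dual.inD A (ModuleCat.of A M)) ≅
        Dual.inD P N := restrictD_inD (α : P →+* A) (ModuleCat.of A M)
    exact h1.trans ⟨isPseudoCoherent_of_iso' e, isPseudoCoherent_of_iso' e.symm⟩
  have h6935 := Groth.Agent.S6935.result P N
  refine ⟨(key 0).trans (h6935.1.trans ⟨fun h => ?_, fun h => ?_⟩),
    (key (-1)).trans (h6935.2.trans Iff.rfl)⟩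
  · exact finite_of_finite_resSc (α : P →+* A) (ModuleCat.of A M) h
  · have : Module.Finite A (ModuleCat.of A M) := h
    exact finite_resSc_of_surjective (α : P →+* A) hα (ModuleCat.of A M)

end Groth.Agent.S7021
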