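import Groth.Statements.S7022
import Groth.Agent.Lib.Helper12.DerCARel
-- import your own Groth.Agent.* helpers here

set_option autoImplicit false
universe u
open CategoryTheory CategoryTheory.Limits
attribute [local instance] HasDerivedCategory.standard
open DerCA

namespace Groth.Agent.S7022

open Groth.Agent.Lib.Helper12

lemma aux {R A : Type u} [CommRing R] [CommRing A] [Algebra R A] (m : ℤ) (K L : Dual.D A)
    (h : DerCA.IsRelPseudoCoherent R A m (K ⊞ L)) :
    DerCA.IsRelPseudoCoherent R A m K ∧ DerCA.IsRelPseudoCoherent R A m L := by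
  obtain ⟨n, α, hα, h⟩ := h
  obtain ⟨e⟩ := exists_restrictD_biprod_iso (α : MvPolynomial (Fin n) R →+* A) K L
  have h' := isPseudoCoherent_of_iso_biprod e h
  exact ⟨⟨n, α, hα, h'.1⟩, ⟨n, α, hα, h'.2⟩⟩

/-- Let R → A be a finite type homomorphism of commutative rings, m an integer and K, L objects of the
derived category D(A). Whenever the direct sum K ⊕ L is pseudo-coherent relative to R in degree m,
both summands K and L are too; likewise, relative pseudo-coherence of K ⊕ L (in every degree) passes
to K and to L. -/
theorem result {R A : Type u} [CommRing R] [CommRing A] [Algebra R A] [Algebra.FiniteType R A] (m : ℤ) (K L : Dual.D A) [HasBinaryBiproduct K L] :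
    (DerCA.IsRelPseudoCoherent R A m (K ⊞ L) → DerCA.IsRelPseudoCoherent R A m K ∧ DerCA.IsRelPseudoCoherent R A m L) ∧
      (DerCA.IsRelPseudoCoherentAll R A (K ⊞ L) →
        DerCA.IsRelPseudoCoherentAll R A K ∧ DerCA.IsRelPseudoCoherentAll R A L) := by
  constructor
  · exact aux m K L
  · intro h
    exact ⟨fun m' => (aux m' K L (h m')).1, fun m' => (aux m' K L (h m')).2⟩

end Groth.Agent.S7022
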