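import Groth.Statements.S7026
import Groth.Agent.Lib.Helper12.DerCARel
import Groth.Agent.Lib.Helper12.DRingPCHomology
-- import your own Groth.Agent.* helpers here

set_option autoImplicit false
universe u
open CategoryTheory CategoryTheory.Limits
attribute [local instance] HasDerivedCategory.standard
open DerCA

namespace Groth.Agent.S7026

open Groth.Agent.Lib.Helper12

lemma finite_iff {R A : Type u} [CommRing R] [CommRing A] [Algebra R A] {n : ℕ}
    (α : MvPolynomial (Fin n) R →ₐ[R] A) (hα : Function.Surjective α) (K : Dual.D A) (i : ℤ) :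
    Module.Finite (MvPolynomial (Fin n) R)
      ((HF (MvPolynomial (Fin n) R) i).obj
        ((DRing.restrictD (α : MvPolynomial (Fin n) R →+* A)).obj K)) ↔
      Module.Finite A ((HF A i).obj K) := by
  let e := (HFRestrictIso (α : MvPolynomial (Fin n) R →+* A) i).app K
  constructor
  · intro h
    have h1 : Module.Finite (MvPolynomial (Fin n) R)
        ((DRing.restrictD (α : MvPolynomial (Fin n) R →+* A) ⋙
          HF (MvPolynomial (Fin n) R) i).obj K) := h
    have h' : Module.Finite (MvPolynomial (Fin n) R)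
        ((resSc (α : MvPolynomial (Fin n) R →+* A)).obj ((HF A i).obj K)) :=
      Module.Finite.equiv e.toLinearEquiv
    exact finite_of_finite_resSc _ _ h'
  · intro h
    have h' := finite_resSc_of_surjective (α : MvPolynomial (Fin n) R →+* A) hα ((HF A i).obj K)
    have h1 : Module.Finite (MvPolynomial (Fin n) R)
        ((HF A i ⋙ resSc (α : MvPolynomial (Fin n) R →+* A)).obj K) := h'
    exact Module.Finite.equiv e.symm.toLinearEquiv

lemma via_iff {R A : Type u} [CommRing R] [IsNoetherianRing R] [CommRing A] [Algebra R A] {n : ℕ}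
    (α : MvPolynomial (Fin n) R →ₐ[R] A) (hα : Function.Surjective α) (m : ℤ) (K : Dual.D A) :
    DerCA.IsRelPseudoCoherentVia α m K ↔
      (∃ b : ℤ, ∀ i : ℤ, b < i → IsZero ((HF A i).obj K)) ∧
        ∀ i : ℤ, m ≤ i → Module.Finite A ((HF A i).obj K) := by
  unfold DerCA.IsRelPseudoCoherentVia
  rw [isPseudoCoherent_iff_of_isNoetherianRing]
  constructor
  · rintro ⟨⟨b, hb⟩, h⟩
    exact ⟨⟨b, fun i hi => (isZero_HF_restrictD_iff _ K i).mp (hb i hi)⟩,
      fun i hi => (finite_iff α hα K i).mp (h i hi)⟩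
  · rintro ⟨⟨b, hb⟩, h⟩
    exact ⟨⟨b, fun i hi => (isZero_HF_restrictD_iff _ K i).mpr (hb i hi)⟩,
      fun i hi => (finite_iff α hα K i).mpr (h i hi)⟩

lemma rel_iff {R A : Type u} [CommRing R] [IsNoetherianRing R] [CommRing A] [Algebra R A]
    [Algebra.FiniteType R A] (m : ℤ) (K : Dual.D A) :
    DerCA.IsRelPseudoCoherent R A m K ↔
      (∃ b : ℤ, ∀ i : ℤ, b < i → IsZero ((HF A i).obj K)) ∧
        ∀ i : ℤ, m ≤ i → Module.Finite A ((HF A i).obj K) := by
  constructor
  · rintro ⟨n, α, hα, h⟩
    exact (via_iff α hα m K).mp h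
  · intro h
    obtain ⟨n, α, hα⟩ := Algebra.FiniteType.iff_quotient_mvPolynomial''.mp
      (inferInstance : Algebra.FiniteType R A)
    exact ⟨n, α, hα, (via_iff α hα m K).mpr h⟩

lemma sub_iff {R : Type u} [CommRing R] (K : Dual.D R) :
    (∃ b : ℤ, ∀ i : ℤ, b < i → Subsingleton (Dual.HD R K i)) ↔
      (∃ b : ℤ, ∀ i : ℤ, b < i → IsZero ((HF R i).obj K)) := by
  constructor
  · rintro ⟨b, hb⟩
    refine ⟨b, fun i hi => ?_⟩
    have := hb i hi
    exact ModuleCat.isZero_of_subsingleton _
  · rintro ⟨b, hb⟩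
    exact ⟨b, fun i hi => ModuleCat.subsingleton_of_isZero (hb i hi)⟩

/-- Let R be a Noetherian commutative ring, R → A a finite type ring homomorphism, m an integer, K an
object of D(A) and M an A-module. Then: m-pseudo-coherence of K relative to R is equivalent to
H^i(K) vanishing for all large i together with H^i(K) being a finitely generated A-module for each i
≥ m; pseudo-coherence of K relative to R (every degree) is equivalent to the same with H^i(K)
finitely generated for every i; and the A-module M is pseudo-coherent relative to R exactly when M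
is finitely generated. -/
theorem result {R A : Type u} [CommRing R]
    [IsNoetherianRing R] [CommRing A] [Algebra R A] [Algebra.FiniteType R A] (m : ℤ) (K : Dual.D A)
    (M : Type u) [AddCommGroup M] [Module A M] :
    (DerCA.IsRelPseudoCoherent R A m K ↔
      (∃ b : ℤ, ∀ i : ℤ, b < i → Subsingleton (Dual.HD A K i)) ∧ ∀ i : ℤ, m ≤ i → Module.Finite A (Dual.HD A K i)) ∧
    (DerCA.IsRelPseudoCoherentAll R A K ↔
      (∃ b : ℤ, ∀ i : ℤ, b < i → Subsingleton (Dual.HD A K i)) ∧ ∀ i : ℤ, Module.Finite A (Dual.HD A K i)) ∧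
    (DerCA.IsRelPseudoCoherentModuleAll R A M ↔ Module.Finite A M) := by
  have h1 : DerCA.IsRelPseudoCoherent R A m K ↔
      (∃ b : ℤ, ∀ i : ℤ, b < i → Subsingleton (Dual.HD A K i)) ∧
        ∀ i : ℤ, m ≤ i → Module.Finite A (Dual.HD A K i) := by
    rw [rel_iff, sub_iff]
  have h2 : ∀ L : Dual.D A, DerCA.IsRelPseudoCoherentAll R A L ↔
      (∃ b : ℤ, ∀ i : ℤ, b < i → Subsingleton (Dual.HD A L i)) ∧
        ∀ i : ℤ, Module.Finite A (Dual.HD A L i) := by
    intro L
    rw [sub_iff]
    constructor
    · intro h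
      exact ⟨((rel_iff 0 L).mp (h 0)).1, fun i => ((rel_iff i L).mp (h i)).2 i le_rfl⟩
    · rintro ⟨hb, hf⟩ m'
      exact (rel_iff m' L).mpr ⟨hb, fun i _ => hf i⟩
  refine ⟨h1, h2 K, ?_⟩
  unfold DerCA.IsRelPseudoCoherentModuleAll
  rw [h2]
  have e : (HF A 0).obj (Dual.inD A M) ≅ ModuleCat.of A M := HFSingleIso 0 _
  constructor
  · rintro ⟨-, hf⟩
    have := hf 0
    exact Module.Finite.equiv e.toLinearEquiv
  · intro h
    refine ⟨⟨0, fun i hi => ?_⟩, fun i => ?_⟩
    · exact ModuleCat.subsingleton_of_isZero (isZero_HF_single 0 _ i (by omega))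
    · by_cases hi : i = 0
      · subst hi
        have : Module.Finite A (ModuleCat.of A M) := h
        exact Module.Finite.equiv e.symm.toLinearEquiv
      · have : Subsingleton (Dual.HD A (Dual.inD A M) i) :=
          ModuleCat.subsingleton_of_isZero (isZero_HF_single 0 _ i hi)
        infer_instance

end Groth.Agent.S7026
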