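import Groth.Statements.S7031
import Mathlib
import Groth.Agent.Lib.Helper12.DRingPCHomology
import Groth.Agent.Lib.Helper12.DRingFinite
import Groth.Agent.S7030
import Groth.Agent.S6962

set_option autoImplicit false
universe u
open CategoryTheory CategoryTheory.Limits
attribute [local instance] HasDerivedCategory.standard
open DRing

namespace Groth.Agent.S7031

/-- Let R be a regular commutative ring (Noetherian, with regular local rings at all primes) such that
the derived tensor product - ⊗^L_R M exists on D(R) for every R-module M, and let K be an object of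
D(R). Then K is perfect if and only if H^i(K) = 0 outside a bounded range of degrees and every
H^i(K) is a finitely generated R-module. -/
theorem result (R : Type u) [CommRing R] [IsNoetherianRing R]
    (hreg : ∀ p : PrimeSpectrum R, IsRegularLocalRing (Localization.AtPrime p.asIdeal)) [∀ M : ModuleCat.{u} R, DRing.HasLTensor R M] (K : Dual.D R) :
    DRing.IsPerfect R K ↔
      (∃ a b : ℤ, ∀ i : ℤ, (i < a ∨ b < i) → Subsingleton (Dual.HD R K i)) ∧ ∀ i : ℤ, Module.Finite R (Dual.HD R K i) := by
  constructor
  · rintro ⟨E, a, b, hE, hfp, ⟨e⟩⟩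
    refine ⟨⟨a, b, fun i hi => ?_⟩, fun i => ?_⟩
    · have h1 : IsZero ((Groth.Agent.Lib.Helper12.HF R i).obj (toD E)) :=
        Groth.Agent.Lib.Helper12.isZero_HF_toD_of_isZero_X E i (hE i hi)
      have h2 : IsZero ((Groth.Agent.Lib.Helper12.HF R i).obj K) :=
        h1.of_iso ((Groth.Agent.Lib.Helper12.HF R i).mapIso e.symm)
      exact ModuleCat.subsingleton_of_isZero h2
    · have h1 : Module.Finite R ((Groth.Agent.Lib.Helper12.HF R i).obj (toD E)) :=
        Groth.Agent.Lib.Helper12.finite_HF_toD_of_finite E i (hfp i).1
      exact Module.Finite.equiv ((Groth.Agent.Lib.Helper12.HF R i).mapIso e).toLinearEquiv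
  · rintro ⟨hb, hfin⟩
    refine Groth.Agent.S7030.result R K hb (fun i => ?_)
    exact (Groth.Agent.S6962.result R hreg (Dual.HD R K i)).2 (hfin i)

end Groth.Agent.S7031
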