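import Groth.Statements.S7036
-- import your own Groth.Agent.* helpers here
import Mathlib
import Groth.Agent.S6965
import Groth.Agent.Lib.Helper36.DegInduction
import Groth.Agent.Lib.Helper12.DRingSingle
import Groth.Agent.Lib.Helper12.DRingCone

set_option autoImplicit false
universe u
open CategoryTheory CategoryTheory.Limits
attribute [local instance] HasDerivedCategory.standard
open DRing

namespace Groth.Agent.S7036

open Groth.Agent.Lib.Helper12 Groth.Agent.Lib.Helper36 CategoryTheory.Pretriangulated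
open scoped ZeroObject

variable {A : Type u} [CommRing A]

lemma hasInjAmplitudeIn_of_iso {K K' : Dual.D A} (e : K ≅ K') {a b : ℤ}
    (h : HasInjAmplitudeIn A a b K) : HasInjAmplitudeIn A a b K' := by
  obtain ⟨E, hE, hinj, ⟨e'⟩⟩ := h
  exact ⟨E, hE, hinj, ⟨e' ≪≫ e⟩⟩

lemma hasInjAmplitudeIn_mono {K : Dual.D A} {a b a' b' : ℤ} (h : HasInjAmplitudeIn A a b K)
    (ha : a' ≤ a) (hb : b ≤ b') : HasInjAmplitudeIn A a' b' K := by
  obtain ⟨E, hE, hinj, e⟩ := h
  exact ⟨E, fun i hi => hE i (by omega), hinj, e⟩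

lemma hasInjAmplitudeIn_of_isZero {K : Dual.D A} (h : IsZero K) (a b : ℤ) :
    HasInjAmplitudeIn A a b K := by
  refine ⟨(0 : Cx A), fun i _ => ?_, fun i => ?_, ⟨?_⟩⟩
  · exact (HomologicalComplex.eval _ _ i).map_isZero (isZero_zero _)
  · have h0 : IsZero ((0 : Cx A).X i) :=
      (HomologicalComplex.eval _ _ i).map_isZero (isZero_zero _)
    have := h0.injective
    exact (Module.injective_iff_injective_object A ((0 : Cx A).X i)).mpr
      ((Injective.iso_iff (Iso.refl _)).mp this)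
  · exact (DerivedCategory.Q.map_isZero (isZero_zero _)).iso h

lemma hasInjAmplitudeIn_shift {K : Dual.D A} {a b : ℤ} (h : HasInjAmplitudeIn A a b K) (n : ℤ) :
    HasInjAmplitudeIn A (a - n) (b - n) (K⟦n⟧) := by
  obtain ⟨F, hF, hinj, ⟨e⟩⟩ := h
  refine ⟨F⟦n⟧, vanishesOutside_shift hF n, fun i => ?_,
    ⟨toDShiftIso F n ≪≫ (CategoryTheory.shiftFunctor (Dual.D A) n).mapIso e⟩⟩
  exact hinj (i + n)

lemma hasInjAmplitudeIn_ext (T : Triangle (Dual.D A)) (hT : T ∈ distTriang (Dual.D A))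
    {a b : ℤ} (h1 : HasInjAmplitudeIn A a b T.obj₁) (h3 : HasInjAmplitudeIn A a b T.obj₃) :
    HasInjAmplitudeIn A a b T.obj₂ := by
  have H1 := ((Groth.Agent.S6965.result A T.obj₁ a b).out 0 1).mp h1
  have H3 := ((Groth.Agent.S6965.result A T.obj₃ a b).out 0 1).mp h3
  refine ((Groth.Agent.S6965.result A T.obj₂ a b).out 0 1).mpr ?_
  intro N _ _ i hi
  refine subsingleton_of_forall_eq 0 (fun f => ?_)
  have hTi : (Triangle.shiftFunctor (Dual.D A) i).obj T ∈ distTriang (Dual.D A) :=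
    Triangle.shift_distinguished T hT i
  have hf3 : f ≫ ((Triangle.shiftFunctor (Dual.D A) i).obj T).mor₂ = 0 :=
    @Subsingleton.elim _ (H3 N i hi) _ _
  obtain ⟨g, hg⟩ := Triangle.coyoneda_exact₂ _ hTi f hf3
  have hg0 : g = 0 := @Subsingleton.elim _ (H1 N i hi) _ _
  rw [hg, hg0, zero_comp]
  rfl

lemma hasFiniteInjDim_of_iso {K K' : Dual.D A} (e : K ≅ K') (h : HasFiniteInjDim A K) :
    HasFiniteInjDim A K' := by
  obtain ⟨a, b, h⟩ := h
  exact ⟨a, b, hasInjAmplitudeIn_of_iso e h⟩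

lemma hasFiniteInjDim_ext (T : Triangle (Dual.D A)) (hT : T ∈ distTriang (Dual.D A))
    (h1 : HasFiniteInjDim A T.obj₁) (h3 : HasFiniteInjDim A T.obj₃) :
    HasFiniteInjDim A T.obj₂ := by
  obtain ⟨a1, b1, h1⟩ := h1
  obtain ⟨a3, b3, h3⟩ := h3
  exact ⟨_, _, hasInjAmplitudeIn_ext T hT
    (hasInjAmplitudeIn_mono h1 (min_le_left a1 a3) (le_max_left b1 b3))
    (hasInjAmplitudeIn_mono h3 (min_le_right a1 a3) (le_max_right b1 b3))⟩

lemma hasFiniteInjDim_single (M : ModuleCat.{u} A) (i : ℤ)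
    (h : HasFiniteInjDim A (Dual.inD A M)) :
    HasFiniteInjDim A ((DerivedCategory.singleFunctor (ModuleCat.{u} A) i).obj M) := by
  obtain ⟨a, b, h⟩ := h
  exact ⟨_, _, hasInjAmplitudeIn_of_iso (singleFunctorShiftIso i M).symm
    (hasInjAmplitudeIn_shift h (-i))⟩

/-- Let R be a commutative ring. (1) If K is an object of D(R) whose cohomology vanishes outside a
bounded range and every cohomology module H^i(K), placed in degree 0, has finite injective
dimension, then K has finite injective dimension. (2) If K is a bounded cochain complex of R-modules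
and every term K^i, placed in degree 0, has finite injective dimension, then K has finite injective
dimension. -/
theorem result (R : Type u) [CommRing R] :
    (∀ (K : Dual.D R), (∃ a b : ℤ, ∀ i : ℤ, (i < a ∨ b < i) → Subsingleton (Dual.HD R K i)) →
        (∀ i : ℤ, DRing.HasFiniteInjDim R (Dual.inD R (Dual.HD R K i))) → DRing.HasFiniteInjDim R K) ∧
      (∀ (K : DRing.Cx R) (a b : ℤ), DRing.VanishesOutside K a b →
        (∀ i : ℤ, DRing.HasFiniteInjDim R (Dual.inD R (K.X i))) → DRing.HasFiniteInjDim R (DRing.toD K)) := by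
  refine ⟨fun K hb hK => ?_, fun K a b hv hK => ?_⟩
  · obtain ⟨c, d, hcd⟩ := hb
    exact DegInd.homology_induction' (HasFiniteInjDim R)
      (fun _ M => HasFiniteInjDim R (Dual.inD R M))
      (fun _ _ _ e h => hasFiniteInjDim_of_iso (inDMapIso e) h)
      (fun _ _ h => ⟨0, 0, hasInjAmplitudeIn_of_isZero (isZero_inD h) _ _⟩)
      (fun e h => hasFiniteInjDim_of_iso e h)
      (fun _ h => ⟨0, 0, hasInjAmplitudeIn_of_isZero h _ _⟩)
      (fun M i h => hasFiniteInjDim_single M i h)
      (fun T hT h1 h3 => hasFiniteInjDim_ext T hT h1 h3)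
      K c d (fun i hi => @ModuleCat.isZero_of_subsingleton _ _ _ (hcd i hi)) hK
  · exact DegInd.bounded_induction' (HasFiniteInjDim R)
      (fun _ M => HasFiniteInjDim R (Dual.inD R M))
      (fun _ _ _ e h => hasFiniteInjDim_of_iso (inDMapIso e) h)
      (fun _ _ h => ⟨0, 0, hasInjAmplitudeIn_of_isZero (isZero_inD h) _ _⟩)
      (fun _ h => ⟨0, 0, hasInjAmplitudeIn_of_isZero h _ _⟩)
      (fun M i h => hasFiniteInjDim_of_iso (toDSingleIso' i M).symm (hasFiniteInjDim_single M i h))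
      (fun T hT h1 h3 => hasFiniteInjDim_ext T hT h1 h3)
      K a b hv hK

end Groth.Agent.S7036
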