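import Groth.Statements.S7037
-- import your own Groth.Agent.* helpers here
import Mathlib
import Groth.Agent.Lib.Helper36.LTensorCxPC

set_option autoImplicit false
universe u
open CategoryTheory CategoryTheory.Limits
attribute [local instance] HasDerivedCategory.standard
open DRing

namespace Groth.Agent.S7037

/-- Let R be a commutative ring, K a pseudo-coherent object of D(R), and L a cochain complex of
R-modules which is pseudo-coherent as an object of D(R); assume the derived tensor product - ⊗^L_R L
exists on D(R). Then K ⊗^L_R L is pseudo-coherent. -/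
theorem result (R : Type u) [CommRing R] (K : Dual.D R) (hK : DRing.IsPseudoCoherent' R K)
    (L : DRing.Cx R) (hL : DRing.IsPseudoCoherent' R (DRing.toD L)) [DRing.HasLTensorCx R L] :
    DRing.IsPseudoCoherent' R ((DRing.LTensorCx R L).obj K) := by
  obtain ⟨P, b, hb, hP, ⟨eK⟩⟩ := hK
  obtain ⟨L', b', hb', hL', ⟨eL⟩⟩ := hL
  have hPp : ∀ i, Module.Projective R (P.X i) := fun i => by
    have := (hP i).2
    infer_instance
  have hL'p : ∀ i, Module.Projective R (L'.X i) := fun i => by
    have := (hL' i).2
    infer_instance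
  obtain ⟨e⟩ := Groth.Agent.Lib.Helper36.LTCx.nonempty_lTensorCx_iso L L' P b hb hPp b' hb' hL'p eL
  refine ⟨MonoidalCategory.tensorObj P L', b + b', Groth.Agent.Lib.Helper36.TT.vanishesAbove_tensor P L' hb hb', ?_,
    ⟨e.symm ≪≫ (DRing.LTensorCx R L).mapIso eK⟩⟩
  intro n
  refine ⟨?_, Groth.Agent.Lib.Helper36.TT.free_tensor_X P L' n (fun i => (hP i).2)
    (fun i => (hL' i).2)⟩
  refine Groth.Agent.Lib.Helper36.TT.finite_tensor_X P L' n (fun i => (hP i).1)
    (fun i => (hL' i).1) (n - b') b ?_
  intro p q hpq hp
  rcases hp with hp | hp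
  · exact Or.inr (hb' q (by omega))
  · exact Or.inl (hb p hp)

end Groth.Agent.S7037
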