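import Groth.Statements.S7039
-- import your own Groth.Agent.* helpers here

set_option autoImplicit false
universe u
open LocCoh

namespace Groth.Agent.S7039

/-- If every `s • x` for `s` in a finite set `S` is power torsion, then a single power of `I`
kills all of `s • x`. -/
theorem exists_uniform {R : Type u} [CommRing R] (I : Ideal R)
    (M : Type u) [AddCommGroup M] [Module R M] (x : M) (S : Finset R)
    (h : ∀ s ∈ S, ∃ n : ℕ, ∀ a ∈ I ^ n, a • (s • x) = 0) :
    ∃ n : ℕ, ∀ s ∈ S, ∀ a ∈ I ^ n, a • (s • x) = 0 := by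
  classical
  induction S using Finset.induction_on with
  | empty => exact ⟨0, by simp⟩
  | insert t S ht ih =>
    obtain ⟨n, hn⟩ := ih (fun s hs => h s (Finset.mem_insert_of_mem hs))
    obtain ⟨k, hk⟩ := h t (Finset.mem_insert_self t S)
    refine ⟨n + k, fun s hs a ha => ?_⟩
    rw [Finset.mem_insert] at hs
    rcases hs with rfl | hs
    · exact hk a (Ideal.pow_le_pow_right (Nat.le_add_left k n) ha)
    · exact hn s hs a (Ideal.pow_le_pow_right (Nat.le_add_right n k) ha)

/-- For a finitely generated ideal I of a commutative ring R and any R-module M, the quotient of M by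
its submodule of I-power torsion elements has no nonzero element annihilated by I. -/
theorem result {R : Type u} [CommRing R] (I : Ideal R) (hI : I.FG)
    (M : Type u) [AddCommGroup M] [Module R M] :
    LocCoh.torsionBy I (M ⧸ DRing.torsionSub I M) = ⊥ := by
  rw [eq_bot_iff]
  intro y hy
  obtain ⟨x, rfl⟩ := Submodule.Quotient.mk_surjective _ y
  rw [Submodule.mem_bot, Submodule.Quotient.mk_eq_zero]
  rw [Submodule.mem_torsionBySet_iff] at hy
  obtain ⟨S, hS⟩ := hI
  have h1 : ∀ s ∈ S, ∃ n : ℕ, ∀ a ∈ I ^ n, a • (s • x) = 0 := by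
    intro s hs
    have hsI : s ∈ I := by
      rw [← hS]
      exact Ideal.subset_span hs
    have := hy ⟨s, hsI⟩
    rw [← Submodule.Quotient.mk_smul, Submodule.Quotient.mk_eq_zero] at this
    exact this
  obtain ⟨n, hn⟩ := exists_uniform I M x S h1
  refine ⟨n + 1, fun a ha => ?_⟩
  rw [pow_succ] at ha
  refine Submodule.mul_induction_on ha ?_ ?_
  · intro b hb c hc
    rw [mul_smul]
    rw [← hS] at hc
    refine Submodule.span_induction ?_ ?_ ?_ ?_ hc
    · intro s hs
      exact hn s hs b hb
    · simp
    · intro c1 c2 _ _ h1 h2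
      rw [add_smul, smul_add, h1, h2, add_zero]
    · intro r c1 _ h1
      rw [smul_eq_mul, mul_smul, smul_comm, h1, smul_zero]
  · intro a1 a2 h1 h2
    rw [add_smul, h1, h2, add_zero]

end Groth.Agent.S7039
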