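import Groth.Statements.S7040
import Mathlib.Algebra.Homology.ShortComplex.ModuleCat
-- import your own Groth.Agent.* helpers here

set_option autoImplicit false
universe u
open CategoryTheory
open LocCoh

namespace Groth.Agent.S7040

/-- If every `s • x` for `s` in a finite set `S` is power torsion, then a single power of `I`
kills all of `s • x`. -/
theorem exists_uniform {R : Type u} [CommRing R] (I : Ideal R)
    (M : Type u) [AddCommGroup M] [Module R M] (x : M) (S : Finset R)
    (h : ∀ s ∈ S, ∃ n : ℕ, ∀ a ∈ I ^ n, a • (s • x) = 0) :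
    ∃ n : ℕ, ∀ s ∈ S, ∀ a ∈ I ^ n, a • (s • x) = 0 := by
  classical
  induction S using Finset.induction_on with
  | empty => exact ⟨0, by simp⟩
  | insert t S ht ih =>
    obtain ⟨n, hn⟩ := ih (fun s hs => h s (Finset.mem_insert_of_mem hs))
    obtain ⟨k, hk⟩ := h t (Finset.mem_insert_self t S)
    refine ⟨n + k, fun s hs a ha => ?_⟩
    rw [Finset.mem_insert] at hs
    rcases hs with rfl | hs
    · exact hk a (Ideal.pow_le_pow_right (Nat.le_add_left k n) ha)
    · exact hn s hs a (Ideal.pow_le_pow_right (Nat.le_add_right n k) ha)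

/-- If `J` is a finitely generated ideal and `c • x` is `I`-power torsion for every `c ∈ J`, then
`I ^ k * J` kills `x` for some `k`. -/
theorem exists_pow_mul_kill {R : Type u} [CommRing R] (I J : Ideal R) (hJ : J.FG)
    (M : Type u) [AddCommGroup M] [Module R M] (x : M)
    (h : ∀ c ∈ J, ∃ n : ℕ, ∀ a ∈ I ^ n, a • (c • x) = 0) :
    ∃ k : ℕ, ∀ a ∈ I ^ k * J, a • x = 0 := by
  obtain ⟨S, hS⟩ := hJ
  have h1 : ∀ s ∈ S, ∃ n : ℕ, ∀ a ∈ I ^ n, a • (s • x) = 0 := by
    intro s hs
    refine h s ?_
    rw [← hS]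
    exact Ideal.subset_span hs
  obtain ⟨n, hn⟩ := exists_uniform I M x S h1
  refine ⟨n, fun a ha => ?_⟩
  refine Submodule.mul_induction_on ha ?_ ?_
  · intro b hb c hc
    rw [mul_smul]
    rw [← hS] at hc
    refine Submodule.span_induction ?_ ?_ ?_ ?_ hc
    · intro s hs
      exact hn s hs b hb
    · simp
    · intro c1 c2 _ _ h1 h2
      rw [add_smul, smul_add, h1, h2, add_zero]
    · intro r c1 _ h1
      rw [smul_eq_mul, mul_smul, smul_comm, h1, smul_zero]
  · intro a1 a2 h1 h2
    rw [add_smul, h1, h2, add_zero]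

/-- Power torsion modules are closed under extensions (for `I` finitely generated). -/
theorem isPowerTorsion_of_exact {R : Type u} [CommRing R] (I : Ideal R) (hI : I.FG)
    {M₁ M₂ M₃ : Type u} [AddCommGroup M₁] [Module R M₁] [AddCommGroup M₂] [Module R M₂]
    [AddCommGroup M₃] [Module R M₃] (f : M₁ →ₗ[R] M₂) (g : M₂ →ₗ[R] M₃)
    (hfg : Function.Exact f g) (h₁ : LocCoh.IsPowerTorsion I M₁) (h₃ : LocCoh.IsPowerTorsion I M₃) :
    LocCoh.IsPowerTorsion I M₂ := by
  intro m
  obtain ⟨n, hn⟩ := h₃ (g m)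
  have hfg' : (I ^ n).FG := Submodule.FG.pow hI n
  have h2 : ∀ c ∈ I ^ n, ∃ k : ℕ, ∀ a ∈ I ^ k, a • (c • m) = 0 := by
    intro c hc
    have : g (c • m) = 0 := by rw [map_smul, hn c hc]
    obtain ⟨x, hx⟩ := (hfg (c • m)).mp this
    obtain ⟨k, hk⟩ := h₁ x
    refine ⟨k, fun a ha => ?_⟩
    rw [← hx, ← map_smul, hk a ha, map_zero]
  obtain ⟨k, hk⟩ := exists_pow_mul_kill I (I ^ n) hfg' M₂ m h2
  refine ⟨k + n, fun a ha => ?_⟩
  rw [pow_add] at ha
  exact hk a ha

/-- For a finitely generated ideal I of a commutative ring R, the property of being an I-power torsion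
module (every element killed by a power of I) is a Serre class in the category of R-modules: it
holds for 0 and is closed under subobjects, quotients and extensions. -/
theorem result {R : Type u} [CommRing R] (I : Ideal R) (hI : I.FG) :
    ObjectProperty.IsSerreClass (C := ModuleCat.{u} R) (fun M => LocCoh.IsPowerTorsion I M) := by
  refine
    { exists_zero := ?_
      prop_of_mono := ?_
      prop_of_epi := ?_
      prop_X₂_of_shortExact := ?_ }
  · refine ⟨ModuleCat.of R PUnit, ModuleCat.isZero_of_subsingleton _, ?_⟩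
    intro m
    exact ⟨0, fun a _ => Subsingleton.elim _ _⟩
  · intro X Y f hf hY m
    rw [ModuleCat.mono_iff_injective] at hf
    obtain ⟨n, hn⟩ := hY (f m)
    refine ⟨n, fun a ha => ?_⟩
    apply hf
    rw [map_smul, hn a ha, map_zero]
  · intro X Y f hf hX m
    rw [ModuleCat.epi_iff_surjective] at hf
    obtain ⟨x, rfl⟩ := hf m
    obtain ⟨n, hn⟩ := hX x
    refine ⟨n, fun a ha => ?_⟩
    rw [← map_smul, hn a ha, map_zero]
  · intro S hS h₁ h₃
    exact isPowerTorsion_of_exact I hI S.f.hom S.g.hom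
      ((ShortComplex.ShortExact.moduleCat_exact_iff_function_exact S).mp hS.exact) h₁ h₃

end Groth.Agent.S7040
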