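import Groth.Statements.S7041
-- import your own Groth.Agent.* helpers here

set_option autoImplicit false
universe u
open TensorProduct
open LocCoh

namespace Groth.Agent.S7041

section

variable {R R' : Type u} [CommRing R] [CommRing R'] [Algebra R R'] (I : Ideal R)
  (hq : ∀ n : ℕ, 0 < n → Function.Bijective
      (Ideal.quotientMap (Ideal.map (algebraMap R R') (I ^ n)) (algebraMap R R') Ideal.le_comap_map))
  (M : Type u) [AddCommGroup M] [Module R M]

include hq in
theorem exists_lift (n : ℕ) (hn : 0 < n) (r' : R') :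
    ∃ r : R, algebraMap R R' r - r' ∈ Ideal.map (algebraMap R R') (I ^ n) := by
  obtain ⟨x, hx⟩ := (hq n hn).2 (Ideal.Quotient.mk _ r')
  obtain ⟨r, rfl⟩ := Ideal.Quotient.mk_surjective x
  rw [Ideal.quotientMap_mk] at hx
  exact ⟨r, Ideal.Quotient.eq.mp hx⟩

include hq in
theorem mem_of_map_mem (n : ℕ) (hn : 0 < n) (r : R)
    (h : algebraMap R R' r ∈ Ideal.map (algebraMap R R') (I ^ n)) : r ∈ I ^ n := by
  have h0 : Ideal.quotientMap (Ideal.map (algebraMap R R') (I ^ n)) (algebraMap R R')
      Ideal.le_comap_map (Ideal.Quotient.mk (I ^ n) r) = 0 := by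
    rw [Ideal.quotientMap_mk, Ideal.Quotient.eq_zero_iff_mem]; exact h
  have := (hq n hn).1 (h0.trans (map_zero _).symm)
  exact Ideal.Quotient.eq_zero_iff_mem.mp this

theorem tmul_eq_zero_of_mem_map (J : Ideal R) (m : M) (hm : ∀ a ∈ J, a • m = 0) (e : R')
    (he : e ∈ Ideal.map (algebraMap R R') J) : e ⊗ₜ[R] m = 0 := by
  unfold Ideal.map at he
  refine Submodule.span_induction ?_ ?_ ?_ ?_ he
  · rintro _ ⟨a, ha, rfl⟩
    rw [Algebra.algebraMap_eq_smul_one, TensorProduct.smul_tmul, hm a ha, tmul_zero]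
  · rw [zero_tmul]
  · intro x y _ _ hx hy
    rw [add_tmul, hx, hy, add_zero]
  · intro s x hx h
    rw [← TensorProduct.smul_tmul', h, smul_zero]


variable (hM : LocCoh.IsPowerTorsion I M)

/-- A positive exponent `n` such that `I ^ n` kills `m`. -/
noncomputable def expo (hM : LocCoh.IsPowerTorsion I M) (m : M) : ℕ := (hM m).choose + 1

theorem expo_pos (m : M) : 0 < expo I M hM m := Nat.succ_pos _

theorem expo_spec (m : M) : ∀ a ∈ I ^ expo I M hM m, a • m = 0 := fun a ha =>
  (hM m).choose_spec a (Ideal.pow_le_pow_right (Nat.le_succ _) ha)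

/-- The action of `R'` on a power torsion module. -/
noncomputable def act (r' : R') (m : M) : M :=
  (exists_lift I hq (expo I M hM m) (expo_pos I M hM m) r').choose • m

include hq in
theorem act_eq (r' : R') (m : M) (k : ℕ) (hk : 0 < k) (hkm : ∀ a ∈ I ^ k, a • m = 0) (r : R)
    (hr : algebraMap R R' r - r' ∈ Ideal.map (algebraMap R R') (I ^ k)) :
    act I hq M hM r' m = r • m := by
  unfold act
  set n := expo I M hM m with hn
  have hnpos : 0 < n := expo_pos I M hM m
  set r₀ := (exists_lift I hq n hnpos r').choose with hr₀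
  have hr₀' : algebraMap R R' r₀ - r' ∈ Ideal.map (algebraMap R R') (I ^ n) :=
    (exists_lift I hq n hnpos r').choose_spec
  have hnm : ∀ a ∈ I ^ n, a • m = 0 := expo_spec I M hM m
  -- j = min n k
  rcases le_total n k with hnk | hkn
  · have h1 : algebraMap R R' r - r' ∈ Ideal.map (algebraMap R R') (I ^ n) :=
      Ideal.map_mono (Ideal.pow_le_pow_right hnk) hr
    have h2 : algebraMap R R' (r₀ - r) ∈ Ideal.map (algebraMap R R') (I ^ n) := by
      have := Ideal.sub_mem _ hr₀' h1
      rw [map_sub]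
      convert this using 1
      ring
    have h3 := mem_of_map_mem I hq n hnpos _ h2
    have h4 := hnm _ h3
    rw [sub_smul, sub_eq_zero] at h4
    exact h4
  · have h1 : algebraMap R R' r₀ - r' ∈ Ideal.map (algebraMap R R') (I ^ k) :=
      Ideal.map_mono (Ideal.pow_le_pow_right hkn) hr₀'
    have h2 : algebraMap R R' (r₀ - r) ∈ Ideal.map (algebraMap R R') (I ^ k) := by
      have := Ideal.sub_mem _ h1 hr
      rw [map_sub]
      convert this using 1
      ring
    have h3 := mem_of_map_mem I hq k hk _ h2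
    have h4 := hkm _ h3
    rw [sub_smul, sub_eq_zero] at h4
    exact h4

include hq in
theorem act_add_left (r₁' r₂' : R') (m : M) :
    act I hq M hM (r₁' + r₂') m = act I hq M hM r₁' m + act I hq M hM r₂' m := by
  set k := expo I M hM m
  have hk : 0 < k := expo_pos I M hM m
  have hkm : ∀ a ∈ I ^ k, a • m = 0 := expo_spec I M hM m
  obtain ⟨r₁, h₁⟩ := exists_lift I hq k hk r₁'
  obtain ⟨r₂, h₂⟩ := exists_lift I hq k hk r₂'
  rw [act_eq I hq M hM r₁' m k hk hkm r₁ h₁, act_eq I hq M hM r₂' m k hk hkm r₂ h₂,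
    act_eq I hq M hM (r₁' + r₂') m k hk hkm (r₁ + r₂) ?_, add_smul]
  have := Ideal.add_mem _ h₁ h₂
  rw [map_add]
  convert this using 1
  ring

include hq in
theorem act_add_right (r' : R') (m₁ m₂ : M) :
    act I hq M hM r' (m₁ + m₂) = act I hq M hM r' m₁ + act I hq M hM r' m₂ := by
  set k := expo I M hM m₁ + expo I M hM m₂
  have hk : 0 < k := Nat.add_pos_left (expo_pos I M hM m₁) _
  have hkm₁ : ∀ a ∈ I ^ k, a • m₁ = 0 := fun a ha =>
    expo_spec I M hM m₁ a (Ideal.pow_le_pow_right (Nat.le_add_right _ _) ha)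
  have hkm₂ : ∀ a ∈ I ^ k, a • m₂ = 0 := fun a ha =>
    expo_spec I M hM m₂ a (Ideal.pow_le_pow_right (Nat.le_add_left _ _) ha)
  have hkm : ∀ a ∈ I ^ k, a • (m₁ + m₂) = 0 := fun a ha => by
    rw [smul_add, hkm₁ a ha, hkm₂ a ha, add_zero]
  obtain ⟨r, h⟩ := exists_lift I hq k hk r'
  rw [act_eq I hq M hM r' m₁ k hk hkm₁ r h, act_eq I hq M hM r' m₂ k hk hkm₂ r h,
    act_eq I hq M hM r' (m₁ + m₂) k hk hkm r h, smul_add]

include hq in
theorem act_smul (s : R) (r' : R') (m : M) :
    act I hq M hM (s • r') m = act I hq M hM r' (s • m) := by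
  set k := expo I M hM m
  have hk : 0 < k := expo_pos I M hM m
  have hkm : ∀ a ∈ I ^ k, a • m = 0 := expo_spec I M hM m
  have hkm' : ∀ a ∈ I ^ k, a • (s • m) = 0 := fun a ha => by
    rw [smul_comm, hkm a ha, smul_zero]
  obtain ⟨r, h⟩ := exists_lift I hq k hk r'
  rw [act_eq I hq M hM r' (s • m) k hk hkm' r h,
    act_eq I hq M hM (s • r') m k hk hkm (s * r) ?_, mul_smul, smul_comm]
  have := Ideal.mul_mem_left _ (algebraMap R R' s) h
  rw [map_mul, Algebra.smul_def]
  convert this using 1
  ring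

include hq in
theorem act_one (m : M) : act I hq M hM 1 m = m := by
  set k := expo I M hM m
  have hk : 0 < k := expo_pos I M hM m
  have hkm : ∀ a ∈ I ^ k, a • m = 0 := expo_spec I M hM m
  rw [act_eq I hq M hM 1 m k hk hkm 1 ?_, one_smul]
  rw [map_one, sub_self]
  exact Ideal.zero_mem _

/-- The retraction `R' ⊗ M → M`. -/
noncomputable def retr : R' ⊗[R] M →+ M :=
  TensorProduct.liftAddHom
    (AddMonoidHom.mk' (fun r' => AddMonoidHom.mk' (fun m => act I hq M hM r' m)
      (fun m₁ m₂ => act_add_right I hq M hM r' m₁ m₂))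
      (fun r₁' r₂' => by
        ext m
        exact act_add_left I hq M hM r₁' r₂' m))
    (fun s r' m => act_smul I hq M hM s r' m)

theorem retr_tmul (r' : R') (m : M) : retr I hq M hM (r' ⊗ₜ m) = act I hq M hM r' m := rfl

end

/-- Let R → R' be a homomorphism of commutative rings and I an ideal of R such that the induced map
R/I^n → R'/I^n R' is bijective for every n > 0. Then for every R-module M in which every element is
killed by a power of I, the map M → R' ⊗_R M sending m to 1 ⊗ m is bijective. -/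
theorem result {R R' : Type u} [CommRing R] [CommRing R'] [Algebra R R']
    (I : Ideal R)
    (hq : ∀ n : ℕ, 0 < n → Function.Bijective
      (Ideal.quotientMap (Ideal.map (algebraMap R R') (I ^ n)) (algebraMap R R') Ideal.le_comap_map))
    (M : Type u) [AddCommGroup M] [Module R M] (hM : LocCoh.IsPowerTorsion I M) :
    Function.Bijective (fun m : M => (1 : R') ⊗ₜ[R] m) := by
  constructor
  · intro m₁ m₂ h
    have h' := congrArg (retr I hq M hM) h
    simp only [retr_tmul] at h'
    rwa [act_one I hq M hM, act_one I hq M hM] at h'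
  · intro x
    induction x using TensorProduct.induction_on with
    | zero => exact ⟨0, tmul_zero _ _⟩
    | tmul r' m =>
      have hk : 0 < expo I M hM m := expo_pos I M hM m
      have hkm : ∀ a ∈ I ^ expo I M hM m, a • m = 0 := expo_spec I M hM m
      obtain ⟨r, h⟩ := exists_lift I hq _ hk r'
      refine ⟨r • m, ?_⟩
      have h0 := tmul_eq_zero_of_mem_map M (I ^ expo I M hM m) m hkm _ h
      rw [sub_tmul, sub_eq_zero] at h0
      show (1 : R') ⊗ₜ[R] (r • m) = r' ⊗ₜ[R] m
      rw [← h0, ← TensorProduct.smul_tmul, Algebra.algebraMap_eq_smul_one]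
    | add x y hx hy =>
      obtain ⟨a, ha⟩ := hx
      obtain ⟨b, hb⟩ := hy
      refine ⟨a + b, ?_⟩
      show (1 : R') ⊗ₜ[R] (a + b) = x + y
      rw [tmul_add]
      exact congrArg₂ _ ha hb

end Groth.Agent.S7041
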