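import Groth.Statements.S7042
-- import your own Groth.Agent.* helpers here
import Mathlib
import Groth.Agent.Lib.Helper36.DerivedComplete5

set_option autoImplicit false
universe u
attribute [local instance] HasDerivedCategory.standard
open DRing

namespace Groth.Agent.S7042

/-- Let I be a finitely generated ideal of a commutative ring A and let M be an A-module which, placed
in degree 0, is derived complete with respect to I, and in which every element is killed by a power
of I. Then a single power of I kills M. -/
theorem result {A : Type u} [CommRing A]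
    (I : Ideal A) (hI : I.FG) (M : Type u) [AddCommGroup M] [Module A M]
    (hc : DRing.IsDerivedComplete I (Dual.inD A M)) (ht : LocCoh.IsPowerTorsion I M) :
    ∃ n : ℕ, I ^ n • (⊤ : Submodule A M) = ⊥ := by
  open Groth.Agent.Lib.Helper36.DC in
  classical
  rw [isDerivedComplete_iff] at hc
  obtain ⟨s, rfl⟩ := hI
  have h1 : ∀ f ∈ s, ∃ n : ℕ, ∀ x : M, f ^ n • x = 0 := by
    intro f hf
    refine exists_pow_smul_eq_zero (hc f (Ideal.subset_span hf)) (fun x => ?_)
    obtain ⟨n, hn⟩ := ht x
    exact ⟨n, hn _ (Ideal.pow_mem_pow (Ideal.subset_span hf) n)⟩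
  choose! N hN using h1
  refine ⟨s.card * (s.sup N) + 1, ?_⟩
  rw [eq_bot_iff]
  intro z hz
  obtain ⟨c, rfl⟩ := exists_repr s (s.sup N) z hz
  rw [Submodule.mem_bot]
  refine Finset.sum_eq_zero fun f hf => ?_
  have hle : N f ≤ s.sup N := Finset.le_sup hf
  rw [← Nat.sub_add_cancel hle, pow_add, mul_smul, hN f hf, smul_zero]

end Groth.Agent.S7042
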