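import Groth.Statements.S7043
-- import your own Groth.Agent.* helpers here
import Mathlib
import Groth.Agent.Lib.Helper36.DerivedComplete

set_option autoImplicit false
universe u
attribute [local instance] HasDerivedCategory.standard
open DRing

namespace Groth.Agent.S7043

open Groth.Agent.Lib.Helper36.DC in
/-- Every element of `⋂ f^n M` is the sum of a power series `∑ f^n t_n` with `f^n t_n = 0`. -/
theorem exists_torsion_seq {A : Type u} [CommRing A] (f : A)
    (M : Type u) [AddCommGroup M] [Module A M] (h : SeqComplete f M)
    (x : M) (hx : ∀ n : ℕ, ∃ y : M, f ^ n • y = x) :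
    ∃ t : ℕ → M, (∀ n, f ^ n • t n = 0) ∧ h.sum t = x := by
  choose y hy using hx
  refine ⟨fun n => y n - f • y (n + 1), fun n => ?_, ?_⟩
  · rw [smul_sub, smul_smul, ← pow_succ, hy, hy, sub_self]
  · have := h.sum_eq (c := fun n => y n - f • y (n + 1)) (m := y) (fun i => by abel) 0
    simp only [zero_add] at this
    rw [← this, ← hy 0, pow_zero, one_smul]

/-- Let f be an element of a commutative ring A and let M be an A-module which, placed in degree 0, is
derived complete with respect to the ideal (f). Then the ideal J = ⋂ f^n A annihilates the submodule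
⋂ f^n M, which is the kernel of M → lim M/f^n M. (The case M = A says that J has square zero when A
itself is derived complete.) -/
theorem result {A : Type u} [CommRing A] (f : A)
    (M : Type u) [AddCommGroup M] [Module A M]
    (hc : DRing.IsDerivedComplete (Ideal.span {f}) (Dual.inD A M)) :
    (⨅ n : ℕ, Ideal.span {f ^ n}) • (⨅ n : ℕ, (Ideal.span {f ^ n}) • (⊤ : Submodule A M)) = (⊥ : Submodule A M) := by
  open Groth.Agent.Lib.Helper36.DC in
  rw [isDerivedComplete_iff] at hc
  have h := hc f (Ideal.subset_span rfl)
  rw [eq_bot_iff, Submodule.smul_le]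
  intro a ha x hx
  rw [Submodule.mem_bot]
  rw [Ideal.mem_iInf] at ha
  rw [Submodule.mem_iInf] at hx
  obtain ⟨t, ht, rfl⟩ := exists_torsion_seq f M h x (fun n => by
    have := hx n
    rw [Submodule.ideal_span_singleton_smul, Submodule.mem_smul_pointwise_iff_exists] at this
    obtain ⟨y, -, hy⟩ := this
    exact ⟨y, hy⟩)
  rw [← h.sum_smul]
  have : (fun i => a • t i) = fun _ => (0 : M) := by
    funext n
    obtain ⟨b, rfl⟩ := Ideal.mem_span_singleton'.mp (ha n)
    rw [mul_smul, ht, smul_zero]
  rw [this, h.sum_zero]

end Groth.Agent.S7043
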