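import Groth.Statements.S7046
-- import your own Groth.Agent.* helpers here
import Mathlib
import Groth.Agent.Lib.Helper36.DerivedComplete3

set_option autoImplicit false
universe u
attribute [local instance] HasDerivedCategory.standard
open DRing

namespace Groth.Agent.S7046

open Groth.Agent.Lib.Helper36.DC in
theorem isPrecomplete_of_seqComplete {A : Type u} [CommRing A] {M : Type u} [AddCommGroup M]
    [Module A M] (s : Finset A) (hM : ∀ f ∈ s, SeqComplete f M) :
    IsPrecomplete (Ideal.span (s : Set A)) M := by
  refine ⟨fun {x} hx => ?_⟩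
  obtain ⟨y, hy⟩ := exists_limit s hM x (fun {m n} hmn => by
    have := hx hmn
    rw [SModEq.sub_mem] at this
    rw [← neg_sub, neg_mem_iff]
    exact this)
  refine ⟨y, fun n => ?_⟩
  rw [SModEq.sub_mem, ← neg_sub, neg_mem_iff]
  exact hy n

/-- A reduced commutative ring A which, placed in degree 0 of D(A), is derived complete with respect to
a finitely generated ideal I is I-adically complete, i.e. separated and complete for the I-adic
topology. -/
theorem result {A : Type u} [CommRing A] [IsReduced A]
    (I : Ideal A) (hI : I.FG) (hc : DRing.IsDerivedComplete I (Dual.inD A A)) :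
    IsAdicComplete I A := by
  open Groth.Agent.Lib.Helper36.DC in
  rw [isDerivedComplete_iff] at hc
  obtain ⟨s, rfl⟩ := hI
  have hs : ∀ f ∈ s, SeqComplete f A := fun f hf => hc f (Ideal.subset_span hf)
  have hJ := iInf_pow_pow_eq_bot s.card A s le_rfl hs
  have hH : IsHausdorff (Ideal.span (s : Set A)) A := by
    refine ⟨fun x hx => ?_⟩
    have hxJ : x ∈ ⨅ n : ℕ, (Ideal.span (s : Set A)) ^ n := by
      rw [Ideal.mem_iInf]
      intro n
      have := hx n
      rw [SModEq.sub_mem, sub_zero, smul_eq_mul, Ideal.mul_top] at this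
      exact this
    have h2 : x ^ (2 ^ s.card) ∈ (⨅ n : ℕ, (Ideal.span (s : Set A)) ^ n) ^ (2 ^ s.card) :=
      Ideal.pow_mem_pow hxJ _
    rw [hJ, Ideal.mem_bot] at h2
    exact IsReduced.eq_zero x ⟨_, h2⟩
  have hP := isPrecomplete_of_seqComplete s hs
  exact { toIsHausdorff := hH, toIsPrecomplete := hP }

end Groth.Agent.S7046
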