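import Groth.Statements.S7047
-- import your own Groth.Agent.* helpers here
import Mathlib
import Groth.Agent.Lib.Helper36.DerivedComplete8

set_option autoImplicit false
universe u
attribute [local instance] HasDerivedCategory.standard
open DRing

namespace Groth.Agent.S7047

open Groth.Agent.Lib.Helper36.DC in
/-- The ideal of elements `f` such that `M` is `f`-sequentially complete. -/
def seqIdeal {A : Type u} [CommRing A] (P : A → Prop)
    (h0 : P 0) (hadd : ∀ f g, P f → P g → P (f + g)) (hmul : ∀ a f, P f → P (a * f)) : Ideal A where
  carrier := {f | P f}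
  add_mem' := fun {f g} hf hg => hadd f g hf hg
  zero_mem' := h0
  smul_mem' := fun a f hf => hmul a f hf

/-- For a commutative ring A and an object K of D(A), the set of elements f of A such that every
morphism from A_f (placed in degree 0) to any shift K[n] vanishes is a radical ideal of A. -/
theorem result {A : Type u} [CommRing A] (K : Dual.D A) :
    ∃ J : Ideal A, J.IsRadical ∧
      (J : Set A) = {f : A | ∀ n : ℤ, Subsingleton (Dual.inD A (Localization.Away f) ⟶ K⟦n⟧)} := by
  open Groth.Agent.Lib.Helper36.DC in
  classical
  have key : ∀ f : A, (∀ n : ℤ, Subsingleton (Dual.inD A (Localization.Away f) ⟶ K⟦n⟧)) ↔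
      ∀ i : ℤ, SeqComplete f (Dual.HD A K i) := fun f => forall_subsingleton_hom_iff f K
  refine ⟨seqIdeal (fun f => ∀ i : ℤ, SeqComplete f (Dual.HD A K i)) ?_ ?_ ?_, ?_, ?_⟩
  · intro i
    exact seqComplete_of_mem_span (∅ : Finset A) (fun f hf => absurd hf (Finset.notMem_empty f))
      (Ideal.zero_mem _)
  · intro f g hf hg i
    refine seqComplete_of_mem_span ({f, g} : Finset A) (fun x hx => ?_)
      (Ideal.add_mem _ (Ideal.subset_span (by simp)) (Ideal.subset_span (by simp)))
    rcases Finset.mem_insert.mp hx with rfl | hx
    · exact hf i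
    · rw [Finset.mem_singleton.mp hx]
      exact hg i
  · intro a f hf i
    refine seqComplete_of_mem_span ({f} : Finset A) (fun x hx => ?_)
      (Ideal.mul_mem_left _ a (Ideal.subset_span (by simp)))
    rw [Finset.mem_singleton.mp hx]
    exact hf i
  · intro f hf
    obtain ⟨n, hn⟩ := hf
    intro i
    exact seqComplete_of_pow (hn i)
  · ext f
    exact (key f).symm

end Groth.Agent.S7047
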