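import Groth.Statements.S7048
-- import your own Groth.Agent.* helpers here
import Mathlib

set_option autoImplicit false
universe u
attribute [local instance] HasDerivedCategory.standard
open DRing

namespace Groth.Agent.S7048

open CategoryTheory Abelian Polynomial


section alg
variable {A : Type u} [CommRing A] (f : A)

/-- multiplication by `1 - f X` on `A[X]`. -/
noncomputable def dMap : A[X] →ₗ[A] A[X] := LinearMap.mulLeft A (1 - C f * X)

/-- evaluation at `1/f`. -/
noncomputable def evMap : A[X] →ₗ[A] Localization.Away f :=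
  (Polynomial.aeval (IsLocalization.Away.invSelf (S := Localization.Away f) f)).toLinearMap

lemma dMap_apply (p : A[X]) : dMap f p = (1 - C f * X) * p := rfl

lemma evMap_apply (p : A[X]) :
    evMap f p = Polynomial.aeval (IsLocalization.Away.invSelf (S := Localization.Away f) f) p := rfl

lemma dMap_injective : Function.Injective (dMap f) := by
  rw [← LinearMap.ker_eq_bot, LinearMap.ker_eq_bot']
  intro p hp
  rw [dMap_apply] at hp
  have h1 : ((1 - C f * X : A[X]) : PowerSeries A) * (p : PowerSeries A) = 0 := by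
    rw [← Polynomial.coe_mul, hp, Polynomial.coe_zero]
  have hu : IsUnit ((1 - C f * X : A[X]) : PowerSeries A) := by
    rw [PowerSeries.isUnit_iff_constantCoeff]
    simp
  have := hu.mul_right_eq_zero.mp h1
  exact_mod_cast this

lemma evMap_surjective : Function.Surjective (evMap f) := by
  intro y
  obtain ⟨n, a, h⟩ := IsLocalization.Away.surj (S := Localization.Away f) f y
  refine ⟨C a * X ^ n, ?_⟩
  rw [evMap_apply]
  simp only [map_mul, aeval_C, map_pow, aeval_X]
  rw [← h, mul_assoc, ← mul_pow, IsLocalization.Away.mul_invSelf, one_pow, mul_one]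

lemma evMap_dMap (p : A[X]) : evMap f (dMap f p) = 0 := by
  rw [dMap_apply, evMap_apply]
  simp [IsLocalization.Away.mul_invSelf]

lemma exists_of_evMap_eq_zero (p : A[X]) (hp : evMap f p = 0) : ∃ q, dMap f q = p := by
  have h1 : AdjoinRoot.mk (C f * X - 1) p = 0 := by
    apply (Localization.awayEquivAdjoin f).symm.injective
    rw [map_zero, ← hp, evMap_apply, ← AdjoinRoot.aeval_eq]
    have h2 : (Localization.awayEquivAdjoin f).symm (AdjoinRoot.root (C f * X - 1)) =
        IsLocalization.Away.invSelf (S := Localization.Away f) f :=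
      AdjoinRoot.liftAlgHom_root (C f * X - 1) (Algebra.ofId A (Localization.Away f)) _
        (show aeval _ _ = _ by simp)
    rw [← h2]
    exact (Polynomial.aeval_algHom_apply
      ((Localization.awayEquivAdjoin f).symm : AdjoinRoot (C f * X - 1) →ₐ[A] Localization.Away f)
      (AdjoinRoot.root (C f * X - 1)) p).symm
  rw [AdjoinRoot.mk_eq_zero] at h1
  obtain ⟨q, rfl⟩ := h1
  exact ⟨-q, by rw [dMap_apply]; ring⟩

end alg


section ext
variable {A : Type u} [CommRing A] (I : Ideal A) {M : Type u} [AddCommGroup M] [Module A M]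

lemma hom_away_eq_zero [IsHausdorff I M] (f : A) (hf : f ∈ I)
    (φ : Localization.Away f →ₗ[A] M) : φ = 0 := by
  ext y
  apply IsHausdorff.haus' (I := I)
  intro k
  rw [SModEq.sub_mem, sub_zero]
  have : y = f ^ k • (y * IsLocalization.Away.invSelf (S := Localization.Away f) f ^ k) := by
    rw [Algebra.smul_def, map_pow, mul_comm y, ← mul_assoc, ← mul_pow,
      IsLocalization.Away.mul_invSelf, one_pow, one_mul]
  rw [this, map_smul]
  exact Submodule.smul_mem_smul (Ideal.pow_mem_pow hf k) trivial

lemma exists_extension [IsAdicComplete I M] (f : A) (hf : f ∈ I) (φ : A[X] →ₗ[A] M) :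
    ∃ ψ : A[X] →ₗ[A] M, ψ ∘ₗ dMap f = φ := by
  set c : ℕ → M := fun i => φ (X ^ i) with hc
  set s : ℕ → ℕ → M := fun i k => ∑ j ∈ Finset.range k, f ^ j • c (i + j) with hs
  have hs_succ : ∀ i k, s i (k+1) = c i + f • s (i+1) k := by
    intro i k
    simp only [hs]
    rw [Finset.sum_range_succ', Finset.smul_sum, add_comm]
    congr 1
    · simp
    · apply Finset.sum_congr rfl
      intro j _
      rw [smul_smul, pow_succ', add_assoc, add_comm 1 j]
  have hcauchy : ∀ i, ∀ {m n}, m ≤ n → s i m ≡ s i n [SMOD (I ^ m • ⊤ : Submodule A M)] := by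
    intro i m n hmn
    rw [SModEq.sub_mem, ← neg_sub, neg_mem_iff]
    simp only [hs]
    rw [← Finset.sum_Ico_eq_sub _ hmn]
    apply Submodule.sum_mem
    intro j hj
    rw [Finset.mem_Ico] at hj
    exact Submodule.smul_mem_smul (Ideal.pow_le_pow_right hj.1 (Ideal.pow_mem_pow hf j)) trivial
  choose m hm using fun i => IsPrecomplete.prec (I := I) ‹IsAdicComplete I M›.toIsPrecomplete
    (fun {a b} h => hcauchy i h)
  refine ⟨(Polynomial.basisMonomials A).constr A m, ?_⟩
  apply Polynomial.lhom_ext'
  intro i
  ext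
  simp only [LinearMap.coe_comp, Function.comp_apply]
  have e1 : dMap f (monomial i (1:A)) = monomial i (1:A) - f • monomial (i+1) (1:A) := by
    rw [dMap_apply, sub_mul, one_mul, mul_assoc, X_mul_monomial, ← smul_eq_C_mul]
  have e2 : ∀ j, (Polynomial.basisMonomials A).constr A m (monomial j (1:A)) = m j := by
    intro j
    have := (Polynomial.basisMonomials A).constr_basis A m j
    rwa [Polynomial.coe_basisMonomials] at this
  rw [e1, map_sub, map_smul, e2, e2]
  have e3 : φ (monomial i (1:A)) = c i := by
    simp only [hc, X_pow_eq_monomial]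
  rw [e3, ← sub_eq_zero]
  apply IsHausdorff.haus' (I := I)
  intro k
  rw [SModEq.sub_mem, sub_zero]
  have h1 : s i (k+1) - m i ∈ (I ^ k • ⊤ : Submodule A M) := by
    have := hm i (k+1)
    rw [SModEq.sub_mem] at this
    exact Submodule.smul_mono_left (Ideal.pow_le_pow_right (Nat.le_succ k)) this
  have h2 : s (i+1) k - m (i+1) ∈ (I ^ k • ⊤ : Submodule A M) := by
    have := hm (i+1) k
    rwa [SModEq.sub_mem] at this
  have h3 : m i - f • m (i + 1) - c i = f • (s (i+1) k - m (i+1)) - (s i (k+1) - m i) := by
    rw [hs_succ, smul_sub]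
    abel
  rw [h3]
  exact sub_mem (Submodule.smul_mem _ _ h2) h1

end ext


section cat
variable {A : Type u} [CommRing A]

/-- Dimension shifting. -/
theorem ext_subsingleton_of_shortExact {S : ShortComplex (ModuleCat.{u} A)} (hS : S.ShortExact)
    (Y : ModuleCat.{u} A)
    (n₀ n₁ : ℕ) (h : 1 + n₀ = n₁) (h1 : Subsingleton (Ext S.X₁ Y n₀))
    (h2 : ∀ x : Ext S.X₂ Y n₁, x = 0) : Subsingleton (Ext S.X₃ Y n₁) := by
  refine subsingleton_of_forall_eq 0 fun x₃ => ?_
  obtain ⟨x₁, rfl⟩ := Ext.contravariant_sequence_exact₃ hS Y x₃ (h2 _) h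
  rw [Subsingleton.elim x₁ 0, Ext.comp_zero]

theorem ext_one_subsingleton_of_extension {S : ShortComplex (ModuleCat.{u} A)} (hS : S.ShortExact)
    (Y : ModuleCat.{u} A)
    (hext : ∀ φ : S.X₁ ⟶ Y, ∃ ψ : S.X₂ ⟶ Y, S.f ≫ ψ = φ)
    (h2 : ∀ x : Ext S.X₂ Y 1, x = 0) : Subsingleton (Ext S.X₃ Y 1) := by
  refine subsingleton_of_forall_eq 0 fun x₃ => ?_
  obtain ⟨x₁, rfl⟩ := Ext.contravariant_sequence_exact₃ hS Y x₃ (h2 _) (rfl : 1 + 0 = 1)
  obtain ⟨φ, rfl⟩ := (Ext.mk₀_bijective _ _).2 x₁
  obtain ⟨ψ, rfl⟩ := hext φ
  rw [← Ext.mk₀_comp_mk₀]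
  exact hS.extClass_comp_assoc (Ext.mk₀ ψ)

/-- The short complex `0 → A[X] → A[X] → A_f → 0`. -/
noncomputable def sc (f : A) : ShortComplex (ModuleCat.{u} A) :=
  ModuleCat.shortComplexOfCompEqZero (dMap f) (evMap f) (by ext p; simp [evMap_dMap])

lemma sc_shortExact (f : A) : (sc f).ShortExact := by
  apply ModuleCat.shortComplex_shortExact
  · intro p
    constructor
    · intro hp
      exact exists_of_evMap_eq_zero f p hp
    · rintro ⟨q, rfl⟩
      exact evMap_dMap f q
  · exact dMap_injective f
  · exact evMap_surjective f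

instance (f : A) : Projective (sc f).X₂ := by
  have : Module.Projective A A[X] := inferInstance
  exact (IsProjective.iff_projective (R := A) (P := A[X])).mp this |> fun h => h

instance (f : A) : Projective (sc f).X₁ := by
  have : Module.Projective A A[X] := inferInstance
  exact (IsProjective.iff_projective (R := A) (P := A[X])).mp this |> fun h => h

end cat

/-- For a commutative ring A, an ideal I and an A-module M which is I-adically complete, the object M[0]
of D(A) is derived complete with respect to I. -/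
theorem result {A : Type u} [CommRing A] (I : Ideal A)
    (M : Type u) [AddCommGroup M] [Module A M] [IsAdicComplete I M] :
    DRing.IsDerivedComplete I (Dual.inD A M) := by
  intro f hf n
  obtain hn | hn := lt_or_ge n 0
  · refine subsingleton_of_forall_eq 0 fun φ => ?_
    have h1 : DerivedCategory.TStructure.t.IsLE (Dual.inD A (Localization.Away f)) 0 := by
      dsimp only [Dual.inD]; infer_instance
    have h2 : DerivedCategory.TStructure.t.IsGE (Dual.inD A M) 0 := by
      dsimp only [Dual.inD]; infer_instance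
    have h3 : DerivedCategory.TStructure.t.IsGE ((Dual.inD A M)⟦n⟧) (-n) :=
      DerivedCategory.TStructure.t.isGE_shift _ 0 n (-n) (by omega)
    exact DerivedCategory.TStructure.t.zero_of_isLE_of_isGE φ 0 (-n) (by omega) h1 h3
  · obtain ⟨k, rfl⟩ := Int.eq_ofNat_of_zero_le hn
    have hS := sc_shortExact f
    suffices h : Subsingleton (Ext (ModuleCat.of A (Localization.Away f)) (ModuleCat.of A M) k) from
      (Ext.homEquiv (X := ModuleCat.of A (Localization.Away f))
        (Y := ModuleCat.of A M) (n := k)).symm.subsingleton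
    obtain _ | _ | k := k
    · refine subsingleton_of_forall_eq 0 fun x => ?_
      obtain ⟨φ, rfl⟩ := (Ext.mk₀_bijective _ _).2 x
      have : φ = 0 := by
        ext y
        have := hom_away_eq_zero I f hf φ.hom
        exact congrArg (fun g => g y) this
      rw [this, Ext.mk₀_zero]
    · refine ext_one_subsingleton_of_extension hS (ModuleCat.of A M) (fun φ => ?_)
        (fun x => Ext.eq_zero_of_projective x)
      obtain ⟨ψ, hψ⟩ := exists_extension I f hf φ.hom
      refine ⟨ModuleCat.ofHom ψ, ?_⟩
      ext x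
      exact congrArg (fun g => g x) hψ
    · refine ext_subsingleton_of_shortExact hS (ModuleCat.of A M) (k+1) (k+1+1) (by omega)
        ⟨fun x y => ?_⟩ (fun x => Ext.eq_zero_of_projective x)
      rw [Ext.eq_zero_of_projective x, Ext.eq_zero_of_projective y]

end Groth.Agent.S7048
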