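import Groth.Statements.S7052
-- import your own Groth.Agent.* helpers here
import Mathlib

set_option autoImplicit false
universe u
attribute [local instance] HasDerivedCategory.standard
open DRing

namespace Groth.Agent.S7052

/-- For a commutative ring A, an ideal I, an A-module M and a submodule M₁ such that both M₁ and M/M₁
(placed in degree 0) are derived complete with respect to I, the module M is derived complete with
respect to I. -/
theorem result {A : Type u} [CommRing A] (I : Ideal A)
    (M : Type u) [AddCommGroup M] [Module A M] (M₁ : Submodule A M)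
    (h1 : DRing.IsDerivedComplete I (Dual.inD A M₁)) (h3 : DRing.IsDerivedComplete I (Dual.inD A (M ⧸ M₁))) :
    DRing.IsDerivedComplete I (Dual.inD A M) := by
  classical
  intro f hf n
  let S : CategoryTheory.ShortComplex (ModuleCat.{u} A) :=
    CategoryTheory.ShortComplex.mk (ModuleCat.ofHom M₁.subtype) (ModuleCat.ofHom M₁.mkQ) (by
      ext x
      simp)
  have hS : S.ShortExact :=
    ModuleCat.shortComplex_shortExact S (LinearMap.exact_subtype_mkQ M₁)
      M₁.injective_subtype M₁.mkQ_surjective
  have hT := hS.singleTriangle_distinguished
  have hTn := CategoryTheory.Pretriangulated.Triangle.shift_distinguished _ hT n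
  have hzero : ∀ a : Dual.inD A (Localization.Away f) ⟶ (CategoryTheory.shiftFunctor (Dual.D A) n).obj
      (Dual.inD A M), a = 0 := by
    intro a
    have h3' := h3 f hf n
    have h1' := h1 f hf n
    obtain ⟨g, hg⟩ := CategoryTheory.Pretriangulated.Triangle.coyoneda_exact₂ _ hTn a (h3'.elim _ _)
    have hg0 : g = 0 := h1'.elim g 0
    rw [hg, hg0]
    exact CategoryTheory.Limits.zero_comp
  exact ⟨fun a b => (hzero a).trans (hzero b).symm⟩

end Groth.Agent.S7052
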