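import Groth.Statements.S7053
-- import your own Groth.Agent.* helpers here
import Mathlib
import Groth.Agent.Lib.Helper36.DerivedComplete

set_option autoImplicit false
universe u
attribute [local instance] HasDerivedCategory.standard
open DRing

namespace Groth.Agent.S7053

open Groth.Agent.Lib.Helper36.DC in
/-- Principal case of derived Nakayama: if `M = f M` and `M` is `f`-sequentially complete then
`M = 0`. -/
theorem subsingleton_of_surjective_smul {A : Type u} [CommRing A] (f : A)
    (M : Type u) [AddCommGroup M] [Module A M] (h : SeqComplete f M)
    (hs : Function.Surjective (fun x : M => f • x)) : Subsingleton M := by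
  obtain ⟨g, hg⟩ := hs.hasRightInverse
  refine subsingleton_of_forall_eq 0 fun x => ?_
  have := h.1 (fun i => g^[i] x) (fun i => by
    show g^[i] x = f • g^[i+1] x
    rw [Function.iterate_succ_apply']
    exact (hg _).symm) 0
  simpa using this

open Groth.Agent.Lib.Helper36.DC in
theorem nakayama_aux {A : Type u} [CommRing A] (s : Finset A) :
    ∀ (M : Type u) [AddCommGroup M] [Module A M], (∀ f ∈ s, SeqComplete f M) →
      Ideal.span (s : Set A) • (⊤ : Submodule A M) = ⊤ → Subsingleton M := by
  classical
  induction s using Finset.induction_on with
  | empty =>
    intro M _ _ _ h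
    rw [Finset.coe_empty, Ideal.span_empty, Submodule.bot_smul] at h
    exact (Submodule.subsingleton_iff A).mp (subsingleton_of_bot_eq_top h)
  | insert f s hfs ih =>
    intro M _ _ hM h
    set u : M →ₗ[A] M := LinearMap.lsmul A M f with hu
    have hQ : Subsingleton (M ⧸ LinearMap.range u) := by
      apply ih
      · intro g hg
        exact (hM g (Finset.mem_insert_of_mem hg)).quotient_range
          (hM g (Finset.mem_insert_of_mem hg)) u
      · have h1 : (⊤ : Submodule A (M ⧸ LinearMap.range u)) =
            Submodule.map (LinearMap.range u).mkQ ⊤ := by
          rw [Submodule.map_top, Submodule.range_mkQ]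
        have h2 : Submodule.map (LinearMap.range u).mkQ (Ideal.span {f} • (⊤ : Submodule A M)) = ⊥ := by
          rw [eq_bot_iff, Submodule.map_le_iff_le_comap, Submodule.comap_bot, Submodule.ker_mkQ,
            Submodule.ideal_span_singleton_smul]
          rintro x ⟨y, -, rfl⟩
          exact ⟨y, rfl⟩
        rw [h1, ← Submodule.map_smul'']
        conv_rhs => rw [← h, Finset.coe_insert, Ideal.span_insert,
          Submodule.sup_smul, Submodule.map_sup, h2, bot_sup_eq]
    have hsurj : Function.Surjective (fun x : M => f • x) := by
      intro x
      have : x ∈ LinearMap.range u := by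
        rw [← Submodule.Quotient.mk_eq_zero]
        exact Subsingleton.elim _ _
      exact this
    exact subsingleton_of_surjective_smul f M (hM f (Finset.mem_insert_self f s)) hsurj

/-- For a commutative ring A, a finitely generated ideal I and an A-module M which, placed in degree 0
of D(A), is derived complete with respect to I, if IM = M then M = 0. -/
theorem result {A : Type u} [CommRing A] (I : Ideal A) (hI : I.FG)
    (M : Type u) [AddCommGroup M] [Module A M] (hc : DRing.IsDerivedComplete I (Dual.inD A M))
    (h : I • (⊤ : Submodule A M) = ⊤) : Subsingleton M := by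
  open Groth.Agent.Lib.Helper36.DC in
  rw [isDerivedComplete_iff] at hc
  obtain ⟨s, rfl⟩ := hI
  exact nakayama_aux s M (fun f hf => hc f (Ideal.subset_span hf)) h

end Groth.Agent.S7053
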