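import Groth.Statements.S7054
-- import your own Groth.Agent.* helpers here
import Mathlib
import Groth.Agent.Lib.Helper36.DerivedComplete7

set_option autoImplicit false
universe u
attribute [local instance] HasDerivedCategory.standard
open DRing

namespace Groth.Agent.S7054

/-- For a commutative ring A and an ideal I such that A, placed in degree 0, is derived complete with
respect to I, every object of D(A) isomorphic to a bounded above complex of finite free A-modules is
derived complete with respect to I. -/
theorem result {A : Type u} [CommRing A] (I : Ideal A)
    (hA : DRing.IsDerivedComplete I (Dual.inD A A)) (K : Dual.D A) (hK : DRing.IsPseudoCoherent' A K) :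
    DRing.IsDerivedComplete I K := by
  open Groth.Agent.Lib.Helper36.DC in
  rw [isDerivedComplete_iff] at hA
  obtain ⟨E, b, -, hE, ⟨e⟩⟩ := hK
  intro f hf
  refine (forall_subsingleton_hom_iff f K).mpr (fun i => ?_)
  have h1 : SeqComplete f (Dual.HD A (DRing.toD E) i) := by
    apply seqComplete_HD_toD
    intro j
    have := (hE j).1
    have := (hE j).2
    exact seqComplete_of_finite_free (hA f hf) (E.X j)
  exact h1.of_linearEquiv
    ((DerivedCategory.homologyFunctor (ModuleCat.{u} A) i).mapIso e).toLinearEquiv

end Groth.Agent.S7054
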