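import Groth.Statements.S7055
-- import your own Groth.Agent.* helpers here
import Mathlib
import Groth.Agent.Lib.Helper36.Nakayama.Base

set_option autoImplicit false
universe u
attribute [local instance] HasDerivedCategory.standard
open CategoryTheory
open DRing

namespace Groth.Agent.S7055

/-- For a commutative ring A, a finitely generated ideal I and an object K of D(A) which is derived
complete with respect to I, if K ⊗^L_A A/I vanishes then K vanishes. The derived tensor product with
the module A/I is the total left derived functor, assumed to exist. -/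
theorem result {A : Type u} [CommRing A] (I : Ideal A) (hI : I.FG)
    [DRing.HasLTensor A (ModuleCat.of A (A ⧸ I))]
    (K : Dual.D A) (hc : DRing.IsDerivedComplete I K)
    (h0 : Limits.IsZero ((DRing.LTensor A (ModuleCat.of A (A ⧸ I))).obj K)) : Limits.IsZero K := by
  classical
  obtain ⟨s, hs⟩ := hI
  let l : List A := s.toList
  have hl : ∀ f ∈ l, f ∈ I := fun f hf => by
    rw [← hs]
    exact Ideal.subset_span (Finset.mem_coe.2 (Finset.mem_toList.1 hf))
  obtain ⟨P, p, hp, hP, hproj⟩ :=
    Groth.Agent.Lib.Helper36.KP.exists_resolution (DerivedCategory.Q.objPreimage K)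
  have hiso : IsIso (DerivedCategory.Q.map p) :=
    (DerivedCategory.isIso_Q_map_iff_quasiIso _ p).2 hp
  let eP : DerivedCategory.Q.obj P ≅ K :=
    asIso (DerivedCategory.Q.map p) ≪≫ DerivedCategory.Q.objObjPreimageIso K
  have hflat : ∀ n, Module.Flat A (P.X n) := fun n => by
    have := hproj n
    infer_instance
  have h0' : Limits.IsZero (DerivedCategory.Q.obj
      ((Groth.Agent.Lib.Helper36.DNak.G (ModuleCat.of A (A ⧸ I))).obj P) : Dual.D A) :=
    h0.of_iso ((Groth.Agent.Lib.Helper36.LT.lTensorObjIso _ P).symm ≪≫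
      (DRing.LTensor A (ModuleCat.of A (A ⧸ I))).mapIso eP)
  have hflat' := Groth.Agent.Lib.Helper36.DNak.flat_kos l P hflat
  have hbase : ∀ M : ModuleCat.{u} A, Groth.Agent.Lib.Helper36.DNak.Kills l M →
      Limits.IsZero (DerivedCategory.Q.obj ((Groth.Agent.Lib.Helper36.DNak.G M).obj
        (Groth.Agent.Lib.Helper36.DNak.kos l P)) : Dual.D A) := by
    intro M hM
    apply Groth.Agent.Lib.Helper36.DNak.isZero_F_kos
      (fun Y => (DerivedCategory.Q.obj ((Groth.Agent.Lib.Helper36.DNak.G M).obj Y) : Dual.D A))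
      (Groth.Agent.Lib.Helper36.DNak.exists_distTriang_G_cone M) l P
    apply Groth.Agent.Lib.Helper36.DNak.isZero_Q_G_of_kills I P h0' M
    intro a ha m
    rw [← hs] at ha
    induction ha using Submodule.span_induction with
    | mem x hx => exact hM x (Finset.mem_toList.2 (Finset.mem_coe.1 hx)) m
    | zero => exact zero_smul _ _
    | add x y _ _ hx hy => rw [add_smul, hx, hy, add_zero]
    | smul a x _ hx => rw [smul_eq_mul, mul_smul, hx, smul_zero]
  have hnil : ∀ g ∈ l, ∀ M : ModuleCat.{u} A, ∃ N : ℕ,
      (g ^ N) • 𝟙 (DerivedCategory.Q.obj ((Groth.Agent.Lib.Helper36.DNak.G M).obj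
        (Groth.Agent.Lib.Helper36.DNak.kos l P)) : Dual.D A) = 0 := fun g hg M =>
    Groth.Agent.Lib.Helper36.DNak.exists_pow_smul_F_kos
      (fun Y => (DerivedCategory.Q.obj ((Groth.Agent.Lib.Helper36.DNak.G M).obj Y) : Dual.D A))
      (Groth.Agent.Lib.Helper36.DNak.exists_distTriang_G_cone M) l P g hg
  have h1 := Groth.Agent.Lib.Helper36.DNak.peel (Groth.Agent.Lib.Helper36.DNak.kos l P) hflat' l []
    hnil (by simpa using hbase) (MonoidalCategoryStruct.tensorUnit (ModuleCat.{u} A)) (by
      intro f hf
      exact absurd hf List.not_mem_nil)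
  have h2 : Limits.IsZero (DerivedCategory.Q.obj (Groth.Agent.Lib.Helper36.DNak.kos l P) :
      Dual.D A) :=
    h1.of_iso (DerivedCategory.Q.mapIso
      (Groth.Agent.Lib.Helper36.LT.tensorCxUnitIso (Groth.Agent.Lib.Helper36.DNak.kos l P))).symm
  have hc' : DRing.IsDerivedComplete I (DerivedCategory.Q.obj P : Dual.D A) := by
    intro f hf n
    have := hc f hf n
    refine ⟨fun a b => ?_⟩
    have h := Subsingleton.elim (a ≫ (CategoryTheory.shiftFunctor (Dual.D A) n).map eP.hom)
      (b ≫ (CategoryTheory.shiftFunctor (Dual.D A) n).map eP.hom)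
    exact (cancel_mono _).1 h
  exact (Groth.Agent.Lib.Helper36.DNak.isZero_of_isZero_kos I l hl P hc' h2).of_iso eP.symm

end Groth.Agent.S7055
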