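import Groth.Statements.S7056
-- import your own Groth.Agent.* helpers here
import Mathlib
import Groth.Agent.Lib.Helper36.Nakayama.AmpDevissage

set_option autoImplicit false
universe u
attribute [local instance] HasDerivedCategory.standard
open CategoryTheory
open DRing

namespace Groth.Agent.S7056

/-- (1)⇔(2): for a commutative ring A, a finitely generated ideal I and an object K of D(A) which is
derived complete with respect to I, the cohomology of K vanishes in all positive degrees if and only
if the cohomology of K ⊗^L_A A/I does. The derived tensor product with the module A/I is the total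
left derived functor, assumed to exist. -/
theorem result {A : Type u} [CommRing A]
    (I : Ideal A) (hI : I.FG) [DRing.HasLTensor A (ModuleCat.of A (A ⧸ I))]
    (K : Dual.D A) (hc : DRing.IsDerivedComplete I K) :
    (∀ i : ℤ, 0 < i → Subsingleton (Dual.HD A K i)) ↔
      ∀ i : ℤ, 0 < i → Subsingleton (Dual.HD A ((DRing.LTensor A (ModuleCat.of A (A ⧸ I))).obj K) i) := by
  constructor
  · intro h
    exact Groth.Agent.Lib.Helper36.DNak.subsingleton_HD_lTensor_of_le _ K h
  · intro h
    classical
    obtain ⟨s, hs⟩ := hI
    let l : List A := s.toList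
    have hl : ∀ f ∈ l, f ∈ I := fun f hf => by
      rw [← hs]
      exact Ideal.subset_span (Finset.mem_coe.2 (Finset.mem_toList.1 hf))
    obtain ⟨P, p, hp, hP, hproj⟩ :=
      Groth.Agent.Lib.Helper36.KP.exists_resolution (DerivedCategory.Q.objPreimage K)
    have hiso : IsIso (DerivedCategory.Q.map p) :=
      (DerivedCategory.isIso_Q_map_iff_quasiIso _ p).2 hp
    let eP : DerivedCategory.Q.obj P ≅ K :=
      asIso (DerivedCategory.Q.map p) ≪≫ DerivedCategory.Q.objObjPreimageIso K
    have hflat : ∀ n, Module.Flat A (P.X n) := fun n => by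
      have := hproj n
      infer_instance
    have h0' : ∀ i : ℤ, 0 < i →
        ((Groth.Agent.Lib.Helper36.DNak.G (ModuleCat.of A (A ⧸ I))).obj P).ExactAt i := by
      intro i hi
      exact Groth.Agent.Lib.Helper36.LT.exactAt_tensorCx_of_subsingleton
        (ModuleCat.of A (A ⧸ I)) P eP i (h i hi)
    have hflat' := Groth.Agent.Lib.Helper36.DNak.flat_kos l P hflat
    have hbase : ∀ M : ModuleCat.{u} A, Groth.Agent.Lib.Helper36.DNak.Kills l M →
        ∀ i : ℤ, 0 < i → Limits.IsZero ((Groth.Agent.Lib.Helper12.HF A i).obj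
          (DerivedCategory.Q.obj ((Groth.Agent.Lib.Helper36.DNak.G M).obj
            (Groth.Agent.Lib.Helper36.DNak.kos l P)) : Dual.D A)) := by
      intro M hM
      apply Groth.Agent.Lib.Helper36.DNak.isZero_HF_F_kos
        (fun Y => (DerivedCategory.Q.obj ((Groth.Agent.Lib.Helper36.DNak.G M).obj Y) : Dual.D A))
        (Groth.Agent.Lib.Helper36.DNak.exists_distTriang_G_cone M) l P
      intro i hi
      have hex := Groth.Agent.Lib.Helper36.DNak.exactAt_G_of_kills I P h0' M (by
        intro a ha m
        rw [← hs] at ha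
        induction ha using Submodule.span_induction with
        | mem x hx => exact hM x (Finset.mem_toList.2 (Finset.mem_coe.1 hx)) m
        | zero => exact zero_smul _ _
        | add x y _ _ hx hy => rw [add_smul, hx, hy, add_zero]
        | smul a x _ hx => rw [smul_eq_mul, mul_smul, hx, smul_zero]) i hi
      rw [HomologicalComplex.exactAt_iff_isZero_homology] at hex
      exact hex.of_iso (Groth.Agent.Lib.Helper12.HFQIso i _)
    have hnil : ∀ g ∈ l, ∀ M : ModuleCat.{u} A, ∃ N : ℕ,
        (g ^ N) • 𝟙 (DerivedCategory.Q.obj ((Groth.Agent.Lib.Helper36.DNak.G M).obj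
          (Groth.Agent.Lib.Helper36.DNak.kos l P)) : Dual.D A) = 0 := fun g hg M =>
      Groth.Agent.Lib.Helper36.DNak.exists_pow_smul_F_kos
        (fun Y => (DerivedCategory.Q.obj ((Groth.Agent.Lib.Helper36.DNak.G M).obj Y) : Dual.D A))
        (Groth.Agent.Lib.Helper36.DNak.exists_distTriang_G_cone M) l P g hg
    have h1 := Groth.Agent.Lib.Helper36.DNak.peel' (Groth.Agent.Lib.Helper36.DNak.kos l P)
      hflat' l [] hnil (by simpa using hbase)
      (MonoidalCategoryStruct.tensorUnit (ModuleCat.{u} A)) (by
        intro f hf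
        exact absurd hf List.not_mem_nil)
    have h2 : ∀ i : ℤ, 0 < i → Limits.IsZero ((Groth.Agent.Lib.Helper12.HF A i).obj
        (DerivedCategory.Q.obj (Groth.Agent.Lib.Helper36.DNak.kos l P) : Dual.D A)) :=
      fun i hi => (h1 i hi).of_iso ((Groth.Agent.Lib.Helper12.HF A i).mapIso
        (DerivedCategory.Q.mapIso (Groth.Agent.Lib.Helper36.LT.tensorCxUnitIso
          (Groth.Agent.Lib.Helper36.DNak.kos l P))).symm)
    have hc' : DRing.IsDerivedComplete I (DerivedCategory.Q.obj P : Dual.D A) := by
      intro f hf n
      have := hc f hf n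
      refine ⟨fun a b => ?_⟩
      have h := Subsingleton.elim (a ≫ (CategoryTheory.shiftFunctor (Dual.D A) n).map eP.hom)
        (b ≫ (CategoryTheory.shiftFunctor (Dual.D A) n).map eP.hom)
      exact (cancel_mono _).1 h
    have h3 := Groth.Agent.Lib.Helper36.DNak.isZero_HF_of_isZero_HF_kos I l hl P hc' h2
    intro i hi
    exact ModuleCat.subsingleton_of_isZero
      ((h3 i hi).of_iso ((Groth.Agent.Lib.Helper12.HF A i).mapIso eP.symm))

end Groth.Agent.S7056
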