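import Groth.Statements.S7062
import Groth.Agent.Lib.Helper10.BLTor
import Groth.Agent.Lib.Helper46.TorOne

set_option autoImplicit false
universe u
open EtGlue

namespace Groth.Agent.S7062

/-- For a glueing pair (R → R', f), i.e. R/f^nR → R'/f^nR' is bijective for all n > 0 and the sequence 0
→ R → R' ⊕ R_f → R'_f → 0 is exact, the group Tor_1^R(R', f^n R) vanishes for every n > 0 (Tor
computed by resolving the second argument, the ideal f^n R). -/
theorem result {R R' : Type u} [CommRing R] [CommRing R'] [Algebra R R']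
    (f : R) (h : EtGlue.IsGlueingPair R R' f) (n : ℕ) (hn : 0 < n) :
    Subsingleton (DRing.Tor R 1 R' ↥(Ideal.span ({f ^ n} : Set R))) := by
  let π : R →ₗ[R] ↥(Ideal.span ({f ^ n} : Set R)) :=
    LinearMap.toSpanSingleton R _ ⟨f ^ n, Ideal.subset_span (Set.mem_singleton _)⟩
  have hπ : Function.Surjective π := by
    rintro ⟨x, hx⟩
    rw [Ideal.mem_span_singleton'] at hx
    obtain ⟨a, rfl⟩ := hx
    exact ⟨a, Subtype.ext (by simp [π])⟩
  have hZ : ∀ z ∈ LinearMap.ker π, ∃ k : ℕ, f ^ k * z = 0 := by
    intro z hz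
    rw [LinearMap.mem_ker] at hz
    have := congrArg Subtype.val hz
    refine ⟨n, ?_⟩
    simpa [π, mul_comm] using this
  have hinj := Groth.Agent.Lib.Helper10.BL.injective_lTensor_of_torsion_ideal h _ hZ
  have hzero : CategoryTheory.Limits.IsZero
      (((CategoryTheory.Tor (ModuleCat.{u} R) 1).obj (ModuleCat.of R R')).obj
        (ModuleCat.of R ↥(Ideal.span ({f ^ n} : Set R)))) :=
    (Groth.Agent.Lib.Helper46.TorOne.isZero_tor_one_iff_injective_lTensor
      (N := R') (LinearMap.ker π).subtype π
      (Submodule.injective_subtype _) (LinearMap.exact_subtype_ker_map π) hπ).mpr hinj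
  exact ModuleCat.subsingleton_of_isZero hzero

end Groth.Agent.S7062
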