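import Groth.Statements.S7063
import Groth.Agent.Lib.Helper10.BLTor
import Groth.Agent.Lib.Helper46.TorOne

set_option autoImplicit false
universe u
open EtGlue

namespace Groth.Agent.S7063

/-- For a glueing pair (R → R', f), the group Tor_1^R(R', R/R[f^∞]) vanishes, where R[f^∞] is the
submodule of elements of R killed by a power of f (Tor computed by resolving the second argument). -/
theorem result {R R' : Type u} [CommRing R] [CommRing R']
    [Algebra R R'] (f : R) (h : EtGlue.IsGlueingPair R R' f) :
    Subsingleton (DRing.Tor R 1 R' (R ⧸ DRing.torsionSub (Ideal.span ({f} : Set R)) R)) := by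
  have hZ : ∀ z ∈ DRing.torsionSub (Ideal.span ({f} : Set R)) R, ∃ n : ℕ, f ^ n * z = 0 := by
    rintro z ⟨n, hn⟩
    refine ⟨n, ?_⟩
    have := hn (f ^ n) (Ideal.pow_mem_pow (Ideal.subset_span (Set.mem_singleton f)) n)
    simpa using this
  have hinj := Groth.Agent.Lib.Helper10.BL.injective_lTensor_of_torsion_ideal h _ hZ
  have hzero : CategoryTheory.Limits.IsZero
      (((CategoryTheory.Tor (ModuleCat.{u} R) 1).obj (ModuleCat.of R R')).obj
        (ModuleCat.of R (R ⧸ DRing.torsionSub (Ideal.span ({f} : Set R)) R))) :=
    (Groth.Agent.Lib.Helper46.TorOne.isZero_tor_one_iff_injective_lTensor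
      (N := R') (DRing.torsionSub (Ideal.span ({f} : Set R)) R).subtype
      (DRing.torsionSub (Ideal.span ({f} : Set R)) R).mkQ
      (Submodule.injective_subtype _) (LinearMap.exact_subtype_mkQ _)
      (Submodule.mkQ_surjective _)).mpr hinj
  exact ModuleCat.subsingleton_of_isZero hzero

end Groth.Agent.S7063
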