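import Groth.Statements.S7064
import Groth.Agent.Lib.Helper10.BLTor
import Groth.Agent.Lib.Helper46.TorOne

set_option autoImplicit false
universe u
open EtGlue

namespace Groth.Agent.S7064

/-- For a glueing pair (R → R', f) and any R-module M, the group Tor_1^R(R', Coker(M → M_f)) vanishes,
where M_f is the localization of M at the powers of f (Tor computed by resolving the second
argument). -/
theorem result {R R' : Type u} [CommRing R] [CommRing R']
    [Algebra R R'] (f : R) (h : EtGlue.IsGlueingPair R R' f) (M : Type u) [AddCommGroup M] [Module R M] :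
    Subsingleton (DRing.Tor R 1 R'
      (LocalizedModule (Submonoid.powers f) M ⧸
        LinearMap.range (LocalizedModule.mkLinearMap (Submonoid.powers f) M))) := by
  have hT : ∀ t : (LocalizedModule (Submonoid.powers f) M ⧸
      LinearMap.range (LocalizedModule.mkLinearMap (Submonoid.powers f) M)), ∃ n : ℕ, f ^ n • t = 0 := by
    intro t
    obtain ⟨y, rfl⟩ := Submodule.mkQ_surjective _ t
    obtain ⟨⟨m, ⟨_, n, rfl⟩⟩, hm⟩ := IsLocalizedModule.surj (Submonoid.powers f)
      (LocalizedModule.mkLinearMap (Submonoid.powers f) M) y
    refine ⟨n, ?_⟩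
    rw [← map_smul, Submodule.mkQ_apply, Submodule.Quotient.mk_eq_zero]
    exact ⟨m, hm.symm⟩
  have hinj := Groth.Agent.Lib.Helper10.BL.injective_lTensor_ker_linearCombination h _ hT
  have hπ : Function.Surjective (Finsupp.linearCombination R
      (id : (LocalizedModule (Submonoid.powers f) M ⧸
      LinearMap.range (LocalizedModule.mkLinearMap (Submonoid.powers f) M)) → _)) := by
    intro t
    exact ⟨Finsupp.single t 1, by simp⟩
  have hzero : CategoryTheory.Limits.IsZero
      (((CategoryTheory.Tor (ModuleCat.{u} R) 1).obj (ModuleCat.of R R')).obj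
        (ModuleCat.of R (LocalizedModule (Submonoid.powers f) M ⧸
      LinearMap.range (LocalizedModule.mkLinearMap (Submonoid.powers f) M)))) :=
    (Groth.Agent.Lib.Helper46.TorOne.isZero_tor_one_iff_injective_lTensor
      (N := R') (LinearMap.ker _).subtype _
      (Submodule.injective_subtype _) (LinearMap.exact_subtype_ker_map _) hπ).mpr hinj
  exact ModuleCat.subsingleton_of_isZero hzero

end Groth.Agent.S7064
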