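import Groth.Statements.S7065
import Mathlib.RingTheory.Spectrum.Prime.Topology
-- import your own Groth.Agent.* helpers here

set_option autoImplicit false
universe u
open EtGlue

namespace Groth.Agent.S7065

/-- Let R → R' be a homomorphism of commutative rings and f an element of R such that the induced map
R/fR → R'/fR' is bijective. Then Spec(R') ⊔ Spec(R_f) → Spec(R) is surjective: every prime of R is
the contraction of a prime of R' or of a prime of R_f. -/
theorem result {R R' : Type u} [CommRing R] [CommRing R']
    [Algebra R R'] (f : R)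
    (hq : Function.Bijective
      (Ideal.quotientMap (Ideal.map (algebraMap R R') (Ideal.span {f})) (algebraMap R R') Ideal.le_comap_map))
    (p : PrimeSpectrum R) :
    (∃ q : PrimeSpectrum R', PrimeSpectrum.comap (algebraMap R R') q = p) ∨
      ∃ q : PrimeSpectrum (Localization.Away f), PrimeSpectrum.comap (algebraMap R (Localization.Away f)) q = p := by
  by_cases hf : f ∈ p.asIdeal
  · left
    set J : Ideal R := Ideal.span {f} with hJ
    set J' : Ideal R' := Ideal.map (algebraMap R R') J with hJ'
    set φ : R ⧸ J →+* R' ⧸ J' := Ideal.quotientMap J' (algebraMap R R') Ideal.le_comap_map with hφ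
    have hJp : J ≤ p.asIdeal := by
      rw [hJ, Ideal.span_le, Set.singleton_subset_iff]
      exact hf
    let e : (R ⧸ J) ≃+* (R' ⧸ J') := RingEquiv.ofBijective φ hq
    -- the prime `p / J`
    have hker : RingHom.ker (Ideal.Quotient.mk J) ≤ p.asIdeal := by
      rw [Ideal.mk_ker]; exact hJp
    have hpbar : (Ideal.map (Ideal.Quotient.mk J) p.asIdeal).IsPrime :=
      Ideal.map_isPrime_of_surjective Ideal.Quotient.mk_surjective hker
    have hcomap : Ideal.comap (Ideal.Quotient.mk J) (Ideal.map (Ideal.Quotient.mk J) p.asIdeal)
        = p.asIdeal := by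
      rw [Ideal.comap_map_of_surjective _ Ideal.Quotient.mk_surjective, ← RingHom.ker_eq_comap_bot]
      exact sup_eq_left.mpr hker
    let qbar : Ideal (R' ⧸ J') :=
      Ideal.comap (e.symm : (R' ⧸ J') →+* (R ⧸ J)) (Ideal.map (Ideal.Quotient.mk J) p.asIdeal)
    have : qbar.IsPrime := Ideal.comap_isPrime _ _
    let q : Ideal R' := Ideal.comap (Ideal.Quotient.mk J') qbar
    have : q.IsPrime := Ideal.comap_isPrime _ _
    refine ⟨⟨q, inferInstance⟩, ?_⟩
    ext x
    show x ∈ Ideal.comap (algebraMap R R') q ↔ x ∈ p.asIdeal
    rw [← hcomap]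
    simp only [q, qbar, Ideal.mem_comap]
    have : (Ideal.Quotient.mk J') (algebraMap R R' x) = e (Ideal.Quotient.mk J x) := by
      simp [e, φ]
    rw [this]
    simp
  · right
    have : p ∈ Set.range (PrimeSpectrum.comap (algebraMap R (Localization.Away f))) := by
      rw [PrimeSpectrum.localization_away_comap_range (Localization.Away f) f]
      exact hf
    exact this

end Groth.Agent.S7065
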