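import Groth.Statements.S7067
import Groth.Agent.Lib.Helper12.DerCAPCHom
-- import your own Groth.Agent.* helpers here

set_option autoImplicit false
universe u
attribute [local instance] HasDerivedCategory.standard
open MoreMor

namespace Groth.Agent.S7067

open Groth.Agent.Lib.Helper12

/-- A finite type homomorphism of commutative rings A → B with A Noetherian is pseudo-coherent: for some
presentation of B as a quotient of a polynomial ring A[x_1, …, x_n], B is a pseudo-coherent module
over that polynomial ring. -/
theorem result (A B : Type u) [CommRing A] [CommRing B] [Algebra A B]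
    [IsNoetherianRing A] [Algebra.FiniteType A B] : MoreMor.IsPseudoCoherentHom A B := by
  obtain ⟨n, φ, hφ⟩ := exists_presentation A B
  refine isPseudoCoherentHom_iff.2 ⟨n, φ, hφ, fun m => ?_⟩
  have : Module.Finite B (ModuleCat.of B B) := inferInstanceAs (Module.Finite B B)
  have := finite_resSc_of_surjective (φ : MvPolynomial (Fin n) A →+* B) hφ (ModuleCat.of B B)
  exact isPseudoCoherent_inD_of_finite_of_isNoetherianRing' _ m

end Groth.Agent.S7067
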