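import Groth.Statements.S7074
-- import your own Groth.Agent.* helpers here
import Mathlib
import Groth.Agent.S9456
import Groth.Agent.Lib.Helper8.PCoh
import Groth.Agent.Lib.Helper12.DRingTruncRep
import Groth.Agent.Lib.Helper12.DRingRestrict
import Groth.Agent.Lib.Helper12.DRingClosure
import Groth.Agent.Lib.Helper36.DegInduction
import Groth.Agent.Lib.Helper36.FibreTorAmp

set_option autoImplicit false
universe u
attribute [local instance] HasDerivedCategory.standard
open CategoryTheory
open Dual2

namespace Groth.Agent.S7074

open Groth.Agent.Lib.Helper12 CategoryTheory.Limits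
open scoped ZeroObject

/-- For a flat homomorphism of finite presentation R → A of commutative rings and an object K of D(A), K
is R-perfect (pseudo-coherent over A and of finite tor dimension over R) if and only if K is
isomorphic in D(A) to a bounded complex whose terms are finitely presented A-modules that are flat
as R-modules. -/
theorem result (R A : Type u) [CommRing R] [CommRing A] [Algebra R A]
    [Module.Flat R A] [Algebra.FinitePresentation R A] (K : Dual.D A) :
    Dual2.IsRelPerfect R A K ↔
      ∃ (E : DRing.Cx A) (a b : ℤ), DRing.VanishesOutside E a b ∧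
        (∀ i : ℤ, Module.FinitePresentation A (E.X i) ∧
          Module.Flat R ((ModuleCat.restrictScalars (algebraMap R A)).obj (E.X i))) ∧
        Nonempty (DRing.toD E ≅ K) := by
  have H : Groth.Agent.Lib.Helper8.FlatRes.Descent9456.{u} :=
    fun R _ S _ _ _ M _ _ _ _ _ _ => Groth.Agent.S9456.result R S M
  constructor
  · rintro ⟨⟨F, c, hFc, hFf, ⟨eF⟩⟩, ⟨a, b, hamp⟩⟩
    let P : ModProp A :=
      { P := fun M => Module.FinitePresentation A M ∧
          Module.Flat R ((ModuleCat.restrictScalars (algebraMap R A)).obj M)
        iso := fun {M N} e h => by
          have := h.1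
          have := h.2
          refine ⟨Module.FinitePresentation.of_equiv e.toLinearEquiv, ?_⟩
          exact Module.Flat.of_linearEquiv
            (((ModuleCat.restrictScalars (algebraMap R A)).mapIso e).toLinearEquiv).symm
        biprod := fun {M N} hM hN => by
          have := hM.1
          have := hM.2
          have := hN.1
          have := hN.2
          obtain ⟨e⟩ := linearEquiv_biprod M N
          refine ⟨Module.FinitePresentation.of_equiv e.symm, ?_⟩
          have e2 : ((ModuleCat.restrictScalars (algebraMap R A)).obj (M ⊞ N)) ≃ₗ[R]
              (((ModuleCat.restrictScalars (algebraMap R A)).obj M) ×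
                ((ModuleCat.restrictScalars (algebraMap R A)).obj N)) :=
            { toFun := e
              invFun := e.symm
              left_inv := e.left_inv
              right_inv := e.right_inv
              map_add' := e.map_add
              map_smul' := fun r x => e.map_smul (algebraMap R A r) x }
          have := flat_prod (R := R) ((ModuleCat.restrictScalars (algebraMap R A)).obj M)
            ((ModuleCat.restrictScalars (algebraMap R A)).obj N)
          exact Module.Flat.of_linearEquiv e2
        zero := fun {M} hM => by
          have : Subsingleton M := ModuleCat.subsingleton_of_isZero hM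
          have h2 : Subsingleton ((ModuleCat.restrictScalars (algebraMap R A)).obj M) := this
          exact ⟨inferInstance, inferInstance⟩ }
    have hterm : ∀ j : ℤ, P.P (F.X j) := by
      intro j
      have := (hFf j).1
      have := (hFf j).2
      exact ⟨Module.finitePresentation_of_projective A _,
        Groth.Agent.Lib.Helper36.FibreTorAmp.flat_restrictScalars (F.X j)⟩
    -- tor amplitude of the restricted complex
    have eres : (DRing.restrictD (algebraMap R A)).obj K ≅
        DRing.toD ((DRing.restrictCx (algebraMap R A)).obj F) :=
      (DRing.restrictD (algebraMap R A)).mapIso eF.symm ≪≫ restrictD_toD (algebraMap R A) F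
    have hamp' : DRing.HasTorAmplitudeIn R a b
        (DRing.toD ((DRing.restrictCx (algebraMap R A)).obj F)) := by
      obtain ⟨E', hE', hfl', ⟨e'⟩⟩ := hamp
      exact ⟨E', hE', hfl', ⟨e' ≪≫ eres⟩⟩
    have hlow : ∀ i : ℤ, i < a → IsZero ((HF A i).obj (DRing.toD F)) := by
      intro i hi
      rw [← isZero_HF_restrictD_iff (algebraMap R A)]
      obtain ⟨E', hE', hfl', ⟨e'⟩⟩ := hamp
      refine IsZero.of_iso (isZero_HF_toD_of_isZero_X E' i (hE' i (Or.inl hi)))
        ((HF R i).mapIso ((DRing.restrictD (algebraMap R A)).mapIso eF ≪≫ e'.symm))
    have hresfl : ∀ j : ℤ, a < j →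
        Module.Flat R (((DRing.restrictCx (algebraMap R A)).obj F).X j) := fun j _ => (hterm j).2
    have hopR : Module.Flat R (((DRing.restrictCx (algebraMap R A)).obj F).opcycles a) :=
      flat_opcycles_of_hasTorAmplitudeIn _ c
        (fun i hi => (ModuleCat.restrictScalars (algebraMap R A)).map_isZero (hFc i hi)) a b
        hresfl hamp'
    have hop : P.P (F.opcycles a) := by
      constructor
      · have := (hFf a).1
        have := (hFf a).2
        have := (hFf (a - 1)).1
        have hfpX : Module.FinitePresentation A (F.X a) := Module.finitePresentation_of_projective A _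
        have hq : Module.FinitePresentation A
            ((F.X a) ⧸ LinearMap.range (F.d (a - 1) a).hom) := by
          refine Module.finitePresentation_of_surjective
            (LinearMap.range (F.d (a - 1) a).hom).mkQ (Submodule.mkQ_surjective _) ?_
          rw [Submodule.ker_mkQ, LinearMap.range_eq_map]
          exact (Module.Finite.fg_top).map _
        exact Module.FinitePresentation.of_equiv (opcyclesIsoQuot F a).toLinearEquiv.symm
      · have eop : ((DRing.restrictCx (algebraMap R A)).obj F).opcycles a ≅
            (ModuleCat.restrictScalars (algebraMap R A)).obj (F.opcycles a) :=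
          (F.sc a).mapOpcyclesIso (ModuleCat.restrictScalars (algebraMap R A))
        exact Module.Flat.of_linearEquiv eop.toLinearEquiv.symm
    obtain ⟨G, hG, hGt, ⟨eG⟩⟩ := exists_truncGE_rep P F a c hFc (fun j _ => hterm j) hop hlow
    exact ⟨G, a, c, hG, hGt, ⟨eG ≪≫ eF⟩⟩
  · rintro ⟨E, a, b, hE, hterm, ⟨e⟩⟩
    refine ⟨?_, ⟨a, b, (DRing.restrictCx (algebraMap R A)).obj E, ?_, ?_, ⟨?_⟩⟩⟩
    · -- pseudo-coherence by induction on the length
      have hPr : DRing.IsPseudoCoherent' A (DRing.toD E) := by
        refine Groth.Agent.Lib.Helper36.DegInd.bounded_induction' (DRing.IsPseudoCoherent' A)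
          (fun _ M => Module.FinitePresentation A M ∧
            Module.Flat R ((ModuleCat.restrictScalars (algebraMap R A)).obj M))
          ?_ ?_ ?_ ?_ ?_ E a b hE hterm
        · intro i M N e h
          have := h.1
          have := h.2
          refine ⟨Module.FinitePresentation.of_equiv e.toLinearEquiv, ?_⟩
          exact Module.Flat.of_linearEquiv
            (((ModuleCat.restrictScalars (algebraMap R A)).mapIso e).toLinearEquiv).symm
        · intro i M hM
          have : Subsingleton M := ModuleCat.subsingleton_of_isZero hM
          have h2 : Subsingleton ((ModuleCat.restrictScalars (algebraMap R A)).obj M) := this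
          exact ⟨inferInstance, inferInstance⟩
        · intro K hK
          rw [isPseudoCoherent'_iff]
          have hz : ∀ i : ℤ, IsZero ((0 : DRing.Cx A).X i) := fun i =>
            (HomologicalComplex.eval (ModuleCat.{u} A) (ComplexShape.up ℤ) i).map_isZero
              (Limits.isZero_zero _)
          refine ⟨0, 0, fun i _ => hz i, fun i => (finiteFree A).zero (hz i), ⟨?_⟩⟩
          exact (isZero_toD_of_forall_isZero (0 : DRing.Cx A) hz).iso hK
        · intro M a hM
          have hfp := hM.1
          let _ : Module R ↑M := Module.compHom M (algebraMap R A)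
          have htower : IsScalarTower R A ↑M := IsScalarTower.of_algebraMap_smul fun _ _ => rfl
          have hflat : Module.Flat R ↑M := hM.2
          let X : Groth.Agent.Lib.Helper8.FlatRes.FlatFP R A := { carrier := ↑M }
          have hpc : DRing.IsPseudoCoherent' A (Dual.inD A ↑M) :=
            Groth.Agent.Lib.Helper8.PCoh.isPseudoCoherentModule'_of_flatFP H X
          rw [isPseudoCoherent'_iff] at hpc ⊢
          have e1 : DRing.toD (singleCx a M) ≅ (Dual.inD A ↑M)⟦-a⟧ :=
            DerivedCategory.Q.mapIso (((CochainComplex.singleFunctors (ModuleCat.{u} A)).shiftIso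
              (-a) a 0 (by omega)).app M).symm ≪≫
            (DerivedCategory.Q.commShiftIso (-a)).app _ ≪≫
            (CategoryTheory.shiftFunctor (Dual.D A) (-a)).mapIso
              ((DerivedCategory.singleFunctorIsoCompQ (ModuleCat.{u} A) 0).app M).symm
          exact RepAbove.of_iso _ e1.symm (hpc.shift _ (-a))
        · intro T hT h1 h3
          rw [isPseudoCoherent'_iff] at h1 h3 ⊢
          exact (RepAbove.two_out_of_three _ (finiteFree_projective) T hT).2.1 h1 h3
      rw [isPseudoCoherent'_iff] at hPr ⊢
      exact RepAbove.of_iso _ e hPr
    · intro i hi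
      exact (ModuleCat.restrictScalars (algebraMap R A)).map_isZero (hE i hi)
    · intro i
      exact (hterm i).2
    · exact (restrictD_toD (algebraMap R A) E).symm ≪≫
        (DRing.restrictD (algebraMap R A)).mapIso e

end Groth.Agent.S7074
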