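import Groth.Statements.S7076
-- import your own Groth.Agent.* helpers here
import Mathlib
import Groth.Agent.Lib.Helper36.RelBaseChangeD
import Groth.Agent.Lib.Helper36.NilpotentPC
import Groth.Agent.Lib.Helper36.NilpotentBaseChangeRing
import Groth.Agent.Lib.Helper36.HasLeftDerived
import Groth.Agent.S6952

set_option autoImplicit false
universe u
attribute [local instance] HasDerivedCategory.standard
open TensorProduct
open Dual2

namespace Groth.Agent.S7076

/-- Let R' → A' be a flat homomorphism of finite presentation of commutative rings, R' → R a surjective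
homomorphism of rings with nilpotent kernel, A = R ⊗_{R'} A', and K' an object of D(A'). If the
derived base change K' ⊗^L_{A'} A (total left derived functor of extension of scalars, assumed to
exist) is R-perfect in D(A), then K' is R'-perfect in D(A'). -/
theorem result (R' A' R : Type u) [CommRing R'] [CommRing A'] [Algebra R' A']
    [CommRing R] [Algebra R' R] [Module.Flat R' A'] [Algebra.FinitePresentation R' A']
    (hs : Function.Surjective (algebraMap R' R)) (hn : IsNilpotent (RingHom.ker (algebraMap R' R)))
    [DRing.HasLBaseChange (Algebra.TensorProduct.includeRight.toRingHom : A' →+* R ⊗[R'] A')]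
    (K' : Dual.D A')
    (hK : Dual2.IsRelPerfect R (R ⊗[R'] A')
      ((DRing.LBaseChange (Algebra.TensorProduct.includeRight.toRingHom : A' →+* R ⊗[R'] A')).obj K')) :
    Dual2.IsRelPerfect R' A' K' := by
  open Groth.Agent.Lib.Helper36 in
  obtain ⟨hpc, a, b, hab⟩ := hK
  have hpc' : DRing.IsPseudoCoherent' A' K' :=
    NilPC.isPseudoCoherent'_of_LBaseChange
      (Algebra.TensorProduct.includeRight.toRingHom : A' →+* R ⊗[R'] A')
      (NilBCRing.surjective_includeRight R' A' R hs)
      (NilBCRing.isNilpotent_ker_includeRight R' A' R hs hn) K' hpc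
  refine ⟨hpc', a, b, ?_⟩
  obtain ⟨P, c, hc, hff, ⟨e⟩⟩ := hpc'
  have hfl : ∀ i, Module.Flat A' (P.X i) := fun i => by
    have h1 := (hff i).1
    have h2 := (hff i).2
    infer_instance
  have := LT.hasLBaseChange (algebraMap R' R)
  obtain ⟨eBC⟩ := RelBC.nonempty_restrictD_LBaseChange_iso R' A' R P c hc hfl e
  exact (Groth.Agent.S6952.result (algebraMap R' R) hs hn _ a b).mp
    (Groth.Agent.Lib.Helper12.hasTorAmplitudeIn_of_iso eBC hab)

end Groth.Agent.S7076
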