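import Groth.Statements.S7077
import Mathlib
import Groth.Agent.S7080
import Groth.Agent.Lib.Helper32.TwoTermRep
-- import your own Groth.Agent.* helpers here

set_option autoImplicit false
universe u
attribute [local instance] HasDerivedCategory.standard
open CategoryTheory
open DRing

namespace Groth.Agent.S7077
open Pretriangulated DerivedCategory Limits
open Groth.Agent.S14388 (tt)
open Groth.Agent.Lib.Helper32.TwoTerm Groth.Agent.Lib.Helper32.TwoTermRep
open Groth.Agent.S7080 (isGE_of_twoTerm isLE_of_twoTerm)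

/-- (1)⇔(2): let R be a commutative ring and K an object of D(R) whose cohomology modules vanish outside
degrees -1 and 0. Then H^{-1}(K) vanishes and H^0(K) is a projective R-module if and only if
Ext^1_R(K, M) = Hom_{D(R)}(K, M[1]) vanishes for every R-module M. -/
theorem result {R : Type u} [CommRing R] (K : Dual.D R)
    (hK : ∀ i : ℤ, i ≠ -1 → i ≠ 0 → Subsingleton (Dual.HD R K i)) :
    (Subsingleton (Dual.HD R K (-1)) ∧ Module.Projective R (Dual.HD R K 0)) ↔
      ∀ (M : Type u) [AddCommGroup M] [Module R M], Subsingleton (K ⟶ (Dual.inD R M)⟦(1 : ℤ)⟧) := by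
  have iGE := isGE_of_twoTerm K hK
  have iLE := isLE_of_twoTerm K hK
  let t := tt (ModuleCat.{u} R)
  constructor
  · rintro ⟨h1, h0⟩ M _ _
    have : K.IsGE 0 := by
      rw [isGE_iff]
      intro i hi
      by_cases h : i = -1
      · subst h; exact ModuleCat.isZero_of_subsingleton _
      · have := hK i h (by omega)
        exact ModuleCat.isZero_of_subsingleton _
    obtain ⟨e⟩ := nonempty_iso_single K 0
    have hP : Module.Projective R ↑((homologyFunctor (ModuleCat.{u} R) 0).obj K) := h0
    have hY : t.IsLE ((Dual.inD R M)⟦(1 : ℤ)⟧) (-1) := t.isLE_shift _ 0 1 (-1)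
    have key : ∀ f : K ⟶ (Dual.inD R M)⟦(1 : ℤ)⟧, f = 0 := by
      intro f
      have := @hom_single_projective_eq_zero _ _ _ hP _ hY (e.inv ≫ f)
      rw [← cancel_epi e.inv, this, comp_zero]
    exact ⟨fun f g => (key f).trans (key g).symm⟩
  · intro h
    let H := (homologyFunctor (ModuleCat.{u} R) 0).obj K
    let F : ModuleCat.{u} R := ModuleCat.of R (H →₀ R)
    let p : F ⟶ H := ModuleCat.ofHom (Finsupp.linearCombination R id)
    have : Epi p := (ModuleCat.epi_iff_surjective _).mpr (Finsupp.linearCombination_id_surjective R H)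
    obtain ⟨s, hs⟩ := exists_lift K F p
    obtain ⟨C, β, γ, hT⟩ := distinguished_cocone_triangle s
    obtain ⟨hLE, hGE⟩ := cone_isLE_isGE K F (Triangle.mk s β γ) hT rfl rfl hs
    have : C.IsLE (-1) := hLE
    have : C.IsGE (-1) := hGE
    obtain ⟨eC⟩ := nonempty_iso_single C (-1)
    let M' := (homologyFunctor (ModuleCat.{u} R) (-1)).obj C
    let sh := ((singleFunctors (ModuleCat.{u} R)).shiftIso 1 (-1) 0 (by omega)).app M'
    have hβ : β = 0 := by
      have := h M'
      have e : β ≫ eC.hom ≫ sh.inv = 0 := Subsingleton.elim (α := K ⟶ (Dual.inD R M')⟦(1 : ℤ)⟧) _ _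
      rw [← cancel_mono (eC.hom ≫ sh.inv), e, zero_comp]
    obtain ⟨σ, hσ'⟩ : ∃ σ : K ⟶ (singleFunctor (ModuleCat.{u} R) 0).obj F, 𝟙 K = σ ≫ s :=
      Triangle.coyoneda_exact₂ _ hT (𝟙 K) (by
        show 𝟙 K ≫ β = 0
        rw [hβ, comp_zero])
    have hid : ∀ i : ℤ, 𝟙 ((homologyFunctor (ModuleCat.{u} R) i).obj K) =
        (homologyFunctor (ModuleCat.{u} R) i).map σ ≫ (homologyFunctor (ModuleCat.{u} R) i).map s := by
      intro i
      rw [← CategoryTheory.Functor.map_comp, ← hσ', CategoryTheory.Functor.map_id]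
    constructor
    · have hZ : IsZero ((homologyFunctor (ModuleCat.{u} R) (-1)).obj K) := by
        rw [IsZero.iff_id_eq_zero, hid]
        have z : IsZero ((homologyFunctor (ModuleCat.{u} R) (-1)).obj
            ((singleFunctor (ModuleCat.{u} R) 0).obj F)) := isZero_of_isGE _ 0 (-1) (by omega)
        rw [z.eq_of_tgt ((homologyFunctor (ModuleCat.{u} R) (-1)).map σ) 0, zero_comp]
      exact ModuleCat.subsingleton_of_isZero hZ
    · have hF : Module.Projective R ↑((homologyFunctor (ModuleCat.{u} R) 0).obj
          ((singleFunctor (ModuleCat.{u} R) 0).obj F)) :=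
        Module.Projective.of_equiv
          ((singleFunctorCompHomologyFunctorIso (ModuleCat.{u} R) 0).app F).symm.toLinearEquiv
      refine Module.Projective.of_split ((homologyFunctor (ModuleCat.{u} R) 0).map σ).hom
        ((homologyFunctor (ModuleCat.{u} R) 0).map s).hom ?_
      have := hid 0
      ext x
      have h2 := congrArg (fun φ => φ.hom x) this
      simpa using h2.symm

end Groth.Agent.S7077
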