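import Groth.Statements.S7079
import Mathlib
import Groth.Agent.S7080
import Groth.Agent.Lib.Helper32.TwoTermRep
-- import your own Groth.Agent.* helpers here

set_option autoImplicit false
universe u
attribute [local instance] HasDerivedCategory.standard
open CategoryTheory
open DRing

namespace Groth.Agent.S7079
open Pretriangulated DerivedCategory Limits
open Groth.Agent.S14388 (tt)
open Groth.Agent.Lib.Helper32.TwoTerm Groth.Agent.Lib.Helper32.TwoTermRep
open Groth.Agent.S7080 (isGE_of_twoTerm isLE_of_twoTerm)

/-- For a Noetherian commutative ring R and an object K of D(R) whose cohomology modules vanish outside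
degrees -1 and 0 and are finite modules in those two degrees, K is represented by a two-term complex
K^{-1} → K^0 with K^0 finite free and K^{-1} finite. -/
theorem result {R : Type u} [CommRing R] [IsNoetherianRing R] (K : Dual.D R)
    (hK : ∀ i : ℤ, i ≠ -1 → i ≠ 0 → Subsingleton (Dual.HD R K i))
    (h1 : Module.Finite R (Dual.HD R K (-1))) (h0 : Module.Finite R (Dual.HD R K 0)) :
    ∃ E : DRing.Cx R, DRing.VanishesOutside E (-1) 0 ∧ Module.Free R (E.X 0) ∧ Module.Finite R (E.X 0) ∧
      Module.Finite R (E.X (-1)) ∧ Nonempty (DRing.toD E ≅ K) := by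
  have := isGE_of_twoTerm K hK
  have := isLE_of_twoTerm K hK
  let H := (homologyFunctor (ModuleCat.{u} R) 0).obj K
  obtain ⟨n, f, hf⟩ := Module.Finite.exists_fin' R H
  let F : ModuleCat.{u} R := ModuleCat.of R (Fin n → R)
  let p : F ⟶ H := ModuleCat.ofHom f
  have : Epi p := (ModuleCat.epi_iff_surjective _).mpr hf
  obtain ⟨M, E, hE, ⟨e0⟩, ⟨e1⟩, hiso, hfin⟩ := exists_twoTerm_rep K F p
  have hM : Module.Finite R M := hfin inferInstance h1 (inferInstanceAs (Module.Finite R (Fin n → R)))
  exact ⟨E, hE, Module.Free.of_equiv e0.symm.toLinearEquiv, Module.Finite.equiv e0.symm.toLinearEquiv,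
    Module.Finite.equiv e1.symm.toLinearEquiv, hiso⟩

end Groth.Agent.S7079
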