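import Groth.Statements.S7081
import Mathlib
import Groth.Agent.S7080
-- import your own Groth.Agent.* helpers here

set_option autoImplicit false
universe u
attribute [local instance] HasDerivedCategory.standard
open CategoryTheory
open DRing

namespace Groth.Agent.S7081
open Pretriangulated DerivedCategory Limits
open Groth.Agent.S14388 (tt)
open Groth.Agent.Lib.Helper32.TwoTerm
open Groth.Agent.S7080 (isGE_of_twoTerm isLE_of_twoTerm hiso_of_twoTerm)

/-- Let R be a commutative ring and φ : K₁ → K₂, ψ : K₂ → K₃ morphisms in D(R) between objects whose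
cohomology vanishes outside degrees -1 and 0. If φ induces the zero map on H^0 and ψ induces the
zero map on H^{-1}, then the composite K₁ → K₃ is zero. -/
theorem result {R : Type u} [CommRing R] {K₁ K₂ K₃ : Dual.D R}
    (φ : K₁ ⟶ K₂) (ψ : K₂ ⟶ K₃)
    (h₁ : ∀ i : ℤ, i ≠ -1 → i ≠ 0 → Subsingleton (Dual.HD R K₁ i))
    (h₂ : ∀ i : ℤ, i ≠ -1 → i ≠ 0 → Subsingleton (Dual.HD R K₂ i))
    (h₃ : ∀ i : ℤ, i ≠ -1 → i ≠ 0 → Subsingleton (Dual.HD R K₃ i))
    (hφ : (DerivedCategory.homologyFunctor (ModuleCat.{u} R) 0).map φ = 0)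
    (hψ : (DerivedCategory.homologyFunctor (ModuleCat.{u} R) (-1)).map ψ = 0) :
    φ ≫ ψ = 0 := by
  have i1 := isLE_of_twoTerm K₁ h₁
  have i3 := isGE_of_twoTerm K₃ h₃
  -- φ ≫ π_{≥0} = 0
  have e1 : φ ≫ ((tt _).truncGEπ 0).app K₂ = 0 := by
    have := Groth.Agent.S0982.mid φ 0 hφ
    have iso : IsIso (((tt (ModuleCat.{u} R)).truncLTι (0 + 1)).app K₁) :=
      ((tt (ModuleCat.{u} R)).isLE_iff_isIso_truncLTι_app 0 (0 + 1) rfl K₁).mp i1
    rw [← cancel_epi (((tt (ModuleCat.{u} R)).truncLTι (0 + 1)).app K₁), this, comp_zero]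
  obtain ⟨φ', hφ'⟩ := Triangle.coyoneda_exact₂ _ ((tt _).triangleLTGE_distinguished 0 K₂) φ e1
  obtain ⟨φ'', hφ''⟩ : ∃ φ'' : K₁ ⟶ ((tt (ModuleCat.{u} R)).truncLT 0).obj K₂,
    φ = φ'' ≫ ((tt _).truncLTι 0).app K₂ := ⟨φ', hφ'⟩
  have e2 : ((tt (ModuleCat.{u} R)).truncLTι 0).app K₂ ≫ ψ = 0 := by
    have := Groth.Agent.S0982.mid ψ (-1) hψ
    rw [← cancel_mono (((tt (ModuleCat.{u} R)).truncGEπ (-1)).app K₃), zero_comp, Category.assoc]
    exact this
  rw [hφ'', Category.assoc, e2, comp_zero]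

end Groth.Agent.S7081
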