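import Groth.Statements.S7082
import Mathlib
import Groth.Agent.S7080
import Groth.Agent.S7078
import Groth.Agent.Lib.Helper32.TwoTermRep
import Groth.Agent.Lib.Helper32.TwoTermTri
-- import your own Groth.Agent.* helpers here

set_option autoImplicit false
universe u
attribute [local instance] HasDerivedCategory.standard
open CategoryTheory
open DRing

namespace Groth.Agent.S7082
open Pretriangulated DerivedCategory Limits
open Groth.Agent.S14388 (tt)
open Groth.Agent.Lib.Helper32.TwoTerm Groth.Agent.Lib.Helper32.TwoTermRep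
open Groth.Agent.Lib.Helper32.TwoTermTri
open Groth.Agent.S7080 (isGE_of_twoTerm isLE_of_twoTerm)

/-- (1)⇔(3): let R be a commutative ring, I an ideal and K an object of D(R) whose cohomology vanishes
outside degrees -1 and 0. Then I annihilates Ext^1_R(K, N) = Hom_{D(R)}(K, N[1]) for every R-module
N if and only if, for every two-term complex E in degrees -1 and 0 with E^0 projective that
represents K, and every a in I, multiplication by a on E^{-1} factors through the differential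
E^{-1} → E^0. -/
theorem result {R : Type u} [CommRing R] (I : Ideal R) (K : Dual.D R)
    (hK : ∀ i : ℤ, i ≠ -1 → i ≠ 0 → Subsingleton (Dual.HD R K i)) :
    (∀ (N : Type u) [AddCommGroup N] [Module R N] (a : R), a ∈ I →
        ∀ ξ : K ⟶ (Dual.inD R N)⟦(1 : ℤ)⟧, a • ξ = 0) ↔
      ∀ (E : DRing.Cx R), DRing.VanishesOutside E (-1) 0 → Module.Projective R (E.X 0) →
        Nonempty (DRing.toD E ≅ K) → ∀ a : R, a ∈ I →
          ∃ h : E.X 0 ⟶ E.X (-1), E.d (-1) 0 ≫ h = a • 𝟙 (E.X (-1)) := by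
  let t := tt (ModuleCat.{u} R)
  constructor
  · intro H E hE hproj ⟨e⟩ a ha
    obtain ⟨j, ρ, hT⟩ := exists_distTriang E hE
    have h0 := H (E.X (-1)) a ha (e.inv ≫ ρ)
    have h1 : a • ρ = 0 := by
      have : e.hom ≫ (a • (e.inv ≫ ρ)) = a • ρ := by
        rw [Linear.comp_smul, e.hom_inv_id_assoc]
      rw [← this, h0, comp_zero]
    have hT2 := rot_of_distTriang _ (rot_of_distTriang _ hT)
    obtain ⟨u, hu⟩ : ∃ u : ((singleFunctor (ModuleCat.{u} R) 0).obj (E.X 0))⟦(1 : ℤ)⟧ ⟶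
        ((singleFunctor (ModuleCat.{u} R) 0).obj (E.X (-1)))⟦(1 : ℤ)⟧,
        a • 𝟙 (((singleFunctor (ModuleCat.{u} R) 0).obj (E.X (-1)))⟦(1 : ℤ)⟧) =
          (-((singleFunctor (ModuleCat.{u} R) 0).map (E.d (-1) 0))⟦(1 : ℤ)⟧') ≫ u :=
      Triangle.yoneda_exact₂ _ hT2
        (a • 𝟙 (((singleFunctor (ModuleCat.{u} R) 0).obj (E.X (-1)))⟦(1 : ℤ)⟧)) (by
          show ρ ≫ (a • 𝟙 _) = 0
          rw [Linear.comp_smul, Category.comp_id, h1])
    obtain ⟨v, rfl⟩ := (shiftFunctor (Dual.D R) (1 : ℤ)).map_surjective u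
    obtain ⟨h₀, rfl⟩ := (singleFunctor (ModuleCat.{u} R) 0).map_surjective v
    refine ⟨-h₀, ?_⟩
    apply (singleFunctor (ModuleCat.{u} R) 0).map_injective
    apply (shiftFunctor (Dual.D R) (1 : ℤ)).map_injective
    rw [Functor.map_smul, Functor.map_smul, CategoryTheory.Functor.map_id,
      CategoryTheory.Functor.map_id, hu]
    simp
  · intro H N _ _ a ha ξ
    obtain ⟨E, hE, hfree, ⟨e⟩⟩ := Groth.Agent.S7078.result K hK
    obtain ⟨h, hh⟩ := H E hE inferInstance ⟨e⟩ a ha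
    obtain ⟨j, ρ, hT⟩ := exists_distTriang E hE
    have hY : t.IsLE ((Dual.inD R N)⟦(1 : ℤ)⟧) (-1) := t.isLE_shift _ 0 1 (-1)
    have hj : j ≫ (e.hom ≫ ξ) = 0 :=
      @hom_single_projective_eq_zero _ _ (E.X 0) inferInstance _ hY (j ≫ e.hom ≫ ξ)
    obtain ⟨v, hv⟩ : ∃ v : ((singleFunctor (ModuleCat.{u} R) 0).obj (E.X (-1)))⟦(1 : ℤ)⟧ ⟶
        (Dual.inD R N)⟦(1 : ℤ)⟧, e.hom ≫ ξ = ρ ≫ v :=
      Triangle.yoneda_exact₃ _ hT (e.hom ≫ ξ) hj
    have hρ : ρ ≫ ((singleFunctor (ModuleCat.{u} R) 0).map (E.d (-1) 0))⟦(1 : ℤ)⟧' = 0 :=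
      comp_distTriang_mor_zero₃₁ _ hT
    have hid : a • 𝟙 (((singleFunctor (ModuleCat.{u} R) 0).obj (E.X (-1)))⟦(1 : ℤ)⟧) =
        ((singleFunctor (ModuleCat.{u} R) 0).map (E.d (-1) 0))⟦(1 : ℤ)⟧' ≫
          ((singleFunctor (ModuleCat.{u} R) 0).map h)⟦(1 : ℤ)⟧' := by
      rw [← CategoryTheory.Functor.map_comp, ← CategoryTheory.Functor.map_comp, hh,
        Functor.map_smul, Functor.map_smul, CategoryTheory.Functor.map_id,
        CategoryTheory.Functor.map_id]
    have h2 : a • (e.hom ≫ ξ) = 0 := by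
      rw [hv, ← Linear.comp_smul, ← Category.id_comp v, ← Linear.smul_comp, hid, Category.assoc,
        reassoc_of% hρ, zero_comp]
    have : a • ξ = e.inv ≫ (a • (e.hom ≫ ξ)) := by
      rw [Linear.comp_smul, e.inv_hom_id_assoc]
    rw [this, h2, comp_zero]

end Groth.Agent.S7082
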