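import Groth.Statements.S7084
-- import your own Groth.Agent.* helpers here
import Mathlib
import Groth.Agent.Lib.Helper36.PowTorsionTor

set_option autoImplicit false
universe u
attribute [local instance] HasDerivedCategory.standard
open CategoryTheory
open LocCoh

namespace Groth.Agent.S7084

/-- Parts (1)–(2) in the case of a module killed by a power of the ideal: let R be a commutative ring, I
an ideal and K an object of D(R) such that K ⊗^L_R R/I has no cohomology in positive degrees. Then
for every R-module N annihilated by some power of I, K ⊗^L_R N has no cohomology in positive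
degrees. (The published statement allows any I-power torsion module N; this row takes N annihilated
by a single power of I, the case the published argument carries out in full, which contains the case
N = R/I^n.) The derived tensor products with modules are total left derived functors, assumed to
exist. -/
theorem result {R : Type u} [CommRing R] (I : Ideal R)
    [DRing.HasLTensor R (ModuleCat.of R (R ⧸ I))] (K : Dual.D R)
    (hK : ∀ i : ℤ, 0 < i → Subsingleton (Dual.HD R ((DRing.LTensor R (ModuleCat.of R (R ⧸ I))).obj K) i))
    (N : Type u) [AddCommGroup N] [Module R N] (n : ℕ) (hN : I ^ n • (⊤ : Submodule R N) = ⊥)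
    [DRing.HasLTensor R (ModuleCat.of R N)] (i : ℤ) (hi : 0 < i) :
    Subsingleton (Dual.HD R ((DRing.LTensor R (ModuleCat.of R N)).obj K) i) := by
  open Groth.Agent.Lib.Helper36 in
  obtain ⟨P, f, hf, hP, hproj⟩ := KP.exists_resolution (DerivedCategory.Q.objPreimage K)
  have : IsIso (DerivedCategory.Q.map f) := (DerivedCategory.isIso_Q_map_iff_quasiIso _ _).mpr hf
  let e : DRing.toD P ≅ K := asIso (DerivedCategory.Q.map f) ≪≫ DerivedCategory.Q.objObjPreimageIso K
  have hfl : ∀ n, Module.Flat R (P.X n) := fun n => by
    have := hproj n
    infer_instance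
  -- exactness of `P ⊗ R/I` in positive degrees
  have h1 : ∀ j : ℤ, 0 < j → (LT.tensorCx (ModuleCat.of R (R ⧸ I)) P).ExactAt j := fun j hj =>
    LT.exactAt_tensorCx_of_subsingleton _ P e j (hK j hj)
  -- exactness of the reduction of `P` in positive degrees
  have : CochainComplex.IsKProjective (((ModuleCat.extendScalars.{u, u, u}
      (Ideal.Quotient.mk I)).mapHomologicalComplex (ComplexShape.up ℤ)).obj P) :=
    BCKP.isKProjective_extendScalars (Ideal.Quotient.mk I) P
  have h2 : ∀ j : ℤ, 0 < j → (((ModuleCat.extendScalars.{u, u, u}
      (Ideal.Quotient.mk I)).mapHomologicalComplex (ComplexShape.up ℤ)).obj P).ExactAt j :=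
    fun j hj => PowTor.exactAt_extendScalars_of_tensorCx I P j (h1 j hj)
  have h3 : (LT.tensorCx (ModuleCat.of R N) P).ExactAt i := by
    refine PowTor.exactAt_tensorCx_of_pow (Ideal.Quotient.mk I) Ideal.Quotient.mk_surjective P hfl i
      (fun M => PowTor.exactAt_tensorCx_of_exactAbove _ 0 h2 M i hi) (ModuleCat.of R N) n ?_
    intro x hx m
    rw [Ideal.mk_ker] at hx
    have hm : x • m ∈ I ^ n • (⊤ : Submodule R N) :=
      Submodule.smul_mem_smul hx Submodule.mem_top
    rw [hN] at hm
    exact hm
  have e' : (DRing.LTensor R (ModuleCat.of R N)).obj K ≅ DRing.toD (LT.tensorCx (ModuleCat.of R N) P) :=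
    (DRing.LTensor R (ModuleCat.of R N)).mapIso e.symm ≪≫ LT.lTensorObjIso _ P
  exact ModuleCat.subsingleton_of_isZero
    ((PowTor.isZero_HF_of_exactAt _ i h3).of_iso
      ((DerivedCategory.homologyFunctor (ModuleCat.{u} R) i).mapIso e'))

end Groth.Agent.S7084
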