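import Groth.Statements.S7085
import Mathlib.RingTheory.Finiteness.Ideal
-- import your own Groth.Agent.* helpers here

set_option autoImplicit false
universe u
open LocCoh

namespace Groth.Agent.S7085

theorem torsionBy_eq_bot_iff {R : Type u} [CommRing R] (I : Ideal R) (M : Type u) [AddCommGroup M]
    [Module R M] : LocCoh.torsionBy I M = ⊥ ↔ ∀ m : M, (∀ a ∈ I, a • m = 0) → m = 0 := by
  rw [eq_bot_iff]
  constructor
  · intro h m hm
    have : m ∈ LocCoh.torsionBy I M := by
      rw [Submodule.mem_torsionBySet_iff]
      rintro ⟨a, ha⟩
      exact hm a ha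
    exact (Submodule.mem_bot R).mp (h this)
  · intro h m hm
    rw [Submodule.mem_torsionBySet_iff] at hm
    rw [Submodule.mem_bot]
    exact h m (fun a ha => hm ⟨a, ha⟩)

theorem pow_part {R : Type u} [CommRing R] (I : Ideal R) (M : Type u) [AddCommGroup M]
    [Module R M] (h : ∀ m : M, (∀ a ∈ I, a • m = 0) → m = 0) (n : ℕ) (hn : 1 ≤ n) :
    ∀ m : M, (∀ a ∈ I ^ n, a • m = 0) → m = 0 := by
  induction n, hn using Nat.le_induction with
  | base => simpa using h
  | succ n hn ih =>
    intro m hm
    apply ih
    intro b hb
    apply h
    intro a ha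
    rw [← mul_smul]
    apply hm
    rw [pow_succ']
    exact Ideal.mul_mem_mul ha hb

/-- Let R be a commutative ring, I an ideal generated by finitely many elements f_1, …, f_t, and M an
R-module. Then: M has no nonzero element killed by I if and only if it has no nonzero element killed
by I^n for every n ≥ 1; and M has no nonzero element killed by I if and only if an element of M
vanishing in every localization M_{f_i} is zero. -/
theorem result {R : Type u} [CommRing R] {t : ℕ} (f : Fin t → R)
    (I : Ideal R) (hI : Ideal.span (Set.range f) = I) (M : Type u) [AddCommGroup M] [Module R M] :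
    (LocCoh.torsionBy I M = ⊥ ↔ ∀ n : ℕ, 1 ≤ n → LocCoh.torsionBy (I ^ n) M = ⊥) ∧
    (LocCoh.torsionBy I M = ⊥ ↔
      ∀ m : M, (∀ i : Fin t, LocalizedModule.mkLinearMap (Submonoid.powers (f i)) M m = 0) → m = 0) := by
  constructor
  · constructor
    · intro h n hn
      rw [torsionBy_eq_bot_iff] at h ⊢
      exact pow_part I M h n hn
    · intro h
      simpa using h 1 le_rfl
  · rw [torsionBy_eq_bot_iff]
    constructor
    · intro h m hm
      have hfg : I.FG := by
        rw [← hI]
        exact Submodule.fg_span (Set.finite_range f)
      have h1 : I ≤ ((R ∙ m).annihilator).radical := by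
        rw [← hI, Ideal.span_le]
        rintro _ ⟨i, rfl⟩
        obtain ⟨⟨_, k, rfl⟩, hk⟩ :=
          (IsLocalizedModule.eq_zero_iff (Submonoid.powers (f i))
            (LocalizedModule.mkLinearMap (Submonoid.powers (f i)) M)).mp (hm i)
        refine ⟨k, ?_⟩
        rw [Submodule.mem_annihilator_span_singleton]
        exact hk
      obtain ⟨N, hN⟩ := Ideal.exists_pow_le_of_le_radical_of_fg h1 hfg
      have hkill : ∀ a ∈ I ^ N, a • m = 0 := fun a ha => by
        have := hN ha
        rwa [Submodule.mem_annihilator_span_singleton] at this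
      rcases Nat.eq_zero_or_pos N with h0 | hpos
      · subst h0
        have := hkill 1 (by simp)
        simpa using this
      · exact pow_part I M h N hpos m hkill
    · intro h m hm
      apply h
      intro i
      rw [IsLocalizedModule.eq_zero_iff (Submonoid.powers (f i))]
      refine ⟨⟨f i, Submonoid.mem_powers _⟩, ?_⟩
      apply hm
      rw [← hI]
      exact Ideal.subset_span ⟨i, rfl⟩

end Groth.Agent.S7085
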