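import Groth.Statements.S7087
import Mathlib.Algebra.BigOperators.Pi
import Mathlib.Algebra.Module.BigOperators
import Mathlib.Algebra.BigOperators.GroupWithZero.Action
-- import your own Groth.Agent.* helpers here

set_option autoImplicit false
universe u
open LocCoh

namespace Groth.Agent.S7087

/-- Let R be a commutative ring and f_1, …, f_n elements generating an ideal I. Let M be the module with
generators e_1, …, e_n and relations f_i e_j = f_j e_i. Then e_i ↦ f_i defines a surjection M → I
whose kernel is annihilated by I. Elementwise: if a tuple (a_1, …, a_n) in R^n satisfies Σ a_i f_i =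
0, then for every b in I the tuple b • a lies in the submodule of R^n spanned by the vectors f_i e_j
− f_j e_i. -/
theorem result {R : Type u} [CommRing R] {n : ℕ} (f : Fin n → R)
    (a : Fin n → R) (ha : ∑ i, a i * f i = 0) (b : R) (hb : b ∈ Ideal.span (Set.range f)) :
    b • a ∈ Submodule.span R {v : Fin n → R | ∃ i j : Fin n, v = f i • Pi.single j (1 : R) - f j • Pi.single i (1 : R)} := by
  set W := Submodule.span R {v : Fin n → R | ∃ i j : Fin n, v = f i • Pi.single j (1 : R) - f j • Pi.single i (1 : R)} with hW
  refine Submodule.span_induction ?_ ?_ ?_ ?_ hb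
  · rintro _ ⟨k, rfl⟩
    -- `f k • a = ∑ j, a j • (f k • e j - f j • e k)`
    have h1 : f k • a = ∑ j, a j • (f k • Pi.single j (1 : R) - f j • Pi.single k (1 : R)) := by
      ext l
      simp only [Pi.smul_apply, smul_eq_mul, Finset.sum_apply, Pi.sub_apply, Pi.single_apply,
        mul_sub, Finset.sum_sub_distrib]
      simp only [mul_ite, mul_one, mul_zero, Finset.sum_ite_eq, Finset.mem_univ, if_true]
      by_cases hlk : l = k
      · subst hlk
        simp only [if_true, ha, sub_zero]
        ring
      · simp only [hlk, if_false, Finset.sum_const_zero, sub_zero]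
        ring
    rw [h1]
    refine Submodule.sum_mem _ (fun j _ => Submodule.smul_mem _ _ (Submodule.subset_span ⟨k, j, rfl⟩))
  · rw [zero_smul]; exact Submodule.zero_mem _
  · intro x y _ _ hx hy
    rw [add_smul]; exact Submodule.add_mem _ hx hy
  · intro c x _ hx
    rw [smul_eq_mul, mul_smul]; exact Submodule.smul_mem _ c hx

end Groth.Agent.S7087
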