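import Groth.Statements.S7088
-- import your own Groth.Agent.* helpers here
import Mathlib
import Groth.Agent.Lib.Helper36.HomCxKFlat.Single
import Groth.Agent.Lib.Helper12.DRingTower

set_option autoImplicit false
universe u
attribute [local instance] HasDerivedCategory.standard
open CategoryTheory MonoidalCategory
open DRing

namespace Groth.Agent.S7088

/-- Let R be a commutative ring, P a bounded above cochain complex of projective R-modules whose image
in D(R) is perfect, and K a K-flat complex of R-modules (tensoring with K carries acyclic complexes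
to acyclic complexes). Then the Hom complex Hom•(P, K) is again K-flat. -/
theorem result {R : Type u} [CommRing R] (P K : DRing.Cx R) (b : ℤ)
    (hPb : DRing.VanishesAbove P b) (hPp : ∀ i : ℤ, Module.Projective R (P.X i))
    (hperf : DRing.IsPerfect R (DRing.toD P))
    (hK : ∀ L : DRing.Cx R, (∀ i : ℤ, Limits.IsZero (L.homology i)) →
      ∀ i : ℤ, Limits.IsZero (((tensorRight K).obj L).homology i)) :
    ∀ L : DRing.Cx R, (∀ i : ℤ, Limits.IsZero (L.homology i)) →
      ∀ i : ℤ, Limits.IsZero (((tensorRight (DRing.homCx P K)).obj L).homology i) := by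
  obtain ⟨E, a, c, hE, hfp, ⟨e⟩⟩ := hperf
  have hKP : P.IsKProjective :=
    Groth.Agent.Lib.Helper12.isKProjective_of_vanishesAbove P b hPb hPp
  have hKE : E.IsKProjective :=
    Groth.Agent.Lib.Helper12.isKProjective_of_vanishesAbove E c
      (Groth.Agent.Lib.Helper12.vanishesAbove_of_vanishesOutside hE) (fun i => (hfp i).2)
  obtain ⟨f, hf⟩ := Groth.Agent.Lib.Helper12.exists_map_of_isKProjective E P e.hom
  obtain ⟨g, hg⟩ := Groth.Agent.Lib.Helper12.exists_map_of_isKProjective P E e.inv
  obtain ⟨h1⟩ := Groth.Agent.Lib.Helper12.homotopy_of_Q_map_eq E E (f ≫ g) (𝟙 E) (by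
    rw [Functor.map_comp, hf, hg, e.hom_inv_id, CategoryTheory.Functor.map_id])
  obtain ⟨h2⟩ := Groth.Agent.Lib.Helper12.homotopy_of_Q_map_eq P P (g ≫ f) (𝟙 P) (by
    rw [Functor.map_comp, hf, hg, e.inv_hom_id, CategoryTheory.Functor.map_id])
  have hKF : Groth.Agent.Lib.Helper94.KFlatRing.KF R K := hK
  exact Groth.Agent.Lib.Helper36.HKF.pk_of_homotopyEquiv K ⟨f, g, h1, h2⟩
    (Groth.Agent.Lib.Helper36.HKF.pk_of_strictlyPerfect K hKF E a c hE hfp)

end Groth.Agent.S7088
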