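import Groth.Statements.S7089
import Mathlib

set_option autoImplicit false
universe u
open CategoryTheory
open LocCoh

namespace Groth.Agent.S7089

open CategoryTheory.Limits

section Construction

variable {R : Type u} [CommRing R] (I : Ideal R)

/-- index type: pairs `(x, n)` with `I ^ n • x = 0` -/
abbrev Idx (X : ModuleCat.{u} R) : Type u := {p : X × ℕ // ∀ a ∈ I ^ p.2, a • p.1 = 0}

open scoped Classical in
/-- the direct sum of the `R / I ^ n` over all pairs `(x, n)` with `I ^ n • x = 0` -/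
noncomputable def ovr (X : ModuleCat.{u} R) : ModuleCat.{u} R :=
  ModuleCat.of R (DirectSum (Idx I X) fun j => R ⧸ I ^ j.1.2)

open scoped Classical in
noncomputable def εLin (X : ModuleCat.{u} R) :
    (DirectSum (Idx I X) fun j => R ⧸ I ^ j.1.2) →ₗ[R] X :=
  DirectSum.toModule R (Idx I X) X (fun j => Submodule.liftQ (I ^ j.1.2)
    (LinearMap.toSpanSingleton R X j.1.1) (by
      intro a ha
      rw [LinearMap.mem_ker, LinearMap.toSpanSingleton_apply]
      exact j.2 a ha))

noncomputable def ε (X : ModuleCat.{u} R) : ovr I X ⟶ X := ModuleCat.ofHom (εLin I X)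

open scoped Classical in
theorem εLin_surjective (X : ModuleCat.{u} R) (hX : IsPowerTorsion I X) :
    Function.Surjective (εLin I X) := by
  intro x
  obtain ⟨n, hn⟩ := hX x
  let j : Idx I X := ⟨(x, n), hn⟩
  refine ⟨DirectSum.lof R (Idx I X) (fun j => R ⧸ I ^ j.1.2) j (Submodule.Quotient.mk 1), ?_⟩
  unfold εLin
  rw [DirectSum.toModule_lof]
  show Submodule.liftQ _ _ _ (Submodule.Quotient.mk 1) = x
  rw [Submodule.liftQ_apply, LinearMap.toSpanSingleton_apply, one_smul]

theorem epi_ε (X : ModuleCat.{u} R) (hX : IsPowerTorsion I X) : Epi (ε I X) := by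
  rw [ModuleCat.epi_iff_surjective]
  exact εLin_surjective I X hX

open scoped Classical in
theorem torsion_directSum (X : ModuleCat.{u} R)
    (z : DirectSum (Idx I X) fun j => R ⧸ I ^ j.1.2) : ∃ n : ℕ, ∀ a ∈ I ^ n, a • z = 0 := by
  induction z using DirectSum.induction_on with
  | zero => exact ⟨0, fun a _ => smul_zero a⟩
  | of j q =>
    refine ⟨j.1.2, fun a ha => ?_⟩
    obtain ⟨r, rfl⟩ := Submodule.Quotient.mk_surjective _ q
    have h1 : a • (Submodule.Quotient.mk r : R ⧸ I ^ j.1.2) = 0 := by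
      rw [← Submodule.Quotient.mk_smul, Submodule.Quotient.mk_eq_zero, smul_eq_mul]
      exact Ideal.mul_mem_right _ _ ha
    rw [← DirectSum.lof_eq_of R, ← map_smul, h1, map_zero]
  | add x y hx hy =>
    obtain ⟨n, hn⟩ := hx
    obtain ⟨m, hm⟩ := hy
    refine ⟨max n m, fun a ha => ?_⟩
    have h1 := hn a (Ideal.pow_le_pow_right (le_max_left n m) ha)
    have h2 := hm a (Ideal.pow_le_pow_right (le_max_right n m) ha)
    rw [smul_add, h1, h2, add_zero]

theorem isPowerTorsion_ovr (X : ModuleCat.{u} R) : IsPowerTorsion I (ovr I X) :=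
  fun z => torsion_directSum I X z

theorem isPowerTorsion_kernel {X Y : ModuleCat.{u} R} (f : X ⟶ Y) (hX : IsPowerTorsion I X) :
    IsPowerTorsion I (kernel f : ModuleCat.{u} R) := by
  intro x
  obtain ⟨n, hn⟩ := hX ((kernel.ι f).hom x)
  refine ⟨n, fun a ha => ?_⟩
  have hinj : Function.Injective (kernel.ι f).hom := (ModuleCat.mono_iff_injective _).mp inferInstance
  apply hinj
  rw [map_smul, hn a ha, map_zero]

/-- the syzygy step -/
noncomputable def syz {X Y : ModuleCat.{u} R} (f : X ⟶ Y) : ModuleCat.{u} R := ovr I (kernel f)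

noncomputable def dF {X Y : ModuleCat.{u} R} (f : X ⟶ Y) : syz I f ⟶ X := ε I (kernel f) ≫ kernel.ι f

@[reassoc (attr := simp)]
theorem dF_comp {X Y : ModuleCat.{u} R} (f : X ⟶ Y) : dF I f ≫ f = 0 := by
  simp [dF]

theorem exact_dF_f {X Y : ModuleCat.{u} R} (f : X ⟶ Y) (hX : IsPowerTorsion I X) :
    (ShortComplex.mk (dF I f) f (dF_comp I f)).Exact := by
  have hepi : Epi (ε I (kernel f)) := epi_ε I _ (isPowerTorsion_kernel I f hX)
  let α : ShortComplex.mk (dF I f) f (dF_comp I f) ⟶ ShortComplex.mk (kernel.ι f) f (by simp) :=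
    { τ₁ := ε I (kernel f)
      τ₂ := 𝟙 _
      τ₃ := 𝟙 _
      comm₁₂ := by simp [dF]
      comm₂₃ := by simp }
  haveI : Epi α.τ₁ := hepi
  haveI : IsIso α.τ₂ := by dsimp [α]; infer_instance
  haveI : Mono α.τ₃ := by dsimp [α]; infer_instance
  rw [ShortComplex.exact_iff_of_epi_of_isIso_of_mono α]
  apply ShortComplex.exact_of_f_is_kernel
  apply kernelIsKernel

/-- the resolution -/
noncomputable def cx (Z : ModuleCat.{u} R) : ChainComplex (ModuleCat.{u} R) ℕ :=
  ChainComplex.mk' (ovr I Z) (syz I (ε I Z)) (dF I (ε I Z)) (fun f => ⟨_, dF I f, by simp⟩)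

theorem cx_d_1_0 (Z : ModuleCat.{u} R) : (cx I Z).d 1 0 = dF I (ε I Z) := by
  simp [cx]

theorem cx_exactAt_succ (Z : ModuleCat.{u} R) (n : ℕ) : (cx I Z).ExactAt (n + 1) := by
  rw [HomologicalComplex.exactAt_iff' _ (n + 1 + 1) (n + 1) n (by simp) (by simp)]
  simp only [HomologicalComplex.sc', HomologicalComplex.shortComplexFunctor', cx,
    ChainComplex.mk', ChainComplex.mk, ChainComplex.of_d]
  match n with
  | 0 =>
    apply exact_dF_f
    exact isPowerTorsion_ovr I _
  | 1 =>
    apply exact_dF_f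
    exact isPowerTorsion_ovr I _
  | n + 2 =>
    apply exact_dF_f
    exact isPowerTorsion_ovr I _

theorem cx_X_iso (Z : ModuleCat.{u} R) (i : ℕ) : ∃ (ι : Type u) (n : ι → ℕ),
    Nonempty ((cx I Z).X i ≅ ModuleCat.of R (DirectSum ι fun j => R ⧸ I ^ n j)) := by
  classical
  obtain (_ | _ | _ | n) := i <;> exact ⟨_, _, ⟨Iso.refl _⟩⟩

end Construction

/-- Let R be a commutative ring, I an ideal and M an R-module in which every element is killed by a
power of I. Then M has a left resolution by modules each of which is a direct sum of copies of R/I^n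
for varying n: there are a chain complex K of R-modules, a quasi-isomorphism from K to M placed in
degree 0, and for each i an isomorphism of K_i with such a direct sum. -/
theorem result {R : Type u} [CommRing R] (I : Ideal R)
    (M : Type u) [AddCommGroup M] [Module R M] (hM : LocCoh.IsPowerTorsion I M) :
    ∃ (K : ChainComplex (ModuleCat.{u} R) ℕ) (π : K ⟶ (ChainComplex.single₀ (ModuleCat.{u} R)).obj (ModuleCat.of R M)),
      QuasiIso π ∧ ∀ i : ℕ, ∃ (ι : Type u) (n : ι → ℕ),
        Nonempty (K.X i ≅ ModuleCat.of R (DirectSum ι fun j => R ⧸ I ^ n j)) := by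
  let Z : ModuleCat.{u} R := ModuleCat.of R M
  have hZ : IsPowerTorsion I Z := hM
  let π : cx I Z ⟶ (ChainComplex.single₀ (ModuleCat.{u} R)).obj Z :=
    (ChainComplex.toSingle₀Equiv _ _).symm ⟨ε I Z, by rw [cx_d_1_0]; exact dF_comp I (ε I Z)⟩
  refine ⟨cx I Z, π, ⟨fun n => ?_⟩, fun i => cx_X_iso I Z i⟩
  cases n
  · rw [ChainComplex.quasiIsoAt₀_iff, ShortComplex.quasiIso_iff_of_zeros']
    · haveI : Epi (ε I Z) := epi_ε I Z hZ
      refine (ShortComplex.exact_and_epi_g_iff_of_iso ?_).2
        ⟨exact_dF_f I (ε I Z) (isPowerTorsion_ovr I Z), by dsimp; infer_instance⟩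
      exact ShortComplex.isoMk (Iso.refl _) (Iso.refl _) (Iso.refl _)
        (by
          dsimp
          erw [Category.id_comp])
        (by
          dsimp
          erw [Category.id_comp])
    all_goals rfl
  · rw [quasiIsoAt_iff_exactAt']
    · apply cx_exactAt_succ
    · apply ChainComplex.exactAt_succ_single_obj

end Groth.Agent.S7089
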