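import Groth.Statements.S7090
import Groth.Agent.S2009
import Mathlib

set_option autoImplicit false
universe u
open TensorProduct
open EtAlg

namespace Groth.Agent.S7090

open Groth.Agent.Lib.Helper10.BL

section Core

variable {R S : Type u} [CommRing R] [CommRing S] [Algebra R S]
  {t : ℕ} (f : Fin t → R) (I : Ideal R) (hI : Ideal.span (Set.range f) = I)

include hI in
/-- an element killed by powers of all the generators is killed by a power of `I` -/
theorem exists_pow_kill {M : Type u} [AddCommGroup M] [Module R M] (m : M)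
    (h : ∀ i, ∃ n : ℕ, f i ^ n • m = 0) : ∃ n : ℕ, ∀ a ∈ I ^ n, a • m = 0 := by
  subst hI
  have h1 : Ideal.span (Set.range f) ≤ (Ideal.torsionOf R M m).radical := by
    rw [Ideal.span_le]
    rintro _ ⟨i, rfl⟩
    obtain ⟨n, hn⟩ := h i
    exact ⟨n, (Ideal.mem_torsionOf_iff _ _).mpr hn⟩
  obtain ⟨n, hn⟩ := Ideal.exists_pow_le_of_le_radical_of_fg h1
    (Submodule.fg_span (Set.finite_range f))
  exact ⟨n, fun a ha => (Ideal.mem_torsionOf_iff _ _).mp (hn ha)⟩

/-- elements of `S ⊗ (Fin t → M)` are determined by their components -/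
theorem ext_pi {M : Type u} [AddCommGroup M] [Module R M] (a b : S ⊗[R] (Fin t → M))
    (h : ∀ i, LinearMap.lTensor S (LinearMap.proj i : (Fin t → M) →ₗ[R] M) a =
      LinearMap.lTensor S (LinearMap.proj i : (Fin t → M) →ₗ[R] M) b) : a = b := by
  apply (TensorProduct.piRight R R S (fun _ : Fin t => M)).injective
  have key : ∀ (c : S ⊗[R] (Fin t → M)) (i : Fin t),
      (TensorProduct.piRight R R S (fun _ : Fin t => M) c) i =
        LinearMap.lTensor S (LinearMap.proj i : (Fin t → M) →ₗ[R] M) c := by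
    intro c i
    induction c using TensorProduct.induction_on with
    | zero => simp
    | tmul s v => simp
    | add x y hx hy => rw [map_add, Pi.add_apply, hx, hy, map_add]
  funext i
  rw [key, key, h]

variable (hsurj : ∀ s : S, ∃ r : R, s - algebraMap R S r ∈ I.map (algebraMap R S))
  (hinj : ∀ r : R, algebraMap R S r ∈ I.map (algebraMap R S) → r ∈ I)

include hI hsurj hinj in
/-- part (1) -/
theorem eq_zero_of_tmul_eq_zero [Module.Flat R S] {M : Type u} [AddCommGroup M] [Module R M] (m : M)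
    (h1 : (1 : S) ⊗ₜ[R] m = 0) (h : ∀ i, ∃ n : ℕ, f i ^ n • m = 0) : m = 0 := by
  obtain ⟨n, hn⟩ := exists_pow_kill f I hI m h
  let T : Submodule R M := Submodule.span R {m}
  have hmT : m ∈ T := Submodule.mem_span_singleton_self m
  have hT : ∀ x : T, ∃ n : ℕ, ∀ a ∈ I ^ n, a • x = 0 := by
    rintro ⟨x, hx⟩
    obtain ⟨r, rfl⟩ := Submodule.mem_span_singleton.mp hx
    refine ⟨n, fun a ha => ?_⟩
    apply Subtype.ext
    show a • r • m = 0
    rw [smul_comm, hn a ha, smul_zero]
  have h2 : (1 : S) ⊗ₜ[R] (⟨m, hmT⟩ : T) = 0 := by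
    apply Module.Flat.lTensor_preserves_injective_linearMap (M := S) T.subtype T.injective_subtype
    rw [LinearMap.lTensor_tmul, map_zero]
    exact h1
  have h3 := (Groth.Agent.S2009.bijective_of_torsion I hsurj hinj T hT).1
  have h4 : (⟨m, hmT⟩ : T) = 0 := by
    apply h3
    rw [TensorProduct.mk_apply, h2, map_zero]
  exact congrArg Subtype.val h4

include hI hsurj hinj in
/-- part (2), normalised form -/
theorem core [Module.Flat R S] {M : Type u} [AddCommGroup M] [Module R M] (x : S ⊗[R] M) (N : ℕ)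
    (m : Fin t → M) (hx : ∀ i, f i ^ N • x = (1 : S) ⊗ₜ[R] m i)
    (hc : ∀ i j, f j ^ N • m i = f i ^ N • m j) :
    ∃ μ : M, (1 : S) ⊗ₜ[R] μ = x ∧ ∀ i, f i ^ N • μ = m i := by
  let φ : M →ₗ[R] (Fin t → M) := LinearMap.pi fun i => (f i ^ N) • (LinearMap.id : M →ₗ[R] M)
  have hφ : ∀ μ i, φ μ i = f i ^ N • μ := fun μ i => rfl
  let Z : Submodule R (Fin t → M) :=
    { carrier := {v | ∀ i j, f j ^ N • v i = f i ^ N • v j}
      add_mem' := fun {v w} hv hw i j => by
        rw [Pi.add_apply, Pi.add_apply, smul_add, smul_add, hv i j, hw i j]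
      zero_mem' := fun i j => by simp
      smul_mem' := fun c v hv i j => by
        rw [Pi.smul_apply, Pi.smul_apply, smul_comm, hv i j, smul_comm] }
  have hφZ : ∀ μ, φ μ ∈ Z := fun μ i j => by rw [hφ, hφ, smul_comm]
  let φZ : M →ₗ[R] Z := φ.codRestrict Z hφZ
  let π : Z →ₗ[R] Z ⧸ LinearMap.range φZ := (LinearMap.range φZ).mkQ
  have hex : Function.Exact φZ π := LinearMap.exact_map_mkQ_range φZ
  have hπ : Function.Surjective π := Submodule.mkQ_surjective _
  -- the cokernel is torsion
  have hC : ∀ c : Z ⧸ LinearMap.range φZ, ∃ n : ℕ, ∀ a ∈ I ^ n, a • c = 0 := by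
    intro c
    apply exists_pow_kill f I hI c
    intro j
    obtain ⟨v, rfl⟩ := hπ c
    refine ⟨N, ?_⟩
    rw [← map_smul]
    apply (hex _).mpr
    refine ⟨v.1 j, ?_⟩
    apply Subtype.ext
    funext i
    show f i ^ N • v.1 j = f j ^ N • v.1 i
    exact (v.2 i j).symm
  let v0 : Z := ⟨m, hc⟩
  have hv0 : LinearMap.lTensor S φZ x = (1 : S) ⊗ₜ[R] v0 := by
    apply Module.Flat.lTensor_preserves_injective_linearMap (M := S) Z.subtype Z.injective_subtype
    apply ext_pi
    intro i
    rw [← LinearMap.lTensor_comp_apply, ← LinearMap.lTensor_comp_apply, LinearMap.lTensor_tmul,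
      LinearMap.lTensor_tmul]
    have : ((LinearMap.proj i : (Fin t → M) →ₗ[R] M) ∘ₗ Z.subtype) ∘ₗ φZ =
        (f i ^ N) • (LinearMap.id : M →ₗ[R] M) := by
      ext μ
      rfl
    rw [this, LinearMap.lTensor_smul, LinearMap.lTensor_id, LinearMap.smul_apply,
      LinearMap.id_apply, hx i]
    rfl
  have h0 : (1 : S) ⊗ₜ[R] (π v0) = 0 := by
    have := (lTensor_exact S hex hπ).apply_apply_eq_zero x
    rw [hv0, LinearMap.lTensor_tmul] at this
    exact this
  have h1 : π v0 = 0 := by
    apply (Groth.Agent.S2009.bijective_of_torsion I hsurj hinj _ hC).1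
    rw [TensorProduct.mk_apply, h0, map_zero]
  obtain ⟨μ0, hμ0⟩ := (hex v0).mp h1
  have hμ0' : ∀ i, f i ^ N • μ0 = m i := fun i => by
    have := congrFun (congrArg Subtype.val hμ0) i
    exact this
  -- now the kernel
  have hexK : Function.Exact (LinearMap.ker φ).subtype φ := LinearMap.exact_subtype_ker_map φ
  have hx' : LinearMap.lTensor S φ (x - (1 : S) ⊗ₜ[R] μ0) = 0 := by
    apply ext_pi
    intro i
    rw [← LinearMap.lTensor_comp_apply, map_zero]
    have : (LinearMap.proj i : (Fin t → M) →ₗ[R] M) ∘ₗ φ =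
        (f i ^ N) • (LinearMap.id : M →ₗ[R] M) := by
      ext μ
      rfl
    rw [this, LinearMap.lTensor_smul, LinearMap.lTensor_id, LinearMap.smul_apply,
      LinearMap.id_apply, smul_sub, hx i, TensorProduct.smul_tmul', TensorProduct.smul_tmul,
      hμ0' i, sub_self]
  obtain ⟨z, hz⟩ := (Module.Flat.lTensor_exact S hexK _).mp hx'
  have hK : ∀ k : LinearMap.ker φ, ∃ n : ℕ, ∀ a ∈ I ^ n, a • k = 0 := by
    intro k
    apply exists_pow_kill f I hI k
    intro i
    refine ⟨N, ?_⟩
    apply Subtype.ext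
    have := congrFun (LinearMap.mem_ker.mp k.2) i
    exact this
  obtain ⟨k, hk⟩ := (Groth.Agent.S2009.bijective_of_torsion I hsurj hinj _ hK).2 z
  rw [TensorProduct.mk_apply] at hk
  rw [← hk, LinearMap.lTensor_tmul] at hz
  refine ⟨μ0 + k.1, ?_, ?_⟩
  · rw [TensorProduct.tmul_add]
    have : (1 : S) ⊗ₜ[R] (k.1 : M) = x - (1 : S) ⊗ₜ[R] μ0 := hz
    rw [this]
    abel
  · intro i
    have := congrFun (LinearMap.mem_ker.mp k.2) i
    have h2 : f i ^ N • (k.1 : M) = 0 := this
    rw [smul_add, hμ0' i, h2, add_zero]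

end Core

/-- Let R → S be a flat homomorphism of commutative rings and I = (f_1, …, f_t) a finitely generated
ideal such that R/I → S/IS is bijective. Then for every R-module M the glueing complex 0 → M → (S
⊗_R M) × ∏ M_{f_i} → ∏ (S ⊗_R M)_{f_i} × ∏ M_{f_i f_j} is exact. Concretely: an element of M with
zero image in S ⊗_R M and in every M_{f_i} is zero; and given x in S ⊗_R M and elements m_1, …, m_t
of M and N ≥ 0 such that x and m_i / f_i^N have the same image in (S ⊗_R M)_{f_i} for each i, and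
m_i / f_i^N, m_j / f_j^N have the same image in M_{f_i f_j} for all i, j, there is m in M with 1 ⊗ m
= x and m / 1 = m_i / f_i^N in M_{f_i} for every i. -/
theorem result {R S : Type u} [CommRing R] [CommRing S] [Algebra R S] [Module.Flat R S]
    {t : ℕ} (f : Fin t → R) (I : Ideal R) (hI : Ideal.span (Set.range f) = I)
    (hq : Function.Bijective
      (Ideal.quotientMap (Ideal.map (algebraMap R S) I) (algebraMap R S) Ideal.le_comap_map))
    (M : Type u) [AddCommGroup M] [Module R M] :
    (∀ m : M, (1 : S) ⊗ₜ[R] m = 0 →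
        (∀ i : Fin t, LocalizedModule.mkLinearMap (Submonoid.powers (f i)) M m = 0) → m = 0) ∧
    ∀ (x : S ⊗[R] M) (N : ℕ) (m : Fin t → M),
      (∀ i : Fin t, EtGlue.locOfTensor R S (f i) M x =
          EtGlue.tensorOfLoc R S (f i) M (LocalizedModule.mk (m i) ⟨f i ^ N, Submonoid.pow_mem _ (Submonoid.mem_powers (f i)) N⟩)) →
      (∀ i j : Fin t, ∃ e : ℕ, (f i * f j) ^ e • (f j ^ N • m i - f i ^ N • m j) = 0) →
        ∃ μ : M, (1 : S) ⊗ₜ[R] μ = x ∧
          ∀ i : Fin t, LocalizedModule.mkLinearMap (Submonoid.powers (f i)) M μ =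
            LocalizedModule.mk (m i) ⟨f i ^ N, Submonoid.pow_mem _ (Submonoid.mem_powers (f i)) N⟩ := by
  have hsurj : ∀ s : S, ∃ r : R, s - algebraMap R S r ∈ I.map (algebraMap R S) := by
    intro s
    obtain ⟨q, hq'⟩ := hq.2 (Ideal.Quotient.mk _ s)
    obtain ⟨r, rfl⟩ := Ideal.Quotient.mk_surjective q
    refine ⟨r, ?_⟩
    rw [Ideal.quotientMap_mk] at hq'
    have := (Ideal.Quotient.eq).mp hq'
    rw [← neg_sub]
    exact neg_mem this
  have hinj : ∀ r : R, algebraMap R S r ∈ I.map (algebraMap R S) → r ∈ I := by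
    intro r hr
    rw [← Ideal.Quotient.eq_zero_iff_mem]
    apply hq.1
    rw [Ideal.quotientMap_mk, map_zero, Ideal.Quotient.eq_zero_iff_mem]
    exact hr
  refine ⟨?_, ?_⟩
  · intro m h1 h2
    apply eq_zero_of_tmul_eq_zero f I hI hsurj hinj m h1
    intro i
    exact (mkLinearMap_eq_zero_iff (f := f i) M m).mp (h2 i)
  · intro x N m h1 h2
    -- extract the exponents
    have h1' : ∀ i, ∃ e : ℕ, f i ^ e • (f i ^ N • x) = f i ^ e • ((1 : S) ⊗ₜ[R] m i) := by
      intro i
      have := h1 i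
      rw [tensorOfLoc_mk] at this
      unfold EtGlue.locOfTensor at this
      rw [LocalizedModule.mkLinearMap_apply, LocalizedModule.mk_eq] at this
      obtain ⟨⟨_, k, rfl⟩, hk⟩ := this
      simp only [Submonoid.smul_def, one_smul] at hk
      exact ⟨k, hk⟩
    choose e1 he1 using h1'
    choose e2 he2 using h2
    let E : ℕ := (Finset.univ.sup e1) ⊔ (Finset.univ.sup fun i => Finset.univ.sup (e2 i))
    have hE1 : ∀ i, e1 i ≤ E := fun i =>
      le_trans (Finset.le_sup (f := e1) (Finset.mem_univ i)) le_sup_left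
    have hE2 : ∀ i j, e2 i j ≤ E := fun i j =>
      le_trans (le_trans (Finset.le_sup (f := e2 i) (Finset.mem_univ j))
        (Finset.le_sup (f := fun i => Finset.univ.sup (e2 i)) (Finset.mem_univ i))) le_sup_right
    have hx : ∀ i, f i ^ (N + E) • x = (1 : S) ⊗ₜ[R] (f i ^ E • m i) := by
      intro i
      obtain ⟨d, hd⟩ := Nat.exists_eq_add_of_le (hE1 i)
      rw [pow_add, mul_comm, mul_smul, hd, pow_add, mul_comm, mul_smul, he1 i, ← mul_smul,
        TensorProduct.smul_tmul', TensorProduct.smul_tmul]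
    have hc : ∀ i j, f j ^ (N + E) • (f i ^ E • m i) = f i ^ (N + E) • (f j ^ E • m j) := by
      intro i j
      rw [← sub_eq_zero]
      obtain ⟨d, hd⟩ := Nat.exists_eq_add_of_le (hE2 i j)
      have : f j ^ (N + E) • (f i ^ E • m i) - f i ^ (N + E) • (f j ^ E • m j) =
          (f i * f j) ^ d • ((f i * f j) ^ e2 i j • (f j ^ N • m i - f i ^ N • m j)) := by
        have c1 : (f i * f j) ^ d * ((f i * f j) ^ e2 i j * f j ^ N) = f j ^ (N + E) * f i ^ E := by
          rw [hd]; ring
        have c2 : (f i * f j) ^ d * ((f i * f j) ^ e2 i j * f i ^ N) = f i ^ (N + E) * f j ^ E := by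
          rw [hd]; ring
        calc f j ^ (N + E) • (f i ^ E • m i) - f i ^ (N + E) • (f j ^ E • m j)
            = (f j ^ (N + E) * f i ^ E) • m i - (f i ^ (N + E) * f j ^ E) • m j := by
              rw [mul_smul, mul_smul]
          _ = ((f i * f j) ^ d * ((f i * f j) ^ e2 i j * f j ^ N)) • m i -
                ((f i * f j) ^ d * ((f i * f j) ^ e2 i j * f i ^ N)) • m j := by rw [c1, c2]
          _ = _ := by
              rw [mul_smul, mul_smul, mul_smul, mul_smul, ← smul_sub, ← smul_sub]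
      rw [this, he2 i j, smul_zero]
    obtain ⟨μ, hμ1, hμ2⟩ := core f I hI hsurj hinj x (N + E) (fun i => f i ^ E • m i) hx hc
    refine ⟨μ, hμ1, fun i => ?_⟩
    rw [LocalizedModule.mkLinearMap_apply, LocalizedModule.mk_eq]
    refine ⟨⟨f i ^ E, E, rfl⟩, ?_⟩
    simp only [Submonoid.smul_def, one_smul]
    rw [← hμ2 i, ← mul_smul, ← pow_add, add_comm]

end Groth.Agent.S7090
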