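import Groth.Statements.S7092
-- import your own Groth.Agent.* helpers here
import Mathlib
import Groth.Agent.Lib.Helper36.DerivedCompletionCone

set_option autoImplicit false
universe u
attribute [local instance] HasDerivedCategory.standard
open CategoryTheory
open DRing

namespace Groth.Agent.S7092

/-- Let A be a commutative ring, I an ideal generated by a finite set of r elements, and assume the
derived completion functor exists. If a morphism K → L in D(A) induces isomorphisms on cohomology in
degrees ≤ -1 and an injection in degree 0, then the induced morphism of derived completions induces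
isomorphisms on cohomology in degrees ≤ -r-1 and an injection in degree -r. -/
theorem result {A : Type u} [CommRing A] (I : Ideal A) (s : Finset A)
    (hs : Ideal.span (s : Set A) = I) [DRing.HasDerivedCompletion I] {K L : Dual.D A} (φ : K ⟶ L)
    (hiso : ∀ i : ℤ, i ≤ -1 → IsIso ((DerivedCategory.homologyFunctor (ModuleCat.{u} A) i).map φ))
    (hmono : Mono ((DerivedCategory.homologyFunctor (ModuleCat.{u} A) 0).map φ)) :
    (∀ i : ℤ, i ≤ -(s.card : ℤ) - 1 → IsIso ((DerivedCategory.homologyFunctor (ModuleCat.{u} A) i).map
        ((DRing.derivedCompletion I).map φ).hom)) ∧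
      Mono ((DerivedCategory.homologyFunctor (ModuleCat.{u} A) (-(s.card : ℤ))).map
        ((DRing.derivedCompletion I).map φ).hom) := by
  open CategoryTheory.Pretriangulated Groth.Agent.Lib.Helper36.DC in
  obtain ⟨Z, β, γ, hT⟩ := distinguished_cocone_triangle φ
  obtain ⟨Z', β', γ', hT'⟩ := distinguished_cocone_triangle ((DRing.derivedCompletion I).map φ).hom
  have hm : Mono ((DerivedCategory.homologyFunctor (ModuleCat.{u} A) (-1 + 1)).map φ) := by
    have e : (-1 : ℤ) + 1 = 0 := by norm_num
    rw [e]
    exact hmono
  have hZ : ∀ i : ℤ, i < 0 → Subsingleton (Dual.HD A Z i) := fun i hi =>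
    subsingleton_cone_of_isIso_and_mono (-1) (Triangle.mk φ β γ) hT hiso hm i (by omega)
  have hZ' : ∀ i : ℤ, i ≤ -(s.card : ℤ) - 1 → Subsingleton (Dual.HD A Z' i) := fun i hi =>
    cone_completion_amplitude I s hs φ β γ hT β' γ' hT' 0 hZ i (by omega)
  have h := isIso_and_mono_of_subsingleton_cone (-(s.card : ℤ) - 1)
    (Triangle.mk ((DRing.derivedCompletion I).map φ).hom β' γ') hT' hZ'
  refine ⟨h.1, ?_⟩
  have h2 := h.2
  have e : -(s.card : ℤ) - 1 + 1 = -(s.card : ℤ) := by ring
  rw [e] at h2
  exact h2

end Groth.Agent.S7092
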