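import Groth.Statements.S7093
import Groth.Agent.Lib.Helper12.DRingTorAmpSummand
import Groth.Agent.Lib.Helper12.DerCARel
import Groth.Agent.Lib.Helper12.DRingClosure
-- import your own Groth.Agent.* helpers here

set_option autoImplicit false
universe u
attribute [local instance] HasDerivedCategory.standard
open CategoryTheory CategoryTheory.Limits
open Dual2

namespace Groth.Agent.S7093

open Groth.Agent.Lib.Helper12 CategoryTheory.Pretriangulated ZeroObject

variable {R A : Type u} [CommRing R] [CommRing A] [Algebra R A]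

lemma relPerfect_zero (Z : Dual.D A) (hZ : IsZero Z) : Dual2.IsRelPerfect R A Z := by
  constructor
  · refine ⟨0, 0, fun i _ => ?_, fun i => ?_, ⟨(isZero_toD_of_forall_isZero 0 (fun i => ?_)).iso hZ⟩⟩
    · exact (HomologicalComplex.eval (ModuleCat.{u} A) (ComplexShape.up ℤ) i).map_isZero
        (isZero_zero _)
    · exact (finiteFree A).zero ((HomologicalComplex.eval (ModuleCat.{u} A)
        (ComplexShape.up ℤ) i).map_isZero (isZero_zero _))
    · exact (HomologicalComplex.eval (ModuleCat.{u} A) (ComplexShape.up ℤ) i).map_isZero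
        (isZero_zero _)
  · have hZ' : IsZero ((DRing.restrictD (algebraMap R A)).obj Z) :=
      (DRing.restrictD (algebraMap R A)).map_isZero hZ
    refine ⟨0, 0, 0, fun i _ => ?_, fun i => ?_,
      ⟨(isZero_toD_of_forall_isZero 0 (fun i => ?_)).iso hZ'⟩⟩
    · exact (HomologicalComplex.eval (ModuleCat.{u} R) (ComplexShape.up ℤ) i).map_isZero
        (isZero_zero _)
    · exact (flatP R).zero ((HomologicalComplex.eval (ModuleCat.{u} R)
        (ComplexShape.up ℤ) i).map_isZero (isZero_zero _))
    · exact (HomologicalComplex.eval (ModuleCat.{u} R) (ComplexShape.up ℤ) i).map_isZero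
        (isZero_zero _)

lemma relPerfect_of_iso {K K' : Dual.D A} (e : K ≅ K') (h : Dual2.IsRelPerfect R A K) :
    Dual2.IsRelPerfect R A K' :=
  ⟨RepAbove.of_iso (finiteFree A) e h.1,
    hasFiniteTorDimCx_of_iso ((DRing.restrictD (algebraMap R A)).mapIso e) h.2⟩

lemma relPerfect_shift {K : Dual.D A} (h : Dual2.IsRelPerfect R A K) (n : ℤ) :
    Dual2.IsRelPerfect R A (K⟦n⟧) :=
  ⟨RepAbove.shift (finiteFree A) h.1 n,
    hasFiniteTorDimCx_of_iso (((DRing.restrictD (algebraMap R A)).commShiftIso n).app K).symm
      (hasFiniteTorDimCx_shift h.2 n)⟩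

lemma relPerfect_ext₂ (T : Triangle (Dual.D A)) (hT : T ∈ distTriang (Dual.D A))
    (h1 : Dual2.IsRelPerfect R A T.obj₁) (h3 : Dual2.IsRelPerfect R A T.obj₃) :
    Dual2.IsRelPerfect R A T.obj₂ := by
  refine ⟨(RepAbove.two_out_of_three (finiteFree A) finiteFree_projective T hT).2.1 h1.1 h3.1, ?_⟩
  have hT' := (DRing.restrictD (algebraMap R A)).map_distinguished T hT
  exact (hasFiniteTorDimCx_two_out_of_three _ hT').2.1 h1.2 h3.2

lemma relPerfect_summands (X Y : Dual.D A) (h : Dual2.IsRelPerfect R A (X ⊞ Y)) :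
    Dual2.IsRelPerfect R A X ∧ Dual2.IsRelPerfect R A Y := by
  obtain ⟨e⟩ := exists_restrictD_biprod_iso (algebraMap R A) X Y
  obtain ⟨a, b, hamp⟩ := h.2
  have hamp' := hasTorAmplitudeIn_of_iso e hamp
  have hpc := (isPseudoCoherent'_iff_forall (X ⊞ Y)).2 h.1
  refine ⟨⟨?_, a, b, hasTorAmplitudeIn_of_biprod_left hamp'⟩,
    ⟨?_, a, b, hasTorAmplitudeIn_of_biprod_right hamp'⟩⟩
  · exact (isPseudoCoherent'_iff_forall X).1 (fun m => isPseudoCoherent_of_biprod_left (hpc m))
  · exact (isPseudoCoherent'_iff_forall Y).1 (fun m => isPseudoCoherent_of_biprod_right (hpc m))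

/-- For a flat homomorphism of finite presentation R → A of commutative rings, the R-perfect objects of
D(A) (pseudo-coherent over A, finite tor dimension over R) form a strictly full, saturated
triangulated subcategory: the property is a triangulated object property (contains zero, stable
under shifts and under extensions in distinguished triangles), is closed under isomorphisms, and
passes to direct summands. -/
theorem result (R A : Type u) [CommRing R] [CommRing A] [Algebra R A]
    [Module.Flat R A] [Algebra.FinitePresentation R A] :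
    ObjectProperty.IsTriangulated (C := Dual.D A) (fun K => Dual2.IsRelPerfect R A K) ∧
      ObjectProperty.IsClosedUnderIsomorphisms (C := Dual.D A) (fun K => Dual2.IsRelPerfect R A K) ∧
      ∀ X Y : Dual.D A, Dual2.IsRelPerfect R A (X ⊞ Y) → Dual2.IsRelPerfect R A X ∧ Dual2.IsRelPerfect R A Y := by
  refine ⟨?_, ⟨fun e h => relPerfect_of_iso e h⟩, relPerfect_summands⟩
  exact
    { exists_zero := ⟨0, isZero_zero _, relPerfect_zero _ (isZero_zero _)⟩
      isStableUnderShiftBy := fun n => ⟨fun K hK => relPerfect_shift hK n⟩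
      ext₂' := fun T hT h1 h3 => ObjectProperty.le_isoClosure _ _ (relPerfect_ext₂ T hT h1 h3) }

end Groth.Agent.S7093
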