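import Groth.Statements.S7095
-- import your own Groth.Agent.* helpers here
import Mathlib
import Groth.Agent.Lib.Helper36.TensorCompletion.Module
import Groth.Agent.Lib.Helper36.LTensorWGood
import Groth.Agent.Lib.Helper36.DerivedCompletionUnique

set_option autoImplicit false
universe u
attribute [local instance] HasDerivedCategory.standard
open CategoryTheory
open DRing

namespace Groth.Agent.S7095

/-- Let A be a Noetherian commutative ring and I an ideal, and assume the derived completion functor and
the derived tensor product with a finite A-module M (total left derived functor) exist. For every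
object K of D(A) whose cohomology is bounded above, K^∧ ⊗^L_A M is the derived completion of K ⊗^L_A
M through the map K ⊗^L_A M → K^∧ ⊗^L_A M induced by the canonical morphism K → K^∧ to the derived
completion K^∧ of K: the object K^∧ ⊗^L_A M is derived complete with respect to I, and every
morphism from K ⊗^L_A M to a derived complete object of D(A) factors uniquely through that map. -/
theorem result {A : Type u} [CommRing A] [IsNoetherianRing A] (I : Ideal A)
    [DRing.HasDerivedCompletion I] (M : Type u) [AddCommGroup M] [Module A M] [Module.Finite A M]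
    [DRing.HasLTensor A (ModuleCat.of A M)] (K : Dual.D A) (b : ℤ) (hK : ∀ i : ℤ, b < i → Subsingleton (Dual.HD A K i)) :
    DRing.IsDerivedComplete I ((DRing.LTensor A (ModuleCat.of A M)).obj ((DRing.derivedCompletion I).obj K).obj) ∧
      ∀ E : Dual.D A, DRing.IsDerivedComplete I E →
        Function.Bijective (fun φ : (DRing.LTensor A (ModuleCat.of A M)).obj ((DRing.derivedCompletion I).obj K).obj ⟶ E =>
          (DRing.LTensor A (ModuleCat.of A M)).map (DRing.toDerivedCompletion I K) ≫ φ) := by
  have hIfg : I.FG := IsNoetherian.noetherian I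
  obtain ⟨s, hs⟩ := hIfg
  have hC : DRing.IsDerivedComplete I ((DRing.derivedCompletion I).obj K).obj :=
    ((DRing.derivedCompletion I).obj K).property
  have hCb : ∀ i : ℤ, b < i →
      Subsingleton (Dual.HD A ((DRing.derivedCompletion I).obj K).obj i) :=
    (Groth.Agent.Lib.Helper36.DC.subsingleton_HD_completion I s hs K).2 b hK
  let X := DerivedCategory.Q.objPreimage ((DRing.derivedCompletion I).obj K).obj
  let e : DerivedCategory.Q.obj X ≅ ((DRing.derivedCompletion I).obj K).obj :=
    DerivedCategory.Q.objObjPreimageIso _
  have hLE : X.IsLE b := by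
    rw [CochainComplex.isLE_iff]
    intro j hj
    apply Groth.Agent.Lib.Helper12.exactAt_of_isZero_HF X j
    have := hCb j hj
    exact (ModuleCat.isZero_of_subsingleton _).of_iso
      ((Groth.Agent.Lib.Helper12.HF A j).mapIso e)
  have hqi : QuasiIso (X.ιTruncLE b) := (X.quasiIso_ιTruncLE_iff b).mpr hLE
  have hiso : IsIso (DerivedCategory.Q.map (X.ιTruncLE b)) :=
    (DerivedCategory.isIso_Q_map_iff_quasiIso _ (X.ιTruncLE b)).mpr hqi
  obtain ⟨P, p, hp, hPk, hproj, hvan⟩ :=
    Groth.Agent.Lib.Helper36.KP.exists_resolution_above (X.truncLE b) b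
      (fun n hn => (X.truncLE b).isZero_of_isStrictlyLE b n hn)
  have hiso' : IsIso (DerivedCategory.Q.map p) :=
    (DerivedCategory.isIso_Q_map_iff_quasiIso _ p).mpr hp
  let eP : DerivedCategory.Q.obj P ≅ ((DRing.derivedCompletion I).obj K).obj :=
    asIso (DerivedCategory.Q.map p) ≪≫ asIso (DerivedCategory.Q.map (X.ιTruncLE b)) ≪≫ e
  have hflat : ∀ n, Module.Flat A (P.X n) := fun n => by
    have := hproj n
    infer_instance
  have hcP : DRing.IsDerivedComplete I (DerivedCategory.Q.obj P : Dual.D A) :=
    Groth.Agent.Lib.Helper36.TCo.isDerivedComplete_of_iso I eP.symm hC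
  have h1 := Groth.Agent.Lib.Helper36.TCo.isDerivedComplete_G I P hflat b hvan hcP
    (ModuleCat.of A M)
  constructor
  · exact Groth.Agent.Lib.Helper36.TCo.isDerivedComplete_of_iso I
      ((DRing.LTensor A (ModuleCat.of A M)).mapIso eP.symm ≪≫
        Groth.Agent.Lib.Helper36.LT.lTensorObjIso _ P).symm h1
  · have hW := Groth.Agent.Lib.Helper36.FCo.wGood_lTensor (ModuleCat.of A M)
    exact hW.universal I (IsNoetherian.noetherian I) (DRing.toDerivedCompletion I K) hC
      (fun E hE => ⟨fun u v h => Groth.Agent.Lib.Helper36.DCF.hom_ext_completion I hE h,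
        fun g => Groth.Agent.Lib.Helper36.DCF.exists_lift_completion I hE g⟩)

end Groth.Agent.S7095
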