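import Groth.Statements.S7097
-- import your own Groth.Agent.* helpers here
import Mathlib
import Groth.Agent.Lib.Helper36.CechCompletion

set_option autoImplicit false
universe u
attribute [local instance] HasDerivedCategory.standard
open CategoryTheory
open DRing

namespace Groth.Agent.S7097

/-- Let A be a commutative ring and I the ideal generated by a finite list of elements f_1, …, f_r, and
let K be an object of D(A). Assume the derived completion functor and the derived functor RHom_A(Č,
−) of the extended alternating Cech complex Č = (A → ∏ A_{f_i} → … → A_{f_1⋯f_r}) exist. Then the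
derived completion of K is isomorphic in D(A) to RHom_A(Č, K). (Existence of an isomorphism; the
derived completion is itself only determined up to isomorphism.) -/
theorem result {A : Type u} [CommRing A] (fs : List A) (I : Ideal A)
    (hI : Ideal.span {x : A | x ∈ fs} = I) [DRing.HasDerivedCompletion I]
    [DRing.HasRHomCx (DerCA.extCech (ModuleCat.of A A) fs)] (K : Dual.D A) :
    Nonempty (((DRing.derivedCompletion I).obj K).obj ≅
      (DRing.RHomCx (DerCA.extCech (ModuleCat.of A A) fs)).obj K) := by
  classical
  obtain ⟨J, hJ, ⟨e⟩⟩ := Groth.Agent.Lib.Helper36.KIB.exists_kinj_iso K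
  have := hJ
  obtain ⟨η, h1, h2⟩ := Groth.Agent.Lib.Helper36.CeC.cech_completion fs J
  let a : DerivedCategory.Q.obj (DRing.homCx (DerCA.extCech (ModuleCat.of A A) fs) J) ≅
      (DRing.RHomCx (DerCA.extCech (ModuleCat.of A A) fs)).obj K :=
    asIso (Groth.Agent.Lib.Helper36.RHT.uApp (DerCA.extCech (ModuleCat.of A A) fs) J) ≪≫
      (DRing.RHomCx (DerCA.extCech (ModuleCat.of A A) fs)).mapIso e
  have key : ∀ E : Dual.D A, DRing.IsDerivedComplete I E ↔
      ∀ g ∈ fs, Groth.Agent.Lib.Helper36.FCo.FC g E := by
    intro E
    rw [Groth.Agent.Lib.Helper36.DCF.isDerivedComplete_iff_HD]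
    constructor
    · intro h g hg i
      refine h g ?_ i
      rw [← hI]
      exact Ideal.subset_span hg
    · intro h f hf i
      rw [← hI] at hf
      refine Groth.Agent.Lib.Helper36.DC.seqComplete_of_mem_span fs.toFinset
        (fun f' hf' => h f' (List.mem_toFinset.mp hf') i) ?_
      rwa [List.coe_toFinset]
  have hC : DRing.IsDerivedComplete I
      ((DRing.RHomCx (DerCA.extCech (ModuleCat.of A A) fs)).obj K) := by
    rw [key]
    intro g hg i
    exact (h1 g hg i).of_linearEquiv
      ((DerivedCategory.homologyFunctor (ModuleCat.{u} A) i).mapIso a).toLinearEquiv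
  have hU : ∀ E : Dual.D A, DRing.IsDerivedComplete I E → Function.Bijective
      (fun v : (DRing.RHomCx (DerCA.extCech (ModuleCat.of A A) fs)).obj K ⟶ E =>
        (e.inv ≫ η ≫ a.hom) ≫ v) := by
    intro E hE
    have hb := h2 E ((key E).1 hE)
    constructor
    · intro v v' hvv
      have h3 : η ≫ (a.hom ≫ v) = η ≫ (a.hom ≫ v') := by
        have h4 := congrArg (e.hom ≫ ·) hvv
        simpa using h4
      exact (cancel_epi a.hom).1 (hb.1 h3)
    · intro c
      obtain ⟨w, hw⟩ := hb.2 (e.hom ≫ c)
      refine ⟨a.inv ≫ w, ?_⟩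
      have hw' : η ≫ w = e.hom ≫ c := hw
      simp [hw']
  obtain ⟨e', -⟩ := Groth.Agent.Lib.Helper36.DC.exists_iso_completion I K _ _ hC hU
  exact ⟨e'.symm⟩

end Groth.Agent.S7097
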