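import Groth.Statements.S7098
-- import your own Groth.Agent.* helpers here
import Mathlib
import Groth.Agent.Lib.Helper36.SeqFunctor
import Groth.Agent.Lib.Helper36.DerivedComplete6

set_option autoImplicit false
universe u
attribute [local instance] HasDerivedCategory.standard
open DRing

namespace Groth.Agent.S7098

open Groth.Agent.Lib.Helper36.DC
open CategoryTheory CategoryTheory.Limits

attribute [local instance] HasDerivedCategory.standard

lemma bijective_smul_restrict {A : Type u} [CommRing A] (f : A)
    (N : ModuleCat.{u} (Localization.Away f)) :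
    Function.Bijective (fun x : (ModuleCat.restrictScalars.{u}
      (algebraMap A (Localization.Away f))).obj N => f • x) := by
  have hunit : IsUnit (algebraMap A (Localization.Away f) f) :=
    IsLocalization.map_units (Localization.Away f) ⟨f, Submonoid.mem_powers f⟩
  obtain ⟨u, hu⟩ := id hunit
  have key : ∀ x : N, (algebraMap A (Localization.Away f) f) • x = u • x := by
    intro x
    rw [← hu]
    rfl
  constructor
  · intro x y hxy
    have h1 : (algebraMap A (Localization.Away f) f) • (show N from x) =
        (algebraMap A (Localization.Away f) f) • (show N from y) := hxy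
    exact (hunit.smul_left_cancel).mp h1
  · intro y
    refine ⟨(u⁻¹ • (show N from y) : N), ?_⟩
    show (algebraMap A (Localization.Away f) f) • (u⁻¹ • (show N from y) : N) = y
    rw [key, smul_inv_smul]

theorem forward {A : Type u} [CommRing A] (f : A) (K : Dual.D A)
    (h : ∀ n : ℤ, Subsingleton (Dual.inD A (Localization.Away f) ⟶ K⟦n⟧))
    (E : Dual.D (Localization.Away f)) :
    Subsingleton ((DRing.restrictD (algebraMap A (Localization.Away f))).obj E ⟶ K) := by
  have hS : ∀ i : ℤ, SeqComplete f (Dual.HD A K i) := (forall_subsingleton_hom_iff f K).mp h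
  let F := ModuleCat.restrictScalars.{u} (algebraMap A (Localization.Away f))
  let E' := DerivedCategory.Q.objPreimage E
  let eE : DerivedCategory.Q.obj E' ≅ E := DerivedCategory.Q.objObjPreimageIso E
  let E'' : DRing.Cx A := (F.mapHomologicalComplex (ComplexShape.up ℤ)).obj E'
  let e1 : (DRing.restrictD (algebraMap A (Localization.Away f))).obj E ≅
      DerivedCategory.Q.obj E'' :=
    (DRing.restrictD (algebraMap A (Localization.Away f))).mapIso eE.symm ≪≫
      F.mapDerivedCategoryFactors.app E'
  let K' := DerivedCategory.Q.objPreimage K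
  let eK : DerivedCategory.Q.obj K' ≅ K := DerivedCategory.Q.objObjPreimageIso K
  have key : ∀ ψ : DerivedCategory.Q.obj E'' ⟶ DerivedCategory.Q.obj K', ψ = 0 := by
    intro ψ
    obtain ⟨K'', g, s, hs, rfl⟩ := DerivedCategory.left_fac ψ
    have hE : ∀ i : ℤ, Function.Bijective (fun x : E''.X i => f • x) := fun i =>
      bijective_smul_restrict f (E'.X i)
    have hK'' : ∀ i : ℤ, SeqComplete f (K''.homology i) := by
      intro i
      let iso : (DerivedCategory.homologyFunctor (ModuleCat.{u} A) i).obj K ≅ K''.homology i :=
        (DerivedCategory.homologyFunctor (ModuleCat.{u} A) i).mapIso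
          (eK.symm ≪≫ asIso (DerivedCategory.Q.map s)) ≪≫
          (DerivedCategory.homologyFunctorFactors (ModuleCat.{u} A) i).app K''
      exact (hS i).of_linearEquiv iso.toLinearEquiv
    rw [Q_map_eq_zero g hE hK'']
    exact zero_comp
  refine ⟨fun a b => ?_⟩
  have ha : ∀ a : (DRing.restrictD (algebraMap A (Localization.Away f))).obj E ⟶ K, a = 0 := by
    intro a
    have h1 := key (e1.inv ≫ a ≫ eK.inv)
    have h2 : a = e1.hom ≫ (e1.inv ≫ a ≫ eK.inv) ≫ eK.hom := by simp
    rw [h2, h1]
    simp
  rw [ha a, ha b]

theorem backward {A : Type u} [CommRing A] (f : A) (K : Dual.D A)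
    (H : ∀ E : Dual.D (Localization.Away f),
        Subsingleton ((DRing.restrictD (algebraMap A (Localization.Away f))).obj E ⟶ K))
    (n : ℤ) : Subsingleton (Dual.inD A (Localization.Away f) ⟶ K⟦n⟧) := by
  let B := Localization.Away f
  let F := ModuleCat.restrictScalars.{u} (algebraMap A B)
  let En : Dual.D B := (DerivedCategory.singleFunctor (ModuleCat.{u} B) n).obj (ModuleCat.of B B)
  let X : ModuleCat.{u} A := ModuleCat.of A B
  let iso1 : (DRing.restrictD (algebraMap A B)).obj En ≅
      (DerivedCategory.singleFunctor (ModuleCat.{u} A) n).obj (F.obj (ModuleCat.of B B)) :=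
    (F.mapDerivedCategorySingleFunctor n).app (ModuleCat.of B B)
  let l : (F.obj (ModuleCat.of B B)) ≃ₗ[A] B :=
    { toFun := fun x => x
      invFun := fun x => x
      map_add' := fun _ _ => rfl
      map_smul' := fun a x => by
        exact (Algebra.smul_def a (show B from x)).symm
      left_inv := fun _ => rfl
      right_inv := fun _ => rfl }
  let iso2 : F.obj (ModuleCat.of B B) ≅ X := l.toModuleIso
  let c : (DRing.restrictD (algebraMap A B)).obj En ≅
      (DerivedCategory.singleFunctor (ModuleCat.{u} A) n).obj X :=
    iso1 ≪≫ (DerivedCategory.singleFunctor (ModuleCat.{u} A) n).mapIso iso2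
  let j : ((DerivedCategory.singleFunctor (ModuleCat.{u} A) n).obj X)⟦n⟧ ≅
      (DerivedCategory.singleFunctor (ModuleCat.{u} A) 0).obj X :=
    ((DerivedCategory.singleFunctors (ModuleCat.{u} A)).shiftIso n 0 n (add_zero n)).app X
  refine ⟨fun a b => ?_⟩
  obtain ⟨a', ha'⟩ := (shiftFunctor (Dual.D A) n).map_surjective (j.hom ≫ a)
  obtain ⟨b', hb'⟩ := (shiftFunctor (Dual.D A) n).map_surjective (j.hom ≫ b)
  have h1 : c.hom ≫ a' = c.hom ≫ b' := (H En).elim _ _
  have h2 : a' = b' := by
    have := congrArg (c.inv ≫ ·) h1
    simpa using this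
  have h3 : j.hom ≫ a = j.hom ≫ b := by rw [← ha', ← hb', h2]
  have := congrArg (j.inv ≫ ·) h3
  simpa using this

/-- (1)⇔(2): let A be a commutative ring, f an element of A and K an object of D(A). Then every morphism
A_f[0] → K[n] vanishes for every integer n if and only if every morphism E → K vanishes for every
object E of D(A) obtained by restriction of scalars from D(A_f). -/
theorem result {A : Type u} [CommRing A] (f : A)
    (K : Dual.D A) :
    (∀ n : ℤ, Subsingleton (Dual.inD A (Localization.Away f) ⟶ K⟦n⟧)) ↔
      ∀ E : Dual.D (Localization.Away f),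
        Subsingleton ((DRing.restrictD (algebraMap A (Localization.Away f))).obj E ⟶ K) := by
  exact ⟨fun h E => forward f K h E, fun H n => backward f K H n⟩

end Groth.Agent.S7098
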