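import Groth.Statements.S7102
-- import your own Groth.Agent.* helpers here
import Mathlib
import Groth.Agent.S6945
import Groth.Agent.Lib.Helper36.RelTensorCancel
import Groth.Agent.Lib.Helper36.TensorAssocSingle
import Groth.Agent.Lib.Helper36.TensorTruncExact
import Groth.Agent.Lib.Helper36.LTensorCxCompute
import Groth.Agent.Lib.Helper36.FibreTorAmp
import Groth.Agent.Lib.Helper36.PowTorsionTor
import Groth.Agent.Lib.Helper12.DRingPCRep
import Groth.Agent.Lib.Helper12.DRingCone
import Groth.Agent.Lib.Helper94.KFlatBdd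

set_option autoImplicit false
universe u
attribute [local instance] HasDerivedCategory.standard
open Dual2

namespace Groth.Agent.S7102

/-- Let R → A be a flat homomorphism of finite presentation of commutative rings, E a bounded cochain
complex of finite projective A-modules (a perfect object of D(A)) for which the derived functor −
⊗^L_A E exists, and M an R-perfect object of D(A). Then M ⊗^L_A E is R-perfect. -/
theorem result (R A : Type u) [CommRing R] [CommRing A] [Algebra R A]
    [Module.Flat R A] [Algebra.FinitePresentation R A] (E : DRing.Cx A) (a b : ℤ)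
    (hEb : DRing.VanishesOutside E a b) (hEp : DRing.TermwiseFiniteProjective E) [DRing.HasLTensorCx A E]
    (M : Dual.D A) (hM : Dual2.IsRelPerfect R A M) :
    Dual2.IsRelPerfect R A ((DRing.LTensorCx A E).obj M) := by
  open Groth.Agent.Lib.Helper36 Groth.Agent.Lib.Helper12 CategoryTheory MonoidalCategory in
  obtain ⟨⟨F, c₀, hFc, hFff, ⟨eF⟩⟩, c, d, hcd⟩ := hM
  have hFfin : ∀ i, Module.Finite A (F.X i) := fun i => (hFff i).1
  have hFfree : ∀ i, Module.Free A (F.X i) := fun i => (hFff i).2
  have hFproj : ∀ i, Module.Projective A (F.X i) := fun i => by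
    have := hFfree i
    infer_instance
  have hFfl : ∀ i, Module.Flat A (F.X i) := fun i => by
    have := hFproj i
    infer_instance
  have hEfin : ∀ i, Module.Finite A (E.X i) := fun i => (hEp i).1
  have hEproj : ∀ i, Module.Projective A (E.X i) := fun i => (hEp i).2
  have hEfl : ∀ i, Module.Flat A (E.X i) := fun i => by
    have := hEproj i
    infer_instance
  have hEab : DRing.VanishesAbove E b := fun i hi => hEb i (Or.inr hi)
  have hFK : F.IsKProjective := isKProjective_of_vanishesAbove F c₀ hFc hFproj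
  -- the representative `F ⊗ E`
  let eX : (DRing.LTensorCx A E).obj M ≅ DRing.toD (F ⊗ E) :=
    (DRing.LTensorCx A E).mapIso eF.symm ≪≫ LTCx.lTensorCxObjIso E F
  have hXc : DRing.VanishesAbove (F ⊗ E) (c₀ + b) := TT.vanishesAbove_tensor F E hFc hEab
  have hXfp : DRing.TermwiseFiniteProjective (F ⊗ E) := fun n =>
    ⟨TT.finite_tensor_X F E n hFfin hEfin (n - b) (n - a) (fun p q hpq hp =>
        Or.inr (hEb q (by omega))),
      TT.projective_tensor_X F E n hFproj hEproj⟩
  have hXfl : ∀ n, Module.Flat A ((F ⊗ E).X n) := fun n => TT.flat_tensor_X F E n hFfl hEfl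
  refine ⟨isPseudoCoherent'_of_forall (fun m =>
    isPseudoCoherent_of_rep_finiteProjective (F ⊗ E) (c₀ + b) hXc hXfp eX.symm m), a + c, b + d, ?_⟩
  -- tor amplitude over `R`
  let φ : R →+* A := algebraMap R A
  let resCx := (ModuleCat.restrictScalars φ).mapHomologicalComplex (ComplexShape.up ℤ)
  let G : DRing.Cx R := resCx.obj (F ⊗ E)
  let G₀ : DRing.Cx R := resCx.obj F
  have hGc : DRing.VanishesAbove G (c₀ + b) := fun j hj =>
    (ModuleCat.restrictScalars φ).map_isZero (hXc j hj)
  have hGfl : ∀ j, Module.Flat R (G.X j) := fun j => by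
    have := hXfl j
    exact FibreTorAmp.flat_restrictScalars ((F ⊗ E).X j)
  have hG₀c : DRing.VanishesAbove G₀ c₀ := fun j hj =>
    (ModuleCat.restrictScalars φ).map_isZero (hFc j hj)
  have hG₀fl : ∀ j, Module.Flat R (G₀.X j) := fun j => by
    have := hFfl j
    exact FibreTorAmp.flat_restrictScalars (F.X j)
  let eG : DRing.toD G ≅ (DRing.restrictD φ).obj ((DRing.LTensorCx A E).obj M) :=
    ((ModuleCat.restrictScalars φ).mapDerivedCategoryFactors.app (F ⊗ E)).symm ≪≫
      (DRing.restrictD φ).mapIso eX.symm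
  let eG₀ : DRing.toD G₀ ≅ (DRing.restrictD φ).obj M :=
    ((ModuleCat.restrictScalars φ).mapDerivedCategoryFactors.app F).symm ≪≫
      (DRing.restrictD φ).mapIso eF
  have hkfE : Groth.Agent.Lib.Helper94.KFlatRing.KF A E :=
    Groth.Agent.Lib.Helper94.KFlatBdd.kf_of_bounded_above A E b hEab hEfl
  refine hasTorAmplitudeIn_of_iso eG ?_
  refine (@Groth.Agent.S6945.result R _ (fun N => LT.hasLTensor R N) (DRing.toD G) (a + c)
    (b + d)).mpr (fun N i hi => ?_)
  have := LT.hasLTensor R N
  obtain ⟨e₁⟩ := LT.nonempty_lTensorObjIso_of_flat N G (c₀ + b) hGc hGfl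
  refine ModuleCat.subsingleton_of_isZero
    ((PowTor.isZero_HF_of_exactAt _ i ?_).of_iso ((HF R i).mapIso e₁))
  show (LT.tensorCx N G).ExactAt i
  rw [RTC.exactAt_tensorCx_restrict_iff φ N (F ⊗ E) i]
  let N' : ModuleCat.{u} A := (ModuleCat.extendScalars.{u, u, u} φ).obj N
  refine HomologicalComplex.ExactAt.of_iso ?_ (TAS.tensorCxTensorIso F E N').symm
  have hY : ∀ j : ℤ, (j < c ∨ d < j) → (LT.tensorCx N' F).ExactAt j := fun j hj => by
    rw [← RTC.exactAt_tensorCx_restrict_iff φ N F j]
    exact FibreTorAmp.exactAt_tensorCx_of_hasTorAmplitudeIn G₀ c₀ hG₀c hG₀fl eG₀ c d hcd N j hj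
  rcases hi with hi | hi
  · exact TTE.exactAt_tensor_of_lt _ E hkfE c a (fun j hj => hY j (Or.inl hj))
      (fun q hq => hEb q (Or.inl hq)) i hi
  · exact TTE.exactAt_tensor_of_gt _ E hkfE d b (fun j hj => hY j (Or.inr hj))
      (fun q hq => hEb q (Or.inr hq)) i hi

end Groth.Agent.S7102
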