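import Groth.Statements.S7107
import Mathlib.LinearAlgebra.Finsupp.SumProd
import Mathlib.LinearAlgebra.Finsupp.Defs
import Mathlib.LinearAlgebra.Finsupp.Pi
import Mathlib.SetTheory.Cardinal.Arithmetic
-- import your own Groth.Agent.* helpers here

set_option autoImplicit false
universe u
open CAlg

namespace Groth.Agent.S7107

section

variable (R : Type u) [CommRing R] (P Q : Type u) [AddCommGroup P] [Module R P]
    [AddCommGroup Q] [Module R Q]

/-- Splitting a finitely supported family of pairs. -/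
noncomputable def splitEquiv (α : Type) : (α →₀ P × Q) ≃ₗ[R] (α →₀ P) × (α →₀ Q) :=
  LinearEquiv.ofLinearMap
    ((Finsupp.mapRange.linearMap (LinearMap.fst R P Q)).prod
      (Finsupp.mapRange.linearMap (LinearMap.snd R P Q)))
    ((Finsupp.mapRange.linearMap (LinearMap.inl R P Q)).coprod
      (Finsupp.mapRange.linearMap (LinearMap.inr R P Q)))
    (by ext <;> simp) (by ext <;> simp)

/-- `P ⊕ P^(ℕ) ≅ P^(ℕ)`. -/
noncomputable def shiftEquiv : (P × (ℕ →₀ P)) ≃ₗ[R] (ℕ →₀ P) :=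
  ((Finsupp.domLCongr Equiv.natSumPUnitEquivNat.symm).trans
    ((Finsupp.sumFinsuppLEquivProdFinsupp R).trans
      ((LinearEquiv.prodComm R _ _).trans
        (LinearEquiv.prodCongr (Finsupp.uniqueLinearEquiv R P PUnit.unit.{1}) (LinearEquiv.refl R _))))).symm

/-- For an infinite type `ι`, `ι × ℕ ≃ ι`. -/
theorem nonempty_prod_nat_equiv (ι : Type u) [Infinite ι] : Nonempty (ι × ℕ ≃ ι) := by
  apply Cardinal.eq.mp
  rw [Cardinal.mk_prod, Cardinal.lift_uzero, Cardinal.mk_nat, Cardinal.lift_aleph0,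
    Cardinal.mul_aleph0_eq (Cardinal.aleph0_le_mk ι)]

end

/-- Let R be a ring and P, Q modules such that P ⊕ Q is isomorphic to a free module F on an infinite
basis. Then P ⊕ F is isomorphic to F. -/
theorem result (R : Type u) [CommRing R] (P Q : Type u) [AddCommGroup P] [Module R P]
    [AddCommGroup Q] [Module R Q] (ι : Type u) [Infinite ι] (e : (P × Q) ≃ₗ[R] (ι →₀ R)) :
    Nonempty ((P × (ι →₀ R)) ≃ₗ[R] (ι →₀ R)) := by
  obtain ⟨σ⟩ := nonempty_prod_nat_equiv ι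
  -- `F ≃ (ℕ →₀ F) ≃ (ℕ →₀ P × Q) ≃ (ℕ →₀ P) × (ℕ →₀ Q)`
  let e1 : (ι →₀ R) ≃ₗ[R] (ℕ →₀ P) × (ℕ →₀ Q) :=
    (Finsupp.domLCongr (σ.symm.trans (Equiv.prodComm ι ℕ))).trans
      ((Finsupp.curryLinearEquiv R).trans
        ((Finsupp.mapRange.linearEquiv e.symm).trans (splitEquiv R P Q ℕ)))
  -- `P × ((ℕ →₀ P) × (ℕ →₀ Q)) ≃ (P × (ℕ →₀ P)) × (ℕ →₀ Q) ≃ (ℕ →₀ P) × (ℕ →₀ Q)`
  let e2 : (P × ((ℕ →₀ P) × (ℕ →₀ Q))) ≃ₗ[R] (ℕ →₀ P) × (ℕ →₀ Q) :=
    (LinearEquiv.prodAssoc R P (ℕ →₀ P) (ℕ →₀ Q)).symm.trans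
      (LinearEquiv.prodCongr (shiftEquiv R P) (LinearEquiv.refl R _))
  exact ⟨((LinearEquiv.prodCongr (LinearEquiv.refl R P) e1).trans e2).trans e1.symm⟩

end Groth.Agent.S7107
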