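import Groth.Statements.S7108
import Groth.Agent.S7107
-- import your own Groth.Agent.* helpers here

set_option autoImplicit false
universe u
open CAlg

namespace Groth.Agent.S7108

section

variable (R : Type u) [CommRing R] {M P : Type u} [AddCommGroup M] [Module R M]
  [AddCommGroup P] [Module R P]

/-- A split surjection decomposes the source. -/
noncomputable def splitProd (π : M →ₗ[R] P) (s : P →ₗ[R] M) (h : π ∘ₗ s = LinearMap.id) :
    M ≃ₗ[R] P × LinearMap.ker π where
  toFun x := (π x, ⟨x - s (π x), by
    have : π (s (π x)) = π x := congrArg (fun φ => φ (π x)) h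
    simp [this]⟩)
  map_add' x y := by
    ext
    · simp
    · simp only [map_add, Prod.mk_add_mk, Submodule.coe_add]
      abel
  map_smul' c x := by
    ext
    · simp
    · simp [smul_sub]
  invFun y := s y.1 + y.2
  left_inv x := by simp
  right_inv y := by
    obtain ⟨p, ⟨k, hk⟩⟩ := y
    have h1 : π (s p) = p := congrArg (fun φ => φ p) h
    have hk' : π k = 0 := hk
    ext
    · simp [h1, hk']
    · simp [h1, hk']

end

/-- Every projective module P over a ring R becomes free after adding a suitable free module: P ⊕ F is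
free for some free module F (here F is the free module on some index type). -/
theorem result (R : Type u) [CommRing R] (P : Type u) [AddCommGroup P]
    [Module R P] [Module.Projective R P] : ∃ ι : Type u, Module.Free R (P × (ι →₀ R)) := by
  obtain ⟨s, hs⟩ := (Module.projective_def' (R := R) (P := P)).mp inferInstance
  let π : (P →₀ R) →ₗ[R] P := Finsupp.linearCombination R id
  let e0 : (P →₀ R) ≃ₗ[R] P × LinearMap.ker π := splitProd R π s hs
  -- `(ℕ × P →₀ R) ≃ (ℕ →₀ (P →₀ R)) ≃ (P →₀ R) × (ℕ →₀ (P →₀ R))`
  let G := ℕ →₀ (P →₀ R)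
  let e1 : (ℕ × P →₀ R) ≃ₗ[R] P × (LinearMap.ker π × G) :=
    (Finsupp.curryLinearEquiv R).trans
      ((Groth.Agent.S7107.shiftEquiv R (P →₀ R)).symm.trans
        ((LinearEquiv.prodCongr e0 (LinearEquiv.refl R G)).trans
          (LinearEquiv.prodAssoc R P (LinearMap.ker π) G)))
  obtain ⟨e2⟩ := Groth.Agent.S7107.result R P (LinearMap.ker π × G) (ℕ × P) e1.symm
  exact ⟨ℕ × P, Module.Free.of_equiv e2.symm⟩

end Groth.Agent.S7108
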