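import Groth.Statements.S7109
import Mathlib.LinearAlgebra.FreeModule.Finite.Basic
import Mathlib.LinearAlgebra.Finsupp.LinearCombination
import Mathlib.RingTheory.Finiteness.Basic
-- import your own Groth.Agent.* helpers here

set_option autoImplicit false
universe u
open CAlg

namespace Groth.Agent.S7109

section

variable (R : Type u) [CommRing R] {F P : Type u} [AddCommGroup F] [Module R F]
  [AddCommGroup P] [Module R P]

/-- The abstract construction: given `α : F → P`, `β : P → F` and `s` with `α (β s) = s`, the range of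
`x ↦ (x - β (α x), α x)` is a direct summand of `F × P` isomorphic to `F` containing `(0, s)`. -/
theorem exists_summand (α : F →ₗ[R] P) (β : P →ₗ[R] F) (s : P) (hs : α (β s) = s) :
    ∃ (K K' : Submodule R (F × P)), IsCompl K K' ∧ Nonempty (F ≃ₗ[R] K) ∧ ((0, s) : F × P) ∈ K := by
  let j : F →ₗ[R] F × P := (LinearMap.id - β ∘ₗ α).prod α
  let r : F × P →ₗ[R] F := LinearMap.coprod LinearMap.id β
  have hrj : ∀ x, r (j x) = x := by
    intro x
    simp [j, r]
  have hinj : Function.Injective j := Function.LeftInverse.injective hrj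
  refine ⟨LinearMap.range j, LinearMap.ker r, ?_, ⟨LinearEquiv.ofInjective j hinj⟩, ?_⟩
  · refine IsCompl.of_eq ?_ ?_
    · rw [eq_bot_iff]
      rintro x ⟨⟨y, rfl⟩, hx⟩
      have hx' : r (j y) = 0 := hx
      rw [hrj] at hx'
      rw [hx', map_zero]
      exact Submodule.zero_mem _
    · rw [eq_top_iff]
      intro z _
      have h1 : z = j (r z) + (z - j (r z)) := by abel
      rw [h1]
      refine Submodule.add_mem_sup ⟨r z, rfl⟩ ?_
      rw [LinearMap.mem_ker, map_sub, hrj, sub_self]
  · refine ⟨β s, ?_⟩
    simp [j, hs]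

end

/-- Let P be a projective module over a ring R and s an element of P. Then there are a finite free
module R^n and a direct summand K of R^n ⊕ P which is finite free and contains (0, s). -/
theorem result (R : Type u) [CommRing R] (P : Type u) [AddCommGroup P]
    [Module R P] [Module.Projective R P] (s : P) :
    ∃ (n : ℕ) (K K' : Submodule R ((Fin n → R) × P)), IsCompl K K' ∧ Module.Free R K ∧ Module.Finite R K ∧
      ((0, s) : (Fin n → R) × P) ∈ K := by
  obtain ⟨σ, hσ⟩ := (Module.projective_def' (R := R) (P := P)).mp inferInstance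
  let π : (P →₀ R) →ₗ[R] P := Finsupp.linearCombination R id
  have hπσ : ∀ p, π (σ p) = p := fun p => congrArg (fun φ => φ p) hσ
  let T : Finset P := (σ s).support
  let n := T.card
  let t : Fin n → P := fun i => (T.equivFin.symm i : P)
  let α : (Fin n → R) →ₗ[R] P := Fintype.linearCombination R t
  let β : P →ₗ[R] (Fin n → R) := (LinearMap.pi (fun i => Finsupp.lapply (t i))) ∘ₗ σ
  have hs : α (β s) = s := by
    have h1 : α (β s) = ∑ i : Fin n, (σ s) (t i) • t i := by
      simp [α, β, Fintype.linearCombination_apply]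
    have h2 : ∑ p ∈ T, (σ s) p • p = s := by
      conv_rhs => rw [← hπσ s]
      simp [π, Finsupp.linearCombination_apply, Finsupp.sum, T]
    have h3 : ∑ i : Fin n, (σ s) (t i) • t i = ∑ p ∈ T, (σ s) p • p := by
      rw [← Finset.sum_coe_sort T]
      exact (Fintype.sum_equiv T.equivFin _ _ (fun p => by simp [t])).symm
    exact h1.trans (h3.trans h2)
  obtain ⟨K, K', hc, ⟨e⟩, hmem⟩ := exists_summand R α β s hs
  exact ⟨n, K, K', hc, Module.Free.of_equiv e, Module.Finite.equiv e, hmem⟩

end Groth.Agent.S7109
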