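import Groth.Statements.S7113
import Groth.Agent.Lib.Helper54.SerreLocal

set_option autoImplicit false
universe u
open CAlg

namespace Groth.Agent.S7113

/-- Let R be a ring whose set of maximal ideals, with the Zariski topology, is a Noetherian topological
space of Krull dimension at most d, and let M be an R-module of finite presentation whose
localization M_m at each maximal ideal m contains a free direct summand of rank d + 1. Then M is
isomorphic to R ⊕ M' for some M': there are s in M and a linear form φ on M with φ(s) = 1. (The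
published statement takes the dimension equal to d; a space of smaller dimension satisfies the
hypothesis for a smaller d, so the bound form is equivalent.) -/
theorem result (R : Type u) [CommRing R] (d : ℕ)
    [TopologicalSpace.NoetherianSpace (MaximalSpectrum R)]
    (hdim : topologicalKrullDim (MaximalSpectrum R) ≤ d)
    (M : Type u) [AddCommGroup M] [Module R M] [Module.FinitePresentation R M]
    (hM : ∀ (m : Ideal R) [m.IsMaximal],
      ∃ (f : (Fin (d + 1) → Localization.AtPrime m) →ₗ[Localization.AtPrime m] LocalizedModule m.primeCompl M)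
        (g : LocalizedModule m.primeCompl M →ₗ[Localization.AtPrime m] (Fin (d + 1) → Localization.AtPrime m)),
        g ∘ₗ f = LinearMap.id) :
    ∃ (s : M) (φ : M →ₗ[R] R), φ s = 1 := by
  classical
  obtain ⟨u, g, hg⟩ := Module.Finite.exists_fin (R := R) (M := M)
  let t : Fin (u + 1) → M := Fin.cons 0 g
  have hspan : Submodule.span R (Set.range t) = ⊤ := by
    rw [eq_top_iff, ← hg]
    apply Submodule.span_mono
    rintro _ ⟨i, rfl⟩
    exact ⟨i.succ, by simp [t]⟩
  -- the rank is at least d + 1 everywhere
  have hrk : ∀ x : MaximalSpectrum R, d + 1 ≤ Groth.Agent.Lib.Helper54.Serre.rk x (u + 1) t := by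
    intro x
    obtain ⟨f, g', hgf⟩ := hM x.asIdeal
    obtain ⟨mm, φ, hdet⟩ :=
      Groth.Agent.Lib.Helper54.Serre.exists_det_of_local_summand x.asIdeal (d + 1) f g' hgf
    exact Groth.Agent.Lib.Helper54.Serre.le_rk_of_det x t mm
      (fun j => hspan ▸ Submodule.mem_top) φ hdet
  obtain ⟨y, -, hy⟩ := Groth.Agent.Lib.Helper54.Serre.exists_reduction_module
    (R := R) (M := M) ∅ isClosed_empty (d + 1) u t (by
      intro w _ C _ hC
      obtain ⟨x, hx⟩ := C.isIrreducible.nonempty
      rcases hC hx with h | h
      · exact h.elim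
      · have h1 : d + 1 < w := lt_of_le_of_lt (hrk x) h
        have h2 : ((d + 1 + 1 : ℕ) : ℕ∞) ≤ (w : ℕ∞) := by exact_mod_cast h1
        exact h2.trans le_add_self)
  refine ⟨t 0 + y, ?_⟩
  apply Groth.Agent.Lib.Helper54.Serre.exists_form_eq_one_of_forall
  intro x
  by_contra hcon
  push Not at hcon
  have h1 := hy (Groth.Agent.Lib.Helper54.Serre.ptIrr x)
    (fun h => (h (Set.mem_singleton x)).elim)
    (by
      intro z hz
      rw [show z = x from hz]
      exact Or.inr hcon)
  have h2 := Groth.Agent.Lib.Helper54.Serre.coheight_le_dim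
    (Groth.Agent.Lib.Helper54.Serre.ptIrr x)
  have h3 : (((d + 1 : ℕ) : ℕ∞) : WithBot ℕ∞) ≤ (d : WithBot ℕ∞) :=
    (WithBot.coe_le_coe.2 h1).trans (h2.trans hdim)
  have h4 : ((d + 1 : ℕ) : ℕ∞) ≤ (d : ℕ∞) := by exact_mod_cast h3
  have h5 : d + 1 ≤ d := by exact_mod_cast h4
  omega

end Groth.Agent.S7113
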