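import Groth.Statements.S7114
-- import your own Groth.Agent.* helpers here
import Mathlib

set_option autoImplicit false
universe u
open CAlg

namespace Groth.Agent.S7114

/-- Let R be a Noetherian local ring of Krull dimension one and x an element of the maximal ideal lying
in no minimal prime of R. Then for every n the length of R/xⁿR is at most n times the length of
R/xR, and equality holds when x is a nonzerodivisor. -/
theorem result (R : Type u) [CommRing R] [IsNoetherianRing R] [IsLocalRing R]
    (hdim : ringKrullDim R = 1) (x : R) (hx : x ∈ IsLocalRing.maximalIdeal R)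
    (hmin : ∀ p ∈ minimalPrimes R, x ∉ p) (n : ℕ) :
    Module.length R (R ⧸ Ideal.span {x ^ n}) ≤ (n : ℕ∞) * Module.length R (R ⧸ Ideal.span {x}) ∧
      (x ∈ nonZeroDivisors R →
        Module.length R (R ⧸ Ideal.span {x ^ n}) = (n : ℕ∞) * Module.length R (R ⧸ Ideal.span {x})) := by
  clear hdim hx hmin
  -- the two maps
  have main : ∀ m : ℕ,
      Module.length R (R ⧸ Ideal.span {x ^ (m + 1)}) ≤
        Module.length R (R ⧸ Ideal.span {x ^ m}) + Module.length R (R ⧸ Ideal.span {x}) ∧
      (x ∈ nonZeroDivisors R → Module.length R (R ⧸ Ideal.span {x ^ (m + 1)}) =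
        Module.length R (R ⧸ Ideal.span {x ^ m}) + Module.length R (R ⧸ Ideal.span {x})) := by
    intro m
    have hf : (Ideal.span {x ^ m} : Submodule R R) ≤
        Submodule.comap (LinearMap.mulLeft R x) (Ideal.span {x ^ (m + 1)}) := by
      intro r hr
      rw [Submodule.mem_comap, LinearMap.mulLeft_apply]
      rw [Ideal.mem_span_singleton] at hr ⊢
      obtain ⟨s, rfl⟩ := hr
      exact ⟨s, by ring⟩
    have hg : (Ideal.span {x ^ (m + 1)} : Submodule R R) ≤
        Submodule.comap (LinearMap.id : R →ₗ[R] R) (Ideal.span {x}) := by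
      intro r hr
      rw [Submodule.mem_comap, LinearMap.id_apply]
      rw [Ideal.mem_span_singleton] at hr ⊢
      obtain ⟨s, rfl⟩ := hr
      exact ⟨x ^ m * s, by ring⟩
    set f : (R ⧸ Ideal.span {x ^ m}) →ₗ[R] (R ⧸ Ideal.span {x ^ (m + 1)}) :=
      Submodule.mapQ _ _ (LinearMap.mulLeft R x) hf with hfdef
    set g : (R ⧸ Ideal.span {x ^ (m + 1)}) →ₗ[R] (R ⧸ Ideal.span {x}) :=
      Submodule.mapQ _ _ LinearMap.id hg with hgdef
    have hgs : Function.Surjective g := by
      intro y
      obtain ⟨r, rfl⟩ := Submodule.Quotient.mk_surjective _ y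
      exact ⟨Submodule.Quotient.mk r, by rw [hgdef, Submodule.mapQ_apply, LinearMap.id_apply]⟩
    have hex : Function.Exact f g := by
      intro y
      obtain ⟨r, rfl⟩ := Submodule.Quotient.mk_surjective _ y
      rw [hgdef, Submodule.mapQ_apply, LinearMap.id_apply, Submodule.Quotient.mk_eq_zero]
      constructor
      · intro hr
        obtain ⟨s, rfl⟩ := Ideal.mem_span_singleton.mp hr
        exact ⟨Submodule.Quotient.mk s, by
          rw [hfdef, Submodule.mapQ_apply, LinearMap.mulLeft_apply]⟩
      · rintro ⟨z, hz⟩
        obtain ⟨s, rfl⟩ := Submodule.Quotient.mk_surjective _ z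
        rw [hfdef, Submodule.mapQ_apply, LinearMap.mulLeft_apply, Submodule.Quotient.eq] at hz
        have h1 : x * s - r ∈ Ideal.span {x} :=
          hg hz
        have h2 : x * s ∈ Ideal.span {x} := Ideal.mem_span_singleton.mpr ⟨s, rfl⟩
        have := (Ideal.span {x}).sub_mem h2 h1
        simpa using this
    have hlen : Module.length R (R ⧸ Ideal.span {x ^ (m + 1)}) =
        Module.length R (LinearMap.range f) + Module.length R (R ⧸ Ideal.span {x}) := by
      refine Module.length_eq_add_of_exact (LinearMap.range f).subtype g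
        (Submodule.subtype_injective _) hgs ?_
      intro y
      rw [hex y]
      simp
    refine ⟨?_, fun hx => ?_⟩
    · rw [hlen]
      gcongr
      exact Module.length_le_of_surjective f.rangeRestrict f.surjective_rangeRestrict
    · rw [hlen]
      congr 1
      have hinj : Function.Injective f := by
        rw [← LinearMap.ker_eq_bot, LinearMap.ker_eq_bot']
        intro y hy
        obtain ⟨r, rfl⟩ := Submodule.Quotient.mk_surjective _ y
        rw [hfdef, Submodule.mapQ_apply, LinearMap.mulLeft_apply, Submodule.Quotient.mk_eq_zero] at hy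
        rw [Submodule.Quotient.mk_eq_zero]
        obtain ⟨s, hs⟩ := Ideal.mem_span_singleton.mp hy
        refine Ideal.mem_span_singleton.mpr ⟨s, ?_⟩
        have h3 : x * r = x * (x ^ m * s) := by rw [hs]; ring
        exact mul_cancel_left_mem_nonZeroDivisors hx |>.mp h3
      exact (LinearEquiv.ofInjective f hinj).length_eq.symm
  induction n with
  | zero =>
    have h0 : Module.length R (R ⧸ Ideal.span {x ^ 0}) = 0 := by
      rw [Module.length_eq_zero_iff, pow_zero, Ideal.span_singleton_one]
      exact Submodule.Quotient.subsingleton_iff.mpr (by simp)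
    refine ⟨by rw [h0]; exact bot_le, fun _ => by rw [h0]; simp⟩
  | succ m ih =>
    obtain ⟨h1, h2⟩ := main m
    refine ⟨?_, fun hx => ?_⟩
    · calc Module.length R (R ⧸ Ideal.span {x ^ (m + 1)})
          ≤ Module.length R (R ⧸ Ideal.span {x ^ m}) + Module.length R (R ⧸ Ideal.span {x}) := h1
        _ ≤ (m : ℕ∞) * Module.length R (R ⧸ Ideal.span {x}) + Module.length R (R ⧸ Ideal.span {x}) := by
            gcongr
            exact ih.1
        _ = ((m + 1 : ℕ) : ℕ∞) * Module.length R (R ⧸ Ideal.span {x}) := by
            push_cast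
            rw [add_mul, one_mul]
    · rw [h2 hx, ih.2 hx]
      push_cast
      rw [add_mul, one_mul]

end Groth.Agent.S7114
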