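import Groth.Statements.S7119
import Mathlib
import Groth.Agent.Lib.Helper83.RadH

set_option autoImplicit false
universe u
open CAlg

namespace Groth.Agent.S7119

/-- Let R be a Noetherian normal local domain of Krull dimension 2 and let p_1, ..., p_r be finitely
many prime ideals of height one. Then there is a nonzero element f lying in all the p_i such that
R/fR is reduced. -/
theorem result (R : Type u) [CommRing R] [IsDomain R]
    [IsNoetherianRing R] [IsLocalRing R] [IsIntegrallyClosed R] (hdim : ringKrullDim R = 2)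
    (s : Finset (Ideal R)) (hs : ∀ p ∈ s, p.IsPrime ∧ p.height = 1) :
    ∃ f : R, f ≠ 0 ∧ (∀ p ∈ s, f ∈ p) ∧ IsReduced (R ⧸ Ideal.span {f}) := by
  classical
  have hc := Groth.Agent.Lib.Helper83.Rad.isCatenary_of_ringKrullDim_eq_two (R := R) hdim
  have hJ : (s.inf id).IsRadical := by
    intro a ha
    rw [Submodule.mem_finsetInf]
    intro p hp
    obtain ⟨n, hn⟩ := ha
    have h1 : a ^ n ∈ p := (Finset.inf_le hp : s.inf id ≤ id p) hn
    exact (hs p hp).1.mem_of_pow_mem n h1
  have hJ0 : s.inf id ≠ ⊥ := by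
    intro h
    have hle : s.inf id ≤ (⊥ : Ideal R) := le_of_eq h
    rw [Ideal.IsPrime.inf_le' Ideal.isPrime_bot] at hle
    obtain ⟨p, hp, hpbot⟩ := hle
    have hp0 : id p = ⊥ := le_bot_iff.mp hpbot
    have hht := (hs p hp).2
    simp only [id] at hp0
    rw [hp0, Ideal.height_bot] at hht
    exact zero_ne_one hht
  obtain ⟨f, hfJ, hf0, hrad⟩ :=
    Groth.Agent.Lib.Helper83.Rad.exists_radical_principal hc _ hJ hJ0
  refine ⟨f, hf0, ?_, (Ideal.isRadical_iff_quotient_reduced _).mp hrad⟩
  intro p hp
  exact (Finset.inf_le hp : s.inf id ≤ id p) hfJ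

end Groth.Agent.S7119
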