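import Groth.Statements.S7123
-- import your own Groth.Agent.* helpers here
import Mathlib

set_option autoImplicit false
universe u
open CAlg

namespace Groth.Agent.S7123

open DirectSum in
/-- For a module P over a ring R these two conditions are equivalent: (1) P is a retract (direct
summand) of a direct sum of cyclic modules R/fR, f ranging over R; (2) for every surjection of
R-modules π : B → C whose kernel A satisfies fA = A ∩ fB for every f in R, each linear map P → C
lifts through π. -/
theorem result (R : Type u) [CommRing R] (P : Type u)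
    [AddCommGroup P] [Module R P] :
    (∃ (ι : Type u) (f : ι → R) (i : P →ₗ[R] (⨁ j, R ⧸ Ideal.span {f j}))
        (p : (⨁ j, R ⧸ Ideal.span {f j}) →ₗ[R] P), p ∘ₗ i = LinearMap.id) ↔
      ∀ (B C : Type u) [AddCommGroup B] [Module R B] [AddCommGroup C] [Module R C] (π : B →ₗ[R] C),
        Function.Surjective π →
        (∀ (f : R) (b : B), π (f • b) = 0 → ∃ a : B, π a = 0 ∧ f • a = f • b) →
        ∀ ψ : P →ₗ[R] C, ∃ φ : P →ₗ[R] B, π ∘ₗ φ = ψ := by
  classical
  constructor
  · rintro ⟨ι, f, i, p, hpi⟩ B C _ _ _ _ π hπ hrd ψ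
    -- lift each component
    have key : ∀ j : ι, ∃ φj : (R ⧸ Ideal.span {f j}) →ₗ[R] B,
        π ∘ₗ φj = (ψ ∘ₗ p) ∘ₗ (DirectSum.lof R ι (fun j => R ⧸ Ideal.span {f j}) j) := by
      intro j
      set ψj : (R ⧸ Ideal.span {f j}) →ₗ[R] C :=
        (ψ ∘ₗ p) ∘ₗ (DirectSum.lof R ι (fun j => R ⧸ Ideal.span {f j}) j) with hψj
      set c : C := ψj (Ideal.Quotient.mk _ 1) with hc
      have hfc : f j • c = 0 := by
        rw [hc, ← map_smul]
        have : f j • (Ideal.Quotient.mk (Ideal.span {f j}) 1) = 0 := by
          rw [Algebra.smul_def, map_one, mul_one, Ideal.Quotient.algebraMap_eq,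
            Ideal.Quotient.eq_zero_iff_mem]
          exact Ideal.subset_span rfl
        rw [this, map_zero]
      obtain ⟨b, hb⟩ := hπ c
      obtain ⟨a, ha0, ha⟩ := hrd (f j) b (by rw [map_smul, hb, hfc])
      have hker : Ideal.span {f j} ≤ LinearMap.ker (LinearMap.toSpanSingleton R B (b - a)) := by
        rw [Ideal.span_le]
        intro x hx
        rw [Set.mem_singleton_iff] at hx
        subst hx
        simp only [SetLike.mem_coe, LinearMap.mem_ker, LinearMap.toSpanSingleton_apply]
        rw [smul_sub, ha, sub_self]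
      refine ⟨Submodule.liftQ _ (LinearMap.toSpanSingleton R B (b - a)) hker, ?_⟩
      apply LinearMap.ext
      intro x
      obtain ⟨r, rfl⟩ := Ideal.Quotient.mk_surjective x
      have hr : (Ideal.Quotient.mk (Ideal.span {f j}) r) = r • (Ideal.Quotient.mk _ 1) := by
        rw [Algebra.smul_def, map_one, mul_one, Ideal.Quotient.algebraMap_eq]
      have h1 : Submodule.liftQ (Ideal.span {f j}) (LinearMap.toSpanSingleton R B (b - a)) hker
          ((Ideal.Quotient.mk (Ideal.span {f j})) r) = r • (b - a) := by
        change Submodule.liftQ (Ideal.span {f j}) (LinearMap.toSpanSingleton R B (b - a)) hker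
          (Submodule.Quotient.mk r) = _
        rw [Submodule.liftQ_apply, LinearMap.toSpanSingleton_apply]
      rw [LinearMap.comp_apply, h1, map_smul, map_sub, ha0, sub_zero, hb, hc, ← map_smul, ← hr]
    choose φj hφj using key
    refine ⟨(DirectSum.toModule R ι B φj) ∘ₗ i, ?_⟩
    have h2 : π ∘ₗ (DirectSum.toModule R ι B φj) = ψ ∘ₗ p := by
      apply DirectSum.linearMap_ext
      intro j
      rw [← hφj j, LinearMap.comp_assoc]
      congr 1
      apply LinearMap.ext
      intro x
      simp [DirectSum.toModule_lof]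
    rw [← LinearMap.comp_assoc, h2, LinearMap.comp_assoc, hpi, LinearMap.comp_id]
  · intro H
    let ι : Type u := {x : R × P // x.1 • x.2 = 0}
    let f : ι → R := fun j => j.1.1
    have hker : ∀ j : ι, Ideal.span {f j} ≤ LinearMap.ker (LinearMap.toSpanSingleton R P j.1.2) := by
      intro j
      rw [Ideal.span_le]
      intro x hx
      rw [Set.mem_singleton_iff] at hx
      subst hx
      simp only [SetLike.mem_coe, LinearMap.mem_ker, LinearMap.toSpanSingleton_apply]
      exact j.2
    let πj : ∀ j : ι, (R ⧸ Ideal.span {f j}) →ₗ[R] P := fun j =>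
      Submodule.liftQ _ (LinearMap.toSpanSingleton R P j.1.2) (hker j)
    let π : (⨁ j, R ⧸ Ideal.span {f j}) →ₗ[R] P := DirectSum.toModule R ι P πj
    have hπe : ∀ j : ι, π (DirectSum.lof R ι (fun j => R ⧸ Ideal.span {f j}) j
        (Ideal.Quotient.mk _ 1)) = j.1.2 := by
      intro j
      change DirectSum.toModule R ι P πj _ = _
      rw [DirectSum.toModule_lof]
      change Submodule.liftQ _ (LinearMap.toSpanSingleton R P j.1.2) (hker j)
        (Submodule.Quotient.mk 1) = _
      rw [Submodule.liftQ_apply, LinearMap.toSpanSingleton_apply, one_smul]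
    have hsurj : Function.Surjective π := by
      intro x
      exact ⟨_, hπe ⟨(0, x), zero_smul R x⟩⟩
    have hrd : ∀ (g : R) (b : ⨁ j, R ⧸ Ideal.span {f j}), π (g • b) = 0 →
        ∃ a, π a = 0 ∧ g • a = g • b := by
      intro g b hgb
      rw [map_smul] at hgb
      let j : ι := ⟨(g, π b), hgb⟩
      let e := DirectSum.lof R ι (fun j => R ⧸ Ideal.span {f j}) j (Ideal.Quotient.mk _ 1)
      have he : g • e = 0 := by
        change g • DirectSum.lof R ι (fun j => R ⧸ Ideal.span {f j}) j (Ideal.Quotient.mk _ 1) = 0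
        rw [← map_smul]
        have : g • (Ideal.Quotient.mk (Ideal.span {f j}) 1) = 0 := by
          rw [Algebra.smul_def, map_one, mul_one, Ideal.Quotient.algebraMap_eq,
            Ideal.Quotient.eq_zero_iff_mem]
          exact Ideal.subset_span rfl
        rw [this, map_zero]
      refine ⟨b - e, ?_, ?_⟩
      · rw [map_sub, hπe j, sub_self]
      · rw [smul_sub, he, sub_zero]
    obtain ⟨φ, hφ⟩ := H (⨁ j, R ⧸ Ideal.span {f j}) P π hsurj hrd LinearMap.id
    exact ⟨ι, f, φ, π, hφ⟩

end Groth.Agent.S7123
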