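import Groth.Statements.S7124
import Mathlib
-- import your own Groth.Agent.* helpers here

set_option autoImplicit false
universe u
open CAlg

namespace Groth.Agent.S7124

open IsLocalRing

section dominant
variable {L Γ₀ : Type*} [Field L] [LinearOrderedCommGroupWithZero Γ₀] (v : Valuation L Γ₀)

theorem sum_ne_zero_of_distinct {J : Type*} (s : Finset J) (hs : s.Nonempty) (t : J → L)
    (ht : ∀ j ∈ s, t j ≠ 0) (hinj : ∀ j ∈ s, ∀ j' ∈ s, v (t j) = v (t j') → j = j') :
    ∑ j ∈ s, t j ≠ 0 := by
  classical
  obtain ⟨j0, hj0, hmax⟩ := Finset.exists_max_image s (fun j => v (t j)) hs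
  have hv0 : v (t j0) ≠ 0 := (Valuation.ne_zero_iff v).mpr (ht j0 hj0)
  have hlt : v (∑ j ∈ s.erase j0, t j) < v (t j0) := by
    apply Valuation.map_sum_lt v hv0
    intro j hj
    have hjs := Finset.mem_of_mem_erase hj
    refine lt_of_le_of_ne (hmax j hjs) ?_
    intro heq
    exact (Finset.ne_of_mem_erase hj) (hinj j hjs j0 hj0 heq)
  rw [← Finset.add_sum_erase s t hj0]
  intro h0
  have := Valuation.map_add_eq_of_lt_left v hlt
  rw [h0, map_zero] at this
  exact hv0 this.symm

end dominant

section main
variable (A B K L : Type u) [CommRing A] [IsDomain A] [ValuationRing A] [CommRing B] [IsDomain B]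
  [ValuationRing B] [Field K] [Field L]

theorem integersA [Algebra A K] [IsFractionRing A K] : (ValuationRing.valuation A K).Integers A :=
  { hom_inj := IsFractionRing.injective A K
    map_le_one := fun a => (ValuationRing.mem_integer_iff A K _).mpr ⟨a, rfl⟩
    exists_of_le_one := fun {x} hx => (ValuationRing.mem_integer_iff A K x).mp hx }

variable [Algebra A K] [IsFractionRing A K] [Algebra B L] [IsFractionRing B L] [Algebra A B]
  [Algebra K L] [Algebra A L] [IsScalarTower A K L] [IsScalarTower A B L]
  [IsLocalHom (algebraMap A B)]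

theorem main_indep {I : Type*} {J : Type*} [Fintype I] [Fintype J]
    (b : I → B) (hb : LinearIndependent (ResidueField A) (fun i => residue B (b i)))
    (π : J → Lˣ)
    (hπ : ∀ j j' : J, (∃ a : Kˣ, ValuationRing.valuation B L (algebraMap K L a) *
      ValuationRing.valuation B L (π j : L) = ValuationRing.valuation B L (π j' : L)) → j = j') :
    LinearIndependent K (fun ij : I × J => algebraMap B L (b ij.1) * (π ij.2 : L)) := by
  classical
  obtain ⟨vA, hvA⟩ : ∃ vA, vA = ValuationRing.valuation A K := ⟨_, rfl⟩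
  obtain ⟨vB, hvB⟩ : ∃ vB, vB = ValuationRing.valuation B L := ⟨_, rfl⟩
  have hIA : vA.Integers A := hvA ▸ integersA A K
  have hIB : vB.Integers B := hvB ▸ integersA B L
  rw [← hvB] at hπ
  rw [Fintype.linearIndependent_iff]
  intro c hc
  obtain ⟨T, hT⟩ : ∃ T : J → L, T = fun j => ∑ i, algebraMap K L (c (i, j)) * algebraMap B L (b i) :=
    ⟨_, rfl⟩
  have hsum : ∑ j, T j * (π j : L) = 0 := by
    rw [← hc, Fintype.sum_prod_type_right]
    refine Finset.sum_congr rfl fun j _ => ?_
    rw [hT, Finset.sum_mul]
    refine Finset.sum_congr rfl fun i _ => ?_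
    rw [Algebra.smul_def]
    ring
  have claim1 : ∀ j, (∃ i, c (i, j) ≠ 0) → ∃ a : Kˣ, vB (T j) = vB (algebraMap K L a) := by
    rintro j ⟨i1, hi1⟩
    obtain ⟨i0, -, hmax⟩ := Finset.exists_max_image Finset.univ (fun i => vA (c (i, j)))
      ⟨i1, Finset.mem_univ _⟩
    have hc0 : c (i0, j) ≠ 0 := by
      intro h0
      have := hmax i1 (Finset.mem_univ _)
      rw [h0, map_zero] at this
      exact hi1 ((Valuation.zero_iff vA).mp (le_antisymm this zero_le'))
    have hpos : 0 < vA (c (i0, j)) := zero_lt_iff.mpr ((Valuation.ne_zero_iff vA).mpr hc0)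
    have hα : ∀ i, ∃ α : A, algebraMap A K α = c (i, j) / c (i0, j) := by
      intro i
      apply hIA.exists_of_le_one
      rw [map_div₀]
      exact (div_le_one₀ hpos).mpr (hmax i (Finset.mem_univ _))
    choose α hα using hα
    have hα0 : α i0 = 1 := by
      apply hIA.hom_inj
      rw [hα, div_self hc0, map_one]
    obtain ⟨β, hβdef⟩ : ∃ β : B, β = ∑ i, algebraMap A B (α i) * b i := ⟨_, rfl⟩
    have hTj : T j = algebraMap K L (c (i0, j)) * algebraMap B L β := by
      rw [hT, hβdef]
      simp only [map_sum, map_mul, Finset.mul_sum]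
      refine Finset.sum_congr rfl fun i _ => ?_
      have : algebraMap K L (c (i, j)) = algebraMap K L (c (i0, j)) * algebraMap A L (α i) := by
        rw [IsScalarTower.algebraMap_apply A K L, hα, ← map_mul, mul_div_cancel₀ _ hc0]
      rw [this, IsScalarTower.algebraMap_apply A B L]
      ring
    have hβ : IsUnit β := by
      by_contra hnu
      have hres : residue B β = 0 := (residue_eq_zero_iff β).mpr ((mem_maximalIdeal β).mpr hnu)
      have hres' : ∑ i, residue A (α i) • residue B (b i) = 0 := by
        rw [← hres, hβdef, map_sum]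
        refine Finset.sum_congr rfl fun i _ => ?_
        rw [Algebra.smul_def, map_mul]
        rfl
      have := Fintype.linearIndependent_iff.mp hb (fun i => residue A (α i)) hres' i0
      rw [hα0, map_one] at this
      exact one_ne_zero this
    refine ⟨Units.mk0 (c (i0, j)) hc0, ?_⟩
    rw [hTj, map_mul, hIB.one_of_isUnit hβ, mul_one]
    rfl
  by_contra hne
  push Not at hne
  obtain ⟨⟨i1, j1⟩, hij1⟩ := hne
  obtain ⟨s, hsdef⟩ : ∃ s : Finset J, s = Finset.univ.filter (fun j => ∃ i, c (i, j) ≠ 0) :=
    ⟨_, rfl⟩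
  have hsmem : ∀ j, j ∈ s ↔ ∃ i, c (i, j) ≠ 0 := by
    intro j
    rw [hsdef]
    simp
  have hs : s.Nonempty := ⟨j1, (hsmem j1).mpr ⟨i1, hij1⟩⟩
  have hT0 : ∀ j, j ∉ s → T j = 0 := by
    intro j hj
    rw [hsmem] at hj
    push Not at hj
    rw [hT]
    simp [hj]
  have hsum' : ∑ j ∈ s, T j * (π j : L) = 0 := by
    rw [← hsum]
    apply Finset.sum_subset (Finset.subset_univ _)
    intro j _ hj
    rw [hT0 j hj, zero_mul]
  choose! a ha using claim1
  refine sum_ne_zero_of_distinct vB s hs (fun j => T j * (π j : L)) ?_ ?_ hsum'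
  · intro j hj
    have hj' := (hsmem j).mp hj
    have h1 : vB (T j) ≠ 0 := by
      rw [ha j hj']
      exact (Valuation.ne_zero_iff vB).mpr ((map_ne_zero _).mpr (a j).ne_zero)
    exact mul_ne_zero ((Valuation.ne_zero_iff vB).mp h1) (π j).ne_zero
  · intro j hj j' hj' heq
    have hjj := (hsmem j).mp hj
    have hjj' := (hsmem j').mp hj'
    simp only [map_mul] at heq
    rw [ha j hjj, ha j' hjj'] at heq
    apply hπ j j'
    refine ⟨a j / a j', ?_⟩
    have hne' : vB (algebraMap K L (a j')) ≠ 0 :=
      (Valuation.ne_zero_iff vB).mpr ((map_ne_zero _).mpr (a j').ne_zero)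
    rw [Units.val_div_eq_div_val, map_div₀, map_div₀, div_mul_eq_mul_div, heq,
      mul_div_cancel_left₀ _ hne']

end main

/-- Let A ⊆ B be an extension of valuation rings (both valuation domains, the inclusion injective and
local) with fraction fields K ⊆ L such that L/K is finite. Then the residue field of B is finite
over that of A, the value group of A has finite index in the value group of B, and (index of value
groups) · (residue degree) ≤ [L : K]. Here the value group of B is written as Lˣ modulo the units of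
B, and that of A as the image of Kˣ in it. -/
theorem result (A B K L : Type u) [CommRing A] [IsDomain A]
    [ValuationRing A] [CommRing B] [IsDomain B] [ValuationRing B] [Field K] [Field L]
    [Algebra A K] [IsFractionRing A K] [Algebra B L] [IsFractionRing B L] [Algebra A B] [Algebra K L]
    [Algebra A L] [IsScalarTower A K L] [IsScalarTower A B L] (hinj : Function.Injective (algebraMap A B))
    [IsLocalHom (algebraMap A B)] [FiniteDimensional K L] :
    let UB : Subgroup Lˣ := (Units.map (algebraMap B L).toMonoidHom).range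
    let ΓA : Subgroup (Lˣ ⧸ UB) := ((QuotientGroup.mk' UB).comp (Units.map (algebraMap K L).toMonoidHom)).range
    Module.Finite (IsLocalRing.ResidueField A) (IsLocalRing.ResidueField B) ∧ ΓA.index ≠ 0 ∧
      ΓA.index * Module.finrank (IsLocalRing.ResidueField A) (IsLocalRing.ResidueField B) ≤
        Module.finrank K L := by
  intro UB ΓA
  classical
  obtain ⟨vB, hvB⟩ : ∃ vB, vB = ValuationRing.valuation B L := ⟨_, rfl⟩
  have hIB : vB.Integers B := hvB ▸ integersA B L
  have hUB : ∀ x : Lˣ, vB (x : L) = 1 → x ∈ UB := by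
    intro x hx
    obtain ⟨b, hb⟩ := hIB.exists_of_le_one (le_of_eq hx)
    have hbu : IsUnit b := hIB.isUnit_of_one' (by rw [hb]; exact hx)
    refine ⟨hbu.unit, Units.ext ?_⟩
    simp [hb]
  have hcos : ∀ x y : Lˣ, (∃ a : Kˣ, vB (algebraMap K L a) * vB (x : L) = vB (y : L)) →
      (QuotientGroup.mk (QuotientGroup.mk x : Lˣ ⧸ UB) : (Lˣ ⧸ UB) ⧸ ΓA) =
        QuotientGroup.mk (QuotientGroup.mk y : Lˣ ⧸ UB) := by
    rintro x y ⟨a, ha⟩
    rw [QuotientGroup.eq]
    refine ⟨a, ?_⟩
    show (QuotientGroup.mk (Units.map (algebraMap K L).toMonoidHom a) : Lˣ ⧸ UB) =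
      (QuotientGroup.mk x)⁻¹ * QuotientGroup.mk y
    rw [← QuotientGroup.mk_inv, ← QuotientGroup.mk_mul, QuotientGroup.eq]
    apply hUB
    have hxne : vB (x : L) ≠ 0 := (Valuation.ne_zero_iff vB).mpr x.ne_zero
    have hane : vB (algebraMap K L a) ≠ 0 :=
      (Valuation.ne_zero_iff vB).mpr ((map_ne_zero _).mpr a.ne_zero)
    simp only [Units.val_mul, Units.val_inv_eq_inv_val, Units.coe_map, RingHom.toMonoidHom_eq_coe,
      MonoidHom.coe_coe, map_mul, map_inv₀]
    rw [← ha]
    field_simp
  -- bound on finite independent families in the residue field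
  have hfin : Module.Finite (ResidueField A) (ResidueField B) := by
    have hrank : Module.rank (ResidueField A) (ResidueField B) ≤ (Module.finrank K L : ℕ) := by
      apply rank_le
      intro s hs
      have hl : ∀ i : s, ∃ b : B, residue B b = (i : ResidueField B) :=
        fun i => residue_surjective _
      choose b hb using hl
      have hli : LinearIndependent (ResidueField A) (fun i : s => residue B (b i)) := by
        simpa only [hb] using hs
      have := main_indep A B K L b hli (fun _ : Unit => (1 : Lˣ)) (fun _ _ _ => rfl)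
      have h2 := this.fintype_card_le_finrank
      simpa using h2
    exact Module.rank_lt_aleph0_iff.mp (lt_of_le_of_lt hrank (Cardinal.nat_lt_aleph0 _))
  have h1 : LinearIndependent (ResidueField A) (fun _ : Unit => residue B (1 : B)) := by
    rw [map_one]
    exact linearIndependent_unique_iff.mpr one_ne_zero
  have hrep : ∀ j : (Lˣ ⧸ UB) ⧸ ΓA, ∃ x : Lˣ,
      (QuotientGroup.mk (QuotientGroup.mk x : Lˣ ⧸ UB) : (Lˣ ⧸ UB) ⧸ ΓA) = j := by
    intro j
    obtain ⟨g, hg⟩ := QuotientGroup.mk_surjective j
    obtain ⟨x, hx⟩ := QuotientGroup.mk_surjective g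
    exact ⟨x, by rw [hx, hg]⟩
  choose rep hrep using hrep
  have hbound : ∀ t : Finset ((Lˣ ⧸ UB) ⧸ ΓA), t.card ≤ Module.finrank K L := by
    intro t
    have := main_indep A B K L (fun _ : Unit => (1 : B)) h1 (fun j : t => rep j)
      (fun j j' hjj' => by
        apply Subtype.ext
        rw [← hrep j, ← hrep j']
        exact hcos _ _ (hvB ▸ hjj'))
    have h2 := this.fintype_card_le_finrank
    simpa using h2
  haveI : Finite ((Lˣ ⧸ UB) ⧸ ΓA) := by
    by_contra hinf
    rw [not_finite_iff_infinite] at hinf
    obtain ⟨t, ht⟩ := Infinite.exists_subset_card_eq ((Lˣ ⧸ UB) ⧸ ΓA) (Module.finrank K L + 1)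
    have := hbound t
    omega
  refine ⟨hfin, Subgroup.index_ne_zero_of_finite, ?_⟩
  haveI := Fintype.ofFinite ((Lˣ ⧸ UB) ⧸ ΓA)
  have hidx : ΓA.index = Fintype.card ((Lˣ ⧸ UB) ⧸ ΓA) := by
    rw [Subgroup.index_eq_card, Nat.card_eq_fintype_card]
  have hl : ∀ i : Fin (Module.finrank (ResidueField A) (ResidueField B)), ∃ b : B,
      residue B b = Module.finBasis (ResidueField A) (ResidueField B) i :=
    fun i => residue_surjective _
  choose b hb using hl
  have hli : LinearIndependent (ResidueField A) (fun i => residue B (b i)) := by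
    simp only [hb]
    exact (Module.finBasis (ResidueField A) (ResidueField B)).linearIndependent
  have := main_indep A B K L b hli rep (fun j j' hjj' => by
    rw [← hrep j, ← hrep j']
    exact hcos _ _ (hvB ▸ hjj'))
  have h2 := this.fintype_card_le_finrank
  rw [hidx]
  simpa [Fintype.card_prod, mul_comm] using h2

end Groth.Agent.S7124
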