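import Groth.Statements.S7128
import Mathlib
import Groth.Agent.Lib.Helper10.WEVnr

set_option autoImplicit false
universe u
open EtAlg

namespace Groth.Agent.S7128

open TensorProduct

/-- A weakly étale algebra over a reduced ring is itself reduced. -/
theorem result (A B : Type u) [CommRing A] [CommRing B] [Algebra A B] [IsReduced A]
    [Algebra.WeaklyEtale A B] : IsReduced B := by
  classical
  let P := ∀ p : PrimeSpectrum A, p.asIdeal.ResidueField
  have hinj : Function.Injective (algebraMap A P) := by
    rw [injective_iff_map_eq_zero]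
    intro a ha
    have hnil : a ∈ nilradical A := by
      rw [nilradical_eq_sInf, Ideal.mem_sInf]
      intro J hJ
      have : J.IsPrime := hJ
      have h1 := congrFun ha (⟨J, hJ⟩ : PrimeSpectrum A)
      exact Ideal.algebraMap_residueField_eq_zero.1 h1
    rw [nilradical_eq_zero A] at hnil
    exact hnil
  have hvnr : ∀ x : P, ∃ c : P, x = x * x * c := by
    intro x
    refine ⟨fun p => (x p)⁻¹, ?_⟩
    ext p
    change x p = x p * x p * (x p)⁻¹
    by_cases hx : x p = 0
    · rw [hx]; simp
    · rw [mul_assoc, mul_inv_cancel₀ hx, mul_one]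
  have hvnrB : ∀ b : P ⊗[A] B, ∃ c : P ⊗[A] B, b = b * b * c :=
    Groth.Agent.Lib.Helper10.WE.exists_eq_sq_mul P (P ⊗[A] B)
      (fun b => Groth.Agent.Lib.Helper10.WE.flat_of_vnr hvnr _)
  have hincl : Function.Injective
      (Algebra.TensorProduct.includeRight : B →ₐ[A] P ⊗[A] B) := by
    have h1 : Function.Injective (LinearMap.rTensor B (Algebra.linearMap A P)) :=
      Module.Flat.rTensor_preserves_injective_linearMap _ hinj
    intro x y hxy
    have h2 : LinearMap.rTensor B (Algebra.linearMap A P) ((1 : A) ⊗ₜ[A] x) =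
        LinearMap.rTensor B (Algebra.linearMap A P) ((1 : A) ⊗ₜ[A] y) := by
      simpa using hxy
    have h3 := h1 h2
    have h4 := congrArg (TensorProduct.lid A B) h3
    simpa using h4
  refine ⟨fun x hx => ?_⟩
  obtain ⟨n, hn⟩ := hx
  apply hincl
  rw [map_zero]
  set y := (Algebra.TensorProduct.includeRight : B →ₐ[A] P ⊗[A] B) x with hy
  have hyn : y ^ n = 0 := by rw [hy, ← map_pow, hn, map_zero]
  obtain ⟨c, hc⟩ := hvnrB y
  have hk : ∀ k : ℕ, y = y ^ (k + 1) * c ^ k := by
    intro k
    induction k with
    | zero => simp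
    | succ k ih =>
      calc y = y ^ (k + 1) * c ^ k := ih
        _ = y ^ k * y * c ^ k := by rw [pow_succ]
        _ = y ^ k * (y * y * c) * c ^ k := by rw [← hc]
        _ = y ^ (k + 1 + 1) * c ^ (k + 1) := by ring
  rcases Nat.eq_zero_or_pos n with h0 | hpos
  · subst h0
    rw [pow_zero] at hyn
    have : y = y * 1 := (mul_one y).symm
    rw [this, hyn, mul_zero]
  · have h5 := hk (n - 1)
    rw [Nat.sub_add_cancel hpos, hyn, zero_mul] at h5
    exact h5

end Groth.Agent.S7128
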