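import Groth.Statements.S7129
-- import your own Groth.Agent.* helpers here
import Groth.Agent.Lib.Helper40.AbsFlat

set_option autoImplicit false
universe u
open EtAlg

namespace Groth.Agent.S7129

/-- Every module over a product of fields ∏ K_i is flat over it (the product is an absolutely flat
ring). -/
theorem result (ι : Type u) (K : ι → Type u) [∀ i, Field (K i)] (M : Type u)
    [AddCommGroup M] [Module (∀ i, K i) M] : Module.Flat (∀ i, K i) M := by
  classical
  have hv : Groth.Agent.Lib.Helper40.IsVNR (∀ i, K i) := by
    intro a
    refine ⟨fun i => (a i)⁻¹, ?_⟩
    funext i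
    by_cases h : a i = 0
    · simp [h]
    · simp only [Pi.mul_apply]
      field_simp
  exact Groth.Agent.Lib.Helper40.flat_of_isField_localization
    (fun p _ => hv.isField_localization p) M

end Groth.Agent.S7129
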