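import Groth.Statements.S7131
import Groth.Agent.Lib.Helper46.WeaklyEtaleFlat
import Groth.Agent.Lib.Helper46.TorShift

set_option autoImplicit false
universe u
open EtAlg

namespace Groth.Agent.S7131

open CategoryTheory Limits in
open Groth.Agent.Lib.Helper46 Groth.Agent.Lib.Helper46.TorShift in
set_option backward.isDefEq.respectTransparency false in
/-- Dimension shifting: vanishing of `Tor^A_p(N, -)` for `p > d` ascends to `B`. -/
theorem aux (A B : Type u) [CommRing A] [CommRing B] [Algebra A B] [Algebra.WeaklyEtale A B]
    (d : ℕ) : ∀ (N : Type u) [AddCommGroup N] [Module B N] [Module A N] [IsScalarTower A B N],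
    (∀ (X : Type u) [AddCommGroup X] [Module A X] (p : ℕ), d < p → IsZero (T A p N X)) →
    ∀ (X' : Type u) [AddCommGroup X'] [Module B X'] (p : ℕ), d < p → IsZero (T B p N X') := by
  induction d with
  | zero =>
    intro N _ _ _ _ hA X' _ _ p hp
    have hflatA : Module.Flat A N := by
      rw [Module.Flat.iff_lTensor_injective']
      intro I
      have h1 := TorOne.isZero_tor_one_iff_injective_lTensor (R := A) (N := N) I.subtype I.mkQ
        (Submodule.injective_subtype I) (LinearMap.exact_subtype_mkQ I) (Submodule.mkQ_surjective I)
      exact h1.1 (hA (A ⧸ I) 1 Nat.one_pos)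
    have hflatB : Module.Flat B N :=
      Groth.Agent.Lib.Helper46.WeaklyEtaleFlat.flat_of_flat_of_weaklyEtale A B N
    obtain ⟨q, rfl⟩ : ∃ q, p = q + 1 := ⟨p - 1, by omega⟩
    exact isZero_of_flat_left N X' q
  | succ d ih =>
    intro N _ _ _ _ hA X' _ _ p hp
    obtain ⟨F, _, _, _, _, hfree, π, hπ⟩ : ∃ (F : Type u) (_ : AddCommGroup F) (_ : Module B F)
        (_ : Module A F) (_ : IsScalarTower A B F) (_ : Module.Free B F) (π : F →ₗ[B] N),
        Function.Surjective π :=
      ⟨N →₀ B, inferInstance, inferInstance, inferInstance, inferInstance, inferInstance,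
        Finsupp.linearCombination B id, Finsupp.linearCombination_id_surjective B N⟩
    have hFB : Module.Flat B F := inferInstance
    have hFA : Module.Flat A F := Module.Flat.trans A B F
    -- the kernel
    have hexB : Function.Exact (LinearMap.ker π).subtype π := LinearMap.exact_subtype_ker_map π
    have hιB : Function.Injective (LinearMap.ker π).subtype := Submodule.injective_subtype _
    -- over A
    have hexA : Function.Exact ((LinearMap.ker π).subtype.restrictScalars A)
        (π.restrictScalars A) := hexB
    have hK : ∀ (X : Type u) [AddCommGroup X] [Module A X] (q : ℕ), d < q →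
        IsZero (T A q (LinearMap.ker π) X) := by
      intro X _ _ q hq
      obtain ⟨r, rfl⟩ : ∃ r, q = r + 1 := ⟨q - 1, by omega⟩
      exact isZero_left₁ ((LinearMap.ker π).subtype.restrictScalars A) (π.restrictScalars A)
        hιB hexA hπ (r + 1) (hA X (r + 1 + 1) (by omega)) (isZero_of_flat_left F X r)
    have hKB := ih (LinearMap.ker π) hK X'
    obtain ⟨q, rfl⟩ : ∃ q, p = q + 1 := ⟨p - 1, by omega⟩
    exact isZero_right₁ (LinearMap.ker π).subtype π hιB hexB hπ q
      (isZero_of_flat_left F X' q) (hKB q (by omega))


/-- Suppose A → B is weakly étale and every A-module has tor dimension at most d. Then every B-module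
has tor dimension at most d over B (weak dimension at most d ascends along weakly étale maps). -/
theorem result (A B : Type u) [CommRing A] [CommRing B] [Algebra A B]
    [Algebra.WeaklyEtale A B] (d : ℕ)
    (hA : ∀ (M : Type u) [AddCommGroup M] [Module A M], DRing.HasTorDimLE A d M)
    (N : Type u) [AddCommGroup N] [Module B N] : DRing.HasTorDimLE B d N := by
  letI : Module A N := Module.compHom N (algebraMap A B)
  haveI : IsScalarTower A B N := IsScalarTower.of_algebraMap_smul fun _ _ => rfl
  intro X' _ _ p hp
  have h := aux A B d N (fun X _ _ q hq =>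
    (ModuleCat.isZero_iff_subsingleton).mpr (hA N X q hq)) X' p hp
  exact (ModuleCat.isZero_iff_subsingleton).mp h

end Groth.Agent.S7131
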