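import Groth.Statements.S7133
import Mathlib

set_option autoImplicit false
universe u
open EtAlg

namespace Groth.Agent.S7133

open IsDiscreteValuationRing in
/-- For an injective local homomorphism A → B of discrete valuation rings whose fields of fractions are
K ⊆ L: if K has characteristic p > 0 and L/K is purely inseparable, then the ramification index of B
over A is a power of p. -/
theorem result (A B K L : Type u) [CommRing A] [IsDomain A]
    [IsDiscreteValuationRing A] [CommRing B] [IsDomain B] [IsDiscreteValuationRing B] [Algebra A B]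
    (hinj : Function.Injective (algebraMap A B)) [IsLocalHom (algebraMap A B)]
    [Field K] [Field L] [Algebra A K] [IsFractionRing A K] [Algebra B L] [IsFractionRing B L]
    [Algebra K L] [Algebra A L] [IsScalarTower A K L] [IsScalarTower A B L]
    (p : ℕ) (hp : p.Prime) [CharP K p] [IsPurelyInseparable K L] :
    ∃ k : ℕ, Ideal.ramificationIdx' (IsLocalRing.maximalIdeal A) (IsLocalRing.maximalIdeal B) =
      p ^ k := by
  haveI : ExpChar K p := ExpChar.prime hp
  obtain ⟨ϖ, hϖ⟩ := exists_irreducible A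
  obtain ⟨ϖB, hϖB⟩ := exists_irreducible B
  have hmA : IsLocalRing.maximalIdeal A = Ideal.span {ϖ} := (irreducible_iff_uniformizer ϖ).mp hϖ
  have hmB : IsLocalRing.maximalIdeal B = Ideal.span {ϖB} := (irreducible_iff_uniformizer ϖB).mp hϖB
  have hfϖ0 : algebraMap A B ϖ ≠ 0 := by
    intro h0
    exact hϖ.ne_zero (hinj (by rw [h0, map_zero]))
  obtain ⟨e, v, hev⟩ := eq_unit_mul_pow_irreducible hfϖ0 hϖB
  -- transfer of decompositions
  have htr : ∀ x : A, x ≠ 0 → ∃ (s : ℕ) (w : Bˣ), algebraMap A B x = w * ϖB ^ (e * s) := by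
    intro x hx
    obtain ⟨s, ux, hxs⟩ := eq_unit_mul_pow_irreducible hx hϖ
    refine ⟨s, (Units.map (algebraMap A B).toMonoidHom ux) * v ^ s, ?_⟩
    rw [hxs, map_mul, map_pow, hev, mul_pow, ← pow_mul]
    simp only [Units.val_mul, Units.val_pow_eq_pow_val, Units.coe_map, RingHom.toMonoidHom_eq_coe,
      MonoidHom.coe_coe]
    ring
  -- ramification index is e
  have hram : Ideal.ramificationIdx' (IsLocalRing.maximalIdeal A) (IsLocalRing.maximalIdeal B) = e := by
    apply Ideal.ramificationIdx'_spec
    · rw [hmA, hmB, Ideal.map_span, Set.image_singleton, Ideal.span_singleton_pow,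
        Ideal.span_singleton_le_span_singleton, hev]
      exact Dvd.intro_left _ rfl
    · rw [hmA, hmB, Ideal.map_span, Set.image_singleton, Ideal.span_singleton_pow,
        Ideal.span_singleton_le_span_singleton, hev]
      intro hdvd
      have h1 : ϖB ^ (e + 1) ∣ ϖB ^ e := by
        have : (v : B) * ϖB ^ e ∣ ϖB ^ e := ⟨((v⁻¹ : Bˣ) : B), by
          rw [mul_comm (v : B), mul_assoc, Units.mul_inv, mul_one]⟩
        exact hdvd.trans this
      have := (pow_dvd_pow_iff hϖB.ne_zero hϖB.not_isUnit).mp h1
      omega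
  rw [hram]
  -- the p-power of ϖB lies in K
  obtain ⟨n, x, hx⟩ := IsPurelyInseparable.pow_mem K p (algebraMap B L ϖB)
  have hϖBL : algebraMap B L ϖB ≠ 0 := by
    intro h0
    exact hϖB.ne_zero ((IsFractionRing.injective B L) (by rw [h0, map_zero]))
  have hx0 : x ≠ 0 := by
    rintro rfl
    rw [map_zero] at hx
    exact pow_ne_zero _ hϖBL hx.symm
  obtain ⟨a, b, hb, hab⟩ := IsFractionRing.div_surjective (A := A) x
  have hb0 : b ≠ 0 := nonZeroDivisors.ne_zero hb
  have ha0 : a ≠ 0 := by
    rintro rfl
    rw [map_zero, zero_div] at hab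
    exact hx0 hab.symm
  have hbK : algebraMap A K b ≠ 0 := by
    intro h0
    exact hb0 ((IsFractionRing.injective A K) (by rw [h0, map_zero]))
  -- equation in B
  have heq : algebraMap A B a = ϖB ^ (p ^ n) * algebraMap A B b := by
    apply IsFractionRing.injective B L
    rw [map_mul, map_pow, ← hx, ← IsScalarTower.algebraMap_apply, ← IsScalarTower.algebraMap_apply,
      IsScalarTower.algebraMap_apply A K L a, IsScalarTower.algebraMap_apply A K L b, ← map_mul]
    congr 1
    rw [← hab, div_mul_cancel₀ _ hbK]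
  obtain ⟨s, wa, hsa⟩ := htr a ha0
  obtain ⟨t, wb, htb⟩ := htr b hb0
  rw [hsa, htb] at heq
  have heq' : (wa : B) * ϖB ^ (e * s) = wb * ϖB ^ (p ^ n + e * t) := by
    rw [heq, pow_add]; ring
  have hnum := unit_mul_pow_congr_pow hϖB hϖB wa wb _ _ heq'
  have hdvd : e ∣ p ^ n := by
    have hle : e * t ≤ e * s := by omega
    have : p ^ n = e * (s - t) := by
      rw [Nat.mul_sub]; omega
    exact ⟨s - t, this⟩
  obtain ⟨j, _, hj⟩ := (Nat.dvd_prime_pow hp).mp hdvd
  exact ⟨j, hj⟩

end Groth.Agent.S7133
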