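import Groth.Statements.S7135
import Groth.Agent.Lib.Helper65.ComplSplit
import Groth.Agent.Lib.Helper65.ComplFree

set_option autoImplicit false
universe u

namespace Groth.Agent.S7135

open Groth.Agent.Lib.Helper65.ComplSplit Groth.Agent.Lib.Helper65.ComplFree

theorem mem_smul_top_pi_iff {R : Type*} [CommRing R] {N : Type*} [AddCommGroup N] [Module R N]
    (J : Ideal R) {k : ℕ} (w : Fin k → N) :
    w ∈ (J • ⊤ : Submodule R (Fin k → N)) ↔ ∀ j, w j ∈ (J • ⊤ : Submodule R N) := by
  classical
  constructor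
  · intro hw j
    have hle : (J • ⊤ : Submodule R (Fin k → N)) ≤
        Submodule.comap (LinearMap.proj j : (Fin k → N) →ₗ[R] N) (J • ⊤) := by
      rw [← Submodule.map_le_iff_le_comap, Submodule.map_smul'']
      exact Submodule.smul_mono le_rfl le_top
    exact hle hw
  · intro h
    have e : w = ∑ j, LinearMap.single R (fun _ : Fin k => N) j (w j) := by
      ext i
      simp [Finset.sum_apply, Pi.single_apply]
    rw [e]
    refine Submodule.sum_mem _ fun j _ => ?_
    have : Submodule.map (LinearMap.single R (fun _ : Fin k => N) j) (J • ⊤) ≤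
        (J • ⊤ : Submodule R (Fin k → N)) := by
      rw [Submodule.map_smul'']
      exact Submodule.smul_mono le_rfl le_top
    exact this (Submodule.mem_map_of_mem (h j))

/-- homomorphisms out of a presented module. -/
theorem exists_hom_of_presentation {A : Type*} [CommRing A] {M X : Type*} [AddCommGroup M]
    [Module A M] [AddCommGroup X] [Module A X] {a b : ℕ} (π : (Fin a → A) →ₗ[A] M)
    (g : (Fin b → A) →ₗ[A] (Fin a → A)) (hπ : Function.Surjective π) (hex : Function.Exact g π)
    (x : Fin a → X) (hx : mulA (fun j i => g (Pi.single j 1) i) X x = 0) :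
    ∃ ψ : M →ₗ[A] X, ∀ v : Fin a → A, ψ (π v) = ∑ i, v i • x i := by
  classical
  let L : (Fin a → A) →ₗ[A] X := Fintype.linearCombination A x
  have hLg : L ∘ₗ g = 0 := by
    apply LinearMap.pi_ext'
    intro j
    ext
    have := congrFun hx j
    simpa [L, Fintype.linearCombination_apply, mulA_apply] using this
  have hker : LinearMap.ker π ≤ LinearMap.ker L := by
    intro v hv
    obtain ⟨w, rfl⟩ := (hex v).mp hv
    exact LinearMap.congr_fun hLg w
  refine ⟨(LinearMap.ker π).liftQ L hker ∘ₗ (π.quotKerEquivOfSurjective hπ).symm.toLinearMap, ?_⟩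
  intro v
  have : (π.quotKerEquivOfSurjective hπ).symm (π v) = Submodule.Quotient.mk v := by
    rw [LinearEquiv.symm_apply_eq]
    rfl
  simp only [LinearMap.comp_apply, LinearEquiv.coe_coe, this, Submodule.liftQ_apply]
  simp [L, Fintype.linearCombination_apply]


theorem apply_eq_sum_single {A : Type*} [CommRing A] {X : Type*} [AddCommGroup X] [Module A X]
    {a : ℕ} (F : (Fin a → A) →ₗ[A] X) (v : Fin a → A) :
    F v = ∑ i, v i • F (Pi.single i 1) := by
  classical
  conv_lhs => rw [pi_eq_sum_univ' v, map_sum]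
  simp only [map_smul]

/-- **Key lifting lemma** (Artin–Rees): homomorphisms modulo a high power of `I` lift, modulo `I`,
to honest homomorphisms. -/
theorem exists_lift_mod (A : Type u) [CommRing A] [IsNoetherianRing A] (I : Ideal A)
    (M N : Type u) [AddCommGroup M] [Module A M] [Module.Finite A M] [AddCommGroup N] [Module A N]
    [Module.Finite A N] :
    ∃ c : ℕ, ∀ c' ≥ c,
      ∀ φ : (M ⧸ (I ^ c' • ⊤ : Submodule A M)) →ₗ[A] (N ⧸ (I ^ c' • ⊤ : Submodule A N)),
      ∃ ψ : M →ₗ[A] N, ∀ (m : M) (n : N),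
        φ (Submodule.Quotient.mk m) = Submodule.Quotient.mk n →
          ψ m - n ∈ (I • ⊤ : Submodule A N) := by
  classical
  haveI : Module.FinitePresentation A M := Module.finitePresentation_of_finite A M
  obtain ⟨a, b, π, g, hπ, hex⟩ := Module.FinitePresentation.exists_fin' A M
  let T : (Fin a → N) →ₗ[A] (Fin b → N) := mulA (fun j i => g (Pi.single j 1) i) N
  obtain ⟨k, hk⟩ := Ideal.exists_pow_inf_eq_pow_smul I (LinearMap.range T)
  refine ⟨k + 1, fun c' hc' φ => ?_⟩
  have hle : I ^ c' ≤ I := by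
    calc I ^ c' ≤ I ^ 1 := Ideal.pow_le_pow_right (by omega)
      _ = I := pow_one I
  choose x hx using fun i : Fin a =>
    Submodule.Quotient.mk_surjective _ (φ (Submodule.Quotient.mk (π (Pi.single i 1))))
  -- the value of `φ` on `π v`
  have hφ : ∀ v : Fin a → A, φ (Submodule.Quotient.mk (π v)) =
      Submodule.Quotient.mk (∑ i, v i • x i) := by
    intro v
    have h1 := apply_eq_sum_single (φ ∘ₗ Submodule.mkQ _ ∘ₗ π) v
    simp only [LinearMap.comp_apply, Submodule.mkQ_apply] at h1
    rw [h1]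
    simp only [← hx]
    rw [← Submodule.mkQ_apply, map_sum]
    simp
  have hTx : T x ∈ (I ^ c' • ⊤ : Submodule A (Fin b → N)) := by
    rw [mem_smul_top_pi_iff]
    intro j
    have h2 := hφ (g (Pi.single j 1))
    rw [hex.apply_apply_eq_zero, Submodule.Quotient.mk_zero, map_zero] at h2
    have h3 := (Submodule.Quotient.mk_eq_zero _).mp h2.symm
    simpa [T, mulA_apply] using h3
  have hmem : T x ∈ (I ^ c' • ⊤ ⊓ LinearMap.range T : Submodule A (Fin b → N)) :=
    ⟨hTx, LinearMap.mem_range_self T x⟩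
  rw [hk c' (by omega)] at hmem
  have hmem2 : T x ∈ Submodule.map T (I • ⊤ : Submodule A (Fin a → N)) := by
    rw [Submodule.map_smul'', Submodule.map_top]
    refine Submodule.smul_mono ?_ inf_le_right hmem
    calc I ^ (c' - k) ≤ I ^ 1 := Ideal.pow_le_pow_right (by omega)
      _ = I := pow_one I
  obtain ⟨y, hy, hTy⟩ := hmem2
  have hy : y ∈ (I • ⊤ : Submodule A (Fin a → N)) := hy
  rw [mem_smul_top_pi_iff] at hy
  obtain ⟨ψ, hψ⟩ := exists_hom_of_presentation π g hπ hex (x - y) (by
    show T (x - y) = 0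
    rw [map_sub, hTy, sub_self])
  refine ⟨ψ, fun m n hmn => ?_⟩
  obtain ⟨v, rfl⟩ := hπ m
  rw [hψ, hφ] at *
  have h4 : ∑ i, v i • x i - n ∈ (I • ⊤ : Submodule A N) :=
    Submodule.smul_mono_left hle ((Submodule.Quotient.eq _).mp hmn)
  have h5 : ∑ i, v i • y i ∈ (I • ⊤ : Submodule A N) :=
    Submodule.sum_mem _ fun i _ => Submodule.smul_mem _ _ (hy i)
  have : ∑ i, v i • (x - y) i - n = (∑ i, v i • x i - n) - ∑ i, v i • y i := by
    simp only [Pi.sub_apply, smul_sub, Finset.sum_sub_distrib]
    abel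
  rw [this]
  exact Submodule.sub_mem _ h4 h5


/-- an endomorphism congruent to the identity modulo `I` induces a bijection on completions. -/
theorem map_bijective_of_sub_mem {A : Type*} [CommRing A] (I : Ideal A) {M : Type*}
    [AddCommGroup M] [Module A M] (θ : M →ₗ[A] M)
    (hθ : ∀ m, θ m - m ∈ (I • ⊤ : Submodule A M)) :
    Function.Bijective (AdicCompletion.map I θ) := by
  -- `θ - id` raises the filtration
  have hδ : ∀ j m, m ∈ (I ^ j • ⊤ : Submodule A M) → θ m - m ∈ (I ^ (j + 1) • ⊤ : Submodule A M) := by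
    intro j m hm
    have hle : (I ^ j • ⊤ : Submodule A M) ≤
        Submodule.comap (θ - LinearMap.id) (I ^ (j + 1) • ⊤ : Submodule A M) := by
      rw [Submodule.smul_le]
      intro r hr z _
      rw [Submodule.mem_comap, map_smul, pow_succ, Submodule.mul_smul]
      exact Submodule.smul_mem_smul hr (hθ z)
    exact hle hm
  apply map_bijective_of_levelwise
  · intro n x hx
    have : ∀ j ≤ n, x ∈ (I ^ j • ⊤ : Submodule A M) := by
      intro j
      induction j with
      | zero => intro _; simp
      | succ j ih =>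
        intro hj
        have h1 := hδ j x (ih (by omega))
        have h2 : θ x ∈ (I ^ (j + 1) • ⊤ : Submodule A M) :=
          Submodule.smul_mono_left (Ideal.pow_le_pow_right hj) hx
        have : x = θ x - (θ x - x) := by abel
        rw [this]
        exact Submodule.sub_mem _ h2 h1
    exact this n le_rfl
  · apply exists_sub_mem_pow_smul_top
    intro y
    refine ⟨y, ?_⟩
    have := Submodule.neg_mem _ (hθ y)
    simpa using this

theorem result (A : Type u) [CommRing A] [IsNoetherianRing A] (I : Ideal A)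
    (M N : Type u) [AddCommGroup M] [Module A M] [Module.Finite A M] [AddCommGroup N] [Module A N]
    [Module.Finite A N]
    (h : ∀ n : ℕ, Nonempty ((M ⧸ (I ^ n • ⊤ : Submodule A M)) ≃ₗ[A] (N ⧸ (I ^ n • ⊤ : Submodule A N)))) :
    Nonempty (AdicCompletion I M ≃ₗ[AdicCompletion I A] AdicCompletion I N) := by
  obtain ⟨c₁, hc₁⟩ := exists_lift_mod A I M N
  obtain ⟨c₂, hc₂⟩ := exists_lift_mod A I N M
  obtain ⟨e⟩ := h (max c₁ c₂)
  obtain ⟨ψ, hψ⟩ := hc₁ (max c₁ c₂) (le_max_left _ _) e.toLinearMap
  obtain ⟨ψ', hψ'⟩ := hc₂ (max c₁ c₂) (le_max_right _ _) e.symm.toLinearMap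
  have h1 : ∀ m, (ψ' ∘ₗ ψ) m - m ∈ (I • ⊤ : Submodule A M) := by
    intro m
    obtain ⟨n₀, hn₀⟩ := Submodule.Quotient.mk_surjective _ (e (Submodule.Quotient.mk m))
    have a1 := hψ m n₀ hn₀.symm
    have a2 := hψ' n₀ m (by
      show e.symm (Submodule.Quotient.mk n₀) = _
      rw [hn₀, LinearEquiv.symm_apply_apply])
    have : (ψ' ∘ₗ ψ) m - m = ψ' (ψ m - n₀) + (ψ' n₀ - m) := by
      simp only [LinearMap.comp_apply, map_sub]
      abel
    rw [this]
    refine Submodule.add_mem _ ?_ a2
    have hmap : Submodule.map ψ' (I • ⊤ : Submodule A N) ≤ (I • ⊤ : Submodule A M) := by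
      rw [Submodule.map_smul'']
      exact Submodule.smul_mono le_rfl le_top
    exact hmap (Submodule.mem_map_of_mem a1)
  have h2 : ∀ n, (ψ ∘ₗ ψ') n - n ∈ (I • ⊤ : Submodule A N) := by
    intro n
    obtain ⟨m₀, hm₀⟩ := Submodule.Quotient.mk_surjective _ (e.symm (Submodule.Quotient.mk n))
    have a1 := hψ' n m₀ hm₀.symm
    have a2 := hψ m₀ n (by
      show e (Submodule.Quotient.mk m₀) = _
      rw [hm₀, LinearEquiv.apply_symm_apply])
    have : (ψ ∘ₗ ψ') n - n = ψ (ψ' n - m₀) + (ψ m₀ - n) := by
      simp only [LinearMap.comp_apply, map_sub]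
      abel
    rw [this]
    refine Submodule.add_mem _ ?_ a2
    have hmap : Submodule.map ψ (I • ⊤ : Submodule A M) ≤ (I • ⊤ : Submodule A N) := by
      rw [Submodule.map_smul'']
      exact Submodule.smul_mono le_rfl le_top
    exact hmap (Submodule.mem_map_of_mem a1)
  have b1 := map_bijective_of_sub_mem I (ψ' ∘ₗ ψ) h1
  have b2 := map_bijective_of_sub_mem I (ψ ∘ₗ ψ') h2
  rw [← AdicCompletion.map_comp] at b1 b2
  have hinj : Function.Injective (AdicCompletion.map I ψ) := by
    have := b1.1
    rw [LinearMap.coe_comp] at this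
    exact Function.Injective.of_comp this
  have hsurj : Function.Surjective (AdicCompletion.map I ψ) := by
    have := b2.2
    rw [LinearMap.coe_comp] at this
    exact Function.Surjective.of_comp this
  exact ⟨LinearEquiv.ofBijective (AdicCompletion.map I ψ) ⟨hinj, hsurj⟩⟩

end Groth.Agent.S7135
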