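import Groth.Statements.S7136
import Mathlib
import Groth.Agent.Lib.Helper64.HomML

set_option autoImplicit false
universe u
open CAlg

namespace Groth.Agent.S7136

/-- Let A be a Noetherian ring, I an ideal, and M, N finite A-modules; write N_n = N/IⁿN, so that
Hom_A(M/IⁿM, N_n) = Hom_A(M, N_n). Then (1) the inverse system (Hom_A(M, N_n))_n, with transition
maps induced by the projections N_k → N_n, is Mittag-Leffler; (2) there is c ≥ 0 such that for all n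
the kernel and the cokernel of Hom_A(M, N)/IⁿHom_A(M, N) → Hom_A(M, N_n) are annihilated by I^c. -/
theorem result (A : Type u) [CommRing A] [IsNoetherianRing A]
    (I : Ideal A) (M N : Type u) [AddCommGroup M] [Module A M] [Module.Finite A M] [AddCommGroup N] [Module A N]
    [Module.Finite A N] :
    let Nq : ℕ → Submodule A N := fun n => I ^ n • ⊤
    let pr : ∀ n k : ℕ, n ≤ k → (N ⧸ Nq k) →ₗ[A] (N ⧸ Nq n) :=
      fun n k hnk => Submodule.mapQ (Nq k) (Nq n) (LinearMap.id : N →ₗ[A] N) (Submodule.smul_mono_left (Ideal.pow_le_pow_right hnk))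
    let red : ∀ n : ℕ, (M →ₗ[A] N) → (M →ₗ[A] N ⧸ Nq n) := fun n φ => (Nq n).mkQ ∘ₗ φ
    (∀ n : ℕ, ∃ m : ℕ, n ≤ m ∧ ∀ (k : ℕ) (hmk : m ≤ k) (hnm : n ≤ m) (ψ : M →ₗ[A] N ⧸ Nq m),
        ∃ ψ' : M →ₗ[A] N ⧸ Nq k, pr n k (hnm.trans hmk) ∘ₗ ψ' = pr n m hnm ∘ₗ ψ) ∧
    ∃ c : ℕ, ∀ n : ℕ,
      (∀ φ : M →ₗ[A] N, red n φ = 0 → ∀ a ∈ I ^ c, a • φ ∈ (I ^ n • ⊤ : Submodule A (M →ₗ[A] N))) ∧
      (∀ (ψ : M →ₗ[A] N ⧸ Nq n), ∀ a ∈ I ^ c, ∃ φ : M →ₗ[A] N, red n φ = a • ψ) := by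
  intro Nq pr red
  obtain ⟨c1, hc1⟩ := Groth.Agent.Lib.Helper64.HomML.exists_lift_mod I M N
  obtain ⟨c2, hc2⟩ := Groth.Agent.Lib.Helper64.HomML.exists_smul_mem_of_range_le I M N
  refine ⟨fun n => ⟨n + c1, Nat.le_add_right _ _, fun k hmk hnm ψ => ?_⟩, c1 + c2,
    fun n => ⟨?_, ?_⟩⟩
  · obtain ⟨φ, hφ⟩ := hc1 (n + c1) ψ
    refine ⟨red k φ, ?_⟩
    ext u
    obtain ⟨y, hy, hψu⟩ := hφ u
    simp only [LinearMap.comp_apply]
    rw [hψu]
    show Submodule.mapQ _ _ _ _ (Submodule.Quotient.mk (φ u)) =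
      Submodule.mapQ _ _ _ _ (Submodule.Quotient.mk (φ u + y))
    rw [Submodule.mapQ_apply, Submodule.mapQ_apply]
    simp only [LinearMap.id_apply]
    rw [Submodule.Quotient.eq]
    have h1 : n + c1 - c1 = n := by omega
    rw [h1] at hy
    have h2 : φ u - (φ u + y) = -y := by abel
    rw [h2]
    exact (Nq n).neg_mem hy
  · intro φ hφ a ha
    apply hc2 n φ _ (c1 + c2) (Nat.le_add_left _ _) a ha
    intro u
    have := LinearMap.congr_fun hφ u
    exact (Submodule.Quotient.mk_eq_zero _).mp this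
  · intro ψ a ha
    obtain ⟨φ, hφ⟩ := hc1 n ψ
    refine ⟨a • φ, ?_⟩
    ext u
    obtain ⟨y, hy, hψu⟩ := hφ u
    show Submodule.Quotient.mk (a • φ u) = a • ψ u
    rw [hψu, ← Submodule.Quotient.mk_smul, Submodule.Quotient.eq]
    have hay : a • y ∈ Nq n := by
      have ha1 : a ∈ I ^ c1 := Ideal.pow_le_pow_right (Nat.le_add_right _ _) ha
      have : a • y ∈ (I ^ c1 • (I ^ (n - c1) • ⊤) : Submodule A N) :=
        Submodule.smul_mem_smul ha1 hy
      rw [← Submodule.mul_smul, ← pow_add] at this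
      exact Submodule.smul_mono_left (Ideal.pow_le_pow_right (by omega)) this
    have h2 : a • φ u - a • (φ u + y) = -(a • y) := by rw [smul_add]; abel
    rw [h2]
    exact (Nq n).neg_mem hay

end Groth.Agent.S7136
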