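import Groth.Statements.S7137
import Groth.Agent.Lib.Helper33.AuslanderBuchsbaum
import Groth.Agent.Lib.Helper33.ExtHomQuot
import Groth.Agent.Lib.Helper33.GlobalDim
import Groth.Agent.Lib.Helper29.DepthFinite

set_option autoImplicit false
universe u
open CategoryTheory
open CAlg

namespace Groth.Agent.S7137

open Groth.Agent.Lib.Helper33 in
/-- `pd_R ((R/I)^m) ≤ pd_R (R/I)`. -/
theorem pd_pi_quotient (R : Type u) [CommRing R] (I : Ideal R) (a : ℕ)
    (h : HasProjectiveDimensionLT (ModuleCat.of R (R ⧸ I)) a) (m : ℕ) :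
    HasProjectiveDimensionLT (ModuleCat.of R (Fin m → R ⧸ I)) a := by
  rw [hasProjectiveDimensionLT_iff] at h ⊢
  intro i hi Y ξ
  rw [ExtHomQuot.eq_sum_proj_comp_single I Y i m ξ]
  refine Finset.sum_eq_zero fun k _ => ?_
  rw [h i hi ((Abelian.Ext.mk₀ (ModuleCat.ofHom
    (LinearMap.single R (fun _ : Fin m => R ⧸ I) k))).comp ξ (zero_add i)), Abelian.Ext.comp_zero]

open Groth.Agent.Lib.Helper33 in
/-- Finite projective dimension passes from `R/I` to `R` when `pd_R (R/I)` is finite. -/
theorem pd_restrict (R : Type u) [CommRing R] [IsNoetherianRing R] (I : Ideal R)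
    [IsLocalRing (R ⧸ I)] (a : ℕ)
    (ha : HasProjectiveDimensionLT (ModuleCat.of R (R ⧸ I)) (a + 1)) (n : ℕ) :
    ∀ (E : Type u) [AddCommGroup E] [Module (R ⧸ I) E] [Module R E] [IsScalarTower R (R ⧸ I) E]
      [Module.Finite (R ⧸ I) E],
      HasProjectiveDimensionLT (ModuleCat.of (R ⧸ I) E) (n + 1) →
      HasProjectiveDimensionLT (ModuleCat.of R E) (a + n + 1) := by
  induction n with
  | zero =>
    intro E _ _ _ _ _ h
    have : Module.Free (R ⧸ I) E := AB.free_of_hasProjectiveDimensionLT_one E h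
    let e : E ≃ₗ[R] (Fin (Module.finrank (R ⧸ I) E) → R ⧸ I) :=
      (Module.finBasis (R ⧸ I) E).equivFun.restrictScalars R
    exact hasProjectiveDimensionLT_of_linearEquiv R e.symm _ (pd_pi_quotient R I _ ha _)
  | succ n ih =>
    intro E _ _ _ _ _ h
    obtain ⟨m, f, hf⟩ := Module.Finite.exists_fin' (R ⧸ I) E
    have hS := LinearMap.shortExact_shortComplexKer hf
    have hFproj : Projective (ModuleCat.of (R ⧸ I) (Fin m → R ⧸ I)) := by
      rw [← IsProjective.iff_projective]; infer_instance
    have hK : HasProjectiveDimensionLT (ModuleCat.of (R ⧸ I) (LinearMap.ker f)) (n + 1) :=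
      (hS.hasProjectiveDimensionLT_X₃_iff n hFproj).mp h
    have hKR := ih (LinearMap.ker f) hK
    have hexR : Function.Exact ((LinearMap.ker f).subtype.restrictScalars R)
        (f.restrictScalars R) := LinearMap.exact_subtype_ker_map f
    let T := ModuleCat.shortComplexOfCompEqZero ((LinearMap.ker f).subtype.restrictScalars R)
      (f.restrictScalars R) (LinearMap.ext fun y => hexR.apply_apply_eq_zero y)
    have T_exact : T.ShortExact := ModuleCat.shortComplex_shortExact T hexR
      (Submodule.injective_subtype _) hf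
    have hF : HasProjectiveDimensionLT (ModuleCat.of R (Fin m → R ⧸ I)) (a + n + 1 + 1) :=
      have := pd_pi_quotient R I _ ha m
      hasProjectiveDimensionLT_of_ge _ (a + 1) _ (by omega)
    exact T_exact.hasProjectiveDimensionLT_X₃ (a + n + 1) hKR hF

theorem exists_nat_projectiveDimension {C : Type*} [Category C] [Abelian C] (X : C)
    (h : projectiveDimension X ≠ ⊤) (hnz : ¬ Limits.IsZero X) :
    ∃ e : ℕ, projectiveDimension X = e := by
  generalize hd : projectiveDimension X = d at h
  induction d with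
  | bot => exact absurd ((projectiveDimension_eq_bot_iff X).mp hd) hnz
  | coe d =>
    induction d with
    | top => exact absurd rfl h
    | coe e => exact ⟨e, rfl⟩

/-- Take a Noetherian local ring R, an ideal I and a finite module E ≠ 0 over R/I. Suppose that R/I, as
an R-module, and E, as an R/I-module, both have finite projective dimension. Then E, as an R-module,
has finite projective dimension too, and it equals pd_R(R/I) + pd_{R/I}(E). -/
theorem result (R : Type u) [CommRing R] [IsNoetherianRing R] [IsLocalRing R]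
    (I : Ideal R) (E : Type u) [AddCommGroup E] [Module (R ⧸ I) E] [Module R E] [IsScalarTower R (R ⧸ I) E]
    [Module.Finite (R ⧸ I) E] [Nontrivial E]
    (h1 : projectiveDimension (ModuleCat.of R (R ⧸ I)) ≠ ⊤)
    (h2 : projectiveDimension (ModuleCat.of (R ⧸ I) E) ≠ ⊤) :
    projectiveDimension (ModuleCat.of R E) ≠ ⊤ ∧
      projectiveDimension (ModuleCat.of R E) =
        projectiveDimension (ModuleCat.of R (R ⧸ I)) + projectiveDimension (ModuleCat.of (R ⧸ I) E) := by
  have hnt : Nontrivial (R ⧸ I) := by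
    by_contra hn
    rw [not_nontrivial_iff_subsingleton] at hn
    have : Subsingleton E := Module.subsingleton (R ⧸ I) E
    exact not_subsingleton E this
  have hloc : IsLocalRing (R ⧸ I) :=
    IsLocalRing.of_surjective' (Ideal.Quotient.mk I) Ideal.Quotient.mk_surjective
  have hlh : IsLocalHom (algebraMap R (R ⧸ I)) :=
    IsLocalHom.of_surjective (Ideal.Quotient.mk I) Ideal.Quotient.mk_surjective
  have hfinE : Module.Finite R E := Module.Finite.trans (R ⧸ I) E
  have hnz1 : ¬ Limits.IsZero (ModuleCat.of R (R ⧸ I)) := fun hz =>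
    not_subsingleton (R ⧸ I) (ModuleCat.subsingleton_of_isZero hz)
  have hnz2 : ¬ Limits.IsZero (ModuleCat.of (R ⧸ I) E) := fun hz =>
    not_subsingleton E (ModuleCat.subsingleton_of_isZero hz)
  have hnz3 : ¬ Limits.IsZero (ModuleCat.of R E) := fun hz =>
    not_subsingleton E (ModuleCat.subsingleton_of_isZero hz)
  obtain ⟨a, ha⟩ := exists_nat_projectiveDimension _ h1 hnz1
  obtain ⟨n, hn⟩ := exists_nat_projectiveDimension _ h2 hnz2
  have haLT : HasProjectiveDimensionLT (ModuleCat.of R (R ⧸ I)) (a + 1) :=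
    (projectiveDimension_le_iff _ a).mp ha.le
  have hnLT : HasProjectiveDimensionLT (ModuleCat.of (R ⧸ I) E) (n + 1) :=
    (projectiveDimension_le_iff _ n).mp hn.le
  have hER : HasProjectiveDimensionLT (ModuleCat.of R E) (a + n + 1) :=
    pd_restrict R I a haLT n E hnLT
  have hfin : projectiveDimension (ModuleCat.of R E) ≠ ⊤ := by
    rw [projectiveDimension_ne_top_iff]
    exact ⟨a + n, hER⟩
  obtain ⟨eE, heE⟩ := exists_nat_projectiveDimension _ hfin hnz3
  have ab1 := Groth.Agent.Lib.Helper33.AB.auslander_buchsbaum (R := R) E eE heE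
  have ab2 := Groth.Agent.Lib.Helper33.AB.auslander_buchsbaum (R := R) (R ⧸ I) a ha
  have ab3 := Groth.Agent.Lib.Helper33.AB.auslander_buchsbaum (R := R ⧸ I) E n hn
  have d1 : LocCoh.depth R E = LocCoh.depth (R ⧸ I) E :=
    Groth.Agent.Lib.Helper29.DepthFinite.depth_eq_of_isLocalHom R (R ⧸ I) E
  have d2 : LocCoh.depth R (R ⧸ I) = LocCoh.depth (R ⧸ I) (R ⧸ I) :=
    Groth.Agent.Lib.Helper29.DepthFinite.depth_eq_of_isLocalHom R (R ⧸ I) (R ⧸ I)
  obtain ⟨x, hx⟩ := ENat.ne_top_iff_exists.1
    (Groth.Agent.Lib.Helper29.DepthLib.depth_ne_top (A := R ⧸ I) (M := E))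
  refine ⟨hfin, ?_⟩
  rw [heE, ha, hn]
  rw [d1, ← hx] at ab1
  rw [d2, ab3, ← hx] at ab2
  rw [ab2] at ab1
  have hnat : a + (n + x) = eE + x := by exact_mod_cast ab1
  have : eE = a + n := by omega
  rw [this]
  push_cast
  rfl

end Groth.Agent.S7137
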