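import Groth.Statements.S7139
import Groth.Agent.S0271
import Groth.Agent.Lib.Helper84.SepInv

set_option autoImplicit false
universe u
open EtAlg

namespace Groth.Agent.S7139

open Groth.Agent.Lib.Helper84
open scoped Pointwise

theorem etale_transfer {R S R' S' : Type u} [CommRing R] [CommRing S] [CommRing R'] [CommRing S']
    [Algebra R S] [Algebra R' S'] (e₁ : R' ≃+* R) (e₂ : S' ≃+* S)
    (hcomm : ∀ r', e₂ (algebraMap R' S' r') = algebraMap R S (e₁ r')) [Algebra.Etale R S] :
    Algebra.Etale R' S' := by
  let _ : Algebra R' R := e₁.toRingHom.toAlgebra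
  let _ : Algebra R' S := ((algebraMap R S).comp e₁.toRingHom).toAlgebra
  have : IsScalarTower R' R S := IsScalarTower.of_algebraMap_eq fun _ => rfl
  have : Algebra.Etale R' R :=
    Algebra.Etale.of_equiv (A := R') (AlgEquiv.ofRingEquiv (f := e₁) (fun _ => rfl))
  have : Algebra.Etale R' S := Algebra.Etale.comp R' R S
  exact Algebra.Etale.of_equiv (AlgEquiv.ofRingEquiv (f := e₂.symm) (fun r' => by
    rw [RingEquiv.symm_apply_eq]; exact (hcomm r').symm) : S ≃ₐ[R'] S')

theorem isLocalization_atPrime_of_away {B' : Type*} [CommRing B'] (t : B') (S : Type*)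
    [CommRing S] [Algebra B' S] [IsLocalization.Away t S] (m' : Ideal B') [m'.IsPrime]
    (ht : t ∉ m') (h : ∀ n' : Ideal B', n'.IsPrime → t ∉ n' → n' ≤ m') :
    IsLocalization.AtPrime S m' := by
  refine IsLocalization.of_le (Submonoid.powers t) m'.primeCompl
    (Submonoid.powers_le.mpr ht) (fun s hs => ?_)
  by_contra hnu
  obtain ⟨M, hM, hsM⟩ := exists_max_ideal_of_mem_nonunits (mem_nonunits_iff.mpr hnu)
  have hn' := h (M.comap (algebraMap B' S)) (Ideal.comap_isPrime _ _)
    (fun htM => hM.ne_top (Ideal.eq_top_of_isUnit_mem _ htM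
      (IsLocalization.Away.algebraMap_isUnit t)))
  exact hs (hn' hsM)

section Main

variable {A K L B : Type u} [CommRing A] [IsDomain A]
    [hDVR : IsDiscreteValuationRing A] [Field K] [Field L] [Algebra A K] [hfrac : IsFractionRing A K]
    [Algebra K L]
    [Algebra A L] [hAKL : IsScalarTower A K L] [hfd : FiniteDimensional K L] [hGal : IsGalois K L]
    [CommRing B] [Algebra A B] [Algebra B L] [hABL : IsScalarTower A B L]
    [hic : IsIntegralClosure B A L]
    [MulSemiringAction (L ≃ₐ[K] L) B]
    (hact : ∀ (σ : L ≃ₐ[K] L) (b : B), algebraMap B L (σ • b) = σ (algebraMap B L b))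

include hact hDVR hfrac hAKL hfd hGal hABL hic

theorem smul_algebraMap_eq (σ : L ≃ₐ[K] L) (a : A) :
    σ • algebraMap A B a = algebraMap A B a := by
  apply IsIntegralClosure.algebraMap_injective B A L
  rw [hact, ← IsScalarTower.algebraMap_apply A B L, IsScalarTower.algebraMap_apply A K L,
    AlgEquiv.commutes]

theorem smulCommClass : SMulCommClass (L ≃ₐ[K] L) A B :=
  ⟨fun σ a b => by
    rw [Algebra.smul_def, Algebra.smul_def, smul_mul', smul_algebraMap_eq hact]⟩

theorem isInvariant : Algebra.IsInvariant A B (L ≃ₐ[K] L) := by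
  have h := ((IsGalois.tfae (F := K) (E := L)).out 0 1).mp ‹IsGalois K L›
  refine ⟨fun b hb ↦ ?_⟩
  replace hb : algebraMap B L b ∈ IntermediateField.fixedField (⊤ : Subgroup (L ≃ₐ[K] L)) := by
    rintro ⟨g, -⟩
    exact (hact g b).symm.trans (congrArg (algebraMap B L) (hb g))
  rw [h, IntermediateField.mem_bot] at hb
  obtain ⟨k, hk⟩ := hb
  have hb : IsIntegral A b := IsIntegralClosure.isIntegral A L b
  rw [← isIntegral_algebraMap_iff (IsIntegralClosure.algebraMap_injective B A L), ← hk,
    isIntegral_algebraMap_iff (FaithfulSMul.algebraMap_injective K L)] at hb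
  obtain ⟨a, rfl⟩ := IsIntegrallyClosed.algebraMap_eq_of_integral hb
  rw [← IsScalarTower.algebraMap_apply, IsScalarTower.algebraMap_apply A B L,
    (IsIntegralClosure.algebraMap_injective B A L).eq_iff] at hk
  exact ⟨a, hk⟩

variable (m : Ideal B) [m.IsMaximal]
    (B' : Type u) [CommRing B'] [Algebra A B'] [Algebra B' B] [hAB'B : IsScalarTower A B' B]
    [Algebra B' L]
    [hB'BL : IsScalarTower B' B L]
    [Algebra B' (IntermediateField.fixedField (m.inertia (L ≃ₐ[K] L)))]
    [hB'FL : IsScalarTower B' (IntermediateField.fixedField (m.inertia (L ≃ₐ[K] L))) L]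
    [hic' : IsIntegralClosure B' A (IntermediateField.fixedField (m.inertia (L ≃ₐ[K] L)))]

include hAB'B hB'BL hB'FL hic'

theorem mem_range_iff (b : B) :
    (∀ σ ∈ m.inertia (L ≃ₐ[K] L), σ • b = b) ↔ b ∈ Set.range (algebraMap B' B) := by
  have hAFL : IsScalarTower A (IntermediateField.fixedField (m.inertia (L ≃ₐ[K] L))) L :=
    IsScalarTower.of_algebraMap_eq fun a => rfl
  constructor
  · intro hb
    have hF : algebraMap B L b ∈ IntermediateField.fixedField (m.inertia (L ≃ₐ[K] L)) := by
      rintro ⟨σ, hσ⟩
      exact (hact σ b).symm.trans (congrArg _ (hb σ hσ))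
    have hint : IsIntegral A
        (⟨algebraMap B L b, hF⟩ : IntermediateField.fixedField (m.inertia (L ≃ₐ[K] L))) := by
      have h1 : IsIntegral A (algebraMap B L b) :=
        (IsIntegralClosure.isIntegral A L b).algebraMap
      exact (isIntegral_algebraMap_iff (R := A)
        (A := IntermediateField.fixedField (m.inertia (L ≃ₐ[K] L))) (B := L)
        (FaithfulSMul.algebraMap_injective _ _)).mp h1
    obtain ⟨b', hb'⟩ := (IsIntegralClosure.isIntegral_iff (A := B')).mp hint
    refine ⟨b', ?_⟩
    apply IsIntegralClosure.algebraMap_injective B A L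
    rw [← IsScalarTower.algebraMap_apply B' B L, IsScalarTower.algebraMap_apply B'
      (IntermediateField.fixedField (m.inertia (L ≃ₐ[K] L))) L, hb']
    rfl
  · rintro ⟨b', rfl⟩ σ hσ
    apply IsIntegralClosure.algebraMap_injective B A L
    rw [hact, ← IsScalarTower.algebraMap_apply B' B L, IsScalarTower.algebraMap_apply B'
      (IntermediateField.fixedField (m.inertia (L ≃ₐ[K] L))) L]
    exact (algebraMap B' (IntermediateField.fixedField (m.inertia (L ≃ₐ[K] L))) b').2 ⟨σ, hσ⟩

theorem etale_atPrime :
    Algebra.Etale A (Localization.AtPrime (m.comap (algebraMap B' B))) := by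
  classical
  let F := IntermediateField.fixedField (m.inertia (L ≃ₐ[K] L))
  have hSC : SMulCommClass (L ≃ₐ[K] L) A B := smulCommClass hact
  have hInv : Algebra.IsInvariant A B (L ≃ₐ[K] L) := isInvariant hact
  have hinjB : Function.Injective (algebraMap B L) := IsIntegralClosure.algebraMap_injective B A L
  have hinjB'F : Function.Injective (algebraMap B' F) :=
    IsIntegralClosure.algebraMap_injective B' A F
  have hinjB' : Function.Injective (algebraMap B' B) := by
    intro x y hxy
    apply hinjB'F
    apply Subtype.ext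
    have := congrArg (algebraMap B L) hxy
    rw [← IsScalarTower.algebraMap_apply B' B L, ← IsScalarTower.algebraMap_apply B' B L,
      IsScalarTower.algebraMap_apply B' F L, IsScalarTower.algebraMap_apply B' F L] at this
    exact this
  have hinjA : Function.Injective (algebraMap A B) := by
    intro x y hxy
    have := congrArg (algebraMap B L) hxy
    rw [← IsScalarTower.algebraMap_apply A B L, ← IsScalarTower.algebraMap_apply A B L,
      IsScalarTower.algebraMap_apply A K L, IsScalarTower.algebraMap_apply A K L] at this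
    exact IsFractionRing.injective A K ((algebraMap K L).injective this)
  let fA : A →+* FixedPoints.subring B (L ≃ₐ[K] L) :=
    (algebraMap A B).codRestrict _ (fun a σ => smul_algebraMap_eq hact σ a)
  have hfA : Function.Bijective fA :=
    ⟨fun x y hxy => hinjA (congrArg Subtype.val hxy), fun ⟨b, hb⟩ => by
      obtain ⟨a, ha⟩ := hInv.isInvariant b hb
      exact ⟨a, Subtype.ext ha⟩⟩
  let eA : A ≃+* FixedPoints.subring B (L ≃ₐ[K] L) := RingEquiv.ofBijective fA hfA
  let fB' : B' →+* FixedPoints.subring B ↥(m.inertia (L ≃ₐ[K] L)) :=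
    (algebraMap B' B).codRestrict _
      (fun b' σ => (mem_range_iff (A := A) hact m B' _).mpr ⟨b', rfl⟩ σ.1 σ.2)
  have hfB' : Function.Bijective fB' :=
    ⟨fun x y hxy => hinjB' (congrArg Subtype.val hxy), fun ⟨b, hb⟩ => by
      obtain ⟨b', hb'⟩ := (mem_range_iff (A := A) hact m B' b).mp (fun σ hσ => hb ⟨σ, hσ⟩)
      exact ⟨b', Subtype.ext hb'⟩⟩
  let eB' : B' ≃+* FixedPoints.subring B ↥(m.inertia (L ≃ₐ[K] L)) :=
    RingEquiv.ofBijective fB' hfB'
  obtain ⟨g, hg, hE⟩ := Groth.Agent.S0271.result (L ≃ₐ[K] L) B m
  let g' : B' := eB'.symm g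
  have hg'g : eB' g' = g := eB'.apply_symm_apply g
  have hg'm : algebraMap B' B g' ∉ m := by
    have : algebraMap B' B g' = (g : B) := congrArg Subtype.val hg'g
    rw [this]; exact hg
  have hpow : (Submonoid.powers g').map eB'.toMonoidHom = Submonoid.powers g := by
    rw [Submonoid.map_powers]; congr 1
  let e₂ : Localization.Away g' ≃+* Localization.Away g :=
    IsLocalization.ringEquivOfRingEquiv _ _ eB' hpow
  have hE₁ : Algebra.Etale A (Localization.Away g') := by
    refine etale_transfer eA e₂ (fun a => ?_)
    rw [IsScalarTower.algebraMap_apply A B' (Localization.Away g'),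
      IsLocalization.ringEquivOfRingEquiv_eq,
      IsScalarTower.algebraMap_apply (FixedPoints.subring B (L ≃ₐ[K] L))
        (FixedPoints.subring B ↥(m.inertia (L ≃ₐ[K] L))) (Localization.Away g)]
    congr 1
    apply Subtype.ext
    change algebraMap B' B (algebraMap A B' a) = algebraMap A B a
    rw [← IsScalarTower.algebraMap_apply]
  cases nonempty_fintype (L ≃ₐ[K] L)
  obtain ⟨c, hc, hgc⟩ := SepInv.exists_sep m (MulAction.stabilizer (L ≃ₐ[K] L) m) le_rfl
  obtain ⟨c', hc'⟩ := (mem_range_iff (A := A) hact m B' (c : B)).mp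
    (fun σ hσ => c.2 ⟨σ, Ideal.inertia_le_stabilizer m hσ⟩)
  let L₁ := Localization.Away g'
  let L₂ := Localization.Away (algebraMap B' L₁ c')
  have hL₂ : IsLocalization.Away (g' * c') L₂ := inferInstance
  have hE₂ : Algebra.Etale A L₂ := by
    have : Algebra.Etale L₁ L₂ := Algebra.Etale.of_isLocalizationAway (algebraMap B' L₁ c')
    exact Algebra.Etale.comp A L₁ L₂
  have ht : g' * c' ∉ m.comap (algebraMap B' B) := by
    rw [Ideal.mem_comap, map_mul, hc']
    intro h
    rcases Ideal.IsPrime.mem_or_mem inferInstance h with h | h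
    · exact hg'm h
    · exact hc h
  have hAt : IsLocalization.AtPrime L₂ (m.comap (algebraMap B' B)) := by
    refine isLocalization_atPrime_of_away (g' * c') L₂ _ ht ?_
    intro n' hn' htn'
    have hAFL : IsScalarTower A F L := IsScalarTower.of_algebraMap_eq fun a => rfl
    have hAB'F : IsScalarTower A B' F := IsScalarTower.of_algebraMap_eq fun a => by
      apply Subtype.ext
      change algebraMap A L a = algebraMap F L (algebraMap B' F (algebraMap A B' a))
      rw [← IsScalarTower.algebraMap_apply B' F L, IsScalarTower.algebraMap_apply B' B L,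
        ← IsScalarTower.algebraMap_apply A B' B, ← IsScalarTower.algebraMap_apply A B L]
    have hintA : Algebra.IsIntegral A B' := IsIntegralClosure.isIntegral_algebra A F
    have hintAB : Algebra.IsIntegral A B := IsIntegralClosure.isIntegral_algebra A L
    have hintB'B : Algebra.IsIntegral B' B := Algebra.IsIntegral.tower_top (R := A)
    have hdomB' : IsDomain B' := Function.Injective.isDomain (algebraMap B' F) hinjB'F
    by_cases hbot : n'.comap (algebraMap A B') = ⊥
    · have : n' = ⊥ := Ideal.eq_bot_of_comap_eq_bot hbot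
      rw [this]; exact bot_le
    · have hpr : (n'.comap (algebraMap A B')).IsPrime := Ideal.comap_isPrime _ _
      have hmax : (n'.comap (algebraMap A B')).IsMaximal :=
        Ring.DimensionLEOne.maximalOfPrime hbot hpr
      have h1 : n'.comap (algebraMap A B') = IsLocalRing.maximalIdeal A :=
        IsLocalRing.eq_maximalIdeal hmax
      obtain ⟨n, -, hnprime, hn⟩ := Ideal.exists_ideal_over_prime_of_isIntegral n' (⊥ : Ideal B)
        (by
          rw [Ideal.comap_bot_of_injective _ hinjB']; exact bot_le)
      have h2 : (m.comap (algebraMap A B)).IsMaximal :=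
        Ideal.isMaximal_comap_of_isIntegral_of_isMaximal m
      have h3 : m.comap (algebraMap A B) = IsLocalRing.maximalIdeal A :=
        IsLocalRing.eq_maximalIdeal h2
      have h4 : n.comap (algebraMap A B) = IsLocalRing.maximalIdeal A := by
        rw [IsScalarTower.algebraMap_eq A B' B, ← Ideal.comap_comap, hn, h1]
      obtain ⟨σ, hσ⟩ := Algebra.IsInvariant.exists_smul_of_under_eq A B (L ≃ₐ[K] L) m n
        (h3.trans h4.symm)
      have hcn : (c : B) ∉ n := by
        intro hcn
        apply htn'
        rw [← hn, Ideal.mem_comap, map_mul, hc']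
        exact n.mul_mem_left _ hcn
      rw [hσ, Ideal.mem_pointwise_smul_iff_inv_smul_mem] at hcn
      have hσD : σ⁻¹ ∈ MulAction.stabilizer (L ≃ₐ[K] L) m := by
        by_contra hcon
        exact hcn (hgc σ⁻¹ hcon)
      have hσm : σ • m = m := MulAction.mem_stabilizer_iff.mp (by simpa using inv_mem hσD)
      rw [hσm] at hσ
      rw [← hn, hσ]
  have hST : IsScalarTower A B' L₂ := inferInstance
  let e : L₂ ≃ₐ[B'] Localization.AtPrime (m.comap (algebraMap B' B)) :=
    IsLocalization.algEquiv (m.comap (algebraMap B' B)).primeCompl L₂ _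
  exact Algebra.Etale.of_equiv (e.restrictScalars A)

end Main

/-- A is a discrete valuation ring, K its field of fractions, and L/K is finite Galois with Galois group
G. Write B for the integral closure of A in L, equipped with the induced G-action, m a maximal ideal
of B and I ⊆ G its inertia group. Denote by B' the integral closure of A inside the fixed field L^I,
with a map to B compatible with L^I ⊆ L. Then the image of B' in B is the ring of invariants B^I,
and A → B'_{m'} is étale, where m' = m ∩ B'. -/
theorem result (A K L B : Type u) [CommRing A] [IsDomain A]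
    [IsDiscreteValuationRing A] [Field K] [Field L] [Algebra A K] [IsFractionRing A K] [Algebra K L]
    [Algebra A L] [IsScalarTower A K L] [FiniteDimensional K L] [IsGalois K L]
    [CommRing B] [Algebra A B] [Algebra B L] [IsScalarTower A B L] [IsIntegralClosure B A L]
    [MulSemiringAction (L ≃ₐ[K] L) B]
    (hact : ∀ (σ : L ≃ₐ[K] L) (b : B), algebraMap B L (σ • b) = σ (algebraMap B L b))
    (m : Ideal B) [m.IsMaximal]
    (B' : Type u) [CommRing B'] [Algebra A B'] [Algebra B' B] [IsScalarTower A B' B] [Algebra B' L]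
    [IsScalarTower B' B L]
    [Algebra B' (IntermediateField.fixedField (m.inertia (L ≃ₐ[K] L)))]
    [IsScalarTower B' (IntermediateField.fixedField (m.inertia (L ≃ₐ[K] L))) L]
    [IsIntegralClosure B' A (IntermediateField.fixedField (m.inertia (L ≃ₐ[K] L)))] :
    (∀ b : B, (∀ σ ∈ m.inertia (L ≃ₐ[K] L), σ • b = b) ↔ b ∈ Set.range (algebraMap B' B)) ∧
      Algebra.Etale A (Localization.AtPrime (m.comap (algebraMap B' B))) := by
  exact ⟨fun b => mem_range_iff (A := A) hact m B' b, etale_atPrime hact m B'⟩

end Groth.Agent.S7139
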