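import Groth.Statements.S7140
import Mathlib
-- import your own Groth.Agent.* helpers here

set_option autoImplicit false
universe u
open EtAlg

namespace Groth.Agent.S7140

section helpers
open Polynomial

/-- the universal ring -/
noncomputable abbrev R0 (p : ℕ) := AdjoinRoot (cyclotomic p ℤ)

noncomputable def uf {B : Type*} [CommRing B] (p : ℕ) (ζ : B) : B :=
  ∏ k ∈ Finset.range (p - 1), ∑ i ∈ Finset.range (k + 1), ζ ^ i

noncomputable def cf {B : Type*} [CommRing B] (p : ℕ) (ζ : B) (i : ℕ) : B :=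
  ((p.choose i / p : ℕ) : B) * uf p ζ * (1 - ζ) ^ (i - 1)

noncomputable def Pf {B : Type*} [CommRing B] (p : ℕ) (ζ : B) : B[X] :=
  X ^ p + ∑ i ∈ Finset.Ioo 0 p, C (cf p ζ i) * X ^ i

noncomputable def af {B : Type*} [CommRing B] (p : ℕ) (ζ : B) (i : ℕ) : B :=
  if i = 1 then uf p ζ + 1 else if 2 ≤ i then cf p ζ i else 0

lemma uf_map {B B' : Type*} [CommRing B] [CommRing B'] (f : B →+* B') (p : ℕ) (ζ : B) :
    f (uf p ζ) = uf p (f ζ) := by
  simp [uf, map_prod, map_sum, map_pow]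

lemma cf_map {B B' : Type*} [CommRing B] [CommRing B'] (f : B →+* B') (p : ℕ) (ζ : B) (i : ℕ) :
    f (cf p ζ i) = cf p (f ζ) i := by
  simp [cf, uf_map, map_mul, map_pow, map_sub, map_natCast]

lemma Pf_map {B B' : Type*} [CommRing B] [CommRing B'] (f : B →+* B') (p : ℕ) (ζ : B) :
    (Pf p ζ).map f = Pf p (f ζ) := by
  unfold Pf
  rw [Polynomial.map_add, Polynomial.map_pow, Polynomial.map_X, Polynomial.map_sum]
  congr 1
  refine Finset.sum_congr rfl fun i _ => ?_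
  rw [Polynomial.map_mul, Polynomial.map_C, Polynomial.map_pow, Polynomial.map_X, cf_map]

lemma R0_isDomain (p : ℕ) (hp : p.Prime) : IsDomain (R0 p) := by
  have hirr : Irreducible (cyclotomic p ℤ) := cyclotomic.irreducible hp.pos
  exact AdjoinRoot.isDomain_of_prime (UniqueFactorizationMonoid.irreducible_iff_prime.1 hirr)

lemma R0_p_ne_zero (p : ℕ) (hp : p.Prime) : ((p : ℕ) : R0 p) ≠ 0 := by
  have hdeg : (cyclotomic p ℤ).degree ≠ 0 := by
    rw [degree_cyclotomic, Nat.totient_prime hp]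
    have : p - 1 ≠ 0 := by have := hp.two_le; omega
    exact_mod_cast this
  have hinj : Function.Injective (AdjoinRoot.of (cyclotomic p ℤ)) :=
    AdjoinRoot.of.injective_of_degree_ne_zero hdeg
  intro h
  have h1 : (AdjoinRoot.of (cyclotomic p ℤ)) ((p : ℕ) : ℤ) = 0 := by
    rw [map_natCast]; exact h
  have h2 := hinj (h1.trans (map_zero _).symm)
  exact hp.ne_zero (by exact_mod_cast h2)

lemma key0 (p : ℕ) (hp : p.Prime) :
    ((p : ℕ) : R0 p) = (1 - AdjoinRoot.root (cyclotomic p ℤ)) ^ (p - 1) *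
      uf p (AdjoinRoot.root (cyclotomic p ℤ)) := by
  have hdom : IsDomain (R0 p) := R0_isDomain p hp
  have hne : NeZero ((p : ℕ) : R0 p) := ⟨R0_p_ne_zero p hp⟩
  have hroot : IsRoot (cyclotomic p (R0 p)) (AdjoinRoot.root (cyclotomic p ℤ)) := by
    have := AdjoinRoot.isRoot_root (cyclotomic p ℤ)
    rwa [map_cyclotomic] at this
  have hprim : IsPrimitiveRoot (AdjoinRoot.root (cyclotomic p ℤ)) p :=
    (isRoot_cyclotomic_iff).1 hroot
  have hprim' : IsPrimitiveRoot (AdjoinRoot.root (cyclotomic p ℤ)) ((p - 1) + 1) := by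
    rwa [Nat.sub_add_cancel hp.one_le]
  have h := hprim'.prod_one_sub_pow_eq_order
  have e : ((p - 1 : ℕ) : R0 p) + 1 = ((p : ℕ) : R0 p) := by
    rw [← Nat.cast_add_one, Nat.sub_add_cancel hp.one_le]
  calc ((p : ℕ) : R0 p)
      = ∏ k ∈ Finset.range (p - 1), (1 - (AdjoinRoot.root (cyclotomic p ℤ)) ^ (k + 1)) := by
        rw [h, e]
    _ = ∏ k ∈ Finset.range (p - 1), ((1 - AdjoinRoot.root (cyclotomic p ℤ)) *
          ∑ i ∈ Finset.range (k + 1), (AdjoinRoot.root (cyclotomic p ℤ)) ^ i) := by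
        refine Finset.prod_congr rfl fun k _ => ?_
        rw [mul_neg_geom_sum]
    _ = _ := by
        rw [Finset.prod_mul_distrib, Finset.prod_const, Finset.card_range]; rfl

lemma w0_ne_zero (p : ℕ) (hp : p.Prime) :
    (1 : R0 p) - AdjoinRoot.root (cyclotomic p ℤ) ≠ 0 := by
  intro h
  apply R0_p_ne_zero p hp
  rw [key0 p hp, h, zero_pow (by have := hp.two_le; omega), zero_mul]

lemma key {B : Type*} [CommRing B] (p : ℕ) (hp : p.Prime) (ζ : B)
    (hζ : aeval ζ (cyclotomic p ℤ) = 0) :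
    ((p : ℕ) : B) = (1 - ζ) ^ (p - 1) * uf p ζ := by
  have h : (cyclotomic p ℤ).eval₂ (Int.castRingHom B) ζ = 0 := by
    rw [aeval_def, algebraMap_int_eq] at hζ; exact hζ
  have h0 := congrArg (AdjoinRoot.lift (Int.castRingHom B) ζ h) (key0 p hp)
  rw [map_natCast, map_mul, map_pow, map_sub, map_one, uf_map, AdjoinRoot.lift_root] at h0
  exact h0

lemma term_eq {B : Type*} [CommRing B] (p : ℕ) (hp : p.Prime) (ζ : B)
    (hkey : ((p : ℕ) : B) = (1 - ζ) ^ (p - 1) * uf p ζ) (i : ℕ) (hi0 : 0 < i) (hip : i < p) :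
    (1 - ζ) ^ p * cf p ζ i = ((p.choose i : ℕ) : B) * (1 - ζ) ^ i := by
  obtain ⟨m, hm⟩ := hp.dvd_choose_self hi0.ne' hip
  have hdiv : p.choose i / p = m := by rw [hm, Nat.mul_div_cancel_left _ hp.pos]
  have e1 : (1 - ζ) ^ p = (1 - ζ) ^ (p - 1) * (1 - ζ) := by
    rw [← pow_succ, Nat.sub_add_cancel hp.one_le]
  have e2 : (1 - ζ) ^ i = (1 - ζ) ^ (i - 1) * (1 - ζ) := by
    rw [← pow_succ, Nat.sub_add_cancel hi0]
  unfold cf
  rw [hdiv, hm, Nat.cast_mul, e1, e2, hkey]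
  ring

lemma claim2 {B : Type*} [CommRing B] (p : ℕ) (hp : p.Prime) (ζ : B)
    (hkey : ((p : ℕ) : B) = (1 - ζ) ^ (p - 1) * uf p ζ) :
    C ((1 - ζ) ^ p) * Pf p ζ = (1 + C (1 - ζ) * X) ^ p - 1 := by
  have hset : Finset.range p = insert 0 (Finset.Ioo 0 p) := by
    ext x
    simp only [Finset.mem_range, Finset.mem_insert, Finset.mem_Ioo]
    have := hp.pos
    omega
  have h0 : (0 : ℕ) ∉ Finset.Ioo 0 p := by simp
  have hs : ∀ x ∈ Finset.Ioo 0 p, C ((1 - ζ) ^ p) * (C (cf p ζ x) * X ^ x) =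
      (C (1 - ζ) * X) ^ x * ((p.choose x : ℕ) : B[X]) := by
    intro x hx
    rw [Finset.mem_Ioo] at hx
    have e : (C (((p.choose x : ℕ) : B) * (1 - ζ) ^ x) : B[X]) =
        ((p.choose x : ℕ) : B[X]) * (C (1 - ζ)) ^ x := by
      rw [C_mul, C_pow, ← map_natCast (C : B →+* B[X])]
    rw [← mul_assoc, ← C_mul, term_eq p hp ζ hkey x hx.1 hx.2, e, mul_pow]
    ring
  have e3 : (C (1 - ζ) * X) ^ p = C ((1 - ζ) ^ p) * X ^ p := by rw [mul_pow, C_pow]
  rw [add_comm (1 : B[X]), add_pow, Finset.sum_range_succ, hset, Finset.sum_insert h0]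
  simp only [one_pow, mul_one, pow_zero, Nat.choose_zero_right, Nat.choose_self, Nat.cast_one]
  unfold Pf
  rw [mul_add, Finset.mul_sum, Finset.sum_congr rfl hs, e3]
  ring

lemma u_add_one_mem {B : Type*} [CommRing B] (p : ℕ) (hp : p.Prime) (ζ : B)
    (hkey : ((p : ℕ) : B) = (1 - ζ) ^ (p - 1) * uf p ζ) :
    uf p ζ + 1 ∈ Ideal.span {1 - ζ} := by
  rw [← Ideal.Quotient.eq_zero_iff_mem]
  have hw : Ideal.Quotient.mk (Ideal.span {1 - ζ}) (1 - ζ) = 0 :=
    Ideal.Quotient.eq_zero_iff_mem.2 (Ideal.subset_span rfl)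
  have hζ1 : Ideal.Quotient.mk (Ideal.span {1 - ζ}) ζ = 1 := by
    have : Ideal.Quotient.mk (Ideal.span {1 - ζ}) 1 - Ideal.Quotient.mk (Ideal.span {1 - ζ}) ζ = 0 := by
      rw [← map_sub]; exact hw
    rw [map_one] at this
    exact (sub_eq_zero.1 this).symm
  have hu : Ideal.Quotient.mk (Ideal.span {1 - ζ}) (uf p ζ) =
      (((p - 1).factorial : ℕ) : B ⧸ Ideal.span {1 - ζ}) := by
    rw [uf_map, uf, hζ1]
    have : ∀ k ∈ Finset.range (p - 1),
        (∑ i ∈ Finset.range (k + 1), (1 : B ⧸ Ideal.span {1 - ζ}) ^ i) =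
          ((k + 1 : ℕ) : B ⧸ Ideal.span {1 - ζ}) := by
      intro k _; simp
    rw [Finset.prod_congr rfl this, ← Nat.cast_prod, Finset.prod_range_add_one_eq_factorial]
  have hp0 : Ideal.Quotient.mk (Ideal.span {1 - ζ}) ((p : ℕ) : B) = 0 := by
    rw [hkey, map_mul, map_pow, hw, zero_pow (by have := hp.two_le; omega), zero_mul]
  have hwil : p ∣ (p - 1).factorial + 1 := by
    have : Fact p.Prime := ⟨hp⟩
    rw [← ZMod.natCast_eq_zero_iff]
    push_cast
    rw [ZMod.wilsons_lemma]; ring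
  obtain ⟨m, hm⟩ := hwil
  rw [map_add, map_one, hu]
  have h3 : ((((p - 1).factorial + 1 : ℕ)) : B ⧸ Ideal.span {1 - ζ}) = 0 := by
    rw [hm, Nat.cast_mul, ← map_natCast (Ideal.Quotient.mk (Ideal.span {1 - ζ})) p, hp0, zero_mul]
  simpa using h3

lemma claim3 {B : Type*} [CommRing B] (p : ℕ) (hp : p.Prime) (ζ : B)
    (hkey : ((p : ℕ) : B) = (1 - ζ) ^ (p - 1) * uf p ζ) :
    ∃ a : ℕ → B, (∀ i, a i ∈ Ideal.span {1 - ζ}) ∧
      Pf p ζ = X ^ p - X + (Finset.Ioo 0 p).sum (fun i => C (a i) * X ^ i) := by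
  refine ⟨af p ζ, ?_, ?_⟩
  · intro i
    unfold af
    split_ifs with h1 h2
    · exact u_add_one_mem p hp ζ hkey
    · unfold cf
      refine Ideal.mem_span_singleton'.2 ⟨((p.choose i / p : ℕ) : B) * uf p ζ * (1 - ζ) ^ (i - 2), ?_⟩
      have : i - 1 = (i - 2) + 1 := by omega
      rw [this, pow_succ]; ring
    · exact Ideal.zero_mem _
  · have hterm : ∀ i ∈ Finset.Ioo 0 p,
        C (af p ζ i) * X ^ i = C (cf p ζ i) * X ^ i + (if i = 1 then (X : B[X]) else 0) := by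
      intro i hi
      rw [Finset.mem_Ioo] at hi
      by_cases h1 : i = 1
      · subst h1
        have hc : cf p ζ 1 = uf p ζ := by
          unfold cf; rw [Nat.choose_one_right, Nat.div_self hp.pos]; simp
        have ha : af p ζ 1 = uf p ζ + 1 := by simp [af]
        rw [ha, hc, if_pos rfl, C_add, C_1]; ring
      · have h2 : 2 ≤ i := by omega
        have ha : af p ζ i = cf p ζ i := by rw [af, if_neg h1, if_pos h2]
        rw [ha, if_neg h1, add_zero]
    have h1mem : (1 : ℕ) ∈ Finset.Ioo 0 p := by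
      rw [Finset.mem_Ioo]; have := hp.two_le; omega
    rw [Finset.sum_congr rfl hterm, Finset.sum_add_distrib, Finset.sum_ite_eq', if_pos h1mem]
    unfold Pf
    ring

lemma claim4_dom {T : Type*} [CommRing T] [IsDomain T] (p : ℕ) (ζ : T) (hw : 1 - ζ ≠ 0)
    (h2 : C ((1 - ζ) ^ p) * Pf p ζ = (1 + C (1 - ζ) * X) ^ p - 1) (z₁ z₂ : T) :
    eval (z₁ + z₂ + (1 - ζ) * z₁ * z₂) (Pf p ζ) =
      eval z₁ (Pf p ζ) + eval z₂ (Pf p ζ) + (1 - ζ) ^ p * eval z₁ (Pf p ζ) * eval z₂ (Pf p ζ) := by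
  have H : ∀ z : T, (1 - ζ) ^ p * eval z (Pf p ζ) = (1 + (1 - ζ) * z) ^ p - 1 := by
    intro z
    have := congrArg (eval z) h2
    simpa [eval_mul, eval_pow, eval_add, eval_sub] using this
  apply mul_left_cancel₀ (pow_ne_zero p hw)
  have e1 := H z₁
  have e2 := H z₂
  have e3 := H (z₁ + z₂ + (1 - ζ) * z₁ * z₂)
  have e4 : (1 + (1 - ζ) * (z₁ + z₂ + (1 - ζ) * z₁ * z₂)) ^ p =
      (1 + (1 - ζ) * z₁) ^ p * (1 + (1 - ζ) * z₂) ^ p := by
    rw [← mul_pow]; congr 1; ring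
  have e1' : (1 + (1 - ζ) * z₁) ^ p = (1 - ζ) ^ p * eval z₁ (Pf p ζ) + 1 := by rw [e1]; ring
  have e2' : (1 + (1 - ζ) * z₂) ^ p = (1 - ζ) ^ p * eval z₂ (Pf p ζ) + 1 := by rw [e2]; ring
  rw [e3, e4, e1', e2']
  ring

lemma claim4_any {S : Type*} [CommRing S] (p : ℕ) (hp : p.Prime) (ζS : S)
    (hζS : aeval ζS (cyclotomic p ℤ) = 0) (z₁ z₂ : S) :
    eval (z₁ + z₂ + (1 - ζS) * z₁ * z₂) (Pf p ζS) =
      eval z₁ (Pf p ζS) + eval z₂ (Pf p ζS) +
        (1 - ζS) ^ p * eval z₁ (Pf p ζS) * eval z₂ (Pf p ζS) := by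
  have h : (cyclotomic p ℤ).eval₂ (Int.castRingHom S) ζS = 0 := by
    rw [aeval_def, algebraMap_int_eq] at hζS; exact hζS
  have hdom : IsDomain (R0 p) := R0_isDomain p hp
  let g : R0 p →+* S := AdjoinRoot.lift (Int.castRingHom S) ζS h
  let ψ : MvPolynomial (Fin 2) (R0 p) →+* S := MvPolynomial.eval₂Hom g ![z₁, z₂]
  let ζT : MvPolynomial (Fin 2) (R0 p) := MvPolynomial.C (AdjoinRoot.root (cyclotomic p ℤ))
  have hkT : ((p : ℕ) : MvPolynomial (Fin 2) (R0 p)) = (1 - ζT) ^ (p - 1) * uf p ζT := by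
    have := congrArg (MvPolynomial.C (σ := Fin 2)) (key0 p hp)
    rwa [map_natCast, map_mul, map_pow, map_sub, map_one, uf_map] at this
  have hwT : (1 : MvPolynomial (Fin 2) (R0 p)) - ζT ≠ 0 := by
    intro h0
    apply w0_ne_zero p hp
    apply MvPolynomial.C_injective (Fin 2) (R0 p)
    rw [map_sub, map_one, map_zero]; exact h0
  have hT := claim4_dom p ζT hwT (claim2 p hp ζT hkT) (MvPolynomial.X 0) (MvPolynomial.X 1)
  have hψζ : ψ ζT = ζS := by
    simp only [ψ, ζT, MvPolynomial.eval₂Hom_C, g, AdjoinRoot.lift_root]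
  have hψ0 : ψ (MvPolynomial.X 0) = z₁ := by simp [ψ]
  have hψ1 : ψ (MvPolynomial.X 1) = z₂ := by simp [ψ]
  have hψ := congrArg ψ hT
  simp only [map_add, map_mul, map_pow, map_sub, map_one, ← eval_map_apply, Pf_map, hψζ, hψ0,
    hψ1] at hψ
  exact hψ

end helpers


open Polynomial in
/-- Let p be a prime and A a ring with an element ζ satisfying 1 + ζ + ... + ζ^(p-1) = 0 (so that A is
an algebra over the ring of integers of the p-th cyclotomic field); set w = 1 - ζ. Then the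
polynomial ((1 + wz)^p - 1)/w^p makes sense in A[z]: there is P in A[z] with w^p·P = (1 + wz)^p - 1,
of the form z^p - z + Σ_{0<i<p} a_i z^i with all a_i in the ideal (w), and P(z₁ + z₂ + w z₁ z₂) =
P(z₁) + P(z₂) + w^p P(z₁)P(z₂) for all z₁, z₂ in any A-algebra. (The published statement asks only
for a primitive p-th root of unity; this row asks that ζ be a root of the p-th cyclotomic
polynomial, the case its proof treats. With ζ only of multiplicative order p the published statement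
fails, for example for ζ = (1, e^{2πi/p}) in ℂ × ℂ.) -/
theorem result (p : ℕ) (hp : p.Prime) (A : Type u) [CommRing A] (ζ : A)
    (hζ : aeval ζ (cyclotomic p ℤ) = 0) :
    ∃ P : A[X], C ((1 - ζ) ^ p) * P = (1 + C (1 - ζ) * X) ^ p - 1 ∧
      (∃ a : ℕ → A, (∀ i, a i ∈ Ideal.span {1 - ζ}) ∧
        P = X ^ p - X + (Finset.Ioo 0 p).sum (fun i => C (a i) * X ^ i)) ∧
      ∀ (S : Type u) [CommRing S] [Algebra A S] (z₁ z₂ : S),
        aeval (z₁ + z₂ + algebraMap A S (1 - ζ) * z₁ * z₂) P =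
          aeval z₁ P + aeval z₂ P + algebraMap A S ((1 - ζ) ^ p) * aeval z₁ P * aeval z₂ P := by
  have hkey := key p hp ζ hζ
  refine ⟨Pf p ζ, claim2 p hp ζ hkey, claim3 p hp ζ hkey, ?_⟩
  intro S _ _ z₁ z₂
  have hζS : aeval (algebraMap A S ζ) (cyclotomic p ℤ) = 0 := by
    rw [aeval_algebraMap_apply, hζ, map_zero]
  have h4 := claim4_any p hp (algebraMap A S ζ) hζS z₁ z₂
  have hP : ∀ z : S, aeval z (Pf p ζ) = eval z (Pf p (algebraMap A S ζ)) := by
    intro z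
    rw [← Pf_map, eval_map, aeval_def]
  simp only [hP, map_pow, map_sub, map_one]
  exact h4

end Groth.Agent.S7140
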