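import Groth.Statements.S7141
import Groth.Agent.Lib.Helper10.WEMax
-- import your own Groth.Agent.* helpers here

set_option autoImplicit false
universe u
open EtAlg

namespace Groth.Agent.S7141

open Groth.Agent.Lib.Helper10.WE

/-- Let K be a field and, for a K-algebra A, let B_max(A) be its largest weakly étale K-subalgebra. (2)
For a K-subalgebra A' ⊆ A one has B_max(A') = B_max(A) ∩ A'. (4) The quotient map A → A_red =
A/nilradical restricts to a bijection B_max(A) → B_max(A_red). (6) If A ≠ 0 and its only idempotents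
are 0 and 1, then B_max(A) is a field, algebraic and separable over K. (The published statement
omits A ≠ 0; this row assumes it, since for A = 0 the largest weakly étale subalgebra is the zero
ring.) -/
theorem result (K : Type u) [Field K] (A : Type u) [CommRing A] [Algebra K A] :
    (∀ A' : Subalgebra K A,
      (EtAlgD.maxWeaklyEtale K A').map A'.val = EtAlgD.maxWeaklyEtale K A ⊓ A') ∧
    (Set.BijOn (Ideal.Quotient.mkₐ K (nilradical A)) (EtAlgD.maxWeaklyEtale K A)
      (EtAlgD.maxWeaklyEtale K (A ⧸ nilradical A))) ∧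
    ((∀ e : A, IsIdempotentElem e → e = 0 ∨ e = 1) → Nontrivial A →
      IsField (EtAlgD.maxWeaklyEtale K A) ∧ Algebra.IsSeparable K (EtAlgD.maxWeaklyEtale K A)) := by
  refine ⟨?_, ?_, ?_⟩
  · intro A'
    ext x
    rw [Subalgebra.mem_map, Algebra.mem_inf]
    constructor
    · rintro ⟨y, hy, rfl⟩
      exact ⟨(mem_maxWeaklyEtale_iff K _).mpr (((mem_maxWeaklyEtale_iff K y).mp hy).map A'.val),
        y.2⟩
    · rintro ⟨hx, hxA'⟩
      refine ⟨⟨x, hxA'⟩, (mem_maxWeaklyEtale_iff K _).mpr
        (IsSepElem.of_map_injective A'.val Subtype.val_injective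
          ((mem_maxWeaklyEtale_iff K x).mp hx)), rfl⟩
  · refine ⟨?_, ?_, ?_⟩
    · intro x hx
      exact (mem_maxWeaklyEtale_iff K _).mpr
        (((mem_maxWeaklyEtale_iff K x).mp hx).map (Ideal.Quotient.mkₐ K (nilradical A)))
    · intro x hx y hy hxy
      have hsub : x - y ∈ EtAlgD.maxWeaklyEtale K A := Subalgebra.sub_mem _ hx hy
      have hnil : IsNilpotent (x - y) := by
        rw [← mem_nilradical, ← Ideal.Quotient.eq]
        exact hxy
      have := ((mem_maxWeaklyEtale_iff K _).mp hsub).eq_zero_of_isNilpotent hnil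
      exact sub_eq_zero.mp this
    · intro y hy
      obtain ⟨x, hx, hxy⟩ := ((mem_maxWeaklyEtale_iff K y).mp hy).exists_lift_nilradical
      exact ⟨x, (mem_maxWeaklyEtale_iff K x).mpr hx, hxy⟩
  · intro hidem hnt
    constructor
    · refine ⟨⟨0, 1, fun h => zero_ne_one (α := A) (congrArg Subtype.val h)⟩, mul_comm, ?_⟩
      intro a ha
      obtain ⟨c, hc, hac⟩ := ((mem_maxWeaklyEtale_iff K a.1).mp a.2).exists_eq_sq_mul
      have hid : IsIdempotentElem (a.1 * c) := by
        unfold IsIdempotentElem
        calc a.1 * c * (a.1 * c) = (a.1 * a.1 * c) * c := by ring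
          _ = a.1 * c := by rw [← hac]
      rcases hidem _ hid with h0 | h1
      · exfalso
        apply ha
        apply Subtype.val_injective
        calc a.1 = a.1 * a.1 * c := hac
          _ = a.1 * (a.1 * c) := by ring
          _ = 0 := by rw [h0, mul_zero]
      · exact ⟨⟨c, hc⟩, Subtype.val_injective h1⟩
    · refine ⟨fun x => ?_⟩
      obtain ⟨P, hPm, hPs, hP⟩ := (mem_maxWeaklyEtale_iff K x.1).mp x.2
      have hP' : Polynomial.aeval x P = 0 := by
        apply Subtype.val_injective
        rw [Polynomial.aeval_subalgebra_coe, hP]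
        rfl
      exact hPs.of_dvd (minpoly.dvd K x hP')

end Groth.Agent.S7141
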