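import Groth.Statements.S7143
import Mathlib

set_option autoImplicit false
universe u
open CategoryTheory

namespace Groth.Agent.S7143

open TensorProduct

section Prod

variable {ι : Type u} {W : ι → Type u} [∀ i, CommRing (W i)] [∀ i, IsDomain (W i)]

/-- principal ideals in a product of domains are flat -/
theorem flat_span_singleton (c : ∀ i, W i) : Module.Flat (∀ i, W i) (Ideal.span {c}) := by
  classical
  let V := ∀ i, W i
  let e' : V := fun i => if c i = 0 then 0 else 1
  have L1 : ∀ d : V, d * c = 0 → e' * d = 0 := by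
    intro d hd
    funext i
    have hi : d i * c i = 0 := congrFun hd i
    change (if c i = 0 then 0 else 1) * d i = 0
    by_cases hc : c i = 0
    · rw [if_pos hc, zero_mul]
    · have : d i = 0 := by
        rcases mul_eq_zero.mp hi with h | h
        · exact h
        · exact absurd h hc
      rw [this, mul_zero]
  have L2 : e' * c = c := by
    funext i
    change (if c i = 0 then 0 else 1) * c i = c i
    by_cases hc : c i = 0
    · rw [if_pos hc, zero_mul, hc]
    · rw [if_neg hc, one_mul]
  have L3 : e' * e' = e' := by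
    funext i
    change (if c i = 0 then 0 else 1) * (if c i = 0 then 0 else 1) = (if c i = 0 then (0 : W i) else 1)
    by_cases hc : c i = 0
    · rw [if_pos hc, zero_mul]
    · rw [if_neg hc, one_mul]
  -- φ : V → span{c}
  let φ : V →ₗ[V] (Ideal.span {c} : Ideal V) :=
    (LinearMap.toSpanSingleton V V c).codRestrict (Ideal.span {c}) (fun v => by
      rw [LinearMap.toSpanSingleton_apply]
      exact Ideal.mem_span_singleton'.mpr ⟨v, rfl⟩)
  have hφ : Function.Surjective φ := by
    rintro ⟨x, hx⟩
    obtain ⟨v, rfl⟩ := Ideal.mem_span_singleton'.mp hx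
    exact ⟨v, rfl⟩
  let ψ : V →ₗ[V] V := LinearMap.toSpanSingleton V V e'
  have hker : LinearMap.ker φ = LinearMap.ker ψ := by
    ext d
    simp only [LinearMap.mem_ker]
    constructor
    · intro h
      have h1 : d * c = 0 := congrArg Subtype.val h
      have := L1 d h1
      change d • e' = 0
      rw [smul_eq_mul, mul_comm]
      exact this
    · intro h
      have h1 : d * e' = 0 := h
      apply Subtype.ext
      change d * c = 0
      rw [← L2, ← mul_assoc, h1, zero_mul]
  have hflat : Module.Flat V (LinearMap.range ψ) := by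
    refine Module.Flat.of_retract (LinearMap.range ψ).subtype ψ.rangeRestrict ?_
    apply LinearMap.ext
    rintro ⟨x, v, rfl⟩
    apply Subtype.ext
    change (v • e') • e' = v • e'
    rw [smul_eq_mul, smul_eq_mul, mul_assoc, L3]
  have e1 : (V ⧸ LinearMap.ker φ) ≃ₗ[V] (Ideal.span {c} : Ideal V) :=
    LinearMap.quotKerEquivOfSurjective φ hφ
  have e2 : (V ⧸ LinearMap.ker ψ) ≃ₗ[V] LinearMap.range ψ := LinearMap.quotKerEquivRange ψ
  have e3 : (V ⧸ LinearMap.ker φ) ≃ₗ[V] (V ⧸ LinearMap.ker ψ) := Submodule.quotEquivOfEq _ _ hker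
  exact Module.Flat.of_linearEquiv (e1.symm.trans (e3.trans e2))

/-- a product of Bezout rings is Bezout -/
theorem isBezout_pi [∀ i, IsBezout (W i)] : IsBezout (∀ i, W i) := by
  rw [IsBezout.iff_span_pair_isPrincipal]
  intro x y
  have h : ∀ i, ∃ g : W i, Ideal.span {x i, y i} = Ideal.span {g} := fun i =>
    ⟨_, (Submodule.IsPrincipal.span_singleton_generator (Ideal.span {x i, y i})).symm⟩
  choose g hg using h
  have hx : ∀ i, ∃ a, a * g i = x i := fun i => by
    have : x i ∈ Ideal.span {g i} := by
      rw [← hg i]; exact Ideal.subset_span (by simp)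
    exact Ideal.mem_span_singleton'.mp this
  have hy : ∀ i, ∃ a, a * g i = y i := fun i => by
    have : y i ∈ Ideal.span {g i} := by
      rw [← hg i]; exact Ideal.subset_span (by simp)
    exact Ideal.mem_span_singleton'.mp this
  have hgg : ∀ i, ∃ a b, a * x i + b * y i = g i := fun i => by
    have : g i ∈ Ideal.span {x i, y i} := by
      rw [hg i]; exact Ideal.subset_span rfl
    exact Ideal.mem_span_pair.mp this
  choose a ha using hx
  choose b hb using hy
  choose u v huv using hgg
  refine ⟨⟨g, ?_⟩⟩
  apply le_antisymm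
  · rw [Ideal.span_le]
    intro z hz
    rcases hz with rfl | hz
    · exact Ideal.mem_span_singleton'.mpr ⟨a, funext ha⟩
    · rw [Set.mem_singleton_iff] at hz
      subst hz
      exact Ideal.mem_span_singleton'.mpr ⟨b, funext hb⟩
  · change Ideal.span {g} ≤ _
    rw [Ideal.span_le]
    intro z hz
    rw [Set.mem_singleton_iff] at hz
    subst hz
    exact Ideal.mem_span_pair.mpr ⟨u, v, funext huv⟩

end Prod

/-- if all finitely generated ideals are flat then all ideals are flat -/
theorem flat_ideal_of_fg {V : Type u} [CommRing V]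
    (h : ∀ I : Ideal V, I.FG → Module.Flat V I) (I : Ideal V) : Module.Flat V I := by
  rw [Module.Flat.iff_lTensor_injective']
  intro J
  rw [injective_iff_map_eq_zero]
  intro x hx
  obtain ⟨I', hfg, hle, y, rfl⟩ := Submodule.exists_fg_le_eq_rTensor_inclusion x
  haveI := h I' hfg
  have h1 : (LinearMap.rTensor V (I'.inclusion hle)) (LinearMap.lTensor I' J.subtype y) = 0 := by
    rw [← LinearMap.comp_apply, LinearMap.rTensor_comp_lTensor, ← LinearMap.lTensor_comp_rTensor,
      LinearMap.comp_apply]
    exact hx
  have h2 : Function.Injective (LinearMap.rTensor V (I'.inclusion hle)) :=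
    Module.Flat.rTensor_preserves_injective_linearMap _ (Submodule.inclusion_injective hle)
  have h3 : LinearMap.lTensor I' J.subtype y = 0 := h2 (by rw [h1, map_zero])
  have h4 : Function.Injective (LinearMap.lTensor I' J.subtype) :=
    Module.Flat.lTensor_preserves_injective_linearMap _ (Submodule.subtype_injective _)
  have h5 : y = 0 := h4 (by rw [h3, map_zero])
  rw [h5, map_zero]

/-- a localization is an epimorphism -/
theorem isEpi_of_isLocalization {R S : Type u} [CommRing R] [CommRing S] [Algebra R S]
    (M : Submonoid R) [IsLocalization M S] : Algebra.IsEpi R S := by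
  refine (Algebra.isEpi_iff_forall_one_tmul_eq R S).mpr fun x => ?_
  obtain ⟨⟨a, b⟩, hab⟩ := IsLocalization.surj M x
  obtain ⟨u, hu⟩ := IsLocalization.map_units S b
  have hx : x = algebraMap R S a * ↑u⁻¹ := by
    rw [Units.eq_mul_inv_iff_mul_eq, hu]
    exact hab
  have h1 : algebraMap R S (b : R) * ↑u⁻¹ = 1 := by
    rw [← hu]; exact Units.mul_inv u
  calc (1 : S) ⊗ₜ[R] x = 1 ⊗ₜ[R] (a • (↑u⁻¹ : S)) := by rw [hx, Algebra.smul_def]
    _ = (a • (1 : S)) ⊗ₜ[R] (↑u⁻¹ : S) := by rw [TensorProduct.smul_tmul]
    _ = ((b : R) • x) ⊗ₜ[R] (↑u⁻¹ : S) := by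
        rw [Algebra.smul_def, Algebra.smul_def, mul_one, mul_comm, hab]
    _ = x ⊗ₜ[R] ((b : R) • (↑u⁻¹ : S)) := by rw [TensorProduct.smul_tmul]
    _ = x ⊗ₜ[R] 1 := by rw [Algebra.smul_def, h1]

/-- an element of `K` lying in every valuation subring containing the image of the integrally
closed domain `A` comes from `A`. -/
theorem mem_range_of_forall_valuationSubring (A K : Type u) [CommRing A] [IsDomain A] [Field K]
    [Algebra A K] [IsFractionRing A K] [IsIntegrallyClosed A] (k : K)
    (hk : ∀ W : ValuationSubring K, (∀ a : A, algebraMap A K a ∈ W) → k ∈ W) :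
    ∃ a : A, algebraMap A K a = k := by
  let R : Subring K := (algebraMap A K).range
  letI : Algebra A R := (algebraMap A K).rangeRestrict.toAlgebra
  haveI : IsScalarTower A R K := IsScalarTower.of_algebraMap_eq (fun _ => rfl)
  haveI : Algebra.IsIntegral A R :=
    Algebra.isIntegral_of_surjective (algebraMap A K).rangeRestrict_surjective
  haveI : IsIntegrallyClosedIn R K := by
    rw [Subring.isIntegrallyClosedIn_iff]
    intro x hx
    have hx' : IsIntegral A x := isIntegral_trans x hx
    obtain ⟨y, hy⟩ := IsIntegrallyClosed.algebraMap_eq_of_integral hx'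
    exact ⟨y, hy⟩
  by_contra hcon
  have hkR : k ∉ R := fun ⟨a, ha⟩ => hcon ⟨a, ha⟩
  obtain ⟨W, hW, hkW⟩ := Subring.exists_le_valuationSubring_of_isIntegrallyClosedIn hkR
  exact hkW (hk W fun a => hW ⟨a, rfl⟩)

theorem result (A K : Type u) [CommRing A] [IsDomain A] [Field K] [Algebra A K]
    [IsFractionRing A K] [IsIntegrallyClosed A] :
    ∃ (V L : Type u) (_ : CommRing V) (_ : CommRing L) (f : A →+* V) (g : V →+* L) (h : K →+* L),
      g.comp f = h.comp (algebraMap A K) ∧
      (∀ I : Ideal V, Module.Flat V I) ∧ g.Flat ∧ Function.Injective g ∧ Epi (CommRingCat.ofHom g) ∧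
      ∀ (v : V) (k : K), g v = h k → ∃! a : A, f a = v ∧ algebraMap A K a = k := by
  classical
  let ι : Type u := {W : ValuationSubring K // ∀ a : A, algebraMap A K a ∈ W}
  let V : Type u := ∀ W : ι, W.1
  let L : Type u := ι → K
  let f : A →+* V := Pi.ringHom fun W => (algebraMap A K).codRestrict W.1.toSubring (fun a => W.2 a)
  let g : V →+* L := Pi.ringHom fun W => (W.1.subtype).comp (Pi.evalRingHom (fun W : ι => W.1) W)
  let h : K →+* L := Pi.ringHom fun _ => RingHom.id K
  have hginj : Function.Injective g := by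
    intro v w hvw
    funext W
    apply Subtype.ext
    exact congrFun hvw W
  refine ⟨V, L, inferInstance, inferInstance, f, g, h, ?_, ?_, ?_, hginj, ?_, ?_⟩
  · rfl
  · haveI : IsBezout V := isBezout_pi
    apply flat_ideal_of_fg
    intro I hI
    obtain ⟨⟨c, rfl⟩⟩ := IsBezout.isPrincipal_of_FG I hI
    exact flat_span_singleton c
  all_goals
    letI : Algebra V L := g.toAlgebra
    let S : Submonoid V :=
      { carrier := {s | ∀ W, s W ≠ 0}
        one_mem' := fun W => one_ne_zero
        mul_mem' := fun {a b} ha hb W => mul_ne_zero (ha W) (hb W) }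
    have hloc : IsLocalization S L := by
      rw [isLocalization_iff]
      refine ⟨?_, ?_, ?_⟩
      · rintro ⟨s, hs⟩
        rw [Pi.isUnit_iff]
        intro W
        have : ((s W : W.1) : K) ≠ 0 := fun h0 => hs W (Subtype.ext h0)
        exact isUnit_iff_ne_zero.mpr this
      · intro z
        have hz : ∀ W : ι, ∃ (a b : W.1), b ≠ 0 ∧ z W * (b : K) = (a : K) := by
          intro W
          rcases W.1.mem_or_inv_mem (z W) with hm | hm
          · exact ⟨⟨z W, hm⟩, 1, one_ne_zero, by simp⟩
          · by_cases h0 : z W = 0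
            · exact ⟨0, 1, one_ne_zero, by simp [h0]⟩
            · refine ⟨1, ⟨(z W)⁻¹, hm⟩, ?_, ?_⟩
              · intro hh
                have := congrArg Subtype.val hh
                simp at this
                exact h0 this
              · simp [h0]
        choose a b hb hab using hz
        refine ⟨⟨a, ⟨b, hb⟩⟩, ?_⟩
        funext W
        exact hab W
      · intro x y hxy
        exact ⟨1, by rw [hginj hxy]⟩
    first
    | exact IsLocalization.flat L S
    | exact CommRingCat.epi_iff_epi.mpr (isEpi_of_isLocalization S)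
    | skip
  intro v k hvk
  have hk : ∀ W : ι, ((v W : W.1) : K) = k := fun W => congrFun hvk W
  obtain ⟨a, ha⟩ := mem_range_of_forall_valuationSubring A K k (fun W hW => by
    have := hk ⟨W, hW⟩
    rw [← this]
    exact (v ⟨W, hW⟩).2)
  refine ⟨a, ⟨?_, ha⟩, ?_⟩
  · funext W
    apply Subtype.ext
    rw [hk W, ← ha]
    rfl
  · rintro b ⟨-, hb⟩
    exact IsFractionRing.injective A K (hb.trans ha.symm)

end Groth.Agent.S7143
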