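import Groth.Statements.S7144
-- import your own Groth.Agent.* helpers here

set_option autoImplicit false
universe u
open CAlg

namespace Groth.Agent.S7144

/-- (1) ⇔ (2): let R be a nonzero ring. Then for all a, b in R one of a, b divides the other if and only
if R is local and every finitely generated ideal of R is principal. (The further equivalence with
the total ordering of the set of ideals by inclusion is standard and not restated here.) -/
theorem result (R : Type u) [CommRing R] [Nontrivial R] :
    PreValuationRing R ↔ IsLocalRing R ∧ IsBezout R := by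
  constructor
  · intro h
    refine ⟨inferInstance, ?_⟩
    classical
    rw [IsBezout.iff_span_pair_isPrincipal]
    intro x y
    rw [Ideal.span_insert]
    rcases (ValuationRing.le_total_ideal R).total (Ideal.span {x} : Ideal R) (Ideal.span {y}) with h | h
    · rw [sup_eq_right.mpr h]; exact ⟨⟨_, rfl⟩⟩
    · rw [sup_eq_left.mpr h]; exact ⟨⟨_, rfl⟩⟩
  · rintro ⟨hloc, hbez⟩
    refine ⟨fun a b => ?_⟩
    obtain ⟨g, e : _ = Ideal.span _⟩ := IsBezout.span_pair_isPrincipal a b
    obtain ⟨a, rfl⟩ := Ideal.mem_span_singleton'.mp
        (show a ∈ Ideal.span {g} by rw [← e]; exact Ideal.subset_span (by simp))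
    obtain ⟨b, rfl⟩ := Ideal.mem_span_singleton'.mp
        (show b ∈ Ideal.span {g} by rw [← e]; exact Ideal.subset_span (by simp))
    obtain ⟨x, y, e'⟩ := Ideal.mem_span_pair.mp
        (show g ∈ Ideal.span {a * g, b * g} by rw [e]; exact Ideal.subset_span (by simp))
    -- g * (x a + y b) = g
    have hg : (x * a + y * b) * g = g := by linear_combination e'
    rcases IsLocalRing.isUnit_or_isUnit_one_sub_self (x * a + y * b) with hu | hu
    · -- x a + y b is a unit, so one of x a, y b is a unit
      have hnu : ¬ (x * a ∈ nonunits R ∧ y * b ∈ nonunits R) := by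
        rintro ⟨h1, h2⟩
        exact IsLocalRing.nonunits_add h1 h2 hu
      by_cases h1 : IsUnit (x * a)
      · have ha : IsUnit a := isUnit_of_mul_isUnit_right h1
        obtain ⟨u, rfl⟩ := ha
        refine ⟨↑u⁻¹ * b, Or.inl ?_⟩
        calc (↑u * g) * (↑u⁻¹ * b) = (↑u * ↑u⁻¹) * (b * g) := by ring
          _ = b * g := by rw [Units.mul_inv, one_mul]
      · have h2 : IsUnit (y * b) := by
          by_contra h2
          exact hnu ⟨h1, h2⟩
        have hb : IsUnit b := isUnit_of_mul_isUnit_right h2
        obtain ⟨u, rfl⟩ := hb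
        refine ⟨↑u⁻¹ * a, Or.inr ?_⟩
        calc (↑u * g) * (↑u⁻¹ * a) = (↑u * ↑u⁻¹) * (a * g) := by ring
          _ = a * g := by rw [Units.mul_inv, one_mul]
    · -- 1 - (x a + y b) is a unit and kills g, so g = 0
      have : (1 - (x * a + y * b)) * g = 0 := by rw [sub_mul, one_mul, hg, sub_self]
      have hg0 : g = 0 := by
        obtain ⟨u, hu⟩ := hu
        rw [← hu] at this
        exact (Units.mul_right_eq_zero u).mp this
      refine ⟨0, Or.inl ?_⟩
      rw [hg0]; simp

end Groth.Agent.S7144
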