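import Groth.Statements.S7145
import Mathlib.LinearAlgebra.Basis.Basic
import Mathlib.RingTheory.Finiteness.Basic
import Mathlib.Algebra.Category.ModuleCat.Limits
-- import your own Groth.Agent.* helpers here

set_option autoImplicit false
universe u
open CategoryTheory CategoryTheory.Limits
open CAlg

namespace Groth.Agent.S7145

section

variable {R : Type u} [CommRing R] (F : CochainComplex (ModuleCat.{u} R) ℤ)

/-- The subcomplex of `F` given by a family of submodules stable under the differential. -/
noncomputable def subcomplex (W : ∀ n : ℤ, Submodule R (F.X n))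
    (hW : ∀ (n m : ℤ) (x : F.X n), x ∈ W n → (F.d n m).hom x ∈ W m) :
    CochainComplex (ModuleCat.{u} R) ℤ where
  X n := ModuleCat.of R (W n)
  d n m := ModuleCat.ofHom ((F.d n m).hom.restrict (hW n m))
  shape n m h := by
    ext x
    simp [F.shape n m h]
  d_comp_d' i j k _ _ := by
    ext x
    have h1 : (F.d j k).hom ((F.d i j).hom (x : F.X i)) = 0 := by
      rw [← LinearMap.comp_apply, ← ModuleCat.hom_comp, F.d_comp_d i j k]; rfl
    simpa using h1

/-- The inclusion of the subcomplex. -/
noncomputable def subcomplexι (W : ∀ n : ℤ, Submodule R (F.X n))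
    (hW : ∀ (n m : ℤ) (x : F.X n), x ∈ W n → (F.d n m).hom x ∈ W m) :
    subcomplex F W hW ⟶ F where
  f n := ModuleCat.ofHom (W n).subtype
  comm' i j _ := by
    ext x
    rfl

end

section

variable {R : Type u} [CommRing R] (F : CochainComplex (ModuleCat.{u} R) ℤ)
  [hfree : ∀ n : ℤ, Module.Free R (F.X n)]

/-- The basis index type of `F.X n`. -/
abbrev idx (n : ℤ) : Type u := Module.Free.ChooseBasisIndex R (F.X n)

/-- The chosen basis of `F.X n`. -/
noncomputable abbrev bas (n : ℤ) : Module.Basis (idx F n) R (F.X n) :=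
  Module.Free.chooseBasis R (F.X n)

variable {N : ℕ} (deg : Fin N → ℤ) (f : ∀ i : Fin N, F.X (deg i))

/-- The level sets of basis elements reachable from the given elements. -/
noncomputable def lev : ℕ → Set (Σ n : ℤ, idx F n)
  | 0 => {p | ∃ (i : Fin N) (j : idx F (deg i)), j ∈ ((bas F (deg i)).repr (f i)).support ∧
      p = ⟨deg i, j⟩}
  | (k + 1) => {p | ∃ (n : ℤ) (j : idx F n) (j' : idx F (n + 1)), (⟨n, j⟩ : Σ n : ℤ, idx F n) ∈ lev k ∧
      j' ∈ ((bas F (n + 1)).repr ((F.d n (n + 1)).hom (bas F n j))).support ∧ p = ⟨n + 1, j'⟩}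

theorem lev_finite (k : ℕ) : (lev F deg f k).Finite := by
  induction k with
  | zero =>
    have : lev F deg f 0 = ⋃ i : Fin N, (fun j => (⟨deg i, j⟩ : Σ n : ℤ, idx F n)) ''
        (((bas F (deg i)).repr (f i)).support : Set (idx F (deg i))) := by
      ext p
      simp only [lev, Set.mem_ofPred_eq, Set.mem_iUnion, Set.mem_image, Finset.mem_coe]
      constructor
      · rintro ⟨i, j, hj, rfl⟩
        exact ⟨i, j, hj, rfl⟩
      · rintro ⟨i, j, hj, rfl⟩
        exact ⟨i, j, hj, rfl⟩
    rw [this]
    exact Set.finite_iUnion (fun i => (Finset.finite_toSet _).image _)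
  | succ k ih =>
    have : lev F deg f (k + 1) = ⋃ p ∈ lev F deg f k, (fun j' => (⟨p.1 + 1, j'⟩ : Σ n : ℤ, idx F n)) ''
        (((bas F (p.1 + 1)).repr ((F.d p.1 (p.1 + 1)).hom (bas F p.1 p.2))).support :
          Set (idx F (p.1 + 1))) := by
      ext q
      simp only [lev, Set.mem_ofPred_eq, Set.mem_iUnion, Set.mem_image, Finset.mem_coe]
      constructor
      · rintro ⟨n, j, j', h, hj', rfl⟩
        exact ⟨⟨n, j⟩, h, j', hj', rfl⟩
      · rintro ⟨⟨n, j⟩, h, j', hj', rfl⟩
        exact ⟨n, j, j', h, hj', rfl⟩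
    rw [this]
    exact Set.Finite.biUnion ih (fun p _ => (Finset.finite_toSet _).image _)

theorem lev_lower (a : ℤ) (ha : ∀ i, a ≤ deg i) (k : ℕ) (p : Σ n : ℤ, idx F n)
    (hp : p ∈ lev F deg f k) : a + k ≤ p.1 := by
  induction k generalizing p with
  | zero =>
    obtain ⟨i, j, _, rfl⟩ := hp
    simpa using ha i
  | succ k ih =>
    obtain ⟨n, j, j', h, _, rfl⟩ := hp
    have := ih _ h
    simp only at this ⊢
    push_cast
    omega

theorem lev_upper (b : ℤ) (hb : ∀ n : ℤ, b < n → IsZero (F.X n)) (k : ℕ) (p : Σ n : ℤ, idx F n)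
    (hp : p ∈ lev F deg f k) : p.1 ≤ b := by
  by_contra hlt
  push Not at hlt
  have hz : IsZero (F.X p.1) := hb _ hlt
  have hsub : Subsingleton (F.X p.1) := ModuleCat.subsingleton_of_isZero hz
  cases k with
  | zero =>
    obtain ⟨i, j, hj, rfl⟩ := hp
    rw [Finsupp.mem_support_iff] at hj
    apply hj
    have : f i = 0 := Subsingleton.elim _ _
    rw [this, map_zero]; rfl
  | succ k =>
    obtain ⟨n, j, j', h, hj, rfl⟩ := hp
    rw [Finsupp.mem_support_iff] at hj
    apply hj
    have : (F.d n (n + 1)).hom (bas F n j) = 0 := Subsingleton.elim _ _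
    rw [this, map_zero]; rfl

/-- All reachable basis elements. -/
noncomputable def reach : Set (Σ n : ℤ, idx F n) := ⋃ k : ℕ, lev F deg f k

theorem reach_finite (a : ℤ) (ha : ∀ i, a ≤ deg i) (b : ℤ) (hb : ∀ n : ℤ, b < n → IsZero (F.X n)) :
    (reach F deg f).Finite := by
  have hsub : reach F deg f ⊆ ⋃ k ∈ Finset.range ((b - a).toNat + 1), lev F deg f k := by
    intro p hp
    obtain ⟨k, hk⟩ := Set.mem_iUnion.mp hp
    have h1 := lev_lower F deg f a ha k p hk
    have h2 := lev_upper F deg f b hb k p hk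
    refine Set.mem_iUnion₂.mpr ⟨k, ?_, hk⟩
    rw [Finset.mem_range]
    omega
  exact (Set.Finite.biUnion (Finset.finite_toSet _) (fun k _ => lev_finite F deg f k)).subset hsub

/-- The index set of reachable basis elements in degree `n`. -/
def rset (n : ℤ) : Set (idx F n) := {j | (⟨n, j⟩ : Σ n : ℤ, idx F n) ∈ reach F deg f}

theorem rset_finite (a : ℤ) (ha : ∀ i, a ≤ deg i) (b : ℤ) (hb : ∀ n : ℤ, b < n → IsZero (F.X n))
    (n : ℤ) : (rset F deg f n).Finite := by
  have : rset F deg f n = (fun j => (⟨n, j⟩ : Σ n : ℤ, idx F n)) ⁻¹' reach F deg f := rfl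
  rw [this]
  exact (reach_finite F deg f a ha b hb).preimage (sigma_mk_injective.injOn)

/-- The family of basis vectors spanning the subcomplex in degree `n`. -/
noncomputable def fam (n : ℤ) : rset F deg f n → F.X n := fun j => bas F n j

theorem fam_li (n : ℤ) : LinearIndependent R (fam F deg f n) :=
  (bas F n).linearIndependent.comp _ Subtype.val_injective

/-- The submodule spanned by reachable basis elements. -/
noncomputable def W (n : ℤ) : Submodule R (F.X n) := Submodule.span R (Set.range (fam F deg f n))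

theorem range_fam (n : ℤ) : Set.range (fam F deg f n) = bas F n '' rset F deg f n := by
  ext x
  simp [fam]

theorem mem_W_of_support (n : ℤ) (x : F.X n)
    (hx : ∀ j ∈ ((bas F n).repr x).support, j ∈ rset F deg f n) : x ∈ W F deg f n := by
  have h1 := (bas F n).mem_span_repr_support x
  rw [W, range_fam]
  refine Submodule.span_mono ?_ h1
  rintro _ ⟨j, hj, rfl⟩
  exact ⟨j, hx j hj, rfl⟩

theorem W_stable (n m : ℤ) (x : F.X n) (hx : x ∈ W F deg f n) :
    (F.d n m).hom x ∈ W F deg f m := by
  by_cases hnm : n + 1 = m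
  · subst hnm
    refine Submodule.span_induction ?_ ?_ ?_ ?_ hx
    · rintro _ ⟨⟨j, hj⟩, rfl⟩
      apply mem_W_of_support
      intro j' hj'
      obtain ⟨k, hk⟩ := Set.mem_iUnion.mp hj
      exact Set.mem_iUnion.mpr ⟨k + 1, n, j, j', hk, hj', rfl⟩
    · rw [map_zero]; exact Submodule.zero_mem _
    · intro x y _ _ hx hy
      rw [map_add]; exact Submodule.add_mem _ hx hy
    · intro c x _ hx
      rw [map_smul]; exact Submodule.smul_mem _ c hx
  · have : F.d n m = 0 := F.shape n m hnm
    rw [this]
    exact Submodule.zero_mem _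

theorem f_mem_W (i : Fin N) : f i ∈ W F deg f (deg i) := by
  apply mem_W_of_support
  intro j hj
  exact Set.mem_iUnion.mpr ⟨0, i, j, hj, rfl⟩

theorem W_finite (a : ℤ) (ha : ∀ i, a ≤ deg i) (b : ℤ) (hb : ∀ n : ℤ, b < n → IsZero (F.X n))
    (n : ℤ) : Module.Finite R (W F deg f n) := by
  have : Finite (rset F deg f n) := (rset_finite F deg f a ha b hb n).to_subtype
  exact Module.Finite.span_of_finite R (Set.finite_range _)

theorem W_free (n : ℤ) : Module.Free R (W F deg f n) :=
  Module.Free.of_basis (Module.Basis.span (fam_li F deg f n))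

theorem W_subsingleton_of_lt (a : ℤ) (ha : ∀ i, a ≤ deg i) (n : ℤ) (hn : n < a) :
    Subsingleton (W F deg f n) := by
  have : IsEmpty (rset F deg f n) := by
    constructor
    rintro ⟨j, hj⟩
    obtain ⟨k, hk⟩ := Set.mem_iUnion.mp hj
    have := lev_lower F deg f a ha k _ hk
    simp only at this
    omega
  have h0 : W F deg f n = ⊥ := by
    rw [W, Set.range_eq_empty, Submodule.span_empty]
  rw [h0]
  infer_instance

end

/-- Let R be a ring and F a cochain complex of free R-modules that is zero in all sufficiently large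
degrees. Given finitely many elements f_i of F, f_i lying in degree n_i, there is a subcomplex G of
F (a map of complexes G → F injective in every degree) through which every f_i passes, such that G
is zero outside a finite range of degrees and each term of G is a finitely generated free R-module. -/
theorem result (R : Type u) [CommRing R]
    (F : CochainComplex (ModuleCat.{u} R) ℤ) (hfree : ∀ n : ℤ, Module.Free R (F.X n))
    (b : ℤ) (hb : ∀ n : ℤ, b < n → IsZero (F.X n))
    (N : ℕ) (deg : Fin N → ℤ) (f : ∀ i : Fin N, F.X (deg i)) :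
    ∃ (G : CochainComplex (ModuleCat.{u} R) ℤ) (ι : G ⟶ F),
      (∀ n : ℤ, Function.Injective (ι.f n)) ∧
      (∃ a c : ℤ, ∀ n : ℤ, (n < a ∨ c < n) → IsZero (G.X n)) ∧
      (∀ n : ℤ, Module.Finite R (G.X n) ∧ Module.Free R (G.X n)) ∧
      ∀ i : Fin N, f i ∈ Set.range (ι.f (deg i)) := by
  obtain ⟨a, ha⟩ : ∃ a : ℤ, ∀ i, a ≤ deg i := by
    obtain ⟨a, ha⟩ := (Set.finite_range deg).bddBelow
    exact ⟨a, fun i => ha (Set.mem_range_self i)⟩
  refine ⟨subcomplex F (W F deg f) (W_stable F deg f), subcomplexι F (W F deg f) (W_stable F deg f),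
    ?_, ⟨a, b, ?_⟩, ?_, ?_⟩
  · intro n
    exact Subtype.val_injective
  · rintro n (hn | hn)
    · have := W_subsingleton_of_lt F deg f a ha n hn
      exact ModuleCat.isZero_of_subsingleton (ModuleCat.of R (W F deg f n))
    · have h1 : Subsingleton (F.X n) := ModuleCat.subsingleton_of_isZero (hb n hn)
      have : Subsingleton (W F deg f n) := Subtype.val_injective.subsingleton
      exact ModuleCat.isZero_of_subsingleton (ModuleCat.of R (W F deg f n))
  · intro n
    exact ⟨W_finite F deg f a ha b hb n, W_free F deg f n⟩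
  · intro i
    exact ⟨⟨f i, f_mem_W F deg f i⟩, rfl⟩

end Groth.Agent.S7145
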