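import Groth.Statements.S7147
import Mathlib

set_option autoImplicit false
universe u
open CAlg

namespace Groth.Agent.S7147

section
variable (R : Type u) [CommRing R] (M : Type u) [AddCommGroup M] [Module R M] (x : Ideal R)

/-- the submodule of elements all of whose linear forms take values in `x`. -/
def N : Submodule R M where
  carrier := {m | ∀ φ : M →ₗ[R] R, φ m ∈ x}
  add_mem' := fun {a b} ha hb φ => by rw [map_add]; exact x.add_mem (ha φ) (hb φ)
  zero_mem' := fun φ => by rw [map_zero]; exact x.zero_mem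
  smul_mem' := fun c m hm φ => by rw [map_smul]; exact x.mul_mem_left c (hm φ)

theorem mem_N (m : M) : m ∈ N R M x ↔ ∀ φ : M →ₗ[R] R, φ m ∈ x := Iff.rfl

theorem smul_top_le_N : (x • ⊤ : Submodule R M) ≤ N R M x := by
  rw [Submodule.smul_le]
  intro r hr m _ φ
  rw [map_smul, smul_eq_mul]; exact x.mul_mem_right _ hr

variable [x.IsMaximal]

noncomputable def Bx : Submodule (R ⧸ x) (M ⧸ (x • ⊤ : Submodule R M)) :=
  Submodule.span (R ⧸ x) ((x • ⊤ : Submodule R M).mkQ '' {m : M | ∀ φ : M →ₗ[R] R, φ m ∈ x})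

/-- the image of `N` as a `κ`-subspace. -/
def B' : Submodule (R ⧸ x) (M ⧸ (x • ⊤ : Submodule R M)) where
  carrier := (x • ⊤ : Submodule R M).mkQ '' (N R M x : Set M)
  add_mem' := by
    rintro _ _ ⟨a, ha, rfl⟩ ⟨b, hb, rfl⟩
    exact ⟨a + b, (N R M x).add_mem ha hb, map_add _ _ _⟩
  zero_mem' := ⟨0, (N R M x).zero_mem, map_zero _⟩
  smul_mem' := by
    rintro c _ ⟨a, ha, rfl⟩
    obtain ⟨c', rfl⟩ := Ideal.Quotient.mk_surjective c
    exact ⟨c' • a, (N R M x).smul_mem c' ha, rfl⟩

theorem mem_N_of_mkQ_mem_Bx (m : M) (h : (x • ⊤ : Submodule R M).mkQ m ∈ Bx R M x) :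
    m ∈ N R M x := by
  have hle : Bx R M x ≤ B' R M x := by
    rw [Bx, Submodule.span_le]
    rintro _ ⟨a, ha, rfl⟩
    exact ⟨a, ha, rfl⟩
  obtain ⟨n, hn, hnm⟩ := hle h
  have h1 : m - n ∈ (x • ⊤ : Submodule R M) := by
    rw [← Submodule.Quotient.mk_eq_zero, Submodule.Quotient.mk_sub, sub_eq_zero]
    exact hnm.symm
  have h2 := smul_top_le_N R M x h1
  have : m = n + (m - n) := by abel
  rw [this]
  exact (N R M x).add_mem hn h2

theorem mkQ_mem_Bx_of_mem_N (m : M) (h : m ∈ N R M x) :
    (x • ⊤ : Submodule R M).mkQ m ∈ Bx R M x :=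
  Submodule.subset_span ⟨m, h, rfl⟩

theorem sum_smul_eq (r : ℕ) (s : Fin r → M) (c' : Fin r → R) :
    ∑ i, (Ideal.Quotient.mk x (c' i)) •
      (Bx R M x).mkQ ((x • ⊤ : Submodule R M).mkQ (s i)) =
    (Bx R M x).mkQ ((x • ⊤ : Submodule R M).mkQ (∑ i, c' i • s i)) := by
  rw [map_sum, map_sum]
  refine Finset.sum_congr rfl fun i _ => ?_
  rw [← map_smul]
  rfl

theorem dir1 [Module.FinitePresentation R M] (r : ℕ) (s : Fin r → M) (a : R) (ha : a ∉ x)
    (g : LocalizedModule (Submonoid.powers a) M →ₗ[Localization.Away a]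
      (Fin r → Localization.Away a))
    (hg : g ∘ₗ Fintype.linearCombination (Localization.Away a)
      (fun i => LocalizedModule.mkLinearMap (Submonoid.powers a) M (s i)) = LinearMap.id) :
    LinearIndependent (R ⧸ x)
      (fun i => (Bx R M x).mkQ ((x • ⊤ : Submodule R M).mkQ (s i))) := by
  classical
  rw [Fintype.linearIndependent_iff]
  intro c hc j
  choose c' hc' using fun i => Ideal.Quotient.mk_surjective (c i)
  have hc2 : ∑ i, (Ideal.Quotient.mk x (c' i)) •
      (Bx R M x).mkQ ((x • ⊤ : Submodule R M).mkQ (s i)) = 0 := by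
    rw [← hc]
    exact Finset.sum_congr rfl fun i _ => by rw [hc']
  rw [sum_smul_eq, Submodule.mkQ_apply, Submodule.Quotient.mk_eq_zero] at hc2
  have hN := mem_N_of_mkQ_mem_Bx R M x _ hc2
  set m := ∑ i, c' i • s i with hm
  have hprime : x.IsPrime := Ideal.IsMaximal.isPrime inferInstance
  let l : M →ₗ[R] Localization.Away a :=
    (((LinearMap.proj j : (Fin r → Localization.Away a) →ₗ[Localization.Away a] _) ∘ₗ
      g).restrictScalars R) ∘ₗ LocalizedModule.mkLinearMap (Submonoid.powers a) M
  obtain ⟨φ, t, hφ⟩ := Module.FinitePresentation.exists_lift_of_isLocalizedModule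
    (Submonoid.powers a) (Algebra.linearMap R (Localization.Away a)) l
  have hgs : ∀ i, g (LocalizedModule.mkLinearMap (Submonoid.powers a) M (s i)) =
      Pi.single i 1 := by
    intro i
    have := LinearMap.congr_fun hg (Pi.single i 1)
    simpa [Fintype.linearCombination_apply_single] using this
  have key : ∀ i, algebraMap R (Localization.Away a) (φ (s i)) =
      algebraMap R (Localization.Away a) (if i = j then (t : R) else 0) := by
    intro i
    have h1 := LinearMap.congr_fun hφ (s i)
    simp only [LinearMap.coe_comp, Function.comp_apply, Algebra.linearMap_apply,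
      LinearMap.smul_apply, l, LinearMap.coe_restrictScalars, LinearMap.proj_apply, hgs] at h1
    rw [h1]
    by_cases hij : i = j
    · subst hij
      rw [Pi.single_eq_same, if_pos rfl, Submonoid.smul_def, Algebra.smul_def, mul_one]
    · rw [Pi.single_eq_of_ne (Ne.symm hij), if_neg hij, smul_zero, map_zero]
  have h2 : algebraMap R (Localization.Away a) (φ m) =
      algebraMap R (Localization.Away a) (c' j * t) := by
    rw [hm, map_sum, map_sum]
    simp only [map_smul, smul_eq_mul, map_mul, key]
    rw [Finset.sum_eq_single j]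
    · rw [if_pos rfl]
    · intro i _ hij
      rw [if_neg hij, map_zero, mul_zero]
    · intro h; exact absurd (Finset.mem_univ j) h
  rw [IsLocalization.eq_iff_exists (Submonoid.powers a)] at h2
  obtain ⟨k, hk⟩ := h2
  have h3 : (k : R) * (c' j * t) ∈ x := by
    rw [← hk]; exact x.mul_mem_left _ (hN φ)
  have hpow : ∀ y : Submonoid.powers a, (y : R) ∉ x := by
    rintro ⟨_, n, rfl⟩ hy
    exact ha (hprime.mem_of_pow_mem n hy)
  rcases hprime.mem_or_mem h3 with h4 | h4
  · exact absurd h4 (hpow k)
  · rcases hprime.mem_or_mem h4 with h5 | h5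
    · rw [← hc' j]; exact Ideal.Quotient.eq_zero_iff_mem.mpr h5
    · exact absurd h5 (hpow t)

/-- the evaluation map. -/
def Theta (r : ℕ) (s : Fin r → M) : (M →ₗ[R] R) →ₗ[R] (Fin r → R ⧸ x) where
  toFun φ := fun j => Ideal.Quotient.mk x (φ (s j))
  map_add' φ ψ := by ext j; simp
  map_smul' c φ := by
    ext j
    simp only [LinearMap.smul_apply, smul_eq_mul, map_mul, RingHom.id_apply, Pi.smul_apply]
    rw [Algebra.smul_def]; rfl

def E' (r : ℕ) (s : Fin r → M) : Submodule (R ⧸ x) (Fin r → R ⧸ x) where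
  carrier := Set.range (Theta R M x r s)
  add_mem' := by
    rintro _ _ ⟨a, rfl⟩ ⟨b, rfl⟩
    exact ⟨a + b, map_add _ _ _⟩
  zero_mem' := ⟨0, map_zero _⟩
  smul_mem' := by
    rintro c _ ⟨a, rfl⟩
    obtain ⟨c', rfl⟩ := Ideal.Quotient.mk_surjective c
    refine ⟨c' • a, ?_⟩
    rw [map_smul]
    ext j
    rw [Pi.smul_apply, Pi.smul_apply, Algebra.smul_def]; rfl

theorem dir2 (r : ℕ) (s : Fin r → M)
    (h : LinearIndependent (R ⧸ x)
      (fun i => (Bx R M x).mkQ ((x • ⊤ : Submodule R M).mkQ (s i)))) :
    ∃ φ : Fin r → (M →ₗ[R] R), ∀ i j,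
      Ideal.Quotient.mk x (φ i (s j)) = if i = j then 1 else 0 := by
  classical
  by_cases hE : E' R M x r s = ⊤
  · have : ∀ i, (Pi.single i 1 : Fin r → R ⧸ x) ∈ E' R M x r s := by
      intro i; rw [hE]; trivial
    choose φ hφ using this
    refine ⟨φ, fun i j => ?_⟩
    have := congrFun (hφ i) j
    simp only [Theta, LinearMap.coe_mk, AddHom.coe_mk] at this
    rw [this, Pi.single_apply]
    simp only [eq_comm]
  · exfalso
    have hE' : E' R M x r s < ⊤ := Ne.lt_top hE
    obtain ⟨f, hf0, hf⟩ := @Submodule.exists_le_ker_of_lt_top (R ⧸ x) (Fin r → R ⧸ x)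
      (Ideal.Quotient.field x).toDivisionRing _ _ (E' R M x r s) hE'
    rw [Fintype.linearIndependent_iff] at h
    choose c' hc' using fun i => Ideal.Quotient.mk_surjective (f (Pi.single i 1))
    have hsingle : ∀ i : Fin r, (fun j => if i = j then (1 : R ⧸ x) else 0) = Pi.single i 1 := by
      intro i; ext j; rw [Pi.single_apply]; simp only [eq_comm]
    have hN : (∑ i, c' i • s i) ∈ N R M x := by
      intro φ
      rw [← Ideal.Quotient.eq_zero_iff_mem, map_sum, map_sum]
      have h1 : Theta R M x r s φ ∈ E' R M x r s := ⟨φ, rfl⟩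
      have h2 := hf h1
      rw [LinearMap.mem_ker, LinearMap.pi_apply_eq_sum_univ] at h2
      rw [← h2]
      refine Finset.sum_congr rfl fun i _ => ?_
      rw [map_smul, smul_eq_mul, map_mul, hc', smul_eq_mul, mul_comm, hsingle]
      rfl
    have h3 := mkQ_mem_Bx_of_mem_N R M x _ hN
    have h4 := sum_smul_eq R M x r s c'
    have h3' : (Bx R M x).mkQ ((x • ⊤ : Submodule R M).mkQ (∑ i, c' i • s i)) = 0 := by
      rw [Submodule.mkQ_apply (Bx R M x)]
      exact (Submodule.Quotient.mk_eq_zero _).mpr h3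
    rw [h3'] at h4
    have h5 := h (fun i => Ideal.Quotient.mk x (c' i)) h4
    apply hf0
    apply LinearMap.pi_ext
    intro i c
    have : (Pi.single i c : Fin r → R ⧸ x) = c • Pi.single i 1 := by
      rw [← Pi.single_smul, smul_eq_mul, mul_one]
    rw [this, map_smul, ← hc', h5 i, smul_zero, LinearMap.zero_apply]

open Matrix in
theorem dir2'' (r : ℕ) (s : Fin r → M) (φ : Fin r → (M →ₗ[R] R)) (a : R)
    (hunit : IsUnit ((Matrix.of fun i j => φ i (s j) : Matrix (Fin r) (Fin r) R).map
      (algebraMap R (Localization.Away a))).det) :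
      ∃ g : LocalizedModule (Submonoid.powers a) M →ₗ[Localization.Away a]
          (Fin r → Localization.Away a),
        g ∘ₗ Fintype.linearCombination (Localization.Away a)
            (fun i => LocalizedModule.mkLinearMap (Submonoid.powers a) M (s i)) =
          LinearMap.id := by
  classical
  let A := Localization.Away a
  let ΦA : Matrix (Fin r) (Fin r) A :=
    (Matrix.of fun i j => φ i (s j) : Matrix (Fin r) (Fin r) R).map (algebraMap R A)
  let ψ : Fin r → (LocalizedModule (Submonoid.powers a) M →ₗ[A] A) := fun i =>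
    (IsLocalizedModule.map (Submonoid.powers a)
      (LocalizedModule.mkLinearMap (Submonoid.powers a) M)
      (Algebra.linearMap R A) (φ i)).extendScalarsOfIsLocalization (Submonoid.powers a) A
  have hψ : ∀ i m, ψ i (LocalizedModule.mkLinearMap (Submonoid.powers a) M m) =
      algebraMap R A (φ i m) := by
    intro i m
    simp only [ψ, LinearMap.extendScalarsOfIsLocalization_apply']
    rw [IsLocalizedModule.map_apply]
    rfl
  refine ⟨(ΦA⁻¹).mulVecLin ∘ₗ LinearMap.pi ψ, ?_⟩
  apply LinearMap.pi_ext'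
  intro j
  apply LinearMap.ext_ring
  simp only [LinearMap.coe_comp, Function.comp_apply, LinearMap.coe_single,
    Fintype.linearCombination_apply_single, one_smul, LinearMap.id_coe, id_eq,
    Matrix.mulVecLin_apply]
  have h1 : (LinearMap.pi ψ) (LocalizedModule.mkLinearMap (Submonoid.powers a) M (s j)) =
      ΦA *ᵥ Pi.single j 1 := by
    ext i
    rw [LinearMap.pi_apply, hψ, Matrix.mulVec_single_one]
    rfl
  rw [h1, Matrix.mulVec_mulVec, Matrix.nonsing_inv_mul _ hunit, Matrix.one_mulVec]

theorem dir2' (r : ℕ) (s : Fin r → M) (φ : Fin r → (M →ₗ[R] R))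
    (hφ : ∀ i j, Ideal.Quotient.mk x (φ i (s j)) = if i = j then 1 else 0) :
    ∃ f : R, f ∉ x ∧
      ∃ g : LocalizedModule (Submonoid.powers f) M →ₗ[Localization.Away f]
          (Fin r → Localization.Away f),
        g ∘ₗ Fintype.linearCombination (Localization.Away f)
            (fun i => LocalizedModule.mkLinearMap (Submonoid.powers f) M (s i)) =
          LinearMap.id := by
  classical
  let Φ : Matrix (Fin r) (Fin r) R := Matrix.of fun i j => φ i (s j)
  have hdet : Ideal.Quotient.mk x Φ.det = 1 := by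
    rw [RingHom.map_det]
    have : (Ideal.Quotient.mk x).mapMatrix Φ = 1 := by
      ext i j
      simp only [RingHom.mapMatrix_apply, Matrix.map_apply, Φ, Matrix.of_apply, hφ,
        Matrix.one_apply]
    rw [this, Matrix.det_one]
  have hprime : x.IsPrime := Ideal.IsMaximal.isPrime inferInstance
  have hfx : Φ.det ∉ x := by
    intro hmem
    rw [← Ideal.Quotient.eq_zero_iff_mem, hdet] at hmem
    have : Nontrivial (R ⧸ x) := Ideal.Quotient.nontrivial_iff.mpr hprime.ne_top
    exact one_ne_zero hmem
  refine ⟨Φ.det, hfx, dir2'' R M r s φ Φ.det ?_⟩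
  have : (Φ.map (algebraMap R (Localization.Away Φ.det))).det =
      algebraMap R (Localization.Away Φ.det) Φ.det := by
    rw [RingHom.map_det]; rfl
  rw [this]
  exact IsLocalization.map_units (Localization.Away Φ.det)
    (⟨Φ.det, Submonoid.mem_powers Φ.det⟩ : Submonoid.powers Φ.det)

end
/-- Let R be a ring, M a finitely presented R-module and x a maximal ideal of R with residue field κ(x);
write M(x) = M/xM and let B(x) ⊆ M(x) be the orthogonal of the image of Hom_R(M, R) in the dual of
M(x), i.e. the classes of those m in M with φ(m) in x for every linear form φ on M, and V(x) =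
M(x)/B(x). For s_1, ..., s_r in M the following are equivalent: (1) there is f in R, f not in x,
such that the map R_f^r → M_f given by the s_i is the inclusion of a direct summand; (2) the images
of s_1, ..., s_r in V(x) are linearly independent over κ(x). -/
theorem result (R : Type u) [CommRing R] (M : Type u)
    [AddCommGroup M] [Module R M] [Module.FinitePresentation R M] (x : Ideal R) [x.IsMaximal]
    (r : ℕ) (s : Fin r → M) :
    let Mx := M ⧸ (x • ⊤ : Submodule R M)
    let Bx : Submodule (R ⧸ x) Mx :=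
      Submodule.span (R ⧸ x) ((x • ⊤ : Submodule R M).mkQ '' {m : M | ∀ φ : M →ₗ[R] R, φ m ∈ x})
    (∃ f : R, f ∉ x ∧
      ∃ g : LocalizedModule (Submonoid.powers f) M →ₗ[Localization.Away f] (Fin r → Localization.Away f),
        g ∘ₗ Fintype.linearCombination (Localization.Away f)
            (fun i => LocalizedModule.mkLinearMap (Submonoid.powers f) M (s i)) = LinearMap.id) ↔
    LinearIndependent (R ⧸ x) (fun i => Bx.mkQ ((x • ⊤ : Submodule R M).mkQ (s i))) := by
  intro Mx Bx
  constructor
  · rintro ⟨f, hf, g, hg⟩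
    exact dir1 R M x r s f hf g hg
  · intro h
    obtain ⟨φ, hφ⟩ := dir2 R M x r s h
    exact dir2' R M x r s φ hφ

end Groth.Agent.S7147
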