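import Groth.Statements.S7150
import Groth.Agent.S9455
import Groth.Agent.Lib.Helper13.SepDiff4

set_option autoImplicit false
set_option linter.style.haveILetI false
universe u
open EtAlg

namespace Groth.Agent.S7150

/-- Suppose p is a prime with p·1 = 0 in the local ring A and some power of the maximal ideal of A is
zero. Then the residue map A → κ_A has a section σ : κ_A → A that is a ring map. If moreover A → A'
is a local homomorphism to another local ring whose maximal ideal has a vanishing power, and the
residue field extension κ_{A'}/κ_A is separable (possibly transcendental, i.e. geometrically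
reduced), then for any such σ there is a section σ' : κ_{A'} → A' compatible with σ. -/
theorem result (p : ℕ) (hp : p.Prime) (A : Type u) [CommRing A]
    [IsLocalRing A] [CharP A p] (hnil : ∃ n : ℕ, IsLocalRing.maximalIdeal A ^ n = ⊥) :
    (∃ σ : IsLocalRing.ResidueField A →+* A, (IsLocalRing.residue A).comp σ = RingHom.id _) ∧
    ∀ (A' : Type u) [CommRing A'] [IsLocalRing A'] [Algebra A A'] [IsLocalHom (algebraMap A A')],
      (∃ n : ℕ, IsLocalRing.maximalIdeal A' ^ n = ⊥) →
      Algebra.IsGeometricallyReduced (IsLocalRing.ResidueField A) (IsLocalRing.ResidueField A') →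
      ∀ σ : IsLocalRing.ResidueField A →+* A, (IsLocalRing.residue A).comp σ = RingHom.id _ →
        ∃ σ' : IsLocalRing.ResidueField A' →+* A', (IsLocalRing.residue A').comp σ' = RingHom.id _ ∧
          σ'.comp (IsLocalRing.ResidueField.map (algebraMap A A')) = (algebraMap A A').comp σ := by
  haveI : Fact p.Prime := ⟨hp⟩
  classical
  letI algZ : Algebra (ZMod p) A := ZMod.algebra A p
  letI algU : Algebra (ULift.{u} (ZMod p)) A :=
    ((algebraMap (ZMod p) A).comp
      (ULift.ringEquiv : ULift.{u} (ZMod p) ≃+* ZMod p).toRingHom).toAlgebra
  have hcharκ : CharP (IsLocalRing.ResidueField A) p := by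
    rw [CharP.charP_iff_prime_eq_zero hp]
    have h0 : ((p : A) : A) = 0 := CharP.cast_eq_zero A p
    have := congrArg (IsLocalRing.residue A) h0
    rw [map_natCast, map_zero] at this
    exact this
  have hfs : Algebra.FormallySmooth (ULift.{u} (ZMod p)) (IsLocalRing.ResidueField A) :=
    Groth.Agent.S9455.formallySmooth_ulift_zmod p (IsLocalRing.ResidueField A)
  constructor
  · obtain ⟨n, hn⟩ := hnil
    have hnilp : IsNilpotent (IsLocalRing.maximalIdeal A) := ⟨n, hn⟩
    let g : IsLocalRing.ResidueField A →ₐ[ULift.{u} (ZMod p)] A ⧸ IsLocalRing.maximalIdeal A :=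
      AlgHom.id _ _
    obtain ⟨f, hf⟩ := Algebra.FormallySmooth.exists_lift (IsLocalRing.maximalIdeal A) hnilp g
    refine ⟨f.toRingHom, ?_⟩
    ext x
    have := congrArg (fun w => w x) hf
    exact this
  · intro A' _ _ _ _ hnil' hgr σ hσ
    obtain ⟨n', hn'⟩ := hnil'
    have hnilp' : IsNilpotent (IsLocalRing.maximalIdeal A') := ⟨n', hn'⟩
    have hfs' : Algebra.FormallySmooth (IsLocalRing.ResidueField A)
        (IsLocalRing.ResidueField A') :=
      Groth.Agent.Lib.Helper13.SepDiff.formallySmooth_iff_isGeometricallyReduced.mpr hgr
    letI algκ : Algebra (IsLocalRing.ResidueField A) A' := ((algebraMap A A').comp σ).toAlgebra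
    let g : IsLocalRing.ResidueField A' →ₐ[IsLocalRing.ResidueField A]
        A' ⧸ IsLocalRing.maximalIdeal A' :=
      { toRingHom := RingHom.id _
        commutes' := by
          intro x
          have hx : x = IsLocalRing.residue A (σ x) := (RingHom.congr_fun hσ x).symm
          change algebraMap (IsLocalRing.ResidueField A) (IsLocalRing.ResidueField A') x
            = Ideal.Quotient.mk _ (algebraMap A A' (σ x))
          conv_lhs => rw [hx]
          rw [IsLocalRing.ResidueField.algebraMap_residue]
          rfl }
    obtain ⟨f, hf⟩ := Algebra.FormallySmooth.exists_lift (IsLocalRing.maximalIdeal A') hnilp' g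
    refine ⟨f.toRingHom, ?_, ?_⟩
    · ext x
      exact congrArg (fun w => w x) hf
    · ext x
      have h1 : IsLocalRing.ResidueField.map (algebraMap A A') x
          = algebraMap (IsLocalRing.ResidueField A) (IsLocalRing.ResidueField A') x := by
        obtain ⟨a, rfl⟩ := IsLocalRing.residue_surjective x
        rw [IsLocalRing.ResidueField.algebraMap_residue, IsLocalRing.ResidueField.map_residue]
      change f (IsLocalRing.ResidueField.map (algebraMap A A') x) = algebraMap A A' (σ x)
      rw [h1, f.commutes]
      rfl

end Groth.Agent.S7150
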