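import Groth.Statements.S7153
import Mathlib.RingTheory.Filtration
-- import your own Groth.Agent.* helpers here

set_option autoImplicit false
universe u
open CAlg

namespace Groth.Agent.S7153

/-- A convenient form of the Artin–Rees lemma. -/
theorem artinRees (A : Type u) [CommRing A] [IsNoetherianRing A] (I : Ideal A)
    (M : Type u) [AddCommGroup M] [Module A M] [Module.Finite A M] (N : Submodule A M) :
    ∃ k : ℕ, ∀ n : ℕ, (I ^ (n + k) • ⊤ : Submodule A M) ⊓ N ≤ I ^ n • N := by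
  obtain ⟨k, hk⟩ := Ideal.exists_pow_inf_eq_pow_smul I N
  refine ⟨k, fun n => ?_⟩
  rw [hk (n + k) (Nat.le_add_left k n), Nat.add_sub_cancel]
  exact Submodule.smul_mono le_rfl inf_le_right

/-- Let A be a Noetherian ring, I an ideal and K → L → M a complex of finite A-modules with maps α, β
and homology H = Ker β / Im α; for n ≥ 0 let H_n be the homology of the induced complex K/IⁿK →
L/IⁿL → M/IⁿM, which is β⁻¹(IⁿM)/(Im α + IⁿL). Then there is c > 0 such that for every n: (i) the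
image of H_(n+c) → H_n is contained in, hence equal to, the image of H → H_n; (ii) the kernel and
the cokernel of H/IⁿH → H_n are annihilated by I^c. Everything is phrased with representatives in L. -/
theorem result (A : Type u) [CommRing A] [IsNoetherianRing A] (I : Ideal A)
    (K L M : Type u) [AddCommGroup K] [Module A K] [Module.Finite A K] [AddCommGroup L] [Module A L]
    [Module.Finite A L] [AddCommGroup M] [Module A M] [Module.Finite A M]
    (α : K →ₗ[A] L) (β : L →ₗ[A] M) (hαβ : β ∘ₗ α = 0) :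
    ∃ c : ℕ, 0 < c ∧ ∀ n : ℕ,
      (∀ y ∈ (I ^ (n + c) • ⊤ : Submodule A M).comap β,
        ∃ z ∈ LinearMap.ker β, y - z ∈ LinearMap.range α ⊔ (I ^ n • ⊤ : Submodule A L)) ∧
      (∀ z ∈ LinearMap.ker β, z ∈ LinearMap.range α ⊔ (I ^ n • ⊤ : Submodule A L) →
        ∀ a ∈ I ^ c, a • z ∈ LinearMap.range α ⊔ I ^ n • LinearMap.ker β) ∧
      (∀ y ∈ (I ^ n • ⊤ : Submodule A M).comap β, ∀ a ∈ I ^ c,
        ∃ z ∈ LinearMap.ker β, a • y - z ∈ LinearMap.range α ⊔ (I ^ n • ⊤ : Submodule A L)) := by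
  obtain ⟨k1, hk1⟩ := artinRees A I M (LinearMap.range β)
  obtain ⟨k2, hk2⟩ := artinRees A I L (LinearMap.ker β)
  have hβα : ∀ k, β (α k) = 0 := fun k => congrArg (fun φ => φ k) hαβ
  -- statement (i) for any `c ≥ k1`
  have key1 : ∀ (c : ℕ), k1 ≤ c → ∀ (n : ℕ) (y : L), β y ∈ (I ^ (n + c) • ⊤ : Submodule A M) →
      ∃ z ∈ LinearMap.ker β, y - z ∈ LinearMap.range α ⊔ (I ^ n • ⊤ : Submodule A L) := by
    intro c hc n y hy
    have h1 : β y ∈ (I ^ (n + k1) • ⊤ : Submodule A M) ⊓ LinearMap.range β :=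
      ⟨Submodule.smul_mono_left (Ideal.pow_le_pow_right (by omega)) hy, ⟨y, rfl⟩⟩
    have h2 := hk1 n h1
    rw [LinearMap.range_eq_map, ← Submodule.map_smul''] at h2
    obtain ⟨y', hy', hyy'⟩ := h2
    refine ⟨y - y', ?_, ?_⟩
    · rw [LinearMap.mem_ker, map_sub, hyy', sub_self]
    · rw [sub_sub_cancel]
      exact Submodule.mem_sup_right hy'
  refine ⟨k1 + k2 + 1, Nat.succ_pos _, fun n => ⟨?_, ?_, ?_⟩⟩
  · intro y hy
    exact key1 _ (by omega) n y hy
  · intro z hz hz' a ha
    obtain ⟨_, ⟨k, rfl⟩, l, hl, rfl⟩ := Submodule.mem_sup.mp hz'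
    have hβl : β l = 0 := by
      have := LinearMap.mem_ker.mp hz
      rwa [map_add, hβα, zero_add] at this
    rw [smul_add, ← map_smul]
    refine Submodule.add_mem_sup ⟨_, rfl⟩ ?_
    rcases le_or_gt k2 n with hn | hn
    · obtain ⟨m, rfl⟩ : ∃ m, n = m + k2 := ⟨n - k2, by omega⟩
      have h1 : l ∈ I ^ m • LinearMap.ker β := hk2 m ⟨hl, hβl⟩
      have ha' : a ∈ I ^ k2 := Ideal.pow_le_pow_right (by omega) ha
      have := Submodule.smul_mem_smul ha' h1
      rwa [← mul_smul, ← pow_add, add_comm] at this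
    · have ha' : a ∈ I ^ n := Ideal.pow_le_pow_right (by omega) ha
      exact Submodule.smul_mem_smul ha' (LinearMap.mem_ker.mpr hβl)
  · intro y hy a ha
    refine key1 (k1 + k2 + 1) (by omega) n (a • y) ?_
    rw [map_smul]
    have := Submodule.smul_mem_smul ha (show β y ∈ (I ^ n • ⊤ : Submodule A M) from hy)
    rwa [← mul_smul, ← pow_add, add_comm] at this

end Groth.Agent.S7153
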