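import Groth.Statements.S7155
import Groth.Agent.S7157
import Groth.Agent.Lib.Helper10.TotRamDVR
import Groth.Agent.Lib.Helper10.AS1
import Groth.Agent.Lib.Helper10.AS2
import Groth.Agent.Lib.Helper10.AS3
import Groth.Agent.Lib.Helper10.AS5b
import Groth.Agent.Lib.Helper10.AS8

set_option autoImplicit false
set_option linter.style.haveILetI false
universe u
open EtAlg

namespace Groth.Agent.S7155

/-- Let A → B → C be injective local homomorphisms of discrete valuation rings whose fields of fractions
are K ⊆ L ⊆ M, where A → B is weakly unramified, K has characteristic p, M/L is Galois of degree p,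
and κ_A, inside κ_B, is exactly the set of elements admitting a pⁿ-th root for every n. Then some
finite separable extension K₁/K that is totally ramified with respect to A is a weak solution for A
→ C. (The published statement asks for K₁/K Galois; this row asks only that K₁/K be separable, which
is what the printed construction provides.) -/
theorem result (p : ℕ) (hp : p.Prime) (A B C K L M : Type u)
    [CommRing A] [IsDomain A] [IsDiscreteValuationRing A] [CommRing B] [IsDomain B] [IsDiscreteValuationRing B]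
    [CommRing C] [IsDomain C] [IsDiscreteValuationRing C]
    [Algebra A B] [Algebra B C] [Algebra A C] [IsScalarTower A B C]
    (hAB : Function.Injective (algebraMap A B)) (hBC : Function.Injective (algebraMap B C))
    [IsLocalHom (algebraMap A B)] [IsLocalHom (algebraMap B C)]
    [Field K] [Field L] [Field M] [Algebra A K] [IsFractionRing A K] [Algebra B L] [IsFractionRing B L]
    [Algebra C M] [IsFractionRing C M] [Algebra K L] [Algebra L M] [Algebra K M] [IsScalarTower K L M]
    [Algebra A L] [IsScalarTower A K L] [IsScalarTower A B L] [Algebra B M] [IsScalarTower B L M] [IsScalarTower B C M]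
    [Algebra A M] [IsScalarTower A K M] [IsScalarTower A C M]
    (hw : EtRam.IsWeaklyUnramified A B) [CharP K p] [IsGalois L M] (hdeg : Module.finrank L M = p)
    (hk : ∀ x : IsLocalRing.ResidueField B, (∀ n : ℕ, ∃ y : IsLocalRing.ResidueField B, y ^ (p ^ n) = x) ↔
      x ∈ Set.range (algebraMap (IsLocalRing.ResidueField A) (IsLocalRing.ResidueField B))) :
    ∃ (K₁ : Type u) (_ : Field K₁) (_ : Algebra K K₁), FiniteDimensional K K₁ ∧ Algebra.IsSeparable K K₁ ∧
      EtRam.IsTotallyRamified A ((algebraMap K K₁).comp (algebraMap A K)) ∧ EtRam.IsWeakSolution C K M K₁ := by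
  classical
  haveI : Fact p.Prime := ⟨hp⟩
  haveI charL : CharP L p := charP_of_injective_algebraMap (algebraMap K L).injective p
  haveI charA : CharP A p :=
    (RingHom.charP_iff (algebraMap A K) (IsFractionRing.injective A K) p).mpr inferInstance
  haveI charB : CharP B p :=
    (RingHom.charP_iff (algebraMap B L) (IsFractionRing.injective B L) p).mpr inferInstance
  obtain ⟨z, ξ, hz, hzgen⟩ := Groth.Agent.Lib.Helper10.AS1.exists_gen p hdeg
  obtain ⟨π, hπA⟩ := IsDiscreteValuationRing.exists_irreducible A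
  have hπ : IsLocalRing.maximalIdeal A = Ideal.span {π} := hπA.maximalIdeal_eq
  have hπB : Irreducible (algebraMap A B π) := by
    rw [IsDiscreteValuationRing.irreducible_iff_uniformizer]
    have hw' : (IsLocalRing.maximalIdeal A).map (algebraMap A B) = IsLocalRing.maximalIdeal B := hw
    rw [← hw', hπ, Ideal.map_span, Set.image_singleton]
  have hϖ0 : algebraMap A L π ≠ 0 := by
    rw [IsScalarTower.algebraMap_apply A B L]
    intro h
    exact hπB.ne_zero (IsFractionRing.injective B L (by rw [h, map_zero]))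
  -- pole bound
  obtain ⟨n, a, hna⟩ : ∃ n : ℕ, ∃ a : B, ξ * (algebraMap A L π) ^ n = algebraMap B L a := by
    obtain ⟨b₁, b₂, hb₂, rfl⟩ := IsFractionRing.div_surjective (A := B) ξ
    have hb₂0 : b₂ ≠ 0 := nonZeroDivisors.ne_zero hb₂
    obtain ⟨n, u, hu⟩ := IsDiscreteValuationRing.eq_unit_mul_pow_irreducible hb₂0 hπB
    refine ⟨n, b₁ * ((u⁻¹ : Bˣ) : B), ?_⟩
    have h1 : algebraMap B L (u : B) * algebraMap B L ((u⁻¹ : Bˣ) : B) = 1 := by
      rw [← map_mul, Units.mul_inv, map_one]
    have hu0 : algebraMap B L (u : B) ≠ 0 := left_ne_zero_of_mul_eq_one h1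
    rw [hu, map_mul, map_mul, map_pow, ← IsScalarTower.algebraMap_apply A B L,
      div_mul_eq_mul_div, div_eq_iff (mul_ne_zero hu0 (pow_ne_zero n hϖ0))]
    linear_combination (-(algebraMap B L b₁ * (algebraMap A L π) ^ n)) * h1
  obtain ⟨l, η, b, J, c, s, hξ, ⟨a₀, hη⟩, hη', hJ⟩ :=
    Groth.Agent.Lib.Helper10.AS2.nf (K := K) p π hπA hπB hk n ξ ⟨a, hna⟩
  rcases J.eq_empty_or_nonempty with hJe | hJne
  · have hξ' : ξ = (l ^ p - l) + algebraMap K L η + algebraMap B L b := by
      rw [hξ, hJe, Finset.sum_empty, add_zero]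
    rcases hη' with hη0 | ⟨n', u, hn', hpn, hu, hηu⟩
    · -- `K₁ = K`
      have ht : EtRam.IsTotallyRamified A ((algebraMap K K).comp (algebraMap A K)) := by
        have e : ((algebraMap K K).comp (algebraMap A K)) =
            (algebraMap A K).comp (algebraMap A A) := RingHom.ext fun a => rfl
        rw [e]
        exact Groth.Agent.Lib.Helper10.TotRamDVR.isTotallyRamified_of_dvr A A K
          Function.injective_id (fun x => IsLocalRing.residue_surjective x)
      refine ⟨K, inferInstance, Algebra.id K, inferInstance, inferInstance, ht, ?_⟩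
      exact Groth.Agent.Lib.Helper10.AS8.weakSolution_A p hp A B C K L M hAB hBC hw z hzgen ξ hz
        l η b hξ' K ht 0 (by rw [hη0, map_zero, zero_pow hp.ne_zero, sub_zero])
    · obtain ⟨K₁, fK₁, aK₁, hfin, hsep, ht, w, hwη⟩ :=
        Groth.Agent.Lib.Helper10.AS5b.exists_totRam p A K π hπA n' hn' hpn u hu η hηu
      exact ⟨K₁, fK₁, aK₁, hfin, hsep, ht,
        Groth.Agent.Lib.Helper10.AS8.weakSolution_A p hp A B C K L M hAB hBC hw z hzgen ξ hz
          l η b hξ' K₁ ht w hwη⟩
  · -- `J ≠ ∅`
    set r : ℕ := n + 1 + ∑ j ∈ J, s j with hrdef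
    have hr : ∀ j ∈ J, s j < r ∧ n < j * p ^ (r - s j) := by
      intro j hj
      have h1 : s j ≤ ∑ j ∈ J, s j := Finset.single_le_sum (fun _ _ => Nat.zero_le _) hj
      refine ⟨by omega, ?_⟩
      have h2 : n + 1 ≤ r - s j := by omega
      have h3 : n < p ^ (n + 1) :=
        (Nat.lt_succ_self n).trans (Nat.lt_pow_self hp.one_lt)
      have h4 : p ^ (n + 1) ≤ p ^ (r - s j) := Nat.pow_le_pow_right hp.pos h2
      calc n < p ^ (r - s j) := lt_of_lt_of_le h3 h4
        _ = 1 * p ^ (r - s j) := (one_mul _).symm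
        _ ≤ j * p ^ (r - s j) := Nat.mul_le_mul_right _ (hJ j hj).1
    have hperf : ∀ a : A, ∃ a' a'' : A, a = a' ^ p + π * a'' :=
      fun a => Groth.Agent.Lib.Helper10.AS2.perfectA (B := B) p π hπA hk a
    obtain ⟨y', a', hexp⟩ :=
      Groth.Agent.Lib.Helper10.AS3.expand (K := K) p π hπA.ne_zero hperf r n η ⟨a₀, hη⟩
    haveI charκ : CharP (IsLocalRing.ResidueField A) p := by
      have h0 : ((p : ℕ) : IsLocalRing.ResidueField A) = 0 := by
        rw [← map_natCast (IsLocalRing.residue A), CharP.cast_eq_zero, map_zero]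
      exact (CharP.charP_iff_prime_eq_zero hp).mpr h0
    obtain ⟨K₁, fK₁, aKK₁, aAK₁, tow, hdeg1, hsep, ht, π₁, b₁, b₂, hπ₁int, hb₁, hb₂, e1, e2⟩ :=
      Groth.Agent.S7157.result p hp A K π hπ (n + 2) (by omega) r
    have ht' : EtRam.IsTotallyRamified A ((algebraMap K K₁).comp (algebraMap A K)) := by
      rw [← IsScalarTower.algebraMap_eq A K K₁]; exact ht
    haveI : FiniteDimensional K K₁ :=
      Module.finite_of_finrank_pos (hdeg1 ▸ pow_pos hp.pos r)
    exact ⟨K₁, fK₁, aKK₁, inferInstance, hsep, ht',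
      Groth.Agent.Lib.Helper10.AS8.weakSolution_C p hp A B C K L M hAB hBC hw z hzgen ξ hz π hπA
        n l η b J c s hξ hJ hJne r hr y' a' hexp K₁ hdeg1 ht' π₁ b₁ b₂ hπ₁int hb₁ hb₂ e1 e2⟩

end Groth.Agent.S7155
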