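import Groth.Statements.S7156
import Groth.Agent.S7157
import Groth.Agent.S1984
import Groth.Agent.Lib.Helper10.PIns1
import Groth.Agent.Lib.Helper10.PIns2
import Groth.Agent.Lib.Helper10.PIns3
import Groth.Agent.Lib.Helper10.PIns4
import Groth.Agent.Lib.Helper10.PIns5

set_option autoImplicit false
set_option linter.style.haveILetI false
universe u
open EtAlg

namespace Groth.Agent.S7156

open TensorProduct in
/-- Let A → B → C be injective local homomorphisms of discrete valuation rings whose fields of fractions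
are K ⊆ L ⊆ M, and let π be a uniformizer of A; suppose B is a Nagata ring, A → B is weakly
unramified, and M/L is purely inseparable of prime degree p. Then one of the following holds: the
extension A → C is itself weakly unramified; or else C = B[π^(1/p)]; or else there is a separable
degree-p extension K₁/K, totally ramified with respect to A, for which L ⊗_K K₁ and M ⊗_K K₁ are
fields and the integral closures A₁ → B₁ → C₁ are weakly unramified extensions, i.e. K₁ is a weak
solution for A ⊆ B and for A ⊆ C. -/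
theorem result (p : ℕ) (hp : p.Prime) (A B C K L M : Type u)
    [CommRing A] [IsDomain A] [IsDiscreteValuationRing A] [CommRing B] [IsDomain B] [IsDiscreteValuationRing B]
    [CommRing C] [IsDomain C] [IsDiscreteValuationRing C]
    [Algebra A B] [Algebra B C] [Algebra A C] [IsScalarTower A B C]
    (hAB : Function.Injective (algebraMap A B)) (hBC : Function.Injective (algebraMap B C))
    [IsLocalHom (algebraMap A B)] [IsLocalHom (algebraMap B C)]
    [Field K] [Field L] [Field M] [Algebra A K] [IsFractionRing A K] [Algebra B L] [IsFractionRing B L]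
    [Algebra C M] [IsFractionRing C M] [Algebra K L] [Algebra L M] [Algebra K M] [IsScalarTower K L M]
    [Algebra A L] [IsScalarTower A K L] [IsScalarTower A B L] [Algebra B M] [IsScalarTower B L M] [IsScalarTower B C M]
    [Algebra A M] [IsScalarTower A K M] [IsScalarTower A C M]
    (π : A) (hπ : IsLocalRing.maximalIdeal A = Ideal.span {π}) (hB : CAlg.IsNagata B)
    (hw : EtRam.IsWeaklyUnramified A B) [IsPurelyInseparable L M] (hdeg : Module.finrank L M = p) :
    EtRam.IsWeaklyUnramified A C ∨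
      (∃ c : C, c ^ p = algebraMap A C π ∧ Algebra.adjoin B {c} = ⊤) ∨
      ∃ (K₁ : Type u) (_ : Field K₁) (_ : Algebra K K₁),
        Module.finrank K K₁ = p ∧ Algebra.IsSeparable K K₁ ∧
          EtRam.IsTotallyRamified A ((algebraMap K K₁).comp (algebraMap A K)) ∧
          IsField (L ⊗[K] K₁) ∧ IsField (M ⊗[K] K₁) ∧
          EtRam.IsWeakSolution B K L K₁ ∧ EtRam.IsWeakSolution C K M K₁ := by
  classical
  open Groth.Agent.Lib.Helper10 IsLocalRing in
  haveI : FiniteDimensional L M := Module.finite_of_finrank_pos (hdeg ▸ hp.pos)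
  have hπA : Irreducible π := (IsDiscreteValuationRing.irreducible_iff_uniformizer π).mpr hπ
  have hπB : Irreducible (algebraMap A B π) := by
    rw [IsDiscreteValuationRing.irreducible_iff_uniformizer]
    have hw' : (IsLocalRing.maximalIdeal A).map (algebraMap A B) = IsLocalRing.maximalIdeal B := hw
    rw [← hw', hπ, Ideal.map_span, Set.image_singleton]
  obtain ⟨ϖ, hϖ⟩ := IsDiscreteValuationRing.exists_irreducible C
  rcases Groth.Agent.Lib.Helper10.PIns1.ram_dichotomy (B := B) (C := C) (L := L) (M := M) p hp hdeg hBC hπB hϖ with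
    ⟨w, hw1⟩ | ⟨u, hu, hϖp⟩
  · -- weakly unramified
    left
    show (IsLocalRing.maximalIdeal A).map (algebraMap A C) = IsLocalRing.maximalIdeal C
    rw [hπ, Ideal.map_span, Set.image_singleton, hϖ.maximalIdeal_eq,
      IsScalarTower.algebraMap_apply A B C, hw1]
    exact Ideal.span_singleton_eq_span_singleton.mpr ⟨w⁻¹, by rw [mul_comm, ← mul_assoc]; simp⟩
  right
  rcases Groth.Agent.Lib.Helper10.PIns2.dichotomy (algebraMap A B π) hπB p u with ⟨m, s, b, hub, hb⟩ | happrox
  swap
  · -- `C = B[π^{1/p}]`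
    left
    obtain ⟨c, hc⟩ := Groth.Agent.Lib.Helper10.PIns3.exists_root p hp B C L M hBC hdeg hB _ hπB ϖ u hu hϖp happrox
    refine ⟨c, ?_, Groth.Agent.Lib.Helper10.PIns4.adjoin_eq_top p hp B C L M hBC hdeg hB _ hπB c hc⟩
    rw [hc, ← IsScalarTower.algebraMap_apply A B C]
  · right
    haveI charL : CharP L p := Groth.Agent.Lib.Helper10.PIns1.charP p hp hdeg
    haveI charK : CharP K p :=
      (RingHom.charP_iff (algebraMap K L) (algebraMap K L).injective p).mpr charL
    haveI charA : CharP A p :=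
      (RingHom.charP_iff (algebraMap A K) (IsFractionRing.injective A K) p).mpr charK
    haveI charκ : CharP (IsLocalRing.ResidueField A) p := by
      have h0 : ((p : ℕ) : IsLocalRing.ResidueField A) = 0 := by
        have : ((p : ℕ) : A) = 0 := CharP.cast_eq_zero A p
        rw [← map_natCast (IsLocalRing.residue A), this, map_zero]
      have hdvd : ringChar (IsLocalRing.ResidueField A) ∣ p :=
        (CharP.cast_eq_zero_iff (IsLocalRing.ResidueField A)
          (ringChar (IsLocalRing.ResidueField A)) p).mp h0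
      rcases (Nat.dvd_prime hp).mp hdvd with h1 | h1
      · exact absurd h1 (CharP.ringChar_ne_one)
      · exact h1 ▸ ringChar.charP _
    obtain ⟨K₁, fK₁, aKK₁, aAK₁, tow, hdeg1, hsep, ht, π', b₁, b₂, hπ'int, hb₁, hb₂, e1, e2⟩ :=
      Groth.Agent.S7157.result p hp A K π hπ (m + 2) (by omega) 1
    rw [pow_one] at hdeg1 e1 e2
    have ht' : EtRam.IsTotallyRamified A ((algebraMap K K₁).comp (algebraMap A K)) := by
      rw [← IsScalarTower.algebraMap_eq A K K₁]; exact ht
    haveI : FiniteDimensional K K₁ := Module.finite_of_finrank_pos (hdeg1 ▸ hp.pos)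
    obtain ⟨hfieldL, hsolB⟩ := Groth.Agent.S1984.result A B K L hAB hw K₁ ht'
    refine ⟨K₁, fK₁, aKK₁, hdeg1, hsep, ht', hfieldL, ?_, hsolB, ?_⟩
    · -- field part
      have hrankT : Module.finrank M (M ⊗[K] K₁) = Module.finrank K K₁ := Module.finrank_baseChange
      haveI : Nontrivial (M ⊗[K] K₁) :=
        Module.nontrivial_of_finrank_pos (R := M) (by rw [hrankT, hdeg1]; exact hp.pos)
      obtain ⟨𝔪, h𝔪⟩ := Ideal.exists_maximal (M ⊗[K] K₁)
      letI fM : Field ((M ⊗[K] K₁) ⧸ 𝔪) := Ideal.Quotient.field 𝔪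
      letI algK₁M : Algebra K₁ ((M ⊗[K] K₁) ⧸ 𝔪) :=
        ((Ideal.Quotient.mk 𝔪).comp
          (Algebra.TensorProduct.includeRight : K₁ →ₐ[K] M ⊗[K] K₁).toRingHom).toAlgebra
      have hK₁M : ∀ k : K₁, algebraMap K₁ ((M ⊗[K] K₁) ⧸ 𝔪) k = Ideal.Quotient.mk 𝔪 (1 ⊗ₜ k) :=
        fun k => rfl
      have hLM : ∀ l : M, algebraMap M ((M ⊗[K] K₁) ⧸ 𝔪) l = Ideal.Quotient.mk 𝔪 (l ⊗ₜ 1) :=
        fun l => rfl
      haveI : IsScalarTower K K₁ ((M ⊗[K] K₁) ⧸ 𝔪) := by
        refine IsScalarTower.of_algebraMap_eq (fun k => ?_)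
        rw [hK₁M, IsScalarTower.algebraMap_apply K M ((M ⊗[K] K₁) ⧸ 𝔪), hLM]
        congr 1
        rw [Algebra.algebraMap_eq_smul_one, Algebra.algebraMap_eq_smul_one, TensorProduct.smul_tmul]
      have hM' : Algebra.adjoin M (Set.range (algebraMap K₁ ((M ⊗[K] K₁) ⧸ 𝔪))) = ⊤ := by
        rw [eq_top_iff]
        rintro x -
        obtain ⟨t, rfl⟩ := Ideal.Quotient.mk_surjective x
        induction t using TensorProduct.induction_on with
        | zero => rw [map_zero]; exact Subalgebra.zero_mem _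
        | tmul l k =>
          have h1 : (l ⊗ₜ[K] k : M ⊗[K] K₁) = (l ⊗ₜ 1) * (1 ⊗ₜ k) := by
            rw [Algebra.TensorProduct.tmul_mul_tmul, mul_one, one_mul]
          rw [h1, map_mul, ← hLM, ← hK₁M]
          exact Subalgebra.mul_mem _ (Subalgebra.algebraMap_mem _ _)
            (Algebra.subset_adjoin ⟨k, rfl⟩)
        | add x y hx hy => rw [map_add]; exact Subalgebra.add_mem _ hx hy
      obtain ⟨W, hW1, hW2⟩ := Groth.Agent.Lib.Helper39.KA.exists_valuationSubring_dominating
        ((algebraMap M ((M ⊗[K] K₁) ⧸ 𝔪)).comp (algebraMap C M))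
      have hW : EtRam.Dominates C ((algebraMap M ((M ⊗[K] K₁) ⧸ 𝔪)).comp (algebraMap C M)) W :=
        ⟨hW1, fun b hb => (ValuationSubring.mem_nonunits_iff W).mp (hW2 b hb)⟩
      have hdim := (Groth.Agent.Lib.Helper10.PIns5.core p hp A B C K L M hAB hBC π hπ hw hdeg ϖ hϖ
        u hu hϖp m s b hub hb K₁ hdeg1 ht' π' b₁ b₂ hπ'int hb₁ hb₂ e1 e2
        ((M ⊗[K] K₁) ⧸ 𝔪) hM' W hW).2
      haveI finLT : Module.Finite M (M ⊗[K] K₁) := inferInstance
      have hsurj : Function.Surjective (Ideal.Quotient.mkₐ M 𝔪).toLinearMap :=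
        Ideal.Quotient.mk_surjective
      haveI finLM : FiniteDimensional M ((M ⊗[K] K₁) ⧸ 𝔪) :=
        Module.Finite.of_surjective (Ideal.Quotient.mkₐ M 𝔪).toLinearMap hsurj
      have hinjm : Function.Injective (Ideal.Quotient.mkₐ M 𝔪).toLinearMap :=
        (LinearMap.injective_iff_surjective_of_finrank_eq_finrank
          (by rw [hrankT, hdim, hdeg1])).mpr hsurj
      have hm0 : 𝔪 = ⊥ := by
        rw [eq_bot_iff]
        intro x hx
        have h1 : Ideal.Quotient.mk 𝔪 x = 0 := Ideal.Quotient.eq_zero_iff_mem.mpr hx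
        have h2 : (Ideal.Quotient.mkₐ M 𝔪).toLinearMap x =
            (Ideal.Quotient.mkₐ M 𝔪).toLinearMap 0 := by
          rw [map_zero]; exact h1
        exact hinjm h2
      rw [Ring.isField_iff_maximal_bot, ← hm0]
      exact h𝔪
    · intro M' _ _ _ _ _ _ hM' W hW
      exact (Groth.Agent.Lib.Helper10.PIns5.core p hp A B C K L M hAB hBC π hπ hw hdeg ϖ hϖ
        u hu hϖp m s b hub hb K₁ hdeg1 ht' π' b₁ b₂ hπ'int hb₁ hb₂ e1 e2 M' hM' W hW).1

end Groth.Agent.S7156
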