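import Groth.Statements.S7162
import Groth.Agent.Lib.Helper10.SHAssemble
import Groth.Agent.Lib.Helper10.SHSep
import Groth.Agent.Lib.Helper37.Hz11
import Groth.Agent.Lib.Helper37.Hz22
import Groth.Agent.Lib.Helper37.Hz56

set_option linter.style.haveILetI false

set_option autoImplicit false
universe u
open EtAlg Groth.Agent.Lib.Helper37.Hz Groth.Agent.Lib.Helper10

namespace Groth.Agent.S7162

/-- Let A → B be an injective local homomorphism of discrete valuation rings whose fields of fractions
are K ⊆ L. There is a commutative square of such extensions A ⊆ A', B ⊆ B', A' ⊆ B' (with fraction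
fields K', L') such that (1) K'/K and L'/L are separable algebraic, (2) the residue field of A' is a
separable algebraic closure of that of A, and likewise for B' over B, and (3) whenever A' ⊆ B'
admits a solution (respectively a separable solution), so does A ⊆ B. (The published statement
asserts (3) for weak solutions as well; that clause is left out here: a weak solution for A' ⊆ B'
descends to a finite extension of K but controls only those local extensions attached to embeddings
compatible with K ⊆ K', and weak solutions, unlike solutions, are not preserved under passing to a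
normal closure; the clause can fail when the residue field of A is not separably closed in that of
B.) -/
theorem result (A B K L : Type u) [CommRing A] [IsDomain A]
    [IsDiscreteValuationRing A] [CommRing B] [IsDomain B] [IsDiscreteValuationRing B] [Algebra A B]
    (hinj : Function.Injective (algebraMap A B)) [IsLocalHom (algebraMap A B)]
    [Field K] [Field L] [Algebra A K] [IsFractionRing A K] [Algebra B L] [IsFractionRing B L]
    [Algebra K L] [Algebra A L] [IsScalarTower A K L] [IsScalarTower A B L] :
    ∃ (A' B' K' L' : Type u) (_ : CommRing A') (_ : IsDomain A') (_ : IsDiscreteValuationRing A')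
      (_ : CommRing B') (_ : IsDomain B') (_ : IsDiscreteValuationRing B') (_ : Field K') (_ : Field L')
      (_ : Algebra A A') (_ : Algebra B B') (_ : Algebra A' B') (_ : Algebra A B')
      (_ : IsScalarTower A B B') (_ : IsScalarTower A A' B')
      (_ : Algebra A' K') (_ : IsFractionRing A' K') (_ : Algebra B' L') (_ : IsFractionRing B' L')
      (_ : Algebra K' L') (_ : Algebra A' L') (_ : IsScalarTower A' K' L') (_ : IsScalarTower A' B' L')
      (_ : Algebra K K') (_ : Algebra A K') (_ : IsScalarTower A K K') (_ : IsScalarTower A A' K')
      (_ : Algebra L L') (_ : Algebra B L') (_ : IsScalarTower B L L') (_ : IsScalarTower B B' L')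
      (hA : IsLocalHom (algebraMap A A')) (hB : IsLocalHom (algebraMap B B')) (_ : IsLocalHom (algebraMap A' B')),
      Function.Injective (algebraMap A A') ∧ Function.Injective (algebraMap B B') ∧
      Function.Injective (algebraMap A' B') ∧
      Algebra.IsSeparable K K' ∧ Algebra.IsSeparable L L' ∧
      (letI := (IsLocalRing.ResidueField.map (algebraMap A A')).toAlgebra
       IsSepClosure (IsLocalRing.ResidueField A) (IsLocalRing.ResidueField A')) ∧
      (letI := (IsLocalRing.ResidueField.map (algebraMap B B')).toAlgebra
       IsSepClosure (IsLocalRing.ResidueField B) (IsLocalRing.ResidueField B')) ∧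
      ((∃ (K₁ : Type u) (_ : Field K₁) (_ : Algebra K' K₁), FiniteDimensional K' K₁ ∧ EtRam.IsSolution B' K' L' K₁) →
        ∃ (K₁ : Type u) (_ : Field K₁) (_ : Algebra K K₁), FiniteDimensional K K₁ ∧ EtRam.IsSolution B K L K₁) ∧
      ((∃ (K₁ : Type u) (_ : Field K₁) (_ : Algebra K' K₁), FiniteDimensional K' K₁ ∧ Algebra.IsSeparable K' K₁ ∧
          EtRam.IsSolution B' K' L' K₁) →
        ∃ (K₁ : Type u) (_ : Field K₁) (_ : Algebra K K₁), FiniteDimensional K K₁ ∧ Algebra.IsSeparable K K₁ ∧
          EtRam.IsSolution B K L K₁) := by
  classical
  have shA : Hensel.IsStrictHenselization A (SHens A) := inferInstance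
  have shB : Hensel.IsStrictHenselization B (SHens B) := inferInstance
  obtain ⟨domA', dvrA'⟩ := (dvr_iff_of_isStrictHenselization A (SHens A)).mp
    ⟨inferInstance, inferInstance⟩
  obtain ⟨domB', dvrB'⟩ := (dvr_iff_of_isStrictHenselization B (SHens B)).mp
    ⟨inferInstance, inferInstance⟩
  haveI ffA : Module.FaithfullyFlat A (SHens A) := faithfullyFlat_of_isStrictHenselization A (SHens A)
  haveI ffB : Module.FaithfullyFlat B (SHens B) := faithfullyFlat_of_isStrictHenselization B (SHens B)
  have hA : Function.Injective (algebraMap A (SHens A)) := FaithfulSMul.algebraMap_injective A (SHens A)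
  have hB : Function.Injective (algebraMap B (SHens B)) := FaithfulSMul.algebraMap_injective B (SHens B)
  haveI hensB : HenselianLocalRing (SHens B) := shB.henselian
  haveI scB : IsSepClosed (IsLocalRing.ResidueField (SHens B)) := (shB.isSepClosure).sep_closed
  obtain ⟨g, hg, hgloc⟩ := Compare.exists_map_of_isStrictHenselization A B (SHens A) (SHens B)
  have hwA : EtRam.IsWeaklyUnramified A (SHens A) :=
    map_maximalIdeal_of_isStrictHenselization A (SHens A)
  haveI := hgloc
  have hginj : Function.Injective g := by
    rw [injective_iff_map_eq_zero]
    by_contra hne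
    push_neg at hne
    obtain ⟨x, hx0, hxne⟩ := hne
    have hker : RingHom.ker g ≠ ⊥ := by
      intro h
      apply hxne
      have : x ∈ RingHom.ker g := hx0
      rw [h] at this
      exact this
    have hprime : (RingHom.ker g).IsPrime := RingHom.ker_isPrime g
    have hmax : (RingHom.ker g).IsMaximal := hprime.isMaximal hker
    have heq : RingHom.ker g = IsLocalRing.maximalIdeal (SHens A) :=
      IsLocalRing.eq_maximalIdeal hmax
    obtain ⟨π, hπ⟩ := IsDiscreteValuationRing.exists_irreducible A
    have hπm : π ∈ IsLocalRing.maximalIdeal A := hπ.not_isUnit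
    have h1 : algebraMap A (SHens A) π ∈ IsLocalRing.maximalIdeal (SHens A) :=
      map_nonunit (algebraMap A (SHens A)) π hπm
    rw [← heq, RingHom.mem_ker] at h1
    have h2 : algebraMap B (SHens B) (algebraMap A B π) = 0 := by
      have := RingHom.congr_fun hg π
      simp only [RingHom.comp_apply] at this
      rw [← this]
      exact h1
    exact hπ.ne_zero (hinj (by rw [map_zero]; exact hB (by rw [map_zero]; exact h2)))
  have hsA : (letI := (IsLocalRing.ResidueField.map (algebraMap A (SHens A))).toAlgebra
      IsSepClosure (IsLocalRing.ResidueField A) (IsLocalRing.ResidueField (SHens A))) := by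
    have hinst : (IsLocalRing.ResidueField.map (algebraMap A (SHens A))).toAlgebra =
        (inferInstance : Algebra (IsLocalRing.ResidueField A)
          (IsLocalRing.ResidueField (SHens A))) := by
      apply Algebra.algebra_ext
      intro r
      obtain ⟨a, rfl⟩ := IsLocalRing.residue_surjective r
      rfl
    rw [hinst]
    exact shA.isSepClosure
  have hsB : (letI := (IsLocalRing.ResidueField.map (algebraMap B (SHens B))).toAlgebra
      IsSepClosure (IsLocalRing.ResidueField B) (IsLocalRing.ResidueField (SHens B))) := by
    have hinst : (IsLocalRing.ResidueField.map (algebraMap B (SHens B))).toAlgebra =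
        (inferInstance : Algebra (IsLocalRing.ResidueField B)
          (IsLocalRing.ResidueField (SHens B))) := by
      apply Algebra.algebra_ext
      intro r
      obtain ⟨a, rfl⟩ := IsLocalRing.residue_surjective r
      rfl
    rw [hinst]
    exact shB.isSepClosure
  exact SHAssemble.assemble A B K L hinj (SHens A) (SHens B) hA hB g hg hginj hwA hsA hsB
    (fun K' _ _ _ _ _ _ _ => SHSep.isSeparable_fractionField A (SepCl A) K K')
    (fun L' _ _ _ _ _ _ _ => SHSep.isSeparable_fractionField B (SepCl B) L L')

end Groth.Agent.S7162
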