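import Groth.Statements.S7168
-- import your own Groth.Agent.* helpers here
import Mathlib
import Groth.Agent.S6935
import Groth.Agent.Lib.Helper12.DRingPCAbove

set_option autoImplicit false
universe u
attribute [local instance] HasDerivedCategory.standard
open FlatMor

namespace Groth.Agent.S7168

/-- A pseudo-coherent ring map is of finite presentation. -/
lemma finitePresentation_of_isPseudoCoherentHom (A B : Type u) [CommRing A] [CommRing B]
    [Algebra A B] (h : MoreMor.IsPseudoCoherentHom A B) : Algebra.FinitePresentation A B := by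
  obtain ⟨n, φ, hφ, hpc⟩ := h
  let _ : Algebra (MvPolynomial (Fin n) A) B := φ.toRingHom.toAlgebra
  have hpc' : DRing.IsPseudoCoherentModule' (MvPolynomial (Fin n) A) B := hpc
  have h1 : DRing.IsPseudoCoherentModule (MvPolynomial (Fin n) A) (-1) B :=
    Groth.Agent.Lib.Helper12.isPseudoCoherent_of_isPseudoCoherent' hpc' (-1)
  have hfp : Module.FinitePresentation (MvPolynomial (Fin n) A) B :=
    (Groth.Agent.S6935.result (MvPolynomial (Fin n) A) B).2.mp h1
  -- the kernel is finitely generated
  let l : MvPolynomial (Fin n) A →ₗ[MvPolynomial (Fin n) A] B :=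
    (Algebra.linearMap (MvPolynomial (Fin n) A) B)
  have hl : Function.Surjective l := fun b => by
    obtain ⟨p, hp⟩ := hφ b
    exact ⟨p, hp⟩
  have hker : (LinearMap.ker l).FG := Module.FinitePresentation.fg_ker l hl
  have hker' : (RingHom.ker φ.toRingHom).FG := by
    have : (RingHom.ker φ.toRingHom : Ideal (MvPolynomial (Fin n) A)) = LinearMap.ker l := by
      ext x
      rfl
    rw [this]
    exact hker
  exact Algebra.FinitePresentation.of_surjective hφ hker'

open AlgebraicGeometry CategoryTheory Limits in
/-- A pseudo-coherent morphism of schemes is locally of finite presentation. -/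
theorem result {X S : Scheme.{u}} (f : X ⟶ S) (hf : MoreMor.IsPseudoCoherentMor f) :
    LocallyOfFinitePresentation f := by
  rw [HasRingHomProperty.iff_appLE (P := @LocallyOfFinitePresentation)]
  intro U V e
  have h := hf V.1 U.1 V.2 U.2 e
  let _ : Algebra Γ(S, U.1) Γ(X, V.1) := (f.appLE U.1 V.1 e).hom.toAlgebra
  have h2 : Algebra.FinitePresentation Γ(S, U.1) Γ(X, V.1) :=
    finitePresentation_of_isPseudoCoherentHom _ _ h
  exact h2

end Groth.Agent.S7168
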