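import Groth.Statements.S7177
import Groth.Agent.Lib.Helper98.DiagFlat

set_option autoImplicit false
universe u
open FlatMor

namespace Groth.Agent.S7177

open AlgebraicGeometry CategoryTheory Limits in
/-- Let f : X → Y have flat diagonal and let F be an O_X-module flat over Y. Then F is flat as an
O_X-module. -/
theorem result {X Y : Scheme.{u}} (f : X ⟶ Y) [Flat (pullback.diagonal f)] (F : X.Modules)
    (hF : FlatMod.IsFlatOver f F) : FlatMod.IsFlat F := by
  intro x
  have h := hF x
  unfold FlatMod.IsFlatOverAt at h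
  unfold FlatMod.IsFlatAt
  let _ : Algebra ↑(Y.presheaf.stalk (f.base x)) ↑(X.presheaf.stalk x) :=
    (f.stalkMap x).hom.toAlgebra
  let _ : Module ↑(Y.presheaf.stalk (f.base x)) ↑(F.presheaf.stalk x) :=
    FlatMod.moduleStalkOver f F x
  have : IsScalarTower ↑(Y.presheaf.stalk (f.base x)) ↑(X.presheaf.stalk x)
      ↑(F.presheaf.stalk x) := IsScalarTower.of_algebraMap_smul (fun r m => rfl)
  have hdf := Groth.Agent.Lib.Helper98.DiagFlat.df_stalkMap f x
  have : Module.Flat ↑(Y.presheaf.stalk (f.base x)) ↑(F.presheaf.stalk x) := h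
  exact Groth.Agent.Lib.Helper4.FlatDiag.flat_of_flat_of_flat_lmul' _ _ hdf _

end Groth.Agent.S7177
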