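import Groth.Statements.S7178
import Mathlib
import Groth.Agent.Lib.Helper81.LocImm
-- import your own Groth.Agent.* helpers here

set_option autoImplicit false
universe u
open FlatMor

namespace Groth.Agent.S7178
open AlgebraicGeometry CategoryTheory Limits TopologicalSpace


open TensorProduct in
lemma core {A B : CommRingCat.{u}} (φ : A ⟶ B) :
    WeaklyEtale (Spec.map φ) ↔ (letI := φ.hom.toAlgebra; Algebra.WeaklyEtale A B) := by
  algebraize [φ.hom]
  have hφ : φ = CommRingCat.ofHom (algebraMap A B) := rfl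
  rw [weaklyEtale_iff, Algebra.weaklyEtale_iff, hφ, diagonal_SpecMap,
    MorphismProperty.cancel_right_of_respectsIso (P := @Flat),
    HasRingHomProperty.Spec_iff (P := @Flat), HasRingHomProperty.Spec_iff (P := @Flat)]
  rfl

open Groth.Agent.Lib.Helper81.LocImm in

open AlgebraicGeometry CategoryTheory Limits in
/-- (1) ⇔ (2): f : X → S is weakly étale if and only if, whenever U ⊆ X and V ⊆ S are affine opens and f
maps U into V, the ring O_X(U) is a weakly étale O_S(V)-algebra (flat, with flat multiplication map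
O_X(U) ⊗ O_X(U) → O_X(U) over O_S(V)). -/
theorem result {X S : Scheme.{u}} (f : X ⟶ S) :
    WeaklyEtale f ↔ ∀ (U : X.Opens) (V : S.Opens) (_ : IsAffineOpen U) (_ : IsAffineOpen V) (hUV : U ≤ f ⁻¹ᵁ V),
      (letI := (f.appLE V U hUV).hom.toAlgebra
       Algebra.WeaklyEtale Γ(S, V) Γ(X, U)) := by
  constructor
  · intro h U V hU hV hUV
    rw [← core]
    have e := IsAffineOpen.SpecMap_appLE_fromSpec f hV hU hUV
    haveI : WeaklyEtale (Spec.map (f.appLE V U hUV) ≫ hV.fromSpec) := by
      rw [e]; infer_instance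
    exact WeaklyEtale.of_comp (Spec.map (f.appLE V U hUV)) hV.fromSpec
  · intro h
    apply IsZariskiLocalAtSource.of_iSup_eq_top (P := @WeaklyEtale)
      (fun p : {p : X.Opens × S.Opens // IsAffineOpen p.1 ∧ IsAffineOpen p.2 ∧ p.1 ≤ f ⁻¹ᵁ p.2} => p.1.1)
    · rw [eq_top_iff]
      intro x _
      obtain ⟨U, V, hUV, hU, hV, hx⟩ := exists_affine_pair f x
      exact Opens.mem_iSup.mpr ⟨⟨(U, V), hU, hV, hUV⟩, hx⟩
    · rintro ⟨⟨U, V⟩, hU, hV, hUV⟩
      have e := IsAffineOpen.SpecMap_appLE_fromSpec f hV hU hUV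
      have h1 : U.ι = hU.isoSpec.hom ≫ hU.fromSpec := by
        rw [IsAffineOpen.fromSpec, Iso.hom_inv_id_assoc]
      show WeaklyEtale (U.ι ≫ f)
      rw [h1, Category.assoc, ← e]
      haveI : WeaklyEtale (Spec.map (f.appLE V U hUV)) := (core _).mpr (h U V hU hV hUV)
      infer_instance

end Groth.Agent.S7178
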