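import Groth.Statements.S7185
import Groth.Agent.Lib.Helper70.Weighting

set_option autoImplicit false
universe u
open FlatMor

namespace Groth.Agent.S7185

open AlgebraicGeometry CategoryTheory Limits in
/-- The restriction of a weighting of a locally quasi-finite morphism f : X → Y (locally of finite type
with discrete fibres) to an open subscheme X' of X is a weighting of X' → Y. -/
theorem result {X Y : Scheme.{u}} (f : X ⟶ Y) [LocallyQuasiFinite f] [LocallyOfFiniteType f] (w : X → ℤ)
    (hw : MoreMor.IsWeighting f w) (X' : X.Opens) : MoreMor.IsWeighting (X'.ι ≫ f) (fun x => w (X'.ι x)) := by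
  let k : X'.toScheme ⟶ Limits.pullback f (𝟙 Y) :=
    Limits.pullback.lift X'.ι (X'.ι ≫ f) (by simp)
  have hk1 : k ≫ Limits.pullback.fst f (𝟙 Y) = X'.ι := Limits.pullback.lift_fst _ _ _
  have hk2 : k ≫ Limits.pullback.snd f (𝟙 Y) = X'.ι ≫ f := Limits.pullback.lift_snd _ _ _
  haveI : IsOpenImmersion (k ≫ Limits.pullback.fst f (𝟙 Y)) := by rw [hk1]; infer_instance
  haveI : IsOpenImmersion k := IsOpenImmersion.of_comp k (Limits.pullback.fst f (𝟙 Y))
  have h := Groth.Agent.Lib.Helper70.Weighting.isWeighting_transfer f w hw (𝟙 Y) (X'.ι ≫ f) k hk2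
  convert h using 2
  rename_i x
  change w ((X'.ι) x) = w ((k ≫ Limits.pullback.fst f (𝟙 Y)) x)
  rw [hk1]

end Groth.Agent.S7185
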