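import Groth.Statements.S7198
-- import your own Groth.Agent.* helpers here
import Mathlib
import Groth.Agent.Lib.Helper67.EtaleFiniteFlat
import Groth.Agent.S1390

set_option autoImplicit false
universe w u
open FlatMor

namespace Groth.Agent.S7198

open AlgebraicGeometry CategoryTheory Limits



open AlgebraicGeometry CategoryTheory Limits in
/-- Any fppf covering {S_i → S} is refined by a family built in four steps — cover S by Zariski opens
U_j; over each U_j take a surjective finite locally free W_j → U_j; cover each W_j by Zariski opens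
W_{j,k}; over each of those take a surjective finite locally free T_{j,k} → W_{j,k} — where every
composite T_{j,k} → S factors through some S_i. Stated pointwise: around every point of S, and then
around every point of the finite locally free cover, such data exist. -/
theorem result {S : Scheme.{u}} (E : PreZeroHypercover.{w} S)
    (hflat : ∀ i, Flat (E.f i)) (hfp : ∀ i, LocallyOfFinitePresentation (E.f i))
    (hsurj : ∀ s : S, ∃ (i : E.I₀) (x : E.X i), E.f i x = s) (s : S) :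
    ∃ (U : S.Opens) (W : Scheme.{u}) (π : W ⟶ U.toScheme), s ∈ U ∧ Mor2.IsFinLocFree π ∧ Surjective π ∧
      ∀ w : W, ∃ (W' : W.Opens) (T : Scheme.{u}) (ρ : T ⟶ W'.toScheme) (i : E.I₀) (r : T ⟶ E.X i),
        w ∈ W' ∧ Mor2.IsFinLocFree ρ ∧ Surjective ρ ∧ r ≫ E.f i = ρ ≫ W'.ι ≫ π ≫ U.ι := by
  obtain ⟨i, x, hx⟩ := hsurj s
  haveI := hflat i
  haveI := hfp i
  obtain ⟨U₀, V₀, e, u, π₀, r₀, het, heu, -, hfin₀, hfl₀, hlfp₀, hsurj₀, hr₀⟩ :=
    Groth.Agent.Lib.Helper67.EtaleFiniteFlat.exists_etale_finite_flat (E.f i) s ⟨x, hx⟩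
  obtain ⟨V, T, π, hsV, -, hπsurj, hπfin, hπfl, hπlfp, hloc⟩ := Groth.Agent.S1390.result e u s heu
  -- the good locus of T
  let G : Set T := {t | ∃ (W : T.Opens) (h : (W : Scheme.{u}) ⟶ U₀), t ∈ W ∧ h ≫ e = W.ι ≫ π ≫ V.ι}
  have hGopen : IsOpen G := by
    rw [isOpen_iff_forall_mem_open]
    rintro t ⟨W, h, htW, hh⟩
    exact ⟨W, fun t' ht' => ⟨W, h, ht', hh⟩, W.2, htW⟩
  have hCclosed : IsClosed (π '' Gᶜ) := π.isClosedMap _ hGopen.isClosed_compl
  let V' : V.toScheme.Opens := ⟨(π '' Gᶜ)ᶜ, hCclosed.isOpen_compl⟩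
  have hsV' : (⟨s, hsV⟩ : V.toScheme) ∈ V' := by
    rintro ⟨t, htG, ht⟩
    apply htG
    have hts : V.ι (π t) = s := by rw [ht]; rfl
    obtain ⟨W, h, htW, hh, -⟩ := hloc t hts
    exact ⟨W, h, htW, hh⟩
  let U : S.Opens := V.ι ''ᵁ V'
  have hUV : U ≤ V := by
    rintro _ ⟨y, -, rfl⟩
    exact y.2
  have hsU : s ∈ U := ⟨⟨s, hsV⟩, hsV', rfl⟩
  have hgood : ∀ t : T, V.ι (π t) ∈ U → t ∈ G := by
    rintro t ⟨y, hy, hyt⟩
    by_contra htG
    apply hy
    refine ⟨t, htG, ?_⟩
    exact (V.ι.isOpenEmbedding.injective hyt).symm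
  let ι' : (U : Scheme.{u}) ⟶ V := S.homOfLE hUV
  have hι' : ι' ≫ V.ι = U.ι := S.homOfLE_ι hUV
  refine ⟨U, pullback π ι', pullback.snd π ι', hsU, ⟨inferInstance, inferInstance, inferInstance⟩,
    inferInstance, ?_⟩
  intro w
  have hw : pullback.fst π ι' w ∈ G := by
    apply hgood
    rw [← Scheme.Hom.comp_apply, ← Scheme.Hom.comp_apply, pullback.condition_assoc,
      hι', Scheme.Hom.comp_apply]
    exact (pullback.snd π ι' w).2
  obtain ⟨Wt, h, htW, hh⟩ := hw
  let W' : (pullback π ι').Opens := pullback.fst π ι' ⁻¹ᵁ Wt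
  let h' : (W' : Scheme.{u}) ⟶ U₀ := (pullback.fst π ι' ∣_ Wt) ≫ h
  refine ⟨W', pullback h' π₀, pullback.fst h' π₀, i, pullback.snd h' π₀ ≫ r₀, htW,
    ⟨inferInstance, inferInstance, inferInstance⟩, inferInstance, ?_⟩
  rw [Category.assoc, hr₀, ← pullback.condition_assoc]
  simp only [h', Category.assoc]
  rw [hh, morphismRestrict_ι_assoc, pullback.condition_assoc, hι']

end Groth.Agent.S7198
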