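import Groth.Statements.S7204
-- import your own Groth.Agent.* helpers here

set_option autoImplicit false
universe w u
open FlatMor

namespace Groth.Agent.S7204

open AlgebraicGeometry CategoryTheory Limits in
/-- Let (X_i)_{i ∈ I} be a diagram of schemes and (W, X_i → W) a cocone under it. If there is an fpqc
covering {W_a → W} such that each W_a is the colimit (in schemes) of the base-changed diagram (X_i
×_W W_a), and each W_a ×_W W_b is the colimit of (X_i ×_W W_a ×_W W_b), then W is the colimit of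
(X_i) in the category of schemes. -/
theorem result {J : Type u} [SmallCategory J] (D : J ⥤ Scheme.{u}) (c : Cocone D)
    (F : PreZeroHypercover.{w} c.pt) (hF : F.presieve₀ ∈ Scheme.fpqcPrecoverage c.pt)
    (h1 : ∀ a : F.I₀, Nonempty (IsColimit ((Over.forgetCocone (F.X a)).whisker
      (D.toOver c.pt (fun j => c.ι.app j) (fun g => c.w g) ⋙ Over.pullback (F.f a)))))
    (h2 : ∀ a b : F.I₀, Nonempty (IsColimit ((Over.forgetCocone (pullback (F.f a) (F.f b))).whisker
      (D.toOver c.pt (fun j => c.ι.app j) (fun g => c.w g) ⋙ Over.pullback (pullback.fst (F.f a) (F.f b) ≫ F.f a))))) :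
    Nonempty (IsColimit c) := by
  have hmem : Sieve.generate F.presieve₀ ∈ Scheme.fpqcTopology c.pt :=
    Precoverage.generate_mem_toGrothendieck hF
  have L : ∀ {X Y Z W T : Scheme.{u}} (f : X ⟶ Z) (g : Y ⟶ Z) (q : W ⟶ Z) (p : W ⟶ Y)
      (hq : q = p ≫ g) (ga : Y ⟶ T) (sj : X ⟶ T),
      pullback.snd f g ≫ ga = pullback.fst f g ≫ sj →
      pullback.snd f q ≫ p ≫ ga = pullback.fst f q ≫ sj := by
    intro X Y Z W T f g q p hq ga sj h
    subst hq
    have e : pullback.lift (pullback.fst f (p ≫ g)) (pullback.snd f (p ≫ g) ≫ p)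
        (by rw [Category.assoc]; exact pullback.condition) ≫ pullback.snd f g =
        pullback.snd f (p ≫ g) ≫ p := pullback.lift_snd _ _ _
    rw [← Category.assoc, ← e, Category.assoc, h, pullback.lift_fst_assoc]
  have key1 : ∀ (s : Cocone D) (a : F.I₀), ∃ g : F.X a ⟶ s.pt,
      ∀ j, pullback.snd (c.ι.app j) (F.f a) ≫ g = pullback.fst (c.ι.app j) (F.f a) ≫ s.ι.app j := by
    intro s a
    obtain ⟨hC⟩ := h1 a
    let t : Cocone ((D.toOver c.pt (fun j => c.ι.app j) (fun g => c.w g) ⋙
        Over.pullback (F.f a)) ⋙ Over.forget (F.X a)) :=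
      { pt := s.pt
        ι :=
          { app := fun j => pullback.fst (c.ι.app j) (F.f a) ≫ s.ι.app j
            naturality := fun j j' g => by
              have e : ((D.toOver c.pt (fun j => c.ι.app j) (fun g => c.w g) ⋙
                  Over.pullback (F.f a)).map g).left ≫ pullback.fst (c.ι.app j') (F.f a) =
                  pullback.fst (c.ι.app j) (F.f a) ≫ D.map g := pullback.lift_fst _ _ _
              change ((D.toOver c.pt (fun j => c.ι.app j) (fun g => c.w g) ⋙
                  Over.pullback (F.f a)).map g).left ≫ pullback.fst (c.ι.app j') (F.f a) ≫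
                    s.ι.app j' = (pullback.fst (c.ι.app j) (F.f a) ≫ s.ι.app j) ≫ 𝟙 _
              rw [Category.comp_id, ← s.w g]
              exact (Category.assoc _ _ _).symm.trans
                ((congrArg (· ≫ s.ι.app j') e).trans (Category.assoc _ _ _)) } }
    exact ⟨hC.desc t, fun j => hC.fac t j⟩
  have key2 : ∀ (s : Cocone D) (a b : F.I₀) (ga : F.X a ⟶ s.pt) (gb : F.X b ⟶ s.pt),
      (∀ j, pullback.snd (c.ι.app j) (F.f a) ≫ ga = pullback.fst (c.ι.app j) (F.f a) ≫ s.ι.app j) →
      (∀ j, pullback.snd (c.ι.app j) (F.f b) ≫ gb = pullback.fst (c.ι.app j) (F.f b) ≫ s.ι.app j) →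
      pullback.fst (F.f a) (F.f b) ≫ ga = pullback.snd (F.f a) (F.f b) ≫ gb := by
    intro s a b ga gb hga hgb
    obtain ⟨hC⟩ := h2 a b
    apply hC.hom_ext
    intro j
    change pullback.snd (c.ι.app j) (pullback.fst (F.f a) (F.f b) ≫ F.f a) ≫
        pullback.fst (F.f a) (F.f b) ≫ ga =
      pullback.snd (c.ι.app j) (pullback.fst (F.f a) (F.f b) ≫ F.f a) ≫
        pullback.snd (F.f a) (F.f b) ≫ gb
    rw [L (c.ι.app j) (F.f a) _ (pullback.fst (F.f a) (F.f b)) rfl ga (s.ι.app j) (hga j),
      L (c.ι.app j) (F.f b) _ (pullback.snd (F.f a) (F.f b)) pullback.condition gb (s.ι.app j)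
        (hgb j)]
  refine ⟨IsColimit.ofExistsUnique fun s => ?_⟩
  choose ga hga using key1 s
  have hZ : Presieve.IsSheaf Scheme.fpqcTopology (yoneda.obj s.pt) :=
    GrothendieckTopology.Subcanonical.isSheaf_of_isRepresentable _
  have hsf : Presieve.IsSheafFor (yoneda.obj s.pt) (Presieve.ofArrows F.X F.f) :=
    (Presieve.isSheafFor_iff_generate (P := yoneda.obj s.pt) F.presieve₀).mpr (hZ _ hmem)
  rw [Presieve.isSheafFor_arrows_iff] at hsf
  have hcompat : Presieve.Arrows.Compatible (yoneda.obj s.pt) F.f ga := by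
    intro a b Z' ka kb hk
    change ka ≫ ga a = kb ≫ ga b
    have h12 := key2 s a b (ga a) (ga b) (hga a) (hga b)
    calc ka ≫ ga a = pullback.lift ka kb hk ≫ pullback.fst (F.f a) (F.f b) ≫ ga a := by
          rw [pullback.lift_fst_assoc]
      _ = pullback.lift ka kb hk ≫ pullback.snd (F.f a) (F.f b) ≫ ga b := by rw [h12]
      _ = kb ≫ ga b := by rw [pullback.lift_snd_assoc]
  obtain ⟨g, hg, hguniq⟩ := hsf ga hcompat
  have hg' : ∀ a, F.f a ≫ g = ga a := hg
  refine ⟨g, fun j => ?_, fun m hm => hguniq m fun a => ?_⟩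
  · have hmem' := Scheme.fpqcTopology.pullback_stable (c.ι.app j) hmem
    have hsep := (hZ _ hmem').isSeparatedFor
    refine hsep.ext (t₁ := (c.ι.app j ≫ g : D.obj j ⟶ s.pt)) (t₂ := s.ι.app j) ?_
    intro Y f hf
    obtain ⟨Y', h, g', hg'', hcomp⟩ := hf
    obtain ⟨a⟩ := hg''
    change f ≫ c.ι.app j ≫ g = f ≫ s.ι.app j
    calc f ≫ c.ι.app j ≫ g = h ≫ F.f a ≫ g := by
          rw [← Category.assoc, ← hcomp, Category.assoc]
      _ = h ≫ ga a := by rw [hg' a]
      _ = pullback.lift f h hcomp.symm ≫ pullback.snd (c.ι.app j) (F.f a) ≫ ga a := by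
          rw [pullback.lift_snd_assoc]
      _ = pullback.lift f h hcomp.symm ≫ pullback.fst (c.ι.app j) (F.f a) ≫ s.ι.app j := by
          rw [hga a j]
      _ = f ≫ s.ι.app j := by rw [pullback.lift_fst_assoc]
  · change F.f a ≫ m = ga a
    obtain ⟨hC⟩ := h1 a
    apply hC.hom_ext
    intro j
    change pullback.snd (c.ι.app j) (F.f a) ≫ F.f a ≫ m = pullback.snd (c.ι.app j) (F.f a) ≫ ga a
    rw [hga a j, ← pullback.condition_assoc, hm j]

end Groth.Agent.S7204
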