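import Groth.Statements.S9162
import Groth.Agent.S9161
import Mathlib.RingTheory.Extension.Cotangent.Basic
import Mathlib.RingTheory.Kaehler.Polynomial
-- import your own Groth.Agent.* helpers here

set_option autoImplicit false
universe u
open CAlg

namespace Groth.Agent.S9162

open KaehlerDifferential

open Algebra Algebra.Extension in
lemma schanuel_ext {R S : Type u} [CommRing R] [CommRing S] [Algebra R S]
    {P₁ P₂ : Extension.{u} R S} (f₁ : P₁.Hom P₂) (f₂ : P₂.Hom P₁) :
    Nonempty ((P₁.Cotangent × P₂.CotangentSpace) ≃ₗ[S] (P₂.Cotangent × P₁.CotangentSpace)) := by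
  refine Groth.Agent.S9161.result S P₁.Cotangent P₁.CotangentSpace P₂.Cotangent P₂.CotangentSpace
    P₁.cotangentComplex P₂.cotangentComplex (Cotangent.map f₁) (CotangentSpace.map f₁)
    (Cotangent.map f₂) (CotangentSpace.map f₂) ?_ ?_
    ((Hom.id P₁).sub (f₂.comp f₁)) ?_ ?_ ((Hom.id P₂).sub (f₁.comp f₂)) ?_ ?_
  · exact (CotangentSpace.map_comp_cotangentComplex f₁).symm
  · exact (CotangentSpace.map_comp_cotangentComplex f₂).symm
  · rw [← Cotangent.map_sub_map, Cotangent.map_id, Cotangent.map_comp]
    rfl
  · refine Eq.trans ?_ (CotangentSpace.map_sub_map _ _)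
    rw [CotangentSpace.map_id, CotangentSpace.map_comp]
    rfl
  · rw [← Cotangent.map_sub_map, Cotangent.map_id, Cotangent.map_comp]
    rfl
  · refine Eq.trans ?_ (CotangentSpace.map_sub_map _ _)
    rw [CotangentSpace.map_id, CotangentSpace.map_comp]
    rfl

/-- Let S be an R-algebra and α : R[x_1, …, x_n] → S, β : R[y_1, …, y_m] → S surjective R-algebra maps
(presentations by polynomial rings in finitely many variables; the kernels I and J need not be
finitely generated). Then I/I² ⊕ S^m and J/J² ⊕ S^n are isomorphic S-modules. -/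
theorem result (R S : Type u) [CommRing R] [CommRing S]
    [Algebra R S] (n m : ℕ) (α : MvPolynomial (Fin n) R →ₐ[R] S) (hα : Function.Surjective α)
    (β : MvPolynomial (Fin m) R →ₐ[R] S) (hβ : Function.Surjective β) :
    Nonempty (((Algebra.Extension.ofSurjective α hα).Cotangent × (Fin m → S)) ≃ₗ[S]
      ((Algebra.Extension.ofSurjective β hβ).Cotangent × (Fin n → S))) := by
  classical
  -- lifts of the generators
  let a : Fin n → MvPolynomial (Fin m) R := fun i => (hβ (α (MvPolynomial.X i))).choose
  have ha : ∀ i, β (a i) = α (MvPolynomial.X i) := fun i => (hβ (α (MvPolynomial.X i))).choose_spec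
  let b : Fin m → MvPolynomial (Fin n) R := fun j => (hα (β (MvPolynomial.X j))).choose
  have hb : ∀ j, α (b j) = β (MvPolynomial.X j) := fun j => (hα (β (MvPolynomial.X j))).choose_spec
  let f₁ : (Algebra.Extension.ofSurjective α hα).Hom (Algebra.Extension.ofSurjective β hβ) :=
    { toRingHom := (MvPolynomial.aeval a : MvPolynomial (Fin n) R →ₐ[R] MvPolynomial (Fin m) R).toRingHom
      toRingHom_algebraMap := fun x =>
        (MvPolynomial.aeval a : MvPolynomial (Fin n) R →ₐ[R] MvPolynomial (Fin m) R).commutes x
      algebraMap_toRingHom := fun x => by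
        have : β.comp (MvPolynomial.aeval a) = α := by
          apply MvPolynomial.algHom_ext
          intro i
          simp [ha]
        exact congrArg (fun g : MvPolynomial (Fin n) R →ₐ[R] S => g x) this }
  let f₂ : (Algebra.Extension.ofSurjective β hβ).Hom (Algebra.Extension.ofSurjective α hα) :=
    { toRingHom := (MvPolynomial.aeval b : MvPolynomial (Fin m) R →ₐ[R] MvPolynomial (Fin n) R).toRingHom
      toRingHom_algebraMap := fun x =>
        (MvPolynomial.aeval b : MvPolynomial (Fin m) R →ₐ[R] MvPolynomial (Fin n) R).commutes x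
      algebraMap_toRingHom := fun x => by
        have : α.comp (MvPolynomial.aeval b) = β := by
          apply MvPolynomial.algHom_ext
          intro j
          simp [hb]
        exact congrArg (fun g : MvPolynomial (Fin m) R →ₐ[R] S => g x) this }
  obtain ⟨e⟩ := schanuel_ext f₁ f₂
  let b₁ : Module.Basis (Fin n) (Algebra.Extension.ofSurjective α hα).Ring
      (Ω[(Algebra.Extension.ofSurjective α hα).Ring⁄R]) :=
    KaehlerDifferential.mvPolynomialBasis R (Fin n)
  let b₂ : Module.Basis (Fin m) (Algebra.Extension.ofSurjective β hβ).Ring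
      (Ω[(Algebra.Extension.ofSurjective β hβ).Ring⁄R]) :=
    KaehlerDifferential.mvPolynomialBasis R (Fin m)
  let e₁ : (Algebra.Extension.ofSurjective α hα).CotangentSpace ≃ₗ[S] (Fin n → S) :=
    (b₁.baseChange S).equivFun
  let e₂ : (Algebra.Extension.ofSurjective β hβ).CotangentSpace ≃ₗ[S] (Fin m → S) :=
    (b₂.baseChange S).equivFun
  exact ⟨((LinearEquiv.refl S _).prodCongr e₂.symm).trans (e.trans ((LinearEquiv.refl S _).prodCongr e₁))⟩

end Groth.Agent.S9162
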