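import Groth.Statements.S7223
import Mathlib
import Groth.Agent.S7221
import Groth.Agent.S9162
import Groth.Agent.Lib.Helper8.NLPerfect
-- import your own Groth.Agent.* helpers here

set_option autoImplicit false
universe u
open CategoryTheory CategoryTheory.Limits TensorProduct
attribute [local instance] HasDerivedCategory.standard
open FlatMor

namespace Groth.Agent.S7223
open Groth.Agent.S7221 Algebra

section comp
variable {R S R' S' : Type u} [CommRing R] [CommRing S] [CommRing R']
    [CommRing S'] [Algebra R S] [Algebra R' S'] [Algebra R R'] [Algebra S S'] [Algebra R S']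
    [IsScalarTower R R' S'] [IsScalarTower R S S']

/-- F1: `bcH1Map` does not depend on the morphism of extensions -/
theorem bcH1Map_eq {P : Extension.{u} R S} {P' : Extension.{u} R' S'} (h₁ h₂ : P.Hom P') :
    NLCx.bcH1Map (S' := S') h₁ = NLCx.bcH1Map (S' := S') h₂ := by
  have key : ∀ y : S' ⊗[S] P.Cotangent,
      LinearMap.liftBaseChange S' (Extension.Cotangent.map h₁) y -
        LinearMap.liftBaseChange S' (Extension.Cotangent.map h₂) y =
      LinearMap.liftBaseChange S' (h₁.sub h₂) (P.cotangentComplex.baseChange S' y) := by
    intro y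
    induction y using TensorProduct.induction_on with
    | zero => simp
    | add a b ha hb =>
      simp only [map_add]
      rw [← ha, ← hb]
      abel
    | tmul a b =>
      rw [LinearMap.baseChange_tmul, LinearMap.liftBaseChange_tmul, LinearMap.liftBaseChange_tmul,
        LinearMap.liftBaseChange_tmul, ← smul_sub]
      congr 1
      have := congrArg (fun f : P.Cotangent →ₗ[S] P'.Cotangent => f b)
        (Extension.Cotangent.map_sub_map h₁ h₂)
      exact this
  refine LinearMap.ext fun x => Subtype.ext ?_
  change LinearMap.liftBaseChange S' (Extension.Cotangent.map h₁) x.1 =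
    LinearMap.liftBaseChange S' (Extension.Cotangent.map h₂) x.1
  have hx : P.cotangentComplex.baseChange S' x.1 = 0 := x.2
  have := key x.1
  rw [hx, map_zero, sub_eq_zero] at this
  exact this

/-- the map on `H^{-1}(NL ⊗ S')` induced by a morphism of extensions of `S` over `R` -/
noncomputable def bc1 {P₁ P₂ : Extension.{u} R S} (g : P₁.Hom P₂) :
    NLCx.bcH1 P₁ S' →ₗ[S'] NLCx.bcH1 P₂ S' :=
  ((Extension.Cotangent.map g).baseChange S').restrict
    (p := NLCx.bcH1 P₁ S') (q := NLCx.bcH1 P₂ S') (fun x hx => by
      simp only [NLCx.bcH1, LinearMap.mem_ker] at hx ⊢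
      have key : P₂.cotangentComplex.baseChange S' ∘ₗ (Extension.Cotangent.map g).baseChange S' =
          (Extension.CotangentSpace.map g).baseChange S' ∘ₗ P₁.cotangentComplex.baseChange S' := by
        rw [← LinearMap.baseChange_comp, ← LinearMap.baseChange_comp]
        congr 1
        exact (Extension.CotangentSpace.map_comp_cotangentComplex g).symm
      have := congrArg (fun f => f x) key
      simp only [LinearMap.coe_comp, Function.comp_apply, hx, map_zero] at this
      exact this)

theorem bc1_val {P₁ P₂ : Extension.{u} R S} (g : P₁.Hom P₂) (x : NLCx.bcH1 P₁ S') :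
    (bc1 (S' := S') g x).1 = (Extension.Cotangent.map g).baseChange S' x.1 := rfl

/-- F2 -/
theorem bcH1Map_comp' {P₁ P₂ : Extension.{u} R S} {P' : Extension.{u} R' S'}
    (g : P₁.Hom P₂) (h : P₂.Hom P') (x : NLCx.bcH1 P₁ S') :
    NLCx.bcH1Map (S' := S') (h.comp g) x = NLCx.bcH1Map (S' := S') h (bc1 g x) := by
  apply Subtype.ext
  change LinearMap.liftBaseChange S' (Extension.Cotangent.map (h.comp g)) x.1 =
    LinearMap.liftBaseChange S' (Extension.Cotangent.map h)
      ((Extension.Cotangent.map g).baseChange S' x.1)
  generalize x.1 = y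
  induction y using TensorProduct.induction_on with
  | zero => simp
  | add a b ha hb => rw [map_add, map_add, map_add, ha, hb]
  | tmul a b =>
    rw [LinearMap.baseChange_tmul, LinearMap.liftBaseChange_tmul, LinearMap.liftBaseChange_tmul,
      Extension.Cotangent.map_comp]
    rfl

/-- F4a -/
theorem bc1_eq {P₁ P₂ : Extension.{u} R S} (g₁ g₂ : P₁.Hom P₂) :
    bc1 (S' := S') g₁ = bc1 (S' := S') g₂ := by
  have key : ∀ y : S' ⊗[S] P₁.Cotangent,
      (Extension.Cotangent.map g₁).baseChange S' y - (Extension.Cotangent.map g₂).baseChange S' y =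
      (g₁.sub g₂).baseChange S' (P₁.cotangentComplex.baseChange S' y) := by
    intro y
    induction y using TensorProduct.induction_on with
    | zero => simp
    | add a b ha hb =>
      simp only [map_add]
      rw [← ha, ← hb]
      abel
    | tmul a b =>
      rw [LinearMap.baseChange_tmul, LinearMap.baseChange_tmul, LinearMap.baseChange_tmul,
        LinearMap.baseChange_tmul, ← tmul_sub]
      congr 1
      have := congrArg (fun f : P₁.Cotangent →ₗ[S] P₂.Cotangent => f b)
        (Extension.Cotangent.map_sub_map g₁ g₂)
      exact this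
  refine LinearMap.ext fun x => Subtype.ext ?_
  rw [bc1_val, bc1_val]
  have hx : P₁.cotangentComplex.baseChange S' x.1 = 0 := x.2
  have := key x.1
  rw [hx, map_zero, sub_eq_zero] at this
  exact this

theorem bc1_id (P : Extension.{u} R S) :
    bc1 (S' := S') (Extension.Hom.id P) = LinearMap.id := by
  refine LinearMap.ext fun x => Subtype.ext ?_
  rw [bc1_val, Extension.Cotangent.map_id, LinearMap.baseChange_id]
  rfl

theorem bc1_comp {P₁ P₂ P₃ : Extension.{u} R S} (g₁ : P₁.Hom P₂) (g₂ : P₂.Hom P₃)
    (x : NLCx.bcH1 P₁ S') :
    bc1 (S' := S') (g₂.comp g₁) x = bc1 g₂ (bc1 g₁ x) := by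
  apply Subtype.ext
  rw [bc1_val, bc1_val, bc1_val, Extension.Cotangent.map_comp]
  generalize x.1 = y
  induction y using TensorProduct.induction_on with
  | zero => simp
  | add a b ha hb => rw [map_add, map_add, map_add, ha, hb]
  | tmul a b =>
    rw [LinearMap.baseChange_tmul, LinearMap.baseChange_tmul, LinearMap.baseChange_tmul]
    rfl

/-- F4: `bc1 u` is an equivalence when there is a morphism back -/
noncomputable def bc1Equiv {P₁ P₂ : Extension.{u} R S} (u : P₁.Hom P₂) (v : P₂.Hom P₁) :
    NLCx.bcH1 P₁ S' ≃ₗ[S'] NLCx.bcH1 P₂ S' :=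
  LinearEquiv.ofLinear (bc1 u) (bc1 v)
    (by
      refine LinearMap.ext fun x => ?_
      change bc1 u (bc1 v x) = x
      rw [← bc1_comp, bc1_eq (u.comp v) (Extension.Hom.id P₂), bc1_id]
      rfl)
    (by
      refine LinearMap.ext fun x => ?_
      change bc1 v (bc1 u x) = x
      rw [← bc1_comp, bc1_eq (v.comp u) (Extension.Hom.id P₁), bc1_id]
      rfl)

theorem bc1_bijective {P₁ P₂ : Extension.{u} R S} (u : P₁.Hom P₂) (v : P₂.Hom P₁) :
    Function.Bijective (bc1 (S' := S') u) :=
  (bc1Equiv (S' := S') u v).bijective

end comp


theorem fp_of_retract {R M N : Type u} [CommRing R] [AddCommGroup M] [Module R M]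
    [AddCommGroup N] [Module R N] [Module.Finite R N] [Module.Projective R N]
    (i : M →ₗ[R] N) (s : N →ₗ[R] M) (hsi : s ∘ₗ i = LinearMap.id) :
    Module.Finite R M ∧ Module.Projective R M := by
  constructor
  · apply Module.Finite.of_surjective s
    intro m
    exact ⟨i m, congrArg (fun f : M →ₗ[R] M => f m) hsi⟩
  · exact Module.Projective.of_split i s hsi

/-- the kernel of a surjection between finite projective modules is finite projective -/
theorem ker_fp {R M N : Type u} [CommRing R] [AddCommGroup M] [Module R M]
    [AddCommGroup N] [Module R N] [Module.Finite R M] [Module.Projective R M]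
    [Module.Projective R N] (L : M →ₗ[R] N) (hL : Function.Surjective L) :
    Module.Finite R (LinearMap.ker L) ∧ Module.Projective R (LinearMap.ker L) := by
  obtain ⟨s, hs⟩ := Module.projective_lifting_property L LinearMap.id hL
  have hs' : ∀ y, L (s y) = y := fun y => congrArg (fun f : N →ₗ[R] N => f y) hs
  let r : M →ₗ[R] LinearMap.ker L := (LinearMap.id - s ∘ₗ L).codRestrict (LinearMap.ker L) (by
    intro x
    simp only [LinearMap.mem_ker, LinearMap.sub_apply, LinearMap.id_coe, id_eq, LinearMap.coe_comp,
      Function.comp_apply, map_sub, hs', sub_self])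
  refine fp_of_retract (LinearMap.ker L).subtype r ?_
  refine LinearMap.ext fun x => Subtype.ext ?_
  change (x : M) - s (L x) = x
  rw [x.2, map_zero, sub_zero]

section A
variable {A B : Type u} [CommRing A] [CommRing B] [Algebra A B]

theorem cotangent_fp_of_koszul (P : Extension.{u} A B) (hK : LCI.IsKoszulRegularIdeal P.ker) :
    Module.Finite B P.Cotangent ∧ Module.Projective B P.Cotangent := by
  have hq := Groth.Agent.Lib.Helper8.NLPerfect.isLocallyQuasiRegular_of_isKoszulRegularIdeal P.ker hK
  haveI : Module.Projective (P.Ring ⧸ P.ker) P.ker.Cotangent :=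
    Groth.Agent.Lib.Helper9.QRegLocalA.projective_of_locallyQuasiRegular P.ker hq
  exact ⟨Extension.Cotangent.finite
    (Groth.Agent.Lib.Helper9.QRegLocalA.fg_of_locallyQuasiRegular P.ker hq),
    Groth.Agent.Lib.Helper8.NLPerfect.projective_cotangent P⟩

theorem fp_transfer {P₁ P₂ : Extension.{u} A B} (f₁ : P₁.Hom P₂) (f₂ : P₂.Hom P₁)
    [Module.Finite B P₂.Cotangent] [Module.Projective B P₂.Cotangent]
    [Module.Finite B P₁.CotangentSpace] [Module.Projective B P₁.CotangentSpace] :
    Module.Finite B P₁.Cotangent ∧ Module.Projective B P₁.Cotangent := by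
  obtain ⟨e⟩ := Groth.Agent.S9162.schanuel_ext f₁ f₂
  refine fp_of_retract (N := P₂.Cotangent × P₁.CotangentSpace)
    (e.toLinearMap ∘ₗ LinearMap.inl B _ _) (LinearMap.fst B _ _ ∘ₗ e.symm.toLinearMap) ?_
  refine LinearMap.ext fun x => ?_
  simp

end A


section homs
variable {A B : Type u} [CommRing A] [CommRing B] [Algebra A B]
  {ι : Type u} (G : Generators A B ι) {n : ℕ} (f : MvPolynomial (Fin n) A →ₐ[A] B)
  (hf : Function.Surjective f)

/-- morphism from a generators-extension to `ofSurjective f` -/
noncomputable def homTo : G.toExtension.Hom (Extension.ofSurjective f hf) where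
  toRingHom := (MvPolynomial.aeval (fun i => (hf (G.val i)).choose) :
    MvPolynomial ι A →ₐ[A] MvPolynomial (Fin n) A).toRingHom
  toRingHom_algebraMap := fun x =>
    (MvPolynomial.aeval (fun i => (hf (G.val i)).choose) :
      MvPolynomial ι A →ₐ[A] MvPolynomial (Fin n) A).commutes x
  algebraMap_toRingHom := fun x => by
    have : f.comp (MvPolynomial.aeval (fun i => (hf (G.val i)).choose)) =
        MvPolynomial.aeval G.val := by
      apply MvPolynomial.algHom_ext
      intro i
      simp [(hf (G.val i)).choose_spec]
    have h2 := DFunLike.congr_fun this x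
    exact h2.trans (Generators.algebraMap_apply G x).symm

/-- morphism from `ofSurjective f` to a generators-extension -/
noncomputable def homFrom : (Extension.ofSurjective f hf).Hom G.toExtension where
  toRingHom := (MvPolynomial.aeval (fun k => G.σ (f (MvPolynomial.X k))) :
    MvPolynomial (Fin n) A →ₐ[A] MvPolynomial ι A).toRingHom
  toRingHom_algebraMap := fun x =>
    (MvPolynomial.aeval (fun k => G.σ (f (MvPolynomial.X k))) :
      MvPolynomial (Fin n) A →ₐ[A] MvPolynomial ι A).commutes x
  algebraMap_toRingHom := fun x => by
    have : (MvPolynomial.aeval G.val : MvPolynomial ι A →ₐ[A] B).comp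
        (MvPolynomial.aeval (fun k => G.σ (f (MvPolynomial.X k)))) = f := by
      apply MvPolynomial.algHom_ext
      intro k
      simp
    have h2 := DFunLike.congr_fun this x
    exact (Generators.algebraMap_apply G _).trans h2

end homs


section bc
variable (A B A' B' : Type u) [CommRing A] [CommRing B] [CommRing A']
    [CommRing B'] [Algebra A B] [Algebra A' B'] [Algebra A A'] [Algebra B B'] [Algebra A B']
    [IsScalarTower A A' B'] [IsScalarTower A B B'] [Algebra.IsPushout A A' B B']

theorem aeval_surj_gen {ι : Type u} (G : Generators A B ι) : Function.Surjective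
    (MvPolynomial.aeval (R := A') (fun i => algebraMap B B' (G.val i))) := by
  intro s'
  have hbc : IsBaseChange A' (IsScalarTower.toAlgHom A B B').toLinearMap :=
    (inferInstance : Algebra.IsPushout A A' B B').out
  refine hbc.inductionOn s'
    (fun s' => ∃ a, (MvPolynomial.aeval (R := A') fun i => algebraMap B B' (G.val i)) a = s')
    ?_ ?_ ?_ ?_
  · exact ⟨0, map_zero _⟩
  · intro b
    refine ⟨MvPolynomial.map (algebraMap A A') (G.σ b), ?_⟩
    rw [MvPolynomial.aeval_map_algebraMap]
    have h1 := MvPolynomial.aeval_algebraMap_apply (R := A) (A := B) (B := B') G.val (G.σ b)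
    rw [G.aeval_val_σ] at h1
    exact h1
  · rintro r' n ⟨p, rfl⟩
    exact ⟨r' • p, by rw [map_smul]⟩
  · rintro n₁ n₂ ⟨p₁, rfl⟩ ⟨p₂, rfl⟩
    exact ⟨p₁ + p₂, map_add _ _ _⟩

/-- base-changed generators -/
noncomputable def Gbc {ι : Type u} (G : Generators A B ι) : Generators A' B' ι :=
  Generators.ofSurjective (fun i => algebraMap B B' (G.val i)) (aeval_surj_gen A B A' B' G)

end bc



section main
variable (A B A' B' : Type u) [CommRing A] [CommRing B] [CommRing A']
    [CommRing B'] [Algebra A B] [Algebra A' B'] [Algebra A A'] [Algebra B B'] [Algebra A B']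
    [IsScalarTower A A' B'] [IsScalarTower A B B'] [Algebra.IsPushout A A' B B']
    {ι : Type u} (G : Generators A B ι) (G' : Generators A' B' ι)
    (h : ∀ i, G'.val i = algebraMap B B' (G.val i))

include h in
theorem hle_lemma : LinearMap.ker (LinearMap.liftBaseChange B' (Extension.Cotangent.map
      (NLCx.sameVarsHom G G' h).toExtensionHom)) ≤ NLCx.bcH1 G.toExtension B' := by
  intro w hw
  have key : G'.toExtension.cotangentComplex ∘ₗ LinearMap.liftBaseChange B' (Extension.Cotangent.map
        (NLCx.sameVarsHom G G' h).toExtensionHom) =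
      LinearMap.liftBaseChange B' (Extension.CotangentSpace.map
        (NLCx.sameVarsHom G G' h).toExtensionHom) ∘ₗ G.toExtension.cotangentComplex.baseChange B' := by
    ext y
    simpa using (Extension.CotangentSpace.map_cotangentComplex
      (NLCx.sameVarsHom G G' h).toExtensionHom y).symm
  apply (cotangentSpace_bij A B A' B' G G' h).1
  rw [map_zero]
  have := congr($key w)
  simp only [LinearMap.coe_comp, Function.comp_apply] at this
  rw [← this]
  rw [LinearMap.mem_ker] at hw
  rw [hw, map_zero]

include h in
theorem M1 [Module.Finite B G.toExtension.Cotangent] [Module.Projective B G.toExtension.Cotangent]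
    [Module.Projective B' G'.toExtension.Cotangent] :
    Module.Finite B' (LinearMap.ker (NLCx.bcH1Map (S' := B') (NLCx.sameVarsHom G G' h).toExtensionHom)) ∧
      Module.Projective B' (LinearMap.ker (NLCx.bcH1Map (S' := B') (NLCx.sameVarsHom G G' h).toExtensionHom)) := by
  have hkerL := ker_fp (LinearMap.liftBaseChange B' (Extension.Cotangent.map
      (NLCx.sameVarsHom G G' h).toExtensionHom)) (cotangent_surj A B A' B' G G' h)
  have hle := hle_lemma A B A' B' G G' h
  have hKf : LinearMap.ker (NLCx.bcH1Map (S' := B') (NLCx.sameVarsHom G G' h).toExtensionHom) =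
      Submodule.comap (NLCx.bcH1 G.toExtension B').subtype (LinearMap.ker (LinearMap.liftBaseChange B'
        (Extension.Cotangent.map (NLCx.sameVarsHom G G' h).toExtensionHom))) := by
    ext x
    rw [LinearMap.mem_ker, Submodule.mem_comap, LinearMap.mem_ker]
    constructor
    · intro hx
      exact congrArg Subtype.val hx
    · intro hx
      exact Subtype.ext hx
  let e : LinearMap.ker (NLCx.bcH1Map (S' := B') (NLCx.sameVarsHom G G' h).toExtensionHom) ≃ₗ[B']
      LinearMap.ker (LinearMap.liftBaseChange B'
        (Extension.Cotangent.map (NLCx.sameVarsHom G G' h).toExtensionHom)) :=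
    (LinearEquiv.ofEq _ _ hKf).trans (Submodule.comapSubtypeEquivOfLe hle)
  haveI := hkerL.1
  haveI := hkerL.2
  exact ⟨Module.Finite.equiv e.symm, Module.Projective.of_equiv e.symm⟩

include h in
theorem M2_comm (x : NLCx.bcH1 G.toExtension B') :
    NLCx.bcH1Map (S' := B')
        ((Generators.self A B).defaultHom (Generators.self A' B')).toExtensionHom
        (bc1 (S' := B') (G.defaultHom (Generators.self A B)).toExtensionHom x) =
      Extension.H1Cotangent.map (G'.defaultHom (Generators.self A' B')).toExtensionHom
        (NLCx.bcH1Map (S' := B') (NLCx.sameVarsHom G G' h).toExtensionHom x) := by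
  have e1 := bcH1Map_comp' (S' := B') (G.defaultHom (Generators.self A B)).toExtensionHom
      ((Generators.self A B).defaultHom (Generators.self A' B')).toExtensionHom x
  have e2 := Groth.Agent.S7221.bcH1Map_comp (S' := B') (NLCx.sameVarsHom G G' h).toExtensionHom
      (G'.defaultHom (Generators.self A' B')).toExtensionHom x
  have e3 := bcH1Map_eq (S' := B')
    (((Generators.self A B).defaultHom (Generators.self A' B')).toExtensionHom.comp
      (G.defaultHom (Generators.self A B)).toExtensionHom)
    ((G'.defaultHom (Generators.self A' B')).toExtensionHom.comp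
      (NLCx.sameVarsHom G G' h).toExtensionHom)
  rw [← e1, ← e2, e3]

include h in
theorem M2
    (hfp : Module.Finite B' (LinearMap.ker (NLCx.bcH1Map (S' := B') (NLCx.sameVarsHom G G' h).toExtensionHom)) ∧
      Module.Projective B' (LinearMap.ker (NLCx.bcH1Map (S' := B') (NLCx.sameVarsHom G G' h).toExtensionHom))) :
    Module.Finite B' (LinearMap.ker (NLCx.bcH1Map (S' := B')
        ((Generators.self A B).defaultHom (Generators.self A' B')).toExtensionHom)) ∧
      Module.Projective B' (LinearMap.ker (NLCx.bcH1Map (S' := B')
        ((Generators.self A B).defaultHom (Generators.self A' B')).toExtensionHom)) := by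
  have hi : Function.Injective
      (Extension.H1Cotangent.map (G'.defaultHom (Generators.self A' B')).toExtensionHom) :=
    (Extension.H1Cotangent.equiv (G'.defaultHom (Generators.self A' B')).toExtensionHom
      ((Generators.self A' B').defaultHom G').toExtensionHom).injective
  have hc := M2_comm A B A' B' G G' h
  have heq : LinearMap.ker (NLCx.bcH1Map (S' := B') (NLCx.sameVarsHom G G' h).toExtensionHom) =
      (LinearMap.ker (NLCx.bcH1Map (S' := B')
        ((Generators.self A B).defaultHom (Generators.self A' B')).toExtensionHom)).comap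
        (bc1Equiv (S' := B') (G.defaultHom (Generators.self A B)).toExtensionHom
          ((Generators.self A B).defaultHom G).toExtensionHom).toLinearMap := by
    ext x
    rw [LinearMap.mem_ker, Submodule.mem_comap, LinearMap.mem_ker]
    change _ ↔ NLCx.bcH1Map (S' := B')
        ((Generators.self A B).defaultHom (Generators.self A' B')).toExtensionHom
        (bc1 (S' := B') (G.defaultHom (Generators.self A B)).toExtensionHom x) = 0
    rw [hc]
    constructor
    · intro hx
      rw [hx, map_zero]
    · intro hx
      exact hi (hx.trans (map_zero _).symm)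
  let ee : LinearMap.ker (NLCx.bcH1Map (S' := B') (NLCx.sameVarsHom G G' h).toExtensionHom) ≃ₗ[B']
      LinearMap.ker (NLCx.bcH1Map (S' := B')
        ((Generators.self A B).defaultHom (Generators.self A' B')).toExtensionHom) :=
    (LinearEquiv.ofEq _ _ heq).trans
      ((bc1Equiv (S' := B') (G.defaultHom (Generators.self A B)).toExtensionHom
          ((Generators.self A B).defaultHom G).toExtensionHom).ofSubmodule' _)
  haveI := hfp.1
  haveI := hfp.2
  exact ⟨Module.Finite.equiv ee, Module.Projective.of_equiv ee⟩

end main

section final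
variable (A B A' B' : Type u) [CommRing A] [CommRing B] [CommRing A']
    [CommRing B'] [Algebra A B] [Algebra A' B'] [Algebra A A'] [Algebra B B'] [Algebra A B']
    [IsScalarTower A A' B'] [IsScalarTower A B B'] [Algebra.IsPushout A A' B B']

theorem main (hB : LCI.IsLCI A B) (hB' : LCI.IsLCI A' B') :
    Module.Finite B' (LinearMap.ker (NLCx.bcH1Map
        ((Algebra.Generators.self A B).defaultHom (Algebra.Generators.self A' B')).toExtensionHom)) ∧
      Module.Projective B' (LinearMap.ker (NLCx.bcH1Map
        ((Algebra.Generators.self A B).defaultHom (Algebra.Generators.self A' B')).toExtensionHom)) := by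
  obtain ⟨-, n, f, hf, hK⟩ := hB
  obtain ⟨-, m, f', hf', hK'⟩ := hB'
  -- the presentation `G` in the right universe
  have hv : Function.Surjective (MvPolynomial.aeval (R := A)
      (fun i : ULift.{u} (Fin n) => f (MvPolynomial.X i.down))) := by
    intro b
    obtain ⟨p, rfl⟩ := hf b
    refine ⟨MvPolynomial.rename ULift.up p, ?_⟩
    rw [MvPolynomial.aeval_rename]
    have : MvPolynomial.aeval (R := A)
        ((fun i : ULift.{u} (Fin n) => f (MvPolynomial.X i.down)) ∘ ULift.up) = f := by
      apply MvPolynomial.algHom_ext
      intro i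
      simp
    rw [this]
  obtain ⟨G, hG⟩ : ∃ G : Generators A B (ULift.{u} (Fin n)), True :=
    ⟨Generators.ofSurjective _ hv, trivial⟩
  have h : ∀ i, (Gbc A B A' B' G).val i = algebraMap B B' (G.val i) := fun _ => rfl
  -- finite projectivity of the conormal modules
  obtain ⟨fin1, proj1⟩ := cotangent_fp_of_koszul (Extension.ofSurjective f hf) hK
  obtain ⟨fin2, proj2⟩ := cotangent_fp_of_koszul (Extension.ofSurjective f' hf') hK'
  haveI : Module.Finite B G.toExtension.CotangentSpace := Module.Finite.of_basis G.cotangentSpaceBasis
  haveI : Module.Projective B G.toExtension.CotangentSpace :=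
    Module.Projective.of_basis G.cotangentSpaceBasis
  haveI : Module.Finite B' (Gbc A B A' B' G).toExtension.CotangentSpace :=
    Module.Finite.of_basis (Gbc A B A' B' G).cotangentSpaceBasis
  haveI : Module.Projective B' (Gbc A B A' B' G).toExtension.CotangentSpace :=
    Module.Projective.of_basis (Gbc A B A' B' G).cotangentSpaceBasis
  obtain ⟨finG, projG⟩ := fp_transfer (homTo G f hf) (homFrom G f hf)
  obtain ⟨finG', projG'⟩ := fp_transfer (homTo (Gbc A B A' B' G) f' hf') (homFrom (Gbc A B A' B' G) f' hf')
  exact M2 A B A' B' G (Gbc A B A' B' G) h (M1 A B A' B' G (Gbc A B A' B' G) h)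

end final


/-- Let A → B and A → A' be ring homomorphisms and B' an algebra over A' and over B making the square
cocartesian, B' = B ⊗_A A'. If A → B and A' → B' are both local complete intersection homomorphisms
(of finite type, with Koszul-regular kernel for a polynomial presentation), then the kernel of the
canonical map H^{-1}(NL_{B/A} ⊗_B B') → H^{-1}(NL_{B'/A'}) (presentations on all elements) is a
finite projective B'-module. -/
theorem result (A B A' B' : Type u) [CommRing A] [CommRing B]
    [CommRing A'] [CommRing B'] [Algebra A B] [Algebra A' B'] [Algebra A A'] [Algebra B B'] [Algebra A B']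
    [IsScalarTower A A' B'] [IsScalarTower A B B'] [Algebra.IsPushout A A' B B']
    (hB : LCI.IsLCI A B) (hB' : LCI.IsLCI A' B') :
    Module.Finite B' (LinearMap.ker (NLCx.bcH1Map
        ((Algebra.Generators.self A B).defaultHom (Algebra.Generators.self A' B')).toExtensionHom)) ∧
      Module.Projective B' (LinearMap.ker (NLCx.bcH1Map
        ((Algebra.Generators.self A B).defaultHom (Algebra.Generators.self A' B')).toExtensionHom)) :=
  main A B A' B' hB hB'

end Groth.Agent.S7223
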