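import Groth.Statements.S7225
import Mathlib
-- import your own Groth.Agent.* helpers here

set_option autoImplicit false
universe u
open CategoryTheory CategoryTheory.Limits TensorProduct
attribute [local instance] HasDerivedCategory.standard
open FlatMor

namespace Groth.Agent.S7225

theorem isIso_map_of_bijective {R S R' : Type u} [CommRing R] [CommRing S] [Algebra R S]
    [CommRing R'] [Algebra R' S] [Algebra R R'] [IsScalarTower R R' S]
    {P : Algebra.Extension.{u} R S} {P' : Algebra.Extension.{u} R' S} (f : P.Hom P')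
    (h1 : Function.Bijective (Algebra.Extension.Cotangent.map f))
    (h2 : Function.Bijective (Algebra.Extension.CotangentSpace.map f)) :
    IsIso (NLCx.map f) := by
  haveI i1 : IsIso (ModuleCat.ofHom (Algebra.Extension.Cotangent.map f)) :=
    (ConcreteCategory.isIso_iff_bijective _).mpr h1
  haveI i2 : IsIso (ModuleCat.ofHom (Algebra.Extension.CotangentSpace.map f)) :=
    (ConcreteCategory.isIso_iff_bijective _).mpr h2
  have hcomp : ∀ i : ℤ, IsIso ((NLCx.map f).f i) := by
    intro i
    by_cases h0 : i = -1
    · subst h0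
      unfold NLCx.map
      erw [HomologicalComplex.mkHomFromDouble_f₀]
      exact @IsIso.comp_isIso _ _ _ _ _ _ _ (Iso.isIso_hom _)
        (@IsIso.comp_isIso _ _ _ _ _ _ _ i1 (Iso.isIso_inv _))
    · by_cases h1 : i = 0
      · subst h1
        unfold NLCx.map
        erw [HomologicalComplex.mkHomFromDouble_f₁]
        exact @IsIso.comp_isIso _ _ _ _ _ _ _ (Iso.isIso_hom _)
          (@IsIso.comp_isIso _ _ _ _ _ _ _ i2 (Iso.isIso_inv _))
      · have hz1 : IsZero ((NLCx.cx P).X i) := HomologicalComplex.isZero_double_X _ _ i h0 h1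
        have hz2 : IsZero ((NLCx.cx P').X i) := HomologicalComplex.isZero_double_X _ _ i h0 h1
        exact ⟨⟨0, hz1.eq_of_src _ _, hz2.eq_of_src _ _⟩⟩
  exact HomologicalComplex.Hom.isIso_of_components _


section alg
variable (A A' B : Type u) [CommRing A] [CommRing A'] [CommRing B]
    [Algebra A A'] (M : Submonoid A) [IsLocalization M A'] [Algebra A' B] [Algebra A B] [IsScalarTower A A' B]
    {ι : Type u} (G : Algebra.Generators A B ι) (G' : Algebra.Generators A' B ι)
    (h : ∀ i, G'.val i = algebraMap B B (G.val i))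

attribute [local instance] MvPolynomial.algebraMvPolynomial

theorem toAlgHom_eq (p : MvPolynomial ι A) :
    (NLCx.sameVarsHom (S' := B) G G' h).toExtensionHom.toAlgHom p = MvPolynomial.map (algebraMap A A') p := by
  change (NLCx.sameVarsHom (S' := B) G G' h).toAlgHom p = _
  have : ((NLCx.sameVarsHom (S' := B) G G' h).toAlgHom.toRingHom : MvPolynomial ι A →+* MvPolynomial ι A') =
      MvPolynomial.map (algebraMap A A') := by
    apply MvPolynomial.ringHom_ext
    · intro r
      change (NLCx.sameVarsHom (S' := B) G G' h).toAlgHom (MvPolynomial.C r) = _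
      rw [Algebra.Generators.Hom.toAlgHom_C, MvPolynomial.map_C]
    · intro i
      change (NLCx.sameVarsHom (S' := B) G G' h).toAlgHom (MvPolynomial.X i) = _
      rw [Algebra.Generators.Hom.toAlgHom_X, MvPolynomial.map_X]; rfl
  exact congrArg (fun φ : MvPolynomial ι A →+* MvPolynomial ι A' => φ p) this

theorem cotangentSpace_bij :
    Function.Bijective (Algebra.Extension.CotangentSpace.map
      (NLCx.sameVarsHom (S' := B) G G' h).toExtensionHom) := by
  let e := G.cotangentSpaceBasis.equiv G'.cotangentSpaceBasis (Equiv.refl ι)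
  have he : Algebra.Extension.CotangentSpace.map
      (NLCx.sameVarsHom (S' := B) G G' h).toExtensionHom = e.toLinearMap := by
    apply G.cotangentSpaceBasis.ext
    intro i
    rw [LinearEquiv.coe_coe, Module.Basis.equiv_apply, Equiv.refl_apply,
      Algebra.Generators.cotangentSpaceBasis_apply, Algebra.Generators.cotangentSpaceBasis_apply]
    erw [Algebra.Extension.CotangentSpace.map_tmul]
    rw [map_one]
    congr 2
    change (NLCx.sameVarsHom (S' := B) G G' h).toAlgHom (MvPolynomial.X i) = _
    rw [Algebra.Generators.Hom.toAlgHom_X]; rfl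
  rw [he]
  exact e.bijective

include h in
theorem aeval_toAlgHom (p : MvPolynomial ι A) :
    MvPolynomial.aeval G'.val (MvPolynomial.map (algebraMap A A') p) = MvPolynomial.aeval G.val p := by
  rw [← toAlgHom_eq A A' B G G' h p]
  have := Algebra.Generators.Hom.algebraMap_toAlgHom' (NLCx.sameVarsHom (S' := B) G G' h) p
  exact this

include h in
theorem mem_ker_iff (p : MvPolynomial ι A) :
    MvPolynomial.map (algebraMap A A') p ∈ RingHom.ker (MvPolynomial.aeval (R := A') G'.val) ↔
      p ∈ RingHom.ker (MvPolynomial.aeval (R := A) G.val) := by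
  rw [RingHom.mem_ker, RingHom.mem_ker, aeval_toAlgHom A A' B G G' h]

include M A' in
theorem isUnit_algebraMap (m : A) (hm : m ∈ M) : IsUnit (algebraMap A B m) := by
  rw [IsScalarTower.algebraMap_apply A A' B]
  exact (IsLocalization.map_units A' ⟨m, hm⟩).map _

include M h in
theorem ker_eq_map :
    RingHom.ker (MvPolynomial.aeval (R := A') G'.val) =
      Ideal.map (algebraMap (MvPolynomial ι A) (MvPolynomial ι A'))
        (RingHom.ker (MvPolynomial.aeval (R := A) G.val)) := by
  have h1 := IsLocalization.map_comap (M.map (MvPolynomial.C (σ := ι))) (MvPolynomial ι A')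
    (RingHom.ker (MvPolynomial.aeval (R := A') G'.val))
  rw [← h1]
  congr 1
  ext p
  rw [Ideal.mem_comap, MvPolynomial.algebraMap_def]
  exact (mem_ker_iff A A' B G G' h p)

theorem mk_eq_zero_iff' (p : G.toExtension.ker) :
    Algebra.Extension.Cotangent.mk p = 0 ↔
      (p.1 : MvPolynomial ι A) ∈ (RingHom.ker (MvPolynomial.aeval (R := A) G.val)) ^ 2 := by
  rw [Algebra.Extension.Cotangent.mk_eq_zero_iff]
  have : (RingHom.ker (MvPolynomial.aeval (R := A) G.val)) = G.ker :=
    (Algebra.Generators.ker_eq_ker_aeval_val G).symm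
  rw [this]
  rfl

include M h in
theorem cotangent_inj_aux (p0 : MvPolynomial ι A) (hp0 : p0 ∈ G.toExtension.ker)
    (hx' : (NLCx.sameVarsHom (S' := B) G G' h).toExtensionHom.toAlgHom p0 ∈
      (RingHom.ker (MvPolynomial.aeval (R := A') G'.val)) ^ 2) :
    Algebra.Extension.Cotangent.mk (⟨p0, hp0⟩ : G.toExtension.ker) = 0 := by
  have hx2 : MvPolynomial.map (algebraMap A A') p0 ∈
      (RingHom.ker (MvPolynomial.aeval (R := A') G'.val)) ^ 2 := by
    rw [toAlgHom_eq A A' B G G' h] at hx'
    exact hx'
  rw [ker_eq_map A A' B M G G' h, ← Ideal.map_pow,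
    ← MvPolynomial.algebraMap_def,
    IsLocalization.algebraMap_mem_map_algebraMap_iff (M.map (MvPolynomial.C (σ := ι)))] at hx2
  obtain ⟨m', ⟨m, hm, rfl⟩, hmp⟩ := hx2
  have hmem : MvPolynomial.C m * p0 ∈ G.toExtension.ker :=
    Ideal.mul_mem_left _ _ hp0
  have h0 : Algebra.Extension.Cotangent.mk (⟨MvPolynomial.C m * p0, hmem⟩ : G.toExtension.ker) = 0 := by
    rw [mk_eq_zero_iff']
    exact hmp
  let c : G.toExtension.Ring := MvPolynomial.C m
  have h1 : (⟨MvPolynomial.C m * p0, hmem⟩ : G.toExtension.ker) =
      c • (⟨p0, hp0⟩ : G.toExtension.ker) := by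
    ext; rfl
  rw [h1, map_smul] at h0
  have h2 : c •
      Algebra.Extension.Cotangent.mk (⟨p0, hp0⟩ : G.toExtension.ker) =
      (algebraMap A B m) • Algebra.Extension.Cotangent.mk (⟨p0, hp0⟩ : G.toExtension.ker) := by
    change (algebraMap G.toExtension.Ring B c) •
      Algebra.Extension.Cotangent.mk (⟨p0, hp0⟩ : G.toExtension.ker) = _
    congr 1
    change algebraMap G.Ring B (MvPolynomial.C m) = _
    rw [Algebra.Generators.algebraMap_apply, MvPolynomial.aeval_C]
  rw [h2] at h0
  exact (isUnit_algebraMap A A' B M m hm).smul_eq_zero.mp h0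

include M in
theorem cotangent_inj :
    Function.Injective (Algebra.Extension.Cotangent.map
      (NLCx.sameVarsHom (S' := B) G G' h).toExtensionHom) := by
  rw [injective_iff_map_eq_zero]
  intro x hx
  obtain ⟨p, rfl⟩ := Algebra.Extension.Cotangent.mk_surjective x
  rw [Algebra.Extension.Cotangent.map_mk, mk_eq_zero_iff'] at hx
  exact cotangent_inj_aux A A' B M G G' h p.1 p.2 hx

include M in
theorem cotangent_surj_aux (q0 : MvPolynomial ι A') (hq0 : q0 ∈ G'.toExtension.ker) :
    ∃ x, Algebra.Extension.Cotangent.map (NLCx.sameVarsHom (S' := B) G G' h).toExtensionHom x =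
      Algebra.Extension.Cotangent.mk (⟨q0, hq0⟩ : G'.toExtension.ker) := by
  obtain ⟨⟨p0, m'⟩, hpm⟩ := IsLocalization.surj (M.map (MvPolynomial.C (σ := ι))) q0
  obtain ⟨m, hm, hm'⟩ := m'.2
  rw [MvPolynomial.algebraMap_def] at hpm
  dsimp only at hpm
  rw [← hm', MvPolynomial.map_C] at hpm
  -- hpm : q0 * C (algebraMap m) = map p0
  have hq0' : q0 ∈ RingHom.ker (MvPolynomial.aeval (R := A') G'.val) := by
    have : (RingHom.ker (MvPolynomial.aeval (R := A') G'.val)) = G'.ker :=
      (Algebra.Generators.ker_eq_ker_aeval_val G').symm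
    rw [this]; exact hq0
  have hp0' : p0 ∈ RingHom.ker (MvPolynomial.aeval (R := A) G.val) := by
    rw [← mem_ker_iff A A' B G G' h, ← hpm]
    exact Ideal.mul_mem_right _ _ hq0'
  have hp0 : p0 ∈ G.toExtension.ker := by
    have : (RingHom.ker (MvPolynomial.aeval (R := A) G.val)) = G.ker :=
      (Algebra.Generators.ker_eq_ker_aeval_val G).symm
    rw [this] at hp0'; exact hp0'
  obtain ⟨u, hu⟩ := isUnit_algebraMap A A' B M m hm
  refine ⟨(↑u⁻¹ : B) • Algebra.Extension.Cotangent.mk (⟨p0, hp0⟩ : G.toExtension.ker), ?_⟩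
  rw [map_smul, Algebra.Extension.Cotangent.map_mk]
  let c : G'.toExtension.Ring := MvPolynomial.C (algebraMap A A' m)
  have h1 : (⟨(NLCx.sameVarsHom (S' := B) G G' h).toExtensionHom.toAlgHom p0, by
        have := toAlgHom_eq A A' B G G' h p0
        rw [this, ← hpm]
        exact Ideal.mul_mem_right _ _ hq0⟩ : G'.toExtension.ker) =
      c • (⟨q0, hq0⟩ : G'.toExtension.ker) := by
    ext
    change (NLCx.sameVarsHom (S' := B) G G' h).toExtensionHom.toAlgHom p0 = MvPolynomial.C (algebraMap A A' m) * q0
    rw [toAlgHom_eq A A' B G G' h, ← hpm, mul_comm]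
    try rfl
  rw [h1, map_smul]
  have h2 : c • Algebra.Extension.Cotangent.mk (⟨q0, hq0⟩ : G'.toExtension.ker) =
      (algebraMap A B m) • Algebra.Extension.Cotangent.mk (⟨q0, hq0⟩ : G'.toExtension.ker) := by
    change (algebraMap G'.toExtension.Ring B c) •
      Algebra.Extension.Cotangent.mk (⟨q0, hq0⟩ : G'.toExtension.ker) = _
    congr 1
    change algebraMap G'.Ring B (MvPolynomial.C (algebraMap A A' m)) = _
    rw [Algebra.Generators.algebraMap_apply, MvPolynomial.aeval_C, ← IsScalarTower.algebraMap_apply]
  rw [h2, ← hu, smul_smul, Units.inv_mul, one_smul]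

include M in
theorem cotangent_surj :
    Function.Surjective (Algebra.Extension.Cotangent.map
      (NLCx.sameVarsHom (S' := B) G G' h).toExtensionHom) := by
  intro y
  obtain ⟨q, rfl⟩ := Algebra.Extension.Cotangent.mk_surjective y
  exact cotangent_surj_aux A A' B M G G' h q.1 q.2

end alg

/-- Let A be a ring, M a submonoid of A, A' a localization of A at M and B an A'-algebra, viewed also as
an A-algebra. Let G be a presentation of B over A by a polynomial algebra and G' the presentation of
B over A' with the same generators (G'(i) = G(i), written through the identity algebra map of B).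
Then the canonical chain map NL(G) → NL(G') from the naive cotangent complex of the presentation
over A to that of the presentation over A' is an isomorphism of complexes (so that NL_{B/A} →
NL_{B/A'} is a homotopy equivalence). -/
theorem result (A A' B : Type u) [CommRing A] [CommRing A'] [CommRing B]
    [Algebra A A'] (M : Submonoid A) [IsLocalization M A'] [Algebra A' B] [Algebra A B] [IsScalarTower A A' B]
    {ι : Type u} (G : Algebra.Generators A B ι) (G' : Algebra.Generators A' B ι) (h : ∀ i, G'.val i = algebraMap B B (G.val i)) :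
    IsIso (NLCx.map (NLCx.sameVarsHom (S' := B) G G' h).toExtensionHom) := by
  exact isIso_map_of_bijective _
    ⟨cotangent_inj A A' B M G G' h, cotangent_surj A A' B M G G' h⟩
    (cotangentSpace_bij A A' B G G' h)

end Groth.Agent.S7225
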