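import Groth.Statements.S7241
import Groth.Agent.Lib.QCoh.Helper50_SubExtQcqs
import Groth.Agent.Lib.QCoh.Helper43_PushQcqs
import Groth.Agent.Lib.QCoh.Helper74_LocFreeBiprod
import Groth.Agent.Lib.QCoh.Helper50_AffineDict
import Groth.Agent.Lib.QCoh.AffineOpen
import Groth.Agent.Lib.QCoh.TensorColim
import Groth.Agent.Lib.Helper22.QCohLoc
import Groth.Agent.Lib.Helper48.DualInv
import Groth.Agent.Lib.Ample.Helper50_Counit
import Groth.Agent.Lib.Ample.Helper50_Basis
import Groth.Agent.Lib.Helper56.RelAmpleComp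
-- import your own Groth.Agent.* helpers here

set_option autoImplicit false
universe u
open CategoryTheory CategoryTheory.Limits AlgebraicGeometry
attribute [local instance] HasDerivedCategory.standard
open Perf

namespace Groth.Agent.S7241

section Aux

open Groth.Agent.Lib.QCoh Groth.Agent.Lib.Helper22 Groth.Agent.Lib.Ample TopologicalSpace Opposite
  CohB1

variable {X Y : Scheme.{u}}

lemma res_res (M : X.Modules) {U V W : X.Opens} (h : V ≤ U) (h' : W ≤ V) (t : Γ(M, U)) :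
    M.presheaf.map (homOfLE h').op (M.presheaf.map (homOfLE h).op t) =
      M.presheaf.map (homOfLE (h'.trans h)).op t :=
  resSec_resSec M h h' t

lemma res_smul (M : X.Modules) {U V : X.Opens} (h : V ≤ U) (r : Γ(X, U)) (t : Γ(M, U)) :
    M.presheaf.map (homOfLE h).op (r • t) =
      X.presheaf.map (homOfLE h).op r • M.presheaf.map (homOfLE h).op t :=
  resSec_smul M h r t

/-- one section of `f_* M` over an affine open is hit from a finite locally free module -/
theorem exists_hit (f : X ⟶ Y) [QuasiCompact f] [QuasiSeparated f] [CompactSpace ↥Y]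
    [QuasiSeparatedSpace ↥Y]
    (hY : PerfAux.HasResolutionProperty Y) (M : X.Modules) [M.IsQuasicoherent]
    (V : Y.Opens) (hV : IsAffineOpen V) (m : Γ(M, f ⁻¹ᵁ V)) :
    ∃ (E : Y.Modules) (ψ : E ⟶ (Scheme.Modules.pushforward f).obj M), FlatMod.IsFinLocFree E ∧
      ∃ z : Γ(E, V), ψ.app V z = m := by
  haveI : ((Scheme.Modules.pushforward f).obj M).IsQuasicoherent :=
    isQuasicoherent_pushforward_of_qcqs f M
  obtain ⟨G', i', _, hq, ht, g, hg⟩ := SubExtQ.exists_subsheaf_through_section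
    ((Scheme.Modules.pushforward f).obj M) V hV.isCompact
    (show Γ((Scheme.Modules.pushforward f).obj M, V) from m)
  obtain ⟨E, π, hE, hπ⟩ := hY G' hq ht
  haveI := hπ
  haveI : E.IsQuasicoherent := isQuasicoherent_of_isFinLocFree hE
  haveI : G'.IsQuasicoherent := hq
  obtain ⟨z, hz⟩ := surjective_app_of_epi π hV g
  refine ⟨E, π ≫ i', hE, z, ?_⟩
  show i'.app V (π.app V z) = m
  rw [hz]
  exact hg

/-- finitely many sections of `f_* M` over affine opens are hit from one finite locally free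
module -/
theorem exists_hit_finset (f : X ⟶ Y) [QuasiCompact f] [QuasiSeparated f] [CompactSpace ↥Y]
    [QuasiSeparatedSpace ↥Y]
    (hY : PerfAux.HasResolutionProperty Y) (M : X.Modules) [M.IsQuasicoherent]
    (T : Finset (Σ V : Y.affineOpens, Γ(M, f ⁻¹ᵁ V.1))) :
    ∃ (E : Y.Modules) (ψ : E ⟶ (Scheme.Modules.pushforward f).obj M), FlatMod.IsFinLocFree E ∧
      ∀ t ∈ T, ∃ z : Γ(E, t.1.1), ψ.app t.1.1 z = t.2 := by
  classical
  induction T using Finset.induction_on with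
  | empty =>
    exact ⟨Coh.structureModule Y, 0, isFinLocFree_structureModule Y, fun t ht => by simp at ht⟩
  | insert t T _ ih =>
    obtain ⟨E, ψ, hE, hψ⟩ := ih
    obtain ⟨E', ψ', hE', z', hz'⟩ := exists_hit f hY M t.1.1 t.1.2 t.2
    refine ⟨E' ⊞ E, biprod.desc ψ' ψ, isFinLocFree_biprod hE' hE, fun s hs => ?_⟩
    rcases Finset.mem_insert.mp hs with rfl | hs
    · refine ⟨(biprod.inl : E' ⟶ E' ⊞ E).app _ z', ?_⟩
      have h := congrArg (fun φ : E' ⟶ (Scheme.Modules.pushforward f).obj M => φ.app s.1.1 z')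
        (biprod.inl_desc ψ' ψ)
      exact h.trans hz'
    · obtain ⟨z, hz⟩ := hψ s hs
      refine ⟨(biprod.inr : E ⟶ E' ⊞ E).app _ z, ?_⟩
      have h := congrArg (fun φ : E ⟶ (Scheme.Modules.pushforward f).obj M => φ.app s.1.1 z)
        (biprod.inr_desc ψ' ψ)
      exact h.trans hz

/-- the key step: a quasi-coherent module of finite type which is relatively generated near every
point is a quotient of the pullback of a finite locally free module -/
theorem exists_epi_pullback (f : X ⟶ Y) [QuasiCompact f] [QuasiSeparated f] [CompactSpace ↥X]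
    [CompactSpace ↥Y] [QuasiSeparatedSpace ↥Y] (hY : PerfAux.HasResolutionProperty Y)
    (M : X.Modules) [M.IsQuasicoherent] [M.IsFiniteType]
    (hgen : ∀ x : X, ∃ V : Y.affineOpens, ∀ U : X.Opens, x ∈ U →
      ∃ (W' : X.Opens) (hW' : W' ≤ f ⁻¹ᵁ V.1), x ∈ W' ∧ W' ≤ U ∧
        Submodule.span Γ(X, W') (Set.range (fun m : Γ(M, f ⁻¹ᵁ V.1) =>
          M.presheaf.map (homOfLE hW').op m)) = ⊤) :
    ∃ (E : Y.Modules) (ψ' : (Scheme.Modules.pullback f).obj E ⟶ M),
      FlatMod.IsFinLocFree E ∧ Epi ψ' := by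
  classical
  have h1 : ∀ x : X, ∃ (V : Y.affineOpens) (U : X.Opens) (W' : X.Opens)
      (hW' : W' ≤ f ⁻¹ᵁ V.1), IsAffineOpen U ∧ x ∈ W' ∧ W' ≤ U ∧
        Submodule.span Γ(X, W') (Set.range (fun m : Γ(M, f ⁻¹ᵁ V.1) =>
          M.presheaf.map (homOfLE hW').op m)) = ⊤ := by
    intro x
    obtain ⟨V, hV⟩ := hgen x
    obtain ⟨U, hU, hxU, -⟩ := TopologicalSpace.Opens.isBasis_iff_nbhd.1 X.isBasis_affineOpens
      (show x ∈ (⊤ : X.Opens) from trivial)
    obtain ⟨W', hW', hxW', hW'U, hspan⟩ := hV U hxU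
    exact ⟨V, U, W', hW', hU, hxW', hW'U, hspan⟩
  choose V U W' hW' hU hxW' hW'U hspan using h1
  have hfin : ∀ x, ∃ S : Finset Γ(M, U x),
      Submodule.span Γ(X, U x) (S : Set Γ(M, U x)) = ⊤ := fun x =>
    (finite_Γ_of_isAffineOpen (hU x) M).1
  choose S hS using hfin
  have hR : ∀ x, ∃ R : Finset Γ(M, f ⁻¹ᵁ (V x).1), ∀ σ ∈ S x,
      M.presheaf.map (homOfLE (hW'U x)).op σ ∈ Submodule.span Γ(X, W' x)
        ((fun m : Γ(M, f ⁻¹ᵁ (V x).1) => M.presheaf.map (homOfLE (hW' x)).op m) ''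
          (R : Set Γ(M, f ⁻¹ᵁ (V x).1))) := by
    intro x
    have h2 : ∀ σ : Γ(M, U x), ∃ R : Finset Γ(M, f ⁻¹ᵁ (V x).1),
        M.presheaf.map (homOfLE (hW'U x)).op σ ∈ Submodule.span Γ(X, W' x)
          ((fun m : Γ(M, f ⁻¹ᵁ (V x).1) => M.presheaf.map (homOfLE (hW' x)).op m) ''
            (R : Set Γ(M, f ⁻¹ᵁ (V x).1))) := by
      intro σ
      have hmem : M.presheaf.map (homOfLE (hW'U x)).op σ ∈ Submodule.span Γ(X, W' x)
          (Set.range (fun m : Γ(M, f ⁻¹ᵁ (V x).1) =>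
            M.presheaf.map (homOfLE (hW' x)).op m)) := by
        rw [hspan x]; trivial
      obtain ⟨T, hT, hσT⟩ := Submodule.mem_span_finite_of_mem_span hmem
      choose! pre hpre using fun y (hy : y ∈ (T : Set Γ(M, W' x))) => hT hy
      refine ⟨T.image pre, ?_⟩
      refine Submodule.span_mono ?_ hσT
      intro y hy
      exact ⟨pre y, Finset.mem_coe.2 (Finset.mem_image_of_mem pre hy), hpre y hy⟩
    choose R hR using h2
    refine ⟨(S x).biUnion R, fun σ hσ => ?_⟩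
    refine Submodule.span_mono ?_ (hR σ)
    refine Set.image_mono ?_
    intro m hm
    exact Finset.mem_coe.2 (Finset.mem_biUnion.2 ⟨σ, hσ, hm⟩)
  choose R hR using hR
  obtain ⟨T, hT⟩ := isCompact_univ.elim_finite_subcover
    (fun x : X => ((W' x : X.Opens) : Set X)) (fun x => (W' x).isOpen)
    (fun y _ => Set.mem_iUnion.2 ⟨y, hxW' y⟩)
  obtain ⟨E, ψ, hE, hψ⟩ := exists_hit_finset f hY M
    ((T.sigma R).image (fun p : (Σ x : X, Γ(M, f ⁻¹ᵁ (V x).1)) =>
      (⟨V p.1, p.2⟩ : Σ V : Y.affineOpens, Γ(M, f ⁻¹ᵁ V.1))))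
  have hψ2 : ∀ x ∈ T, ∀ m ∈ R x, ∃ z : Γ(E, (V x).1), ψ.app (V x).1 z = m := by
    intro x hxT m hm
    exact hψ ⟨V x, m⟩ (Finset.mem_image.2 ⟨⟨x, m⟩, Finset.mem_sigma.2 ⟨hxT, hm⟩, rfl⟩)
  obtain ⟨ψ', hψ'⟩ : ∃ ψ' : (Scheme.Modules.pullback f).obj E ⟶ M,
      ψ = (Scheme.Modules.pullbackPushforwardAdjunction f).unit.app E ≫
        (Scheme.Modules.pushforward f).map ψ' :=
    ⟨((Scheme.Modules.pullbackPushforwardAdjunction f).homEquiv E M).symm ψ, by
      have h := (Scheme.Modules.pullbackPushforwardAdjunction f).homEquiv_unit (X := E) (Y := M)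
        (f := ((Scheme.Modules.pullbackPushforwardAdjunction f).homEquiv E M).symm ψ)
      rw [Equiv.apply_symm_apply] at h
      exact h⟩
  refine ⟨E, ψ', hE, ?_⟩
  have hrange1 : ∀ x ∈ T, ∀ m ∈ R x, ∃ w, ψ'.app (f ⁻¹ᵁ (V x).1) w = m := by
    intro x hxT m hm
    obtain ⟨z, hz⟩ := hψ2 x hxT m hm
    refine ⟨((Scheme.Modules.pullbackPushforwardAdjunction f).unit.app E).app (V x).1 z, ?_⟩
    have h := congrArg (fun φ : E ⟶ (Scheme.Modules.pushforward f).obj M => φ.app (V x).1 z) hψ'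
    exact h.symm.trans hz
  have hrange2 : ∀ x ∈ T, ∀ (D : X.Opens) (hD : D ≤ W' x),
      ∀ c ∈ Submodule.span Γ(X, W' x)
        ((fun m : Γ(M, f ⁻¹ᵁ (V x).1) => M.presheaf.map (homOfLE (hW' x)).op m) ''
          (R x : Set Γ(M, f ⁻¹ᵁ (V x).1))),
      ∃ w, ψ'.app D w = M.presheaf.map (homOfLE hD).op c := by
    intro x hxT D hD c hc
    induction hc using Submodule.span_induction with
    | mem c hc =>
      obtain ⟨m, hm, rfl⟩ := hc
      obtain ⟨w, hw⟩ := hrange1 x hxT m (Finset.mem_coe.1 hm)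
      refine ⟨((Scheme.Modules.pullback f).obj E).presheaf.map
        (homOfLE (hD.trans (hW' x))).op w, ?_⟩
      have h1 := app_naturality_apply ψ' (homOfLE (hD.trans (hW' x))) w
      rw [hw] at h1
      exact h1.trans (res_res M (hW' x) hD m).symm
    | zero => exact ⟨0, by rw [map_zero, map_zero]⟩
    | add c c' _ _ hc hc' =>
      obtain ⟨z, hz⟩ := hc
      obtain ⟨z', hz'⟩ := hc'
      exact ⟨z + z', by rw [map_add, hz, hz', map_add]⟩
    | smul r c _ hc =>
      obtain ⟨z, hz⟩ := hc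
      exact ⟨X.presheaf.map (homOfLE hD).op r • z, by
        rw [Scheme.Modules.Hom.app_smul, hz, res_smul]⟩
  refine epi_of_surjective_of_isBasis
    (fun p : (Σ x : {x : X // x ∈ T}, {g : Γ(X, U x.1) // X.basicOpen g ≤ W' x.1}) =>
      X.basicOpen p.2.1) ?_ ψ' ?_
  · rw [TopologicalSpace.Opens.isBasis_iff_nbhd]
    intro U₀ y hyU₀
    obtain ⟨x, hx'⟩ := Set.mem_iUnion.1 (hT (Set.mem_univ y))
    obtain ⟨hxT, hy⟩ := Set.mem_iUnion.1 hx'
    obtain ⟨g, hgU, hyg⟩ := (hU x).exists_basicOpen_le (V := U₀ ⊓ W' x) ⟨y, ⟨hyU₀, hy⟩⟩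
      (hW'U x hy)
    exact ⟨_, ⟨⟨⟨x, hxT⟩, ⟨g, hgU.trans inf_le_right⟩⟩, rfl⟩, hyg, hgU.trans inf_le_left⟩
  · rintro ⟨⟨x, hxT⟩, ⟨g, hg⟩⟩ y
    obtain ⟨n, z, hz⟩ := exists_pow_smul_eq_map_of_isAffineOpen M (hU x) g y
    have hzspan : z ∈ Submodule.span Γ(X, U x) (S x : Set Γ(M, U x)) := by
      rw [hS x]; trivial
    have hzr : ∀ z' ∈ Submodule.span Γ(X, U x) (S x : Set Γ(M, U x)),
        ∃ w, ψ'.app (X.basicOpen g) w =
          M.presheaf.map (homOfLE (X.basicOpen_le g)).op z' := by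
      intro z' hz'
      induction hz' using Submodule.span_induction with
      | mem σ hσ =>
        obtain ⟨w, hw⟩ := hrange2 x hxT (X.basicOpen g) hg _ (hR x σ (Finset.mem_coe.1 hσ))
        exact ⟨w, hw.trans (res_res M (hW'U x) hg σ)⟩
      | zero => exact ⟨0, by rw [map_zero, map_zero]⟩
      | add a b _ _ ha hb =>
        obtain ⟨wa, hwa⟩ := ha
        obtain ⟨wb, hwb⟩ := hb
        exact ⟨wa + wb, by rw [map_add, hwa, hwb, map_add]⟩
      | smul r a _ ha =>
        obtain ⟨wa, hwa⟩ := ha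
        exact ⟨X.presheaf.map (homOfLE (X.basicOpen_le g)).op r • wa, by
          rw [Scheme.Modules.Hom.app_smul, hwa, res_smul]⟩
    obtain ⟨w, hw⟩ := hzr z hzspan
    have hu : IsUnit (X.presheaf.map (homOfLE (X.basicOpen_le g)).op g) :=
      RingedSpace.isUnit_res_basicOpen X.toRingedSpace g
    obtain ⟨u, hu'⟩ := hu.pow n
    refine ⟨(↑u⁻¹ : Γ(X, X.basicOpen g)) • w, ?_⟩
    rw [Scheme.Modules.Hom.app_smul, hw, hz, ← hu', ← mul_smul, Units.inv_mul, one_smul]

end Aux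

/-- Let f : X ⟶ Y be a morphism of schemes whose target Y is quasi-compact, quasi-separated, and
satisfies the resolution property (every quasi-coherent O_Y-module of finite type is a quotient of a
finite locally free O_Y-module), and suppose there is an f-ample invertible O_X-module L (f
quasi-compact and L ample on the preimage of every affine open of Y). Then X has the resolution
property. -/
theorem result {X Y : Scheme.{u}} (f : X ⟶ Y) [CompactSpace ↥Y] [QuasiSeparatedSpace ↥Y]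
    (hY : PerfAux.HasResolutionProperty Y) (L : X.Modules) (hL : RelAmple.IsRelAmple f L) :
    PerfAux.HasResolutionProperty X := by
  intro F hFq hFt
  haveI : F.IsQuasicoherent := hFq
  haveI : F.IsFiniteType := hFt
  classical
  haveI : QuasiCompact f := hL.1
  haveI : QuasiSeparated f := HasAffineProperty.of_iSup_eq_top (P := @QuasiSeparated)
    (fun V : Y.affineOpens => V) (iSup_affineOpens_eq_top Y)
    (fun V => Groth.Agent.Lib.Ample.quasiSeparatedSpace_of_isAmple (hL.2 V))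
  haveI : CompactSpace X := QuasiCompact.compactSpace_of_compactSpace f
  have hLinv : PicF.IsInvertible L :=
    Groth.Agent.Lib.Helper56.RelAmpleComp.isInvertible_of_isRelAmple f hL
  obtain ⟨A, hA⟩ := isCompact_univ.elim_finite_subcover
    (fun V : Y.affineOpens => ((V.1 : Y.Opens) : Set Y)) (fun V => V.1.isOpen)
    (fun y _ => by
      obtain ⟨V, hV, hyV, -⟩ := TopologicalSpace.Opens.isBasis_iff_nbhd.1 Y.isBasis_affineOpens
        (show y ∈ (⊤ : Y.Opens) from trivial)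
      exact Set.mem_iUnion.2 ⟨⟨V, hV⟩, hyV⟩)
  have hA' : ∀ y : Y, ∃ V ∈ A, y ∈ V.1 := fun y => by
    obtain ⟨V, hVA, hyV⟩ := Set.mem_iUnion₂.1 (hA (Set.mem_univ y))
    exact ⟨V, hVA, hyV⟩
  choose n₀ hn₀ using fun V : Y.affineOpens =>
    Groth.Agent.Lib.Ample.Counit.exists_span_eq_top_of_isAmple_restrict (f ⁻¹ᵁ V.1) (hL.2 V) F
  obtain ⟨n, hn⟩ : ∃ n, ∀ V ∈ A, n₀ V ≤ n := ⟨A.sup n₀, fun V hV => Finset.le_sup hV⟩
  have hP : PicF.IsInvertible (CohB1.tensorPow L n) :=
    Groth.Agent.Lib.QCoh.isInvertible_tensorPow hLinv n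
  haveI : (CohB1.tensorPow L n).IsQuasicoherent :=
    Groth.Agent.Lib.QCoh.isQuasicoherent_of_isInvertible hP
  haveI : (CohB1.tensorPow L n).IsFiniteType :=
    Groth.Agent.Lib.QCoh.isFiniteType_of_isInvertible hP
  haveI : (CohB1.tensorMod F (CohB1.tensorPow L n)).IsQuasicoherent :=
    Groth.Agent.Lib.QCoh.isQuasicoherent_tensorMod _ _
  haveI : (CohB1.tensorMod F (CohB1.tensorPow L n)).IsFiniteType :=
    Groth.Agent.Lib.QCoh.isFiniteType_tensorMod _ _
  obtain ⟨E, ψ', hE, hepi⟩ := exists_epi_pullback f hY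
    (CohB1.tensorMod F (CohB1.tensorPow L n)) (fun x => by
      obtain ⟨V, hVA, hxV⟩ := hA' (f.base x)
      exact ⟨V, fun U hxU => hn₀ V n (hn V hVA) x hxV U hxU⟩)
  obtain ⟨N, hN, ⟨ev⟩⟩ := Groth.Agent.Lib.Helper48.DualInv.exists_inverse hP
  have hE' : FlatMod.IsFinLocFree ((Scheme.Modules.pullback f).obj E) :=
    Groth.Agent.Lib.QCoh.isFinLocFree_pullback f hE
  refine ⟨CohB1.tensorMod ((Scheme.Modules.pullback f).obj E) N,
    Groth.Agent.Lib.QCoh.tensorModMap ψ' (𝟙 N) ≫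
      (Groth.Agent.Lib.QCoh.tensorModAssoc F (CohB1.tensorPow L n) N).hom ≫
      (Groth.Agent.Lib.QCoh.tensorModCongr (Iso.refl F) ev).hom ≫
      (Groth.Agent.Lib.QCoh.tensorModRightUnitor F).hom,
    Groth.Agent.Lib.Helper48.DualInv.isFinLocFree_tensorMod hE' hN, ?_⟩
  haveI := hepi
  haveI : Epi (Groth.Agent.Lib.QCoh.tensorModMap ψ' (𝟙 N)) :=
    Groth.Agent.Lib.QCoh.epi_tensorModMap_id _ N
  infer_instance

end Groth.Agent.S7241
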