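import Groth.Statements.S7250
import Groth.Agent.Lib.Helper99.SRel6
import Groth.Agent.Lib.Helper99.SPerf12

set_option autoImplicit false
universe u
open CategoryTheory CategoryTheory.Limits AlgebraicGeometry
attribute [local instance] HasDerivedCategory.standard
open Perf
open ZeroObject

namespace Groth.Agent.S7250

/-- Let f : X ⟶ S be flat and locally of finite presentation. The S-perfect objects of D(O_X)
(pseudo-coherent and locally of finite tor dimension over f⁻¹O_S, the latter in the form: locally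
represented by a bounded complex of O_X-modules flat over S) form a saturated triangulated
subcategory: the property contains zero, is stable under all shifts, is closed under the middle term
of distinguished triangles, and is stable under retracts. -/
theorem result {X S : Scheme.{u}} (f : X ⟶ S) [Flat f] [LocallyOfFinitePresentation f] :
    ObjectProperty.IsTriangulated (fun E : DCoh.D X => (∀ m : ℤ, DCoh.IsPseudoCoherentD m E) ∧ DCoh.LocHasFiniteRelTorDim f E) ∧
    ObjectProperty.IsStableUnderRetracts (fun E : DCoh.D X => (∀ m : ℤ, DCoh.IsPseudoCoherentD m E) ∧ DCoh.LocHasFiniteRelTorDim f E) := by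
  classical
  let P : ObjectProperty (DCoh.D X) := fun E : DCoh.D X =>
    (∀ m : ℤ, DCoh.IsPseudoCoherentD m E) ∧ DCoh.LocHasFiniteRelTorDim f E
  have hP : ∀ E, P E ↔ ((∀ m : ℤ, DCoh.IsPseudoCoherentD m E) ∧
      Groth.Agent.Lib.Helper99.SRel.LRT f E) := fun E =>
    and_congr Iff.rfl (Groth.Agent.Lib.Helper99.SRel.locHasFiniteRelTorDim_iff f E)
  have hiso : ∀ {K K' : DCoh.D X}, (K ≅ K') → P K → P K' := by
    intro K K' e h
    rw [hP] at h ⊢
    exact ⟨fun m => Groth.Agent.Lib.Helper99.SPerf.isPseudoCoherentD_of_iso e (h.1 m),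
      h.2.of_iso e⟩
  have hshift : ∀ (K : DCoh.D X) (n : ℤ), P K → P (K⟦n⟧) := by
    intro K n h
    rw [hP] at h ⊢
    exact ⟨fun m => Groth.Agent.Lib.Helper99.SPerf.isPseudoCoherentD_shift K n (m + n) m rfl
      (h.1 (m + n)), h.2.shift n⟩
  have hext : ∀ (T : Pretriangulated.Triangle (DCoh.D X)), T ∈ distTriang (DCoh.D X) →
      P T.obj₁ → P T.obj₃ → P T.obj₂ := by
    intro T hT h1 h3
    rw [hP] at h1 h3 ⊢
    exact ⟨fun m => (Groth.Agent.Lib.Helper99.SPerf.isPseudoCoherent_triangle m T hT).2.1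
      (h1.1 m) (h3.1 m), Groth.Agent.Lib.Helper99.SRel.LRT.obj₂ T hT h1.2 h3.2⟩
  have hbiprod : ∀ (K L : DCoh.D X), P (K ⊞ L) → P K := by
    intro K L h
    rw [hP] at h ⊢
    exact ⟨fun m => (Groth.Agent.Lib.Helper99.SPerf.isPseudoCoherent_of_biprod m K L (h.1 m)).1,
      Groth.Agent.Lib.Helper99.SRel.LRT.of_biprod K L h.2⟩
  have hzero : ∀ Z : DCoh.D X, IsZero Z → P Z := by
    intro Z hZ
    rw [hP]
    refine ⟨?_, Groth.Agent.Lib.Helper99.SRel.LRT.of_isZero hZ⟩
    apply Groth.Agent.Lib.Helper99.SPerf.isPseudoCoherentD_of_isPerfect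
    rw [Groth.Agent.Lib.Helper99.SPerf.isPerfect_iff]
    intro x
    refine ⟨⊤, trivial, (0 : CochainComplex ((⊤ : X.Opens) : Scheme.{u}).Modules ℤ),
      Groth.Agent.Lib.Helper99.SPerf.isStrictlyPerfect_zero _, ⟨?_⟩⟩
    exact (((DCoh.restrictD (⊤ : X.Opens).ι).map_isZero hZ)).iso
      (DerivedCategory.Q.map_isZero (isZero_zero _))
  refine ⟨?_, ?_⟩
  · haveI : ObjectProperty.IsClosedUnderIsomorphisms P := ⟨fun e h => hiso e h⟩
    exact
      { exists_zero := ⟨0, isZero_zero _, hzero _ (isZero_zero _)⟩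
        isStableUnderShiftBy := fun n => ⟨fun K h => hshift K n h⟩
        toIsTriangulatedClosed₂ := ObjectProperty.IsTriangulatedClosed₂.mk' hext }
  · refine ⟨fun {K L} hr hL => ?_⟩
    obtain ⟨C, g, h, hT⟩ := Pretriangulated.distinguished_cocone_triangle hr.i
    haveI : IsSplitMono hr.i := ⟨⟨⟨hr.r, hr.retract⟩⟩⟩
    have hz : (Pretriangulated.Triangle.mk hr.i g h).mor₃ = 0 :=
      Pretriangulated.Triangle.mor₃_eq_zero_of_mono₁ _ hT (inferInstanceAs (Mono hr.i))
    obtain ⟨e, -, -⟩ := Pretriangulated.exists_iso_binaryBiproduct_of_distTriang _ hT hz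
    exact hbiprod K C (hiso e hL)

end Groth.Agent.S7250
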