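import Groth.Statements.S7287
import Mathlib
import Groth.Agent.Lib.Helper21.FieldDimBC
-- import your own Groth.Agent.* helpers here

set_option autoImplicit false
open CategoryTheory CategoryTheory.Limits AlgebraicGeometry Opposite
universe u
open RelCyc

namespace Groth.Agent.S7287

section PRE
open Groth.Agent.Lib.Helper21.FieldDim Groth.Agent.Lib.Helper21

lemma trdegAt_iso {P' P : Scheme.{u}} (e : P' ⟶ P) [IsIso e] (z : P') : trdegAt e z = 0 := by
  unfold trdegAt
  letI := (e.residueFieldMap z).hom.toAlgebra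
  haveI : Algebra.IsAlgebraic (P.residueField (e.base z)) (P'.residueField z) := by
    constructor
    intro a
    have hsurj : Function.Surjective (e.residueFieldMap z).hom :=
      (ConcreteCategory.bijective_of_isIso (e.residueFieldMap z)).2
    obtain ⟨r, rfl⟩ := hsurj a
    exact isAlgebraic_algebraMap r
  exact _root_.trdeg_eq_zero

lemma trdegAt_iso_comp {P' P Y : Scheme.{u}} (e : P' ⟶ P) [IsIso e] (h : P ⟶ Y) (z : P') :
    trdegAt (e ≫ h) z = trdegAt h (e.base z) := by
  rw [trdegAt_comp, trdegAt_iso e z, add_zero]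

lemma trdegAt_congr_hom {P Y : Scheme.{u}} {h h' : P ⟶ Y} (e : h = h') (z : P) :
    trdegAt h z = trdegAt h' z := by subst e; rfl

lemma trdegAt_congr_pt {P Y : Scheme.{u}} (h : P ⟶ Y) {z z' : P} (e : z = z') :
    trdegAt h z = trdegAt h z' := by subst e; rfl

section Sq
variable {W X Y S : Scheme.{u}} {fst' : W ⟶ X} {snd' : W ⟶ Y} {f : X ⟶ S} {g : Y ⟶ S}

lemma sq_le [LocallyOfFiniteType f] (hsq : IsPullback fst' snd' f g) (w : W) :
    trdegAt snd' w ≤ trdegAt f (fst'.base w) := by
  have h1 : trdegAt snd' w = trdegAt (pullback.snd f g) (hsq.isoPullback.hom.base w) := by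
    rw [← trdegAt_iso_comp]
    exact trdegAt_congr_hom hsq.isoPullback_hom_snd.symm w
  have h2 : (pullback.fst f g).base (hsq.isoPullback.hom.base w) = fst'.base w := by
    exact congrArg (fun φ : W ⟶ X => φ.base w) hsq.isoPullback_hom_fst
  rw [h1, ← trdegAt_congr_pt f h2, trdegAt_eq_tdR, trdegAt_eq_tdR]
  exact_mod_cast tdR_snd_le f g _

lemma sq_min [LocallyOfFiniteType f] (hsq : IsPullback fst' snd' f g) (w : W) :
    ∃ w₀ : W, w₀ ⤳ w ∧ fst'.base w₀ = fst'.base w ∧ snd'.base w₀ = snd'.base w ∧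
      trdegAt snd' w₀ = trdegAt f (fst'.base w) := by
  obtain ⟨t', hsp, h1, h2, hmin⟩ := PullbackTrdeg.exists_specializes_minimal (f := f) (g := g)
    (hsq.isoPullback.hom.base w)
  have hfst : ∀ v : W, (pullback.fst f g).base (hsq.isoPullback.hom.base v) = fst'.base v := by
    intro v
    exact congrArg (fun φ : W ⟶ X => φ.base v) hsq.isoPullback_hom_fst
  have hsnd : ∀ v : W, (pullback.snd f g).base (hsq.isoPullback.hom.base v) = snd'.base v := by
    intro v
    exact congrArg (fun φ : W ⟶ Y => φ.base v) hsq.isoPullback_hom_snd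
  have hinv : ∀ t : ↑(pullback f g),
      hsq.isoPullback.hom.base (hsq.isoPullback.inv.base t) = t := by
    intro t
    exact congrArg (fun φ : pullback f g ⟶ pullback f g => φ.base t) hsq.isoPullback.inv_hom_id
  have hinv' : ∀ v : W, hsq.isoPullback.inv.base (hsq.isoPullback.hom.base v) = v := by
    intro v
    exact congrArg (fun φ : W ⟶ W => φ.base v) hsq.isoPullback.hom_inv_id
  refine ⟨hsq.isoPullback.inv.base t', ?_, ?_, ?_, ?_⟩
  · have := hsp.map hsq.isoPullback.inv.continuous
    rwa [hinv' w] at this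
  · rw [← hfst, hinv, ← hfst w]; exact h1
  · rw [← hsnd, hinv, ← hsnd w]; exact h2
  · have e1 : trdegAt snd' (hsq.isoPullback.inv.base t') = trdegAt (pullback.snd f g) t' := by
      rw [trdegAt_congr_hom hsq.isoPullback_hom_snd.symm, trdegAt_iso_comp, hinv]
    have e2 : (pullback.fst f g).base t' = fst'.base w := h1.trans (hfst w)
    rw [e1, ← trdegAt_congr_pt f e2, trdegAt_eq_tdR, trdegAt_eq_tdR]
    exact_mod_cast tdR_snd_eq_of_minimal f g t' hmin

end Sq

lemma lt_of_spec {P Y : Scheme.{u}} (p : P ⟶ Y) [LocallyOfFiniteType p] {z z' : P} (h : z ⤳ z')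
    (hne : z ≠ z') (hp : p.base z = p.base z') : trdegAt p z' < trdegAt p z := by
  rw [trdegAt_eq_tdR, trdegAt_eq_tdR]
  exact_mod_cast tdR_lt_of_specializes p h hne hp

theorem main {X S S' S'' X' X'' : Scheme.{u}}
    (f : X ⟶ S) [LocallyOfFiniteType f] (r : ℕ) (g : S' ⟶ S) [Surjective g]
    (p q : S'' ⟶ S') (hS : IsPullback p q g g)
    (f' : X' ⟶ S') (g' : X' ⟶ X) (hX : IsPullback g' f' f g)
    (f'' : X'' ⟶ S'') (p' q' : X'' ⟶ X') (hp : IsPullback p' f'' f' p) (hq : IsPullback q' f'' f' q)
    (hpq : p' ≫ g' = q' ≫ g')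
    (x : ↥X) (hx : Dual3.resTrdeg f x = r)
    (x₁ x₂ : ↥X') (h₁ : g'.base x₁ = x) (h₂ : g'.base x₂ = x)
    (hx₁ : Dual3.resTrdeg f' x₁ = r) (hx₂ : Dual3.resTrdeg f' x₂ = r) :
    ∃ x'' : ↥X'', Dual3.resTrdeg f'' x'' = r ∧ p'.base x'' = x₁ ∧ q'.base x'' = x₂ := by
  haveI : LocallyOfFiniteType f' := MorphismProperty.of_isPullback hX inferInstance
  -- X'' is the fibre square of X' over X
  have hPB : IsPullback p' q' g' g' := by
    refine ⟨⟨hpq⟩, ⟨PullbackCone.IsLimit.mk _ (fun s => hp.lift s.fst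
      (hS.lift (s.fst ≫ f') (s.snd ≫ f') ?_) ?_) ?_ ?_ ?_⟩⟩
    · rw [Category.assoc, Category.assoc, ← hX.w, ← Category.assoc, ← Category.assoc,
        s.condition]
    · rw [hS.lift_fst]
    · intro s; exact hp.lift_fst _ _ _
    · intro s
      apply hX.hom_ext
      · rw [Category.assoc, ← hpq, ← Category.assoc, hp.lift_fst, s.condition]
      · rw [Category.assoc, hq.w, ← Category.assoc, hp.lift_snd, hS.lift_snd]
    · intro s m hm1 hm2
      apply hp.hom_ext
      · rw [hp.lift_fst]; exact hm1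
      · rw [hp.lift_snd]
        apply hS.hom_ext
        · rw [hS.lift_fst, Category.assoc, ← hp.w, ← Category.assoc, hm1]
        · rw [hS.lift_snd, Category.assoc, ← hq.w, ← Category.assoc, hm2]
  -- a point over (x₁, x₂)
  obtain ⟨t, ht1, ht2⟩ := Scheme.Pullback.exists_preimage_pullback (f := g') (g := g') x₁ x₂
    (h₁.trans h₂.symm)
  have hz1 : p'.base (hPB.isoPullback.inv.base t) = x₁ := by
    rw [← ht1]
    exact congrArg (fun φ : pullback g' g' ⟶ X' => φ.base t) hPB.isoPullback_inv_fst
  have hz2 : q'.base (hPB.isoPullback.inv.base t) = x₂ := by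
    rw [← ht2]
    exact congrArg (fun φ : pullback g' g' ⟶ X' => φ.base t) hPB.isoPullback_inv_snd
  obtain ⟨z₀, hsp, hz01, hz02, htd⟩ := sq_min hp (hPB.isoPullback.inv.base t)
  rw [hz1] at hz01 htd
  refine ⟨z₀, htd.trans hx₁, hz01, ?_⟩
  by_contra hne
  have hy_sp : q'.base z₀ ⤳ x₂ := by
    rw [← hz2]; exact hsp.map q'.continuous
  have hqw : ∀ v : X'', f'.base (q'.base v) = q.base (f''.base v) := fun v =>
    congrArg (fun φ : X'' ⟶ S' => φ.base v) hq.w
  have hy_f : f'.base (q'.base z₀) = f'.base x₂ := by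
    rw [hqw, hz02, ← hqw, hz2]
  have hy_g : g'.base (q'.base z₀) = x := by
    have : g'.base (q'.base z₀) = g'.base (p'.base z₀) :=
      (congrArg (fun φ : X'' ⟶ X => φ.base z₀) hpq).symm
    rw [this, hz01, h₁]
  have hlt := lt_of_spec f' hy_sp hne hy_f
  have hle := sq_le hX (q'.base z₀)
  rw [trdegAt_congr_pt f hy_g] at hle
  have e1 : trdegAt f' x₂ = r := hx₂
  have e2 : trdegAt f x = r := hx
  rw [e1] at hlt
  rw [e2] at hle
  exact absurd (lt_of_lt_of_le hlt hle) (lt_irrefl _)

end PRE

/-- Let f from X to S be locally of finite type, r a natural number and g from S' to S a surjective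
morphism. Let S'' be the fibre product of S' with itself over S (projections p, q), X' the base
change of X along g (structure map f', projection g' to X), and X'' the base change of X along S''
with structure map f'' and the two projections p', q' to X' lying over p and q and compatible with
the projections to X. Let x be a point of X whose residue field has transcendence degree r over that
of f(x). If x1 and x2 are points of X' mapping to x whose residue fields have transcendence degree r
over those of their images in S', then there is a point of X'' whose residue field has transcendence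
degree r over that of its image in S'' and whose two projections are x1 and x2. -/
theorem result {X S S' S'' X' X'' : Scheme.{u}}
    (f : X ⟶ S) [LocallyOfFiniteType f] (r : ℕ) (g : S' ⟶ S) [Surjective g]
    (p q : S'' ⟶ S') (hS : IsPullback p q g g)
    (f' : X' ⟶ S') (g' : X' ⟶ X) (hX : IsPullback g' f' f g)
    (f'' : X'' ⟶ S'') (p' q' : X'' ⟶ X') (hp : IsPullback p' f'' f' p) (hq : IsPullback q' f'' f' q)
    (hpq : p' ≫ g' = q' ≫ g')
    (x : ↥X) (hx : Dual3.resTrdeg f x = r)
    (x₁ x₂ : ↥X') (h₁ : g'.base x₁ = x) (h₂ : g'.base x₂ = x)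
    (hx₁ : Dual3.resTrdeg f' x₁ = r) (hx₂ : Dual3.resTrdeg f' x₂ = r) :
    ∃ x'' : ↥X'', Dual3.resTrdeg f'' x'' = r ∧ p'.base x'' = x₁ ∧ q'.base x'' = x₂ := by
  exact main f r g p q hS f' g' hX f'' p' q' hp hq hpq x hx x₁ x₂ h₁ h₂ hx₁ hx₂

end Groth.Agent.S7287
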