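import Groth.Statements.S7289
import Groth.Agent.Lib.Helper4.IndCriterion

set_option autoImplicit false
open CategoryTheory CategoryTheory.Limits AlgebraicGeometry Opposite
universe u
open ProEtW

namespace Groth.Agent.S7289

open Groth.Agent.Lib.Helper4

/-- Ind-etale A-algebras are stable under filtered colimits, i.e. any colimit over a filtered index
category of such algebras is again ind-etale over A. Concretely: if D is a filtered diagram of rings
under A all of whose values are ind-etale A-algebras, and the A-algebra B is a colimit of D in the
category of rings under A, then B is ind-etale over A. -/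
theorem result (A B : Type u) [CommRing A] [CommRing B] [Algebra A B]
    {J : Type u} [SmallCategory J] [IsFiltered J] (D : J ⥤ Under (CommRingCat.of A))
    (hD : ∀ j, letI := (D.obj j).hom.hom.toAlgebra; EtPBC.IsIndEtale A ↥(D.obj j).right)
    (c : Cocone D) (hc : IsColimit c)
    (e : c.pt ≅ Under.mk (CommRingCat.ofHom (algebraMap A B))) :
    EtPBC.IsIndEtale A B := by
  rw [isIndEtale_iff_hasFactorization]
  have hInd : IsInd (fun (E : Type u) [CommRing E] [Algebra A E] => EtPBC.IsIndEtale A E) B :=
    ⟨J, inferInstance, inferInstance, D, c, hc, hD, ⟨e⟩⟩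
  intro P _ _ _ φ
  obtain ⟨E, _, _, hE, α, β, hαβ⟩ := hInd.hasFactorization P φ
  obtain ⟨E', _, _, hE', α', β', hαβ'⟩ := (isIndEtale_iff_hasFactorization E).mp hE P α
  exact ⟨E', inferInstance, inferInstance, hE', α', β.comp β', by
    rw [AlgHom.comp_assoc, hαβ', hαβ]⟩

end Groth.Agent.S7289
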