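import Groth.Statements.S7316
-- import your own Groth.Agent.* helpers here

set_option autoImplicit false
open Finset
open Models Models.NumericalType

namespace Groth.Agent.S7316

theorem diag_neg {n : ℕ} (T : Models.NumericalType n) (hn : 1 < n) (i : Fin n) : T.a i i < 0 := by
  have hne : ({i} : Finset (Fin n)) ≠ univ := by
    intro h
    have := congrArg Finset.card h
    simp at this
    omega
  obtain ⟨i', hi', j, hj, hij⟩ := T.connected {i} (singleton_nonempty i) hne
  rw [mem_singleton] at hi'
  subst hi'
  rw [mem_singleton] at hj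
  have hpos : 0 < T.a i' j := lt_of_le_of_ne (T.offDiag_nonneg i' j (Ne.symm hj)) (Ne.symm hij)
  have h0 := congrFun T.mulVec_m i'
  simp only [Matrix.mulVec, dotProduct, Pi.zero_apply] at h0
  rw [← Finset.add_sum_erase _ _ (mem_univ i')] at h0
  have h1 : T.a i' j * T.m j ≤ ∑ x ∈ univ.erase i', T.a i' x * T.m x := by
    refine Finset.single_le_sum (f := fun x => T.a i' x * T.m x) (fun x hx => ?_)
      (mem_erase.2 ⟨hj, mem_univ j⟩)
    exact mul_nonneg (T.offDiag_nonneg i' x (Ne.symm (ne_of_mem_erase hx))) (T.m_pos x).le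
  have h2 : 0 < T.a i' j * T.m j := mul_pos hpos (T.m_pos j)
  have h3 : T.a i' i' * T.m i' < 0 := by linarith
  have := T.m_pos i'
  by_contra hc
  push Not at hc
  nlinarith


/-- Let T be a numerical type on n > 1 indices and i an index whose contribution m_i (w_i (g_i - 1) -
a_ii / 2) to the genus is negative (stated as m_i (2 w_i (g_i - 1) - a_ii) < 0). Then g_i = 0 and
a_ii = -w_i, i.e. i is a (-1)-index. -/
theorem result {n : ℕ} (T : Models.NumericalType n) (hn : 1 < n) (i : Fin n)
    (h : T.m i * (2 * T.w i * (T.g i - 1) - T.a i i) < 0) : T.IsMinusOne i := by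
  have hd := diag_neg T hn i
  obtain ⟨c, hc⟩ := T.w_dvd i i
  have hw := T.w_pos i
  have hm := T.m_pos i
  have hg := T.g_nonneg i
  rw [hc] at hd h
  have hc1 : c ≤ -1 := by
    by_contra hcc
    push Not at hcc
    have : 0 ≤ c := by omega
    nlinarith
  have h2 : 2 * T.w i * (T.g i - 1) - T.w i * c < 0 := by
    by_contra hcc
    push Not at hcc
    nlinarith
  have h3 : 2 * (T.g i - 1) - c < 0 := by
    by_contra hcc
    push Not at hcc
    nlinarith
  have hg0 : T.g i = 0 := by omega
  have hcm : c = -1 := by omega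
  exact ⟨hg0, by rw [hc, hcm]; ring⟩


end Groth.Agent.S7316
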