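import Groth.Statements.S7340
import Mathlib
-- import your own Groth.Agent.* helpers here

set_option autoImplicit false
universe u
open Polynomial
open Resolve

namespace Groth.Agent.S7340

open KaehlerDifferential in
lemma sum_pow_prime {p : ℕ} {A : Type*} [CommRing A] (hp : p.Prime) (s : Finset ℕ) (t : ℕ → A) :
    ∃ W : A, (∑ j ∈ s, t j) ^ p = ∑ j ∈ s, (t j) ^ p + (p : A) * W := by
  classical
  induction s using Finset.induction_on with
  | empty => exact ⟨0, by simp [hp.ne_zero]⟩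
  | insert a s ha ih =>
    obtain ⟨W, hW⟩ := ih
    refine ⟨W + ∑ k ∈ Finset.Ioo 0 p, (t a) ^ k * (∑ j ∈ s, t j) ^ (p - k) *
      ((p.choose k / p : ℕ) : A), ?_⟩
    rw [Finset.sum_insert ha, Finset.sum_insert ha, add_pow_prime_eq' hp, hW]
    ring

lemma cartier_poly (p : ℕ) (hp : p.Prime) (R : Type*) [CommRing R] [CharP R p] (F : R[X]) :
    ∃ W : R[X],
      F ^ p = ∑ j ∈ Finset.range (F.natDegree + 1), C (F.coeff j ^ p) * X ^ (j * p) ∧
      F ^ (p - 1) * derivative F =
        ∑ j ∈ Finset.range (F.natDegree + 1), C (F.coeff j ^ p * (j : R)) * X ^ (j * p - 1)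
          + derivative W := by
  classical
  let t : ℕ → (MvPolynomial ℕ ℤ)[X] := fun j => C (MvPolynomial.X j) * X ^ j
  obtain ⟨W, hW⟩ := sum_pow_prime (A := (MvPolynomial ℕ ℤ)[X]) hp
    (Finset.range (F.natDegree + 1)) t
  have ht : ∀ j, (t j) ^ p =
      C ((MvPolynomial.X j : MvPolynomial ℕ ℤ) ^ p) * X ^ (j * p) := by
    intro j; simp only [t]; rw [mul_pow, ← C_pow, ← pow_mul]
  obtain ⟨FF, hFF⟩ : ∃ FF : (MvPolynomial ℕ ℤ)[X],
      FF = ∑ j ∈ Finset.range (F.natDegree + 1), t j := ⟨_, rfl⟩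
  rw [← hFF] at hW
  have h1 : FF ^ p =
      ∑ j ∈ Finset.range (F.natDegree + 1),
        C ((MvPolynomial.X j : MvPolynomial ℕ ℤ) ^ p) * X ^ (j * p)
        + (p : (MvPolynomial ℕ ℤ)[X]) * W := by
    rw [hW]; congr 1; exact Finset.sum_congr rfl fun j _ => ht j
  have hp0 : (p : (MvPolynomial ℕ ℤ)[X]) ≠ 0 := Nat.cast_ne_zero.mpr hp.ne_zero
  have hc : ∀ (x : MvPolynomial ℕ ℤ) (j : ℕ),
      (C (x * ((j * p : ℕ) : MvPolynomial ℕ ℤ)) : (MvPolynomial ℕ ℤ)[X]) =
        (p : (MvPolynomial ℕ ℤ)[X]) * C (x * (j : MvPolynomial ℕ ℤ)) := by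
    intro x j
    rw [← C_eq_natCast, ← C_mul]; congr 1; push_cast; ring
  have h2 := congrArg derivative h1
  rw [derivative_pow, derivative_add, derivative_sum, derivative_natCast_mul] at h2
  simp only [derivative_C_mul_X_pow, hc, mul_assoc, ← Finset.mul_sum, C_eq_natCast] at h2
  rw [← mul_add] at h2
  have h3 := mul_left_cancel₀ hp0 h2
  let θ0 : MvPolynomial ℕ ℤ →+* R :=
    MvPolynomial.eval₂Hom (Int.castRingHom R) (fun j => F.coeff j)
  have hθX : ∀ j, θ0 (MvPolynomial.X j) = F.coeff j := fun j => by simp [θ0]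
  have hθFF : FF.map θ0 = F := by
    rw [hFF, Polynomial.map_sum]
    conv_rhs => rw [F.as_sum_range_C_mul_X_pow]
    refine Finset.sum_congr rfl fun j _ => ?_
    simp only [t, Polynomial.map_mul, Polynomial.map_C, Polynomial.map_pow, Polynomial.map_X, hθX]
  refine ⟨W.map θ0, ?_, ?_⟩
  · have := congrArg (Polynomial.map θ0) h1
    rw [Polynomial.map_pow, hθFF, Polynomial.map_add, Polynomial.map_sum, Polynomial.map_mul,
      Polynomial.map_natCast] at this
    rw [this]
    have hpz : ((p : ℕ) : R[X]) = 0 := by rw [← C_eq_natCast, CharP.cast_eq_zero R p, C_0]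
    rw [hpz, zero_mul, add_zero]
    refine Finset.sum_congr rfl fun j _ => ?_
    simp only [Polynomial.map_mul, Polynomial.map_C, Polynomial.map_pow, Polynomial.map_X,
      map_pow, hθX]
  · have := congrArg (Polynomial.map θ0) h3
    rw [Polynomial.map_mul, Polynomial.map_pow, hθFF, ← Polynomial.derivative_map, hθFF,
      Polynomial.map_add, Polynomial.map_sum, ← Polynomial.derivative_map] at this
    rw [this]
    congr 1
    refine Finset.sum_congr rfl fun j _ => ?_
    simp only [Polynomial.map_mul, Polynomial.map_C, Polynomial.map_pow, Polynomial.map_X,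
      map_pow, map_mul, map_natCast, Polynomial.map_natCast, hθX]

lemma of_inj (p : ℕ) {R : Type u} [CommRing R] [Nontrivial R] (c r r' : R) (hp0 : 0 < p)
    (h : algebraMap R (AdjoinRoot (X ^ p - C c : R[X])) r = algebraMap R _ r') : r = r' := by
  rw [AdjoinRoot.algebraMap_eq, ← AdjoinRoot.mk_C, ← AdjoinRoot.mk_C (f := (X ^ p - C c : R[X])) r',
    AdjoinRoot.mk_eq_mk, ← C_sub] at h
  by_contra hne
  have hne' : (C (r - r') : R[X]) ≠ 0 := by rwa [Ne, C_eq_zero, sub_eq_zero]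
  refine (monic_X_pow_sub_C c hp0.ne').not_dvd_of_natDegree_lt hne' ?_ h
  rw [natDegree_C, natDegree_X_pow_sub_C]; exact hp0

section Lmap
open KaehlerDifferential

variable (p : ℕ) {R : Type u} [CommRing R] (c : R)
  (T : Ω[AdjoinRoot (X ^ p - C c : R[X])⁄R] →ₗ[R] Ω[R⁄ℤ])

lemma root_pow_p :
    (AdjoinRoot.root (X ^ p - C c : R[X])) ^ p = algebraMap R _ c := by
  have h := AdjoinRoot.mk_self (f := (X ^ p - C c : R[X]))
  rw [map_sub, map_pow, AdjoinRoot.mk_X, AdjoinRoot.mk_C] at h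
  rw [AdjoinRoot.algebraMap_eq]; exact sub_eq_zero.mp h

/-- the linear map `g ↦ T (g(x) dx)` -/
noncomputable def Lm : R[X] →ₗ[R] Ω[R⁄ℤ] where
  toFun g := T (aeval (AdjoinRoot.root (X ^ p - C c : R[X])) g •
    KaehlerDifferential.D R (AdjoinRoot (X ^ p - C c : R[X])) (AdjoinRoot.root (X ^ p - C c : R[X])))
  map_add' g h := by simp only [map_add, add_smul]
  map_smul' r g := by simp only [map_smul, smul_assoc, RingHom.id_apply]

lemma Lm_apply (g : R[X]) :
    Lm p c T g = T (aeval (AdjoinRoot.root (X ^ p - C c : R[X])) g •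
      KaehlerDifferential.D R (AdjoinRoot (X ^ p - C c : R[X]))
        (AdjoinRoot.root (X ^ p - C c : R[X]))) := rfl

lemma Lm_Xp_mul (g : R[X]) : Lm p c T (X ^ p * g) = c • Lm p c T g := by
  rw [Lm_apply, Lm_apply, map_mul, aeval_X_pow, root_pow_p, ← Algebra.smul_def, smul_assoc,
    map_smul]

lemma Lm_f_mul (g : R[X]) : Lm p c T ((X ^ p - C c) * g) = 0 := by
  have h0 : aeval (AdjoinRoot.root (X ^ p - C c : R[X])) (X ^ p - C c : R[X]) = 0 := by
    rw [AdjoinRoot.aeval_eq, AdjoinRoot.mk_self]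
  rw [Lm_apply, map_mul, h0, zero_mul, zero_smul, map_zero]

lemma Lm_X_pow_add (q r : ℕ) : Lm p c T (X ^ (q * p + r)) = c ^ q • Lm p c T (X ^ r) := by
  induction q with
  | zero => simp
  | succ q ih =>
    have : (X : R[X]) ^ ((q + 1) * p + r) = X ^ p * X ^ (q * p + r) := by
      rw [← pow_add]; congr 1; ring
    rw [this, Lm_Xp_mul, ih, smul_smul, ← pow_succ']

lemma Lm_D (g h : R[X]) :
    T (aeval (AdjoinRoot.root (X ^ p - C c : R[X])) g •
      KaehlerDifferential.D R (AdjoinRoot (X ^ p - C c : R[X]))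
        (aeval (AdjoinRoot.root (X ^ p - C c : R[X])) h)) = Lm p c T (g * derivative h) := by
  rw [Lm_apply, Derivation.map_aeval, smul_smul, map_mul]

variable (hT : ∀ i : ℕ, i + 2 ≤ p →
    T (AdjoinRoot.root (X ^ p - C c) ^ i •
      KaehlerDifferential.D R _ (AdjoinRoot.root (X ^ p - C c))) = 0)
  (hT' : T (AdjoinRoot.root (X ^ p - C c) ^ (p - 1) •
      KaehlerDifferential.D R _ (AdjoinRoot.root (X ^ p - C c))) = KaehlerDifferential.D ℤ R c)
include hT hT'

lemma Lm_X_pow_of_not_dvd (hp : p.Prime) (m : ℕ) (hm : ¬ p ∣ m + 1) :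
    Lm p c T (X ^ m) = 0 := by
  have hpos := hp.pos
  obtain ⟨q, r, hr, rfl⟩ : ∃ q r, r < p ∧ m = q * p + r :=
    ⟨m / p, m % p, Nat.mod_lt _ hpos, by rw [mul_comm]; exact (Nat.div_add_mod m p).symm⟩
  have hr2 : r + 2 ≤ p := by
    by_contra hcon
    apply hm
    have : r + 1 = p := by omega
    exact ⟨q + 1, by rw [add_assoc, this]; ring⟩
  rw [Lm_X_pow_add, Lm_apply, aeval_X_pow, hT r hr2, smul_zero]

lemma Lm_X_pow_pred (q : ℕ) :
    Lm p c T (X ^ (q * p + (p - 1))) = c ^ q • KaehlerDifferential.D ℤ R c := by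
  rw [Lm_X_pow_add, Lm_apply, aeval_X_pow, hT']

lemma Lm_derivative [CharP R p] (hp : p.Prime) (H : R[X]) : Lm p c T (derivative H) = 0 := by
  induction H using Polynomial.induction_on' with
  | add f g hf hg => rw [derivative_add, map_add, hf, hg, add_zero]
  | monomial n r =>
    rw [derivative_monomial, ← C_mul_X_pow_eq_monomial, ← smul_eq_C_mul, map_smul]
    rcases Nat.eq_zero_or_pos n with rfl | hn
    · simp
    · by_cases hd : p ∣ n
      · have : (n : R) = 0 := (CharP.cast_eq_zero_iff R p n).mpr hd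
        rw [this, mul_zero, zero_smul]
      · rw [Lm_X_pow_of_not_dvd p c T hT hT' hp (n - 1) (by rwa [Nat.sub_add_cancel hn]),
          smul_zero]

lemma Lm_cartier [CharP R p] (hp : p.Prime) (F : R[X]) (a : R)
    (hdvd : (X ^ p - C c : R[X]) ∣ F ^ p - C a) :
    Lm p c T (F ^ (p - 1) * derivative F) = KaehlerDifferential.D ℤ R a := by
  haveI : Nontrivial R := CharP.nontrivial_of_char_ne_one (v := p) hp.ne_one
  obtain ⟨W, hW1, hW2⟩ := cartier_poly p hp R F
  have ha : a = ∑ j ∈ Finset.range (F.natDegree + 1), F.coeff j ^ p * c ^ j := by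
    apply of_inj p c _ _ hp.pos
    calc algebraMap R (AdjoinRoot (X ^ p - C c : R[X])) a
        = AdjoinRoot.mk (X ^ p - C c : R[X]) (C a) := by
          rw [AdjoinRoot.algebraMap_eq, AdjoinRoot.mk_C]
      _ = AdjoinRoot.mk (X ^ p - C c : R[X]) (F ^ p) := (AdjoinRoot.mk_eq_mk.mpr hdvd).symm
      _ = AdjoinRoot.mk (X ^ p - C c : R[X])
            (∑ j ∈ Finset.range (F.natDegree + 1), C (F.coeff j ^ p) * X ^ (j * p)) := by
          rw [← hW1]
      _ = algebraMap R (AdjoinRoot (X ^ p - C c : R[X]))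
            (∑ j ∈ Finset.range (F.natDegree + 1), F.coeff j ^ p * c ^ j) := by
          simp only [map_sum, map_mul, map_pow, AdjoinRoot.mk_C, AdjoinRoot.mk_X]
          refine Finset.sum_congr rfl fun j _ => ?_
          rw [mul_comm j p, pow_mul, root_pow_p, AdjoinRoot.algebraMap_eq]
  have hDa : KaehlerDifferential.D ℤ R a =
      ∑ j ∈ Finset.range (F.natDegree + 1),
        (F.coeff j ^ p * (j : R)) • (c ^ (j - 1) • KaehlerDifferential.D ℤ R c) := by
    conv_lhs => rw [ha]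
    rw [map_sum]
    refine Finset.sum_congr rfl fun j _ => ?_
    rw [Derivation.leibniz, Derivation.leibniz_pow, Derivation.leibniz_pow,
      ← Nat.cast_smul_eq_nsmul R p, CharP.cast_eq_zero R p, zero_smul, smul_zero, add_zero,
      ← Nat.cast_smul_eq_nsmul R j, mul_smul]
  rw [hW2, map_add, Lm_derivative p c T hT hT' hp W, add_zero, map_sum, hDa]
  refine Finset.sum_congr rfl fun j _ => ?_
  rw [← smul_eq_C_mul, map_smul]
  rcases Nat.eq_zero_or_pos j with rfl | hj
  · simp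
  · obtain ⟨i, rfl⟩ : ∃ i, j = i + 1 := ⟨j - 1, by omega⟩
    have e : (i + 1) * p - 1 = i * p + (p - 1) := by
      have := hp.pos
      rw [add_mul, one_mul]
      generalize i * p = k
      omega
    rw [e, Lm_X_pow_pred p c T hT hT' i, Nat.add_sub_cancel]

end Lmap

/-- Let p be a prime number and R an F_p-algebra, a, b ∈ R, S_a = R[x]/(x^p - a) and S_b = R[y]/(y^p -
b). The trace Tr_x : Ω_{S_a/R} → Ω_R is the R-linear map with x^i dx ↦ 0 for 0 ≤ i ≤ p - 2 and
x^{p-1} dx ↦ da (these determine it, Ω_{S_a/R} being free over R on the x^i dx), and similarly Tr_y.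
Then for every R-algebra homomorphism φ : S_a → S_b one has Tr_x = Tr_y ∘ φ_*: for all s, t ∈ S_a,
Tr_x(s dt) = Tr_y(φ(s) dφ(t)). Here Ω_R is the module of absolute differentials Ω_{R/Z}. -/
theorem result (p : ℕ) [Fact p.Prime] (R : Type u) [CommRing R] [CharP R p] (a b : R)
    (φ : AdjoinRoot (X ^ p - C a : R[X]) →ₐ[R] AdjoinRoot (X ^ p - C b : R[X]))
    (Tx : Ω[AdjoinRoot (X ^ p - C a : R[X])⁄R] →ₗ[R] Ω[R⁄ℤ])
    (Ty : Ω[AdjoinRoot (X ^ p - C b : R[X])⁄R] →ₗ[R] Ω[R⁄ℤ])
    (hTx : ∀ i : ℕ, i + 2 ≤ p →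
      Tx (AdjoinRoot.root (X ^ p - C a) ^ i • KaehlerDifferential.D R _ (AdjoinRoot.root (X ^ p - C a))) = 0)
    (hTx' : Tx (AdjoinRoot.root (X ^ p - C a) ^ (p - 1) • KaehlerDifferential.D R _ (AdjoinRoot.root (X ^ p - C a))) =
      KaehlerDifferential.D ℤ R a)
    (hTy : ∀ i : ℕ, i + 2 ≤ p →
      Ty (AdjoinRoot.root (X ^ p - C b) ^ i • KaehlerDifferential.D R _ (AdjoinRoot.root (X ^ p - C b))) = 0)
    (hTy' : Ty (AdjoinRoot.root (X ^ p - C b) ^ (p - 1) • KaehlerDifferential.D R _ (AdjoinRoot.root (X ^ p - C b))) =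
      KaehlerDifferential.D ℤ R b)
    (s t : AdjoinRoot (X ^ p - C a : R[X])) :
    Tx (s • KaehlerDifferential.D R _ t) = Ty (φ s • KaehlerDifferential.D R _ (φ t)) := by
  classical
  have hp : p.Prime := Fact.out
  obtain ⟨g, hg⟩ := AdjoinRoot.mk_surjective s
  obtain ⟨h, hh⟩ := AdjoinRoot.mk_surjective t
  rw [← AdjoinRoot.aeval_eq] at hg hh
  subst hg hh
  obtain ⟨F, hF⟩ := AdjoinRoot.mk_surjective (φ (AdjoinRoot.root (X ^ p - C a)))
  have hφ : ∀ G : R[X], φ (aeval (AdjoinRoot.root (X ^ p - C a)) G) =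
      aeval (AdjoinRoot.root (X ^ p - C b)) (G.comp F) := by
    intro G
    rw [← aeval_algHom_apply, ← hF, ← AdjoinRoot.aeval_eq, aeval_comp]
  have hdvd : (X ^ p - C b : R[X]) ∣ F ^ p - C a := by
    rw [← AdjoinRoot.mk_eq_mk, map_pow, hF, ← map_pow, root_pow_p, AdjoinRoot.mk_C]
    exact φ.commutes a
  have key_mono : ∀ n : ℕ, Lm p a Tx (X ^ n) = Lm p b Ty (F ^ n * derivative F) := by
    intro n
    by_cases hd : p ∣ n + 1
    · obtain ⟨k, hk⟩ := hd
      obtain ⟨q, rfl⟩ : ∃ q, k = q + 1 := by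
        rcases k with _ | k
        · simp at hk
        · exact ⟨k, rfl⟩
      have hn : n = q * p + (p - 1) := by
        have := hp.pos
        have h2 : n + 1 = q * p + p := by rw [hk]; ring
        generalize q * p = k at h2 ⊢
        omega
      rw [hn, Lm_X_pow_pred p a Tx hTx hTx' q]
      obtain ⟨K, hK⟩ : (X ^ p - C b : R[X]) ∣ (F ^ p) ^ q - (C a) ^ q :=
        dvd_trans hdvd (sub_dvd_pow_sub_pow _ _ q)
      have e : F ^ (q * p + (p - 1)) * derivative F =
          C (a ^ q) * (F ^ (p - 1) * derivative F) +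
            (X ^ p - C b) * (K * (F ^ (p - 1) * derivative F)) := by
        have h3 : (F ^ p) ^ q = C (a ^ q) + (X ^ p - C b) * K := by rw [← hK, C_pow]; ring
        rw [pow_add, mul_comm q p, pow_mul, h3]; ring
      rw [e, map_add, Lm_f_mul, add_zero, ← smul_eq_C_mul, map_smul,
        Lm_cartier p b Ty hTy hTy' hp F a hdvd]
    · rw [Lm_X_pow_of_not_dvd p a Tx hTx hTx' hp n hd]
      obtain ⟨u, hu⟩ : ∃ u : R, u * ((n + 1 : ℕ) : R) = 1 := by
        have hc : Nat.gcd (n + 1) p = 1 :=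
          Nat.Coprime.symm ((Nat.Prime.coprime_iff_not_dvd hp).mpr hd)
        have hb := Nat.gcd_eq_gcd_ab (n + 1) p
        rw [hc] at hb
        have hb' := congrArg (Int.cast : ℤ → R) hb
        push_cast at hb'
        rw [CharP.cast_eq_zero R p, zero_mul, add_zero] at hb'
        exact ⟨((Nat.gcdA (n + 1) p : ℤ) : R), by rw [mul_comm]; push_cast; exact hb'.symm⟩
      have e : derivative (F ^ (n + 1)) = C ((n + 1 : ℕ) : R) * (F ^ n * derivative F) := by
        rw [derivative_pow, Nat.add_sub_cancel, mul_assoc]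
      have h0 := Lm_derivative p b Ty hTy hTy' hp (F ^ (n + 1))
      rw [e, ← smul_eq_C_mul, map_smul] at h0
      calc (0 : Ω[R⁄ℤ]) = u • (((n + 1 : ℕ) : R) • Lm p b Ty (F ^ n * derivative F)) := by
            rw [h0, smul_zero]
        _ = Lm p b Ty (F ^ n * derivative F) := by rw [smul_smul, hu, one_smul]
  have key : ∀ G : R[X], Lm p a Tx G = Lm p b Ty (G.comp F * derivative F) := by
    intro G
    induction G using Polynomial.induction_on' with
    | add f g hf hg => rw [map_add, add_comp, add_mul, map_add, hf, hg]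
    | monomial n r =>
      rw [← C_mul_X_pow_eq_monomial, ← smul_eq_C_mul, map_smul, smul_comp, X_pow_comp,
        smul_mul_assoc, map_smul, key_mono]
  rw [hφ, hφ, Lm_D p a Tx, Lm_D p b Ty, derivative_comp, key, mul_comp]
  congr 1
  ring

end Groth.Agent.S7340
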