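import Groth.Statements.S7341
import Groth.Agent.Lib.Helper11.NumTypeChain

set_option autoImplicit false
open Finset
open Models Models.NumericalType

namespace Groth.Agent.S7341

/-- Classification of proper subgraphs which are chains of three vertices: let T be a numerical type on
n > 3 indices and i, j, k distinct (-2)-indices with a_ij > 0 and a_jk > 0. Then a_ik = 0 and, up to
reversing the order of i, j, k, one of the following holds for some integer w: (A3) w_i = w_j = w_k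
= w, a_ij = a_jk = w, with 2 m_i ≥ m_j, 2 m_j ≥ m_i + m_k, 2 m_k ≥ m_j; (C3) w_i = w_j = w, w_k =
2w, a_ij = w, a_jk = 2w, with 2 m_i ≥ m_j, 2 m_j ≥ m_i + 2 m_k, 2 m_k ≥ m_j; (B3) w_i = w_j = 2w,
w_k = w, a_ij = a_jk = 2w, with 2 m_i ≥ m_j, 2 m_j ≥ m_i + m_k, m_k ≥ m_j. -/
theorem result {n : ℕ} (T : Models.NumericalType n) (hn : 3 < n) (i j k : Fin n)
    (hij : i ≠ j) (hjk : j ≠ k) (hik : i ≠ k) (hi : T.IsMinusTwo i) (hj : T.IsMinusTwo j) (hk : T.IsMinusTwo k)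
    (h1 : 0 < T.a i j) (h2 : 0 < T.a j k) :
    T.a i k = 0 ∧ ∃ (i' k' : Fin n) (w : ℤ), ((i' = i ∧ k' = k) ∨ (i' = k ∧ k' = i)) ∧
      ((T.w i' = w ∧ T.w j = w ∧ T.w k' = w ∧ T.a i' j = w ∧ T.a j k' = w ∧
          T.m j ≤ 2 * T.m i' ∧ T.m i' + T.m k' ≤ 2 * T.m j ∧ T.m j ≤ 2 * T.m k') ∨
        (T.w i' = w ∧ T.w j = w ∧ T.w k' = 2 * w ∧ T.a i' j = w ∧ T.a j k' = 2 * w ∧
          T.m j ≤ 2 * T.m i' ∧ T.m i' + 2 * T.m k' ≤ 2 * T.m j ∧ T.m j ≤ 2 * T.m k') ∨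
        (T.w i' = 2 * w ∧ T.w j = 2 * w ∧ T.w k' = w ∧ T.a i' j = 2 * w ∧ T.a j k' = 2 * w ∧
          T.m j ≤ 2 * T.m i' ∧ T.m i' + T.m k' ≤ 2 * T.m j ∧ T.m j ≤ T.m k')) := by
  let v : Fin 3 ↪ Fin n := ⟨![i, j, k], by
    intro a b hab
    fin_cases a <;> fin_cases b <;> simp_all [eq_comm]⟩
  have hv : ∀ l, T.IsMinusTwo (v l) := by
    intro l; fin_cases l <;> assumption
  have h01 : T.a (v 0) (v 1) ≠ 0 := h1.ne'
  have h12 : T.a (v 1) (v 2) ≠ 0 := h2.ne'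
  have hik0 : T.a i k = 0 := Groth.Agent.Lib.Helper11.no_triangle T v hn hv h01 h12
  have hsum : Groth.Agent.Lib.Helper11.cart T j i * Groth.Agent.Lib.Helper11.cart T i j
      + Groth.Agent.Lib.Helper11.cart T j k * Groth.Agent.Lib.Helper11.cart T k j ≤ 3 :=
    Groth.Agent.Lib.Helper11.chain3 T v hn hv h01 h12
  refine ⟨hik0, ?_⟩
  have px := Groth.Agent.Lib.Helper11.cart_pos T hij h1.ne'
  have px' := Groth.Agent.Lib.Helper11.cart_pos' T hij h1.ne'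
  have py := Groth.Agent.Lib.Helper11.cart_pos T hjk h2.ne'
  have py' := Groth.Agent.Lib.Helper11.cart_pos' T hjk h2.ne'
  have hwij := Groth.Agent.Lib.Helper11.w_cart_symm T i j
  have hwjk := Groth.Agent.Lib.Helper11.w_cart_symm T j k
  have haij := Groth.Agent.Lib.Helper11.w_mul_cart T i j
  have hajk := Groth.Agent.Lib.Helper11.w_mul_cart T j k
  have haji := Groth.Agent.Lib.Helper11.a_symm T j i
  have hakj := Groth.Agent.Lib.Helper11.a_symm T k j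
  have ri := Groth.Agent.Lib.Helper11.row_ineq_cart T hi {j} (by simpa using hij)
  have rj := Groth.Agent.Lib.Helper11.row_ineq_cart T hj {i, k} (by
    simp only [Finset.mem_insert, Finset.mem_singleton, not_or]; exact ⟨hij.symm, hjk⟩)
  have rk := Groth.Agent.Lib.Helper11.row_ineq_cart T hk {j} (by simpa using hjk.symm)
  rw [Finset.sum_singleton] at ri rk
  rw [Finset.sum_pair hik] at rj
  have hwi := T.w_pos i
  have hwj := T.w_pos j
  have hwk := T.w_pos k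
  generalize Groth.Agent.Lib.Helper11.cart T i j = x at *
  generalize Groth.Agent.Lib.Helper11.cart T j i = x' at *
  generalize Groth.Agent.Lib.Helper11.cart T j k = y at *
  generalize Groth.Agent.Lib.Helper11.cart T k j = y' at *
  have hx3 : x ≤ 3 := by nlinarith
  have hx3' : x' ≤ 3 := by nlinarith
  have hy3 : y ≤ 3 := by nlinarith
  have hy3' : y' ≤ 3 := by nlinarith
  interval_cases x <;> interval_cases x' <;> interval_cases y <;> interval_cases y' <;>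
    first
    | omega
    | skip
  · exact ⟨i, k, T.w i, Or.inl ⟨rfl, rfl⟩, Or.inl (by refine ⟨?_, ?_, ?_, ?_, ?_, ?_, ?_, ?_⟩ <;> omega)⟩
  · exact ⟨i, k, T.w k, Or.inl ⟨rfl, rfl⟩, Or.inr (Or.inr (by refine ⟨?_, ?_, ?_, ?_, ?_, ?_, ?_, ?_⟩ <;> omega))⟩
  · exact ⟨i, k, T.w i, Or.inl ⟨rfl, rfl⟩, Or.inr (Or.inl (by refine ⟨?_, ?_, ?_, ?_, ?_, ?_, ?_, ?_⟩ <;> omega))⟩
  · exact ⟨k, i, T.w k, Or.inr ⟨rfl, rfl⟩, Or.inr (Or.inl (by refine ⟨?_, ?_, ?_, ?_, ?_, ?_, ?_, ?_⟩ <;> omega))⟩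
  · exact ⟨k, i, T.w i, Or.inr ⟨rfl, rfl⟩, Or.inr (Or.inr (by refine ⟨?_, ?_, ?_, ?_, ?_, ?_, ?_, ?_⟩ <;> omega))⟩

end Groth.Agent.S7341
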