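import Groth.Statements.S7342
import Groth.Agent.Lib.Helper11.NumTypeCartan

set_option autoImplicit false
open Finset
open Models Models.NumericalType

namespace Groth.Agent.S7342

/-- Let T be a numerical type on n indices, t ≥ 4 and n > t + 2. Then no t + 2 (-2)-indices of T,
pairwise distinct and numbered i_0, …, i_{t+1}, satisfy: a_{i_j i_{j+1}} > 0 for 1 ≤ j ≤ t - 1,
a_{i_0 i_2} > 0 and a_{i_{t-1} i_{t+1}} > 0. -/
theorem result {n : ℕ} (T : Models.NumericalType n) (t : ℕ) (ht : 4 ≤ t) (hn : t + 2 < n)
    (v : Fin (t + 2) ↪ Fin n) (hv : ∀ j, T.IsMinusTwo (v j))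
    (hchain : ∀ j j' : Fin (t + 2), 1 ≤ j.val → j.val + 1 ≤ t → j'.val = j.val + 1 → 0 < T.a (v j) (v j'))
    (h02 : ∀ j j' : Fin (t + 2), j.val = 0 → j'.val = 2 → 0 < T.a (v j) (v j'))
    (hlast : ∀ j j' : Fin (t + 2), j.val = t - 1 → j'.val = t + 1 → 0 < T.a (v j) (v j')) : False := by
  let c : Fin (t + 2) → ℤ := fun j =>
    if j.val = 0 ∨ j.val = 1 ∨ j.val = t ∨ j.val = t + 1 then 1 else 2
  have c1 : ∀ j : Fin (t + 2), (j.val = 0 ∨ j.val = 1 ∨ j.val = t ∨ j.val = t + 1) → c j = 1 :=
    fun j h => if_pos h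
  have c2 : ∀ j : Fin (t + 2), 2 ≤ j.val → j.val < t → c j = 2 := by
    intro j h1 h2
    simp only [c]
    rw [if_neg]
    omega
  have hne : ∀ {a b : ℕ} (ha : a < t + 2) (hb : b < t + 2), a ≠ b →
      (⟨a, ha⟩ : Fin (t + 2)) ≠ ⟨b, hb⟩ := by
    intro a b ha hb h e
    exact h (Fin.mk.inj_iff.1 e)
  refine Groth.Agent.Lib.Helper11.affine_false_list T v hn hv c ?_ ?_ ?_
  · intro j
    simp only [c]
    split_ifs <;> norm_num
  · intro h
    have := congrFun h ⟨0, by omega⟩
    rw [c1 _ (Or.inl rfl)] at this
    simp at this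
  · intro j _
    obtain ⟨jv, hjv⟩ := j
    by_cases h0 : jv = 0
    · subst h0
      refine ⟨[⟨2, by omega⟩], List.nodup_singleton _, ?_, ?_, ?_⟩
      · simp [Fin.ext_iff]
      · intro j' hj'
        rw [List.mem_singleton] at hj'
        subst hj'
        exact Or.inl (h02 _ _ rfl rfl).ne'
      · rw [c1 _ (Or.inl rfl)]
        simp only [List.map_cons, List.map_nil, List.sum_cons, List.sum_nil]
        rw [c2 _ (by simp) (by simp <;> omega)]
        norm_num
    by_cases h1 : jv = 1
    · subst h1
      refine ⟨[⟨2, by omega⟩], List.nodup_singleton _, ?_, ?_, ?_⟩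
      · simp [Fin.ext_iff]
      · intro j' hj'
        rw [List.mem_singleton] at hj'
        subst hj'
        exact Or.inl (hchain _ _ (by simp) (by simp <;> omega) (by simp)).ne'
      · rw [c1 _ (Or.inr (Or.inl rfl))]
        simp only [List.map_cons, List.map_nil, List.sum_cons, List.sum_nil]
        rw [c2 _ (by simp) (by simp <;> omega)]
        norm_num
    by_cases h2 : jv = 2
    · subst h2
      refine ⟨[⟨0, by omega⟩, ⟨1, by omega⟩, ⟨3, by omega⟩], ?_, ?_, ?_, ?_⟩
      · simp [Fin.ext_iff]
      · simp [Fin.ext_iff]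
      · intro j' hj'
        simp only [List.mem_cons, List.not_mem_nil, or_false] at hj'
        rcases hj' with rfl | rfl | rfl
        · exact Or.inr (h02 _ _ rfl rfl).ne'
        · exact Or.inr (hchain _ _ (by simp) (by simp <;> omega) (by simp)).ne'
        · exact Or.inl (hchain _ _ (by simp) (by simp <;> omega) (by simp)).ne'
      · rw [c2 _ (by simp) (by simp <;> omega)]
        simp only [List.map_cons, List.map_nil, List.sum_cons, List.sum_nil]
        rw [c1 _ (Or.inl rfl), c1 _ (Or.inr (Or.inl rfl)), c2 _ (by simp) (by simp <;> omega)]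
        norm_num
    by_cases h3 : jv + 1 < t
    · -- middle vertex 3 ≤ jv ≤ t - 2
      refine ⟨[⟨jv - 1, by omega⟩, ⟨jv + 1, by omega⟩], ?_, ?_, ?_, ?_⟩
      · simp [Fin.ext_iff] <;> omega
      · simp [Fin.ext_iff] <;> omega
      · intro j' hj'
        simp only [List.mem_cons, List.not_mem_nil, or_false] at hj'
        rcases hj' with rfl | rfl
        · exact Or.inr (hchain _ _ (by simp <;> omega) (by simp <;> omega) (by simp <;> omega)).ne'
        · exact Or.inl (hchain _ _ (by simp <;> omega) (by simp <;> omega) (by simp)).ne'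
      · rw [c2 _ (by simp <;> omega) (by simp <;> omega)]
        simp only [List.map_cons, List.map_nil, List.sum_cons, List.sum_nil]
        rw [c2 _ (by simp <;> omega) (by simp <;> omega), c2 _ (by simp <;> omega) (by simp <;> omega)]
        norm_num
    by_cases h4 : jv + 1 = t
    · -- vertex t - 1
      refine ⟨[⟨jv - 1, by omega⟩, ⟨jv + 1, by omega⟩, ⟨jv + 2, by omega⟩], ?_, ?_, ?_, ?_⟩
      · simp [Fin.ext_iff] <;> omega
      · simp [Fin.ext_iff] <;> omega
      · intro j' hj'
        simp only [List.mem_cons, List.not_mem_nil, or_false] at hj'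
        rcases hj' with rfl | rfl | rfl
        · exact Or.inr (hchain _ _ (by simp <;> omega) (by simp <;> omega) (by simp <;> omega)).ne'
        · exact Or.inl (hchain _ _ (by simp <;> omega) (by simp <;> omega) (by simp)).ne'
        · exact Or.inl (hlast _ _ (by simp <;> omega) (by simp <;> omega)).ne'
      · rw [c2 _ (by simp <;> omega) (by simp <;> omega)]
        simp only [List.map_cons, List.map_nil, List.sum_cons, List.sum_nil]
        rw [c2 _ (by simp <;> omega) (by simp <;> omega), c1 _ (Or.inr (Or.inr (Or.inl (by simp <;> omega)))),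
          c1 _ (Or.inr (Or.inr (Or.inr (by simp <;> omega))))]
        norm_num
    by_cases h5 : jv = t
    · refine ⟨[⟨jv - 1, by omega⟩], List.nodup_singleton _, ?_, ?_, ?_⟩
      · simp [Fin.ext_iff] <;> omega
      · intro j' hj'
        rw [List.mem_singleton] at hj'
        subst hj'
        exact Or.inr (hchain _ _ (by simp <;> omega) (by simp <;> omega) (by simp <;> omega)).ne'
      · rw [c1 _ (Or.inr (Or.inr (Or.inl h5)))]
        simp only [List.map_cons, List.map_nil, List.sum_cons, List.sum_nil]
        rw [c2 _ (by simp <;> omega) (by simp <;> omega)]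
        norm_num
    · have h6 : jv = t + 1 := by omega
      refine ⟨[⟨jv - 2, by omega⟩], List.nodup_singleton _, ?_, ?_, ?_⟩
      · simp [Fin.ext_iff] <;> omega
      · intro j' hj'
        rw [List.mem_singleton] at hj'
        subst hj'
        exact Or.inr (hlast _ _ (by simp <;> omega) (by simp <;> omega)).ne'
      · rw [c1 _ (Or.inr (Or.inr (Or.inr h6)))]
        simp only [List.map_cons, List.map_nil, List.sum_cons, List.sum_nil]
        rw [c2 _ (by simp <;> omega) (by simp <;> omega)]
        norm_num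

end Groth.Agent.S7342
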