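import Groth.Statements.S7346
import Groth.Agent.Lib.Helper11.NumTypeChain

set_option autoImplicit false
open Finset
open Models Models.NumericalType

namespace Groth.Agent.S7346

/-- Classification of proper subgraphs of type D4 (one vertex joined to three others): let T be a
numerical type on n > 4 indices and i_1, …, i_4 distinct (-2)-indices with a_{12}, a_{13}, a_{14}
nonzero. Then for some integer w all w_{i_j} equal w, these intersection numbers equal w, all other
a_{i_j i_k} (j ≠ k) vanish, and 2 m_1 ≥ m_2 + m_3 + m_4, 2 m_2 ≥ m_1, 2 m_3 ≥ m_1, 2 m_4 ≥ m_1. -/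
theorem result {n : ℕ} (T : Models.NumericalType n) (hn : 4 < n)
    (v : Fin 4 ↪ Fin n) (hv : ∀ j, T.IsMinusTwo (v j)) (h01 : T.a (v 0) (v 1) ≠ 0) (h02 : T.a (v 0) (v 2) ≠ 0) (h03 : T.a (v 0) (v 3) ≠ 0) :
    ∃ w : ℤ, (∀ j : Fin 4, T.w (v j) = w) ∧
      T.a (v 0) (v 1) = w ∧
      T.a (v 0) (v 2) = w ∧
      T.a (v 0) (v 3) = w ∧
      T.a (v 1) (v 2) = 0 ∧
      T.a (v 1) (v 3) = 0 ∧
      T.a (v 2) (v 3) = 0 ∧
      T.m (v 1) + T.m (v 2) + T.m (v 3) ≤ 2 * T.m (v 0) ∧
      T.m (v 0) ≤ 2 * T.m (v 1) ∧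
      T.m (v 0) ≤ 2 * T.m (v 2) ∧
      T.m (v 0) ≤ 2 * T.m (v 3) := by
  have hstar := Groth.Agent.Lib.Helper11.star3 T v hn hv h01 h02 h03
  have n01 : v 0 ≠ v 1 := v.injective.ne (by decide)
  have n02 : v 0 ≠ v 2 := v.injective.ne (by decide)
  have n03 : v 0 ≠ v 3 := v.injective.ne (by decide)
  have p1 := Groth.Agent.Lib.Helper11.cart_pos T n01 h01
  have p1' := Groth.Agent.Lib.Helper11.cart_pos' T n01 h01
  have p2 := Groth.Agent.Lib.Helper11.cart_pos T n02 h02
  have p2' := Groth.Agent.Lib.Helper11.cart_pos' T n02 h02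
  have p3 := Groth.Agent.Lib.Helper11.cart_pos T n03 h03
  have p3' := Groth.Agent.Lib.Helper11.cart_pos' T n03 h03
  have t12 : T.a (v 1) (v 2) = 0 := by
    have := Groth.Agent.Lib.Helper11.no_triangle T
      (Groth.Agent.Lib.Helper11.subEmb v ![1, 0, 2] (by decide)) (by omega)
      (by intro l; exact hv _)
      (by simpa [Groth.Agent.Lib.Helper11.a_symm T (v 1) (v 0)] using h01) (by simpa using h02)
    simpa using this
  have t13 : T.a (v 1) (v 3) = 0 := by
    have := Groth.Agent.Lib.Helper11.no_triangle T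
      (Groth.Agent.Lib.Helper11.subEmb v ![1, 0, 3] (by decide)) (by omega)
      (by intro l; exact hv _)
      (by simpa [Groth.Agent.Lib.Helper11.a_symm T (v 1) (v 0)] using h01) (by simpa using h03)
    simpa using this
  have t23 : T.a (v 2) (v 3) = 0 := by
    have := Groth.Agent.Lib.Helper11.no_triangle T
      (Groth.Agent.Lib.Helper11.subEmb v ![2, 0, 3] (by decide)) (by omega)
      (by intro l; exact hv _)
      (by simpa [Groth.Agent.Lib.Helper11.a_symm T (v 2) (v 0)] using h02) (by simpa using h03)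
    simpa using this
  have hw1 := Groth.Agent.Lib.Helper11.w_cart_symm T (v 0) (v 1)
  have hw2 := Groth.Agent.Lib.Helper11.w_cart_symm T (v 0) (v 2)
  have hw3 := Groth.Agent.Lib.Helper11.w_cart_symm T (v 0) (v 3)
  have ha1 := Groth.Agent.Lib.Helper11.w_mul_cart T (v 0) (v 1)
  have ha2 := Groth.Agent.Lib.Helper11.w_mul_cart T (v 0) (v 2)
  have ha3 := Groth.Agent.Lib.Helper11.w_mul_cart T (v 0) (v 3)
  have r0 := Groth.Agent.Lib.Helper11.row_ineq_sub T v hv 0 {1, 2, 3} (by decide)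
  have r1 := Groth.Agent.Lib.Helper11.row_ineq_sub T v hv 1 {0} (by decide)
  have r2 := Groth.Agent.Lib.Helper11.row_ineq_sub T v hv 2 {0} (by decide)
  have r3 := Groth.Agent.Lib.Helper11.row_ineq_sub T v hv 3 {0} (by decide)
  simp only [Finset.sum_singleton] at r1 r2 r3
  rw [Finset.sum_insert (by decide), Finset.sum_insert (by decide), Finset.sum_singleton] at r0
  generalize Groth.Agent.Lib.Helper11.cart T (v 0) (v 1) = x1 at *
  generalize Groth.Agent.Lib.Helper11.cart T (v 1) (v 0) = x1' at *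
  generalize Groth.Agent.Lib.Helper11.cart T (v 0) (v 2) = x2 at *
  generalize Groth.Agent.Lib.Helper11.cart T (v 2) (v 0) = x2' at *
  generalize Groth.Agent.Lib.Helper11.cart T (v 0) (v 3) = x3 at *
  generalize Groth.Agent.Lib.Helper11.cart T (v 3) (v 0) = x3' at *
  have q1 := Groth.Agent.Lib.Helper11.one_le_prod p1 p1'
  have q2 := Groth.Agent.Lib.Helper11.one_le_prod p2 p2'
  have q3 := Groth.Agent.Lib.Helper11.one_le_prod p3 p3'
  have e1 := Groth.Agent.Lib.Helper11.eq_one_of_prod_le_one p1 p1' (by linarith)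
  have e2 := Groth.Agent.Lib.Helper11.eq_one_of_prod_le_one p2 p2' (by linarith)
  have e3 := Groth.Agent.Lib.Helper11.eq_one_of_prod_le_one p3 p3' (by linarith)
  obtain ⟨rfl, rfl⟩ := e1
  obtain ⟨rfl, rfl⟩ := e2
  obtain ⟨rfl, rfl⟩ := e3
  refine ⟨T.w (v 0), ?_, by omega, by omega, by omega, t12, t13, t23, by omega, by omega, by omega,
    by omega⟩
  intro j
  fin_cases j
  · rfl
  · show T.w (v 1) = T.w (v 0); omega
  · show T.w (v 2) = T.w (v 0); omega
  · show T.w (v 3) = T.w (v 0); omega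

end Groth.Agent.S7346
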