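import Groth.Statements.S7347
import Groth.Agent.Lib.Helper11.NumTypeLong

set_option autoImplicit false
open Finset
open Models Models.NumericalType

namespace Groth.Agent.S7347

/-- Classification of proper subgraphs of type D5 (a chain i_1 i_2 i_3 with i_4 and i_5 both joined to
i_3): let T be a numerical type on n > 5 indices and i_1, …, i_5 distinct (-2)-indices with a_{12},
a_{23}, a_{34}, a_{35} nonzero. Then for some integer w all w_{i_j} equal w, these intersection
numbers equal w, all other a_{i_j i_k} (j ≠ k) vanish, and 2 m_1 ≥ m_2, 2 m_2 ≥ m_1 + m_3, 2 m_3 ≥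
m_2 + m_4 + m_5, 2 m_4 ≥ m_3, 2 m_5 ≥ m_3. -/
theorem result {n : ℕ} (T : Models.NumericalType n) (hn : 5 < n)
    (v : Fin 5 ↪ Fin n) (hv : ∀ j, T.IsMinusTwo (v j)) (h01 : T.a (v 0) (v 1) ≠ 0) (h12 : T.a (v 1) (v 2) ≠ 0) (h23 : T.a (v 2) (v 3) ≠ 0) (h24 : T.a (v 2) (v 4) ≠ 0) :
    ∃ w : ℤ, (∀ j : Fin 5, T.w (v j) = w) ∧
      T.a (v 0) (v 1) = w ∧
      T.a (v 1) (v 2) = w ∧
      T.a (v 2) (v 3) = w ∧
      T.a (v 2) (v 4) = w ∧
      T.a (v 0) (v 2) = 0 ∧
      T.a (v 0) (v 3) = 0 ∧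
      T.a (v 0) (v 4) = 0 ∧
      T.a (v 1) (v 3) = 0 ∧
      T.a (v 1) (v 4) = 0 ∧
      T.a (v 3) (v 4) = 0 ∧
      T.m (v 1) ≤ 2 * T.m (v 0) ∧
      T.m (v 0) + T.m (v 2) ≤ 2 * T.m (v 1) ∧
      T.m (v 1) + T.m (v 3) + T.m (v 4) ≤ 2 * T.m (v 2) ∧
      T.m (v 2) ≤ 2 * T.m (v 3) ∧
      T.m (v 2) ≤ 2 * T.m (v 4) := by
  have n01 : v 0 ≠ v 1 := v.injective.ne (by decide)
  have n12 : v 1 ≠ v 2 := v.injective.ne (by decide)
  have n23 : v 2 ≠ v 3 := v.injective.ne (by decide)
  have n24 : v 2 ≠ v 4 := v.injective.ne (by decide)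
  obtain ⟨p01, p10⟩ := Groth.Agent.Lib.Helper11.cart_pos_both T n01 h01
  obtain ⟨p12, p21⟩ := Groth.Agent.Lib.Helper11.cart_pos_both T n12 h12
  obtain ⟨p23, p32⟩ := Groth.Agent.Lib.Helper11.cart_pos_both T n23 h23
  obtain ⟨p24, p42⟩ := Groth.Agent.Lib.Helper11.cart_pos_both T n24 h24
  have k01 : Groth.Agent.Lib.Helper11.cart T (v 0) (v 1) ≤ 1 := by
    by_contra hcon
    push Not at hcon
    delta_num T v hn hv ![2, 2, 2, 1, 1] ![{1}, {0, 2}, {1, 3, 4}, {2}, {2}] 0
  have k10 : Groth.Agent.Lib.Helper11.cart T (v 1) (v 0) ≤ 1 := by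
    by_contra hcon
    push Not at hcon
    delta_num T v hn hv ![1, 2, 2, 1, 1] ![{1}, {0, 2}, {1, 3, 4}, {2}, {2}] 0
  have hstar := Groth.Agent.Lib.Helper11.star3 T (Groth.Agent.Lib.Helper11.subEmb v ![2, 1, 3, 4] (by decide)) (by omega)
    (by intro l; exact hv _) (by simpa [Groth.Agent.Lib.Helper11.a_symm T (v 2) (v 1)] using h12)
    (by simpa using h23) (by simpa using h24)
  simp only [Groth.Agent.Lib.Helper11.subEmb_apply, Matrix.cons_val_zero, Matrix.cons_val_one,
    Matrix.cons_val] at hstar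
  have t02 : T.a (v 0) (v 2) = 0 := (by
    have := Groth.Agent.Lib.Helper11.no_triangle T (Groth.Agent.Lib.Helper11.subEmb v ![0, 1, 2] (by decide)) (by omega)
      (by intro l; exact hv _) (by simpa [Groth.Agent.Lib.Helper11.a_symm T (v 0) (v 1)] using h01)
      (by simpa [Groth.Agent.Lib.Helper11.a_symm T (v 1) (v 2)] using h12)
    simpa using this)
  have t13 : T.a (v 1) (v 3) = 0 := (by
    have := Groth.Agent.Lib.Helper11.no_triangle T (Groth.Agent.Lib.Helper11.subEmb v ![1, 2, 3] (by decide)) (by omega)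
      (by intro l; exact hv _) (by simpa [Groth.Agent.Lib.Helper11.a_symm T (v 1) (v 2)] using h12)
      (by simpa [Groth.Agent.Lib.Helper11.a_symm T (v 2) (v 3)] using h23)
    simpa using this)
  have t14 : T.a (v 1) (v 4) = 0 := (by
    have := Groth.Agent.Lib.Helper11.no_triangle T (Groth.Agent.Lib.Helper11.subEmb v ![1, 2, 4] (by decide)) (by omega)
      (by intro l; exact hv _) (by simpa [Groth.Agent.Lib.Helper11.a_symm T (v 1) (v 2)] using h12)
      (by simpa [Groth.Agent.Lib.Helper11.a_symm T (v 2) (v 4)] using h24)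
    simpa using this)
  have t34 : T.a (v 3) (v 4) = 0 := (by
    have := Groth.Agent.Lib.Helper11.no_triangle T (Groth.Agent.Lib.Helper11.subEmb v ![3, 2, 4] (by decide)) (by omega)
      (by intro l; exact hv _) (by simpa [Groth.Agent.Lib.Helper11.a_symm T (v 3) (v 2)] using h23)
      (by simpa [Groth.Agent.Lib.Helper11.a_symm T (v 2) (v 4)] using h24)
    simpa using this)
  have t03 : T.a (v 0) (v 3) = 0 := (by
    have := Groth.Agent.Lib.Helper11.no_square T (Groth.Agent.Lib.Helper11.subEmb v ![0, 1, 2, 3] (by decide)) (by omega)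
      (by intro l; exact hv _) (by simpa [Groth.Agent.Lib.Helper11.a_symm T (v 0) (v 1)] using h01)
      (by simpa [Groth.Agent.Lib.Helper11.a_symm T (v 1) (v 2)] using h12)
      (by simpa [Groth.Agent.Lib.Helper11.a_symm T (v 2) (v 3)] using h23)
    simpa using this)
  have t04 : T.a (v 0) (v 4) = 0 := (by
    have := Groth.Agent.Lib.Helper11.no_square T (Groth.Agent.Lib.Helper11.subEmb v ![0, 1, 2, 4] (by decide)) (by omega)
      (by intro l; exact hv _) (by simpa [Groth.Agent.Lib.Helper11.a_symm T (v 0) (v 1)] using h01)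
      (by simpa [Groth.Agent.Lib.Helper11.a_symm T (v 1) (v 2)] using h12)
      (by simpa [Groth.Agent.Lib.Helper11.a_symm T (v 2) (v 4)] using h24)
    simpa using this)
  have hw01 := Groth.Agent.Lib.Helper11.w_cart_symm T (v 0) (v 1)
  have hw12 := Groth.Agent.Lib.Helper11.w_cart_symm T (v 1) (v 2)
  have hw23 := Groth.Agent.Lib.Helper11.w_cart_symm T (v 2) (v 3)
  have hw24 := Groth.Agent.Lib.Helper11.w_cart_symm T (v 2) (v 4)
  have ha01 := Groth.Agent.Lib.Helper11.w_mul_cart T (v 0) (v 1)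
  have ha12 := Groth.Agent.Lib.Helper11.w_mul_cart T (v 1) (v 2)
  have ha23 := Groth.Agent.Lib.Helper11.w_mul_cart T (v 2) (v 3)
  have ha24 := Groth.Agent.Lib.Helper11.w_mul_cart T (v 2) (v 4)
  have r0 := Groth.Agent.Lib.Helper11.row_ineq_sub T v hv 0 {1} (by decide)
  have r1 := Groth.Agent.Lib.Helper11.row_ineq_sub T v hv 1 {0, 2} (by decide)
  have r2 := Groth.Agent.Lib.Helper11.row_ineq_sub T v hv 2 {1, 3, 4} (by decide)
  have r3 := Groth.Agent.Lib.Helper11.row_ineq_sub T v hv 3 {2} (by decide)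
  have r4 := Groth.Agent.Lib.Helper11.row_ineq_sub T v hv 4 {2} (by decide)
  simp only [Finset.sum_singleton] at r0 r3 r4
  rw [Finset.sum_insert (by decide), Finset.sum_singleton] at r1
  rw [Finset.sum_insert (by decide), Finset.sum_insert (by decide), Finset.sum_singleton] at r2
  have q21 := Groth.Agent.Lib.Helper11.one_le_prod p21 p12
  have q23 := Groth.Agent.Lib.Helper11.one_le_prod p23 p32
  have q24 := Groth.Agent.Lib.Helper11.one_le_prod p24 p42
  obtain ⟨e21, e12⟩ := Groth.Agent.Lib.Helper11.eq_one_of_prod_le_one p21 p12 (by linarith)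
  obtain ⟨e23, e32⟩ := Groth.Agent.Lib.Helper11.eq_one_of_prod_le_one p23 p32 (by linarith)
  obtain ⟨e24, e42⟩ := Groth.Agent.Lib.Helper11.eq_one_of_prod_le_one p24 p42 (by linarith)
  have e01 : Groth.Agent.Lib.Helper11.cart T (v 0) (v 1) = 1 := by omega
  have e10 : Groth.Agent.Lib.Helper11.cart T (v 1) (v 0) = 1 := by omega
  simp only [e01, e10, e12, e21, e23, e32, e24, e42] at hw01 hw12 hw23 hw24 ha01 ha12 ha23 ha24 r0 r1 r2 r3 r4
  refine ⟨T.w (v 0), ?_, by omega, by omega, by omega, by omega, t02, t03, t04, t13, t14, t34,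
    by omega, by omega, by omega, by omega, by omega⟩
  intro j
  fin_cases j
  · rfl
  · show T.w (v 1) = T.w (v 0); omega
  · show T.w (v 2) = T.w (v 0); omega
  · show T.w (v 3) = T.w (v 0); omega
  · show T.w (v 4) = T.w (v 0); omega

end Groth.Agent.S7347
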