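import Groth.Statements.S7348
import Groth.Agent.Lib.Helper11.NumTypeLong

set_option autoImplicit false
open Finset
open Models Models.NumericalType

namespace Groth.Agent.S7348

set_option maxHeartbeats 4000000 in
/-- Classification of proper subgraphs of type E6 (a chain i_1 … i_5 with i_6 joined to i_3): let T be a
numerical type on n > 6 indices and i_1, …, i_6 distinct (-2)-indices with a_{12}, a_{23}, a_{34},
a_{45}, a_{36} nonzero. Then for some integer w all w_{i_j} equal w, these intersection numbers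
equal w, all other a_{i_j i_k} (j ≠ k) vanish, and 2 m_1 ≥ m_2, 2 m_2 ≥ m_1 + m_3, 2 m_3 ≥ m_2 + m_4
+ m_6, 2 m_4 ≥ m_3 + m_5, 2 m_5 ≥ m_4, 2 m_6 ≥ m_3. (The published list of inequalities has 2 m_5 ≥
m_3 where the intersection matrix gives 2 m_5 ≥ m_4; the former fails for the extended E8
configuration of multiplicities 4, 5, 6, 4, 2 with 3 attached to the third vertex, so 2 m_5 ≥ m_4 is
stated.) -/
theorem result {n : ℕ} (T : Models.NumericalType n) (hn : 6 < n)
    (v : Fin 6 ↪ Fin n) (hv : ∀ j, T.IsMinusTwo (v j)) (h01 : T.a (v 0) (v 1) ≠ 0) (h12 : T.a (v 1) (v 2) ≠ 0) (h23 : T.a (v 2) (v 3) ≠ 0) (h34 : T.a (v 3) (v 4) ≠ 0) (h25 : T.a (v 2) (v 5) ≠ 0) :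
    ∃ w : ℤ, (∀ j : Fin 6, T.w (v j) = w) ∧
      T.a (v 0) (v 1) = w ∧
      T.a (v 1) (v 2) = w ∧
      T.a (v 2) (v 3) = w ∧
      T.a (v 3) (v 4) = w ∧
      T.a (v 2) (v 5) = w ∧
      T.a (v 0) (v 2) = 0 ∧
      T.a (v 0) (v 3) = 0 ∧
      T.a (v 0) (v 4) = 0 ∧
      T.a (v 0) (v 5) = 0 ∧
      T.a (v 1) (v 3) = 0 ∧
      T.a (v 1) (v 4) = 0 ∧
      T.a (v 1) (v 5) = 0 ∧
      T.a (v 2) (v 4) = 0 ∧
      T.a (v 3) (v 5) = 0 ∧
      T.a (v 4) (v 5) = 0 ∧
      T.m (v 1) ≤ 2 * T.m (v 0) ∧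
      T.m (v 0) + T.m (v 2) ≤ 2 * T.m (v 1) ∧
      T.m (v 1) + T.m (v 3) + T.m (v 5) ≤ 2 * T.m (v 2) ∧
      T.m (v 2) + T.m (v 4) ≤ 2 * T.m (v 3) ∧
      T.m (v 3) ≤ 2 * T.m (v 4) ∧
      T.m (v 2) ≤ 2 * T.m (v 5) := by
  have n01 : v 0 ≠ v 1 := v.injective.ne (by decide)
  obtain ⟨p01, p10⟩ := Groth.Agent.Lib.Helper11.cart_pos_both T n01 h01
  have n12 : v 1 ≠ v 2 := v.injective.ne (by decide)
  obtain ⟨p12, p21⟩ := Groth.Agent.Lib.Helper11.cart_pos_both T n12 h12
  have n23 : v 2 ≠ v 3 := v.injective.ne (by decide)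
  obtain ⟨p23, p32⟩ := Groth.Agent.Lib.Helper11.cart_pos_both T n23 h23
  have n34 : v 3 ≠ v 4 := v.injective.ne (by decide)
  obtain ⟨p34, p43⟩ := Groth.Agent.Lib.Helper11.cart_pos_both T n34 h34
  have n25 : v 2 ≠ v 5 := v.injective.ne (by decide)
  obtain ⟨p25, p52⟩ := Groth.Agent.Lib.Helper11.cart_pos_both T n25 h25
  have hstar := Groth.Agent.Lib.Helper11.star3 T (Groth.Agent.Lib.Helper11.subEmb v ![2, 1, 3, 5] (by decide)) (by omega)
    (by intro l; exact hv _) (by simpa [Groth.Agent.Lib.Helper11.a_symm T (v 2) (v 1)] using h12) (by simpa [Groth.Agent.Lib.Helper11.a_symm T (v 2) (v 3)] using h23) (by simpa [Groth.Agent.Lib.Helper11.a_symm T (v 2) (v 5)] using h25)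
  simp only [Groth.Agent.Lib.Helper11.subEmb_apply, Matrix.cons_val_zero, Matrix.cons_val_one, Matrix.cons_val] at hstar
  have q21 := Groth.Agent.Lib.Helper11.one_le_prod p21 p12
  have q23 := Groth.Agent.Lib.Helper11.one_le_prod p23 p32
  have q25 := Groth.Agent.Lib.Helper11.one_le_prod p25 p52
  obtain ⟨e21, e12⟩ := Groth.Agent.Lib.Helper11.eq_one_of_prod_le_one p21 p12 (by linarith)
  obtain ⟨e23, e32⟩ := Groth.Agent.Lib.Helper11.eq_one_of_prod_le_one p23 p32 (by linarith)
  obtain ⟨e25, e52⟩ := Groth.Agent.Lib.Helper11.eq_one_of_prod_le_one p25 p52 (by linarith)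
  have k01 : Groth.Agent.Lib.Helper11.cart T (v 0) (v 1) ≤ 1 := by
    by_contra hcon
    push Not at hcon
    delta_num T v hn hv ![2, 2, 2, 1, 0, 1] ![{1}, {0, 2}, {1, 3, 5}, {2}, ∅, {2}] 2
  have k10 : Groth.Agent.Lib.Helper11.cart T (v 1) (v 0) ≤ 1 := by
    by_contra hcon
    push Not at hcon
    delta_num T v hn hv ![1, 2, 2, 1, 0, 1] ![{1}, {0, 2}, {1, 3, 5}, {2}, ∅, {2}] 2
  have e10 : Groth.Agent.Lib.Helper11.cart T (v 1) (v 0) = 1 := by omega
  have e01 : Groth.Agent.Lib.Helper11.cart T (v 0) (v 1) = 1 := by omega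
  have k43 : Groth.Agent.Lib.Helper11.cart T (v 4) (v 3) ≤ 1 := by
    by_contra hcon
    push Not at hcon
    delta_num T v hn hv ![0, 1, 2, 2, 2, 1] ![∅, {2}, {1, 3, 5}, {2, 4}, {3}, {2}] 2
  have k34 : Groth.Agent.Lib.Helper11.cart T (v 3) (v 4) ≤ 1 := by
    by_contra hcon
    push Not at hcon
    delta_num T v hn hv ![0, 1, 2, 2, 1, 1] ![∅, {2}, {1, 3, 5}, {2, 4}, {3}, {2}] 2
  have e34 : Groth.Agent.Lib.Helper11.cart T (v 3) (v 4) = 1 := by omega
  have e43 : Groth.Agent.Lib.Helper11.cart T (v 4) (v 3) = 1 := by omega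
  have t02 : T.a (v 0) (v 2) = 0 := by
    by_contra hne
    refine Groth.Agent.Lib.Helper11.affine_false T v hn hv ![1, 1, 1, 0, 0, 0] ?_ ?_ ![{2, 1}, {0, 2}, {1, 0}, ∅, ∅, ∅] ?_ ?_ ?_
    · intro j; fin_cases j <;> simp
    · intro h; have := congrFun h 0; simp at this
    · intro j; fin_cases j <;> simp
    · intro j hj; fin_cases j <;> first | (exfalso; simp at hj; done) | (simp; tauto)
    · intro j hj; fin_cases j <;> first | (exfalso; simp at hj; done) | simp [Finset.sum_insert]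
  have t03 : T.a (v 0) (v 3) = 0 := by
    by_contra hne
    refine Groth.Agent.Lib.Helper11.affine_false T v hn hv ![1, 1, 1, 1, 0, 0] ?_ ?_ ![{3, 1}, {0, 2}, {1, 3}, {2, 0}, ∅, ∅] ?_ ?_ ?_
    · intro j; fin_cases j <;> simp
    · intro h; have := congrFun h 0; simp at this
    · intro j; fin_cases j <;> simp
    · intro j hj; fin_cases j <;> first | (exfalso; simp at hj; done) | (simp; tauto)
    · intro j hj; fin_cases j <;> first | (exfalso; simp at hj; done) | simp [Finset.sum_insert]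
  have t04 : T.a (v 0) (v 4) = 0 := by
    by_contra hne
    refine Groth.Agent.Lib.Helper11.affine_false T v hn hv ![1, 1, 1, 1, 1, 0] ?_ ?_ ![{4, 1}, {0, 2}, {1, 3}, {2, 4}, {3, 0}, ∅] ?_ ?_ ?_
    · intro j; fin_cases j <;> simp
    · intro h; have := congrFun h 0; simp at this
    · intro j; fin_cases j <;> simp
    · intro j hj; fin_cases j <;> first | (exfalso; simp at hj; done) | (simp; tauto)
    · intro j hj; fin_cases j <;> first | (exfalso; simp at hj; done) | simp [Finset.sum_insert]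
  have t05 : T.a (v 0) (v 5) = 0 := by
    by_contra hne
    refine Groth.Agent.Lib.Helper11.affine_false T v hn hv ![1, 1, 1, 0, 0, 1] ?_ ?_ ![{5, 1}, {0, 2}, {1, 5}, ∅, ∅, {2, 0}] ?_ ?_ ?_
    · intro j; fin_cases j <;> simp
    · intro h; have := congrFun h 0; simp at this
    · intro j; fin_cases j <;> simp
    · intro j hj; fin_cases j <;> first | (exfalso; simp at hj; done) | (simp; tauto)
    · intro j hj; fin_cases j <;> first | (exfalso; simp at hj; done) | simp [Finset.sum_insert]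
  have t13 : T.a (v 1) (v 3) = 0 := by
    by_contra hne
    refine Groth.Agent.Lib.Helper11.affine_false T v hn hv ![0, 1, 1, 1, 0, 0] ?_ ?_ ![∅, {3, 2}, {1, 3}, {2, 1}, ∅, ∅] ?_ ?_ ?_
    · intro j; fin_cases j <;> simp
    · intro h; have := congrFun h 1; simp at this
    · intro j; fin_cases j <;> simp
    · intro j hj; fin_cases j <;> first | (exfalso; simp at hj; done) | (simp; tauto)
    · intro j hj; fin_cases j <;> first | (exfalso; simp at hj; done) | simp [Finset.sum_insert]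
  have t14 : T.a (v 1) (v 4) = 0 := by
    by_contra hne
    refine Groth.Agent.Lib.Helper11.affine_false T v hn hv ![0, 1, 1, 1, 1, 0] ?_ ?_ ![∅, {4, 2}, {1, 3}, {2, 4}, {3, 1}, ∅] ?_ ?_ ?_
    · intro j; fin_cases j <;> simp
    · intro h; have := congrFun h 1; simp at this
    · intro j; fin_cases j <;> simp
    · intro j hj; fin_cases j <;> first | (exfalso; simp at hj; done) | (simp; tauto)
    · intro j hj; fin_cases j <;> first | (exfalso; simp at hj; done) | simp [Finset.sum_insert]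
  have t15 : T.a (v 1) (v 5) = 0 := by
    by_contra hne
    refine Groth.Agent.Lib.Helper11.affine_false T v hn hv ![0, 1, 1, 0, 0, 1] ?_ ?_ ![∅, {5, 2}, {1, 5}, ∅, ∅, {2, 1}] ?_ ?_ ?_
    · intro j; fin_cases j <;> simp
    · intro h; have := congrFun h 1; simp at this
    · intro j; fin_cases j <;> simp
    · intro j hj; fin_cases j <;> first | (exfalso; simp at hj; done) | (simp; tauto)
    · intro j hj; fin_cases j <;> first | (exfalso; simp at hj; done) | simp [Finset.sum_insert]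
  have t24 : T.a (v 2) (v 4) = 0 := by
    by_contra hne
    refine Groth.Agent.Lib.Helper11.affine_false T v hn hv ![0, 0, 1, 1, 1, 0] ?_ ?_ ![∅, ∅, {4, 3}, {2, 4}, {3, 2}, ∅] ?_ ?_ ?_
    · intro j; fin_cases j <;> simp
    · intro h; have := congrFun h 2; simp at this
    · intro j; fin_cases j <;> simp
    · intro j hj; fin_cases j <;> first | (exfalso; simp at hj; done) | (simp; tauto)
    · intro j hj; fin_cases j <;> first | (exfalso; simp at hj; done) | simp [Finset.sum_insert]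
  have t35 : T.a (v 3) (v 5) = 0 := by
    by_contra hne
    refine Groth.Agent.Lib.Helper11.affine_false T v hn hv ![0, 0, 1, 1, 0, 1] ?_ ?_ ![∅, ∅, {3, 5}, {5, 2}, ∅, {2, 3}] ?_ ?_ ?_
    · intro j; fin_cases j <;> simp
    · intro h; have := congrFun h 3; simp at this
    · intro j; fin_cases j <;> simp
    · intro j hj; fin_cases j <;> first | (exfalso; simp at hj; done) | (simp; tauto)
    · intro j hj; fin_cases j <;> first | (exfalso; simp at hj; done) | simp [Finset.sum_insert]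
  have t45 : T.a (v 4) (v 5) = 0 := by
    by_contra hne
    refine Groth.Agent.Lib.Helper11.affine_false T v hn hv ![0, 0, 1, 1, 1, 1] ?_ ?_ ![∅, ∅, {3, 5}, {4, 2}, {5, 3}, {2, 4}] ?_ ?_ ?_
    · intro j; fin_cases j <;> simp
    · intro h; have := congrFun h 4; simp at this
    · intro j; fin_cases j <;> simp
    · intro j hj; fin_cases j <;> first | (exfalso; simp at hj; done) | (simp; tauto)
    · intro j hj; fin_cases j <;> first | (exfalso; simp at hj; done) | simp [Finset.sum_insert]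
  have hw01 := Groth.Agent.Lib.Helper11.w_cart_symm T (v 0) (v 1)
  have ha01 := Groth.Agent.Lib.Helper11.w_mul_cart T (v 0) (v 1)
  have hw12 := Groth.Agent.Lib.Helper11.w_cart_symm T (v 1) (v 2)
  have ha12 := Groth.Agent.Lib.Helper11.w_mul_cart T (v 1) (v 2)
  have hw23 := Groth.Agent.Lib.Helper11.w_cart_symm T (v 2) (v 3)
  have ha23 := Groth.Agent.Lib.Helper11.w_mul_cart T (v 2) (v 3)
  have hw34 := Groth.Agent.Lib.Helper11.w_cart_symm T (v 3) (v 4)
  have ha34 := Groth.Agent.Lib.Helper11.w_mul_cart T (v 3) (v 4)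
  have hw25 := Groth.Agent.Lib.Helper11.w_cart_symm T (v 2) (v 5)
  have ha25 := Groth.Agent.Lib.Helper11.w_mul_cart T (v 2) (v 5)
  have r0 := Groth.Agent.Lib.Helper11.row_ineq_sub T v hv 0 {1} (by decide)
  rw [Finset.sum_singleton] at r0
  have r1 := Groth.Agent.Lib.Helper11.row_ineq_sub T v hv 1 {0, 2} (by decide)
  rw [Finset.sum_insert (by decide), Finset.sum_singleton] at r1
  have r2 := Groth.Agent.Lib.Helper11.row_ineq_sub T v hv 2 {1, 3, 5} (by decide)
  rw [Finset.sum_insert (by decide), Finset.sum_insert (by decide), Finset.sum_singleton] at r2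
  have r3 := Groth.Agent.Lib.Helper11.row_ineq_sub T v hv 3 {2, 4} (by decide)
  rw [Finset.sum_insert (by decide), Finset.sum_singleton] at r3
  have r4 := Groth.Agent.Lib.Helper11.row_ineq_sub T v hv 4 {3} (by decide)
  rw [Finset.sum_singleton] at r4
  have r5 := Groth.Agent.Lib.Helper11.row_ineq_sub T v hv 5 {2} (by decide)
  rw [Finset.sum_singleton] at r5
  simp only [e21, e12, e23, e32, e25, e52, e10, e01, e34, e43] at hw01 ha01 hw12 ha12 hw23 ha23 hw34 ha34 hw25 ha25 r0 r1 r2 r3 r4 r5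
  refine ⟨T.w (v 0), ?_, by omega, by omega, by omega, by omega, by omega, t02, t03, t04, t05, t13, t14, t15, t24, t35, t45, by omega, by omega, by omega, by omega, by omega, by omega⟩
  intro j
  fin_cases j
  · rfl
  · show T.w (v 1) = T.w (v 0); omega
  · show T.w (v 2) = T.w (v 0); omega
  · show T.w (v 3) = T.w (v 0); omega
  · show T.w (v 4) = T.w (v 0); omega
  · show T.w (v 5) = T.w (v 0); omega

end Groth.Agent.S7348
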