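import Groth.Statements.S7349
import Groth.Agent.Lib.Helper11.NumTypeLong

set_option autoImplicit false
open Finset
open Models Models.NumericalType

namespace Groth.Agent.S7349

set_option maxHeartbeats 4000000 in
/-- Classification of proper subgraphs of type E7 (a chain i_1 … i_6 with i_7 joined to i_4): let T be a
numerical type on n > 7 indices and i_1, …, i_7 distinct (-2)-indices with a_{12}, a_{23}, a_{34},
a_{45}, a_{56}, a_{47} nonzero. Then for some integer w all w_{i_j} equal w, these intersection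
numbers equal w, all other a_{i_j i_k} (j ≠ k) vanish, and 2 m_1 ≥ m_2, 2 m_2 ≥ m_1 + m_3, 2 m_3 ≥
m_2 + m_4, 2 m_4 ≥ m_3 + m_5 + m_7, 2 m_5 ≥ m_4 + m_6, 2 m_6 ≥ m_5, 2 m_7 ≥ m_4. -/
theorem result {n : ℕ} (T : Models.NumericalType n) (hn : 7 < n)
    (v : Fin 7 ↪ Fin n) (hv : ∀ j, T.IsMinusTwo (v j)) (h01 : T.a (v 0) (v 1) ≠ 0) (h12 : T.a (v 1) (v 2) ≠ 0) (h23 : T.a (v 2) (v 3) ≠ 0) (h34 : T.a (v 3) (v 4) ≠ 0) (h45 : T.a (v 4) (v 5) ≠ 0) (h36 : T.a (v 3) (v 6) ≠ 0) :
    ∃ w : ℤ, (∀ j : Fin 7, T.w (v j) = w) ∧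
      T.a (v 0) (v 1) = w ∧
      T.a (v 1) (v 2) = w ∧
      T.a (v 2) (v 3) = w ∧
      T.a (v 3) (v 4) = w ∧
      T.a (v 4) (v 5) = w ∧
      T.a (v 3) (v 6) = w ∧
      T.a (v 0) (v 2) = 0 ∧
      T.a (v 0) (v 3) = 0 ∧
      T.a (v 0) (v 4) = 0 ∧
      T.a (v 0) (v 5) = 0 ∧
      T.a (v 0) (v 6) = 0 ∧
      T.a (v 1) (v 3) = 0 ∧
      T.a (v 1) (v 4) = 0 ∧
      T.a (v 1) (v 5) = 0 ∧
      T.a (v 1) (v 6) = 0 ∧
      T.a (v 2) (v 4) = 0 ∧
      T.a (v 2) (v 5) = 0 ∧
      T.a (v 2) (v 6) = 0 ∧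
      T.a (v 3) (v 5) = 0 ∧
      T.a (v 4) (v 6) = 0 ∧
      T.a (v 5) (v 6) = 0 ∧
      T.m (v 1) ≤ 2 * T.m (v 0) ∧
      T.m (v 0) + T.m (v 2) ≤ 2 * T.m (v 1) ∧
      T.m (v 1) + T.m (v 3) ≤ 2 * T.m (v 2) ∧
      T.m (v 2) + T.m (v 4) + T.m (v 6) ≤ 2 * T.m (v 3) ∧
      T.m (v 3) + T.m (v 5) ≤ 2 * T.m (v 4) ∧
      T.m (v 4) ≤ 2 * T.m (v 5) ∧
      T.m (v 3) ≤ 2 * T.m (v 6) := by
  have n01 : v 0 ≠ v 1 := v.injective.ne (by decide)
  obtain ⟨p01, p10⟩ := Groth.Agent.Lib.Helper11.cart_pos_both T n01 h01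
  have n12 : v 1 ≠ v 2 := v.injective.ne (by decide)
  obtain ⟨p12, p21⟩ := Groth.Agent.Lib.Helper11.cart_pos_both T n12 h12
  have n23 : v 2 ≠ v 3 := v.injective.ne (by decide)
  obtain ⟨p23, p32⟩ := Groth.Agent.Lib.Helper11.cart_pos_both T n23 h23
  have n34 : v 3 ≠ v 4 := v.injective.ne (by decide)
  obtain ⟨p34, p43⟩ := Groth.Agent.Lib.Helper11.cart_pos_both T n34 h34
  have n45 : v 4 ≠ v 5 := v.injective.ne (by decide)
  obtain ⟨p45, p54⟩ := Groth.Agent.Lib.Helper11.cart_pos_both T n45 h45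
  have n36 : v 3 ≠ v 6 := v.injective.ne (by decide)
  obtain ⟨p36, p63⟩ := Groth.Agent.Lib.Helper11.cart_pos_both T n36 h36
  have hstar := Groth.Agent.Lib.Helper11.star3 T (Groth.Agent.Lib.Helper11.subEmb v ![3, 2, 4, 6] (by decide)) (by omega)
    (by intro l; exact hv _) (by simpa [Groth.Agent.Lib.Helper11.a_symm T (v 3) (v 2)] using h23) (by simpa [Groth.Agent.Lib.Helper11.a_symm T (v 3) (v 4)] using h34) (by simpa [Groth.Agent.Lib.Helper11.a_symm T (v 3) (v 6)] using h36)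
  simp only [Groth.Agent.Lib.Helper11.subEmb_apply, Matrix.cons_val_zero, Matrix.cons_val_one, Matrix.cons_val] at hstar
  have q32 := Groth.Agent.Lib.Helper11.one_le_prod p32 p23
  have q34 := Groth.Agent.Lib.Helper11.one_le_prod p34 p43
  have q36 := Groth.Agent.Lib.Helper11.one_le_prod p36 p63
  obtain ⟨e32, e23⟩ := Groth.Agent.Lib.Helper11.eq_one_of_prod_le_one p32 p23 (by linarith)
  obtain ⟨e34, e43⟩ := Groth.Agent.Lib.Helper11.eq_one_of_prod_le_one p34 p43 (by linarith)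
  obtain ⟨e36, e63⟩ := Groth.Agent.Lib.Helper11.eq_one_of_prod_le_one p36 p63 (by linarith)
  have k01 : Groth.Agent.Lib.Helper11.cart T (v 0) (v 1) ≤ 1 := by
    by_contra hcon
    push Not at hcon
    delta_num T v hn hv ![2, 2, 2, 2, 1, 0, 1] ![{1}, {0, 2}, {1, 3}, {2, 4, 6}, {3}, ∅, {3}] 3
  have k10 : Groth.Agent.Lib.Helper11.cart T (v 1) (v 0) ≤ 1 := by
    by_contra hcon
    push Not at hcon
    delta_num T v hn hv ![1, 2, 2, 2, 1, 0, 1] ![{1}, {0, 2}, {1, 3}, {2, 4, 6}, {3}, ∅, {3}] 3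
  have e10 : Groth.Agent.Lib.Helper11.cart T (v 1) (v 0) = 1 := by omega
  have e01 : Groth.Agent.Lib.Helper11.cart T (v 0) (v 1) = 1 := by omega
  have k12 : Groth.Agent.Lib.Helper11.cart T (v 1) (v 2) ≤ 1 := by
    by_contra hcon
    push Not at hcon
    delta_num T v hn hv ![0, 2, 2, 2, 1, 0, 1] ![∅, {2}, {1, 3}, {2, 4, 6}, {3}, ∅, {3}] 3
  have k21 : Groth.Agent.Lib.Helper11.cart T (v 2) (v 1) ≤ 1 := by
    by_contra hcon
    push Not at hcon
    delta_num T v hn hv ![0, 1, 2, 2, 1, 0, 1] ![∅, {2}, {1, 3}, {2, 4, 6}, {3}, ∅, {3}] 3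
  have e21 : Groth.Agent.Lib.Helper11.cart T (v 2) (v 1) = 1 := by omega
  have e12 : Groth.Agent.Lib.Helper11.cart T (v 1) (v 2) = 1 := by omega
  have k54 : Groth.Agent.Lib.Helper11.cart T (v 5) (v 4) ≤ 1 := by
    by_contra hcon
    push Not at hcon
    delta_num T v hn hv ![0, 0, 1, 2, 2, 2, 1] ![∅, ∅, {3}, {2, 4, 6}, {3, 5}, {4}, {3}] 3
  have k45 : Groth.Agent.Lib.Helper11.cart T (v 4) (v 5) ≤ 1 := by
    by_contra hcon
    push Not at hcon
    delta_num T v hn hv ![0, 0, 1, 2, 2, 1, 1] ![∅, ∅, {3}, {2, 4, 6}, {3, 5}, {4}, {3}] 3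
  have e45 : Groth.Agent.Lib.Helper11.cart T (v 4) (v 5) = 1 := by omega
  have e54 : Groth.Agent.Lib.Helper11.cart T (v 5) (v 4) = 1 := by omega
  have t02 : T.a (v 0) (v 2) = 0 := by
    by_contra hne
    refine Groth.Agent.Lib.Helper11.affine_false T v hn hv ![1, 1, 1, 0, 0, 0, 0] ?_ ?_ ![{2, 1}, {0, 2}, {1, 0}, ∅, ∅, ∅, ∅] ?_ ?_ ?_
    · intro j; fin_cases j <;> simp
    · intro h; have := congrFun h 0; simp at this
    · intro j; fin_cases j <;> simp
    · intro j hj; fin_cases j <;> first | (exfalso; simp at hj; done) | (simp; tauto)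
    · intro j hj; fin_cases j <;> first | (exfalso; simp at hj; done) | simp [Finset.sum_insert]
  have t03 : T.a (v 0) (v 3) = 0 := by
    by_contra hne
    refine Groth.Agent.Lib.Helper11.affine_false T v hn hv ![1, 1, 1, 1, 0, 0, 0] ?_ ?_ ![{3, 1}, {0, 2}, {1, 3}, {2, 0}, ∅, ∅, ∅] ?_ ?_ ?_
    · intro j; fin_cases j <;> simp
    · intro h; have := congrFun h 0; simp at this
    · intro j; fin_cases j <;> simp
    · intro j hj; fin_cases j <;> first | (exfalso; simp at hj; done) | (simp; tauto)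
    · intro j hj; fin_cases j <;> first | (exfalso; simp at hj; done) | simp [Finset.sum_insert]
  have t04 : T.a (v 0) (v 4) = 0 := by
    by_contra hne
    refine Groth.Agent.Lib.Helper11.affine_false T v hn hv ![1, 1, 1, 1, 1, 0, 0] ?_ ?_ ![{4, 1}, {0, 2}, {1, 3}, {2, 4}, {3, 0}, ∅, ∅] ?_ ?_ ?_
    · intro j; fin_cases j <;> simp
    · intro h; have := congrFun h 0; simp at this
    · intro j; fin_cases j <;> simp
    · intro j hj; fin_cases j <;> first | (exfalso; simp at hj; done) | (simp; tauto)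
    · intro j hj; fin_cases j <;> first | (exfalso; simp at hj; done) | simp [Finset.sum_insert]
  have t05 : T.a (v 0) (v 5) = 0 := by
    by_contra hne
    refine Groth.Agent.Lib.Helper11.affine_false T v hn hv ![1, 1, 1, 1, 1, 1, 0] ?_ ?_ ![{5, 1}, {0, 2}, {1, 3}, {2, 4}, {3, 5}, {4, 0}, ∅] ?_ ?_ ?_
    · intro j; fin_cases j <;> simp
    · intro h; have := congrFun h 0; simp at this
    · intro j; fin_cases j <;> simp
    · intro j hj; fin_cases j <;> first | (exfalso; simp at hj; done) | (simp; tauto)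
    · intro j hj; fin_cases j <;> first | (exfalso; simp at hj; done) | simp [Finset.sum_insert]
  have t06 : T.a (v 0) (v 6) = 0 := by
    by_contra hne
    refine Groth.Agent.Lib.Helper11.affine_false T v hn hv ![1, 1, 1, 1, 0, 0, 1] ?_ ?_ ![{6, 1}, {0, 2}, {1, 3}, {2, 6}, ∅, ∅, {3, 0}] ?_ ?_ ?_
    · intro j; fin_cases j <;> simp
    · intro h; have := congrFun h 0; simp at this
    · intro j; fin_cases j <;> simp
    · intro j hj; fin_cases j <;> first | (exfalso; simp at hj; done) | (simp; tauto)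
    · intro j hj; fin_cases j <;> first | (exfalso; simp at hj; done) | simp [Finset.sum_insert]
  have t13 : T.a (v 1) (v 3) = 0 := by
    by_contra hne
    refine Groth.Agent.Lib.Helper11.affine_false T v hn hv ![0, 1, 1, 1, 0, 0, 0] ?_ ?_ ![∅, {3, 2}, {1, 3}, {2, 1}, ∅, ∅, ∅] ?_ ?_ ?_
    · intro j; fin_cases j <;> simp
    · intro h; have := congrFun h 1; simp at this
    · intro j; fin_cases j <;> simp
    · intro j hj; fin_cases j <;> first | (exfalso; simp at hj; done) | (simp; tauto)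
    · intro j hj; fin_cases j <;> first | (exfalso; simp at hj; done) | simp [Finset.sum_insert]
  have t14 : T.a (v 1) (v 4) = 0 := by
    by_contra hne
    refine Groth.Agent.Lib.Helper11.affine_false T v hn hv ![0, 1, 1, 1, 1, 0, 0] ?_ ?_ ![∅, {4, 2}, {1, 3}, {2, 4}, {3, 1}, ∅, ∅] ?_ ?_ ?_
    · intro j; fin_cases j <;> simp
    · intro h; have := congrFun h 1; simp at this
    · intro j; fin_cases j <;> simp
    · intro j hj; fin_cases j <;> first | (exfalso; simp at hj; done) | (simp; tauto)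
    · intro j hj; fin_cases j <;> first | (exfalso; simp at hj; done) | simp [Finset.sum_insert]
  have t15 : T.a (v 1) (v 5) = 0 := by
    by_contra hne
    refine Groth.Agent.Lib.Helper11.affine_false T v hn hv ![0, 1, 1, 1, 1, 1, 0] ?_ ?_ ![∅, {5, 2}, {1, 3}, {2, 4}, {3, 5}, {4, 1}, ∅] ?_ ?_ ?_
    · intro j; fin_cases j <;> simp
    · intro h; have := congrFun h 1; simp at this
    · intro j; fin_cases j <;> simp
    · intro j hj; fin_cases j <;> first | (exfalso; simp at hj; done) | (simp; tauto)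
    · intro j hj; fin_cases j <;> first | (exfalso; simp at hj; done) | simp [Finset.sum_insert]
  have t16 : T.a (v 1) (v 6) = 0 := by
    by_contra hne
    refine Groth.Agent.Lib.Helper11.affine_false T v hn hv ![0, 1, 1, 1, 0, 0, 1] ?_ ?_ ![∅, {6, 2}, {1, 3}, {2, 6}, ∅, ∅, {3, 1}] ?_ ?_ ?_
    · intro j; fin_cases j <;> simp
    · intro h; have := congrFun h 1; simp at this
    · intro j; fin_cases j <;> simp
    · intro j hj; fin_cases j <;> first | (exfalso; simp at hj; done) | (simp; tauto)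
    · intro j hj; fin_cases j <;> first | (exfalso; simp at hj; done) | simp [Finset.sum_insert]
  have t24 : T.a (v 2) (v 4) = 0 := by
    by_contra hne
    refine Groth.Agent.Lib.Helper11.affine_false T v hn hv ![0, 0, 1, 1, 1, 0, 0] ?_ ?_ ![∅, ∅, {4, 3}, {2, 4}, {3, 2}, ∅, ∅] ?_ ?_ ?_
    · intro j; fin_cases j <;> simp
    · intro h; have := congrFun h 2; simp at this
    · intro j; fin_cases j <;> simp
    · intro j hj; fin_cases j <;> first | (exfalso; simp at hj; done) | (simp; tauto)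
    · intro j hj; fin_cases j <;> first | (exfalso; simp at hj; done) | simp [Finset.sum_insert]
  have t25 : T.a (v 2) (v 5) = 0 := by
    by_contra hne
    refine Groth.Agent.Lib.Helper11.affine_false T v hn hv ![0, 0, 1, 1, 1, 1, 0] ?_ ?_ ![∅, ∅, {5, 3}, {2, 4}, {3, 5}, {4, 2}, ∅] ?_ ?_ ?_
    · intro j; fin_cases j <;> simp
    · intro h; have := congrFun h 2; simp at this
    · intro j; fin_cases j <;> simp
    · intro j hj; fin_cases j <;> first | (exfalso; simp at hj; done) | (simp; tauto)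
    · intro j hj; fin_cases j <;> first | (exfalso; simp at hj; done) | simp [Finset.sum_insert]
  have t26 : T.a (v 2) (v 6) = 0 := by
    by_contra hne
    refine Groth.Agent.Lib.Helper11.affine_false T v hn hv ![0, 0, 1, 1, 0, 0, 1] ?_ ?_ ![∅, ∅, {6, 3}, {2, 6}, ∅, ∅, {3, 2}] ?_ ?_ ?_
    · intro j; fin_cases j <;> simp
    · intro h; have := congrFun h 2; simp at this
    · intro j; fin_cases j <;> simp
    · intro j hj; fin_cases j <;> first | (exfalso; simp at hj; done) | (simp; tauto)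
    · intro j hj; fin_cases j <;> first | (exfalso; simp at hj; done) | simp [Finset.sum_insert]
  have t35 : T.a (v 3) (v 5) = 0 := by
    by_contra hne
    refine Groth.Agent.Lib.Helper11.affine_false T v hn hv ![0, 0, 0, 1, 1, 1, 0] ?_ ?_ ![∅, ∅, ∅, {5, 4}, {3, 5}, {4, 3}, ∅] ?_ ?_ ?_
    · intro j; fin_cases j <;> simp
    · intro h; have := congrFun h 3; simp at this
    · intro j; fin_cases j <;> simp
    · intro j hj; fin_cases j <;> first | (exfalso; simp at hj; done) | (simp; tauto)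
    · intro j hj; fin_cases j <;> first | (exfalso; simp at hj; done) | simp [Finset.sum_insert]
  have t46 : T.a (v 4) (v 6) = 0 := by
    by_contra hne
    refine Groth.Agent.Lib.Helper11.affine_false T v hn hv ![0, 0, 0, 1, 1, 0, 1] ?_ ?_ ![∅, ∅, ∅, {4, 6}, {6, 3}, ∅, {3, 4}] ?_ ?_ ?_
    · intro j; fin_cases j <;> simp
    · intro h; have := congrFun h 4; simp at this
    · intro j; fin_cases j <;> simp
    · intro j hj; fin_cases j <;> first | (exfalso; simp at hj; done) | (simp; tauto)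
    · intro j hj; fin_cases j <;> first | (exfalso; simp at hj; done) | simp [Finset.sum_insert]
  have t56 : T.a (v 5) (v 6) = 0 := by
    by_contra hne
    refine Groth.Agent.Lib.Helper11.affine_false T v hn hv ![0, 0, 0, 1, 1, 1, 1] ?_ ?_ ![∅, ∅, ∅, {4, 6}, {5, 3}, {6, 4}, {3, 5}] ?_ ?_ ?_
    · intro j; fin_cases j <;> simp
    · intro h; have := congrFun h 5; simp at this
    · intro j; fin_cases j <;> simp
    · intro j hj; fin_cases j <;> first | (exfalso; simp at hj; done) | (simp; tauto)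
    · intro j hj; fin_cases j <;> first | (exfalso; simp at hj; done) | simp [Finset.sum_insert]
  have hw01 := Groth.Agent.Lib.Helper11.w_cart_symm T (v 0) (v 1)
  have ha01 := Groth.Agent.Lib.Helper11.w_mul_cart T (v 0) (v 1)
  have hw12 := Groth.Agent.Lib.Helper11.w_cart_symm T (v 1) (v 2)
  have ha12 := Groth.Agent.Lib.Helper11.w_mul_cart T (v 1) (v 2)
  have hw23 := Groth.Agent.Lib.Helper11.w_cart_symm T (v 2) (v 3)
  have ha23 := Groth.Agent.Lib.Helper11.w_mul_cart T (v 2) (v 3)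
  have hw34 := Groth.Agent.Lib.Helper11.w_cart_symm T (v 3) (v 4)
  have ha34 := Groth.Agent.Lib.Helper11.w_mul_cart T (v 3) (v 4)
  have hw45 := Groth.Agent.Lib.Helper11.w_cart_symm T (v 4) (v 5)
  have ha45 := Groth.Agent.Lib.Helper11.w_mul_cart T (v 4) (v 5)
  have hw36 := Groth.Agent.Lib.Helper11.w_cart_symm T (v 3) (v 6)
  have ha36 := Groth.Agent.Lib.Helper11.w_mul_cart T (v 3) (v 6)
  have r0 := Groth.Agent.Lib.Helper11.row_ineq_sub T v hv 0 {1} (by decide)
  rw [Finset.sum_singleton] at r0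
  have r1 := Groth.Agent.Lib.Helper11.row_ineq_sub T v hv 1 {0, 2} (by decide)
  rw [Finset.sum_insert (by decide), Finset.sum_singleton] at r1
  have r2 := Groth.Agent.Lib.Helper11.row_ineq_sub T v hv 2 {1, 3} (by decide)
  rw [Finset.sum_insert (by decide), Finset.sum_singleton] at r2
  have r3 := Groth.Agent.Lib.Helper11.row_ineq_sub T v hv 3 {2, 4, 6} (by decide)
  rw [Finset.sum_insert (by decide), Finset.sum_insert (by decide), Finset.sum_singleton] at r3
  have r4 := Groth.Agent.Lib.Helper11.row_ineq_sub T v hv 4 {3, 5} (by decide)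
  rw [Finset.sum_insert (by decide), Finset.sum_singleton] at r4
  have r5 := Groth.Agent.Lib.Helper11.row_ineq_sub T v hv 5 {4} (by decide)
  rw [Finset.sum_singleton] at r5
  have r6 := Groth.Agent.Lib.Helper11.row_ineq_sub T v hv 6 {3} (by decide)
  rw [Finset.sum_singleton] at r6
  simp only [e32, e23, e34, e43, e36, e63, e10, e01, e21, e12, e45, e54] at hw01 ha01 hw12 ha12 hw23 ha23 hw34 ha34 hw45 ha45 hw36 ha36 r0 r1 r2 r3 r4 r5 r6
  refine ⟨T.w (v 0), ?_, by omega, by omega, by omega, by omega, by omega, by omega, t02, t03, t04, t05, t06, t13, t14, t15, t16, t24, t25, t26, t35, t46, t56, by omega, by omega, by omega, by omega, by omega, by omega, by omega⟩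
  intro j
  fin_cases j
  · rfl
  · show T.w (v 1) = T.w (v 0); omega
  · show T.w (v 2) = T.w (v 0); omega
  · show T.w (v 3) = T.w (v 0); omega
  · show T.w (v 4) = T.w (v 0); omega
  · show T.w (v 5) = T.w (v 0); omega
  · show T.w (v 6) = T.w (v 0); omega

end Groth.Agent.S7349
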