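import Groth.Statements.S7350
import Groth.Agent.Lib.Helper11.NumTypeLong

set_option autoImplicit false
open Finset
open Models Models.NumericalType

namespace Groth.Agent.S7350

set_option maxHeartbeats 4000000 in
/-- Classification of proper subgraphs of type E8 (a chain i_1 … i_7 with i_8 joined to i_5): let T be a
numerical type on n > 8 indices and i_1, …, i_8 distinct (-2)-indices with a_{12}, a_{23}, a_{34},
a_{45}, a_{56}, a_{67}, a_{58} nonzero. Then for some integer w all w_{i_j} equal w, these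
intersection numbers equal w, all other a_{i_j i_k} (j ≠ k) vanish, and 2 m_1 ≥ m_2, 2 m_2 ≥ m_1 +
m_3, 2 m_3 ≥ m_2 + m_4, 2 m_4 ≥ m_3 + m_5, 2 m_5 ≥ m_4 + m_6 + m_8, 2 m_6 ≥ m_5 + m_7, 2 m_7 ≥ m_6,
2 m_8 ≥ m_5. (The published statement lists a_{65} and a_{57} among the nonzero entries, which
contradicts its own conclusion a_{57} = 0; this row uses the edges of the E8 graph, a_{67} and
a_{58}, as the pictured graph and the matrix give them.) -/
theorem result {n : ℕ} (T : Models.NumericalType n) (hn : 8 < n)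
    (v : Fin 8 ↪ Fin n) (hv : ∀ j, T.IsMinusTwo (v j)) (h01 : T.a (v 0) (v 1) ≠ 0) (h12 : T.a (v 1) (v 2) ≠ 0) (h23 : T.a (v 2) (v 3) ≠ 0) (h34 : T.a (v 3) (v 4) ≠ 0) (h45 : T.a (v 4) (v 5) ≠ 0) (h56 : T.a (v 5) (v 6) ≠ 0) (h47 : T.a (v 4) (v 7) ≠ 0) :
    ∃ w : ℤ, (∀ j : Fin 8, T.w (v j) = w) ∧
      T.a (v 0) (v 1) = w ∧
      T.a (v 1) (v 2) = w ∧
      T.a (v 2) (v 3) = w ∧
      T.a (v 3) (v 4) = w ∧
      T.a (v 4) (v 5) = w ∧
      T.a (v 5) (v 6) = w ∧
      T.a (v 4) (v 7) = w ∧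
      T.a (v 0) (v 2) = 0 ∧
      T.a (v 0) (v 3) = 0 ∧
      T.a (v 0) (v 4) = 0 ∧
      T.a (v 0) (v 5) = 0 ∧
      T.a (v 0) (v 6) = 0 ∧
      T.a (v 0) (v 7) = 0 ∧
      T.a (v 1) (v 3) = 0 ∧
      T.a (v 1) (v 4) = 0 ∧
      T.a (v 1) (v 5) = 0 ∧
      T.a (v 1) (v 6) = 0 ∧
      T.a (v 1) (v 7) = 0 ∧
      T.a (v 2) (v 4) = 0 ∧
      T.a (v 2) (v 5) = 0 ∧
      T.a (v 2) (v 6) = 0 ∧
      T.a (v 2) (v 7) = 0 ∧
      T.a (v 3) (v 5) = 0 ∧
      T.a (v 3) (v 6) = 0 ∧
      T.a (v 3) (v 7) = 0 ∧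
      T.a (v 4) (v 6) = 0 ∧
      T.a (v 5) (v 7) = 0 ∧
      T.a (v 6) (v 7) = 0 ∧
      T.m (v 1) ≤ 2 * T.m (v 0) ∧
      T.m (v 0) + T.m (v 2) ≤ 2 * T.m (v 1) ∧
      T.m (v 1) + T.m (v 3) ≤ 2 * T.m (v 2) ∧
      T.m (v 2) + T.m (v 4) ≤ 2 * T.m (v 3) ∧
      T.m (v 3) + T.m (v 5) + T.m (v 7) ≤ 2 * T.m (v 4) ∧
      T.m (v 4) + T.m (v 6) ≤ 2 * T.m (v 5) ∧
      T.m (v 5) ≤ 2 * T.m (v 6) ∧
      T.m (v 4) ≤ 2 * T.m (v 7) := by
  have n01 : v 0 ≠ v 1 := v.injective.ne (by decide)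
  obtain ⟨p01, p10⟩ := Groth.Agent.Lib.Helper11.cart_pos_both T n01 h01
  have n12 : v 1 ≠ v 2 := v.injective.ne (by decide)
  obtain ⟨p12, p21⟩ := Groth.Agent.Lib.Helper11.cart_pos_both T n12 h12
  have n23 : v 2 ≠ v 3 := v.injective.ne (by decide)
  obtain ⟨p23, p32⟩ := Groth.Agent.Lib.Helper11.cart_pos_both T n23 h23
  have n34 : v 3 ≠ v 4 := v.injective.ne (by decide)
  obtain ⟨p34, p43⟩ := Groth.Agent.Lib.Helper11.cart_pos_both T n34 h34
  have n45 : v 4 ≠ v 5 := v.injective.ne (by decide)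
  obtain ⟨p45, p54⟩ := Groth.Agent.Lib.Helper11.cart_pos_both T n45 h45
  have n56 : v 5 ≠ v 6 := v.injective.ne (by decide)
  obtain ⟨p56, p65⟩ := Groth.Agent.Lib.Helper11.cart_pos_both T n56 h56
  have n47 : v 4 ≠ v 7 := v.injective.ne (by decide)
  obtain ⟨p47, p74⟩ := Groth.Agent.Lib.Helper11.cart_pos_both T n47 h47
  have hstar := Groth.Agent.Lib.Helper11.star3 T (Groth.Agent.Lib.Helper11.subEmb v ![4, 3, 5, 7] (by decide)) (by omega)
    (by intro l; exact hv _) (by simpa [Groth.Agent.Lib.Helper11.a_symm T (v 4) (v 3)] using h34) (by simpa [Groth.Agent.Lib.Helper11.a_symm T (v 4) (v 5)] using h45) (by simpa [Groth.Agent.Lib.Helper11.a_symm T (v 4) (v 7)] using h47)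
  simp only [Groth.Agent.Lib.Helper11.subEmb_apply, Matrix.cons_val_zero, Matrix.cons_val_one, Matrix.cons_val] at hstar
  have q43 := Groth.Agent.Lib.Helper11.one_le_prod p43 p34
  have q45 := Groth.Agent.Lib.Helper11.one_le_prod p45 p54
  have q47 := Groth.Agent.Lib.Helper11.one_le_prod p47 p74
  obtain ⟨e43, e34⟩ := Groth.Agent.Lib.Helper11.eq_one_of_prod_le_one p43 p34 (by linarith)
  obtain ⟨e45, e54⟩ := Groth.Agent.Lib.Helper11.eq_one_of_prod_le_one p45 p54 (by linarith)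
  obtain ⟨e47, e74⟩ := Groth.Agent.Lib.Helper11.eq_one_of_prod_le_one p47 p74 (by linarith)
  have k01 : Groth.Agent.Lib.Helper11.cart T (v 0) (v 1) ≤ 1 := by
    by_contra hcon
    push Not at hcon
    delta_num T v hn hv ![2, 2, 2, 2, 2, 1, 0, 1] ![{1}, {0, 2}, {1, 3}, {2, 4}, {3, 5, 7}, {4}, ∅, {4}] 4
  have k10 : Groth.Agent.Lib.Helper11.cart T (v 1) (v 0) ≤ 1 := by
    by_contra hcon
    push Not at hcon
    delta_num T v hn hv ![1, 2, 2, 2, 2, 1, 0, 1] ![{1}, {0, 2}, {1, 3}, {2, 4}, {3, 5, 7}, {4}, ∅, {4}] 4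
  have e10 : Groth.Agent.Lib.Helper11.cart T (v 1) (v 0) = 1 := by omega
  have e01 : Groth.Agent.Lib.Helper11.cart T (v 0) (v 1) = 1 := by omega
  have k12 : Groth.Agent.Lib.Helper11.cart T (v 1) (v 2) ≤ 1 := by
    by_contra hcon
    push Not at hcon
    delta_num T v hn hv ![0, 2, 2, 2, 2, 1, 0, 1] ![∅, {2}, {1, 3}, {2, 4}, {3, 5, 7}, {4}, ∅, {4}] 4
  have k21 : Groth.Agent.Lib.Helper11.cart T (v 2) (v 1) ≤ 1 := by
    by_contra hcon
    push Not at hcon
    delta_num T v hn hv ![0, 1, 2, 2, 2, 1, 0, 1] ![∅, {2}, {1, 3}, {2, 4}, {3, 5, 7}, {4}, ∅, {4}] 4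
  have e21 : Groth.Agent.Lib.Helper11.cart T (v 2) (v 1) = 1 := by omega
  have e12 : Groth.Agent.Lib.Helper11.cart T (v 1) (v 2) = 1 := by omega
  have k23 : Groth.Agent.Lib.Helper11.cart T (v 2) (v 3) ≤ 1 := by
    by_contra hcon
    push Not at hcon
    delta_num T v hn hv ![0, 0, 2, 2, 2, 1, 0, 1] ![∅, ∅, {3}, {2, 4}, {3, 5, 7}, {4}, ∅, {4}] 4
  have k32 : Groth.Agent.Lib.Helper11.cart T (v 3) (v 2) ≤ 1 := by
    by_contra hcon
    push Not at hcon
    delta_num T v hn hv ![0, 0, 1, 2, 2, 1, 0, 1] ![∅, ∅, {3}, {2, 4}, {3, 5, 7}, {4}, ∅, {4}] 4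
  have e32 : Groth.Agent.Lib.Helper11.cart T (v 3) (v 2) = 1 := by omega
  have e23 : Groth.Agent.Lib.Helper11.cart T (v 2) (v 3) = 1 := by omega
  have k65 : Groth.Agent.Lib.Helper11.cart T (v 6) (v 5) ≤ 1 := by
    by_contra hcon
    push Not at hcon
    delta_num T v hn hv ![0, 0, 0, 1, 2, 2, 2, 1] ![∅, ∅, ∅, {4}, {3, 5, 7}, {4, 6}, {5}, {4}] 4
  have k56 : Groth.Agent.Lib.Helper11.cart T (v 5) (v 6) ≤ 1 := by
    by_contra hcon
    push Not at hcon
    delta_num T v hn hv ![0, 0, 0, 1, 2, 2, 1, 1] ![∅, ∅, ∅, {4}, {3, 5, 7}, {4, 6}, {5}, {4}] 4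
  have e56 : Groth.Agent.Lib.Helper11.cart T (v 5) (v 6) = 1 := by omega
  have e65 : Groth.Agent.Lib.Helper11.cart T (v 6) (v 5) = 1 := by omega
  have t02 : T.a (v 0) (v 2) = 0 := by
    by_contra hne
    refine Groth.Agent.Lib.Helper11.affine_false T v hn hv ![1, 1, 1, 0, 0, 0, 0, 0] ?_ ?_ ![{2, 1}, {0, 2}, {1, 0}, ∅, ∅, ∅, ∅, ∅] ?_ ?_ ?_
    · intro j; fin_cases j <;> simp
    · intro h; have := congrFun h 0; simp at this
    · intro j; fin_cases j <;> simp
    · intro j hj; fin_cases j <;> first | (exfalso; simp at hj; done) | (simp; tauto)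
    · intro j hj; fin_cases j <;> first | (exfalso; simp at hj; done) | simp [Finset.sum_insert]
  have t03 : T.a (v 0) (v 3) = 0 := by
    by_contra hne
    refine Groth.Agent.Lib.Helper11.affine_false T v hn hv ![1, 1, 1, 1, 0, 0, 0, 0] ?_ ?_ ![{3, 1}, {0, 2}, {1, 3}, {2, 0}, ∅, ∅, ∅, ∅] ?_ ?_ ?_
    · intro j; fin_cases j <;> simp
    · intro h; have := congrFun h 0; simp at this
    · intro j; fin_cases j <;> simp
    · intro j hj; fin_cases j <;> first | (exfalso; simp at hj; done) | (simp; tauto)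
    · intro j hj; fin_cases j <;> first | (exfalso; simp at hj; done) | simp [Finset.sum_insert]
  have t04 : T.a (v 0) (v 4) = 0 := by
    by_contra hne
    refine Groth.Agent.Lib.Helper11.affine_false T v hn hv ![1, 1, 1, 1, 1, 0, 0, 0] ?_ ?_ ![{4, 1}, {0, 2}, {1, 3}, {2, 4}, {3, 0}, ∅, ∅, ∅] ?_ ?_ ?_
    · intro j; fin_cases j <;> simp
    · intro h; have := congrFun h 0; simp at this
    · intro j; fin_cases j <;> simp
    · intro j hj; fin_cases j <;> first | (exfalso; simp at hj; done) | (simp; tauto)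
    · intro j hj; fin_cases j <;> first | (exfalso; simp at hj; done) | simp [Finset.sum_insert]
  have t05 : T.a (v 0) (v 5) = 0 := by
    by_contra hne
    refine Groth.Agent.Lib.Helper11.affine_false T v hn hv ![1, 1, 1, 1, 1, 1, 0, 0] ?_ ?_ ![{5, 1}, {0, 2}, {1, 3}, {2, 4}, {3, 5}, {4, 0}, ∅, ∅] ?_ ?_ ?_
    · intro j; fin_cases j <;> simp
    · intro h; have := congrFun h 0; simp at this
    · intro j; fin_cases j <;> simp
    · intro j hj; fin_cases j <;> first | (exfalso; simp at hj; done) | (simp; tauto)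
    · intro j hj; fin_cases j <;> first | (exfalso; simp at hj; done) | simp [Finset.sum_insert]
  have t06 : T.a (v 0) (v 6) = 0 := by
    by_contra hne
    refine Groth.Agent.Lib.Helper11.affine_false T v hn hv ![1, 1, 1, 1, 1, 1, 1, 0] ?_ ?_ ![{6, 1}, {0, 2}, {1, 3}, {2, 4}, {3, 5}, {4, 6}, {5, 0}, ∅] ?_ ?_ ?_
    · intro j; fin_cases j <;> simp
    · intro h; have := congrFun h 0; simp at this
    · intro j; fin_cases j <;> simp
    · intro j hj; fin_cases j <;> first | (exfalso; simp at hj; done) | (simp; tauto)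
    · intro j hj; fin_cases j <;> first | (exfalso; simp at hj; done) | simp [Finset.sum_insert]
  have t07 : T.a (v 0) (v 7) = 0 := by
    by_contra hne
    refine Groth.Agent.Lib.Helper11.affine_false T v hn hv ![1, 1, 1, 1, 1, 0, 0, 1] ?_ ?_ ![{7, 1}, {0, 2}, {1, 3}, {2, 4}, {3, 7}, ∅, ∅, {4, 0}] ?_ ?_ ?_
    · intro j; fin_cases j <;> simp
    · intro h; have := congrFun h 0; simp at this
    · intro j; fin_cases j <;> simp
    · intro j hj; fin_cases j <;> first | (exfalso; simp at hj; done) | (simp; tauto)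
    · intro j hj; fin_cases j <;> first | (exfalso; simp at hj; done) | simp [Finset.sum_insert]
  have t13 : T.a (v 1) (v 3) = 0 := by
    by_contra hne
    refine Groth.Agent.Lib.Helper11.affine_false T v hn hv ![0, 1, 1, 1, 0, 0, 0, 0] ?_ ?_ ![∅, {3, 2}, {1, 3}, {2, 1}, ∅, ∅, ∅, ∅] ?_ ?_ ?_
    · intro j; fin_cases j <;> simp
    · intro h; have := congrFun h 1; simp at this
    · intro j; fin_cases j <;> simp
    · intro j hj; fin_cases j <;> first | (exfalso; simp at hj; done) | (simp; tauto)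
    · intro j hj; fin_cases j <;> first | (exfalso; simp at hj; done) | simp [Finset.sum_insert]
  have t14 : T.a (v 1) (v 4) = 0 := by
    by_contra hne
    refine Groth.Agent.Lib.Helper11.affine_false T v hn hv ![0, 1, 1, 1, 1, 0, 0, 0] ?_ ?_ ![∅, {4, 2}, {1, 3}, {2, 4}, {3, 1}, ∅, ∅, ∅] ?_ ?_ ?_
    · intro j; fin_cases j <;> simp
    · intro h; have := congrFun h 1; simp at this
    · intro j; fin_cases j <;> simp
    · intro j hj; fin_cases j <;> first | (exfalso; simp at hj; done) | (simp; tauto)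
    · intro j hj; fin_cases j <;> first | (exfalso; simp at hj; done) | simp [Finset.sum_insert]
  have t15 : T.a (v 1) (v 5) = 0 := by
    by_contra hne
    refine Groth.Agent.Lib.Helper11.affine_false T v hn hv ![0, 1, 1, 1, 1, 1, 0, 0] ?_ ?_ ![∅, {5, 2}, {1, 3}, {2, 4}, {3, 5}, {4, 1}, ∅, ∅] ?_ ?_ ?_
    · intro j; fin_cases j <;> simp
    · intro h; have := congrFun h 1; simp at this
    · intro j; fin_cases j <;> simp
    · intro j hj; fin_cases j <;> first | (exfalso; simp at hj; done) | (simp; tauto)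
    · intro j hj; fin_cases j <;> first | (exfalso; simp at hj; done) | simp [Finset.sum_insert]
  have t16 : T.a (v 1) (v 6) = 0 := by
    by_contra hne
    refine Groth.Agent.Lib.Helper11.affine_false T v hn hv ![0, 1, 1, 1, 1, 1, 1, 0] ?_ ?_ ![∅, {6, 2}, {1, 3}, {2, 4}, {3, 5}, {4, 6}, {5, 1}, ∅] ?_ ?_ ?_
    · intro j; fin_cases j <;> simp
    · intro h; have := congrFun h 1; simp at this
    · intro j; fin_cases j <;> simp
    · intro j hj; fin_cases j <;> first | (exfalso; simp at hj; done) | (simp; tauto)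
    · intro j hj; fin_cases j <;> first | (exfalso; simp at hj; done) | simp [Finset.sum_insert]
  have t17 : T.a (v 1) (v 7) = 0 := by
    by_contra hne
    refine Groth.Agent.Lib.Helper11.affine_false T v hn hv ![0, 1, 1, 1, 1, 0, 0, 1] ?_ ?_ ![∅, {7, 2}, {1, 3}, {2, 4}, {3, 7}, ∅, ∅, {4, 1}] ?_ ?_ ?_
    · intro j; fin_cases j <;> simp
    · intro h; have := congrFun h 1; simp at this
    · intro j; fin_cases j <;> simp
    · intro j hj; fin_cases j <;> first | (exfalso; simp at hj; done) | (simp; tauto)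
    · intro j hj; fin_cases j <;> first | (exfalso; simp at hj; done) | simp [Finset.sum_insert]
  have t24 : T.a (v 2) (v 4) = 0 := by
    by_contra hne
    refine Groth.Agent.Lib.Helper11.affine_false T v hn hv ![0, 0, 1, 1, 1, 0, 0, 0] ?_ ?_ ![∅, ∅, {4, 3}, {2, 4}, {3, 2}, ∅, ∅, ∅] ?_ ?_ ?_
    · intro j; fin_cases j <;> simp
    · intro h; have := congrFun h 2; simp at this
    · intro j; fin_cases j <;> simp
    · intro j hj; fin_cases j <;> first | (exfalso; simp at hj; done) | (simp; tauto)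
    · intro j hj; fin_cases j <;> first | (exfalso; simp at hj; done) | simp [Finset.sum_insert]
  have t25 : T.a (v 2) (v 5) = 0 := by
    by_contra hne
    refine Groth.Agent.Lib.Helper11.affine_false T v hn hv ![0, 0, 1, 1, 1, 1, 0, 0] ?_ ?_ ![∅, ∅, {5, 3}, {2, 4}, {3, 5}, {4, 2}, ∅, ∅] ?_ ?_ ?_
    · intro j; fin_cases j <;> simp
    · intro h; have := congrFun h 2; simp at this
    · intro j; fin_cases j <;> simp
    · intro j hj; fin_cases j <;> first | (exfalso; simp at hj; done) | (simp; tauto)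
    · intro j hj; fin_cases j <;> first | (exfalso; simp at hj; done) | simp [Finset.sum_insert]
  have t26 : T.a (v 2) (v 6) = 0 := by
    by_contra hne
    refine Groth.Agent.Lib.Helper11.affine_false T v hn hv ![0, 0, 1, 1, 1, 1, 1, 0] ?_ ?_ ![∅, ∅, {6, 3}, {2, 4}, {3, 5}, {4, 6}, {5, 2}, ∅] ?_ ?_ ?_
    · intro j; fin_cases j <;> simp
    · intro h; have := congrFun h 2; simp at this
    · intro j; fin_cases j <;> simp
    · intro j hj; fin_cases j <;> first | (exfalso; simp at hj; done) | (simp; tauto)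
    · intro j hj; fin_cases j <;> first | (exfalso; simp at hj; done) | simp [Finset.sum_insert]
  have t27 : T.a (v 2) (v 7) = 0 := by
    by_contra hne
    refine Groth.Agent.Lib.Helper11.affine_false T v hn hv ![0, 0, 1, 1, 1, 0, 0, 1] ?_ ?_ ![∅, ∅, {7, 3}, {2, 4}, {3, 7}, ∅, ∅, {4, 2}] ?_ ?_ ?_
    · intro j; fin_cases j <;> simp
    · intro h; have := congrFun h 2; simp at this
    · intro j; fin_cases j <;> simp
    · intro j hj; fin_cases j <;> first | (exfalso; simp at hj; done) | (simp; tauto)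
    · intro j hj; fin_cases j <;> first | (exfalso; simp at hj; done) | simp [Finset.sum_insert]
  have t35 : T.a (v 3) (v 5) = 0 := by
    by_contra hne
    refine Groth.Agent.Lib.Helper11.affine_false T v hn hv ![0, 0, 0, 1, 1, 1, 0, 0] ?_ ?_ ![∅, ∅, ∅, {5, 4}, {3, 5}, {4, 3}, ∅, ∅] ?_ ?_ ?_
    · intro j; fin_cases j <;> simp
    · intro h; have := congrFun h 3; simp at this
    · intro j; fin_cases j <;> simp
    · intro j hj; fin_cases j <;> first | (exfalso; simp at hj; done) | (simp; tauto)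
    · intro j hj; fin_cases j <;> first | (exfalso; simp at hj; done) | simp [Finset.sum_insert]
  have t36 : T.a (v 3) (v 6) = 0 := by
    by_contra hne
    refine Groth.Agent.Lib.Helper11.affine_false T v hn hv ![0, 0, 0, 1, 1, 1, 1, 0] ?_ ?_ ![∅, ∅, ∅, {6, 4}, {3, 5}, {4, 6}, {5, 3}, ∅] ?_ ?_ ?_
    · intro j; fin_cases j <;> simp
    · intro h; have := congrFun h 3; simp at this
    · intro j; fin_cases j <;> simp
    · intro j hj; fin_cases j <;> first | (exfalso; simp at hj; done) | (simp; tauto)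
    · intro j hj; fin_cases j <;> first | (exfalso; simp at hj; done) | simp [Finset.sum_insert]
  have t37 : T.a (v 3) (v 7) = 0 := by
    by_contra hne
    refine Groth.Agent.Lib.Helper11.affine_false T v hn hv ![0, 0, 0, 1, 1, 0, 0, 1] ?_ ?_ ![∅, ∅, ∅, {7, 4}, {3, 7}, ∅, ∅, {4, 3}] ?_ ?_ ?_
    · intro j; fin_cases j <;> simp
    · intro h; have := congrFun h 3; simp at this
    · intro j; fin_cases j <;> simp
    · intro j hj; fin_cases j <;> first | (exfalso; simp at hj; done) | (simp; tauto)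
    · intro j hj; fin_cases j <;> first | (exfalso; simp at hj; done) | simp [Finset.sum_insert]
  have t46 : T.a (v 4) (v 6) = 0 := by
    by_contra hne
    refine Groth.Agent.Lib.Helper11.affine_false T v hn hv ![0, 0, 0, 0, 1, 1, 1, 0] ?_ ?_ ![∅, ∅, ∅, ∅, {6, 5}, {4, 6}, {5, 4}, ∅] ?_ ?_ ?_
    · intro j; fin_cases j <;> simp
    · intro h; have := congrFun h 4; simp at this
    · intro j; fin_cases j <;> simp
    · intro j hj; fin_cases j <;> first | (exfalso; simp at hj; done) | (simp; tauto)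
    · intro j hj; fin_cases j <;> first | (exfalso; simp at hj; done) | simp [Finset.sum_insert]
  have t57 : T.a (v 5) (v 7) = 0 := by
    by_contra hne
    refine Groth.Agent.Lib.Helper11.affine_false T v hn hv ![0, 0, 0, 0, 1, 1, 0, 1] ?_ ?_ ![∅, ∅, ∅, ∅, {5, 7}, {7, 4}, ∅, {4, 5}] ?_ ?_ ?_
    · intro j; fin_cases j <;> simp
    · intro h; have := congrFun h 5; simp at this
    · intro j; fin_cases j <;> simp
    · intro j hj; fin_cases j <;> first | (exfalso; simp at hj; done) | (simp; tauto)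
    · intro j hj; fin_cases j <;> first | (exfalso; simp at hj; done) | simp [Finset.sum_insert]
  have t67 : T.a (v 6) (v 7) = 0 := by
    by_contra hne
    refine Groth.Agent.Lib.Helper11.affine_false T v hn hv ![0, 0, 0, 0, 1, 1, 1, 1] ?_ ?_ ![∅, ∅, ∅, ∅, {5, 7}, {6, 4}, {7, 5}, {4, 6}] ?_ ?_ ?_
    · intro j; fin_cases j <;> simp
    · intro h; have := congrFun h 6; simp at this
    · intro j; fin_cases j <;> simp
    · intro j hj; fin_cases j <;> first | (exfalso; simp at hj; done) | (simp; tauto)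
    · intro j hj; fin_cases j <;> first | (exfalso; simp at hj; done) | simp [Finset.sum_insert]
  have hw01 := Groth.Agent.Lib.Helper11.w_cart_symm T (v 0) (v 1)
  have ha01 := Groth.Agent.Lib.Helper11.w_mul_cart T (v 0) (v 1)
  have hw12 := Groth.Agent.Lib.Helper11.w_cart_symm T (v 1) (v 2)
  have ha12 := Groth.Agent.Lib.Helper11.w_mul_cart T (v 1) (v 2)
  have hw23 := Groth.Agent.Lib.Helper11.w_cart_symm T (v 2) (v 3)
  have ha23 := Groth.Agent.Lib.Helper11.w_mul_cart T (v 2) (v 3)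
  have hw34 := Groth.Agent.Lib.Helper11.w_cart_symm T (v 3) (v 4)
  have ha34 := Groth.Agent.Lib.Helper11.w_mul_cart T (v 3) (v 4)
  have hw45 := Groth.Agent.Lib.Helper11.w_cart_symm T (v 4) (v 5)
  have ha45 := Groth.Agent.Lib.Helper11.w_mul_cart T (v 4) (v 5)
  have hw56 := Groth.Agent.Lib.Helper11.w_cart_symm T (v 5) (v 6)
  have ha56 := Groth.Agent.Lib.Helper11.w_mul_cart T (v 5) (v 6)
  have hw47 := Groth.Agent.Lib.Helper11.w_cart_symm T (v 4) (v 7)
  have ha47 := Groth.Agent.Lib.Helper11.w_mul_cart T (v 4) (v 7)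
  have r0 := Groth.Agent.Lib.Helper11.row_ineq_sub T v hv 0 {1} (by decide)
  rw [Finset.sum_singleton] at r0
  have r1 := Groth.Agent.Lib.Helper11.row_ineq_sub T v hv 1 {0, 2} (by decide)
  rw [Finset.sum_insert (by decide), Finset.sum_singleton] at r1
  have r2 := Groth.Agent.Lib.Helper11.row_ineq_sub T v hv 2 {1, 3} (by decide)
  rw [Finset.sum_insert (by decide), Finset.sum_singleton] at r2
  have r3 := Groth.Agent.Lib.Helper11.row_ineq_sub T v hv 3 {2, 4} (by decide)
  rw [Finset.sum_insert (by decide), Finset.sum_singleton] at r3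
  have r4 := Groth.Agent.Lib.Helper11.row_ineq_sub T v hv 4 {3, 5, 7} (by decide)
  rw [Finset.sum_insert (by decide), Finset.sum_insert (by decide), Finset.sum_singleton] at r4
  have r5 := Groth.Agent.Lib.Helper11.row_ineq_sub T v hv 5 {4, 6} (by decide)
  rw [Finset.sum_insert (by decide), Finset.sum_singleton] at r5
  have r6 := Groth.Agent.Lib.Helper11.row_ineq_sub T v hv 6 {5} (by decide)
  rw [Finset.sum_singleton] at r6
  have r7 := Groth.Agent.Lib.Helper11.row_ineq_sub T v hv 7 {4} (by decide)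
  rw [Finset.sum_singleton] at r7
  simp only [e43, e34, e45, e54, e47, e74, e10, e01, e21, e12, e32, e23, e56, e65] at hw01 ha01 hw12 ha12 hw23 ha23 hw34 ha34 hw45 ha45 hw56 ha56 hw47 ha47 r0 r1 r2 r3 r4 r5 r6 r7
  refine ⟨T.w (v 0), ?_, by omega, by omega, by omega, by omega, by omega, by omega, by omega, t02, t03, t04, t05, t06, t07, t13, t14, t15, t16, t17, t24, t25, t26, t27, t35, t36, t37, t46, t57, t67, by omega, by omega, by omega, by omega, by omega, by omega, by omega, by omega⟩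
  intro j
  fin_cases j
  · rfl
  · show T.w (v 1) = T.w (v 0); omega
  · show T.w (v 2) = T.w (v 0); omega
  · show T.w (v 3) = T.w (v 0); omega
  · show T.w (v 4) = T.w (v 0); omega
  · show T.w (v 5) = T.w (v 0); omega
  · show T.w (v 6) = T.w (v 0); omega
  · show T.w (v 7) = T.w (v 0); omega

end Groth.Agent.S7350
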