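import Groth.Statements.S7351
import Groth.Agent.Lib.Helper11.NumTypeNegDef

set_option autoImplicit false
open Finset
open Models Models.NumericalType

namespace Groth.Agent.S7351

/-- Let T be a numerical type on n > 5 indices. There do not exist five distinct (-2)-indices h, i, j,
k, l with a_hi > 0, a_hj > 0, a_hk > 0 and a_hl > 0. -/
theorem result {n : ℕ} (T : Models.NumericalType n) (hn : 5 < n)
    (v : Fin 5 ↪ Fin n) (hv : ∀ j, T.IsMinusTwo (v j))
    (h01 : 0 < T.a (v 0) (v 1)) (h02 : 0 < T.a (v 0) (v 2)) (h03 : 0 < T.a (v 0) (v 3)) (h04 : 0 < T.a (v 0) (v 4)) : False := by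
  open Groth.Agent.Lib.Helper11 in
  have hk : ∀ j : Fin 5, j ≠ 0 → ∃ q : ℤ, 1 ≤ q ∧ T.a (v 0) (v j) = T.w (v j) * q ∧
      T.w (v 0) ≤ T.a (v 0) (v j) ∧ 0 < T.a (v 0) (v j) := by
    intro j hj
    have hpos : 0 < T.a (v 0) (v j) := by
      fin_cases j <;> first | exact absurd rfl hj | assumption
    obtain ⟨q, hq⟩ := T.w_dvd (v j) (v 0)
    rw [← Groth.Agent.Lib.Helper11.a_symm T (v 0) (v j)] at hq
    refine ⟨q, ?_, hq, Groth.Agent.Lib.Helper11.w_le_of_pos T hpos, hpos⟩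
    by_contra hcon
    have : q ≤ 0 := by omega
    have := mul_nonpos_of_nonneg_of_nonpos (T.w_pos (v j)).le this
    linarith
  obtain ⟨q1, hq1, e1, l1, p1⟩ := hk 1 (by decide)
  obtain ⟨q2, hq2, e2, l2, p2⟩ := hk 2 (by decide)
  obtain ⟨q3, hq3, e3, l3, p3⟩ := hk 3 (by decide)
  obtain ⟨q4, hq4, e4, l4, p4⟩ := hk 4 (by decide)
  refine Groth.Agent.Lib.Helper11.delta_false_nb T v hn ![2, q1, q2, q3, q4] ?_ ?_
    ![{1, 2, 3, 4}, {0}, {0}, {0}, {0}] ?_ ?_
  · intro j; fin_cases j <;> simp <;> omega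
  · intro h; have := congrFun h 0; simp at this
  · intro j; fin_cases j <;> simp
  · intro j _
    have s := Groth.Agent.Lib.Helper11.a_symm T
    fin_cases j
    · simp [Finset.sum_insert]
      rw [(hv 0).2]
      nlinarith
    · simp
      rw [(hv 1).2, s (v 1) (v 0), e1]; linarith
    · simp
      rw [(hv 2).2, s (v 2) (v 0), e2]; linarith
    · simp
      rw [(hv 3).2, s (v 3) (v 0), e3]; linarith
    · simp
      rw [(hv 4).2, s (v 4) (v 0), e4]; linarith

end Groth.Agent.S7351
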