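import Groth.Statements.S7352
import Groth.Agent.Lib.Helper11.NumTypeChain

set_option autoImplicit false
open Finset
open Models Models.NumericalType

namespace Groth.Agent.S7352

/-- Classification of proper subgraphs which are chains of four vertices: let T be a numerical type on n
> 4 indices and i_1, …, i_4 distinct (-2)-indices with a_{i_j i_{j+1}} nonzero for j < 4. Then
a_{i_j i_l} = 0 for |j - l| ≥ 2 and, after possibly reversing the order of the indices, for some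
integer w one of the following holds: (A4) w = (w, w, w, w), consecutive a = (w, w, w), with 2m_1 ≥
m_2, 2m_2 ≥ m_1 + m_3, 2m_3 ≥ m_2 + m_4, 2m_4 ≥ m_3; (C4) w = (w, w, w, 2w), consecutive a = (w, w,
2w), with 2m_1 ≥ m_2, 2m_2 ≥ m_1 + m_3, 2m_3 ≥ m_2 + 2m_4, 2m_4 ≥ m_3; (B4) w = (2w, 2w, 2w, w),
consecutive a = (2w, 2w, 2w), with 2m_1 ≥ m_2, 2m_2 ≥ m_1 + m_3, 2m_3 ≥ m_2 + m_4, m_4 ≥ m_3; (F4) w
= (w, w, 2w, 2w), consecutive a = (w, 2w, 2w), with 2m_1 ≥ m_2, 2m_2 ≥ m_1 + 2m_3, 2m_3 ≥ m_2 + m_4,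
2m_4 ≥ m_3. -/
theorem result {n : ℕ} (T : Models.NumericalType n) (hn : 4 < n)
    (v : Fin 4 ↪ Fin n) (hv : ∀ j, T.IsMinusTwo (v j)) (h01 : T.a (v 0) (v 1) ≠ 0) (h12 : T.a (v 1) (v 2) ≠ 0) (h23 : T.a (v 2) (v 3) ≠ 0) :
    (T.a (v 0) (v 2) = 0 ∧ T.a (v 0) (v 3) = 0 ∧ T.a (v 1) (v 3) = 0) ∧
    ∃ (u : Fin 4 → Fin n) (w : ℤ), ((∀ j, u j = v j) ∨ (∀ j, u j = v (Fin.rev j))) ∧
      ((T.w (u 0) = w ∧ T.w (u 1) = w ∧ T.w (u 2) = w ∧ T.w (u 3) = w ∧ T.a (u 0) (u 1) = w ∧ T.a (u 1) (u 2) = w ∧ T.a (u 2) (u 3) = w ∧ T.m (u 1) ≤ 2 * T.m (u 0) ∧ T.m (u 0) + T.m (u 2) ≤ 2 * T.m (u 1) ∧ T.m (u 1) + T.m (u 3) ≤ 2 * T.m (u 2) ∧ T.m (u 2) ≤ 2 * T.m (u 3)) ∨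
      (T.w (u 0) = w ∧ T.w (u 1) = w ∧ T.w (u 2) = w ∧ T.w (u 3) = 2 * w ∧ T.a (u 0) (u 1) = w ∧ T.a (u 1) (u 2) = w ∧ T.a (u 2) (u 3) = 2 * w ∧ T.m (u 1) ≤ 2 * T.m (u 0) ∧ T.m (u 0) + T.m (u 2) ≤ 2 * T.m (u 1) ∧ T.m (u 1) + 2 * T.m (u 3) ≤ 2 * T.m (u 2) ∧ T.m (u 2) ≤ 2 * T.m (u 3)) ∨
      (T.w (u 0) = 2 * w ∧ T.w (u 1) = 2 * w ∧ T.w (u 2) = 2 * w ∧ T.w (u 3) = w ∧ T.a (u 0) (u 1) = 2 * w ∧ T.a (u 1) (u 2) = 2 * w ∧ T.a (u 2) (u 3) = 2 * w ∧ T.m (u 1) ≤ 2 * T.m (u 0) ∧ T.m (u 0) + T.m (u 2) ≤ 2 * T.m (u 1) ∧ T.m (u 1) + T.m (u 3) ≤ 2 * T.m (u 2) ∧ T.m (u 2) ≤ T.m (u 3)) ∨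
      (T.w (u 0) = w ∧ T.w (u 1) = w ∧ T.w (u 2) = 2 * w ∧ T.w (u 3) = 2 * w ∧ T.a (u 0) (u 1) = w ∧ T.a (u 1) (u 2) = 2 * w ∧ T.a (u 2) (u 3) = 2 * w ∧ T.m (u 1) ≤ 2 * T.m (u 0) ∧ T.m (u 0) + 2 * T.m (u 2) ≤ 2 * T.m (u 1) ∧ T.m (u 1) + T.m (u 3) ≤ 2 * T.m (u 2) ∧ T.m (u 2) ≤ 2 * T.m (u 3))) := by
  have n01 : v 0 ≠ v 1 := v.injective.ne (by decide)
  have n12 : v 1 ≠ v 2 := v.injective.ne (by decide)
  have n23 : v 2 ≠ v 3 := v.injective.ne (by decide)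
  obtain ⟨p01, p10⟩ := Groth.Agent.Lib.Helper11.cart_pos_both T n01 h01
  obtain ⟨p12, p21⟩ := Groth.Agent.Lib.Helper11.cart_pos_both T n12 h12
  obtain ⟨p23, p32⟩ := Groth.Agent.Lib.Helper11.cart_pos_both T n23 h23
  have t02 : T.a (v 0) (v 2) = 0 := by
    have := Groth.Agent.Lib.Helper11.no_triangle T
      (Groth.Agent.Lib.Helper11.subEmb v ![0, 1, 2] (by decide)) (by omega)
      (by intro l; exact hv _) (by simpa using h01) (by simpa using h12)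
    simpa using this
  have t13 : T.a (v 1) (v 3) = 0 := by
    have := Groth.Agent.Lib.Helper11.no_triangle T
      (Groth.Agent.Lib.Helper11.subEmb v ![1, 2, 3] (by decide)) (by omega)
      (by intro l; exact hv _) (by simpa using h12) (by simpa using h23)
    simpa using this
  have t03 : T.a (v 0) (v 3) = 0 := Groth.Agent.Lib.Helper11.no_square T v hn hv h01 h12 h23
  refine ⟨⟨t02, t03, t13⟩, ?_⟩
  have c012 := Groth.Agent.Lib.Helper11.chain3 T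
      (Groth.Agent.Lib.Helper11.subEmb v ![0, 1, 2] (by decide)) (by omega)
      (by intro l; exact hv _) (by simpa using h01) (by simpa using h12)
  have c123 := Groth.Agent.Lib.Helper11.chain3 T
      (Groth.Agent.Lib.Helper11.subEmb v ![1, 2, 3] (by decide)) (by omega)
      (by intro l; exact hv _) (by simpa using h12) (by simpa using h23)
  simp only [Groth.Agent.Lib.Helper11.subEmb_apply, Matrix.cons_val_zero, Matrix.cons_val_one,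
    Matrix.cons_val] at c012 c123
  have cends := Groth.Agent.Lib.Helper11.chain4_ends T v hn hv h01 h12 h23
  have hw01 := Groth.Agent.Lib.Helper11.w_cart_symm T (v 0) (v 1)
  have hw12 := Groth.Agent.Lib.Helper11.w_cart_symm T (v 1) (v 2)
  have hw23 := Groth.Agent.Lib.Helper11.w_cart_symm T (v 2) (v 3)
  have ha01 := Groth.Agent.Lib.Helper11.w_mul_cart T (v 0) (v 1)
  have ha12 := Groth.Agent.Lib.Helper11.w_mul_cart T (v 1) (v 2)
  have ha23 := Groth.Agent.Lib.Helper11.w_mul_cart T (v 2) (v 3)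
  have s10 := Groth.Agent.Lib.Helper11.a_symm T (v 1) (v 0)
  have s21 := Groth.Agent.Lib.Helper11.a_symm T (v 2) (v 1)
  have s32 := Groth.Agent.Lib.Helper11.a_symm T (v 3) (v 2)
  have r0 := Groth.Agent.Lib.Helper11.row_ineq_sub T v hv 0 {1} (by decide)
  have r1 := Groth.Agent.Lib.Helper11.row_ineq_sub T v hv 1 {0, 2} (by decide)
  have r2 := Groth.Agent.Lib.Helper11.row_ineq_sub T v hv 2 {1, 3} (by decide)
  have r3 := Groth.Agent.Lib.Helper11.row_ineq_sub T v hv 3 {2} (by decide)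
  simp only [Finset.sum_singleton] at r0 r3
  rw [Finset.sum_insert (by decide), Finset.sum_singleton] at r1 r2
  have q01 := Groth.Agent.Lib.Helper11.one_le_prod p10 p01
  have q12 := Groth.Agent.Lib.Helper11.one_le_prod p12 p21
  have q23 := Groth.Agent.Lib.Helper11.one_le_prod p23 p32
  have q12' := Groth.Agent.Lib.Helper11.one_le_prod p21 p12
  have e01 := Groth.Agent.Lib.Helper11.pair_cases_two p10 p01 (by linarith)
  have e12 := Groth.Agent.Lib.Helper11.pair_cases_two p12 p21 (by linarith)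
  have e23 := Groth.Agent.Lib.Helper11.pair_cases_two p23 p32 (by linarith)
  have hw0 := T.w_pos (v 0)
  have r0' : Fin.rev (0 : Fin 4) = 3 := rfl
  have r1' : Fin.rev (1 : Fin 4) = 2 := rfl
  have r2' : Fin.rev (2 : Fin 4) = 1 := rfl
  have r3' : Fin.rev (3 : Fin 4) = 0 := rfl
  generalize Groth.Agent.Lib.Helper11.cart T (v 0) (v 1) = x01 at *
  generalize Groth.Agent.Lib.Helper11.cart T (v 1) (v 0) = x10 at *
  generalize Groth.Agent.Lib.Helper11.cart T (v 1) (v 2) = x12 at *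
  generalize Groth.Agent.Lib.Helper11.cart T (v 2) (v 1) = x21 at *
  generalize Groth.Agent.Lib.Helper11.cart T (v 2) (v 3) = x23 at *
  generalize Groth.Agent.Lib.Helper11.cart T (v 3) (v 2) = x32 at *
  rcases e01 with ⟨rfl, rfl⟩ | ⟨rfl, rfl⟩ | ⟨rfl, rfl⟩ <;>
  rcases e12 with ⟨rfl, rfl⟩ | ⟨rfl, rfl⟩ | ⟨rfl, rfl⟩ <;>
  rcases e23 with ⟨rfl, rfl⟩ | ⟨rfl, rfl⟩ | ⟨rfl, rfl⟩ <;>
  first
  | (exfalso; omega)
  | (exfalso; exact cends (by omega) (by omega))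
  | skip
  · refine ⟨fun j => v j, T.w (v 0), Or.inl (fun j => rfl), Or.inl ?_⟩
    beta_reduce
    refine ⟨?_, ?_, ?_, ?_, ?_, ?_, ?_, ?_, ?_, ?_, ?_⟩ <;> first | trivial | omega
  · refine ⟨fun j => v j, T.w (v 3), Or.inl (fun j => rfl), Or.inr (Or.inr (Or.inl ?_))⟩
    beta_reduce
    refine ⟨?_, ?_, ?_, ?_, ?_, ?_, ?_, ?_, ?_, ?_, ?_⟩ <;> first | trivial | omega
  · refine ⟨fun j => v j, T.w (v 0), Or.inl (fun j => rfl), Or.inr (Or.inl ?_)⟩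
    beta_reduce
    refine ⟨?_, ?_, ?_, ?_, ?_, ?_, ?_, ?_, ?_, ?_, ?_⟩ <;> first | trivial | omega
  · refine ⟨fun j => v (Fin.rev j), T.w (v 3), Or.inr (fun j => rfl), Or.inr (Or.inr (Or.inr ?_))⟩
    simp only [r0', r1', r2', r3']
    beta_reduce
    refine ⟨?_, ?_, ?_, ?_, ?_, ?_, ?_, ?_, ?_, ?_, ?_⟩ <;> first | trivial | omega
  · refine ⟨fun j => v j, T.w (v 0), Or.inl (fun j => rfl), Or.inr (Or.inr (Or.inr ?_))⟩
    beta_reduce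
    refine ⟨?_, ?_, ?_, ?_, ?_, ?_, ?_, ?_, ?_, ?_, ?_⟩ <;> first | trivial | omega
  · refine ⟨fun j => v (Fin.rev j), T.w (v 0), Or.inr (fun j => rfl), Or.inr (Or.inr (Or.inl ?_))⟩
    simp only [r0', r1', r2', r3']
    beta_reduce
    refine ⟨?_, ?_, ?_, ?_, ?_, ?_, ?_, ?_, ?_, ?_, ?_⟩ <;> first | trivial | omega
  · refine ⟨fun j => v (Fin.rev j), T.w (v 3), Or.inr (fun j => rfl), Or.inr (Or.inl ?_)⟩
    simp only [r0', r1', r2', r3']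
    beta_reduce
    refine ⟨?_, ?_, ?_, ?_, ?_, ?_, ?_, ?_, ?_, ?_, ?_⟩ <;> first | trivial | omega

end Groth.Agent.S7352
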