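import Groth.Statements.S7353
import Groth.Agent.Lib.Helper11.NumTypeLong

set_option autoImplicit false
open Finset
open Models Models.NumericalType

namespace Groth.Agent.S7353

set_option maxHeartbeats 1600000 in
/-- Classification of proper subgraphs which are chains of five vertices: let T be a numerical type on n
> 5 indices and i_1, …, i_5 distinct (-2)-indices with a_{i_j i_{j+1}} nonzero for j < 5. Then
a_{i_j i_l} = 0 for |j - l| ≥ 2 and, after possibly reversing the order of the indices, for some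
integer w one of the following holds: (A5) w = (w, w, w, w, w), consecutive a = (w, w, w, w), with
2m_1 ≥ m_2, 2m_2 ≥ m_1 + m_3, 2m_3 ≥ m_2 + m_4, 2m_4 ≥ m_3 + m_5, 2m_5 ≥ m_4; (C5) w = (w, w, w, w,
2w), consecutive a = (w, w, w, 2w), with 2m_1 ≥ m_2, 2m_2 ≥ m_1 + m_3, 2m_3 ≥ m_2 + m_4, 2m_4 ≥ m_3
+ 2m_5, 2m_5 ≥ m_4; (B5) w = (2w, 2w, 2w, 2w, w), consecutive a = (2w, 2w, 2w, 2w), with 2m_1 ≥ m_2,
2m_2 ≥ m_1 + m_3, 2m_3 ≥ m_2 + m_4, 2m_4 ≥ m_3 + m_5, m_5 ≥ m_4. (The inequalities are those given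
by the rows Σ_l a_{kl} m_l = 0 of the displayed matrices; the published text has 2m_3 ≥ m_2 + 2m_4
and 2m_4 ≥ m_3 + m_5 in case C5 and m_4 ≥ m_3 in case B5, of which the first does not follow — for
the numerical type with six indices, weights (1,1,1,1,2,1), chain intersection numbers (1,1,1,2)
plus a_{16} = 1, a_{66} = -1 and multiplicities (2,2,2,2,1,2) one has 2m_3 = 4 < m_2 + 2m_4 = 6 — so
the matrix inequalities are stated.) -/
theorem result {n : ℕ} (T : Models.NumericalType n) (hn : 5 < n)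
    (v : Fin 5 ↪ Fin n) (hv : ∀ j, T.IsMinusTwo (v j)) (h01 : T.a (v 0) (v 1) ≠ 0) (h12 : T.a (v 1) (v 2) ≠ 0) (h23 : T.a (v 2) (v 3) ≠ 0) (h34 : T.a (v 3) (v 4) ≠ 0) :
    (T.a (v 0) (v 2) = 0 ∧ T.a (v 0) (v 3) = 0 ∧ T.a (v 0) (v 4) = 0 ∧ T.a (v 1) (v 3) = 0 ∧ T.a (v 1) (v 4) = 0 ∧ T.a (v 2) (v 4) = 0) ∧
    ∃ (u : Fin 5 → Fin n) (w : ℤ), ((∀ j, u j = v j) ∨ (∀ j, u j = v (Fin.rev j))) ∧
      ((T.w (u 0) = w ∧ T.w (u 1) = w ∧ T.w (u 2) = w ∧ T.w (u 3) = w ∧ T.w (u 4) = w ∧ T.a (u 0) (u 1) = w ∧ T.a (u 1) (u 2) = w ∧ T.a (u 2) (u 3) = w ∧ T.a (u 3) (u 4) = w ∧ T.m (u 1) ≤ 2 * T.m (u 0) ∧ T.m (u 0) + T.m (u 2) ≤ 2 * T.m (u 1) ∧ T.m (u 1) + T.m (u 3) ≤ 2 * T.m (u 2) ∧ T.m (u 2) + T.m (u 4) ≤ 2 * T.m (u 3) ∧ T.m (u 3) ≤ 2 * T.m (u 4)) ∨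
      (T.w (u 0) = w ∧ T.w (u 1) = w ∧ T.w (u 2) = w ∧ T.w (u 3) = w ∧ T.w (u 4) = 2 * w ∧ T.a (u 0) (u 1) = w ∧ T.a (u 1) (u 2) = w ∧ T.a (u 2) (u 3) = w ∧ T.a (u 3) (u 4) = 2 * w ∧ T.m (u 1) ≤ 2 * T.m (u 0) ∧ T.m (u 0) + T.m (u 2) ≤ 2 * T.m (u 1) ∧ T.m (u 1) + T.m (u 3) ≤ 2 * T.m (u 2) ∧ T.m (u 2) + 2 * T.m (u 4) ≤ 2 * T.m (u 3) ∧ T.m (u 3) ≤ 2 * T.m (u 4)) ∨
      (T.w (u 0) = 2 * w ∧ T.w (u 1) = 2 * w ∧ T.w (u 2) = 2 * w ∧ T.w (u 3) = 2 * w ∧ T.w (u 4) = w ∧ T.a (u 0) (u 1) = 2 * w ∧ T.a (u 1) (u 2) = 2 * w ∧ T.a (u 2) (u 3) = 2 * w ∧ T.a (u 3) (u 4) = 2 * w ∧ T.m (u 1) ≤ 2 * T.m (u 0) ∧ T.m (u 0) + T.m (u 2) ≤ 2 * T.m (u 1) ∧ T.m (u 1) + T.m (u 3) ≤ 2 * T.m (u 2) ∧ T.m (u 2) + T.m (u 4) ≤ 2 * T.m (u 3) ∧ T.m (u 3) ≤ T.m (u 4))) := by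
  have n01 : v 0 ≠ v 1 := v.injective.ne (by decide)
  have n12 : v 1 ≠ v 2 := v.injective.ne (by decide)
  have n23 : v 2 ≠ v 3 := v.injective.ne (by decide)
  have n34 : v 3 ≠ v 4 := v.injective.ne (by decide)
  obtain ⟨p01, p10⟩ := Groth.Agent.Lib.Helper11.cart_pos_both T n01 h01
  obtain ⟨p12, p21⟩ := Groth.Agent.Lib.Helper11.cart_pos_both T n12 h12
  obtain ⟨p23, p32⟩ := Groth.Agent.Lib.Helper11.cart_pos_both T n23 h23
  obtain ⟨p34, p43⟩ := Groth.Agent.Lib.Helper11.cart_pos_both T n34 h34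
  have hchain : ∀ j j' : Fin 5, j'.val = j.val + 1 → T.a (v j) (v j') ≠ 0 := by
    intro j j' h
    fin_cases j <;> fin_cases j' <;> simp at h <;> assumption
  have nc := Groth.Agent.Lib.Helper11.no_chord T v hn hv hchain
  have t02 : T.a (v 0) (v 2) = 0 := nc 0 2 (by decide)
  have t03 : T.a (v 0) (v 3) = 0 := nc 0 3 (by decide)
  have t04 : T.a (v 0) (v 4) = 0 := nc 0 4 (by decide)
  have t13 : T.a (v 1) (v 3) = 0 := nc 1 3 (by decide)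
  have t14 : T.a (v 1) (v 4) = 0 := nc 1 4 (by decide)
  have t24 : T.a (v 2) (v 4) = 0 := nc 2 4 (by decide)
  refine ⟨⟨t02, t03, t04, t13, t14, t24⟩, ?_⟩
  obtain ⟨m12, m21⟩ := Groth.Agent.Lib.Helper11.chain5_mid T v hn hv h01 h12 h23 h34
  have hrev := Groth.Agent.Lib.Helper11.chain5_mid T
      (Groth.Agent.Lib.Helper11.subEmb v ![4, 3, 2, 1, 0] (by decide)) hn
      (by intro l; exact hv _)
      (by simpa [Groth.Agent.Lib.Helper11.a_symm T (v 4) (v 3)] using h34)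
      (by simpa [Groth.Agent.Lib.Helper11.a_symm T (v 3) (v 2)] using h23)
      (by simpa [Groth.Agent.Lib.Helper11.a_symm T (v 2) (v 1)] using h12)
      (by simpa [Groth.Agent.Lib.Helper11.a_symm T (v 1) (v 0)] using h01)
  simp only [Groth.Agent.Lib.Helper11.subEmb_apply, Matrix.cons_val_zero, Matrix.cons_val_one,
    Matrix.cons_val] at hrev
  obtain ⟨m32, m23⟩ := hrev
  have c012 := Groth.Agent.Lib.Helper11.chain3 T
      (Groth.Agent.Lib.Helper11.subEmb v ![0, 1, 2] (by decide)) (by omega)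
      (by intro l; exact hv _) (by simpa using h01) (by simpa using h12)
  have c234 := Groth.Agent.Lib.Helper11.chain3 T
      (Groth.Agent.Lib.Helper11.subEmb v ![2, 3, 4] (by decide)) (by omega)
      (by intro l; exact hv _) (by simpa using h23) (by simpa using h34)
  simp only [Groth.Agent.Lib.Helper11.subEmb_apply, Matrix.cons_val_zero, Matrix.cons_val_one,
    Matrix.cons_val] at c012 c234
  have cends := Groth.Agent.Lib.Helper11.chain_ends T v (by omega) hn hv hchain 0 1 3 4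
    rfl rfl rfl rfl
  have hw01 := Groth.Agent.Lib.Helper11.w_cart_symm T (v 0) (v 1)
  have hw12 := Groth.Agent.Lib.Helper11.w_cart_symm T (v 1) (v 2)
  have hw23 := Groth.Agent.Lib.Helper11.w_cart_symm T (v 2) (v 3)
  have hw34 := Groth.Agent.Lib.Helper11.w_cart_symm T (v 3) (v 4)
  have ha01 := Groth.Agent.Lib.Helper11.w_mul_cart T (v 0) (v 1)
  have ha12 := Groth.Agent.Lib.Helper11.w_mul_cart T (v 1) (v 2)
  have ha23 := Groth.Agent.Lib.Helper11.w_mul_cart T (v 2) (v 3)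
  have ha34 := Groth.Agent.Lib.Helper11.w_mul_cart T (v 3) (v 4)
  have s10 := Groth.Agent.Lib.Helper11.a_symm T (v 1) (v 0)
  have s21 := Groth.Agent.Lib.Helper11.a_symm T (v 2) (v 1)
  have s32 := Groth.Agent.Lib.Helper11.a_symm T (v 3) (v 2)
  have s43 := Groth.Agent.Lib.Helper11.a_symm T (v 4) (v 3)
  have r0 := Groth.Agent.Lib.Helper11.row_ineq_sub T v hv 0 {1} (by decide)
  have r1 := Groth.Agent.Lib.Helper11.row_ineq_sub T v hv 1 {0, 2} (by decide)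
  have r2 := Groth.Agent.Lib.Helper11.row_ineq_sub T v hv 2 {1, 3} (by decide)
  have r3 := Groth.Agent.Lib.Helper11.row_ineq_sub T v hv 3 {2, 4} (by decide)
  have r4 := Groth.Agent.Lib.Helper11.row_ineq_sub T v hv 4 {3} (by decide)
  simp only [Finset.sum_singleton] at r0 r4
  rw [Finset.sum_insert (by decide), Finset.sum_singleton] at r1 r2 r3
  rw [m12, m21] at *
  rw [m23, m32] at *
  have e01 := Groth.Agent.Lib.Helper11.pair_cases_two p10 p01 (by linarith)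
  have e34 := Groth.Agent.Lib.Helper11.pair_cases_two p34 p43 (by linarith)
  have hw0 := T.w_pos (v 0)
  have r0' : Fin.rev (0 : Fin 5) = 4 := rfl
  have r1' : Fin.rev (1 : Fin 5) = 3 := rfl
  have r2' : Fin.rev (2 : Fin 5) = 2 := rfl
  have r3' : Fin.rev (3 : Fin 5) = 1 := rfl
  have r4' : Fin.rev (4 : Fin 5) = 0 := rfl
  generalize Groth.Agent.Lib.Helper11.cart T (v 0) (v 1) = x01 at *
  generalize Groth.Agent.Lib.Helper11.cart T (v 1) (v 0) = x10 at *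
  generalize Groth.Agent.Lib.Helper11.cart T (v 3) (v 4) = x34 at *
  generalize Groth.Agent.Lib.Helper11.cart T (v 4) (v 3) = x43 at *
  rcases e01 with ⟨rfl, rfl⟩ | ⟨rfl, rfl⟩ | ⟨rfl, rfl⟩ <;>
  rcases e34 with ⟨rfl, rfl⟩ | ⟨rfl, rfl⟩ | ⟨rfl, rfl⟩ <;>
  first
  | (exfalso; omega)
  | (exfalso; exact cends (by omega) (by omega))
  | skip
  · refine ⟨fun j => v j, T.w (v 0), Or.inl (fun j => rfl), Or.inl ?_⟩
    beta_reduce
    refine ⟨?_, ?_, ?_, ?_, ?_, ?_, ?_, ?_, ?_, ?_, ?_, ?_, ?_, ?_⟩ <;> first | trivial | omega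
  · refine ⟨fun j => v j, T.w (v 4), Or.inl (fun j => rfl), Or.inr (Or.inr ?_)⟩
    beta_reduce
    refine ⟨?_, ?_, ?_, ?_, ?_, ?_, ?_, ?_, ?_, ?_, ?_, ?_, ?_, ?_⟩ <;> first | trivial | omega
  · refine ⟨fun j => v j, T.w (v 0), Or.inl (fun j => rfl), Or.inr (Or.inl ?_)⟩
    beta_reduce
    refine ⟨?_, ?_, ?_, ?_, ?_, ?_, ?_, ?_, ?_, ?_, ?_, ?_, ?_, ?_⟩ <;> first | trivial | omega
  · refine ⟨fun j => v (Fin.rev j), T.w (v 0), Or.inr (fun j => rfl), Or.inr (Or.inr ?_)⟩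
    simp only [r0', r1', r2', r3', r4']
    refine ⟨?_, ?_, ?_, ?_, ?_, ?_, ?_, ?_, ?_, ?_, ?_, ?_, ?_, ?_⟩ <;> first | trivial | omega
  · refine ⟨fun j => v (Fin.rev j), T.w (v 4), Or.inr (fun j => rfl), Or.inr (Or.inl ?_)⟩
    simp only [r0', r1', r2', r3', r4']
    refine ⟨?_, ?_, ?_, ?_, ?_, ?_, ?_, ?_, ?_, ?_, ?_, ?_, ?_, ?_⟩ <;> first | trivial | omega

end Groth.Agent.S7353
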