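import Groth.Statements.S7354
import Groth.Agent.Lib.Helper11.NumTypeLong

set_option autoImplicit false
open Finset
open Models Models.NumericalType

namespace Groth.Agent.S7354

/-- Let T be a numerical type on n indices, t > 5 with n > t, and i_1, …, i_t distinct (-2)-indices with
a_{i_j i_{j+1}} nonzero for j = 1, …, t - 1. Then, after possibly reversing the order of the
indices, for some integer w either (A) w_{i_1} = … = w_{i_t} = w and a_{i_j i_{j+1}} = w for all j;
or (C) w_{i_1} = … = w_{i_{t-1}} = w, w_{i_t} = 2w, a_{i_j i_{j+1}} = w for j < t - 1 and a_{i_{t-1}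
i_t} = 2w; or (B) w_{i_1} = … = w_{i_{t-1}} = 2w, w_{i_t} = w and a_{i_j i_{j+1}} = 2w for all j;
and in every case a_{i_j i_k} = 0 whenever k > j + 1. -/
theorem result {n : ℕ} (T : Models.NumericalType n) (t : ℕ) (ht : 5 < t) (hn : t < n)
    (v : Fin t ↪ Fin n) (hv : ∀ j, T.IsMinusTwo (v j))
    (hchain : ∀ j j' : Fin t, j'.val = j.val + 1 → T.a (v j) (v j') ≠ 0) :
    ∃ (u : Fin t → Fin n) (w : ℤ), ((∀ j, u j = v j) ∨ (∀ j, u j = v (Fin.rev j))) ∧
      (∀ j k : Fin t, j.val + 1 < k.val → T.a (u j) (u k) = 0) ∧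
      ((∀ j : Fin t, T.w (u j) = w) ∧ (∀ j j' : Fin t, j'.val = j.val + 1 → T.a (u j) (u j') = w) ∨
        ((∀ j : Fin t, j.val + 1 < t → T.w (u j) = w) ∧ (∀ j : Fin t, j.val + 1 = t → T.w (u j) = 2 * w) ∧
          (∀ j j' : Fin t, j'.val = j.val + 1 → j'.val + 1 < t → T.a (u j) (u j') = w) ∧
          (∀ j j' : Fin t, j'.val = j.val + 1 → j'.val + 1 = t → T.a (u j) (u j') = 2 * w)) ∨
        ((∀ j : Fin t, j.val + 1 < t → T.w (u j) = 2 * w) ∧ (∀ j : Fin t, j.val + 1 = t → T.w (u j) = w) ∧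
          (∀ j j' : Fin t, j'.val = j.val + 1 → T.a (u j) (u j') = 2 * w))) := by
  let i0 : Fin t := ⟨0, by omega⟩
  let i1 : Fin t := ⟨1, by omega⟩
  let il' : Fin t := ⟨t - 2, by omega⟩
  let il : Fin t := ⟨t - 1, by omega⟩
  have h01 : i1.val = i0.val + 1 := rfl
  have hl'l : il.val = il'.val + 1 := by simp only [il, il']; omega
  obtain ⟨p01, p10⟩ := Groth.Agent.Lib.Helper11.cart_pos_both T (v.injective.ne (fun e => by rw [e] at h01; omega))
    (hchain i0 i1 h01)
  obtain ⟨pl, pl'⟩ := Groth.Agent.Lib.Helper11.cart_pos_both T (v.injective.ne (fun e => by rw [e] at hl'l; omega))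
    (hchain il' il hl'l)
  have hfirst : Groth.Agent.Lib.Helper11.cart T (v i1) (v i0) * Groth.Agent.Lib.Helper11.cart T (v i0) (v i1) ≤ 2 := by
    have hw : 0 + 3 ≤ t := by omega
    have := Groth.Agent.Lib.Helper11.chain3 T (Groth.Agent.Lib.Helper11.window v 3 0 hw) (by omega) (fun l => hv _)
      (hchain _ _ (by simp)) (hchain _ _ (by simp))
    simp only [Groth.Agent.Lib.Helper11.window_apply] at this
    have e0 : (⟨0 + ((0 : Fin 3) : ℕ), by omega⟩ : Fin t) = i0 := Fin.ext (by simp [i0])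
    have e1 : (⟨0 + ((1 : Fin 3) : ℕ), by omega⟩ : Fin t) = i1 := Fin.ext (by simp [i1])
    rw [e0, e1] at this
    obtain ⟨q1, q2⟩ := Groth.Agent.Lib.Helper11.cart_pos_both T
      (v.injective.ne (by simp [Fin.ext_iff, i1] : i1 ≠ (⟨0 + ((2 : Fin 3) : ℕ), by omega⟩ : Fin t)))
      (hchain i1 ⟨0 + ((2 : Fin 3) : ℕ), by omega⟩ (by simp [i1]))
    have := Groth.Agent.Lib.Helper11.one_le_prod q1 q2
    linarith
  by_cases hP : Groth.Agent.Lib.Helper11.cart T (v i1) (v i0) * Groth.Agent.Lib.Helper11.cart T (v i0) (v i1) ≤ 1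
  · obtain ⟨e1, e2⟩ := Groth.Agent.Lib.Helper11.eq_one_of_prod_le_one p10 p01 hP
    obtain ⟨w, hA, hB⟩ := Groth.Agent.Lib.Helper11.chain_forward T v (by omega) hn hv hchain i0 i1 rfl rfl ⟨e2, e1⟩
    exact ⟨fun j => v j, w, Or.inl (fun _ => rfl), hA, hB⟩
  · -- first edge is double: reverse the chain
    push Not at hP
    have hlast : Groth.Agent.Lib.Helper11.cart T (v il') (v il) * Groth.Agent.Lib.Helper11.cart T (v il) (v il') ≤ 1 := by
      by_contra hcon
      push Not at hcon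
      exact Groth.Agent.Lib.Helper11.chain_ends T v (by omega) hn hv hchain i0 i1 il' il rfl rfl
        (by simp only [il']; omega) (by simp only [il]; omega) (by omega) (by omega)
    obtain ⟨e1, e2⟩ := Groth.Agent.Lib.Helper11.eq_one_of_prod_le_one pl pl' hlast
    let v' : Fin t ↪ Fin n := Groth.Agent.Lib.Helper11.subEmb v Fin.rev Fin.rev_injective
    have hchain' : ∀ j j' : Fin t, j'.val = j.val + 1 → T.a (v' j) (v' j') ≠ 0 := by
      intro j j' hjj'
      show T.a (v (Fin.rev j)) (v (Fin.rev j')) ≠ 0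
      rw [Groth.Agent.Lib.Helper11.a_symm]
      apply hchain
      simp only [Fin.val_rev]
      omega
    have er0 : Fin.rev i0 = il := Fin.ext (by simp [i0, il] <;> omega)
    have er1 : Fin.rev i1 = il' := Fin.ext (by simp [i1, il'] <;> omega)
    obtain ⟨w, hA, hB⟩ := Groth.Agent.Lib.Helper11.chain_forward T v' (by omega) hn (fun l => hv _) hchain' i0 i1 rfl rfl
      (by
        show Groth.Agent.Lib.Helper11.cart T (v (Fin.rev i0)) (v (Fin.rev i1)) = 1 ∧
          Groth.Agent.Lib.Helper11.cart T (v (Fin.rev i1)) (v (Fin.rev i0)) = 1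
        rw [er0, er1]
        exact ⟨e2, e1⟩)
    exact ⟨fun j => v (Fin.rev j), w, Or.inr (fun _ => rfl), hA, hB⟩

end Groth.Agent.S7354
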