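import Groth.Statements.S7355
import Groth.Agent.Lib.Helper11.NumTypeLong

set_option autoImplicit false
set_option linter.unusedSimpArgs false
open Finset
open Models Models.NumericalType

namespace Groth.Agent.S7355

/-- Classification of proper subgraphs of type D: let T be a numerical type on n indices, t > 4 with n >
t + 1, and i_1, …, i_{t+1} distinct (-2)-indices such that a_{i_j i_{j+1}} is nonzero for j = 1, …,
t - 1 and a_{i_{t-1} i_{t+1}} is nonzero. Then for some integer w one has w_{i_1} = … = w_{i_{t+1}}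
= w, a_{i_j i_{j+1}} = w for j < t, a_{i_{t-1} i_{t+1}} = w, and a_{i_j i_k} = 0 for all other pairs
j ≠ k. -/
theorem result {n : ℕ} (T : Models.NumericalType n) (t : ℕ) (ht : 4 < t) (hn : t + 1 < n)
    (v : Fin (t + 1) ↪ Fin n) (hv : ∀ j, T.IsMinusTwo (v j))
    (hchain : ∀ j j' : Fin (t + 1), j'.val = j.val + 1 → j'.val < t → T.a (v j) (v j') ≠ 0)
    (hbranch : ∀ j j' : Fin (t + 1), j.val + 2 = t → j'.val = t → T.a (v j) (v j') ≠ 0) :
    ∃ w : ℤ, (∀ j : Fin (t + 1), T.w (v j) = w) ∧
      (∀ j j' : Fin (t + 1), j'.val = j.val + 1 → j'.val < t → T.a (v j) (v j') = w) ∧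
      (∀ j j' : Fin (t + 1), j.val + 2 = t → j'.val = t → T.a (v j) (v j') = w) ∧
      (∀ j k : Fin (t + 1), j.val < k.val → ¬ (k.val = j.val + 1 ∧ k.val < t) → ¬ (j.val + 2 = t ∧ k.val = t) →
        T.a (v j) (v k) = 0) := by
  -- positivity of Cartan integers along the edges
  have ne_of_val : ∀ j j' : Fin (t + 1), j.val ≠ j'.val → v j ≠ v j' := fun j j' h =>
    v.injective.ne (fun e => h (by rw [e]))
  have posc : ∀ j j' : Fin (t + 1), j'.val = j.val + 1 → j'.val < t →
      1 ≤ Groth.Agent.Lib.Helper11.cart T (v j) (v j') ∧ 1 ≤ Groth.Agent.Lib.Helper11.cart T (v j') (v j) := fun j j' h h' =>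
    Groth.Agent.Lib.Helper11.cart_pos_both T (ne_of_val j j' (by omega)) (hchain j j' h h')
  have posb : ∀ j j' : Fin (t + 1), j.val + 2 = t → j'.val = t →
      1 ≤ Groth.Agent.Lib.Helper11.cart T (v j) (v j') ∧ 1 ≤ Groth.Agent.Lib.Helper11.cart T (v j') (v j) := fun j j' h h' =>
    Groth.Agent.Lib.Helper11.cart_pos_both T (ne_of_val j j' (by omega)) (hbranch j j' h h')
  -- the chain on the first t vertices
  have hw : 0 + t ≤ t + 1 := by omega
  let vc : Fin t ↪ Fin n := Groth.Agent.Lib.Helper11.window v t 0 hw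
  have vc_apply : ∀ x : Fin t, vc x = v ⟨x.val, by omega⟩ := by
    intro x
    show v ⟨0 + x.val, _⟩ = _
    congr 1
    exact Fin.ext (by simp)
  have hvc : ∀ j, T.IsMinusTwo (vc j) := fun j => hv _
  have hcc : ∀ j j' : Fin t, j'.val = j.val + 1 → T.a (vc j) (vc j') ≠ 0 := by
    intro j j' h
    rw [vc_apply, vc_apply]
    exact hchain _ _ (by simp <;> omega) (by simp)
  -- distinguished vertices
  let b : Fin (t + 1) := ⟨t - 2, by omega⟩
  let b1 : Fin (t + 1) := ⟨t - 3, by omega⟩
  let b2 : Fin (t + 1) := ⟨t - 1, by omega⟩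
  let bt : Fin (t + 1) := ⟨t, by omega⟩
  -- star at the branch vertex
  have hstar := Groth.Agent.Lib.Helper11.star3 T (Groth.Agent.Lib.Helper11.subEmb v ![b, b1, b2, bt] (by
      intro x y hxy
      fin_cases x <;> fin_cases y <;> simp [b, b1, b2, bt, Fin.ext_iff] at hxy ⊢ <;> omega))
    (by omega) (fun l => hv _)
    (by
      show T.a (v b) (v b1) ≠ 0
      rw [Groth.Agent.Lib.Helper11.a_symm]
      exact hchain b1 b (by simp [b, b1] <;> omega) (by simp [b] <;> omega))
    (by
      show T.a (v b) (v b2) ≠ 0
      exact hchain b b2 (by simp [b, b2] <;> omega) (by simp [b2] <;> omega))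
    (by
      show T.a (v b) (v bt) ≠ 0
      exact hbranch b bt (by simp [b] <;> omega) (by simp [bt]))
  replace hstar : Groth.Agent.Lib.Helper11.cart T (v b) (v b1) * Groth.Agent.Lib.Helper11.cart T (v b1) (v b)
      + Groth.Agent.Lib.Helper11.cart T (v b) (v b2) * Groth.Agent.Lib.Helper11.cart T (v b2) (v b)
      + Groth.Agent.Lib.Helper11.cart T (v b) (v bt) * Groth.Agent.Lib.Helper11.cart T (v bt) (v b) ≤ 3 := hstar
  obtain ⟨pb1, pb1'⟩ := posc b1 b (by simp [b, b1] <;> omega) (by simp [b] <;> omega)
  obtain ⟨pb2, pb2'⟩ := posc b b2 (by simp [b, b2] <;> omega) (by simp [b2] <;> omega)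
  obtain ⟨pbt, pbt'⟩ := posb b bt (by simp [b] <;> omega) (by simp [bt])
  have q1 := Groth.Agent.Lib.Helper11.one_le_prod pb1' pb1
  have q2 := Groth.Agent.Lib.Helper11.one_le_prod pb2 pb2'
  have q3 := Groth.Agent.Lib.Helper11.one_le_prod pbt pbt'
  obtain ⟨eb1', eb1⟩ := Groth.Agent.Lib.Helper11.eq_one_of_prod_le_one pb1' pb1 (by linarith)
  obtain ⟨eb2, eb2'⟩ := Groth.Agent.Lib.Helper11.eq_one_of_prod_le_one pb2 pb2' (by linarith)
  obtain ⟨ebt, ebt'⟩ := Groth.Agent.Lib.Helper11.eq_one_of_prod_le_one pbt pbt' (by linarith)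
  let i0 : Fin (t + 1) := ⟨0, by omega⟩
  let i1 : Fin (t + 1) := ⟨1, by omega⟩
  obtain ⟨p01, p10⟩ := posc i0 i1 rfl (by simp [i1] <;> omega)
  -- the D-tail delta argument
  have dtail : ∀ δ0 : ℤ, 1 ≤ δ0 → 2 * δ0 ≤ Groth.Agent.Lib.Helper11.cart T (v i0) (v i1) * 2 →
      2 ≤ Groth.Agent.Lib.Helper11.cart T (v i1) (v i0) * δ0 → False := by
    intro δ0 hδ hrow0 hrow1
    let c : Fin (t + 1) → ℤ := fun l =>
      if l.val = 0 then δ0 else if l.val + 2 ≤ t then 2 else 1
    have c0 : c i0 = δ0 := if_pos rfl
    have c2 : ∀ l : Fin (t + 1), 1 ≤ l.val → l.val + 2 ≤ t → c l = 2 := by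
      intro l h1 h2
      simp only [c]; rw [if_neg (by omega), if_pos h2]
    have c1 : ∀ l : Fin (t + 1), t ≤ l.val + 1 → c l = 1 := by
      intro l h1
      simp only [c]; rw [if_neg (by omega), if_neg (by omega)]
    refine Groth.Agent.Lib.Helper11.delta_cart_list T v hn hv c ?_ ?_ ?_
    · intro l
      simp only [c]
      split_ifs <;> linarith
    · intro h
      have := congrFun h i1
      rw [c2 i1 (by simp only [i0, i1, b, b1, b2, bt] <;> omega) (by simp only [i0, i1, b, b1, b2, bt] <;> omega)] at this
      simp at this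
    · intro l _
      by_cases e0 : l.val = 0
      · have hl : l = i0 := Fin.ext e0
        subst hl
        refine ⟨[i1], List.nodup_singleton _, Groth.Agent.Lib.Helper11.notmem1 _ _ (by simp only [i0, i1, b, b1, b2, bt] <;> omega), ?_⟩
        rw [c0]
        simp only [List.map_cons, List.map_nil, List.sum_cons, List.sum_nil]
        rw [c2 i1 (by simp only [i0, i1, b, b1, b2, bt] <;> omega) (by simp only [i0, i1, b, b1, b2, bt] <;> omega)]
        linarith
      by_cases e1 : l.val = 1
      · have hl : l = i1 := Fin.ext e1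
        subst hl
        have p12 := posc i1 ⟨2, by omega⟩ rfl (by simp <;> omega)
        refine ⟨[i0, ⟨2, by omega⟩], Groth.Agent.Lib.Helper11.nodup2 _ _ (by simp only [i0, i1, b, b1, b2, bt] <;> omega), Groth.Agent.Lib.Helper11.notmem2 _ _ _ (by simp only [i0, i1, b, b1, b2, bt] <;> omega) (by simp only [i0, i1, b, b1, b2, bt] <;> omega), ?_⟩
        rw [c2 i1 (by simp only [i0, i1, b, b1, b2, bt] <;> omega) (by simp only [i0, i1, b, b1, b2, bt] <;> omega)]
        simp only [List.map_cons, List.map_nil, List.sum_cons, List.sum_nil]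
        rw [c0, c2 ⟨2, by omega⟩ (by simp) (by simp <;> omega)]
        linarith [p12.1]
      by_cases e2 : l.val = t
      · have pp := posb b l (by simp only [i0, i1, b, b1, b2, bt] <;> omega) e2
        refine ⟨[b], List.nodup_singleton _, Groth.Agent.Lib.Helper11.notmem1 _ _ (by simp only [i0, i1, b, b1, b2, bt] <;> omega), ?_⟩
        rw [c1 l (by omega)]
        simp only [List.map_cons, List.map_nil, List.sum_cons, List.sum_nil]
        rw [c2 b (by simp only [i0, i1, b, b1, b2, bt] <;> omega) (by simp only [i0, i1, b, b1, b2, bt] <;> omega)]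
        linarith [pp.2]
      by_cases e3 : l.val + 1 = t
      · have pp := posc b l (by simp only [i0, i1, b, b1, b2, bt] <;> omega) (by omega)
        refine ⟨[b], List.nodup_singleton _, Groth.Agent.Lib.Helper11.notmem1 _ _ (by simp only [i0, i1, b, b1, b2, bt] <;> omega), ?_⟩
        rw [c1 l (by omega)]
        simp only [List.map_cons, List.map_nil, List.sum_cons, List.sum_nil]
        rw [c2 b (by simp only [i0, i1, b, b1, b2, bt] <;> omega) (by simp only [i0, i1, b, b1, b2, bt] <;> omega)]
        linarith [pp.2]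
      by_cases e4 : l.val + 2 = t
      · have hl : l = b := Fin.ext (by simp only [i0, i1, b, b1, b2, bt] <;> omega)
        subst hl
        refine ⟨[b1, b2, bt], Groth.Agent.Lib.Helper11.nodup3 _ _ _ (by simp only [i0, i1, b, b1, b2, bt] <;> omega) (by simp only [i0, i1, b, b1, b2, bt] <;> omega) (by simp only [i0, i1, b, b1, b2, bt] <;> omega), Groth.Agent.Lib.Helper11.notmem3 _ _ _ _ (by simp only [i0, i1, b, b1, b2, bt] <;> omega) (by simp only [i0, i1, b, b1, b2, bt] <;> omega) (by simp only [i0, i1, b, b1, b2, bt] <;> omega), ?_⟩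
        rw [c2 b (by simp only [i0, i1, b, b1, b2, bt] <;> omega) (by simp only [i0, i1, b, b1, b2, bt] <;> omega)]
        simp only [List.map_cons, List.map_nil, List.sum_cons, List.sum_nil]
        rw [c2 b1 (by simp only [i0, i1, b, b1, b2, bt] <;> omega) (by simp only [i0, i1, b, b1, b2, bt] <;> omega), c1 b2 (by simp only [i0, i1, b, b1, b2, bt] <;> omega), c1 bt (by simp only [i0, i1, b, b1, b2, bt] <;> omega)]
        linarith
      · have pprev := posc ⟨l.val - 1, by omega⟩ l (by simp <;> omega) (by omega)
        have pnext := posc l ⟨l.val + 1, by omega⟩ (by simp) (by simp <;> omega)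
        refine ⟨[⟨l.val - 1, by omega⟩, ⟨l.val + 1, by omega⟩], Groth.Agent.Lib.Helper11.nodup2 _ _ (by simp <;> omega),
          Groth.Agent.Lib.Helper11.notmem2 _ _ _ (by simp <;> omega) (by simp), ?_⟩
        rw [c2 l (by omega) (by omega)]
        simp only [List.map_cons, List.map_nil, List.sum_cons, List.sum_nil]
        rw [c2 ⟨l.val - 1, by omega⟩ (by simp <;> omega) (by simp <;> omega),
          c2 ⟨l.val + 1, by omega⟩ (by simp) (by simp <;> omega)]
        linarith [pprev.2, pnext.1]
  have e01 : Groth.Agent.Lib.Helper11.cart T (v i0) (v i1) = 1 := by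
    by_contra hcon
    have : 2 ≤ Groth.Agent.Lib.Helper11.cart T (v i0) (v i1) := by omega
    exact dtail 2 (by norm_num) (by linarith) (by linarith)
  have e10 : Groth.Agent.Lib.Helper11.cart T (v i1) (v i0) = 1 := by
    by_contra hcon
    have : 2 ≤ Groth.Agent.Lib.Helper11.cart T (v i1) (v i0) := by omega
    exact dtail 1 (by norm_num) (by linarith) (by linarith)
  have simple : ∀ j j' : Fin (t + 1), j'.val = j.val + 1 → j'.val < t →
      Groth.Agent.Lib.Helper11.cart T (v j) (v j') = 1 ∧ Groth.Agent.Lib.Helper11.cart T (v j') (v j) = 1 := by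
    intro j j' hjj' hlt
    by_cases hj0 : j.val = 0
    · have hj : j = i0 := Fin.ext hj0
      have hj' : j' = i1 := Fin.ext (by rw [hjj', hj0])
      subst hj; subst hj'
      exact ⟨e01, e10⟩
    by_cases hjl : j'.val + 1 = t
    · have hj : j = b := Fin.ext (by simp only [i0, i1, b, b1, b2, bt] <;> omega)
      have hj' : j' = b2 := Fin.ext (by simp only [i0, i1, b, b1, b2, bt] <;> omega)
      subst hj; subst hj'
      exact ⟨eb2, eb2'⟩
    · have := Groth.Agent.Lib.Helper11.chain_internal T vc (by omega) (by omega) hvc hcc ⟨j.val, by omega⟩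
        ⟨j'.val, by omega⟩ (by simp <;> omega) (by simp <;> omega) (by simp <;> omega)
      rw [vc_apply, vc_apply] at this
      exact this
  have wconst : ∀ m : ℕ, ∀ j : Fin (t + 1), j.val = m → j.val < t → T.w (v j) = T.w (v i0) := by
    intro m
    induction m with
    | zero =>
      intro j hj _
      rw [show j = i0 from Fin.ext hj]
    | succ m ih =>
      intro j hj hlt
      have hprev := ih ⟨m, by omega⟩ rfl (by simp <;> omega)
      have hs := simple ⟨m, by omega⟩ j (by simp <;> omega) hlt
      have := Groth.Agent.Lib.Helper11.w_cart_symm T (v ⟨m, by omega⟩) (v j)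
      rw [hs.1, hs.2] at this
      linarith
  have wb : T.w (v b) = T.w (v i0) := wconst _ b rfl (by simp only [i0, i1, b, b1, b2, bt] <;> omega)
  have wt : T.w (v bt) = T.w (v i0) := by
    have := Groth.Agent.Lib.Helper11.w_cart_symm T (v b) (v bt)
    rw [ebt, ebt'] at this
    linarith
  have wall : ∀ j : Fin (t + 1), T.w (v j) = T.w (v i0) := by
    intro j
    by_cases hj : j.val < t
    · exact wconst _ j rfl hj
    · rw [show j = bt from Fin.ext (by simp only [i0, i1, b, b1, b2, bt] <;> omega)]
      exact wt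
  refine ⟨T.w (v i0), wall, ?_, ?_, ?_⟩
  · intro j j' hjj' hlt
    have := Groth.Agent.Lib.Helper11.w_mul_cart T (v j) (v j')
    rw [(simple j j' hjj' hlt).1, wall j] at this
    linarith
  · intro j j' hj hj'
    rw [show j = b from Fin.ext (by simp only [i0, i1, b, b1, b2, bt] <;> omega), show j' = bt from Fin.ext (by simp only [i0, i1, b, b1, b2, bt] <;> omega)]
    have := Groth.Agent.Lib.Helper11.w_mul_cart T (v b) (v bt)
    rw [ebt, wb] at this
    linarith
  · intro j k hjk hne1 hne2
    by_cases hk : k.val < t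
    · have := Groth.Agent.Lib.Helper11.no_chord T vc (by omega) hvc hcc ⟨j.val, by omega⟩ ⟨k.val, hk⟩
        (by simp only; omega)
      rw [vc_apply, vc_apply] at this
      exact this
    · have hkt : k = bt := Fin.ext (by simp only [i0, i1, b, b1, b2, bt] <;> omega)
      subst hkt
      by_cases hj1 : j.val + 1 = t
      · have hjb : j = b2 := Fin.ext (by simp only [i0, i1, b, b1, b2, bt] <;> omega)
        subst hjb
        have := Groth.Agent.Lib.Helper11.no_triangle T (Groth.Agent.Lib.Helper11.subEmb v ![b2, b, bt] (by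
            intro x y hxy
            fin_cases x <;> fin_cases y <;> simp [b, b2, bt, Fin.ext_iff] at hxy ⊢ <;> omega))
          (by omega) (fun l => hv _)
          (by
            show T.a (v b2) (v b) ≠ 0
            rw [Groth.Agent.Lib.Helper11.a_symm]
            exact hchain b b2 (by simp only [i0, i1, b, b1, b2, bt] <;> omega) (by simp only [i0, i1, b, b1, b2, bt] <;> omega))
          (by
            show T.a (v b) (v bt) ≠ 0
            exact hbranch b bt (by simp only [i0, i1, b, b1, b2, bt] <;> omega) (by simp only [i0, i1, b, b1, b2, bt] <;> omega))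
        exact this
      · -- chain 0, 1, ..., t - 2, t
        let f : Fin t → Fin (t + 1) := fun x => if x.val + 1 < t then ⟨x.val, by omega⟩ else bt
        have f1 : ∀ x : Fin t, x.val + 1 < t → f x = ⟨x.val, by omega⟩ := fun x h => if_pos h
        have f2 : ∀ x : Fin t, ¬ x.val + 1 < t → f x = bt := fun x h => if_neg h
        have finj : Function.Injective f := by
          intro x y hxy
          by_cases hx : x.val + 1 < t <;> by_cases hy : y.val + 1 < t
          · rw [f1 x hx, f1 y hy] at hxy
            exact Fin.ext (by simpa using hxy)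
          · rw [f1 x hx, f2 y hy] at hxy
            have := congrArg Fin.val hxy
            simp only [bt] at this
            omega
          · rw [f2 x hx, f1 y hy] at hxy
            have := congrArg Fin.val hxy
            simp only [bt] at this
            omega
          · exact Fin.ext (by omega)
        have hcf : ∀ x x' : Fin t, x'.val = x.val + 1 →
            T.a (Groth.Agent.Lib.Helper11.subEmb v f finj x) (Groth.Agent.Lib.Helper11.subEmb v f finj x') ≠ 0 := by
          intro x x' hxx'
          show T.a (v (f x)) (v (f x')) ≠ 0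
          by_cases hx' : x'.val + 1 < t
          · rw [f1 x (by omega), f1 x' hx']
            exact hchain _ _ (by simp only; omega) (by simp only; omega)
          · rw [f1 x (by omega), f2 x' hx']
            exact hbranch _ _ (by simp only; omega) (by simp only [bt])
        have := Groth.Agent.Lib.Helper11.no_chord T (Groth.Agent.Lib.Helper11.subEmb v f finj) (by omega) (fun l => hv _) hcf
          ⟨j.val, by omega⟩ ⟨t - 1, by omega⟩ (by simp only; omega)
        have e1 : f ⟨j.val, by omega⟩ = j := by
          rw [f1 _ (by simp only; omega)]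
        have e2 : f ⟨t - 1, by omega⟩ = bt := f2 _ (by simp only; omega)
        simp only [Groth.Agent.Lib.Helper11.subEmb_apply] at this
        rw [e1, e2] at this
        exact this

end Groth.Agent.S7355
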