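import Groth.Statements.S9674
import Groth.Agent.Lib.Helper39.NormFin
-- import your own Groth.Agent.* helpers here

set_option autoImplicit false
universe u
open CategoryTheory CategoryTheory.Limits AlgebraicGeometry
open Mor

namespace Groth.Agent.S9674

section Helpers

set_option autoImplicit false
open CategoryTheory CategoryTheory.Limits AlgebraicGeometry
open Mor

namespace T9674
open Groth.Agent.Lib.Helper39.NormFin

/-- residue fields at points of an affine open consist of fractions of sections -/
theorem exists_evaluation_frac {S : Scheme.{u}} (U : S.Opens) (hU : IsAffineOpen U) (y : S)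
    (hy : y ∈ U) (k : S.residueField y) :
    ∃ a b : Γ(S, U), (S.evaluation U y hy).hom b ≠ 0 ∧
      k * (S.evaluation U y hy).hom b = (S.evaluation U y hy).hom a := by
  obtain ⟨s, rfl⟩ := S.residue_surjective y k
  letI := TopCat.Presheaf.algebra_section_stalk S.presheaf ⟨y, hy⟩
  haveI := hU.isLocalization_stalk ⟨y, hy⟩
  obtain ⟨⟨a, b⟩, hab⟩ := IsLocalization.surj (hU.primeIdealOf ⟨y, hy⟩).asIdeal.primeCompl s
  have hunit : IsUnit (algebraMap Γ(S, U) (S.presheaf.stalk y) b) :=
    IsLocalization.map_units (S.presheaf.stalk y) b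
  refine ⟨a, b, ?_, ?_⟩
  · have h1 : (S.evaluation U y hy).hom b =
        (S.residue y).hom (algebraMap Γ(S, U) (S.presheaf.stalk y) b) := rfl
    rw [h1]
    exact (hunit.map (S.residue y).hom).ne_zero
  · have h1 : (S.evaluation U y hy).hom b =
        (S.residue y).hom (algebraMap Γ(S, U) (S.presheaf.stalk y) b) := rfl
    have h2 : (S.evaluation U y hy).hom a =
        (S.residue y).hom (algebraMap Γ(S, U) (S.presheaf.stalk y) a) := rfl
    rw [h1, h2, ← hab, map_mul]

/-- finite product version -/
theorem finite_integralClosure_of_pi {R B : Type u} [CommRing R] [IsNoetherianRing R] [CommRing B]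
    [Algebra R B] {ι : Type*} [Finite ι] (L : ι → Type u) [∀ i, CommRing (L i)]
    [∀ i, Algebra R (L i)] (e : ∀ i, B →ₐ[R] L i) (hinj : ∀ b : B, (∀ i, e i b = 0) → b = 0)
    (hfin : ∀ i, Module.Finite R (integralClosure R (L i))) :
    Module.Finite R (integralClosure R B) := by
  let Φ : integralClosure R B →ₗ[R] (∀ i, integralClosure R (L i)) :=
    LinearMap.pi fun i => ((e i).mapIntegralClosure).toLinearMap
  have hΦ : Function.Injective Φ := by
    rw [injective_iff_map_eq_zero]
    intro b hb
    apply Subtype.ext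
    apply hinj
    intro i
    have := congr_arg Subtype.val (congr_fun hb i)
    exact this
  have : Module.Finite R (∀ i, integralClosure R (L i)) := Module.Finite.pi
  have : IsNoetherian R (∀ i, integralClosure R (L i)) :=
    isNoetherian_of_isNoetherianRing_of_finite _ _
  exact Module.Finite.of_injective Φ hΦ

theorem finite_integralClosure_sections {X S : Scheme.{u}} (f : X ⟶ S) [QuasiCompact f]
    [IsReduced X] (U : S.Opens) (hU : IsAffineOpen U) (hN : CAlg.IsNagata Γ(S, U))
    (hfin : LocallyFinite (fun Z : ↥(irreducibleComponents ↥X) => (Z : Set ↥X)))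
    (hres : ∀ x : X, closure {x} ∈ irreducibleComponents ↥X →
      (f.residueFieldMap x).hom.EssFiniteType) :
    letI := (f.app U).hom.toAlgebra
    Module.Finite Γ(S, U) (integralClosure Γ(S, U) Γ(X, f ⁻¹ᵁ U)) := by
  classical
  letI := (f.app U).hom.toAlgebra
  haveI := hN.1
  have hc : IsCompact ((f ⁻¹ᵁ U : X.Opens) : Set X) := f.isCompact_preimage hU.isCompact
  -- the finitely many components meeting `f⁻¹U`
  have hI := hfin.finite_nonempty_inter_compact hc
  let I := {Z : ↥(irreducibleComponents ↥X) // ((Z : Set X) ∩ ((f ⁻¹ᵁ U : X.Opens) : Set X)).Nonempty}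
  haveI : Finite I := hI.to_subtype
  -- generic points
  have hgen : ∀ Z : I, ∃ ξ : X, IsGenericPoint ξ (Z.1 : Set X) := fun Z =>
    QuasiSober.sober Z.1.2.1 (isClosed_of_mem_irreducibleComponents _ Z.1.2)
  choose ξ hξ using hgen
  have hξU : ∀ Z : I, ξ Z ∈ f ⁻¹ᵁ U := fun Z =>
    ((hξ Z).mem_open_set_iff (f ⁻¹ᵁ U).isOpen).mpr Z.2
  have hfξ : ∀ Z : I, f (ξ Z) ∈ U := fun Z => hξU Z
  have hcl : ∀ Z : I, closure {ξ Z} ∈ irreducibleComponents ↥X := fun Z => by
    rw [(hξ Z).def]
    exact Z.1.2
  -- algebra structures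
  letI : ∀ Z : I, Algebra Γ(S, U) (X.residueField (ξ Z)) := fun Z =>
    ((X.evaluation (f ⁻¹ᵁ U) (ξ Z) (hξU Z)).hom.comp (f.app U).hom).toAlgebra
  let e : ∀ Z : I, Γ(X, f ⁻¹ᵁ U) →ₐ[Γ(S, U)] X.residueField (ξ Z) := fun Z =>
    { toRingHom := (X.evaluation (f ⁻¹ᵁ U) (ξ Z) (hξU Z)).hom
      commutes' := fun _ => rfl }
  refine finite_integralClosure_of_pi (fun Z : I => X.residueField (ξ Z)) e ?_ ?_
  · -- injectivity
    intro b hb
    have hbot : X.basicOpen b = ⊥ := by
      rw [eq_bot_iff]
      intro x hx
      exfalso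
      have hxU : x ∈ f ⁻¹ᵁ U := X.basicOpen_le b hx
      let Z₀ : ↥(irreducibleComponents ↥X) :=
        ⟨irreducibleComponent x, irreducibleComponent_mem_irreducibleComponents x⟩
      have hZ₀ : ((Z₀ : Set X) ∩ ((f ⁻¹ᵁ U : X.Opens) : Set X)).Nonempty :=
        ⟨x, mem_irreducibleComponent, hxU⟩
      let Z : I := ⟨Z₀, hZ₀⟩
      have h1 : ξ Z ∈ X.basicOpen b :=
        ((hξ Z).mem_open_set_iff (X.basicOpen b).isOpen).mpr ⟨x, mem_irreducibleComponent, hx⟩
      have h2 := (X.evaluation_ne_zero_iff_mem_basicOpen (ξ Z) (hξU Z) b).mpr h1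
      exact h2 (hb Z)
    have hnil : IsNilpotent b := (Scheme.isNilpotent_iff_basicOpen_eq_bot_of_isCompact hc b).mpr hbot
    exact hnil.eq_zero
  · intro Z
    letI : Algebra Γ(S, U) (S.residueField (f (ξ Z))) :=
      (S.evaluation U (f (ξ Z)) (hfξ Z)).hom.toAlgebra
    letI : Algebra (S.residueField (f (ξ Z))) (X.residueField (ξ Z)) :=
      (f.residueFieldMap (ξ Z)).hom.toAlgebra
    haveI : IsScalarTower Γ(S, U) (S.residueField (f (ξ Z))) (X.residueField (ξ Z)) :=
      IsScalarTower.of_algebraMap_eq (fun a =>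
        (Scheme.evaluation_naturality_apply f (ξ Z) (hfξ Z) a).symm)
    haveI : Algebra.EssFiniteType (S.residueField (f (ξ Z))) (X.residueField (ξ Z)) :=
      hres (ξ Z) (hcl Z)
    exact finite_integralClosure_of_essFiniteType hN
      (fun k => exists_evaluation_frac U hU (f (ξ Z)) (hfξ Z) k)

theorem main9674 {X S : Scheme.{u}} (f : X ⟶ S)
    [QuasiCompact f] [QuasiSeparated f] [IsReduced X]
    (hS : ∀ U : S.affineOpens, CAlg.IsNagata Γ(S, U))
    (hfin : LocallyFinite (fun Z : ↥(irreducibleComponents ↥X) => (Z : Set ↥X)))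
    (hres : ∀ x : X, closure {x} ∈ irreducibleComponents ↥X → (f.residueFieldMap x).hom.EssFiniteType) :
    IsFinite f.fromNormalization := by
  refine (isFinite_iff _).mpr ⟨inferInstance, fun U hU => ?_⟩
  letI := (f.app U).hom.toAlgebra
  have hfin' := finite_integralClosure_sections f U hU (hS ⟨U, hU⟩) hfin hres
  rw [Scheme.Hom.fromNormalization_app _ hU, CommRingCat.hom_comp]
  refine RingHom.Finite.comp ?_ ?_
  · exact RingHom.Finite.of_surjective _
      (ConcreteCategory.bijective_of_isIso (f.normalizationObjIso hU).inv).2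
  · exact hfin'

end T9674

end Helpers

/-- Let f : X ⟶ S be quasi-compact and quasi-separated. Assume every affine open of S has Nagata
coordinate ring, X is reduced, the irreducible components of X are locally finite (equivalently
every quasi-compact open of X has finitely many), and at each point x that is generic in a component
of X, the residue field of x is essentially of finite type over the residue field of f x. Then the
normalization of S in X is finite over S. -/
theorem result {X S : Scheme.{u}} (f : X ⟶ S)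
    [QuasiCompact f] [QuasiSeparated f] [IsReduced X]
    (hS : ∀ U : S.affineOpens, CAlg.IsNagata Γ(S, U))
    (hfin : LocallyFinite (fun Z : ↥(irreducibleComponents ↥X) => (Z : Set ↥X)))
    (hres : ∀ x : X, closure {x} ∈ irreducibleComponents ↥X → (f.residueFieldMap x).hom.EssFiniteType) :
    IsFinite f.fromNormalization := by
  exact T9674.main9674 f hS hfin hres

end Groth.Agent.S9674
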