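import Groth.Statements.S7359
import Groth.Agent.S9674
import Groth.Agent.Lib.Helper69.BlowUpProper
import Groth.Agent.Lib.Helper69.NagataSch
import Groth.Agent.Lib.Helper7.NormField

set_option autoImplicit false
universe u
open CategoryTheory CategoryTheory.Limits AlgebraicGeometry
open Resolve

namespace Groth.Agent.S7359

set_option linter.style.haveILetI false

section Helpers

open Groth.Agent.Lib.Helper7 Groth.Agent.Lib.Helper69.BlowUpProper
  Groth.Agent.Lib.Helper69.NagataSch

/-- finiteness of the normalization of an integral scheme all of whose affine opens are Nagata -/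
theorem isFinite_normalizationι_of_nagata (X' : Scheme.{u}) [IsIntegral X']
    [QuasiCompact (X'.fromSpecStalk (genericPoint X'))]
    [QuasiSeparated (X'.fromSpecStalk (genericPoint X'))]
    (hN : ∀ U : X'.affineOpens, CAlg.IsNagata Γ(X', U.1)) :
    IsFinite (Curv2.normalizationι X') := by
  haveI : IsDomain (X'.presheaf.stalk (genericPoint X')) :=
    inferInstanceAs (IsDomain X'.functionField)
  have hsub : Subsingleton ↥(Spec (X'.presheaf.stalk (genericPoint X'))) := by
    letI : Field (X'.presheaf.stalk (genericPoint X')) :=
      inferInstanceAs (Field X'.functionField)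
    exact inferInstanceAs (Subsingleton (PrimeSpectrum (X'.presheaf.stalk (genericPoint X'))))
  refine Groth.Agent.S9674.result (X'.fromSpecStalk (genericPoint X')) hN ?_ ?_
  · haveI : Finite ↥(Spec (X'.presheaf.stalk (genericPoint X'))) := Finite.of_subsingleton
    exact locallyFinite_of_finite _
  · intro p _
    apply RingHom.FiniteType.essFiniteType
    exact RingHom.FiniteType.of_surjective _
      (NormField.residueFieldMap_surjective_of_surjectiveOnStalks _ p)

end Helpers

/-- Let X be an integral locally Noetherian Nagata scheme (every affine open has a Nagata coordinate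
ring), x ∈ X a closed point, b : X' → X the blowing up of X at x (in the reduced point; X' is again
integral) and X'' → X' the normalization of X'. Then the normalized blowing up X'' is a normal
scheme, is Nagata, and X'' → X is proper. (The quasi-compactness and quasi-separatedness binders on
Spec K(X') → X' always hold; they are needed only to form the normalization.) -/
theorem result (X : Scheme.{u}) [IsIntegral X] [IsLocallyNoetherian X]
    (hN : ∀ U : X.affineOpens, CAlg.IsNagata Γ(X, U.1)) (x : X) (hx : IsClosed ({x} : Set X))
    (X' : Scheme.{u}) (b : X' ⟶ X) (hb : BlowUp.IsBlowUp b (Scheme.IdealSheafData.vanishingIdeal ⟨{x}, hx⟩)) [IsIntegral X']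
    [QuasiCompact (X'.fromSpecStalk (genericPoint X'))] [QuasiSeparated (X'.fromSpecStalk (genericPoint X'))] :
    Pi1.IsNormalScheme (Curv2.normalization X') ∧
      (∀ U : (Curv2.normalization X').affineOpens, CAlg.IsNagata Γ(Curv2.normalization X', U.1)) ∧
      IsProper (Curv2.normalizationι X' ≫ b) := by
  have h𝓘 : BlowUp.IsFiniteTypeIdeal (Scheme.IdealSheafData.vanishingIdeal ⟨{x}, hx⟩) := by
    intro U
    haveI : IsNoetherianRing Γ(X, U.1) := IsLocallyNoetherian.component_noetherian U
    exact IsNoetherian.noetherian _
  haveI hbp : IsProper b :=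
    Groth.Agent.Lib.Helper69.BlowUpProper.isProper_of_isBlowUp _ h𝓘 b hb
  have hX'N : ∀ U : X'.affineOpens, CAlg.IsNagata Γ(X', U.1) := fun U =>
    Groth.Agent.Lib.Helper69.NagataSch.isNagata_of_locallyOfFiniteType b hN U.1 U.2
  haveI hfin : IsFinite (Curv2.normalizationι X') := isFinite_normalizationι_of_nagata X' hX'N
  refine ⟨?_, fun U => ?_, ?_⟩
  · exact Groth.Agent.Lib.Helper7.NormField.isNormalScheme_normalization
      (Field.toIsField X'.functionField) (X'.fromSpecStalk (genericPoint X'))
  · exact Groth.Agent.Lib.Helper69.NagataSch.isNagata_of_locallyOfFiniteType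
      (Curv2.normalizationι X') hX'N U.1 U.2
  · infer_instance

end Groth.Agent.S7359
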