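import Groth.Statements.S7362
import Groth.Agent.Lib.Helper11.NumTypeGenusOne

set_option autoImplicit false
open Finset
open Models Models.NumericalType

namespace Groth.Agent.S7362

/-- Genus one classification: case n = 2: let T be a minimal numerical type of genus 1 on two indices.
Then for some ordering i, j of the indices and some integers m, w, either m_i = m_j = m, a_ii = a_jj
= -2w, a_ij = 2w, w_i = w_j = w, g_i = g_j = 0; or m_i = 2m, m_j = m, a_ii = -2w, a_ij = 4w, a_jj =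
-8w, w_i = w, w_j = 4w, g_i = g_j = 0. Only the classification direction is stated. -/
theorem result (T : Models.NumericalType 2) (hmin : T.IsMinimal) (hg : T.genus = 1) :
    ∃ (i j : Fin 2) (m w : ℤ), i ≠ j ∧ T.g i = 0 ∧ T.g j = 0 ∧
      ((T.m i = m ∧ T.m j = m ∧ T.a i i = -2 * w ∧ T.a i j = 2 * w ∧ T.a j j = -2 * w ∧ T.w i = w ∧ T.w j = w) ∨
        (T.m i = 2 * m ∧ T.m j = m ∧ T.a i i = -2 * w ∧ T.a i j = 4 * w ∧ T.a j j = -8 * w ∧ T.w i = w ∧ T.w j = 4 * w)) := by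
  have hm2 := Groth.Agent.Lib.Helper11.all_minusTwo T hmin (by norm_num) hg
  obtain ⟨j0, hj0, hpos⟩ := Groth.Agent.Lib.Helper11.exists_neighbour T (by norm_num) (0 : Fin 2)
  have hj01 : j0 = 1 := by
    fin_cases j0
    · exact absurd rfl hj0
    · rfl
  subst hj01
  have n01 : (0 : Fin 2) ≠ 1 := by decide
  obtain ⟨p01, p10⟩ := Groth.Agent.Lib.Helper11.cart_pos_both T n01 hpos.ne'
  have r0 := Groth.Agent.Lib.Helper11.row_sum_cart T 0
  have r1 := Groth.Agent.Lib.Helper11.row_sum_cart T 1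
  rw [Fin.sum_univ_two] at r0 r1
  rw [Groth.Agent.Lib.Helper11.cart_diag T (hm2 0)] at r0
  rw [Groth.Agent.Lib.Helper11.cart_diag T (hm2 1)] at r1
  have hw := Groth.Agent.Lib.Helper11.w_cart_symm T 0 1
  have ha := Groth.Agent.Lib.Helper11.w_mul_cart T 0 1
  have hs := Groth.Agent.Lib.Helper11.a_symm T 1 0
  have hm0 := T.m_pos 0
  have hm1 := T.m_pos 1
  have hw0 := T.w_pos 0
  have d0 := (hm2 0).2
  have d1 := (hm2 1).2
  generalize Groth.Agent.Lib.Helper11.cart T 0 1 = x at *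
  generalize Groth.Agent.Lib.Helper11.cart T 1 0 = y at *
  have hxy : x * y = 4 := by
    have h1 : (x * y - 4) * (T.m 0 * T.m 1) = 0 := by
      linear_combination (y * T.m 0) * r0 + (2 * T.m 0) * r1
    rcases mul_eq_zero.1 h1 with h | h
    · linarith
    · exfalso
      have := mul_pos hm0 hm1
      linarith
  have hx4 : x ≤ 4 := by nlinarith
  have hy4 : y ≤ 4 := by nlinarith
  interval_cases x <;> interval_cases y <;> first
    | omega
    | (refine ⟨0, 1, T.m 0, T.w 0, n01, (hm2 0).1, (hm2 1).1, Or.inl ?_⟩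
       refine ⟨?_, ?_, ?_, ?_, ?_, ?_, ?_⟩ <;> omega)
    | (refine ⟨1, 0, T.m 0, T.w 1, n01.symm, (hm2 1).1, (hm2 0).1, Or.inr ?_⟩
       refine ⟨?_, ?_, ?_, ?_, ?_, ?_, ?_⟩ <;> omega)
    | (refine ⟨0, 1, T.m 1, T.w 0, n01, (hm2 0).1, (hm2 1).1, Or.inr ?_⟩
       refine ⟨?_, ?_, ?_, ?_, ?_, ?_, ?_⟩ <;> omega)

end Groth.Agent.S7362
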