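import Groth.Statements.S7363
import Groth.Agent.Lib.Helper11.NumTypeGenusOne

set_option autoImplicit false
open Finset
open Models Models.NumericalType

namespace Groth.Agent.S7363

/-- Genus one classification: case n = 3: let T be a minimal numerical type of genus 1 on three indices.
Then all g = 0 and, for some ordering i, j, k of the indices and some integers m, w, the data (m; a;
w) is one of: (m,m,m; a_ii = a_jj = a_kk = -2w, a_ij = a_ik = a_jk = w; w,w,w); (m,2m,m; a_ii = -2w,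
a_ij = w, a_ik = 0, a_jj = -2w, a_jk = 3w, a_kk = -6w; w,w,3w); (m,2m,3m; a_ii = -6w, a_ij = 3w,
a_ik = 0, a_jj = -6w, a_jk = 3w, a_kk = -2w; 3w,3w,w); (2m,2m,m; a_ii = -2w, a_ij = 2w, a_ik = 0,
a_jj = -4w, a_jk = 4w, a_kk = -8w; w,2w,4w); (m,m,m; a_ii = -2w, a_ij = 2w, a_ik = 0, a_jj = -4w,
a_jk = 2w, a_kk = -2w; w,2w,w); (m,2m,m; a_ii = -4w, a_ij = 2w, a_ik = 0, a_jj = -2w, a_jk = 2w,
a_kk = -4w; 2w,w,2w). Only the classification direction is stated. -/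
theorem sum_three (f : Fin 3 → ℤ) (i j k : Fin 3) (hij : i ≠ j) (hjk : j ≠ k) (hik : i ≠ k) :
    ∑ l, f l = f i + f j + f k := by
  rw [Fin.sum_univ_three]
  fin_cases i <;> fin_cases j <;> fin_cases k <;> simp_all <;> ring

theorem path3 (T : Models.NumericalType 3) (hm2 : ∀ i, T.IsMinusTwo i) (i j k : Fin 3)
    (hij : i ≠ j) (hjk : j ≠ k) (hik : i ≠ k) (h1 : T.a i j ≠ 0) (h2 : T.a j k ≠ 0)
    (h0 : T.a i k = 0) :
    ∃ (i j k : Fin 3) (m w : ℤ), i ≠ j ∧ j ≠ k ∧ i ≠ k ∧ T.g i = 0 ∧ T.g j = 0 ∧ T.g k = 0 ∧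
      ((T.m i = m ∧ T.m j = m ∧ T.m k = m ∧ T.a i i = -2 * w ∧ T.a j j = -2 * w ∧ T.a k k = -2 * w ∧
          T.a i j = w ∧ T.a i k = w ∧ T.a j k = w ∧ T.w i = w ∧ T.w j = w ∧ T.w k = w) ∨
        (T.m i = m ∧ T.m j = 2 * m ∧ T.m k = m ∧ T.a i i = -2 * w ∧ T.a i j = w ∧ T.a i k = 0 ∧ T.a j j = -2 * w ∧
          T.a j k = 3 * w ∧ T.a k k = -6 * w ∧ T.w i = w ∧ T.w j = w ∧ T.w k = 3 * w) ∨
        (T.m i = m ∧ T.m j = 2 * m ∧ T.m k = 3 * m ∧ T.a i i = -6 * w ∧ T.a i j = 3 * w ∧ T.a i k = 0 ∧ T.a j j = -6 * w ∧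
          T.a j k = 3 * w ∧ T.a k k = -2 * w ∧ T.w i = 3 * w ∧ T.w j = 3 * w ∧ T.w k = w) ∨
        (T.m i = 2 * m ∧ T.m j = 2 * m ∧ T.m k = m ∧ T.a i i = -2 * w ∧ T.a i j = 2 * w ∧ T.a i k = 0 ∧ T.a j j = -4 * w ∧
          T.a j k = 4 * w ∧ T.a k k = -8 * w ∧ T.w i = w ∧ T.w j = 2 * w ∧ T.w k = 4 * w) ∨
        (T.m i = m ∧ T.m j = m ∧ T.m k = m ∧ T.a i i = -2 * w ∧ T.a i j = 2 * w ∧ T.a i k = 0 ∧ T.a j j = -4 * w ∧
          T.a j k = 2 * w ∧ T.a k k = -2 * w ∧ T.w i = w ∧ T.w j = 2 * w ∧ T.w k = w) ∨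
        (T.m i = m ∧ T.m j = 2 * m ∧ T.m k = m ∧ T.a i i = -4 * w ∧ T.a i j = 2 * w ∧ T.a i k = 0 ∧ T.a j j = -2 * w ∧
          T.a j k = 2 * w ∧ T.a k k = -4 * w ∧ T.w i = 2 * w ∧ T.w j = w ∧ T.w k = 2 * w)) := by
  obtain ⟨px, px'⟩ := Groth.Agent.Lib.Helper11.cart_pos_both T hij h1
  obtain ⟨py, py'⟩ := Groth.Agent.Lib.Helper11.cart_pos_both T hjk h2
  have ri := Groth.Agent.Lib.Helper11.row_sum_cart T i
  have rj := Groth.Agent.Lib.Helper11.row_sum_cart T j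
  have rk := Groth.Agent.Lib.Helper11.row_sum_cart T k
  rw [sum_three _ i j k hij hjk hik] at ri rj rk
  rw [Groth.Agent.Lib.Helper11.cart_diag T (hm2 i), (Groth.Agent.Lib.Helper11.cart_eq_zero_iff T).2 h0] at ri
  rw [Groth.Agent.Lib.Helper11.cart_diag T (hm2 j)] at rj
  rw [Groth.Agent.Lib.Helper11.cart_diag T (hm2 k), (Groth.Agent.Lib.Helper11.cart_eq_zero_iff T).2 (by rw [Groth.Agent.Lib.Helper11.a_symm]; exact h0)] at rk
  have hwij := Groth.Agent.Lib.Helper11.w_cart_symm T i j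
  have hwjk := Groth.Agent.Lib.Helper11.w_cart_symm T j k
  have haij := Groth.Agent.Lib.Helper11.w_mul_cart T i j
  have hajk := Groth.Agent.Lib.Helper11.w_mul_cart T j k
  have haji := Groth.Agent.Lib.Helper11.a_symm T j i
  have hakj := Groth.Agent.Lib.Helper11.a_symm T k j
  have haki := Groth.Agent.Lib.Helper11.a_symm T k i
  have di := (hm2 i).2
  have dj := (hm2 j).2
  have dk := (hm2 k).2
  have hmi := T.m_pos i
  have hmj := T.m_pos j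
  have hmk := T.m_pos k
  have hwi := T.w_pos i
  have hwj := T.w_pos j
  have hwk := T.w_pos k
  have c1 : Groth.Agent.Lib.Helper11.cart T j i * Groth.Agent.Lib.Helper11.cart T i j ≤ 3 :=
    Groth.Agent.Lib.Helper11.chain2 T (Groth.Agent.Lib.Helper11.pairEmb hij) (by norm_num) (by
      intro l; fin_cases l
      · exact hm2 i
      · exact hm2 j) h1
  have c2 : Groth.Agent.Lib.Helper11.cart T k j * Groth.Agent.Lib.Helper11.cart T j k ≤ 3 :=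
    Groth.Agent.Lib.Helper11.chain2 T (Groth.Agent.Lib.Helper11.pairEmb hjk) (by norm_num) (by
      intro l; fin_cases l
      · exact hm2 j
      · exact hm2 k) h2
  generalize Groth.Agent.Lib.Helper11.cart T i j = x at *
  generalize Groth.Agent.Lib.Helper11.cart T j i = x' at *
  generalize Groth.Agent.Lib.Helper11.cart T j k = y at *
  generalize Groth.Agent.Lib.Helper11.cart T k j = y' at *
  have hsum : x' * x + y * y' = 4 := by
    have h : (x' * x + y * y' - 4) * T.m j = 0 := by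
      linear_combination 2 * rj + x' * ri + y * rk
    rcases mul_eq_zero.1 h with h | h
    · linarith
    · omega
  have hx3 := (Groth.Agent.Lib.Helper11.le_three_of_prod_le_three px' px c1)
  have hy3 := (Groth.Agent.Lib.Helper11.le_three_of_prod_le_three py py' (by linarith))
  obtain ⟨hx3', hx3⟩ := hx3
  obtain ⟨hy3, hy3'⟩ := hy3
  interval_cases x <;> interval_cases x' <;> interval_cases y <;> interval_cases y' <;> first
    | omega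
    | (refine ⟨i, j, k, T.m i, T.w i, hij, hjk, hik, (hm2 i).1, (hm2 j).1, (hm2 k).1, Or.inr (Or.inl ?_)⟩
       refine ⟨?_, ?_, ?_, ?_, ?_, ?_, ?_, ?_, ?_, ?_, ?_, ?_⟩ <;> omega)
    | (refine ⟨i, j, k, T.m i, T.w k, hij, hjk, hik, (hm2 i).1, (hm2 j).1, (hm2 k).1, Or.inr (Or.inr (Or.inl ?_))⟩
       refine ⟨?_, ?_, ?_, ?_, ?_, ?_, ?_, ?_, ?_, ?_, ?_, ?_⟩ <;> omega)
    | (refine ⟨k, j, i, T.m k, T.w i, hjk.symm, hij.symm, hik.symm, (hm2 k).1, (hm2 j).1, (hm2 i).1, Or.inr (Or.inr (Or.inl ?_))⟩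
       refine ⟨?_, ?_, ?_, ?_, ?_, ?_, ?_, ?_, ?_, ?_, ?_, ?_⟩ <;> omega)
    | (refine ⟨k, j, i, T.m k, T.w k, hjk.symm, hij.symm, hik.symm, (hm2 k).1, (hm2 j).1, (hm2 i).1, Or.inr (Or.inl ?_)⟩
       refine ⟨?_, ?_, ?_, ?_, ?_, ?_, ?_, ?_, ?_, ?_, ?_, ?_⟩ <;> omega)
    | (refine ⟨i, j, k, T.m k, T.w i, hij, hjk, hik, (hm2 i).1, (hm2 j).1, (hm2 k).1, Or.inr (Or.inr (Or.inr (Or.inl ?_)))⟩
       refine ⟨?_, ?_, ?_, ?_, ?_, ?_, ?_, ?_, ?_, ?_, ?_, ?_⟩ <;> omega)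
    | (refine ⟨i, j, k, T.m i, T.w i, hij, hjk, hik, (hm2 i).1, (hm2 j).1, (hm2 k).1, Or.inr (Or.inr (Or.inr (Or.inr (Or.inl ?_))))⟩
       refine ⟨?_, ?_, ?_, ?_, ?_, ?_, ?_, ?_, ?_, ?_, ?_, ?_⟩ <;> omega)
    | (refine ⟨i, j, k, T.m i, T.w j, hij, hjk, hik, (hm2 i).1, (hm2 j).1, (hm2 k).1, Or.inr (Or.inr (Or.inr (Or.inr (Or.inr ?_))))⟩
       refine ⟨?_, ?_, ?_, ?_, ?_, ?_, ?_, ?_, ?_, ?_, ?_, ?_⟩ <;> omega)
    | (refine ⟨k, j, i, T.m i, T.w k, hjk.symm, hij.symm, hik.symm, (hm2 k).1, (hm2 j).1, (hm2 i).1, Or.inr (Or.inr (Or.inr (Or.inl ?_)))⟩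
       refine ⟨?_, ?_, ?_, ?_, ?_, ?_, ?_, ?_, ?_, ?_, ?_, ?_⟩ <;> omega)

theorem result (T : Models.NumericalType 3) (hmin : T.IsMinimal) (hg : T.genus = 1) :
    ∃ (i j k : Fin 3) (m w : ℤ), i ≠ j ∧ j ≠ k ∧ i ≠ k ∧ T.g i = 0 ∧ T.g j = 0 ∧ T.g k = 0 ∧
      ((T.m i = m ∧ T.m j = m ∧ T.m k = m ∧ T.a i i = -2 * w ∧ T.a j j = -2 * w ∧ T.a k k = -2 * w ∧
          T.a i j = w ∧ T.a i k = w ∧ T.a j k = w ∧ T.w i = w ∧ T.w j = w ∧ T.w k = w) ∨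
        (T.m i = m ∧ T.m j = 2 * m ∧ T.m k = m ∧ T.a i i = -2 * w ∧ T.a i j = w ∧ T.a i k = 0 ∧ T.a j j = -2 * w ∧
          T.a j k = 3 * w ∧ T.a k k = -6 * w ∧ T.w i = w ∧ T.w j = w ∧ T.w k = 3 * w) ∨
        (T.m i = m ∧ T.m j = 2 * m ∧ T.m k = 3 * m ∧ T.a i i = -6 * w ∧ T.a i j = 3 * w ∧ T.a i k = 0 ∧ T.a j j = -6 * w ∧
          T.a j k = 3 * w ∧ T.a k k = -2 * w ∧ T.w i = 3 * w ∧ T.w j = 3 * w ∧ T.w k = w) ∨
        (T.m i = 2 * m ∧ T.m j = 2 * m ∧ T.m k = m ∧ T.a i i = -2 * w ∧ T.a i j = 2 * w ∧ T.a i k = 0 ∧ T.a j j = -4 * w ∧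
          T.a j k = 4 * w ∧ T.a k k = -8 * w ∧ T.w i = w ∧ T.w j = 2 * w ∧ T.w k = 4 * w) ∨
        (T.m i = m ∧ T.m j = m ∧ T.m k = m ∧ T.a i i = -2 * w ∧ T.a i j = 2 * w ∧ T.a i k = 0 ∧ T.a j j = -4 * w ∧
          T.a j k = 2 * w ∧ T.a k k = -2 * w ∧ T.w i = w ∧ T.w j = 2 * w ∧ T.w k = w) ∨
        (T.m i = m ∧ T.m j = 2 * m ∧ T.m k = m ∧ T.a i i = -4 * w ∧ T.a i j = 2 * w ∧ T.a i k = 0 ∧ T.a j j = -2 * w ∧
          T.a j k = 2 * w ∧ T.a k k = -4 * w ∧ T.w i = 2 * w ∧ T.w j = w ∧ T.w k = 2 * w)) := by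
  have hm2 := Groth.Agent.Lib.Helper11.all_minusTwo T hmin (by norm_num) hg
  have pos_of_ne : ∀ i j : Fin 3, i ≠ j → T.a i j ≠ 0 → 0 < T.a i j := fun i j h h' =>
    lt_of_le_of_ne (T.offDiag_nonneg i j h) (Ne.symm h')
  have nb : ∀ i : Fin 3, ∃ j, j ≠ i ∧ 0 < T.a i j := Groth.Agent.Lib.Helper11.exists_neighbour T (by norm_num)
  have s := Groth.Agent.Lib.Helper11.a_symm T
  by_cases h02 : T.a 0 2 = 0
  · have h01 : T.a 0 1 ≠ 0 := by
      obtain ⟨j, hj, hp⟩ := nb 0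
      fin_cases j
      · exact absurd rfl hj
      · exact hp.ne'
      · exfalso; simp at hp; omega
    have h12 : T.a 1 2 ≠ 0 := by
      obtain ⟨j, hj, hp⟩ := nb 2
      fin_cases j
      · exfalso; simp at hp; rw [s 2 0] at hp; omega
      · rw [s 1 2]; exact hp.ne'
      · exact absurd rfl hj
    exact path3 T hm2 0 1 2 (by decide) (by decide) (by decide) h01 h12 h02
  by_cases h01 : T.a 0 1 = 0
  · have h21 : T.a 2 1 ≠ 0 := by
      obtain ⟨j, hj, hp⟩ := nb 1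
      fin_cases j
      · exfalso; simp at hp; rw [s 1 0] at hp; omega
      · exact absurd rfl hj
      · rw [s 2 1]; exact hp.ne'
    exact path3 T hm2 0 2 1 (by decide) (by decide) (by decide) h02 h21 h01
  by_cases h12 : T.a 1 2 = 0
  · exact path3 T hm2 1 0 2 (by decide) (by decide) (by decide) (by rw [s 1 0]; exact h01) h02 h12
  -- triangle
  have p01 := pos_of_ne 0 1 (by decide) h01
  have p02 := pos_of_ne 0 2 (by decide) h02
  have p12 := pos_of_ne 1 2 (by decide) h12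
  have q := Groth.Agent.Lib.Helper11.quad_nonpos T (fun _ => 1)
  simp only [Fin.sum_univ_three, mul_one] at q
  have l01 := Groth.Agent.Lib.Helper11.w_le_of_pos T p01
  have l02 := Groth.Agent.Lib.Helper11.w_le_of_pos T p02
  have l12 := Groth.Agent.Lib.Helper11.w_le_of_pos T p12
  have l10 := Groth.Agent.Lib.Helper11.w_le_of_pos T (show 0 < T.a 1 0 by rw [s 1 0]; exact p01)
  have l20 := Groth.Agent.Lib.Helper11.w_le_of_pos T (show 0 < T.a 2 0 by rw [s 2 0]; exact p02)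
  have l21 := Groth.Agent.Lib.Helper11.w_le_of_pos T (show 0 < T.a 2 1 by rw [s 2 1]; exact p12)
  have d0 := (hm2 0).2
  have d1 := (hm2 1).2
  have d2 := (hm2 2).2
  have s10 := s 1 0
  have s20 := s 2 0
  have s21 := s 2 1
  have hq0 : ∑ i, ∑ j, T.a i j * (fun _ => (1 : ℤ)) i * (fun _ => (1 : ℤ)) j = 0 := by
    simp only [Fin.sum_univ_three, mul_one]
    omega
  have m01 := Groth.Agent.Lib.Helper11.quad_eq_zero_proportional T (fun _ => 1) hq0 0 1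
  have m02 := Groth.Agent.Lib.Helper11.quad_eq_zero_proportional T (fun _ => 1) hq0 0 2
  simp only [one_mul] at m01 m02
  refine ⟨0, 1, 2, T.m 0, T.w 0, by decide, by decide, by decide, (hm2 0).1, (hm2 1).1, (hm2 2).1,
    Or.inl ?_⟩
  refine ⟨?_, ?_, ?_, ?_, ?_, ?_, ?_, ?_, ?_, ?_, ?_, ?_⟩ <;> omega

end Groth.Agent.S7363
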