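import Groth.Statements.S7364
import Groth.Agent.Lib.Helper11.NumTypeGenusOne

set_option autoImplicit false
open Finset
open Models Models.NumericalType

namespace Groth.Agent.S7364

/-- the six types, for the ordering `a, b, c, d` of the indices -/
def Q (T : Models.NumericalType 4) (a b c d : Fin 4) (m w : ℤ) : Prop :=
      ((T.m a = m ∧ T.m b = m ∧ T.m c = m ∧ T.m d = m ∧ T.w a = w ∧ T.w b = w ∧ T.w c = w ∧ T.w d = w ∧ T.a a a = -2 * w ∧ T.a a b = w ∧ T.a a c = 0 ∧ T.a a d = w ∧ T.a b b = -2 * w ∧ T.a b c = w ∧ T.a b d = 0 ∧ T.a c c = -2 * w ∧ T.a c d = w ∧ T.a d d = -2 * w) ∨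
      (T.m a = 2 * m ∧ T.m b = 2 * m ∧ T.m c = 2 * m ∧ T.m d = m ∧ T.w a = w ∧ T.w b = 2 * w ∧ T.w c = 2 * w ∧ T.w d = 4 * w ∧ T.a a a = -2 * w ∧ T.a a b = 2 * w ∧ T.a a c = 0 ∧ T.a a d = 0 ∧ T.a b b = -4 * w ∧ T.a b c = 2 * w ∧ T.a b d = 0 ∧ T.a c c = -4 * w ∧ T.a c d = 4 * w ∧ T.a d d = -8 * w) ∨
      (T.m a = m ∧ T.m b = m ∧ T.m c = m ∧ T.m d = m ∧ T.w a = w ∧ T.w b = 2 * w ∧ T.w c = 2 * w ∧ T.w d = w ∧ T.a a a = -2 * w ∧ T.a a b = 2 * w ∧ T.a a c = 0 ∧ T.a a d = 0 ∧ T.a b b = -4 * w ∧ T.a b c = 2 * w ∧ T.a b d = 0 ∧ T.a c c = -4 * w ∧ T.a c d = 2 * w ∧ T.a d d = -2 * w) ∨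
      (T.m a = m ∧ T.m b = 2 * m ∧ T.m c = 2 * m ∧ T.m d = m ∧ T.w a = 2 * w ∧ T.w b = w ∧ T.w c = w ∧ T.w d = 2 * w ∧ T.a a a = -4 * w ∧ T.a a b = 2 * w ∧ T.a a c = 0 ∧ T.a a d = 0 ∧ T.a b b = -2 * w ∧ T.a b c = w ∧ T.a b d = 0 ∧ T.a c c = -2 * w ∧ T.a c d = 2 * w ∧ T.a d d = -4 * w) ∨
      (T.m a = 2 * m ∧ T.m b = m ∧ T.m c = m ∧ T.m d = m ∧ T.w a = w ∧ T.w b = w ∧ T.w c = w ∧ T.w d = 2 * w ∧ T.a a a = -2 * w ∧ T.a a b = w ∧ T.a a c = w ∧ T.a a d = 2 * w ∧ T.a b b = -2 * w ∧ T.a b c = 0 ∧ T.a b d = 0 ∧ T.a c c = -2 * w ∧ T.a c d = 0 ∧ T.a d d = -4 * w) ∨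
      (T.m a = 2 * m ∧ T.m b = m ∧ T.m c = m ∧ T.m d = 2 * m ∧ T.w a = 2 * w ∧ T.w b = 2 * w ∧ T.w c = 2 * w ∧ T.w d = w ∧ T.a a a = -4 * w ∧ T.a a b = 2 * w ∧ T.a a c = 2 * w ∧ T.a a d = 2 * w ∧ T.a b b = -4 * w ∧ T.a b c = 0 ∧ T.a b d = 0 ∧ T.a c c = -4 * w ∧ T.a c d = 0 ∧ T.a d d = -2 * w))

theorem ofQ (T : Models.NumericalType 4) (a b c d : Fin 4) (m w : ℤ)
    (hb : Function.Bijective ![a, b, c, d]) (h : Q T a b c d m w) :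
    ∃ (σ : Equiv.Perm (Fin 4)) (m w : ℤ),
      ((T.m (σ 0) = m ∧ T.m (σ 1) = m ∧ T.m (σ 2) = m ∧ T.m (σ 3) = m ∧ T.w (σ 0) = w ∧ T.w (σ 1) = w ∧ T.w (σ 2) = w ∧ T.w (σ 3) = w ∧ T.a (σ 0) (σ 0) = -2 * w ∧ T.a (σ 0) (σ 1) = w ∧ T.a (σ 0) (σ 2) = 0 ∧ T.a (σ 0) (σ 3) = w ∧ T.a (σ 1) (σ 1) = -2 * w ∧ T.a (σ 1) (σ 2) = w ∧ T.a (σ 1) (σ 3) = 0 ∧ T.a (σ 2) (σ 2) = -2 * w ∧ T.a (σ 2) (σ 3) = w ∧ T.a (σ 3) (σ 3) = -2 * w) ∨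
      (T.m (σ 0) = 2 * m ∧ T.m (σ 1) = 2 * m ∧ T.m (σ 2) = 2 * m ∧ T.m (σ 3) = m ∧ T.w (σ 0) = w ∧ T.w (σ 1) = 2 * w ∧ T.w (σ 2) = 2 * w ∧ T.w (σ 3) = 4 * w ∧ T.a (σ 0) (σ 0) = -2 * w ∧ T.a (σ 0) (σ 1) = 2 * w ∧ T.a (σ 0) (σ 2) = 0 ∧ T.a (σ 0) (σ 3) = 0 ∧ T.a (σ 1) (σ 1) = -4 * w ∧ T.a (σ 1) (σ 2) = 2 * w ∧ T.a (σ 1) (σ 3) = 0 ∧ T.a (σ 2) (σ 2) = -4 * w ∧ T.a (σ 2) (σ 3) = 4 * w ∧ T.a (σ 3) (σ 3) = -8 * w) ∨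
      (T.m (σ 0) = m ∧ T.m (σ 1) = m ∧ T.m (σ 2) = m ∧ T.m (σ 3) = m ∧ T.w (σ 0) = w ∧ T.w (σ 1) = 2 * w ∧ T.w (σ 2) = 2 * w ∧ T.w (σ 3) = w ∧ T.a (σ 0) (σ 0) = -2 * w ∧ T.a (σ 0) (σ 1) = 2 * w ∧ T.a (σ 0) (σ 2) = 0 ∧ T.a (σ 0) (σ 3) = 0 ∧ T.a (σ 1) (σ 1) = -4 * w ∧ T.a (σ 1) (σ 2) = 2 * w ∧ T.a (σ 1) (σ 3) = 0 ∧ T.a (σ 2) (σ 2) = -4 * w ∧ T.a (σ 2) (σ 3) = 2 * w ∧ T.a (σ 3) (σ 3) = -2 * w) ∨
      (T.m (σ 0) = m ∧ T.m (σ 1) = 2 * m ∧ T.m (σ 2) = 2 * m ∧ T.m (σ 3) = m ∧ T.w (σ 0) = 2 * w ∧ T.w (σ 1) = w ∧ T.w (σ 2) = w ∧ T.w (σ 3) = 2 * w ∧ T.a (σ 0) (σ 0) = -4 * w ∧ T.a (σ 0) (σ 1) = 2 * w ∧ T.a (σ 0) (σ 2) = 0 ∧ T.a (σ 0) (σ 3) = 0 ∧ T.a (σ 1) (σ 1) = -2 * w ∧ T.a (σ 1) (σ 2) = w ∧ T.a (σ 1) (σ 3) = 0 ∧ T.a (σ 2) (σ 2) = -2 * w ∧ T.a (σ 2) (σ 3) = 2 * w ∧ T.a (σ 3) (σ 3) = -4 * w) ∨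
      (T.m (σ 0) = 2 * m ∧ T.m (σ 1) = m ∧ T.m (σ 2) = m ∧ T.m (σ 3) = m ∧ T.w (σ 0) = w ∧ T.w (σ 1) = w ∧ T.w (σ 2) = w ∧ T.w (σ 3) = 2 * w ∧ T.a (σ 0) (σ 0) = -2 * w ∧ T.a (σ 0) (σ 1) = w ∧ T.a (σ 0) (σ 2) = w ∧ T.a (σ 0) (σ 3) = 2 * w ∧ T.a (σ 1) (σ 1) = -2 * w ∧ T.a (σ 1) (σ 2) = 0 ∧ T.a (σ 1) (σ 3) = 0 ∧ T.a (σ 2) (σ 2) = -2 * w ∧ T.a (σ 2) (σ 3) = 0 ∧ T.a (σ 3) (σ 3) = -4 * w) ∨
      (T.m (σ 0) = 2 * m ∧ T.m (σ 1) = m ∧ T.m (σ 2) = m ∧ T.m (σ 3) = 2 * m ∧ T.w (σ 0) = 2 * w ∧ T.w (σ 1) = 2 * w ∧ T.w (σ 2) = 2 * w ∧ T.w (σ 3) = w ∧ T.a (σ 0) (σ 0) = -4 * w ∧ T.a (σ 0) (σ 1) = 2 * w ∧ T.a (σ 0) (σ 2) = 2 * w ∧ T.a (σ 0) (σ 3) = 2 * w ∧ T.a (σ 1) (σ 1) = -4 * w ∧ T.a (σ 1) (σ 2) = 0 ∧ T.a (σ 1) (σ 3) = 0 ∧ T.a (σ 2) (σ 2) = -4 * w ∧ T.a (σ 2) (σ 3) = 0 ∧ T.a (σ 3) (σ 3) = -2 * w)) :=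
  ⟨Equiv.ofBijective _ hb, m, w, h⟩

theorem sum_four (f : Fin 4 → ℤ) (a b c d : Fin 4) (hb : Function.Bijective ![a, b, c, d]) :
    ∑ l, f l = f a + f b + f c + f d := by
  rw [← Equiv.sum_comp (Equiv.ofBijective _ hb) f, Fin.sum_univ_four]
  rfl

section
variable (T : Models.NumericalType 4) (hm2 : ∀ i, T.IsMinusTwo i)
include hm2

set_option maxHeartbeats 4000000 in
theorem path4 (a b c d : Fin 4) (hb : Function.Bijective ![a, b, c, d])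
    (hab : T.a a b ≠ 0) (hbc : T.a b c ≠ 0) (hcd : T.a c d ≠ 0)
    (hac : T.a a c = 0) (had : T.a a d = 0) (hbd : T.a b d = 0) :
    ∃ m w, Q T a b c d m w ∨ Q T d c b a m w := by
  have nab : a ≠ b := hb.injective.ne (by decide : (0 : Fin 4) ≠ 1)
  have nac : a ≠ c := hb.injective.ne (by decide : (0 : Fin 4) ≠ 2)
  have nad : a ≠ d := hb.injective.ne (by decide : (0 : Fin 4) ≠ 3)
  have nbc : b ≠ c := hb.injective.ne (by decide : (1 : Fin 4) ≠ 2)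
  have nbd : b ≠ d := hb.injective.ne (by decide : (1 : Fin 4) ≠ 3)
  have ncd : c ≠ d := hb.injective.ne (by decide : (2 : Fin 4) ≠ 3)
  have s := Groth.Agent.Lib.Helper11.a_symm T
  obtain ⟨pab, pba⟩ := Groth.Agent.Lib.Helper11.cart_pos_both T nab hab
  obtain ⟨pbc, pcb⟩ := Groth.Agent.Lib.Helper11.cart_pos_both T nbc hbc
  obtain ⟨pcd, pdc⟩ := Groth.Agent.Lib.Helper11.cart_pos_both T ncd hcd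
  have ra := Groth.Agent.Lib.Helper11.row_sum_cart T a
  have rb := Groth.Agent.Lib.Helper11.row_sum_cart T b
  have rc := Groth.Agent.Lib.Helper11.row_sum_cart T c
  have rd := Groth.Agent.Lib.Helper11.row_sum_cart T d
  rw [sum_four _ a b c d hb] at ra rb rc rd
  have z := fun i j (h : T.a i j = 0) => (Groth.Agent.Lib.Helper11.cart_eq_zero_iff T (i := i) (j := j)).2 h
  rw [Groth.Agent.Lib.Helper11.cart_diag T (hm2 a), z a c hac, z a d had] at ra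
  rw [Groth.Agent.Lib.Helper11.cart_diag T (hm2 b), z b d hbd] at rb
  rw [Groth.Agent.Lib.Helper11.cart_diag T (hm2 c), z c a (by rw [s]; exact hac)] at rc
  rw [Groth.Agent.Lib.Helper11.cart_diag T (hm2 d), z d a (by rw [s]; exact had), z d b (by rw [s]; exact hbd)] at rd
  have c1 := Groth.Agent.Lib.Helper11.chain3' T (by norm_num) hm2 nab nbc nac hab hbc
  have c2 := Groth.Agent.Lib.Helper11.chain3' T (by norm_num) hm2 nbc ncd nbd hbc hcd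
  have hwab := Groth.Agent.Lib.Helper11.w_cart_symm T a b
  have hwbc := Groth.Agent.Lib.Helper11.w_cart_symm T b c
  have hwcd := Groth.Agent.Lib.Helper11.w_cart_symm T c d
  have haab := Groth.Agent.Lib.Helper11.w_mul_cart T a b
  have habc := Groth.Agent.Lib.Helper11.w_mul_cart T b c
  have hacd := Groth.Agent.Lib.Helper11.w_mul_cart T c d
  have da := (hm2 a).2
  have db := (hm2 b).2
  have dc := (hm2 c).2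
  have dd := (hm2 d).2
  have hma := T.m_pos a
  have hmb := T.m_pos b
  have hmc := T.m_pos c
  have hmd := T.m_pos d
  have sba := s b a
  have scb := s c b
  have sdc := s d c
  have sca := s c a
  have sda := s d a
  have sdb := s d b
  have q1 := Groth.Agent.Lib.Helper11.one_le_prod pba pab
  have q2 := Groth.Agent.Lib.Helper11.one_le_prod pbc pcb
  have q3 := Groth.Agent.Lib.Helper11.one_le_prod pcb pbc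
  have q4 := Groth.Agent.Lib.Helper11.one_le_prod pcd pdc
  obtain ⟨b1, b2⟩ := Groth.Agent.Lib.Helper11.le_three_of_prod_le_three pba pab (by linarith)
  obtain ⟨b3, b4⟩ := Groth.Agent.Lib.Helper11.le_three_of_prod_le_three pbc pcb (by linarith)
  obtain ⟨b5, b6⟩ := Groth.Agent.Lib.Helper11.le_three_of_prod_le_three pcd pdc (by linarith)
  generalize Groth.Agent.Lib.Helper11.cart T a b = xab at *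
  generalize Groth.Agent.Lib.Helper11.cart T b a = xba at *
  generalize Groth.Agent.Lib.Helper11.cart T b c = xbc at *
  generalize Groth.Agent.Lib.Helper11.cart T c b = xcb at *
  generalize Groth.Agent.Lib.Helper11.cart T c d = xcd at *
  generalize Groth.Agent.Lib.Helper11.cart T d c = xdc at *
  interval_cases xab <;> interval_cases xba <;> interval_cases xbc <;> interval_cases xcb <;>
    interval_cases xcd <;> interval_cases xdc <;> first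
    | omega
    | (refine ⟨T.m d, T.w a, Or.inl ?_⟩; refine Or.inr (Or.inl ?_); refine ⟨?_, ?_, ?_, ?_, ?_, ?_, ?_, ?_, ?_, ?_, ?_, ?_, ?_, ?_, ?_, ?_, ?_, ?_⟩ <;> omega)
    | (refine ⟨T.m a, T.w a, Or.inl ?_⟩; refine Or.inr (Or.inr (Or.inl ?_)); refine ⟨?_, ?_, ?_, ?_, ?_, ?_, ?_, ?_, ?_, ?_, ?_, ?_, ?_, ?_, ?_, ?_, ?_, ?_⟩ <;> omega)
    | (refine ⟨T.m a, T.w b, Or.inl ?_⟩; refine Or.inr (Or.inr (Or.inr (Or.inl ?_))); refine ⟨?_, ?_, ?_, ?_, ?_, ?_, ?_, ?_, ?_, ?_, ?_, ?_, ?_, ?_, ?_, ?_, ?_, ?_⟩ <;> omega)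
    | (refine ⟨T.m a, T.w d, Or.inr ?_⟩; refine Or.inr (Or.inl ?_); refine ⟨?_, ?_, ?_, ?_, ?_, ?_, ?_, ?_, ?_, ?_, ?_, ?_, ?_, ?_, ?_, ?_, ?_, ?_⟩ <;> omega)

set_option maxHeartbeats 4000000 in
theorem star4 (c x y z : Fin 4) (hb : Function.Bijective ![c, x, y, z])
    (hx : T.a c x ≠ 0) (hy : T.a c y ≠ 0) (hz : T.a c z ≠ 0)
    (hxy : T.a x y = 0) (hxz : T.a x z = 0) (hyz : T.a y z = 0) :
    ∃ m w, Q T c x y z m w ∨ Q T c x z y m w ∨ Q T c y z x m w := by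
  have ncx : c ≠ x := hb.injective.ne (by decide : (0 : Fin 4) ≠ 1)
  have ncy : c ≠ y := hb.injective.ne (by decide : (0 : Fin 4) ≠ 2)
  have ncz : c ≠ z := hb.injective.ne (by decide : (0 : Fin 4) ≠ 3)
  have nxy : x ≠ y := hb.injective.ne (by decide : (1 : Fin 4) ≠ 2)
  have nxz : x ≠ z := hb.injective.ne (by decide : (1 : Fin 4) ≠ 3)
  have nyz : y ≠ z := hb.injective.ne (by decide : (2 : Fin 4) ≠ 3)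
  have s := Groth.Agent.Lib.Helper11.a_symm T
  obtain ⟨pcx, pxc⟩ := Groth.Agent.Lib.Helper11.cart_pos_both T ncx hx
  obtain ⟨pcy, pyc⟩ := Groth.Agent.Lib.Helper11.cart_pos_both T ncy hy
  obtain ⟨pcz, pzc⟩ := Groth.Agent.Lib.Helper11.cart_pos_both T ncz hz
  have rc := Groth.Agent.Lib.Helper11.row_sum_cart T c
  have rx := Groth.Agent.Lib.Helper11.row_sum_cart T x
  have ry := Groth.Agent.Lib.Helper11.row_sum_cart T y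
  have rz := Groth.Agent.Lib.Helper11.row_sum_cart T z
  rw [sum_four _ c x y z hb] at rc rx ry rz
  have z0 := fun i j (h : T.a i j = 0) => (Groth.Agent.Lib.Helper11.cart_eq_zero_iff T (i := i) (j := j)).2 h
  rw [Groth.Agent.Lib.Helper11.cart_diag T (hm2 c)] at rc
  rw [Groth.Agent.Lib.Helper11.cart_diag T (hm2 x), z0 x y hxy, z0 x z hxz] at rx
  rw [Groth.Agent.Lib.Helper11.cart_diag T (hm2 y), z0 y x (by rw [s]; exact hxy), z0 y z hyz] at ry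
  rw [Groth.Agent.Lib.Helper11.cart_diag T (hm2 z), z0 z x (by rw [s]; exact hxz), z0 z y (by rw [s]; exact hyz)] at rz
  have c1 := Groth.Agent.Lib.Helper11.chain3' T (by norm_num) hm2 ncx.symm ncy nxy (by rw [s]; exact hx) hy
  have c2 := Groth.Agent.Lib.Helper11.chain3' T (by norm_num) hm2 ncx.symm ncz nxz (by rw [s]; exact hx) hz
  have c3 := Groth.Agent.Lib.Helper11.chain3' T (by norm_num) hm2 ncy.symm ncz nyz (by rw [s]; exact hy) hz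
  have hwx := Groth.Agent.Lib.Helper11.w_cart_symm T c x
  have hwy := Groth.Agent.Lib.Helper11.w_cart_symm T c y
  have hwz := Groth.Agent.Lib.Helper11.w_cart_symm T c z
  have hax := Groth.Agent.Lib.Helper11.w_mul_cart T c x
  have hay := Groth.Agent.Lib.Helper11.w_mul_cart T c y
  have haz := Groth.Agent.Lib.Helper11.w_mul_cart T c z
  have dc := (hm2 c).2
  have dx := (hm2 x).2
  have dy := (hm2 y).2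
  have dz := (hm2 z).2
  have hmc := T.m_pos c
  have hmx := T.m_pos x
  have hmy := T.m_pos y
  have hmz := T.m_pos z
  have sxc := s x c
  have syc := s y c
  have szc := s z c
  have syx := s y x
  have szx := s z x
  have szy := s z y
  have q1 := Groth.Agent.Lib.Helper11.one_le_prod pcx pxc
  have q2 := Groth.Agent.Lib.Helper11.one_le_prod pcy pyc
  have q3 := Groth.Agent.Lib.Helper11.one_le_prod pcz pzc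
  obtain ⟨b1, b2⟩ := Groth.Agent.Lib.Helper11.le_three_of_prod_le_three pcx pxc (by linarith)
  obtain ⟨b3, b4⟩ := Groth.Agent.Lib.Helper11.le_three_of_prod_le_three pcy pyc (by linarith)
  obtain ⟨b5, b6⟩ := Groth.Agent.Lib.Helper11.le_three_of_prod_le_three pcz pzc (by linarith)
  generalize Groth.Agent.Lib.Helper11.cart T c x = xcx at *
  generalize Groth.Agent.Lib.Helper11.cart T x c = xxc at *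
  generalize Groth.Agent.Lib.Helper11.cart T c y = xcy at *
  generalize Groth.Agent.Lib.Helper11.cart T y c = xyc at *
  generalize Groth.Agent.Lib.Helper11.cart T c z = xcz at *
  generalize Groth.Agent.Lib.Helper11.cart T z c = xzc at *
  interval_cases xcx <;> interval_cases xxc <;> interval_cases xcy <;> interval_cases xyc <;>
    interval_cases xcz <;> interval_cases xzc <;> first
    | omega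
    | (refine ⟨T.m x, T.w c, Or.inl ?_⟩; refine Or.inr (Or.inr (Or.inr (Or.inr (Or.inl ?_)))); refine ⟨?_, ?_, ?_, ?_, ?_, ?_, ?_, ?_, ?_, ?_, ?_, ?_, ?_, ?_, ?_, ?_, ?_, ?_⟩ <;> omega)
    | (refine ⟨T.m x, T.w z, Or.inl ?_⟩; refine Or.inr (Or.inr (Or.inr (Or.inr (Or.inr ?_)))); refine ⟨?_, ?_, ?_, ?_, ?_, ?_, ?_, ?_, ?_, ?_, ?_, ?_, ?_, ?_, ?_, ?_, ?_, ?_⟩ <;> omega)
    | (refine ⟨T.m x, T.w c, Or.inr (Or.inl ?_)⟩; refine Or.inr (Or.inr (Or.inr (Or.inr (Or.inl ?_)))); refine ⟨?_, ?_, ?_, ?_, ?_, ?_, ?_, ?_, ?_, ?_, ?_, ?_, ?_, ?_, ?_, ?_, ?_, ?_⟩ <;> omega)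
    | (refine ⟨T.m x, T.w y, Or.inr (Or.inl ?_)⟩; refine Or.inr (Or.inr (Or.inr (Or.inr (Or.inr ?_)))); refine ⟨?_, ?_, ?_, ?_, ?_, ?_, ?_, ?_, ?_, ?_, ?_, ?_, ?_, ?_, ?_, ?_, ?_, ?_⟩ <;> omega)
    | (refine ⟨T.m y, T.w c, Or.inr (Or.inr ?_)⟩; refine Or.inr (Or.inr (Or.inr (Or.inr (Or.inl ?_)))); refine ⟨?_, ?_, ?_, ?_, ?_, ?_, ?_, ?_, ?_, ?_, ?_, ?_, ?_, ?_, ?_, ?_, ?_, ?_⟩ <;> omega)
    | (refine ⟨T.m y, T.w x, Or.inr (Or.inr ?_)⟩; refine Or.inr (Or.inr (Or.inr (Or.inr (Or.inr ?_)))); refine ⟨?_, ?_, ?_, ?_, ?_, ?_, ?_, ?_, ?_, ?_, ?_, ?_, ?_, ?_, ?_, ?_, ?_, ?_⟩ <;> omega)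

theorem cycle4 (a b c d : Fin 4) (hb : Function.Bijective ![a, b, c, d])
    (hab : T.a a b ≠ 0) (hbc : T.a b c ≠ 0) (hcd : T.a c d ≠ 0) (hda : T.a d a ≠ 0)
    (hac : T.a a c = 0) (hbd : T.a b d = 0) :
    ∃ m w, Q T a b c d m w := by
  have nab : a ≠ b := hb.injective.ne (by decide : (0 : Fin 4) ≠ 1)
  have nac : a ≠ c := hb.injective.ne (by decide : (0 : Fin 4) ≠ 2)
  have nad : a ≠ d := hb.injective.ne (by decide : (0 : Fin 4) ≠ 3)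
  have nbc : b ≠ c := hb.injective.ne (by decide : (1 : Fin 4) ≠ 2)
  have nbd : b ≠ d := hb.injective.ne (by decide : (1 : Fin 4) ≠ 3)
  have ncd : c ≠ d := hb.injective.ne (by decide : (2 : Fin 4) ≠ 3)
  have s := Groth.Agent.Lib.Helper11.a_symm T
  have pos_of_ne : ∀ i j : Fin 4, i ≠ j → T.a i j ≠ 0 → 0 < T.a i j := fun i j h h' =>
    lt_of_le_of_ne (T.offDiag_nonneg i j h) (Ne.symm h')
  have pab := pos_of_ne a b nab hab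
  have pbc := pos_of_ne b c nbc hbc
  have pcd := pos_of_ne c d ncd hcd
  have pda := pos_of_ne d a nad.symm hda
  have q := Groth.Agent.Lib.Helper11.quad_nonpos T (fun _ => 1)
  simp only [mul_one] at q
  simp only [sum_four _ a b c d hb] at q
  have l1 := Groth.Agent.Lib.Helper11.w_le_of_pos T pab
  have l2 := Groth.Agent.Lib.Helper11.w_le_of_pos T pbc
  have l3 := Groth.Agent.Lib.Helper11.w_le_of_pos T pcd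
  have l4 := Groth.Agent.Lib.Helper11.w_le_of_pos T pda
  have l1' := Groth.Agent.Lib.Helper11.w_le_of_pos T (show 0 < T.a b a by rw [s]; exact pab)
  have l2' := Groth.Agent.Lib.Helper11.w_le_of_pos T (show 0 < T.a c b by rw [s]; exact pbc)
  have l3' := Groth.Agent.Lib.Helper11.w_le_of_pos T (show 0 < T.a d c by rw [s]; exact pcd)
  have l4' := Groth.Agent.Lib.Helper11.w_le_of_pos T (show 0 < T.a a d by rw [s]; exact pda)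
  have da := (hm2 a).2
  have db := (hm2 b).2
  have dc := (hm2 c).2
  have dd := (hm2 d).2
  have sba := s b a
  have scb := s c b
  have sdc := s d c
  have sad := s a d
  have sca := s c a
  have sdb := s d b
  have hq0 : ∑ i, ∑ j, T.a i j * (fun _ => (1 : ℤ)) i * (fun _ => (1 : ℤ)) j = 0 := by
    simp only [mul_one]
    simp only [sum_four _ a b c d hb]
    omega
  have m1 := Groth.Agent.Lib.Helper11.quad_eq_zero_proportional T (fun _ => 1) hq0 a b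
  have m2 := Groth.Agent.Lib.Helper11.quad_eq_zero_proportional T (fun _ => 1) hq0 a c
  have m3 := Groth.Agent.Lib.Helper11.quad_eq_zero_proportional T (fun _ => 1) hq0 a d
  simp only [one_mul] at m1 m2 m3
  refine ⟨T.m a, T.w a, ?_⟩
  refine Or.inl ?_
  refine ⟨?_, ?_, ?_, ?_, ?_, ?_, ?_, ?_, ?_, ?_, ?_, ?_, ?_, ?_, ?_, ?_, ?_, ?_⟩ <;> omega

end

section
variable (T : Models.NumericalType 4) (hm2 : ∀ i, T.IsMinusTwo i)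
include hm2

theorem path4' (a b c d : Fin 4) (hb : Function.Bijective ![a, b, c, d])
    (hb' : Function.Bijective ![d, c, b, a])
    (hab : T.a a b ≠ 0) (hbc : T.a b c ≠ 0) (hcd : T.a c d ≠ 0)
    (hac : T.a a c = 0) (had : T.a a d = 0) (hbd : T.a b d = 0) :
    ∃ (σ : Equiv.Perm (Fin 4)) (m w : ℤ),
      ((T.m (σ 0) = m ∧ T.m (σ 1) = m ∧ T.m (σ 2) = m ∧ T.m (σ 3) = m ∧ T.w (σ 0) = w ∧ T.w (σ 1) = w ∧ T.w (σ 2) = w ∧ T.w (σ 3) = w ∧ T.a (σ 0) (σ 0) = -2 * w ∧ T.a (σ 0) (σ 1) = w ∧ T.a (σ 0) (σ 2) = 0 ∧ T.a (σ 0) (σ 3) = w ∧ T.a (σ 1) (σ 1) = -2 * w ∧ T.a (σ 1) (σ 2) = w ∧ T.a (σ 1) (σ 3) = 0 ∧ T.a (σ 2) (σ 2) = -2 * w ∧ T.a (σ 2) (σ 3) = w ∧ T.a (σ 3) (σ 3) = -2 * w) ∨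
      (T.m (σ 0) = 2 * m ∧ T.m (σ 1) = 2 * m ∧ T.m (σ 2) = 2 * m ∧ T.m (σ 3) = m ∧ T.w (σ 0) = w ∧ T.w (σ 1) = 2 * w ∧ T.w (σ 2) = 2 * w ∧ T.w (σ 3) = 4 * w ∧ T.a (σ 0) (σ 0) = -2 * w ∧ T.a (σ 0) (σ 1) = 2 * w ∧ T.a (σ 0) (σ 2) = 0 ∧ T.a (σ 0) (σ 3) = 0 ∧ T.a (σ 1) (σ 1) = -4 * w ∧ T.a (σ 1) (σ 2) = 2 * w ∧ T.a (σ 1) (σ 3) = 0 ∧ T.a (σ 2) (σ 2) = -4 * w ∧ T.a (σ 2) (σ 3) = 4 * w ∧ T.a (σ 3) (σ 3) = -8 * w) ∨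
      (T.m (σ 0) = m ∧ T.m (σ 1) = m ∧ T.m (σ 2) = m ∧ T.m (σ 3) = m ∧ T.w (σ 0) = w ∧ T.w (σ 1) = 2 * w ∧ T.w (σ 2) = 2 * w ∧ T.w (σ 3) = w ∧ T.a (σ 0) (σ 0) = -2 * w ∧ T.a (σ 0) (σ 1) = 2 * w ∧ T.a (σ 0) (σ 2) = 0 ∧ T.a (σ 0) (σ 3) = 0 ∧ T.a (σ 1) (σ 1) = -4 * w ∧ T.a (σ 1) (σ 2) = 2 * w ∧ T.a (σ 1) (σ 3) = 0 ∧ T.a (σ 2) (σ 2) = -4 * w ∧ T.a (σ 2) (σ 3) = 2 * w ∧ T.a (σ 3) (σ 3) = -2 * w) ∨
      (T.m (σ 0) = m ∧ T.m (σ 1) = 2 * m ∧ T.m (σ 2) = 2 * m ∧ T.m (σ 3) = m ∧ T.w (σ 0) = 2 * w ∧ T.w (σ 1) = w ∧ T.w (σ 2) = w ∧ T.w (σ 3) = 2 * w ∧ T.a (σ 0) (σ 0) = -4 * w ∧ T.a (σ 0) (σ 1) = 2 * w ∧ T.a (σ 0) (σ 2) = 0 ∧ T.a (σ 0) (σ 3) = 0 ∧ T.a (σ 1) (σ 1) = -2 * w ∧ T.a (σ 1) (σ 2) = w ∧ T.a (σ 1) (σ 3) = 0 ∧ T.a (σ 2) (σ 2) = -2 * w ∧ T.a (σ 2) (σ 3) = 2 * w ∧ T.a (σ 3) (σ 3) = -4 * w) ∨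
      (T.m (σ 0) = 2 * m ∧ T.m (σ 1) = m ∧ T.m (σ 2) = m ∧ T.m (σ 3) = m ∧ T.w (σ 0) = w ∧ T.w (σ 1) = w ∧ T.w (σ 2) = w ∧ T.w (σ 3) = 2 * w ∧ T.a (σ 0) (σ 0) = -2 * w ∧ T.a (σ 0) (σ 1) = w ∧ T.a (σ 0) (σ 2) = w ∧ T.a (σ 0) (σ 3) = 2 * w ∧ T.a (σ 1) (σ 1) = -2 * w ∧ T.a (σ 1) (σ 2) = 0 ∧ T.a (σ 1) (σ 3) = 0 ∧ T.a (σ 2) (σ 2) = -2 * w ∧ T.a (σ 2) (σ 3) = 0 ∧ T.a (σ 3) (σ 3) = -4 * w) ∨
      (T.m (σ 0) = 2 * m ∧ T.m (σ 1) = m ∧ T.m (σ 2) = m ∧ T.m (σ 3) = 2 * m ∧ T.w (σ 0) = 2 * w ∧ T.w (σ 1) = 2 * w ∧ T.w (σ 2) = 2 * w ∧ T.w (σ 3) = w ∧ T.a (σ 0) (σ 0) = -4 * w ∧ T.a (σ 0) (σ 1) = 2 * w ∧ T.a (σ 0) (σ 2) = 2 * w ∧ T.a (σ 0) (σ 3) = 2 * w ∧ T.a (σ 1) (σ 1) = -4 * w ∧ T.a (σ 1) (σ 2) = 0 ∧ T.a (σ 1) (σ 3) = 0 ∧ T.a (σ 2) (σ 2) = -4 * w ∧ T.a (σ 2) (σ 3) = 0 ∧ T.a (σ 3) (σ 3) = -2 * w)) :=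 by
  obtain ⟨m, w, h | h⟩ := path4 T hm2 a b c d hb hab hbc hcd hac had hbd
  · exact ofQ T a b c d m w hb h
  · exact ofQ T d c b a m w hb' h

theorem star4' (c x y z : Fin 4) (hb : Function.Bijective ![c, x, y, z])
    (hb' : Function.Bijective ![c, x, z, y]) (hb'' : Function.Bijective ![c, y, z, x])
    (hx : T.a c x ≠ 0) (hy : T.a c y ≠ 0) (hz : T.a c z ≠ 0)
    (hxy : T.a x y = 0) (hxz : T.a x z = 0) (hyz : T.a y z = 0) :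
    ∃ (σ : Equiv.Perm (Fin 4)) (m w : ℤ),
      ((T.m (σ 0) = m ∧ T.m (σ 1) = m ∧ T.m (σ 2) = m ∧ T.m (σ 3) = m ∧ T.w (σ 0) = w ∧ T.w (σ 1) = w ∧ T.w (σ 2) = w ∧ T.w (σ 3) = w ∧ T.a (σ 0) (σ 0) = -2 * w ∧ T.a (σ 0) (σ 1) = w ∧ T.a (σ 0) (σ 2) = 0 ∧ T.a (σ 0) (σ 3) = w ∧ T.a (σ 1) (σ 1) = -2 * w ∧ T.a (σ 1) (σ 2) = w ∧ T.a (σ 1) (σ 3) = 0 ∧ T.a (σ 2) (σ 2) = -2 * w ∧ T.a (σ 2) (σ 3) = w ∧ T.a (σ 3) (σ 3) = -2 * w) ∨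
      (T.m (σ 0) = 2 * m ∧ T.m (σ 1) = 2 * m ∧ T.m (σ 2) = 2 * m ∧ T.m (σ 3) = m ∧ T.w (σ 0) = w ∧ T.w (σ 1) = 2 * w ∧ T.w (σ 2) = 2 * w ∧ T.w (σ 3) = 4 * w ∧ T.a (σ 0) (σ 0) = -2 * w ∧ T.a (σ 0) (σ 1) = 2 * w ∧ T.a (σ 0) (σ 2) = 0 ∧ T.a (σ 0) (σ 3) = 0 ∧ T.a (σ 1) (σ 1) = -4 * w ∧ T.a (σ 1) (σ 2) = 2 * w ∧ T.a (σ 1) (σ 3) = 0 ∧ T.a (σ 2) (σ 2) = -4 * w ∧ T.a (σ 2) (σ 3) = 4 * w ∧ T.a (σ 3) (σ 3) = -8 * w) ∨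
      (T.m (σ 0) = m ∧ T.m (σ 1) = m ∧ T.m (σ 2) = m ∧ T.m (σ 3) = m ∧ T.w (σ 0) = w ∧ T.w (σ 1) = 2 * w ∧ T.w (σ 2) = 2 * w ∧ T.w (σ 3) = w ∧ T.a (σ 0) (σ 0) = -2 * w ∧ T.a (σ 0) (σ 1) = 2 * w ∧ T.a (σ 0) (σ 2) = 0 ∧ T.a (σ 0) (σ 3) = 0 ∧ T.a (σ 1) (σ 1) = -4 * w ∧ T.a (σ 1) (σ 2) = 2 * w ∧ T.a (σ 1) (σ 3) = 0 ∧ T.a (σ 2) (σ 2) = -4 * w ∧ T.a (σ 2) (σ 3) = 2 * w ∧ T.a (σ 3) (σ 3) = -2 * w) ∨
      (T.m (σ 0) = m ∧ T.m (σ 1) = 2 * m ∧ T.m (σ 2) = 2 * m ∧ T.m (σ 3) = m ∧ T.w (σ 0) = 2 * w ∧ T.w (σ 1) = w ∧ T.w (σ 2) = w ∧ T.w (σ 3) = 2 * w ∧ T.a (σ 0) (σ 0) = -4 * w ∧ T.a (σ 0) (σ 1) = 2 * w ∧ T.a (σ 0) (σ 2) = 0 ∧ T.a (σ 0) (σ 3) = 0 ∧ T.a (σ 1) (σ 1) = -2 * w ∧ T.a (σ 1) (σ 2) = w ∧ T.a (σ 1) (σ 3) = 0 ∧ T.a (σ 2) (σ 2) = -2 * w ∧ T.a (σ 2) (σ 3) = 2 * w ∧ T.a (σ 3) (σ 3) = -4 * w) ∨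
      (T.m (σ 0) = 2 * m ∧ T.m (σ 1) = m ∧ T.m (σ 2) = m ∧ T.m (σ 3) = m ∧ T.w (σ 0) = w ∧ T.w (σ 1) = w ∧ T.w (σ 2) = w ∧ T.w (σ 3) = 2 * w ∧ T.a (σ 0) (σ 0) = -2 * w ∧ T.a (σ 0) (σ 1) = w ∧ T.a (σ 0) (σ 2) = w ∧ T.a (σ 0) (σ 3) = 2 * w ∧ T.a (σ 1) (σ 1) = -2 * w ∧ T.a (σ 1) (σ 2) = 0 ∧ T.a (σ 1) (σ 3) = 0 ∧ T.a (σ 2) (σ 2) = -2 * w ∧ T.a (σ 2) (σ 3) = 0 ∧ T.a (σ 3) (σ 3) = -4 * w) ∨
      (T.m (σ 0) = 2 * m ∧ T.m (σ 1) = m ∧ T.m (σ 2) = m ∧ T.m (σ 3) = 2 * m ∧ T.w (σ 0) = 2 * w ∧ T.w (σ 1) = 2 * w ∧ T.w (σ 2) = 2 * w ∧ T.w (σ 3) = w ∧ T.a (σ 0) (σ 0) = -4 * w ∧ T.a (σ 0) (σ 1) = 2 * w ∧ T.a (σ 0) (σ 2) = 2 * w ∧ T.a (σ 0) (σ 3) = 2 * w ∧ T.a (σ 1) (σ 1) = -4 * w ∧ T.a (σ 1) (σ 2) = 0 ∧ T.a (σ 1) (σ 3) = 0 ∧ T.a (σ 2) (σ 2) = -4 * w ∧ T.a (σ 2) (σ 3) = 0 ∧ T.a (σ 3) (σ 3) = -2 * w)) :=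 by
  obtain ⟨m, w, h | h | h⟩ := star4 T hm2 c x y z hb hx hy hz hxy hxz hyz
  · exact ofQ T c x y z m w hb h
  · exact ofQ T c x z y m w hb' h
  · exact ofQ T c y z x m w hb'' h

theorem cycle4' (a b c d : Fin 4) (hb : Function.Bijective ![a, b, c, d])
    (hab : T.a a b ≠ 0) (hbc : T.a b c ≠ 0) (hcd : T.a c d ≠ 0) (hda : T.a d a ≠ 0)
    (hac : T.a a c = 0) (hbd : T.a b d = 0) :
    ∃ (σ : Equiv.Perm (Fin 4)) (m w : ℤ),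
      ((T.m (σ 0) = m ∧ T.m (σ 1) = m ∧ T.m (σ 2) = m ∧ T.m (σ 3) = m ∧ T.w (σ 0) = w ∧ T.w (σ 1) = w ∧ T.w (σ 2) = w ∧ T.w (σ 3) = w ∧ T.a (σ 0) (σ 0) = -2 * w ∧ T.a (σ 0) (σ 1) = w ∧ T.a (σ 0) (σ 2) = 0 ∧ T.a (σ 0) (σ 3) = w ∧ T.a (σ 1) (σ 1) = -2 * w ∧ T.a (σ 1) (σ 2) = w ∧ T.a (σ 1) (σ 3) = 0 ∧ T.a (σ 2) (σ 2) = -2 * w ∧ T.a (σ 2) (σ 3) = w ∧ T.a (σ 3) (σ 3) = -2 * w) ∨
      (T.m (σ 0) = 2 * m ∧ T.m (σ 1) = 2 * m ∧ T.m (σ 2) = 2 * m ∧ T.m (σ 3) = m ∧ T.w (σ 0) = w ∧ T.w (σ 1) = 2 * w ∧ T.w (σ 2) = 2 * w ∧ T.w (σ 3) = 4 * w ∧ T.a (σ 0) (σ 0) = -2 * w ∧ T.a (σ 0) (σ 1) = 2 * w ∧ T.a (σ 0) (σ 2) = 0 ∧ T.a (σ 0) (σ 3) = 0 ∧ T.a (σ 1) (σ 1) = -4 * w ∧ T.a (σ 1) (σ 2) = 2 * w ∧ T.a (σ 1) (σ 3) = 0 ∧ T.a (σ 2) (σ 2) = -4 * w ∧ T.a (σ 2) (σ 3) = 4 * w ∧ T.a (σ 3) (σ 3) = -8 * w) ∨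
      (T.m (σ 0) = m ∧ T.m (σ 1) = m ∧ T.m (σ 2) = m ∧ T.m (σ 3) = m ∧ T.w (σ 0) = w ∧ T.w (σ 1) = 2 * w ∧ T.w (σ 2) = 2 * w ∧ T.w (σ 3) = w ∧ T.a (σ 0) (σ 0) = -2 * w ∧ T.a (σ 0) (σ 1) = 2 * w ∧ T.a (σ 0) (σ 2) = 0 ∧ T.a (σ 0) (σ 3) = 0 ∧ T.a (σ 1) (σ 1) = -4 * w ∧ T.a (σ 1) (σ 2) = 2 * w ∧ T.a (σ 1) (σ 3) = 0 ∧ T.a (σ 2) (σ 2) = -4 * w ∧ T.a (σ 2) (σ 3) = 2 * w ∧ T.a (σ 3) (σ 3) = -2 * w) ∨
      (T.m (σ 0) = m ∧ T.m (σ 1) = 2 * m ∧ T.m (σ 2) = 2 * m ∧ T.m (σ 3) = m ∧ T.w (σ 0) = 2 * w ∧ T.w (σ 1) = w ∧ T.w (σ 2) = w ∧ T.w (σ 3) = 2 * w ∧ T.a (σ 0) (σ 0) = -4 * w ∧ T.a (σ 0) (σ 1) = 2 * w ∧ T.a (σ 0) (σ 2) = 0 ∧ T.a (σ 0) (σ 3) = 0 ∧ T.a (σ 1) (σ 1) = -2 * w ∧ T.a (σ 1) (σ 2) = w ∧ T.a (σ 1) (σ 3) = 0 ∧ T.a (σ 2) (σ 2) = -2 * w ∧ T.a (σ 2) (σ 3) = 2 * w ∧ T.a (σ 3) (σ 3) = -4 * w) ∨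
      (T.m (σ 0) = 2 * m ∧ T.m (σ 1) = m ∧ T.m (σ 2) = m ∧ T.m (σ 3) = m ∧ T.w (σ 0) = w ∧ T.w (σ 1) = w ∧ T.w (σ 2) = w ∧ T.w (σ 3) = 2 * w ∧ T.a (σ 0) (σ 0) = -2 * w ∧ T.a (σ 0) (σ 1) = w ∧ T.a (σ 0) (σ 2) = w ∧ T.a (σ 0) (σ 3) = 2 * w ∧ T.a (σ 1) (σ 1) = -2 * w ∧ T.a (σ 1) (σ 2) = 0 ∧ T.a (σ 1) (σ 3) = 0 ∧ T.a (σ 2) (σ 2) = -2 * w ∧ T.a (σ 2) (σ 3) = 0 ∧ T.a (σ 3) (σ 3) = -4 * w) ∨
      (T.m (σ 0) = 2 * m ∧ T.m (σ 1) = m ∧ T.m (σ 2) = m ∧ T.m (σ 3) = 2 * m ∧ T.w (σ 0) = 2 * w ∧ T.w (σ 1) = 2 * w ∧ T.w (σ 2) = 2 * w ∧ T.w (σ 3) = w ∧ T.a (σ 0) (σ 0) = -4 * w ∧ T.a (σ 0) (σ 1) = 2 * w ∧ T.a (σ 0) (σ 2) = 2 * w ∧ T.a (σ 0) (σ 3) = 2 * w ∧ T.a (σ 1) (σ 1) = -4 * w ∧ T.a (σ 1) (σ 2) = 0 ∧ T.a (σ 1) (σ 3) = 0 ∧ T.a (σ 2) (σ 2) = -4 * w ∧ T.a (σ 2) (σ 3) = 0 ∧ T.a (σ 3) (σ 3) = -2 * w)) :=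 by
  obtain ⟨m, w, h⟩ := cycle4 T hm2 a b c d hb hab hbc hcd hda hac hbd
  exact ofQ T a b c d m w hb h

end

set_option maxHeartbeats 4000000 in
/-- Genus one classification: case n = 4: let T be a minimal numerical type of genus 1 on 4 indices.
Then all g_i = 0 and, for some permutation σ of the indices and some integers m, w, the
multiplicities, weights and intersection matrix (m_{σ(i)}, w_{σ(i)}, a_{σ(i)σ(j)}) are those of one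
of the following 6 types: [four cycle] m = (m, m, m, m), w = (w, w, w, w), a = (-2 * w w 0 w / w -2
* w w 0 / 0 w -2 * w w / w 0 w -2 * w); [up equal up] m = (2 * m, 2 * m, 2 * m, m), w = (w, 2 * w, 2
* w, 4 * w), a = (-2 * w 2 * w 0 0 / 2 * w -4 * w 2 * w 0 / 0 2 * w -4 * w 4 * w / 0 0 4 * w -8 *
w); [up equal down] m = (m, m, m, m), w = (w, 2 * w, 2 * w, w), a = (-2 * w 2 * w 0 0 / 2 * w -4 * w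
2 * w 0 / 0 2 * w -4 * w 2 * w / 0 0 2 * w -2 * w); [down equal up] m = (m, 2 * m, 2 * m, m), w = (2
* w, w, w, 2 * w), a = (-4 * w 2 * w 0 0 / 2 * w -2 * w w 0 / 0 w -2 * w 2 * w / 0 0 2 * w -4 * w);
[triple with up] m = (2 * m, m, m, m), w = (w, w, w, 2 * w), a = (-2 * w w w 2 * w / w -2 * w 0 0 /
w 0 -2 * w 0 / 2 * w 0 0 -4 * w); [triple with down] m = (2 * m, m, m, 2 * m), w = (2 * w, 2 * w, 2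
* w, w), a = (-4 * w 2 * w 2 * w 2 * w / 2 * w -4 * w 0 0 / 2 * w 0 -4 * w 0 / 2 * w 0 0 -2 * w).
Only the classification direction is stated. -/
theorem result (T : Models.NumericalType 4) (hmin : T.IsMinimal) (hg : T.genus = 1) :
    (∀ i, T.g i = 0) ∧ ∃ (σ : Equiv.Perm (Fin 4)) (m w : ℤ),
      ((T.m (σ 0) = m ∧ T.m (σ 1) = m ∧ T.m (σ 2) = m ∧ T.m (σ 3) = m ∧ T.w (σ 0) = w ∧ T.w (σ 1) = w ∧ T.w (σ 2) = w ∧ T.w (σ 3) = w ∧ T.a (σ 0) (σ 0) = -2 * w ∧ T.a (σ 0) (σ 1) = w ∧ T.a (σ 0) (σ 2) = 0 ∧ T.a (σ 0) (σ 3) = w ∧ T.a (σ 1) (σ 1) = -2 * w ∧ T.a (σ 1) (σ 2) = w ∧ T.a (σ 1) (σ 3) = 0 ∧ T.a (σ 2) (σ 2) = -2 * w ∧ T.a (σ 2) (σ 3) = w ∧ T.a (σ 3) (σ 3) = -2 * w) ∨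
      (T.m (σ 0) = 2 * m ∧ T.m (σ 1) = 2 * m ∧ T.m (σ 2) = 2 * m ∧ T.m (σ 3) = m ∧ T.w (σ 0) = w ∧ T.w (σ 1) = 2 * w ∧ T.w (σ 2) = 2 * w ∧ T.w (σ 3) = 4 * w ∧ T.a (σ 0) (σ 0) = -2 * w ∧ T.a (σ 0) (σ 1) = 2 * w ∧ T.a (σ 0) (σ 2) = 0 ∧ T.a (σ 0) (σ 3) = 0 ∧ T.a (σ 1) (σ 1) = -4 * w ∧ T.a (σ 1) (σ 2) = 2 * w ∧ T.a (σ 1) (σ 3) = 0 ∧ T.a (σ 2) (σ 2) = -4 * w ∧ T.a (σ 2) (σ 3) = 4 * w ∧ T.a (σ 3) (σ 3) = -8 * w) ∨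
      (T.m (σ 0) = m ∧ T.m (σ 1) = m ∧ T.m (σ 2) = m ∧ T.m (σ 3) = m ∧ T.w (σ 0) = w ∧ T.w (σ 1) = 2 * w ∧ T.w (σ 2) = 2 * w ∧ T.w (σ 3) = w ∧ T.a (σ 0) (σ 0) = -2 * w ∧ T.a (σ 0) (σ 1) = 2 * w ∧ T.a (σ 0) (σ 2) = 0 ∧ T.a (σ 0) (σ 3) = 0 ∧ T.a (σ 1) (σ 1) = -4 * w ∧ T.a (σ 1) (σ 2) = 2 * w ∧ T.a (σ 1) (σ 3) = 0 ∧ T.a (σ 2) (σ 2) = -4 * w ∧ T.a (σ 2) (σ 3) = 2 * w ∧ T.a (σ 3) (σ 3) = -2 * w) ∨
      (T.m (σ 0) = m ∧ T.m (σ 1) = 2 * m ∧ T.m (σ 2) = 2 * m ∧ T.m (σ 3) = m ∧ T.w (σ 0) = 2 * w ∧ T.w (σ 1) = w ∧ T.w (σ 2) = w ∧ T.w (σ 3) = 2 * w ∧ T.a (σ 0) (σ 0) = -4 * w ∧ T.a (σ 0) (σ 1) = 2 * w ∧ T.a (σ 0) (σ 2) = 0 ∧ T.a (σ 0) (σ 3) = 0 ∧ T.a (σ 1) (σ 1) = -2 * w ∧ T.a (σ 1) (σ 2) = w ∧ T.a (σ 1) (σ 3) = 0 ∧ T.a (σ 2) (σ 2) = -2 * w ∧ T.a (σ 2) (σ 3) = 2 * w ∧ T.a (σ 3) (σ 3) = -4 * w) ∨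
      (T.m (σ 0) = 2 * m ∧ T.m (σ 1) = m ∧ T.m (σ 2) = m ∧ T.m (σ 3) = m ∧ T.w (σ 0) = w ∧ T.w (σ 1) = w ∧ T.w (σ 2) = w ∧ T.w (σ 3) = 2 * w ∧ T.a (σ 0) (σ 0) = -2 * w ∧ T.a (σ 0) (σ 1) = w ∧ T.a (σ 0) (σ 2) = w ∧ T.a (σ 0) (σ 3) = 2 * w ∧ T.a (σ 1) (σ 1) = -2 * w ∧ T.a (σ 1) (σ 2) = 0 ∧ T.a (σ 1) (σ 3) = 0 ∧ T.a (σ 2) (σ 2) = -2 * w ∧ T.a (σ 2) (σ 3) = 0 ∧ T.a (σ 3) (σ 3) = -4 * w) ∨
      (T.m (σ 0) = 2 * m ∧ T.m (σ 1) = m ∧ T.m (σ 2) = m ∧ T.m (σ 3) = 2 * m ∧ T.w (σ 0) = 2 * w ∧ T.w (σ 1) = 2 * w ∧ T.w (σ 2) = 2 * w ∧ T.w (σ 3) = w ∧ T.a (σ 0) (σ 0) = -4 * w ∧ T.a (σ 0) (σ 1) = 2 * w ∧ T.a (σ 0) (σ 2) = 2 * w ∧ T.a (σ 0) (σ 3) = 2 * w ∧ T.a (σ 1) (σ 1) = -4 * w ∧ T.a (σ 1) (σ 2) = 0 ∧ T.a (σ 1) (σ 3) = 0 ∧ T.a (σ 2) (σ 2) = -4 * w ∧ T.a (σ 2) (σ 3) = 0 ∧ T.a (σ 3) (σ 3) = -2 * w)) :=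 by
  have hm2 := Groth.Agent.Lib.Helper11.all_minusTwo T hmin (by norm_num) hg
  refine ⟨fun i => (hm2 i).1, ?_⟩
  have s := Groth.Agent.Lib.Helper11.a_symm T
  have s10 := s 1 0
  have s20 := s 2 0
  have s30 := s 3 0
  have s21 := s 2 1
  have s31 := s 3 1
  have s32 := s 3 2
  have c0 : T.a 0 1 ≠ 0 ∨ T.a 0 2 ≠ 0 ∨ T.a 0 3 ≠ 0 := by
    obtain ⟨i, hi, j, hj, h⟩ := T.connected {0} ⟨0, by simp⟩ (by decide)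
    clear s
    fin_cases i <;> fin_cases j <;> simp_all
  have c1 : T.a 0 1 ≠ 0 ∨ T.a 1 2 ≠ 0 ∨ T.a 1 3 ≠ 0 := by
    obtain ⟨i, hi, j, hj, h⟩ := T.connected {1} ⟨1, by simp⟩ (by decide)
    clear s
    fin_cases i <;> fin_cases j <;> simp_all
  have c2 : T.a 0 2 ≠ 0 ∨ T.a 1 2 ≠ 0 ∨ T.a 2 3 ≠ 0 := by
    obtain ⟨i, hi, j, hj, h⟩ := T.connected {2} ⟨2, by simp⟩ (by decide)
    clear s
    fin_cases i <;> fin_cases j <;> simp_all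
  have c3 : T.a 0 3 ≠ 0 ∨ T.a 1 3 ≠ 0 ∨ T.a 2 3 ≠ 0 := by
    obtain ⟨i, hi, j, hj, h⟩ := T.connected {3} ⟨3, by simp⟩ (by decide)
    clear s
    fin_cases i <;> fin_cases j <;> simp_all
  have c01 : T.a 0 2 ≠ 0 ∨ T.a 0 3 ≠ 0 ∨ T.a 1 2 ≠ 0 ∨ T.a 1 3 ≠ 0 := by
    obtain ⟨i, hi, j, hj, h⟩ := T.connected {0, 1} ⟨0, by simp⟩ (by decide)
    clear s
    fin_cases i <;> fin_cases j <;> simp_all
  have c02 : T.a 0 1 ≠ 0 ∨ T.a 0 3 ≠ 0 ∨ T.a 1 2 ≠ 0 ∨ T.a 2 3 ≠ 0 := by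
    obtain ⟨i, hi, j, hj, h⟩ := T.connected {0, 2} ⟨0, by simp⟩ (by decide)
    clear s
    fin_cases i <;> fin_cases j <;> simp_all
  have c03 : T.a 0 1 ≠ 0 ∨ T.a 0 2 ≠ 0 ∨ T.a 1 3 ≠ 0 ∨ T.a 2 3 ≠ 0 := by
    obtain ⟨i, hi, j, hj, h⟩ := T.connected {0, 3} ⟨0, by simp⟩ (by decide)
    clear s
    fin_cases i <;> fin_cases j <;> simp_all
  have t012 : T.a 0 1 ≠ 0 → T.a 1 2 ≠ 0 → T.a 0 2 = 0 :=
    Groth.Agent.Lib.Helper11.no_triangle' T (by norm_num) hm2 (by decide) (by decide) (by decide)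
  have t013 : T.a 0 1 ≠ 0 → T.a 1 3 ≠ 0 → T.a 0 3 = 0 :=
    Groth.Agent.Lib.Helper11.no_triangle' T (by norm_num) hm2 (by decide) (by decide) (by decide)
  have t023 : T.a 0 2 ≠ 0 → T.a 2 3 ≠ 0 → T.a 0 3 = 0 :=
    Groth.Agent.Lib.Helper11.no_triangle' T (by norm_num) hm2 (by decide) (by decide) (by decide)
  have t123 : T.a 1 2 ≠ 0 → T.a 2 3 ≠ 0 → T.a 1 3 = 0 :=
    Groth.Agent.Lib.Helper11.no_triangle' T (by norm_num) hm2 (by decide) (by decide) (by decide)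
  clear s10 s20 s30 s21 s31 s32
  have bij0123 : Function.Bijective ![(0 : Fin 4), 1, 2, 3] := by decide
  have bij0132 : Function.Bijective ![(0 : Fin 4), 1, 3, 2] := by decide
  have bij0213 : Function.Bijective ![(0 : Fin 4), 2, 1, 3] := by decide
  have bij0231 : Function.Bijective ![(0 : Fin 4), 2, 3, 1] := by decide
  have bij0312 : Function.Bijective ![(0 : Fin 4), 3, 1, 2] := by decide
  have bij0321 : Function.Bijective ![(0 : Fin 4), 3, 2, 1] := by decide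
  have bij1023 : Function.Bijective ![(1 : Fin 4), 0, 2, 3] := by decide
  have bij1032 : Function.Bijective ![(1 : Fin 4), 0, 3, 2] := by decide
  have bij1203 : Function.Bijective ![(1 : Fin 4), 2, 0, 3] := by decide
  have bij1230 : Function.Bijective ![(1 : Fin 4), 2, 3, 0] := by decide
  have bij1302 : Function.Bijective ![(1 : Fin 4), 3, 0, 2] := by decide
  have bij1320 : Function.Bijective ![(1 : Fin 4), 3, 2, 0] := by decide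
  have bij2013 : Function.Bijective ![(2 : Fin 4), 0, 1, 3] := by decide
  have bij2031 : Function.Bijective ![(2 : Fin 4), 0, 3, 1] := by decide
  have bij2103 : Function.Bijective ![(2 : Fin 4), 1, 0, 3] := by decide
  have bij2130 : Function.Bijective ![(2 : Fin 4), 1, 3, 0] := by decide
  have bij2301 : Function.Bijective ![(2 : Fin 4), 3, 0, 1] := by decide
  have bij2310 : Function.Bijective ![(2 : Fin 4), 3, 1, 0] := by decide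
  have bij3012 : Function.Bijective ![(3 : Fin 4), 0, 1, 2] := by decide
  have bij3021 : Function.Bijective ![(3 : Fin 4), 0, 2, 1] := by decide
  have bij3102 : Function.Bijective ![(3 : Fin 4), 1, 0, 2] := by decide
  have bij3120 : Function.Bijective ![(3 : Fin 4), 1, 2, 0] := by decide
  have bij3201 : Function.Bijective ![(3 : Fin 4), 2, 0, 1] := by decide
  have bij3210 : Function.Bijective ![(3 : Fin 4), 2, 1, 0] := by decide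
  by_cases h01 : T.a 0 1 = 0 <;>
  by_cases h02 : T.a 0 2 = 0 <;>
  by_cases h03 : T.a 0 3 = 0 <;>
  by_cases h12 : T.a 1 2 = 0 <;>
  by_cases h13 : T.a 1 3 = 0 <;>
  by_cases h23 : T.a 2 3 = 0 <;>
  first
    | (exfalso
       simp only [h01, h02, h03, h12, h13, h23, ne_eq, not_true_eq_false, not_false_eq_true,
         or_self, or_false, false_or, or_true, true_or, forall_const, imp_self, false_imp_iff,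
         true_imp_iff] at c0 c1 c2 c3 c01 c02 c03 t012 t013 t023 t123
       done)
    | skip
  all_goals (
    have h10 := h01; rw [← s 1 0] at h10
    have h20 := h02; rw [← s 2 0] at h20
    have h30 := h03; rw [← s 3 0] at h30
    have h21 := h12; rw [← s 2 1] at h21
    have h31 := h13; rw [← s 3 1] at h31
    have h32 := h23; rw [← s 3 2] at h32)
  all_goals first
    | (apply cycle4' T hm2 0 1 2 3 <;> assumption)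
    | (apply cycle4' T hm2 0 1 3 2 <;> assumption)
    | (apply cycle4' T hm2 0 2 1 3 <;> assumption)
    | (apply star4' T hm2 0 1 2 3 <;> assumption)
    | (apply star4' T hm2 1 0 2 3 <;> assumption)
    | (apply star4' T hm2 2 0 1 3 <;> assumption)
    | (apply star4' T hm2 3 0 1 2 <;> assumption)
    | (apply path4' T hm2 0 1 2 3 <;> assumption)
    | (apply path4' T hm2 0 1 3 2 <;> assumption)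
    | (apply path4' T hm2 0 2 1 3 <;> assumption)
    | (apply path4' T hm2 0 2 3 1 <;> assumption)
    | (apply path4' T hm2 0 3 1 2 <;> assumption)
    | (apply path4' T hm2 0 3 2 1 <;> assumption)
    | (apply path4' T hm2 1 0 2 3 <;> assumption)
    | (apply path4' T hm2 1 0 3 2 <;> assumption)
    | (apply path4' T hm2 1 2 0 3 <;> assumption)
    | (apply path4' T hm2 1 3 0 2 <;> assumption)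
    | (apply path4' T hm2 2 0 1 3 <;> assumption)
    | (apply path4' T hm2 2 1 0 3 <;> assumption)

end Groth.Agent.S7364
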