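import Groth.Statements.S7368
import Groth.Agent.Lib.Helper11.NumTypeAff

/-! generated by gen/g1gen.py (helper11): certificate search over Cartan configurations -/

set_option autoImplicit false
open Finset
open Models Models.NumericalType

namespace Groth.Agent.S7368

open Groth.Agent.Lib.Helper11

/-- the list of types of the statement -/
def Result (T : Models.NumericalType 7) : Prop :=
    ∃ (σ : Equiv.Perm (Fin 7)) (m w : ℤ),
      ((T.m (σ 0) = m ∧ T.m (σ 1) = m ∧ T.m (σ 2) = m ∧ T.m (σ 3) = m ∧ T.m (σ 4) = m ∧ T.m (σ 5) = m ∧ T.m (σ 6) = m ∧ T.w (σ 0) = w ∧ T.w (σ 1) = w ∧ T.w (σ 2) = w ∧ T.w (σ 3) = w ∧ T.w (σ 4) = w ∧ T.w (σ 5) = w ∧ T.w (σ 6) = w ∧ T.a (σ 0) (σ 0) = -2 * w ∧ T.a (σ 0) (σ 1) = w ∧ T.a (σ 0) (σ 2) = 0 ∧ T.a (σ 0) (σ 3) = 0 ∧ T.a (σ 0) (σ 4) = 0 ∧ T.a (σ 0) (σ 5) = 0 ∧ T.a (σ 0) (σ 6) = w ∧ T.a (σ 1) (σ 1) = -2 * w ∧ T.a (σ 1) (σ 2) =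 w ∧ T.a (σ 1) (σ 3) = 0 ∧ T.a (σ 1) (σ 4) = 0 ∧ T.a (σ 1) (σ 5) = 0 ∧ T.a (σ 1) (σ 6) = 0 ∧ T.a (σ 2) (σ 2) = -2 * w ∧ T.a (σ 2) (σ 3) = w ∧ T.a (σ 2) (σ 4) = 0 ∧ T.a (σ 2) (σ 5) = 0 ∧ T.a (σ 2) (σ 6) = 0 ∧ T.a (σ 3) (σ 3) = -2 * w ∧ T.a (σ 3) (σ 4) = w ∧ T.a (σ 3) (σ 5) = 0 ∧ T.a (σ 3) (σ 6) = 0 ∧ T.a (σ 4) (σ 4) = -2 * w ∧ T.a (σ 4) (σ 5) = w ∧ T.a (σ 4) (σ 6) = 0 ∧ T.a (σ 5) (σ 5) = -2 * w ∧ T.a (σ 5) (σ 6) = w ∧ T.a (σ 6) (σ 6) = -2 * w) ∨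
      (T.m (σ 0) = 2 * m ∧ T.m (σ 1) = 2 * m ∧ T.m (σ 2) = 2 * m ∧ T.m (σ 3) = 2 * m ∧ T.m (σ 4) = 2 * m ∧ T.m (σ 5) = 2 * m ∧ T.m (σ 6) = m ∧ T.w (σ 0) = w ∧ T.w (σ 1) = 2 * w ∧ T.w (σ 2) = 2 * w ∧ T.w (σ 3) = 2 * w ∧ T.w (σ 4) = 2 * w ∧ T.w (σ 5) = 2 * w ∧ T.w (σ 6) = 4 * w ∧ T.a (σ 0) (σ 0) = -2 * w ∧ T.a (σ 0) (σ 1) = 2 * w ∧ T.a (σ 0) (σ 2) = 0 ∧ T.a (σ 0) (σ 3) = 0 ∧ T.a (σ 0) (σ 4) = 0 ∧ T.a (σ 0) (σ 5) = 0 ∧ T.a (σ 0) (σ 6) = 0 ∧ T.a (σ 1) (σ 1) = -4 * w ∧ T.a (σ 1) (σ 2) = 2 * w ∧ T.a (σ 1) (σ 3) = 0 ∧ T.a (σ 1) (σ 4) = 0 ∧ T.a (σ 1) (σ 5) = 0 ∧ T.a (σ 1) (σ 6) = 0 ∧ T.a (σ 2) (σ 2) = -4 * w ∧ T.a (σ 2) (σ 3) = 2 * w ∧ T.a (σ 2) (σ 4) = 0 ∧ T.a (σ 2) (σ 5) = 0 ∧ T.a (σ 2) (σ 6) = 0 ∧ T.a (σ 3) (σ 3) = -4 * w ∧ T.a (σ 3) (σ 4) = 2 * w ∧ T.a (σ 3) (σ 5) = 0 ∧ T.a (σ 3) (σ 6) = 0 ∧ T.a (σ 4) (σ 4) = -4 * w ∧ T.a (σ 4) (σ 5) = 2 * w ∧ T.a (σ 4) (σ 6) = 0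 ∧ T.a (σ 5) (σ 5) = -4 * w ∧ T.a (σ 5) (σ 6) = 4 * w ∧ T.a (σ 6) (σ 6) = -8 * w) ∨
      (T.m (σ 0) = m ∧ T.m (σ 1) = m ∧ T.m (σ 2) = m ∧ T.m (σ 3) = m ∧ T.m (σ 4) = m ∧ T.m (σ 5) = m ∧ T.m (σ 6) = m ∧ T.w (σ 0) = w ∧ T.w (σ 1) = 2 * w ∧ T.w (σ 2) = 2 * w ∧ T.w (σ 3) = 2 * w ∧ T.w (σ 4) = 2 * w ∧ T.w (σ 5) = 2 * w ∧ T.w (σ 6) = w ∧ T.a (σ 0) (σ 0) = -2 * w ∧ T.a (σ 0) (σ 1) = 2 * w ∧ T.a (σ 0) (σ 2) = 0 ∧ T.a (σ 0) (σ 3) = 0 ∧ T.a (σ 0) (σ 4) = 0 ∧ T.a (σ 0) (σ 5) = 0 ∧ T.a (σ 0) (σ 6) = 0 ∧ T.a (σ 1) (σ 1) = -4 * w ∧ T.a (σ 1) (σ 2) = 2 * w ∧ T.a (σ 1) (σ 3) = 0 ∧ T.a (σ 1) (σ 4) = 0 ∧ T.a (σ 1) (σ 5) = 0 ∧ T.a (σ 1) (σ 6) = 0 ∧ T.a (σ 2) (σ 2) = -4 * w ∧ T.a (σ 2) (σ 3) = 2 * w ∧ T.a (σ 2) (σ 4) = 0 ∧ T.a (σ 2) (σ 5) = 0 ∧ T.a (σ 2) (σ 6) = 0 ∧ T.a (σ 3) (σ 3) = -4 * w ∧ T.a (σ 3) (σ 4) = 2 * w ∧ T.a (σ 3) (σ 5) = 0 ∧ T.a (σ 3) (σ 6) = 0 ∧ T.a (σ 4) (σ 4) =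 -4 * w ∧ T.a (σ 4) (σ 5) = 2 * w ∧ T.a (σ 4) (σ 6) = 0 ∧ T.a (σ 5) (σ 5) = -4 * w ∧ T.a (σ 5) (σ 6) = 2 * w ∧ T.a (σ 6) (σ 6) = -2 * w) ∨
      (T.m (σ 0) = m ∧ T.m (σ 1) = 2 * m ∧ T.m (σ 2) = 2 * m ∧ T.m (σ 3) = 2 * m ∧ T.m (σ 4) = 2 * m ∧ T.m (σ 5) = 2 * m ∧ T.m (σ 6) = m ∧ T.w (σ 0) = 2 * w ∧ T.w (σ 1) = w ∧ T.w (σ 2) = w ∧ T.w (σ 3) = w ∧ T.w (σ 4) = w ∧ T.w (σ 5) = w ∧ T.w (σ 6) = 2 * w ∧ T.a (σ 0) (σ 0) = -4 * w ∧ T.a (σ 0) (σ 1) = 2 * w ∧ T.a (σ 0) (σ 2) = 0 ∧ T.a (σ 0) (σ 3) = 0 ∧ T.a (σ 0) (σ 4) = 0 ∧ T.a (σ 0) (σ 5) = 0 ∧ T.a (σ 0) (σ 6) = 0 ∧ T.a (σ 1) (σ 1) = -2 * w ∧ T.a (σ 1) (σ 2) = w ∧ T.a (σ 1) (σ 3) = 0 ∧ T.a (σ 1) (σ 4) = 0 ∧ T.a (σ 1) (σ 5) = 0 ∧ T.a (σ 1) (σ 6) = 0 ∧ T.a (σ 2) (σ 2) = -2 * w ∧ T.a (σ 2) (σ 3) = w ∧ T.a (σ 2) (σ 4) = 0 ∧ T.a (σ 2) (σ 5) = 0 ∧ T.a (σ 2) (σ 6) = 0 ∧ T.a (σ 3) (σ 3) = -2 * w ∧ T.a (σ 3) (σ 4) = w ∧ T.a (σ 3)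 (σ 5) = 0 ∧ T.a (σ 3) (σ 6) = 0 ∧ T.a (σ 4) (σ 4) = -2 * w ∧ T.a (σ 4) (σ 5) = w ∧ T.a (σ 4) (σ 6) = 0 ∧ T.a (σ 5) (σ 5) = -2 * w ∧ T.a (σ 5) (σ 6) = 2 * w ∧ T.a (σ 6) (σ 6) = -4 * w) ∨
      (T.m (σ 0) = m ∧ T.m (σ 1) = 2 * m ∧ T.m (σ 2) = 2 * m ∧ T.m (σ 3) = 2 * m ∧ T.m (σ 4) = 2 * m ∧ T.m (σ 5) = m ∧ T.m (σ 6) = m ∧ T.w (σ 0) = 2 * w ∧ T.w (σ 1) = w ∧ T.w (σ 2) = w ∧ T.w (σ 3) = w ∧ T.w (σ 4) = w ∧ T.w (σ 5) = w ∧ T.w (σ 6) = w ∧ T.a (σ 0) (σ 0) = -4 * w ∧ T.a (σ 0) (σ 1) = 2 * w ∧ T.a (σ 0) (σ 2) = 0 ∧ T.a (σ 0) (σ 3) = 0 ∧ T.a (σ 0) (σ 4) = 0 ∧ T.a (σ 0) (σ 5) = 0 ∧ T.a (σ 0) (σ 6) = 0 ∧ T.a (σ 1) (σ 1) = -2 * w ∧ T.a (σ 1) (σ 2) = w ∧ T.a (σ 1) (σ 3) = 0 ∧ T.a (σ 1) (σ 4) = 0 ∧ T.a (σ 1) (σ 5) = 0 ∧ T.a (σ 1) (σ 6) = 0 ∧ T.a (σ 2) (σ 2) = -2 * w ∧ T.a (σ 2) (σ 3) = w ∧ T.a (σ 2) (σ 4) = 0 ∧ T.a (σ 2) (σ 5) = 0 ∧ T.a (σ 2) (σ 6) = 0 ∧ T.a (σ 3) (σ 3) = -2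 * w ∧ T.a (σ 3) (σ 4) = w ∧ T.a (σ 3) (σ 5) = 0 ∧ T.a (σ 3) (σ 6) = 0 ∧ T.a (σ 4) (σ 4) = -2 * w ∧ T.a (σ 4) (σ 5) = w ∧ T.a (σ 4) (σ 6) = w ∧ T.a (σ 5) (σ 5) = -2 * w ∧ T.a (σ 5) (σ 6) = 0 ∧ T.a (σ 6) (σ 6) = -2 * w) ∨
      (T.m (σ 0) = 2 * m ∧ T.m (σ 1) = 2 * m ∧ T.m (σ 2) = 2 * m ∧ T.m (σ 3) = 2 * m ∧ T.m (σ 4) = 2 * m ∧ T.m (σ 5) = m ∧ T.m (σ 6) = m ∧ T.w (σ 0) = w ∧ T.w (σ 1) = 2 * w ∧ T.w (σ 2) = 2 * w ∧ T.w (σ 3) = 2 * w ∧ T.w (σ 4) = 2 * w ∧ T.w (σ 5) = 2 * w ∧ T.w (σ 6) = 2 * w ∧ T.a (σ 0) (σ 0) = -2 * w ∧ T.a (σ 0) (σ 1) = 2 * w ∧ T.a (σ 0) (σ 2) = 0 ∧ T.a (σ 0) (σ 3) = 0 ∧ T.a (σ 0) (σ 4) = 0 ∧ T.a (σ 0) (σ 5) = 0 ∧ T.a (σ 0) (σ 6) = 0 ∧ T.a (σ 1) (σ 1) = -4 * w ∧ T.a (σ 1) (σ 2) = 2 * w ∧ T.a (σ 1) (σ 3) = 0 ∧ T.a (σ 1) (σ 4) = 0 ∧ T.a (σ 1) (σ 5) = 0 ∧ T.a (σ 1) (σ 6) = 0 ∧ T.a (σ 2) (σ 2) = -4 * w ∧ T.a (σ 2) (σ 3) = 2 * w ∧ T.a (σ 2) (σ 4) = 0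 ∧ T.a (σ 2) (σ 5) = 0 ∧ T.a (σ 2) (σ 6) = 0 ∧ T.a (σ 3) (σ 3) = -4 * w ∧ T.a (σ 3) (σ 4) = 2 * w ∧ T.a (σ 3) (σ 5) = 0 ∧ T.a (σ 3) (σ 6) = 0 ∧ T.a (σ 4) (σ 4) = -4 * w ∧ T.a (σ 4) (σ 5) = 2 * w ∧ T.a (σ 4) (σ 6) = 2 * w ∧ T.a (σ 5) (σ 5) = -4 * w ∧ T.a (σ 5) (σ 6) = 0 ∧ T.a (σ 6) (σ 6) = -4 * w) ∨
      (T.m (σ 0) = m ∧ T.m (σ 1) = m ∧ T.m (σ 2) = 2 * m ∧ T.m (σ 3) = 2 * m ∧ T.m (σ 4) = 2 * m ∧ T.m (σ 5) = m ∧ T.m (σ 6) = m ∧ T.w (σ 0) = w ∧ T.w (σ 1) = w ∧ T.w (σ 2) = w ∧ T.w (σ 3) = w ∧ T.w (σ 4) = w ∧ T.w (σ 5) = w ∧ T.w (σ 6) = w ∧ T.a (σ 0) (σ 0) = -2 * w ∧ T.a (σ 0) (σ 1) = 0 ∧ T.a (σ 0) (σ 2) = w ∧ T.a (σ 0) (σ 3) = 0 ∧ T.a (σ 0) (σ 4) = 0 ∧ T.a (σ 0) (σ 5) = 0 ∧ T.a (σ 0) (σ 6) = 0 ∧ T.a (σ 1) (σ 1) = -2 * w ∧ T.a (σ 1) (σ 2) = w ∧ T.a (σ 1) (σ 3) = 0 ∧ T.a (σ 1) (σ 4) = 0 ∧ T.a (σ 1) (σ 5) = 0 ∧ T.a (σ 1) (σ 6) = 0 ∧ T.a (σ 2) (σ 2) = -2 * w ∧ T.a (σ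 2) (σ 3) = w ∧ T.a (σ 2) (σ 4) = 0 ∧ T.a (σ 2) (σ 5) = 0 ∧ T.a (σ 2) (σ 6) = 0 ∧ T.a (σ 3) (σ 3) = -2 * w ∧ T.a (σ 3) (σ 4) = w ∧ T.a (σ 3) (σ 5) = 0 ∧ T.a (σ 3) (σ 6) = 0 ∧ T.a (σ 4) (σ 4) = -2 * w ∧ T.a (σ 4) (σ 5) = w ∧ T.a (σ 4) (σ 6) = w ∧ T.a (σ 5) (σ 5) = -2 * w ∧ T.a (σ 5) (σ 6) = 0 ∧ T.a (σ 6) (σ 6) = -2 * w) ∨
      (T.m (σ 0) = m ∧ T.m (σ 1) = 2 * m ∧ T.m (σ 2) = 3 * m ∧ T.m (σ 3) = m ∧ T.m (σ 4) = 2 * m ∧ T.m (σ 5) = m ∧ T.m (σ 6) = 2 * m ∧ T.w (σ 0) = w ∧ T.w (σ 1) = w ∧ T.w (σ 2) = w ∧ T.w (σ 3) = w ∧ T.w (σ 4) = w ∧ T.w (σ 5) = w ∧ T.w (σ 6) = w ∧ T.a (σ 0) (σ 0) = -2 * w ∧ T.a (σ 0) (σ 1) = w ∧ T.a (σ 0) (σ 2) = 0 ∧ T.a (σ 0) (σ 3) = 0 ∧ T.a (σ 0) (σ 4) = 0 ∧ T.a (σ 0) (σ 5) = 0 ∧ T.a (σ 0) (σ 6) = 0 ∧ T.a (σ 1) (σ 1) = -2 * w ∧ T.a (σ 1) (σ 2) = w ∧ T.a (σ 1) (σ 3) = 0 ∧ T.a (σ 1) (σ 4) = 0 ∧ T.a (σ 1) (σ 5) = 0 ∧ T.a (σ 1) (σ 6) = 0 ∧ T.a (σ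 2) (σ 2) = -2 * w ∧ T.a (σ 2) (σ 3) = 0 ∧ T.a (σ 2) (σ 4) = w ∧ T.a (σ 2) (σ 5) = 0 ∧ T.a (σ 2) (σ 6) = w ∧ T.a (σ 3) (σ 3) = -2 * w ∧ T.a (σ 3) (σ 4) = w ∧ T.a (σ 3) (σ 5) = 0 ∧ T.a (σ 3) (σ 6) = 0 ∧ T.a (σ 4) (σ 4) = -2 * w ∧ T.a (σ 4) (σ 5) = 0 ∧ T.a (σ 4) (σ 6) = 0 ∧ T.a (σ 5) (σ 5) = -2 * w ∧ T.a (σ 5) (σ 6) = w ∧ T.a (σ 6) (σ 6) = -2 * w))

def mc0 : Fin 7 → ℤ := ![1, 1, 1, 1, 1, 1, 1]
def wc0 : Fin 7 → ℤ := ![1, 1, 1, 1, 1, 1, 1]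
def ac0 : Fin 7 → Fin 7 → ℤ := ![![-2, 1, 0, 0, 0, 0, 1], ![1, -2, 1, 0, 0, 0, 0], ![0, 1, -2, 1, 0, 0, 0], ![0, 0, 1, -2, 1, 0, 0], ![0, 0, 0, 1, -2, 1, 0], ![0, 0, 0, 0, 1, -2, 1], ![1, 0, 0, 0, 0, 1, -2]]

theorem of_type0 (T : Models.NumericalType 7) (σ : Equiv.Perm (Fin 7)) (m w : ℤ)
    (h : IsType T σ m w mc0 wc0 ac0) : Result T := by
  obtain ⟨h1, h2, h3⟩ := h
  refine ⟨σ, m, w, ?_⟩
  refine Or.inl ?_
  refine ⟨?_, ?_, ?_, ?_, ?_, ?_, ?_, ?_, ?_, ?_, ?_, ?_, ?_, ?_, ?_, ?_, ?_, ?_, ?_, ?_, ?_, ?_, ?_, ?_, ?_, ?_, ?_, ?_, ?_, ?_, ?_, ?_, ?_, ?_, ?_, ?_, ?_, ?_, ?_, ?_, ?_, ?_⟩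
  · simpa [mc0] using h1 0
  · simpa [mc0] using h1 1
  · simpa [mc0] using h1 2
  · simpa [mc0] using h1 3
  · simpa [mc0] using h1 4
  · simpa [mc0] using h1 5
  · simpa [mc0] using h1 6
  · simpa [wc0] using h2 0
  · simpa [wc0] using h2 1
  · simpa [wc0] using h2 2
  · simpa [wc0] using h2 3
  · simpa [wc0] using h2 4
  · simpa [wc0] using h2 5
  · simpa [wc0] using h2 6
  · simpa [ac0] using h3 0 0
  · simpa [ac0] using h3 0 1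
  · simpa [ac0] using h3 0 2
  · simpa [ac0] using h3 0 3
  · simpa [ac0] using h3 0 4
  · simpa [ac0] using h3 0 5
  · simpa [ac0] using h3 0 6
  · simpa [ac0] using h3 1 1
  · simpa [ac0] using h3 1 2
  · simpa [ac0] using h3 1 3
  · simpa [ac0] using h3 1 4
  · simpa [ac0] using h3 1 5
  · simpa [ac0] using h3 1 6
  · simpa [ac0] using h3 2 2
  · simpa [ac0] using h3 2 3
  · simpa [ac0] using h3 2 4
  · simpa [ac0] using h3 2 5
  · simpa [ac0] using h3 2 6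
  · simpa [ac0] using h3 3 3
  · simpa [ac0] using h3 3 4
  · simpa [ac0] using h3 3 5
  · simpa [ac0] using h3 3 6
  · simpa [ac0] using h3 4 4
  · simpa [ac0] using h3 4 5
  · simpa [ac0] using h3 4 6
  · simpa [ac0] using h3 5 5
  · simpa [ac0] using h3 5 6
  · simpa [ac0] using h3 6 6

def mc1 : Fin 7 → ℤ := ![2, 2, 2, 2, 2, 2, 1]
def wc1 : Fin 7 → ℤ := ![1, 2, 2, 2, 2, 2, 4]
def ac1 : Fin 7 → Fin 7 → ℤ := ![![-2, 2, 0, 0, 0, 0, 0], ![2, -4, 2, 0, 0, 0, 0], ![0, 2, -4, 2, 0, 0, 0], ![0, 0, 2, -4, 2, 0, 0], ![0, 0, 0, 2, -4, 2, 0], ![0, 0, 0, 0, 2, -4, 4], ![0, 0, 0, 0, 0, 4, -8]]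

theorem of_type1 (T : Models.NumericalType 7) (σ : Equiv.Perm (Fin 7)) (m w : ℤ)
    (h : IsType T σ m w mc1 wc1 ac1) : Result T := by
  obtain ⟨h1, h2, h3⟩ := h
  refine ⟨σ, m, w, ?_⟩
  refine Or.inr (Or.inl ?_)
  refine ⟨?_, ?_, ?_, ?_, ?_, ?_, ?_, ?_, ?_, ?_, ?_, ?_, ?_, ?_, ?_, ?_, ?_, ?_, ?_, ?_, ?_, ?_, ?_, ?_, ?_, ?_, ?_, ?_, ?_, ?_, ?_, ?_, ?_, ?_, ?_, ?_, ?_, ?_, ?_, ?_, ?_, ?_⟩
  · simpa [mc1] using h1 0
  · simpa [mc1] using h1 1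
  · simpa [mc1] using h1 2
  · simpa [mc1] using h1 3
  · simpa [mc1] using h1 4
  · simpa [mc1] using h1 5
  · simpa [mc1] using h1 6
  · simpa [wc1] using h2 0
  · simpa [wc1] using h2 1
  · simpa [wc1] using h2 2
  · simpa [wc1] using h2 3
  · simpa [wc1] using h2 4
  · simpa [wc1] using h2 5
  · simpa [wc1] using h2 6
  · simpa [ac1] using h3 0 0
  · simpa [ac1] using h3 0 1
  · simpa [ac1] using h3 0 2
  · simpa [ac1] using h3 0 3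
  · simpa [ac1] using h3 0 4
  · simpa [ac1] using h3 0 5
  · simpa [ac1] using h3 0 6
  · simpa [ac1] using h3 1 1
  · simpa [ac1] using h3 1 2
  · simpa [ac1] using h3 1 3
  · simpa [ac1] using h3 1 4
  · simpa [ac1] using h3 1 5
  · simpa [ac1] using h3 1 6
  · simpa [ac1] using h3 2 2
  · simpa [ac1] using h3 2 3
  · simpa [ac1] using h3 2 4
  · simpa [ac1] using h3 2 5
  · simpa [ac1] using h3 2 6
  · simpa [ac1] using h3 3 3
  · simpa [ac1] using h3 3 4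
  · simpa [ac1] using h3 3 5
  · simpa [ac1] using h3 3 6
  · simpa [ac1] using h3 4 4
  · simpa [ac1] using h3 4 5
  · simpa [ac1] using h3 4 6
  · simpa [ac1] using h3 5 5
  · simpa [ac1] using h3 5 6
  · simpa [ac1] using h3 6 6

def mc2 : Fin 7 → ℤ := ![1, 1, 1, 1, 1, 1, 1]
def wc2 : Fin 7 → ℤ := ![1, 2, 2, 2, 2, 2, 1]
def ac2 : Fin 7 → Fin 7 → ℤ := ![![-2, 2, 0, 0, 0, 0, 0], ![2, -4, 2, 0, 0, 0, 0], ![0, 2, -4, 2, 0, 0, 0], ![0, 0, 2, -4, 2, 0, 0], ![0, 0, 0, 2, -4, 2, 0], ![0, 0, 0, 0, 2, -4, 2], ![0, 0, 0, 0, 0, 2, -2]]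

theorem of_type2 (T : Models.NumericalType 7) (σ : Equiv.Perm (Fin 7)) (m w : ℤ)
    (h : IsType T σ m w mc2 wc2 ac2) : Result T := by
  obtain ⟨h1, h2, h3⟩ := h
  refine ⟨σ, m, w, ?_⟩
  refine Or.inr (Or.inr (Or.inl ?_))
  refine ⟨?_, ?_, ?_, ?_, ?_, ?_, ?_, ?_, ?_, ?_, ?_, ?_, ?_, ?_, ?_, ?_, ?_, ?_, ?_, ?_, ?_, ?_, ?_, ?_, ?_, ?_, ?_, ?_, ?_, ?_, ?_, ?_, ?_, ?_, ?_, ?_, ?_, ?_, ?_, ?_, ?_, ?_⟩
  · simpa [mc2] using h1 0
  · simpa [mc2] using h1 1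
  · simpa [mc2] using h1 2
  · simpa [mc2] using h1 3
  · simpa [mc2] using h1 4
  · simpa [mc2] using h1 5
  · simpa [mc2] using h1 6
  · simpa [wc2] using h2 0
  · simpa [wc2] using h2 1
  · simpa [wc2] using h2 2
  · simpa [wc2] using h2 3
  · simpa [wc2] using h2 4
  · simpa [wc2] using h2 5
  · simpa [wc2] using h2 6
  · simpa [ac2] using h3 0 0
  · simpa [ac2] using h3 0 1
  · simpa [ac2] using h3 0 2
  · simpa [ac2] using h3 0 3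
  · simpa [ac2] using h3 0 4
  · simpa [ac2] using h3 0 5
  · simpa [ac2] using h3 0 6
  · simpa [ac2] using h3 1 1
  · simpa [ac2] using h3 1 2
  · simpa [ac2] using h3 1 3
  · simpa [ac2] using h3 1 4
  · simpa [ac2] using h3 1 5
  · simpa [ac2] using h3 1 6
  · simpa [ac2] using h3 2 2
  · simpa [ac2] using h3 2 3
  · simpa [ac2] using h3 2 4
  · simpa [ac2] using h3 2 5
  · simpa [ac2] using h3 2 6
  · simpa [ac2] using h3 3 3
  · simpa [ac2] using h3 3 4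
  · simpa [ac2] using h3 3 5
  · simpa [ac2] using h3 3 6
  · simpa [ac2] using h3 4 4
  · simpa [ac2] using h3 4 5
  · simpa [ac2] using h3 4 6
  · simpa [ac2] using h3 5 5
  · simpa [ac2] using h3 5 6
  · simpa [ac2] using h3 6 6

def mc3 : Fin 7 → ℤ := ![1, 2, 2, 2, 2, 2, 1]
def wc3 : Fin 7 → ℤ := ![2, 1, 1, 1, 1, 1, 2]
def ac3 : Fin 7 → Fin 7 → ℤ := ![![-4, 2, 0, 0, 0, 0, 0], ![2, -2, 1, 0, 0, 0, 0], ![0, 1, -2, 1, 0, 0, 0], ![0, 0, 1, -2, 1, 0, 0], ![0, 0, 0, 1, -2, 1, 0], ![0, 0, 0, 0, 1, -2, 2], ![0, 0, 0, 0, 0, 2, -4]]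

theorem of_type3 (T : Models.NumericalType 7) (σ : Equiv.Perm (Fin 7)) (m w : ℤ)
    (h : IsType T σ m w mc3 wc3 ac3) : Result T := by
  obtain ⟨h1, h2, h3⟩ := h
  refine ⟨σ, m, w, ?_⟩
  refine Or.inr (Or.inr (Or.inr (Or.inl ?_)))
  refine ⟨?_, ?_, ?_, ?_, ?_, ?_, ?_, ?_, ?_, ?_, ?_, ?_, ?_, ?_, ?_, ?_, ?_, ?_, ?_, ?_, ?_, ?_, ?_, ?_, ?_, ?_, ?_, ?_, ?_, ?_, ?_, ?_, ?_, ?_, ?_, ?_, ?_, ?_, ?_, ?_, ?_, ?_⟩
  · simpa [mc3] using h1 0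
  · simpa [mc3] using h1 1
  · simpa [mc3] using h1 2
  · simpa [mc3] using h1 3
  · simpa [mc3] using h1 4
  · simpa [mc3] using h1 5
  · simpa [mc3] using h1 6
  · simpa [wc3] using h2 0
  · simpa [wc3] using h2 1
  · simpa [wc3] using h2 2
  · simpa [wc3] using h2 3
  · simpa [wc3] using h2 4
  · simpa [wc3] using h2 5
  · simpa [wc3] using h2 6
  · simpa [ac3] using h3 0 0
  · simpa [ac3] using h3 0 1
  · simpa [ac3] using h3 0 2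
  · simpa [ac3] using h3 0 3
  · simpa [ac3] using h3 0 4
  · simpa [ac3] using h3 0 5
  · simpa [ac3] using h3 0 6
  · simpa [ac3] using h3 1 1
  · simpa [ac3] using h3 1 2
  · simpa [ac3] using h3 1 3
  · simpa [ac3] using h3 1 4
  · simpa [ac3] using h3 1 5
  · simpa [ac3] using h3 1 6
  · simpa [ac3] using h3 2 2
  · simpa [ac3] using h3 2 3
  · simpa [ac3] using h3 2 4
  · simpa [ac3] using h3 2 5
  · simpa [ac3] using h3 2 6
  · simpa [ac3] using h3 3 3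
  · simpa [ac3] using h3 3 4
  · simpa [ac3] using h3 3 5
  · simpa [ac3] using h3 3 6
  · simpa [ac3] using h3 4 4
  · simpa [ac3] using h3 4 5
  · simpa [ac3] using h3 4 6
  · simpa [ac3] using h3 5 5
  · simpa [ac3] using h3 5 6
  · simpa [ac3] using h3 6 6

def mc4 : Fin 7 → ℤ := ![1, 2, 2, 2, 2, 1, 1]
def wc4 : Fin 7 → ℤ := ![2, 1, 1, 1, 1, 1, 1]
def ac4 : Fin 7 → Fin 7 → ℤ := ![![-4, 2, 0, 0, 0, 0, 0], ![2, -2, 1, 0, 0, 0, 0], ![0, 1, -2, 1, 0, 0, 0], ![0, 0, 1, -2, 1, 0, 0], ![0, 0, 0, 1, -2, 1, 1], ![0, 0, 0, 0, 1, -2, 0], ![0, 0, 0, 0, 1, 0, -2]]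

theorem of_type4 (T : Models.NumericalType 7) (σ : Equiv.Perm (Fin 7)) (m w : ℤ)
    (h : IsType T σ m w mc4 wc4 ac4) : Result T := by
  obtain ⟨h1, h2, h3⟩ := h
  refine ⟨σ, m, w, ?_⟩
  refine Or.inr (Or.inr (Or.inr (Or.inr (Or.inl ?_))))
  refine ⟨?_, ?_, ?_, ?_, ?_, ?_, ?_, ?_, ?_, ?_, ?_, ?_, ?_, ?_, ?_, ?_, ?_, ?_, ?_, ?_, ?_, ?_, ?_, ?_, ?_, ?_, ?_, ?_, ?_, ?_, ?_, ?_, ?_, ?_, ?_, ?_, ?_, ?_, ?_, ?_, ?_, ?_⟩
  · simpa [mc4] using h1 0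
  · simpa [mc4] using h1 1
  · simpa [mc4] using h1 2
  · simpa [mc4] using h1 3
  · simpa [mc4] using h1 4
  · simpa [mc4] using h1 5
  · simpa [mc4] using h1 6
  · simpa [wc4] using h2 0
  · simpa [wc4] using h2 1
  · simpa [wc4] using h2 2
  · simpa [wc4] using h2 3
  · simpa [wc4] using h2 4
  · simpa [wc4] using h2 5
  · simpa [wc4] using h2 6
  · simpa [ac4] using h3 0 0
  · simpa [ac4] using h3 0 1
  · simpa [ac4] using h3 0 2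
  · simpa [ac4] using h3 0 3
  · simpa [ac4] using h3 0 4
  · simpa [ac4] using h3 0 5
  · simpa [ac4] using h3 0 6
  · simpa [ac4] using h3 1 1
  · simpa [ac4] using h3 1 2
  · simpa [ac4] using h3 1 3
  · simpa [ac4] using h3 1 4
  · simpa [ac4] using h3 1 5
  · simpa [ac4] using h3 1 6
  · simpa [ac4] using h3 2 2
  · simpa [ac4] using h3 2 3
  · simpa [ac4] using h3 2 4
  · simpa [ac4] using h3 2 5
  · simpa [ac4] using h3 2 6
  · simpa [ac4] using h3 3 3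
  · simpa [ac4] using h3 3 4
  · simpa [ac4] using h3 3 5
  · simpa [ac4] using h3 3 6
  · simpa [ac4] using h3 4 4
  · simpa [ac4] using h3 4 5
  · simpa [ac4] using h3 4 6
  · simpa [ac4] using h3 5 5
  · simpa [ac4] using h3 5 6
  · simpa [ac4] using h3 6 6

def mc5 : Fin 7 → ℤ := ![2, 2, 2, 2, 2, 1, 1]
def wc5 : Fin 7 → ℤ := ![1, 2, 2, 2, 2, 2, 2]
def ac5 : Fin 7 → Fin 7 → ℤ := ![![-2, 2, 0, 0, 0, 0, 0], ![2, -4, 2, 0, 0, 0, 0], ![0, 2, -4, 2, 0, 0, 0], ![0, 0, 2, -4, 2, 0, 0], ![0, 0, 0, 2, -4, 2, 2], ![0, 0, 0, 0, 2, -4, 0], ![0, 0, 0, 0, 2, 0, -4]]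

theorem of_type5 (T : Models.NumericalType 7) (σ : Equiv.Perm (Fin 7)) (m w : ℤ)
    (h : IsType T σ m w mc5 wc5 ac5) : Result T := by
  obtain ⟨h1, h2, h3⟩ := h
  refine ⟨σ, m, w, ?_⟩
  refine Or.inr (Or.inr (Or.inr (Or.inr (Or.inr (Or.inl ?_)))))
  refine ⟨?_, ?_, ?_, ?_, ?_, ?_, ?_, ?_, ?_, ?_, ?_, ?_, ?_, ?_, ?_, ?_, ?_, ?_, ?_, ?_, ?_, ?_, ?_, ?_, ?_, ?_, ?_, ?_, ?_, ?_, ?_, ?_, ?_, ?_, ?_, ?_, ?_, ?_, ?_, ?_, ?_, ?_⟩
  · simpa [mc5] using h1 0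
  · simpa [mc5] using h1 1
  · simpa [mc5] using h1 2
  · simpa [mc5] using h1 3
  · simpa [mc5] using h1 4
  · simpa [mc5] using h1 5
  · simpa [mc5] using h1 6
  · simpa [wc5] using h2 0
  · simpa [wc5] using h2 1
  · simpa [wc5] using h2 2
  · simpa [wc5] using h2 3
  · simpa [wc5] using h2 4
  · simpa [wc5] using h2 5
  · simpa [wc5] using h2 6
  · simpa [ac5] using h3 0 0
  · simpa [ac5] using h3 0 1
  · simpa [ac5] using h3 0 2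
  · simpa [ac5] using h3 0 3
  · simpa [ac5] using h3 0 4
  · simpa [ac5] using h3 0 5
  · simpa [ac5] using h3 0 6
  · simpa [ac5] using h3 1 1
  · simpa [ac5] using h3 1 2
  · simpa [ac5] using h3 1 3
  · simpa [ac5] using h3 1 4
  · simpa [ac5] using h3 1 5
  · simpa [ac5] using h3 1 6
  · simpa [ac5] using h3 2 2
  · simpa [ac5] using h3 2 3
  · simpa [ac5] using h3 2 4
  · simpa [ac5] using h3 2 5
  · simpa [ac5] using h3 2 6
  · simpa [ac5] using h3 3 3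
  · simpa [ac5] using h3 3 4
  · simpa [ac5] using h3 3 5
  · simpa [ac5] using h3 3 6
  · simpa [ac5] using h3 4 4
  · simpa [ac5] using h3 4 5
  · simpa [ac5] using h3 4 6
  · simpa [ac5] using h3 5 5
  · simpa [ac5] using h3 5 6
  · simpa [ac5] using h3 6 6

def mc6 : Fin 7 → ℤ := ![1, 1, 2, 2, 2, 1, 1]
def wc6 : Fin 7 → ℤ := ![1, 1, 1, 1, 1, 1, 1]
def ac6 : Fin 7 → Fin 7 → ℤ := ![![-2, 0, 1, 0, 0, 0, 0], ![0, -2, 1, 0, 0, 0, 0], ![1, 1, -2, 1, 0, 0, 0], ![0, 0, 1, -2, 1, 0, 0], ![0, 0, 0, 1, -2, 1, 1], ![0, 0, 0, 0, 1, -2, 0], ![0, 0, 0, 0, 1, 0, -2]]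

theorem of_type6 (T : Models.NumericalType 7) (σ : Equiv.Perm (Fin 7)) (m w : ℤ)
    (h : IsType T σ m w mc6 wc6 ac6) : Result T := by
  obtain ⟨h1, h2, h3⟩ := h
  refine ⟨σ, m, w, ?_⟩
  refine Or.inr (Or.inr (Or.inr (Or.inr (Or.inr (Or.inr (Or.inl ?_))))))
  refine ⟨?_, ?_, ?_, ?_, ?_, ?_, ?_, ?_, ?_, ?_, ?_, ?_, ?_, ?_, ?_, ?_, ?_, ?_, ?_, ?_, ?_, ?_, ?_, ?_, ?_, ?_, ?_, ?_, ?_, ?_, ?_, ?_, ?_, ?_, ?_, ?_, ?_, ?_, ?_, ?_, ?_, ?_⟩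
  · simpa [mc6] using h1 0
  · simpa [mc6] using h1 1
  · simpa [mc6] using h1 2
  · simpa [mc6] using h1 3
  · simpa [mc6] using h1 4
  · simpa [mc6] using h1 5
  · simpa [mc6] using h1 6
  · simpa [wc6] using h2 0
  · simpa [wc6] using h2 1
  · simpa [wc6] using h2 2
  · simpa [wc6] using h2 3
  · simpa [wc6] using h2 4
  · simpa [wc6] using h2 5
  · simpa [wc6] using h2 6
  · simpa [ac6] using h3 0 0
  · simpa [ac6] using h3 0 1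
  · simpa [ac6] using h3 0 2
  · simpa [ac6] using h3 0 3
  · simpa [ac6] using h3 0 4
  · simpa [ac6] using h3 0 5
  · simpa [ac6] using h3 0 6
  · simpa [ac6] using h3 1 1
  · simpa [ac6] using h3 1 2
  · simpa [ac6] using h3 1 3
  · simpa [ac6] using h3 1 4
  · simpa [ac6] using h3 1 5
  · simpa [ac6] using h3 1 6
  · simpa [ac6] using h3 2 2
  · simpa [ac6] using h3 2 3
  · simpa [ac6] using h3 2 4
  · simpa [ac6] using h3 2 5
  · simpa [ac6] using h3 2 6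
  · simpa [ac6] using h3 3 3
  · simpa [ac6] using h3 3 4
  · simpa [ac6] using h3 3 5
  · simpa [ac6] using h3 3 6
  · simpa [ac6] using h3 4 4
  · simpa [ac6] using h3 4 5
  · simpa [ac6] using h3 4 6
  · simpa [ac6] using h3 5 5
  · simpa [ac6] using h3 5 6
  · simpa [ac6] using h3 6 6

def mc7 : Fin 7 → ℤ := ![1, 2, 3, 1, 2, 1, 2]
def wc7 : Fin 7 → ℤ := ![1, 1, 1, 1, 1, 1, 1]
def ac7 : Fin 7 → Fin 7 → ℤ := ![![-2, 1, 0, 0, 0, 0, 0], ![1, -2, 1, 0, 0, 0, 0], ![0, 1, -2, 0, 1, 0, 1], ![0, 0, 0, -2, 1, 0, 0], ![0, 0, 1, 1, -2, 0, 0], ![0, 0, 0, 0, 0, -2, 1], ![0, 0, 1, 0, 0, 1, -2]]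

theorem of_type7 (T : Models.NumericalType 7) (σ : Equiv.Perm (Fin 7)) (m w : ℤ)
    (h : IsType T σ m w mc7 wc7 ac7) : Result T := by
  obtain ⟨h1, h2, h3⟩ := h
  refine ⟨σ, m, w, ?_⟩
  refine Or.inr (Or.inr (Or.inr (Or.inr (Or.inr (Or.inr (Or.inr (?_)))))))
  refine ⟨?_, ?_, ?_, ?_, ?_, ?_, ?_, ?_, ?_, ?_, ?_, ?_, ?_, ?_, ?_, ?_, ?_, ?_, ?_, ?_, ?_, ?_, ?_, ?_, ?_, ?_, ?_, ?_, ?_, ?_, ?_, ?_, ?_, ?_, ?_, ?_, ?_, ?_, ?_, ?_, ?_, ?_⟩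
  · simpa [mc7] using h1 0
  · simpa [mc7] using h1 1
  · simpa [mc7] using h1 2
  · simpa [mc7] using h1 3
  · simpa [mc7] using h1 4
  · simpa [mc7] using h1 5
  · simpa [mc7] using h1 6
  · simpa [wc7] using h2 0
  · simpa [wc7] using h2 1
  · simpa [wc7] using h2 2
  · simpa [wc7] using h2 3
  · simpa [wc7] using h2 4
  · simpa [wc7] using h2 5
  · simpa [wc7] using h2 6
  · simpa [ac7] using h3 0 0
  · simpa [ac7] using h3 0 1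
  · simpa [ac7] using h3 0 2
  · simpa [ac7] using h3 0 3
  · simpa [ac7] using h3 0 4
  · simpa [ac7] using h3 0 5
  · simpa [ac7] using h3 0 6
  · simpa [ac7] using h3 1 1
  · simpa [ac7] using h3 1 2
  · simpa [ac7] using h3 1 3
  · simpa [ac7] using h3 1 4
  · simpa [ac7] using h3 1 5
  · simpa [ac7] using h3 1 6
  · simpa [ac7] using h3 2 2
  · simpa [ac7] using h3 2 3
  · simpa [ac7] using h3 2 4
  · simpa [ac7] using h3 2 5
  · simpa [ac7] using h3 2 6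
  · simpa [ac7] using h3 3 3
  · simpa [ac7] using h3 3 4
  · simpa [ac7] using h3 3 5
  · simpa [ac7] using h3 3 6
  · simpa [ac7] using h3 4 4
  · simpa [ac7] using h3 4 5
  · simpa [ac7] using h3 4 6
  · simpa [ac7] using h3 5 5
  · simpa [ac7] using h3 5 6
  · simpa [ac7] using h3 6 6

def M0 : Fin 1 → Fin 1 → ℤ := ![![-2]]
def M1 : Fin 2 → Fin 2 → ℤ := ![![-2, 1], ![1, -2]]
def M2 : Fin 2 → Fin 2 → ℤ := ![![-2, 2], ![1, -2]]
def M3 : Fin 2 → Fin 2 → ℤ := ![![-2, 3], ![1, -2]]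
def M4 : Fin 3 → Fin 3 → ℤ := ![![-2, 1, 1], ![1, -2, 0], ![1, 0, -2]]
def M5 : Fin 3 → Fin 3 → ℤ := ![![-2, 1, 2], ![1, -2, 0], ![1, 0, -2]]
def M6 : Fin 3 → Fin 3 → ℤ := ![![-2, 1, 1], ![1, -2, 0], ![2, 0, -2]]
def M7 : Fin 4 → Fin 4 → ℤ := ![![-2, 1, 1, 1], ![1, -2, 0, 0], ![1, 0, -2, 0], ![1, 0, 0, -2]]
def M8 : Fin 4 → Fin 4 → ℤ := ![![-2, 1, 1, 0], ![1, -2, 0, 1], ![1, 0, -2, 0], ![0, 1, 0, -2]]
def M9 : Fin 4 → Fin 4 → ℤ := ![![-2, 1, 1, 0], ![1, -2, 0, 2], ![1, 0, -2, 0], ![0, 1, 0, -2]]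
def M10 : Fin 4 → Fin 4 → ℤ := ![![-2, 1, 1, 0], ![1, -2, 0, 1], ![1, 0, -2, 0], ![0, 2, 0, -2]]
def M11 : Fin 4 → Fin 4 → ℤ := ![![-2, 1, 2, 0], ![1, -2, 0, 0], ![1, 0, -2, 1], ![0, 0, 1, -2]]
def M12 : Fin 5 → Fin 5 → ℤ := ![![-2, 1, 1, 1, 0], ![1, -2, 0, 0, 1], ![1, 0, -2, 0, 0], ![1, 0, 0, -2, 0], ![0, 1, 0, 0, -2]]
def M13 : Fin 5 → Fin 5 → ℤ := ![![-2, 1, 1, 0, 0], ![1, -2, 0, 1, 0], ![1, 0, -2, 0, 1], ![0, 1, 0, -2, 0], ![0, 0, 1, 0, -2]]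
def M14 : Fin 5 → Fin 5 → ℤ := ![![-2, 1, 1, 0, 0], ![1, -2, 0, 1, 0], ![1, 0, -2, 0, 2], ![0, 1, 0, -2, 0], ![0, 0, 1, 0, -2]]
def M15 : Fin 5 → Fin 5 → ℤ := ![![-2, 1, 1, 0, 0], ![1, -2, 0, 1, 0], ![1, 0, -2, 0, 1], ![0, 1, 0, -2, 0], ![0, 0, 2, 0, -2]]
def M16 : Fin 6 → Fin 6 → ℤ := ![![-2, 1, 1, 1, 0, 0], ![1, -2, 0, 0, 1, 0], ![1, 0, -2, 0, 0, 1], ![1, 0, 0, -2, 0, 0], ![0, 1, 0, 0, -2, 0], ![0, 0, 1, 0, 0, -2]]
def M17 : Fin 6 → Fin 6 → ℤ := ![![-2, 1, 1, 1, 0, 0], ![1, -2, 0, 0, 1, 0], ![1, 0, -2, 0, 0, 0], ![1, 0, 0, -2, 0, 0], ![0, 1, 0, 0, -2, 1], ![0, 0, 0, 0, 1, -2]]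
def M18 : Fin 6 → Fin 6 → ℤ := ![![-2, 1, 1, 0, 0, 0], ![1, -2, 0, 1, 0, 0], ![1, 0, -2, 0, 1, 0], ![0, 1, 0, -2, 0, 1], ![0, 0, 1, 0, -2, 0], ![0, 0, 0, 1, 0, -2]]
def M19 : Fin 6 → Fin 6 → ℤ := ![![-2, 1, 1, 0, 0, 0], ![1, -2, 0, 1, 0, 0], ![1, 0, -2, 0, 1, 0], ![0, 1, 0, -2, 0, 2], ![0, 0, 1, 0, -2, 0], ![0, 0, 0, 1, 0, -2]]
def M20 : Fin 6 → Fin 6 → ℤ := ![![-2, 1, 1, 0, 0, 0], ![1, -2, 0, 1, 0, 0], ![1, 0, -2, 0, 1, 0], ![0, 1, 0, -2, 0, 1], ![0, 0, 1, 0, -2, 0], ![0, 0, 0, 2, 0, -2]]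

def pc16 : Fin 6 → Fin 6 → Fin 7 → ℤ :=
  ![![![0, 0, 0, 0, 0, 0, 0], ![1, 1, 0, 0, 0, 0, 1], ![1, 0, 1, 0, 0, 0, 1], ![1, 0, 0, 1, 0, 0, 1], ![1, 1, 0, 0, 1, 0, 1], ![1, 0, 1, 0, 0, 1, 1]], ![![1, 1, 0, 0, 0, 0, 1], ![0, 0, 0, 0, 0, 0, 0], ![1, 1, 1, 0, 0, 0, 1], ![1, 1, 0, 1, 0, 0, 1], ![0, 1, 0, 0, 1, 0, 1], ![1, 1, 1, 0, 0, 1, 1]], ![![1, 0, 1, 0, 0, 0, 1], ![1, 1, 1, 0, 0, 0, 1], ![0, 0, 0, 0, 0, 0, 0], ![1, 0, 1, 1, 0, 0, 1], ![1, 1, 1, 0, 1, 0, 1], ![0, 0, 1, 0, 0, 1, 1]], ![![1, 0, 0, 1, 0, 0, 1], ![1, 1, 0, 1, 0, 0, 1], ![1, 0, 1, 1, 0, 0, 1], ![0, 0, 0, 0, 0, 0, 0], ![1, 1, 0, 1, 1, 0, 1], ![1, 0, 1, 1, 0, 1, 1]], ![![1, 1, 0, 0, 1, 0, 1], ![0, 1, 0, 0, 1, 0, 1], ![1, 1, 1, 0, 1, 0, 1], ![1, 1, 0, 1, 1, 0, 1], ![0, 0, 0, 0, 0, 0, 0], ![1, 1, 1, 0, 1, 1, 1]], ![![1, 0, 1, 0, 0, 1, 1], ![1, 1, 1, 0, 0, 1, 1], ![0, 0, 1, 0, 0, 1, 1], ![1, 0, 1, 1, 0,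 1, 1], ![1, 1, 1, 0, 1, 1, 1], ![0, 0, 0, 0, 0, 0, 0]]]

theorem st16 (T : Models.NumericalType 7) (hm2 : ∀ i, T.IsMinusTwo i)
    (v : Fin 6 ↪ Fin 7) (hM : Knows T v M16) : Result T := by
  obtain ⟨x, hx, hcase⟩ := step_unique T hm2 v M16 hM (by norm_num) (by norm_num)
    (fun _ _ => false) pc16 (by decide +kernel)
    (fun _ _ _ h => (Bool.false_ne_true h).elim)
  rcases hcase with ⟨i, hi, hz⟩ | ⟨i, l, hex, -⟩
  swap
  · exact (Bool.false_ne_true hex).elim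
  have hne := ne_of_not_range v hx i
  fin_cases i
  · rcases pair5 T (by norm_num) hm2 hne hi with
      ⟨hp, hq⟩ | ⟨hp, hq⟩ | ⟨hp, hq⟩ | ⟨hp, hq⟩ | ⟨hp, hq⟩
    · exact (leaf_falseF T hm2 v M16 hM hx (by norm_num) _ _ (row_single T v _ hz hp) (col_single T v _ hz hq)
        ![18, 11, 11, 8, 5, 5, 8] (by decide +kernel)).elim
    · exact (leaf_falseF T hm2 v M16 hM hx (by norm_num) _ _ (row_single T v _ hz hp) (col_single T v _ hz hq)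
        ![9, 5, 5, 4, 2, 2, 4] (by decide +kernel)).elim
    · exact (leaf_falseF T hm2 v M16 hM hx (by norm_num) _ _ (row_single T v _ hz hp) (col_single T v _ hz hq)
        ![9, 5, 5, 4, 2, 2, 8] (by decide +kernel)).elim
    · exact (leaf_falseF T hm2 v M16 hM hx (by norm_num) _ _ (row_single T v _ hz hp) (col_single T v _ hz hq)
        ![11, 5, 5, 4, 2, 2, 4] (by decide +kernel)).elim
    · exact (leaf_falseF T hm2 v M16 hM hx (by norm_num) _ _ (row_single T v _ hz hp) (col_single T v _ hz hq)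
        ![11, 5, 5, 4, 2, 2, 13] (by decide +kernel)).elim
  · rcases pair5 T (by norm_num) hm2 hne hi with
      ⟨hp, hq⟩ | ⟨hp, hq⟩ | ⟨hp, hq⟩ | ⟨hp, hq⟩ | ⟨hp, hq⟩
    · exact (leaf_falseF T hm2 v M16 hM hx (by norm_num) _ _ (row_single T v _ hz hp) (col_single T v _ hz hq)
        ![39, 36, 25, 19, 17, 12, 17] (by decide +kernel)).elim
    · exact (leaf_falseF T hm2 v M16 hM hx (by norm_num) _ _ (row_single T v _ hz hp) (col_single T v _ hz hq)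
        ![12, 14, 7, 5, 6, 3, 6] (by decide +kernel)).elim
    · exact (leaf_falseF T hm2 v M16 hM hx (by norm_num) _ _ (row_single T v _ hz hp) (col_single T v _ hz hq)
        ![12, 14, 7, 5, 6, 3, 12] (by decide +kernel)).elim
    · exact (leaf_falseF T hm2 v M16 hM hx (by norm_num) _ _ (row_single T v _ hz hp) (col_single T v _ hz hq)
        ![9, 13, 5, 4, 6, 2, 6] (by decide +kernel)).elim
    · exact (leaf_falseF T hm2 v M16 hM hx (by norm_num) _ _ (row_single T v _ hz hp) (col_single T v _ hz hq)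
        ![9, 13, 5, 4, 6, 2, 17] (by decide +kernel)).elim
  · rcases pair5 T (by norm_num) hm2 hne hi with
      ⟨hp, hq⟩ | ⟨hp, hq⟩ | ⟨hp, hq⟩ | ⟨hp, hq⟩ | ⟨hp, hq⟩
    · exact (leaf_falseF T hm2 v M16 hM hx (by norm_num) _ _ (row_single T v _ hz hp) (col_single T v _ hz hq)
        ![39, 25, 36, 19, 12, 17, 17] (by decide +kernel)).elim
    · exact (leaf_falseF T hm2 v M16 hM hx (by norm_num) _ _ (row_single T v _ hz hp) (col_single T v _ hz hq)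
        ![12, 7, 14, 5, 3, 6, 6] (by decide +kernel)).elim
    · exact (leaf_falseF T hm2 v M16 hM hx (by norm_num) _ _ (row_single T v _ hz hp) (col_single T v _ hz hq)
        ![12, 7, 14, 5, 3, 6, 12] (by decide +kernel)).elim
    · exact (leaf_falseF T hm2 v M16 hM hx (by norm_num) _ _ (row_single T v _ hz hp) (col_single T v _ hz hq)
        ![9, 5, 13, 4, 2, 6, 6] (by decide +kernel)).elim
    · exact (leaf_falseF T hm2 v M16 hM hx (by norm_num) _ _ (row_single T v _ hz hp) (col_single T v _ hz hq)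
        ![9, 5, 13, 4, 2, 6, 17] (by decide +kernel)).elim
  · rcases pair5 T (by norm_num) hm2 hne hi with
      ⟨hp, hq⟩ | ⟨hp, hq⟩ | ⟨hp, hq⟩ | ⟨hp, hq⟩ | ⟨hp, hq⟩
    · obtain ⟨σ, hσ⟩ := leaf_final T hm2 v M16 hM hx _ _ (row_single T v _ hz hp) (col_single T v _ hz hq)
        ![4, 1, 0, 5, 2, 6, 3] mc7 wc7 ac7 0 0 (by decide +kernel)
      exact of_type7 T σ _ _ hσ
    · exact (leaf_falseF T hm2 v M16 hM hx (by norm_num) _ _ (row_single T v _ hz hp) (col_single T v _ hz hq)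
        ![24, 15, 15, 21, 7, 7, 10] (by decide +kernel)).elim
    · exact (leaf_falseF T hm2 v M16 hM hx (by norm_num) _ _ (row_single T v _ hz hp) (col_single T v _ hz hq)
        ![24, 15, 15, 21, 7, 7, 20] (by decide +kernel)).elim
    · exact (leaf_falseF T hm2 v M16 hM hx (by norm_num) _ _ (row_single T v _ hz hp) (col_single T v _ hz hq)
        ![12, 7, 7, 13, 3, 3, 6] (by decide +kernel)).elim
    · exact (leaf_falseF T hm2 v M16 hM hx (by norm_num) _ _ (row_single T v _ hz hp) (col_single T v _ hz hq)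
        ![12, 7, 7, 13, 3, 3, 18] (by decide +kernel)).elim
  · rcases pair5 T (by norm_num) hm2 hne hi with
      ⟨hp, hq⟩ | ⟨hp, hq⟩ | ⟨hp, hq⟩ | ⟨hp, hq⟩ | ⟨hp, hq⟩
    · exact (leaf_falseF T hm2 v M16 hM hx (by norm_num) _ _ (row_single T v _ hz hp) (col_single T v _ hz hq)
        ![-96, -75, -66, -49, -52, -34, -27] (by decide +kernel)).elim
    · exact (leaf_falseF T hm2 v M16 hM hx (by norm_num) _ _ (row_single T v _ hz hp) (col_single T v _ hz hq)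
        ![48, 43, 31, 23, 41, 15, 20] (by decide +kernel)).elim
    · exact (leaf_falseF T hm2 v M16 hM hx (by norm_num) _ _ (row_single T v _ hz hp) (col_single T v _ hz hq)
        ![48, 43, 31, 23, 41, 15, 40] (by decide +kernel)).elim
    · exact (leaf_falseF T hm2 v M16 hM hx (by norm_num) _ _ (row_single T v _ hz hp) (col_single T v _ hz hq)
        ![15, 17, 9, 7, 21, 4, 10] (by decide +kernel)).elim
    · exact (leaf_falseF T hm2 v M16 hM hx (by norm_num) _ _ (row_single T v _ hz hp) (col_single T v _ hz hq)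
        ![15, 17, 9, 7, 21, 4, 29] (by decide +kernel)).elim
  · rcases pair5 T (by norm_num) hm2 hne hi with
      ⟨hp, hq⟩ | ⟨hp, hq⟩ | ⟨hp, hq⟩ | ⟨hp, hq⟩ | ⟨hp, hq⟩
    · exact (leaf_falseF T hm2 v M16 hM hx (by norm_num) _ _ (row_single T v _ hz hp) (col_single T v _ hz hq)
        ![-96, -66, -75, -49, -34, -52, -27] (by decide +kernel)).elim
    · exact (leaf_falseF T hm2 v M16 hM hx (by norm_num) _ _ (row_single T v _ hz hp) (col_single T v _ hz hq)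
        ![48, 31, 43, 23, 15, 41, 20] (by decide +kernel)).elim
    · exact (leaf_falseF T hm2 v M16 hM hx (by norm_num) _ _ (row_single T v _ hz hp) (col_single T v _ hz hq)
        ![48, 31, 43, 23, 15, 41, 40] (by decide +kernel)).elim
    · exact (leaf_falseF T hm2 v M16 hM hx (by norm_num) _ _ (row_single T v _ hz hp) (col_single T v _ hz hq)
        ![15, 9, 17, 7, 4, 21, 10] (by decide +kernel)).elim
    · exact (leaf_falseF T hm2 v M16 hM hx (by norm_num) _ _ (row_single T v _ hz hp) (col_single T v _ hz hq)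
        ![15, 9, 17, 7, 4, 21, 29] (by decide +kernel)).elim

def pc17 : Fin 6 → Fin 6 → Fin 7 → ℤ :=
  ![![![0, 0, 0, 0, 0, 0, 0], ![1, 1, 0, 0, 0, 0, 1], ![1, 0, 1, 0, 0, 0, 1], ![1, 0, 0, 1, 0, 0, 1], ![1, 1, 0, 0, 1, 0, 1], ![1, 1, 0, 0, 1, 1, 1]], ![![1, 1, 0, 0, 0, 0, 1], ![0, 0, 0, 0, 0, 0, 0], ![1, 1, 1, 0, 0, 0, 1], ![1, 1, 0, 1, 0, 0, 1], ![0, 1, 0, 0, 1, 0, 1], ![0, 1, 0, 0, 1, 1, 1]], ![![1, 0, 1, 0, 0, 0, 1], ![1, 1, 1, 0, 0, 0, 1], ![0, 0, 0, 0, 0, 0, 0], ![1, 0, 1, 1, 0, 0, 1], ![1, 1, 1, 0, 1, 0, 1], ![1, 1, 1, 0, 1, 1, 1]], ![![1, 0, 0, 1, 0, 0, 1], ![1, 1, 0, 1, 0, 0, 1], ![1, 0, 1, 1, 0, 0, 1], ![0, 0, 0, 0, 0, 0, 0], ![1, 1, 0, 1, 1, 0, 1], ![1, 1, 0, 1, 1, 1, 1]], ![![1, 1, 0, 0, 1, 0, 1], ![0, 1, 0, 0, 1, 0, 1], ![1, 1, 1, 0, 1, 0, 1], ![1, 1, 0, 1, 1, 0, 1], ![0, 0, 0, 0, 0, 0, 0], ![0, 0, 0, 0, 1, 1, 1]], ![![1, 1, 0, 0, 1, 1, 1], ![0,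 1, 0, 0, 1, 1, 1], ![1, 1, 1, 0, 1, 1, 1], ![1, 1, 0, 1, 1, 1, 1], ![0, 0, 0, 0, 1, 1, 1], ![0, 0, 0, 0, 0, 0, 0]]]

theorem st17 (T : Models.NumericalType 7) (hm2 : ∀ i, T.IsMinusTwo i)
    (v : Fin 6 ↪ Fin 7) (hM : Knows T v M17) : Result T := by
  obtain ⟨x, hx, hcase⟩ := step_unique T hm2 v M17 hM (by norm_num) (by norm_num)
    (fun _ _ => false) pc17 (by decide +kernel)
    (fun _ _ _ h => (Bool.false_ne_true h).elim)
  rcases hcase with ⟨i, hi, hz⟩ | ⟨i, l, hex, -⟩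
  swap
  · exact (Bool.false_ne_true hex).elim
  have hne := ne_of_not_range v hx i
  fin_cases i
  · rcases pair5 T (by norm_num) hm2 hne hi with
      ⟨hp, hq⟩ | ⟨hp, hq⟩ | ⟨hp, hq⟩ | ⟨hp, hq⟩ | ⟨hp, hq⟩
    · exact (leaf_falseF T hm2 v M17 hM hx (by norm_num) _ _ (row_single T v _ hz hp) (col_single T v _ hz hq)
        ![36, 24, 17, 17, 15, 7, 17] (by decide +kernel)).elim
    · exact (leaf_falseF T hm2 v M17 hM hx (by norm_num) _ _ (row_single T v _ hz hp) (col_single T v _ hz hq)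
        ![15, 9, 7, 7, 5, 2, 7] (by decide +kernel)).elim
    · exact (leaf_falseF T hm2 v M17 hM hx (by norm_num) _ _ (row_single T v _ hz hp) (col_single T v _ hz hq)
        ![15, 9, 7, 7, 5, 2, 13] (by decide +kernel)).elim
    · exact (leaf_falseF T hm2 v M17 hM hx (by norm_num) _ _ (row_single T v _ hz hp) (col_single T v _ hz hq)
        ![21, 10, 8, 8, 5, 2, 8] (by decide +kernel)).elim
    · exact (leaf_falseF T hm2 v M17 hM hx (by norm_num) _ _ (row_single T v _ hz hp) (col_single T v _ hz hq)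
        ![21, 10, 8, 8, 5, 2, 25] (by decide +kernel)).elim
  · rcases pair5 T (by norm_num) hm2 hne hi with
      ⟨hp, hq⟩ | ⟨hp, hq⟩ | ⟨hp, hq⟩ | ⟨hp, hq⟩ | ⟨hp, hq⟩
    · exact (leaf_falseF T hm2 v M17 hM hx (by norm_num) _ _ (row_single T v _ hz hp) (col_single T v _ hz hq)
        ![36, 39, 17, 17, 25, 12, 19] (by decide +kernel)).elim
    · exact (leaf_falseF T hm2 v M17 hM hx (by norm_num) _ _ (row_single T v _ hz hp) (col_single T v _ hz hq)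
        ![9, 12, 4, 4, 7, 3, 5] (by decide +kernel)).elim
    · exact (leaf_falseF T hm2 v M17 hM hx (by norm_num) _ _ (row_single T v _ hz hp) (col_single T v _ hz hq)
        ![9, 12, 4, 4, 7, 3, 11] (by decide +kernel)).elim
    · exact (leaf_falseF T hm2 v M17 hM hx (by norm_num) _ _ (row_single T v _ hz hp) (col_single T v _ hz hq)
        ![9, 14, 4, 4, 7, 3, 6] (by decide +kernel)).elim
    · exact (leaf_falseF T hm2 v M17 hM hx (by norm_num) _ _ (row_single T v _ hz hp) (col_single T v _ hz hq)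
        ![9, 14, 4, 4, 7, 3, 18] (by decide +kernel)).elim
  · rcases pair5 T (by norm_num) hm2 hne hi with
      ⟨hp, hq⟩ | ⟨hp, hq⟩ | ⟨hp, hq⟩ | ⟨hp, hq⟩ | ⟨hp, hq⟩
    · exact (leaf_falseF T hm2 v M17 hM hx (by norm_num) _ _ (row_single T v _ hz hp) (col_single T v _ hz hq)
        ![-96, -75, -66, -49, -52, -27, -34] (by decide +kernel)).elim
    · exact (leaf_falseF T hm2 v M17 hM hx (by norm_num) _ _ (row_single T v _ hz hp) (col_single T v _ hz hq)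
        ![43, 30, 39, 21, 19, 9, 19] (by decide +kernel)).elim
    · exact (leaf_falseF T hm2 v M17 hM hx (by norm_num) _ _ (row_single T v _ hz hp) (col_single T v _ hz hq)
        ![43, 30, 39, 21, 19, 9, 37] (by decide +kernel)).elim
    · exact (leaf_falseF T hm2 v M17 hM hx (by norm_num) _ _ (row_single T v _ hz hp) (col_single T v _ hz hq)
        ![19, 12, 22, 9, 7, 3, 10] (by decide +kernel)).elim
    · exact (leaf_falseF T hm2 v M17 hM hx (by norm_num) _ _ (row_single T v _ hz hp) (col_single T v _ hz hq)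
        ![19, 12, 22, 9, 7, 3, 30] (by decide +kernel)).elim
  · rcases pair5 T (by norm_num) hm2 hne hi with
      ⟨hp, hq⟩ | ⟨hp, hq⟩ | ⟨hp, hq⟩ | ⟨hp, hq⟩ | ⟨hp, hq⟩
    · exact (leaf_falseF T hm2 v M17 hM hx (by norm_num) _ _ (row_single T v _ hz hp) (col_single T v _ hz hq)
        ![-96, -75, -49, -66, -52, -27, -34] (by decide +kernel)).elim
    · exact (leaf_falseF T hm2 v M17 hM hx (by norm_num) _ _ (row_single T v _ hz hp) (col_single T v _ hz hq)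
        ![43, 30, 21, 39, 19, 9, 19] (by decide +kernel)).elim
    · exact (leaf_falseF T hm2 v M17 hM hx (by norm_num) _ _ (row_single T v _ hz hp) (col_single T v _ hz hq)
        ![43, 30, 21, 39, 19, 9, 37] (by decide +kernel)).elim
    · exact (leaf_falseF T hm2 v M17 hM hx (by norm_num) _ _ (row_single T v _ hz hp) (col_single T v _ hz hq)
        ![19, 12, 9, 22, 7, 3, 10] (by decide +kernel)).elim
    · exact (leaf_falseF T hm2 v M17 hM hx (by norm_num) _ _ (row_single T v _ hz hp) (col_single T v _ hz hq)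
        ![19, 12, 9, 22, 7, 3, 30] (by decide +kernel)).elim
  · rcases pair5 T (by norm_num) hm2 hne hi with
      ⟨hp, hq⟩ | ⟨hp, hq⟩ | ⟨hp, hq⟩ | ⟨hp, hq⟩ | ⟨hp, hq⟩
    · obtain ⟨σ, hσ⟩ := leaf_final T hm2 v M17 hM hx _ _ (row_single T v _ hz hp) (col_single T v _ hz hq)
        ![2, 3, 0, 1, 4, 5, 6] mc6 wc6 ac6 0 0 (by decide +kernel)
      exact of_type6 T σ _ _ hσ
    · exact (leaf_falseF T hm2 v M17 hM hx (by norm_num) _ _ (row_single T v _ hz hp) (col_single T v _ hz hq)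
        ![11, 13, 5, 5, 17, 8, 8] (by decide +kernel)).elim
    · exact (leaf_falseF T hm2 v M17 hM hx (by norm_num) _ _ (row_single T v _ hz hp) (col_single T v _ hz hq)
        ![11, 13, 5, 5, 17, 8, 16] (by decide +kernel)).elim
    · exact (leaf_falseF T hm2 v M17 hM hx (by norm_num) _ _ (row_single T v _ hz hp) (col_single T v _ hz hq)
        ![5, 7, 2, 2, 11, 5, 5] (by decide +kernel)).elim
    · exact (leaf_falseF T hm2 v M17 hM hx (by norm_num) _ _ (row_single T v _ hz hp) (col_single T v _ hz hq)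
        ![5, 7, 2, 2, 11, 5, 14] (by decide +kernel)).elim
  · rcases pair5 T (by norm_num) hm2 hne hi with
      ⟨hp, hq⟩ | ⟨hp, hq⟩ | ⟨hp, hq⟩ | ⟨hp, hq⟩ | ⟨hp, hq⟩
    · exact (leaf_falseF T hm2 v M17 hM hx (by norm_num) _ _ (row_single T v _ hz hp) (col_single T v _ hz hq)
        ![-40, -36, -21, -21, -30, -22, -12] (by decide +kernel)).elim
    · obtain ⟨σ, hσ⟩ := leaf_final T hm2 v M17 hM hx _ _ (row_single T v _ hz hp) (col_single T v _ hz hq)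
        ![6, 5, 4, 1, 0, 2, 3] mc4 wc4 ac4 0 1 (by decide +kernel)
      exact of_type4 T σ _ _ hσ
    · obtain ⟨σ, hσ⟩ := leaf_final T hm2 v M17 hM hx _ _ (row_single T v _ hz hp) (col_single T v _ hz hq)
        ![6, 5, 4, 1, 0, 2, 3] mc5 wc5 ac5 5 0 (by decide +kernel)
      exact of_type5 T σ _ _ hσ
    · exact (leaf_falseF T hm2 v M17 hM hx (by norm_num) _ _ (row_single T v _ hz hp) (col_single T v _ hz hq)
        ![11, 13, 5, 5, 17, 23, 11] (by decide +kernel)).elim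
    · exact (leaf_falseF T hm2 v M17 hM hx (by norm_num) _ _ (row_single T v _ hz hp) (col_single T v _ hz hq)
        ![11, 13, 5, 5, 17, 23, 32] (by decide +kernel)).elim

def pc18 : Fin 6 → Fin 6 → Fin 7 → ℤ :=
  ![![![0, 0, 0, 0, 0, 0, 0], ![1, 1, 0, 0, 0, 0, 1], ![1, 0, 1, 0, 0, 0, 1], ![1, 1, 0, 1, 0, 0, 1], ![1, 0, 1, 0, 1, 0, 1], ![1, 1, 0, 1, 0, 1, 1]], ![![1, 1, 0, 0, 0, 0, 1], ![0, 0, 0, 0, 0, 0, 0], ![1, 1, 1, 0, 0, 0, 1], ![0, 1, 0, 1, 0, 0, 1], ![1, 1, 1, 0, 1, 0, 1], ![0, 1, 0, 1, 0, 1, 1]], ![![1, 0, 1, 0, 0, 0, 1], ![1, 1, 1, 0, 0, 0, 1], ![0, 0, 0, 0, 0, 0, 0], ![1, 1, 1, 1, 0, 0, 1], ![0, 0, 1, 0, 1, 0, 1], ![1, 1, 1, 1, 0, 1, 1]], ![![1, 1, 0, 1, 0, 0, 1], ![0, 1, 0, 1, 0, 0, 1], ![1, 1, 1, 1, 0, 0, 1], ![0, 0, 0, 0, 0, 0, 0], ![1, 1, 1, 1, 1, 0, 1], ![0, 0, 0, 1, 0, 1, 1]], ![![1, 0, 1, 0, 1, 0, 1], ![1, 1, 1, 0, 1, 0, 1], ![0, 0, 1, 0, 1,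 0, 1], ![1, 1, 1, 1, 1, 0, 1], ![0, 0, 0, 0, 0, 0, 0], ![0, 0, 0, 0, 0, 0, 0]], ![![1, 1, 0, 1, 0, 1, 1], ![0, 1, 0, 1, 0, 1, 1], ![1, 1, 1, 1, 0, 1, 1], ![0, 0, 0, 1, 0, 1, 1], ![0, 0, 0, 0, 0, 0, 0], ![0, 0, 0, 0, 0, 0, 0]]]

theorem st18 (T : Models.NumericalType 7) (hm2 : ∀ i, T.IsMinusTwo i)
    (v : Fin 6 ↪ Fin 7) (hM : Knows T v M18) : Result T := by
  obtain ⟨x, hx, hcase⟩ := step_unique T hm2 v M18 hM (by norm_num) (by norm_num)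
    (fun i l => decide ((i = 4 ∧ l = 5) ∨ (i = 5 ∧ l = 4))) pc18 (by decide +kernel)
    (by decide)
  rcases hcase with ⟨i, hi, hz⟩ | ⟨i, l, hex, hil, hi, hl, hz⟩
  swap
  · have hex2 : (i = 4 ∧ l = 5) ∨ (i = 5 ∧ l = 4) := by simpa using hex
    obtain ⟨h1, h2, hz2⟩ : T.a x (v 4) ≠ 0 ∧ T.a x (v 5) ≠ 0 ∧
        ∀ j, j ≠ 4 → j ≠ 5 → T.a x (v j) = 0 := by
      rcases hex2 with ⟨rfl, rfl⟩ | ⟨rfl, rfl⟩
      · exact ⟨hi, hl, hz⟩
      · exact ⟨hl, hi, fun j a b => hz j b a⟩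
    rcases pair5 T (by norm_num) hm2 (ne_of_not_range v hx 4) h1 with
      ⟨hp1, hq1⟩ | ⟨hp1, hq1⟩ | ⟨hp1, hq1⟩ | ⟨hp1, hq1⟩ | ⟨hp1, hq1⟩ <;>
    rcases pair5 T (by norm_num) hm2 (ne_of_not_range v hx 5) h2 with
      ⟨hp2, hq2⟩ | ⟨hp2, hq2⟩ | ⟨hp2, hq2⟩ | ⟨hp2, hq2⟩ | ⟨hp2, hq2⟩
    · obtain ⟨σ, hσ⟩ := leaf_final T hm2 v M18 hM hx _ _ (row_double T v 4 5 hz2 hp1 hp2) (col_double T v 4 5 hz2 hq1 hq2)
        ![0, 1, 3, 5, 6, 4, 2] mc0 wc0 ac0 0 0 (by decide +kernel)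
      exact of_type0 T σ _ _ hσ
    · exact (leaf_falseF T hm2 v M18 hM hx (by norm_num) _ _ (row_double T v 4 5 hz2 hp1 hp2) (col_double T v 4 5 hz2 hq1 hq2)
        ![1, 1, 1, 1, 1, 1, 1] (by decide +kernel)).elim
    · exact (leaf_falseF T hm2 v M18 hM hx (by norm_num) _ _ (row_double T v 4 5 hz2 hp1 hp2) (col_double T v 4 5 hz2 hq1 hq2)
        ![1, 1, 1, 1, 1, 1, 1] (by decide +kernel)).elim
    · exact (leaf_falseF T hm2 v M18 hM hx (by norm_num) _ _ (row_double T v 4 5 hz2 hp1 hp2) (col_double T v 4 5 hz2 hq1 hq2)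
        ![1, 1, 1, 1, 1, 1, 1] (by decide +kernel)).elim
    · exact (leaf_falseF T hm2 v M18 hM hx (by norm_num) _ _ (row_double T v 4 5 hz2 hp1 hp2) (col_double T v 4 5 hz2 hq1 hq2)
        ![1, 1, 1, 1, 1, 1, 1] (by decide +kernel)).elim
    · exact (leaf_falseF T hm2 v M18 hM hx (by norm_num) _ _ (row_double T v 4 5 hz2 hp1 hp2) (col_double T v 4 5 hz2 hq1 hq2)
        ![1, 1, 1, 1, 1, 1, 1] (by decide +kernel)).elim
    · exact (leaf_falseF T hm2 v M18 hM hx (by norm_num) _ _ (row_double T v 4 5 hz2 hp1 hp2) (col_double T v 4 5 hz2 hq1 hq2)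
        ![3, 3, 4, 4, 6, 6, 5] (by decide +kernel)).elim
    · exact (leaf_falseF T hm2 v M18 hM hx (by norm_num) _ _ (row_double T v 4 5 hz2 hp1 hp2) (col_double T v 4 5 hz2 hq1 hq2)
        ![1, 1, 1, 1, 1, 1, 1] (by decide +kernel)).elim
    · exact (leaf_falseF T hm2 v M18 hM hx (by norm_num) _ _ (row_double T v 4 5 hz2 hp1 hp2) (col_double T v 4 5 hz2 hq1 hq2)
        ![1, 1, 1, 1, 1, 1, 1] (by decide +kernel)).elim
    · exact (leaf_falseF T hm2 v M18 hM hx (by norm_num) _ _ (row_double T v 4 5 hz2 hp1 hp2) (col_double T v 4 5 hz2 hq1 hq2)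
        ![1, 1, 1, 1, 1, 1, 1] (by decide +kernel)).elim
    · exact (leaf_falseF T hm2 v M18 hM hx (by norm_num) _ _ (row_double T v 4 5 hz2 hp1 hp2) (col_double T v 4 5 hz2 hq1 hq2)
        ![1, 1, 1, 1, 1, 1, 1] (by decide +kernel)).elim
    · exact (leaf_falseF T hm2 v M18 hM hx (by norm_num) _ _ (row_double T v 4 5 hz2 hp1 hp2) (col_double T v 4 5 hz2 hq1 hq2)
        ![1, 1, 1, 1, 1, 1, 1] (by decide +kernel)).elim
    · exact (leaf_falseF T hm2 v M18 hM hx (by norm_num) _ _ (row_double T v 4 5 hz2 hp1 hp2) (col_double T v 4 5 hz2 hq1 hq2)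
        ![3, 3, 4, 4, 6, 6, 11] (by decide +kernel)).elim
    · exact (leaf_falseF T hm2 v M18 hM hx (by norm_num) _ _ (row_double T v 4 5 hz2 hp1 hp2) (col_double T v 4 5 hz2 hq1 hq2)
        ![1, 1, 1, 1, 1, 1, 1] (by decide +kernel)).elim
    · exact (leaf_falseF T hm2 v M18 hM hx (by norm_num) _ _ (row_double T v 4 5 hz2 hp1 hp2) (col_double T v 4 5 hz2 hq1 hq2)
        ![1, 1, 1, 1, 1, 1, 1] (by decide +kernel)).elim
    · exact (leaf_falseF T hm2 v M18 hM hx (by norm_num) _ _ (row_double T v 4 5 hz2 hp1 hp2) (col_double T v 4 5 hz2 hq1 hq2)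
        ![1, 1, 1, 1, 1, 1, 1] (by decide +kernel)).elim
    · exact (leaf_falseF T hm2 v M18 hM hx (by norm_num) _ _ (row_double T v 4 5 hz2 hp1 hp2) (col_double T v 4 5 hz2 hq1 hq2)
        ![1, 1, 1, 1, 1, 1, 1] (by decide +kernel)).elim
    · exact (leaf_falseF T hm2 v M18 hM hx (by norm_num) _ _ (row_double T v 4 5 hz2 hp1 hp2) (col_double T v 4 5 hz2 hq1 hq2)
        ![1, 1, 1, 1, 1, 1, 1] (by decide +kernel)).elim
    · exact (leaf_falseF T hm2 v M18 hM hx (by norm_num) _ _ (row_double T v 4 5 hz2 hp1 hp2) (col_double T v 4 5 hz2 hq1 hq2)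
        ![1, 1, 2, 2, 4, 4, 3] (by decide +kernel)).elim
    · exact (leaf_falseF T hm2 v M18 hM hx (by norm_num) _ _ (row_double T v 4 5 hz2 hp1 hp2) (col_double T v 4 5 hz2 hq1 hq2)
        ![1, 1, 1, 1, 1, 1, 1] (by decide +kernel)).elim
    · exact (leaf_falseF T hm2 v M18 hM hx (by norm_num) _ _ (row_double T v 4 5 hz2 hp1 hp2) (col_double T v 4 5 hz2 hq1 hq2)
        ![1, 1, 1, 1, 1, 1, 1] (by decide +kernel)).elim
    · exact (leaf_falseF T hm2 v M18 hM hx (by norm_num) _ _ (row_double T v 4 5 hz2 hp1 hp2) (col_double T v 4 5 hz2 hq1 hq2)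
        ![1, 1, 1, 1, 1, 1, 1] (by decide +kernel)).elim
    · exact (leaf_falseF T hm2 v M18 hM hx (by norm_num) _ _ (row_double T v 4 5 hz2 hp1 hp2) (col_double T v 4 5 hz2 hq1 hq2)
        ![1, 1, 1, 1, 1, 1, 1] (by decide +kernel)).elim
    · exact (leaf_falseF T hm2 v M18 hM hx (by norm_num) _ _ (row_double T v 4 5 hz2 hp1 hp2) (col_double T v 4 5 hz2 hq1 hq2)
        ![1, 1, 1, 1, 1, 1, 1] (by decide +kernel)).elim
    · exact (leaf_falseF T hm2 v M18 hM hx (by norm_num) _ _ (row_double T v 4 5 hz2 hp1 hp2) (col_double T v 4 5 hz2 hq1 hq2)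
        ![1, 1, 2, 2, 4, 4, 8] (by decide +kernel)).elim
  have hne := ne_of_not_range v hx i
  fin_cases i
  · rcases pair5 T (by norm_num) hm2 hne hi with
      ⟨hp, hq⟩ | ⟨hp, hq⟩ | ⟨hp, hq⟩ | ⟨hp, hq⟩ | ⟨hp, hq⟩
    · exact (leaf_falseF T hm2 v M18 hM hx (by norm_num) _ _ (row_single T v _ hz hp) (col_single T v _ hz hq)
        ![-96, -75, -66, -52, -34, -27, -49] (by decide +kernel)).elim
    · exact (leaf_falseF T hm2 v M18 hM hx (by norm_num) _ _ (row_single T v _ hz hp) (col_single T v _ hz hq)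
        ![23, 15, 14, 9, 6, 4, 11] (by decide +kernel)).elim
    · exact (leaf_falseF T hm2 v M18 hM hx (by norm_num) _ _ (row_single T v _ hz hp) (col_single T v _ hz hq)
        ![23, 15, 14, 9, 6, 4, 21] (by decide +kernel)).elim
    · exact (leaf_falseF T hm2 v M18 hM hx (by norm_num) _ _ (row_single T v _ hz hp) (col_single T v _ hz hq)
        ![16, 9, 9, 5, 4, 2, 7] (by decide +kernel)).elim
    · exact (leaf_falseF T hm2 v M18 hM hx (by norm_num) _ _ (row_single T v _ hz hp) (col_single T v _ hz hq)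
        ![16, 9, 9, 5, 4, 2, 21] (by decide +kernel)).elim
  · rcases pair5 T (by norm_num) hm2 hne hi with
      ⟨hp, hq⟩ | ⟨hp, hq⟩ | ⟨hp, hq⟩ | ⟨hp, hq⟩ | ⟨hp, hq⟩
    · exact (leaf_falseF T hm2 v M18 hM hx (by norm_num) _ _ (row_single T v _ hz hp) (col_single T v _ hz hq)
        ![-75, -96, -52, -66, -27, -34, -49] (by decide +kernel)).elim
    · exact (leaf_falseF T hm2 v M18 hM hx (by norm_num) _ _ (row_single T v _ hz hp) (col_single T v _ hz hq)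
        ![15, 23, 9, 14, 4, 6, 11] (by decide +kernel)).elim
    · exact (leaf_falseF T hm2 v M18 hM hx (by norm_num) _ _ (row_single T v _ hz hp) (col_single T v _ hz hq)
        ![15, 23, 9, 14, 4, 6, 21] (by decide +kernel)).elim
    · exact (leaf_falseF T hm2 v M18 hM hx (by norm_num) _ _ (row_single T v _ hz hp) (col_single T v _ hz hq)
        ![9, 16, 5, 9, 2, 4, 7] (by decide +kernel)).elim
    · exact (leaf_falseF T hm2 v M18 hM hx (by norm_num) _ _ (row_single T v _ hz hp) (col_single T v _ hz hq)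
        ![9, 16, 5, 9, 2, 4, 21] (by decide +kernel)).elim
  · rcases pair5 T (by norm_num) hm2 hne hi with
      ⟨hp, hq⟩ | ⟨hp, hq⟩ | ⟨hp, hq⟩ | ⟨hp, hq⟩ | ⟨hp, hq⟩
    · exact (leaf_falseF T hm2 v M18 hM hx (by norm_num) _ _ (row_single T v _ hz hp) (col_single T v _ hz hq)
        ![-36, -30, -40, -22, -21, -12, -21] (by decide +kernel)).elim
    · exact (leaf_falseF T hm2 v M18 hM hx (by norm_num) _ _ (row_single T v _ hz hp) (col_single T v _ hz hq)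
        ![31, 21, 45, 13, 21, 6, 21] (by decide +kernel)).elim
    · exact (leaf_falseF T hm2 v M18 hM hx (by norm_num) _ _ (row_single T v _ hz hp) (col_single T v _ hz hq)
        ![31, 21, 45, 13, 21, 6, 43] (by decide +kernel)).elim
    · exact (leaf_falseF T hm2 v M18 hM hx (by norm_num) _ _ (row_single T v _ hz hp) (col_single T v _ hz hq)
        ![15, 9, 27, 5, 12, 2, 12] (by decide +kernel)).elim
    · exact (leaf_falseF T hm2 v M18 hM hx (by norm_num) _ _ (row_single T v _ hz hp) (col_single T v _ hz hq)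
        ![15, 9, 27, 5, 12, 2, 35] (by decide +kernel)).elim
  · rcases pair5 T (by norm_num) hm2 hne hi with
      ⟨hp, hq⟩ | ⟨hp, hq⟩ | ⟨hp, hq⟩ | ⟨hp, hq⟩ | ⟨hp, hq⟩
    · exact (leaf_falseF T hm2 v M18 hM hx (by norm_num) _ _ (row_single T v _ hz hp) (col_single T v _ hz hq)
        ![-30, -36, -22, -40, -12, -21, -21] (by decide +kernel)).elim
    · exact (leaf_falseF T hm2 v M18 hM hx (by norm_num) _ _ (row_single T v _ hz hp) (col_single T v _ hz hq)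
        ![21, 31, 13, 45, 6, 21, 21] (by decide +kernel)).elim
    · exact (leaf_falseF T hm2 v M18 hM hx (by norm_num) _ _ (row_single T v _ hz hp) (col_single T v _ hz hq)
        ![21, 31, 13, 45, 6, 21, 43] (by decide +kernel)).elim
    · exact (leaf_falseF T hm2 v M18 hM hx (by norm_num) _ _ (row_single T v _ hz hp) (col_single T v _ hz hq)
        ![9, 15, 5, 27, 2, 12, 12] (by decide +kernel)).elim
    · exact (leaf_falseF T hm2 v M18 hM hx (by norm_num) _ _ (row_single T v _ hz hp) (col_single T v _ hz hq)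
        ![9, 15, 5, 27, 2, 12, 35] (by decide +kernel)).elim
  · rcases pair5 T (by norm_num) hm2 hne hi with
      ⟨hp, hq⟩ | ⟨hp, hq⟩ | ⟨hp, hq⟩ | ⟨hp, hq⟩ | ⟨hp, hq⟩
    · exact (leaf_falseF T hm2 v M18 hM hx (by norm_num) _ _ (row_single T v _ hz hp) (col_single T v _ hz hq)
        ![-16, -15, -15, -12, -12, -7, -7] (by decide +kernel)).elim
    · exact (leaf_falseF T hm2 v M18 hM hx (by norm_num) _ _ (row_single T v _ hz hp) (col_single T v _ hz hq)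
        ![-22, -18, -25, -13, -27, -7, -14] (by decide +kernel)).elim
    · exact (leaf_falseF T hm2 v M18 hM hx (by norm_num) _ _ (row_single T v _ hz hp) (col_single T v _ hz hq)
        ![-40, -33, -45, -24, -48, -13, -49] (by decide +kernel)).elim
    · exact (leaf_falseF T hm2 v M18 hM hx (by norm_num) _ _ (row_single T v _ hz hp) (col_single T v _ hz hq)
        ![32, 21, 46, 13, 65, 6, 31] (by decide +kernel)).elim
    · exact (leaf_falseF T hm2 v M18 hM hx (by norm_num) _ _ (row_single T v _ hz hp) (col_single T v _ hz hq)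
        ![32, 21, 46, 13, 65, 6, 93] (by decide +kernel)).elim
  · rcases pair5 T (by norm_num) hm2 hne hi with
      ⟨hp, hq⟩ | ⟨hp, hq⟩ | ⟨hp, hq⟩ | ⟨hp, hq⟩ | ⟨hp, hq⟩
    · exact (leaf_falseF T hm2 v M18 hM hx (by norm_num) _ _ (row_single T v _ hz hp) (col_single T v _ hz hq)
        ![-15, -16, -12, -15, -7, -12, -7] (by decide +kernel)).elim
    · exact (leaf_falseF T hm2 v M18 hM hx (by norm_num) _ _ (row_single T v _ hz hp) (col_single T v _ hz hq)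
        ![-18, -22, -13, -25, -7, -27, -14] (by decide +kernel)).elim
    · exact (leaf_falseF T hm2 v M18 hM hx (by norm_num) _ _ (row_single T v _ hz hp) (col_single T v _ hz hq)
        ![-33, -40, -24, -45, -13, -48, -49] (by decide +kernel)).elim
    · exact (leaf_falseF T hm2 v M18 hM hx (by norm_num) _ _ (row_single T v _ hz hp) (col_single T v _ hz hq)
        ![21, 32, 13, 46, 6, 65, 31] (by decide +kernel)).elim
    · exact (leaf_falseF T hm2 v M18 hM hx (by norm_num) _ _ (row_single T v _ hz hp) (col_single T v _ hz hq)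
        ![21, 32, 13, 46, 6, 65, 93] (by decide +kernel)).elim

def pc19 : Fin 6 → Fin 6 → Fin 7 → ℤ :=
  ![![![0, 0, 0, 0, 0, 0, 0], ![1, 1, 0, 0, 0, 0, 1], ![1, 0, 1, 0, 0, 0, 1], ![1, 1, 0, 1, 0, 0, 1], ![1, 0, 1, 0, 1, 0, 1], ![1, 1, 0, 1, 0, 1, 1]], ![![1, 1, 0, 0, 0, 0, 1], ![0, 0, 0, 0, 0, 0, 0], ![1, 1, 1, 0, 0, 0, 1], ![0, 1, 0, 1, 0, 0, 1], ![1, 1, 1, 0, 1, 0, 1], ![0, 1, 0, 1, 0, 1, 1]], ![![1, 0, 1, 0, 0, 0, 1], ![1, 1, 1, 0, 0, 0, 1], ![0, 0, 0, 0, 0, 0, 0], ![1, 1, 1, 1, 0, 0, 1], ![0, 0, 1, 0, 1, 0, 1], ![1, 1, 1, 1, 0, 1, 1]], ![![1, 1, 0, 1, 0, 0, 1], ![0, 1, 0, 1, 0, 0, 1], ![1, 1, 1, 1, 0, 0, 1], ![0, 0, 0, 0, 0, 0, 0], ![1, 1, 1, 1, 1, 0, 1], ![0, 0, 0, 1, 0, 1, 1]], ![![1, 0, 1, 0, 1, 0, 1], ![1, 1, 1, 0, 1, 0, 1], ![0, 0, 1, 0, 1, 0, 1], ![1, 1, 1, 1, 1, 0, 1], ![0, 0, 0, 0, 0, 0, 0], ![0, 0, 0, 0, 0, 0, 0]], ![![1, 1, 0, 1, 0, 1, 1], ![0,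 1, 0, 1, 0, 1, 1], ![1, 1, 1, 1, 0, 1, 1], ![0, 0, 0, 1, 0, 1, 1], ![0, 0, 0, 0, 0, 0, 0], ![0, 0, 0, 0, 0, 0, 0]]]

theorem st19 (T : Models.NumericalType 7) (hm2 : ∀ i, T.IsMinusTwo i)
    (v : Fin 6 ↪ Fin 7) (hM : Knows T v M19) : Result T := by
  obtain ⟨x, hx, hcase⟩ := step_unique T hm2 v M19 hM (by norm_num) (by norm_num)
    (fun i l => decide ((i = 4 ∧ l = 5) ∨ (i = 5 ∧ l = 4))) pc19 (by decide +kernel)
    (by decide)
  rcases hcase with ⟨i, hi, hz⟩ | ⟨i, l, hex, hil, hi, hl, hz⟩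
  swap
  · have hex2 : (i = 4 ∧ l = 5) ∨ (i = 5 ∧ l = 4) := by simpa using hex
    obtain ⟨h1, h2, hz2⟩ : T.a x (v 4) ≠ 0 ∧ T.a x (v 5) ≠ 0 ∧
        ∀ j, j ≠ 4 → j ≠ 5 → T.a x (v j) = 0 := by
      rcases hex2 with ⟨rfl, rfl⟩ | ⟨rfl, rfl⟩
      · exact ⟨hi, hl, hz⟩
      · exact ⟨hl, hi, fun j a b => hz j b a⟩
    rcases pair5 T (by norm_num) hm2 (ne_of_not_range v hx 4) h1 with
      ⟨hp1, hq1⟩ | ⟨hp1, hq1⟩ | ⟨hp1, hq1⟩ | ⟨hp1, hq1⟩ | ⟨hp1, hq1⟩ <;>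
    rcases pair5 T (by norm_num) hm2 (ne_of_not_range v hx 5) h2 with
      ⟨hp2, hq2⟩ | ⟨hp2, hq2⟩ | ⟨hp2, hq2⟩ | ⟨hp2, hq2⟩ | ⟨hp2, hq2⟩
    · exact (leaf_falseF T hm2 v M19 hM hx (by norm_num) _ _ (row_double T v 4 5 hz2 hp1 hp2) (col_double T v 4 5 hz2 hq1 hq2)
        ![1, 1, 1, 1, 1, 1, 1] (by decide +kernel)).elim
    · exact (leaf_falseF T hm2 v M19 hM hx (by norm_num) _ _ (row_double T v 4 5 hz2 hp1 hp2) (col_double T v 4 5 hz2 hq1 hq2)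
        ![1, 1, 1, 1, 1, 1, 1] (by decide +kernel)).elim
    · exact (leaf_falseF T hm2 v M19 hM hx (by norm_num) _ _ (row_double T v 4 5 hz2 hp1 hp2) (col_double T v 4 5 hz2 hq1 hq2)
        ![3, 4, 3, 6, 4, 5, 6] (by decide +kernel)).elim
    · exact (leaf_falseF T hm2 v M19 hM hx (by norm_num) _ _ (row_double T v 4 5 hz2 hp1 hp2) (col_double T v 4 5 hz2 hq1 hq2)
        ![1, 1, 1, 1, 1, 1, 1] (by decide +kernel)).elim
    · exact (leaf_falseF T hm2 v M19 hM hx (by norm_num) _ _ (row_double T v 4 5 hz2 hp1 hp2) (col_double T v 4 5 hz2 hq1 hq2)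
        ![1, 1, 1, 1, 1, 1, 1] (by decide +kernel)).elim
    · exact (leaf_falseF T hm2 v M19 hM hx (by norm_num) _ _ (row_double T v 4 5 hz2 hp1 hp2) (col_double T v 4 5 hz2 hq1 hq2)
        ![5, 6, 6, 8, 8, 6, 6] (by decide +kernel)).elim
    · exact (leaf_falseF T hm2 v M19 hM hx (by norm_num) _ _ (row_double T v 4 5 hz2 hp1 hp2) (col_double T v 4 5 hz2 hq1 hq2)
        ![1, 1, 1, 1, 1, 1, 1] (by decide +kernel)).elim
    · exact (leaf_falseF T hm2 v M19 hM hx (by norm_num) _ _ (row_double T v 4 5 hz2 hp1 hp2) (col_double T v 4 5 hz2 hq1 hq2)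
        ![1, 1, 1, 1, 1, 1, 1] (by decide +kernel)).elim
    · exact (leaf_falseF T hm2 v M19 hM hx (by norm_num) _ _ (row_double T v 4 5 hz2 hp1 hp2) (col_double T v 4 5 hz2 hq1 hq2)
        ![1, 1, 1, 1, 1, 1, 1] (by decide +kernel)).elim
    · exact (leaf_falseF T hm2 v M19 hM hx (by norm_num) _ _ (row_double T v 4 5 hz2 hp1 hp2) (col_double T v 4 5 hz2 hq1 hq2)
        ![1, 1, 1, 1, 1, 1, 1] (by decide +kernel)).elim
    · exact (leaf_falseF T hm2 v M19 hM hx (by norm_num) _ _ (row_double T v 4 5 hz2 hp1 hp2) (col_double T v 4 5 hz2 hq1 hq2)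
        ![1, 1, 1, 1, 1, 1, 1] (by decide +kernel)).elim
    · exact (leaf_falseF T hm2 v M19 hM hx (by norm_num) _ _ (row_double T v 4 5 hz2 hp1 hp2) (col_double T v 4 5 hz2 hq1 hq2)
        ![1, 1, 1, 1, 1, 1, 1] (by decide +kernel)).elim
    · exact (leaf_falseF T hm2 v M19 hM hx (by norm_num) _ _ (row_double T v 4 5 hz2 hp1 hp2) (col_double T v 4 5 hz2 hq1 hq2)
        ![1, 1, 1, 1, 1, 1, 1] (by decide +kernel)).elim
    · exact (leaf_falseF T hm2 v M19 hM hx (by norm_num) _ _ (row_double T v 4 5 hz2 hp1 hp2) (col_double T v 4 5 hz2 hq1 hq2)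
        ![1, 1, 1, 1, 1, 1, 1] (by decide +kernel)).elim
    · exact (leaf_falseF T hm2 v M19 hM hx (by norm_num) _ _ (row_double T v 4 5 hz2 hp1 hp2) (col_double T v 4 5 hz2 hq1 hq2)
        ![1, 1, 1, 1, 1, 1, 1] (by decide +kernel)).elim
    · exact (leaf_falseF T hm2 v M19 hM hx (by norm_num) _ _ (row_double T v 4 5 hz2 hp1 hp2) (col_double T v 4 5 hz2 hq1 hq2)
        ![1, 1, 1, 1, 1, 1, 1] (by decide +kernel)).elim
    · exact (leaf_falseF T hm2 v M19 hM hx (by norm_num) _ _ (row_double T v 4 5 hz2 hp1 hp2) (col_double T v 4 5 hz2 hq1 hq2)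
        ![1, 1, 1, 1, 1, 1, 1] (by decide +kernel)).elim
    · exact (leaf_falseF T hm2 v M19 hM hx (by norm_num) _ _ (row_double T v 4 5 hz2 hp1 hp2) (col_double T v 4 5 hz2 hq1 hq2)
        ![1, 1, 1, 1, 1, 1, 1] (by decide +kernel)).elim
    · exact (leaf_falseF T hm2 v M19 hM hx (by norm_num) _ _ (row_double T v 4 5 hz2 hp1 hp2) (col_double T v 4 5 hz2 hq1 hq2)
        ![1, 1, 1, 1, 1, 1, 1] (by decide +kernel)).elim
    · exact (leaf_falseF T hm2 v M19 hM hx (by norm_num) _ _ (row_double T v 4 5 hz2 hp1 hp2) (col_double T v 4 5 hz2 hq1 hq2)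
        ![1, 1, 1, 1, 1, 1, 1] (by decide +kernel)).elim
    · exact (leaf_falseF T hm2 v M19 hM hx (by norm_num) _ _ (row_double T v 4 5 hz2 hp1 hp2) (col_double T v 4 5 hz2 hq1 hq2)
        ![1, 1, 1, 1, 1, 1, 1] (by decide +kernel)).elim
    · exact (leaf_falseF T hm2 v M19 hM hx (by norm_num) _ _ (row_double T v 4 5 hz2 hp1 hp2) (col_double T v 4 5 hz2 hq1 hq2)
        ![1, 1, 1, 1, 1, 1, 1] (by decide +kernel)).elim
    · exact (leaf_falseF T hm2 v M19 hM hx (by norm_num) _ _ (row_double T v 4 5 hz2 hp1 hp2) (col_double T v 4 5 hz2 hq1 hq2)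
        ![1, 1, 1, 1, 1, 1, 1] (by decide +kernel)).elim
    · exact (leaf_falseF T hm2 v M19 hM hx (by norm_num) _ _ (row_double T v 4 5 hz2 hp1 hp2) (col_double T v 4 5 hz2 hq1 hq2)
        ![1, 1, 1, 1, 1, 1, 1] (by decide +kernel)).elim
    · exact (leaf_falseF T hm2 v M19 hM hx (by norm_num) _ _ (row_double T v 4 5 hz2 hp1 hp2) (col_double T v 4 5 hz2 hq1 hq2)
        ![1, 1, 1, 1, 1, 1, 1] (by decide +kernel)).elim
  have hne := ne_of_not_range v hx i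
  fin_cases i
  · rcases pair5 T (by norm_num) hm2 hne hi with
      ⟨hp, hq⟩ | ⟨hp, hq⟩ | ⟨hp, hq⟩ | ⟨hp, hq⟩ | ⟨hp, hq⟩
    · exact (leaf_falseF T hm2 v M19 hM hx (by norm_num) _ _ (row_single T v _ hz hp) (col_single T v _ hz hq)
        ![48, 43, 31, 41, 15, 20, 23] (by decide +kernel)).elim
    · exact (leaf_falseF T hm2 v M19 hM hx (by norm_num) _ _ (row_single T v _ hz hp) (col_single T v _ hz hq)
        ![16, 11, 9, 9, 4, 4, 7] (by decide +kernel)).elim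
    · exact (leaf_falseF T hm2 v M19 hM hx (by norm_num) _ _ (row_single T v _ hz hp) (col_single T v _ hz hq)
        ![16, 11, 9, 9, 4, 4, 15] (by decide +kernel)).elim
    · exact (leaf_falseF T hm2 v M19 hM hx (by norm_num) _ _ (row_single T v _ hz hp) (col_single T v _ hz hq)
        ![18, 11, 10, 7, 4, 3, 8] (by decide +kernel)).elim
    · exact (leaf_falseF T hm2 v M19 hM hx (by norm_num) _ _ (row_single T v _ hz hp) (col_single T v _ hz hq)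
        ![18, 11, 10, 7, 4, 3, 23] (by decide +kernel)).elim
  · rcases pair5 T (by norm_num) hm2 hne hi with
      ⟨hp, hq⟩ | ⟨hp, hq⟩ | ⟨hp, hq⟩ | ⟨hp, hq⟩ | ⟨hp, hq⟩
    · exact (leaf_falseF T hm2 v M19 hM hx (by norm_num) _ _ (row_single T v _ hz hp) (col_single T v _ hz hq)
        ![30, 43, 19, 39, 9, 19, 21] (by decide +kernel)).elim
    · exact (leaf_falseF T hm2 v M19 hM hx (by norm_num) _ _ (row_single T v _ hz hp) (col_single T v _ hz hq)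
        ![12, 20, 7, 15, 3, 7, 9] (by decide +kernel)).elim
    · exact (leaf_falseF T hm2 v M19 hM hx (by norm_num) _ _ (row_single T v _ hz hp) (col_single T v _ hz hq)
        ![12, 20, 7, 15, 3, 7, 18] (by decide +kernel)).elim
    · exact (leaf_falseF T hm2 v M19 hM hx (by norm_num) _ _ (row_single T v _ hz hp) (col_single T v _ hz hq)
        ![10, 18, 5, 12, 2, 5, 8] (by decide +kernel)).elim
    · exact (leaf_falseF T hm2 v M19 hM hx (by norm_num) _ _ (row_single T v _ hz hp) (col_single T v _ hz hq)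
        ![10, 18, 5, 12, 2, 5, 23] (by decide +kernel)).elim
  · rcases pair5 T (by norm_num) hm2 hne hi with
      ⟨hp, hq⟩ | ⟨hp, hq⟩ | ⟨hp, hq⟩ | ⟨hp, hq⟩ | ⟨hp, hq⟩
    · obtain ⟨σ, hσ⟩ := leaf_final T hm2 v M19 hM hx _ _ (row_single T v _ hz hp) (col_single T v _ hz hq)
        ![5, 3, 1, 0, 2, 4, 6] mc4 wc4 ac4 0 1 (by decide +kernel)
      exact of_type4 T σ _ _ hσ
    · exact (leaf_falseF T hm2 v M19 hM hx (by norm_num) _ _ (row_single T v _ hz hp) (col_single T v _ hz hq)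
        ![17, 13, 23, 11, 11, 5, 11] (by decide +kernel)).elim
    · exact (leaf_falseF T hm2 v M19 hM hx (by norm_num) _ _ (row_single T v _ hz hp) (col_single T v _ hz hq)
        ![17, 13, 23, 11, 11, 5, 21] (by decide +kernel)).elim
    · exact (leaf_falseF T hm2 v M19 hM hx (by norm_num) _ _ (row_single T v _ hz hp) (col_single T v _ hz hq)
        ![11, 7, 19, 5, 8, 2, 8] (by decide +kernel)).elim
    · exact (leaf_falseF T hm2 v M19 hM hx (by norm_num) _ _ (row_single T v _ hz hp) (col_single T v _ hz hq)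
        ![11, 7, 19, 5, 8, 2, 24] (by decide +kernel)).elim
  · rcases pair5 T (by norm_num) hm2 hne hi with
      ⟨hp, hq⟩ | ⟨hp, hq⟩ | ⟨hp, hq⟩ | ⟨hp, hq⟩ | ⟨hp, hq⟩
    · exact (leaf_falseF T hm2 v M19 hM hx (by norm_num) _ _ (row_single T v _ hz hp) (col_single T v _ hz hq)
        ![21, 31, 13, 45, 6, 21, 21] (by decide +kernel)).elim
    · exact (leaf_falseF T hm2 v M19 hM hx (by norm_num) _ _ (row_single T v _ hz hp) (col_single T v _ hz hq)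
        ![9, 15, 5, 27, 2, 12, 12] (by decide +kernel)).elim
    · exact (leaf_falseF T hm2 v M19 hM hx (by norm_num) _ _ (row_single T v _ hz hp) (col_single T v _ hz hq)
        ![9, 15, 5, 27, 2, 12, 23] (by decide +kernel)).elim
    · exact (leaf_falseF T hm2 v M19 hM hx (by norm_num) _ _ (row_single T v _ hz hp) (col_single T v _ hz hq)
        ![10, 21, 5, 43, 2, 17, 17] (by decide +kernel)).elim
    · exact (leaf_falseF T hm2 v M19 hM hx (by norm_num) _ _ (row_single T v _ hz hp) (col_single T v _ hz hq)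
        ![10, 21, 5, 43, 2, 17, 51] (by decide +kernel)).elim
  · rcases pair5 T (by norm_num) hm2 hne hi with
      ⟨hp, hq⟩ | ⟨hp, hq⟩ | ⟨hp, hq⟩ | ⟨hp, hq⟩ | ⟨hp, hq⟩
    · exact (leaf_falseF T hm2 v M19 hM hx (by norm_num) _ _ (row_single T v _ hz hp) (col_single T v _ hz hq)
        ![-22, -25, -18, -27, -13, -14, -7] (by decide +kernel)).elim
    · obtain ⟨σ, hσ⟩ := leaf_final T hm2 v M19 hM hx _ _ (row_single T v _ hz hp) (col_single T v _ hz hq)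
        ![5, 3, 1, 0, 2, 4, 6] mc3 wc3 ac3 0 1 (by decide +kernel)
      exact of_type3 T σ _ _ hσ
    · obtain ⟨σ, hσ⟩ := leaf_final T hm2 v M19 hM hx _ _ (row_single T v _ hz hp) (col_single T v _ hz hq)
        ![6, 4, 2, 0, 1, 3, 5] mc1 wc1 ac1 6 0 (by decide +kernel)
      exact of_type1 T σ _ _ hσ
    · exact (leaf_falseF T hm2 v M19 hM hx (by norm_num) _ _ (row_single T v _ hz hp) (col_single T v _ hz hq)
        ![16, 13, 22, 11, 31, 5, 14] (by decide +kernel)).elim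
    · exact (leaf_falseF T hm2 v M19 hM hx (by norm_num) _ _ (row_single T v _ hz hp) (col_single T v _ hz hq)
        ![16, 13, 22, 11, 31, 5, 43] (by decide +kernel)).elim
  · rcases pair5 T (by norm_num) hm2 hne hi with
      ⟨hp, hq⟩ | ⟨hp, hq⟩ | ⟨hp, hq⟩ | ⟨hp, hq⟩ | ⟨hp, hq⟩
    · exact (leaf_falseF T hm2 v M19 hM hx (by norm_num) _ _ (row_single T v _ hz hp) (col_single T v _ hz hq)
        ![48, 66, 31, 88, 15, 57, 28] (by decide +kernel)).elim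
    · exact (leaf_falseF T hm2 v M19 hM hx (by norm_num) _ _ (row_single T v _ hz hp) (col_single T v _ hz hq)
        ![15, 25, 9, 39, 4, 30, 14] (by decide +kernel)).elim
    · exact (leaf_falseF T hm2 v M19 hM hx (by norm_num) _ _ (row_single T v _ hz hp) (col_single T v _ hz hq)
        ![15, 25, 9, 39, 4, 30, 28] (by decide +kernel)).elim
    · exact (leaf_falseF T hm2 v M19 hM hx (by norm_num) _ _ (row_single T v _ hz hp) (col_single T v _ hz hq)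
        ![9, 17, 5, 31, 2, 28, 12] (by decide +kernel)).elim
    · exact (leaf_falseF T hm2 v M19 hM hx (by norm_num) _ _ (row_single T v _ hz hp) (col_single T v _ hz hq)
        ![9, 17, 5, 31, 2, 28, 36] (by decide +kernel)).elim

def pc20 : Fin 6 → Fin 6 → Fin 7 → ℤ :=
  ![![![0, 0, 0, 0, 0, 0, 0], ![1, 1, 0, 0, 0, 0, 1], ![1, 0, 1, 0, 0, 0, 1], ![1, 1, 0, 1, 0, 0, 1], ![1, 0, 1, 0, 1, 0, 1], ![1, 1, 0, 1, 0, 1, 1]], ![![1, 1, 0, 0, 0, 0, 1], ![0, 0, 0, 0, 0, 0, 0], ![1, 1, 1, 0, 0, 0, 1], ![0, 1, 0, 1, 0, 0, 1], ![1, 1, 1, 0, 1, 0, 1], ![0, 1, 0, 1, 0, 1, 1]], ![![1, 0, 1, 0, 0, 0, 1], ![1, 1, 1, 0, 0, 0, 1], ![0, 0, 0, 0, 0, 0, 0], ![1, 1, 1, 1, 0, 0, 1], ![0, 0, 1, 0, 1, 0, 1], ![1, 1, 1, 1, 0, 1, 1]], ![![1, 1, 0, 1, 0, 0, 1], ![0, 1, 0, 1, 0, 0, 1], ![1, 1, 1, 1, 0, 0, 1], ![0, 0, 0, 0, 0, 0, 0], ![1, 1, 1, 1, 1, 0, 1], ![0, 0, 0, 1, 0, 1, 1]], ![![1,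 0, 1, 0, 1, 0, 1], ![1, 1, 1, 0, 1, 0, 1], ![0, 0, 1, 0, 1, 0, 1], ![1, 1, 1, 1, 1, 0, 1], ![0, 0, 0, 0, 0, 0, 0], ![0, 0, 0, 0, 0, 0, 0]], ![![1, 1, 0, 1, 0, 1, 1], ![0, 1, 0, 1, 0, 1, 1], ![1, 1, 1, 1, 0, 1, 1], ![0, 0, 0, 1, 0, 1, 1], ![0, 0, 0, 0, 0, 0, 0], ![0, 0, 0, 0, 0, 0, 0]]]

theorem st20 (T : Models.NumericalType 7) (hm2 : ∀ i, T.IsMinusTwo i)
    (v : Fin 6 ↪ Fin 7) (hM : Knows T v M20) : Result T := by
  obtain ⟨x, hx, hcase⟩ := step_unique T hm2 v M20 hM (by norm_num) (by norm_num)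
    (fun i l => decide ((i = 4 ∧ l = 5) ∨ (i = 5 ∧ l = 4))) pc20 (by decide +kernel)
    (by decide)
  rcases hcase with ⟨i, hi, hz⟩ | ⟨i, l, hex, hil, hi, hl, hz⟩
  swap
  · have hex2 : (i = 4 ∧ l = 5) ∨ (i = 5 ∧ l = 4) := by simpa using hex
    obtain ⟨h1, h2, hz2⟩ : T.a x (v 4) ≠ 0 ∧ T.a x (v 5) ≠ 0 ∧
        ∀ j, j ≠ 4 → j ≠ 5 → T.a x (v j) = 0 := by
      rcases hex2 with ⟨rfl, rfl⟩ | ⟨rfl, rfl⟩
      · exact ⟨hi, hl, hz⟩
      · exact ⟨hl, hi, fun j a b => hz j b a⟩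
    rcases pair5 T (by norm_num) hm2 (ne_of_not_range v hx 4) h1 with
      ⟨hp1, hq1⟩ | ⟨hp1, hq1⟩ | ⟨hp1, hq1⟩ | ⟨hp1, hq1⟩ | ⟨hp1, hq1⟩ <;>
    rcases pair5 T (by norm_num) hm2 (ne_of_not_range v hx 5) h2 with
      ⟨hp2, hq2⟩ | ⟨hp2, hq2⟩ | ⟨hp2, hq2⟩ | ⟨hp2, hq2⟩ | ⟨hp2, hq2⟩
    · exact (leaf_falseF T hm2 v M20 hM hx (by norm_num) _ _ (row_double T v 4 5 hz2 hp1 hp2) (col_double T v 4 5 hz2 hq1 hq2)
        ![1, 1, 1, 1, 1, 1, 1] (by decide +kernel)).elim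
    · exact (leaf_falseF T hm2 v M20 hM hx (by norm_num) _ _ (row_double T v 4 5 hz2 hp1 hp2) (col_double T v 4 5 hz2 hq1 hq2)
        ![3, 4, 3, 6, 4, 11, 6] (by decide +kernel)).elim
    · exact (leaf_falseF T hm2 v M20 hM hx (by norm_num) _ _ (row_double T v 4 5 hz2 hp1 hp2) (col_double T v 4 5 hz2 hq1 hq2)
        ![1, 1, 1, 1, 1, 1, 1] (by decide +kernel)).elim
    · exact (leaf_falseF T hm2 v M20 hM hx (by norm_num) _ _ (row_double T v 4 5 hz2 hp1 hp2) (col_double T v 4 5 hz2 hq1 hq2)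
        ![1, 1, 1, 1, 1, 1, 1] (by decide +kernel)).elim
    · exact (leaf_falseF T hm2 v M20 hM hx (by norm_num) _ _ (row_double T v 4 5 hz2 hp1 hp2) (col_double T v 4 5 hz2 hq1 hq2)
        ![1, 1, 1, 1, 1, 1, 1] (by decide +kernel)).elim
    · exact (leaf_falseF T hm2 v M20 hM hx (by norm_num) _ _ (row_double T v 4 5 hz2 hp1 hp2) (col_double T v 4 5 hz2 hq1 hq2)
        ![1, 1, 1, 1, 1, 1, 1] (by decide +kernel)).elim
    · exact (leaf_falseF T hm2 v M20 hM hx (by norm_num) _ _ (row_double T v 4 5 hz2 hp1 hp2) (col_double T v 4 5 hz2 hq1 hq2)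
        ![1, 1, 1, 1, 1, 1, 1] (by decide +kernel)).elim
    · exact (leaf_falseF T hm2 v M20 hM hx (by norm_num) _ _ (row_double T v 4 5 hz2 hp1 hp2) (col_double T v 4 5 hz2 hq1 hq2)
        ![1, 1, 1, 1, 1, 1, 1] (by decide +kernel)).elim
    · exact (leaf_falseF T hm2 v M20 hM hx (by norm_num) _ _ (row_double T v 4 5 hz2 hp1 hp2) (col_double T v 4 5 hz2 hq1 hq2)
        ![1, 1, 1, 1, 1, 1, 1] (by decide +kernel)).elim
    · exact (leaf_falseF T hm2 v M20 hM hx (by norm_num) _ _ (row_double T v 4 5 hz2 hp1 hp2) (col_double T v 4 5 hz2 hq1 hq2)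
        ![1, 1, 1, 1, 1, 1, 1] (by decide +kernel)).elim
    · exact (leaf_falseF T hm2 v M20 hM hx (by norm_num) _ _ (row_double T v 4 5 hz2 hp1 hp2) (col_double T v 4 5 hz2 hq1 hq2)
        ![5, 6, 6, 8, 8, 12, 12] (by decide +kernel)).elim
    · exact (leaf_falseF T hm2 v M20 hM hx (by norm_num) _ _ (row_double T v 4 5 hz2 hp1 hp2) (col_double T v 4 5 hz2 hq1 hq2)
        ![1, 1, 1, 1, 1, 1, 1] (by decide +kernel)).elim
    · exact (leaf_falseF T hm2 v M20 hM hx (by norm_num) _ _ (row_double T v 4 5 hz2 hp1 hp2) (col_double T v 4 5 hz2 hq1 hq2)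
        ![1, 1, 1, 1, 1, 1, 1] (by decide +kernel)).elim
    · exact (leaf_falseF T hm2 v M20 hM hx (by norm_num) _ _ (row_double T v 4 5 hz2 hp1 hp2) (col_double T v 4 5 hz2 hq1 hq2)
        ![1, 1, 1, 1, 1, 1, 1] (by decide +kernel)).elim
    · exact (leaf_falseF T hm2 v M20 hM hx (by norm_num) _ _ (row_double T v 4 5 hz2 hp1 hp2) (col_double T v 4 5 hz2 hq1 hq2)
        ![1, 1, 1, 1, 1, 1, 1] (by decide +kernel)).elim
    · exact (leaf_falseF T hm2 v M20 hM hx (by norm_num) _ _ (row_double T v 4 5 hz2 hp1 hp2) (col_double T v 4 5 hz2 hq1 hq2)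
        ![1, 1, 1, 1, 1, 1, 1] (by decide +kernel)).elim
    · exact (leaf_falseF T hm2 v M20 hM hx (by norm_num) _ _ (row_double T v 4 5 hz2 hp1 hp2) (col_double T v 4 5 hz2 hq1 hq2)
        ![1, 1, 1, 1, 1, 1, 1] (by decide +kernel)).elim
    · exact (leaf_falseF T hm2 v M20 hM hx (by norm_num) _ _ (row_double T v 4 5 hz2 hp1 hp2) (col_double T v 4 5 hz2 hq1 hq2)
        ![1, 1, 1, 1, 1, 1, 1] (by decide +kernel)).elim
    · exact (leaf_falseF T hm2 v M20 hM hx (by norm_num) _ _ (row_double T v 4 5 hz2 hp1 hp2) (col_double T v 4 5 hz2 hq1 hq2)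
        ![1, 1, 1, 1, 1, 1, 1] (by decide +kernel)).elim
    · exact (leaf_falseF T hm2 v M20 hM hx (by norm_num) _ _ (row_double T v 4 5 hz2 hp1 hp2) (col_double T v 4 5 hz2 hq1 hq2)
        ![1, 1, 1, 1, 1, 1, 1] (by decide +kernel)).elim
    · exact (leaf_falseF T hm2 v M20 hM hx (by norm_num) _ _ (row_double T v 4 5 hz2 hp1 hp2) (col_double T v 4 5 hz2 hq1 hq2)
        ![1, 1, 1, 1, 1, 1, 1] (by decide +kernel)).elim
    · exact (leaf_falseF T hm2 v M20 hM hx (by norm_num) _ _ (row_double T v 4 5 hz2 hp1 hp2) (col_double T v 4 5 hz2 hq1 hq2)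
        ![1, 1, 1, 1, 1, 1, 1] (by decide +kernel)).elim
    · exact (leaf_falseF T hm2 v M20 hM hx (by norm_num) _ _ (row_double T v 4 5 hz2 hp1 hp2) (col_double T v 4 5 hz2 hq1 hq2)
        ![1, 1, 1, 1, 1, 1, 1] (by decide +kernel)).elim
    · exact (leaf_falseF T hm2 v M20 hM hx (by norm_num) _ _ (row_double T v 4 5 hz2 hp1 hp2) (col_double T v 4 5 hz2 hq1 hq2)
        ![1, 1, 1, 1, 1, 1, 1] (by decide +kernel)).elim
    · exact (leaf_falseF T hm2 v M20 hM hx (by norm_num) _ _ (row_double T v 4 5 hz2 hp1 hp2) (col_double T v 4 5 hz2 hq1 hq2)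
        ![1, 1, 1, 1, 1, 1, 1] (by decide +kernel)).elim
  have hne := ne_of_not_range v hx i
  fin_cases i
  · rcases pair5 T (by norm_num) hm2 hne hi with
      ⟨hp, hq⟩ | ⟨hp, hq⟩ | ⟨hp, hq⟩ | ⟨hp, hq⟩ | ⟨hp, hq⟩
    · exact (leaf_falseF T hm2 v M20 hM hx (by norm_num) _ _ (row_single T v _ hz hp) (col_single T v _ hz hq)
        ![48, 43, 31, 41, 15, 40, 23] (by decide +kernel)).elim
    · exact (leaf_falseF T hm2 v M20 hM hx (by norm_num) _ _ (row_single T v _ hz hp) (col_single T v _ hz hq)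
        ![19, 13, 11, 11, 5, 10, 9] (by decide +kernel)).elim
    · exact (leaf_falseF T hm2 v M20 hM hx (by norm_num) _ _ (row_single T v _ hz hp) (col_single T v _ hz hq)
        ![19, 13, 11, 11, 5, 10, 17] (by decide +kernel)).elim
    · exact (leaf_falseF T hm2 v M20 hM hx (by norm_num) _ _ (row_single T v _ hz hp) (col_single T v _ hz hq)
        ![14, 8, 7, 5, 3, 4, 6] (by decide +kernel)).elim
    · exact (leaf_falseF T hm2 v M20 hM hx (by norm_num) _ _ (row_single T v _ hz hp) (col_single T v _ hz hq)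
        ![14, 8, 7, 5, 3, 4, 17] (by decide +kernel)).elim
  · rcases pair5 T (by norm_num) hm2 hne hi with
      ⟨hp, hq⟩ | ⟨hp, hq⟩ | ⟨hp, hq⟩ | ⟨hp, hq⟩ | ⟨hp, hq⟩
    · exact (leaf_falseF T hm2 v M20 hM hx (by norm_num) _ _ (row_single T v _ hz hp) (col_single T v _ hz hq)
        ![30, 43, 19, 39, 9, 37, 21] (by decide +kernel)).elim
    · exact (leaf_falseF T hm2 v M20 hM hx (by norm_num) _ _ (row_single T v _ hz hp) (col_single T v _ hz hq)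
        ![12, 20, 7, 15, 3, 13, 9] (by decide +kernel)).elim
    · exact (leaf_falseF T hm2 v M20 hM hx (by norm_num) _ _ (row_single T v _ hz hp) (col_single T v _ hz hq)
        ![12, 20, 7, 15, 3, 13, 18] (by decide +kernel)).elim
    · exact (leaf_falseF T hm2 v M20 hM hx (by norm_num) _ _ (row_single T v _ hz hp) (col_single T v _ hz hq)
        ![10, 18, 5, 12, 2, 10, 8] (by decide +kernel)).elim
    · exact (leaf_falseF T hm2 v M20 hM hx (by norm_num) _ _ (row_single T v _ hz hp) (col_single T v _ hz hq)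
        ![10, 18, 5, 12, 2, 10, 23] (by decide +kernel)).elim
  · rcases pair5 T (by norm_num) hm2 hne hi with
      ⟨hp, hq⟩ | ⟨hp, hq⟩ | ⟨hp, hq⟩ | ⟨hp, hq⟩ | ⟨hp, hq⟩
    · obtain ⟨σ, hσ⟩ := leaf_final T hm2 v M20 hM hx _ _ (row_single T v _ hz hp) (col_single T v _ hz hq)
        ![5, 3, 1, 0, 2, 4, 6] mc5 wc5 ac5 5 0 (by decide +kernel)
      exact of_type5 T σ _ _ hσ
    · exact (leaf_falseF T hm2 v M20 hM hx (by norm_num) _ _ (row_single T v _ hz hp) (col_single T v _ hz hq)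
        ![15, 12, 21, 10, 10, 9, 10] (by decide +kernel)).elim
    · exact (leaf_falseF T hm2 v M20 hM hx (by norm_num) _ _ (row_single T v _ hz hp) (col_single T v _ hz hq)
        ![15, 12, 21, 10, 10, 9, 19] (by decide +kernel)).elim
    · exact (leaf_falseF T hm2 v M20 hM hx (by norm_num) _ _ (row_single T v _ hz hp) (col_single T v _ hz hq)
        ![11, 7, 19, 5, 8, 4, 8] (by decide +kernel)).elim
    · exact (leaf_falseF T hm2 v M20 hM hx (by norm_num) _ _ (row_single T v _ hz hp) (col_single T v _ hz hq)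
        ![11, 7, 19, 5, 8, 4, 24] (by decide +kernel)).elim
  · rcases pair5 T (by norm_num) hm2 hne hi with
      ⟨hp, hq⟩ | ⟨hp, hq⟩ | ⟨hp, hq⟩ | ⟨hp, hq⟩ | ⟨hp, hq⟩
    · exact (leaf_falseF T hm2 v M20 hM hx (by norm_num) _ _ (row_single T v _ hz hp) (col_single T v _ hz hq)
        ![21, 31, 13, 45, 6, 43, 21] (by decide +kernel)).elim
    · exact (leaf_falseF T hm2 v M20 hM hx (by norm_num) _ _ (row_single T v _ hz hp) (col_single T v _ hz hq)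
        ![9, 15, 5, 27, 2, 23, 12] (by decide +kernel)).elim
    · exact (leaf_falseF T hm2 v M20 hM hx (by norm_num) _ _ (row_single T v _ hz hp) (col_single T v _ hz hq)
        ![9, 15, 5, 27, 2, 23, 23] (by decide +kernel)).elim
    · exact (leaf_falseF T hm2 v M20 hM hx (by norm_num) _ _ (row_single T v _ hz hp) (col_single T v _ hz hq)
        ![10, 21, 5, 43, 2, 34, 17] (by decide +kernel)).elim
    · exact (leaf_falseF T hm2 v M20 hM hx (by norm_num) _ _ (row_single T v _ hz hp) (col_single T v _ hz hq)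
        ![10, 21, 5, 43, 2, 34, 51] (by decide +kernel)).elim
  · rcases pair5 T (by norm_num) hm2 hne hi with
      ⟨hp, hq⟩ | ⟨hp, hq⟩ | ⟨hp, hq⟩ | ⟨hp, hq⟩ | ⟨hp, hq⟩
    · exact (leaf_falseF T hm2 v M20 hM hx (by norm_num) _ _ (row_single T v _ hz hp) (col_single T v _ hz hq)
        ![-40, -45, -33, -48, -24, -49, -13] (by decide +kernel)).elim
    · obtain ⟨σ, hσ⟩ := leaf_final T hm2 v M20 hM hx _ _ (row_single T v _ hz hp) (col_single T v _ hz hq)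
        ![5, 3, 1, 0, 2, 4, 6] mc1 wc1 ac1 6 0 (by decide +kernel)
      exact of_type1 T σ _ _ hσ
    · obtain ⟨σ, hσ⟩ := leaf_final T hm2 v M20 hM hx _ _ (row_single T v _ hz hp) (col_single T v _ hz hq)
        ![5, 3, 1, 0, 2, 4, 6] mc2 wc2 ac2 0 0 (by decide +kernel)
      exact of_type2 T σ _ _ hσ
    · exact (leaf_falseF T hm2 v M20 hM hx (by norm_num) _ _ (row_single T v _ hz hp) (col_single T v _ hz hq)
        ![16, 13, 22, 11, 31, 10, 14] (by decide +kernel)).elim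
    · exact (leaf_falseF T hm2 v M20 hM hx (by norm_num) _ _ (row_single T v _ hz hp) (col_single T v _ hz hq)
        ![16, 13, 22, 11, 31, 10, 43] (by decide +kernel)).elim
  · rcases pair5 T (by norm_num) hm2 hne hi with
      ⟨hp, hq⟩ | ⟨hp, hq⟩ | ⟨hp, hq⟩ | ⟨hp, hq⟩ | ⟨hp, hq⟩
    · exact (leaf_falseF T hm2 v M20 hM hx (by norm_num) _ _ (row_single T v _ hz hp) (col_single T v _ hz hq)
        ![48, 66, 31, 88, 15, 114, 56] (by decide +kernel)).elim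
    · exact (leaf_falseF T hm2 v M20 hM hx (by norm_num) _ _ (row_single T v _ hz hp) (col_single T v _ hz hq)
        ![15, 25, 9, 39, 4, 61, 28] (by decide +kernel)).elim
    · exact (leaf_falseF T hm2 v M20 hM hx (by norm_num) _ _ (row_single T v _ hz hp) (col_single T v _ hz hq)
        ![15, 25, 9, 39, 4, 61, 55] (by decide +kernel)).elim
    · exact (leaf_falseF T hm2 v M20 hM hx (by norm_num) _ _ (row_single T v _ hz hp) (col_single T v _ hz hq)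
        ![9, 17, 5, 31, 2, 57, 24] (by decide +kernel)).elim
    · exact (leaf_falseF T hm2 v M20 hM hx (by norm_num) _ _ (row_single T v _ hz hp) (col_single T v _ hz hq)
        ![9, 17, 5, 31, 2, 57, 72] (by decide +kernel)).elim

def pc12 : Fin 5 → Fin 5 → Fin 6 → ℤ :=
  ![![![0, 0, 0, 0, 0, 0], ![1, 1, 0, 0, 0, 1], ![1, 0, 1, 0, 0, 1], ![1, 0, 0, 1, 0, 1], ![1, 1, 0, 0, 1, 1]], ![![1, 1, 0, 0, 0, 1], ![0, 0, 0, 0, 0, 0], ![1, 1, 1, 0, 0, 1], ![1, 1, 0, 1, 0, 1], ![0, 1, 0, 0, 1, 1]], ![![1, 0, 1, 0, 0, 1], ![1, 1, 1, 0, 0, 1], ![0, 0, 0, 0, 0, 0], ![1, 0, 1, 1, 0, 1], ![1, 1, 1, 0, 1, 1]], ![![1, 0, 0, 1, 0, 1], ![1, 1, 0, 1, 0, 1], ![1, 0, 1, 1, 0, 1], ![0, 0, 0, 0, 0, 0], ![1, 1, 0, 1, 1, 1]], ![![1, 1, 0, 0, 1, 1], ![0, 1, 0, 0, 1, 1], ![1, 1, 1, 0, 1, 1], ![1, 1, 0, 1, 1, 1], ![0, 0, 0, 0, 0, 0]]]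

theorem st12 (T : Models.NumericalType 7) (hm2 : ∀ i, T.IsMinusTwo i)
    (v : Fin 5 ↪ Fin 7) (hM : Knows T v M12) : Result T := by
  obtain ⟨x, hx, hcase⟩ := step_unique T hm2 v M12 hM (by norm_num) (by norm_num)
    (fun _ _ => false) pc12 (by decide +kernel)
    (fun _ _ _ h => (Bool.false_ne_true h).elim)
  rcases hcase with ⟨i, hi, hz⟩ | ⟨i, l, hex, -⟩
  swap
  · exact (Bool.false_ne_true hex).elim
  have hne := ne_of_not_range v hx i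
  fin_cases i
  · rcases pair5 T (by norm_num) hm2 hne hi with
      ⟨hp, hq⟩ | ⟨hp, hq⟩ | ⟨hp, hq⟩ | ⟨hp, hq⟩ | ⟨hp, hq⟩
    · exact (leaf_falseP T hm2 v M12 hM hx _ _ (row_single T v _ hz hp) (col_single T v _ hz hq)
        ![30, 19, 14, 14, 9, 14] (by decide +kernel)).elim
    · exact (leaf_falseP T hm2 v M12 hM hx _ _ (row_single T v _ hz hp) (col_single T v _ hz hq)
        ![13, 7, 6, 6, 3, 6] (by decide +kernel)).elim
    · exact (leaf_falseP T hm2 v M12 hM hx _ _ (row_single T v _ hz hp) (col_single T v _ hz hq)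
        ![13, 7, 6, 6, 3, 11] (by decide +kernel)).elim
    · exact (leaf_falseP T hm2 v M12 hM hx _ _ (row_single T v _ hz hp) (col_single T v _ hz hq)
        ![10, 5, 4, 4, 2, 4] (by decide +kernel)).elim
    · exact (leaf_falseP T hm2 v M12 hM hx _ _ (row_single T v _ hz hp) (col_single T v _ hz hq)
        ![10, 5, 4, 4, 2, 13] (by decide +kernel)).elim
  · rcases pair5 T (by norm_num) hm2 hne hi with
      ⟨hp, hq⟩ | ⟨hp, hq⟩ | ⟨hp, hq⟩ | ⟨hp, hq⟩ | ⟨hp, hq⟩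
    · exact (leaf_falseP T hm2 v M12 hM hx _ _ (row_single T v _ hz hp) (col_single T v _ hz hq)
        ![2, 2, 1, 1, 1, 1] (by decide +kernel)).elim
    · exact (leaf_falseP T hm2 v M12 hM hx _ _ (row_single T v _ hz hp) (col_single T v _ hz hq)
        ![9, 11, 4, 4, 5, 5] (by decide +kernel)).elim
    · exact (leaf_falseP T hm2 v M12 hM hx _ _ (row_single T v _ hz hp) (col_single T v _ hz hq)
        ![9, 11, 4, 4, 5, 10] (by decide +kernel)).elim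
    · exact (leaf_falseP T hm2 v M12 hM hx _ _ (row_single T v _ hz hp) (col_single T v _ hz hq)
        ![5, 7, 2, 2, 3, 3] (by decide +kernel)).elim
    · exact (leaf_falseP T hm2 v M12 hM hx _ _ (row_single T v _ hz hp) (col_single T v _ hz hq)
        ![5, 7, 2, 2, 3, 9] (by decide +kernel)).elim
  · rcases pair5 T (by norm_num) hm2 hne hi with
      ⟨hp, hq⟩ | ⟨hp, hq⟩ | ⟨hp, hq⟩ | ⟨hp, hq⟩ | ⟨hp, hq⟩
    · exact leaf_next T hm2 v M12 hM hx _ _ (row_single T v _ hz hp) (col_single T v _ hz hq)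
        ![0, 1, 2, 3, 4, 5] M16 (by decide +kernel) (st16 T hm2)
    · exact (leaf_falseP T hm2 v M12 hM hx _ _ (row_single T v _ hz hp) (col_single T v _ hz hq)
        ![39, 25, 36, 19, 12, 17] (by decide +kernel)).elim
    · exact (leaf_falseP T hm2 v M12 hM hx _ _ (row_single T v _ hz hp) (col_single T v _ hz hq)
        ![39, 25, 36, 19, 12, 35] (by decide +kernel)).elim
    · exact (leaf_falseP T hm2 v M12 hM hx _ _ (row_single T v _ hz hp) (col_single T v _ hz hq)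
        ![12, 7, 14, 5, 3, 6] (by decide +kernel)).elim
    · exact (leaf_falseP T hm2 v M12 hM hx _ _ (row_single T v _ hz hp) (col_single T v _ hz hq)
        ![12, 7, 14, 5, 3, 19] (by decide +kernel)).elim
  · rcases pair5 T (by norm_num) hm2 hne hi with
      ⟨hp, hq⟩ | ⟨hp, hq⟩ | ⟨hp, hq⟩ | ⟨hp, hq⟩ | ⟨hp, hq⟩
    · exact leaf_next T hm2 v M12 hM hx _ _ (row_single T v _ hz hp) (col_single T v _ hz hq)
        ![0, 1, 3, 2, 4, 5] M16 (by decide +kernel) (st16 T hm2)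
    · exact (leaf_falseP T hm2 v M12 hM hx _ _ (row_single T v _ hz hp) (col_single T v _ hz hq)
        ![39, 25, 19, 36, 12, 17] (by decide +kernel)).elim
    · exact (leaf_falseP T hm2 v M12 hM hx _ _ (row_single T v _ hz hp) (col_single T v _ hz hq)
        ![39, 25, 19, 36, 12, 35] (by decide +kernel)).elim
    · exact (leaf_falseP T hm2 v M12 hM hx _ _ (row_single T v _ hz hp) (col_single T v _ hz hq)
        ![12, 7, 5, 14, 3, 6] (by decide +kernel)).elim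
    · exact (leaf_falseP T hm2 v M12 hM hx _ _ (row_single T v _ hz hp) (col_single T v _ hz hq)
        ![12, 7, 5, 14, 3, 19] (by decide +kernel)).elim
  · rcases pair5 T (by norm_num) hm2 hne hi with
      ⟨hp, hq⟩ | ⟨hp, hq⟩ | ⟨hp, hq⟩ | ⟨hp, hq⟩ | ⟨hp, hq⟩
    · exact leaf_next T hm2 v M12 hM hx _ _ (row_single T v _ hz hp) (col_single T v _ hz hq)
        ![0, 1, 2, 3, 4, 5] M17 (by decide +kernel) (st17 T hm2)
    · exact (leaf_falseP T hm2 v M12 hM hx _ _ (row_single T v _ hz hp) (col_single T v _ hz hq)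
        ![2, 2, 1, 1, 2, 1] (by decide +kernel)).elim
    · exact (leaf_falseP T hm2 v M12 hM hx _ _ (row_single T v _ hz hp) (col_single T v _ hz hq)
        ![2, 2, 1, 1, 2, 2] (by decide +kernel)).elim
    · exact (leaf_falseP T hm2 v M12 hM hx _ _ (row_single T v _ hz hp) (col_single T v _ hz hq)
        ![11, 13, 5, 5, 17, 8] (by decide +kernel)).elim
    · exact (leaf_falseP T hm2 v M12 hM hx _ _ (row_single T v _ hz hp) (col_single T v _ hz hq)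
        ![11, 13, 5, 5, 17, 24] (by decide +kernel)).elim

def pc13 : Fin 5 → Fin 5 → Fin 6 → ℤ :=
  ![![![0, 0, 0, 0, 0, 0], ![1, 1, 0, 0, 0, 1], ![1, 0, 1, 0, 0, 1], ![1, 1, 0, 1, 0, 1], ![1, 0, 1, 0, 1, 1]], ![![1, 1, 0, 0, 0, 1], ![0, 0, 0, 0, 0, 0], ![1, 1, 1, 0, 0, 1], ![0, 1, 0, 1, 0, 1], ![1, 1, 1, 0, 1, 1]], ![![1, 0, 1, 0, 0, 1], ![1, 1, 1, 0, 0, 1], ![0, 0, 0, 0, 0, 0], ![1, 1, 1, 1, 0, 1], ![0, 0, 1, 0, 1, 1]], ![![1, 1, 0, 1, 0, 1], ![0, 1, 0, 1, 0, 1], ![1, 1, 1, 1, 0, 1], ![0, 0, 0, 0, 0, 0], ![1, 1, 1, 1, 1, 1]], ![![1, 0, 1, 0, 1, 1], ![1, 1, 1, 0, 1, 1], ![0, 0, 1, 0, 1, 1], ![1, 1, 1, 1, 1, 1], ![0, 0, 0, 0, 0, 0]]]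

theorem st13 (T : Models.NumericalType 7) (hm2 : ∀ i, T.IsMinusTwo i)
    (v : Fin 5 ↪ Fin 7) (hM : Knows T v M13) : Result T := by
  obtain ⟨x, hx, hcase⟩ := step_unique T hm2 v M13 hM (by norm_num) (by norm_num)
    (fun _ _ => false) pc13 (by decide +kernel)
    (fun _ _ _ h => (Bool.false_ne_true h).elim)
  rcases hcase with ⟨i, hi, hz⟩ | ⟨i, l, hex, -⟩
  swap
  · exact (Bool.false_ne_true hex).elim
  have hne := ne_of_not_range v hx i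
  fin_cases i
  · rcases pair5 T (by norm_num) hm2 hne hi with
      ⟨hp, hq⟩ | ⟨hp, hq⟩ | ⟨hp, hq⟩ | ⟨hp, hq⟩ | ⟨hp, hq⟩
    · exact leaf_next T hm2 v M13 hM hx _ _ (row_single T v _ hz hp) (col_single T v _ hz hq)
        ![0, 1, 2, 5, 3, 4] M16 (by decide +kernel) (st16 T hm2)
    · exact (leaf_falseP T hm2 v M13 hM hx _ _ (row_single T v _ hz hp) (col_single T v _ hz hq)
        ![18, 11, 11, 5, 5, 8] (by decide +kernel)).elim
    · exact (leaf_falseP T hm2 v M13 hM hx _ _ (row_single T v _ hz hp) (col_single T v _ hz hq)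
        ![18, 11, 11, 5, 5, 17] (by decide +kernel)).elim
    · exact (leaf_falseP T hm2 v M13 hM hx _ _ (row_single T v _ hz hp) (col_single T v _ hz hq)
        ![9, 5, 5, 2, 2, 4] (by decide +kernel)).elim
    · exact (leaf_falseP T hm2 v M13 hM hx _ _ (row_single T v _ hz hp) (col_single T v _ hz hq)
        ![9, 5, 5, 2, 2, 11] (by decide +kernel)).elim
  · rcases pair5 T (by norm_num) hm2 hne hi with
      ⟨hp, hq⟩ | ⟨hp, hq⟩ | ⟨hp, hq⟩ | ⟨hp, hq⟩ | ⟨hp, hq⟩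
    · exact leaf_next T hm2 v M13 hM hx _ _ (row_single T v _ hz hp) (col_single T v _ hz hq)
        ![1, 0, 3, 5, 2, 4] M17 (by decide +kernel) (st17 T hm2)
    · exact (leaf_falseP T hm2 v M13 hM hx _ _ (row_single T v _ hz hp) (col_single T v _ hz hq)
        ![24, 36, 15, 17, 7, 17] (by decide +kernel)).elim
    · exact (leaf_falseP T hm2 v M13 hM hx _ _ (row_single T v _ hz hp) (col_single T v _ hz hq)
        ![24, 36, 15, 17, 7, 34] (by decide +kernel)).elim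
    · exact (leaf_falseP T hm2 v M13 hM hx _ _ (row_single T v _ hz hp) (col_single T v _ hz hq)
        ![9, 15, 5, 7, 2, 7] (by decide +kernel)).elim
    · exact (leaf_falseP T hm2 v M13 hM hx _ _ (row_single T v _ hz hp) (col_single T v _ hz hq)
        ![9, 15, 5, 7, 2, 20] (by decide +kernel)).elim
  · rcases pair5 T (by norm_num) hm2 hne hi with
      ⟨hp, hq⟩ | ⟨hp, hq⟩ | ⟨hp, hq⟩ | ⟨hp, hq⟩ | ⟨hp, hq⟩
    · exact leaf_next T hm2 v M13 hM hx _ _ (row_single T v _ hz hp) (col_single T v _ hz hq)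
        ![2, 0, 4, 5, 1, 3] M17 (by decide +kernel) (st17 T hm2)
    · exact (leaf_falseP T hm2 v M13 hM hx _ _ (row_single T v _ hz hp) (col_single T v _ hz hq)
        ![24, 15, 36, 7, 17, 17] (by decide +kernel)).elim
    · exact (leaf_falseP T hm2 v M13 hM hx _ _ (row_single T v _ hz hp) (col_single T v _ hz hq)
        ![24, 15, 36, 7, 17, 34] (by decide +kernel)).elim
    · exact (leaf_falseP T hm2 v M13 hM hx _ _ (row_single T v _ hz hp) (col_single T v _ hz hq)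
        ![9, 5, 15, 2, 7, 7] (by decide +kernel)).elim
    · exact (leaf_falseP T hm2 v M13 hM hx _ _ (row_single T v _ hz hp) (col_single T v _ hz hq)
        ![9, 5, 15, 2, 7, 20] (by decide +kernel)).elim
  · rcases pair5 T (by norm_num) hm2 hne hi with
      ⟨hp, hq⟩ | ⟨hp, hq⟩ | ⟨hp, hq⟩ | ⟨hp, hq⟩ | ⟨hp, hq⟩
    · exact leaf_next T hm2 v M13 hM hx _ _ (row_single T v _ hz hp) (col_single T v _ hz hq)
        ![0, 1, 2, 3, 4, 5] M18 (by decide +kernel) (st18 T hm2)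
    · exact leaf_next T hm2 v M13 hM hx _ _ (row_single T v _ hz hp) (col_single T v _ hz hq)
        ![0, 1, 2, 3, 4, 5] M19 (by decide +kernel) (st19 T hm2)
    · exact leaf_next T hm2 v M13 hM hx _ _ (row_single T v _ hz hp) (col_single T v _ hz hq)
        ![0, 1, 2, 3, 4, 5] M20 (by decide +kernel) (st20 T hm2)
    · exact (leaf_falseP T hm2 v M13 hM hx _ _ (row_single T v _ hz hp) (col_single T v _ hz hq)
        ![21, 31, 13, 45, 6, 21] (by decide +kernel)).elim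
    · exact (leaf_falseP T hm2 v M13 hM hx _ _ (row_single T v _ hz hp) (col_single T v _ hz hq)
        ![21, 31, 13, 45, 6, 64] (by decide +kernel)).elim
  · rcases pair5 T (by norm_num) hm2 hne hi with
      ⟨hp, hq⟩ | ⟨hp, hq⟩ | ⟨hp, hq⟩ | ⟨hp, hq⟩ | ⟨hp, hq⟩
    · exact leaf_next T hm2 v M13 hM hx _ _ (row_single T v _ hz hp) (col_single T v _ hz hq)
        ![0, 2, 1, 4, 3, 5] M18 (by decide +kernel) (st18 T hm2)
    · exact leaf_next T hm2 v M13 hM hx _ _ (row_single T v _ hz hp) (col_single T v _ hz hq)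
        ![0, 2, 1, 4, 3, 5] M19 (by decide +kernel) (st19 T hm2)
    · exact leaf_next T hm2 v M13 hM hx _ _ (row_single T v _ hz hp) (col_single T v _ hz hq)
        ![0, 2, 1, 4, 3, 5] M20 (by decide +kernel) (st20 T hm2)
    · exact (leaf_falseP T hm2 v M13 hM hx _ _ (row_single T v _ hz hp) (col_single T v _ hz hq)
        ![21, 13, 31, 6, 45, 21] (by decide +kernel)).elim
    · exact (leaf_falseP T hm2 v M13 hM hx _ _ (row_single T v _ hz hp) (col_single T v _ hz hq)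
        ![21, 13, 31, 6, 45, 64] (by decide +kernel)).elim

def pc14 : Fin 5 → Fin 5 → Fin 6 → ℤ :=
  ![![![0, 0, 0, 0, 0, 0], ![1, 1, 0, 0, 0, 1], ![1, 0, 1, 0, 0, 1], ![1, 1, 0, 1, 0, 1], ![1, 0, 1, 0, 1, 1]], ![![1, 1, 0, 0, 0, 1], ![0, 0, 0, 0, 0, 0], ![1, 1, 1, 0, 0, 1], ![0, 1, 0, 1, 0, 1], ![1, 1, 1, 0, 1, 1]], ![![1, 0, 1, 0, 0, 1], ![1, 1, 1, 0, 0, 1], ![0, 0, 0, 0, 0, 0], ![1, 1, 1, 1, 0, 1], ![0, 0, 1, 0, 1, 1]], ![![1, 1, 0, 1, 0, 1], ![0, 1, 0, 1, 0, 1], ![1, 1, 1, 1, 0, 1], ![0, 0, 0, 0, 0, 0], ![1, 1, 1, 1, 1, 1]], ![![1, 0, 1, 0, 1, 1], ![1, 1, 1, 0, 1, 1], ![0, 0, 1, 0, 1, 1], ![1, 1, 1, 1, 1, 1], ![0, 0, 0, 0, 0, 0]]]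

theorem st14 (T : Models.NumericalType 7) (hm2 : ∀ i, T.IsMinusTwo i)
    (v : Fin 5 ↪ Fin 7) (hM : Knows T v M14) : Result T := by
  obtain ⟨x, hx, hcase⟩ := step_unique T hm2 v M14 hM (by norm_num) (by norm_num)
    (fun _ _ => false) pc14 (by decide +kernel)
    (fun _ _ _ h => (Bool.false_ne_true h).elim)
  rcases hcase with ⟨i, hi, hz⟩ | ⟨i, l, hex, -⟩
  swap
  · exact (Bool.false_ne_true hex).elim
  have hne := ne_of_not_range v hx i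
  fin_cases i
  · rcases pair5 T (by norm_num) hm2 hne hi with
      ⟨hp, hq⟩ | ⟨hp, hq⟩ | ⟨hp, hq⟩ | ⟨hp, hq⟩ | ⟨hp, hq⟩
    · exact (leaf_falseP T hm2 v M14 hM hx _ _ (row_single T v _ hz hp) (col_single T v _ hz hq)
        ![39, 25, 36, 12, 17, 19] (by decide +kernel)).elim
    · exact (leaf_falseP T hm2 v M14 hM hx _ _ (row_single T v _ hz hp) (col_single T v _ hz hq)
        ![12, 7, 9, 3, 4, 5] (by decide +kernel)).elim
    · exact (leaf_falseP T hm2 v M14 hM hx _ _ (row_single T v _ hz hp) (col_single T v _ hz hq)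
        ![12, 7, 9, 3, 4, 11] (by decide +kernel)).elim
    · exact (leaf_falseP T hm2 v M14 hM hx _ _ (row_single T v _ hz hp) (col_single T v _ hz hq)
        ![14, 7, 9, 3, 4, 6] (by decide +kernel)).elim
    · exact (leaf_falseP T hm2 v M14 hM hx _ _ (row_single T v _ hz hp) (col_single T v _ hz hq)
        ![14, 7, 9, 3, 4, 18] (by decide +kernel)).elim
  · rcases pair5 T (by norm_num) hm2 hne hi with
      ⟨hp, hq⟩ | ⟨hp, hq⟩ | ⟨hp, hq⟩ | ⟨hp, hq⟩ | ⟨hp, hq⟩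
    · exact (leaf_falseP T hm2 v M14 hM hx _ _ (row_single T v _ hz hp) (col_single T v _ hz hq)
        ![2, 2, 2, 1, 1, 1] (by decide +kernel)).elim
    · exact (leaf_falseP T hm2 v M14 hM hx _ _ (row_single T v _ hz hp) (col_single T v _ hz hq)
        ![13, 17, 11, 8, 5, 8] (by decide +kernel)).elim
    · exact (leaf_falseP T hm2 v M14 hM hx _ _ (row_single T v _ hz hp) (col_single T v _ hz hq)
        ![13, 17, 11, 8, 5, 16] (by decide +kernel)).elim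
    · exact (leaf_falseP T hm2 v M14 hM hx _ _ (row_single T v _ hz hp) (col_single T v _ hz hq)
        ![7, 11, 5, 5, 2, 5] (by decide +kernel)).elim
    · exact (leaf_falseP T hm2 v M14 hM hx _ _ (row_single T v _ hz hp) (col_single T v _ hz hq)
        ![7, 11, 5, 5, 2, 14] (by decide +kernel)).elim
  · rcases pair5 T (by norm_num) hm2 hne hi with
      ⟨hp, hq⟩ | ⟨hp, hq⟩ | ⟨hp, hq⟩ | ⟨hp, hq⟩ | ⟨hp, hq⟩
    · exact (leaf_falseP T hm2 v M14 hM hx _ _ (row_single T v _ hz hp) (col_single T v _ hz hq)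
        ![24, 15, 36, 7, 17, 17] (by decide +kernel)).elim
    · exact (leaf_falseP T hm2 v M14 hM hx _ _ (row_single T v _ hz hp) (col_single T v _ hz hq)
        ![9, 5, 15, 2, 7, 7] (by decide +kernel)).elim
    · exact (leaf_falseP T hm2 v M14 hM hx _ _ (row_single T v _ hz hp) (col_single T v _ hz hq)
        ![9, 5, 15, 2, 7, 13] (by decide +kernel)).elim
    · exact (leaf_falseP T hm2 v M14 hM hx _ _ (row_single T v _ hz hp) (col_single T v _ hz hq)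
        ![10, 5, 21, 2, 8, 8] (by decide +kernel)).elim
    · exact (leaf_falseP T hm2 v M14 hM hx _ _ (row_single T v _ hz hp) (col_single T v _ hz hq)
        ![10, 5, 21, 2, 8, 25] (by decide +kernel)).elim
  · rcases pair5 T (by norm_num) hm2 hne hi with
      ⟨hp, hq⟩ | ⟨hp, hq⟩ | ⟨hp, hq⟩ | ⟨hp, hq⟩ | ⟨hp, hq⟩
    · exact leaf_next T hm2 v M14 hM hx _ _ (row_single T v _ hz hp) (col_single T v _ hz hq)
        ![1, 0, 3, 2, 5, 4] M19 (by decide +kernel) (st19 T hm2)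
    · exact (leaf_falseP T hm2 v M14 hM hx _ _ (row_single T v _ hz hp) (col_single T v _ hz hq)
        ![2, 2, 2, 2, 1, 1] (by decide +kernel)).elim
    · exact (leaf_falseP T hm2 v M14 hM hx _ _ (row_single T v _ hz hp) (col_single T v _ hz hq)
        ![2, 2, 2, 2, 1, 2] (by decide +kernel)).elim
    · exact (leaf_falseP T hm2 v M14 hM hx _ _ (row_single T v _ hz hp) (col_single T v _ hz hq)
        ![13, 17, 11, 23, 5, 11] (by decide +kernel)).elim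
    · exact (leaf_falseP T hm2 v M14 hM hx _ _ (row_single T v _ hz hp) (col_single T v _ hz hq)
        ![13, 17, 11, 23, 5, 32] (by decide +kernel)).elim
  · rcases pair5 T (by norm_num) hm2 hne hi with
      ⟨hp, hq⟩ | ⟨hp, hq⟩ | ⟨hp, hq⟩ | ⟨hp, hq⟩ | ⟨hp, hq⟩
    · exact (leaf_falseP T hm2 v M14 hM hx _ _ (row_single T v _ hz hp) (col_single T v _ hz hq)
        ![69, 45, 94, 22, 61, 30] (by decide +kernel)).elim
    · exact (leaf_falseP T hm2 v M14 hM hx _ _ (row_single T v _ hz hp) (col_single T v _ hz hq)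
        ![15, 9, 24, 4, 19, 9] (by decide +kernel)).elim
    · exact (leaf_falseP T hm2 v M14 hM hx _ _ (row_single T v _ hz hp) (col_single T v _ hz hq)
        ![15, 9, 24, 4, 19, 18] (by decide +kernel)).elim
    · exact (leaf_falseP T hm2 v M14 hM hx _ _ (row_single T v _ hz hp) (col_single T v _ hz hq)
        ![9, 5, 17, 2, 15, 7] (by decide +kernel)).elim
    · exact (leaf_falseP T hm2 v M14 hM hx _ _ (row_single T v _ hz hp) (col_single T v _ hz hq)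
        ![9, 5, 17, 2, 15, 20] (by decide +kernel)).elim

def pc15 : Fin 5 → Fin 5 → Fin 6 → ℤ :=
  ![![![0, 0, 0, 0, 0, 0], ![1, 1, 0, 0, 0, 1], ![1, 0, 1, 0, 0, 1], ![1, 1, 0, 1, 0, 1], ![1, 0, 1, 0, 1, 1]], ![![1, 1, 0, 0, 0, 1], ![0, 0, 0, 0, 0, 0], ![1, 1, 1, 0, 0, 1], ![0, 1, 0, 1, 0, 1], ![1, 1, 1, 0, 1, 1]], ![![1, 0, 1, 0, 0, 1], ![1, 1, 1, 0, 0, 1], ![0, 0, 0, 0, 0, 0], ![1, 1, 1, 1, 0, 1], ![0, 0, 1, 0, 1, 1]], ![![1, 1, 0, 1, 0, 1], ![0, 1, 0, 1, 0, 1], ![1, 1, 1, 1, 0, 1], ![0, 0, 0, 0, 0, 0], ![1, 1, 1, 1, 1, 1]], ![![1, 0, 1, 0, 1, 1], ![1, 1, 1, 0, 1, 1], ![0, 0, 1, 0, 1, 1], ![1, 1, 1, 1, 1, 1], ![0, 0, 0, 0, 0, 0]]]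

theorem st15 (T : Models.NumericalType 7) (hm2 : ∀ i, T.IsMinusTwo i)
    (v : Fin 5 ↪ Fin 7) (hM : Knows T v M15) : Result T := by
  obtain ⟨x, hx, hcase⟩ := step_unique T hm2 v M15 hM (by norm_num) (by norm_num)
    (fun _ _ => false) pc15 (by decide +kernel)
    (fun _ _ _ h => (Bool.false_ne_true h).elim)
  rcases hcase with ⟨i, hi, hz⟩ | ⟨i, l, hex, -⟩
  swap
  · exact (Bool.false_ne_true hex).elim
  have hne := ne_of_not_range v hx i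
  fin_cases i
  · rcases pair5 T (by norm_num) hm2 hne hi with
      ⟨hp, hq⟩ | ⟨hp, hq⟩ | ⟨hp, hq⟩ | ⟨hp, hq⟩ | ⟨hp, hq⟩
    · exact (leaf_falseP T hm2 v M15 hM hx _ _ (row_single T v _ hz hp) (col_single T v _ hz hq)
        ![39, 25, 36, 12, 35, 19] (by decide +kernel)).elim
    · exact (leaf_falseP T hm2 v M15 hM hx _ _ (row_single T v _ hz hp) (col_single T v _ hz hq)
        ![12, 7, 9, 3, 8, 5] (by decide +kernel)).elim
    · exact (leaf_falseP T hm2 v M15 hM hx _ _ (row_single T v _ hz hp) (col_single T v _ hz hq)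
        ![12, 7, 9, 3, 8, 11] (by decide +kernel)).elim
    · exact (leaf_falseP T hm2 v M15 hM hx _ _ (row_single T v _ hz hp) (col_single T v _ hz hq)
        ![9, 5, 6, 2, 5, 4] (by decide +kernel)).elim
    · exact (leaf_falseP T hm2 v M15 hM hx _ _ (row_single T v _ hz hp) (col_single T v _ hz hq)
        ![9, 5, 6, 2, 5, 12] (by decide +kernel)).elim
  · rcases pair5 T (by norm_num) hm2 hne hi with
      ⟨hp, hq⟩ | ⟨hp, hq⟩ | ⟨hp, hq⟩ | ⟨hp, hq⟩ | ⟨hp, hq⟩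
    · exact (leaf_falseP T hm2 v M15 hM hx _ _ (row_single T v _ hz hp) (col_single T v _ hz hq)
        ![2, 2, 2, 1, 2, 1] (by decide +kernel)).elim
    · exact (leaf_falseP T hm2 v M15 hM hx _ _ (row_single T v _ hz hp) (col_single T v _ hz hq)
        ![10, 13, 8, 6, 7, 6] (by decide +kernel)).elim
    · exact (leaf_falseP T hm2 v M15 hM hx _ _ (row_single T v _ hz hp) (col_single T v _ hz hq)
        ![10, 13, 8, 6, 7, 12] (by decide +kernel)).elim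
    · exact (leaf_falseP T hm2 v M15 hM hx _ _ (row_single T v _ hz hp) (col_single T v _ hz hq)
        ![7, 11, 5, 5, 4, 5] (by decide +kernel)).elim
    · exact (leaf_falseP T hm2 v M15 hM hx _ _ (row_single T v _ hz hp) (col_single T v _ hz hq)
        ![7, 11, 5, 5, 4, 14] (by decide +kernel)).elim
  · rcases pair5 T (by norm_num) hm2 hne hi with
      ⟨hp, hq⟩ | ⟨hp, hq⟩ | ⟨hp, hq⟩ | ⟨hp, hq⟩ | ⟨hp, hq⟩
    · exact (leaf_falseP T hm2 v M15 hM hx _ _ (row_single T v _ hz hp) (col_single T v _ hz hq)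
        ![24, 15, 36, 7, 34, 17] (by decide +kernel)).elim
    · exact (leaf_falseP T hm2 v M15 hM hx _ _ (row_single T v _ hz hp) (col_single T v _ hz hq)
        ![9, 5, 15, 2, 13, 7] (by decide +kernel)).elim
    · exact (leaf_falseP T hm2 v M15 hM hx _ _ (row_single T v _ hz hp) (col_single T v _ hz hq)
        ![9, 5, 15, 2, 13, 13] (by decide +kernel)).elim
    · exact (leaf_falseP T hm2 v M15 hM hx _ _ (row_single T v _ hz hp) (col_single T v _ hz hq)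
        ![10, 5, 21, 2, 17, 8] (by decide +kernel)).elim
    · exact (leaf_falseP T hm2 v M15 hM hx _ _ (row_single T v _ hz hp) (col_single T v _ hz hq)
        ![10, 5, 21, 2, 17, 25] (by decide +kernel)).elim
  · rcases pair5 T (by norm_num) hm2 hne hi with
      ⟨hp, hq⟩ | ⟨hp, hq⟩ | ⟨hp, hq⟩ | ⟨hp, hq⟩ | ⟨hp, hq⟩
    · exact leaf_next T hm2 v M15 hM hx _ _ (row_single T v _ hz hp) (col_single T v _ hz hq)
        ![1, 0, 3, 2, 5, 4] M20 (by decide +kernel) (st20 T hm2)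
    · exact (leaf_falseP T hm2 v M15 hM hx _ _ (row_single T v _ hz hp) (col_single T v _ hz hq)
        ![2, 2, 2, 2, 2, 1] (by decide +kernel)).elim
    · exact (leaf_falseP T hm2 v M15 hM hx _ _ (row_single T v _ hz hp) (col_single T v _ hz hq)
        ![1, 1, 1, 1, 1, 1] (by decide +kernel)).elim
    · exact (leaf_falseP T hm2 v M15 hM hx _ _ (row_single T v _ hz hp) (col_single T v _ hz hq)
        ![12, 15, 10, 21, 9, 10] (by decide +kernel)).elim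
    · exact (leaf_falseP T hm2 v M15 hM hx _ _ (row_single T v _ hz hp) (col_single T v _ hz hq)
        ![12, 15, 10, 21, 9, 29] (by decide +kernel)).elim
  · rcases pair5 T (by norm_num) hm2 hne hi with
      ⟨hp, hq⟩ | ⟨hp, hq⟩ | ⟨hp, hq⟩ | ⟨hp, hq⟩ | ⟨hp, hq⟩
    · exact (leaf_falseP T hm2 v M15 hM hx _ _ (row_single T v _ hz hp) (col_single T v _ hz hq)
        ![69, 45, 94, 22, 123, 61] (by decide +kernel)).elim
    · exact (leaf_falseP T hm2 v M15 hM hx _ _ (row_single T v _ hz hp) (col_single T v _ hz hq)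
        ![15, 9, 24, 4, 38, 18] (by decide +kernel)).elim
    · exact (leaf_falseP T hm2 v M15 hM hx _ _ (row_single T v _ hz hp) (col_single T v _ hz hq)
        ![15, 9, 24, 4, 38, 35] (by decide +kernel)).elim
    · exact (leaf_falseP T hm2 v M15 hM hx _ _ (row_single T v _ hz hp) (col_single T v _ hz hq)
        ![9, 5, 17, 2, 31, 13] (by decide +kernel)).elim
    · exact (leaf_falseP T hm2 v M15 hM hx _ _ (row_single T v _ hz hp) (col_single T v _ hz hq)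
        ![9, 5, 17, 2, 31, 39] (by decide +kernel)).elim

def pc7 : Fin 4 → Fin 4 → Fin 5 → ℤ :=
  ![![![0, 0, 0, 0, 0], ![1, 1, 0, 0, 1], ![1, 0, 1, 0, 1], ![1, 0, 0, 1, 1]], ![![1, 1, 0, 0, 1], ![0, 0, 0, 0, 0], ![1, 1, 1, 0, 1], ![1, 1, 0, 1, 1]], ![![1, 0, 1, 0, 1], ![1, 1, 1, 0, 1], ![0, 0, 0, 0, 0], ![1, 0, 1, 1, 1]], ![![1, 0, 0, 1, 1], ![1, 1, 0, 1, 1], ![1, 0, 1, 1, 1], ![0, 0, 0, 0, 0]]]

theorem st7 (T : Models.NumericalType 7) (hm2 : ∀ i, T.IsMinusTwo i)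
    (v : Fin 4 ↪ Fin 7) (hM : Knows T v M7) : Result T := by
  obtain ⟨x, hx, hcase⟩ := step_unique T hm2 v M7 hM (by norm_num) (by norm_num)
    (fun _ _ => false) pc7 (by decide +kernel)
    (fun _ _ _ h => (Bool.false_ne_true h).elim)
  rcases hcase with ⟨i, hi, hz⟩ | ⟨i, l, hex, -⟩
  swap
  · exact (Bool.false_ne_true hex).elim
  have hne := ne_of_not_range v hx i
  fin_cases i
  · rcases pair5 T (by norm_num) hm2 hne hi with
      ⟨hp, hq⟩ | ⟨hp, hq⟩ | ⟨hp, hq⟩ | ⟨hp, hq⟩ | ⟨hp, hq⟩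
    · exact (leaf_falseP T hm2 v M7 hM hx _ _ (row_single T v _ hz hp) (col_single T v _ hz hq)
        ![2, 1, 1, 1, 1] (by decide +kernel)).elim
    · exact (leaf_falseP T hm2 v M7 hM hx _ _ (row_single T v _ hz hp) (col_single T v _ hz hq)
        ![7, 3, 3, 3, 3] (by decide +kernel)).elim
    · exact (leaf_falseP T hm2 v M7 hM hx _ _ (row_single T v _ hz hp) (col_single T v _ hz hq)
        ![7, 3, 3, 3, 6] (by decide +kernel)).elim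
    · exact (leaf_falseP T hm2 v M7 hM hx _ _ (row_single T v _ hz hp) (col_single T v _ hz hq)
        ![5, 2, 2, 2, 2] (by decide +kernel)).elim
    · exact (leaf_falseP T hm2 v M7 hM hx _ _ (row_single T v _ hz hp) (col_single T v _ hz hq)
        ![5, 2, 2, 2, 6] (by decide +kernel)).elim
  · rcases pair5 T (by norm_num) hm2 hne hi with
      ⟨hp, hq⟩ | ⟨hp, hq⟩ | ⟨hp, hq⟩ | ⟨hp, hq⟩ | ⟨hp, hq⟩
    · exact leaf_next T hm2 v M7 hM hx _ _ (row_single T v _ hz hp) (col_single T v _ hz hq)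
        ![0, 1, 2, 3, 4] M12 (by decide +kernel) (st12 T hm2)
    · exact (leaf_falseP T hm2 v M7 hM hx _ _ (row_single T v _ hz hp) (col_single T v _ hz hq)
        ![2, 2, 1, 1, 1] (by decide +kernel)).elim
    · exact (leaf_falseP T hm2 v M7 hM hx _ _ (row_single T v _ hz hp) (col_single T v _ hz hq)
        ![2, 2, 1, 1, 2] (by decide +kernel)).elim
    · exact (leaf_falseP T hm2 v M7 hM hx _ _ (row_single T v _ hz hp) (col_single T v _ hz hq)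
        ![9, 11, 4, 4, 5] (by decide +kernel)).elim
    · exact (leaf_falseP T hm2 v M7 hM hx _ _ (row_single T v _ hz hp) (col_single T v _ hz hq)
        ![9, 11, 4, 4, 15] (by decide +kernel)).elim
  · rcases pair5 T (by norm_num) hm2 hne hi with
      ⟨hp, hq⟩ | ⟨hp, hq⟩ | ⟨hp, hq⟩ | ⟨hp, hq⟩ | ⟨hp, hq⟩
    · exact leaf_next T hm2 v M7 hM hx _ _ (row_single T v _ hz hp) (col_single T v _ hz hq)
        ![0, 2, 1, 3, 4] M12 (by decide +kernel) (st12 T hm2)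
    · exact (leaf_falseP T hm2 v M7 hM hx _ _ (row_single T v _ hz hp) (col_single T v _ hz hq)
        ![2, 1, 2, 1, 1] (by decide +kernel)).elim
    · exact (leaf_falseP T hm2 v M7 hM hx _ _ (row_single T v _ hz hp) (col_single T v _ hz hq)
        ![2, 1, 2, 1, 2] (by decide +kernel)).elim
    · exact (leaf_falseP T hm2 v M7 hM hx _ _ (row_single T v _ hz hp) (col_single T v _ hz hq)
        ![9, 4, 11, 4, 5] (by decide +kernel)).elim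
    · exact (leaf_falseP T hm2 v M7 hM hx _ _ (row_single T v _ hz hp) (col_single T v _ hz hq)
        ![9, 4, 11, 4, 15] (by decide +kernel)).elim
  · rcases pair5 T (by norm_num) hm2 hne hi with
      ⟨hp, hq⟩ | ⟨hp, hq⟩ | ⟨hp, hq⟩ | ⟨hp, hq⟩ | ⟨hp, hq⟩
    · exact leaf_next T hm2 v M7 hM hx _ _ (row_single T v _ hz hp) (col_single T v _ hz hq)
        ![0, 3, 1, 2, 4] M12 (by decide +kernel) (st12 T hm2)
    · exact (leaf_falseP T hm2 v M7 hM hx _ _ (row_single T v _ hz hp) (col_single T v _ hz hq)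
        ![2, 1, 1, 2, 1] (by decide +kernel)).elim
    · exact (leaf_falseP T hm2 v M7 hM hx _ _ (row_single T v _ hz hp) (col_single T v _ hz hq)
        ![2, 1, 1, 2, 2] (by decide +kernel)).elim
    · exact (leaf_falseP T hm2 v M7 hM hx _ _ (row_single T v _ hz hp) (col_single T v _ hz hq)
        ![9, 4, 4, 11, 5] (by decide +kernel)).elim
    · exact (leaf_falseP T hm2 v M7 hM hx _ _ (row_single T v _ hz hp) (col_single T v _ hz hq)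
        ![9, 4, 4, 11, 15] (by decide +kernel)).elim

def pc8 : Fin 4 → Fin 4 → Fin 5 → ℤ :=
  ![![![0, 0, 0, 0, 0], ![1, 1, 0, 0, 1], ![1, 0, 1, 0, 1], ![1, 1, 0, 1, 1]], ![![1, 1, 0, 0, 1], ![0, 0, 0, 0, 0], ![1, 1, 1, 0, 1], ![0, 1, 0, 1, 1]], ![![1, 0, 1, 0, 1], ![1, 1, 1, 0, 1], ![0, 0, 0, 0, 0], ![1, 1, 1, 1, 1]], ![![1, 1, 0, 1, 1], ![0, 1, 0, 1, 1], ![1, 1, 1, 1, 1], ![0, 0, 0, 0, 0]]]

theorem st8 (T : Models.NumericalType 7) (hm2 : ∀ i, T.IsMinusTwo i)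
    (v : Fin 4 ↪ Fin 7) (hM : Knows T v M8) : Result T := by
  obtain ⟨x, hx, hcase⟩ := step_unique T hm2 v M8 hM (by norm_num) (by norm_num)
    (fun _ _ => false) pc8 (by decide +kernel)
    (fun _ _ _ h => (Bool.false_ne_true h).elim)
  rcases hcase with ⟨i, hi, hz⟩ | ⟨i, l, hex, -⟩
  swap
  · exact (Bool.false_ne_true hex).elim
  have hne := ne_of_not_range v hx i
  fin_cases i
  · rcases pair5 T (by norm_num) hm2 hne hi with
      ⟨hp, hq⟩ | ⟨hp, hq⟩ | ⟨hp, hq⟩ | ⟨hp, hq⟩ | ⟨hp, hq⟩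
    · exact leaf_next T hm2 v M8 hM hx _ _ (row_single T v _ hz hp) (col_single T v _ hz hq)
        ![0, 1, 2, 4, 3] M12 (by decide +kernel) (st12 T hm2)
    · exact (leaf_falseP T hm2 v M8 hM hx _ _ (row_single T v _ hz hp) (col_single T v _ hz hq)
        ![30, 19, 14, 9, 14] (by decide +kernel)).elim
    · exact (leaf_falseP T hm2 v M8 hM hx _ _ (row_single T v _ hz hp) (col_single T v _ hz hq)
        ![30, 19, 14, 9, 29] (by decide +kernel)).elim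
    · exact (leaf_falseP T hm2 v M8 hM hx _ _ (row_single T v _ hz hp) (col_single T v _ hz hq)
        ![13, 7, 6, 3, 6] (by decide +kernel)).elim
    · exact (leaf_falseP T hm2 v M8 hM hx _ _ (row_single T v _ hz hp) (col_single T v _ hz hq)
        ![13, 7, 6, 3, 17] (by decide +kernel)).elim
  · rcases pair5 T (by norm_num) hm2 hne hi with
      ⟨hp, hq⟩ | ⟨hp, hq⟩ | ⟨hp, hq⟩ | ⟨hp, hq⟩ | ⟨hp, hq⟩
    · exact leaf_next T hm2 v M8 hM hx _ _ (row_single T v _ hz hp) (col_single T v _ hz hq)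
        ![1, 0, 3, 4, 2] M12 (by decide +kernel) (st12 T hm2)
    · exact (leaf_falseP T hm2 v M8 hM hx _ _ (row_single T v _ hz hp) (col_single T v _ hz hq)
        ![19, 30, 9, 14, 14] (by decide +kernel)).elim
    · exact (leaf_falseP T hm2 v M8 hM hx _ _ (row_single T v _ hz hp) (col_single T v _ hz hq)
        ![19, 30, 9, 14, 29] (by decide +kernel)).elim
    · exact (leaf_falseP T hm2 v M8 hM hx _ _ (row_single T v _ hz hp) (col_single T v _ hz hq)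
        ![7, 13, 3, 6, 6] (by decide +kernel)).elim
    · exact (leaf_falseP T hm2 v M8 hM hx _ _ (row_single T v _ hz hp) (col_single T v _ hz hq)
        ![7, 13, 3, 6, 17] (by decide +kernel)).elim
  · rcases pair5 T (by norm_num) hm2 hne hi with
      ⟨hp, hq⟩ | ⟨hp, hq⟩ | ⟨hp, hq⟩ | ⟨hp, hq⟩ | ⟨hp, hq⟩
    · exact leaf_next T hm2 v M8 hM hx _ _ (row_single T v _ hz hp) (col_single T v _ hz hq)
        ![0, 1, 2, 3, 4] M13 (by decide +kernel) (st13 T hm2)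
    · exact leaf_next T hm2 v M8 hM hx _ _ (row_single T v _ hz hp) (col_single T v _ hz hq)
        ![0, 1, 2, 3, 4] M14 (by decide +kernel) (st14 T hm2)
    · exact leaf_next T hm2 v M8 hM hx _ _ (row_single T v _ hz hp) (col_single T v _ hz hq)
        ![0, 1, 2, 3, 4] M15 (by decide +kernel) (st15 T hm2)
    · exact (leaf_falseP T hm2 v M8 hM hx _ _ (row_single T v _ hz hp) (col_single T v _ hz hq)
        ![24, 15, 36, 7, 17] (by decide +kernel)).elim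
    · exact (leaf_falseP T hm2 v M8 hM hx _ _ (row_single T v _ hz hp) (col_single T v _ hz hq)
        ![24, 15, 36, 7, 51] (by decide +kernel)).elim
  · rcases pair5 T (by norm_num) hm2 hne hi with
      ⟨hp, hq⟩ | ⟨hp, hq⟩ | ⟨hp, hq⟩ | ⟨hp, hq⟩ | ⟨hp, hq⟩
    · exact leaf_next T hm2 v M8 hM hx _ _ (row_single T v _ hz hp) (col_single T v _ hz hq)
        ![1, 0, 3, 2, 4] M13 (by decide +kernel) (st13 T hm2)
    · exact leaf_next T hm2 v M8 hM hx _ _ (row_single T v _ hz hp) (col_single T v _ hz hq)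
        ![1, 0, 3, 2, 4] M14 (by decide +kernel) (st14 T hm2)
    · exact leaf_next T hm2 v M8 hM hx _ _ (row_single T v _ hz hp) (col_single T v _ hz hq)
        ![1, 0, 3, 2, 4] M15 (by decide +kernel) (st15 T hm2)
    · exact (leaf_falseP T hm2 v M8 hM hx _ _ (row_single T v _ hz hp) (col_single T v _ hz hq)
        ![15, 24, 7, 36, 17] (by decide +kernel)).elim
    · exact (leaf_falseP T hm2 v M8 hM hx _ _ (row_single T v _ hz hp) (col_single T v _ hz hq)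
        ![15, 24, 7, 36, 51] (by decide +kernel)).elim

def pc9 : Fin 4 → Fin 4 → Fin 5 → ℤ :=
  ![![![0, 0, 0, 0, 0], ![1, 1, 0, 0, 1], ![1, 0, 1, 0, 1], ![1, 1, 0, 1, 1]], ![![1, 1, 0, 0, 1], ![0, 0, 0, 0, 0], ![1, 1, 1, 0, 1], ![0, 1, 0, 1, 1]], ![![1, 0, 1, 0, 1], ![1, 1, 1, 0, 1], ![0, 0, 0, 0, 0], ![1, 1, 1, 1, 1]], ![![1, 1, 0, 1, 1], ![0, 1, 0, 1, 1], ![1, 1, 1, 1, 1], ![0, 0, 0, 0, 0]]]

theorem st9 (T : Models.NumericalType 7) (hm2 : ∀ i, T.IsMinusTwo i)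
    (v : Fin 4 ↪ Fin 7) (hM : Knows T v M9) : Result T := by
  obtain ⟨x, hx, hcase⟩ := step_unique T hm2 v M9 hM (by norm_num) (by norm_num)
    (fun _ _ => false) pc9 (by decide +kernel)
    (fun _ _ _ h => (Bool.false_ne_true h).elim)
  rcases hcase with ⟨i, hi, hz⟩ | ⟨i, l, hex, -⟩
  swap
  · exact (Bool.false_ne_true hex).elim
  have hne := ne_of_not_range v hx i
  fin_cases i
  · rcases pair5 T (by norm_num) hm2 hne hi with
      ⟨hp, hq⟩ | ⟨hp, hq⟩ | ⟨hp, hq⟩ | ⟨hp, hq⟩ | ⟨hp, hq⟩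
    · exact (leaf_falseP T hm2 v M9 hM hx _ _ (row_single T v _ hz hp) (col_single T v _ hz hq)
        ![2, 2, 1, 1, 1] (by decide +kernel)).elim
    · exact (leaf_falseP T hm2 v M9 hM hx _ _ (row_single T v _ hz hp) (col_single T v _ hz hq)
        ![11, 9, 5, 4, 5] (by decide +kernel)).elim
    · exact (leaf_falseP T hm2 v M9 hM hx _ _ (row_single T v _ hz hp) (col_single T v _ hz hq)
        ![11, 9, 5, 4, 10] (by decide +kernel)).elim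
    · exact (leaf_falseP T hm2 v M9 hM hx _ _ (row_single T v _ hz hp) (col_single T v _ hz hq)
        ![7, 5, 3, 2, 3] (by decide +kernel)).elim
    · exact (leaf_falseP T hm2 v M9 hM hx _ _ (row_single T v _ hz hp) (col_single T v _ hz hq)
        ![7, 5, 3, 2, 9] (by decide +kernel)).elim
  · rcases pair5 T (by norm_num) hm2 hne hi with
      ⟨hp, hq⟩ | ⟨hp, hq⟩ | ⟨hp, hq⟩ | ⟨hp, hq⟩ | ⟨hp, hq⟩
    · exact (leaf_falseP T hm2 v M9 hM hx _ _ (row_single T v _ hz hp) (col_single T v _ hz hq)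
        ![19, 30, 9, 14, 14] (by decide +kernel)).elim
    · exact (leaf_falseP T hm2 v M9 hM hx _ _ (row_single T v _ hz hp) (col_single T v _ hz hq)
        ![7, 13, 3, 6, 6] (by decide +kernel)).elim
    · exact (leaf_falseP T hm2 v M9 hM hx _ _ (row_single T v _ hz hp) (col_single T v _ hz hq)
        ![7, 13, 3, 6, 11] (by decide +kernel)).elim
    · exact (leaf_falseP T hm2 v M9 hM hx _ _ (row_single T v _ hz hp) (col_single T v _ hz hq)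
        ![5, 10, 2, 4, 4] (by decide +kernel)).elim
    · exact (leaf_falseP T hm2 v M9 hM hx _ _ (row_single T v _ hz hp) (col_single T v _ hz hq)
        ![5, 10, 2, 4, 13] (by decide +kernel)).elim
  · rcases pair5 T (by norm_num) hm2 hne hi with
      ⟨hp, hq⟩ | ⟨hp, hq⟩ | ⟨hp, hq⟩ | ⟨hp, hq⟩ | ⟨hp, hq⟩
    · exact leaf_next T hm2 v M9 hM hx _ _ (row_single T v _ hz hp) (col_single T v _ hz hq)
        ![0, 2, 1, 4, 3] M14 (by decide +kernel) (st14 T hm2)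
    · exact (leaf_falseP T hm2 v M9 hM hx _ _ (row_single T v _ hz hp) (col_single T v _ hz hq)
        ![2, 2, 2, 1, 1] (by decide +kernel)).elim
    · exact (leaf_falseP T hm2 v M9 hM hx _ _ (row_single T v _ hz hp) (col_single T v _ hz hq)
        ![2, 2, 2, 1, 2] (by decide +kernel)).elim
    · exact (leaf_falseP T hm2 v M9 hM hx _ _ (row_single T v _ hz hp) (col_single T v _ hz hq)
        ![13, 11, 17, 5, 8] (by decide +kernel)).elim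
    · exact (leaf_falseP T hm2 v M9 hM hx _ _ (row_single T v _ hz hp) (col_single T v _ hz hq)
        ![13, 11, 17, 5, 24] (by decide +kernel)).elim
  · rcases pair5 T (by norm_num) hm2 hne hi with
      ⟨hp, hq⟩ | ⟨hp, hq⟩ | ⟨hp, hq⟩ | ⟨hp, hq⟩ | ⟨hp, hq⟩
    · exact (leaf_falseP T hm2 v M9 hM hx _ _ (row_single T v _ hz hp) (col_single T v _ hz hq)
        ![2, 3, 1, 2, 1] (by decide +kernel)).elim
    · exact (leaf_falseP T hm2 v M9 hM hx _ _ (row_single T v _ hz hp) (col_single T v _ hz hq)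
        ![9, 15, 4, 12, 5] (by decide +kernel)).elim
    · exact (leaf_falseP T hm2 v M9 hM hx _ _ (row_single T v _ hz hp) (col_single T v _ hz hq)
        ![9, 15, 4, 12, 11] (by decide +kernel)).elim
    · exact (leaf_falseP T hm2 v M9 hM hx _ _ (row_single T v _ hz hp) (col_single T v _ hz hq)
        ![7, 14, 3, 13, 5] (by decide +kernel)).elim
    · exact (leaf_falseP T hm2 v M9 hM hx _ _ (row_single T v _ hz hp) (col_single T v _ hz hq)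
        ![5, 9, 2, 8, 11] (by decide +kernel)).elim

def pc10 : Fin 4 → Fin 4 → Fin 5 → ℤ :=
  ![![![0, 0, 0, 0, 0], ![1, 1, 0, 0, 1], ![1, 0, 1, 0, 1], ![1, 1, 0, 1, 1]], ![![1, 1, 0, 0, 1], ![0, 0, 0, 0, 0], ![1, 1, 1, 0, 1], ![0, 1, 0, 1, 1]], ![![1, 0, 1, 0, 1], ![1, 1, 1, 0, 1], ![0, 0, 0, 0, 0], ![1, 1, 1, 1, 1]], ![![1, 1, 0, 1, 1], ![0, 1, 0, 1, 1], ![1, 1, 1, 1, 1], ![0, 0, 0, 0, 0]]]

theorem st10 (T : Models.NumericalType 7) (hm2 : ∀ i, T.IsMinusTwo i)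
    (v : Fin 4 ↪ Fin 7) (hM : Knows T v M10) : Result T := by
  obtain ⟨x, hx, hcase⟩ := step_unique T hm2 v M10 hM (by norm_num) (by norm_num)
    (fun _ _ => false) pc10 (by decide +kernel)
    (fun _ _ _ h => (Bool.false_ne_true h).elim)
  rcases hcase with ⟨i, hi, hz⟩ | ⟨i, l, hex, -⟩
  swap
  · exact (Bool.false_ne_true hex).elim
  have hne := ne_of_not_range v hx i
  fin_cases i
  · rcases pair5 T (by norm_num) hm2 hne hi with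
      ⟨hp, hq⟩ | ⟨hp, hq⟩ | ⟨hp, hq⟩ | ⟨hp, hq⟩ | ⟨hp, hq⟩
    · exact (leaf_falseP T hm2 v M10 hM hx _ _ (row_single T v _ hz hp) (col_single T v _ hz hq)
        ![2, 2, 1, 2, 1] (by decide +kernel)).elim
    · exact (leaf_falseP T hm2 v M10 hM hx _ _ (row_single T v _ hz hp) (col_single T v _ hz hq)
        ![9, 7, 4, 6, 4] (by decide +kernel)).elim
    · exact (leaf_falseP T hm2 v M10 hM hx _ _ (row_single T v _ hz hp) (col_single T v _ hz hq)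
        ![9, 7, 4, 6, 8] (by decide +kernel)).elim
    · exact (leaf_falseP T hm2 v M10 hM hx _ _ (row_single T v _ hz hp) (col_single T v _ hz hq)
        ![7, 5, 3, 4, 3] (by decide +kernel)).elim
    · exact (leaf_falseP T hm2 v M10 hM hx _ _ (row_single T v _ hz hp) (col_single T v _ hz hq)
        ![7, 5, 3, 4, 9] (by decide +kernel)).elim
  · rcases pair5 T (by norm_num) hm2 hne hi with
      ⟨hp, hq⟩ | ⟨hp, hq⟩ | ⟨hp, hq⟩ | ⟨hp, hq⟩ | ⟨hp, hq⟩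
    · exact (leaf_falseP T hm2 v M10 hM hx _ _ (row_single T v _ hz hp) (col_single T v _ hz hq)
        ![19, 30, 9, 29, 14] (by decide +kernel)).elim
    · exact (leaf_falseP T hm2 v M10 hM hx _ _ (row_single T v _ hz hp) (col_single T v _ hz hq)
        ![7, 13, 3, 11, 6] (by decide +kernel)).elim
    · exact (leaf_falseP T hm2 v M10 hM hx _ _ (row_single T v _ hz hp) (col_single T v _ hz hq)
        ![7, 13, 3, 11, 11] (by decide +kernel)).elim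
    · exact (leaf_falseP T hm2 v M10 hM hx _ _ (row_single T v _ hz hp) (col_single T v _ hz hq)
        ![5, 10, 2, 8, 4] (by decide +kernel)).elim
    · exact (leaf_falseP T hm2 v M10 hM hx _ _ (row_single T v _ hz hp) (col_single T v _ hz hq)
        ![5, 10, 2, 8, 13] (by decide +kernel)).elim
  · rcases pair5 T (by norm_num) hm2 hne hi with
      ⟨hp, hq⟩ | ⟨hp, hq⟩ | ⟨hp, hq⟩ | ⟨hp, hq⟩ | ⟨hp, hq⟩
    · exact leaf_next T hm2 v M10 hM hx _ _ (row_single T v _ hz hp) (col_single T v _ hz hq)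
        ![0, 2, 1, 4, 3] M15 (by decide +kernel) (st15 T hm2)
    · exact (leaf_falseP T hm2 v M10 hM hx _ _ (row_single T v _ hz hp) (col_single T v _ hz hq)
        ![2, 2, 2, 2, 1] (by decide +kernel)).elim
    · exact (leaf_falseP T hm2 v M10 hM hx _ _ (row_single T v _ hz hp) (col_single T v _ hz hq)
        ![1, 1, 1, 1, 1] (by decide +kernel)).elim
    · exact (leaf_falseP T hm2 v M10 hM hx _ _ (row_single T v _ hz hp) (col_single T v _ hz hq)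
        ![10, 8, 13, 7, 6] (by decide +kernel)).elim
    · exact (leaf_falseP T hm2 v M10 hM hx _ _ (row_single T v _ hz hp) (col_single T v _ hz hq)
        ![12, 10, 16, 9, 22] (by decide +kernel)).elim
  · rcases pair5 T (by norm_num) hm2 hne hi with
      ⟨hp, hq⟩ | ⟨hp, hq⟩ | ⟨hp, hq⟩ | ⟨hp, hq⟩ | ⟨hp, hq⟩
    · exact (leaf_falseP T hm2 v M10 hM hx _ _ (row_single T v _ hz hp) (col_single T v _ hz hq)
        ![2, 3, 1, 4, 2] (by decide +kernel)).elim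
    · exact (leaf_falseP T hm2 v M10 hM hx _ _ (row_single T v _ hz hp) (col_single T v _ hz hq)
        ![9, 15, 4, 24, 11] (by decide +kernel)).elim
    · exact (leaf_falseP T hm2 v M10 hM hx _ _ (row_single T v _ hz hp) (col_single T v _ hz hq)
        ![9, 15, 4, 24, 22] (by decide +kernel)).elim
    · exact (leaf_falseP T hm2 v M10 hM hx _ _ (row_single T v _ hz hp) (col_single T v _ hz hq)
        ![5, 9, 2, 17, 7] (by decide +kernel)).elim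
    · exact (leaf_falseP T hm2 v M10 hM hx _ _ (row_single T v _ hz hp) (col_single T v _ hz hq)
        ![5, 9, 2, 17, 21] (by decide +kernel)).elim

def pc11 : Fin 4 → Fin 4 → Fin 5 → ℤ :=
  ![![![0, 0, 0, 0, 0], ![1, 1, 0, 0, 1], ![1, 0, 1, 0, 1], ![1, 0, 1, 1, 1]], ![![1, 1, 0, 0, 1], ![0, 0, 0, 0, 0], ![1, 1, 1, 0, 1], ![1, 1, 1, 1, 1]], ![![1, 0, 1, 0, 1], ![1, 1, 1, 0, 1], ![0, 0, 0, 0, 0], ![0, 0, 1, 1, 1]], ![![1, 0, 1, 1, 1], ![1, 1, 1, 1, 1], ![0, 0, 1, 1, 1], ![0, 0, 0, 0, 0]]]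

theorem st11 (T : Models.NumericalType 7) (hm2 : ∀ i, T.IsMinusTwo i)
    (v : Fin 4 ↪ Fin 7) (hM : Knows T v M11) : Result T := by
  obtain ⟨x, hx, hcase⟩ := step_unique T hm2 v M11 hM (by norm_num) (by norm_num)
    (fun _ _ => false) pc11 (by decide +kernel)
    (fun _ _ _ h => (Bool.false_ne_true h).elim)
  rcases hcase with ⟨i, hi, hz⟩ | ⟨i, l, hex, -⟩
  swap
  · exact (Bool.false_ne_true hex).elim
  have hne := ne_of_not_range v hx i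
  fin_cases i
  · rcases pair5 T (by norm_num) hm2 hne hi with
      ⟨hp, hq⟩ | ⟨hp, hq⟩ | ⟨hp, hq⟩ | ⟨hp, hq⟩ | ⟨hp, hq⟩
    · exact (leaf_falseP T hm2 v M11 hM hx _ _ (row_single T v _ hz hp) (col_single T v _ hz hq)
        ![18, 8, 11, 5, 8] (by decide +kernel)).elim
    · exact (leaf_falseP T hm2 v M11 hM hx _ _ (row_single T v _ hz hp) (col_single T v _ hz hq)
        ![9, 4, 5, 2, 4] (by decide +kernel)).elim
    · exact (leaf_falseP T hm2 v M11 hM hx _ _ (row_single T v _ hz hp) (col_single T v _ hz hq)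
        ![9, 4, 5, 2, 8] (by decide +kernel)).elim
    · exact (leaf_falseP T hm2 v M11 hM hx _ _ (row_single T v _ hz hp) (col_single T v _ hz hq)
        ![11, 4, 5, 2, 4] (by decide +kernel)).elim
    · exact (leaf_falseP T hm2 v M11 hM hx _ _ (row_single T v _ hz hp) (col_single T v _ hz hq)
        ![11, 4, 5, 2, 13] (by decide +kernel)).elim
  · rcases pair5 T (by norm_num) hm2 hne hi with
      ⟨hp, hq⟩ | ⟨hp, hq⟩ | ⟨hp, hq⟩ | ⟨hp, hq⟩ | ⟨hp, hq⟩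
    · exact (leaf_falseP T hm2 v M11 hM hx _ _ (row_single T v _ hz hp) (col_single T v _ hz hq)
        ![3, 2, 2, 1, 1] (by decide +kernel)).elim
    · exact (leaf_falseP T hm2 v M11 hM hx _ _ (row_single T v _ hz hp) (col_single T v _ hz hq)
        ![24, 21, 15, 7, 10] (by decide +kernel)).elim
    · exact (leaf_falseP T hm2 v M11 hM hx _ _ (row_single T v _ hz hp) (col_single T v _ hz hq)
        ![24, 21, 15, 7, 20] (by decide +kernel)).elim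
    · exact (leaf_falseP T hm2 v M11 hM hx _ _ (row_single T v _ hz hp) (col_single T v _ hz hq)
        ![12, 13, 7, 3, 6] (by decide +kernel)).elim
    · exact (leaf_falseP T hm2 v M11 hM hx _ _ (row_single T v _ hz hp) (col_single T v _ hz hq)
        ![12, 13, 7, 3, 18] (by decide +kernel)).elim
  · rcases pair5 T (by norm_num) hm2 hne hi with
      ⟨hp, hq⟩ | ⟨hp, hq⟩ | ⟨hp, hq⟩ | ⟨hp, hq⟩ | ⟨hp, hq⟩
    · exact (leaf_falseP T hm2 v M11 hM hx _ _ (row_single T v _ hz hp) (col_single T v _ hz hq)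
        ![13, 6, 11, 5, 5] (by decide +kernel)).elim
    · exact (leaf_falseP T hm2 v M11 hM hx _ _ (row_single T v _ hz hp) (col_single T v _ hz hq)
        ![5, 2, 5, 2, 2] (by decide +kernel)).elim
    · exact (leaf_falseP T hm2 v M11 hM hx _ _ (row_single T v _ hz hp) (col_single T v _ hz hq)
        ![5, 2, 5, 2, 4] (by decide +kernel)).elim
    · exact (leaf_falseP T hm2 v M11 hM hx _ _ (row_single T v _ hz hp) (col_single T v _ hz hq)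
        ![3, 1, 3, 1, 1] (by decide +kernel)).elim
    · exact (leaf_falseP T hm2 v M11 hM hx _ _ (row_single T v _ hz hp) (col_single T v _ hz hq)
        ![3, 1, 3, 1, 3] (by decide +kernel)).elim
  · rcases pair5 T (by norm_num) hm2 hne hi with
      ⟨hp, hq⟩ | ⟨hp, hq⟩ | ⟨hp, hq⟩ | ⟨hp, hq⟩ | ⟨hp, hq⟩
    · exact (leaf_falseP T hm2 v M11 hM hx _ _ (row_single T v _ hz hp) (col_single T v _ hz hq)
        ![4, 2, 3, 2, 1] (by decide +kernel)).elim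
    · exact (leaf_falseP T hm2 v M11 hM hx _ _ (row_single T v _ hz hp) (col_single T v _ hz hq)
        ![21, 10, 17, 15, 7] (by decide +kernel)).elim
    · exact (leaf_falseP T hm2 v M11 hM hx _ _ (row_single T v _ hz hp) (col_single T v _ hz hq)
        ![17, 8, 14, 12, 11] (by decide +kernel)).elim
    · exact (leaf_falseP T hm2 v M11 hM hx _ _ (row_single T v _ hz hp) (col_single T v _ hz hq)
        ![7, 3, 6, 7, 3] (by decide +kernel)).elim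
    · exact (leaf_falseP T hm2 v M11 hM hx _ _ (row_single T v _ hz hp) (col_single T v _ hz hq)
        ![7, 3, 6, 7, 9] (by decide +kernel)).elim

def pc4 : Fin 3 → Fin 3 → Fin 4 → ℤ :=
  ![![![0, 0, 0, 0], ![1, 1, 0, 1], ![1, 0, 1, 1]], ![![1, 1, 0, 1], ![0, 0, 0, 0], ![1, 1, 1, 1]], ![![1, 0, 1, 1], ![1, 1, 1, 1], ![0, 0, 0, 0]]]

theorem st4 (T : Models.NumericalType 7) (hm2 : ∀ i, T.IsMinusTwo i)
    (v : Fin 3 ↪ Fin 7) (hM : Knows T v M4) : Result T := by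
  obtain ⟨x, hx, hcase⟩ := step_unique T hm2 v M4 hM (by norm_num) (by norm_num)
    (fun _ _ => false) pc4 (by decide +kernel)
    (fun _ _ _ h => (Bool.false_ne_true h).elim)
  rcases hcase with ⟨i, hi, hz⟩ | ⟨i, l, hex, -⟩
  swap
  · exact (Bool.false_ne_true hex).elim
  have hne := ne_of_not_range v hx i
  fin_cases i
  · rcases pair5 T (by norm_num) hm2 hne hi with
      ⟨hp, hq⟩ | ⟨hp, hq⟩ | ⟨hp, hq⟩ | ⟨hp, hq⟩ | ⟨hp, hq⟩
    · exact leaf_next T hm2 v M4 hM hx _ _ (row_single T v _ hz hp) (col_single T v _ hz hq)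
        ![0, 1, 2, 3] M7 (by decide +kernel) (st7 T hm2)
    · exact (leaf_falseP T hm2 v M4 hM hx _ _ (row_single T v _ hz hp) (col_single T v _ hz hq)
        ![2, 1, 1, 1] (by decide +kernel)).elim
    · exact (leaf_falseP T hm2 v M4 hM hx _ _ (row_single T v _ hz hp) (col_single T v _ hz hq)
        ![2, 1, 1, 2] (by decide +kernel)).elim
    · exact (leaf_falseP T hm2 v M4 hM hx _ _ (row_single T v _ hz hp) (col_single T v _ hz hq)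
        ![7, 3, 3, 3] (by decide +kernel)).elim
    · exact (leaf_falseP T hm2 v M4 hM hx _ _ (row_single T v _ hz hp) (col_single T v _ hz hq)
        ![7, 3, 3, 9] (by decide +kernel)).elim
  · rcases pair5 T (by norm_num) hm2 hne hi with
      ⟨hp, hq⟩ | ⟨hp, hq⟩ | ⟨hp, hq⟩ | ⟨hp, hq⟩ | ⟨hp, hq⟩
    · exact leaf_next T hm2 v M4 hM hx _ _ (row_single T v _ hz hp) (col_single T v _ hz hq)
        ![0, 1, 2, 3] M8 (by decide +kernel) (st8 T hm2)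
    · exact leaf_next T hm2 v M4 hM hx _ _ (row_single T v _ hz hp) (col_single T v _ hz hq)
        ![0, 1, 2, 3] M9 (by decide +kernel) (st9 T hm2)
    · exact leaf_next T hm2 v M4 hM hx _ _ (row_single T v _ hz hp) (col_single T v _ hz hq)
        ![0, 1, 2, 3] M10 (by decide +kernel) (st10 T hm2)
    · exact (leaf_falseP T hm2 v M4 hM hx _ _ (row_single T v _ hz hp) (col_single T v _ hz hq)
        ![19, 30, 9, 14] (by decide +kernel)).elim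
    · exact (leaf_falseP T hm2 v M4 hM hx _ _ (row_single T v _ hz hp) (col_single T v _ hz hq)
        ![19, 30, 9, 43] (by decide +kernel)).elim
  · rcases pair5 T (by norm_num) hm2 hne hi with
      ⟨hp, hq⟩ | ⟨hp, hq⟩ | ⟨hp, hq⟩ | ⟨hp, hq⟩ | ⟨hp, hq⟩
    · exact leaf_next T hm2 v M4 hM hx _ _ (row_single T v _ hz hp) (col_single T v _ hz hq)
        ![0, 2, 1, 3] M8 (by decide +kernel) (st8 T hm2)
    · exact leaf_next T hm2 v M4 hM hx _ _ (row_single T v _ hz hp) (col_single T v _ hz hq)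
        ![0, 2, 1, 3] M9 (by decide +kernel) (st9 T hm2)
    · exact leaf_next T hm2 v M4 hM hx _ _ (row_single T v _ hz hp) (col_single T v _ hz hq)
        ![0, 2, 1, 3] M10 (by decide +kernel) (st10 T hm2)
    · exact (leaf_falseP T hm2 v M4 hM hx _ _ (row_single T v _ hz hp) (col_single T v _ hz hq)
        ![19, 9, 30, 14] (by decide +kernel)).elim
    · exact (leaf_falseP T hm2 v M4 hM hx _ _ (row_single T v _ hz hp) (col_single T v _ hz hq)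
        ![19, 9, 30, 43] (by decide +kernel)).elim

def pc5 : Fin 3 → Fin 3 → Fin 4 → ℤ :=
  ![![![0, 0, 0, 0], ![1, 1, 0, 1], ![1, 0, 1, 1]], ![![1, 1, 0, 1], ![0, 0, 0, 0], ![1, 1, 1, 1]], ![![1, 0, 1, 1], ![1, 1, 1, 1], ![0, 0, 0, 0]]]

theorem st5 (T : Models.NumericalType 7) (hm2 : ∀ i, T.IsMinusTwo i)
    (v : Fin 3 ↪ Fin 7) (hM : Knows T v M5) : Result T := by
  obtain ⟨x, hx, hcase⟩ := step_unique T hm2 v M5 hM (by norm_num) (by norm_num)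
    (fun _ _ => false) pc5 (by decide +kernel)
    (fun _ _ _ h => (Bool.false_ne_true h).elim)
  rcases hcase with ⟨i, hi, hz⟩ | ⟨i, l, hex, -⟩
  swap
  · exact (Bool.false_ne_true hex).elim
  have hne := ne_of_not_range v hx i
  fin_cases i
  · rcases pair5 T (by norm_num) hm2 hne hi with
      ⟨hp, hq⟩ | ⟨hp, hq⟩ | ⟨hp, hq⟩ | ⟨hp, hq⟩ | ⟨hp, hq⟩
    · exact (leaf_falseP T hm2 v M5 hM hx _ _ (row_single T v _ hz hp) (col_single T v _ hz hq)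
        ![2, 1, 1, 1] (by decide +kernel)).elim
    · exact (leaf_falseP T hm2 v M5 hM hx _ _ (row_single T v _ hz hp) (col_single T v _ hz hq)
        ![7, 3, 3, 3] (by decide +kernel)).elim
    · exact (leaf_falseP T hm2 v M5 hM hx _ _ (row_single T v _ hz hp) (col_single T v _ hz hq)
        ![7, 3, 3, 6] (by decide +kernel)).elim
    · exact (leaf_falseP T hm2 v M5 hM hx _ _ (row_single T v _ hz hp) (col_single T v _ hz hq)
        ![5, 2, 2, 2] (by decide +kernel)).elim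
    · exact (leaf_falseP T hm2 v M5 hM hx _ _ (row_single T v _ hz hp) (col_single T v _ hz hq)
        ![5, 2, 2, 6] (by decide +kernel)).elim
  · rcases pair5 T (by norm_num) hm2 hne hi with
      ⟨hp, hq⟩ | ⟨hp, hq⟩ | ⟨hp, hq⟩ | ⟨hp, hq⟩ | ⟨hp, hq⟩
    · exact leaf_next T hm2 v M5 hM hx _ _ (row_single T v _ hz hp) (col_single T v _ hz hq)
        ![1, 0, 3, 2] M9 (by decide +kernel) (st9 T hm2)
    · exact (leaf_falseP T hm2 v M5 hM hx _ _ (row_single T v _ hz hp) (col_single T v _ hz hq)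
        ![2, 2, 1, 1] (by decide +kernel)).elim
    · exact (leaf_falseP T hm2 v M5 hM hx _ _ (row_single T v _ hz hp) (col_single T v _ hz hq)
        ![2, 2, 1, 2] (by decide +kernel)).elim
    · exact (leaf_falseP T hm2 v M5 hM hx _ _ (row_single T v _ hz hp) (col_single T v _ hz hq)
        ![9, 11, 4, 5] (by decide +kernel)).elim
    · exact (leaf_falseP T hm2 v M5 hM hx _ _ (row_single T v _ hz hp) (col_single T v _ hz hq)
        ![9, 11, 4, 15] (by decide +kernel)).elim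
  · rcases pair5 T (by norm_num) hm2 hne hi with
      ⟨hp, hq⟩ | ⟨hp, hq⟩ | ⟨hp, hq⟩ | ⟨hp, hq⟩ | ⟨hp, hq⟩
    · exact leaf_next T hm2 v M5 hM hx _ _ (row_single T v _ hz hp) (col_single T v _ hz hq)
        ![0, 1, 2, 3] M11 (by decide +kernel) (st11 T hm2)
    · exact (leaf_falseP T hm2 v M5 hM hx _ _ (row_single T v _ hz hp) (col_single T v _ hz hq)
        ![13, 6, 11, 5] (by decide +kernel)).elim
    · exact (leaf_falseP T hm2 v M5 hM hx _ _ (row_single T v _ hz hp) (col_single T v _ hz hq)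
        ![11, 5, 9, 8] (by decide +kernel)).elim
    · exact (leaf_falseP T hm2 v M5 hM hx _ _ (row_single T v _ hz hp) (col_single T v _ hz hq)
        ![5, 2, 5, 2] (by decide +kernel)).elim
    · exact (leaf_falseP T hm2 v M5 hM hx _ _ (row_single T v _ hz hp) (col_single T v _ hz hq)
        ![7, 3, 7, 9] (by decide +kernel)).elim

def pc6 : Fin 3 → Fin 3 → Fin 4 → ℤ :=
  ![![![0, 0, 0, 0], ![1, 1, 0, 1], ![1, 0, 1, 1]], ![![1, 1, 0, 1], ![0, 0, 0, 0], ![1, 1, 1, 1]], ![![1, 0, 1, 1], ![1, 1, 1, 1], ![0, 0, 0, 0]]]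

theorem st6 (T : Models.NumericalType 7) (hm2 : ∀ i, T.IsMinusTwo i)
    (v : Fin 3 ↪ Fin 7) (hM : Knows T v M6) : Result T := by
  obtain ⟨x, hx, hcase⟩ := step_unique T hm2 v M6 hM (by norm_num) (by norm_num)
    (fun _ _ => false) pc6 (by decide +kernel)
    (fun _ _ _ h => (Bool.false_ne_true h).elim)
  rcases hcase with ⟨i, hi, hz⟩ | ⟨i, l, hex, -⟩
  swap
  · exact (Bool.false_ne_true hex).elim
  have hne := ne_of_not_range v hx i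
  fin_cases i
  · rcases pair5 T (by norm_num) hm2 hne hi with
      ⟨hp, hq⟩ | ⟨hp, hq⟩ | ⟨hp, hq⟩ | ⟨hp, hq⟩ | ⟨hp, hq⟩
    · exact (leaf_falseP T hm2 v M6 hM hx _ _ (row_single T v _ hz hp) (col_single T v _ hz hq)
        ![2, 1, 2, 1] (by decide +kernel)).elim
    · exact (leaf_falseP T hm2 v M6 hM hx _ _ (row_single T v _ hz hp) (col_single T v _ hz hq)
        ![7, 3, 6, 3] (by decide +kernel)).elim
    · exact (leaf_falseP T hm2 v M6 hM hx _ _ (row_single T v _ hz hp) (col_single T v _ hz hq)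
        ![7, 3, 6, 6] (by decide +kernel)).elim
    · exact (leaf_falseP T hm2 v M6 hM hx _ _ (row_single T v _ hz hp) (col_single T v _ hz hq)
        ![5, 2, 4, 2] (by decide +kernel)).elim
    · exact (leaf_falseP T hm2 v M6 hM hx _ _ (row_single T v _ hz hp) (col_single T v _ hz hq)
        ![5, 2, 4, 6] (by decide +kernel)).elim
  · rcases pair5 T (by norm_num) hm2 hne hi with
      ⟨hp, hq⟩ | ⟨hp, hq⟩ | ⟨hp, hq⟩ | ⟨hp, hq⟩ | ⟨hp, hq⟩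
    · exact leaf_next T hm2 v M6 hM hx _ _ (row_single T v _ hz hp) (col_single T v _ hz hq)
        ![1, 0, 3, 2] M10 (by decide +kernel) (st10 T hm2)
    · exact (leaf_falseP T hm2 v M6 hM hx _ _ (row_single T v _ hz hp) (col_single T v _ hz hq)
        ![2, 2, 2, 1] (by decide +kernel)).elim
    · exact (leaf_falseP T hm2 v M6 hM hx _ _ (row_single T v _ hz hp) (col_single T v _ hz hq)
        ![1, 1, 1, 1] (by decide +kernel)).elim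
    · exact (leaf_falseP T hm2 v M6 hM hx _ _ (row_single T v _ hz hp) (col_single T v _ hz hq)
        ![7, 9, 6, 4] (by decide +kernel)).elim
    · exact (leaf_falseP T hm2 v M6 hM hx _ _ (row_single T v _ hz hp) (col_single T v _ hz hq)
        ![8, 10, 7, 13] (by decide +kernel)).elim
  · rcases pair5 T (by norm_num) hm2 hne hi with
      ⟨hp, hq⟩ | ⟨hp, hq⟩ | ⟨hp, hq⟩ | ⟨hp, hq⟩ | ⟨hp, hq⟩
    · exact leaf_next T hm2 v M6 hM hx _ _ (row_single T v _ hz hp) (col_single T v _ hz hq)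
        ![2, 3, 0, 1] M11 (by decide +kernel) (st11 T hm2)
    · exact (leaf_falseP T hm2 v M6 hM hx _ _ (row_single T v _ hz hp) (col_single T v _ hz hq)
        ![11, 5, 18, 8] (by decide +kernel)).elim
    · exact (leaf_falseP T hm2 v M6 hM hx _ _ (row_single T v _ hz hp) (col_single T v _ hz hq)
        ![11, 5, 18, 17] (by decide +kernel)).elim
    · exact (leaf_falseP T hm2 v M6 hM hx _ _ (row_single T v _ hz hp) (col_single T v _ hz hq)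
        ![5, 2, 9, 4] (by decide +kernel)).elim
    · exact (leaf_falseP T hm2 v M6 hM hx _ _ (row_single T v _ hz hp) (col_single T v _ hz hq)
        ![5, 2, 9, 11] (by decide +kernel)).elim

def pc1 : Fin 2 → Fin 2 → Fin 3 → ℤ :=
  ![![![0, 0, 0], ![1, 1, 1]], ![![1, 1, 1], ![0, 0, 0]]]

theorem st1 (T : Models.NumericalType 7) (hm2 : ∀ i, T.IsMinusTwo i)
    (v : Fin 2 ↪ Fin 7) (hM : Knows T v M1) : Result T := by
  obtain ⟨x, hx, hcase⟩ := step_unique T hm2 v M1 hM (by norm_num) (by norm_num)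
    (fun _ _ => false) pc1 (by decide +kernel)
    (fun _ _ _ h => (Bool.false_ne_true h).elim)
  rcases hcase with ⟨i, hi, hz⟩ | ⟨i, l, hex, -⟩
  swap
  · exact (Bool.false_ne_true hex).elim
  have hne := ne_of_not_range v hx i
  fin_cases i
  · rcases pair5 T (by norm_num) hm2 hne hi with
      ⟨hp, hq⟩ | ⟨hp, hq⟩ | ⟨hp, hq⟩ | ⟨hp, hq⟩ | ⟨hp, hq⟩
    · exact leaf_next T hm2 v M1 hM hx _ _ (row_single T v _ hz hp) (col_single T v _ hz hq)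
        ![0, 1, 2] M4 (by decide +kernel) (st4 T hm2)
    · exact leaf_next T hm2 v M1 hM hx _ _ (row_single T v _ hz hp) (col_single T v _ hz hq)
        ![0, 1, 2] M5 (by decide +kernel) (st5 T hm2)
    · exact leaf_next T hm2 v M1 hM hx _ _ (row_single T v _ hz hp) (col_single T v _ hz hq)
        ![0, 1, 2] M6 (by decide +kernel) (st6 T hm2)
    · exact (leaf_falseP T hm2 v M1 hM hx _ _ (row_single T v _ hz hp) (col_single T v _ hz hq)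
        ![2, 1, 1] (by decide +kernel)).elim
    · exact (leaf_falseP T hm2 v M1 hM hx _ _ (row_single T v _ hz hp) (col_single T v _ hz hq)
        ![2, 1, 3] (by decide +kernel)).elim
  · rcases pair5 T (by norm_num) hm2 hne hi with
      ⟨hp, hq⟩ | ⟨hp, hq⟩ | ⟨hp, hq⟩ | ⟨hp, hq⟩ | ⟨hp, hq⟩
    · exact leaf_next T hm2 v M1 hM hx _ _ (row_single T v _ hz hp) (col_single T v _ hz hq)
        ![1, 0, 2] M4 (by decide +kernel) (st4 T hm2)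
    · exact leaf_next T hm2 v M1 hM hx _ _ (row_single T v _ hz hp) (col_single T v _ hz hq)
        ![1, 0, 2] M5 (by decide +kernel) (st5 T hm2)
    · exact leaf_next T hm2 v M1 hM hx _ _ (row_single T v _ hz hp) (col_single T v _ hz hq)
        ![1, 0, 2] M6 (by decide +kernel) (st6 T hm2)
    · exact (leaf_falseP T hm2 v M1 hM hx _ _ (row_single T v _ hz hp) (col_single T v _ hz hq)
        ![1, 2, 1] (by decide +kernel)).elim
    · exact (leaf_falseP T hm2 v M1 hM hx _ _ (row_single T v _ hz hp) (col_single T v _ hz hq)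
        ![1, 2, 3] (by decide +kernel)).elim

def pc2 : Fin 2 → Fin 2 → Fin 3 → ℤ :=
  ![![![0, 0, 0], ![1, 1, 1]], ![![1, 1, 1], ![0, 0, 0]]]

theorem st2 (T : Models.NumericalType 7) (hm2 : ∀ i, T.IsMinusTwo i)
    (v : Fin 2 ↪ Fin 7) (hM : Knows T v M2) : Result T := by
  obtain ⟨x, hx, hcase⟩ := step_unique T hm2 v M2 hM (by norm_num) (by norm_num)
    (fun _ _ => false) pc2 (by decide +kernel)
    (fun _ _ _ h => (Bool.false_ne_true h).elim)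
  rcases hcase with ⟨i, hi, hz⟩ | ⟨i, l, hex, -⟩
  swap
  · exact (Bool.false_ne_true hex).elim
  have hne := ne_of_not_range v hx i
  fin_cases i
  · rcases pair5 T (by norm_num) hm2 hne hi with
      ⟨hp, hq⟩ | ⟨hp, hq⟩ | ⟨hp, hq⟩ | ⟨hp, hq⟩ | ⟨hp, hq⟩
    · exact leaf_next T hm2 v M2 hM hx _ _ (row_single T v _ hz hp) (col_single T v _ hz hq)
        ![0, 2, 1] M5 (by decide +kernel) (st5 T hm2)
    · exact (leaf_falseP T hm2 v M2 hM hx _ _ (row_single T v _ hz hp) (col_single T v _ hz hq)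
        ![2, 1, 1] (by decide +kernel)).elim
    · exact (leaf_falseP T hm2 v M2 hM hx _ _ (row_single T v _ hz hp) (col_single T v _ hz hq)
        ![2, 1, 2] (by decide +kernel)).elim
    · exact (leaf_falseP T hm2 v M2 hM hx _ _ (row_single T v _ hz hp) (col_single T v _ hz hq)
        ![7, 3, 3] (by decide +kernel)).elim
    · exact (leaf_falseP T hm2 v M2 hM hx _ _ (row_single T v _ hz hp) (col_single T v _ hz hq)
        ![7, 3, 9] (by decide +kernel)).elim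
  · rcases pair5 T (by norm_num) hm2 hne hi with
      ⟨hp, hq⟩ | ⟨hp, hq⟩ | ⟨hp, hq⟩ | ⟨hp, hq⟩ | ⟨hp, hq⟩
    · exact leaf_next T hm2 v M2 hM hx _ _ (row_single T v _ hz hp) (col_single T v _ hz hq)
        ![1, 2, 0] M6 (by decide +kernel) (st6 T hm2)
    · exact (leaf_falseP T hm2 v M2 hM hx _ _ (row_single T v _ hz hp) (col_single T v _ hz hq)
        ![2, 2, 1] (by decide +kernel)).elim
    · exact (leaf_falseP T hm2 v M2 hM hx _ _ (row_single T v _ hz hp) (col_single T v _ hz hq)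
        ![1, 1, 1] (by decide +kernel)).elim
    · exact (leaf_falseP T hm2 v M2 hM hx _ _ (row_single T v _ hz hp) (col_single T v _ hz hq)
        ![6, 7, 3] (by decide +kernel)).elim
    · exact (leaf_falseP T hm2 v M2 hM hx _ _ (row_single T v _ hz hp) (col_single T v _ hz hq)
        ![5, 6, 8] (by decide +kernel)).elim

def pc3 : Fin 2 → Fin 2 → Fin 3 → ℤ :=
  ![![![0, 0, 0], ![1, 1, 1]], ![![1, 1, 1], ![0, 0, 0]]]

theorem st3 (T : Models.NumericalType 7) (hm2 : ∀ i, T.IsMinusTwo i)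
    (v : Fin 2 ↪ Fin 7) (hM : Knows T v M3) : Result T := by
  obtain ⟨x, hx, hcase⟩ := step_unique T hm2 v M3 hM (by norm_num) (by norm_num)
    (fun _ _ => false) pc3 (by decide +kernel)
    (fun _ _ _ h => (Bool.false_ne_true h).elim)
  rcases hcase with ⟨i, hi, hz⟩ | ⟨i, l, hex, -⟩
  swap
  · exact (Bool.false_ne_true hex).elim
  have hne := ne_of_not_range v hx i
  fin_cases i
  · rcases pair5 T (by norm_num) hm2 hne hi with
      ⟨hp, hq⟩ | ⟨hp, hq⟩ | ⟨hp, hq⟩ | ⟨hp, hq⟩ | ⟨hp, hq⟩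
    · exact (leaf_falseP T hm2 v M3 hM hx _ _ (row_single T v _ hz hp) (col_single T v _ hz hq)
        ![2, 1, 1] (by decide +kernel)).elim
    · exact (leaf_falseP T hm2 v M3 hM hx _ _ (row_single T v _ hz hp) (col_single T v _ hz hq)
        ![7, 3, 3] (by decide +kernel)).elim
    · exact (leaf_falseP T hm2 v M3 hM hx _ _ (row_single T v _ hz hp) (col_single T v _ hz hq)
        ![7, 3, 6] (by decide +kernel)).elim
    · exact (leaf_falseP T hm2 v M3 hM hx _ _ (row_single T v _ hz hp) (col_single T v _ hz hq)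
        ![5, 2, 2] (by decide +kernel)).elim
    · exact (leaf_falseP T hm2 v M3 hM hx _ _ (row_single T v _ hz hp) (col_single T v _ hz hq)
        ![5, 2, 6] (by decide +kernel)).elim
  · rcases pair5 T (by norm_num) hm2 hne hi with
      ⟨hp, hq⟩ | ⟨hp, hq⟩ | ⟨hp, hq⟩ | ⟨hp, hq⟩ | ⟨hp, hq⟩
    · exact (leaf_falseP T hm2 v M3 hM hx _ _ (row_single T v _ hz hp) (col_single T v _ hz hq)
        ![3, 2, 1] (by decide +kernel)).elim
    · exact (leaf_falseP T hm2 v M3 hM hx _ _ (row_single T v _ hz hp) (col_single T v _ hz hq)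
        ![9, 7, 3] (by decide +kernel)).elim
    · exact (leaf_falseP T hm2 v M3 hM hx _ _ (row_single T v _ hz hp) (col_single T v _ hz hq)
        ![8, 6, 5] (by decide +kernel)).elim
    · exact (leaf_falseP T hm2 v M3 hM hx _ _ (row_single T v _ hz hp) (col_single T v _ hz hq)
        ![6, 5, 2] (by decide +kernel)).elim
    · exact (leaf_falseP T hm2 v M3 hM hx _ _ (row_single T v _ hz hp) (col_single T v _ hz hq)
        ![4, 3, 4] (by decide +kernel)).elim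

def pc0 : Fin 1 → Fin 1 → Fin 2 → ℤ :=
  ![![![0, 0]]]

theorem st0 (T : Models.NumericalType 7) (hm2 : ∀ i, T.IsMinusTwo i)
    (v : Fin 1 ↪ Fin 7) (hM : Knows T v M0) : Result T := by
  obtain ⟨x, hx, hcase⟩ := step_unique T hm2 v M0 hM (by norm_num) (by norm_num)
    (fun _ _ => false) pc0 (by decide +kernel)
    (fun _ _ _ h => (Bool.false_ne_true h).elim)
  rcases hcase with ⟨i, hi, hz⟩ | ⟨i, l, hex, -⟩
  swap
  · exact (Bool.false_ne_true hex).elim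
  have hne := ne_of_not_range v hx i
  fin_cases i
  · rcases pair5 T (by norm_num) hm2 hne hi with
      ⟨hp, hq⟩ | ⟨hp, hq⟩ | ⟨hp, hq⟩ | ⟨hp, hq⟩ | ⟨hp, hq⟩
    · exact leaf_next T hm2 v M0 hM hx _ _ (row_single T v _ hz hp) (col_single T v _ hz hq)
        ![0, 1] M1 (by decide +kernel) (st1 T hm2)
    · exact leaf_next T hm2 v M0 hM hx _ _ (row_single T v _ hz hp) (col_single T v _ hz hq)
        ![0, 1] M2 (by decide +kernel) (st2 T hm2)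
    · exact leaf_next T hm2 v M0 hM hx _ _ (row_single T v _ hz hp) (col_single T v _ hz hq)
        ![1, 0] M2 (by decide +kernel) (st2 T hm2)
    · exact leaf_next T hm2 v M0 hM hx _ _ (row_single T v _ hz hp) (col_single T v _ hz hq)
        ![0, 1] M3 (by decide +kernel) (st3 T hm2)
    · exact leaf_next T hm2 v M0 hM hx _ _ (row_single T v _ hz hp) (col_single T v _ hz hq)
        ![1, 0] M3 (by decide +kernel) (st3 T hm2)

/-- Genus one classification: case n = 7: let T be a minimal numerical type of genus 1 on 7 indices.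
Then all g_i = 0 and, for some permutation σ of the indices and some integers m, w, the
multiplicities, weights and intersection matrix (m_{σ(i)}, w_{σ(i)}, a_{σ(i)σ(j)}) are those of one
of the following 8 types: [cycle] m = (m, m, m, m, m, m, m), w = (w, w, w, w, w, w, w), a = (-2 * w
w 0 0 0 0 w / w -2 * w w 0 0 0 0 / 0 w -2 * w w 0 0 0 / 0 0 w -2 * w w 0 0 / 0 0 0 w -2 * w w 0 / 0
0 0 0 w -2 * w w / w 0 0 0 0 w -2 * w); [up chain equal up] m = (2 * m, 2 * m, 2 * m, 2 * m, 2 * m,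
2 * m, m), w = (w, 2 * w, 2 * w, 2 * w, 2 * w, 2 * w, 4 * w), a = (-2 * w 2 * w 0 0 0 0 0 / 2 * w -4
* w 2 * w 0 0 0 0 / 0 2 * w -4 * w 2 * w 0 0 0 / 0 0 2 * w -4 * w 2 * w 0 0 / 0 0 0 2 * w -4 * w 2 *
w 0 / 0 0 0 0 2 * w -4 * w 4 * w / 0 0 0 0 0 4 * w -8 * w); [up chain equal down] m = (m, m, m, m,
m, m, m), w = (w, 2 * w, 2 * w, 2 * w, 2 * w, 2 * w, w), a = (-2 * w 2 * w 0 0 0 0 0 / 2 * w -4 * w
2 * w 0 0 0 0 / 0 2 * w -4 * w 2 * w 0 0 0 / 0 0 2 * w -4 * w 2 * w 0 0 / 0 0 0 2 * w -4 * w 2 * w 0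
/ 0 0 0 0 2 * w -4 * w 2 * w / 0 0 0 0 0 2 * w -2 * w); [down chain equal up] m = (m, 2 * m, 2 * m,
2 * m, 2 * m, 2 * m, m), w = (2 * w, w, w, w, w, w, 2 * w), a = (-4 * w 2 * w 0 0 0 0 0 / 2 * w -2 *
w w 0 0 0 0 / 0 w -2 * w w 0 0 0 / 0 0 w -2 * w w 0 0 / 0 0 0 w -2 * w w 0 / 0 0 0 0 w -2 * w 2 * w
/ 0 0 0 0 0 2 * w -4 * w); [D extended up] m = (m, 2 * m, 2 * m, 2 * m, 2 * m, m, m), w = (2 * w, w,
w, w, w, w, w), a = (-4 * w 2 * w 0 0 0 0 0 / 2 * w -2 * w w 0 0 0 0 / 0 w -2 * w w 0 0 0 / 0 0 w -2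
* w w 0 0 / 0 0 0 w -2 * w w w / 0 0 0 0 w -2 * w 0 / 0 0 0 0 w 0 -2 * w); [D extended down] m = (2
* m, 2 * m, 2 * m, 2 * m, 2 * m, m, m), w = (w, 2 * w, 2 * w, 2 * w, 2 * w, 2 * w, 2 * w), a = (-2 *
w 2 * w 0 0 0 0 0 / 2 * w -4 * w 2 * w 0 0 0 0 / 0 2 * w -4 * w 2 * w 0 0 0 / 0 0 2 * w -4 * w 2 * w
0 0 / 0 0 0 2 * w -4 * w 2 * w 2 * w / 0 0 0 0 2 * w -4 * w 0 / 0 0 0 0 2 * w 0 -4 * w); [double
triple] m = (m, m, 2 * m, 2 * m, 2 * m, m, m), w = (w, w, w, w, w, w, w), a = (-2 * w 0 w 0 0 0 0 /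
0 -2 * w w 0 0 0 0 / w w -2 * w w 0 0 0 / 0 0 w -2 * w w 0 0 / 0 0 0 w -2 * w w w / 0 0 0 0 w -2 * w
0 / 0 0 0 0 w 0 -2 * w); [E6 completed] m = (m, 2 * m, 3 * m, m, 2 * m, m, 2 * m), w = (w, w, w, w,
w, w, w), a = (-2 * w w 0 0 0 0 0 / w -2 * w w 0 0 0 0 / 0 w -2 * w 0 w 0 w / 0 0 0 -2 * w w 0 0 / 0
0 w w -2 * w 0 0 / 0 0 0 0 0 -2 * w w / 0 0 w 0 0 w -2 * w). Only the classification direction is
stated. (In the family with weights (w, 2w, …, 2w, w) the consecutive intersection numbers are 2w,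
as divisibility by the weights forces; the published list prints w there, and omits m_{n-2} = 2m in
the two D-type families.) -/
theorem result (T : Models.NumericalType 7) (hmin : T.IsMinimal) (hg : T.genus = 1) :
    (∀ i, T.g i = 0) ∧ ∃ (σ : Equiv.Perm (Fin 7)) (m w : ℤ),
      ((T.m (σ 0) = m ∧ T.m (σ 1) = m ∧ T.m (σ 2) = m ∧ T.m (σ 3) = m ∧ T.m (σ 4) = m ∧ T.m (σ 5) = m ∧ T.m (σ 6) = m ∧ T.w (σ 0) = w ∧ T.w (σ 1) = w ∧ T.w (σ 2) = w ∧ T.w (σ 3) = w ∧ T.w (σ 4) = w ∧ T.w (σ 5) = w ∧ T.w (σ 6) = w ∧ T.a (σ 0) (σ 0) = -2 * w ∧ T.a (σ 0) (σ 1) = w ∧ T.a (σ 0) (σ 2) = 0 ∧ T.a (σ 0) (σ 3) = 0 ∧ T.a (σ 0) (σ 4) = 0 ∧ T.a (σ 0) (σ 5) = 0 ∧ T.a (σ 0) (σ 6) = w ∧ T.a (σ 1) (σ 1) = -2 * w ∧ T.a (σ 1) (σ 2) = w ∧ T.a (σ 1) (σ 3) = 0 ∧ T.a (σ 1) (σ 4) = 0 ∧ T.a (σ 1) (σ 5) = 0 ∧ T.a (σ 1) (σ 6) = 0 ∧ T.a (σ 2) (σ 2) = -2 * w ∧ T.a (σ 2) (σ 3) = w ∧ T.a (σ 2) (σ 4) =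 0 ∧ T.a (σ 2) (σ 5) = 0 ∧ T.a (σ 2) (σ 6) = 0 ∧ T.a (σ 3) (σ 3) = -2 * w ∧ T.a (σ 3) (σ 4) = w ∧ T.a (σ 3) (σ 5) = 0 ∧ T.a (σ 3) (σ 6) = 0 ∧ T.a (σ 4) (σ 4) = -2 * w ∧ T.a (σ 4) (σ 5) = w ∧ T.a (σ 4) (σ 6) = 0 ∧ T.a (σ 5) (σ 5) = -2 * w ∧ T.a (σ 5) (σ 6) = w ∧ T.a (σ 6) (σ 6) = -2 * w) ∨
      (T.m (σ 0) = 2 * m ∧ T.m (σ 1) = 2 * m ∧ T.m (σ 2) = 2 * m ∧ T.m (σ 3) = 2 * m ∧ T.m (σ 4) = 2 * m ∧ T.m (σ 5) = 2 * m ∧ T.m (σ 6) = m ∧ T.w (σ 0) = w ∧ T.w (σ 1) = 2 * w ∧ T.w (σ 2) = 2 * w ∧ T.w (σ 3) = 2 * w ∧ T.w (σ 4) = 2 * w ∧ T.w (σ 5) = 2 * w ∧ T.w (σ 6) = 4 * w ∧ T.a (σ 0) (σ 0) = -2 * w ∧ T.a (σ 0) (σ 1) = 2 * w ∧ T.a (σ 0) (σ 2) = 0 ∧ T.a (σ 0) (σ 3) = 0 ∧ T.a (σ 0) (σ 4) = 0 ∧ T.a (σ 0) (σ 5) = 0 ∧ T.a (σ 0) (σ 6) = 0 ∧ T.a (σ 1) (σ 1) = -4 * w ∧ T.a (σ 1) (σ 2) = 2 * w ∧ T.a (σ 1) (σ 3) = 0 ∧ T.a (σ 1) (σ 4) = 0 ∧ T.a (σ 1) (σ 5) = 0 ∧ T.a (σ 1) (σ 6) = 0 ∧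 T.a (σ 2) (σ 2) = -4 * w ∧ T.a (σ 2) (σ 3) = 2 * w ∧ T.a (σ 2) (σ 4) = 0 ∧ T.a (σ 2) (σ 5) = 0 ∧ T.a (σ 2) (σ 6) = 0 ∧ T.a (σ 3) (σ 3) = -4 * w ∧ T.a (σ 3) (σ 4) = 2 * w ∧ T.a (σ 3) (σ 5) = 0 ∧ T.a (σ 3) (σ 6) = 0 ∧ T.a (σ 4) (σ 4) = -4 * w ∧ T.a (σ 4) (σ 5) = 2 * w ∧ T.a (σ 4) (σ 6) = 0 ∧ T.a (σ 5) (σ 5) = -4 * w ∧ T.a (σ 5) (σ 6) = 4 * w ∧ T.a (σ 6) (σ 6) = -8 * w) ∨
      (T.m (σ 0) = m ∧ T.m (σ 1) = m ∧ T.m (σ 2) = m ∧ T.m (σ 3) = m ∧ T.m (σ 4) = m ∧ T.m (σ 5) = m ∧ T.m (σ 6) = m ∧ T.w (σ 0) = w ∧ T.w (σ 1) = 2 * w ∧ T.w (σ 2) = 2 * w ∧ T.w (σ 3) = 2 * w ∧ T.w (σ 4) = 2 * w ∧ T.w (σ 5) = 2 * w ∧ T.w (σ 6) = w ∧ T.a (σ 0) (σ 0) = -2 * w ∧ T.a (σ 0) (σ 1) = 2 * w ∧ T.a (σ 0) (σ 2) = 0 ∧ T.a (σ 0) (σ 3) = 0 ∧ T.a (σ 0) (σ 4) = 0 ∧ T.a (σ 0) (σ 5) = 0 ∧ T.a (σ 0) (σ 6) = 0 ∧ T.a (σ 1) (σ 1) = -4 * w ∧ T.a (σ 1) (σ 2) = 2 * w ∧ T.a (σ 1) (σ 3) = 0 ∧ T.a (σ 1)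 (σ 4) = 0 ∧ T.a (σ 1) (σ 5) = 0 ∧ T.a (σ 1) (σ 6) = 0 ∧ T.a (σ 2) (σ 2) = -4 * w ∧ T.a (σ 2) (σ 3) = 2 * w ∧ T.a (σ 2) (σ 4) = 0 ∧ T.a (σ 2) (σ 5) = 0 ∧ T.a (σ 2) (σ 6) = 0 ∧ T.a (σ 3) (σ 3) = -4 * w ∧ T.a (σ 3) (σ 4) = 2 * w ∧ T.a (σ 3) (σ 5) = 0 ∧ T.a (σ 3) (σ 6) = 0 ∧ T.a (σ 4) (σ 4) = -4 * w ∧ T.a (σ 4) (σ 5) = 2 * w ∧ T.a (σ 4) (σ 6) = 0 ∧ T.a (σ 5) (σ 5) = -4 * w ∧ T.a (σ 5) (σ 6) = 2 * w ∧ T.a (σ 6) (σ 6) = -2 * w) ∨
      (T.m (σ 0) = m ∧ T.m (σ 1) = 2 * m ∧ T.m (σ 2) = 2 * m ∧ T.m (σ 3) = 2 * m ∧ T.m (σ 4) = 2 * m ∧ T.m (σ 5) = 2 * m ∧ T.m (σ 6) = m ∧ T.w (σ 0) = 2 * w ∧ T.w (σ 1) = w ∧ T.w (σ 2) = w ∧ T.w (σ 3) = w ∧ T.w (σ 4) = w ∧ T.w (σ 5) = w ∧ T.w (σ 6) = 2 * w ∧ T.a (σ 0) (σ 0) = -4 * w ∧ T.a (σ 0) (σ 1) = 2 * w ∧ T.a (σ 0) (σ 2) = 0 ∧ T.a (σ 0) (σ 3) = 0 ∧ T.a (σ 0) (σ 4) = 0 ∧ T.a (σ 0) (σ 5) = 0 ∧ T.a (σ 0) (σ 6) = 0 ∧ T.a (σ 1) (σ 1) = -2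 * w ∧ T.a (σ 1) (σ 2) = w ∧ T.a (σ 1) (σ 3) = 0 ∧ T.a (σ 1) (σ 4) = 0 ∧ T.a (σ 1) (σ 5) = 0 ∧ T.a (σ 1) (σ 6) = 0 ∧ T.a (σ 2) (σ 2) = -2 * w ∧ T.a (σ 2) (σ 3) = w ∧ T.a (σ 2) (σ 4) = 0 ∧ T.a (σ 2) (σ 5) = 0 ∧ T.a (σ 2) (σ 6) = 0 ∧ T.a (σ 3) (σ 3) = -2 * w ∧ T.a (σ 3) (σ 4) = w ∧ T.a (σ 3) (σ 5) = 0 ∧ T.a (σ 3) (σ 6) = 0 ∧ T.a (σ 4) (σ 4) = -2 * w ∧ T.a (σ 4) (σ 5) = w ∧ T.a (σ 4) (σ 6) = 0 ∧ T.a (σ 5) (σ 5) = -2 * w ∧ T.a (σ 5) (σ 6) = 2 * w ∧ T.a (σ 6) (σ 6) = -4 * w) ∨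
      (T.m (σ 0) = m ∧ T.m (σ 1) = 2 * m ∧ T.m (σ 2) = 2 * m ∧ T.m (σ 3) = 2 * m ∧ T.m (σ 4) = 2 * m ∧ T.m (σ 5) = m ∧ T.m (σ 6) = m ∧ T.w (σ 0) = 2 * w ∧ T.w (σ 1) = w ∧ T.w (σ 2) = w ∧ T.w (σ 3) = w ∧ T.w (σ 4) = w ∧ T.w (σ 5) = w ∧ T.w (σ 6) = w ∧ T.a (σ 0) (σ 0) = -4 * w ∧ T.a (σ 0) (σ 1) = 2 * w ∧ T.a (σ 0) (σ 2) = 0 ∧ T.a (σ 0) (σ 3) = 0 ∧ T.a (σ 0) (σ 4) = 0 ∧ T.a (σ 0) (σ 5) = 0 ∧ T.a (σ 0) (σ 6) = 0 ∧ T.a (σ 1) (σ 1) = -2 * w ∧ T.a (σ 1) (σ 2) = w ∧ T.a (σ 1) (σ 3) = 0 ∧ T.a (σ 1) (σ 4) = 0 ∧ T.a (σ 1) (σ 5) = 0 ∧ T.a (σ 1) (σ 6) = 0 ∧ T.a (σ 2) (σ 2) = -2 * w ∧ T.a (σ 2) (σ 3) = w ∧ T.a (σ 2) (σ 4) = 0 ∧ T.a (σ 2) (σ 5) = 0 ∧ T.a (σ 2) (σ 6) = 0 ∧ T.a (σ 3) (σ 3) = -2 * w ∧ T.a (σ 3) (σ 4) = w ∧ T.a (σ 3) (σ 5) = 0 ∧ T.a (σ 3) (σ 6) = 0 ∧ T.a (σ 4) (σ 4) = -2 * w ∧ T.a (σ 4) (σ 5) = w ∧ T.a (σ 4) (σ 6) = w ∧ T.a (σ 5) (σ 5) = -2 * w ∧ T.a (σ 5) (σ 6)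 = 0 ∧ T.a (σ 6) (σ 6) = -2 * w) ∨
      (T.m (σ 0) = 2 * m ∧ T.m (σ 1) = 2 * m ∧ T.m (σ 2) = 2 * m ∧ T.m (σ 3) = 2 * m ∧ T.m (σ 4) = 2 * m ∧ T.m (σ 5) = m ∧ T.m (σ 6) = m ∧ T.w (σ 0) = w ∧ T.w (σ 1) = 2 * w ∧ T.w (σ 2) = 2 * w ∧ T.w (σ 3) = 2 * w ∧ T.w (σ 4) = 2 * w ∧ T.w (σ 5) = 2 * w ∧ T.w (σ 6) = 2 * w ∧ T.a (σ 0) (σ 0) = -2 * w ∧ T.a (σ 0) (σ 1) = 2 * w ∧ T.a (σ 0) (σ 2) = 0 ∧ T.a (σ 0) (σ 3) = 0 ∧ T.a (σ 0) (σ 4) = 0 ∧ T.a (σ 0) (σ 5) = 0 ∧ T.a (σ 0) (σ 6) = 0 ∧ T.a (σ 1) (σ 1) = -4 * w ∧ T.a (σ 1) (σ 2) = 2 * w ∧ T.a (σ 1) (σ 3) = 0 ∧ T.a (σ 1) (σ 4) = 0 ∧ T.a (σ 1) (σ 5) = 0 ∧ T.a (σ 1) (σ 6) = 0 ∧ T.a (σ 2) (σ 2) = -4 * w ∧ T.a (σ 2) (σ 3) = 2 * w ∧ T.a (σ 2) (σ 4) = 0 ∧ T.a (σ 2) (σ 5) = 0 ∧ T.a (σ 2) (σ 6) = 0 ∧ T.a (σ 3) (σ 3) = -4 * w ∧ T.a (σ 3) (σ 4) = 2 * w ∧ T.a (σ 3) (σ 5) = 0 ∧ T.a (σ 3) (σ 6) = 0 ∧ T.a (σ 4) (σ 4) = -4 * w ∧ T.a (σ 4) (σ 5)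 = 2 * w ∧ T.a (σ 4) (σ 6) = 2 * w ∧ T.a (σ 5) (σ 5) = -4 * w ∧ T.a (σ 5) (σ 6) = 0 ∧ T.a (σ 6) (σ 6) = -4 * w) ∨
      (T.m (σ 0) = m ∧ T.m (σ 1) = m ∧ T.m (σ 2) = 2 * m ∧ T.m (σ 3) = 2 * m ∧ T.m (σ 4) = 2 * m ∧ T.m (σ 5) = m ∧ T.m (σ 6) = m ∧ T.w (σ 0) = w ∧ T.w (σ 1) = w ∧ T.w (σ 2) = w ∧ T.w (σ 3) = w ∧ T.w (σ 4) = w ∧ T.w (σ 5) = w ∧ T.w (σ 6) = w ∧ T.a (σ 0) (σ 0) = -2 * w ∧ T.a (σ 0) (σ 1) = 0 ∧ T.a (σ 0) (σ 2) = w ∧ T.a (σ 0) (σ 3) = 0 ∧ T.a (σ 0) (σ 4) = 0 ∧ T.a (σ 0) (σ 5) = 0 ∧ T.a (σ 0) (σ 6) = 0 ∧ T.a (σ 1) (σ 1) = -2 * w ∧ T.a (σ 1) (σ 2) = w ∧ T.a (σ 1) (σ 3) = 0 ∧ T.a (σ 1) (σ 4) = 0 ∧ T.a (σ 1) (σ 5) = 0 ∧ T.a (σ 1) (σ 6) = 0 ∧ T.a (σ 2) (σ 2) = -2 * w ∧ T.a (σ 2) (σ 3) = w ∧ T.a (σ 2) (σ 4) = 0 ∧ T.a (σ 2) (σ 5) = 0 ∧ T.a (σ 2) (σ 6) = 0 ∧ T.a (σ 3) (σ 3) = -2 * w ∧ T.a (σ 3) (σ 4) = w ∧ T.a (σ 3) (σ 5) = 0 ∧ T.a (σ 3) (σ 6) = 0 ∧ T.a (σ 4) (σ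 4) = -2 * w ∧ T.a (σ 4) (σ 5) = w ∧ T.a (σ 4) (σ 6) = w ∧ T.a (σ 5) (σ 5) = -2 * w ∧ T.a (σ 5) (σ 6) = 0 ∧ T.a (σ 6) (σ 6) = -2 * w) ∨
      (T.m (σ 0) = m ∧ T.m (σ 1) = 2 * m ∧ T.m (σ 2) = 3 * m ∧ T.m (σ 3) = m ∧ T.m (σ 4) = 2 * m ∧ T.m (σ 5) = m ∧ T.m (σ 6) = 2 * m ∧ T.w (σ 0) = w ∧ T.w (σ 1) = w ∧ T.w (σ 2) = w ∧ T.w (σ 3) = w ∧ T.w (σ 4) = w ∧ T.w (σ 5) = w ∧ T.w (σ 6) = w ∧ T.a (σ 0) (σ 0) = -2 * w ∧ T.a (σ 0) (σ 1) = w ∧ T.a (σ 0) (σ 2) = 0 ∧ T.a (σ 0) (σ 3) = 0 ∧ T.a (σ 0) (σ 4) = 0 ∧ T.a (σ 0) (σ 5) = 0 ∧ T.a (σ 0) (σ 6) = 0 ∧ T.a (σ 1) (σ 1) = -2 * w ∧ T.a (σ 1) (σ 2) = w ∧ T.a (σ 1) (σ 3) = 0 ∧ T.a (σ 1) (σ 4) = 0 ∧ T.a (σ 1) (σ 5) = 0 ∧ T.a (σ 1) (σ 6) = 0 ∧ T.a (σ 2) (σ 2) = -2 * w ∧ T.a (σ 2) (σ 3) = 0 ∧ T.a (σ 2) (σ 4) = w ∧ T.a (σ 2) (σ 5) = 0 ∧ T.a (σ 2) (σ 6) = w ∧ T.a (σ 3) (σ 3) = -2 * w ∧ T.a (σ 3) (σ 4) = w ∧ T.a (σ 3) (σ 5) = 0 ∧ T.a (σ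 3) (σ 6) = 0 ∧ T.a (σ 4) (σ 4) = -2 * w ∧ T.a (σ 4) (σ 5) = 0 ∧ T.a (σ 4) (σ 6) = 0 ∧ T.a (σ 5) (σ 5) = -2 * w ∧ T.a (σ 5) (σ 6) = w ∧ T.a (σ 6) (σ 6) = -2 * w)) := by
  have hm2 := all_minusTwo T hmin (by norm_num) hg
  exact ⟨fun i => (hm2 i).1, st0 T hm2 (pointEmb 0) (knows_point T hm2 0 M0 (by decide))⟩

end Groth.Agent.S7368
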