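import Groth.Statements.S7370
import Groth.Agent.Lib.Helper11.NumTypeAff

/-! generated by gen/g1gen.py (helper11): certificate search over Cartan configurations -/

set_option autoImplicit false
open Finset
open Models Models.NumericalType

namespace Groth.Agent.S7370

open Groth.Agent.Lib.Helper11

/-- the list of types of the statement -/
def Result (T : Models.NumericalType 9) : Prop :=
    ∃ (σ : Equiv.Perm (Fin 9)) (m w : ℤ),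
      ((T.m (σ 0) = m ∧ T.m (σ 1) = m ∧ T.m (σ 2) = m ∧ T.m (σ 3) = m ∧ T.m (σ 4) = m ∧ T.m (σ 5) = m ∧ T.m (σ 6) = m ∧ T.m (σ 7) = m ∧ T.m (σ 8) = m ∧ T.w (σ 0) = w ∧ T.w (σ 1) = w ∧ T.w (σ 2) = w ∧ T.w (σ 3) = w ∧ T.w (σ 4) = w ∧ T.w (σ 5) = w ∧ T.w (σ 6) = w ∧ T.w (σ 7) = w ∧ T.w (σ 8) = w ∧ T.a (σ 0) (σ 0) = -2 * w ∧ T.a (σ 0) (σ 1) = w ∧ T.a (σ 0) (σ 2) = 0 ∧ T.a (σ 0) (σ 3) = 0 ∧ T.a (σ 0) (σ 4) = 0 ∧ T.a (σ 0) (σ 5) = 0 ∧ T.a (σ 0) (σ 6) = 0 ∧ T.a (σ 0) (σ 7) = 0 ∧ T.a (σ 0) (σ 8) = w ∧ T.a (σ 1) (σ 1) = -2 * w ∧ T.a (σ 1) (σ 2) = w ∧ T.a (σ 1) (σ 3) = 0 ∧ T.a (σ 1) (σ 4) = 0 ∧ T.a (σ 1) (σ 5) = 0 ∧ T.a (σ 1) (σ 6) = 0 ∧ T.a (σ 1) (σ 7) = 0 ∧ T.a (σ 1) (σ 8) = 0 ∧ T.a (σ 2) (σ 2) = -2 * w ∧ T.a (σ 2) (σ 3) = w ∧ T.a (σ 2) (σ 4) = 0 ∧ T.a (σ 2) (σ 5) = 0 ∧ T.a (σ 2) (σ 6) = 0 ∧ T.a (σ 2) (σ 7) = 0 ∧ T.a (σ 2) (σ 8) = 0 ∧ T.a (σ 3) (σ 3) = -2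 * w ∧ T.a (σ 3) (σ 4) = w ∧ T.a (σ 3) (σ 5) = 0 ∧ T.a (σ 3) (σ 6) = 0 ∧ T.a (σ 3) (σ 7) = 0 ∧ T.a (σ 3) (σ 8) = 0 ∧ T.a (σ 4) (σ 4) = -2 * w ∧ T.a (σ 4) (σ 5) = w ∧ T.a (σ 4) (σ 6) = 0 ∧ T.a (σ 4) (σ 7) = 0 ∧ T.a (σ 4) (σ 8) = 0 ∧ T.a (σ 5) (σ 5) = -2 * w ∧ T.a (σ 5) (σ 6) = w ∧ T.a (σ 5) (σ 7) = 0 ∧ T.a (σ 5) (σ 8) = 0 ∧ T.a (σ 6) (σ 6) = -2 * w ∧ T.a (σ 6) (σ 7) = w ∧ T.a (σ 6) (σ 8) = 0 ∧ T.a (σ 7) (σ 7) = -2 * w ∧ T.a (σ 7) (σ 8) = w ∧ T.a (σ 8) (σ 8) = -2 * w) ∨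
      (T.m (σ 0) = 2 * m ∧ T.m (σ 1) = 2 * m ∧ T.m (σ 2) = 2 * m ∧ T.m (σ 3) = 2 * m ∧ T.m (σ 4) = 2 * m ∧ T.m (σ 5) = 2 * m ∧ T.m (σ 6) = 2 * m ∧ T.m (σ 7) = 2 * m ∧ T.m (σ 8) = m ∧ T.w (σ 0) = w ∧ T.w (σ 1) = 2 * w ∧ T.w (σ 2) = 2 * w ∧ T.w (σ 3) = 2 * w ∧ T.w (σ 4) = 2 * w ∧ T.w (σ 5) = 2 * w ∧ T.w (σ 6) = 2 * w ∧ T.w (σ 7) = 2 * w ∧ T.w (σ 8) = 4 * w ∧ T.a (σ 0) (σ 0) = -2 * w ∧ T.a (σ 0) (σ 1) = 2 * w ∧ T.a (σ 0) (σ 2) = 0 ∧ T.a (σ 0) (σ 3) = 0 ∧ T.a (σ 0) (σ 4) = 0 ∧ T.a (σ 0) (σ 5) = 0 ∧ T.a (σ 0) (σ 6) = 0 ∧ T.a (σ 0) (σ 7) = 0 ∧ T.a (σ 0) (σ 8) = 0 ∧ T.a (σ 1) (σ 1) = -4 * w ∧ T.a (σ 1) (σ 2) = 2 * w ∧ T.a (σ 1) (σ 3) = 0 ∧ T.a (σ 1) (σ 4) = 0 ∧ T.a (σ 1) (σ 5) = 0 ∧ T.a (σ 1) (σ 6) = 0 ∧ T.a (σ 1) (σ 7) = 0 ∧ T.a (σ 1) (σ 8) = 0 ∧ T.a (σ 2) (σ 2) = -4 * w ∧ T.a (σ 2) (σ 3) = 2 * w ∧ T.a (σ 2) (σ 4) = 0 ∧ T.a (σ 2) (σ 5) = 0 ∧ T.a (σ 2) (σ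 6) = 0 ∧ T.a (σ 2) (σ 7) = 0 ∧ T.a (σ 2) (σ 8) = 0 ∧ T.a (σ 3) (σ 3) = -4 * w ∧ T.a (σ 3) (σ 4) = 2 * w ∧ T.a (σ 3) (σ 5) = 0 ∧ T.a (σ 3) (σ 6) = 0 ∧ T.a (σ 3) (σ 7) = 0 ∧ T.a (σ 3) (σ 8) = 0 ∧ T.a (σ 4) (σ 4) = -4 * w ∧ T.a (σ 4) (σ 5) = 2 * w ∧ T.a (σ 4) (σ 6) = 0 ∧ T.a (σ 4) (σ 7) = 0 ∧ T.a (σ 4) (σ 8) = 0 ∧ T.a (σ 5) (σ 5) = -4 * w ∧ T.a (σ 5) (σ 6) = 2 * w ∧ T.a (σ 5) (σ 7) = 0 ∧ T.a (σ 5) (σ 8) = 0 ∧ T.a (σ 6) (σ 6) = -4 * w ∧ T.a (σ 6) (σ 7) = 2 * w ∧ T.a (σ 6) (σ 8) = 0 ∧ T.a (σ 7) (σ 7) = -4 * w ∧ T.a (σ 7) (σ 8) = 4 * w ∧ T.a (σ 8) (σ 8) = -8 * w) ∨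
      (T.m (σ 0) = m ∧ T.m (σ 1) = m ∧ T.m (σ 2) = m ∧ T.m (σ 3) = m ∧ T.m (σ 4) = m ∧ T.m (σ 5) = m ∧ T.m (σ 6) = m ∧ T.m (σ 7) = m ∧ T.m (σ 8) = m ∧ T.w (σ 0) = w ∧ T.w (σ 1) = 2 * w ∧ T.w (σ 2) = 2 * w ∧ T.w (σ 3) = 2 * w ∧ T.w (σ 4) = 2 * w ∧ T.w (σ 5) = 2 * w ∧ T.w (σ 6) = 2 * w ∧ T.w (σ 7) = 2 * w ∧ T.w (σ 8) = w ∧ T.a (σ 0) (σ 0) = -2 * w ∧ T.a (σ 0) (σ 1) = 2 * w ∧ T.a (σ 0) (σ 2) = 0 ∧ T.a (σ 0) (σ 3) = 0 ∧ T.a (σ 0) (σ 4) = 0 ∧ T.a (σ 0) (σ 5) = 0 ∧ T.a (σ 0) (σ 6) = 0 ∧ T.a (σ 0) (σ 7) = 0 ∧ T.a (σ 0) (σ 8) = 0 ∧ T.a (σ 1) (σ 1) = -4 * w ∧ T.a (σ 1) (σ 2) = 2 * w ∧ T.a (σ 1) (σ 3) = 0 ∧ T.a (σ 1) (σ 4) = 0 ∧ T.a (σ 1) (σ 5) = 0 ∧ T.a (σ 1) (σ 6) = 0 ∧ T.a (σ 1) (σ 7) = 0 ∧ T.a (σ 1) (σ 8) = 0 ∧ T.a (σ 2) (σ 2) = -4 * w ∧ T.a (σ 2) (σ 3) = 2 * w ∧ T.a (σ 2) (σ 4) = 0 ∧ T.a (σ 2) (σ 5) = 0 ∧ T.a (σ 2) (σ 6) = 0 ∧ T.a (σ 2) (σ 7) = 0 ∧ T.a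 (σ 2) (σ 8) = 0 ∧ T.a (σ 3) (σ 3) = -4 * w ∧ T.a (σ 3) (σ 4) = 2 * w ∧ T.a (σ 3) (σ 5) = 0 ∧ T.a (σ 3) (σ 6) = 0 ∧ T.a (σ 3) (σ 7) = 0 ∧ T.a (σ 3) (σ 8) = 0 ∧ T.a (σ 4) (σ 4) = -4 * w ∧ T.a (σ 4) (σ 5) = 2 * w ∧ T.a (σ 4) (σ 6) = 0 ∧ T.a (σ 4) (σ 7) = 0 ∧ T.a (σ 4) (σ 8) = 0 ∧ T.a (σ 5) (σ 5) = -4 * w ∧ T.a (σ 5) (σ 6) = 2 * w ∧ T.a (σ 5) (σ 7) = 0 ∧ T.a (σ 5) (σ 8) = 0 ∧ T.a (σ 6) (σ 6) = -4 * w ∧ T.a (σ 6) (σ 7) = 2 * w ∧ T.a (σ 6) (σ 8) = 0 ∧ T.a (σ 7) (σ 7) = -4 * w ∧ T.a (σ 7) (σ 8) = 2 * w ∧ T.a (σ 8) (σ 8) = -2 * w) ∨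
      (T.m (σ 0) = m ∧ T.m (σ 1) = 2 * m ∧ T.m (σ 2) = 2 * m ∧ T.m (σ 3) = 2 * m ∧ T.m (σ 4) = 2 * m ∧ T.m (σ 5) = 2 * m ∧ T.m (σ 6) = 2 * m ∧ T.m (σ 7) = 2 * m ∧ T.m (σ 8) = m ∧ T.w (σ 0) = 2 * w ∧ T.w (σ 1) = w ∧ T.w (σ 2) = w ∧ T.w (σ 3) = w ∧ T.w (σ 4) = w ∧ T.w (σ 5) = w ∧ T.w (σ 6) = w ∧ T.w (σ 7) = w ∧ T.w (σ 8) = 2 * w ∧ T.a (σ 0) (σ 0) = -4 * w ∧ T.a (σ 0) (σ 1) = 2 * w ∧ T.a (σ 0) (σ 2) = 0 ∧ T.a (σ 0) (σ 3) = 0 ∧ T.a (σ 0) (σ 4) = 0 ∧ T.a (σ 0) (σ 5) = 0 ∧ T.a (σ 0) (σ 6) = 0 ∧ T.a (σ 0) (σ 7) = 0 ∧ T.a (σ 0) (σ 8) = 0 ∧ T.a (σ 1) (σ 1) = -2 * w ∧ T.a (σ 1) (σ 2) = w ∧ T.a (σ 1) (σ 3) = 0 ∧ T.a (σ 1) (σ 4) = 0 ∧ T.a (σ 1) (σ 5) = 0 ∧ T.a (σ 1) (σ 6) = 0 ∧ T.a (σ 1) (σ 7) = 0 ∧ T.a (σ 1) (σ 8) = 0 ∧ T.a (σ 2) (σ 2) = -2 * w ∧ T.a (σ 2) (σ 3) = w ∧ T.a (σ 2) (σ 4) = 0 ∧ T.a (σ 2) (σ 5) = 0 ∧ T.a (σ 2) (σ 6) = 0 ∧ T.a (σ 2) (σ 7) = 0 ∧ T.a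 (σ 2) (σ 8) = 0 ∧ T.a (σ 3) (σ 3) = -2 * w ∧ T.a (σ 3) (σ 4) = w ∧ T.a (σ 3) (σ 5) = 0 ∧ T.a (σ 3) (σ 6) = 0 ∧ T.a (σ 3) (σ 7) = 0 ∧ T.a (σ 3) (σ 8) = 0 ∧ T.a (σ 4) (σ 4) = -2 * w ∧ T.a (σ 4) (σ 5) = w ∧ T.a (σ 4) (σ 6) = 0 ∧ T.a (σ 4) (σ 7) = 0 ∧ T.a (σ 4) (σ 8) = 0 ∧ T.a (σ 5) (σ 5) = -2 * w ∧ T.a (σ 5) (σ 6) = w ∧ T.a (σ 5) (σ 7) = 0 ∧ T.a (σ 5) (σ 8) = 0 ∧ T.a (σ 6) (σ 6) = -2 * w ∧ T.a (σ 6) (σ 7) = w ∧ T.a (σ 6) (σ 8) = 0 ∧ T.a (σ 7) (σ 7) = -2 * w ∧ T.a (σ 7) (σ 8) = 2 * w ∧ T.a (σ 8) (σ 8) = -4 * w) ∨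
      (T.m (σ 0) = m ∧ T.m (σ 1) = 2 * m ∧ T.m (σ 2) = 2 * m ∧ T.m (σ 3) = 2 * m ∧ T.m (σ 4) = 2 * m ∧ T.m (σ 5) = 2 * m ∧ T.m (σ 6) = 2 * m ∧ T.m (σ 7) = m ∧ T.m (σ 8) = m ∧ T.w (σ 0) = 2 * w ∧ T.w (σ 1) = w ∧ T.w (σ 2) = w ∧ T.w (σ 3) = w ∧ T.w (σ 4) = w ∧ T.w (σ 5) = w ∧ T.w (σ 6) = w ∧ T.w (σ 7) = w ∧ T.w (σ 8) = w ∧ T.a (σ 0) (σ 0) = -4 * w ∧ T.a (σ 0) (σ 1) = 2 * w ∧ T.a (σ 0) (σ 2) = 0 ∧ T.a (σ 0) (σ 3) = 0 ∧ T.a (σ 0) (σ 4) = 0 ∧ T.a (σ 0) (σ 5) = 0 ∧ T.a (σ 0) (σ 6) = 0 ∧ T.a (σ 0) (σ 7) = 0 ∧ T.a (σ 0) (σ 8) = 0 ∧ T.a (σ 1) (σ 1) = -2 * w ∧ T.a (σ 1) (σ 2) = w ∧ T.a (σ 1) (σ 3) = 0 ∧ T.a (σ 1) (σ 4) = 0 ∧ T.a (σ 1) (σ 5) = 0 ∧ T.a (σ 1) (σ 6) = 0 ∧ T.a (σ 1) (σ 7) = 0 ∧ T.a (σ 1) (σ 8) = 0 ∧ T.a (σ 2) (σ 2) = -2 * w ∧ T.a (σ 2) (σ 3) = w ∧ T.a (σ 2) (σ 4) = 0 ∧ T.a (σ 2) (σ 5) = 0 ∧ T.a (σ 2) (σ 6) = 0 ∧ T.a (σ 2) (σ 7) = 0 ∧ T.a (σ 2) (σ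 8) = 0 ∧ T.a (σ 3) (σ 3) = -2 * w ∧ T.a (σ 3) (σ 4) = w ∧ T.a (σ 3) (σ 5) = 0 ∧ T.a (σ 3) (σ 6) = 0 ∧ T.a (σ 3) (σ 7) = 0 ∧ T.a (σ 3) (σ 8) = 0 ∧ T.a (σ 4) (σ 4) = -2 * w ∧ T.a (σ 4) (σ 5) = w ∧ T.a (σ 4) (σ 6) = 0 ∧ T.a (σ 4) (σ 7) = 0 ∧ T.a (σ 4) (σ 8) = 0 ∧ T.a (σ 5) (σ 5) = -2 * w ∧ T.a (σ 5) (σ 6) = w ∧ T.a (σ 5) (σ 7) = 0 ∧ T.a (σ 5) (σ 8) = 0 ∧ T.a (σ 6) (σ 6) = -2 * w ∧ T.a (σ 6) (σ 7) = w ∧ T.a (σ 6) (σ 8) = w ∧ T.a (σ 7) (σ 7) = -2 * w ∧ T.a (σ 7) (σ 8) = 0 ∧ T.a (σ 8) (σ 8) = -2 * w) ∨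
      (T.m (σ 0) = 2 * m ∧ T.m (σ 1) = 2 * m ∧ T.m (σ 2) = 2 * m ∧ T.m (σ 3) = 2 * m ∧ T.m (σ 4) = 2 * m ∧ T.m (σ 5) = 2 * m ∧ T.m (σ 6) = 2 * m ∧ T.m (σ 7) = m ∧ T.m (σ 8) = m ∧ T.w (σ 0) = w ∧ T.w (σ 1) = 2 * w ∧ T.w (σ 2) = 2 * w ∧ T.w (σ 3) = 2 * w ∧ T.w (σ 4) = 2 * w ∧ T.w (σ 5) = 2 * w ∧ T.w (σ 6) = 2 * w ∧ T.w (σ 7) = 2 * w ∧ T.w (σ 8) = 2 * w ∧ T.a (σ 0) (σ 0) = -2 * w ∧ T.a (σ 0) (σ 1) = 2 * w ∧ T.a (σ 0) (σ 2) = 0 ∧ T.a (σ 0) (σ 3) = 0 ∧ T.a (σ 0) (σ 4) = 0 ∧ T.a (σ 0) (σ 5) = 0 ∧ T.a (σ 0) (σ 6) = 0 ∧ T.a (σ 0) (σ 7) = 0 ∧ T.a (σ 0) (σ 8) = 0 ∧ T.a (σ 1) (σ 1) = -4 * w ∧ T.a (σ 1) (σ 2) = 2 * w ∧ T.a (σ 1) (σ 3) = 0 ∧ T.a (σ 1) (σ 4) = 0 ∧ T.a (σ 1) (σ 5) = 0 ∧ T.a (σ 1) (σ 6) = 0 ∧ T.a (σ 1) (σ 7) = 0 ∧ T.a (σ 1) (σ 8) = 0 ∧ T.a (σ 2) (σ 2) = -4 * w ∧ T.a (σ 2) (σ 3) = 2 * w ∧ T.a (σ 2) (σ 4) = 0 ∧ T.a (σ 2) (σ 5) = 0 ∧ T.a (σ 2) (σ 6)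 = 0 ∧ T.a (σ 2) (σ 7) = 0 ∧ T.a (σ 2) (σ 8) = 0 ∧ T.a (σ 3) (σ 3) = -4 * w ∧ T.a (σ 3) (σ 4) = 2 * w ∧ T.a (σ 3) (σ 5) = 0 ∧ T.a (σ 3) (σ 6) = 0 ∧ T.a (σ 3) (σ 7) = 0 ∧ T.a (σ 3) (σ 8) = 0 ∧ T.a (σ 4) (σ 4) = -4 * w ∧ T.a (σ 4) (σ 5) = 2 * w ∧ T.a (σ 4) (σ 6) = 0 ∧ T.a (σ 4) (σ 7) = 0 ∧ T.a (σ 4) (σ 8) = 0 ∧ T.a (σ 5) (σ 5) = -4 * w ∧ T.a (σ 5) (σ 6) = 2 * w ∧ T.a (σ 5) (σ 7) = 0 ∧ T.a (σ 5) (σ 8) = 0 ∧ T.a (σ 6) (σ 6) = -4 * w ∧ T.a (σ 6) (σ 7) = 2 * w ∧ T.a (σ 6) (σ 8) = 2 * w ∧ T.a (σ 7) (σ 7) = -4 * w ∧ T.a (σ 7) (σ 8) = 0 ∧ T.a (σ 8) (σ 8) = -4 * w) ∨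
      (T.m (σ 0) = m ∧ T.m (σ 1) = m ∧ T.m (σ 2) = 2 * m ∧ T.m (σ 3) = 2 * m ∧ T.m (σ 4) = 2 * m ∧ T.m (σ 5) = 2 * m ∧ T.m (σ 6) = 2 * m ∧ T.m (σ 7) = m ∧ T.m (σ 8) = m ∧ T.w (σ 0) = w ∧ T.w (σ 1) = w ∧ T.w (σ 2) = w ∧ T.w (σ 3) = w ∧ T.w (σ 4) = w ∧ T.w (σ 5) = w ∧ T.w (σ 6) = w ∧ T.w (σ 7) = w ∧ T.w (σ 8) = w ∧ T.a (σ 0) (σ 0) = -2 * w ∧ T.a (σ 0) (σ 1) = 0 ∧ T.a (σ 0) (σ 2) = w ∧ T.a (σ 0) (σ 3) = 0 ∧ T.a (σ 0) (σ 4) = 0 ∧ T.a (σ 0) (σ 5) = 0 ∧ T.a (σ 0) (σ 6) = 0 ∧ T.a (σ 0) (σ 7) = 0 ∧ T.a (σ 0) (σ 8) = 0 ∧ T.a (σ 1) (σ 1) = -2 * w ∧ T.a (σ 1) (σ 2) = w ∧ T.a (σ 1) (σ 3) = 0 ∧ T.a (σ 1) (σ 4) = 0 ∧ T.a (σ 1) (σ 5) = 0 ∧ T.a (σ 1) (σ 6) = 0 ∧ T.a (σ 1) (σ 7) = 0 ∧ T.a (σ 1) (σ 8) = 0 ∧ T.a (σ 2) (σ 2) = -2 * w ∧ T.a (σ 2) (σ 3) = w ∧ T.a (σ 2) (σ 4) = 0 ∧ T.a (σ 2) (σ 5) = 0 ∧ T.a (σ 2) (σ 6) = 0 ∧ T.a (σ 2) (σ 7) = 0 ∧ T.a (σ 2) (σ 8) = 0 ∧ T.a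 (σ 3) (σ 3) = -2 * w ∧ T.a (σ 3) (σ 4) = w ∧ T.a (σ 3) (σ 5) = 0 ∧ T.a (σ 3) (σ 6) = 0 ∧ T.a (σ 3) (σ 7) = 0 ∧ T.a (σ 3) (σ 8) = 0 ∧ T.a (σ 4) (σ 4) = -2 * w ∧ T.a (σ 4) (σ 5) = w ∧ T.a (σ 4) (σ 6) = 0 ∧ T.a (σ 4) (σ 7) = 0 ∧ T.a (σ 4) (σ 8) = 0 ∧ T.a (σ 5) (σ 5) = -2 * w ∧ T.a (σ 5) (σ 6) = w ∧ T.a (σ 5) (σ 7) = 0 ∧ T.a (σ 5) (σ 8) = 0 ∧ T.a (σ 6) (σ 6) = -2 * w ∧ T.a (σ 6) (σ 7) = w ∧ T.a (σ 6) (σ 8) = w ∧ T.a (σ 7) (σ 7) = -2 * w ∧ T.a (σ 7) (σ 8) = 0 ∧ T.a (σ 8) (σ 8) = -2 * w) ∨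
      (T.m (σ 0) = m ∧ T.m (σ 1) = 2 * m ∧ T.m (σ 2) = 3 * m ∧ T.m (σ 3) = 4 * m ∧ T.m (σ 4) = 5 * m ∧ T.m (σ 5) = 6 * m ∧ T.m (σ 6) = 4 * m ∧ T.m (σ 7) = 2 * m ∧ T.m (σ 8) = 3 * m ∧ T.w (σ 0) = w ∧ T.w (σ 1) = w ∧ T.w (σ 2) = w ∧ T.w (σ 3) = w ∧ T.w (σ 4) = w ∧ T.w (σ 5) = w ∧ T.w (σ 6) = w ∧ T.w (σ 7) = w ∧ T.w (σ 8) = w ∧ T.a (σ 0) (σ 0) = -2 * w ∧ T.a (σ 0) (σ 1) = w ∧ T.a (σ 0) (σ 2) = 0 ∧ T.a (σ 0) (σ 3) = 0 ∧ T.a (σ 0) (σ 4) = 0 ∧ T.a (σ 0) (σ 5) = 0 ∧ T.a (σ 0) (σ 6) = 0 ∧ T.a (σ 0) (σ 7) = 0 ∧ T.a (σ 0) (σ 8) = 0 ∧ T.a (σ 1) (σ 1) = -2 * w ∧ T.a (σ 1) (σ 2) = w ∧ T.a (σ 1) (σ 3) = 0 ∧ T.a (σ 1) (σ 4) = 0 ∧ T.a (σ 1) (σ 5) = 0 ∧ T.a (σ 1) (σ 6) = 0 ∧ T.a (σ 1) (σ 7) = 0 ∧ T.a (σ 1) (σ 8) = 0 ∧ T.a (σ 2) (σ 2) = -2 * w ∧ T.a (σ 2) (σ 3) = w ∧ T.a (σ 2) (σ 4) = 0 ∧ T.a (σ 2) (σ 5) = 0 ∧ T.a (σ 2) (σ 6) = 0 ∧ T.a (σ 2) (σ 7) = 0 ∧ T.a (σ 2) (σ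 8) = 0 ∧ T.a (σ 3) (σ 3) = -2 * w ∧ T.a (σ 3) (σ 4) = w ∧ T.a (σ 3) (σ 5) = 0 ∧ T.a (σ 3) (σ 6) = 0 ∧ T.a (σ 3) (σ 7) = 0 ∧ T.a (σ 3) (σ 8) = 0 ∧ T.a (σ 4) (σ 4) = -2 * w ∧ T.a (σ 4) (σ 5) = w ∧ T.a (σ 4) (σ 6) = 0 ∧ T.a (σ 4) (σ 7) = 0 ∧ T.a (σ 4) (σ 8) = 0 ∧ T.a (σ 5) (σ 5) = -2 * w ∧ T.a (σ 5) (σ 6) = w ∧ T.a (σ 5) (σ 7) = 0 ∧ T.a (σ 5) (σ 8) = w ∧ T.a (σ 6) (σ 6) = -2 * w ∧ T.a (σ 6) (σ 7) = w ∧ T.a (σ 6) (σ 8) = 0 ∧ T.a (σ 7) (σ 7) = -2 * w ∧ T.a (σ 7) (σ 8) = 0 ∧ T.a (σ 8) (σ 8) = -2 * w))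

def mc0 : Fin 9 → ℤ := ![1, 1, 1, 1, 1, 1, 1, 1, 1]
def wc0 : Fin 9 → ℤ := ![1, 1, 1, 1, 1, 1, 1, 1, 1]
def ac0 : Fin 9 → Fin 9 → ℤ := ![![-2, 1, 0, 0, 0, 0, 0, 0, 1], ![1, -2, 1, 0, 0, 0, 0, 0, 0], ![0, 1, -2, 1, 0, 0, 0, 0, 0], ![0, 0, 1, -2, 1, 0, 0, 0, 0], ![0, 0, 0, 1, -2, 1, 0, 0, 0], ![0, 0, 0, 0, 1, -2, 1, 0, 0], ![0, 0, 0, 0, 0, 1, -2, 1, 0], ![0, 0, 0, 0, 0, 0, 1, -2, 1], ![1, 0, 0, 0, 0, 0, 0, 1, -2]]

theorem of_type0 (T : Models.NumericalType 9) (σ : Equiv.Perm (Fin 9)) (m w : ℤ)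
    (h : IsType T σ m w mc0 wc0 ac0) : Result T := by
  obtain ⟨h1, h2, h3⟩ := h
  refine ⟨σ, m, w, ?_⟩
  refine Or.inl ?_
  refine ⟨?_, ?_, ?_, ?_, ?_, ?_, ?_, ?_, ?_, ?_, ?_, ?_, ?_, ?_, ?_, ?_, ?_, ?_, ?_, ?_, ?_, ?_, ?_, ?_, ?_, ?_, ?_, ?_, ?_, ?_, ?_, ?_, ?_, ?_, ?_, ?_, ?_, ?_, ?_, ?_, ?_, ?_, ?_, ?_, ?_, ?_, ?_, ?_, ?_, ?_, ?_, ?_, ?_, ?_, ?_, ?_, ?_, ?_, ?_, ?_, ?_, ?_, ?_⟩
  · simpa [mc0] using h1 0
  · simpa [mc0] using h1 1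
  · simpa [mc0] using h1 2
  · simpa [mc0] using h1 3
  · simpa [mc0] using h1 4
  · simpa [mc0] using h1 5
  · simpa [mc0] using h1 6
  · simpa [mc0] using h1 7
  · simpa [mc0] using h1 8
  · simpa [wc0] using h2 0
  · simpa [wc0] using h2 1
  · simpa [wc0] using h2 2
  · simpa [wc0] using h2 3
  · simpa [wc0] using h2 4
  · simpa [wc0] using h2 5
  · simpa [wc0] using h2 6
  · simpa [wc0] using h2 7
  · simpa [wc0] using h2 8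
  · simpa [ac0] using h3 0 0
  · simpa [ac0] using h3 0 1
  · simpa [ac0] using h3 0 2
  · simpa [ac0] using h3 0 3
  · simpa [ac0] using h3 0 4
  · simpa [ac0] using h3 0 5
  · simpa [ac0] using h3 0 6
  · simpa [ac0] using h3 0 7
  · simpa [ac0] using h3 0 8
  · simpa [ac0] using h3 1 1
  · simpa [ac0] using h3 1 2
  · simpa [ac0] using h3 1 3
  · simpa [ac0] using h3 1 4
  · simpa [ac0] using h3 1 5
  · simpa [ac0] using h3 1 6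
  · simpa [ac0] using h3 1 7
  · simpa [ac0] using h3 1 8
  · simpa [ac0] using h3 2 2
  · simpa [ac0] using h3 2 3
  · simpa [ac0] using h3 2 4
  · simpa [ac0] using h3 2 5
  · simpa [ac0] using h3 2 6
  · simpa [ac0] using h3 2 7
  · simpa [ac0] using h3 2 8
  · simpa [ac0] using h3 3 3
  · simpa [ac0] using h3 3 4
  · simpa [ac0] using h3 3 5
  · simpa [ac0] using h3 3 6
  · simpa [ac0] using h3 3 7
  · simpa [ac0] using h3 3 8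
  · simpa [ac0] using h3 4 4
  · simpa [ac0] using h3 4 5
  · simpa [ac0] using h3 4 6
  · simpa [ac0] using h3 4 7
  · simpa [ac0] using h3 4 8
  · simpa [ac0] using h3 5 5
  · simpa [ac0] using h3 5 6
  · simpa [ac0] using h3 5 7
  · simpa [ac0] using h3 5 8
  · simpa [ac0] using h3 6 6
  · simpa [ac0] using h3 6 7
  · simpa [ac0] using h3 6 8
  · simpa [ac0] using h3 7 7
  · simpa [ac0] using h3 7 8
  · simpa [ac0] using h3 8 8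

def mc1 : Fin 9 → ℤ := ![2, 2, 2, 2, 2, 2, 2, 2, 1]
def wc1 : Fin 9 → ℤ := ![1, 2, 2, 2, 2, 2, 2, 2, 4]
def ac1 : Fin 9 → Fin 9 → ℤ := ![![-2, 2, 0, 0, 0, 0, 0, 0, 0], ![2, -4, 2, 0, 0, 0, 0, 0, 0], ![0, 2, -4, 2, 0, 0, 0, 0, 0], ![0, 0, 2, -4, 2, 0, 0, 0, 0], ![0, 0, 0, 2, -4, 2, 0, 0, 0], ![0, 0, 0, 0, 2, -4, 2, 0, 0], ![0, 0, 0, 0, 0, 2, -4, 2, 0], ![0, 0, 0, 0, 0, 0, 2, -4, 4], ![0, 0, 0, 0, 0, 0, 0, 4, -8]]

theorem of_type1 (T : Models.NumericalType 9) (σ : Equiv.Perm (Fin 9)) (m w : ℤ)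
    (h : IsType T σ m w mc1 wc1 ac1) : Result T := by
  obtain ⟨h1, h2, h3⟩ := h
  refine ⟨σ, m, w, ?_⟩
  refine Or.inr (Or.inl ?_)
  refine ⟨?_, ?_, ?_, ?_, ?_, ?_, ?_, ?_, ?_, ?_, ?_, ?_, ?_, ?_, ?_, ?_, ?_, ?_, ?_, ?_, ?_, ?_, ?_, ?_, ?_, ?_, ?_, ?_, ?_, ?_, ?_, ?_, ?_, ?_, ?_, ?_, ?_, ?_, ?_, ?_, ?_, ?_, ?_, ?_, ?_, ?_, ?_, ?_, ?_, ?_, ?_, ?_, ?_, ?_, ?_, ?_, ?_, ?_, ?_, ?_, ?_, ?_, ?_⟩
  · simpa [mc1] using h1 0
  · simpa [mc1] using h1 1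
  · simpa [mc1] using h1 2
  · simpa [mc1] using h1 3
  · simpa [mc1] using h1 4
  · simpa [mc1] using h1 5
  · simpa [mc1] using h1 6
  · simpa [mc1] using h1 7
  · simpa [mc1] using h1 8
  · simpa [wc1] using h2 0
  · simpa [wc1] using h2 1
  · simpa [wc1] using h2 2
  · simpa [wc1] using h2 3
  · simpa [wc1] using h2 4
  · simpa [wc1] using h2 5
  · simpa [wc1] using h2 6
  · simpa [wc1] using h2 7
  · simpa [wc1] using h2 8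
  · simpa [ac1] using h3 0 0
  · simpa [ac1] using h3 0 1
  · simpa [ac1] using h3 0 2
  · simpa [ac1] using h3 0 3
  · simpa [ac1] using h3 0 4
  · simpa [ac1] using h3 0 5
  · simpa [ac1] using h3 0 6
  · simpa [ac1] using h3 0 7
  · simpa [ac1] using h3 0 8
  · simpa [ac1] using h3 1 1
  · simpa [ac1] using h3 1 2
  · simpa [ac1] using h3 1 3
  · simpa [ac1] using h3 1 4
  · simpa [ac1] using h3 1 5
  · simpa [ac1] using h3 1 6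
  · simpa [ac1] using h3 1 7
  · simpa [ac1] using h3 1 8
  · simpa [ac1] using h3 2 2
  · simpa [ac1] using h3 2 3
  · simpa [ac1] using h3 2 4
  · simpa [ac1] using h3 2 5
  · simpa [ac1] using h3 2 6
  · simpa [ac1] using h3 2 7
  · simpa [ac1] using h3 2 8
  · simpa [ac1] using h3 3 3
  · simpa [ac1] using h3 3 4
  · simpa [ac1] using h3 3 5
  · simpa [ac1] using h3 3 6
  · simpa [ac1] using h3 3 7
  · simpa [ac1] using h3 3 8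
  · simpa [ac1] using h3 4 4
  · simpa [ac1] using h3 4 5
  · simpa [ac1] using h3 4 6
  · simpa [ac1] using h3 4 7
  · simpa [ac1] using h3 4 8
  · simpa [ac1] using h3 5 5
  · simpa [ac1] using h3 5 6
  · simpa [ac1] using h3 5 7
  · simpa [ac1] using h3 5 8
  · simpa [ac1] using h3 6 6
  · simpa [ac1] using h3 6 7
  · simpa [ac1] using h3 6 8
  · simpa [ac1] using h3 7 7
  · simpa [ac1] using h3 7 8
  · simpa [ac1] using h3 8 8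

def mc2 : Fin 9 → ℤ := ![1, 1, 1, 1, 1, 1, 1, 1, 1]
def wc2 : Fin 9 → ℤ := ![1, 2, 2, 2, 2, 2, 2, 2, 1]
def ac2 : Fin 9 → Fin 9 → ℤ := ![![-2, 2, 0, 0, 0, 0, 0, 0, 0], ![2, -4, 2, 0, 0, 0, 0, 0, 0], ![0, 2, -4, 2, 0, 0, 0, 0, 0], ![0, 0, 2, -4, 2, 0, 0, 0, 0], ![0, 0, 0, 2, -4, 2, 0, 0, 0], ![0, 0, 0, 0, 2, -4, 2, 0, 0], ![0, 0, 0, 0, 0, 2, -4, 2, 0], ![0, 0, 0, 0, 0, 0, 2, -4, 2], ![0, 0, 0, 0, 0, 0, 0, 2, -2]]

theorem of_type2 (T : Models.NumericalType 9) (σ : Equiv.Perm (Fin 9)) (m w : ℤ)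
    (h : IsType T σ m w mc2 wc2 ac2) : Result T := by
  obtain ⟨h1, h2, h3⟩ := h
  refine ⟨σ, m, w, ?_⟩
  refine Or.inr (Or.inr (Or.inl ?_))
  refine ⟨?_, ?_, ?_, ?_, ?_, ?_, ?_, ?_, ?_, ?_, ?_, ?_, ?_, ?_, ?_, ?_, ?_, ?_, ?_, ?_, ?_, ?_, ?_, ?_, ?_, ?_, ?_, ?_, ?_, ?_, ?_, ?_, ?_, ?_, ?_, ?_, ?_, ?_, ?_, ?_, ?_, ?_, ?_, ?_, ?_, ?_, ?_, ?_, ?_, ?_, ?_, ?_, ?_, ?_, ?_, ?_, ?_, ?_, ?_, ?_, ?_, ?_, ?_⟩
  · simpa [mc2] using h1 0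
  · simpa [mc2] using h1 1
  · simpa [mc2] using h1 2
  · simpa [mc2] using h1 3
  · simpa [mc2] using h1 4
  · simpa [mc2] using h1 5
  · simpa [mc2] using h1 6
  · simpa [mc2] using h1 7
  · simpa [mc2] using h1 8
  · simpa [wc2] using h2 0
  · simpa [wc2] using h2 1
  · simpa [wc2] using h2 2
  · simpa [wc2] using h2 3
  · simpa [wc2] using h2 4
  · simpa [wc2] using h2 5
  · simpa [wc2] using h2 6
  · simpa [wc2] using h2 7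
  · simpa [wc2] using h2 8
  · simpa [ac2] using h3 0 0
  · simpa [ac2] using h3 0 1
  · simpa [ac2] using h3 0 2
  · simpa [ac2] using h3 0 3
  · simpa [ac2] using h3 0 4
  · simpa [ac2] using h3 0 5
  · simpa [ac2] using h3 0 6
  · simpa [ac2] using h3 0 7
  · simpa [ac2] using h3 0 8
  · simpa [ac2] using h3 1 1
  · simpa [ac2] using h3 1 2
  · simpa [ac2] using h3 1 3
  · simpa [ac2] using h3 1 4
  · simpa [ac2] using h3 1 5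
  · simpa [ac2] using h3 1 6
  · simpa [ac2] using h3 1 7
  · simpa [ac2] using h3 1 8
  · simpa [ac2] using h3 2 2
  · simpa [ac2] using h3 2 3
  · simpa [ac2] using h3 2 4
  · simpa [ac2] using h3 2 5
  · simpa [ac2] using h3 2 6
  · simpa [ac2] using h3 2 7
  · simpa [ac2] using h3 2 8
  · simpa [ac2] using h3 3 3
  · simpa [ac2] using h3 3 4
  · simpa [ac2] using h3 3 5
  · simpa [ac2] using h3 3 6
  · simpa [ac2] using h3 3 7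
  · simpa [ac2] using h3 3 8
  · simpa [ac2] using h3 4 4
  · simpa [ac2] using h3 4 5
  · simpa [ac2] using h3 4 6
  · simpa [ac2] using h3 4 7
  · simpa [ac2] using h3 4 8
  · simpa [ac2] using h3 5 5
  · simpa [ac2] using h3 5 6
  · simpa [ac2] using h3 5 7
  · simpa [ac2] using h3 5 8
  · simpa [ac2] using h3 6 6
  · simpa [ac2] using h3 6 7
  · simpa [ac2] using h3 6 8
  · simpa [ac2] using h3 7 7
  · simpa [ac2] using h3 7 8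
  · simpa [ac2] using h3 8 8

def mc3 : Fin 9 → ℤ := ![1, 2, 2, 2, 2, 2, 2, 2, 1]
def wc3 : Fin 9 → ℤ := ![2, 1, 1, 1, 1, 1, 1, 1, 2]
def ac3 : Fin 9 → Fin 9 → ℤ := ![![-4, 2, 0, 0, 0, 0, 0, 0, 0], ![2, -2, 1, 0, 0, 0, 0, 0, 0], ![0, 1, -2, 1, 0, 0, 0, 0, 0], ![0, 0, 1, -2, 1, 0, 0, 0, 0], ![0, 0, 0, 1, -2, 1, 0, 0, 0], ![0, 0, 0, 0, 1, -2, 1, 0, 0], ![0, 0, 0, 0, 0, 1, -2, 1, 0], ![0, 0, 0, 0, 0, 0, 1, -2, 2], ![0, 0, 0, 0, 0, 0, 0, 2, -4]]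

theorem of_type3 (T : Models.NumericalType 9) (σ : Equiv.Perm (Fin 9)) (m w : ℤ)
    (h : IsType T σ m w mc3 wc3 ac3) : Result T := by
  obtain ⟨h1, h2, h3⟩ := h
  refine ⟨σ, m, w, ?_⟩
  refine Or.inr (Or.inr (Or.inr (Or.inl ?_)))
  refine ⟨?_, ?_, ?_, ?_, ?_, ?_, ?_, ?_, ?_, ?_, ?_, ?_, ?_, ?_, ?_, ?_, ?_, ?_, ?_, ?_, ?_, ?_, ?_, ?_, ?_, ?_, ?_, ?_, ?_, ?_, ?_, ?_, ?_, ?_, ?_, ?_, ?_, ?_, ?_, ?_, ?_, ?_, ?_, ?_, ?_, ?_, ?_, ?_, ?_, ?_, ?_, ?_, ?_, ?_, ?_, ?_, ?_, ?_, ?_, ?_, ?_, ?_, ?_⟩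
  · simpa [mc3] using h1 0
  · simpa [mc3] using h1 1
  · simpa [mc3] using h1 2
  · simpa [mc3] using h1 3
  · simpa [mc3] using h1 4
  · simpa [mc3] using h1 5
  · simpa [mc3] using h1 6
  · simpa [mc3] using h1 7
  · simpa [mc3] using h1 8
  · simpa [wc3] using h2 0
  · simpa [wc3] using h2 1
  · simpa [wc3] using h2 2
  · simpa [wc3] using h2 3
  · simpa [wc3] using h2 4
  · simpa [wc3] using h2 5
  · simpa [wc3] using h2 6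
  · simpa [wc3] using h2 7
  · simpa [wc3] using h2 8
  · simpa [ac3] using h3 0 0
  · simpa [ac3] using h3 0 1
  · simpa [ac3] using h3 0 2
  · simpa [ac3] using h3 0 3
  · simpa [ac3] using h3 0 4
  · simpa [ac3] using h3 0 5
  · simpa [ac3] using h3 0 6
  · simpa [ac3] using h3 0 7
  · simpa [ac3] using h3 0 8
  · simpa [ac3] using h3 1 1
  · simpa [ac3] using h3 1 2
  · simpa [ac3] using h3 1 3
  · simpa [ac3] using h3 1 4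
  · simpa [ac3] using h3 1 5
  · simpa [ac3] using h3 1 6
  · simpa [ac3] using h3 1 7
  · simpa [ac3] using h3 1 8
  · simpa [ac3] using h3 2 2
  · simpa [ac3] using h3 2 3
  · simpa [ac3] using h3 2 4
  · simpa [ac3] using h3 2 5
  · simpa [ac3] using h3 2 6
  · simpa [ac3] using h3 2 7
  · simpa [ac3] using h3 2 8
  · simpa [ac3] using h3 3 3
  · simpa [ac3] using h3 3 4
  · simpa [ac3] using h3 3 5
  · simpa [ac3] using h3 3 6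
  · simpa [ac3] using h3 3 7
  · simpa [ac3] using h3 3 8
  · simpa [ac3] using h3 4 4
  · simpa [ac3] using h3 4 5
  · simpa [ac3] using h3 4 6
  · simpa [ac3] using h3 4 7
  · simpa [ac3] using h3 4 8
  · simpa [ac3] using h3 5 5
  · simpa [ac3] using h3 5 6
  · simpa [ac3] using h3 5 7
  · simpa [ac3] using h3 5 8
  · simpa [ac3] using h3 6 6
  · simpa [ac3] using h3 6 7
  · simpa [ac3] using h3 6 8
  · simpa [ac3] using h3 7 7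
  · simpa [ac3] using h3 7 8
  · simpa [ac3] using h3 8 8

def mc4 : Fin 9 → ℤ := ![1, 2, 2, 2, 2, 2, 2, 1, 1]
def wc4 : Fin 9 → ℤ := ![2, 1, 1, 1, 1, 1, 1, 1, 1]
def ac4 : Fin 9 → Fin 9 → ℤ := ![![-4, 2, 0, 0, 0, 0, 0, 0, 0], ![2, -2, 1, 0, 0, 0, 0, 0, 0], ![0, 1, -2, 1, 0, 0, 0, 0, 0], ![0, 0, 1, -2, 1, 0, 0, 0, 0], ![0, 0, 0, 1, -2, 1, 0, 0, 0], ![0, 0, 0, 0, 1, -2, 1, 0, 0], ![0, 0, 0, 0, 0, 1, -2, 1, 1], ![0, 0, 0, 0, 0, 0, 1, -2, 0], ![0, 0, 0, 0, 0, 0, 1, 0, -2]]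

theorem of_type4 (T : Models.NumericalType 9) (σ : Equiv.Perm (Fin 9)) (m w : ℤ)
    (h : IsType T σ m w mc4 wc4 ac4) : Result T := by
  obtain ⟨h1, h2, h3⟩ := h
  refine ⟨σ, m, w, ?_⟩
  refine Or.inr (Or.inr (Or.inr (Or.inr (Or.inl ?_))))
  refine ⟨?_, ?_, ?_, ?_, ?_, ?_, ?_, ?_, ?_, ?_, ?_, ?_, ?_, ?_, ?_, ?_, ?_, ?_, ?_, ?_, ?_, ?_, ?_, ?_, ?_, ?_, ?_, ?_, ?_, ?_, ?_, ?_, ?_, ?_, ?_, ?_, ?_, ?_, ?_, ?_, ?_, ?_, ?_, ?_, ?_, ?_, ?_, ?_, ?_, ?_, ?_, ?_, ?_, ?_, ?_, ?_, ?_, ?_, ?_, ?_, ?_, ?_, ?_⟩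
  · simpa [mc4] using h1 0
  · simpa [mc4] using h1 1
  · simpa [mc4] using h1 2
  · simpa [mc4] using h1 3
  · simpa [mc4] using h1 4
  · simpa [mc4] using h1 5
  · simpa [mc4] using h1 6
  · simpa [mc4] using h1 7
  · simpa [mc4] using h1 8
  · simpa [wc4] using h2 0
  · simpa [wc4] using h2 1
  · simpa [wc4] using h2 2
  · simpa [wc4] using h2 3
  · simpa [wc4] using h2 4
  · simpa [wc4] using h2 5
  · simpa [wc4] using h2 6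
  · simpa [wc4] using h2 7
  · simpa [wc4] using h2 8
  · simpa [ac4] using h3 0 0
  · simpa [ac4] using h3 0 1
  · simpa [ac4] using h3 0 2
  · simpa [ac4] using h3 0 3
  · simpa [ac4] using h3 0 4
  · simpa [ac4] using h3 0 5
  · simpa [ac4] using h3 0 6
  · simpa [ac4] using h3 0 7
  · simpa [ac4] using h3 0 8
  · simpa [ac4] using h3 1 1
  · simpa [ac4] using h3 1 2
  · simpa [ac4] using h3 1 3
  · simpa [ac4] using h3 1 4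
  · simpa [ac4] using h3 1 5
  · simpa [ac4] using h3 1 6
  · simpa [ac4] using h3 1 7
  · simpa [ac4] using h3 1 8
  · simpa [ac4] using h3 2 2
  · simpa [ac4] using h3 2 3
  · simpa [ac4] using h3 2 4
  · simpa [ac4] using h3 2 5
  · simpa [ac4] using h3 2 6
  · simpa [ac4] using h3 2 7
  · simpa [ac4] using h3 2 8
  · simpa [ac4] using h3 3 3
  · simpa [ac4] using h3 3 4
  · simpa [ac4] using h3 3 5
  · simpa [ac4] using h3 3 6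
  · simpa [ac4] using h3 3 7
  · simpa [ac4] using h3 3 8
  · simpa [ac4] using h3 4 4
  · simpa [ac4] using h3 4 5
  · simpa [ac4] using h3 4 6
  · simpa [ac4] using h3 4 7
  · simpa [ac4] using h3 4 8
  · simpa [ac4] using h3 5 5
  · simpa [ac4] using h3 5 6
  · simpa [ac4] using h3 5 7
  · simpa [ac4] using h3 5 8
  · simpa [ac4] using h3 6 6
  · simpa [ac4] using h3 6 7
  · simpa [ac4] using h3 6 8
  · simpa [ac4] using h3 7 7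
  · simpa [ac4] using h3 7 8
  · simpa [ac4] using h3 8 8

def mc5 : Fin 9 → ℤ := ![2, 2, 2, 2, 2, 2, 2, 1, 1]
def wc5 : Fin 9 → ℤ := ![1, 2, 2, 2, 2, 2, 2, 2, 2]
def ac5 : Fin 9 → Fin 9 → ℤ := ![![-2, 2, 0, 0, 0, 0, 0, 0, 0], ![2, -4, 2, 0, 0, 0, 0, 0, 0], ![0, 2, -4, 2, 0, 0, 0, 0, 0], ![0, 0, 2, -4, 2, 0, 0, 0, 0], ![0, 0, 0, 2, -4, 2, 0, 0, 0], ![0, 0, 0, 0, 2, -4, 2, 0, 0], ![0, 0, 0, 0, 0, 2, -4, 2, 2], ![0, 0, 0, 0, 0, 0, 2, -4, 0], ![0, 0, 0, 0, 0, 0, 2, 0, -4]]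

theorem of_type5 (T : Models.NumericalType 9) (σ : Equiv.Perm (Fin 9)) (m w : ℤ)
    (h : IsType T σ m w mc5 wc5 ac5) : Result T := by
  obtain ⟨h1, h2, h3⟩ := h
  refine ⟨σ, m, w, ?_⟩
  refine Or.inr (Or.inr (Or.inr (Or.inr (Or.inr (Or.inl ?_)))))
  refine ⟨?_, ?_, ?_, ?_, ?_, ?_, ?_, ?_, ?_, ?_, ?_, ?_, ?_, ?_, ?_, ?_, ?_, ?_, ?_, ?_, ?_, ?_, ?_, ?_, ?_, ?_, ?_, ?_, ?_, ?_, ?_, ?_, ?_, ?_, ?_, ?_, ?_, ?_, ?_, ?_, ?_, ?_, ?_, ?_, ?_, ?_, ?_, ?_, ?_, ?_, ?_, ?_, ?_, ?_, ?_, ?_, ?_, ?_, ?_, ?_, ?_, ?_, ?_⟩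
  · simpa [mc5] using h1 0
  · simpa [mc5] using h1 1
  · simpa [mc5] using h1 2
  · simpa [mc5] using h1 3
  · simpa [mc5] using h1 4
  · simpa [mc5] using h1 5
  · simpa [mc5] using h1 6
  · simpa [mc5] using h1 7
  · simpa [mc5] using h1 8
  · simpa [wc5] using h2 0
  · simpa [wc5] using h2 1
  · simpa [wc5] using h2 2
  · simpa [wc5] using h2 3
  · simpa [wc5] using h2 4
  · simpa [wc5] using h2 5
  · simpa [wc5] using h2 6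
  · simpa [wc5] using h2 7
  · simpa [wc5] using h2 8
  · simpa [ac5] using h3 0 0
  · simpa [ac5] using h3 0 1
  · simpa [ac5] using h3 0 2
  · simpa [ac5] using h3 0 3
  · simpa [ac5] using h3 0 4
  · simpa [ac5] using h3 0 5
  · simpa [ac5] using h3 0 6
  · simpa [ac5] using h3 0 7
  · simpa [ac5] using h3 0 8
  · simpa [ac5] using h3 1 1
  · simpa [ac5] using h3 1 2
  · simpa [ac5] using h3 1 3
  · simpa [ac5] using h3 1 4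
  · simpa [ac5] using h3 1 5
  · simpa [ac5] using h3 1 6
  · simpa [ac5] using h3 1 7
  · simpa [ac5] using h3 1 8
  · simpa [ac5] using h3 2 2
  · simpa [ac5] using h3 2 3
  · simpa [ac5] using h3 2 4
  · simpa [ac5] using h3 2 5
  · simpa [ac5] using h3 2 6
  · simpa [ac5] using h3 2 7
  · simpa [ac5] using h3 2 8
  · simpa [ac5] using h3 3 3
  · simpa [ac5] using h3 3 4
  · simpa [ac5] using h3 3 5
  · simpa [ac5] using h3 3 6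
  · simpa [ac5] using h3 3 7
  · simpa [ac5] using h3 3 8
  · simpa [ac5] using h3 4 4
  · simpa [ac5] using h3 4 5
  · simpa [ac5] using h3 4 6
  · simpa [ac5] using h3 4 7
  · simpa [ac5] using h3 4 8
  · simpa [ac5] using h3 5 5
  · simpa [ac5] using h3 5 6
  · simpa [ac5] using h3 5 7
  · simpa [ac5] using h3 5 8
  · simpa [ac5] using h3 6 6
  · simpa [ac5] using h3 6 7
  · simpa [ac5] using h3 6 8
  · simpa [ac5] using h3 7 7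
  · simpa [ac5] using h3 7 8
  · simpa [ac5] using h3 8 8

def mc6 : Fin 9 → ℤ := ![1, 1, 2, 2, 2, 2, 2, 1, 1]
def wc6 : Fin 9 → ℤ := ![1, 1, 1, 1, 1, 1, 1, 1, 1]
def ac6 : Fin 9 → Fin 9 → ℤ := ![![-2, 0, 1, 0, 0, 0, 0, 0, 0], ![0, -2, 1, 0, 0, 0, 0, 0, 0], ![1, 1, -2, 1, 0, 0, 0, 0, 0], ![0, 0, 1, -2, 1, 0, 0, 0, 0], ![0, 0, 0, 1, -2, 1, 0, 0, 0], ![0, 0, 0, 0, 1, -2, 1, 0, 0], ![0, 0, 0, 0, 0, 1, -2, 1, 1], ![0, 0, 0, 0, 0, 0, 1, -2, 0], ![0, 0, 0, 0, 0, 0, 1, 0, -2]]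

theorem of_type6 (T : Models.NumericalType 9) (σ : Equiv.Perm (Fin 9)) (m w : ℤ)
    (h : IsType T σ m w mc6 wc6 ac6) : Result T := by
  obtain ⟨h1, h2, h3⟩ := h
  refine ⟨σ, m, w, ?_⟩
  refine Or.inr (Or.inr (Or.inr (Or.inr (Or.inr (Or.inr (Or.inl ?_))))))
  refine ⟨?_, ?_, ?_, ?_, ?_, ?_, ?_, ?_, ?_, ?_, ?_, ?_, ?_, ?_, ?_, ?_, ?_, ?_, ?_, ?_, ?_, ?_, ?_, ?_, ?_, ?_, ?_, ?_, ?_, ?_, ?_, ?_, ?_, ?_, ?_, ?_, ?_, ?_, ?_, ?_, ?_, ?_, ?_, ?_, ?_, ?_, ?_, ?_, ?_, ?_, ?_, ?_, ?_, ?_, ?_, ?_, ?_, ?_, ?_, ?_, ?_, ?_, ?_⟩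
  · simpa [mc6] using h1 0
  · simpa [mc6] using h1 1
  · simpa [mc6] using h1 2
  · simpa [mc6] using h1 3
  · simpa [mc6] using h1 4
  · simpa [mc6] using h1 5
  · simpa [mc6] using h1 6
  · simpa [mc6] using h1 7
  · simpa [mc6] using h1 8
  · simpa [wc6] using h2 0
  · simpa [wc6] using h2 1
  · simpa [wc6] using h2 2
  · simpa [wc6] using h2 3
  · simpa [wc6] using h2 4
  · simpa [wc6] using h2 5
  · simpa [wc6] using h2 6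
  · simpa [wc6] using h2 7
  · simpa [wc6] using h2 8
  · simpa [ac6] using h3 0 0
  · simpa [ac6] using h3 0 1
  · simpa [ac6] using h3 0 2
  · simpa [ac6] using h3 0 3
  · simpa [ac6] using h3 0 4
  · simpa [ac6] using h3 0 5
  · simpa [ac6] using h3 0 6
  · simpa [ac6] using h3 0 7
  · simpa [ac6] using h3 0 8
  · simpa [ac6] using h3 1 1
  · simpa [ac6] using h3 1 2
  · simpa [ac6] using h3 1 3
  · simpa [ac6] using h3 1 4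
  · simpa [ac6] using h3 1 5
  · simpa [ac6] using h3 1 6
  · simpa [ac6] using h3 1 7
  · simpa [ac6] using h3 1 8
  · simpa [ac6] using h3 2 2
  · simpa [ac6] using h3 2 3
  · simpa [ac6] using h3 2 4
  · simpa [ac6] using h3 2 5
  · simpa [ac6] using h3 2 6
  · simpa [ac6] using h3 2 7
  · simpa [ac6] using h3 2 8
  · simpa [ac6] using h3 3 3
  · simpa [ac6] using h3 3 4
  · simpa [ac6] using h3 3 5
  · simpa [ac6] using h3 3 6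
  · simpa [ac6] using h3 3 7
  · simpa [ac6] using h3 3 8
  · simpa [ac6] using h3 4 4
  · simpa [ac6] using h3 4 5
  · simpa [ac6] using h3 4 6
  · simpa [ac6] using h3 4 7
  · simpa [ac6] using h3 4 8
  · simpa [ac6] using h3 5 5
  · simpa [ac6] using h3 5 6
  · simpa [ac6] using h3 5 7
  · simpa [ac6] using h3 5 8
  · simpa [ac6] using h3 6 6
  · simpa [ac6] using h3 6 7
  · simpa [ac6] using h3 6 8
  · simpa [ac6] using h3 7 7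
  · simpa [ac6] using h3 7 8
  · simpa [ac6] using h3 8 8

def mc7 : Fin 9 → ℤ := ![1, 2, 3, 4, 5, 6, 4, 2, 3]
def wc7 : Fin 9 → ℤ := ![1, 1, 1, 1, 1, 1, 1, 1, 1]
def ac7 : Fin 9 → Fin 9 → ℤ := ![![-2, 1, 0, 0, 0, 0, 0, 0, 0], ![1, -2, 1, 0, 0, 0, 0, 0, 0], ![0, 1, -2, 1, 0, 0, 0, 0, 0], ![0, 0, 1, -2, 1, 0, 0, 0, 0], ![0, 0, 0, 1, -2, 1, 0, 0, 0], ![0, 0, 0, 0, 1, -2, 1, 0, 1], ![0, 0, 0, 0, 0, 1, -2, 1, 0], ![0, 0, 0, 0, 0, 0, 1, -2, 0], ![0, 0, 0, 0, 0, 1, 0, 0, -2]]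

theorem of_type7 (T : Models.NumericalType 9) (σ : Equiv.Perm (Fin 9)) (m w : ℤ)
    (h : IsType T σ m w mc7 wc7 ac7) : Result T := by
  obtain ⟨h1, h2, h3⟩ := h
  refine ⟨σ, m, w, ?_⟩
  refine Or.inr (Or.inr (Or.inr (Or.inr (Or.inr (Or.inr (Or.inr (?_)))))))
  refine ⟨?_, ?_, ?_, ?_, ?_, ?_, ?_, ?_, ?_, ?_, ?_, ?_, ?_, ?_, ?_, ?_, ?_, ?_, ?_, ?_, ?_, ?_, ?_, ?_, ?_, ?_, ?_, ?_, ?_, ?_, ?_, ?_, ?_, ?_, ?_, ?_, ?_, ?_, ?_, ?_, ?_, ?_, ?_, ?_, ?_, ?_, ?_, ?_, ?_, ?_, ?_, ?_, ?_, ?_, ?_, ?_, ?_, ?_, ?_, ?_, ?_, ?_, ?_⟩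
  · simpa [mc7] using h1 0
  · simpa [mc7] using h1 1
  · simpa [mc7] using h1 2
  · simpa [mc7] using h1 3
  · simpa [mc7] using h1 4
  · simpa [mc7] using h1 5
  · simpa [mc7] using h1 6
  · simpa [mc7] using h1 7
  · simpa [mc7] using h1 8
  · simpa [wc7] using h2 0
  · simpa [wc7] using h2 1
  · simpa [wc7] using h2 2
  · simpa [wc7] using h2 3
  · simpa [wc7] using h2 4
  · simpa [wc7] using h2 5
  · simpa [wc7] using h2 6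
  · simpa [wc7] using h2 7
  · simpa [wc7] using h2 8
  · simpa [ac7] using h3 0 0
  · simpa [ac7] using h3 0 1
  · simpa [ac7] using h3 0 2
  · simpa [ac7] using h3 0 3
  · simpa [ac7] using h3 0 4
  · simpa [ac7] using h3 0 5
  · simpa [ac7] using h3 0 6
  · simpa [ac7] using h3 0 7
  · simpa [ac7] using h3 0 8
  · simpa [ac7] using h3 1 1
  · simpa [ac7] using h3 1 2
  · simpa [ac7] using h3 1 3
  · simpa [ac7] using h3 1 4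
  · simpa [ac7] using h3 1 5
  · simpa [ac7] using h3 1 6
  · simpa [ac7] using h3 1 7
  · simpa [ac7] using h3 1 8
  · simpa [ac7] using h3 2 2
  · simpa [ac7] using h3 2 3
  · simpa [ac7] using h3 2 4
  · simpa [ac7] using h3 2 5
  · simpa [ac7] using h3 2 6
  · simpa [ac7] using h3 2 7
  · simpa [ac7] using h3 2 8
  · simpa [ac7] using h3 3 3
  · simpa [ac7] using h3 3 4
  · simpa [ac7] using h3 3 5
  · simpa [ac7] using h3 3 6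
  · simpa [ac7] using h3 3 7
  · simpa [ac7] using h3 3 8
  · simpa [ac7] using h3 4 4
  · simpa [ac7] using h3 4 5
  · simpa [ac7] using h3 4 6
  · simpa [ac7] using h3 4 7
  · simpa [ac7] using h3 4 8
  · simpa [ac7] using h3 5 5
  · simpa [ac7] using h3 5 6
  · simpa [ac7] using h3 5 7
  · simpa [ac7] using h3 5 8
  · simpa [ac7] using h3 6 6
  · simpa [ac7] using h3 6 7
  · simpa [ac7] using h3 6 8
  · simpa [ac7] using h3 7 7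
  · simpa [ac7] using h3 7 8
  · simpa [ac7] using h3 8 8

def M0 : Fin 1 → Fin 1 → ℤ := ![![-2]]
def M1 : Fin 2 → Fin 2 → ℤ := ![![-2, 1], ![1, -2]]
def M2 : Fin 2 → Fin 2 → ℤ := ![![-2, 2], ![1, -2]]
def M3 : Fin 2 → Fin 2 → ℤ := ![![-2, 3], ![1, -2]]
def M4 : Fin 3 → Fin 3 → ℤ := ![![-2, 1, 1], ![1, -2, 0], ![1, 0, -2]]
def M5 : Fin 3 → Fin 3 → ℤ := ![![-2, 1, 2], ![1, -2, 0], ![1, 0, -2]]
def M6 : Fin 3 → Fin 3 → ℤ := ![![-2, 1, 1], ![1, -2, 0], ![2, 0, -2]]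
def M7 : Fin 4 → Fin 4 → ℤ := ![![-2, 1, 1, 1], ![1, -2, 0, 0], ![1, 0, -2, 0], ![1, 0, 0, -2]]
def M8 : Fin 4 → Fin 4 → ℤ := ![![-2, 1, 1, 0], ![1, -2, 0, 1], ![1, 0, -2, 0], ![0, 1, 0, -2]]
def M9 : Fin 4 → Fin 4 → ℤ := ![![-2, 1, 1, 0], ![1, -2, 0, 2], ![1, 0, -2, 0], ![0, 1, 0, -2]]
def M10 : Fin 4 → Fin 4 → ℤ := ![![-2, 1, 1, 0], ![1, -2, 0, 1], ![1, 0, -2, 0], ![0, 2, 0, -2]]
def M11 : Fin 4 → Fin 4 → ℤ := ![![-2, 1, 2, 0], ![1, -2, 0, 0], ![1, 0, -2, 1], ![0, 0, 1, -2]]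
def M12 : Fin 5 → Fin 5 → ℤ := ![![-2, 1, 1, 1, 0], ![1, -2, 0, 0, 1], ![1, 0, -2, 0, 0], ![1, 0, 0, -2, 0], ![0, 1, 0, 0, -2]]
def M13 : Fin 5 → Fin 5 → ℤ := ![![-2, 1, 1, 0, 0], ![1, -2, 0, 1, 0], ![1, 0, -2, 0, 1], ![0, 1, 0, -2, 0], ![0, 0, 1, 0, -2]]
def M14 : Fin 5 → Fin 5 → ℤ := ![![-2, 1, 1, 0, 0], ![1, -2, 0, 1, 0], ![1, 0, -2, 0, 2], ![0, 1, 0, -2, 0], ![0, 0, 1, 0, -2]]
def M15 : Fin 5 → Fin 5 → ℤ := ![![-2, 1, 1, 0, 0], ![1, -2, 0, 1, 0], ![1, 0, -2, 0, 1], ![0, 1, 0, -2, 0], ![0, 0, 2, 0, -2]]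
def M16 : Fin 6 → Fin 6 → ℤ := ![![-2, 1, 1, 1, 0, 0], ![1, -2, 0, 0, 1, 0], ![1, 0, -2, 0, 0, 1], ![1, 0, 0, -2, 0, 0], ![0, 1, 0, 0, -2, 0], ![0, 0, 1, 0, 0, -2]]
def M17 : Fin 6 → Fin 6 → ℤ := ![![-2, 1, 1, 1, 0, 0], ![1, -2, 0, 0, 1, 0], ![1, 0, -2, 0, 0, 0], ![1, 0, 0, -2, 0, 0], ![0, 1, 0, 0, -2, 1], ![0, 0, 0, 0, 1, -2]]
def M18 : Fin 6 → Fin 6 → ℤ := ![![-2, 1, 1, 0, 0, 0], ![1, -2, 0, 1, 0, 0], ![1, 0, -2, 0, 1, 0], ![0, 1, 0, -2, 0, 1], ![0, 0, 1, 0, -2, 0], ![0, 0, 0, 1, 0, -2]]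
def M19 : Fin 6 → Fin 6 → ℤ := ![![-2, 1, 1, 0, 0, 0], ![1, -2, 0, 1, 0, 0], ![1, 0, -2, 0, 1, 0], ![0, 1, 0, -2, 0, 2], ![0, 0, 1, 0, -2, 0], ![0, 0, 0, 1, 0, -2]]
def M20 : Fin 6 → Fin 6 → ℤ := ![![-2, 1, 1, 0, 0, 0], ![1, -2, 0, 1, 0, 0], ![1, 0, -2, 0, 1, 0], ![0, 1, 0, -2, 0, 1], ![0, 0, 1, 0, -2, 0], ![0, 0, 0, 2, 0, -2]]
def M21 : Fin 7 → Fin 7 → ℤ := ![![-2, 1, 1, 1, 0, 0, 0], ![1, -2, 0, 0, 1, 0, 0], ![1, 0, -2, 0, 0, 1, 0], ![1, 0, 0, -2, 0, 0, 0], ![0, 1, 0, 0, -2, 0, 1], ![0, 0, 1, 0, 0, -2, 0], ![0, 0, 0, 0, 1, 0, -2]]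
def M22 : Fin 7 → Fin 7 → ℤ := ![![-2, 1, 1, 1, 0, 0, 0], ![1, -2, 0, 0, 1, 0, 0], ![1, 0, -2, 0, 0, 0, 0], ![1, 0, 0, -2, 0, 0, 0], ![0, 1, 0, 0, -2, 1, 0], ![0, 0, 0, 0, 1, -2, 1], ![0, 0, 0, 0, 0, 1, -2]]
def M23 : Fin 7 → Fin 7 → ℤ := ![![-2, 1, 1, 0, 0, 0, 0], ![1, -2, 0, 1, 0, 0, 0], ![1, 0, -2, 0, 1, 0, 0], ![0, 1, 0, -2, 0, 1, 0], ![0, 0, 1, 0, -2, 0, 1], ![0, 0, 0, 1, 0, -2, 0], ![0, 0, 0, 0, 1, 0, -2]]
def M24 : Fin 7 → Fin 7 → ℤ := ![![-2, 1, 1, 0, 0, 0, 0], ![1, -2, 0, 1, 0, 0, 0], ![1, 0, -2, 0, 1, 0, 0], ![0, 1, 0, -2, 0, 1, 0], ![0, 0, 1, 0, -2, 0, 2], ![0, 0, 0, 1, 0, -2, 0], ![0, 0, 0, 0, 1, 0, -2]]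
def M25 : Fin 7 → Fin 7 → ℤ := ![![-2, 1, 1, 0, 0, 0, 0], ![1, -2, 0, 1, 0, 0, 0], ![1, 0, -2, 0, 1, 0, 0], ![0, 1, 0, -2, 0, 1, 0], ![0, 0, 1, 0, -2, 0, 1], ![0, 0, 0, 1, 0, -2, 0], ![0, 0, 0, 0, 2, 0, -2]]
def M26 : Fin 8 → Fin 8 → ℤ := ![![-2, 1, 1, 1, 0, 0, 0, 0], ![1, -2, 0, 0, 1, 0, 0, 0], ![1, 0, -2, 0, 0, 1, 0, 0], ![1, 0, 0, -2, 0, 0, 0, 0], ![0, 1, 0, 0, -2, 0, 1, 0], ![0, 0, 1, 0, 0, -2, 0, 0], ![0, 0, 0, 0, 1, 0, -2, 1], ![0, 0, 0, 0, 0, 0, 1, -2]]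
def M27 : Fin 8 → Fin 8 → ℤ := ![![-2, 1, 1, 1, 0, 0, 0, 0], ![1, -2, 0, 0, 1, 0, 0, 0], ![1, 0, -2, 0, 0, 0, 0, 0], ![1, 0, 0, -2, 0, 0, 0, 0], ![0, 1, 0, 0, -2, 1, 0, 0], ![0, 0, 0, 0, 1, -2, 1, 0], ![0, 0, 0, 0, 0, 1, -2, 1], ![0, 0, 0, 0, 0, 0, 1, -2]]
def M28 : Fin 8 → Fin 8 → ℤ := ![![-2, 1, 1, 0, 0, 0, 0, 0], ![1, -2, 0, 1, 0, 0, 0, 0], ![1, 0, -2, 0, 1, 0, 0, 0], ![0, 1, 0, -2, 0, 1, 0, 0], ![0, 0, 1, 0, -2, 0, 1, 0], ![0, 0, 0, 1, 0, -2, 0, 1], ![0, 0, 0, 0, 1, 0, -2, 0], ![0, 0, 0, 0, 0, 1, 0, -2]]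
def M29 : Fin 8 → Fin 8 → ℤ := ![![-2, 1, 1, 0, 0, 0, 0, 0], ![1, -2, 0, 1, 0, 0, 0, 0], ![1, 0, -2, 0, 1, 0, 0, 0], ![0, 1, 0, -2, 0, 1, 0, 0], ![0, 0, 1, 0, -2, 0, 1, 0], ![0, 0, 0, 1, 0, -2, 0, 2], ![0, 0, 0, 0, 1, 0, -2, 0], ![0, 0, 0, 0, 0, 1, 0, -2]]
def M30 : Fin 8 → Fin 8 → ℤ := ![![-2, 1, 1, 0, 0, 0, 0, 0], ![1, -2, 0, 1, 0, 0, 0, 0], ![1, 0, -2, 0, 1, 0, 0, 0], ![0, 1, 0, -2, 0, 1, 0, 0], ![0, 0, 1, 0, -2, 0, 1, 0], ![0, 0, 0, 1, 0, -2, 0, 1], ![0, 0, 0, 0, 1, 0, -2, 0], ![0, 0, 0, 0, 0, 2, 0, -2]]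

def pc26 : Fin 8 → Fin 8 → Fin 9 → ℤ :=
  ![![![0, 0, 0, 0, 0, 0, 0, 0, 0], ![1, 1, 0, 0, 0, 0, 0, 0, 1], ![1, 0, 1, 0, 0, 0, 0, 0, 1], ![1, 0, 0, 1, 0, 0, 0, 0, 1], ![1, 1, 0, 0, 1, 0, 0, 0, 1], ![1, 0, 1, 0, 0, 1, 0, 0, 1], ![1, 1, 0, 0, 1, 0, 1, 0, 1], ![1, 1, 0, 0, 1, 0, 1, 1, 1]], ![![1, 1, 0, 0, 0, 0, 0, 0, 1], ![0, 0, 0, 0, 0, 0, 0, 0, 0], ![1, 1, 1, 0, 0, 0, 0, 0, 1], ![1, 1, 0, 1, 0, 0, 0, 0, 1], ![0, 1, 0, 0, 1, 0, 0, 0, 1], ![1, 1, 1, 0, 0, 1, 0, 0, 1], ![0, 1, 0, 0, 1, 0, 1, 0, 1], ![0, 1, 0, 0, 1, 0, 1, 1, 1]], ![![1, 0, 1, 0, 0, 0, 0, 0, 1], ![1, 1, 1, 0, 0, 0, 0, 0, 1], ![0, 0, 0, 0, 0, 0, 0, 0, 0], ![1, 0, 1, 1, 0, 0, 0, 0, 1], ![1, 1, 1, 0, 1, 0, 0, 0, 1], ![0, 0, 1, 0, 0, 1, 0, 0, 1], ![1, 1, 1, 0, 1, 0, 1, 0, 1], ![1, 1, 1, 0, 1, 0, 1, 1, 1]], ![![1, 0, 0, 1, 0, 0, 0, 0, 1], ![1, 1, 0, 1, 0, 0, 0, 0, 1], ![1, 0, 1, 1, 0, 0, 0, 0,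 1], ![0, 0, 0, 0, 0, 0, 0, 0, 0], ![1, 1, 0, 1, 1, 0, 0, 0, 1], ![1, 0, 1, 1, 0, 1, 0, 0, 1], ![1, 1, 0, 1, 1, 0, 1, 0, 1], ![1, 1, 0, 1, 1, 0, 1, 1, 1]], ![![1, 1, 0, 0, 1, 0, 0, 0, 1], ![0, 1, 0, 0, 1, 0, 0, 0, 1], ![1, 1, 1, 0, 1, 0, 0, 0, 1], ![1, 1, 0, 1, 1, 0, 0, 0, 1], ![0, 0, 0, 0, 0, 0, 0, 0, 0], ![1, 1, 1, 0, 1, 1, 0, 0, 1], ![0, 0, 0, 0, 1, 0, 1, 0, 1], ![0, 0, 0, 0, 1, 0, 1, 1, 1]], ![![1, 0, 1, 0, 0, 1, 0, 0, 1], ![1, 1, 1, 0, 0, 1, 0, 0, 1], ![0, 0, 1, 0, 0, 1, 0, 0, 1], ![1, 0, 1, 1, 0, 1, 0, 0, 1], ![1, 1, 1, 0, 1, 1, 0, 0, 1], ![0, 0, 0, 0, 0, 0, 0, 0, 0], ![1, 1, 1, 0, 1, 1, 1, 0, 1], ![1, 1, 1, 0, 1, 1, 1, 1, 1]], ![![1, 1, 0, 0, 1, 0, 1, 0, 1], ![0, 1, 0, 0, 1, 0, 1, 0, 1], ![1, 1, 1, 0, 1, 0, 1, 0, 1], ![1, 1, 0, 1, 1, 0, 1, 0, 1], ![0, 0, 0, 0, 1, 0, 1, 0, 1], ![1, 1, 1, 0, 1, 1, 1, 0, 1], ![0, 0, 0, 0, 0, 0, 0, 0, 0], ![0, 0,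 0, 0, 0, 0, 1, 1, 1]], ![![1, 1, 0, 0, 1, 0, 1, 1, 1], ![0, 1, 0, 0, 1, 0, 1, 1, 1], ![1, 1, 1, 0, 1, 0, 1, 1, 1], ![1, 1, 0, 1, 1, 0, 1, 1, 1], ![0, 0, 0, 0, 1, 0, 1, 1, 1], ![1, 1, 1, 0, 1, 1, 1, 1, 1], ![0, 0, 0, 0, 0, 0, 1, 1, 1], ![0, 0, 0, 0, 0, 0, 0, 0, 0]]]

theorem st26 (T : Models.NumericalType 9) (hm2 : ∀ i, T.IsMinusTwo i)
    (v : Fin 8 ↪ Fin 9) (hM : Knows T v M26) : Result T := by
  obtain ⟨x, hx, hcase⟩ := step_unique T hm2 v M26 hM (by norm_num) (by norm_num)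
    (fun _ _ => false) pc26 (by decide +kernel)
    (fun _ _ _ h => (Bool.false_ne_true h).elim)
  rcases hcase with ⟨i, hi, hz⟩ | ⟨i, l, hex, -⟩
  swap
  · exact (Bool.false_ne_true hex).elim
  have hne := ne_of_not_range v hx i
  fin_cases i
  · rcases pair5 T (by norm_num) hm2 hne hi with
      ⟨hp, hq⟩ | ⟨hp, hq⟩ | ⟨hp, hq⟩ | ⟨hp, hq⟩ | ⟨hp, hq⟩
    · exact (leaf_falseF T hm2 v M26 hM hx (by norm_num) _ _ (row_single T v _ hz hp) (col_single T v _ hz hq)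
        ![36, 23, 21, 16, 15, 10, 9, 4, 16] (by decide +kernel)).elim
    · exact (leaf_falseF T hm2 v M26 hM hx (by norm_num) _ _ (row_single T v _ hz hp) (col_single T v _ hz hq)
        ![30, 17, 16, 13, 9, 7, 5, 2, 13] (by decide +kernel)).elim
    · exact (leaf_falseF T hm2 v M26 hM hx (by norm_num) _ _ (row_single T v _ hz hp) (col_single T v _ hz hq)
        ![30, 17, 16, 13, 9, 7, 5, 2, 25] (by decide +kernel)).elim
    · exact (leaf_falseF T hm2 v M26 hM hx (by norm_num) _ _ (row_single T v _ hz hp) (col_single T v _ hz hq)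
        ![46, 22, 21, 18, 11, 8, 5, 2, 18] (by decide +kernel)).elim
    · exact (leaf_falseF T hm2 v M26 hM hx (by norm_num) _ _ (row_single T v _ hz hp) (col_single T v _ hz hq)
        ![46, 22, 21, 18, 11, 8, 5, 2, 54] (by decide +kernel)).elim
  · rcases pair5 T (by norm_num) hm2 hne hi with
      ⟨hp, hq⟩ | ⟨hp, hq⟩ | ⟨hp, hq⟩ | ⟨hp, hq⟩ | ⟨hp, hq⟩
    · exact (leaf_falseF T hm2 v M26 hM hx (by norm_num) _ _ (row_single T v _ hz hp) (col_single T v _ hz hq)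
        ![30, 31, 19, 14, 21, 9, 13, 6, 15] (by decide +kernel)).elim
    · exact (leaf_falseF T hm2 v M26 hM hx (by norm_num) _ _ (row_single T v _ hz hp) (col_single T v _ hz hq)
        ![17, 21, 9, 7, 12, 4, 7, 3, 9] (by decide +kernel)).elim
    · exact (leaf_falseF T hm2 v M26 hM hx (by norm_num) _ _ (row_single T v _ hz hp) (col_single T v _ hz hq)
        ![17, 21, 9, 7, 12, 4, 7, 3, 19] (by decide +kernel)).elim
    · exact (leaf_falseF T hm2 v M26 hM hx (by norm_num) _ _ (row_single T v _ hz hp) (col_single T v _ hz hq)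
        ![19, 28, 9, 8, 15, 4, 7, 3, 12] (by decide +kernel)).elim
    · exact (leaf_falseF T hm2 v M26 hM hx (by norm_num) _ _ (row_single T v _ hz hp) (col_single T v _ hz hq)
        ![19, 28, 9, 8, 15, 4, 7, 3, 35] (by decide +kernel)).elim
  · rcases pair5 T (by norm_num) hm2 hne hi with
      ⟨hp, hq⟩ | ⟨hp, hq⟩ | ⟨hp, hq⟩ | ⟨hp, hq⟩ | ⟨hp, hq⟩
    · exact (leaf_falseF T hm2 v M26 hM hx (by norm_num) _ _ (row_single T v _ hz hp) (col_single T v _ hz hq)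
        ![55, 39, 49, 26, 27, 23, 17, 8, 23] (by decide +kernel)).elim
    · exact (leaf_falseF T hm2 v M26 hM hx (by norm_num) _ _ (row_single T v _ hz hp) (col_single T v _ hz hq)
        ![32, 20, 36, 14, 12, 16, 7, 3, 16] (by decide +kernel)).elim
    · exact (leaf_falseF T hm2 v M26 hM hx (by norm_num) _ _ (row_single T v _ hz hp) (col_single T v _ hz hq)
        ![32, 20, 36, 14, 12, 16, 7, 3, 33] (by decide +kernel)).elim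
    · exact (leaf_falseF T hm2 v M26 hM hx (by norm_num) _ _ (row_single T v _ hz hp) (col_single T v _ hz hq)
        ![32, 18, 46, 14, 9, 19, 5, 2, 19] (by decide +kernel)).elim
    · exact (leaf_falseF T hm2 v M26 hM hx (by norm_num) _ _ (row_single T v _ hz hp) (col_single T v _ hz hq)
        ![32, 18, 46, 14, 9, 19, 5, 2, 58] (by decide +kernel)).elim
  · rcases pair5 T (by norm_num) hm2 hne hi with
      ⟨hp, hq⟩ | ⟨hp, hq⟩ | ⟨hp, hq⟩ | ⟨hp, hq⟩ | ⟨hp, hq⟩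
    · exact (leaf_falseF T hm2 v M26 hM hx (by norm_num) _ _ (row_single T v _ hz hp) (col_single T v _ hz hq)
        ![88, 66, 57, 57, 48, 28, 31, 15, 28] (by decide +kernel)).elim
    · exact (leaf_falseF T hm2 v M26 hM hx (by norm_num) _ _ (row_single T v _ hz hp) (col_single T v _ hz hq)
        ![39, 27, 24, 33, 18, 11, 11, 5, 16] (by decide +kernel)).elim
    · exact (leaf_falseF T hm2 v M26 hM hx (by norm_num) _ _ (row_single T v _ hz hp) (col_single T v _ hz hq)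
        ![39, 27, 24, 33, 18, 11, 11, 5, 31] (by decide +kernel)).elim
    · exact (leaf_falseF T hm2 v M26 hM hx (by norm_num) _ _ (row_single T v _ hz hp) (col_single T v _ hz hq)
        ![34, 21, 19, 37, 12, 8, 7, 3, 17] (by decide +kernel)).elim
    · exact (leaf_falseF T hm2 v M26 hM hx (by norm_num) _ _ (row_single T v _ hz hp) (col_single T v _ hz hq)
        ![34, 21, 19, 37, 12, 8, 7, 3, 50] (by decide +kernel)).elim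
  · rcases pair5 T (by norm_num) hm2 hne hi with
      ⟨hp, hq⟩ | ⟨hp, hq⟩ | ⟨hp, hq⟩ | ⟨hp, hq⟩ | ⟨hp, hq⟩
    · exact (leaf_falseF T hm2 v M26 hM hx (by norm_num) _ _ (row_single T v _ hz hp) (col_single T v _ hz hq)
        ![30, 29, 19, 14, 30, 9, 19, 9, 14] (by decide +kernel)).elim
    · exact (leaf_falseF T hm2 v M26 hM hx (by norm_num) _ _ (row_single T v _ hz hp) (col_single T v _ hz hq)
        ![12, 14, 7, 5, 19, 3, 11, 5, 9] (by decide +kernel)).elim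
    · exact (leaf_falseF T hm2 v M26 hM hx (by norm_num) _ _ (row_single T v _ hz hp) (col_single T v _ hz hq)
        ![12, 14, 7, 5, 19, 3, 11, 5, 17] (by decide +kernel)).elim
    · exact (leaf_falseF T hm2 v M26 hM hx (by norm_num) _ _ (row_single T v _ hz hp) (col_single T v _ hz hq)
        ![9, 13, 5, 4, 22, 2, 11, 5, 9] (by decide +kernel)).elim
    · exact (leaf_falseF T hm2 v M26 hM hx (by norm_num) _ _ (row_single T v _ hz hp) (col_single T v _ hz hq)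
        ![9, 13, 5, 4, 22, 2, 11, 5, 28] (by decide +kernel)).elim
  · rcases pair5 T (by norm_num) hm2 hne hi with
      ⟨hp, hq⟩ | ⟨hp, hq⟩ | ⟨hp, hq⟩ | ⟨hp, hq⟩ | ⟨hp, hq⟩
    · exact (leaf_falseF T hm2 v M26 hM hx (by norm_num) _ _ (row_single T v _ hz hp) (col_single T v _ hz hq)
        ![228, 179, 168, 113, 132, 111, 87, 43, 55] (by decide +kernel)).elim
    · exact (leaf_falseF T hm2 v M26 hM hx (by norm_num) _ _ (row_single T v _ hz hp) (col_single T v _ hz hq)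
        ![59, 43, 50, 28, 30, 46, 19, 9, 22] (by decide +kernel)).elim
    · exact (leaf_falseF T hm2 v M26 hM hx (by norm_num) _ _ (row_single T v _ hz hp) (col_single T v _ hz hq)
        ![59, 43, 50, 28, 30, 46, 19, 9, 44] (by decide +kernel)).elim
    · exact (leaf_falseF T hm2 v M26 hM hx (by norm_num) _ _ (row_single T v _ hz hp) (col_single T v _ hz hq)
        ![37, 24, 40, 17, 15, 50, 9, 4, 23] (by decide +kernel)).elim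
    · exact (leaf_falseF T hm2 v M26 hM hx (by norm_num) _ _ (row_single T v _ hz hp) (col_single T v _ hz hq)
        ![37, 24, 40, 17, 15, 50, 9, 4, 69] (by decide +kernel)).elim
  · rcases pair5 T (by norm_num) hm2 hne hi with
      ⟨hp, hq⟩ | ⟨hp, hq⟩ | ⟨hp, hq⟩ | ⟨hp, hq⟩ | ⟨hp, hq⟩
    · exact (leaf_falseF T hm2 v M26 hM hx (by norm_num) _ _ (row_single T v _ hz hp) (col_single T v _ hz hq)
        ![60, 54, 39, 29, 49, 19, 47, 23, 23] (by decide +kernel)).elim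
    · exact (leaf_falseF T hm2 v M26 hM hx (by norm_num) _ _ (row_single T v _ hz hp) (col_single T v _ hz hq)
        ![18, 20, 11, 8, 24, 5, 32, 15, 15] (by decide +kernel)).elim
    · exact (leaf_falseF T hm2 v M26 hM hx (by norm_num) _ _ (row_single T v _ hz hp) (col_single T v _ hz hq)
        ![18, 20, 11, 8, 24, 5, 32, 15, 30] (by decide +kernel)).elim
    · exact (leaf_falseF T hm2 v M26 hM hx (by norm_num) _ _ (row_single T v _ hz hp) (col_single T v _ hz hq)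
        ![9, 12, 5, 4, 19, 2, 32, 14, 14] (by decide +kernel)).elim
    · exact (leaf_falseF T hm2 v M26 hM hx (by norm_num) _ _ (row_single T v _ hz hp) (col_single T v _ hz hq)
        ![9, 12, 5, 4, 19, 2, 32, 14, 41] (by decide +kernel)).elim
  · rcases pair5 T (by norm_num) hm2 hne hi with
      ⟨hp, hq⟩ | ⟨hp, hq⟩ | ⟨hp, hq⟩ | ⟨hp, hq⟩ | ⟨hp, hq⟩
    · obtain ⟨σ, hσ⟩ := leaf_final T hm2 v M26 hM hx _ _ (row_single T v _ hz hp) (col_single T v _ hz hq)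
        ![8, 7, 6, 4, 1, 0, 2, 5, 3] mc7 wc7 ac7 0 0 (by decide +kernel)
      exact of_type7 T σ _ _ hσ
    · exact (leaf_falseF T hm2 v M26 hM hx (by norm_num) _ _ (row_single T v _ hz hp) (col_single T v _ hz hq)
        ![63, 56, 41, 31, 50, 20, 47, 45, 22] (by decide +kernel)).elim
    · exact (leaf_falseF T hm2 v M26 hM hx (by norm_num) _ _ (row_single T v _ hz hp) (col_single T v _ hz hq)
        ![63, 56, 41, 31, 50, 20, 47, 45, 44] (by decide +kernel)).elim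
    · exact (leaf_falseF T hm2 v M26 hM hx (by norm_num) _ _ (row_single T v _ hz hp) (col_single T v _ hz hq)
        ![18, 19, 11, 8, 23, 5, 30, 41, 19] (by decide +kernel)).elim
    · exact (leaf_falseF T hm2 v M26 hM hx (by norm_num) _ _ (row_single T v _ hz hp) (col_single T v _ hz hq)
        ![18, 19, 11, 8, 23, 5, 30, 41, 57] (by decide +kernel)).elim

def pc27 : Fin 8 → Fin 8 → Fin 9 → ℤ :=
  ![![![0, 0, 0, 0, 0, 0, 0, 0, 0], ![1, 1, 0, 0, 0, 0, 0, 0, 1], ![1, 0, 1, 0, 0, 0, 0, 0, 1], ![1, 0, 0, 1, 0, 0, 0, 0, 1], ![1, 1, 0, 0, 1, 0, 0, 0, 1], ![1, 1, 0, 0, 1, 1, 0, 0, 1], ![1, 1, 0, 0, 1, 1, 1, 0, 1], ![1, 1, 0, 0, 1, 1, 1, 1, 1]], ![![1, 1, 0, 0, 0, 0, 0, 0, 1], ![0, 0, 0, 0, 0, 0, 0, 0, 0], ![1, 1, 1, 0, 0, 0, 0, 0, 1], ![1, 1, 0, 1, 0, 0, 0, 0, 1], ![0, 1, 0, 0, 1, 0, 0, 0, 1], ![0, 1, 0, 0, 1, 1, 0, 0, 1], ![0, 1, 0, 0, 1, 1, 1, 0, 1],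 ![0, 1, 0, 0, 1, 1, 1, 1, 1]], ![![1, 0, 1, 0, 0, 0, 0, 0, 1], ![1, 1, 1, 0, 0, 0, 0, 0, 1], ![0, 0, 0, 0, 0, 0, 0, 0, 0], ![1, 0, 1, 1, 0, 0, 0, 0, 1], ![1, 1, 1, 0, 1, 0, 0, 0, 1], ![1, 1, 1, 0, 1, 1, 0, 0, 1], ![1, 1, 1, 0, 1, 1, 1, 0, 1], ![1, 1, 1, 0, 1, 1, 1, 1, 1]], ![![1, 0, 0, 1, 0, 0, 0, 0, 1], ![1, 1, 0, 1, 0, 0, 0, 0, 1], ![1, 0, 1, 1, 0, 0, 0, 0, 1], ![0, 0, 0, 0, 0, 0, 0, 0, 0], ![1, 1, 0, 1, 1, 0, 0, 0, 1], ![1, 1, 0, 1, 1, 1, 0, 0, 1], ![1, 1, 0, 1, 1, 1, 1, 0, 1], ![1, 1, 0, 1, 1, 1, 1, 1, 1]], ![![1, 1, 0, 0, 1, 0, 0, 0, 1], ![0, 1, 0, 0, 1, 0, 0, 0, 1], ![1, 1, 1, 0, 1, 0, 0, 0, 1], ![1, 1, 0, 1, 1, 0, 0, 0, 1], ![0, 0, 0, 0, 0, 0, 0, 0, 0], ![0, 0, 0, 0, 1, 1, 0, 0, 1], ![0, 0, 0, 0, 1, 1, 1, 0, 1], ![0, 0, 0, 0, 1, 1, 1, 1, 1]], ![![1, 1, 0, 0, 1, 1, 0, 0, 1], ![0, 1, 0, 0, 1, 1, 0, 0, 1], ![1, 1, 1, 0, 1, 1, 0, 0, 1], ![1, 1,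 0, 1, 1, 1, 0, 0, 1], ![0, 0, 0, 0, 1, 1, 0, 0, 1], ![0, 0, 0, 0, 0, 0, 0, 0, 0], ![0, 0, 0, 0, 0, 1, 1, 0, 1], ![0, 0, 0, 0, 0, 1, 1, 1, 1]], ![![1, 1, 0, 0, 1, 1, 1, 0, 1], ![0, 1, 0, 0, 1, 1, 1, 0, 1], ![1, 1, 1, 0, 1, 1, 1, 0, 1], ![1, 1, 0, 1, 1, 1, 1, 0, 1], ![0, 0, 0, 0, 1, 1, 1, 0, 1], ![0, 0, 0, 0, 0, 1, 1, 0, 1], ![0, 0, 0, 0, 0, 0, 0, 0, 0], ![0, 0, 0, 0, 0, 0, 1, 1, 1]], ![![1, 1, 0, 0, 1, 1, 1, 1, 1], ![0, 1, 0, 0, 1, 1, 1, 1, 1], ![1, 1, 1, 0, 1, 1, 1, 1, 1], ![1, 1, 0, 1, 1, 1, 1, 1, 1], ![0, 0, 0, 0, 1, 1, 1, 1, 1], ![0, 0, 0, 0, 0, 1, 1, 1, 1], ![0, 0, 0, 0, 0, 0, 1, 1, 1], ![0, 0, 0, 0, 0, 0, 0, 0, 0]]]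

theorem st27 (T : Models.NumericalType 9) (hm2 : ∀ i, T.IsMinusTwo i)
    (v : Fin 8 ↪ Fin 9) (hM : Knows T v M27) : Result T := by
  obtain ⟨x, hx, hcase⟩ := step_unique T hm2 v M27 hM (by norm_num) (by norm_num)
    (fun _ _ => false) pc27 (by decide +kernel)
    (fun _ _ _ h => (Bool.false_ne_true h).elim)
  rcases hcase with ⟨i, hi, hz⟩ | ⟨i, l, hex, -⟩
  swap
  · exact (Bool.false_ne_true hex).elim
  have hne := ne_of_not_range v hx i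
  fin_cases i
  · rcases pair5 T (by norm_num) hm2 hne hi with
      ⟨hp, hq⟩ | ⟨hp, hq⟩ | ⟨hp, hq⟩ | ⟨hp, hq⟩ | ⟨hp, hq⟩
    · exact (leaf_falseF T hm2 v M27 hM hx (by norm_num) _ _ (row_single T v _ hz hp) (col_single T v _ hz hq)
        ![65, 46, 31, 31, 32, 21, 13, 6, 31] (by decide +kernel)).elim
    · exact (leaf_falseF T hm2 v M27 hM hx (by norm_num) _ _ (row_single T v _ hz hp) (col_single T v _ hz hq)
        ![47, 27, 20, 20, 15, 9, 5, 2, 20] (by decide +kernel)).elim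
    · exact (leaf_falseF T hm2 v M27 hM hx (by norm_num) _ _ (row_single T v _ hz hp) (col_single T v _ hz hq)
        ![47, 27, 20, 20, 15, 9, 5, 2, 40] (by decide +kernel)).elim
    · exact (leaf_falseF T hm2 v M27 hM hx (by norm_num) _ _ (row_single T v _ hz hp) (col_single T v _ hz hq)
        ![85, 43, 34, 34, 21, 10, 5, 2, 34] (by decide +kernel)).elim
    · exact (leaf_falseF T hm2 v M27 hM hx (by norm_num) _ _ (row_single T v _ hz hp) (col_single T v _ hz hq)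
        ![85, 43, 34, 34, 21, 10, 5, 2, 102] (by decide +kernel)).elim
  · rcases pair5 T (by norm_num) hm2 hne hi with
      ⟨hp, hq⟩ | ⟨hp, hq⟩ | ⟨hp, hq⟩ | ⟨hp, hq⟩ | ⟨hp, hq⟩
    · exact (leaf_falseF T hm2 v M27 hM hx (by norm_num) _ _ (row_single T v _ hz hp) (col_single T v _ hz hq)
        ![49, 55, 23, 23, 39, 27, 17, 8, 26] (by decide +kernel)).elim
    · exact (leaf_falseF T hm2 v M27 hM hx (by norm_num) _ _ (row_single T v _ hz hp) (col_single T v _ hz hq)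
        ![25, 33, 11, 11, 20, 12, 7, 3, 15] (by decide +kernel)).elim
    · exact (leaf_falseF T hm2 v M27 hM hx (by norm_num) _ _ (row_single T v _ hz hp) (col_single T v _ hz hq)
        ![25, 33, 11, 11, 20, 12, 7, 3, 30] (by decide +kernel)).elim
    · exact (leaf_falseF T hm2 v M27 hM hx (by norm_num) _ _ (row_single T v _ hz hp) (col_single T v _ hz hq)
        ![22, 35, 9, 9, 18, 10, 5, 2, 14] (by decide +kernel)).elim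
    · exact (leaf_falseF T hm2 v M27 hM hx (by norm_num) _ _ (row_single T v _ hz hp) (col_single T v _ hz hq)
        ![22, 35, 9, 9, 18, 10, 5, 2, 43] (by decide +kernel)).elim
  · rcases pair5 T (by norm_num) hm2 hne hi with
      ⟨hp, hq⟩ | ⟨hp, hq⟩ | ⟨hp, hq⟩ | ⟨hp, hq⟩ | ⟨hp, hq⟩
    · obtain ⟨σ, hσ⟩ := leaf_final T hm2 v M27 hM hx _ _ (row_single T v _ hz hp) (col_single T v _ hz hq)
        ![7, 6, 5, 4, 1, 0, 2, 8, 3] mc7 wc7 ac7 0 0 (by decide +kernel)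
      exact of_type7 T σ _ _ hσ
    · exact (leaf_falseF T hm2 v M27 hM hx (by norm_num) _ _ (row_single T v _ hz hp) (col_single T v _ hz hq)
        ![67, 49, 59, 32, 35, 24, 15, 7, 28] (by decide +kernel)).elim
    · exact (leaf_falseF T hm2 v M27 hM hx (by norm_num) _ _ (row_single T v _ hz hp) (col_single T v _ hz hq)
        ![67, 49, 59, 32, 35, 24, 15, 7, 57] (by decide +kernel)).elim
    · exact (leaf_falseF T hm2 v M27 hM hx (by norm_num) _ _ (row_single T v _ hz hp) (col_single T v _ hz hq)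
        ![51, 32, 58, 23, 20, 12, 7, 3, 26] (by decide +kernel)).elim
    · exact (leaf_falseF T hm2 v M27 hM hx (by norm_num) _ _ (row_single T v _ hz hp) (col_single T v _ hz hq)
        ![51, 32, 58, 23, 20, 12, 7, 3, 79] (by decide +kernel)).elim
  · rcases pair5 T (by norm_num) hm2 hne hi with
      ⟨hp, hq⟩ | ⟨hp, hq⟩ | ⟨hp, hq⟩ | ⟨hp, hq⟩ | ⟨hp, hq⟩
    · obtain ⟨σ, hσ⟩ := leaf_final T hm2 v M27 hM hx _ _ (row_single T v _ hz hp) (col_single T v _ hz hq)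
        ![7, 6, 5, 4, 1, 0, 3, 8, 2] mc7 wc7 ac7 0 0 (by decide +kernel)
      exact of_type7 T σ _ _ hσ
    · exact (leaf_falseF T hm2 v M27 hM hx (by norm_num) _ _ (row_single T v _ hz hp) (col_single T v _ hz hq)
        ![67, 49, 32, 59, 35, 24, 15, 7, 28] (by decide +kernel)).elim
    · exact (leaf_falseF T hm2 v M27 hM hx (by norm_num) _ _ (row_single T v _ hz hp) (col_single T v _ hz hq)
        ![67, 49, 32, 59, 35, 24, 15, 7, 57] (by decide +kernel)).elim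
    · exact (leaf_falseF T hm2 v M27 hM hx (by norm_num) _ _ (row_single T v _ hz hp) (col_single T v _ hz hq)
        ![51, 32, 23, 58, 20, 12, 7, 3, 26] (by decide +kernel)).elim
    · exact (leaf_falseF T hm2 v M27 hM hx (by norm_num) _ _ (row_single T v _ hz hp) (col_single T v _ hz hq)
        ![51, 32, 23, 58, 20, 12, 7, 3, 79] (by decide +kernel)).elim
  · rcases pair5 T (by norm_num) hm2 hne hi with
      ⟨hp, hq⟩ | ⟨hp, hq⟩ | ⟨hp, hq⟩ | ⟨hp, hq⟩ | ⟨hp, hq⟩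
    · exact (leaf_falseF T hm2 v M27 hM hx (by norm_num) _ _ (row_single T v _ hz hp) (col_single T v _ hz hq)
        ![41, 45, 20, 20, 51, 36, 23, 11, 25] (by decide +kernel)).elim
    · exact (leaf_falseF T hm2 v M27 hM hx (by norm_num) _ _ (row_single T v _ hz hp) (col_single T v _ hz hq)
        ![14, 18, 6, 6, 25, 16, 9, 4, 12] (by decide +kernel)).elim
    · exact (leaf_falseF T hm2 v M27 hM hx (by norm_num) _ _ (row_single T v _ hz hp) (col_single T v _ hz hq)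
        ![14, 18, 6, 6, 25, 16, 9, 4, 23] (by decide +kernel)).elim
    · exact (leaf_falseF T hm2 v M27 hM hx (by norm_num) _ _ (row_single T v _ hz hp) (col_single T v _ hz hq)
        ![7, 10, 3, 3, 17, 9, 5, 2, 7] (by decide +kernel)).elim
    · exact (leaf_falseF T hm2 v M27 hM hx (by norm_num) _ _ (row_single T v _ hz hp) (col_single T v _ hz hq)
        ![7, 10, 3, 3, 17, 9, 5, 2, 22] (by decide +kernel)).elim
  · rcases pair5 T (by norm_num) hm2 hne hi with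
      ⟨hp, hq⟩ | ⟨hp, hq⟩ | ⟨hp, hq⟩ | ⟨hp, hq⟩ | ⟨hp, hq⟩
    · exact (leaf_falseF T hm2 v M27 hM hx (by norm_num) _ _ (row_single T v _ hz hp) (col_single T v _ hz hq)
        ![47, 49, 23, 23, 54, 60, 39, 19, 29] (by decide +kernel)).elim
    · exact (leaf_falseF T hm2 v M27 hM hx (by norm_num) _ _ (row_single T v _ hz hp) (col_single T v _ hz hq)
        ![9, 11, 4, 4, 15, 22, 13, 6, 10] (by decide +kernel)).elim
    · exact (leaf_falseF T hm2 v M27 hM hx (by norm_num) _ _ (row_single T v _ hz hp) (col_single T v _ hz hq)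
        ![9, 11, 4, 4, 15, 22, 13, 6, 21] (by decide +kernel)).elim
    · exact (leaf_falseF T hm2 v M27 hM hx (by norm_num) _ _ (row_single T v _ hz hp) (col_single T v _ hz hq)
        ![5, 7, 2, 2, 12, 21, 11, 5, 9] (by decide +kernel)).elim
    · exact (leaf_falseF T hm2 v M27 hM hx (by norm_num) _ _ (row_single T v _ hz hp) (col_single T v _ hz hq)
        ![5, 7, 2, 2, 12, 21, 11, 5, 27] (by decide +kernel)).elim
  · rcases pair5 T (by norm_num) hm2 hne hi with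
      ⟨hp, hq⟩ | ⟨hp, hq⟩ | ⟨hp, hq⟩ | ⟨hp, hq⟩ | ⟨hp, hq⟩
    · obtain ⟨σ, hσ⟩ := leaf_final T hm2 v M27 hM hx _ _ (row_single T v _ hz hp) (col_single T v _ hz hq)
        ![2, 3, 0, 1, 4, 5, 6, 7, 8] mc6 wc6 ac6 0 0 (by decide +kernel)
      exact of_type6 T σ _ _ hσ
    · exact (leaf_falseF T hm2 v M27 hM hx (by norm_num) _ _ (row_single T v _ hz hp) (col_single T v _ hz hq)
        ![11, 13, 5, 5, 16, 22, 31, 14, 14] (by decide +kernel)).elim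
    · exact (leaf_falseF T hm2 v M27 hM hx (by norm_num) _ _ (row_single T v _ hz hp) (col_single T v _ hz hq)
        ![11, 13, 5, 5, 16, 22, 31, 14, 29] (by decide +kernel)).elim
    · exact (leaf_falseF T hm2 v M27 hM hx (by norm_num) _ _ (row_single T v _ hz hp) (col_single T v _ hz hq)
        ![5, 7, 2, 2, 11, 18, 32, 14, 14] (by decide +kernel)).elim
    · exact (leaf_falseF T hm2 v M27 hM hx (by norm_num) _ _ (row_single T v _ hz hp) (col_single T v _ hz hq)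
        ![5, 7, 2, 2, 11, 18, 32, 14, 41] (by decide +kernel)).elim
  · rcases pair5 T (by norm_num) hm2 hne hi with
      ⟨hp, hq⟩ | ⟨hp, hq⟩ | ⟨hp, hq⟩ | ⟨hp, hq⟩ | ⟨hp, hq⟩
    · exact (leaf_falseF T hm2 v M27 hM hx (by norm_num) _ _ (row_single T v _ hz hp) (col_single T v _ hz hq)
        ![-35, -33, -18, -18, -30, -26, -21, -15, -8] (by decide +kernel)).elim
    · obtain ⟨σ, hσ⟩ := leaf_final T hm2 v M27 hM hx _ _ (row_single T v _ hz hp) (col_single T v _ hz hq)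
        ![8, 7, 6, 5, 4, 1, 0, 2, 3] mc4 wc4 ac4 0 1 (by decide +kernel)
      exact of_type4 T σ _ _ hσ
    · obtain ⟨σ, hσ⟩ := leaf_final T hm2 v M27 hM hx _ _ (row_single T v _ hz hp) (col_single T v _ hz hq)
        ![8, 7, 6, 5, 4, 1, 0, 2, 3] mc5 wc5 ac5 7 0 (by decide +kernel)
      exact of_type5 T σ _ _ hσ
    · exact (leaf_falseF T hm2 v M27 hM hx (by norm_num) _ _ (row_single T v _ hz hp) (col_single T v _ hz hq)
        ![11, 13, 5, 5, 16, 22, 30, 42, 20] (by decide +kernel)).elim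
    · exact (leaf_falseF T hm2 v M27 hM hx (by norm_num) _ _ (row_single T v _ hz hp) (col_single T v _ hz hq)
        ![11, 13, 5, 5, 16, 22, 30, 42, 59] (by decide +kernel)).elim

def pc28 : Fin 8 → Fin 8 → Fin 9 → ℤ :=
  ![![![0, 0, 0, 0, 0, 0, 0, 0, 0], ![1, 1, 0, 0, 0, 0, 0, 0, 1], ![1, 0, 1, 0, 0, 0, 0, 0, 1], ![1, 1, 0, 1, 0, 0, 0, 0, 1], ![1, 0, 1, 0, 1, 0, 0, 0, 1], ![1, 1, 0, 1, 0, 1, 0, 0, 1], ![1, 0, 1, 0, 1, 0, 1, 0, 1], ![1, 1, 0, 1, 0, 1, 0, 1, 1]], ![![1, 1, 0, 0, 0, 0, 0, 0, 1], ![0, 0, 0, 0, 0, 0, 0, 0, 0], ![1, 1, 1, 0, 0, 0, 0, 0, 1], ![0, 1, 0, 1, 0, 0, 0, 0, 1], ![1, 1, 1, 0, 1, 0, 0, 0, 1], ![0, 1, 0, 1, 0, 1, 0, 0, 1], ![1, 1, 1, 0, 1, 0, 1, 0, 1], ![0, 1, 0, 1, 0, 1, 0, 1, 1]], ![![1, 0, 1, 0, 0, 0, 0, 0, 1], ![1, 1, 1, 0, 0, 0, 0, 0, 1], ![0, 0, 0, 0, 0, 0, 0, 0, 0], ![1, 1, 1, 1, 0, 0, 0, 0, 1], ![0, 0, 1, 0, 1, 0, 0, 0,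 1], ![1, 1, 1, 1, 0, 1, 0, 0, 1], ![0, 0, 1, 0, 1, 0, 1, 0, 1], ![1, 1, 1, 1, 0, 1, 0, 1, 1]], ![![1, 1, 0, 1, 0, 0, 0, 0, 1], ![0, 1, 0, 1, 0, 0, 0, 0, 1], ![1, 1, 1, 1, 0, 0, 0, 0, 1], ![0, 0, 0, 0, 0, 0, 0, 0, 0], ![1, 1, 1, 1, 1, 0, 0, 0, 1], ![0, 0, 0, 1, 0, 1, 0, 0, 1], ![1, 1, 1, 1, 1, 0, 1, 0, 1], ![0, 0, 0, 1, 0, 1, 0, 1, 1]], ![![1, 0, 1, 0, 1, 0, 0, 0, 1], ![1, 1, 1, 0, 1, 0, 0, 0, 1], ![0, 0, 1, 0, 1, 0, 0, 0, 1], ![1, 1, 1, 1, 1, 0, 0, 0, 1], ![0, 0, 0, 0, 0, 0, 0, 0, 0], ![1, 1, 1, 1, 1, 1, 0, 0, 1], ![0, 0, 0, 0, 1, 0, 1, 0, 1], ![1, 1, 1, 1, 1, 1, 0, 1, 1]], ![![1, 1, 0, 1, 0, 1, 0, 0, 1], ![0, 1, 0, 1, 0, 1, 0, 0, 1], ![1, 1, 1, 1, 0, 1, 0, 0, 1], ![0, 0, 0, 1, 0, 1, 0, 0, 1], ![1, 1, 1, 1, 1, 1, 0, 0, 1], ![0, 0, 0, 0, 0, 0, 0, 0, 0], ![1, 1, 1, 1, 1, 1, 1, 0, 1], ![0, 0, 0, 0, 0, 1, 0, 1, 1]], ![![1, 0, 1, 0, 1, 0, 1, 0, 1], ![1,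 1, 1, 0, 1, 0, 1, 0, 1], ![0, 0, 1, 0, 1, 0, 1, 0, 1], ![1, 1, 1, 1, 1, 0, 1, 0, 1], ![0, 0, 0, 0, 1, 0, 1, 0, 1], ![1, 1, 1, 1, 1, 1, 1, 0, 1], ![0, 0, 0, 0, 0, 0, 0, 0, 0], ![0, 0, 0, 0, 0, 0, 0, 0, 0]], ![![1, 1, 0, 1, 0, 1, 0, 1, 1], ![0, 1, 0, 1, 0, 1, 0, 1, 1], ![1, 1, 1, 1, 0, 1, 0, 1, 1], ![0, 0, 0, 1, 0, 1, 0, 1, 1], ![1, 1, 1, 1, 1, 1, 0, 1, 1], ![0, 0, 0, 0, 0, 1, 0, 1, 1], ![0, 0, 0, 0, 0, 0, 0, 0, 0], ![0, 0, 0, 0, 0, 0, 0, 0, 0]]]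

theorem st28 (T : Models.NumericalType 9) (hm2 : ∀ i, T.IsMinusTwo i)
    (v : Fin 8 ↪ Fin 9) (hM : Knows T v M28) : Result T := by
  obtain ⟨x, hx, hcase⟩ := step_unique T hm2 v M28 hM (by norm_num) (by norm_num)
    (fun i l => decide ((i = 6 ∧ l = 7) ∨ (i = 7 ∧ l = 6))) pc28 (by decide +kernel)
    (by decide)
  rcases hcase with ⟨i, hi, hz⟩ | ⟨i, l, hex, hil, hi, hl, hz⟩
  swap
  · have hex2 : (i = 6 ∧ l = 7) ∨ (i = 7 ∧ l = 6) := by simpa using hex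
    obtain ⟨h1, h2, hz2⟩ : T.a x (v 6) ≠ 0 ∧ T.a x (v 7) ≠ 0 ∧
        ∀ j, j ≠ 6 → j ≠ 7 → T.a x (v j) = 0 := by
      rcases hex2 with ⟨rfl, rfl⟩ | ⟨rfl, rfl⟩
      · exact ⟨hi, hl, hz⟩
      · exact ⟨hl, hi, fun j a b => hz j b a⟩
    rcases pair5 T (by norm_num) hm2 (ne_of_not_range v hx 6) h1 with
      ⟨hp1, hq1⟩ | ⟨hp1, hq1⟩ | ⟨hp1, hq1⟩ | ⟨hp1, hq1⟩ | ⟨hp1, hq1⟩ <;>
    rcases pair5 T (by norm_num) hm2 (ne_of_not_range v hx 7) h2 with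
      ⟨hp2, hq2⟩ | ⟨hp2, hq2⟩ | ⟨hp2, hq2⟩ | ⟨hp2, hq2⟩ | ⟨hp2, hq2⟩
    · obtain ⟨σ, hσ⟩ := leaf_final T hm2 v M28 hM hx _ _ (row_double T v 6 7 hz2 hp1 hp2) (col_double T v 6 7 hz2 hq1 hq2)
        ![0, 1, 3, 5, 7, 8, 6, 4, 2] mc0 wc0 ac0 0 0 (by decide +kernel)
      exact of_type0 T σ _ _ hσ
    · exact (leaf_falseF T hm2 v M28 hM hx (by norm_num) _ _ (row_double T v 6 7 hz2 hp1 hp2) (col_double T v 6 7 hz2 hq1 hq2)
        ![1, 1, 1, 1, 1, 1, 1, 1, 1] (by decide +kernel)).elim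
    · exact (leaf_falseF T hm2 v M28 hM hx (by norm_num) _ _ (row_double T v 6 7 hz2 hp1 hp2) (col_double T v 6 7 hz2 hq1 hq2)
        ![1, 1, 1, 1, 1, 1, 1, 1, 1] (by decide +kernel)).elim
    · exact (leaf_falseF T hm2 v M28 hM hx (by norm_num) _ _ (row_double T v 6 7 hz2 hp1 hp2) (col_double T v 6 7 hz2 hq1 hq2)
        ![1, 1, 1, 1, 1, 1, 1, 1, 1] (by decide +kernel)).elim
    · exact (leaf_falseF T hm2 v M28 hM hx (by norm_num) _ _ (row_double T v 6 7 hz2 hp1 hp2) (col_double T v 6 7 hz2 hq1 hq2)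
        ![1, 1, 1, 1, 1, 1, 1, 1, 1] (by decide +kernel)).elim
    · exact (leaf_falseF T hm2 v M28 hM hx (by norm_num) _ _ (row_double T v 6 7 hz2 hp1 hp2) (col_double T v 6 7 hz2 hq1 hq2)
        ![1, 1, 1, 1, 1, 1, 1, 1, 1] (by decide +kernel)).elim
    · exact (leaf_falseF T hm2 v M28 hM hx (by norm_num) _ _ (row_double T v 6 7 hz2 hp1 hp2) (col_double T v 6 7 hz2 hq1 hq2)
        ![3, 3, 4, 4, 6, 6, 10, 10, 9] (by decide +kernel)).elim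
    · exact (leaf_falseF T hm2 v M28 hM hx (by norm_num) _ _ (row_double T v 6 7 hz2 hp1 hp2) (col_double T v 6 7 hz2 hq1 hq2)
        ![1, 1, 1, 1, 1, 1, 1, 1, 1] (by decide +kernel)).elim
    · exact (leaf_falseF T hm2 v M28 hM hx (by norm_num) _ _ (row_double T v 6 7 hz2 hp1 hp2) (col_double T v 6 7 hz2 hq1 hq2)
        ![1, 1, 1, 1, 1, 1, 1, 1, 1] (by decide +kernel)).elim
    · exact (leaf_falseF T hm2 v M28 hM hx (by norm_num) _ _ (row_double T v 6 7 hz2 hp1 hp2) (col_double T v 6 7 hz2 hq1 hq2)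
        ![1, 1, 1, 1, 1, 1, 1, 1, 1] (by decide +kernel)).elim
    · exact (leaf_falseF T hm2 v M28 hM hx (by norm_num) _ _ (row_double T v 6 7 hz2 hp1 hp2) (col_double T v 6 7 hz2 hq1 hq2)
        ![1, 1, 1, 1, 1, 1, 1, 1, 1] (by decide +kernel)).elim
    · exact (leaf_falseF T hm2 v M28 hM hx (by norm_num) _ _ (row_double T v 6 7 hz2 hp1 hp2) (col_double T v 6 7 hz2 hq1 hq2)
        ![1, 1, 1, 1, 1, 1, 1, 1, 1] (by decide +kernel)).elim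
    · exact (leaf_falseF T hm2 v M28 hM hx (by norm_num) _ _ (row_double T v 6 7 hz2 hp1 hp2) (col_double T v 6 7 hz2 hq1 hq2)
        ![3, 3, 4, 4, 6, 6, 10, 10, 18] (by decide +kernel)).elim
    · exact (leaf_falseF T hm2 v M28 hM hx (by norm_num) _ _ (row_double T v 6 7 hz2 hp1 hp2) (col_double T v 6 7 hz2 hq1 hq2)
        ![1, 1, 1, 1, 1, 1, 1, 1, 1] (by decide +kernel)).elim
    · exact (leaf_falseF T hm2 v M28 hM hx (by norm_num) _ _ (row_double T v 6 7 hz2 hp1 hp2) (col_double T v 6 7 hz2 hq1 hq2)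
        ![1, 1, 1, 1, 1, 1, 1, 1, 1] (by decide +kernel)).elim
    · exact (leaf_falseF T hm2 v M28 hM hx (by norm_num) _ _ (row_double T v 6 7 hz2 hp1 hp2) (col_double T v 6 7 hz2 hq1 hq2)
        ![1, 1, 1, 1, 1, 1, 1, 1, 1] (by decide +kernel)).elim
    · exact (leaf_falseF T hm2 v M28 hM hx (by norm_num) _ _ (row_double T v 6 7 hz2 hp1 hp2) (col_double T v 6 7 hz2 hq1 hq2)
        ![1, 1, 1, 1, 1, 1, 1, 1, 1] (by decide +kernel)).elim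
    · exact (leaf_falseF T hm2 v M28 hM hx (by norm_num) _ _ (row_double T v 6 7 hz2 hp1 hp2) (col_double T v 6 7 hz2 hq1 hq2)
        ![1, 1, 1, 1, 1, 1, 1, 1, 1] (by decide +kernel)).elim
    · exact (leaf_falseF T hm2 v M28 hM hx (by norm_num) _ _ (row_double T v 6 7 hz2 hp1 hp2) (col_double T v 6 7 hz2 hq1 hq2)
        ![1, 1, 2, 2, 4, 4, 8, 8, 6] (by decide +kernel)).elim
    · exact (leaf_falseF T hm2 v M28 hM hx (by norm_num) _ _ (row_double T v 6 7 hz2 hp1 hp2) (col_double T v 6 7 hz2 hq1 hq2)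
        ![1, 1, 1, 1, 1, 1, 1, 1, 1] (by decide +kernel)).elim
    · exact (leaf_falseF T hm2 v M28 hM hx (by norm_num) _ _ (row_double T v 6 7 hz2 hp1 hp2) (col_double T v 6 7 hz2 hq1 hq2)
        ![1, 1, 1, 1, 1, 1, 1, 1, 1] (by decide +kernel)).elim
    · exact (leaf_falseF T hm2 v M28 hM hx (by norm_num) _ _ (row_double T v 6 7 hz2 hp1 hp2) (col_double T v 6 7 hz2 hq1 hq2)
        ![1, 1, 1, 1, 1, 1, 1, 1, 1] (by decide +kernel)).elim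
    · exact (leaf_falseF T hm2 v M28 hM hx (by norm_num) _ _ (row_double T v 6 7 hz2 hp1 hp2) (col_double T v 6 7 hz2 hq1 hq2)
        ![1, 1, 1, 1, 1, 1, 1, 1, 1] (by decide +kernel)).elim
    · exact (leaf_falseF T hm2 v M28 hM hx (by norm_num) _ _ (row_double T v 6 7 hz2 hp1 hp2) (col_double T v 6 7 hz2 hq1 hq2)
        ![1, 1, 1, 1, 1, 1, 1, 1, 1] (by decide +kernel)).elim
    · exact (leaf_falseF T hm2 v M28 hM hx (by norm_num) _ _ (row_double T v 6 7 hz2 hp1 hp2) (col_double T v 6 7 hz2 hq1 hq2)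
        ![1, 1, 2, 2, 4, 4, 8, 8, 17] (by decide +kernel)).elim
  have hne := ne_of_not_range v hx i
  fin_cases i
  · rcases pair5 T (by norm_num) hm2 hne hi with
      ⟨hp, hq⟩ | ⟨hp, hq⟩ | ⟨hp, hq⟩ | ⟨hp, hq⟩ | ⟨hp, hq⟩
    · exact (leaf_falseF T hm2 v M28 hM hx (by norm_num) _ _ (row_single T v _ hz hp) (col_single T v _ hz hq)
        ![228, 179, 168, 132, 111, 87, 55, 43, 113] (by decide +kernel)).elim
    · exact (leaf_falseF T hm2 v M28 hM hx (by norm_num) _ _ (row_single T v _ hz hp) (col_single T v _ hz hq)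
        ![38, 24, 23, 15, 14, 9, 6, 4, 17] (by decide +kernel)).elim
    · exact (leaf_falseF T hm2 v M28 hM hx (by norm_num) _ _ (row_single T v _ hz hp) (col_single T v _ hz hq)
        ![38, 24, 23, 15, 14, 9, 6, 4, 34] (by decide +kernel)).elim
    · exact (leaf_falseF T hm2 v M28 hM hx (by norm_num) _ _ (row_single T v _ hz hp) (col_single T v _ hz hq)
        ![31, 17, 17, 9, 9, 5, 4, 2, 13] (by decide +kernel)).elim
    · exact (leaf_falseF T hm2 v M28 hM hx (by norm_num) _ _ (row_single T v _ hz hp) (col_single T v _ hz hq)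
        ![31, 17, 17, 9, 9, 5, 4, 2, 39] (by decide +kernel)).elim
  · rcases pair5 T (by norm_num) hm2 hne hi with
      ⟨hp, hq⟩ | ⟨hp, hq⟩ | ⟨hp, hq⟩ | ⟨hp, hq⟩ | ⟨hp, hq⟩
    · exact (leaf_falseF T hm2 v M28 hM hx (by norm_num) _ _ (row_single T v _ hz hp) (col_single T v _ hz hq)
        ![179, 228, 132, 168, 87, 111, 43, 55, 113] (by decide +kernel)).elim
    · exact (leaf_falseF T hm2 v M28 hM hx (by norm_num) _ _ (row_single T v _ hz hp) (col_single T v _ hz hq)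
        ![24, 38, 15, 23, 9, 14, 4, 6, 17] (by decide +kernel)).elim
    · exact (leaf_falseF T hm2 v M28 hM hx (by norm_num) _ _ (row_single T v _ hz hp) (col_single T v _ hz hq)
        ![24, 38, 15, 23, 9, 14, 4, 6, 34] (by decide +kernel)).elim
    · exact (leaf_falseF T hm2 v M28 hM hx (by norm_num) _ _ (row_single T v _ hz hp) (col_single T v _ hz hq)
        ![17, 31, 9, 17, 5, 9, 2, 4, 13] (by decide +kernel)).elim
    · exact (leaf_falseF T hm2 v M28 hM hx (by norm_num) _ _ (row_single T v _ hz hp) (col_single T v _ hz hq)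
        ![17, 31, 9, 17, 5, 9, 2, 4, 39] (by decide +kernel)).elim
  · rcases pair5 T (by norm_num) hm2 hne hi with
      ⟨hp, hq⟩ | ⟨hp, hq⟩ | ⟨hp, hq⟩ | ⟨hp, hq⟩ | ⟨hp, hq⟩
    · obtain ⟨σ, hσ⟩ := leaf_final T hm2 v M28 hM hx _ _ (row_single T v _ hz hp) (col_single T v _ hz hq)
        ![7, 5, 3, 1, 0, 2, 4, 6, 8] mc7 wc7 ac7 0 0 (by decide +kernel)
      exact of_type7 T σ _ _ hσ
    · exact (leaf_falseF T hm2 v M28 hM hx (by norm_num) _ _ (row_single T v _ hz hp) (col_single T v _ hz hq)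
        ![36, 23, 55, 15, 32, 9, 15, 4, 25] (by decide +kernel)).elim
    · exact (leaf_falseF T hm2 v M28 hM hx (by norm_num) _ _ (row_single T v _ hz hp) (col_single T v _ hz hq)
        ![36, 23, 55, 15, 32, 9, 15, 4, 50] (by decide +kernel)).elim
    · exact (leaf_falseF T hm2 v M28 hM hx (by norm_num) _ _ (row_single T v _ hz hp) (col_single T v _ hz hq)
        ![30, 17, 54, 9, 28, 5, 12, 2, 23] (by decide +kernel)).elim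
    · exact (leaf_falseF T hm2 v M28 hM hx (by norm_num) _ _ (row_single T v _ hz hp) (col_single T v _ hz hq)
        ![30, 17, 54, 9, 28, 5, 12, 2, 69] (by decide +kernel)).elim
  · rcases pair5 T (by norm_num) hm2 hne hi with
      ⟨hp, hq⟩ | ⟨hp, hq⟩ | ⟨hp, hq⟩ | ⟨hp, hq⟩ | ⟨hp, hq⟩
    · obtain ⟨σ, hσ⟩ := leaf_final T hm2 v M28 hM hx _ _ (row_single T v _ hz hp) (col_single T v _ hz hq)
        ![6, 4, 2, 0, 1, 3, 5, 7, 8] mc7 wc7 ac7 0 0 (by decide +kernel)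
      exact of_type7 T σ _ _ hσ
    · exact (leaf_falseF T hm2 v M28 hM hx (by norm_num) _ _ (row_single T v _ hz hp) (col_single T v _ hz hq)
        ![23, 36, 15, 55, 9, 32, 4, 15, 25] (by decide +kernel)).elim
    · exact (leaf_falseF T hm2 v M28 hM hx (by norm_num) _ _ (row_single T v _ hz hp) (col_single T v _ hz hq)
        ![23, 36, 15, 55, 9, 32, 4, 15, 50] (by decide +kernel)).elim
    · exact (leaf_falseF T hm2 v M28 hM hx (by norm_num) _ _ (row_single T v _ hz hp) (col_single T v _ hz hq)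
        ![17, 30, 9, 54, 5, 28, 2, 12, 23] (by decide +kernel)).elim
    · exact (leaf_falseF T hm2 v M28 hM hx (by norm_num) _ _ (row_single T v _ hz hp) (col_single T v _ hz hq)
        ![17, 30, 9, 54, 5, 28, 2, 12, 69] (by decide +kernel)).elim
  · rcases pair5 T (by norm_num) hm2 hne hi with
      ⟨hp, hq⟩ | ⟨hp, hq⟩ | ⟨hp, hq⟩ | ⟨hp, hq⟩ | ⟨hp, hq⟩
    · exact (leaf_falseF T hm2 v M28 hM hx (by norm_num) _ _ (row_single T v _ hz hp) (col_single T v _ hz hq)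
        ![-30, -26, -33, -21, -35, -15, -18, -8, -18] (by decide +kernel)).elim
    · exact (leaf_falseF T hm2 v M28 hM hx (by norm_num) _ _ (row_single T v _ hz hp) (col_single T v _ hz hq)
        ![46, 32, 66, 21, 94, 13, 44, 6, 44] (by decide +kernel)).elim
    · exact (leaf_falseF T hm2 v M28 hM hx (by norm_num) _ _ (row_single T v _ hz hp) (col_single T v _ hz hq)
        ![46, 32, 66, 21, 94, 13, 44, 6, 89] (by decide +kernel)).elim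
    · exact (leaf_falseF T hm2 v M28 hM hx (by norm_num) _ _ (row_single T v _ hz hp) (col_single T v _ hz hq)
        ![27, 15, 47, 9, 81, 5, 35, 2, 35] (by decide +kernel)).elim
    · exact (leaf_falseF T hm2 v M28 hM hx (by norm_num) _ _ (row_single T v _ hz hp) (col_single T v _ hz hq)
        ![27, 15, 47, 9, 81, 5, 35, 2, 105] (by decide +kernel)).elim
  · rcases pair5 T (by norm_num) hm2 hne hi with
      ⟨hp, hq⟩ | ⟨hp, hq⟩ | ⟨hp, hq⟩ | ⟨hp, hq⟩ | ⟨hp, hq⟩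
    · exact (leaf_falseF T hm2 v M28 hM hx (by norm_num) _ _ (row_single T v _ hz hp) (col_single T v _ hz hq)
        ![-26, -30, -21, -33, -15, -35, -8, -18, -18] (by decide +kernel)).elim
    · exact (leaf_falseF T hm2 v M28 hM hx (by norm_num) _ _ (row_single T v _ hz hp) (col_single T v _ hz hq)
        ![32, 46, 21, 66, 13, 94, 6, 44, 44] (by decide +kernel)).elim
    · exact (leaf_falseF T hm2 v M28 hM hx (by norm_num) _ _ (row_single T v _ hz hp) (col_single T v _ hz hq)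
        ![32, 46, 21, 66, 13, 94, 6, 44, 89] (by decide +kernel)).elim
    · exact (leaf_falseF T hm2 v M28 hM hx (by norm_num) _ _ (row_single T v _ hz hp) (col_single T v _ hz hq)
        ![15, 27, 9, 47, 5, 81, 2, 35, 35] (by decide +kernel)).elim
    · exact (leaf_falseF T hm2 v M28 hM hx (by norm_num) _ _ (row_single T v _ hz hp) (col_single T v _ hz hq)
        ![15, 27, 9, 47, 5, 81, 2, 35, 105] (by decide +kernel)).elim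
  · rcases pair5 T (by norm_num) hm2 hne hi with
      ⟨hp, hq⟩ | ⟨hp, hq⟩ | ⟨hp, hq⟩ | ⟨hp, hq⟩ | ⟨hp, hq⟩
    · exact (leaf_falseF T hm2 v M28 hM hx (by norm_num) _ _ (row_single T v _ hz hp) (col_single T v _ hz hq)
        ![-25, -24, -24, -21, -21, -16, -16, -9, -9] (by decide +kernel)).elim
    · exact (leaf_falseF T hm2 v M28 hM hx (by norm_num) _ _ (row_single T v _ hz hp) (col_single T v _ hz hq)
        ![-70, -60, -78, -48, -84, -34, -88, -18, -45] (by decide +kernel)).elim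
    · exact (leaf_falseF T hm2 v M28 hM hx (by norm_num) _ _ (row_single T v _ hz hp) (col_single T v _ hz hq)
        ![-65, -56, -72, -45, -77, -32, -80, -17, -81] (by decide +kernel)).elim
    · exact (leaf_falseF T hm2 v M28 hM hx (by norm_num) _ _ (row_single T v _ hz hp) (col_single T v _ hz hq)
        ![46, 32, 67, 21, 95, 13, 134, 6, 63] (by decide +kernel)).elim
    · exact (leaf_falseF T hm2 v M28 hM hx (by norm_num) _ _ (row_single T v _ hz hp) (col_single T v _ hz hq)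
        ![46, 32, 67, 21, 95, 13, 134, 6, 190] (by decide +kernel)).elim
  · rcases pair5 T (by norm_num) hm2 hne hi with
      ⟨hp, hq⟩ | ⟨hp, hq⟩ | ⟨hp, hq⟩ | ⟨hp, hq⟩ | ⟨hp, hq⟩
    · exact (leaf_falseF T hm2 v M28 hM hx (by norm_num) _ _ (row_single T v _ hz hp) (col_single T v _ hz hq)
        ![-24, -25, -21, -24, -16, -21, -9, -16, -9] (by decide +kernel)).elim
    · exact (leaf_falseF T hm2 v M28 hM hx (by norm_num) _ _ (row_single T v _ hz hp) (col_single T v _ hz hq)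
        ![-60, -70, -48, -78, -34, -84, -18, -88, -45] (by decide +kernel)).elim
    · exact (leaf_falseF T hm2 v M28 hM hx (by norm_num) _ _ (row_single T v _ hz hp) (col_single T v _ hz hq)
        ![-56, -65, -45, -72, -32, -77, -17, -80, -81] (by decide +kernel)).elim
    · exact (leaf_falseF T hm2 v M28 hM hx (by norm_num) _ _ (row_single T v _ hz hp) (col_single T v _ hz hq)
        ![32, 46, 21, 67, 13, 95, 6, 134, 63] (by decide +kernel)).elim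
    · exact (leaf_falseF T hm2 v M28 hM hx (by norm_num) _ _ (row_single T v _ hz hp) (col_single T v _ hz hq)
        ![32, 46, 21, 67, 13, 95, 6, 134, 190] (by decide +kernel)).elim

def pc29 : Fin 8 → Fin 8 → Fin 9 → ℤ :=
  ![![![0, 0, 0, 0, 0, 0, 0, 0, 0], ![1, 1, 0, 0, 0, 0, 0, 0, 1], ![1, 0, 1, 0, 0, 0, 0, 0, 1], ![1, 1, 0, 1, 0, 0, 0, 0, 1], ![1, 0, 1, 0, 1, 0, 0, 0, 1], ![1, 1, 0, 1, 0, 1, 0, 0, 1], ![1, 0, 1, 0, 1, 0, 1, 0, 1], ![1, 1, 0, 1, 0, 1, 0, 1, 1]], ![![1, 1, 0, 0, 0, 0, 0, 0, 1], ![0, 0, 0, 0, 0, 0, 0, 0, 0], ![1, 1, 1, 0, 0, 0, 0, 0, 1], ![0, 1, 0, 1, 0, 0, 0, 0, 1], ![1, 1, 1, 0, 1, 0, 0, 0, 1], ![0, 1, 0, 1, 0, 1, 0, 0, 1], ![1, 1, 1, 0, 1, 0, 1, 0, 1], ![0, 1, 0, 1, 0, 1, 0, 1, 1]], ![![1, 0, 1, 0, 0, 0, 0, 0, 1], ![1, 1, 1, 0, 0, 0, 0, 0, 1], ![0, 0, 0, 0, 0, 0, 0, 0, 0], ![1, 1, 1, 1, 0, 0, 0, 0, 1], ![0, 0, 1, 0, 1, 0, 0,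 0, 1], ![1, 1, 1, 1, 0, 1, 0, 0, 1], ![0, 0, 1, 0, 1, 0, 1, 0, 1], ![1, 1, 1, 1, 0, 1, 0, 1, 1]], ![![1, 1, 0, 1, 0, 0, 0, 0, 1], ![0, 1, 0, 1, 0, 0, 0, 0, 1], ![1, 1, 1, 1, 0, 0, 0, 0, 1], ![0, 0, 0, 0, 0, 0, 0, 0, 0], ![1, 1, 1, 1, 1, 0, 0, 0, 1], ![0, 0, 0, 1, 0, 1, 0, 0, 1], ![1, 1, 1, 1, 1, 0, 1, 0, 1], ![0, 0, 0, 1, 0, 1, 0, 1, 1]], ![![1, 0, 1, 0, 1, 0, 0, 0, 1], ![1, 1, 1, 0, 1, 0, 0, 0, 1], ![0, 0, 1, 0, 1, 0, 0, 0, 1], ![1, 1, 1, 1, 1, 0, 0, 0, 1], ![0, 0, 0, 0, 0, 0, 0, 0, 0], ![1, 1, 1, 1, 1, 1, 0, 0, 1], ![0, 0, 0, 0, 1, 0, 1, 0, 1], ![1, 1, 1, 1, 1, 1, 0, 1, 1]], ![![1, 1, 0, 1, 0, 1, 0, 0, 1], ![0, 1, 0, 1, 0, 1, 0, 0, 1], ![1, 1, 1, 1, 0, 1, 0, 0, 1], ![0, 0, 0, 1, 0, 1, 0, 0, 1], ![1, 1, 1, 1, 1, 1, 0, 0, 1], ![0, 0, 0, 0, 0, 0, 0, 0, 0], ![1, 1, 1, 1, 1, 1, 1, 0, 1], ![0, 0, 0, 0, 0, 1, 0, 1, 1]], ![![1, 0, 1, 0, 1, 0, 1, 0, 1], ![1,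 1, 1, 0, 1, 0, 1, 0, 1], ![0, 0, 1, 0, 1, 0, 1, 0, 1], ![1, 1, 1, 1, 1, 0, 1, 0, 1], ![0, 0, 0, 0, 1, 0, 1, 0, 1], ![1, 1, 1, 1, 1, 1, 1, 0, 1], ![0, 0, 0, 0, 0, 0, 0, 0, 0], ![0, 0, 0, 0, 0, 0, 0, 0, 0]], ![![1, 1, 0, 1, 0, 1, 0, 1, 1], ![0, 1, 0, 1, 0, 1, 0, 1, 1], ![1, 1, 1, 1, 0, 1, 0, 1, 1], ![0, 0, 0, 1, 0, 1, 0, 1, 1], ![1, 1, 1, 1, 1, 1, 0, 1, 1], ![0, 0, 0, 0, 0, 1, 0, 1, 1], ![0, 0, 0, 0, 0, 0, 0, 0, 0], ![0, 0, 0, 0, 0, 0, 0, 0, 0]]]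

theorem st29 (T : Models.NumericalType 9) (hm2 : ∀ i, T.IsMinusTwo i)
    (v : Fin 8 ↪ Fin 9) (hM : Knows T v M29) : Result T := by
  obtain ⟨x, hx, hcase⟩ := step_unique T hm2 v M29 hM (by norm_num) (by norm_num)
    (fun i l => decide ((i = 6 ∧ l = 7) ∨ (i = 7 ∧ l = 6))) pc29 (by decide +kernel)
    (by decide)
  rcases hcase with ⟨i, hi, hz⟩ | ⟨i, l, hex, hil, hi, hl, hz⟩
  swap
  · have hex2 : (i = 6 ∧ l = 7) ∨ (i = 7 ∧ l = 6) := by simpa using hex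
    obtain ⟨h1, h2, hz2⟩ : T.a x (v 6) ≠ 0 ∧ T.a x (v 7) ≠ 0 ∧
        ∀ j, j ≠ 6 → j ≠ 7 → T.a x (v j) = 0 := by
      rcases hex2 with ⟨rfl, rfl⟩ | ⟨rfl, rfl⟩
      · exact ⟨hi, hl, hz⟩
      · exact ⟨hl, hi, fun j a b => hz j b a⟩
    rcases pair5 T (by norm_num) hm2 (ne_of_not_range v hx 6) h1 with
      ⟨hp1, hq1⟩ | ⟨hp1, hq1⟩ | ⟨hp1, hq1⟩ | ⟨hp1, hq1⟩ | ⟨hp1, hq1⟩ <;>
    rcases pair5 T (by norm_num) hm2 (ne_of_not_range v hx 7) h2 with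
      ⟨hp2, hq2⟩ | ⟨hp2, hq2⟩ | ⟨hp2, hq2⟩ | ⟨hp2, hq2⟩ | ⟨hp2, hq2⟩
    · exact (leaf_falseF T hm2 v M29 hM hx (by norm_num) _ _ (row_double T v 6 7 hz2 hp1 hp2) (col_double T v 6 7 hz2 hq1 hq2)
        ![1, 1, 1, 1, 1, 1, 1, 1, 1] (by decide +kernel)).elim
    · exact (leaf_falseF T hm2 v M29 hM hx (by norm_num) _ _ (row_double T v 6 7 hz2 hp1 hp2) (col_double T v 6 7 hz2 hq1 hq2)
        ![1, 1, 1, 1, 1, 1, 1, 1, 1] (by decide +kernel)).elim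
    · exact (leaf_falseF T hm2 v M29 hM hx (by norm_num) _ _ (row_double T v 6 7 hz2 hp1 hp2) (col_double T v 6 7 hz2 hq1 hq2)
        ![3, 4, 3, 6, 4, 10, 6, 9, 10] (by decide +kernel)).elim
    · exact (leaf_falseF T hm2 v M29 hM hx (by norm_num) _ _ (row_double T v 6 7 hz2 hp1 hp2) (col_double T v 6 7 hz2 hq1 hq2)
        ![1, 1, 1, 1, 1, 1, 1, 1, 1] (by decide +kernel)).elim
    · exact (leaf_falseF T hm2 v M29 hM hx (by norm_num) _ _ (row_double T v 6 7 hz2 hp1 hp2) (col_double T v 6 7 hz2 hq1 hq2)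
        ![1, 1, 1, 1, 1, 1, 1, 1, 1] (by decide +kernel)).elim
    · exact (leaf_falseF T hm2 v M29 hM hx (by norm_num) _ _ (row_double T v 6 7 hz2 hp1 hp2) (col_double T v 6 7 hz2 hq1 hq2)
        ![5, 6, 6, 8, 8, 12, 12, 9, 9] (by decide +kernel)).elim
    · exact (leaf_falseF T hm2 v M29 hM hx (by norm_num) _ _ (row_double T v 6 7 hz2 hp1 hp2) (col_double T v 6 7 hz2 hq1 hq2)
        ![1, 1, 1, 1, 1, 1, 1, 1, 1] (by decide +kernel)).elim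
    · exact (leaf_falseF T hm2 v M29 hM hx (by norm_num) _ _ (row_double T v 6 7 hz2 hp1 hp2) (col_double T v 6 7 hz2 hq1 hq2)
        ![1, 1, 1, 1, 1, 1, 1, 1, 1] (by decide +kernel)).elim
    · exact (leaf_falseF T hm2 v M29 hM hx (by norm_num) _ _ (row_double T v 6 7 hz2 hp1 hp2) (col_double T v 6 7 hz2 hq1 hq2)
        ![1, 1, 1, 1, 1, 1, 1, 1, 1] (by decide +kernel)).elim
    · exact (leaf_falseF T hm2 v M29 hM hx (by norm_num) _ _ (row_double T v 6 7 hz2 hp1 hp2) (col_double T v 6 7 hz2 hq1 hq2)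
        ![1, 1, 1, 1, 1, 1, 1, 1, 1] (by decide +kernel)).elim
    · exact (leaf_falseF T hm2 v M29 hM hx (by norm_num) _ _ (row_double T v 6 7 hz2 hp1 hp2) (col_double T v 6 7 hz2 hq1 hq2)
        ![1, 1, 1, 1, 1, 1, 1, 1, 1] (by decide +kernel)).elim
    · exact (leaf_falseF T hm2 v M29 hM hx (by norm_num) _ _ (row_double T v 6 7 hz2 hp1 hp2) (col_double T v 6 7 hz2 hq1 hq2)
        ![1, 1, 1, 1, 1, 1, 1, 1, 1] (by decide +kernel)).elim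
    · exact (leaf_falseF T hm2 v M29 hM hx (by norm_num) _ _ (row_double T v 6 7 hz2 hp1 hp2) (col_double T v 6 7 hz2 hq1 hq2)
        ![1, 1, 1, 1, 1, 1, 1, 1, 1] (by decide +kernel)).elim
    · exact (leaf_falseF T hm2 v M29 hM hx (by norm_num) _ _ (row_double T v 6 7 hz2 hp1 hp2) (col_double T v 6 7 hz2 hq1 hq2)
        ![1, 1, 1, 1, 1, 1, 1, 1, 1] (by decide +kernel)).elim
    · exact (leaf_falseF T hm2 v M29 hM hx (by norm_num) _ _ (row_double T v 6 7 hz2 hp1 hp2) (col_double T v 6 7 hz2 hq1 hq2)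
        ![1, 1, 1, 1, 1, 1, 1, 1, 1] (by decide +kernel)).elim
    · exact (leaf_falseF T hm2 v M29 hM hx (by norm_num) _ _ (row_double T v 6 7 hz2 hp1 hp2) (col_double T v 6 7 hz2 hq1 hq2)
        ![1, 1, 1, 1, 1, 1, 1, 1, 1] (by decide +kernel)).elim
    · exact (leaf_falseF T hm2 v M29 hM hx (by norm_num) _ _ (row_double T v 6 7 hz2 hp1 hp2) (col_double T v 6 7 hz2 hq1 hq2)
        ![1, 1, 1, 1, 1, 1, 1, 1, 1] (by decide +kernel)).elim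
    · exact (leaf_falseF T hm2 v M29 hM hx (by norm_num) _ _ (row_double T v 6 7 hz2 hp1 hp2) (col_double T v 6 7 hz2 hq1 hq2)
        ![1, 1, 1, 1, 1, 1, 1, 1, 1] (by decide +kernel)).elim
    · exact (leaf_falseF T hm2 v M29 hM hx (by norm_num) _ _ (row_double T v 6 7 hz2 hp1 hp2) (col_double T v 6 7 hz2 hq1 hq2)
        ![1, 1, 1, 1, 1, 1, 1, 1, 1] (by decide +kernel)).elim
    · exact (leaf_falseF T hm2 v M29 hM hx (by norm_num) _ _ (row_double T v 6 7 hz2 hp1 hp2) (col_double T v 6 7 hz2 hq1 hq2)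
        ![1, 1, 1, 1, 1, 1, 1, 1, 1] (by decide +kernel)).elim
    · exact (leaf_falseF T hm2 v M29 hM hx (by norm_num) _ _ (row_double T v 6 7 hz2 hp1 hp2) (col_double T v 6 7 hz2 hq1 hq2)
        ![1, 1, 1, 1, 1, 1, 1, 1, 1] (by decide +kernel)).elim
    · exact (leaf_falseF T hm2 v M29 hM hx (by norm_num) _ _ (row_double T v 6 7 hz2 hp1 hp2) (col_double T v 6 7 hz2 hq1 hq2)
        ![1, 1, 1, 1, 1, 1, 1, 1, 1] (by decide +kernel)).elim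
    · exact (leaf_falseF T hm2 v M29 hM hx (by norm_num) _ _ (row_double T v 6 7 hz2 hp1 hp2) (col_double T v 6 7 hz2 hq1 hq2)
        ![1, 1, 1, 1, 1, 1, 1, 1, 1] (by decide +kernel)).elim
    · exact (leaf_falseF T hm2 v M29 hM hx (by norm_num) _ _ (row_double T v 6 7 hz2 hp1 hp2) (col_double T v 6 7 hz2 hq1 hq2)
        ![1, 1, 1, 1, 1, 1, 1, 1, 1] (by decide +kernel)).elim
    · exact (leaf_falseF T hm2 v M29 hM hx (by norm_num) _ _ (row_double T v 6 7 hz2 hp1 hp2) (col_double T v 6 7 hz2 hq1 hq2)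
        ![1, 1, 1, 1, 1, 1, 1, 1, 1] (by decide +kernel)).elim
  have hne := ne_of_not_range v hx i
  fin_cases i
  · rcases pair5 T (by norm_num) hm2 hne hi with
      ⟨hp, hq⟩ | ⟨hp, hq⟩ | ⟨hp, hq⟩ | ⟨hp, hq⟩ | ⟨hp, hq⟩
    · exact (leaf_falseF T hm2 v M29 hM hx (by norm_num) _ _ (row_single T v _ hz hp) (col_single T v _ hz hq)
        ![55, 47, 39, 42, 25, 39, 12, 19, 27] (by decide +kernel)).elim
    · exact (leaf_falseF T hm2 v M29 hM hx (by norm_num) _ _ (row_single T v _ hz hp) (col_single T v _ hz hq)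
        ![25, 17, 15, 12, 9, 9, 4, 4, 11] (by decide +kernel)).elim
    · exact (leaf_falseF T hm2 v M29 hM hx (by norm_num) _ _ (row_single T v _ hz hp) (col_single T v _ hz hq)
        ![25, 17, 15, 12, 9, 9, 4, 4, 23] (by decide +kernel)).elim
    · exact (leaf_falseF T hm2 v M29 hM hx (by norm_num) _ _ (row_single T v _ hz hp) (col_single T v _ hz hq)
        ![33, 19, 18, 11, 9, 7, 4, 3, 14] (by decide +kernel)).elim
    · exact (leaf_falseF T hm2 v M29 hM hx (by norm_num) _ _ (row_single T v _ hz hp) (col_single T v _ hz hq)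
        ![33, 19, 18, 11, 9, 7, 4, 3, 42] (by decide +kernel)).elim
  · rcases pair5 T (by norm_num) hm2 hne hi with
      ⟨hp, hq⟩ | ⟨hp, hq⟩ | ⟨hp, hq⟩ | ⟨hp, hq⟩ | ⟨hp, hq⟩
    · exact (leaf_falseF T hm2 v M29 hM hx (by norm_num) _ _ (row_single T v _ hz hp) (col_single T v _ hz hq)
        ![43, 59, 30, 50, 19, 46, 9, 22, 28] (by decide +kernel)).elim
    · exact (leaf_falseF T hm2 v M29 hM hx (by norm_num) _ _ (row_single T v _ hz hp) (col_single T v _ hz hq)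
        ![19, 31, 12, 21, 7, 16, 3, 7, 14] (by decide +kernel)).elim
    · exact (leaf_falseF T hm2 v M29 hM hx (by norm_num) _ _ (row_single T v _ hz hp) (col_single T v _ hz hq)
        ![19, 31, 12, 21, 7, 16, 3, 7, 28] (by decide +kernel)).elim
    · exact (leaf_falseF T hm2 v M29 hM hx (by norm_num) _ _ (row_single T v _ hz hp) (col_single T v _ hz hq)
        ![17, 32, 9, 19, 5, 12, 2, 5, 14] (by decide +kernel)).elim
    · exact (leaf_falseF T hm2 v M29 hM hx (by norm_num) _ _ (row_single T v _ hz hp) (col_single T v _ hz hq)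
        ![17, 32, 9, 19, 5, 12, 2, 5, 41] (by decide +kernel)).elim
  · rcases pair5 T (by norm_num) hm2 hne hi with
      ⟨hp, hq⟩ | ⟨hp, hq⟩ | ⟨hp, hq⟩ | ⟨hp, hq⟩ | ⟨hp, hq⟩
    · exact (leaf_falseF T hm2 v M29 hM hx (by norm_num) _ _ (row_single T v _ hz hp) (col_single T v _ hz hq)
        ![56, 50, 63, 47, 41, 45, 20, 22, 31] (by decide +kernel)).elim
    · exact (leaf_falseF T hm2 v M29 hM hx (by norm_num) _ _ (row_single T v _ hz hp) (col_single T v _ hz hq)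
        ![22, 15, 32, 11, 19, 9, 9, 4, 15] (by decide +kernel)).elim
    · exact (leaf_falseF T hm2 v M29 hM hx (by norm_num) _ _ (row_single T v _ hz hp) (col_single T v _ hz hq)
        ![22, 15, 32, 11, 19, 9, 9, 4, 30] (by decide +kernel)).elim
    · exact (leaf_falseF T hm2 v M29 hM hx (by norm_num) _ _ (row_single T v _ hz hp) (col_single T v _ hz hq)
        ![21, 12, 38, 7, 19, 5, 8, 2, 16] (by decide +kernel)).elim
    · exact (leaf_falseF T hm2 v M29 hM hx (by norm_num) _ _ (row_single T v _ hz hp) (col_single T v _ hz hq)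
        ![21, 12, 38, 7, 19, 5, 8, 2, 48] (by decide +kernel)).elim
  · rcases pair5 T (by norm_num) hm2 hne hi with
      ⟨hp, hq⟩ | ⟨hp, hq⟩ | ⟨hp, hq⟩ | ⟨hp, hq⟩ | ⟨hp, hq⟩
    · exact (leaf_falseF T hm2 v M29 hM hx (by norm_num) _ _ (row_single T v _ hz hp) (col_single T v _ hz hq)
        ![35, 49, 24, 67, 15, 59, 7, 28, 32] (by decide +kernel)).elim
    · exact (leaf_falseF T hm2 v M29 hM hx (by norm_num) _ _ (row_single T v _ hz hp) (col_single T v _ hz hq)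
        ![20, 34, 12, 55, 7, 41, 3, 18, 25] (by decide +kernel)).elim
    · exact (leaf_falseF T hm2 v M29 hM hx (by norm_num) _ _ (row_single T v _ hz hp) (col_single T v _ hz hq)
        ![20, 34, 12, 55, 7, 41, 3, 18, 49] (by decide +kernel)).elim
    · exact (leaf_falseF T hm2 v M29 hM hx (by norm_num) _ _ (row_single T v _ hz hp) (col_single T v _ hz hq)
        ![18, 35, 10, 65, 5, 41, 2, 17, 27] (by decide +kernel)).elim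
    · exact (leaf_falseF T hm2 v M29 hM hx (by norm_num) _ _ (row_single T v _ hz hp) (col_single T v _ hz hq)
        ![18, 35, 10, 65, 5, 41, 2, 17, 81] (by decide +kernel)).elim
  · rcases pair5 T (by norm_num) hm2 hne hi with
      ⟨hp, hq⟩ | ⟨hp, hq⟩ | ⟨hp, hq⟩ | ⟨hp, hq⟩ | ⟨hp, hq⟩
    · obtain ⟨σ, hσ⟩ := leaf_final T hm2 v M29 hM hx _ _ (row_single T v _ hz hp) (col_single T v _ hz hq)
        ![7, 5, 3, 1, 0, 2, 4, 6, 8] mc4 wc4 ac4 0 1 (by decide +kernel)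
      exact of_type4 T σ _ _ hσ
    · exact (leaf_falseF T hm2 v M29 hM hx (by norm_num) _ _ (row_single T v _ hz hp) (col_single T v _ hz hq)
        ![22, 16, 30, 13, 42, 11, 20, 5, 20] (by decide +kernel)).elim
    · exact (leaf_falseF T hm2 v M29 hM hx (by norm_num) _ _ (row_single T v _ hz hp) (col_single T v _ hz hq)
        ![22, 16, 30, 13, 42, 11, 20, 5, 39] (by decide +kernel)).elim
    · exact (leaf_falseF T hm2 v M29 hM hx (by norm_num) _ _ (row_single T v _ hz hp) (col_single T v _ hz hq)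
        ![18, 11, 31, 7, 54, 5, 23, 2, 23] (by decide +kernel)).elim
    · exact (leaf_falseF T hm2 v M29 hM hx (by norm_num) _ _ (row_single T v _ hz hp) (col_single T v _ hz hq)
        ![18, 11, 31, 7, 54, 5, 23, 2, 70] (by decide +kernel)).elim
  · rcases pair5 T (by norm_num) hm2 hne hi with
      ⟨hp, hq⟩ | ⟨hp, hq⟩ | ⟨hp, hq⟩ | ⟨hp, hq⟩ | ⟨hp, hq⟩
    · exact (leaf_falseF T hm2 v M29 hM hx (by norm_num) _ _ (row_single T v _ hz hp) (col_single T v _ hz hq)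
        ![32, 46, 21, 66, 13, 94, 6, 44, 44] (by decide +kernel)).elim
    · exact (leaf_falseF T hm2 v M29 hM hx (by norm_num) _ _ (row_single T v _ hz hp) (col_single T v _ hz hq)
        ![15, 27, 9, 47, 5, 81, 2, 35, 35] (by decide +kernel)).elim
    · exact (leaf_falseF T hm2 v M29 hM hx (by norm_num) _ _ (row_single T v _ hz hp) (col_single T v _ hz hq)
        ![15, 27, 9, 47, 5, 81, 2, 35, 70] (by decide +kernel)).elim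
    · exact (leaf_falseF T hm2 v M29 hM hx (by norm_num) _ _ (row_single T v _ hz hp) (col_single T v _ hz hq)
        ![21, 43, 10, 85, 5, 171, 2, 68, 68] (by decide +kernel)).elim
    · exact (leaf_falseF T hm2 v M29 hM hx (by norm_num) _ _ (row_single T v _ hz hp) (col_single T v _ hz hq)
        ![21, 43, 10, 85, 5, 171, 2, 68, 205] (by decide +kernel)).elim
  · rcases pair5 T (by norm_num) hm2 hne hi with
      ⟨hp, hq⟩ | ⟨hp, hq⟩ | ⟨hp, hq⟩ | ⟨hp, hq⟩ | ⟨hp, hq⟩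
    · exact (leaf_falseF T hm2 v M29 hM hx (by norm_num) _ _ (row_single T v _ hz hp) (col_single T v _ hz hq)
        ![-70, -78, -60, -84, -48, -88, -34, -45, -18] (by decide +kernel)).elim
    · obtain ⟨σ, hσ⟩ := leaf_final T hm2 v M29 hM hx _ _ (row_single T v _ hz hp) (col_single T v _ hz hq)
        ![7, 5, 3, 1, 0, 2, 4, 6, 8] mc3 wc3 ac3 0 1 (by decide +kernel)
      exact of_type3 T σ _ _ hσ
    · obtain ⟨σ, hσ⟩ := leaf_final T hm2 v M29 hM hx _ _ (row_single T v _ hz hp) (col_single T v _ hz hq)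
        ![8, 6, 4, 2, 0, 1, 3, 5, 7] mc1 wc1 ac1 8 0 (by decide +kernel)
      exact of_type1 T σ _ _ hσ
    · exact (leaf_falseF T hm2 v M29 hM hx (by norm_num) _ _ (row_single T v _ hz hp) (col_single T v _ hz hq)
        ![21, 16, 30, 13, 41, 11, 58, 5, 27] (by decide +kernel)).elim
    · exact (leaf_falseF T hm2 v M29 hM hx (by norm_num) _ _ (row_single T v _ hz hp) (col_single T v _ hz hq)
        ![21, 16, 30, 13, 41, 11, 58, 5, 82] (by decide +kernel)).elim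
  · rcases pair5 T (by norm_num) hm2 hne hi with
      ⟨hp, hq⟩ | ⟨hp, hq⟩ | ⟨hp, hq⟩ | ⟨hp, hq⟩ | ⟨hp, hq⟩
    · exact (leaf_falseF T hm2 v M29 hM hx (by norm_num) _ _ (row_single T v _ hz hp) (col_single T v _ hz hq)
        ![55, 73, 39, 96, 25, 124, 12, 79, 39] (by decide +kernel)).elim
    · exact (leaf_falseF T hm2 v M29 hM hx (by norm_num) _ _ (row_single T v _ hz hp) (col_single T v _ hz hq)
        ![25, 39, 15, 61, 9, 96, 4, 74, 34] (by decide +kernel)).elim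
    · exact (leaf_falseF T hm2 v M29 hM hx (by norm_num) _ _ (row_single T v _ hz hp) (col_single T v _ hz hq)
        ![25, 39, 15, 61, 9, 96, 4, 74, 68] (by decide +kernel)).elim
    · exact (leaf_falseF T hm2 v M29 hM hx (by norm_num) _ _ (row_single T v _ hz hp) (col_single T v _ hz hq)
        ![17, 31, 9, 57, 5, 103, 2, 94, 40] (by decide +kernel)).elim
    · exact (leaf_falseF T hm2 v M29 hM hx (by norm_num) _ _ (row_single T v _ hz hp) (col_single T v _ hz hq)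
        ![17, 31, 9, 57, 5, 103, 2, 94, 119] (by decide +kernel)).elim

def pc30 : Fin 8 → Fin 8 → Fin 9 → ℤ :=
  ![![![0, 0, 0, 0, 0, 0, 0, 0, 0], ![1, 1, 0, 0, 0, 0, 0, 0, 1], ![1, 0, 1, 0, 0, 0, 0, 0, 1], ![1, 1, 0, 1, 0, 0, 0, 0, 1], ![1, 0, 1, 0, 1, 0, 0, 0, 1], ![1, 1, 0, 1, 0, 1, 0, 0, 1], ![1, 0, 1, 0, 1, 0, 1, 0, 1], ![1, 1, 0, 1, 0, 1, 0, 1, 1]], ![![1, 1, 0, 0, 0, 0, 0, 0, 1], ![0, 0, 0, 0, 0, 0, 0, 0, 0], ![1, 1, 1, 0, 0, 0, 0, 0, 1], ![0, 1, 0, 1, 0, 0, 0, 0, 1], ![1, 1, 1, 0, 1, 0, 0, 0, 1], ![0, 1, 0, 1, 0, 1, 0, 0, 1], ![1, 1, 1, 0, 1, 0, 1, 0, 1], ![0, 1, 0, 1, 0, 1, 0, 1, 1]], ![![1, 0, 1, 0, 0, 0, 0, 0, 1], ![1, 1, 1, 0, 0, 0, 0, 0, 1], ![0, 0, 0, 0, 0, 0, 0, 0, 0], ![1, 1, 1, 1, 0, 0, 0, 0, 1], ![0, 0, 1, 0, 1, 0, 0, 0, 1], ![1, 1, 1, 1, 0, 1, 0, 0, 1], ![0, 0, 1, 0, 1, 0, 1, 0, 1], ![1, 1, 1, 1, 0, 1, 0, 1, 1]], ![![1, 1, 0, 1,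 0, 0, 0, 0, 1], ![0, 1, 0, 1, 0, 0, 0, 0, 1], ![1, 1, 1, 1, 0, 0, 0, 0, 1], ![0, 0, 0, 0, 0, 0, 0, 0, 0], ![1, 1, 1, 1, 1, 0, 0, 0, 1], ![0, 0, 0, 1, 0, 1, 0, 0, 1], ![1, 1, 1, 1, 1, 0, 1, 0, 1], ![0, 0, 0, 1, 0, 1, 0, 1, 1]], ![![1, 0, 1, 0, 1, 0, 0, 0, 1], ![1, 1, 1, 0, 1, 0, 0, 0, 1], ![0, 0, 1, 0, 1, 0, 0, 0, 1], ![1, 1, 1, 1, 1, 0, 0, 0, 1], ![0, 0, 0, 0, 0, 0, 0, 0, 0], ![1, 1, 1, 1, 1, 1, 0, 0, 1], ![0, 0, 0, 0, 1, 0, 1, 0, 1], ![1, 1, 1, 1, 1, 1, 0, 1, 1]], ![![1, 1, 0, 1, 0, 1, 0, 0, 1], ![0, 1, 0, 1, 0, 1, 0, 0, 1], ![1, 1, 1, 1, 0, 1, 0, 0, 1], ![0, 0, 0, 1, 0, 1, 0, 0, 1], ![1, 1, 1, 1, 1, 1, 0, 0, 1], ![0, 0, 0, 0, 0, 0, 0, 0, 0], ![1, 1, 1, 1, 1, 1, 1, 0, 1], ![0, 0, 0, 0, 0, 1, 0, 1, 1]], ![![1, 0, 1, 0, 1, 0, 1, 0, 1], ![1, 1, 1, 0, 1, 0, 1, 0, 1], ![0, 0, 1, 0, 1, 0, 1, 0, 1], ![1, 1, 1, 1, 1, 0, 1, 0, 1], ![0, 0, 0, 0, 1, 0, 1, 0,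 1], ![1, 1, 1, 1, 1, 1, 1, 0, 1], ![0, 0, 0, 0, 0, 0, 0, 0, 0], ![0, 0, 0, 0, 0, 0, 0, 0, 0]], ![![1, 1, 0, 1, 0, 1, 0, 1, 1], ![0, 1, 0, 1, 0, 1, 0, 1, 1], ![1, 1, 1, 1, 0, 1, 0, 1, 1], ![0, 0, 0, 1, 0, 1, 0, 1, 1], ![1, 1, 1, 1, 1, 1, 0, 1, 1], ![0, 0, 0, 0, 0, 1, 0, 1, 1], ![0, 0, 0, 0, 0, 0, 0, 0, 0], ![0, 0, 0, 0, 0, 0, 0, 0, 0]]]

theorem st30 (T : Models.NumericalType 9) (hm2 : ∀ i, T.IsMinusTwo i)
    (v : Fin 8 ↪ Fin 9) (hM : Knows T v M30) : Result T := by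
  obtain ⟨x, hx, hcase⟩ := step_unique T hm2 v M30 hM (by norm_num) (by norm_num)
    (fun i l => decide ((i = 6 ∧ l = 7) ∨ (i = 7 ∧ l = 6))) pc30 (by decide +kernel)
    (by decide)
  rcases hcase with ⟨i, hi, hz⟩ | ⟨i, l, hex, hil, hi, hl, hz⟩
  swap
  · have hex2 : (i = 6 ∧ l = 7) ∨ (i = 7 ∧ l = 6) := by simpa using hex
    obtain ⟨h1, h2, hz2⟩ : T.a x (v 6) ≠ 0 ∧ T.a x (v 7) ≠ 0 ∧
        ∀ j, j ≠ 6 → j ≠ 7 → T.a x (v j) = 0 := by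
      rcases hex2 with ⟨rfl, rfl⟩ | ⟨rfl, rfl⟩
      · exact ⟨hi, hl, hz⟩
      · exact ⟨hl, hi, fun j a b => hz j b a⟩
    rcases pair5 T (by norm_num) hm2 (ne_of_not_range v hx 6) h1 with
      ⟨hp1, hq1⟩ | ⟨hp1, hq1⟩ | ⟨hp1, hq1⟩ | ⟨hp1, hq1⟩ | ⟨hp1, hq1⟩ <;>
    rcases pair5 T (by norm_num) hm2 (ne_of_not_range v hx 7) h2 with
      ⟨hp2, hq2⟩ | ⟨hp2, hq2⟩ | ⟨hp2, hq2⟩ | ⟨hp2, hq2⟩ | ⟨hp2, hq2⟩
    · exact (leaf_falseF T hm2 v M30 hM hx (by norm_num) _ _ (row_double T v 6 7 hz2 hp1 hp2) (col_double T v 6 7 hz2 hq1 hq2)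
        ![1, 1, 1, 1, 1, 1, 1, 1, 1] (by decide +kernel)).elim
    · exact (leaf_falseF T hm2 v M30 hM hx (by norm_num) _ _ (row_double T v 6 7 hz2 hp1 hp2) (col_double T v 6 7 hz2 hq1 hq2)
        ![3, 4, 3, 6, 4, 10, 6, 18, 10] (by decide +kernel)).elim
    · exact (leaf_falseF T hm2 v M30 hM hx (by norm_num) _ _ (row_double T v 6 7 hz2 hp1 hp2) (col_double T v 6 7 hz2 hq1 hq2)
        ![1, 1, 1, 1, 1, 1, 1, 1, 1] (by decide +kernel)).elim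
    · exact (leaf_falseF T hm2 v M30 hM hx (by norm_num) _ _ (row_double T v 6 7 hz2 hp1 hp2) (col_double T v 6 7 hz2 hq1 hq2)
        ![1, 1, 1, 1, 1, 1, 1, 1, 1] (by decide +kernel)).elim
    · exact (leaf_falseF T hm2 v M30 hM hx (by norm_num) _ _ (row_double T v 6 7 hz2 hp1 hp2) (col_double T v 6 7 hz2 hq1 hq2)
        ![1, 1, 1, 1, 1, 1, 1, 1, 1] (by decide +kernel)).elim
    · exact (leaf_falseF T hm2 v M30 hM hx (by norm_num) _ _ (row_double T v 6 7 hz2 hp1 hp2) (col_double T v 6 7 hz2 hq1 hq2)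
        ![1, 1, 1, 1, 1, 1, 1, 1, 1] (by decide +kernel)).elim
    · exact (leaf_falseF T hm2 v M30 hM hx (by norm_num) _ _ (row_double T v 6 7 hz2 hp1 hp2) (col_double T v 6 7 hz2 hq1 hq2)
        ![1, 1, 1, 1, 1, 1, 1, 1, 1] (by decide +kernel)).elim
    · exact (leaf_falseF T hm2 v M30 hM hx (by norm_num) _ _ (row_double T v 6 7 hz2 hp1 hp2) (col_double T v 6 7 hz2 hq1 hq2)
        ![1, 1, 1, 1, 1, 1, 1, 1, 1] (by decide +kernel)).elim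
    · exact (leaf_falseF T hm2 v M30 hM hx (by norm_num) _ _ (row_double T v 6 7 hz2 hp1 hp2) (col_double T v 6 7 hz2 hq1 hq2)
        ![1, 1, 1, 1, 1, 1, 1, 1, 1] (by decide +kernel)).elim
    · exact (leaf_falseF T hm2 v M30 hM hx (by norm_num) _ _ (row_double T v 6 7 hz2 hp1 hp2) (col_double T v 6 7 hz2 hq1 hq2)
        ![1, 1, 1, 1, 1, 1, 1, 1, 1] (by decide +kernel)).elim
    · exact (leaf_falseF T hm2 v M30 hM hx (by norm_num) _ _ (row_double T v 6 7 hz2 hp1 hp2) (col_double T v 6 7 hz2 hq1 hq2)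
        ![5, 6, 6, 8, 8, 12, 12, 19, 19] (by decide +kernel)).elim
    · exact (leaf_falseF T hm2 v M30 hM hx (by norm_num) _ _ (row_double T v 6 7 hz2 hp1 hp2) (col_double T v 6 7 hz2 hq1 hq2)
        ![1, 1, 1, 1, 1, 1, 1, 1, 1] (by decide +kernel)).elim
    · exact (leaf_falseF T hm2 v M30 hM hx (by norm_num) _ _ (row_double T v 6 7 hz2 hp1 hp2) (col_double T v 6 7 hz2 hq1 hq2)
        ![1, 1, 1, 1, 1, 1, 1, 1, 1] (by decide +kernel)).elim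
    · exact (leaf_falseF T hm2 v M30 hM hx (by norm_num) _ _ (row_double T v 6 7 hz2 hp1 hp2) (col_double T v 6 7 hz2 hq1 hq2)
        ![1, 1, 1, 1, 1, 1, 1, 1, 1] (by decide +kernel)).elim
    · exact (leaf_falseF T hm2 v M30 hM hx (by norm_num) _ _ (row_double T v 6 7 hz2 hp1 hp2) (col_double T v 6 7 hz2 hq1 hq2)
        ![1, 1, 1, 1, 1, 1, 1, 1, 1] (by decide +kernel)).elim
    · exact (leaf_falseF T hm2 v M30 hM hx (by norm_num) _ _ (row_double T v 6 7 hz2 hp1 hp2) (col_double T v 6 7 hz2 hq1 hq2)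
        ![1, 1, 1, 1, 1, 1, 1, 1, 1] (by decide +kernel)).elim
    · exact (leaf_falseF T hm2 v M30 hM hx (by norm_num) _ _ (row_double T v 6 7 hz2 hp1 hp2) (col_double T v 6 7 hz2 hq1 hq2)
        ![1, 1, 1, 1, 1, 1, 1, 1, 1] (by decide +kernel)).elim
    · exact (leaf_falseF T hm2 v M30 hM hx (by norm_num) _ _ (row_double T v 6 7 hz2 hp1 hp2) (col_double T v 6 7 hz2 hq1 hq2)
        ![1, 1, 1, 1, 1, 1, 1, 1, 1] (by decide +kernel)).elim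
    · exact (leaf_falseF T hm2 v M30 hM hx (by norm_num) _ _ (row_double T v 6 7 hz2 hp1 hp2) (col_double T v 6 7 hz2 hq1 hq2)
        ![1, 1, 1, 1, 1, 1, 1, 1, 1] (by decide +kernel)).elim
    · exact (leaf_falseF T hm2 v M30 hM hx (by norm_num) _ _ (row_double T v 6 7 hz2 hp1 hp2) (col_double T v 6 7 hz2 hq1 hq2)
        ![1, 1, 1, 1, 1, 1, 1, 1, 1] (by decide +kernel)).elim
    · exact (leaf_falseF T hm2 v M30 hM hx (by norm_num) _ _ (row_double T v 6 7 hz2 hp1 hp2) (col_double T v 6 7 hz2 hq1 hq2)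
        ![1, 1, 1, 1, 1, 1, 1, 1, 1] (by decide +kernel)).elim
    · exact (leaf_falseF T hm2 v M30 hM hx (by norm_num) _ _ (row_double T v 6 7 hz2 hp1 hp2) (col_double T v 6 7 hz2 hq1 hq2)
        ![1, 1, 1, 1, 1, 1, 1, 1, 1] (by decide +kernel)).elim
    · exact (leaf_falseF T hm2 v M30 hM hx (by norm_num) _ _ (row_double T v 6 7 hz2 hp1 hp2) (col_double T v 6 7 hz2 hq1 hq2)
        ![1, 1, 1, 1, 1, 1, 1, 1, 1] (by decide +kernel)).elim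
    · exact (leaf_falseF T hm2 v M30 hM hx (by norm_num) _ _ (row_double T v 6 7 hz2 hp1 hp2) (col_double T v 6 7 hz2 hq1 hq2)
        ![1, 1, 1, 1, 1, 1, 1, 1, 1] (by decide +kernel)).elim
    · exact (leaf_falseF T hm2 v M30 hM hx (by norm_num) _ _ (row_double T v 6 7 hz2 hp1 hp2) (col_double T v 6 7 hz2 hq1 hq2)
        ![1, 1, 1, 1, 1, 1, 1, 1, 1] (by decide +kernel)).elim
  have hne := ne_of_not_range v hx i
  fin_cases i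
  · rcases pair5 T (by norm_num) hm2 hne hi with
      ⟨hp, hq⟩ | ⟨hp, hq⟩ | ⟨hp, hq⟩ | ⟨hp, hq⟩ | ⟨hp, hq⟩
    · exact (leaf_falseF T hm2 v M30 hM hx (by norm_num) _ _ (row_single T v _ hz hp) (col_single T v _ hz hq)
        ![55, 47, 39, 42, 25, 39, 12, 38, 27] (by decide +kernel)).elim
    · exact (leaf_falseF T hm2 v M30 hM hx (by norm_num) _ _ (row_single T v _ hz hp) (col_single T v _ hz hq)
        ![25, 17, 15, 12, 9, 9, 4, 8, 11] (by decide +kernel)).elim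
    · exact (leaf_falseF T hm2 v M30 hM hx (by norm_num) _ _ (row_single T v _ hz hp) (col_single T v _ hz hq)
        ![25, 17, 15, 12, 9, 9, 4, 8, 23] (by decide +kernel)).elim
    · exact (leaf_falseF T hm2 v M30 hM hx (by norm_num) _ _ (row_single T v _ hz hp) (col_single T v _ hz hq)
        ![17, 10, 9, 6, 5, 4, 2, 3, 7] (by decide +kernel)).elim
    · exact (leaf_falseF T hm2 v M30 hM hx (by norm_num) _ _ (row_single T v _ hz hp) (col_single T v _ hz hq)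
        ![17, 10, 9, 6, 5, 4, 2, 3, 22] (by decide +kernel)).elim
  · rcases pair5 T (by norm_num) hm2 hne hi with
      ⟨hp, hq⟩ | ⟨hp, hq⟩ | ⟨hp, hq⟩ | ⟨hp, hq⟩ | ⟨hp, hq⟩
    · exact (leaf_falseF T hm2 v M30 hM hx (by norm_num) _ _ (row_single T v _ hz hp) (col_single T v _ hz hq)
        ![43, 59, 30, 50, 19, 46, 9, 44, 28] (by decide +kernel)).elim
    · exact (leaf_falseF T hm2 v M30 hM hx (by norm_num) _ _ (row_single T v _ hz hp) (col_single T v _ hz hq)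
        ![19, 31, 12, 21, 7, 16, 3, 15, 14] (by decide +kernel)).elim
    · exact (leaf_falseF T hm2 v M30 hM hx (by norm_num) _ _ (row_single T v _ hz hp) (col_single T v _ hz hq)
        ![19, 31, 12, 21, 7, 16, 3, 15, 28] (by decide +kernel)).elim
    · exact (leaf_falseF T hm2 v M30 hM hx (by norm_num) _ _ (row_single T v _ hz hp) (col_single T v _ hz hq)
        ![17, 32, 9, 19, 5, 12, 2, 10, 14] (by decide +kernel)).elim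
    · exact (leaf_falseF T hm2 v M30 hM hx (by norm_num) _ _ (row_single T v _ hz hp) (col_single T v _ hz hq)
        ![17, 32, 9, 19, 5, 12, 2, 10, 41] (by decide +kernel)).elim
  · rcases pair5 T (by norm_num) hm2 hne hi with
      ⟨hp, hq⟩ | ⟨hp, hq⟩ | ⟨hp, hq⟩ | ⟨hp, hq⟩ | ⟨hp, hq⟩
    · exact (leaf_falseF T hm2 v M30 hM hx (by norm_num) _ _ (row_single T v _ hz hp) (col_single T v _ hz hq)
        ![56, 50, 63, 47, 41, 45, 20, 44, 31] (by decide +kernel)).elim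
    · exact (leaf_falseF T hm2 v M30 hM hx (by norm_num) _ _ (row_single T v _ hz hp) (col_single T v _ hz hq)
        ![19, 13, 28, 10, 17, 8, 8, 7, 13] (by decide +kernel)).elim
    · exact (leaf_falseF T hm2 v M30 hM hx (by norm_num) _ _ (row_single T v _ hz hp) (col_single T v _ hz hq)
        ![19, 13, 28, 10, 17, 8, 8, 7, 26] (by decide +kernel)).elim
    · exact (leaf_falseF T hm2 v M30 hM hx (by norm_num) _ _ (row_single T v _ hz hp) (col_single T v _ hz hq)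
        ![21, 12, 38, 7, 19, 5, 8, 4, 16] (by decide +kernel)).elim
    · exact (leaf_falseF T hm2 v M30 hM hx (by norm_num) _ _ (row_single T v _ hz hp) (col_single T v _ hz hq)
        ![21, 12, 38, 7, 19, 5, 8, 4, 48] (by decide +kernel)).elim
  · rcases pair5 T (by norm_num) hm2 hne hi with
      ⟨hp, hq⟩ | ⟨hp, hq⟩ | ⟨hp, hq⟩ | ⟨hp, hq⟩ | ⟨hp, hq⟩
    · exact (leaf_falseF T hm2 v M30 hM hx (by norm_num) _ _ (row_single T v _ hz hp) (col_single T v _ hz hq)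
        ![35, 49, 24, 67, 15, 59, 7, 57, 32] (by decide +kernel)).elim
    · exact (leaf_falseF T hm2 v M30 hM hx (by norm_num) _ _ (row_single T v _ hz hp) (col_single T v _ hz hq)
        ![20, 34, 12, 55, 7, 41, 3, 36, 25] (by decide +kernel)).elim
    · exact (leaf_falseF T hm2 v M30 hM hx (by norm_num) _ _ (row_single T v _ hz hp) (col_single T v _ hz hq)
        ![20, 34, 12, 55, 7, 41, 3, 36, 49] (by decide +kernel)).elim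
    · exact (leaf_falseF T hm2 v M30 hM hx (by norm_num) _ _ (row_single T v _ hz hp) (col_single T v _ hz hq)
        ![18, 35, 10, 65, 5, 41, 2, 34, 27] (by decide +kernel)).elim
    · exact (leaf_falseF T hm2 v M30 hM hx (by norm_num) _ _ (row_single T v _ hz hp) (col_single T v _ hz hq)
        ![18, 35, 10, 65, 5, 41, 2, 34, 81] (by decide +kernel)).elim
  · rcases pair5 T (by norm_num) hm2 hne hi with
      ⟨hp, hq⟩ | ⟨hp, hq⟩ | ⟨hp, hq⟩ | ⟨hp, hq⟩ | ⟨hp, hq⟩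
    · obtain ⟨σ, hσ⟩ := leaf_final T hm2 v M30 hM hx _ _ (row_single T v _ hz hp) (col_single T v _ hz hq)
        ![7, 5, 3, 1, 0, 2, 4, 6, 8] mc5 wc5 ac5 7 0 (by decide +kernel)
      exact of_type5 T σ _ _ hσ
    · exact (leaf_falseF T hm2 v M30 hM hx (by norm_num) _ _ (row_single T v _ hz hp) (col_single T v _ hz hq)
        ![22, 16, 30, 13, 42, 11, 20, 10, 20] (by decide +kernel)).elim
    · exact (leaf_falseF T hm2 v M30 hM hx (by norm_num) _ _ (row_single T v _ hz hp) (col_single T v _ hz hq)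
        ![22, 16, 30, 13, 42, 11, 20, 10, 39] (by decide +kernel)).elim
    · exact (leaf_falseF T hm2 v M30 hM hx (by norm_num) _ _ (row_single T v _ hz hp) (col_single T v _ hz hq)
        ![18, 11, 31, 7, 54, 5, 23, 4, 23] (by decide +kernel)).elim
    · exact (leaf_falseF T hm2 v M30 hM hx (by norm_num) _ _ (row_single T v _ hz hp) (col_single T v _ hz hq)
        ![18, 11, 31, 7, 54, 5, 23, 4, 70] (by decide +kernel)).elim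
  · rcases pair5 T (by norm_num) hm2 hne hi with
      ⟨hp, hq⟩ | ⟨hp, hq⟩ | ⟨hp, hq⟩ | ⟨hp, hq⟩ | ⟨hp, hq⟩
    · exact (leaf_falseF T hm2 v M30 hM hx (by norm_num) _ _ (row_single T v _ hz hp) (col_single T v _ hz hq)
        ![32, 46, 21, 66, 13, 94, 6, 89, 44] (by decide +kernel)).elim
    · exact (leaf_falseF T hm2 v M30 hM hx (by norm_num) _ _ (row_single T v _ hz hp) (col_single T v _ hz hq)
        ![15, 27, 9, 47, 5, 81, 2, 70, 35] (by decide +kernel)).elim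
    · exact (leaf_falseF T hm2 v M30 hM hx (by norm_num) _ _ (row_single T v _ hz hp) (col_single T v _ hz hq)
        ![15, 27, 9, 47, 5, 81, 2, 70, 70] (by decide +kernel)).elim
    · exact (leaf_falseF T hm2 v M30 hM hx (by norm_num) _ _ (row_single T v _ hz hp) (col_single T v _ hz hq)
        ![21, 43, 10, 85, 5, 171, 2, 137, 68] (by decide +kernel)).elim
    · exact (leaf_falseF T hm2 v M30 hM hx (by norm_num) _ _ (row_single T v _ hz hp) (col_single T v _ hz hq)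
        ![21, 43, 10, 85, 5, 171, 2, 137, 205] (by decide +kernel)).elim
  · rcases pair5 T (by norm_num) hm2 hne hi with
      ⟨hp, hq⟩ | ⟨hp, hq⟩ | ⟨hp, hq⟩ | ⟨hp, hq⟩ | ⟨hp, hq⟩
    · exact (leaf_falseF T hm2 v M30 hM hx (by norm_num) _ _ (row_single T v _ hz hp) (col_single T v _ hz hq)
        ![-65, -72, -56, -77, -45, -80, -32, -81, -17] (by decide +kernel)).elim
    · obtain ⟨σ, hσ⟩ := leaf_final T hm2 v M30 hM hx _ _ (row_single T v _ hz hp) (col_single T v _ hz hq)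
        ![7, 5, 3, 1, 0, 2, 4, 6, 8] mc1 wc1 ac1 8 0 (by decide +kernel)
      exact of_type1 T σ _ _ hσ
    · obtain ⟨σ, hσ⟩ := leaf_final T hm2 v M30 hM hx _ _ (row_single T v _ hz hp) (col_single T v _ hz hq)
        ![7, 5, 3, 1, 0, 2, 4, 6, 8] mc2 wc2 ac2 0 0 (by decide +kernel)
      exact of_type2 T σ _ _ hσ
    · exact (leaf_falseF T hm2 v M30 hM hx (by norm_num) _ _ (row_single T v _ hz hp) (col_single T v _ hz hq)
        ![21, 16, 30, 13, 41, 11, 58, 10, 27] (by decide +kernel)).elim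
    · exact (leaf_falseF T hm2 v M30 hM hx (by norm_num) _ _ (row_single T v _ hz hp) (col_single T v _ hz hq)
        ![21, 16, 30, 13, 41, 11, 58, 10, 82] (by decide +kernel)).elim
  · rcases pair5 T (by norm_num) hm2 hne hi with
      ⟨hp, hq⟩ | ⟨hp, hq⟩ | ⟨hp, hq⟩ | ⟨hp, hq⟩ | ⟨hp, hq⟩
    · exact (leaf_falseF T hm2 v M30 hM hx (by norm_num) _ _ (row_single T v _ hz hp) (col_single T v _ hz hq)
        ![55, 73, 39, 96, 25, 124, 12, 158, 77] (by decide +kernel)).elim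
    · exact (leaf_falseF T hm2 v M30 hM hx (by norm_num) _ _ (row_single T v _ hz hp) (col_single T v _ hz hq)
        ![25, 39, 15, 61, 9, 96, 4, 149, 68] (by decide +kernel)).elim
    · exact (leaf_falseF T hm2 v M30 hM hx (by norm_num) _ _ (row_single T v _ hz hp) (col_single T v _ hz hq)
        ![25, 39, 15, 61, 9, 96, 4, 149, 135] (by decide +kernel)).elim
    · exact (leaf_falseF T hm2 v M30 hM hx (by norm_num) _ _ (row_single T v _ hz hp) (col_single T v _ hz hq)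
        ![17, 31, 9, 57, 5, 103, 2, 188, 79] (by decide +kernel)).elim
    · exact (leaf_falseF T hm2 v M30 hM hx (by norm_num) _ _ (row_single T v _ hz hp) (col_single T v _ hz hq)
        ![17, 31, 9, 57, 5, 103, 2, 188, 238] (by decide +kernel)).elim

def pc21 : Fin 7 → Fin 7 → Fin 8 → ℤ :=
  ![![![0, 0, 0, 0, 0, 0, 0, 0], ![1, 1, 0, 0, 0, 0, 0, 1], ![1, 0, 1, 0, 0, 0, 0, 1], ![1, 0, 0, 1, 0, 0, 0, 1], ![1, 1, 0, 0, 1, 0, 0, 1], ![1, 0, 1, 0, 0, 1, 0, 1], ![1, 1, 0, 0, 1, 0, 1, 1]], ![![1, 1, 0, 0, 0, 0, 0, 1], ![0, 0, 0, 0, 0, 0, 0, 0], ![1, 1, 1, 0, 0, 0, 0, 1], ![1, 1, 0, 1, 0, 0, 0, 1], ![0, 1, 0, 0, 1, 0, 0, 1], ![1, 1, 1, 0, 0, 1, 0, 1], ![0, 1, 0, 0, 1, 0, 1, 1]], ![![1, 0, 1, 0, 0, 0, 0, 1], ![1, 1, 1, 0, 0, 0, 0, 1], ![0, 0, 0, 0, 0, 0, 0, 0], ![1, 0, 1, 1, 0, 0, 0, 1], ![1, 1, 1, 0, 1, 0, 0, 1], ![0, 0, 1, 0, 0, 1, 0, 1], ![1, 1, 1, 0,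 1, 0, 1, 1]], ![![1, 0, 0, 1, 0, 0, 0, 1], ![1, 1, 0, 1, 0, 0, 0, 1], ![1, 0, 1, 1, 0, 0, 0, 1], ![0, 0, 0, 0, 0, 0, 0, 0], ![1, 1, 0, 1, 1, 0, 0, 1], ![1, 0, 1, 1, 0, 1, 0, 1], ![1, 1, 0, 1, 1, 0, 1, 1]], ![![1, 1, 0, 0, 1, 0, 0, 1], ![0, 1, 0, 0, 1, 0, 0, 1], ![1, 1, 1, 0, 1, 0, 0, 1], ![1, 1, 0, 1, 1, 0, 0, 1], ![0, 0, 0, 0, 0, 0, 0, 0], ![1, 1, 1, 0, 1, 1, 0, 1], ![0, 0, 0, 0, 1, 0, 1, 1]], ![![1, 0, 1, 0, 0, 1, 0, 1], ![1, 1, 1, 0, 0, 1, 0, 1], ![0, 0, 1, 0, 0, 1, 0, 1], ![1, 0, 1, 1, 0, 1, 0, 1], ![1, 1, 1, 0, 1, 1, 0, 1], ![0, 0, 0, 0, 0, 0, 0, 0], ![1, 1, 1, 0, 1, 1, 1, 1]], ![![1, 1, 0, 0, 1, 0, 1, 1], ![0, 1, 0, 0, 1, 0, 1, 1], ![1, 1, 1, 0, 1, 0, 1, 1], ![1, 1, 0, 1, 1, 0, 1, 1], ![0, 0, 0, 0, 1, 0, 1, 1], ![1, 1, 1, 0, 1, 1, 1, 1], ![0, 0, 0, 0, 0, 0, 0, 0]]]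

theorem st21 (T : Models.NumericalType 9) (hm2 : ∀ i, T.IsMinusTwo i)
    (v : Fin 7 ↪ Fin 9) (hM : Knows T v M21) : Result T := by
  obtain ⟨x, hx, hcase⟩ := step_unique T hm2 v M21 hM (by norm_num) (by norm_num)
    (fun _ _ => false) pc21 (by decide +kernel)
    (fun _ _ _ h => (Bool.false_ne_true h).elim)
  rcases hcase with ⟨i, hi, hz⟩ | ⟨i, l, hex, -⟩
  swap
  · exact (Bool.false_ne_true hex).elim
  have hne := ne_of_not_range v hx i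
  fin_cases i
  · rcases pair5 T (by norm_num) hm2 hne hi with
      ⟨hp, hq⟩ | ⟨hp, hq⟩ | ⟨hp, hq⟩ | ⟨hp, hq⟩ | ⟨hp, hq⟩
    · exact (leaf_falseP T hm2 v M21 hM hx _ _ (row_single T v _ hz hp) (col_single T v _ hz hq)
        ![23, 15, 14, 11, 9, 6, 4, 11] (by decide +kernel)).elim
    · exact (leaf_falseP T hm2 v M21 hM hx _ _ (row_single T v _ hz hp) (col_single T v _ hz hq)
        ![16, 9, 9, 7, 5, 4, 2, 7] (by decide +kernel)).elim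
    · exact (leaf_falseP T hm2 v M21 hM hx _ _ (row_single T v _ hz hp) (col_single T v _ hz hq)
        ![16, 9, 9, 7, 5, 4, 2, 14] (by decide +kernel)).elim
    · exact (leaf_falseP T hm2 v M21 hM hx _ _ (row_single T v _ hz hp) (col_single T v _ hz hq)
        ![22, 11, 10, 9, 5, 4, 2, 9] (by decide +kernel)).elim
    · exact (leaf_falseP T hm2 v M21 hM hx _ _ (row_single T v _ hz hp) (col_single T v _ hz hq)
        ![22, 11, 10, 9, 5, 4, 2, 26] (by decide +kernel)).elim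
  · rcases pair5 T (by norm_num) hm2 hne hi with
      ⟨hp, hq⟩ | ⟨hp, hq⟩ | ⟨hp, hq⟩ | ⟨hp, hq⟩ | ⟨hp, hq⟩
    · exact (leaf_falseP T hm2 v M21 hM hx _ _ (row_single T v _ hz hp) (col_single T v _ hz hq)
        ![24, 24, 15, 11, 15, 7, 7, 11] (by decide +kernel)).elim
    · exact (leaf_falseP T hm2 v M21 hM hx _ _ (row_single T v _ hz hp) (col_single T v _ hz hq)
        ![16, 20, 9, 7, 11, 4, 5, 9] (by decide +kernel)).elim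
    · exact (leaf_falseP T hm2 v M21 hM hx _ _ (row_single T v _ hz hp) (col_single T v _ hz hq)
        ![16, 20, 9, 7, 11, 4, 5, 18] (by decide +kernel)).elim
    · exact (leaf_falseP T hm2 v M21 hM hx _ _ (row_single T v _ hz hp) (col_single T v _ hz hq)
        ![10, 14, 5, 4, 7, 2, 3, 6] (by decide +kernel)).elim
    · exact (leaf_falseP T hm2 v M21 hM hx _ _ (row_single T v _ hz hp) (col_single T v _ hz hq)
        ![10, 14, 5, 4, 7, 2, 3, 18] (by decide +kernel)).elim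
  · rcases pair5 T (by norm_num) hm2 hne hi with
      ⟨hp, hq⟩ | ⟨hp, hq⟩ | ⟨hp, hq⟩ | ⟨hp, hq⟩ | ⟨hp, hq⟩
    · exact (leaf_falseP T hm2 v M21 hM hx _ _ (row_single T v _ hz hp) (col_single T v _ hz hq)
        ![43, 30, 39, 21, 19, 19, 9, 19] (by decide +kernel)).elim
    · exact (leaf_falseP T hm2 v M21 hM hx _ _ (row_single T v _ hz hp) (col_single T v _ hz hq)
        ![19, 12, 22, 9, 7, 10, 3, 10] (by decide +kernel)).elim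
    · exact (leaf_falseP T hm2 v M21 hM hx _ _ (row_single T v _ hz hp) (col_single T v _ hz hq)
        ![19, 12, 22, 9, 7, 10, 3, 20] (by decide +kernel)).elim
    · exact (leaf_falseP T hm2 v M21 hM hx _ _ (row_single T v _ hz hp) (col_single T v _ hz hq)
        ![17, 9, 25, 7, 5, 10, 2, 10] (by decide +kernel)).elim
    · exact (leaf_falseP T hm2 v M21 hM hx _ _ (row_single T v _ hz hp) (col_single T v _ hz hq)
        ![17, 9, 25, 7, 5, 10, 2, 31] (by decide +kernel)).elim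
  · rcases pair5 T (by norm_num) hm2 hne hi with
      ⟨hp, hq⟩ | ⟨hp, hq⟩ | ⟨hp, hq⟩ | ⟨hp, hq⟩ | ⟨hp, hq⟩
    · exact (leaf_falseP T hm2 v M21 hM hx _ _ (row_single T v _ hz hp) (col_single T v _ hz hq)
        ![94, 69, 61, 61, 45, 30, 22, 30] (by decide +kernel)).elim
    · exact (leaf_falseP T hm2 v M21 hM hx _ _ (row_single T v _ hz hp) (col_single T v _ hz hq)
        ![32, 21, 19, 27, 13, 9, 6, 13] (by decide +kernel)).elim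
    · exact (leaf_falseP T hm2 v M21 hM hx _ _ (row_single T v _ hz hp) (col_single T v _ hz hq)
        ![32, 21, 19, 27, 13, 9, 6, 25] (by decide +kernel)).elim
    · exact (leaf_falseP T hm2 v M21 hM hx _ _ (row_single T v _ hz hp) (col_single T v _ hz hq)
        ![21, 12, 11, 23, 7, 5, 3, 10] (by decide +kernel)).elim
    · exact (leaf_falseP T hm2 v M21 hM hx _ _ (row_single T v _ hz hp) (col_single T v _ hz hq)
        ![21, 12, 11, 23, 7, 5, 3, 30] (by decide +kernel)).elim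
  · rcases pair5 T (by norm_num) hm2 hne hi with
      ⟨hp, hq⟩ | ⟨hp, hq⟩ | ⟨hp, hq⟩ | ⟨hp, hq⟩ | ⟨hp, hq⟩
    · exact (leaf_falseP T hm2 v M21 hM hx _ _ (row_single T v _ hz hp) (col_single T v _ hz hq)
        ![48, 43, 31, 23, 41, 15, 20, 20] (by decide +kernel)).elim
    · exact (leaf_falseP T hm2 v M21 hM hx _ _ (row_single T v _ hz hp) (col_single T v _ hz hq)
        ![15, 17, 9, 7, 21, 4, 10, 10] (by decide +kernel)).elim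
    · exact (leaf_falseP T hm2 v M21 hM hx _ _ (row_single T v _ hz hp) (col_single T v _ hz hq)
        ![15, 17, 9, 7, 21, 4, 10, 20] (by decide +kernel)).elim
    · exact (leaf_falseP T hm2 v M21 hM hx _ _ (row_single T v _ hz hp) (col_single T v _ hz hq)
        ![9, 12, 5, 4, 20, 2, 8, 8] (by decide +kernel)).elim
    · exact (leaf_falseP T hm2 v M21 hM hx _ _ (row_single T v _ hz hp) (col_single T v _ hz hq)
        ![9, 12, 5, 4, 20, 2, 8, 25] (by decide +kernel)).elim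
  · rcases pair5 T (by norm_num) hm2 hne hi with
      ⟨hp, hq⟩ | ⟨hp, hq⟩ | ⟨hp, hq⟩ | ⟨hp, hq⟩ | ⟨hp, hq⟩
    · exact (leaf_falseP T hm2 v M21 hM hx _ _ (row_single T v _ hz hp) (col_single T v _ hz hq)
        ![4, 3, 3, 2, 2, 2, 1, 1] (by decide +kernel)).elim
    · exact (leaf_falseP T hm2 v M21 hM hx _ _ (row_single T v _ hz hp) (col_single T v _ hz hq)
        ![51, 36, 45, 25, 23, 41, 11, 20] (by decide +kernel)).elim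
    · exact (leaf_falseP T hm2 v M21 hM hx _ _ (row_single T v _ hz hp) (col_single T v _ hz hq)
        ![51, 36, 45, 25, 23, 41, 11, 40] (by decide +kernel)).elim
    · exact (leaf_falseP T hm2 v M21 hM hx _ _ (row_single T v _ hz hp) (col_single T v _ hz hq)
        ![24, 15, 26, 11, 9, 32, 4, 15] (by decide +kernel)).elim
    · exact (leaf_falseP T hm2 v M21 hM hx _ _ (row_single T v _ hz hp) (col_single T v _ hz hq)
        ![24, 15, 26, 11, 9, 32, 4, 45] (by decide +kernel)).elim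
  · rcases pair5 T (by norm_num) hm2 hne hi with
      ⟨hp, hq⟩ | ⟨hp, hq⟩ | ⟨hp, hq⟩ | ⟨hp, hq⟩ | ⟨hp, hq⟩
    · exact leaf_next T hm2 v M21 hM hx _ _ (row_single T v _ hz hp) (col_single T v _ hz hq)
        ![0, 1, 2, 3, 4, 5, 6, 7] M26 (by decide +kernel) (st26 T hm2)
    · exact (leaf_falseP T hm2 v M21 hM hx _ _ (row_single T v _ hz hp) (col_single T v _ hz hq)
        ![60, 54, 39, 29, 49, 19, 47, 23] (by decide +kernel)).elim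
    · exact (leaf_falseP T hm2 v M21 hM hx _ _ (row_single T v _ hz hp) (col_single T v _ hz hq)
        ![60, 54, 39, 29, 49, 19, 47, 46] (by decide +kernel)).elim
    · exact (leaf_falseP T hm2 v M21 hM hx _ _ (row_single T v _ hz hp) (col_single T v _ hz hq)
        ![18, 20, 11, 8, 24, 5, 32, 15] (by decide +kernel)).elim
    · exact (leaf_falseP T hm2 v M21 hM hx _ _ (row_single T v _ hz hp) (col_single T v _ hz hq)
        ![18, 20, 11, 8, 24, 5, 32, 45] (by decide +kernel)).elim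

def pc22 : Fin 7 → Fin 7 → Fin 8 → ℤ :=
  ![![![0, 0, 0, 0, 0, 0, 0, 0], ![1, 1, 0, 0, 0, 0, 0, 1], ![1, 0, 1, 0, 0, 0, 0, 1], ![1, 0, 0, 1, 0, 0, 0, 1], ![1, 1, 0, 0, 1, 0, 0, 1], ![1, 1, 0, 0, 1, 1, 0, 1], ![1, 1, 0, 0, 1, 1, 1, 1]], ![![1, 1, 0, 0, 0, 0, 0, 1], ![0, 0, 0, 0, 0, 0, 0, 0], ![1, 1, 1, 0, 0, 0, 0, 1], ![1, 1, 0, 1, 0, 0, 0, 1], ![0, 1, 0, 0, 1, 0, 0, 1], ![0, 1, 0, 0, 1, 1, 0, 1], ![0, 1, 0, 0, 1, 1, 1, 1]], ![![1, 0, 1, 0, 0, 0, 0, 1], ![1, 1, 1, 0, 0, 0, 0, 1], ![0, 0, 0, 0, 0, 0, 0, 0], ![1, 0, 1, 1, 0, 0, 0, 1], ![1, 1, 1, 0, 1, 0, 0, 1], ![1, 1, 1, 0, 1, 1, 0, 1], ![1, 1, 1, 0, 1, 1, 1, 1]], ![![1, 0, 0, 1, 0, 0, 0, 1], ![1, 1, 0, 1, 0, 0, 0, 1], ![1, 0, 1, 1, 0, 0, 0, 1], ![0, 0, 0, 0, 0, 0, 0, 0], ![1, 1, 0, 1, 1, 0, 0, 1], ![1, 1, 0, 1, 1, 1, 0, 1], ![1, 1, 0, 1, 1, 1, 1, 1]], ![![1, 1, 0, 0, 1, 0, 0, 1], ![0, 1, 0, 0, 1, 0,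 0, 1], ![1, 1, 1, 0, 1, 0, 0, 1], ![1, 1, 0, 1, 1, 0, 0, 1], ![0, 0, 0, 0, 0, 0, 0, 0], ![0, 0, 0, 0, 1, 1, 0, 1], ![0, 0, 0, 0, 1, 1, 1, 1]], ![![1, 1, 0, 0, 1, 1, 0, 1], ![0, 1, 0, 0, 1, 1, 0, 1], ![1, 1, 1, 0, 1, 1, 0, 1], ![1, 1, 0, 1, 1, 1, 0, 1], ![0, 0, 0, 0, 1, 1, 0, 1], ![0, 0, 0, 0, 0, 0, 0, 0], ![0, 0, 0, 0, 0, 1, 1, 1]], ![![1, 1, 0, 0, 1, 1, 1, 1], ![0, 1, 0, 0, 1, 1, 1, 1], ![1, 1, 1, 0, 1, 1, 1, 1], ![1, 1, 0, 1, 1, 1, 1, 1], ![0, 0, 0, 0, 1, 1, 1, 1], ![0, 0, 0, 0, 0, 1, 1, 1], ![0, 0, 0, 0, 0, 0, 0, 0]]]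

theorem st22 (T : Models.NumericalType 9) (hm2 : ∀ i, T.IsMinusTwo i)
    (v : Fin 7 ↪ Fin 9) (hM : Knows T v M22) : Result T := by
  obtain ⟨x, hx, hcase⟩ := step_unique T hm2 v M22 hM (by norm_num) (by norm_num)
    (fun _ _ => false) pc22 (by decide +kernel)
    (fun _ _ _ h => (Bool.false_ne_true h).elim)
  rcases hcase with ⟨i, hi, hz⟩ | ⟨i, l, hex, -⟩
  swap
  · exact (Bool.false_ne_true hex).elim
  have hne := ne_of_not_range v hx i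
  fin_cases i
  · rcases pair5 T (by norm_num) hm2 hne hi with
      ⟨hp, hq⟩ | ⟨hp, hq⟩ | ⟨hp, hq⟩ | ⟨hp, hq⟩ | ⟨hp, hq⟩
    · exact (leaf_falseP T hm2 v M22 hM hx _ _ (row_single T v _ hz hp) (col_single T v _ hz hq)
        ![45, 31, 21, 21, 21, 13, 6, 21] (by decide +kernel)).elim
    · exact (leaf_falseP T hm2 v M22 hM hx _ _ (row_single T v _ hz hp) (col_single T v _ hz hq)
        ![27, 15, 12, 12, 9, 5, 2, 12] (by decide +kernel)).elim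
    · exact (leaf_falseP T hm2 v M22 hM hx _ _ (row_single T v _ hz hp) (col_single T v _ hz hq)
        ![27, 15, 12, 12, 9, 5, 2, 23] (by decide +kernel)).elim
    · exact (leaf_falseP T hm2 v M22 hM hx _ _ (row_single T v _ hz hp) (col_single T v _ hz hq)
        ![43, 21, 17, 17, 10, 5, 2, 17] (by decide +kernel)).elim
    · exact (leaf_falseP T hm2 v M22 hM hx _ _ (row_single T v _ hz hp) (col_single T v _ hz hq)
        ![43, 21, 17, 17, 10, 5, 2, 51] (by decide +kernel)).elim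
  · rcases pair5 T (by norm_num) hm2 hne hi with
      ⟨hp, hq⟩ | ⟨hp, hq⟩ | ⟨hp, hq⟩ | ⟨hp, hq⟩ | ⟨hp, hq⟩
    · exact (leaf_falseP T hm2 v M22 hM hx _ _ (row_single T v _ hz hp) (col_single T v _ hz hq)
        ![39, 43, 19, 19, 30, 19, 9, 21] (by decide +kernel)).elim
    · exact (leaf_falseP T hm2 v M22 hM hx _ _ (row_single T v _ hz hp) (col_single T v _ hz hq)
        ![15, 20, 7, 7, 12, 7, 3, 9] (by decide +kernel)).elim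
    · exact (leaf_falseP T hm2 v M22 hM hx _ _ (row_single T v _ hz hp) (col_single T v _ hz hq)
        ![15, 20, 7, 7, 12, 7, 3, 18] (by decide +kernel)).elim
    · exact (leaf_falseP T hm2 v M22 hM hx _ _ (row_single T v _ hz hp) (col_single T v _ hz hq)
        ![12, 18, 5, 5, 10, 5, 2, 8] (by decide +kernel)).elim
    · exact (leaf_falseP T hm2 v M22 hM hx _ _ (row_single T v _ hz hp) (col_single T v _ hz hq)
        ![12, 18, 5, 5, 10, 5, 2, 23] (by decide +kernel)).elim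
  · rcases pair5 T (by norm_num) hm2 hne hi with
      ⟨hp, hq⟩ | ⟨hp, hq⟩ | ⟨hp, hq⟩ | ⟨hp, hq⟩ | ⟨hp, hq⟩
    · exact leaf_next T hm2 v M22 hM hx _ _ (row_single T v _ hz hp) (col_single T v _ hz hq)
        ![0, 1, 2, 3, 4, 7, 5, 6] M26 (by decide +kernel) (st26 T hm2)
    · exact (leaf_falseP T hm2 v M22 hM hx _ _ (row_single T v _ hz hp) (col_single T v _ hz hq)
        ![55, 39, 49, 26, 27, 17, 8, 23] (by decide +kernel)).elim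
    · exact (leaf_falseP T hm2 v M22 hM hx _ _ (row_single T v _ hz hp) (col_single T v _ hz hq)
        ![55, 39, 49, 26, 27, 17, 8, 47] (by decide +kernel)).elim
    · exact (leaf_falseP T hm2 v M22 hM hx _ _ (row_single T v _ hz hp) (col_single T v _ hz hq)
        ![32, 20, 36, 14, 12, 7, 3, 16] (by decide +kernel)).elim
    · exact (leaf_falseP T hm2 v M22 hM hx _ _ (row_single T v _ hz hp) (col_single T v _ hz hq)
        ![32, 20, 36, 14, 12, 7, 3, 49] (by decide +kernel)).elim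
  · rcases pair5 T (by norm_num) hm2 hne hi with
      ⟨hp, hq⟩ | ⟨hp, hq⟩ | ⟨hp, hq⟩ | ⟨hp, hq⟩ | ⟨hp, hq⟩
    · exact leaf_next T hm2 v M22 hM hx _ _ (row_single T v _ hz hp) (col_single T v _ hz hq)
        ![0, 1, 3, 2, 4, 7, 5, 6] M26 (by decide +kernel) (st26 T hm2)
    · exact (leaf_falseP T hm2 v M22 hM hx _ _ (row_single T v _ hz hp) (col_single T v _ hz hq)
        ![55, 39, 26, 49, 27, 17, 8, 23] (by decide +kernel)).elim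
    · exact (leaf_falseP T hm2 v M22 hM hx _ _ (row_single T v _ hz hp) (col_single T v _ hz hq)
        ![55, 39, 26, 49, 27, 17, 8, 47] (by decide +kernel)).elim
    · exact (leaf_falseP T hm2 v M22 hM hx _ _ (row_single T v _ hz hp) (col_single T v _ hz hq)
        ![32, 20, 14, 36, 12, 7, 3, 16] (by decide +kernel)).elim
    · exact (leaf_falseP T hm2 v M22 hM hx _ _ (row_single T v _ hz hp) (col_single T v _ hz hq)
        ![32, 20, 14, 36, 12, 7, 3, 49] (by decide +kernel)).elim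
  · rcases pair5 T (by norm_num) hm2 hne hi with
      ⟨hp, hq⟩ | ⟨hp, hq⟩ | ⟨hp, hq⟩ | ⟨hp, hq⟩ | ⟨hp, hq⟩
    · exact (leaf_falseP T hm2 v M22 hM hx _ _ (row_single T v _ hz hp) (col_single T v _ hz hq)
        ![41, 43, 20, 20, 48, 31, 15, 23] (by decide +kernel)).elim
    · exact (leaf_falseP T hm2 v M22 hM hx _ _ (row_single T v _ hz hp) (col_single T v _ hz hq)
        ![9, 11, 4, 4, 16, 9, 4, 7] (by decide +kernel)).elim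
    · exact (leaf_falseP T hm2 v M22 hM hx _ _ (row_single T v _ hz hp) (col_single T v _ hz hq)
        ![9, 11, 4, 4, 16, 9, 4, 15] (by decide +kernel)).elim
    · exact (leaf_falseP T hm2 v M22 hM hx _ _ (row_single T v _ hz hp) (col_single T v _ hz hq)
        ![7, 11, 3, 3, 18, 10, 4, 8] (by decide +kernel)).elim
    · exact (leaf_falseP T hm2 v M22 hM hx _ _ (row_single T v _ hz hp) (col_single T v _ hz hq)
        ![7, 11, 3, 3, 18, 10, 4, 23] (by decide +kernel)).elim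
  · rcases pair5 T (by norm_num) hm2 hne hi with
      ⟨hp, hq⟩ | ⟨hp, hq⟩ | ⟨hp, hq⟩ | ⟨hp, hq⟩ | ⟨hp, hq⟩
    · exact (leaf_falseP T hm2 v M22 hM hx _ _ (row_single T v _ hz hp) (col_single T v _ hz hq)
        ![2, 2, 1, 1, 2, 2, 1, 1] (by decide +kernel)).elim
    · exact (leaf_falseP T hm2 v M22 hM hx _ _ (row_single T v _ hz hp) (col_single T v _ hz hq)
        ![11, 13, 5, 5, 17, 23, 11, 11] (by decide +kernel)).elim
    · exact (leaf_falseP T hm2 v M22 hM hx _ _ (row_single T v _ hz hp) (col_single T v _ hz hq)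
        ![11, 13, 5, 5, 17, 23, 11, 21] (by decide +kernel)).elim
    · exact (leaf_falseP T hm2 v M22 hM hx _ _ (row_single T v _ hz hp) (col_single T v _ hz hq)
        ![5, 7, 2, 2, 11, 19, 8, 8] (by decide +kernel)).elim
    · exact (leaf_falseP T hm2 v M22 hM hx _ _ (row_single T v _ hz hp) (col_single T v _ hz hq)
        ![5, 7, 2, 2, 11, 19, 8, 24] (by decide +kernel)).elim
  · rcases pair5 T (by norm_num) hm2 hne hi with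
      ⟨hp, hq⟩ | ⟨hp, hq⟩ | ⟨hp, hq⟩ | ⟨hp, hq⟩ | ⟨hp, hq⟩
    · exact leaf_next T hm2 v M22 hM hx _ _ (row_single T v _ hz hp) (col_single T v _ hz hq)
        ![0, 1, 2, 3, 4, 5, 6, 7] M27 (by decide +kernel) (st27 T hm2)
    · exact (leaf_falseP T hm2 v M22 hM hx _ _ (row_single T v _ hz hp) (col_single T v _ hz hq)
        ![2, 2, 1, 1, 2, 2, 2, 1] (by decide +kernel)).elim
    · exact (leaf_falseP T hm2 v M22 hM hx _ _ (row_single T v _ hz hp) (col_single T v _ hz hq)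
        ![2, 2, 1, 1, 2, 2, 2, 2] (by decide +kernel)).elim
    · exact (leaf_falseP T hm2 v M22 hM hx _ _ (row_single T v _ hz hp) (col_single T v _ hz hq)
        ![11, 13, 5, 5, 16, 22, 31, 14] (by decide +kernel)).elim
    · exact (leaf_falseP T hm2 v M22 hM hx _ _ (row_single T v _ hz hp) (col_single T v _ hz hq)
        ![11, 13, 5, 5, 16, 22, 31, 43] (by decide +kernel)).elim

def pc23 : Fin 7 → Fin 7 → Fin 8 → ℤ :=
  ![![![0, 0, 0, 0, 0, 0, 0, 0], ![1, 1, 0, 0, 0, 0, 0, 1], ![1, 0, 1, 0, 0, 0, 0, 1], ![1, 1, 0, 1, 0, 0, 0, 1], ![1, 0, 1, 0, 1, 0, 0, 1], ![1, 1, 0, 1, 0, 1, 0, 1], ![1, 0, 1, 0, 1, 0, 1, 1]], ![![1, 1, 0, 0, 0, 0, 0, 1], ![0, 0, 0, 0, 0, 0, 0, 0], ![1, 1, 1, 0, 0, 0, 0, 1], ![0, 1, 0, 1, 0, 0, 0, 1], ![1, 1, 1, 0, 1, 0, 0, 1], ![0, 1, 0, 1, 0, 1, 0, 1], ![1, 1, 1, 0, 1, 0, 1, 1]], ![![1, 0, 1, 0, 0, 0, 0, 1], ![1, 1, 1, 0, 0,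 0, 0, 1], ![0, 0, 0, 0, 0, 0, 0, 0], ![1, 1, 1, 1, 0, 0, 0, 1], ![0, 0, 1, 0, 1, 0, 0, 1], ![1, 1, 1, 1, 0, 1, 0, 1], ![0, 0, 1, 0, 1, 0, 1, 1]], ![![1, 1, 0, 1, 0, 0, 0, 1], ![0, 1, 0, 1, 0, 0, 0, 1], ![1, 1, 1, 1, 0, 0, 0, 1], ![0, 0, 0, 0, 0, 0, 0, 0], ![1, 1, 1, 1, 1, 0, 0, 1], ![0, 0, 0, 1, 0, 1, 0, 1], ![1, 1, 1, 1, 1, 0, 1, 1]], ![![1, 0, 1, 0, 1, 0, 0, 1], ![1, 1, 1, 0, 1, 0, 0, 1], ![0, 0, 1, 0, 1, 0, 0, 1], ![1, 1, 1, 1, 1, 0, 0, 1], ![0, 0, 0, 0, 0, 0, 0, 0], ![1, 1, 1, 1, 1, 1, 0, 1], ![0, 0, 0, 0, 1, 0, 1, 1]], ![![1, 1, 0, 1, 0, 1, 0, 1], ![0, 1, 0, 1, 0, 1, 0, 1], ![1, 1, 1, 1, 0, 1, 0, 1], ![0, 0, 0, 1, 0, 1, 0, 1], ![1, 1, 1, 1, 1, 1, 0, 1], ![0, 0, 0, 0, 0, 0, 0, 0], ![1, 1, 1, 1, 1, 1, 1, 1]], ![![1, 0, 1, 0, 1, 0, 1, 1], ![1, 1, 1, 0, 1, 0, 1, 1], ![0, 0, 1, 0, 1, 0, 1, 1], ![1, 1, 1, 1, 1, 0, 1, 1], ![0, 0, 0, 0, 1, 0, 1, 1], ![1,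 1, 1, 1, 1, 1, 1, 1], ![0, 0, 0, 0, 0, 0, 0, 0]]]

theorem st23 (T : Models.NumericalType 9) (hm2 : ∀ i, T.IsMinusTwo i)
    (v : Fin 7 ↪ Fin 9) (hM : Knows T v M23) : Result T := by
  obtain ⟨x, hx, hcase⟩ := step_unique T hm2 v M23 hM (by norm_num) (by norm_num)
    (fun _ _ => false) pc23 (by decide +kernel)
    (fun _ _ _ h => (Bool.false_ne_true h).elim)
  rcases hcase with ⟨i, hi, hz⟩ | ⟨i, l, hex, -⟩
  swap
  · exact (Bool.false_ne_true hex).elim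
  have hne := ne_of_not_range v hx i
  fin_cases i
  · rcases pair5 T (by norm_num) hm2 hne hi with
      ⟨hp, hq⟩ | ⟨hp, hq⟩ | ⟨hp, hq⟩ | ⟨hp, hq⟩ | ⟨hp, hq⟩
    · exact (leaf_falseP T hm2 v M23 hM hx _ _ (row_single T v _ hz hp) (col_single T v _ hz hq)
        ![4, 3, 3, 2, 2, 1, 1, 2] (by decide +kernel)).elim
    · exact (leaf_falseP T hm2 v M23 hM hx _ _ (row_single T v _ hz hp) (col_single T v _ hz hq)
        ![24, 15, 15, 9, 9, 4, 4, 11] (by decide +kernel)).elim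
    · exact (leaf_falseP T hm2 v M23 hM hx _ _ (row_single T v _ hz hp) (col_single T v _ hz hq)
        ![24, 15, 15, 9, 9, 4, 4, 22] (by decide +kernel)).elim
    · exact (leaf_falseP T hm2 v M23 hM hx _ _ (row_single T v _ hz hp) (col_single T v _ hz hq)
        ![17, 9, 9, 5, 5, 2, 2, 7] (by decide +kernel)).elim
    · exact (leaf_falseP T hm2 v M23 hM hx _ _ (row_single T v _ hz hp) (col_single T v _ hz hq)
        ![17, 9, 9, 5, 5, 2, 2, 21] (by decide +kernel)).elim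
  · rcases pair5 T (by norm_num) hm2 hne hi with
      ⟨hp, hq⟩ | ⟨hp, hq⟩ | ⟨hp, hq⟩ | ⟨hp, hq⟩ | ⟨hp, hq⟩
    · exact leaf_next T hm2 v M23 hM hx _ _ (row_single T v _ hz hp) (col_single T v _ hz hq)
        ![1, 0, 3, 7, 2, 5, 4, 6] M26 (by decide +kernel) (st26 T hm2)
    · exact (leaf_falseP T hm2 v M23 hM hx _ _ (row_single T v _ hz hp) (col_single T v _ hz hq)
        ![23, 36, 15, 21, 9, 10, 4, 16] (by decide +kernel)).elim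
    · exact (leaf_falseP T hm2 v M23 hM hx _ _ (row_single T v _ hz hp) (col_single T v _ hz hq)
        ![23, 36, 15, 21, 9, 10, 4, 33] (by decide +kernel)).elim
    · exact (leaf_falseP T hm2 v M23 hM hx _ _ (row_single T v _ hz hp) (col_single T v _ hz hq)
        ![17, 30, 9, 16, 5, 7, 2, 13] (by decide +kernel)).elim
    · exact (leaf_falseP T hm2 v M23 hM hx _ _ (row_single T v _ hz hp) (col_single T v _ hz hq)
        ![17, 30, 9, 16, 5, 7, 2, 38] (by decide +kernel)).elim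
  · rcases pair5 T (by norm_num) hm2 hne hi with
      ⟨hp, hq⟩ | ⟨hp, hq⟩ | ⟨hp, hq⟩ | ⟨hp, hq⟩ | ⟨hp, hq⟩
    · exact leaf_next T hm2 v M23 hM hx _ _ (row_single T v _ hz hp) (col_single T v _ hz hq)
        ![2, 0, 4, 7, 1, 6, 3, 5] M26 (by decide +kernel) (st26 T hm2)
    · exact (leaf_falseP T hm2 v M23 hM hx _ _ (row_single T v _ hz hp) (col_single T v _ hz hq)
        ![23, 15, 36, 9, 21, 4, 10, 16] (by decide +kernel)).elim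
    · exact (leaf_falseP T hm2 v M23 hM hx _ _ (row_single T v _ hz hp) (col_single T v _ hz hq)
        ![23, 15, 36, 9, 21, 4, 10, 33] (by decide +kernel)).elim
    · exact (leaf_falseP T hm2 v M23 hM hx _ _ (row_single T v _ hz hp) (col_single T v _ hz hq)
        ![17, 9, 30, 5, 16, 2, 7, 13] (by decide +kernel)).elim
    · exact (leaf_falseP T hm2 v M23 hM hx _ _ (row_single T v _ hz hp) (col_single T v _ hz hq)
        ![17, 9, 30, 5, 16, 2, 7, 38] (by decide +kernel)).elim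
  · rcases pair5 T (by norm_num) hm2 hne hi with
      ⟨hp, hq⟩ | ⟨hp, hq⟩ | ⟨hp, hq⟩ | ⟨hp, hq⟩ | ⟨hp, hq⟩
    · exact leaf_next T hm2 v M23 hM hx _ _ (row_single T v _ hz hp) (col_single T v _ hz hq)
        ![3, 1, 5, 7, 0, 2, 4, 6] M27 (by decide +kernel) (st27 T hm2)
    · exact (leaf_falseP T hm2 v M23 hM hx _ _ (row_single T v _ hz hp) (col_single T v _ hz hq)
        ![32, 46, 21, 65, 13, 31, 6, 31] (by decide +kernel)).elim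
    · exact (leaf_falseP T hm2 v M23 hM hx _ _ (row_single T v _ hz hp) (col_single T v _ hz hq)
        ![32, 46, 21, 65, 13, 31, 6, 62] (by decide +kernel)).elim
    · exact (leaf_falseP T hm2 v M23 hM hx _ _ (row_single T v _ hz hp) (col_single T v _ hz hq)
        ![15, 27, 9, 47, 5, 20, 2, 20] (by decide +kernel)).elim
    · exact (leaf_falseP T hm2 v M23 hM hx _ _ (row_single T v _ hz hp) (col_single T v _ hz hq)
        ![15, 27, 9, 47, 5, 20, 2, 61] (by decide +kernel)).elim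
  · rcases pair5 T (by norm_num) hm2 hne hi with
      ⟨hp, hq⟩ | ⟨hp, hq⟩ | ⟨hp, hq⟩ | ⟨hp, hq⟩ | ⟨hp, hq⟩
    · exact leaf_next T hm2 v M23 hM hx _ _ (row_single T v _ hz hp) (col_single T v _ hz hq)
        ![4, 2, 6, 7, 0, 1, 3, 5] M27 (by decide +kernel) (st27 T hm2)
    · exact (leaf_falseP T hm2 v M23 hM hx _ _ (row_single T v _ hz hp) (col_single T v _ hz hq)
        ![32, 21, 46, 13, 65, 6, 31, 31] (by decide +kernel)).elim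
    · exact (leaf_falseP T hm2 v M23 hM hx _ _ (row_single T v _ hz hp) (col_single T v _ hz hq)
        ![32, 21, 46, 13, 65, 6, 31, 62] (by decide +kernel)).elim
    · exact (leaf_falseP T hm2 v M23 hM hx _ _ (row_single T v _ hz hp) (col_single T v _ hz hq)
        ![15, 9, 27, 5, 47, 2, 20, 20] (by decide +kernel)).elim
    · exact (leaf_falseP T hm2 v M23 hM hx _ _ (row_single T v _ hz hp) (col_single T v _ hz hq)
        ![15, 9, 27, 5, 47, 2, 20, 61] (by decide +kernel)).elim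
  · rcases pair5 T (by norm_num) hm2 hne hi with
      ⟨hp, hq⟩ | ⟨hp, hq⟩ | ⟨hp, hq⟩ | ⟨hp, hq⟩ | ⟨hp, hq⟩
    · exact leaf_next T hm2 v M23 hM hx _ _ (row_single T v _ hz hp) (col_single T v _ hz hq)
        ![0, 1, 2, 3, 4, 5, 6, 7] M28 (by decide +kernel) (st28 T hm2)
    · exact leaf_next T hm2 v M23 hM hx _ _ (row_single T v _ hz hp) (col_single T v _ hz hq)
        ![0, 1, 2, 3, 4, 5, 6, 7] M29 (by decide +kernel) (st29 T hm2)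
    · exact leaf_next T hm2 v M23 hM hx _ _ (row_single T v _ hz hp) (col_single T v _ hz hq)
        ![0, 1, 2, 3, 4, 5, 6, 7] M30 (by decide +kernel) (st30 T hm2)
    · exact (leaf_falseP T hm2 v M23 hM hx _ _ (row_single T v _ hz hp) (col_single T v _ hz hq)
        ![32, 46, 21, 66, 13, 94, 6, 44] (by decide +kernel)).elim
    · exact (leaf_falseP T hm2 v M23 hM hx _ _ (row_single T v _ hz hp) (col_single T v _ hz hq)
        ![32, 46, 21, 66, 13, 94, 6, 133] (by decide +kernel)).elim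
  · rcases pair5 T (by norm_num) hm2 hne hi with
      ⟨hp, hq⟩ | ⟨hp, hq⟩ | ⟨hp, hq⟩ | ⟨hp, hq⟩ | ⟨hp, hq⟩
    · exact leaf_next T hm2 v M23 hM hx _ _ (row_single T v _ hz hp) (col_single T v _ hz hq)
        ![0, 2, 1, 4, 3, 6, 5, 7] M28 (by decide +kernel) (st28 T hm2)
    · exact leaf_next T hm2 v M23 hM hx _ _ (row_single T v _ hz hp) (col_single T v _ hz hq)
        ![0, 2, 1, 4, 3, 6, 5, 7] M29 (by decide +kernel) (st29 T hm2)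
    · exact leaf_next T hm2 v M23 hM hx _ _ (row_single T v _ hz hp) (col_single T v _ hz hq)
        ![0, 2, 1, 4, 3, 6, 5, 7] M30 (by decide +kernel) (st30 T hm2)
    · exact (leaf_falseP T hm2 v M23 hM hx _ _ (row_single T v _ hz hp) (col_single T v _ hz hq)
        ![32, 21, 46, 13, 66, 6, 94, 44] (by decide +kernel)).elim
    · exact (leaf_falseP T hm2 v M23 hM hx _ _ (row_single T v _ hz hp) (col_single T v _ hz hq)
        ![32, 21, 46, 13, 66, 6, 94, 133] (by decide +kernel)).elim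

def pc24 : Fin 7 → Fin 7 → Fin 8 → ℤ :=
  ![![![0, 0, 0, 0, 0, 0, 0, 0], ![1, 1, 0, 0, 0, 0, 0, 1], ![1, 0, 1, 0, 0, 0, 0, 1], ![1, 1, 0, 1, 0, 0, 0, 1], ![1, 0, 1, 0, 1, 0, 0, 1], ![1, 1, 0, 1, 0, 1, 0, 1], ![1, 0, 1, 0, 1, 0, 1, 1]], ![![1, 1, 0, 0, 0, 0, 0, 1], ![0, 0, 0, 0, 0, 0, 0, 0], ![1, 1, 1, 0, 0, 0, 0, 1], ![0, 1, 0, 1, 0, 0, 0, 1], ![1, 1, 1, 0, 1, 0, 0, 1], ![0, 1, 0, 1, 0, 1, 0, 1], ![1, 1, 1, 0, 1, 0, 1, 1]], ![![1, 0, 1, 0, 0, 0, 0, 1], ![1, 1, 1, 0, 0, 0, 0, 1], ![0, 0, 0, 0, 0, 0, 0, 0], ![1, 1, 1, 1, 0, 0, 0, 1], ![0, 0, 1, 0, 1, 0, 0, 1], ![1, 1, 1, 1, 0, 1, 0, 1], ![0, 0, 1, 0, 1, 0, 1, 1]], ![![1, 1, 0, 1, 0, 0, 0, 1], ![0, 1, 0, 1, 0, 0, 0, 1], ![1, 1, 1, 1, 0, 0, 0, 1], ![0, 0, 0, 0, 0, 0, 0, 0], ![1, 1, 1, 1, 1, 0, 0, 1], ![0, 0, 0, 1, 0, 1, 0, 1], ![1, 1, 1, 1, 1, 0, 1, 1]], ![![1, 0, 1, 0, 1, 0, 0, 1], ![1, 1, 1, 0, 1, 0,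 0, 1], ![0, 0, 1, 0, 1, 0, 0, 1], ![1, 1, 1, 1, 1, 0, 0, 1], ![0, 0, 0, 0, 0, 0, 0, 0], ![1, 1, 1, 1, 1, 1, 0, 1], ![0, 0, 0, 0, 1, 0, 1, 1]], ![![1, 1, 0, 1, 0, 1, 0, 1], ![0, 1, 0, 1, 0, 1, 0, 1], ![1, 1, 1, 1, 0, 1, 0, 1], ![0, 0, 0, 1, 0, 1, 0, 1], ![1, 1, 1, 1, 1, 1, 0, 1], ![0, 0, 0, 0, 0, 0, 0, 0], ![1, 1, 1, 1, 1, 1, 1, 1]], ![![1, 0, 1, 0, 1, 0, 1, 1], ![1, 1, 1, 0, 1, 0, 1, 1], ![0, 0, 1, 0, 1, 0, 1, 1], ![1, 1, 1, 1, 1, 0, 1, 1], ![0, 0, 0, 0, 1, 0, 1, 1], ![1, 1, 1, 1, 1, 1, 1, 1], ![0, 0, 0, 0, 0, 0, 0, 0]]]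

theorem st24 (T : Models.NumericalType 9) (hm2 : ∀ i, T.IsMinusTwo i)
    (v : Fin 7 ↪ Fin 9) (hM : Knows T v M24) : Result T := by
  obtain ⟨x, hx, hcase⟩ := step_unique T hm2 v M24 hM (by norm_num) (by norm_num)
    (fun _ _ => false) pc24 (by decide +kernel)
    (fun _ _ _ h => (Bool.false_ne_true h).elim)
  rcases hcase with ⟨i, hi, hz⟩ | ⟨i, l, hex, -⟩
  swap
  · exact (Bool.false_ne_true hex).elim
  have hne := ne_of_not_range v hx i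
  fin_cases i
  · rcases pair5 T (by norm_num) hm2 hne hi with
      ⟨hp, hq⟩ | ⟨hp, hq⟩ | ⟨hp, hq⟩ | ⟨hp, hq⟩ | ⟨hp, hq⟩
    · exact (leaf_falseP T hm2 v M24 hM hx _ _ (row_single T v _ hz hp) (col_single T v _ hz hq)
        ![51, 36, 45, 23, 41, 11, 20, 25] (by decide +kernel)).elim
    · exact (leaf_falseP T hm2 v M24 hM hx _ _ (row_single T v _ hz hp) (col_single T v _ hz hq)
        ![25, 16, 18, 9, 14, 4, 6, 12] (by decide +kernel)).elim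
    · exact (leaf_falseP T hm2 v M24 hM hx _ _ (row_single T v _ hz hp) (col_single T v _ hz hq)
        ![25, 16, 18, 9, 14, 4, 6, 23] (by decide +kernel)).elim
    · exact (leaf_falseP T hm2 v M24 hM hx _ _ (row_single T v _ hz hp) (col_single T v _ hz hq)
        ![17, 9, 10, 5, 7, 2, 3, 7] (by decide +kernel)).elim
    · exact (leaf_falseP T hm2 v M24 hM hx _ _ (row_single T v _ hz hp) (col_single T v _ hz hq)
        ![17, 9, 10, 5, 7, 2, 3, 22] (by decide +kernel)).elim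
  · rcases pair5 T (by norm_num) hm2 hne hi with
      ⟨hp, hq⟩ | ⟨hp, hq⟩ | ⟨hp, hq⟩ | ⟨hp, hq⟩ | ⟨hp, hq⟩
    · exact (leaf_falseP T hm2 v M24 hM hx _ _ (row_single T v _ hz hp) (col_single T v _ hz hq)
        ![54, 60, 49, 39, 47, 19, 23, 29] (by decide +kernel)).elim
    · exact (leaf_falseP T hm2 v M24 hM hx _ _ (row_single T v _ hz hp) (col_single T v _ hz hq)
        ![15, 22, 11, 13, 9, 6, 4, 10] (by decide +kernel)).elim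
    · exact (leaf_falseP T hm2 v M24 hM hx _ _ (row_single T v _ hz hp) (col_single T v _ hz hq)
        ![15, 22, 11, 13, 9, 6, 4, 21] (by decide +kernel)).elim
    · exact (leaf_falseP T hm2 v M24 hM hx _ _ (row_single T v _ hz hp) (col_single T v _ hz hq)
        ![12, 21, 7, 11, 5, 5, 2, 9] (by decide +kernel)).elim
    · exact (leaf_falseP T hm2 v M24 hM hx _ _ (row_single T v _ hz hp) (col_single T v _ hz hq)
        ![12, 21, 7, 11, 5, 5, 2, 27] (by decide +kernel)).elim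
  · rcases pair5 T (by norm_num) hm2 hne hi with
      ⟨hp, hq⟩ | ⟨hp, hq⟩ | ⟨hp, hq⟩ | ⟨hp, hq⟩ | ⟨hp, hq⟩
    · exact (leaf_falseP T hm2 v M24 hM hx _ _ (row_single T v _ hz hp) (col_single T v _ hz hq)
        ![39, 27, 55, 17, 49, 8, 23, 26] (by decide +kernel)).elim
    · exact (leaf_falseP T hm2 v M24 hM hx _ _ (row_single T v _ hz hp) (col_single T v _ hz hq)
        ![20, 12, 33, 7, 25, 3, 11, 15] (by decide +kernel)).elim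
    · exact (leaf_falseP T hm2 v M24 hM hx _ _ (row_single T v _ hz hp) (col_single T v _ hz hq)
        ![20, 12, 33, 7, 25, 3, 11, 30] (by decide +kernel)).elim
    · exact (leaf_falseP T hm2 v M24 hM hx _ _ (row_single T v _ hz hp) (col_single T v _ hz hq)
        ![18, 10, 35, 5, 22, 2, 9, 14] (by decide +kernel)).elim
    · exact (leaf_falseP T hm2 v M24 hM hx _ _ (row_single T v _ hz hp) (col_single T v _ hz hq)
        ![18, 10, 35, 5, 22, 2, 9, 43] (by decide +kernel)).elim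
  · rcases pair5 T (by norm_num) hm2 hne hi with
      ⟨hp, hq⟩ | ⟨hp, hq⟩ | ⟨hp, hq⟩ | ⟨hp, hq⟩ | ⟨hp, hq⟩
    · exact (leaf_falseP T hm2 v M24 hM hx _ _ (row_single T v _ hz hp) (col_single T v _ hz hq)
        ![2, 2, 2, 2, 2, 1, 1, 1] (by decide +kernel)).elim
    · exact (leaf_falseP T hm2 v M24 hM hx _ _ (row_single T v _ hz hp) (col_single T v _ hz hq)
        ![16, 22, 13, 31, 11, 14, 5, 14] (by decide +kernel)).elim
    · exact (leaf_falseP T hm2 v M24 hM hx _ _ (row_single T v _ hz hp) (col_single T v _ hz hq)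
        ![16, 22, 13, 31, 11, 14, 5, 29] (by decide +kernel)).elim
    · exact (leaf_falseP T hm2 v M24 hM hx _ _ (row_single T v _ hz hp) (col_single T v _ hz hq)
        ![11, 18, 7, 32, 5, 14, 2, 14] (by decide +kernel)).elim
    · exact (leaf_falseP T hm2 v M24 hM hx _ _ (row_single T v _ hz hp) (col_single T v _ hz hq)
        ![11, 18, 7, 32, 5, 14, 2, 41] (by decide +kernel)).elim
  · rcases pair5 T (by norm_num) hm2 hne hi with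
      ⟨hp, hq⟩ | ⟨hp, hq⟩ | ⟨hp, hq⟩ | ⟨hp, hq⟩ | ⟨hp, hq⟩
    · exact (leaf_falseP T hm2 v M24 hM hx _ _ (row_single T v _ hz hp) (col_single T v _ hz hq)
        ![32, 21, 46, 13, 65, 6, 31, 31] (by decide +kernel)).elim
    · exact (leaf_falseP T hm2 v M24 hM hx _ _ (row_single T v _ hz hp) (col_single T v _ hz hq)
        ![15, 9, 27, 5, 47, 2, 20, 20] (by decide +kernel)).elim
    · exact (leaf_falseP T hm2 v M24 hM hx _ _ (row_single T v _ hz hp) (col_single T v _ hz hq)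
        ![15, 9, 27, 5, 47, 2, 20, 40] (by decide +kernel)).elim
    · exact (leaf_falseP T hm2 v M24 hM hx _ _ (row_single T v _ hz hp) (col_single T v _ hz hq)
        ![21, 10, 43, 5, 85, 2, 34, 34] (by decide +kernel)).elim
    · exact (leaf_falseP T hm2 v M24 hM hx _ _ (row_single T v _ hz hp) (col_single T v _ hz hq)
        ![21, 10, 43, 5, 85, 2, 34, 102] (by decide +kernel)).elim
  · rcases pair5 T (by norm_num) hm2 hne hi with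
      ⟨hp, hq⟩ | ⟨hp, hq⟩ | ⟨hp, hq⟩ | ⟨hp, hq⟩ | ⟨hp, hq⟩
    · exact leaf_next T hm2 v M24 hM hx _ _ (row_single T v _ hz hp) (col_single T v _ hz hq)
        ![1, 0, 3, 2, 5, 4, 7, 6] M29 (by decide +kernel) (st29 T hm2)
    · exact (leaf_falseP T hm2 v M24 hM hx _ _ (row_single T v _ hz hp) (col_single T v _ hz hq)
        ![2, 2, 2, 2, 2, 2, 1, 1] (by decide +kernel)).elim
    · exact (leaf_falseP T hm2 v M24 hM hx _ _ (row_single T v _ hz hp) (col_single T v _ hz hq)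
        ![2, 2, 2, 2, 2, 2, 1, 2] (by decide +kernel)).elim
    · exact (leaf_falseP T hm2 v M24 hM hx _ _ (row_single T v _ hz hp) (col_single T v _ hz hq)
        ![16, 22, 13, 30, 11, 42, 5, 20] (by decide +kernel)).elim
    · exact (leaf_falseP T hm2 v M24 hM hx _ _ (row_single T v _ hz hp) (col_single T v _ hz hq)
        ![16, 22, 13, 30, 11, 42, 5, 59] (by decide +kernel)).elim
  · rcases pair5 T (by norm_num) hm2 hne hi with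
      ⟨hp, hq⟩ | ⟨hp, hq⟩ | ⟨hp, hq⟩ | ⟨hp, hq⟩ | ⟨hp, hq⟩
    · exact (leaf_falseP T hm2 v M24 hM hx _ _ (row_single T v _ hz hp) (col_single T v _ hz hq)
        ![59, 42, 78, 27, 102, 13, 65, 32] (by decide +kernel)).elim
    · exact (leaf_falseP T hm2 v M24 hM hx _ _ (row_single T v _ hz hp) (col_single T v _ hz hq)
        ![25, 15, 39, 9, 61, 4, 48, 22] (by decide +kernel)).elim
    · exact (leaf_falseP T hm2 v M24 hM hx _ _ (row_single T v _ hz hp) (col_single T v _ hz hq)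
        ![25, 15, 39, 9, 61, 4, 48, 43] (by decide +kernel)).elim
    · exact (leaf_falseP T hm2 v M24 hM hx _ _ (row_single T v _ hz hp) (col_single T v _ hz hq)
        ![17, 9, 31, 5, 57, 2, 52, 22] (by decide +kernel)).elim
    · exact (leaf_falseP T hm2 v M24 hM hx _ _ (row_single T v _ hz hp) (col_single T v _ hz hq)
        ![17, 9, 31, 5, 57, 2, 52, 65] (by decide +kernel)).elim

def pc25 : Fin 7 → Fin 7 → Fin 8 → ℤ :=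
  ![![![0, 0, 0, 0, 0, 0, 0, 0], ![1, 1, 0, 0, 0, 0, 0, 1], ![1, 0, 1, 0, 0, 0, 0, 1], ![1, 1, 0, 1, 0, 0, 0, 1], ![1, 0, 1, 0, 1, 0, 0, 1], ![1, 1, 0, 1, 0, 1, 0, 1], ![1, 0, 1, 0, 1, 0, 1, 1]], ![![1, 1, 0, 0, 0, 0, 0, 1], ![0, 0, 0, 0, 0, 0, 0, 0], ![1, 1, 1, 0, 0, 0, 0, 1], ![0, 1, 0, 1, 0, 0, 0, 1], ![1, 1, 1, 0, 1, 0, 0, 1], ![0, 1, 0, 1, 0, 1, 0, 1], ![1, 1, 1, 0, 1, 0, 1, 1]], ![![1, 0, 1, 0, 0, 0, 0, 1], ![1, 1, 1, 0, 0, 0, 0, 1], ![0, 0, 0, 0, 0, 0, 0, 0], ![1, 1, 1, 1, 0, 0, 0, 1], ![0, 0, 1, 0, 1, 0, 0, 1], ![1, 1, 1, 1, 0, 1, 0, 1], ![0, 0, 1, 0, 1, 0, 1, 1]], ![![1, 1, 0, 1, 0, 0, 0, 1], ![0, 1, 0, 1, 0, 0, 0, 1], ![1, 1, 1, 1, 0, 0, 0, 1], ![0, 0, 0, 0, 0, 0, 0, 0], ![1, 1, 1, 1, 1, 0, 0, 1], ![0, 0, 0, 1, 0, 1, 0, 1], ![1, 1, 1, 1, 1, 0, 1, 1]], ![![1, 0, 1, 0, 1, 0, 0, 1], ![1, 1, 1, 0, 1, 0, 0, 1], ![0, 0, 1, 0, 1, 0, 0, 1], ![1,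 1, 1, 1, 1, 0, 0, 1], ![0, 0, 0, 0, 0, 0, 0, 0], ![1, 1, 1, 1, 1, 1, 0, 1], ![0, 0, 0, 0, 1, 0, 1, 1]], ![![1, 1, 0, 1, 0, 1, 0, 1], ![0, 1, 0, 1, 0, 1, 0, 1], ![1, 1, 1, 1, 0, 1, 0, 1], ![0, 0, 0, 1, 0, 1, 0, 1], ![1, 1, 1, 1, 1, 1, 0, 1], ![0, 0, 0, 0, 0, 0, 0, 0], ![1, 1, 1, 1, 1, 1, 1, 1]], ![![1, 0, 1, 0, 1, 0, 1, 1], ![1, 1, 1, 0, 1, 0, 1, 1], ![0, 0, 1, 0, 1, 0, 1, 1], ![1, 1, 1, 1, 1, 0, 1, 1], ![0, 0, 0, 0, 1, 0, 1, 1], ![1, 1, 1, 1, 1, 1, 1, 1], ![0, 0, 0, 0, 0, 0, 0, 0]]]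

theorem st25 (T : Models.NumericalType 9) (hm2 : ∀ i, T.IsMinusTwo i)
    (v : Fin 7 ↪ Fin 9) (hM : Knows T v M25) : Result T := by
  obtain ⟨x, hx, hcase⟩ := step_unique T hm2 v M25 hM (by norm_num) (by norm_num)
    (fun _ _ => false) pc25 (by decide +kernel)
    (fun _ _ _ h => (Bool.false_ne_true h).elim)
  rcases hcase with ⟨i, hi, hz⟩ | ⟨i, l, hex, -⟩
  swap
  · exact (Bool.false_ne_true hex).elim
  have hne := ne_of_not_range v hx i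
  fin_cases i
  · rcases pair5 T (by norm_num) hm2 hne hi with
      ⟨hp, hq⟩ | ⟨hp, hq⟩ | ⟨hp, hq⟩ | ⟨hp, hq⟩ | ⟨hp, hq⟩
    · exact (leaf_falseP T hm2 v M25 hM hx _ _ (row_single T v _ hz hp) (col_single T v _ hz hq)
        ![51, 36, 45, 23, 41, 11, 40, 25] (by decide +kernel)).elim
    · exact (leaf_falseP T hm2 v M25 hM hx _ _ (row_single T v _ hz hp) (col_single T v _ hz hq)
        ![19, 12, 13, 7, 10, 3, 9, 9] (by decide +kernel)).elim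
    · exact (leaf_falseP T hm2 v M25 hM hx _ _ (row_single T v _ hz hp) (col_single T v _ hz hq)
        ![19, 12, 13, 7, 10, 3, 9, 17] (by decide +kernel)).elim
    · exact (leaf_falseP T hm2 v M25 hM hx _ _ (row_single T v _ hz hp) (col_single T v _ hz hq)
        ![17, 9, 10, 5, 7, 2, 6, 7] (by decide +kernel)).elim
    · exact (leaf_falseP T hm2 v M25 hM hx _ _ (row_single T v _ hz hp) (col_single T v _ hz hq)
        ![17, 9, 10, 5, 7, 2, 6, 22] (by decide +kernel)).elim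
  · rcases pair5 T (by norm_num) hm2 hne hi with
      ⟨hp, hq⟩ | ⟨hp, hq⟩ | ⟨hp, hq⟩ | ⟨hp, hq⟩ | ⟨hp, hq⟩
    · exact (leaf_falseP T hm2 v M25 hM hx _ _ (row_single T v _ hz hp) (col_single T v _ hz hq)
        ![54, 60, 49, 39, 47, 19, 46, 29] (by decide +kernel)).elim
    · exact (leaf_falseP T hm2 v M25 hM hx _ _ (row_single T v _ hz hp) (col_single T v _ hz hq)
        ![15, 23, 11, 13, 9, 6, 8, 10] (by decide +kernel)).elim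
    · exact (leaf_falseP T hm2 v M25 hM hx _ _ (row_single T v _ hz hp) (col_single T v _ hz hq)
        ![15, 23, 11, 13, 9, 6, 8, 21] (by decide +kernel)).elim
    · exact (leaf_falseP T hm2 v M25 hM hx _ _ (row_single T v _ hz hp) (col_single T v _ hz hq)
        ![12, 21, 7, 11, 5, 5, 4, 9] (by decide +kernel)).elim
    · exact (leaf_falseP T hm2 v M25 hM hx _ _ (row_single T v _ hz hp) (col_single T v _ hz hq)
        ![12, 21, 7, 11, 5, 5, 4, 27] (by decide +kernel)).elim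
  · rcases pair5 T (by norm_num) hm2 hne hi with
      ⟨hp, hq⟩ | ⟨hp, hq⟩ | ⟨hp, hq⟩ | ⟨hp, hq⟩ | ⟨hp, hq⟩
    · exact (leaf_falseP T hm2 v M25 hM hx _ _ (row_single T v _ hz hp) (col_single T v _ hz hq)
        ![39, 27, 55, 17, 49, 8, 47, 26] (by decide +kernel)).elim
    · exact (leaf_falseP T hm2 v M25 hM hx _ _ (row_single T v _ hz hp) (col_single T v _ hz hq)
        ![20, 12, 33, 7, 25, 3, 22, 15] (by decide +kernel)).elim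
    · exact (leaf_falseP T hm2 v M25 hM hx _ _ (row_single T v _ hz hp) (col_single T v _ hz hq)
        ![20, 12, 33, 7, 25, 3, 22, 30] (by decide +kernel)).elim
    · exact (leaf_falseP T hm2 v M25 hM hx _ _ (row_single T v _ hz hp) (col_single T v _ hz hq)
        ![18, 10, 35, 5, 22, 2, 18, 14] (by decide +kernel)).elim
    · exact (leaf_falseP T hm2 v M25 hM hx _ _ (row_single T v _ hz hp) (col_single T v _ hz hq)
        ![18, 10, 35, 5, 22, 2, 18, 43] (by decide +kernel)).elim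
  · rcases pair5 T (by norm_num) hm2 hne hi with
      ⟨hp, hq⟩ | ⟨hp, hq⟩ | ⟨hp, hq⟩ | ⟨hp, hq⟩ | ⟨hp, hq⟩
    · exact (leaf_falseP T hm2 v M25 hM hx _ _ (row_single T v _ hz hp) (col_single T v _ hz hq)
        ![2, 2, 2, 2, 2, 1, 2, 1] (by decide +kernel)).elim
    · exact (leaf_falseP T hm2 v M25 hM hx _ _ (row_single T v _ hz hp) (col_single T v _ hz hq)
        ![16, 22, 13, 31, 11, 14, 10, 14] (by decide +kernel)).elim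
    · exact (leaf_falseP T hm2 v M25 hM hx _ _ (row_single T v _ hz hp) (col_single T v _ hz hq)
        ![16, 22, 13, 31, 11, 14, 10, 29] (by decide +kernel)).elim
    · exact (leaf_falseP T hm2 v M25 hM hx _ _ (row_single T v _ hz hp) (col_single T v _ hz hq)
        ![11, 18, 7, 32, 5, 14, 4, 14] (by decide +kernel)).elim
    · exact (leaf_falseP T hm2 v M25 hM hx _ _ (row_single T v _ hz hp) (col_single T v _ hz hq)
        ![11, 18, 7, 32, 5, 14, 4, 41] (by decide +kernel)).elim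
  · rcases pair5 T (by norm_num) hm2 hne hi with
      ⟨hp, hq⟩ | ⟨hp, hq⟩ | ⟨hp, hq⟩ | ⟨hp, hq⟩ | ⟨hp, hq⟩
    · exact (leaf_falseP T hm2 v M25 hM hx _ _ (row_single T v _ hz hp) (col_single T v _ hz hq)
        ![32, 21, 46, 13, 65, 6, 62, 31] (by decide +kernel)).elim
    · exact (leaf_falseP T hm2 v M25 hM hx _ _ (row_single T v _ hz hp) (col_single T v _ hz hq)
        ![15, 9, 27, 5, 47, 2, 40, 20] (by decide +kernel)).elim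
    · exact (leaf_falseP T hm2 v M25 hM hx _ _ (row_single T v _ hz hp) (col_single T v _ hz hq)
        ![15, 9, 27, 5, 47, 2, 40, 40] (by decide +kernel)).elim
    · exact (leaf_falseP T hm2 v M25 hM hx _ _ (row_single T v _ hz hp) (col_single T v _ hz hq)
        ![21, 10, 43, 5, 85, 2, 68, 34] (by decide +kernel)).elim
    · exact (leaf_falseP T hm2 v M25 hM hx _ _ (row_single T v _ hz hp) (col_single T v _ hz hq)
        ![21, 10, 43, 5, 85, 2, 68, 102] (by decide +kernel)).elim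
  · rcases pair5 T (by norm_num) hm2 hne hi with
      ⟨hp, hq⟩ | ⟨hp, hq⟩ | ⟨hp, hq⟩ | ⟨hp, hq⟩ | ⟨hp, hq⟩
    · exact leaf_next T hm2 v M25 hM hx _ _ (row_single T v _ hz hp) (col_single T v _ hz hq)
        ![1, 0, 3, 2, 5, 4, 7, 6] M30 (by decide +kernel) (st30 T hm2)
    · exact (leaf_falseP T hm2 v M25 hM hx _ _ (row_single T v _ hz hp) (col_single T v _ hz hq)
        ![2, 2, 2, 2, 2, 2, 2, 1] (by decide +kernel)).elim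
    · exact (leaf_falseP T hm2 v M25 hM hx _ _ (row_single T v _ hz hp) (col_single T v _ hz hq)
        ![1, 1, 1, 1, 1, 1, 1, 1] (by decide +kernel)).elim
    · exact (leaf_falseP T hm2 v M25 hM hx _ _ (row_single T v _ hz hp) (col_single T v _ hz hq)
        ![16, 22, 13, 30, 11, 42, 10, 20] (by decide +kernel)).elim
    · exact (leaf_falseP T hm2 v M25 hM hx _ _ (row_single T v _ hz hp) (col_single T v _ hz hq)
        ![16, 22, 13, 30, 11, 42, 10, 59] (by decide +kernel)).elim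
  · rcases pair5 T (by norm_num) hm2 hne hi with
      ⟨hp, hq⟩ | ⟨hp, hq⟩ | ⟨hp, hq⟩ | ⟨hp, hq⟩ | ⟨hp, hq⟩
    · exact (leaf_falseP T hm2 v M25 hM hx _ _ (row_single T v _ hz hp) (col_single T v _ hz hq)
        ![59, 42, 78, 27, 102, 13, 131, 64] (by decide +kernel)).elim
    · exact (leaf_falseP T hm2 v M25 hM hx _ _ (row_single T v _ hz hp) (col_single T v _ hz hq)
        ![25, 15, 39, 9, 61, 4, 95, 43] (by decide +kernel)).elim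
    · exact (leaf_falseP T hm2 v M25 hM hx _ _ (row_single T v _ hz hp) (col_single T v _ hz hq)
        ![25, 15, 39, 9, 61, 4, 95, 87] (by decide +kernel)).elim
    · exact (leaf_falseP T hm2 v M25 hM hx _ _ (row_single T v _ hz hp) (col_single T v _ hz hq)
        ![17, 9, 31, 5, 57, 2, 103, 44] (by decide +kernel)).elim
    · exact (leaf_falseP T hm2 v M25 hM hx _ _ (row_single T v _ hz hp) (col_single T v _ hz hq)
        ![17, 9, 31, 5, 57, 2, 103, 131] (by decide +kernel)).elim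

def pc16 : Fin 6 → Fin 6 → Fin 7 → ℤ :=
  ![![![0, 0, 0, 0, 0, 0, 0], ![1, 1, 0, 0, 0, 0, 1], ![1, 0, 1, 0, 0, 0, 1], ![1, 0, 0, 1, 0, 0, 1], ![1, 1, 0, 0, 1, 0, 1], ![1, 0, 1, 0, 0, 1, 1]], ![![1, 1, 0, 0, 0, 0, 1], ![0, 0, 0, 0, 0, 0, 0], ![1, 1, 1, 0, 0, 0, 1], ![1, 1, 0, 1, 0, 0, 1], ![0, 1, 0, 0, 1, 0, 1], ![1, 1, 1, 0, 0, 1, 1]], ![![1, 0, 1, 0, 0, 0, 1], ![1, 1, 1, 0, 0, 0, 1], ![0, 0, 0, 0, 0, 0, 0], ![1, 0, 1, 1, 0, 0, 1], ![1, 1, 1, 0, 1, 0, 1], ![0, 0, 1, 0, 0, 1, 1]], ![![1, 0, 0, 1, 0, 0, 1], ![1, 1, 0, 1, 0, 0, 1], ![1, 0, 1, 1, 0, 0, 1], ![0, 0, 0, 0, 0, 0, 0], ![1, 1, 0, 1, 1, 0, 1], ![1, 0, 1, 1, 0, 1, 1]], ![![1, 1, 0, 0, 1, 0, 1], ![0, 1, 0, 0, 1, 0, 1], ![1, 1, 1, 0, 1, 0, 1], ![1, 1, 0, 1, 1, 0, 1], ![0, 0, 0, 0, 0, 0, 0], ![1, 1, 1, 0, 1, 1, 1]], ![![1, 0, 1, 0, 0, 1, 1], ![1, 1, 1, 0, 0, 1, 1], ![0, 0, 1, 0, 0, 1, 1], ![1, 0,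 1, 1, 0, 1, 1], ![1, 1, 1, 0, 1, 1, 1], ![0, 0, 0, 0, 0, 0, 0]]]

theorem st16 (T : Models.NumericalType 9) (hm2 : ∀ i, T.IsMinusTwo i)
    (v : Fin 6 ↪ Fin 9) (hM : Knows T v M16) : Result T := by
  obtain ⟨x, hx, hcase⟩ := step_unique T hm2 v M16 hM (by norm_num) (by norm_num)
    (fun _ _ => false) pc16 (by decide +kernel)
    (fun _ _ _ h => (Bool.false_ne_true h).elim)
  rcases hcase with ⟨i, hi, hz⟩ | ⟨i, l, hex, -⟩
  swap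
  · exact (Bool.false_ne_true hex).elim
  have hne := ne_of_not_range v hx i
  fin_cases i
  · rcases pair5 T (by norm_num) hm2 hne hi with
      ⟨hp, hq⟩ | ⟨hp, hq⟩ | ⟨hp, hq⟩ | ⟨hp, hq⟩ | ⟨hp, hq⟩
    · exact (leaf_falseP T hm2 v M16 hM hx _ _ (row_single T v _ hz hp) (col_single T v _ hz hq)
        ![18, 11, 11, 8, 5, 5, 8] (by decide +kernel)).elim
    · exact (leaf_falseP T hm2 v M16 hM hx _ _ (row_single T v _ hz hp) (col_single T v _ hz hq)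
        ![9, 5, 5, 4, 2, 2, 4] (by decide +kernel)).elim
    · exact (leaf_falseP T hm2 v M16 hM hx _ _ (row_single T v _ hz hp) (col_single T v _ hz hq)
        ![9, 5, 5, 4, 2, 2, 8] (by decide +kernel)).elim
    · exact (leaf_falseP T hm2 v M16 hM hx _ _ (row_single T v _ hz hp) (col_single T v _ hz hq)
        ![11, 5, 5, 4, 2, 2, 4] (by decide +kernel)).elim
    · exact (leaf_falseP T hm2 v M16 hM hx _ _ (row_single T v _ hz hp) (col_single T v _ hz hq)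
        ![11, 5, 5, 4, 2, 2, 13] (by decide +kernel)).elim
  · rcases pair5 T (by norm_num) hm2 hne hi with
      ⟨hp, hq⟩ | ⟨hp, hq⟩ | ⟨hp, hq⟩ | ⟨hp, hq⟩ | ⟨hp, hq⟩
    · exact (leaf_falseP T hm2 v M16 hM hx _ _ (row_single T v _ hz hp) (col_single T v _ hz hq)
        ![39, 36, 25, 19, 17, 12, 17] (by decide +kernel)).elim
    · exact (leaf_falseP T hm2 v M16 hM hx _ _ (row_single T v _ hz hp) (col_single T v _ hz hq)
        ![12, 14, 7, 5, 6, 3, 6] (by decide +kernel)).elim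
    · exact (leaf_falseP T hm2 v M16 hM hx _ _ (row_single T v _ hz hp) (col_single T v _ hz hq)
        ![12, 14, 7, 5, 6, 3, 12] (by decide +kernel)).elim
    · exact (leaf_falseP T hm2 v M16 hM hx _ _ (row_single T v _ hz hp) (col_single T v _ hz hq)
        ![9, 13, 5, 4, 6, 2, 6] (by decide +kernel)).elim
    · exact (leaf_falseP T hm2 v M16 hM hx _ _ (row_single T v _ hz hp) (col_single T v _ hz hq)
        ![9, 13, 5, 4, 6, 2, 17] (by decide +kernel)).elim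
  · rcases pair5 T (by norm_num) hm2 hne hi with
      ⟨hp, hq⟩ | ⟨hp, hq⟩ | ⟨hp, hq⟩ | ⟨hp, hq⟩ | ⟨hp, hq⟩
    · exact (leaf_falseP T hm2 v M16 hM hx _ _ (row_single T v _ hz hp) (col_single T v _ hz hq)
        ![39, 25, 36, 19, 12, 17, 17] (by decide +kernel)).elim
    · exact (leaf_falseP T hm2 v M16 hM hx _ _ (row_single T v _ hz hp) (col_single T v _ hz hq)
        ![12, 7, 14, 5, 3, 6, 6] (by decide +kernel)).elim
    · exact (leaf_falseP T hm2 v M16 hM hx _ _ (row_single T v _ hz hp) (col_single T v _ hz hq)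
        ![12, 7, 14, 5, 3, 6, 12] (by decide +kernel)).elim
    · exact (leaf_falseP T hm2 v M16 hM hx _ _ (row_single T v _ hz hp) (col_single T v _ hz hq)
        ![9, 5, 13, 4, 2, 6, 6] (by decide +kernel)).elim
    · exact (leaf_falseP T hm2 v M16 hM hx _ _ (row_single T v _ hz hp) (col_single T v _ hz hq)
        ![9, 5, 13, 4, 2, 6, 17] (by decide +kernel)).elim
  · rcases pair5 T (by norm_num) hm2 hne hi with
      ⟨hp, hq⟩ | ⟨hp, hq⟩ | ⟨hp, hq⟩ | ⟨hp, hq⟩ | ⟨hp, hq⟩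
    · exact (leaf_falseP T hm2 v M16 hM hx _ _ (row_single T v _ hz hp) (col_single T v _ hz hq)
        ![3, 2, 2, 2, 1, 1, 1] (by decide +kernel)).elim
    · exact (leaf_falseP T hm2 v M16 hM hx _ _ (row_single T v _ hz hp) (col_single T v _ hz hq)
        ![24, 15, 15, 21, 7, 7, 10] (by decide +kernel)).elim
    · exact (leaf_falseP T hm2 v M16 hM hx _ _ (row_single T v _ hz hp) (col_single T v _ hz hq)
        ![24, 15, 15, 21, 7, 7, 20] (by decide +kernel)).elim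
    · exact (leaf_falseP T hm2 v M16 hM hx _ _ (row_single T v _ hz hp) (col_single T v _ hz hq)
        ![12, 7, 7, 13, 3, 3, 6] (by decide +kernel)).elim
    · exact (leaf_falseP T hm2 v M16 hM hx _ _ (row_single T v _ hz hp) (col_single T v _ hz hq)
        ![12, 7, 7, 13, 3, 3, 18] (by decide +kernel)).elim
  · rcases pair5 T (by norm_num) hm2 hne hi with
      ⟨hp, hq⟩ | ⟨hp, hq⟩ | ⟨hp, hq⟩ | ⟨hp, hq⟩ | ⟨hp, hq⟩
    · exact leaf_next T hm2 v M16 hM hx _ _ (row_single T v _ hz hp) (col_single T v _ hz hq)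
        ![0, 1, 2, 3, 4, 5, 6] M21 (by decide +kernel) (st21 T hm2)
    · exact (leaf_falseP T hm2 v M16 hM hx _ _ (row_single T v _ hz hp) (col_single T v _ hz hq)
        ![48, 43, 31, 23, 41, 15, 20] (by decide +kernel)).elim
    · exact (leaf_falseP T hm2 v M16 hM hx _ _ (row_single T v _ hz hp) (col_single T v _ hz hq)
        ![48, 43, 31, 23, 41, 15, 40] (by decide +kernel)).elim
    · exact (leaf_falseP T hm2 v M16 hM hx _ _ (row_single T v _ hz hp) (col_single T v _ hz hq)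
        ![15, 17, 9, 7, 21, 4, 10] (by decide +kernel)).elim
    · exact (leaf_falseP T hm2 v M16 hM hx _ _ (row_single T v _ hz hp) (col_single T v _ hz hq)
        ![15, 17, 9, 7, 21, 4, 29] (by decide +kernel)).elim
  · rcases pair5 T (by norm_num) hm2 hne hi with
      ⟨hp, hq⟩ | ⟨hp, hq⟩ | ⟨hp, hq⟩ | ⟨hp, hq⟩ | ⟨hp, hq⟩
    · exact leaf_next T hm2 v M16 hM hx _ _ (row_single T v _ hz hp) (col_single T v _ hz hq)
        ![0, 2, 1, 3, 5, 4, 6] M21 (by decide +kernel) (st21 T hm2)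
    · exact (leaf_falseP T hm2 v M16 hM hx _ _ (row_single T v _ hz hp) (col_single T v _ hz hq)
        ![48, 31, 43, 23, 15, 41, 20] (by decide +kernel)).elim
    · exact (leaf_falseP T hm2 v M16 hM hx _ _ (row_single T v _ hz hp) (col_single T v _ hz hq)
        ![48, 31, 43, 23, 15, 41, 40] (by decide +kernel)).elim
    · exact (leaf_falseP T hm2 v M16 hM hx _ _ (row_single T v _ hz hp) (col_single T v _ hz hq)
        ![15, 9, 17, 7, 4, 21, 10] (by decide +kernel)).elim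
    · exact (leaf_falseP T hm2 v M16 hM hx _ _ (row_single T v _ hz hp) (col_single T v _ hz hq)
        ![15, 9, 17, 7, 4, 21, 29] (by decide +kernel)).elim

def pc17 : Fin 6 → Fin 6 → Fin 7 → ℤ :=
  ![![![0, 0, 0, 0, 0, 0, 0], ![1, 1, 0, 0, 0, 0, 1], ![1, 0, 1, 0, 0, 0, 1], ![1, 0, 0, 1, 0, 0, 1], ![1, 1, 0, 0, 1, 0, 1], ![1, 1, 0, 0, 1, 1, 1]], ![![1, 1, 0, 0, 0, 0, 1], ![0, 0, 0, 0, 0, 0, 0], ![1, 1, 1, 0, 0, 0, 1], ![1, 1, 0, 1, 0, 0, 1], ![0, 1, 0, 0, 1, 0, 1], ![0, 1, 0, 0, 1, 1, 1]], ![![1, 0, 1, 0, 0, 0, 1], ![1, 1, 1, 0, 0, 0, 1], ![0, 0, 0, 0, 0, 0, 0], ![1, 0, 1, 1, 0, 0, 1], ![1, 1, 1, 0, 1, 0, 1], ![1, 1, 1, 0, 1, 1, 1]], ![![1, 0, 0, 1, 0, 0, 1], ![1, 1, 0, 1, 0, 0, 1], ![1, 0, 1, 1, 0, 0, 1], ![0, 0, 0, 0, 0, 0, 0], ![1, 1, 0, 1, 1, 0, 1], ![1, 1, 0, 1, 1, 1, 1]], ![![1, 1, 0, 0, 1, 0, 1], ![0, 1, 0, 0, 1, 0, 1], ![1, 1, 1, 0, 1, 0,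 1], ![1, 1, 0, 1, 1, 0, 1], ![0, 0, 0, 0, 0, 0, 0], ![0, 0, 0, 0, 1, 1, 1]], ![![1, 1, 0, 0, 1, 1, 1], ![0, 1, 0, 0, 1, 1, 1], ![1, 1, 1, 0, 1, 1, 1], ![1, 1, 0, 1, 1, 1, 1], ![0, 0, 0, 0, 1, 1, 1], ![0, 0, 0, 0, 0, 0, 0]]]

theorem st17 (T : Models.NumericalType 9) (hm2 : ∀ i, T.IsMinusTwo i)
    (v : Fin 6 ↪ Fin 9) (hM : Knows T v M17) : Result T := by
  obtain ⟨x, hx, hcase⟩ := step_unique T hm2 v M17 hM (by norm_num) (by norm_num)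
    (fun _ _ => false) pc17 (by decide +kernel)
    (fun _ _ _ h => (Bool.false_ne_true h).elim)
  rcases hcase with ⟨i, hi, hz⟩ | ⟨i, l, hex, -⟩
  swap
  · exact (Bool.false_ne_true hex).elim
  have hne := ne_of_not_range v hx i
  fin_cases i
  · rcases pair5 T (by norm_num) hm2 hne hi with
      ⟨hp, hq⟩ | ⟨hp, hq⟩ | ⟨hp, hq⟩ | ⟨hp, hq⟩ | ⟨hp, hq⟩
    · exact (leaf_falseP T hm2 v M17 hM hx _ _ (row_single T v _ hz hp) (col_single T v _ hz hq)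
        ![36, 24, 17, 17, 15, 7, 17] (by decide +kernel)).elim
    · exact (leaf_falseP T hm2 v M17 hM hx _ _ (row_single T v _ hz hp) (col_single T v _ hz hq)
        ![15, 9, 7, 7, 5, 2, 7] (by decide +kernel)).elim
    · exact (leaf_falseP T hm2 v M17 hM hx _ _ (row_single T v _ hz hp) (col_single T v _ hz hq)
        ![15, 9, 7, 7, 5, 2, 13] (by decide +kernel)).elim
    · exact (leaf_falseP T hm2 v M17 hM hx _ _ (row_single T v _ hz hp) (col_single T v _ hz hq)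
        ![21, 10, 8, 8, 5, 2, 8] (by decide +kernel)).elim
    · exact (leaf_falseP T hm2 v M17 hM hx _ _ (row_single T v _ hz hp) (col_single T v _ hz hq)
        ![21, 10, 8, 8, 5, 2, 25] (by decide +kernel)).elim
  · rcases pair5 T (by norm_num) hm2 hne hi with
      ⟨hp, hq⟩ | ⟨hp, hq⟩ | ⟨hp, hq⟩ | ⟨hp, hq⟩ | ⟨hp, hq⟩
    · exact (leaf_falseP T hm2 v M17 hM hx _ _ (row_single T v _ hz hp) (col_single T v _ hz hq)
        ![36, 39, 17, 17, 25, 12, 19] (by decide +kernel)).elim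
    · exact (leaf_falseP T hm2 v M17 hM hx _ _ (row_single T v _ hz hp) (col_single T v _ hz hq)
        ![9, 12, 4, 4, 7, 3, 5] (by decide +kernel)).elim
    · exact (leaf_falseP T hm2 v M17 hM hx _ _ (row_single T v _ hz hp) (col_single T v _ hz hq)
        ![9, 12, 4, 4, 7, 3, 11] (by decide +kernel)).elim
    · exact (leaf_falseP T hm2 v M17 hM hx _ _ (row_single T v _ hz hp) (col_single T v _ hz hq)
        ![9, 14, 4, 4, 7, 3, 6] (by decide +kernel)).elim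
    · exact (leaf_falseP T hm2 v M17 hM hx _ _ (row_single T v _ hz hp) (col_single T v _ hz hq)
        ![9, 14, 4, 4, 7, 3, 18] (by decide +kernel)).elim
  · rcases pair5 T (by norm_num) hm2 hne hi with
      ⟨hp, hq⟩ | ⟨hp, hq⟩ | ⟨hp, hq⟩ | ⟨hp, hq⟩ | ⟨hp, hq⟩
    · exact leaf_next T hm2 v M17 hM hx _ _ (row_single T v _ hz hp) (col_single T v _ hz hq)
        ![0, 1, 2, 3, 4, 6, 5] M21 (by decide +kernel) (st21 T hm2)
    · exact (leaf_falseP T hm2 v M17 hM hx _ _ (row_single T v _ hz hp) (col_single T v _ hz hq)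
        ![43, 30, 39, 21, 19, 9, 19] (by decide +kernel)).elim
    · exact (leaf_falseP T hm2 v M17 hM hx _ _ (row_single T v _ hz hp) (col_single T v _ hz hq)
        ![43, 30, 39, 21, 19, 9, 37] (by decide +kernel)).elim
    · exact (leaf_falseP T hm2 v M17 hM hx _ _ (row_single T v _ hz hp) (col_single T v _ hz hq)
        ![19, 12, 22, 9, 7, 3, 10] (by decide +kernel)).elim
    · exact (leaf_falseP T hm2 v M17 hM hx _ _ (row_single T v _ hz hp) (col_single T v _ hz hq)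
        ![19, 12, 22, 9, 7, 3, 30] (by decide +kernel)).elim
  · rcases pair5 T (by norm_num) hm2 hne hi with
      ⟨hp, hq⟩ | ⟨hp, hq⟩ | ⟨hp, hq⟩ | ⟨hp, hq⟩ | ⟨hp, hq⟩
    · exact leaf_next T hm2 v M17 hM hx _ _ (row_single T v _ hz hp) (col_single T v _ hz hq)
        ![0, 1, 3, 2, 4, 6, 5] M21 (by decide +kernel) (st21 T hm2)
    · exact (leaf_falseP T hm2 v M17 hM hx _ _ (row_single T v _ hz hp) (col_single T v _ hz hq)
        ![43, 30, 21, 39, 19, 9, 19] (by decide +kernel)).elim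
    · exact (leaf_falseP T hm2 v M17 hM hx _ _ (row_single T v _ hz hp) (col_single T v _ hz hq)
        ![43, 30, 21, 39, 19, 9, 37] (by decide +kernel)).elim
    · exact (leaf_falseP T hm2 v M17 hM hx _ _ (row_single T v _ hz hp) (col_single T v _ hz hq)
        ![19, 12, 9, 22, 7, 3, 10] (by decide +kernel)).elim
    · exact (leaf_falseP T hm2 v M17 hM hx _ _ (row_single T v _ hz hp) (col_single T v _ hz hq)
        ![19, 12, 9, 22, 7, 3, 30] (by decide +kernel)).elim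
  · rcases pair5 T (by norm_num) hm2 hne hi with
      ⟨hp, hq⟩ | ⟨hp, hq⟩ | ⟨hp, hq⟩ | ⟨hp, hq⟩ | ⟨hp, hq⟩
    · exact (leaf_falseP T hm2 v M17 hM hx _ _ (row_single T v _ hz hp) (col_single T v _ hz hq)
        ![2, 2, 1, 1, 2, 1, 1] (by decide +kernel)).elim
    · exact (leaf_falseP T hm2 v M17 hM hx _ _ (row_single T v _ hz hp) (col_single T v _ hz hq)
        ![11, 13, 5, 5, 17, 8, 8] (by decide +kernel)).elim
    · exact (leaf_falseP T hm2 v M17 hM hx _ _ (row_single T v _ hz hp) (col_single T v _ hz hq)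
        ![11, 13, 5, 5, 17, 8, 16] (by decide +kernel)).elim
    · exact (leaf_falseP T hm2 v M17 hM hx _ _ (row_single T v _ hz hp) (col_single T v _ hz hq)
        ![5, 7, 2, 2, 11, 5, 5] (by decide +kernel)).elim
    · exact (leaf_falseP T hm2 v M17 hM hx _ _ (row_single T v _ hz hp) (col_single T v _ hz hq)
        ![5, 7, 2, 2, 11, 5, 14] (by decide +kernel)).elim
  · rcases pair5 T (by norm_num) hm2 hne hi with
      ⟨hp, hq⟩ | ⟨hp, hq⟩ | ⟨hp, hq⟩ | ⟨hp, hq⟩ | ⟨hp, hq⟩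
    · exact leaf_next T hm2 v M17 hM hx _ _ (row_single T v _ hz hp) (col_single T v _ hz hq)
        ![0, 1, 2, 3, 4, 5, 6] M22 (by decide +kernel) (st22 T hm2)
    · exact (leaf_falseP T hm2 v M17 hM hx _ _ (row_single T v _ hz hp) (col_single T v _ hz hq)
        ![2, 2, 1, 1, 2, 2, 1] (by decide +kernel)).elim
    · exact (leaf_falseP T hm2 v M17 hM hx _ _ (row_single T v _ hz hp) (col_single T v _ hz hq)
        ![2, 2, 1, 1, 2, 2, 2] (by decide +kernel)).elim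
    · exact (leaf_falseP T hm2 v M17 hM hx _ _ (row_single T v _ hz hp) (col_single T v _ hz hq)
        ![11, 13, 5, 5, 17, 23, 11] (by decide +kernel)).elim
    · exact (leaf_falseP T hm2 v M17 hM hx _ _ (row_single T v _ hz hp) (col_single T v _ hz hq)
        ![11, 13, 5, 5, 17, 23, 32] (by decide +kernel)).elim

def pc18 : Fin 6 → Fin 6 → Fin 7 → ℤ :=
  ![![![0, 0, 0, 0, 0, 0, 0], ![1, 1, 0, 0, 0, 0, 1], ![1, 0, 1, 0, 0, 0, 1], ![1, 1, 0, 1, 0, 0, 1], ![1, 0, 1, 0, 1, 0, 1], ![1, 1, 0, 1, 0, 1, 1]], ![![1, 1, 0, 0, 0, 0, 1], ![0, 0, 0, 0, 0, 0, 0], ![1, 1, 1, 0, 0, 0, 1], ![0, 1, 0, 1, 0, 0, 1], ![1, 1, 1, 0, 1, 0, 1], ![0, 1, 0, 1, 0, 1, 1]], ![![1, 0, 1, 0, 0, 0, 1], ![1, 1, 1, 0, 0, 0, 1], ![0, 0, 0, 0, 0, 0, 0], ![1, 1, 1, 1, 0, 0, 1], ![0, 0, 1, 0, 1, 0, 1], ![1, 1, 1, 1, 0, 1, 1]], ![![1, 1, 0, 1, 0, 0, 1], ![0, 1, 0, 1, 0, 0, 1], ![1, 1,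 1, 1, 0, 0, 1], ![0, 0, 0, 0, 0, 0, 0], ![1, 1, 1, 1, 1, 0, 1], ![0, 0, 0, 1, 0, 1, 1]], ![![1, 0, 1, 0, 1, 0, 1], ![1, 1, 1, 0, 1, 0, 1], ![0, 0, 1, 0, 1, 0, 1], ![1, 1, 1, 1, 1, 0, 1], ![0, 0, 0, 0, 0, 0, 0], ![1, 1, 1, 1, 1, 1, 1]], ![![1, 1, 0, 1, 0, 1, 1], ![0, 1, 0, 1, 0, 1, 1], ![1, 1, 1, 1, 0, 1, 1], ![0, 0, 0, 1, 0, 1, 1], ![1, 1, 1, 1, 1, 1, 1], ![0, 0, 0, 0, 0, 0, 0]]]

theorem st18 (T : Models.NumericalType 9) (hm2 : ∀ i, T.IsMinusTwo i)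
    (v : Fin 6 ↪ Fin 9) (hM : Knows T v M18) : Result T := by
  obtain ⟨x, hx, hcase⟩ := step_unique T hm2 v M18 hM (by norm_num) (by norm_num)
    (fun _ _ => false) pc18 (by decide +kernel)
    (fun _ _ _ h => (Bool.false_ne_true h).elim)
  rcases hcase with ⟨i, hi, hz⟩ | ⟨i, l, hex, -⟩
  swap
  · exact (Bool.false_ne_true hex).elim
  have hne := ne_of_not_range v hx i
  fin_cases i
  · rcases pair5 T (by norm_num) hm2 hne hi with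
      ⟨hp, hq⟩ | ⟨hp, hq⟩ | ⟨hp, hq⟩ | ⟨hp, hq⟩ | ⟨hp, hq⟩
    · exact leaf_next T hm2 v M18 hM hx _ _ (row_single T v _ hz hp) (col_single T v _ hz hq)
        ![0, 1, 2, 6, 3, 4, 5] M21 (by decide +kernel) (st21 T hm2)
    · exact (leaf_falseP T hm2 v M18 hM hx _ _ (row_single T v _ hz hp) (col_single T v _ hz hq)
        ![23, 15, 14, 9, 6, 4, 11] (by decide +kernel)).elim
    · exact (leaf_falseP T hm2 v M18 hM hx _ _ (row_single T v _ hz hp) (col_single T v _ hz hq)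
        ![23, 15, 14, 9, 6, 4, 21] (by decide +kernel)).elim
    · exact (leaf_falseP T hm2 v M18 hM hx _ _ (row_single T v _ hz hp) (col_single T v _ hz hq)
        ![16, 9, 9, 5, 4, 2, 7] (by decide +kernel)).elim
    · exact (leaf_falseP T hm2 v M18 hM hx _ _ (row_single T v _ hz hp) (col_single T v _ hz hq)
        ![16, 9, 9, 5, 4, 2, 21] (by decide +kernel)).elim
  · rcases pair5 T (by norm_num) hm2 hne hi with
      ⟨hp, hq⟩ | ⟨hp, hq⟩ | ⟨hp, hq⟩ | ⟨hp, hq⟩ | ⟨hp, hq⟩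
    · exact leaf_next T hm2 v M18 hM hx _ _ (row_single T v _ hz hp) (col_single T v _ hz hq)
        ![1, 0, 3, 6, 2, 5, 4] M21 (by decide +kernel) (st21 T hm2)
    · exact (leaf_falseP T hm2 v M18 hM hx _ _ (row_single T v _ hz hp) (col_single T v _ hz hq)
        ![15, 23, 9, 14, 4, 6, 11] (by decide +kernel)).elim
    · exact (leaf_falseP T hm2 v M18 hM hx _ _ (row_single T v _ hz hp) (col_single T v _ hz hq)
        ![15, 23, 9, 14, 4, 6, 21] (by decide +kernel)).elim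
    · exact (leaf_falseP T hm2 v M18 hM hx _ _ (row_single T v _ hz hp) (col_single T v _ hz hq)
        ![9, 16, 5, 9, 2, 4, 7] (by decide +kernel)).elim
    · exact (leaf_falseP T hm2 v M18 hM hx _ _ (row_single T v _ hz hp) (col_single T v _ hz hq)
        ![9, 16, 5, 9, 2, 4, 21] (by decide +kernel)).elim
  · rcases pair5 T (by norm_num) hm2 hne hi with
      ⟨hp, hq⟩ | ⟨hp, hq⟩ | ⟨hp, hq⟩ | ⟨hp, hq⟩ | ⟨hp, hq⟩
    · exact leaf_next T hm2 v M18 hM hx _ _ (row_single T v _ hz hp) (col_single T v _ hz hq)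
        ![2, 0, 4, 6, 1, 3, 5] M22 (by decide +kernel) (st22 T hm2)
    · exact (leaf_falseP T hm2 v M18 hM hx _ _ (row_single T v _ hz hp) (col_single T v _ hz hq)
        ![31, 21, 45, 13, 21, 6, 21] (by decide +kernel)).elim
    · exact (leaf_falseP T hm2 v M18 hM hx _ _ (row_single T v _ hz hp) (col_single T v _ hz hq)
        ![31, 21, 45, 13, 21, 6, 43] (by decide +kernel)).elim
    · exact (leaf_falseP T hm2 v M18 hM hx _ _ (row_single T v _ hz hp) (col_single T v _ hz hq)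
        ![15, 9, 27, 5, 12, 2, 12] (by decide +kernel)).elim
    · exact (leaf_falseP T hm2 v M18 hM hx _ _ (row_single T v _ hz hp) (col_single T v _ hz hq)
        ![15, 9, 27, 5, 12, 2, 35] (by decide +kernel)).elim
  · rcases pair5 T (by norm_num) hm2 hne hi with
      ⟨hp, hq⟩ | ⟨hp, hq⟩ | ⟨hp, hq⟩ | ⟨hp, hq⟩ | ⟨hp, hq⟩
    · exact leaf_next T hm2 v M18 hM hx _ _ (row_single T v _ hz hp) (col_single T v _ hz hq)
        ![3, 1, 5, 6, 0, 2, 4] M22 (by decide +kernel) (st22 T hm2)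
    · exact (leaf_falseP T hm2 v M18 hM hx _ _ (row_single T v _ hz hp) (col_single T v _ hz hq)
        ![21, 31, 13, 45, 6, 21, 21] (by decide +kernel)).elim
    · exact (leaf_falseP T hm2 v M18 hM hx _ _ (row_single T v _ hz hp) (col_single T v _ hz hq)
        ![21, 31, 13, 45, 6, 21, 43] (by decide +kernel)).elim
    · exact (leaf_falseP T hm2 v M18 hM hx _ _ (row_single T v _ hz hp) (col_single T v _ hz hq)
        ![9, 15, 5, 27, 2, 12, 12] (by decide +kernel)).elim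
    · exact (leaf_falseP T hm2 v M18 hM hx _ _ (row_single T v _ hz hp) (col_single T v _ hz hq)
        ![9, 15, 5, 27, 2, 12, 35] (by decide +kernel)).elim
  · rcases pair5 T (by norm_num) hm2 hne hi with
      ⟨hp, hq⟩ | ⟨hp, hq⟩ | ⟨hp, hq⟩ | ⟨hp, hq⟩ | ⟨hp, hq⟩
    · exact leaf_next T hm2 v M18 hM hx _ _ (row_single T v _ hz hp) (col_single T v _ hz hq)
        ![0, 1, 2, 3, 4, 5, 6] M23 (by decide +kernel) (st23 T hm2)
    · exact leaf_next T hm2 v M18 hM hx _ _ (row_single T v _ hz hp) (col_single T v _ hz hq)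
        ![0, 1, 2, 3, 4, 5, 6] M24 (by decide +kernel) (st24 T hm2)
    · exact leaf_next T hm2 v M18 hM hx _ _ (row_single T v _ hz hp) (col_single T v _ hz hq)
        ![0, 1, 2, 3, 4, 5, 6] M25 (by decide +kernel) (st25 T hm2)
    · exact (leaf_falseP T hm2 v M18 hM hx _ _ (row_single T v _ hz hp) (col_single T v _ hz hq)
        ![32, 21, 46, 13, 65, 6, 31] (by decide +kernel)).elim
    · exact (leaf_falseP T hm2 v M18 hM hx _ _ (row_single T v _ hz hp) (col_single T v _ hz hq)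
        ![32, 21, 46, 13, 65, 6, 93] (by decide +kernel)).elim
  · rcases pair5 T (by norm_num) hm2 hne hi with
      ⟨hp, hq⟩ | ⟨hp, hq⟩ | ⟨hp, hq⟩ | ⟨hp, hq⟩ | ⟨hp, hq⟩
    · exact leaf_next T hm2 v M18 hM hx _ _ (row_single T v _ hz hp) (col_single T v _ hz hq)
        ![1, 0, 3, 2, 5, 4, 6] M23 (by decide +kernel) (st23 T hm2)
    · exact leaf_next T hm2 v M18 hM hx _ _ (row_single T v _ hz hp) (col_single T v _ hz hq)
        ![1, 0, 3, 2, 5, 4, 6] M24 (by decide +kernel) (st24 T hm2)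
    · exact leaf_next T hm2 v M18 hM hx _ _ (row_single T v _ hz hp) (col_single T v _ hz hq)
        ![1, 0, 3, 2, 5, 4, 6] M25 (by decide +kernel) (st25 T hm2)
    · exact (leaf_falseP T hm2 v M18 hM hx _ _ (row_single T v _ hz hp) (col_single T v _ hz hq)
        ![21, 32, 13, 46, 6, 65, 31] (by decide +kernel)).elim
    · exact (leaf_falseP T hm2 v M18 hM hx _ _ (row_single T v _ hz hp) (col_single T v _ hz hq)
        ![21, 32, 13, 46, 6, 65, 93] (by decide +kernel)).elim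

def pc19 : Fin 6 → Fin 6 → Fin 7 → ℤ :=
  ![![![0, 0, 0, 0, 0, 0, 0], ![1, 1, 0, 0, 0, 0, 1], ![1, 0, 1, 0, 0, 0, 1], ![1, 1, 0, 1, 0, 0, 1], ![1, 0, 1, 0, 1, 0, 1], ![1, 1, 0, 1, 0, 1, 1]], ![![1, 1, 0, 0, 0, 0, 1], ![0, 0, 0, 0, 0, 0, 0], ![1, 1, 1, 0, 0, 0, 1], ![0, 1, 0, 1, 0, 0, 1], ![1, 1, 1, 0, 1, 0, 1], ![0, 1, 0, 1, 0, 1, 1]], ![![1, 0, 1, 0, 0, 0, 1], ![1, 1, 1, 0, 0, 0, 1], ![0, 0, 0, 0, 0, 0, 0], ![1, 1, 1, 1, 0, 0, 1], ![0, 0, 1, 0, 1, 0, 1], ![1, 1, 1, 1, 0, 1, 1]], ![![1, 1, 0, 1, 0, 0, 1], ![0, 1, 0, 1, 0, 0, 1], ![1, 1, 1, 1, 0, 0, 1], ![0, 0, 0, 0, 0, 0, 0], ![1, 1, 1, 1, 1, 0, 1], ![0, 0, 0, 1, 0, 1, 1]], ![![1, 0, 1, 0, 1, 0, 1], ![1, 1, 1, 0, 1, 0, 1], ![0, 0, 1, 0, 1, 0, 1], ![1, 1, 1, 1, 1, 0, 1], ![0, 0, 0, 0, 0, 0, 0], ![1, 1, 1, 1, 1, 1, 1]], ![![1, 1, 0, 1, 0, 1, 1], ![0, 1, 0, 1, 0, 1, 1], ![1, 1, 1, 1, 0, 1, 1], ![0, 0,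 0, 1, 0, 1, 1], ![1, 1, 1, 1, 1, 1, 1], ![0, 0, 0, 0, 0, 0, 0]]]

theorem st19 (T : Models.NumericalType 9) (hm2 : ∀ i, T.IsMinusTwo i)
    (v : Fin 6 ↪ Fin 9) (hM : Knows T v M19) : Result T := by
  obtain ⟨x, hx, hcase⟩ := step_unique T hm2 v M19 hM (by norm_num) (by norm_num)
    (fun _ _ => false) pc19 (by decide +kernel)
    (fun _ _ _ h => (Bool.false_ne_true h).elim)
  rcases hcase with ⟨i, hi, hz⟩ | ⟨i, l, hex, -⟩
  swap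
  · exact (Bool.false_ne_true hex).elim
  have hne := ne_of_not_range v hx i
  fin_cases i
  · rcases pair5 T (by norm_num) hm2 hne hi with
      ⟨hp, hq⟩ | ⟨hp, hq⟩ | ⟨hp, hq⟩ | ⟨hp, hq⟩ | ⟨hp, hq⟩
    · exact (leaf_falseP T hm2 v M19 hM hx _ _ (row_single T v _ hz hp) (col_single T v _ hz hq)
        ![48, 43, 31, 41, 15, 20, 23] (by decide +kernel)).elim
    · exact (leaf_falseP T hm2 v M19 hM hx _ _ (row_single T v _ hz hp) (col_single T v _ hz hq)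
        ![16, 11, 9, 9, 4, 4, 7] (by decide +kernel)).elim
    · exact (leaf_falseP T hm2 v M19 hM hx _ _ (row_single T v _ hz hp) (col_single T v _ hz hq)
        ![16, 11, 9, 9, 4, 4, 15] (by decide +kernel)).elim
    · exact (leaf_falseP T hm2 v M19 hM hx _ _ (row_single T v _ hz hp) (col_single T v _ hz hq)
        ![18, 11, 10, 7, 4, 3, 8] (by decide +kernel)).elim
    · exact (leaf_falseP T hm2 v M19 hM hx _ _ (row_single T v _ hz hp) (col_single T v _ hz hq)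
        ![18, 11, 10, 7, 4, 3, 23] (by decide +kernel)).elim
  · rcases pair5 T (by norm_num) hm2 hne hi with
      ⟨hp, hq⟩ | ⟨hp, hq⟩ | ⟨hp, hq⟩ | ⟨hp, hq⟩ | ⟨hp, hq⟩
    · exact (leaf_falseP T hm2 v M19 hM hx _ _ (row_single T v _ hz hp) (col_single T v _ hz hq)
        ![30, 43, 19, 39, 9, 19, 21] (by decide +kernel)).elim
    · exact (leaf_falseP T hm2 v M19 hM hx _ _ (row_single T v _ hz hp) (col_single T v _ hz hq)
        ![12, 20, 7, 15, 3, 7, 9] (by decide +kernel)).elim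
    · exact (leaf_falseP T hm2 v M19 hM hx _ _ (row_single T v _ hz hp) (col_single T v _ hz hq)
        ![12, 20, 7, 15, 3, 7, 18] (by decide +kernel)).elim
    · exact (leaf_falseP T hm2 v M19 hM hx _ _ (row_single T v _ hz hp) (col_single T v _ hz hq)
        ![10, 18, 5, 12, 2, 5, 8] (by decide +kernel)).elim
    · exact (leaf_falseP T hm2 v M19 hM hx _ _ (row_single T v _ hz hp) (col_single T v _ hz hq)
        ![10, 18, 5, 12, 2, 5, 23] (by decide +kernel)).elim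
  · rcases pair5 T (by norm_num) hm2 hne hi with
      ⟨hp, hq⟩ | ⟨hp, hq⟩ | ⟨hp, hq⟩ | ⟨hp, hq⟩ | ⟨hp, hq⟩
    · exact (leaf_falseP T hm2 v M19 hM hx _ _ (row_single T v _ hz hp) (col_single T v _ hz hq)
        ![2, 2, 2, 2, 1, 1, 1] (by decide +kernel)).elim
    · exact (leaf_falseP T hm2 v M19 hM hx _ _ (row_single T v _ hz hp) (col_single T v _ hz hq)
        ![17, 13, 23, 11, 11, 5, 11] (by decide +kernel)).elim
    · exact (leaf_falseP T hm2 v M19 hM hx _ _ (row_single T v _ hz hp) (col_single T v _ hz hq)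
        ![17, 13, 23, 11, 11, 5, 21] (by decide +kernel)).elim
    · exact (leaf_falseP T hm2 v M19 hM hx _ _ (row_single T v _ hz hp) (col_single T v _ hz hq)
        ![11, 7, 19, 5, 8, 2, 8] (by decide +kernel)).elim
    · exact (leaf_falseP T hm2 v M19 hM hx _ _ (row_single T v _ hz hp) (col_single T v _ hz hq)
        ![11, 7, 19, 5, 8, 2, 24] (by decide +kernel)).elim
  · rcases pair5 T (by norm_num) hm2 hne hi with
      ⟨hp, hq⟩ | ⟨hp, hq⟩ | ⟨hp, hq⟩ | ⟨hp, hq⟩ | ⟨hp, hq⟩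
    · exact (leaf_falseP T hm2 v M19 hM hx _ _ (row_single T v _ hz hp) (col_single T v _ hz hq)
        ![21, 31, 13, 45, 6, 21, 21] (by decide +kernel)).elim
    · exact (leaf_falseP T hm2 v M19 hM hx _ _ (row_single T v _ hz hp) (col_single T v _ hz hq)
        ![9, 15, 5, 27, 2, 12, 12] (by decide +kernel)).elim
    · exact (leaf_falseP T hm2 v M19 hM hx _ _ (row_single T v _ hz hp) (col_single T v _ hz hq)
        ![9, 15, 5, 27, 2, 12, 23] (by decide +kernel)).elim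
    · exact (leaf_falseP T hm2 v M19 hM hx _ _ (row_single T v _ hz hp) (col_single T v _ hz hq)
        ![10, 21, 5, 43, 2, 17, 17] (by decide +kernel)).elim
    · exact (leaf_falseP T hm2 v M19 hM hx _ _ (row_single T v _ hz hp) (col_single T v _ hz hq)
        ![10, 21, 5, 43, 2, 17, 51] (by decide +kernel)).elim
  · rcases pair5 T (by norm_num) hm2 hne hi with
      ⟨hp, hq⟩ | ⟨hp, hq⟩ | ⟨hp, hq⟩ | ⟨hp, hq⟩ | ⟨hp, hq⟩
    · exact leaf_next T hm2 v M19 hM hx _ _ (row_single T v _ hz hp) (col_single T v _ hz hq)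
        ![0, 2, 1, 4, 3, 6, 5] M24 (by decide +kernel) (st24 T hm2)
    · exact (leaf_falseP T hm2 v M19 hM hx _ _ (row_single T v _ hz hp) (col_single T v _ hz hq)
        ![2, 2, 2, 2, 2, 1, 1] (by decide +kernel)).elim
    · exact (leaf_falseP T hm2 v M19 hM hx _ _ (row_single T v _ hz hp) (col_single T v _ hz hq)
        ![2, 2, 2, 2, 2, 1, 2] (by decide +kernel)).elim
    · exact (leaf_falseP T hm2 v M19 hM hx _ _ (row_single T v _ hz hp) (col_single T v _ hz hq)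
        ![16, 13, 22, 11, 31, 5, 14] (by decide +kernel)).elim
    · exact (leaf_falseP T hm2 v M19 hM hx _ _ (row_single T v _ hz hp) (col_single T v _ hz hq)
        ![16, 13, 22, 11, 31, 5, 43] (by decide +kernel)).elim
  · rcases pair5 T (by norm_num) hm2 hne hi with
      ⟨hp, hq⟩ | ⟨hp, hq⟩ | ⟨hp, hq⟩ | ⟨hp, hq⟩ | ⟨hp, hq⟩
    · exact (leaf_falseP T hm2 v M19 hM hx _ _ (row_single T v _ hz hp) (col_single T v _ hz hq)
        ![48, 66, 31, 88, 15, 57, 28] (by decide +kernel)).elim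
    · exact (leaf_falseP T hm2 v M19 hM hx _ _ (row_single T v _ hz hp) (col_single T v _ hz hq)
        ![15, 25, 9, 39, 4, 30, 14] (by decide +kernel)).elim
    · exact (leaf_falseP T hm2 v M19 hM hx _ _ (row_single T v _ hz hp) (col_single T v _ hz hq)
        ![15, 25, 9, 39, 4, 30, 28] (by decide +kernel)).elim
    · exact (leaf_falseP T hm2 v M19 hM hx _ _ (row_single T v _ hz hp) (col_single T v _ hz hq)
        ![9, 17, 5, 31, 2, 28, 12] (by decide +kernel)).elim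
    · exact (leaf_falseP T hm2 v M19 hM hx _ _ (row_single T v _ hz hp) (col_single T v _ hz hq)
        ![9, 17, 5, 31, 2, 28, 36] (by decide +kernel)).elim

def pc20 : Fin 6 → Fin 6 → Fin 7 → ℤ :=
  ![![![0, 0, 0, 0, 0, 0, 0], ![1, 1, 0, 0, 0, 0, 1], ![1, 0, 1, 0, 0, 0, 1], ![1, 1, 0, 1, 0, 0, 1], ![1, 0, 1, 0, 1, 0, 1], ![1, 1, 0, 1, 0, 1, 1]], ![![1, 1, 0, 0, 0, 0, 1], ![0, 0, 0, 0, 0, 0, 0], ![1, 1, 1, 0, 0, 0, 1], ![0, 1, 0, 1, 0, 0, 1], ![1, 1, 1, 0, 1, 0, 1], ![0, 1, 0, 1, 0, 1, 1]], ![![1, 0, 1, 0, 0, 0, 1], ![1, 1, 1, 0, 0, 0, 1], ![0, 0, 0, 0, 0, 0, 0], ![1, 1, 1, 1, 0, 0, 1], ![0, 0, 1, 0, 1, 0, 1], ![1, 1, 1, 1, 0, 1, 1]], ![![1, 1, 0, 1, 0, 0, 1], ![0, 1, 0, 1, 0, 0, 1], ![1, 1, 1, 1, 0, 0, 1], ![0, 0, 0, 0, 0, 0, 0], ![1, 1, 1, 1, 1, 0, 1], ![0, 0, 0, 1, 0, 1, 1]], ![![1, 0, 1, 0, 1, 0, 1], ![1, 1, 1, 0, 1, 0, 1], ![0, 0, 1, 0, 1, 0,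 1], ![1, 1, 1, 1, 1, 0, 1], ![0, 0, 0, 0, 0, 0, 0], ![1, 1, 1, 1, 1, 1, 1]], ![![1, 1, 0, 1, 0, 1, 1], ![0, 1, 0, 1, 0, 1, 1], ![1, 1, 1, 1, 0, 1, 1], ![0, 0, 0, 1, 0, 1, 1], ![1, 1, 1, 1, 1, 1, 1], ![0, 0, 0, 0, 0, 0, 0]]]

theorem st20 (T : Models.NumericalType 9) (hm2 : ∀ i, T.IsMinusTwo i)
    (v : Fin 6 ↪ Fin 9) (hM : Knows T v M20) : Result T := by
  obtain ⟨x, hx, hcase⟩ := step_unique T hm2 v M20 hM (by norm_num) (by norm_num)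
    (fun _ _ => false) pc20 (by decide +kernel)
    (fun _ _ _ h => (Bool.false_ne_true h).elim)
  rcases hcase with ⟨i, hi, hz⟩ | ⟨i, l, hex, -⟩
  swap
  · exact (Bool.false_ne_true hex).elim
  have hne := ne_of_not_range v hx i
  fin_cases i
  · rcases pair5 T (by norm_num) hm2 hne hi with
      ⟨hp, hq⟩ | ⟨hp, hq⟩ | ⟨hp, hq⟩ | ⟨hp, hq⟩ | ⟨hp, hq⟩
    · exact (leaf_falseP T hm2 v M20 hM hx _ _ (row_single T v _ hz hp) (col_single T v _ hz hq)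
        ![48, 43, 31, 41, 15, 40, 23] (by decide +kernel)).elim
    · exact (leaf_falseP T hm2 v M20 hM hx _ _ (row_single T v _ hz hp) (col_single T v _ hz hq)
        ![19, 13, 11, 11, 5, 10, 9] (by decide +kernel)).elim
    · exact (leaf_falseP T hm2 v M20 hM hx _ _ (row_single T v _ hz hp) (col_single T v _ hz hq)
        ![19, 13, 11, 11, 5, 10, 17] (by decide +kernel)).elim
    · exact (leaf_falseP T hm2 v M20 hM hx _ _ (row_single T v _ hz hp) (col_single T v _ hz hq)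
        ![14, 8, 7, 5, 3, 4, 6] (by decide +kernel)).elim
    · exact (leaf_falseP T hm2 v M20 hM hx _ _ (row_single T v _ hz hp) (col_single T v _ hz hq)
        ![14, 8, 7, 5, 3, 4, 17] (by decide +kernel)).elim
  · rcases pair5 T (by norm_num) hm2 hne hi with
      ⟨hp, hq⟩ | ⟨hp, hq⟩ | ⟨hp, hq⟩ | ⟨hp, hq⟩ | ⟨hp, hq⟩
    · exact (leaf_falseP T hm2 v M20 hM hx _ _ (row_single T v _ hz hp) (col_single T v _ hz hq)
        ![30, 43, 19, 39, 9, 37, 21] (by decide +kernel)).elim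
    · exact (leaf_falseP T hm2 v M20 hM hx _ _ (row_single T v _ hz hp) (col_single T v _ hz hq)
        ![12, 20, 7, 15, 3, 13, 9] (by decide +kernel)).elim
    · exact (leaf_falseP T hm2 v M20 hM hx _ _ (row_single T v _ hz hp) (col_single T v _ hz hq)
        ![12, 20, 7, 15, 3, 13, 18] (by decide +kernel)).elim
    · exact (leaf_falseP T hm2 v M20 hM hx _ _ (row_single T v _ hz hp) (col_single T v _ hz hq)
        ![10, 18, 5, 12, 2, 10, 8] (by decide +kernel)).elim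
    · exact (leaf_falseP T hm2 v M20 hM hx _ _ (row_single T v _ hz hp) (col_single T v _ hz hq)
        ![10, 18, 5, 12, 2, 10, 23] (by decide +kernel)).elim
  · rcases pair5 T (by norm_num) hm2 hne hi with
      ⟨hp, hq⟩ | ⟨hp, hq⟩ | ⟨hp, hq⟩ | ⟨hp, hq⟩ | ⟨hp, hq⟩
    · exact (leaf_falseP T hm2 v M20 hM hx _ _ (row_single T v _ hz hp) (col_single T v _ hz hq)
        ![2, 2, 2, 2, 1, 2, 1] (by decide +kernel)).elim
    · exact (leaf_falseP T hm2 v M20 hM hx _ _ (row_single T v _ hz hp) (col_single T v _ hz hq)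
        ![15, 12, 21, 10, 10, 9, 10] (by decide +kernel)).elim
    · exact (leaf_falseP T hm2 v M20 hM hx _ _ (row_single T v _ hz hp) (col_single T v _ hz hq)
        ![15, 12, 21, 10, 10, 9, 19] (by decide +kernel)).elim
    · exact (leaf_falseP T hm2 v M20 hM hx _ _ (row_single T v _ hz hp) (col_single T v _ hz hq)
        ![11, 7, 19, 5, 8, 4, 8] (by decide +kernel)).elim
    · exact (leaf_falseP T hm2 v M20 hM hx _ _ (row_single T v _ hz hp) (col_single T v _ hz hq)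
        ![11, 7, 19, 5, 8, 4, 24] (by decide +kernel)).elim
  · rcases pair5 T (by norm_num) hm2 hne hi with
      ⟨hp, hq⟩ | ⟨hp, hq⟩ | ⟨hp, hq⟩ | ⟨hp, hq⟩ | ⟨hp, hq⟩
    · exact (leaf_falseP T hm2 v M20 hM hx _ _ (row_single T v _ hz hp) (col_single T v _ hz hq)
        ![21, 31, 13, 45, 6, 43, 21] (by decide +kernel)).elim
    · exact (leaf_falseP T hm2 v M20 hM hx _ _ (row_single T v _ hz hp) (col_single T v _ hz hq)
        ![9, 15, 5, 27, 2, 23, 12] (by decide +kernel)).elim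
    · exact (leaf_falseP T hm2 v M20 hM hx _ _ (row_single T v _ hz hp) (col_single T v _ hz hq)
        ![9, 15, 5, 27, 2, 23, 23] (by decide +kernel)).elim
    · exact (leaf_falseP T hm2 v M20 hM hx _ _ (row_single T v _ hz hp) (col_single T v _ hz hq)
        ![10, 21, 5, 43, 2, 34, 17] (by decide +kernel)).elim
    · exact (leaf_falseP T hm2 v M20 hM hx _ _ (row_single T v _ hz hp) (col_single T v _ hz hq)
        ![10, 21, 5, 43, 2, 34, 51] (by decide +kernel)).elim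
  · rcases pair5 T (by norm_num) hm2 hne hi with
      ⟨hp, hq⟩ | ⟨hp, hq⟩ | ⟨hp, hq⟩ | ⟨hp, hq⟩ | ⟨hp, hq⟩
    · exact leaf_next T hm2 v M20 hM hx _ _ (row_single T v _ hz hp) (col_single T v _ hz hq)
        ![0, 2, 1, 4, 3, 6, 5] M25 (by decide +kernel) (st25 T hm2)
    · exact (leaf_falseP T hm2 v M20 hM hx _ _ (row_single T v _ hz hp) (col_single T v _ hz hq)
        ![2, 2, 2, 2, 2, 2, 1] (by decide +kernel)).elim
    · exact (leaf_falseP T hm2 v M20 hM hx _ _ (row_single T v _ hz hp) (col_single T v _ hz hq)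
        ![1, 1, 1, 1, 1, 1, 1] (by decide +kernel)).elim
    · exact (leaf_falseP T hm2 v M20 hM hx _ _ (row_single T v _ hz hp) (col_single T v _ hz hq)
        ![16, 13, 22, 11, 31, 10, 14] (by decide +kernel)).elim
    · exact (leaf_falseP T hm2 v M20 hM hx _ _ (row_single T v _ hz hp) (col_single T v _ hz hq)
        ![16, 13, 22, 11, 31, 10, 43] (by decide +kernel)).elim
  · rcases pair5 T (by norm_num) hm2 hne hi with
      ⟨hp, hq⟩ | ⟨hp, hq⟩ | ⟨hp, hq⟩ | ⟨hp, hq⟩ | ⟨hp, hq⟩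
    · exact (leaf_falseP T hm2 v M20 hM hx _ _ (row_single T v _ hz hp) (col_single T v _ hz hq)
        ![48, 66, 31, 88, 15, 114, 56] (by decide +kernel)).elim
    · exact (leaf_falseP T hm2 v M20 hM hx _ _ (row_single T v _ hz hp) (col_single T v _ hz hq)
        ![15, 25, 9, 39, 4, 61, 28] (by decide +kernel)).elim
    · exact (leaf_falseP T hm2 v M20 hM hx _ _ (row_single T v _ hz hp) (col_single T v _ hz hq)
        ![15, 25, 9, 39, 4, 61, 55] (by decide +kernel)).elim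
    · exact (leaf_falseP T hm2 v M20 hM hx _ _ (row_single T v _ hz hp) (col_single T v _ hz hq)
        ![9, 17, 5, 31, 2, 57, 24] (by decide +kernel)).elim
    · exact (leaf_falseP T hm2 v M20 hM hx _ _ (row_single T v _ hz hp) (col_single T v _ hz hq)
        ![9, 17, 5, 31, 2, 57, 72] (by decide +kernel)).elim

def pc12 : Fin 5 → Fin 5 → Fin 6 → ℤ :=
  ![![![0, 0, 0, 0, 0, 0], ![1, 1, 0, 0, 0, 1], ![1, 0, 1, 0, 0, 1], ![1, 0, 0, 1, 0, 1], ![1, 1, 0, 0, 1, 1]], ![![1, 1, 0, 0, 0, 1], ![0, 0, 0, 0, 0, 0], ![1, 1, 1, 0, 0, 1], ![1, 1, 0, 1, 0, 1], ![0, 1, 0, 0, 1, 1]], ![![1, 0, 1, 0, 0, 1], ![1, 1, 1, 0, 0, 1], ![0, 0, 0, 0, 0, 0], ![1, 0, 1, 1, 0, 1], ![1, 1, 1, 0, 1, 1]], ![![1, 0, 0, 1, 0, 1], ![1, 1, 0, 1, 0, 1], ![1, 0, 1, 1, 0, 1], ![0, 0, 0, 0, 0, 0], ![1, 1, 0, 1, 1, 1]], ![![1, 1, 0, 0, 1, 1], ![0, 1, 0, 0, 1, 1], ![1, 1, 1, 0, 1, 1], ![1,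 1, 0, 1, 1, 1], ![0, 0, 0, 0, 0, 0]]]

theorem st12 (T : Models.NumericalType 9) (hm2 : ∀ i, T.IsMinusTwo i)
    (v : Fin 5 ↪ Fin 9) (hM : Knows T v M12) : Result T := by
  obtain ⟨x, hx, hcase⟩ := step_unique T hm2 v M12 hM (by norm_num) (by norm_num)
    (fun _ _ => false) pc12 (by decide +kernel)
    (fun _ _ _ h => (Bool.false_ne_true h).elim)
  rcases hcase with ⟨i, hi, hz⟩ | ⟨i, l, hex, -⟩
  swap
  · exact (Bool.false_ne_true hex).elim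
  have hne := ne_of_not_range v hx i
  fin_cases i
  · rcases pair5 T (by norm_num) hm2 hne hi with
      ⟨hp, hq⟩ | ⟨hp, hq⟩ | ⟨hp, hq⟩ | ⟨hp, hq⟩ | ⟨hp, hq⟩
    · exact (leaf_falseP T hm2 v M12 hM hx _ _ (row_single T v _ hz hp) (col_single T v _ hz hq)
        ![30, 19, 14, 14, 9, 14] (by decide +kernel)).elim
    · exact (leaf_falseP T hm2 v M12 hM hx _ _ (row_single T v _ hz hp) (col_single T v _ hz hq)
        ![13, 7, 6, 6, 3, 6] (by decide +kernel)).elim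
    · exact (leaf_falseP T hm2 v M12 hM hx _ _ (row_single T v _ hz hp) (col_single T v _ hz hq)
        ![13, 7, 6, 6, 3, 11] (by decide +kernel)).elim
    · exact (leaf_falseP T hm2 v M12 hM hx _ _ (row_single T v _ hz hp) (col_single T v _ hz hq)
        ![10, 5, 4, 4, 2, 4] (by decide +kernel)).elim
    · exact (leaf_falseP T hm2 v M12 hM hx _ _ (row_single T v _ hz hp) (col_single T v _ hz hq)
        ![10, 5, 4, 4, 2, 13] (by decide +kernel)).elim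
  · rcases pair5 T (by norm_num) hm2 hne hi with
      ⟨hp, hq⟩ | ⟨hp, hq⟩ | ⟨hp, hq⟩ | ⟨hp, hq⟩ | ⟨hp, hq⟩
    · exact (leaf_falseP T hm2 v M12 hM hx _ _ (row_single T v _ hz hp) (col_single T v _ hz hq)
        ![2, 2, 1, 1, 1, 1] (by decide +kernel)).elim
    · exact (leaf_falseP T hm2 v M12 hM hx _ _ (row_single T v _ hz hp) (col_single T v _ hz hq)
        ![9, 11, 4, 4, 5, 5] (by decide +kernel)).elim
    · exact (leaf_falseP T hm2 v M12 hM hx _ _ (row_single T v _ hz hp) (col_single T v _ hz hq)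
        ![9, 11, 4, 4, 5, 10] (by decide +kernel)).elim
    · exact (leaf_falseP T hm2 v M12 hM hx _ _ (row_single T v _ hz hp) (col_single T v _ hz hq)
        ![5, 7, 2, 2, 3, 3] (by decide +kernel)).elim
    · exact (leaf_falseP T hm2 v M12 hM hx _ _ (row_single T v _ hz hp) (col_single T v _ hz hq)
        ![5, 7, 2, 2, 3, 9] (by decide +kernel)).elim
  · rcases pair5 T (by norm_num) hm2 hne hi with
      ⟨hp, hq⟩ | ⟨hp, hq⟩ | ⟨hp, hq⟩ | ⟨hp, hq⟩ | ⟨hp, hq⟩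
    · exact leaf_next T hm2 v M12 hM hx _ _ (row_single T v _ hz hp) (col_single T v _ hz hq)
        ![0, 1, 2, 3, 4, 5] M16 (by decide +kernel) (st16 T hm2)
    · exact (leaf_falseP T hm2 v M12 hM hx _ _ (row_single T v _ hz hp) (col_single T v _ hz hq)
        ![39, 25, 36, 19, 12, 17] (by decide +kernel)).elim
    · exact (leaf_falseP T hm2 v M12 hM hx _ _ (row_single T v _ hz hp) (col_single T v _ hz hq)
        ![39, 25, 36, 19, 12, 35] (by decide +kernel)).elim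
    · exact (leaf_falseP T hm2 v M12 hM hx _ _ (row_single T v _ hz hp) (col_single T v _ hz hq)
        ![12, 7, 14, 5, 3, 6] (by decide +kernel)).elim
    · exact (leaf_falseP T hm2 v M12 hM hx _ _ (row_single T v _ hz hp) (col_single T v _ hz hq)
        ![12, 7, 14, 5, 3, 19] (by decide +kernel)).elim
  · rcases pair5 T (by norm_num) hm2 hne hi with
      ⟨hp, hq⟩ | ⟨hp, hq⟩ | ⟨hp, hq⟩ | ⟨hp, hq⟩ | ⟨hp, hq⟩
    · exact leaf_next T hm2 v M12 hM hx _ _ (row_single T v _ hz hp) (col_single T v _ hz hq)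
        ![0, 1, 3, 2, 4, 5] M16 (by decide +kernel) (st16 T hm2)
    · exact (leaf_falseP T hm2 v M12 hM hx _ _ (row_single T v _ hz hp) (col_single T v _ hz hq)
        ![39, 25, 19, 36, 12, 17] (by decide +kernel)).elim
    · exact (leaf_falseP T hm2 v M12 hM hx _ _ (row_single T v _ hz hp) (col_single T v _ hz hq)
        ![39, 25, 19, 36, 12, 35] (by decide +kernel)).elim
    · exact (leaf_falseP T hm2 v M12 hM hx _ _ (row_single T v _ hz hp) (col_single T v _ hz hq)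
        ![12, 7, 5, 14, 3, 6] (by decide +kernel)).elim
    · exact (leaf_falseP T hm2 v M12 hM hx _ _ (row_single T v _ hz hp) (col_single T v _ hz hq)
        ![12, 7, 5, 14, 3, 19] (by decide +kernel)).elim
  · rcases pair5 T (by norm_num) hm2 hne hi with
      ⟨hp, hq⟩ | ⟨hp, hq⟩ | ⟨hp, hq⟩ | ⟨hp, hq⟩ | ⟨hp, hq⟩
    · exact leaf_next T hm2 v M12 hM hx _ _ (row_single T v _ hz hp) (col_single T v _ hz hq)
        ![0, 1, 2, 3, 4, 5] M17 (by decide +kernel) (st17 T hm2)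
    · exact (leaf_falseP T hm2 v M12 hM hx _ _ (row_single T v _ hz hp) (col_single T v _ hz hq)
        ![2, 2, 1, 1, 2, 1] (by decide +kernel)).elim
    · exact (leaf_falseP T hm2 v M12 hM hx _ _ (row_single T v _ hz hp) (col_single T v _ hz hq)
        ![2, 2, 1, 1, 2, 2] (by decide +kernel)).elim
    · exact (leaf_falseP T hm2 v M12 hM hx _ _ (row_single T v _ hz hp) (col_single T v _ hz hq)
        ![11, 13, 5, 5, 17, 8] (by decide +kernel)).elim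
    · exact (leaf_falseP T hm2 v M12 hM hx _ _ (row_single T v _ hz hp) (col_single T v _ hz hq)
        ![11, 13, 5, 5, 17, 24] (by decide +kernel)).elim

def pc13 : Fin 5 → Fin 5 → Fin 6 → ℤ :=
  ![![![0, 0, 0, 0, 0, 0], ![1, 1, 0, 0, 0, 1], ![1, 0, 1, 0, 0, 1], ![1, 1, 0, 1, 0, 1], ![1, 0, 1, 0, 1, 1]], ![![1, 1, 0, 0, 0, 1], ![0, 0, 0, 0, 0, 0], ![1, 1, 1, 0, 0, 1], ![0, 1, 0, 1, 0, 1], ![1, 1, 1, 0, 1, 1]], ![![1, 0, 1, 0, 0, 1], ![1, 1, 1, 0, 0, 1], ![0, 0, 0, 0, 0, 0], ![1, 1, 1, 1, 0, 1], ![0, 0, 1, 0, 1, 1]], ![![1, 1, 0, 1, 0, 1], ![0, 1, 0, 1, 0, 1], ![1, 1, 1, 1, 0, 1], ![0, 0, 0, 0, 0, 0], ![1, 1, 1, 1, 1, 1]], ![![1, 0, 1, 0, 1, 1], ![1, 1, 1, 0, 1, 1], ![0, 0, 1, 0, 1, 1], ![1, 1, 1, 1, 1, 1], ![0, 0, 0, 0, 0, 0]]]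

theorem st13 (T : Models.NumericalType 9) (hm2 : ∀ i, T.IsMinusTwo i)
    (v : Fin 5 ↪ Fin 9) (hM : Knows T v M13) : Result T := by
  obtain ⟨x, hx, hcase⟩ := step_unique T hm2 v M13 hM (by norm_num) (by norm_num)
    (fun _ _ => false) pc13 (by decide +kernel)
    (fun _ _ _ h => (Bool.false_ne_true h).elim)
  rcases hcase with ⟨i, hi, hz⟩ | ⟨i, l, hex, -⟩
  swap
  · exact (Bool.false_ne_true hex).elim
  have hne := ne_of_not_range v hx i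
  fin_cases i
  · rcases pair5 T (by norm_num) hm2 hne hi with
      ⟨hp, hq⟩ | ⟨hp, hq⟩ | ⟨hp, hq⟩ | ⟨hp, hq⟩ | ⟨hp, hq⟩
    · exact leaf_next T hm2 v M13 hM hx _ _ (row_single T v _ hz hp) (col_single T v _ hz hq)
        ![0, 1, 2, 5, 3, 4] M16 (by decide +kernel) (st16 T hm2)
    · exact (leaf_falseP T hm2 v M13 hM hx _ _ (row_single T v _ hz hp) (col_single T v _ hz hq)
        ![18, 11, 11, 5, 5, 8] (by decide +kernel)).elim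
    · exact (leaf_falseP T hm2 v M13 hM hx _ _ (row_single T v _ hz hp) (col_single T v _ hz hq)
        ![18, 11, 11, 5, 5, 17] (by decide +kernel)).elim
    · exact (leaf_falseP T hm2 v M13 hM hx _ _ (row_single T v _ hz hp) (col_single T v _ hz hq)
        ![9, 5, 5, 2, 2, 4] (by decide +kernel)).elim
    · exact (leaf_falseP T hm2 v M13 hM hx _ _ (row_single T v _ hz hp) (col_single T v _ hz hq)
        ![9, 5, 5, 2, 2, 11] (by decide +kernel)).elim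
  · rcases pair5 T (by norm_num) hm2 hne hi with
      ⟨hp, hq⟩ | ⟨hp, hq⟩ | ⟨hp, hq⟩ | ⟨hp, hq⟩ | ⟨hp, hq⟩
    · exact leaf_next T hm2 v M13 hM hx _ _ (row_single T v _ hz hp) (col_single T v _ hz hq)
        ![1, 0, 3, 5, 2, 4] M17 (by decide +kernel) (st17 T hm2)
    · exact (leaf_falseP T hm2 v M13 hM hx _ _ (row_single T v _ hz hp) (col_single T v _ hz hq)
        ![24, 36, 15, 17, 7, 17] (by decide +kernel)).elim
    · exact (leaf_falseP T hm2 v M13 hM hx _ _ (row_single T v _ hz hp) (col_single T v _ hz hq)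
        ![24, 36, 15, 17, 7, 34] (by decide +kernel)).elim
    · exact (leaf_falseP T hm2 v M13 hM hx _ _ (row_single T v _ hz hp) (col_single T v _ hz hq)
        ![9, 15, 5, 7, 2, 7] (by decide +kernel)).elim
    · exact (leaf_falseP T hm2 v M13 hM hx _ _ (row_single T v _ hz hp) (col_single T v _ hz hq)
        ![9, 15, 5, 7, 2, 20] (by decide +kernel)).elim
  · rcases pair5 T (by norm_num) hm2 hne hi with
      ⟨hp, hq⟩ | ⟨hp, hq⟩ | ⟨hp, hq⟩ | ⟨hp, hq⟩ | ⟨hp, hq⟩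
    · exact leaf_next T hm2 v M13 hM hx _ _ (row_single T v _ hz hp) (col_single T v _ hz hq)
        ![2, 0, 4, 5, 1, 3] M17 (by decide +kernel) (st17 T hm2)
    · exact (leaf_falseP T hm2 v M13 hM hx _ _ (row_single T v _ hz hp) (col_single T v _ hz hq)
        ![24, 15, 36, 7, 17, 17] (by decide +kernel)).elim
    · exact (leaf_falseP T hm2 v M13 hM hx _ _ (row_single T v _ hz hp) (col_single T v _ hz hq)
        ![24, 15, 36, 7, 17, 34] (by decide +kernel)).elim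
    · exact (leaf_falseP T hm2 v M13 hM hx _ _ (row_single T v _ hz hp) (col_single T v _ hz hq)
        ![9, 5, 15, 2, 7, 7] (by decide +kernel)).elim
    · exact (leaf_falseP T hm2 v M13 hM hx _ _ (row_single T v _ hz hp) (col_single T v _ hz hq)
        ![9, 5, 15, 2, 7, 20] (by decide +kernel)).elim
  · rcases pair5 T (by norm_num) hm2 hne hi with
      ⟨hp, hq⟩ | ⟨hp, hq⟩ | ⟨hp, hq⟩ | ⟨hp, hq⟩ | ⟨hp, hq⟩
    · exact leaf_next T hm2 v M13 hM hx _ _ (row_single T v _ hz hp) (col_single T v _ hz hq)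
        ![0, 1, 2, 3, 4, 5] M18 (by decide +kernel) (st18 T hm2)
    · exact leaf_next T hm2 v M13 hM hx _ _ (row_single T v _ hz hp) (col_single T v _ hz hq)
        ![0, 1, 2, 3, 4, 5] M19 (by decide +kernel) (st19 T hm2)
    · exact leaf_next T hm2 v M13 hM hx _ _ (row_single T v _ hz hp) (col_single T v _ hz hq)
        ![0, 1, 2, 3, 4, 5] M20 (by decide +kernel) (st20 T hm2)
    · exact (leaf_falseP T hm2 v M13 hM hx _ _ (row_single T v _ hz hp) (col_single T v _ hz hq)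
        ![21, 31, 13, 45, 6, 21] (by decide +kernel)).elim
    · exact (leaf_falseP T hm2 v M13 hM hx _ _ (row_single T v _ hz hp) (col_single T v _ hz hq)
        ![21, 31, 13, 45, 6, 64] (by decide +kernel)).elim
  · rcases pair5 T (by norm_num) hm2 hne hi with
      ⟨hp, hq⟩ | ⟨hp, hq⟩ | ⟨hp, hq⟩ | ⟨hp, hq⟩ | ⟨hp, hq⟩
    · exact leaf_next T hm2 v M13 hM hx _ _ (row_single T v _ hz hp) (col_single T v _ hz hq)
        ![0, 2, 1, 4, 3, 5] M18 (by decide +kernel) (st18 T hm2)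
    · exact leaf_next T hm2 v M13 hM hx _ _ (row_single T v _ hz hp) (col_single T v _ hz hq)
        ![0, 2, 1, 4, 3, 5] M19 (by decide +kernel) (st19 T hm2)
    · exact leaf_next T hm2 v M13 hM hx _ _ (row_single T v _ hz hp) (col_single T v _ hz hq)
        ![0, 2, 1, 4, 3, 5] M20 (by decide +kernel) (st20 T hm2)
    · exact (leaf_falseP T hm2 v M13 hM hx _ _ (row_single T v _ hz hp) (col_single T v _ hz hq)
        ![21, 13, 31, 6, 45, 21] (by decide +kernel)).elim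
    · exact (leaf_falseP T hm2 v M13 hM hx _ _ (row_single T v _ hz hp) (col_single T v _ hz hq)
        ![21, 13, 31, 6, 45, 64] (by decide +kernel)).elim

def pc14 : Fin 5 → Fin 5 → Fin 6 → ℤ :=
  ![![![0, 0, 0, 0, 0, 0], ![1, 1, 0, 0, 0, 1], ![1, 0, 1, 0, 0, 1], ![1, 1, 0, 1, 0, 1], ![1, 0, 1, 0, 1, 1]], ![![1, 1, 0, 0, 0, 1], ![0, 0, 0, 0, 0, 0], ![1, 1, 1, 0, 0, 1], ![0, 1, 0, 1, 0, 1], ![1, 1, 1, 0, 1, 1]], ![![1, 0, 1, 0, 0, 1], ![1, 1, 1, 0, 0, 1], ![0, 0, 0, 0, 0, 0], ![1, 1, 1, 1, 0, 1], ![0, 0, 1, 0, 1, 1]], ![![1, 1, 0, 1, 0, 1], ![0, 1, 0, 1, 0, 1], ![1, 1, 1, 1, 0, 1], ![0, 0, 0, 0, 0, 0], ![1, 1, 1, 1, 1, 1]], ![![1, 0, 1, 0, 1, 1], ![1, 1, 1, 0, 1, 1], ![0, 0, 1, 0, 1, 1], ![1, 1, 1, 1, 1, 1], ![0, 0, 0, 0, 0, 0]]]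

theorem st14 (T : Models.NumericalType 9) (hm2 : ∀ i, T.IsMinusTwo i)
    (v : Fin 5 ↪ Fin 9) (hM : Knows T v M14) : Result T := by
  obtain ⟨x, hx, hcase⟩ := step_unique T hm2 v M14 hM (by norm_num) (by norm_num)
    (fun _ _ => false) pc14 (by decide +kernel)
    (fun _ _ _ h => (Bool.false_ne_true h).elim)
  rcases hcase with ⟨i, hi, hz⟩ | ⟨i, l, hex, -⟩
  swap
  · exact (Bool.false_ne_true hex).elim
  have hne := ne_of_not_range v hx i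
  fin_cases i
  · rcases pair5 T (by norm_num) hm2 hne hi with
      ⟨hp, hq⟩ | ⟨hp, hq⟩ | ⟨hp, hq⟩ | ⟨hp, hq⟩ | ⟨hp, hq⟩
    · exact (leaf_falseP T hm2 v M14 hM hx _ _ (row_single T v _ hz hp) (col_single T v _ hz hq)
        ![39, 25, 36, 12, 17, 19] (by decide +kernel)).elim
    · exact (leaf_falseP T hm2 v M14 hM hx _ _ (row_single T v _ hz hp) (col_single T v _ hz hq)
        ![12, 7, 9, 3, 4, 5] (by decide +kernel)).elim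
    · exact (leaf_falseP T hm2 v M14 hM hx _ _ (row_single T v _ hz hp) (col_single T v _ hz hq)
        ![12, 7, 9, 3, 4, 11] (by decide +kernel)).elim
    · exact (leaf_falseP T hm2 v M14 hM hx _ _ (row_single T v _ hz hp) (col_single T v _ hz hq)
        ![14, 7, 9, 3, 4, 6] (by decide +kernel)).elim
    · exact (leaf_falseP T hm2 v M14 hM hx _ _ (row_single T v _ hz hp) (col_single T v _ hz hq)
        ![14, 7, 9, 3, 4, 18] (by decide +kernel)).elim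
  · rcases pair5 T (by norm_num) hm2 hne hi with
      ⟨hp, hq⟩ | ⟨hp, hq⟩ | ⟨hp, hq⟩ | ⟨hp, hq⟩ | ⟨hp, hq⟩
    · exact (leaf_falseP T hm2 v M14 hM hx _ _ (row_single T v _ hz hp) (col_single T v _ hz hq)
        ![2, 2, 2, 1, 1, 1] (by decide +kernel)).elim
    · exact (leaf_falseP T hm2 v M14 hM hx _ _ (row_single T v _ hz hp) (col_single T v _ hz hq)
        ![13, 17, 11, 8, 5, 8] (by decide +kernel)).elim
    · exact (leaf_falseP T hm2 v M14 hM hx _ _ (row_single T v _ hz hp) (col_single T v _ hz hq)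
        ![13, 17, 11, 8, 5, 16] (by decide +kernel)).elim
    · exact (leaf_falseP T hm2 v M14 hM hx _ _ (row_single T v _ hz hp) (col_single T v _ hz hq)
        ![7, 11, 5, 5, 2, 5] (by decide +kernel)).elim
    · exact (leaf_falseP T hm2 v M14 hM hx _ _ (row_single T v _ hz hp) (col_single T v _ hz hq)
        ![7, 11, 5, 5, 2, 14] (by decide +kernel)).elim
  · rcases pair5 T (by norm_num) hm2 hne hi with
      ⟨hp, hq⟩ | ⟨hp, hq⟩ | ⟨hp, hq⟩ | ⟨hp, hq⟩ | ⟨hp, hq⟩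
    · exact (leaf_falseP T hm2 v M14 hM hx _ _ (row_single T v _ hz hp) (col_single T v _ hz hq)
        ![24, 15, 36, 7, 17, 17] (by decide +kernel)).elim
    · exact (leaf_falseP T hm2 v M14 hM hx _ _ (row_single T v _ hz hp) (col_single T v _ hz hq)
        ![9, 5, 15, 2, 7, 7] (by decide +kernel)).elim
    · exact (leaf_falseP T hm2 v M14 hM hx _ _ (row_single T v _ hz hp) (col_single T v _ hz hq)
        ![9, 5, 15, 2, 7, 13] (by decide +kernel)).elim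
    · exact (leaf_falseP T hm2 v M14 hM hx _ _ (row_single T v _ hz hp) (col_single T v _ hz hq)
        ![10, 5, 21, 2, 8, 8] (by decide +kernel)).elim
    · exact (leaf_falseP T hm2 v M14 hM hx _ _ (row_single T v _ hz hp) (col_single T v _ hz hq)
        ![10, 5, 21, 2, 8, 25] (by decide +kernel)).elim
  · rcases pair5 T (by norm_num) hm2 hne hi with
      ⟨hp, hq⟩ | ⟨hp, hq⟩ | ⟨hp, hq⟩ | ⟨hp, hq⟩ | ⟨hp, hq⟩
    · exact leaf_next T hm2 v M14 hM hx _ _ (row_single T v _ hz hp) (col_single T v _ hz hq)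
        ![1, 0, 3, 2, 5, 4] M19 (by decide +kernel) (st19 T hm2)
    · exact (leaf_falseP T hm2 v M14 hM hx _ _ (row_single T v _ hz hp) (col_single T v _ hz hq)
        ![2, 2, 2, 2, 1, 1] (by decide +kernel)).elim
    · exact (leaf_falseP T hm2 v M14 hM hx _ _ (row_single T v _ hz hp) (col_single T v _ hz hq)
        ![2, 2, 2, 2, 1, 2] (by decide +kernel)).elim
    · exact (leaf_falseP T hm2 v M14 hM hx _ _ (row_single T v _ hz hp) (col_single T v _ hz hq)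
        ![13, 17, 11, 23, 5, 11] (by decide +kernel)).elim
    · exact (leaf_falseP T hm2 v M14 hM hx _ _ (row_single T v _ hz hp) (col_single T v _ hz hq)
        ![13, 17, 11, 23, 5, 32] (by decide +kernel)).elim
  · rcases pair5 T (by norm_num) hm2 hne hi with
      ⟨hp, hq⟩ | ⟨hp, hq⟩ | ⟨hp, hq⟩ | ⟨hp, hq⟩ | ⟨hp, hq⟩
    · exact (leaf_falseP T hm2 v M14 hM hx _ _ (row_single T v _ hz hp) (col_single T v _ hz hq)
        ![69, 45, 94, 22, 61, 30] (by decide +kernel)).elim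
    · exact (leaf_falseP T hm2 v M14 hM hx _ _ (row_single T v _ hz hp) (col_single T v _ hz hq)
        ![15, 9, 24, 4, 19, 9] (by decide +kernel)).elim
    · exact (leaf_falseP T hm2 v M14 hM hx _ _ (row_single T v _ hz hp) (col_single T v _ hz hq)
        ![15, 9, 24, 4, 19, 18] (by decide +kernel)).elim
    · exact (leaf_falseP T hm2 v M14 hM hx _ _ (row_single T v _ hz hp) (col_single T v _ hz hq)
        ![9, 5, 17, 2, 15, 7] (by decide +kernel)).elim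
    · exact (leaf_falseP T hm2 v M14 hM hx _ _ (row_single T v _ hz hp) (col_single T v _ hz hq)
        ![9, 5, 17, 2, 15, 20] (by decide +kernel)).elim

def pc15 : Fin 5 → Fin 5 → Fin 6 → ℤ :=
  ![![![0, 0, 0, 0, 0, 0], ![1, 1, 0, 0, 0, 1], ![1, 0, 1, 0, 0, 1], ![1, 1, 0, 1, 0, 1], ![1, 0, 1, 0, 1, 1]], ![![1, 1, 0, 0, 0, 1], ![0, 0, 0, 0, 0, 0], ![1, 1, 1, 0, 0, 1], ![0, 1, 0, 1, 0, 1], ![1, 1, 1, 0, 1, 1]], ![![1, 0, 1, 0, 0, 1], ![1, 1, 1, 0, 0, 1], ![0, 0, 0, 0, 0, 0], ![1, 1, 1, 1, 0, 1], ![0, 0, 1, 0, 1, 1]], ![![1, 1, 0, 1, 0, 1], ![0, 1, 0, 1, 0, 1], ![1, 1, 1, 1, 0, 1], ![0, 0, 0, 0, 0, 0], ![1, 1, 1, 1, 1, 1]], ![![1, 0, 1, 0, 1, 1], ![1, 1, 1, 0, 1, 1], ![0, 0, 1, 0, 1, 1], ![1, 1, 1, 1, 1, 1], ![0, 0, 0, 0, 0, 0]]]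

theorem st15 (T : Models.NumericalType 9) (hm2 : ∀ i, T.IsMinusTwo i)
    (v : Fin 5 ↪ Fin 9) (hM : Knows T v M15) : Result T := by
  obtain ⟨x, hx, hcase⟩ := step_unique T hm2 v M15 hM (by norm_num) (by norm_num)
    (fun _ _ => false) pc15 (by decide +kernel)
    (fun _ _ _ h => (Bool.false_ne_true h).elim)
  rcases hcase with ⟨i, hi, hz⟩ | ⟨i, l, hex, -⟩
  swap
  · exact (Bool.false_ne_true hex).elim
  have hne := ne_of_not_range v hx i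
  fin_cases i
  · rcases pair5 T (by norm_num) hm2 hne hi with
      ⟨hp, hq⟩ | ⟨hp, hq⟩ | ⟨hp, hq⟩ | ⟨hp, hq⟩ | ⟨hp, hq⟩
    · exact (leaf_falseP T hm2 v M15 hM hx _ _ (row_single T v _ hz hp) (col_single T v _ hz hq)
        ![39, 25, 36, 12, 35, 19] (by decide +kernel)).elim
    · exact (leaf_falseP T hm2 v M15 hM hx _ _ (row_single T v _ hz hp) (col_single T v _ hz hq)
        ![12, 7, 9, 3, 8, 5] (by decide +kernel)).elim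
    · exact (leaf_falseP T hm2 v M15 hM hx _ _ (row_single T v _ hz hp) (col_single T v _ hz hq)
        ![12, 7, 9, 3, 8, 11] (by decide +kernel)).elim
    · exact (leaf_falseP T hm2 v M15 hM hx _ _ (row_single T v _ hz hp) (col_single T v _ hz hq)
        ![9, 5, 6, 2, 5, 4] (by decide +kernel)).elim
    · exact (leaf_falseP T hm2 v M15 hM hx _ _ (row_single T v _ hz hp) (col_single T v _ hz hq)
        ![9, 5, 6, 2, 5, 12] (by decide +kernel)).elim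
  · rcases pair5 T (by norm_num) hm2 hne hi with
      ⟨hp, hq⟩ | ⟨hp, hq⟩ | ⟨hp, hq⟩ | ⟨hp, hq⟩ | ⟨hp, hq⟩
    · exact (leaf_falseP T hm2 v M15 hM hx _ _ (row_single T v _ hz hp) (col_single T v _ hz hq)
        ![2, 2, 2, 1, 2, 1] (by decide +kernel)).elim
    · exact (leaf_falseP T hm2 v M15 hM hx _ _ (row_single T v _ hz hp) (col_single T v _ hz hq)
        ![10, 13, 8, 6, 7, 6] (by decide +kernel)).elim
    · exact (leaf_falseP T hm2 v M15 hM hx _ _ (row_single T v _ hz hp) (col_single T v _ hz hq)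
        ![10, 13, 8, 6, 7, 12] (by decide +kernel)).elim
    · exact (leaf_falseP T hm2 v M15 hM hx _ _ (row_single T v _ hz hp) (col_single T v _ hz hq)
        ![7, 11, 5, 5, 4, 5] (by decide +kernel)).elim
    · exact (leaf_falseP T hm2 v M15 hM hx _ _ (row_single T v _ hz hp) (col_single T v _ hz hq)
        ![7, 11, 5, 5, 4, 14] (by decide +kernel)).elim
  · rcases pair5 T (by norm_num) hm2 hne hi with
      ⟨hp, hq⟩ | ⟨hp, hq⟩ | ⟨hp, hq⟩ | ⟨hp, hq⟩ | ⟨hp, hq⟩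
    · exact (leaf_falseP T hm2 v M15 hM hx _ _ (row_single T v _ hz hp) (col_single T v _ hz hq)
        ![24, 15, 36, 7, 34, 17] (by decide +kernel)).elim
    · exact (leaf_falseP T hm2 v M15 hM hx _ _ (row_single T v _ hz hp) (col_single T v _ hz hq)
        ![9, 5, 15, 2, 13, 7] (by decide +kernel)).elim
    · exact (leaf_falseP T hm2 v M15 hM hx _ _ (row_single T v _ hz hp) (col_single T v _ hz hq)
        ![9, 5, 15, 2, 13, 13] (by decide +kernel)).elim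
    · exact (leaf_falseP T hm2 v M15 hM hx _ _ (row_single T v _ hz hp) (col_single T v _ hz hq)
        ![10, 5, 21, 2, 17, 8] (by decide +kernel)).elim
    · exact (leaf_falseP T hm2 v M15 hM hx _ _ (row_single T v _ hz hp) (col_single T v _ hz hq)
        ![10, 5, 21, 2, 17, 25] (by decide +kernel)).elim
  · rcases pair5 T (by norm_num) hm2 hne hi with
      ⟨hp, hq⟩ | ⟨hp, hq⟩ | ⟨hp, hq⟩ | ⟨hp, hq⟩ | ⟨hp, hq⟩
    · exact leaf_next T hm2 v M15 hM hx _ _ (row_single T v _ hz hp) (col_single T v _ hz hq)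
        ![1, 0, 3, 2, 5, 4] M20 (by decide +kernel) (st20 T hm2)
    · exact (leaf_falseP T hm2 v M15 hM hx _ _ (row_single T v _ hz hp) (col_single T v _ hz hq)
        ![2, 2, 2, 2, 2, 1] (by decide +kernel)).elim
    · exact (leaf_falseP T hm2 v M15 hM hx _ _ (row_single T v _ hz hp) (col_single T v _ hz hq)
        ![1, 1, 1, 1, 1, 1] (by decide +kernel)).elim
    · exact (leaf_falseP T hm2 v M15 hM hx _ _ (row_single T v _ hz hp) (col_single T v _ hz hq)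
        ![12, 15, 10, 21, 9, 10] (by decide +kernel)).elim
    · exact (leaf_falseP T hm2 v M15 hM hx _ _ (row_single T v _ hz hp) (col_single T v _ hz hq)
        ![12, 15, 10, 21, 9, 29] (by decide +kernel)).elim
  · rcases pair5 T (by norm_num) hm2 hne hi with
      ⟨hp, hq⟩ | ⟨hp, hq⟩ | ⟨hp, hq⟩ | ⟨hp, hq⟩ | ⟨hp, hq⟩
    · exact (leaf_falseP T hm2 v M15 hM hx _ _ (row_single T v _ hz hp) (col_single T v _ hz hq)
        ![69, 45, 94, 22, 123, 61] (by decide +kernel)).elim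
    · exact (leaf_falseP T hm2 v M15 hM hx _ _ (row_single T v _ hz hp) (col_single T v _ hz hq)
        ![15, 9, 24, 4, 38, 18] (by decide +kernel)).elim
    · exact (leaf_falseP T hm2 v M15 hM hx _ _ (row_single T v _ hz hp) (col_single T v _ hz hq)
        ![15, 9, 24, 4, 38, 35] (by decide +kernel)).elim
    · exact (leaf_falseP T hm2 v M15 hM hx _ _ (row_single T v _ hz hp) (col_single T v _ hz hq)
        ![9, 5, 17, 2, 31, 13] (by decide +kernel)).elim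
    · exact (leaf_falseP T hm2 v M15 hM hx _ _ (row_single T v _ hz hp) (col_single T v _ hz hq)
        ![9, 5, 17, 2, 31, 39] (by decide +kernel)).elim

def pc7 : Fin 4 → Fin 4 → Fin 5 → ℤ :=
  ![![![0, 0, 0, 0, 0], ![1, 1, 0, 0, 1], ![1, 0, 1, 0, 1], ![1, 0, 0, 1, 1]], ![![1, 1, 0, 0, 1], ![0, 0, 0, 0, 0], ![1, 1, 1, 0, 1], ![1, 1, 0, 1, 1]], ![![1, 0, 1, 0, 1], ![1, 1, 1, 0, 1], ![0, 0, 0, 0, 0], ![1, 0, 1, 1, 1]], ![![1, 0, 0, 1, 1], ![1, 1, 0, 1, 1], ![1, 0, 1, 1, 1], ![0, 0, 0, 0, 0]]]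

theorem st7 (T : Models.NumericalType 9) (hm2 : ∀ i, T.IsMinusTwo i)
    (v : Fin 4 ↪ Fin 9) (hM : Knows T v M7) : Result T := by
  obtain ⟨x, hx, hcase⟩ := step_unique T hm2 v M7 hM (by norm_num) (by norm_num)
    (fun _ _ => false) pc7 (by decide +kernel)
    (fun _ _ _ h => (Bool.false_ne_true h).elim)
  rcases hcase with ⟨i, hi, hz⟩ | ⟨i, l, hex, -⟩
  swap
  · exact (Bool.false_ne_true hex).elim
  have hne := ne_of_not_range v hx i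
  fin_cases i
  · rcases pair5 T (by norm_num) hm2 hne hi with
      ⟨hp, hq⟩ | ⟨hp, hq⟩ | ⟨hp, hq⟩ | ⟨hp, hq⟩ | ⟨hp, hq⟩
    · exact (leaf_falseP T hm2 v M7 hM hx _ _ (row_single T v _ hz hp) (col_single T v _ hz hq)
        ![2, 1, 1, 1, 1] (by decide +kernel)).elim
    · exact (leaf_falseP T hm2 v M7 hM hx _ _ (row_single T v _ hz hp) (col_single T v _ hz hq)
        ![7, 3, 3, 3, 3] (by decide +kernel)).elim
    · exact (leaf_falseP T hm2 v M7 hM hx _ _ (row_single T v _ hz hp) (col_single T v _ hz hq)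
        ![7, 3, 3, 3, 6] (by decide +kernel)).elim
    · exact (leaf_falseP T hm2 v M7 hM hx _ _ (row_single T v _ hz hp) (col_single T v _ hz hq)
        ![5, 2, 2, 2, 2] (by decide +kernel)).elim
    · exact (leaf_falseP T hm2 v M7 hM hx _ _ (row_single T v _ hz hp) (col_single T v _ hz hq)
        ![5, 2, 2, 2, 6] (by decide +kernel)).elim
  · rcases pair5 T (by norm_num) hm2 hne hi with
      ⟨hp, hq⟩ | ⟨hp, hq⟩ | ⟨hp, hq⟩ | ⟨hp, hq⟩ | ⟨hp, hq⟩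
    · exact leaf_next T hm2 v M7 hM hx _ _ (row_single T v _ hz hp) (col_single T v _ hz hq)
        ![0, 1, 2, 3, 4] M12 (by decide +kernel) (st12 T hm2)
    · exact (leaf_falseP T hm2 v M7 hM hx _ _ (row_single T v _ hz hp) (col_single T v _ hz hq)
        ![2, 2, 1, 1, 1] (by decide +kernel)).elim
    · exact (leaf_falseP T hm2 v M7 hM hx _ _ (row_single T v _ hz hp) (col_single T v _ hz hq)
        ![2, 2, 1, 1, 2] (by decide +kernel)).elim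
    · exact (leaf_falseP T hm2 v M7 hM hx _ _ (row_single T v _ hz hp) (col_single T v _ hz hq)
        ![9, 11, 4, 4, 5] (by decide +kernel)).elim
    · exact (leaf_falseP T hm2 v M7 hM hx _ _ (row_single T v _ hz hp) (col_single T v _ hz hq)
        ![9, 11, 4, 4, 15] (by decide +kernel)).elim
  · rcases pair5 T (by norm_num) hm2 hne hi with
      ⟨hp, hq⟩ | ⟨hp, hq⟩ | ⟨hp, hq⟩ | ⟨hp, hq⟩ | ⟨hp, hq⟩
    · exact leaf_next T hm2 v M7 hM hx _ _ (row_single T v _ hz hp) (col_single T v _ hz hq)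
        ![0, 2, 1, 3, 4] M12 (by decide +kernel) (st12 T hm2)
    · exact (leaf_falseP T hm2 v M7 hM hx _ _ (row_single T v _ hz hp) (col_single T v _ hz hq)
        ![2, 1, 2, 1, 1] (by decide +kernel)).elim
    · exact (leaf_falseP T hm2 v M7 hM hx _ _ (row_single T v _ hz hp) (col_single T v _ hz hq)
        ![2, 1, 2, 1, 2] (by decide +kernel)).elim
    · exact (leaf_falseP T hm2 v M7 hM hx _ _ (row_single T v _ hz hp) (col_single T v _ hz hq)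
        ![9, 4, 11, 4, 5] (by decide +kernel)).elim
    · exact (leaf_falseP T hm2 v M7 hM hx _ _ (row_single T v _ hz hp) (col_single T v _ hz hq)
        ![9, 4, 11, 4, 15] (by decide +kernel)).elim
  · rcases pair5 T (by norm_num) hm2 hne hi with
      ⟨hp, hq⟩ | ⟨hp, hq⟩ | ⟨hp, hq⟩ | ⟨hp, hq⟩ | ⟨hp, hq⟩
    · exact leaf_next T hm2 v M7 hM hx _ _ (row_single T v _ hz hp) (col_single T v _ hz hq)
        ![0, 3, 1, 2, 4] M12 (by decide +kernel) (st12 T hm2)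
    · exact (leaf_falseP T hm2 v M7 hM hx _ _ (row_single T v _ hz hp) (col_single T v _ hz hq)
        ![2, 1, 1, 2, 1] (by decide +kernel)).elim
    · exact (leaf_falseP T hm2 v M7 hM hx _ _ (row_single T v _ hz hp) (col_single T v _ hz hq)
        ![2, 1, 1, 2, 2] (by decide +kernel)).elim
    · exact (leaf_falseP T hm2 v M7 hM hx _ _ (row_single T v _ hz hp) (col_single T v _ hz hq)
        ![9, 4, 4, 11, 5] (by decide +kernel)).elim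
    · exact (leaf_falseP T hm2 v M7 hM hx _ _ (row_single T v _ hz hp) (col_single T v _ hz hq)
        ![9, 4, 4, 11, 15] (by decide +kernel)).elim

def pc8 : Fin 4 → Fin 4 → Fin 5 → ℤ :=
  ![![![0, 0, 0, 0, 0], ![1, 1, 0, 0, 1], ![1, 0, 1, 0, 1], ![1, 1, 0, 1, 1]], ![![1, 1, 0, 0, 1], ![0, 0, 0, 0, 0], ![1, 1, 1, 0, 1], ![0, 1, 0, 1, 1]], ![![1, 0, 1, 0, 1], ![1, 1, 1, 0, 1], ![0, 0, 0, 0, 0], ![1, 1, 1, 1, 1]], ![![1, 1, 0, 1, 1], ![0, 1, 0, 1, 1], ![1, 1, 1, 1, 1], ![0, 0, 0, 0, 0]]]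

theorem st8 (T : Models.NumericalType 9) (hm2 : ∀ i, T.IsMinusTwo i)
    (v : Fin 4 ↪ Fin 9) (hM : Knows T v M8) : Result T := by
  obtain ⟨x, hx, hcase⟩ := step_unique T hm2 v M8 hM (by norm_num) (by norm_num)
    (fun _ _ => false) pc8 (by decide +kernel)
    (fun _ _ _ h => (Bool.false_ne_true h).elim)
  rcases hcase with ⟨i, hi, hz⟩ | ⟨i, l, hex, -⟩
  swap
  · exact (Bool.false_ne_true hex).elim
  have hne := ne_of_not_range v hx i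
  fin_cases i
  · rcases pair5 T (by norm_num) hm2 hne hi with
      ⟨hp, hq⟩ | ⟨hp, hq⟩ | ⟨hp, hq⟩ | ⟨hp, hq⟩ | ⟨hp, hq⟩
    · exact leaf_next T hm2 v M8 hM hx _ _ (row_single T v _ hz hp) (col_single T v _ hz hq)
        ![0, 1, 2, 4, 3] M12 (by decide +kernel) (st12 T hm2)
    · exact (leaf_falseP T hm2 v M8 hM hx _ _ (row_single T v _ hz hp) (col_single T v _ hz hq)
        ![30, 19, 14, 9, 14] (by decide +kernel)).elim
    · exact (leaf_falseP T hm2 v M8 hM hx _ _ (row_single T v _ hz hp) (col_single T v _ hz hq)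
        ![30, 19, 14, 9, 29] (by decide +kernel)).elim
    · exact (leaf_falseP T hm2 v M8 hM hx _ _ (row_single T v _ hz hp) (col_single T v _ hz hq)
        ![13, 7, 6, 3, 6] (by decide +kernel)).elim
    · exact (leaf_falseP T hm2 v M8 hM hx _ _ (row_single T v _ hz hp) (col_single T v _ hz hq)
        ![13, 7, 6, 3, 17] (by decide +kernel)).elim
  · rcases pair5 T (by norm_num) hm2 hne hi with
      ⟨hp, hq⟩ | ⟨hp, hq⟩ | ⟨hp, hq⟩ | ⟨hp, hq⟩ | ⟨hp, hq⟩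
    · exact leaf_next T hm2 v M8 hM hx _ _ (row_single T v _ hz hp) (col_single T v _ hz hq)
        ![1, 0, 3, 4, 2] M12 (by decide +kernel) (st12 T hm2)
    · exact (leaf_falseP T hm2 v M8 hM hx _ _ (row_single T v _ hz hp) (col_single T v _ hz hq)
        ![19, 30, 9, 14, 14] (by decide +kernel)).elim
    · exact (leaf_falseP T hm2 v M8 hM hx _ _ (row_single T v _ hz hp) (col_single T v _ hz hq)
        ![19, 30, 9, 14, 29] (by decide +kernel)).elim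
    · exact (leaf_falseP T hm2 v M8 hM hx _ _ (row_single T v _ hz hp) (col_single T v _ hz hq)
        ![7, 13, 3, 6, 6] (by decide +kernel)).elim
    · exact (leaf_falseP T hm2 v M8 hM hx _ _ (row_single T v _ hz hp) (col_single T v _ hz hq)
        ![7, 13, 3, 6, 17] (by decide +kernel)).elim
  · rcases pair5 T (by norm_num) hm2 hne hi with
      ⟨hp, hq⟩ | ⟨hp, hq⟩ | ⟨hp, hq⟩ | ⟨hp, hq⟩ | ⟨hp, hq⟩
    · exact leaf_next T hm2 v M8 hM hx _ _ (row_single T v _ hz hp) (col_single T v _ hz hq)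
        ![0, 1, 2, 3, 4] M13 (by decide +kernel) (st13 T hm2)
    · exact leaf_next T hm2 v M8 hM hx _ _ (row_single T v _ hz hp) (col_single T v _ hz hq)
        ![0, 1, 2, 3, 4] M14 (by decide +kernel) (st14 T hm2)
    · exact leaf_next T hm2 v M8 hM hx _ _ (row_single T v _ hz hp) (col_single T v _ hz hq)
        ![0, 1, 2, 3, 4] M15 (by decide +kernel) (st15 T hm2)
    · exact (leaf_falseP T hm2 v M8 hM hx _ _ (row_single T v _ hz hp) (col_single T v _ hz hq)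
        ![24, 15, 36, 7, 17] (by decide +kernel)).elim
    · exact (leaf_falseP T hm2 v M8 hM hx _ _ (row_single T v _ hz hp) (col_single T v _ hz hq)
        ![24, 15, 36, 7, 51] (by decide +kernel)).elim
  · rcases pair5 T (by norm_num) hm2 hne hi with
      ⟨hp, hq⟩ | ⟨hp, hq⟩ | ⟨hp, hq⟩ | ⟨hp, hq⟩ | ⟨hp, hq⟩
    · exact leaf_next T hm2 v M8 hM hx _ _ (row_single T v _ hz hp) (col_single T v _ hz hq)
        ![1, 0, 3, 2, 4] M13 (by decide +kernel) (st13 T hm2)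
    · exact leaf_next T hm2 v M8 hM hx _ _ (row_single T v _ hz hp) (col_single T v _ hz hq)
        ![1, 0, 3, 2, 4] M14 (by decide +kernel) (st14 T hm2)
    · exact leaf_next T hm2 v M8 hM hx _ _ (row_single T v _ hz hp) (col_single T v _ hz hq)
        ![1, 0, 3, 2, 4] M15 (by decide +kernel) (st15 T hm2)
    · exact (leaf_falseP T hm2 v M8 hM hx _ _ (row_single T v _ hz hp) (col_single T v _ hz hq)
        ![15, 24, 7, 36, 17] (by decide +kernel)).elim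
    · exact (leaf_falseP T hm2 v M8 hM hx _ _ (row_single T v _ hz hp) (col_single T v _ hz hq)
        ![15, 24, 7, 36, 51] (by decide +kernel)).elim

def pc9 : Fin 4 → Fin 4 → Fin 5 → ℤ :=
  ![![![0, 0, 0, 0, 0], ![1, 1, 0, 0, 1], ![1, 0, 1, 0, 1], ![1, 1, 0, 1, 1]], ![![1, 1, 0, 0, 1], ![0, 0, 0, 0, 0], ![1, 1, 1, 0, 1], ![0, 1, 0, 1, 1]], ![![1, 0, 1, 0, 1], ![1, 1, 1, 0, 1], ![0, 0, 0, 0, 0], ![1, 1, 1, 1, 1]], ![![1, 1, 0, 1, 1], ![0, 1, 0, 1, 1], ![1, 1, 1, 1, 1], ![0, 0, 0, 0, 0]]]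

theorem st9 (T : Models.NumericalType 9) (hm2 : ∀ i, T.IsMinusTwo i)
    (v : Fin 4 ↪ Fin 9) (hM : Knows T v M9) : Result T := by
  obtain ⟨x, hx, hcase⟩ := step_unique T hm2 v M9 hM (by norm_num) (by norm_num)
    (fun _ _ => false) pc9 (by decide +kernel)
    (fun _ _ _ h => (Bool.false_ne_true h).elim)
  rcases hcase with ⟨i, hi, hz⟩ | ⟨i, l, hex, -⟩
  swap
  · exact (Bool.false_ne_true hex).elim
  have hne := ne_of_not_range v hx i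
  fin_cases i
  · rcases pair5 T (by norm_num) hm2 hne hi with
      ⟨hp, hq⟩ | ⟨hp, hq⟩ | ⟨hp, hq⟩ | ⟨hp, hq⟩ | ⟨hp, hq⟩
    · exact (leaf_falseP T hm2 v M9 hM hx _ _ (row_single T v _ hz hp) (col_single T v _ hz hq)
        ![2, 2, 1, 1, 1] (by decide +kernel)).elim
    · exact (leaf_falseP T hm2 v M9 hM hx _ _ (row_single T v _ hz hp) (col_single T v _ hz hq)
        ![11, 9, 5, 4, 5] (by decide +kernel)).elim
    · exact (leaf_falseP T hm2 v M9 hM hx _ _ (row_single T v _ hz hp) (col_single T v _ hz hq)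
        ![11, 9, 5, 4, 10] (by decide +kernel)).elim
    · exact (leaf_falseP T hm2 v M9 hM hx _ _ (row_single T v _ hz hp) (col_single T v _ hz hq)
        ![7, 5, 3, 2, 3] (by decide +kernel)).elim
    · exact (leaf_falseP T hm2 v M9 hM hx _ _ (row_single T v _ hz hp) (col_single T v _ hz hq)
        ![7, 5, 3, 2, 9] (by decide +kernel)).elim
  · rcases pair5 T (by norm_num) hm2 hne hi with
      ⟨hp, hq⟩ | ⟨hp, hq⟩ | ⟨hp, hq⟩ | ⟨hp, hq⟩ | ⟨hp, hq⟩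
    · exact (leaf_falseP T hm2 v M9 hM hx _ _ (row_single T v _ hz hp) (col_single T v _ hz hq)
        ![19, 30, 9, 14, 14] (by decide +kernel)).elim
    · exact (leaf_falseP T hm2 v M9 hM hx _ _ (row_single T v _ hz hp) (col_single T v _ hz hq)
        ![7, 13, 3, 6, 6] (by decide +kernel)).elim
    · exact (leaf_falseP T hm2 v M9 hM hx _ _ (row_single T v _ hz hp) (col_single T v _ hz hq)
        ![7, 13, 3, 6, 11] (by decide +kernel)).elim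
    · exact (leaf_falseP T hm2 v M9 hM hx _ _ (row_single T v _ hz hp) (col_single T v _ hz hq)
        ![5, 10, 2, 4, 4] (by decide +kernel)).elim
    · exact (leaf_falseP T hm2 v M9 hM hx _ _ (row_single T v _ hz hp) (col_single T v _ hz hq)
        ![5, 10, 2, 4, 13] (by decide +kernel)).elim
  · rcases pair5 T (by norm_num) hm2 hne hi with
      ⟨hp, hq⟩ | ⟨hp, hq⟩ | ⟨hp, hq⟩ | ⟨hp, hq⟩ | ⟨hp, hq⟩
    · exact leaf_next T hm2 v M9 hM hx _ _ (row_single T v _ hz hp) (col_single T v _ hz hq)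
        ![0, 2, 1, 4, 3] M14 (by decide +kernel) (st14 T hm2)
    · exact (leaf_falseP T hm2 v M9 hM hx _ _ (row_single T v _ hz hp) (col_single T v _ hz hq)
        ![2, 2, 2, 1, 1] (by decide +kernel)).elim
    · exact (leaf_falseP T hm2 v M9 hM hx _ _ (row_single T v _ hz hp) (col_single T v _ hz hq)
        ![2, 2, 2, 1, 2] (by decide +kernel)).elim
    · exact (leaf_falseP T hm2 v M9 hM hx _ _ (row_single T v _ hz hp) (col_single T v _ hz hq)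
        ![13, 11, 17, 5, 8] (by decide +kernel)).elim
    · exact (leaf_falseP T hm2 v M9 hM hx _ _ (row_single T v _ hz hp) (col_single T v _ hz hq)
        ![13, 11, 17, 5, 24] (by decide +kernel)).elim
  · rcases pair5 T (by norm_num) hm2 hne hi with
      ⟨hp, hq⟩ | ⟨hp, hq⟩ | ⟨hp, hq⟩ | ⟨hp, hq⟩ | ⟨hp, hq⟩
    · exact (leaf_falseP T hm2 v M9 hM hx _ _ (row_single T v _ hz hp) (col_single T v _ hz hq)
        ![2, 3, 1, 2, 1] (by decide +kernel)).elim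
    · exact (leaf_falseP T hm2 v M9 hM hx _ _ (row_single T v _ hz hp) (col_single T v _ hz hq)
        ![9, 15, 4, 12, 5] (by decide +kernel)).elim
    · exact (leaf_falseP T hm2 v M9 hM hx _ _ (row_single T v _ hz hp) (col_single T v _ hz hq)
        ![9, 15, 4, 12, 11] (by decide +kernel)).elim
    · exact (leaf_falseP T hm2 v M9 hM hx _ _ (row_single T v _ hz hp) (col_single T v _ hz hq)
        ![7, 14, 3, 13, 5] (by decide +kernel)).elim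
    · exact (leaf_falseP T hm2 v M9 hM hx _ _ (row_single T v _ hz hp) (col_single T v _ hz hq)
        ![5, 9, 2, 8, 11] (by decide +kernel)).elim

def pc10 : Fin 4 → Fin 4 → Fin 5 → ℤ :=
  ![![![0, 0, 0, 0, 0], ![1, 1, 0, 0, 1], ![1, 0, 1, 0, 1], ![1, 1, 0, 1, 1]], ![![1, 1, 0, 0, 1], ![0, 0, 0, 0, 0], ![1, 1, 1, 0, 1], ![0, 1, 0, 1, 1]], ![![1, 0, 1, 0, 1], ![1, 1, 1, 0, 1], ![0, 0, 0, 0, 0], ![1, 1, 1, 1, 1]], ![![1, 1, 0, 1, 1], ![0, 1, 0, 1, 1], ![1, 1, 1, 1, 1], ![0, 0, 0, 0, 0]]]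

theorem st10 (T : Models.NumericalType 9) (hm2 : ∀ i, T.IsMinusTwo i)
    (v : Fin 4 ↪ Fin 9) (hM : Knows T v M10) : Result T := by
  obtain ⟨x, hx, hcase⟩ := step_unique T hm2 v M10 hM (by norm_num) (by norm_num)
    (fun _ _ => false) pc10 (by decide +kernel)
    (fun _ _ _ h => (Bool.false_ne_true h).elim)
  rcases hcase with ⟨i, hi, hz⟩ | ⟨i, l, hex, -⟩
  swap
  · exact (Bool.false_ne_true hex).elim
  have hne := ne_of_not_range v hx i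
  fin_cases i
  · rcases pair5 T (by norm_num) hm2 hne hi with
      ⟨hp, hq⟩ | ⟨hp, hq⟩ | ⟨hp, hq⟩ | ⟨hp, hq⟩ | ⟨hp, hq⟩
    · exact (leaf_falseP T hm2 v M10 hM hx _ _ (row_single T v _ hz hp) (col_single T v _ hz hq)
        ![2, 2, 1, 2, 1] (by decide +kernel)).elim
    · exact (leaf_falseP T hm2 v M10 hM hx _ _ (row_single T v _ hz hp) (col_single T v _ hz hq)
        ![9, 7, 4, 6, 4] (by decide +kernel)).elim
    · exact (leaf_falseP T hm2 v M10 hM hx _ _ (row_single T v _ hz hp) (col_single T v _ hz hq)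
        ![9, 7, 4, 6, 8] (by decide +kernel)).elim
    · exact (leaf_falseP T hm2 v M10 hM hx _ _ (row_single T v _ hz hp) (col_single T v _ hz hq)
        ![7, 5, 3, 4, 3] (by decide +kernel)).elim
    · exact (leaf_falseP T hm2 v M10 hM hx _ _ (row_single T v _ hz hp) (col_single T v _ hz hq)
        ![7, 5, 3, 4, 9] (by decide +kernel)).elim
  · rcases pair5 T (by norm_num) hm2 hne hi with
      ⟨hp, hq⟩ | ⟨hp, hq⟩ | ⟨hp, hq⟩ | ⟨hp, hq⟩ | ⟨hp, hq⟩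
    · exact (leaf_falseP T hm2 v M10 hM hx _ _ (row_single T v _ hz hp) (col_single T v _ hz hq)
        ![19, 30, 9, 29, 14] (by decide +kernel)).elim
    · exact (leaf_falseP T hm2 v M10 hM hx _ _ (row_single T v _ hz hp) (col_single T v _ hz hq)
        ![7, 13, 3, 11, 6] (by decide +kernel)).elim
    · exact (leaf_falseP T hm2 v M10 hM hx _ _ (row_single T v _ hz hp) (col_single T v _ hz hq)
        ![7, 13, 3, 11, 11] (by decide +kernel)).elim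
    · exact (leaf_falseP T hm2 v M10 hM hx _ _ (row_single T v _ hz hp) (col_single T v _ hz hq)
        ![5, 10, 2, 8, 4] (by decide +kernel)).elim
    · exact (leaf_falseP T hm2 v M10 hM hx _ _ (row_single T v _ hz hp) (col_single T v _ hz hq)
        ![5, 10, 2, 8, 13] (by decide +kernel)).elim
  · rcases pair5 T (by norm_num) hm2 hne hi with
      ⟨hp, hq⟩ | ⟨hp, hq⟩ | ⟨hp, hq⟩ | ⟨hp, hq⟩ | ⟨hp, hq⟩
    · exact leaf_next T hm2 v M10 hM hx _ _ (row_single T v _ hz hp) (col_single T v _ hz hq)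
        ![0, 2, 1, 4, 3] M15 (by decide +kernel) (st15 T hm2)
    · exact (leaf_falseP T hm2 v M10 hM hx _ _ (row_single T v _ hz hp) (col_single T v _ hz hq)
        ![2, 2, 2, 2, 1] (by decide +kernel)).elim
    · exact (leaf_falseP T hm2 v M10 hM hx _ _ (row_single T v _ hz hp) (col_single T v _ hz hq)
        ![1, 1, 1, 1, 1] (by decide +kernel)).elim
    · exact (leaf_falseP T hm2 v M10 hM hx _ _ (row_single T v _ hz hp) (col_single T v _ hz hq)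
        ![10, 8, 13, 7, 6] (by decide +kernel)).elim
    · exact (leaf_falseP T hm2 v M10 hM hx _ _ (row_single T v _ hz hp) (col_single T v _ hz hq)
        ![12, 10, 16, 9, 22] (by decide +kernel)).elim
  · rcases pair5 T (by norm_num) hm2 hne hi with
      ⟨hp, hq⟩ | ⟨hp, hq⟩ | ⟨hp, hq⟩ | ⟨hp, hq⟩ | ⟨hp, hq⟩
    · exact (leaf_falseP T hm2 v M10 hM hx _ _ (row_single T v _ hz hp) (col_single T v _ hz hq)
        ![2, 3, 1, 4, 2] (by decide +kernel)).elim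
    · exact (leaf_falseP T hm2 v M10 hM hx _ _ (row_single T v _ hz hp) (col_single T v _ hz hq)
        ![9, 15, 4, 24, 11] (by decide +kernel)).elim
    · exact (leaf_falseP T hm2 v M10 hM hx _ _ (row_single T v _ hz hp) (col_single T v _ hz hq)
        ![9, 15, 4, 24, 22] (by decide +kernel)).elim
    · exact (leaf_falseP T hm2 v M10 hM hx _ _ (row_single T v _ hz hp) (col_single T v _ hz hq)
        ![5, 9, 2, 17, 7] (by decide +kernel)).elim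
    · exact (leaf_falseP T hm2 v M10 hM hx _ _ (row_single T v _ hz hp) (col_single T v _ hz hq)
        ![5, 9, 2, 17, 21] (by decide +kernel)).elim

def pc11 : Fin 4 → Fin 4 → Fin 5 → ℤ :=
  ![![![0, 0, 0, 0, 0], ![1, 1, 0, 0, 1], ![1, 0, 1, 0, 1], ![1, 0, 1, 1, 1]], ![![1, 1, 0, 0, 1], ![0, 0, 0, 0, 0], ![1, 1, 1, 0, 1], ![1, 1, 1, 1, 1]], ![![1, 0, 1, 0, 1], ![1, 1, 1, 0, 1], ![0, 0, 0, 0, 0], ![0, 0, 1, 1, 1]], ![![1, 0, 1, 1, 1], ![1, 1, 1, 1, 1], ![0, 0, 1, 1, 1], ![0, 0, 0, 0, 0]]]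

theorem st11 (T : Models.NumericalType 9) (hm2 : ∀ i, T.IsMinusTwo i)
    (v : Fin 4 ↪ Fin 9) (hM : Knows T v M11) : Result T := by
  obtain ⟨x, hx, hcase⟩ := step_unique T hm2 v M11 hM (by norm_num) (by norm_num)
    (fun _ _ => false) pc11 (by decide +kernel)
    (fun _ _ _ h => (Bool.false_ne_true h).elim)
  rcases hcase with ⟨i, hi, hz⟩ | ⟨i, l, hex, -⟩
  swap
  · exact (Bool.false_ne_true hex).elim
  have hne := ne_of_not_range v hx i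
  fin_cases i
  · rcases pair5 T (by norm_num) hm2 hne hi with
      ⟨hp, hq⟩ | ⟨hp, hq⟩ | ⟨hp, hq⟩ | ⟨hp, hq⟩ | ⟨hp, hq⟩
    · exact (leaf_falseP T hm2 v M11 hM hx _ _ (row_single T v _ hz hp) (col_single T v _ hz hq)
        ![18, 8, 11, 5, 8] (by decide +kernel)).elim
    · exact (leaf_falseP T hm2 v M11 hM hx _ _ (row_single T v _ hz hp) (col_single T v _ hz hq)
        ![9, 4, 5, 2, 4] (by decide +kernel)).elim
    · exact (leaf_falseP T hm2 v M11 hM hx _ _ (row_single T v _ hz hp) (col_single T v _ hz hq)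
        ![9, 4, 5, 2, 8] (by decide +kernel)).elim
    · exact (leaf_falseP T hm2 v M11 hM hx _ _ (row_single T v _ hz hp) (col_single T v _ hz hq)
        ![11, 4, 5, 2, 4] (by decide +kernel)).elim
    · exact (leaf_falseP T hm2 v M11 hM hx _ _ (row_single T v _ hz hp) (col_single T v _ hz hq)
        ![11, 4, 5, 2, 13] (by decide +kernel)).elim
  · rcases pair5 T (by norm_num) hm2 hne hi with
      ⟨hp, hq⟩ | ⟨hp, hq⟩ | ⟨hp, hq⟩ | ⟨hp, hq⟩ | ⟨hp, hq⟩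
    · exact (leaf_falseP T hm2 v M11 hM hx _ _ (row_single T v _ hz hp) (col_single T v _ hz hq)
        ![3, 2, 2, 1, 1] (by decide +kernel)).elim
    · exact (leaf_falseP T hm2 v M11 hM hx _ _ (row_single T v _ hz hp) (col_single T v _ hz hq)
        ![24, 21, 15, 7, 10] (by decide +kernel)).elim
    · exact (leaf_falseP T hm2 v M11 hM hx _ _ (row_single T v _ hz hp) (col_single T v _ hz hq)
        ![24, 21, 15, 7, 20] (by decide +kernel)).elim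
    · exact (leaf_falseP T hm2 v M11 hM hx _ _ (row_single T v _ hz hp) (col_single T v _ hz hq)
        ![12, 13, 7, 3, 6] (by decide +kernel)).elim
    · exact (leaf_falseP T hm2 v M11 hM hx _ _ (row_single T v _ hz hp) (col_single T v _ hz hq)
        ![12, 13, 7, 3, 18] (by decide +kernel)).elim
  · rcases pair5 T (by norm_num) hm2 hne hi with
      ⟨hp, hq⟩ | ⟨hp, hq⟩ | ⟨hp, hq⟩ | ⟨hp, hq⟩ | ⟨hp, hq⟩
    · exact (leaf_falseP T hm2 v M11 hM hx _ _ (row_single T v _ hz hp) (col_single T v _ hz hq)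
        ![13, 6, 11, 5, 5] (by decide +kernel)).elim
    · exact (leaf_falseP T hm2 v M11 hM hx _ _ (row_single T v _ hz hp) (col_single T v _ hz hq)
        ![5, 2, 5, 2, 2] (by decide +kernel)).elim
    · exact (leaf_falseP T hm2 v M11 hM hx _ _ (row_single T v _ hz hp) (col_single T v _ hz hq)
        ![5, 2, 5, 2, 4] (by decide +kernel)).elim
    · exact (leaf_falseP T hm2 v M11 hM hx _ _ (row_single T v _ hz hp) (col_single T v _ hz hq)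
        ![3, 1, 3, 1, 1] (by decide +kernel)).elim
    · exact (leaf_falseP T hm2 v M11 hM hx _ _ (row_single T v _ hz hp) (col_single T v _ hz hq)
        ![3, 1, 3, 1, 3] (by decide +kernel)).elim
  · rcases pair5 T (by norm_num) hm2 hne hi with
      ⟨hp, hq⟩ | ⟨hp, hq⟩ | ⟨hp, hq⟩ | ⟨hp, hq⟩ | ⟨hp, hq⟩
    · exact (leaf_falseP T hm2 v M11 hM hx _ _ (row_single T v _ hz hp) (col_single T v _ hz hq)
        ![4, 2, 3, 2, 1] (by decide +kernel)).elim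
    · exact (leaf_falseP T hm2 v M11 hM hx _ _ (row_single T v _ hz hp) (col_single T v _ hz hq)
        ![21, 10, 17, 15, 7] (by decide +kernel)).elim
    · exact (leaf_falseP T hm2 v M11 hM hx _ _ (row_single T v _ hz hp) (col_single T v _ hz hq)
        ![17, 8, 14, 12, 11] (by decide +kernel)).elim
    · exact (leaf_falseP T hm2 v M11 hM hx _ _ (row_single T v _ hz hp) (col_single T v _ hz hq)
        ![7, 3, 6, 7, 3] (by decide +kernel)).elim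
    · exact (leaf_falseP T hm2 v M11 hM hx _ _ (row_single T v _ hz hp) (col_single T v _ hz hq)
        ![7, 3, 6, 7, 9] (by decide +kernel)).elim

def pc4 : Fin 3 → Fin 3 → Fin 4 → ℤ :=
  ![![![0, 0, 0, 0], ![1, 1, 0, 1], ![1, 0, 1, 1]], ![![1, 1, 0, 1], ![0, 0, 0, 0], ![1, 1, 1, 1]], ![![1, 0, 1, 1], ![1, 1, 1, 1], ![0, 0, 0, 0]]]

theorem st4 (T : Models.NumericalType 9) (hm2 : ∀ i, T.IsMinusTwo i)
    (v : Fin 3 ↪ Fin 9) (hM : Knows T v M4) : Result T := by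
  obtain ⟨x, hx, hcase⟩ := step_unique T hm2 v M4 hM (by norm_num) (by norm_num)
    (fun _ _ => false) pc4 (by decide +kernel)
    (fun _ _ _ h => (Bool.false_ne_true h).elim)
  rcases hcase with ⟨i, hi, hz⟩ | ⟨i, l, hex, -⟩
  swap
  · exact (Bool.false_ne_true hex).elim
  have hne := ne_of_not_range v hx i
  fin_cases i
  · rcases pair5 T (by norm_num) hm2 hne hi with
      ⟨hp, hq⟩ | ⟨hp, hq⟩ | ⟨hp, hq⟩ | ⟨hp, hq⟩ | ⟨hp, hq⟩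
    · exact leaf_next T hm2 v M4 hM hx _ _ (row_single T v _ hz hp) (col_single T v _ hz hq)
        ![0, 1, 2, 3] M7 (by decide +kernel) (st7 T hm2)
    · exact (leaf_falseP T hm2 v M4 hM hx _ _ (row_single T v _ hz hp) (col_single T v _ hz hq)
        ![2, 1, 1, 1] (by decide +kernel)).elim
    · exact (leaf_falseP T hm2 v M4 hM hx _ _ (row_single T v _ hz hp) (col_single T v _ hz hq)
        ![2, 1, 1, 2] (by decide +kernel)).elim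
    · exact (leaf_falseP T hm2 v M4 hM hx _ _ (row_single T v _ hz hp) (col_single T v _ hz hq)
        ![7, 3, 3, 3] (by decide +kernel)).elim
    · exact (leaf_falseP T hm2 v M4 hM hx _ _ (row_single T v _ hz hp) (col_single T v _ hz hq)
        ![7, 3, 3, 9] (by decide +kernel)).elim
  · rcases pair5 T (by norm_num) hm2 hne hi with
      ⟨hp, hq⟩ | ⟨hp, hq⟩ | ⟨hp, hq⟩ | ⟨hp, hq⟩ | ⟨hp, hq⟩
    · exact leaf_next T hm2 v M4 hM hx _ _ (row_single T v _ hz hp) (col_single T v _ hz hq)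
        ![0, 1, 2, 3] M8 (by decide +kernel) (st8 T hm2)
    · exact leaf_next T hm2 v M4 hM hx _ _ (row_single T v _ hz hp) (col_single T v _ hz hq)
        ![0, 1, 2, 3] M9 (by decide +kernel) (st9 T hm2)
    · exact leaf_next T hm2 v M4 hM hx _ _ (row_single T v _ hz hp) (col_single T v _ hz hq)
        ![0, 1, 2, 3] M10 (by decide +kernel) (st10 T hm2)
    · exact (leaf_falseP T hm2 v M4 hM hx _ _ (row_single T v _ hz hp) (col_single T v _ hz hq)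
        ![19, 30, 9, 14] (by decide +kernel)).elim
    · exact (leaf_falseP T hm2 v M4 hM hx _ _ (row_single T v _ hz hp) (col_single T v _ hz hq)
        ![19, 30, 9, 43] (by decide +kernel)).elim
  · rcases pair5 T (by norm_num) hm2 hne hi with
      ⟨hp, hq⟩ | ⟨hp, hq⟩ | ⟨hp, hq⟩ | ⟨hp, hq⟩ | ⟨hp, hq⟩
    · exact leaf_next T hm2 v M4 hM hx _ _ (row_single T v _ hz hp) (col_single T v _ hz hq)
        ![0, 2, 1, 3] M8 (by decide +kernel) (st8 T hm2)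
    · exact leaf_next T hm2 v M4 hM hx _ _ (row_single T v _ hz hp) (col_single T v _ hz hq)
        ![0, 2, 1, 3] M9 (by decide +kernel) (st9 T hm2)
    · exact leaf_next T hm2 v M4 hM hx _ _ (row_single T v _ hz hp) (col_single T v _ hz hq)
        ![0, 2, 1, 3] M10 (by decide +kernel) (st10 T hm2)
    · exact (leaf_falseP T hm2 v M4 hM hx _ _ (row_single T v _ hz hp) (col_single T v _ hz hq)
        ![19, 9, 30, 14] (by decide +kernel)).elim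
    · exact (leaf_falseP T hm2 v M4 hM hx _ _ (row_single T v _ hz hp) (col_single T v _ hz hq)
        ![19, 9, 30, 43] (by decide +kernel)).elim

def pc5 : Fin 3 → Fin 3 → Fin 4 → ℤ :=
  ![![![0, 0, 0, 0], ![1, 1, 0, 1], ![1, 0, 1, 1]], ![![1, 1, 0, 1], ![0, 0, 0, 0], ![1, 1, 1, 1]], ![![1, 0, 1, 1], ![1, 1, 1, 1], ![0, 0, 0, 0]]]

theorem st5 (T : Models.NumericalType 9) (hm2 : ∀ i, T.IsMinusTwo i)
    (v : Fin 3 ↪ Fin 9) (hM : Knows T v M5) : Result T := by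
  obtain ⟨x, hx, hcase⟩ := step_unique T hm2 v M5 hM (by norm_num) (by norm_num)
    (fun _ _ => false) pc5 (by decide +kernel)
    (fun _ _ _ h => (Bool.false_ne_true h).elim)
  rcases hcase with ⟨i, hi, hz⟩ | ⟨i, l, hex, -⟩
  swap
  · exact (Bool.false_ne_true hex).elim
  have hne := ne_of_not_range v hx i
  fin_cases i
  · rcases pair5 T (by norm_num) hm2 hne hi with
      ⟨hp, hq⟩ | ⟨hp, hq⟩ | ⟨hp, hq⟩ | ⟨hp, hq⟩ | ⟨hp, hq⟩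
    · exact (leaf_falseP T hm2 v M5 hM hx _ _ (row_single T v _ hz hp) (col_single T v _ hz hq)
        ![2, 1, 1, 1] (by decide +kernel)).elim
    · exact (leaf_falseP T hm2 v M5 hM hx _ _ (row_single T v _ hz hp) (col_single T v _ hz hq)
        ![7, 3, 3, 3] (by decide +kernel)).elim
    · exact (leaf_falseP T hm2 v M5 hM hx _ _ (row_single T v _ hz hp) (col_single T v _ hz hq)
        ![7, 3, 3, 6] (by decide +kernel)).elim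
    · exact (leaf_falseP T hm2 v M5 hM hx _ _ (row_single T v _ hz hp) (col_single T v _ hz hq)
        ![5, 2, 2, 2] (by decide +kernel)).elim
    · exact (leaf_falseP T hm2 v M5 hM hx _ _ (row_single T v _ hz hp) (col_single T v _ hz hq)
        ![5, 2, 2, 6] (by decide +kernel)).elim
  · rcases pair5 T (by norm_num) hm2 hne hi with
      ⟨hp, hq⟩ | ⟨hp, hq⟩ | ⟨hp, hq⟩ | ⟨hp, hq⟩ | ⟨hp, hq⟩
    · exact leaf_next T hm2 v M5 hM hx _ _ (row_single T v _ hz hp) (col_single T v _ hz hq)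
        ![1, 0, 3, 2] M9 (by decide +kernel) (st9 T hm2)
    · exact (leaf_falseP T hm2 v M5 hM hx _ _ (row_single T v _ hz hp) (col_single T v _ hz hq)
        ![2, 2, 1, 1] (by decide +kernel)).elim
    · exact (leaf_falseP T hm2 v M5 hM hx _ _ (row_single T v _ hz hp) (col_single T v _ hz hq)
        ![2, 2, 1, 2] (by decide +kernel)).elim
    · exact (leaf_falseP T hm2 v M5 hM hx _ _ (row_single T v _ hz hp) (col_single T v _ hz hq)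
        ![9, 11, 4, 5] (by decide +kernel)).elim
    · exact (leaf_falseP T hm2 v M5 hM hx _ _ (row_single T v _ hz hp) (col_single T v _ hz hq)
        ![9, 11, 4, 15] (by decide +kernel)).elim
  · rcases pair5 T (by norm_num) hm2 hne hi with
      ⟨hp, hq⟩ | ⟨hp, hq⟩ | ⟨hp, hq⟩ | ⟨hp, hq⟩ | ⟨hp, hq⟩
    · exact leaf_next T hm2 v M5 hM hx _ _ (row_single T v _ hz hp) (col_single T v _ hz hq)
        ![0, 1, 2, 3] M11 (by decide +kernel) (st11 T hm2)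
    · exact (leaf_falseP T hm2 v M5 hM hx _ _ (row_single T v _ hz hp) (col_single T v _ hz hq)
        ![13, 6, 11, 5] (by decide +kernel)).elim
    · exact (leaf_falseP T hm2 v M5 hM hx _ _ (row_single T v _ hz hp) (col_single T v _ hz hq)
        ![11, 5, 9, 8] (by decide +kernel)).elim
    · exact (leaf_falseP T hm2 v M5 hM hx _ _ (row_single T v _ hz hp) (col_single T v _ hz hq)
        ![5, 2, 5, 2] (by decide +kernel)).elim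
    · exact (leaf_falseP T hm2 v M5 hM hx _ _ (row_single T v _ hz hp) (col_single T v _ hz hq)
        ![7, 3, 7, 9] (by decide +kernel)).elim

def pc6 : Fin 3 → Fin 3 → Fin 4 → ℤ :=
  ![![![0, 0, 0, 0], ![1, 1, 0, 1], ![1, 0, 1, 1]], ![![1, 1, 0, 1], ![0, 0, 0, 0], ![1, 1, 1, 1]], ![![1, 0, 1, 1], ![1, 1, 1, 1], ![0, 0, 0, 0]]]

theorem st6 (T : Models.NumericalType 9) (hm2 : ∀ i, T.IsMinusTwo i)
    (v : Fin 3 ↪ Fin 9) (hM : Knows T v M6) : Result T := by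
  obtain ⟨x, hx, hcase⟩ := step_unique T hm2 v M6 hM (by norm_num) (by norm_num)
    (fun _ _ => false) pc6 (by decide +kernel)
    (fun _ _ _ h => (Bool.false_ne_true h).elim)
  rcases hcase with ⟨i, hi, hz⟩ | ⟨i, l, hex, -⟩
  swap
  · exact (Bool.false_ne_true hex).elim
  have hne := ne_of_not_range v hx i
  fin_cases i
  · rcases pair5 T (by norm_num) hm2 hne hi with
      ⟨hp, hq⟩ | ⟨hp, hq⟩ | ⟨hp, hq⟩ | ⟨hp, hq⟩ | ⟨hp, hq⟩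
    · exact (leaf_falseP T hm2 v M6 hM hx _ _ (row_single T v _ hz hp) (col_single T v _ hz hq)
        ![2, 1, 2, 1] (by decide +kernel)).elim
    · exact (leaf_falseP T hm2 v M6 hM hx _ _ (row_single T v _ hz hp) (col_single T v _ hz hq)
        ![7, 3, 6, 3] (by decide +kernel)).elim
    · exact (leaf_falseP T hm2 v M6 hM hx _ _ (row_single T v _ hz hp) (col_single T v _ hz hq)
        ![7, 3, 6, 6] (by decide +kernel)).elim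
    · exact (leaf_falseP T hm2 v M6 hM hx _ _ (row_single T v _ hz hp) (col_single T v _ hz hq)
        ![5, 2, 4, 2] (by decide +kernel)).elim
    · exact (leaf_falseP T hm2 v M6 hM hx _ _ (row_single T v _ hz hp) (col_single T v _ hz hq)
        ![5, 2, 4, 6] (by decide +kernel)).elim
  · rcases pair5 T (by norm_num) hm2 hne hi with
      ⟨hp, hq⟩ | ⟨hp, hq⟩ | ⟨hp, hq⟩ | ⟨hp, hq⟩ | ⟨hp, hq⟩
    · exact leaf_next T hm2 v M6 hM hx _ _ (row_single T v _ hz hp) (col_single T v _ hz hq)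
        ![1, 0, 3, 2] M10 (by decide +kernel) (st10 T hm2)
    · exact (leaf_falseP T hm2 v M6 hM hx _ _ (row_single T v _ hz hp) (col_single T v _ hz hq)
        ![2, 2, 2, 1] (by decide +kernel)).elim
    · exact (leaf_falseP T hm2 v M6 hM hx _ _ (row_single T v _ hz hp) (col_single T v _ hz hq)
        ![1, 1, 1, 1] (by decide +kernel)).elim
    · exact (leaf_falseP T hm2 v M6 hM hx _ _ (row_single T v _ hz hp) (col_single T v _ hz hq)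
        ![7, 9, 6, 4] (by decide +kernel)).elim
    · exact (leaf_falseP T hm2 v M6 hM hx _ _ (row_single T v _ hz hp) (col_single T v _ hz hq)
        ![8, 10, 7, 13] (by decide +kernel)).elim
  · rcases pair5 T (by norm_num) hm2 hne hi with
      ⟨hp, hq⟩ | ⟨hp, hq⟩ | ⟨hp, hq⟩ | ⟨hp, hq⟩ | ⟨hp, hq⟩
    · exact leaf_next T hm2 v M6 hM hx _ _ (row_single T v _ hz hp) (col_single T v _ hz hq)
        ![2, 3, 0, 1] M11 (by decide +kernel) (st11 T hm2)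
    · exact (leaf_falseP T hm2 v M6 hM hx _ _ (row_single T v _ hz hp) (col_single T v _ hz hq)
        ![11, 5, 18, 8] (by decide +kernel)).elim
    · exact (leaf_falseP T hm2 v M6 hM hx _ _ (row_single T v _ hz hp) (col_single T v _ hz hq)
        ![11, 5, 18, 17] (by decide +kernel)).elim
    · exact (leaf_falseP T hm2 v M6 hM hx _ _ (row_single T v _ hz hp) (col_single T v _ hz hq)
        ![5, 2, 9, 4] (by decide +kernel)).elim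
    · exact (leaf_falseP T hm2 v M6 hM hx _ _ (row_single T v _ hz hp) (col_single T v _ hz hq)
        ![5, 2, 9, 11] (by decide +kernel)).elim

def pc1 : Fin 2 → Fin 2 → Fin 3 → ℤ :=
  ![![![0, 0, 0], ![1, 1, 1]], ![![1, 1, 1], ![0, 0, 0]]]

theorem st1 (T : Models.NumericalType 9) (hm2 : ∀ i, T.IsMinusTwo i)
    (v : Fin 2 ↪ Fin 9) (hM : Knows T v M1) : Result T := by
  obtain ⟨x, hx, hcase⟩ := step_unique T hm2 v M1 hM (by norm_num) (by norm_num)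
    (fun _ _ => false) pc1 (by decide +kernel)
    (fun _ _ _ h => (Bool.false_ne_true h).elim)
  rcases hcase with ⟨i, hi, hz⟩ | ⟨i, l, hex, -⟩
  swap
  · exact (Bool.false_ne_true hex).elim
  have hne := ne_of_not_range v hx i
  fin_cases i
  · rcases pair5 T (by norm_num) hm2 hne hi with
      ⟨hp, hq⟩ | ⟨hp, hq⟩ | ⟨hp, hq⟩ | ⟨hp, hq⟩ | ⟨hp, hq⟩
    · exact leaf_next T hm2 v M1 hM hx _ _ (row_single T v _ hz hp) (col_single T v _ hz hq)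
        ![0, 1, 2] M4 (by decide +kernel) (st4 T hm2)
    · exact leaf_next T hm2 v M1 hM hx _ _ (row_single T v _ hz hp) (col_single T v _ hz hq)
        ![0, 1, 2] M5 (by decide +kernel) (st5 T hm2)
    · exact leaf_next T hm2 v M1 hM hx _ _ (row_single T v _ hz hp) (col_single T v _ hz hq)
        ![0, 1, 2] M6 (by decide +kernel) (st6 T hm2)
    · exact (leaf_falseP T hm2 v M1 hM hx _ _ (row_single T v _ hz hp) (col_single T v _ hz hq)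
        ![2, 1, 1] (by decide +kernel)).elim
    · exact (leaf_falseP T hm2 v M1 hM hx _ _ (row_single T v _ hz hp) (col_single T v _ hz hq)
        ![2, 1, 3] (by decide +kernel)).elim
  · rcases pair5 T (by norm_num) hm2 hne hi with
      ⟨hp, hq⟩ | ⟨hp, hq⟩ | ⟨hp, hq⟩ | ⟨hp, hq⟩ | ⟨hp, hq⟩
    · exact leaf_next T hm2 v M1 hM hx _ _ (row_single T v _ hz hp) (col_single T v _ hz hq)
        ![1, 0, 2] M4 (by decide +kernel) (st4 T hm2)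
    · exact leaf_next T hm2 v M1 hM hx _ _ (row_single T v _ hz hp) (col_single T v _ hz hq)
        ![1, 0, 2] M5 (by decide +kernel) (st5 T hm2)
    · exact leaf_next T hm2 v M1 hM hx _ _ (row_single T v _ hz hp) (col_single T v _ hz hq)
        ![1, 0, 2] M6 (by decide +kernel) (st6 T hm2)
    · exact (leaf_falseP T hm2 v M1 hM hx _ _ (row_single T v _ hz hp) (col_single T v _ hz hq)
        ![1, 2, 1] (by decide +kernel)).elim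
    · exact (leaf_falseP T hm2 v M1 hM hx _ _ (row_single T v _ hz hp) (col_single T v _ hz hq)
        ![1, 2, 3] (by decide +kernel)).elim

def pc2 : Fin 2 → Fin 2 → Fin 3 → ℤ :=
  ![![![0, 0, 0], ![1, 1, 1]], ![![1, 1, 1], ![0, 0, 0]]]

theorem st2 (T : Models.NumericalType 9) (hm2 : ∀ i, T.IsMinusTwo i)
    (v : Fin 2 ↪ Fin 9) (hM : Knows T v M2) : Result T := by
  obtain ⟨x, hx, hcase⟩ := step_unique T hm2 v M2 hM (by norm_num) (by norm_num)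
    (fun _ _ => false) pc2 (by decide +kernel)
    (fun _ _ _ h => (Bool.false_ne_true h).elim)
  rcases hcase with ⟨i, hi, hz⟩ | ⟨i, l, hex, -⟩
  swap
  · exact (Bool.false_ne_true hex).elim
  have hne := ne_of_not_range v hx i
  fin_cases i
  · rcases pair5 T (by norm_num) hm2 hne hi with
      ⟨hp, hq⟩ | ⟨hp, hq⟩ | ⟨hp, hq⟩ | ⟨hp, hq⟩ | ⟨hp, hq⟩
    · exact leaf_next T hm2 v M2 hM hx _ _ (row_single T v _ hz hp) (col_single T v _ hz hq)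
        ![0, 2, 1] M5 (by decide +kernel) (st5 T hm2)
    · exact (leaf_falseP T hm2 v M2 hM hx _ _ (row_single T v _ hz hp) (col_single T v _ hz hq)
        ![2, 1, 1] (by decide +kernel)).elim
    · exact (leaf_falseP T hm2 v M2 hM hx _ _ (row_single T v _ hz hp) (col_single T v _ hz hq)
        ![2, 1, 2] (by decide +kernel)).elim
    · exact (leaf_falseP T hm2 v M2 hM hx _ _ (row_single T v _ hz hp) (col_single T v _ hz hq)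
        ![7, 3, 3] (by decide +kernel)).elim
    · exact (leaf_falseP T hm2 v M2 hM hx _ _ (row_single T v _ hz hp) (col_single T v _ hz hq)
        ![7, 3, 9] (by decide +kernel)).elim
  · rcases pair5 T (by norm_num) hm2 hne hi with
      ⟨hp, hq⟩ | ⟨hp, hq⟩ | ⟨hp, hq⟩ | ⟨hp, hq⟩ | ⟨hp, hq⟩
    · exact leaf_next T hm2 v M2 hM hx _ _ (row_single T v _ hz hp) (col_single T v _ hz hq)
        ![1, 2, 0] M6 (by decide +kernel) (st6 T hm2)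
    · exact (leaf_falseP T hm2 v M2 hM hx _ _ (row_single T v _ hz hp) (col_single T v _ hz hq)
        ![2, 2, 1] (by decide +kernel)).elim
    · exact (leaf_falseP T hm2 v M2 hM hx _ _ (row_single T v _ hz hp) (col_single T v _ hz hq)
        ![1, 1, 1] (by decide +kernel)).elim
    · exact (leaf_falseP T hm2 v M2 hM hx _ _ (row_single T v _ hz hp) (col_single T v _ hz hq)
        ![6, 7, 3] (by decide +kernel)).elim
    · exact (leaf_falseP T hm2 v M2 hM hx _ _ (row_single T v _ hz hp) (col_single T v _ hz hq)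
        ![5, 6, 8] (by decide +kernel)).elim

def pc3 : Fin 2 → Fin 2 → Fin 3 → ℤ :=
  ![![![0, 0, 0], ![1, 1, 1]], ![![1, 1, 1], ![0, 0, 0]]]

theorem st3 (T : Models.NumericalType 9) (hm2 : ∀ i, T.IsMinusTwo i)
    (v : Fin 2 ↪ Fin 9) (hM : Knows T v M3) : Result T := by
  obtain ⟨x, hx, hcase⟩ := step_unique T hm2 v M3 hM (by norm_num) (by norm_num)
    (fun _ _ => false) pc3 (by decide +kernel)
    (fun _ _ _ h => (Bool.false_ne_true h).elim)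
  rcases hcase with ⟨i, hi, hz⟩ | ⟨i, l, hex, -⟩
  swap
  · exact (Bool.false_ne_true hex).elim
  have hne := ne_of_not_range v hx i
  fin_cases i
  · rcases pair5 T (by norm_num) hm2 hne hi with
      ⟨hp, hq⟩ | ⟨hp, hq⟩ | ⟨hp, hq⟩ | ⟨hp, hq⟩ | ⟨hp, hq⟩
    · exact (leaf_falseP T hm2 v M3 hM hx _ _ (row_single T v _ hz hp) (col_single T v _ hz hq)
        ![2, 1, 1] (by decide +kernel)).elim
    · exact (leaf_falseP T hm2 v M3 hM hx _ _ (row_single T v _ hz hp) (col_single T v _ hz hq)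
        ![7, 3, 3] (by decide +kernel)).elim
    · exact (leaf_falseP T hm2 v M3 hM hx _ _ (row_single T v _ hz hp) (col_single T v _ hz hq)
        ![7, 3, 6] (by decide +kernel)).elim
    · exact (leaf_falseP T hm2 v M3 hM hx _ _ (row_single T v _ hz hp) (col_single T v _ hz hq)
        ![5, 2, 2] (by decide +kernel)).elim
    · exact (leaf_falseP T hm2 v M3 hM hx _ _ (row_single T v _ hz hp) (col_single T v _ hz hq)
        ![5, 2, 6] (by decide +kernel)).elim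
  · rcases pair5 T (by norm_num) hm2 hne hi with
      ⟨hp, hq⟩ | ⟨hp, hq⟩ | ⟨hp, hq⟩ | ⟨hp, hq⟩ | ⟨hp, hq⟩
    · exact (leaf_falseP T hm2 v M3 hM hx _ _ (row_single T v _ hz hp) (col_single T v _ hz hq)
        ![3, 2, 1] (by decide +kernel)).elim
    · exact (leaf_falseP T hm2 v M3 hM hx _ _ (row_single T v _ hz hp) (col_single T v _ hz hq)
        ![9, 7, 3] (by decide +kernel)).elim
    · exact (leaf_falseP T hm2 v M3 hM hx _ _ (row_single T v _ hz hp) (col_single T v _ hz hq)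
        ![8, 6, 5] (by decide +kernel)).elim
    · exact (leaf_falseP T hm2 v M3 hM hx _ _ (row_single T v _ hz hp) (col_single T v _ hz hq)
        ![6, 5, 2] (by decide +kernel)).elim
    · exact (leaf_falseP T hm2 v M3 hM hx _ _ (row_single T v _ hz hp) (col_single T v _ hz hq)
        ![4, 3, 4] (by decide +kernel)).elim

def pc0 : Fin 1 → Fin 1 → Fin 2 → ℤ :=
  ![![![0, 0]]]

theorem st0 (T : Models.NumericalType 9) (hm2 : ∀ i, T.IsMinusTwo i)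
    (v : Fin 1 ↪ Fin 9) (hM : Knows T v M0) : Result T := by
  obtain ⟨x, hx, hcase⟩ := step_unique T hm2 v M0 hM (by norm_num) (by norm_num)
    (fun _ _ => false) pc0 (by decide +kernel)
    (fun _ _ _ h => (Bool.false_ne_true h).elim)
  rcases hcase with ⟨i, hi, hz⟩ | ⟨i, l, hex, -⟩
  swap
  · exact (Bool.false_ne_true hex).elim
  have hne := ne_of_not_range v hx i
  fin_cases i
  · rcases pair5 T (by norm_num) hm2 hne hi with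
      ⟨hp, hq⟩ | ⟨hp, hq⟩ | ⟨hp, hq⟩ | ⟨hp, hq⟩ | ⟨hp, hq⟩
    · exact leaf_next T hm2 v M0 hM hx _ _ (row_single T v _ hz hp) (col_single T v _ hz hq)
        ![0, 1] M1 (by decide +kernel) (st1 T hm2)
    · exact leaf_next T hm2 v M0 hM hx _ _ (row_single T v _ hz hp) (col_single T v _ hz hq)
        ![0, 1] M2 (by decide +kernel) (st2 T hm2)
    · exact leaf_next T hm2 v M0 hM hx _ _ (row_single T v _ hz hp) (col_single T v _ hz hq)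
        ![1, 0] M2 (by decide +kernel) (st2 T hm2)
    · exact leaf_next T hm2 v M0 hM hx _ _ (row_single T v _ hz hp) (col_single T v _ hz hq)
        ![0, 1] M3 (by decide +kernel) (st3 T hm2)
    · exact leaf_next T hm2 v M0 hM hx _ _ (row_single T v _ hz hp) (col_single T v _ hz hq)
        ![1, 0] M3 (by decide +kernel) (st3 T hm2)

/-- Genus one classification: case n = 9: let T be a minimal numerical type of genus 1 on 9 indices.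
Then all g_i = 0 and, for some permutation σ of the indices and some integers m, w, the
multiplicities, weights and intersection matrix (m_{σ(i)}, w_{σ(i)}, a_{σ(i)σ(j)}) are those of one
of the following 8 types: [cycle] m = (m, m, m, m, m, m, m, m, m), w = (w, w, w, w, w, w, w, w, w),
a = (-2 * w w 0 0 0 0 0 0 w / w -2 * w w 0 0 0 0 0 0 / 0 w -2 * w w 0 0 0 0 0 / 0 0 w -2 * w w 0 0 0
0 / 0 0 0 w -2 * w w 0 0 0 / 0 0 0 0 w -2 * w w 0 0 / 0 0 0 0 0 w -2 * w w 0 / 0 0 0 0 0 0 w -2 * w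
w / w 0 0 0 0 0 0 w -2 * w); [up chain equal up] m = (2 * m, 2 * m, 2 * m, 2 * m, 2 * m, 2 * m, 2 *
m, 2 * m, m), w = (w, 2 * w, 2 * w, 2 * w, 2 * w, 2 * w, 2 * w, 2 * w, 4 * w), a = (-2 * w 2 * w 0 0
0 0 0 0 0 / 2 * w -4 * w 2 * w 0 0 0 0 0 0 / 0 2 * w -4 * w 2 * w 0 0 0 0 0 / 0 0 2 * w -4 * w 2 * w
0 0 0 0 / 0 0 0 2 * w -4 * w 2 * w 0 0 0 / 0 0 0 0 2 * w -4 * w 2 * w 0 0 / 0 0 0 0 0 2 * w -4 * w 2
* w 0 / 0 0 0 0 0 0 2 * w -4 * w 4 * w / 0 0 0 0 0 0 0 4 * w -8 * w); [up chain equal down] m = (m,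
m, m, m, m, m, m, m, m), w = (w, 2 * w, 2 * w, 2 * w, 2 * w, 2 * w, 2 * w, 2 * w, w), a = (-2 * w 2
* w 0 0 0 0 0 0 0 / 2 * w -4 * w 2 * w 0 0 0 0 0 0 / 0 2 * w -4 * w 2 * w 0 0 0 0 0 / 0 0 2 * w -4 *
w 2 * w 0 0 0 0 / 0 0 0 2 * w -4 * w 2 * w 0 0 0 / 0 0 0 0 2 * w -4 * w 2 * w 0 0 / 0 0 0 0 0 2 * w
-4 * w 2 * w 0 / 0 0 0 0 0 0 2 * w -4 * w 2 * w / 0 0 0 0 0 0 0 2 * w -2 * w); [down chain equal up]
m = (m, 2 * m, 2 * m, 2 * m, 2 * m, 2 * m, 2 * m, 2 * m, m), w = (2 * w, w, w, w, w, w, w, w, 2 *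
w), a = (-4 * w 2 * w 0 0 0 0 0 0 0 / 2 * w -2 * w w 0 0 0 0 0 0 / 0 w -2 * w w 0 0 0 0 0 / 0 0 w -2
* w w 0 0 0 0 / 0 0 0 w -2 * w w 0 0 0 / 0 0 0 0 w -2 * w w 0 0 / 0 0 0 0 0 w -2 * w w 0 / 0 0 0 0 0
0 w -2 * w 2 * w / 0 0 0 0 0 0 0 2 * w -4 * w); [D extended up] m = (m, 2 * m, 2 * m, 2 * m, 2 * m,
2 * m, 2 * m, m, m), w = (2 * w, w, w, w, w, w, w, w, w), a = (-4 * w 2 * w 0 0 0 0 0 0 0 / 2 * w -2
* w w 0 0 0 0 0 0 / 0 w -2 * w w 0 0 0 0 0 / 0 0 w -2 * w w 0 0 0 0 / 0 0 0 w -2 * w w 0 0 0 / 0 0 0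
0 w -2 * w w 0 0 / 0 0 0 0 0 w -2 * w w w / 0 0 0 0 0 0 w -2 * w 0 / 0 0 0 0 0 0 w 0 -2 * w); [D
extended down] m = (2 * m, 2 * m, 2 * m, 2 * m, 2 * m, 2 * m, 2 * m, m, m), w = (w, 2 * w, 2 * w, 2
* w, 2 * w, 2 * w, 2 * w, 2 * w, 2 * w), a = (-2 * w 2 * w 0 0 0 0 0 0 0 / 2 * w -4 * w 2 * w 0 0 0
0 0 0 / 0 2 * w -4 * w 2 * w 0 0 0 0 0 / 0 0 2 * w -4 * w 2 * w 0 0 0 0 / 0 0 0 2 * w -4 * w 2 * w 0
0 0 / 0 0 0 0 2 * w -4 * w 2 * w 0 0 / 0 0 0 0 0 2 * w -4 * w 2 * w 2 * w / 0 0 0 0 0 0 2 * w -4 * w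
0 / 0 0 0 0 0 0 2 * w 0 -4 * w); [double triple] m = (m, m, 2 * m, 2 * m, 2 * m, 2 * m, 2 * m, m,
m), w = (w, w, w, w, w, w, w, w, w), a = (-2 * w 0 w 0 0 0 0 0 0 / 0 -2 * w w 0 0 0 0 0 0 / w w -2 *
w w 0 0 0 0 0 / 0 0 w -2 * w w 0 0 0 0 / 0 0 0 w -2 * w w 0 0 0 / 0 0 0 0 w -2 * w w 0 0 / 0 0 0 0 0
w -2 * w w w / 0 0 0 0 0 0 w -2 * w 0 / 0 0 0 0 0 0 w 0 -2 * w); [E8 completed] m = (m, 2 * m, 3 *
m, 4 * m, 5 * m, 6 * m, 4 * m, 2 * m, 3 * m), w = (w, w, w, w, w, w, w, w, w), a = (-2 * w w 0 0 0 0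
0 0 0 / w -2 * w w 0 0 0 0 0 0 / 0 w -2 * w w 0 0 0 0 0 / 0 0 w -2 * w w 0 0 0 0 / 0 0 0 w -2 * w w
0 0 0 / 0 0 0 0 w -2 * w w 0 w / 0 0 0 0 0 w -2 * w w 0 / 0 0 0 0 0 0 w -2 * w 0 / 0 0 0 0 0 w 0 0
-2 * w). Only the classification direction is stated. (In the family with weights (w, 2w, …, 2w, w)
the consecutive intersection numbers are 2w, as divisibility by the weights forces; the published
list prints w there, and omits m_{n-2} = 2m in the two D-type families.) -/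
theorem result (T : Models.NumericalType 9) (hmin : T.IsMinimal) (hg : T.genus = 1) :
    (∀ i, T.g i = 0) ∧ ∃ (σ : Equiv.Perm (Fin 9)) (m w : ℤ),
      ((T.m (σ 0) = m ∧ T.m (σ 1) = m ∧ T.m (σ 2) = m ∧ T.m (σ 3) = m ∧ T.m (σ 4) = m ∧ T.m (σ 5) = m ∧ T.m (σ 6) = m ∧ T.m (σ 7) = m ∧ T.m (σ 8) = m ∧ T.w (σ 0) = w ∧ T.w (σ 1) = w ∧ T.w (σ 2) = w ∧ T.w (σ 3) = w ∧ T.w (σ 4) = w ∧ T.w (σ 5) = w ∧ T.w (σ 6) = w ∧ T.w (σ 7) = w ∧ T.w (σ 8) = w ∧ T.a (σ 0) (σ 0) = -2 * w ∧ T.a (σ 0) (σ 1) = w ∧ T.a (σ 0) (σ 2) = 0 ∧ T.a (σ 0) (σ 3) = 0 ∧ T.a (σ 0) (σ 4) = 0 ∧ T.a (σ 0) (σ 5) = 0 ∧ T.a (σ 0) (σ 6) = 0 ∧ T.a (σ 0) (σ 7) = 0 ∧ T.a (σ 0) (σ 8) = w ∧ T.a (σ 1) (σ 1) = -2 * w ∧ T.a (σ 1) (σ 2) = w ∧ T.a (σ 1) (σ 3) = 0 ∧ T.a (σ 1) (σ 4) = 0 ∧ T.a (σ 1) (σ 5) = 0 ∧ T.a (σ 1) (σ 6) = 0 ∧ T.a (σ 1) (σ 7) = 0 ∧ T.a (σ 1) (σ 8) = 0 ∧ T.a (σ 2) (σ 2) = -2 * w ∧ T.a (σ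 2) (σ 3) = w ∧ T.a (σ 2) (σ 4) = 0 ∧ T.a (σ 2) (σ 5) = 0 ∧ T.a (σ 2) (σ 6) = 0 ∧ T.a (σ 2) (σ 7) = 0 ∧ T.a (σ 2) (σ 8) = 0 ∧ T.a (σ 3) (σ 3) = -2 * w ∧ T.a (σ 3) (σ 4) = w ∧ T.a (σ 3) (σ 5) = 0 ∧ T.a (σ 3) (σ 6) = 0 ∧ T.a (σ 3) (σ 7) = 0 ∧ T.a (σ 3) (σ 8) = 0 ∧ T.a (σ 4) (σ 4) = -2 * w ∧ T.a (σ 4) (σ 5) = w ∧ T.a (σ 4) (σ 6) = 0 ∧ T.a (σ 4) (σ 7) = 0 ∧ T.a (σ 4) (σ 8) = 0 ∧ T.a (σ 5) (σ 5) = -2 * w ∧ T.a (σ 5) (σ 6) = w ∧ T.a (σ 5) (σ 7) = 0 ∧ T.a (σ 5) (σ 8) = 0 ∧ T.a (σ 6) (σ 6) = -2 * w ∧ T.a (σ 6) (σ 7) = w ∧ T.a (σ 6) (σ 8) = 0 ∧ T.a (σ 7) (σ 7) = -2 * w ∧ T.a (σ 7) (σ 8) = w ∧ T.a (σ 8) (σ 8) = -2 * w) ∨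
      (T.m (σ 0) = 2 * m ∧ T.m (σ 1) = 2 * m ∧ T.m (σ 2) = 2 * m ∧ T.m (σ 3) = 2 * m ∧ T.m (σ 4) = 2 * m ∧ T.m (σ 5) = 2 * m ∧ T.m (σ 6) = 2 * m ∧ T.m (σ 7) = 2 * m ∧ T.m (σ 8) = m ∧ T.w (σ 0) = w ∧ T.w (σ 1) = 2 * w ∧ T.w (σ 2) = 2 * w ∧ T.w (σ 3) = 2 * w ∧ T.w (σ 4) = 2 * w ∧ T.w (σ 5) = 2 * w ∧ T.w (σ 6) = 2 * w ∧ T.w (σ 7) = 2 * w ∧ T.w (σ 8) = 4 * w ∧ T.a (σ 0) (σ 0) = -2 * w ∧ T.a (σ 0) (σ 1) = 2 * w ∧ T.a (σ 0) (σ 2) = 0 ∧ T.a (σ 0) (σ 3) = 0 ∧ T.a (σ 0) (σ 4) = 0 ∧ T.a (σ 0) (σ 5) = 0 ∧ T.a (σ 0) (σ 6) = 0 ∧ T.a (σ 0) (σ 7) = 0 ∧ T.a (σ 0) (σ 8) = 0 ∧ T.a (σ 1) (σ 1) = -4 * w ∧ T.a (σ 1) (σ 2) = 2 * w ∧ T.a (σ 1) (σ 3) = 0 ∧ T.a (σ 1) (σ 4) = 0 ∧ T.a (σ 1) (σ 5) = 0 ∧ T.a (σ 1) (σ 6) = 0 ∧ T.a (σ 1) (σ 7) = 0 ∧ T.a (σ 1) (σ 8) = 0 ∧ T.a (σ 2) (σ 2) = -4 * w ∧ T.a (σ 2) (σ 3) = 2 * w ∧ T.a (σ 2) (σ 4) = 0 ∧ T.a (σ 2) (σ 5) = 0 ∧ T.a (σ 2) (σ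 6) = 0 ∧ T.a (σ 2) (σ 7) = 0 ∧ T.a (σ 2) (σ 8) = 0 ∧ T.a (σ 3) (σ 3) = -4 * w ∧ T.a (σ 3) (σ 4) = 2 * w ∧ T.a (σ 3) (σ 5) = 0 ∧ T.a (σ 3) (σ 6) = 0 ∧ T.a (σ 3) (σ 7) = 0 ∧ T.a (σ 3) (σ 8) = 0 ∧ T.a (σ 4) (σ 4) = -4 * w ∧ T.a (σ 4) (σ 5) = 2 * w ∧ T.a (σ 4) (σ 6) = 0 ∧ T.a (σ 4) (σ 7) = 0 ∧ T.a (σ 4) (σ 8) = 0 ∧ T.a (σ 5) (σ 5) = -4 * w ∧ T.a (σ 5) (σ 6) = 2 * w ∧ T.a (σ 5) (σ 7) = 0 ∧ T.a (σ 5) (σ 8) = 0 ∧ T.a (σ 6) (σ 6) = -4 * w ∧ T.a (σ 6) (σ 7) = 2 * w ∧ T.a (σ 6) (σ 8) = 0 ∧ T.a (σ 7) (σ 7) = -4 * w ∧ T.a (σ 7) (σ 8) = 4 * w ∧ T.a (σ 8) (σ 8) = -8 * w) ∨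
      (T.m (σ 0) = m ∧ T.m (σ 1) = m ∧ T.m (σ 2) = m ∧ T.m (σ 3) = m ∧ T.m (σ 4) = m ∧ T.m (σ 5) = m ∧ T.m (σ 6) = m ∧ T.m (σ 7) = m ∧ T.m (σ 8) = m ∧ T.w (σ 0) = w ∧ T.w (σ 1) = 2 * w ∧ T.w (σ 2) = 2 * w ∧ T.w (σ 3) = 2 * w ∧ T.w (σ 4) = 2 * w ∧ T.w (σ 5) = 2 * w ∧ T.w (σ 6) = 2 * w ∧ T.w (σ 7) = 2 * w ∧ T.w (σ 8) = w ∧ T.a (σ 0) (σ 0) = -2 * w ∧ T.a (σ 0) (σ 1) = 2 * w ∧ T.a (σ 0) (σ 2) = 0 ∧ T.a (σ 0) (σ 3) = 0 ∧ T.a (σ 0) (σ 4) = 0 ∧ T.a (σ 0) (σ 5) = 0 ∧ T.a (σ 0) (σ 6) = 0 ∧ T.a (σ 0) (σ 7) = 0 ∧ T.a (σ 0) (σ 8) = 0 ∧ T.a (σ 1) (σ 1) = -4 * w ∧ T.a (σ 1) (σ 2) = 2 * w ∧ T.a (σ 1) (σ 3) = 0 ∧ T.a (σ 1) (σ 4) = 0 ∧ T.a (σ 1) (σ 5) = 0 ∧ T.a (σ 1) (σ 6) = 0 ∧ T.a (σ 1) (σ 7) = 0 ∧ T.a (σ 1) (σ 8) = 0 ∧ T.a (σ 2) (σ 2) = -4 * w ∧ T.a (σ 2) (σ 3) = 2 * w ∧ T.a (σ 2) (σ 4) = 0 ∧ T.a (σ 2) (σ 5) = 0 ∧ T.a (σ 2) (σ 6) = 0 ∧ T.a (σ 2) (σ 7) = 0 ∧ T.a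 (σ 2) (σ 8) = 0 ∧ T.a (σ 3) (σ 3) = -4 * w ∧ T.a (σ 3) (σ 4) = 2 * w ∧ T.a (σ 3) (σ 5) = 0 ∧ T.a (σ 3) (σ 6) = 0 ∧ T.a (σ 3) (σ 7) = 0 ∧ T.a (σ 3) (σ 8) = 0 ∧ T.a (σ 4) (σ 4) = -4 * w ∧ T.a (σ 4) (σ 5) = 2 * w ∧ T.a (σ 4) (σ 6) = 0 ∧ T.a (σ 4) (σ 7) = 0 ∧ T.a (σ 4) (σ 8) = 0 ∧ T.a (σ 5) (σ 5) = -4 * w ∧ T.a (σ 5) (σ 6) = 2 * w ∧ T.a (σ 5) (σ 7) = 0 ∧ T.a (σ 5) (σ 8) = 0 ∧ T.a (σ 6) (σ 6) = -4 * w ∧ T.a (σ 6) (σ 7) = 2 * w ∧ T.a (σ 6) (σ 8) = 0 ∧ T.a (σ 7) (σ 7) = -4 * w ∧ T.a (σ 7) (σ 8) = 2 * w ∧ T.a (σ 8) (σ 8) = -2 * w) ∨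
      (T.m (σ 0) = m ∧ T.m (σ 1) = 2 * m ∧ T.m (σ 2) = 2 * m ∧ T.m (σ 3) = 2 * m ∧ T.m (σ 4) = 2 * m ∧ T.m (σ 5) = 2 * m ∧ T.m (σ 6) = 2 * m ∧ T.m (σ 7) = 2 * m ∧ T.m (σ 8) = m ∧ T.w (σ 0) = 2 * w ∧ T.w (σ 1) = w ∧ T.w (σ 2) = w ∧ T.w (σ 3) = w ∧ T.w (σ 4) = w ∧ T.w (σ 5) = w ∧ T.w (σ 6) = w ∧ T.w (σ 7) = w ∧ T.w (σ 8) = 2 * w ∧ T.a (σ 0) (σ 0) = -4 * w ∧ T.a (σ 0) (σ 1) = 2 * w ∧ T.a (σ 0) (σ 2) = 0 ∧ T.a (σ 0) (σ 3) = 0 ∧ T.a (σ 0) (σ 4) = 0 ∧ T.a (σ 0) (σ 5) = 0 ∧ T.a (σ 0) (σ 6) = 0 ∧ T.a (σ 0) (σ 7) = 0 ∧ T.a (σ 0) (σ 8) = 0 ∧ T.a (σ 1) (σ 1) = -2 * w ∧ T.a (σ 1) (σ 2) = w ∧ T.a (σ 1) (σ 3) = 0 ∧ T.a (σ 1) (σ 4) = 0 ∧ T.a (σ 1) (σ 5) = 0 ∧ T.a (σ 1) (σ 6) = 0 ∧ T.a (σ 1) (σ 7) = 0 ∧ T.a (σ 1) (σ 8) = 0 ∧ T.a (σ 2) (σ 2) = -2 * w ∧ T.a (σ 2) (σ 3) = w ∧ T.a (σ 2) (σ 4) = 0 ∧ T.a (σ 2) (σ 5) = 0 ∧ T.a (σ 2) (σ 6) = 0 ∧ T.a (σ 2) (σ 7) = 0 ∧ T.a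 (σ 2) (σ 8) = 0 ∧ T.a (σ 3) (σ 3) = -2 * w ∧ T.a (σ 3) (σ 4) = w ∧ T.a (σ 3) (σ 5) = 0 ∧ T.a (σ 3) (σ 6) = 0 ∧ T.a (σ 3) (σ 7) = 0 ∧ T.a (σ 3) (σ 8) = 0 ∧ T.a (σ 4) (σ 4) = -2 * w ∧ T.a (σ 4) (σ 5) = w ∧ T.a (σ 4) (σ 6) = 0 ∧ T.a (σ 4) (σ 7) = 0 ∧ T.a (σ 4) (σ 8) = 0 ∧ T.a (σ 5) (σ 5) = -2 * w ∧ T.a (σ 5) (σ 6) = w ∧ T.a (σ 5) (σ 7) = 0 ∧ T.a (σ 5) (σ 8) = 0 ∧ T.a (σ 6) (σ 6) = -2 * w ∧ T.a (σ 6) (σ 7) = w ∧ T.a (σ 6) (σ 8) = 0 ∧ T.a (σ 7) (σ 7) = -2 * w ∧ T.a (σ 7) (σ 8) = 2 * w ∧ T.a (σ 8) (σ 8) = -4 * w) ∨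
      (T.m (σ 0) = m ∧ T.m (σ 1) = 2 * m ∧ T.m (σ 2) = 2 * m ∧ T.m (σ 3) = 2 * m ∧ T.m (σ 4) = 2 * m ∧ T.m (σ 5) = 2 * m ∧ T.m (σ 6) = 2 * m ∧ T.m (σ 7) = m ∧ T.m (σ 8) = m ∧ T.w (σ 0) = 2 * w ∧ T.w (σ 1) = w ∧ T.w (σ 2) = w ∧ T.w (σ 3) = w ∧ T.w (σ 4) = w ∧ T.w (σ 5) = w ∧ T.w (σ 6) = w ∧ T.w (σ 7) = w ∧ T.w (σ 8) = w ∧ T.a (σ 0) (σ 0) = -4 * w ∧ T.a (σ 0) (σ 1) = 2 * w ∧ T.a (σ 0) (σ 2) = 0 ∧ T.a (σ 0) (σ 3) = 0 ∧ T.a (σ 0) (σ 4) = 0 ∧ T.a (σ 0) (σ 5) = 0 ∧ T.a (σ 0) (σ 6) = 0 ∧ T.a (σ 0) (σ 7) = 0 ∧ T.a (σ 0) (σ 8) = 0 ∧ T.a (σ 1) (σ 1) = -2 * w ∧ T.a (σ 1) (σ 2) = w ∧ T.a (σ 1) (σ 3) = 0 ∧ T.a (σ 1) (σ 4) = 0 ∧ T.a (σ 1) (σ 5) = 0 ∧ T.a (σ 1) (σ 6) = 0 ∧ T.a (σ 1) (σ 7) = 0 ∧ T.a (σ 1) (σ 8) = 0 ∧ T.a (σ 2) (σ 2) = -2 * w ∧ T.a (σ 2) (σ 3) = w ∧ T.a (σ 2) (σ 4) = 0 ∧ T.a (σ 2) (σ 5) = 0 ∧ T.a (σ 2) (σ 6) = 0 ∧ T.a (σ 2) (σ 7) = 0 ∧ T.a (σ 2) (σ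 8) = 0 ∧ T.a (σ 3) (σ 3) = -2 * w ∧ T.a (σ 3) (σ 4) = w ∧ T.a (σ 3) (σ 5) = 0 ∧ T.a (σ 3) (σ 6) = 0 ∧ T.a (σ 3) (σ 7) = 0 ∧ T.a (σ 3) (σ 8) = 0 ∧ T.a (σ 4) (σ 4) = -2 * w ∧ T.a (σ 4) (σ 5) = w ∧ T.a (σ 4) (σ 6) = 0 ∧ T.a (σ 4) (σ 7) = 0 ∧ T.a (σ 4) (σ 8) = 0 ∧ T.a (σ 5) (σ 5) = -2 * w ∧ T.a (σ 5) (σ 6) = w ∧ T.a (σ 5) (σ 7) = 0 ∧ T.a (σ 5) (σ 8) = 0 ∧ T.a (σ 6) (σ 6) = -2 * w ∧ T.a (σ 6) (σ 7) = w ∧ T.a (σ 6) (σ 8) = w ∧ T.a (σ 7) (σ 7) = -2 * w ∧ T.a (σ 7) (σ 8) = 0 ∧ T.a (σ 8) (σ 8) = -2 * w) ∨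
      (T.m (σ 0) = 2 * m ∧ T.m (σ 1) = 2 * m ∧ T.m (σ 2) = 2 * m ∧ T.m (σ 3) = 2 * m ∧ T.m (σ 4) = 2 * m ∧ T.m (σ 5) = 2 * m ∧ T.m (σ 6) = 2 * m ∧ T.m (σ 7) = m ∧ T.m (σ 8) = m ∧ T.w (σ 0) = w ∧ T.w (σ 1) = 2 * w ∧ T.w (σ 2) = 2 * w ∧ T.w (σ 3) = 2 * w ∧ T.w (σ 4) = 2 * w ∧ T.w (σ 5) = 2 * w ∧ T.w (σ 6) = 2 * w ∧ T.w (σ 7) = 2 * w ∧ T.w (σ 8) = 2 * w ∧ T.a (σ 0) (σ 0) = -2 * w ∧ T.a (σ 0) (σ 1) = 2 * w ∧ T.a (σ 0) (σ 2) = 0 ∧ T.a (σ 0) (σ 3) = 0 ∧ T.a (σ 0) (σ 4) = 0 ∧ T.a (σ 0) (σ 5) = 0 ∧ T.a (σ 0) (σ 6) = 0 ∧ T.a (σ 0) (σ 7) = 0 ∧ T.a (σ 0) (σ 8) = 0 ∧ T.a (σ 1) (σ 1) = -4 * w ∧ T.a (σ 1) (σ 2) = 2 * w ∧ T.a (σ 1) (σ 3) = 0 ∧ T.a (σ 1) (σ 4) = 0 ∧ T.a (σ 1) (σ 5) = 0 ∧ T.a (σ 1) (σ 6) = 0 ∧ T.a (σ 1) (σ 7) = 0 ∧ T.a (σ 1) (σ 8) = 0 ∧ T.a (σ 2) (σ 2) = -4 * w ∧ T.a (σ 2) (σ 3) = 2 * w ∧ T.a (σ 2) (σ 4) = 0 ∧ T.a (σ 2) (σ 5) = 0 ∧ T.a (σ 2) (σ 6)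 = 0 ∧ T.a (σ 2) (σ 7) = 0 ∧ T.a (σ 2) (σ 8) = 0 ∧ T.a (σ 3) (σ 3) = -4 * w ∧ T.a (σ 3) (σ 4) = 2 * w ∧ T.a (σ 3) (σ 5) = 0 ∧ T.a (σ 3) (σ 6) = 0 ∧ T.a (σ 3) (σ 7) = 0 ∧ T.a (σ 3) (σ 8) = 0 ∧ T.a (σ 4) (σ 4) = -4 * w ∧ T.a (σ 4) (σ 5) = 2 * w ∧ T.a (σ 4) (σ 6) = 0 ∧ T.a (σ 4) (σ 7) = 0 ∧ T.a (σ 4) (σ 8) = 0 ∧ T.a (σ 5) (σ 5) = -4 * w ∧ T.a (σ 5) (σ 6) = 2 * w ∧ T.a (σ 5) (σ 7) = 0 ∧ T.a (σ 5) (σ 8) = 0 ∧ T.a (σ 6) (σ 6) = -4 * w ∧ T.a (σ 6) (σ 7) = 2 * w ∧ T.a (σ 6) (σ 8) = 2 * w ∧ T.a (σ 7) (σ 7) = -4 * w ∧ T.a (σ 7) (σ 8) = 0 ∧ T.a (σ 8) (σ 8) = -4 * w) ∨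
      (T.m (σ 0) = m ∧ T.m (σ 1) = m ∧ T.m (σ 2) = 2 * m ∧ T.m (σ 3) = 2 * m ∧ T.m (σ 4) = 2 * m ∧ T.m (σ 5) = 2 * m ∧ T.m (σ 6) = 2 * m ∧ T.m (σ 7) = m ∧ T.m (σ 8) = m ∧ T.w (σ 0) = w ∧ T.w (σ 1) = w ∧ T.w (σ 2) = w ∧ T.w (σ 3) = w ∧ T.w (σ 4) = w ∧ T.w (σ 5) = w ∧ T.w (σ 6) = w ∧ T.w (σ 7) = w ∧ T.w (σ 8) = w ∧ T.a (σ 0) (σ 0) = -2 * w ∧ T.a (σ 0) (σ 1) = 0 ∧ T.a (σ 0) (σ 2) = w ∧ T.a (σ 0) (σ 3) = 0 ∧ T.a (σ 0) (σ 4) = 0 ∧ T.a (σ 0) (σ 5) = 0 ∧ T.a (σ 0) (σ 6) = 0 ∧ T.a (σ 0) (σ 7) = 0 ∧ T.a (σ 0) (σ 8) = 0 ∧ T.a (σ 1) (σ 1) = -2 * w ∧ T.a (σ 1) (σ 2) = w ∧ T.a (σ 1) (σ 3) = 0 ∧ T.a (σ 1) (σ 4) = 0 ∧ T.a (σ 1) (σ 5) = 0 ∧ T.a (σ 1) (σ 6) = 0 ∧ T.a (σ 1) (σ 7) = 0 ∧ T.a (σ 1) (σ 8) = 0 ∧ T.a (σ 2) (σ 2) = -2 * w ∧ T.a (σ 2) (σ 3) = w ∧ T.a (σ 2) (σ 4) = 0 ∧ T.a (σ 2) (σ 5) = 0 ∧ T.a (σ 2) (σ 6) = 0 ∧ T.a (σ 2) (σ 7) = 0 ∧ T.a (σ 2) (σ 8) = 0 ∧ T.a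 (σ 3) (σ 3) = -2 * w ∧ T.a (σ 3) (σ 4) = w ∧ T.a (σ 3) (σ 5) = 0 ∧ T.a (σ 3) (σ 6) = 0 ∧ T.a (σ 3) (σ 7) = 0 ∧ T.a (σ 3) (σ 8) = 0 ∧ T.a (σ 4) (σ 4) = -2 * w ∧ T.a (σ 4) (σ 5) = w ∧ T.a (σ 4) (σ 6) = 0 ∧ T.a (σ 4) (σ 7) = 0 ∧ T.a (σ 4) (σ 8) = 0 ∧ T.a (σ 5) (σ 5) = -2 * w ∧ T.a (σ 5) (σ 6) = w ∧ T.a (σ 5) (σ 7) = 0 ∧ T.a (σ 5) (σ 8) = 0 ∧ T.a (σ 6) (σ 6) = -2 * w ∧ T.a (σ 6) (σ 7) = w ∧ T.a (σ 6) (σ 8) = w ∧ T.a (σ 7) (σ 7) = -2 * w ∧ T.a (σ 7) (σ 8) = 0 ∧ T.a (σ 8) (σ 8) = -2 * w) ∨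
      (T.m (σ 0) = m ∧ T.m (σ 1) = 2 * m ∧ T.m (σ 2) = 3 * m ∧ T.m (σ 3) = 4 * m ∧ T.m (σ 4) = 5 * m ∧ T.m (σ 5) = 6 * m ∧ T.m (σ 6) = 4 * m ∧ T.m (σ 7) = 2 * m ∧ T.m (σ 8) = 3 * m ∧ T.w (σ 0) = w ∧ T.w (σ 1) = w ∧ T.w (σ 2) = w ∧ T.w (σ 3) = w ∧ T.w (σ 4) = w ∧ T.w (σ 5) = w ∧ T.w (σ 6) = w ∧ T.w (σ 7) = w ∧ T.w (σ 8) = w ∧ T.a (σ 0) (σ 0) = -2 * w ∧ T.a (σ 0) (σ 1) = w ∧ T.a (σ 0) (σ 2) = 0 ∧ T.a (σ 0) (σ 3) = 0 ∧ T.a (σ 0) (σ 4) = 0 ∧ T.a (σ 0) (σ 5) = 0 ∧ T.a (σ 0) (σ 6) = 0 ∧ T.a (σ 0) (σ 7) = 0 ∧ T.a (σ 0) (σ 8) = 0 ∧ T.a (σ 1) (σ 1) = -2 * w ∧ T.a (σ 1) (σ 2) = w ∧ T.a (σ 1) (σ 3) = 0 ∧ T.a (σ 1) (σ 4) = 0 ∧ T.a (σ 1) (σ 5) = 0 ∧ T.a (σ 1) (σ 6) = 0 ∧ T.a (σ 1) (σ 7) = 0 ∧ T.a (σ 1) (σ 8) = 0 ∧ T.a (σ 2) (σ 2) = -2 * w ∧ T.a (σ 2) (σ 3) = w ∧ T.a (σ 2) (σ 4) = 0 ∧ T.a (σ 2) (σ 5) = 0 ∧ T.a (σ 2) (σ 6) = 0 ∧ T.a (σ 2) (σ 7) = 0 ∧ T.a (σ 2) (σ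 8) = 0 ∧ T.a (σ 3) (σ 3) = -2 * w ∧ T.a (σ 3) (σ 4) = w ∧ T.a (σ 3) (σ 5) = 0 ∧ T.a (σ 3) (σ 6) = 0 ∧ T.a (σ 3) (σ 7) = 0 ∧ T.a (σ 3) (σ 8) = 0 ∧ T.a (σ 4) (σ 4) = -2 * w ∧ T.a (σ 4) (σ 5) = w ∧ T.a (σ 4) (σ 6) = 0 ∧ T.a (σ 4) (σ 7) = 0 ∧ T.a (σ 4) (σ 8) = 0 ∧ T.a (σ 5) (σ 5) = -2 * w ∧ T.a (σ 5) (σ 6) = w ∧ T.a (σ 5) (σ 7) = 0 ∧ T.a (σ 5) (σ 8) = w ∧ T.a (σ 6) (σ 6) = -2 * w ∧ T.a (σ 6) (σ 7) = w ∧ T.a (σ 6) (σ 8) = 0 ∧ T.a (σ 7) (σ 7) = -2 * w ∧ T.a (σ 7) (σ 8) = 0 ∧ T.a (σ 8) (σ 8) = -2 * w)) := by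
  have hm2 := all_minusTwo T hmin (by norm_num) hg
  exact ⟨fun i => (hm2 i).1, st0 T hm2 (pointEmb 0) (knows_point T hm2 0 M0 (by decide))⟩

end Groth.Agent.S7370
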