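import Groth.Statements.S7386
import Mathlib
import Groth.Agent.Lib.Helper81.MaxPts
-- import your own Groth.Agent.* helpers here

set_option autoImplicit false
universe u
open CategoryTheory AlgebraicGeometry
open Mor

namespace Groth.Agent.S7386
open CategoryTheory AlgebraicGeometry Limits TopologicalSpace Topology


open scoped Function in

/-- Let `X` be a quasi-separated scheme, `η_1, …, η_n` generic points of irreducible components of `X`
and `x` any point of `X`. Then some affine open of `X` contains `x` and all the `η_i`. -/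
theorem result (X : Scheme.{u}) [QuasiSeparatedSpace X] {n : ℕ}
    (η : Fin n → X) (hη : ∀ i, closure ({η i} : Set X) ∈ irreducibleComponents (X : Type u)) (x : X) :
    ∃ U : X.Opens, IsAffineOpen U ∧ x ∈ U ∧ ∀ i, η i ∈ U := by
  classical
  obtain ⟨U₀, hU₀, hxU₀, -⟩ := exists_isAffineOpen_mem_and_subset (X := X) (x := x) (U := ⊤) trivial
  let H : Finset X := (Finset.univ.image η).filter (· ∉ U₀)
  let e : Fin H.card ≃ H := H.equivFin.symm
  let η' : Fin H.card → X := fun k => (e k).1
  have hη'mem : ∀ k, η' k ∈ H := fun k => (e k).2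
  have hη'inj : Function.Injective η' := fun a b h => e.injective (Subtype.ext h)
  have hη'max : ∀ k, closure ({η' k} : Set X) ∈ irreducibleComponents (X : Type u) := by
    intro k
    obtain ⟨i, -, hi⟩ := Finset.mem_image.mp (Finset.mem_filter.mp (hη'mem k)).1
    rw [← hi]; exact hη i
  have hη'U₀ : ∀ k, η' k ∉ U₀ := fun k => (Finset.mem_filter.mp (hη'mem k)).2
  obtain ⟨U, hU, hdisj, hUQ⟩ := Groth.Agent.Lib.Helper81.MaxPts.exists_disjoint_affine_nhds X η'
    hη'max hη'inj U₀ hU₀.isCompact hη'U₀
  have haff : IsAffineOpen (⨆ k, U k) :=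
    IsAffineOpen.iSup_of_disjoint (fun k => (hU k).1) (fun i j h => hdisj i j h)
  have hd : Disjoint U₀ (⨆ k, U k) := by
    rw [disjoint_iff, inf_iSup_eq]
    simp only [iSup_eq_bot]
    intro k
    rw [inf_comm]; exact hUQ k
  refine ⟨U₀ ⊔ ⨆ k, U k, hU₀.sup_of_disjoint haff hd, Or.inl hxU₀, ?_⟩
  intro i
  by_cases hi : η i ∈ U₀
  · exact Or.inl hi
  · right
    have hmem : η i ∈ H := Finset.mem_filter.mpr ⟨Finset.mem_image_of_mem η (Finset.mem_univ i), hi⟩
    have : η' (e.symm ⟨η i, hmem⟩) = η i := by simp [η']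
    rw [← this]
    exact Opens.mem_iSup.mpr ⟨_, (hU _).2⟩

end Groth.Agent.S7386
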