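import Groth.Statements.S7387
import Mathlib
import Groth.Agent.Lib.Helper81.SepCrit
-- import your own Groth.Agent.* helpers here

set_option autoImplicit false
universe u
open CategoryTheory AlgebraicGeometry
open Mor

namespace Groth.Agent.S7387
open CategoryTheory AlgebraicGeometry Limits TopologicalSpace Topology


lemma isSeparated_of_iso {A Y : Scheme.{u}} (e : A ≅ Y) [Y.IsSeparated] : A.IsSeparated :=
  ⟨by rw [← terminal.comp_from e.hom]; infer_instance⟩

/-- The union of two disjoint open subschemes which are separated is separated. -/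
lemma isSeparated_sup {X : Scheme.{u}} (V' V'' : X.Opens) (hd : Disjoint V' V'')
    [(V' : Scheme.{u}).IsSeparated] [(V'' : Scheme.{u}).IsSeparated] :
    ((V' ⊔ V'' : X.Opens) : Scheme.{u}).IsSeparated := by
  refine ⟨?_⟩
  set T : Scheme.{u} := ((V' ⊔ V'' : X.Opens) : Scheme.{u}) with hT
  let jA : (V' : Scheme.{u}) ⟶ T := X.homOfLE le_sup_left
  let jB : (V'' : Scheme.{u}) ⟶ T := X.homOfLE le_sup_right
  let A : T.Opens := jA.opensRange
  let B : T.Opens := jB.opensRange
  haveI : (A : Scheme.{u}).IsSeparated := isSeparated_of_iso jA.isoOpensRange.symm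
  haveI : (B : Scheme.{u}).IsSeparated := isSeparated_of_iso jB.isoOpensRange.symm
  have hA : ∀ t : T, t.1 ∈ V' → t ∈ A := by
    intro t ht
    change t ∈ (X.homOfLE le_sup_left).opensRange
    rw [Scheme.opensRange_homOfLE]
    exact ht
  have hB : ∀ t : T, t.1 ∈ V'' → t ∈ B := by
    intro t ht
    change t ∈ (X.homOfLE le_sup_right).opensRange
    rw [Scheme.opensRange_homOfLE]
    exact ht
  have hAB : Disjoint A B := by
    rw [disjoint_iff, eq_bot_iff]
    rintro t ⟨h1, h2⟩
    have h1' : t.1 ∈ V' := by
      have : t ∈ (X.homOfLE (le_sup_left : V' ≤ V' ⊔ V'')).opensRange := h1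
      rw [Scheme.opensRange_homOfLE] at this
      exact this
    have h2' : t.1 ∈ V'' := by
      have : t ∈ (X.homOfLE (le_sup_right : V'' ≤ V' ⊔ V'')).opensRange := h2
      rw [Scheme.opensRange_homOfLE] at this
      exact this
    exact (disjoint_iff.mp hd).le ⟨h1', h2'⟩
  have hcov : ∀ t : T, t ∈ A ∨ t ∈ B := by
    intro t
    rcases t.2 with h | h
    · exact Or.inl (hA t h)
    · exact Or.inr (hB t h)
  apply Groth.Agent.Lib.Helper81.SepCrit.isSeparated_of_forall
  intro z
  rcases hcov ((pullback.fst (terminal.from T) (terminal.from T)).base z) with h1 | h1 <;>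
    rcases hcov ((pullback.snd (terminal.from T) (terminal.from T)).base z) with h2 | h2
  · exact Or.inl ⟨A, h1, h2, inferInstance⟩
  · exact Or.inr ⟨A, B, h1, h2, hAB⟩
  · exact Or.inr ⟨B, A, h1, h2, hAB.symm⟩
  · exact Or.inl ⟨B, h1, h2, inferInstance⟩


/-- A quasi-compact scheme has a dense open subscheme which is separated. -/
theorem result (X : Scheme.{u}) [CompactSpace X] :
    ∃ V : X.Opens, Dense (V : Set X) ∧ (V : Scheme.{u}).IsSeparated := by
  classical
  have key : ∀ s : Finset X.affineOpens, ∃ V : X.Opens,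
      (⋃ i ∈ s, ((i : X.Opens) : Set X)) ⊆ closure (V : Set X) ∧ (V : Scheme.{u}).IsSeparated := by
    intro s
    induction s using Finset.induction_on with
    | empty =>
      refine ⟨⊥, by simp, ⟨?_⟩⟩
      apply isSeparated_of_injective
      intro a
      exact (a.2 : False).elim
    | insert U s hU ih =>
      obtain ⟨V', hV', hsep⟩ := ih
      let V'' : X.Opens := (U : X.Opens) ⊓ ⟨(closure (V' : Set X))ᶜ, isClosed_closure.isOpen_compl⟩
      have hd : Disjoint V' V'' := by
        rw [disjoint_iff, eq_bot_iff]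
        rintro x ⟨h1, -, h2⟩
        exact h2 (subset_closure h1)
      haveI : IsAffine ((U : X.Opens) : Scheme.{u}) := U.2
      haveI : (V'' : Scheme.{u}).IsSeparated :=
        ⟨by rw [← terminal.comp_from (X.homOfLE (inf_le_left : V'' ≤ (U : X.Opens)))]
            infer_instance⟩
      refine ⟨V' ⊔ V'', ?_, isSeparated_sup V' V'' hd⟩
      intro x hx
      simp only [Finset.mem_insert, Set.iUnion_iUnion_eq_or_left, Set.mem_union] at hx
      rcases hx with hx | hx
      · by_cases hc : x ∈ closure (V' : Set X)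
        · exact closure_mono (by intro y hy; exact Or.inl hy) hc
        · exact subset_closure (Or.inr ⟨hx, hc⟩)
      · exact closure_mono (by intro y hy; exact Or.inl hy) (hV' hx)
  obtain ⟨s, hs, hcov⟩ := (isCompact_and_isOpen_iff_finite_and_eq_biUnion_affineOpens (X := X)
    (U := Set.univ)).mp ⟨isCompact_univ, isOpen_univ⟩
  obtain ⟨V, hV, hsep⟩ := key hs.toFinset
  refine ⟨V, ?_, hsep⟩
  rw [dense_iff_closure_eq, ← Set.univ_subset_iff, hcov]
  simpa using hV

end Groth.Agent.S7387
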