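import Groth.Statements.S9616
import Mathlib

set_option autoImplicit false
universe u
open CAlg

namespace Groth.Agent.S9616

open DirectSum in
theorem single_avoid {R S : Type u} [CommRing R] [CommRing S] [Algebra R S]
    (𝒜 : ℕ → Submodule R S) [GradedAlgebra 𝒜]
    (P : HomogeneousIdeal 𝒜) (I : HomogeneousIdeal 𝒜)
    (hI : I ≤ HomogeneousIdeal.irrelevant 𝒜) (h : ¬ I ≤ P) :
    ∃ x : S, ∃ d : ℕ, 0 < d ∧ x ∈ 𝒜 d ∧ x ∈ I ∧ x ∉ P := by
  classical
  obtain ⟨z, hzI, hzP⟩ := SetLike.not_le_iff_exists.mp h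
  have hex : ∃ n, (decompose 𝒜 z n : S) ∉ P := by
    by_contra hcon
    push Not at hcon
    apply hzP
    rw [← DirectSum.sum_support_decompose 𝒜 z]
    exact P.toIdeal.sum_mem (fun n _ => hcon n)
  obtain ⟨n, hn⟩ := hex
  refine ⟨(decompose 𝒜 z n : S), n, ?_, SetLike.coe_mem _, I.isHomogeneous n hzI, hn⟩
  rcases Nat.eq_zero_or_pos n with h0 | h0
  · exfalso
    subst h0
    have : (decompose 𝒜 z 0 : S) = 0 := (HomogeneousIdeal.mem_irrelevant_iff 𝒜 z).mp (hI hzI)
    rw [this] at hn
    exact hn P.toIdeal.zero_mem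
  · exact h0

theorem avoid_finset {R S : Type u} [CommRing R] [CommRing S] [Algebra R S]
    (𝒜 : ℕ → Submodule R S) [GradedAlgebra 𝒜]
    {r : ℕ} (p : Fin r → HomogeneousIdeal 𝒜) (hp : ∀ i, (p i).toIdeal.IsPrime)
    (I : HomogeneousIdeal 𝒜) (hI : I ≤ HomogeneousIdeal.irrelevant 𝒜) (h : ∀ i, ¬ I ≤ p i)
    (s : Finset (Fin r)) :
    ∃ x : S, ∃ d : ℕ, 0 < d ∧ x ∈ 𝒜 d ∧ x ∈ I ∧ ∀ i ∈ s, x ∉ p i := by
  classical
  induction s using Finset.strongInduction with
  | H s IH =>
    have hch : ∀ i ∈ s, ∃ x : S, ∃ d : ℕ, 0 < d ∧ x ∈ 𝒜 d ∧ x ∈ I ∧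
        ∀ k ∈ s.erase i, x ∉ p k := fun i hi => IH (s.erase i) (Finset.erase_ssubset hi)
    choose! x d hd hx hxI hxp using hch
    by_cases hex : ∃ i ∈ s, x i ∉ p i
    · obtain ⟨i, hi, hni⟩ := hex
      refine ⟨x i, d i, hd i hi, hx i hi, hxI i hi, fun k hk => ?_⟩
      by_cases hki : k = i
      · subst hki; exact hni
      · exact hxp i hi k (Finset.mem_erase.mpr ⟨hki, hk⟩)
    · push Not at hex
      rcases s.eq_empty_or_nonempty with hs | ⟨j, hj⟩
      · exact ⟨0, 1, Nat.one_pos, Submodule.zero_mem _, I.toIdeal.zero_mem, by simp [hs]⟩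
      · rcases (s.erase j).eq_empty_or_nonempty with ht | ⟨i0, hi0⟩
        · obtain ⟨z, e, he, hz, hzI, hzP⟩ := single_avoid 𝒜 (p j) I hI (h j)
          refine ⟨z, e, he, hz, hzI, fun k hk => ?_⟩
          by_cases hkj : k = j
          · subst hkj; exact hzP
          · exact absurd (Finset.mem_erase.mpr ⟨hkj, hk⟩) (by simp [ht])
        · set t := s.erase j with ht
          have htS : ∀ i ∈ t, i ∈ s := fun i hi => Finset.mem_of_mem_erase hi
          have htne : ∀ i ∈ t, i ≠ j := fun i hi => Finset.ne_of_mem_erase hi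
          set y : S := ∏ i ∈ t, x i with hy
          set e : ℕ := ∑ i ∈ t, d i with he
          have hypos : 0 < e := by
            have h1 : d i0 ≤ e := Finset.single_le_sum (f := d) (fun _ _ => Nat.zero_le _) hi0
            exact lt_of_lt_of_le (hd i0 (htS i0 hi0)) h1
          have hyA : y ∈ 𝒜 e :=
            SetLike.prod_mem_graded 𝒜 d x (fun k hk => hx k (htS k hk))
          have hyI : y ∈ I.toIdeal := by
            rw [hy, ← Finset.mul_prod_erase t x hi0]
            exact I.toIdeal.mul_mem_right _ (hxI i0 (htS i0 hi0))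
          have hyp : ∀ i ∈ t, y ∈ (p i).toIdeal := by
            intro i hi
            rw [hy, ← Finset.mul_prod_erase t x hi]
            exact (p i).toIdeal.mul_mem_right _ (hex i (htS i hi))
          have hynj : y ∉ (p j).toIdeal := by
            intro hcon
            have hpj := hp j
            rw [hy, Ideal.IsPrime.prod_mem_iff] at hcon
            obtain ⟨i, hi, hxi⟩ := hcon
            exact hxp i (htS i hi) j (Finset.mem_erase.mpr ⟨(htne i hi).symm, hj⟩) hxi
          refine ⟨x j ^ e + y ^ (d j), d j * e, Nat.mul_pos (hd j hj) hypos, ?_, ?_, ?_⟩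
          · refine Submodule.add_mem _ ?_ ?_
            · have := SetLike.pow_mem_graded e (hx j hj)
              rwa [smul_eq_mul, mul_comm] at this
            · have := SetLike.pow_mem_graded (d j) hyA
              rwa [smul_eq_mul] at this
          · exact I.toIdeal.add_mem (Ideal.pow_mem_of_mem _ (hxI j hj) e hypos)
              (Ideal.pow_mem_of_mem _ hyI (d j) (hd j hj))
          · intro k hk hcon
            by_cases hkj : k = j
            · subst hkj
              have h1 : x k ^ e ∈ (p k).toIdeal := Ideal.pow_mem_of_mem _ (hex k hk) e hypos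
              have h2 : y ^ d k ∈ (p k).toIdeal := by
                have := (p k).toIdeal.sub_mem hcon h1
                simpa using this
              exact hynj ((hp k).mem_of_pow_mem _ h2)
            · have hkt : k ∈ t := Finset.mem_erase.mpr ⟨hkj, hk⟩
              have h1 : y ^ d j ∈ (p k).toIdeal :=
                Ideal.pow_mem_of_mem _ (hyp k hkt) (d j) (hd j hj)
              have h2 : x j ^ e ∈ (p k).toIdeal := by
                have := (p k).toIdeal.sub_mem hcon h1
                simpa using this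
              exact hxp j hj k hkt ((hp k).mem_of_pow_mem _ h2)

/-- Let S be an ℕ-graded ring, p_1, …, p_r homogeneous prime ideals of S and I ⊆ S₊ a homogeneous ideal
not contained in any p_i. Then there is a homogeneous element x ∈ I of positive degree with x ∉ p_i
for all i. -/
theorem result {R S : Type u} [CommRing R] [CommRing S] [Algebra R S] (𝒜 : ℕ → Submodule R S) [GradedAlgebra 𝒜]
    {r : ℕ} (p : Fin r → HomogeneousIdeal 𝒜) (hp : ∀ i, (p i).toIdeal.IsPrime) (I : HomogeneousIdeal 𝒜) (hI : I ≤ HomogeneousIdeal.irrelevant 𝒜) (h : ∀ i, ¬ I ≤ p i) :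
    ∃ x : S, ∃ d : ℕ, 0 < d ∧ x ∈ 𝒜 d ∧ x ∈ I ∧ ∀ i, x ∉ p i := by
  obtain ⟨x, d, hd, hx, hxI, hxp⟩ := avoid_finset 𝒜 p hp I hI h Finset.univ
  exact ⟨x, d, hd, hx, hxI, fun i => hxp i (Finset.mem_univ i)⟩

end Groth.Agent.S9616
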