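import Groth.Statements.S7388
import Mathlib
import Groth.Agent.S9616
-- import your own Groth.Agent.* helpers here

set_option autoImplicit false
universe u
open CategoryTheory AlgebraicGeometry
open Mor

namespace Groth.Agent.S7388
open CategoryTheory AlgebraicGeometry Limits TopologicalSpace Topology


def toPS {R A : Type u} [CommRing R] [CommRing A] [Algebra R A]
    {𝒜 : ℕ → Submodule R A} [GradedAlgebra 𝒜] (x : ↥(Proj 𝒜)) : ProjectiveSpectrum 𝒜 := x
def ofPS {R A : Type u} [CommRing R] [CommRing A] [Algebra R A]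
    {𝒜 : ℕ → Submodule R A} [GradedAlgebra 𝒜] (x : ProjectiveSpectrum 𝒜) : ↥(Proj 𝒜) := x


/-- Let `X` be a scheme admitting an immersion into `Proj S` for some graded ring `S`. Then any finite
set of points of `X` is contained in an affine open of `X`. -/
theorem result {R A : Type u} [CommRing R] [CommRing A] [Algebra R A]
    (𝒜 : ℕ → Submodule R A) [GradedAlgebra 𝒜] {X : Scheme.{u}} (ι : X ⟶ Proj 𝒜) [IsImmersion ι]
    (E : Set X) (hE : E.Finite) :
    ∃ U : X.Opens, IsAffineOpen U ∧ E ⊆ U := by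
  classical
  obtain ⟨r, e, he⟩ := hE.fin_embedding
  let W := ι.coborderRange
  have hrange : ∀ x : X, ι.base x ∈ W := by
    intro x
    have : ι.base x = W.ι.base (ι.liftCoborder.base x) := by
      rw [← Scheme.Hom.comp_apply, ι.liftCoborder_ι]
    rw [this]
    exact (ι.liftCoborder.base x).2
  obtain ⟨C, hC, hCcl⟩ : ∃ C : Set (ProjectiveSpectrum 𝒜),
      (∀ q : ProjectiveSpectrum 𝒜, q ∈ C ↔ (ofPS q) ∉ W) ∧ IsClosed C :=
    ⟨{q | ofPS q ∉ W}, fun q => Iff.rfl, W.isOpen.isClosed_compl⟩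
  let I : HomogeneousIdeal 𝒜 := ProjectiveSpectrum.vanishingIdeal C
  have hI : ∀ x : X, ¬ (I ≤ (toPS (ι.base x)).asHomogeneousIdeal) := by
    intro x hle
    have h1 : toPS (ι.base x) ∈ ProjectiveSpectrum.zeroLocus 𝒜 (I : Set A) := hle
    rw [ProjectiveSpectrum.zeroLocus_vanishingIdeal_eq_closure, hCcl.closure_eq] at h1
    exact (hC _).mp h1 (hrange x)
  let I' : HomogeneousIdeal 𝒜 := I ⊓ HomogeneousIdeal.irrelevant 𝒜
  have hI' : ∀ i : Fin r, ¬ I' ≤ (toPS (ι.base (e i))).asHomogeneousIdeal := by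
    intro i hle
    have h2 : I.toIdeal ⊓ (HomogeneousIdeal.irrelevant 𝒜).toIdeal ≤
        (toPS (ι.base (e i))).asHomogeneousIdeal.toIdeal := by
      intro x hx
      exact hle (show x ∈ I' from hx)
    rcases (toPS (ι.base (e i))).isPrime.inf_le.mp h2 with h3 | h3
    · exact hI _ h3
    · exact (toPS (ι.base (e i))).not_irrelevant_le h3
  obtain ⟨f, d, hd, hfd, hfI, hf⟩ := Groth.Agent.S9616.result 𝒜
    (fun i => (toPS (ι.base (e i))).asHomogeneousIdeal) (fun i => (toPS (ι.base (e i))).isPrime)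
    I' inf_le_right hI'
  let D : (Proj 𝒜).Opens := Proj.basicOpen 𝒜 f
  have hDW : D ≤ W := by
    intro q hq
    by_contra hqW
    apply hq
    exact (ProjectiveSpectrum.mem_vanishingIdeal _ _).mp hfI.1 (toPS q) ((hC _).mpr hqW)
  have hD : IsAffineOpen D := Proj.isAffineOpen_basicOpen 𝒜 f hfd hd
  have hDW' : IsAffineOpen (W.ι ⁻¹ᵁ D) := by
    rw [← (W.ι).isAffineOpen_iff_of_isOpenImmersion]
    have : W.ι ''ᵁ (W.ι ⁻¹ᵁ D) = D := by
      simpa [Scheme.Hom.image_preimage_eq_opensRange_inf] using hDW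
    rw [this]; exact hD
  refine ⟨ι.liftCoborder ⁻¹ᵁ (W.ι ⁻¹ᵁ D), hDW'.preimage _, ?_⟩
  intro x hx
  rw [← he] at hx
  obtain ⟨i, rfl⟩ := hx
  change ι.liftCoborder.base (e i) ∈ W.ι ⁻¹ᵁ D
  change W.ι.base (ι.liftCoborder.base (e i)) ∈ D
  rw [← Scheme.Hom.comp_apply, ι.liftCoborder_ι]
  exact hf i

end Groth.Agent.S7388
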