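import Groth.Statements.S7389
import Mathlib
-- import your own Groth.Agent.* helpers here

set_option autoImplicit false
universe u
open CategoryTheory AlgebraicGeometry
open Mor

namespace Groth.Agent.S7389
open CategoryTheory AlgebraicGeometry Limits TopologicalSpace Topology


def toPS {R : CommRingCat.{u}} (x : ↥(Spec R)) : PrimeSpectrum R := x
def ofPS {R : CommRingCat.{u}} (x : PrimeSpectrum R) : ↥(Spec R) := x

theorem main_spec {X : Scheme.{u}} (R : CommRingCat.{u}) (ι : X ⟶ Spec R) [IsImmersion ι]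
    (E : Set X) (hE : E.Finite) :
    ∃ U : X.Opens, IsAffineOpen U ∧ E ⊆ U := by
  classical
  rcases E.eq_empty_or_nonempty with rfl | ⟨e₀, he₀⟩
  · exact ⟨⊥, isAffineOpen_bot X, Set.empty_subset _⟩
  let W := ι.coborderRange
  have hrange : ∀ x : X, ι.base x ∈ W := by
    intro x
    have : ι.base x = W.ι.base (ι.liftCoborder.base x) := by
      rw [← Scheme.Hom.comp_apply, ι.liftCoborder_ι]
    rw [this]
    exact (ι.liftCoborder.base x).2
  obtain ⟨C, hC, hCcl⟩ : ∃ C : Set (PrimeSpectrum R), (∀ q : PrimeSpectrum R, q ∈ C ↔ (ofPS q) ∉ W) ∧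
      IsClosed C := ⟨{q | ofPS q ∉ W}, fun q => Iff.rfl, W.isOpen.isClosed_compl⟩
  let I : Ideal R := PrimeSpectrum.vanishingIdeal C
  have hI : ∀ e : X, ¬ (I ≤ (toPS (ι.base e)).asIdeal) := by
    intro e hle
    have h1 : toPS (ι.base e) ∈ PrimeSpectrum.zeroLocus (I : Set R) := hle
    rw [PrimeSpectrum.zeroLocus_vanishingIdeal_eq_closure, hCcl.closure_eq] at h1
    exact (hC _).mp h1 (hrange e)
  obtain ⟨f, hfI, hf⟩ : ∃ f ∈ I, ∀ e ∈ E, f ∉ (toPS (ι.base e)).asIdeal := by
    by_contra h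
    push Not at h
    have hsub : (I : Set R) ⊆ ⋃ e ∈ (hE.toFinset : Set X),
        ((toPS (ι.base e)).asIdeal : Set R) := by
      intro f hf
      obtain ⟨e, he, hfe⟩ := h f hf
      simp only [Set.Finite.coe_toFinset, Set.mem_iUnion]
      exact ⟨e, he, hfe⟩
    rw [Ideal.subset_union_prime e₀ e₀ (fun i _ _ _ => (toPS (ι.base i)).isPrime)]
      at hsub
    obtain ⟨e, _, hle⟩ := hsub
    exact hI e hle
  let D : (Spec R).Opens := PrimeSpectrum.basicOpen f
  have hDW : D ≤ W := by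
    intro q hq
    by_contra hqW
    apply hq
    exact (PrimeSpectrum.mem_vanishingIdeal _ _).mp hfI (toPS q) ((hC _).mpr hqW)
  have hD : IsAffineOpen D := IsAffineOpen.Spec_basicOpen f
  have hDW' : IsAffineOpen (W.ι ⁻¹ᵁ D) := by
    rw [← (W.ι).isAffineOpen_iff_of_isOpenImmersion]
    have : W.ι ''ᵁ (W.ι ⁻¹ᵁ D) = D := by
      simpa [Scheme.Hom.image_preimage_eq_opensRange_inf] using hDW
    rw [this]; exact hD
  refine ⟨ι.liftCoborder ⁻¹ᵁ (W.ι ⁻¹ᵁ D), hDW'.preimage _, ?_⟩
  intro e he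
  change ι.liftCoborder.base e ∈ W.ι ⁻¹ᵁ D
  change W.ι.base (ι.liftCoborder.base e) ∈ D
  rw [← Scheme.Hom.comp_apply, ι.liftCoborder_ι]
  exact hf e he


/-- Let `X` be a scheme admitting an immersion into an affine scheme. Then any finite set of points of
`X` is contained in an affine open of `X`. -/
theorem result {X Y : Scheme.{u}} [IsAffine Y] (ι : X ⟶ Y)
    [IsImmersion ι] (E : Set X) (hE : E.Finite) :
    ∃ U : X.Opens, IsAffineOpen U ∧ E ⊆ U := by
  exact main_spec _ (ι ≫ Y.isoSpec.hom) E hE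

end Groth.Agent.S7389
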