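import Groth.Statements.S7390
import Groth.Agent.S2350

set_option autoImplicit false
universe u
open CategoryTheory AlgebraicGeometry
open Mor

namespace Groth.Agent.S7390

theorem isAffine_pullback_ι {X : Scheme.{u}} (U V : X.Opens) (h : IsAffineOpen (U ⊓ V)) :
    IsAffine (Limits.pullback U.ι V.ι) := by
  have hp := IsOpenImmersion.isPullback (X.homOfLE inf_le_left) (X.homOfLE inf_le_right)
    U.ι V.ι (by simp) (by
      rw [Scheme.opensRange_homOfLE, Scheme.Opens.opensRange_ι]
      ext x
      exact ⟨fun h => ⟨h, x.2⟩, fun h => h.1⟩)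
  have : IsAffine ((U ⊓ V : X.Opens) : Scheme.{u}) := h
  exact .of_isIso hp.isoPullback.inv

set_option backward.isDefEq.respectTransparency.types false in
/-- Let `X` be a scheme such that every point lies in some affine open `X_s`, the locus where a global
section `s` generates an invertible `O_X`-module `L` (both depending on the point). Then the
diagonal of `X` is an affine morphism. -/
theorem result (X : Scheme.{u})
    (h : ∀ x : X, ∃ (L : X.Modules) (s : Coh.structureModule X ⟶ L), PicF.IsInvertible L ∧
      x ∈ CohB1.genLocus L s ∧ IsAffineOpen (CohB1.genLocus L s)) :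
    IsAffineHom (Limits.pullback.diagonal (Limits.terminal.from X)) := by
  choose L s hL hx haff using h
  have hU : TopologicalSpace.IsOpenCover (fun x : X => CohB1.genLocus (L x) (s x)) :=
    top_le_iff.1 fun x _ => TopologicalSpace.Opens.mem_iSup.2 ⟨x, hx x⟩
  let 𝒰 := X.openCoverOfIsOpenCover _ hU
  have h𝒰 : ∀ i, IsAffine (𝒰.X i) := fun i => haff i
  have hinf : ∀ i j : X,
      IsAffineOpen (CohB1.genLocus (L i) (s i) ⊓ CohB1.genLocus (L j) (s j)) := by
    intro i j
    have : IsAffineHom (CohB1.genLocus (L j) (s j)).ι :=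
      Groth.Agent.S2350.result X (L j) (hL j) (s j)
    have h1 : IsAffineOpen
        ((CohB1.genLocus (L j) (s j)).ι ⁻¹ᵁ CohB1.genLocus (L i) (s i)) := (haff i).preimage _
    have h2 := h1.image_of_isOpenImmersion (CohB1.genLocus (L j) (s j)).ι
    rwa [Scheme.Hom.image_preimage_eq_opensRange_inf, Scheme.Opens.opensRange_ι, inf_comm] at h2
  refine (HasAffineProperty.diagonal_iff @IsAffineHom).1 ?_
  have := HasAffineProperty.isLocal_affineProperty @IsAffineHom
  refine AffineTargetMorphismProperty.diagonal_of_openCover_source (Limits.terminal.from X) 𝒰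
    fun i j => ?_
  exact isAffine_pullback_ι _ _ (hinf i j)

end Groth.Agent.S7390
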