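import Groth.Statements.S7391
import Groth.Agent.Lib.Helper61.LocProj

set_option autoImplicit false
universe u
open CategoryTheory AlgebraicGeometry
open Opposite
open Mor

namespace Groth.Agent.S7391

/-- Let `F` be a quasi-coherent `O_X`-module on a scheme `X`. Then `F(U)` is a projective
`O_X(U)`-module for every affine open `U` (that is, `F` is locally projective) if and only if `X`
has a covering by affine opens `U_i` with `F(U_i)` projective over `O_X(U_i)`. -/
theorem result (X : Scheme.{u}) (F : X.Modules) [Coh.IsQCoh F] :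
    (∀ U : X.Opens, IsAffineOpen U → Module.Projective (X.ringCatSheaf.obj.obj (op U)) (F.val.obj (op U))) ↔
      ∃ (I : Type u) (U : I → X.Opens), (⨆ i, U i) = ⊤ ∧ ∀ i, IsAffineOpen (U i) ∧
        Module.Projective (X.ringCatSheaf.obj.obj (op (U i))) (F.val.obj (op (U i))) := by
  haveI : F.IsQuasicoherent := ‹Coh.IsQCoh F›
  constructor
  · intro h
    refine ⟨X.affineOpens, fun i => i.1, ?_, fun i => ⟨i.2, h i.1 i.2⟩⟩
    rw [eq_top_iff]
    intro x _
    obtain ⟨V, hV, hxV, -⟩ :=
      (TopologicalSpace.Opens.isBasis_iff_nbhd.mp X.isBasis_affineOpens)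
        (show x ∈ (⊤ : X.Opens) from trivial)
    exact (TopologicalSpace.Opens.mem_iSup).mpr ⟨⟨V, hV⟩, hxV⟩
  · rintro ⟨I, V, hV, h⟩ U hU
    exact Groth.Agent.Lib.Helper61.LocProj.projective_sections_of_affine_cover F V hV
      (fun i => ⟨(h i).1, (h i).2⟩) U hU

end Groth.Agent.S7391
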