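import Mathlib
import Groth.Statements.S7392
import Groth.Agent.Lib.Helper61.QCohPullbackSections

set_option autoImplicit false
universe u
open CategoryTheory AlgebraicGeometry
open Opposite
open Mor

namespace Groth.Agent.S7392

open TensorProduct

lemma proj_iff_of_bijective {R S N : Type*} [CommRing R] [CommRing S] [Algebra R S]
    [AddCommGroup N] [Module R N] [Module S N] [IsScalarTower R S N]
    (h : Function.Bijective (algebraMap R S)) :
    Module.Projective R N ↔ Module.Projective S N := by
  let e : R ≃+* S := RingEquiv.ofBijective (algebraMap R S) h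
  haveI i1 : RingHomInvPair (e : R →+* S) (e.symm : S →+* R) := RingHomInvPair.of_ringEquiv e
  haveI i2 : RingHomInvPair (e.symm : S →+* R) (e : R →+* S) := RingHomInvPair.of_ringEquiv_symm e
  constructor
  · intro _
    exact Module.Projective.of_equiv (σ := (e : R →+* S)) (σ' := (e.symm : S →+* R))
      ({ LinearEquiv.refl R N with
          map_smul' := fun r x => (algebraMap_smul S r x).symm } : N ≃ₛₗ[(e : R →+* S)] N)
  · intro _
    exact Module.Projective.of_equiv (σ := (e.symm : S →+* R)) (σ' := (e : R →+* S))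
      ({ LinearEquiv.refl S N with
          map_smul' := fun s x => by
            obtain ⟨r, rfl⟩ := h.2 s
            have : e.symm (algebraMap R S r) = r := e.symm_apply_apply r
            simp only [AddHom.toFun_eq_coe, LinearMap.coe_toAddHom, LinearEquiv.coe_coe,
              LinearEquiv.refl_apply, RingEquiv.coe_toRingHom]
            rw [this, algebraMap_smul] } : N ≃ₛₗ[(e.symm : S →+* R)] N)

variable (A : CommRingCat.{u}) (M : ModuleCat.{u} A)

lemma bij_top : Function.Bijective (algebraMap A Γ(Spec A, ⊤)) := by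
  have : IsIso (Scheme.ΓSpecIso A).inv := inferInstance
  exact (ConcreteCategory.isIso_iff_bijective (Scheme.ΓSpecIso A).inv).mp this

lemma proj_top_iff :
    Module.Projective Γ(Spec A, ⊤) Γ(tilde M, ⊤) ↔ Module.Projective A M := by
  rw [← proj_iff_of_bijective (R := A) (S := Γ(Spec A, ⊤)) (N := Γ(tilde M, ⊤)) (bij_top A)]
  let e : M ≃ₗ[A] Γ(tilde M, ⊤) := (tilde.isoTop M).toLinearEquiv
  constructor
  · intro h
    exact @Module.Projective.of_equiv' A _ _ _ _ _ _ _ h e.symm
  · intro h
    exact @Module.Projective.of_equiv' A _ _ _ _ _ _ _ h e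

/-- Sections of an isomorphism of `𝒪_X`-modules over an open. -/
noncomputable def sectionsIso {X : Scheme.{u}} {M N : X.Modules} (φ : M ≅ N) (U : X.Opens) :
    M.val.obj (op U) ≅ N.val.obj (op U) :=
  (PresheafOfModules.evaluation _ (op U)).mapIso ((SheafOfModules.forget _).mapIso φ)

open Groth.Agent.Lib.Helper61.QCohPullback in
lemma proj_affine (hM : Module.Projective A M) (U : (Spec A).Opens) (hU : IsAffineOpen U) :
    Module.Projective ((Spec A).ringCatSheaf.obj.obj (op U)) ((tilde M).val.obj (op U)) := by
  haveI : Module.Projective Γ(Spec A, ⊤) Γ(tilde M, ⊤) := (proj_top_iff A M).mpr hM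
  letI := ((𝟙 (Spec A) : Spec A ⟶ Spec A).appLE ⊤ U le_top).hom.toAlgebra
  let e1 := sectionsPullbackEquiv (𝟙 (Spec A)) (tilde M) hU (isAffineOpen_top _) le_top
  have h1 : Module.Projective Γ(Spec A, U) (Γ(Spec A, U) ⊗[Γ(Spec A, ⊤)] Γ(tilde M, ⊤)) :=
    inferInstance
  have h2 := @Module.Projective.of_equiv' _ _ _ _ _ _ _ _ h1 e1.symm
  have h2' : Module.Projective ((Spec A).ringCatSheaf.obj.obj (op U))
      (((Scheme.Modules.pullback (𝟙 (Spec A))).obj (tilde M)).val.obj (op U)) := h2
  let e2 : ((Scheme.Modules.pullback (𝟙 (Spec A))).obj (tilde M)).val.obj (op U) ≃ₗ[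
      ((Spec A).ringCatSheaf.obj.obj (op U))] (tilde M).val.obj (op U) :=
    (sectionsIso ((Scheme.Modules.pullbackId _).app (tilde M)) U).toLinearEquiv
  exact Module.Projective.of_equiv' e2

theorem result (A : CommRingCat.{u}) (M : ModuleCat.{u} A) :
    (∀ U : (Spec A).Opens, IsAffineOpen U →
      Module.Projective ((Spec A).ringCatSheaf.obj.obj (op U)) ((tilde M).val.obj (op U))) ↔
      Module.Projective A M := by
  constructor
  · intro h
    exact (proj_top_iff A M).mp (h ⊤ (isAffineOpen_top _))
  · intro hM U hU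
    exact proj_affine A M hM U hU

end Groth.Agent.S7392
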