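import Groth.Statements.S7397
import Mathlib.Tactic

set_option autoImplicit false
universe u
open Mor

namespace Groth.Agent.S7397

/-- Let `A ⊆ B` be a ring extension and `b ∈ B`, `b ∉ A`, with `b^n, b^(n+1) ∈ A` for some `n ≥ 2`. Then
some `b' ∈ B` with `b' ∉ A` has `b'^2 ∈ A` and `b'^3 ∈ A`. -/
theorem result {B : Type u} [CommRing B] (A : Subring B) (b : B) (hb : b ∉ A)
    (n : ℕ) (hn : 2 ≤ n) (h1 : b ^ n ∈ A) (h2 : b ^ (n + 1) ∈ A) :
    ∃ b' : B, b' ∉ A ∧ b' ^ 2 ∈ A ∧ b' ^ 3 ∈ A := by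
  classical
  have hbig : ∀ m, n * n ≤ m → b ^ m ∈ A := by
    intro m hm
    have hq : m % n ≤ m / n := by
      have h1 : m % n < n := Nat.mod_lt _ (by omega)
      have h2 : n ≤ m / n := by
        rw [Nat.le_div_iff_mul_le (by omega)]
        exact hm
      omega
    obtain ⟨d, hd⟩ := Nat.exists_eq_add_of_le hq
    have hm' : m = d * n + (m % n) * (n + 1) := by
      have := Nat.div_add_mod m n
      rw [hd] at this
      nlinarith [this]
    rw [hm', pow_add, pow_mul', pow_mul']
    exact A.mul_mem (A.pow_mem h1 _) (A.pow_mem h2 _)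
  set P : ℕ → Prop := fun k => b ^ k ∉ A with hP
  have hP1 : P 1 := by simpa [hP] using hb
  have h1le : 1 ≤ n * n := by nlinarith
  set k := Nat.findGreatest P (n * n) with hk
  have hkP : P k := Nat.findGreatest_spec h1le hP1
  have hk1 : 1 ≤ k := Nat.le_findGreatest h1le hP1
  have hgt : ∀ m, k < m → b ^ m ∈ A := by
    intro m hm
    by_cases hmn : m ≤ n * n
    · have := Nat.findGreatest_is_greatest (P := P) hm hmn
      simpa [hP] using this
    · exact hbig m (by omega)
  refine ⟨b ^ k, hkP, ?_, ?_⟩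
  · rw [← pow_mul]; exact hgt _ (by omega)
  · rw [← pow_mul]; exact hgt _ (by omega)

end Groth.Agent.S7397
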