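import Groth.Statements.S7404
import Groth.Agent.Lib.Helper69.UHRing2

set_option autoImplicit false
universe u
open CategoryTheory AlgebraicGeometry
open Mor

namespace Groth.Agent.S7404

/-- Let `A → B` be a ring map and `B' ⊆ B` an `A`-subalgebra, with `f : Spec B → Spec A` and `f' : Spec
B' → Spec A` the induced morphisms. Each of the following properties passes from `f` to `f'`: being
a universal homeomorphism; being a universal homeomorphism with trivial residue field extensions;
being universally closed; being both universally closed and universally injective. -/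
theorem result {A B : Type u} [CommRing A] [CommRing B] [Algebra A B]
    (B' : Subalgebra A B) :
    (FlatMor.IsUnivHomeo (Spec.map (CommRingCat.ofHom (algebraMap A B))) →
      FlatMor.IsUnivHomeo (Spec.map (CommRingCat.ofHom (algebraMap A B')))) ∧
    ((FlatMor.IsUnivHomeo (Spec.map (CommRingCat.ofHom (algebraMap A B))) ∧
      ∀ x : Spec (CommRingCat.of B),
        Function.Surjective ((Spec.map (CommRingCat.ofHom (algebraMap A B))).residueFieldMap x)) →
      FlatMor.IsUnivHomeo (Spec.map (CommRingCat.ofHom (algebraMap A B'))) ∧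
      ∀ x : Spec (CommRingCat.of B'),
        Function.Surjective ((Spec.map (CommRingCat.ofHom (algebraMap A B'))).residueFieldMap x)) ∧
    (UniversallyClosed (Spec.map (CommRingCat.ofHom (algebraMap A B))) →
      UniversallyClosed (Spec.map (CommRingCat.ofHom (algebraMap A B')))) ∧
    (UniversallyClosed (Spec.map (CommRingCat.ofHom (algebraMap A B))) →
      UniversallyInjective (Spec.map (CommRingCat.ofHom (algebraMap A B))) →
      UniversallyClosed (Spec.map (CommRingCat.ofHom (algebraMap A B'))) ∧
      UniversallyInjective (Spec.map (CommRingCat.ofHom (algebraMap A B')))) := by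
  have key1 : FlatMor.IsUnivHomeo (Spec.map (CommRingCat.ofHom (algebraMap A B))) →
      FlatMor.IsUnivHomeo (Spec.map (CommRingCat.ofHom (algebraMap A B'))) := by
    intro h
    obtain ⟨hint, hbij, hpts⟩ := Groth.Agent.Lib.Helper69.UHRing.of_isUnivHomeo _ h
    exact Groth.Agent.Lib.Helper69.UHRing.isUnivHomeo_of _
      (Groth.Agent.Lib.Helper69.UHRing.isIntegral_subalgebra B' hint)
      (Groth.Agent.Lib.Helper69.UHRing.comap_surjective_subalgebra B' hbij.2)
      (Groth.Agent.Lib.Helper69.UHRing.fieldPtsInj_subalgebra B' hint hpts)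
  refine ⟨key1, ?_, ?_, ?_⟩
  · rintro ⟨h, hres⟩
    refine ⟨key1 h, ?_⟩
    obtain ⟨hint, -, -⟩ := Groth.Agent.Lib.Helper69.UHRing.of_isUnivHomeo _ h
    rw [Groth.Agent.Lib.Helper69.UHRing.resSurj_iff_resTriv] at hres ⊢
    exact Groth.Agent.Lib.Helper69.UHRing.resTriv_subalgebra B' hint hres
  · intro h
    rw [Groth.Agent.Lib.Helper69.UHRing.universallyClosed_SpecMap_iff] at h ⊢
    exact Groth.Agent.Lib.Helper69.UHRing.isIntegral_subalgebra B' h
  · intro h1 h2
    rw [Groth.Agent.Lib.Helper69.UHRing.universallyClosed_SpecMap_iff] at h1 ⊢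
    rw [Groth.Agent.Lib.Helper69.UHRing.universallyInjective_SpecMap_iff] at h2 ⊢
    exact ⟨Groth.Agent.Lib.Helper69.UHRing.isIntegral_subalgebra B' h1,
      Groth.Agent.Lib.Helper69.UHRing.fieldPtsInj_subalgebra B' h1 h2⟩

end Groth.Agent.S7404
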