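import Groth.Statements.S7405
import Groth.Agent.Lib.Helper69.FiltColim

set_option autoImplicit false
universe u
open CategoryTheory AlgebraicGeometry
open Mor

namespace Groth.Agent.S7405

open Groth.Agent.Lib.Helper69.UHRing Groth.Agent.Lib.Helper69.AWNRing
  Groth.Agent.Lib.Helper69.FiltColim in
attribute [local instance] IsFiltered.isConnected in
/-- Let `A` be a ring and `B` the colimit of a filtered diagram `j ↦ B_j` of `A`-algebras. Each of the
following properties, when it holds for every `Spec B_j → Spec A`, holds for `Spec B → Spec A`: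
being a universal homeomorphism; being a universal homeomorphism with trivial residue field
extensions; being universally closed; being both universally closed and universally injective. -/
theorem result (A : CommRingCat.{u}) {J : Type u} [SmallCategory J]
    [IsFiltered J] (F : J ⥤ Under A) (c : Limits.Cocone F) (hc : Limits.IsColimit c) :
    ((∀ j, FlatMor.IsUnivHomeo (Spec.map (F.obj j).hom)) → FlatMor.IsUnivHomeo (Spec.map c.pt.hom)) ∧
    ((∀ j, FlatMor.IsUnivHomeo (Spec.map (F.obj j).hom) ∧
        ∀ x : Spec (F.obj j).right, Function.Surjective ((Spec.map (F.obj j).hom).residueFieldMap x)) →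
      FlatMor.IsUnivHomeo (Spec.map c.pt.hom) ∧
        ∀ x : Spec c.pt.right, Function.Surjective ((Spec.map c.pt.hom).residueFieldMap x)) ∧
    ((∀ j, UniversallyClosed (Spec.map (F.obj j).hom)) → UniversallyClosed (Spec.map c.pt.hom)) ∧
    ((∀ j, UniversallyClosed (Spec.map (F.obj j).hom) ∧ UniversallyInjective (Spec.map (F.obj j).hom)) →
      UniversallyClosed (Spec.map c.pt.hom) ∧ UniversallyInjective (Spec.map c.pt.hom)) := by
  have hc' : Limits.IsColimit ((Under.forget A).mapCocone c) :=
    Limits.isColimitOfPreserves (Under.forget A) hc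
  have hsurj : ∀ b : c.pt.right, ∃ (j : J) (x : (F.obj j).right),
      (c.ι.app j).right.hom x = b := by
    intro b
    obtain ⟨j, x, hx⟩ := Limits.Concrete.isColimit_exists_rep (F ⋙ Under.forget A) hc' b
    exact ⟨j, x, hx⟩
  have heq : ∀ (j : J) (x y : (F.obj j).right),
      (c.ι.app j).right.hom x = (c.ι.app j).right.hom y →
      ∃ (k : J) (f : j ⟶ k), (F.map f).right.hom x = (F.map f).right.hom y := by
    intro j x y h
    obtain ⟨k, f, g, hfg⟩ :=
      Limits.Concrete.isColimit_exists_of_rep_eq (F ⋙ Under.forget A) hc' x y h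
    refine ⟨IsFiltered.coeq f g, f ≫ IsFiltered.coeqHom f g, ?_⟩
    have h1 : F.map (f ≫ IsFiltered.coeqHom f g) = F.map (g ≫ IsFiltered.coeqHom f g) := by
      rw [IsFiltered.coeq_condition]
    have hfg' : (F.map f).right.hom x = (F.map g).right.hom y := hfg
    calc (F.map (f ≫ IsFiltered.coeqHom f g)).right.hom x
        = (F.map (IsFiltered.coeqHom f g)).right.hom ((F.map f).right.hom x) := by
          rw [F.map_comp]; rfl
      _ = (F.map (IsFiltered.coeqHom f g)).right.hom ((F.map g).right.hom y) := by rw [hfg']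
      _ = (F.map (g ≫ IsFiltered.coeqHom f g)).right.hom y := by
          rw [F.map_comp]; rfl
      _ = (F.map (f ≫ IsFiltered.coeqHom f g)).right.hom y := by rw [h1]
  -- ring level data
  let φ : A →+* c.pt.right := c.pt.hom.hom
  let φj : ∀ j, A →+* (F.obj j).right := fun j => (F.obj j).hom.hom
  let ιj : ∀ j, (F.obj j).right →+* c.pt.right := fun j => (c.ι.app j).right.hom
  have hcomp : ∀ j, (ιj j).comp (φj j) = φ := by
    intro j
    have := Under.w (c.ι.app j)
    exact congrArg CommRingCat.Hom.hom this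
  have hmapcomp : ∀ {j k : J} (f : j ⟶ k) (a : A),
      (F.map f).right.hom (φj j a) = φj k a := by
    intro j k f a
    have := Under.w (F.map f)
    exact RingHom.congr_fun (congrArg CommRingCat.Hom.hom this) a
  have hker : ∀ a : A, φ a = 0 → ∃ j, φj j a = 0 := by
    intro a ha
    obtain ⟨j₀⟩ := IsFiltered.nonempty (C := J)
    have h1 : ιj j₀ (φj j₀ a) = ιj j₀ 0 := by
      rw [map_zero, ← ha]
      exact RingHom.congr_fun (hcomp j₀) a
    obtain ⟨k, f, hf⟩ := heq j₀ _ _ h1
    refine ⟨k, ?_⟩
    rw [← hmapcomp f a, hf, map_zero]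
  have hU : ∀ j, FlatMor.IsUnivHomeo (Spec.map (F.obj j).hom) ↔ IsUH (φj j) := fun j =>
    (isUH_iff (φj j)).symm
  have hU' : FlatMor.IsUnivHomeo (Spec.map c.pt.hom) ↔ IsUH φ := (isUH_iff φ).symm
  have hR : ∀ j, (∀ x : Spec (F.obj j).right,
      Function.Surjective ((Spec.map (F.obj j).hom).residueFieldMap x)) ↔ ResTriv (φj j) :=
    fun j => resSurj_iff_resTriv (φj j)
  have hR' : (∀ x : Spec c.pt.right,
      Function.Surjective ((Spec.map c.pt.hom).residueFieldMap x)) ↔ ResTriv φ :=
    resSurj_iff_resTriv φ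
  have hC : ∀ j, UniversallyClosed (Spec.map (F.obj j).hom) ↔ (φj j).IsIntegral := fun j =>
    Groth.Agent.Lib.Helper69.UHRing.universallyClosed_SpecMap_iff (φj j)
  have hC' : UniversallyClosed (Spec.map c.pt.hom) ↔ φ.IsIntegral :=
    Groth.Agent.Lib.Helper69.UHRing.universallyClosed_SpecMap_iff φ
  have hI : ∀ j, UniversallyInjective (Spec.map (F.obj j).hom) ↔ FieldPtsInj (φj j) := fun j =>
    Groth.Agent.Lib.Helper69.UHRing.universallyInjective_SpecMap_iff (φj j)
  have hI' : UniversallyInjective (Spec.map c.pt.hom) ↔ FieldPtsInj φ :=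
    Groth.Agent.Lib.Helper69.UHRing.universallyInjective_SpecMap_iff φ
  refine ⟨?_, ?_, ?_, ?_⟩
  · intro h
    exact hU'.mpr (isUH_of_jointly φ _ φj ιj hcomp hsurj hker (fun j => (hU j).mp (h j)))
  · intro h
    exact ⟨hU'.mpr (isUH_of_jointly φ _ φj ιj hcomp hsurj hker (fun j => (hU j).mp (h j).1)),
      hR'.mpr (resTriv_of_jointly φ _ φj ιj hcomp hsurj (fun j => (hR j).mp (h j).2))⟩
  · intro h
    exact hC'.mpr (isIntegral_of_jointly φ _ φj ιj hcomp hsurj (fun j => (hC j).mp (h j)))
  · intro h
    exact ⟨hC'.mpr (isIntegral_of_jointly φ _ φj ιj hcomp hsurj (fun j => (hC j).mp (h j).1)),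
      hI'.mpr (fieldPtsInj_of_jointly φ _ φj ιj hcomp hsurj (fun j => (hI j).mp (h j).2))⟩

end Groth.Agent.S7405
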