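import Groth.Statements.S7412
import Mathlib.Algebra.Module.CharacterModule
import Mathlib.LinearAlgebra.TensorProduct.RightExactness

set_option autoImplicit false
universe u
open Desc

namespace Groth.Agent.S7412

section aux

variable {R : Type u} [CommRing R] {N P : Type u} [AddCommGroup N] [Module R N]
  [AddCommGroup P] [Module R P]

/-- Swap the two arguments of a linear map into a character module. -/
noncomputable def swap (h : N →ₗ[R] CharacterModule P) : P →ₗ[R] CharacterModule N where
  toFun p :=
    { toFun := fun n => h n p
      map_zero' := by rw [map_zero]; rfl
      map_add' := fun n n' => by rw [map_add]; rfl }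
  map_add' p p' := by
    ext n
    change h n (p + p') = h n p + h n p'
    exact map_add (h n) p p'
  map_smul' r p := by
    ext n
    change h n (r • p) = h (r • n) p
    have := h.map_smul r n
    rw [this]
    rfl

@[simp] lemma swap_apply (h : N →ₗ[R] CharacterModule P) (p : P) (n : N) :
    swap h p n = h n p := rfl

end aux

/-- Let `R` be a ring and `f : M → N` a map of `R`-modules. Then `f` is universally injective (`f ⊗ 1_P`
is injective for every `R`-module `P`; here `P` ranges over modules in the same universe, which
suffices) if and only if the map of character modules `C(N) → C(M)`, `C(-) = Hom_ℤ(-, ℚ/ℤ)`, is a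
split surjection of `R`-modules. -/
theorem result {R : Type u} [CommRing R] {M N : Type u}
    [AddCommGroup M] [Module R M] [AddCommGroup N] [Module R N] (f : M →ₗ[R] N) :
    (∀ (P : Type u) [AddCommGroup P] [Module R P], Function.Injective (f.lTensor P)) ↔
      ∃ g : CharacterModule M →ₗ[R] CharacterModule N, (CharacterModule.dual f).comp g = LinearMap.id := by
  constructor
  · intro h
    have h1 : Function.Injective (f.rTensor (CharacterModule M)) :=
      (f.lTensor_inj_iff_rTensor_inj _).mp (h (CharacterModule M))
    rw [rTensor_injective_iff_lcomp_surjective] at h1
    obtain ⟨g', hg'⟩ := h1 (swap (LinearMap.id : CharacterModule M →ₗ[R] CharacterModule M))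
    refine ⟨swap g', ?_⟩
    apply LinearMap.ext
    intro c
    apply CharacterModule.ext
    intro m
    have := congr($hg' m c)
    rw [LinearMap.lcomp_apply] at this
    change g' (f m) c = c m
    exact this
  · rintro ⟨g, hg⟩ P _ _
    refine (f.lTensor_inj_iff_rTensor_inj P).mpr ?_
    rw [rTensor_injective_iff_lcomp_surjective]
    intro h
    refine ⟨swap (g ∘ₗ swap h), ?_⟩
    apply LinearMap.ext
    intro m
    apply CharacterModule.ext
    intro p
    have := congr($hg (swap h p) m)
    rw [LinearMap.lcomp_apply]
    change g (swap h p) (f m) = h m p
    exact this

end Groth.Agent.S7412
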