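import Groth.Statements.S7414
import Groth.Agent.Lib.Helper69.GRingLocal

set_option autoImplicit false
universe u
open CategoryTheory AlgebraicGeometry
open Mor

namespace Groth.Agent.S7414

/-- A scheme `X` is a G-scheme (every point has an affine open neighbourhood with G-ring coordinate
ring) if and only if `O_X(U)` is a G-ring for every affine open `U ⊆ X`. -/
theorem result (X : Scheme.{u}) :
    (∀ x : X, ∃ U : X.Opens, x ∈ U ∧ IsAffineOpen U ∧ CAlg.IsGRing Γ(X, U)) ↔
      ∀ U : X.Opens, IsAffineOpen U → CAlg.IsGRing Γ(X, U) := by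
  constructor
  · intro h U hU
    choose V hxV hV hG using h
    haveI : IsLocallyNoetherian X := by
      refine isLocallyNoetherian_of_affine_cover (S := fun x : X => ⟨V x, hV x⟩) ?_
        (fun x => (hG x).1)
      rw [eq_top_iff]
      intro x _
      exact TopologicalSpace.Opens.mem_iSup.2 ⟨x, hxV x⟩
    refine ⟨IsLocallyNoetherian.component_noetherian ⟨U, hU⟩, fun 𝔭 h𝔭 => ?_⟩
    let y : PrimeSpectrum Γ(X, U) := ⟨𝔭, h𝔭⟩
    have hxU : hU.fromSpec y ∈ U := by
      have : hU.fromSpec y ∈ Set.range hU.fromSpec := Set.mem_range_self y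
      rw [hU.range_fromSpec] at this
      exact this
    set x : X := hU.fromSpec y with hx
    have loc1 := hU.isLocalization_stalk' y hxU
    have loc2 := (hV x).isLocalization_stalk ⟨x, hxV x⟩
    set 𝔮 : Ideal Γ(X, V x) := ((hV x).primeIdealOf ⟨x, hxV x⟩).asIdeal with h𝔮
    let e₁ : Localization.AtPrime 𝔭 ≃+* X.presheaf.stalk x :=
      letI : Algebra Γ(X, U) (X.presheaf.stalk x) :=
        TopCat.Presheaf.algebra_section_stalk X.presheaf ⟨x, hxU⟩
      haveI : IsLocalization.AtPrime (X.presheaf.stalk x) 𝔭 := loc1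
      (IsLocalization.algEquiv 𝔭.primeCompl (Localization.AtPrime 𝔭)
        (X.presheaf.stalk x)).toRingEquiv
    let e₂ : Localization.AtPrime 𝔮 ≃+* X.presheaf.stalk x :=
      letI : Algebra Γ(X, V x) (X.presheaf.stalk x) :=
        TopCat.Presheaf.algebra_section_stalk X.presheaf ⟨x, hxV x⟩
      haveI : IsLocalization.AtPrime (X.presheaf.stalk x) 𝔮 := loc2
      (IsLocalization.algEquiv 𝔮.primeCompl (Localization.AtPrime 𝔮)
        (X.presheaf.stalk x)).toRingEquiv
    exact Groth.Agent.Lib.Helper69.GRingLocal.regular_completion_of_ringEquiv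
      (e₂.trans e₁.symm) ((hG x).2 𝔮)
  · intro h x
    obtain ⟨_, ⟨U, hU, rfl⟩, hxU, -⟩ := X.isBasis_affineOpens.exists_subset_of_mem_open
      (Set.mem_univ x) isOpen_univ
    exact ⟨U, hxU, hU, h U hU⟩

end Groth.Agent.S7414
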