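import Groth.Statements.S7415
import Mathlib
-- import your own Groth.Agent.* helpers here

set_option autoImplicit false
universe u
open CategoryTheory AlgebraicGeometry
open Mor

namespace Groth.Agent.S7415
open CategoryTheory AlgebraicGeometry Limits TopologicalSpace Topology


lemma finite_irreducibleComponents_of_isOpenEmbedding {Y X : Type*} [TopologicalSpace Y]
    [TopologicalSpace X] {j : Y → X} (hj : IsOpenEmbedding j)
    (h : (irreducibleComponents X).Finite) : (irreducibleComponents Y).Finite := by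
  apply (h.image (fun T => j ⁻¹' T)).subset
  intro W hW
  obtain ⟨T, hT, hWT⟩ := exists_mem_irreducibleComponents_subset_of_isIrreducible (j '' W)
    (hW.1.image j hj.continuous.continuousOn)
  refine ⟨T, hT, ?_⟩
  have hne : (T ∩ Set.range j).Nonempty := by
    obtain ⟨w, hw⟩ := hW.1.1
    exact ⟨j w, hWT ⟨w, hw, rfl⟩, w, rfl⟩
  have hpre := preimage_mem_irreducibleComponents hT hj hne
  have hle : W ⊆ j ⁻¹' T := fun w hw => hWT ⟨w, hw, rfl⟩
  exact le_antisymm (hW.2 hpre.1 hle) hle

lemma alg_crit (R : Type u) [CommRing R] [IsReduced R] (hfin : (minimalPrimes R).Finite)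
    (I : Ideal R) (hI : I.IsPrime) :
    ∃ f : R, f ∉ I ∧ ∀ (x y : R), y * x = 0 → y ∉ I → ∃ n, f ^ n * x = 0 := by
  classical
  let s : Finset (Ideal R) := hfin.toFinset.filter (fun P => ¬ P ≤ I)
  have hex : ∀ P : s, ∃ g : R, g ∈ P.1 ∧ g ∉ I := by
    intro P
    have : ¬ P.1 ≤ I := (Finset.mem_filter.mp P.2).2
    exact SetLike.not_le_iff_exists.mp this
  choose g hg1 hg2 using hex
  refine ⟨∏ P : s, g P, ?_, ?_⟩
  · intro hmem
    obtain ⟨P, -, hP⟩ := (hI.prod_mem_iff).mp hmem
    exact hg2 P hP
  · intro x y hyx hy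
    refine ⟨1, ?_⟩
    rw [pow_one]
    have hnil : (∏ P : s, g P) * x ∈ sInf (minimalPrimes R) := by
      rw [Ideal.mem_sInf]
      intro P hP
      by_cases hPI : P ≤ I
      · have hyP : y ∉ P := fun h => hy (hPI h)
        have : y * x ∈ P := by rw [hyx]; exact P.zero_mem
        have hxP : x ∈ P := (hP.1.1.mem_or_mem this).resolve_left hyP
        exact P.mul_mem_left _ hxP
      · have hPs : P ∈ s := Finset.mem_filter.mpr ⟨hfin.mem_toFinset.mpr hP, hPI⟩
        have hdvd : g ⟨P, hPs⟩ ∣ ∏ Q : s, g Q := Finset.dvd_prod_of_mem _ (Finset.mem_univ _)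
        exact P.mul_mem_right _ (Ideal.mem_of_dvd P hdvd (hg1 ⟨P, hPs⟩))
    have h0 : sInf (minimalPrimes R) = ⊥ := by
      rw [minimalPrimes, Ideal.sInf_minimalPrimes]
      exact nilradical_eq_zero R
    rw [h0] at hnil
    exact hnil


/-- Let `X` be a reduced scheme with finitely many irreducible components and `x ∈ X`. Then `x` has an
affine open neighbourhood `U` such that `O_X(U) → O_{X,x}` is injective. -/
theorem result (X : Scheme.{u}) [AlgebraicGeometry.IsReduced X]
    (hirr : (irreducibleComponents (X : Type u)).Finite) (x : X) : X.IsGermInjectiveAt x := by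
  obtain ⟨U, hU, hxU, -⟩ := exists_isAffineOpen_mem_and_subset (X := X) (x := x) (U := ⊤) trivial
  obtain ⟨y, hy⟩ : ∃ y : ↥(Spec Γ(X, U)), hU.fromSpec.base y = x := by
    have : x ∈ Set.range hU.fromSpec := by rw [hU.range_fromSpec]; exact hxU
    exact this
  have hfin1 : (irreducibleComponents (PrimeSpectrum Γ(X, U))).Finite :=
    finite_irreducibleComponents_of_isOpenEmbedding hU.fromSpec.isOpenEmbedding hirr
  have hfin : (minimalPrimes Γ(X, U)).Finite := by
    have e := (minimalPrimes.equivIrreducibleComponents Γ(X, U)).toEquiv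
    haveI : Finite (irreducibleComponents (PrimeSpectrum Γ(X, U))) := hfin1.to_subtype
    haveI : Finite (irreducibleComponents (PrimeSpectrum Γ(X, U)))ᵒᵈ :=
      ‹Finite (irreducibleComponents (PrimeSpectrum Γ(X, U)))›
    exact Set.finite_coe_iff.mp (Finite.of_equiv _ e.symm)
  haveI : (Spec Γ(X, U)).IsGermInjective :=
    Scheme.IsGermInjective.Spec (fun I hI => alg_crit Γ(X, U) hfin I hI)
  haveI : (Spec Γ(X, U)).IsGermInjectiveAt y := inferInstance
  rw [← hy]
  infer_instance

end Groth.Agent.S7415
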