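import Groth.Statements.S7416
import Mathlib
-- import your own Groth.Agent.* helpers here

set_option autoImplicit false
universe u
open CategoryTheory AlgebraicGeometry
open Mor

namespace Groth.Agent.S7416
open CategoryTheory AlgebraicGeometry Limits TopologicalSpace Topology Opposite


lemma lemT {U W : Scheme.{u}} [IsAffine U] (i : W ⟶ U) [IsOpenImmersion i] (f : Γ(U, ⊤))
    (hf : U.basicOpen f ≤ i.opensRange) (a : Γ(W, i ⁻¹ᵁ U.basicOpen f)) :
    ∃ f' : Γ(U, ⊤), i ''ᵁ (W.basicOpen a) = U.basicOpen f' := by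
  have e₁ : i ''ᵁ (i ⁻¹ᵁ U.basicOpen f) = U.basicOpen f := by
    rw [i.image_preimage_eq_opensRange_inf, inf_eq_right.mpr hf]
  rw [Scheme.image_basicOpen i a]
  set a₂ := (i.appIso (i ⁻¹ᵁ U.basicOpen f)).inv a with ha₂
  have hle : U.basicOpen a₂ ≤ U.basicOpen f := (U.basicOpen_le a₂).trans e₁.le
  let a₃ : Γ(U, U.basicOpen f) := U.presheaf.map (homOfLE e₁.ge).op a₂
  have h3 : U.basicOpen a₃ = U.basicOpen a₂ := by
    rw [Scheme.basicOpen_res]
    exact inf_eq_right.mpr hle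
  obtain ⟨f', hf'⟩ := (isAffineOpen_top U).basicOpen_basicOpen_is_basicOpen f a₃
  exact ⟨f', by rw [hf', h3]⟩


/-- Let `U`, `V` be affine schemes and `W → U`, `W → V` open immersions. Then every `w ∈ W` has an open
neighbourhood `W' ⊆ W` whose images in `U` and in `V` are standard opens `D(f) ⊆ U`, `D(g) ⊆ V` (in
particular `W'` is affine). -/
theorem result {U V W : Scheme.{u}} [IsAffine U]
    [IsAffine V] (i : W ⟶ U) (j : W ⟶ V) [IsOpenImmersion i] [IsOpenImmersion j] (w : W) :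
    ∃ (W' : W.Opens) (f : Γ(U, ⊤)) (g : Γ(V, ⊤)), w ∈ W' ∧ i ''ᵁ W' = U.basicOpen f ∧ j ''ᵁ W' = V.basicOpen g := by
  obtain ⟨f, hf₁, hf₂⟩ := (isAffineOpen_top U).exists_basicOpen_le
    (V := i.opensRange) ⟨i w, ⟨w, rfl⟩⟩ trivial
  obtain ⟨g, hg₁, hg₂⟩ := (isAffineOpen_top V).exists_basicOpen_le
    (V := j.opensRange) ⟨j w, ⟨w, rfl⟩⟩ trivial
  have hWa : IsAffineOpen (i ⁻¹ᵁ U.basicOpen f) :=
    ((isAffineOpen_top U).basicOpen f).preimage_of_isOpenImmersion i hf₁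
  have hWb : IsAffineOpen (j ⁻¹ᵁ V.basicOpen g) :=
    ((isAffineOpen_top V).basicOpen g).preimage_of_isOpenImmersion j hg₁
  obtain ⟨a, b, hab, hwa⟩ := exists_basicOpen_le_affine_inter hWa hWb w ⟨hf₂, hg₂⟩
  obtain ⟨f', hf'⟩ := lemT i f hf₁ a
  obtain ⟨g', hg'⟩ := lemT j g hg₁ b
  exact ⟨W.basicOpen a, f', g', hwa, hf', by rw [hab]; exact hg'⟩

end Groth.Agent.S7416
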