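import Groth.Statements.S7431
import Mathlib

set_option autoImplicit false
universe u
open CategoryTheory AlgebraicGeometry
open Lim

namespace Groth.Agent.S7431
open CategoryTheory AlgebraicGeometry CategoryTheory.Limits
set_option linter.style.haveILetI false

theorem pb_facts {B B' R R' : Type u} [CommRing B] [CommRing B'] [CommRing R] [CommRing R']
    (s : B →+* R) (t : R' →+* R) (p : B' →+* B) (q : B' →+* R')
    (hsq : IsPullback (CommRingCat.ofHom p) (CommRingCat.ofHom q) (CommRingCat.ofHom s) (CommRingCat.ofHom t)) :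
    (∀ c, s (p c) = t (q c)) ∧ (∀ c, p c = 0 → q c = 0 → c = 0) ∧
    (∀ b r', s b = t r' → ∃ c, p c = b ∧ q c = r') := by
  have hw : ∀ c, s (p c) = t (q c) := fun c => by
    have := hsq.w
    exact ConcreteCategory.congr_hom this c
  let e : CommRingCat.of B' ≅
      (CommRingCat.pullbackCone (CommRingCat.ofHom s) (CommRingCat.ofHom t)).pt :=
    hsq.isLimit.conePointUniqueUpToIso
    (CommRingCat.pullbackConeIsLimit (CommRingCat.ofHom s) (CommRingCat.ofHom t))
  have h1 : e.hom ≫ (CommRingCat.pullbackCone (CommRingCat.ofHom s) (CommRingCat.ofHom t)).fst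
      = CommRingCat.ofHom p :=
    IsLimit.conePointUniqueUpToIso_hom_comp _ _ WalkingCospan.left
  have h2 : e.hom ≫ (CommRingCat.pullbackCone (CommRingCat.ofHom s) (CommRingCat.ofHom t)).snd
      = CommRingCat.ofHom q :=
    IsLimit.conePointUniqueUpToIso_hom_comp _ _ WalkingCospan.right
  have h1' : ∀ c : B', (e.hom c).1.1 = p c := fun c => by
    have := ConcreteCategory.congr_hom h1 c
    exact this
  have h2' : ∀ c : B', (e.hom c).1.2 = q c := fun c => by
    have := ConcreteCategory.congr_hom h2 c
    exact this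
  refine ⟨hw, ?_, ?_⟩
  · intro c hp hq
    have : e.hom c = 0 := by
      apply Subtype.ext
      apply Prod.ext
      · exact (h1' c).trans hp
      · exact (h2' c).trans hq
    have h3 : e.inv (e.hom c) = c := by
      have := e.hom_inv_id
      exact ConcreteCategory.congr_hom this c
    rw [← h3, this, map_zero]
  · intro b r' hbr
    let z : (CommRingCat.pullbackCone (CommRingCat.ofHom s) (CommRingCat.ofHom t)).pt :=
      ⟨(b, r'), hbr⟩
    have h3 : e.hom (e.inv z) = z := by
      have := e.inv_hom_id
      exact ConcreteCategory.congr_hom this z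
    refine ⟨e.inv z, ?_, ?_⟩
    · have := h1' (e.inv z)
      rw [h3] at this
      exact this.symm
    · have := h2' (e.inv z)
      rw [h3] at this
      exact this.symm


theorem lift_lemma {B B' R R' : Type u} [CommRing B] [CommRing B'] [CommRing R] [CommRing R']
    (s : B →+* R) (t : R' →+* R) (p : B' →+* B) (q : B' →+* R')
    (hex : ∀ b r', s b = t r' → ∃ c, p c = b ∧ q c = r')
    (f : R') (g : B) (hfg : t f = s g)
    (hsurj : Function.Surjective (Localization.awayMap s g)) (r' : R') :
    ∃ (k : ℕ) (c : B'), q c = f ^ k * r' := by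
  obtain ⟨z', hz'⟩ := hsurj (algebraMap R (Localization.Away (s g)) (t r'))
  obtain ⟨m, b, hmb⟩ := IsLocalization.Away.surj g z'
  have h1 := congrArg (Localization.awayMap s g) hmb
  rw [map_mul, map_pow, hz'] at h1
  have h2 : ∀ b : B, Localization.awayMap s g (algebraMap B (Localization.Away g) b) =
      algebraMap R (Localization.Away (s g)) (s b) := fun b => by
    simp [Localization.awayMap, IsLocalization.Away.map, IsLocalization.map_eq]
  rw [h2, h2, ← map_pow, ← map_mul] at h1
  obtain ⟨⟨_, l, rfl⟩, hl⟩ := (IsLocalization.eq_iff_exists (Submonoid.powers (s g))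
      (Localization.Away (s g))).mp h1
  dsimp only at hl
  obtain ⟨c, hc1, hc2⟩ := hex (g ^ l * b) (f ^ (l + m) * r') (by
    rw [map_mul, map_pow, map_mul, map_pow, hfg, ← hl, pow_add]; ring)
  exact ⟨l + m, c, hc2⟩

theorem away_lemma {B B' R R' : Type u} [CommRing B] [CommRing B'] [CommRing R] [CommRing R']
    (s : B →+* R) (t : R' →+* R) (p : B' →+* B) (q : B' →+* R')
    (hw : ∀ c, s (p c) = t (q c)) (hinj : ∀ c, p c = 0 → q c = 0 → c = 0)
    (hex : ∀ b r', s b = t r' → ∃ c, p c = b ∧ q c = r')
    (f : R') (g : B) (h : B') (hp : p h = g) (hq : q h = f)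
    (hiso : Function.Bijective (Localization.awayMap s g)) :
    letI : Algebra B' (Localization.Away f) :=
      ((algebraMap R' (Localization.Away f)).comp q).toAlgebra
    IsLocalization.Away h (Localization.Away f) := by
  letI : Algebra B' (Localization.Away f) :=
      ((algebraMap R' (Localization.Away f)).comp q).toAlgebra
  have halg : ∀ c : B', algebraMap B' (Localization.Away f) c =
      algebraMap R' (Localization.Away f) (q c) := fun c => rfl
  have hfg : t f = s g := by rw [← hp, ← hq, hw]
  have hunit : IsUnit (algebraMap R' (Localization.Away f) f) :=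
    IsLocalization.Away.algebraMap_isUnit _
  have h2 : ∀ b : B, Localization.awayMap s g (algebraMap B (Localization.Away g) b) =
      algebraMap R (Localization.Away (s g)) (s b) := fun b => by
    simp [Localization.awayMap, IsLocalization.Away.map, IsLocalization.map_eq]
  refine ⟨?_, ?_, ?_⟩
  · rintro ⟨_, n, rfl⟩
    change IsUnit (algebraMap B' (Localization.Away f) (h ^ n))
    rw [halg, map_pow, map_pow, hq]
    exact hunit.pow n
  · intro z
    obtain ⟨n, r', hnr⟩ := IsLocalization.Away.surj f z
    obtain ⟨k, c, hc⟩ := lift_lemma s t p q hex f g hfg hiso.2 r'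
    refine ⟨(c, ⟨h ^ (n + k), n + k, rfl⟩), ?_⟩
    change z * algebraMap B' (Localization.Away f) (h ^ (n + k)) =
      algebraMap B' (Localization.Away f) c
    rw [halg, halg, hc, map_pow, hq, map_mul, ← hnr, map_pow, map_pow, pow_add]
    ring
  · intro x y hxy
    rw [halg, halg] at hxy
    obtain ⟨⟨_, k, rfl⟩, hk⟩ := (IsLocalization.eq_iff_exists (Submonoid.powers f)
      (Localization.Away f)).mp hxy
    dsimp only at hk
    set d := h ^ k * (x - y) with hd
    have hqd : q d = 0 := by
      rw [hd, map_mul, map_pow, hq, map_sub, mul_sub, hk, sub_self]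
    have hspd : s (p d) = 0 := by rw [hw, hqd, map_zero]
    have h3 : algebraMap B (Localization.Away g) (p d) = 0 := by
      apply hiso.1
      rw [h2, hspd, map_zero, map_zero]
    obtain ⟨⟨_, l, rfl⟩, hl⟩ := (IsLocalization.map_eq_zero_iff (Submonoid.powers g)
      (Localization.Away g) (p d)).mp h3
    dsimp only at hl
    have h4 : h ^ l * d = 0 := by
      apply hinj
      · rw [map_mul, map_pow, hp, hl]
      · rw [map_mul, hqd, mul_zero]
    refine ⟨⟨h ^ (l + k), l + k, rfl⟩, ?_⟩
    change h ^ (l + k) * x = h ^ (l + k) * y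
    rw [← sub_eq_zero, ← mul_sub, pow_add, mul_assoc, ← hd, h4]


theorem main {B B' R R' : Type u} [CommRing B] [CommRing B']
    [CommRing R] [CommRing R'] (s : B →+* R) (t : R' →+* R) (p : B' →+* B) (q : B' →+* R')
    (hsq : IsPullback (CommRingCat.ofHom p) (CommRingCat.ofHom q) (CommRingCat.ofHom s) (CommRingCat.ofHom t))
    {n : ℕ} (f : Fin n → R') (g : Fin n → B) (hfg : ∀ i, t (f i) = s (g i))
    (hiso : ∀ i, Function.Bijective (Localization.awayMap s (g i))) :
    IsOpenImmersion (Scheme.Opens.ι (X := Spec (CommRingCat.of R')) (⨆ i, PrimeSpectrum.basicOpen (f i)) ≫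
      Spec.map (CommRingCat.ofHom q)) := by
  obtain ⟨hw, hinj, hex⟩ := pb_facts s t p q hsq
  have hh : ∀ i, ∃ h : B', p h = g i ∧ q h = f i := fun i => hex (g i) (f i) (hfg i).symm
  choose h hph hqh using hh
  set W : (Spec (CommRingCat.of R')).Opens := ⨆ i, PrimeSpectrum.basicOpen (f i) with hW
  have hmemW : ∀ x : Spec (CommRingCat.of R'), x ∈ W ↔ ∃ i, f i ∉ x.asIdeal := by
    intro x
    refine Iff.trans (TopologicalSpace.Opens.mem_iSup (ι := Fin n)
      (s := fun i => (PrimeSpectrum.basicOpen (f i) : (Spec (CommRingCat.of R')).Opens))) ?_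
    exact Iff.rfl
  have hιinj : Function.Injective W.ι := Scheme.Hom.injective _
  -- key pointwise injectivity
  have hpt : ∀ (x y : Spec (CommRingCat.of R')) (i : Fin n), f i ∉ x.asIdeal →
      PrimeSpectrum.comap q x = PrimeSpectrum.comap q y → x = y := by
    intro x y i hx hxy
    have hmem : ∀ c : B', q c ∈ x.asIdeal ↔ q c ∈ y.asIdeal := by
      intro c
      have := congrArg (fun z : PrimeSpectrum B' => c ∈ z.asIdeal) hxy
      exact iff_of_eq this
    have hy : f i ∉ y.asIdeal := by
      rw [← hqh i, ← hmem, hqh i]; exact hx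
    apply PrimeSpectrum.ext
    ext r
    obtain ⟨k, c, hc⟩ := lift_lemma s t p q hex (f i) (g i) (hfg i) (hiso i).2 r
    constructor
    · intro hr
      have h1 : q c ∈ x.asIdeal := by rw [hc]; exact Ideal.mul_mem_left _ _ hr
      have h2 : q c ∈ y.asIdeal := (hmem c).mp h1
      rw [hc] at h2
      rcases y.isPrime.mem_or_mem h2 with h3 | h3
      · exact absurd (y.isPrime.mem_of_pow_mem _ h3) hy
      · exact h3
    · intro hr
      have h1 : q c ∈ y.asIdeal := by rw [hc]; exact Ideal.mul_mem_left _ _ hr
      have h2 : q c ∈ x.asIdeal := (hmem c).mpr h1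
      rw [hc] at h2
      rcases x.isPrime.mem_or_mem h2 with h3 | h3
      · exact absurd (x.isPrime.mem_of_pow_mem _ h3) hx
      · exact h3
  apply IsOpenImmersion.of_forall_source_exists
  · intro x y hxy
    apply hιinj
    have hxW : W.ι x ∈ W := by
      have : W.ι x ∈ W.ι.opensRange := ⟨x, rfl⟩
      rwa [Scheme.Opens.opensRange_ι] at this
    obtain ⟨i, hi⟩ := (hmemW _).mp hxW
    refine hpt _ _ i hi ?_
    have := hxy
    simp only [Scheme.Hom.comp_apply] at this
    exact this
  · intro x
    have hxW : W.ι x ∈ W := by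
      have : W.ι x ∈ W.ι.opensRange := ⟨x, rfl⟩
      rwa [Scheme.Opens.opensRange_ι] at this
    obtain ⟨i, hi⟩ := (hmemW _).mp hxW
    letI : Algebra B' (Localization.Away (f i)) :=
      ((algebraMap R' (Localization.Away (f i))).comp q).toAlgebra
    haveI := away_lemma s t p q hw hinj hex (f i) (g i) (h i) (hph i) (hqh i) (hiso i)
    have hrange : (Spec.map (CommRingCat.ofHom (algebraMap R' (Localization.Away (f i))))).opensRange
        = PrimeSpectrum.basicOpen (f i) :=
      Scheme.Hom.opensRange_localizationAway (R := CommRingCat.of R') (f i)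
    have hsub : Set.range ⇑(Spec.map (CommRingCat.ofHom (algebraMap R' (Localization.Away (f i)))))
        ⊆ Set.range ⇑W.ι := by
      rintro _ ⟨u, rfl⟩
      have h1 : (Spec.map (CommRingCat.ofHom (algebraMap R' (Localization.Away (f i))))) u ∈
          (Spec.map (CommRingCat.ofHom (algebraMap R' (Localization.Away (f i))))).opensRange := ⟨u, rfl⟩
      rw [hrange] at h1
      have h2 : (Spec.map (CommRingCat.ofHom (algebraMap R' (Localization.Away (f i))))) u ∈ W :=
        (hmemW _).mpr ⟨i, h1⟩
      rw [← Scheme.Opens.opensRange_ι W] at h2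
      exact h2
    haveI : IsOpenImmersion (Spec.map (CommRingCat.ofHom (algebraMap R' (Localization.Away (f i))))) :=
      IsOpenImmersion.of_isLocalization (f i)
    set j := IsOpenImmersion.lift W.ι
      (Spec.map (CommRingCat.ofHom (algebraMap R' (Localization.Away (f i))))) hsub with hj
    have hfac : j ≫ W.ι = Spec.map (CommRingCat.ofHom (algebraMap R' (Localization.Away (f i)))) :=
      IsOpenImmersion.lift_fac _ _ _
    haveI : IsOpenImmersion (j ≫ W.ι) := by rw [hfac]; infer_instance
    have hjo : IsOpenImmersion j := IsOpenImmersion.of_comp j W.ι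
    refine ⟨Spec (CommRingCat.of (Localization.Away (f i))), j, hjo, ?_, ?_⟩
    · have h1 : W.ι x ∈
          (Spec.map (CommRingCat.ofHom (algebraMap R' (Localization.Away (f i))))).opensRange := by
        rw [hrange]; exact hi
      obtain ⟨u, hu⟩ := h1
      refine ⟨u, hιinj ?_⟩
      rw [← Scheme.Hom.comp_apply, hfac]
      exact hu
    · rw [← Category.assoc, hfac, ← Spec.map_comp]
      exact IsOpenImmersion.of_isLocalization (h i)

end Groth.Agent.S7431

namespace Groth.Agent.S7431

/-- Let `B' = B ×_R R'` be a cartesian square of rings with maps `s : B → R`, `t : R' → R`, and let `W'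
= D(f_1) ∪ … ∪ D(f_n) ⊆ Spec R'` with `t(f_i) = s(g_i)` for elements `g_i ∈ B` such that `B_{g_i} →
R_{s(g_i)}` is an isomorphism for each `i`. Then the composite `W' → Spec R' → Spec B'`, the second
map coming from `B' → R'`, is an open immersion. -/
theorem result {B B' R R' : Type u} [CommRing B] [CommRing B']
    [CommRing R] [CommRing R'] (s : B →+* R) (t : R' →+* R) (p : B' →+* B) (q : B' →+* R')
    (hsq : IsPullback (CommRingCat.ofHom p) (CommRingCat.ofHom q) (CommRingCat.ofHom s) (CommRingCat.ofHom t))
    {n : ℕ} (f : Fin n → R') (g : Fin n → B) (hfg : ∀ i, t (f i) = s (g i))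
    (hiso : ∀ i, Function.Bijective (Localization.awayMap s (g i))) :
    IsOpenImmersion (Scheme.Opens.ι (X := Spec (CommRingCat.of R')) (⨆ i, PrimeSpectrum.basicOpen (f i)) ≫
      Spec.map (CommRingCat.ofHom q)) := by

  exact Groth.Agent.S7431.main s t p q hsq f g hfg hiso

end Groth.Agent.S7431
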