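import Groth.Statements.S7435
import Groth.Agent.Lib.Helper38.BddFib

set_option autoImplicit false
universe u
open CategoryTheory AlgebraicGeometry
open BddFib

namespace Groth.Agent.S7435

/-- If `f` is finite locally free of degree `d`, then `d` bounds the degrees of the fibres of `f`. -/
theorem result {X Y : Scheme.{u}} (f : X ⟶ Y) (d : ℕ) (hf : Mor2.IsFinLocFreeOfDeg d f) :
    BddFib.FibreDegLE f d := by
  obtain ⟨⟨hfin, hflat, hfp⟩, hdeg⟩ := hf
  intro y
  have h1 : IsFinite (f.fiberToSpecResidueField y) :=
    inferInstanceAs (IsFinite (Limits.pullback.snd f (Y.fromSpecResidueField y)))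
  have h3 : (f.fiberToSpecResidueField y).finrank default = d := by
    have := Scheme.Hom.finrank_pullback_snd f (Y.fromSpecResidueField y) default
    rw [hdeg] at this
    exact this
  exact @Groth.Agent.Lib.Helper38.finiteOfDegLE_of_isFinite_of_le _ _ _
    (f.fiberToSpecResidueField y) h1 default _ (le_of_eq h3)

end Groth.Agent.S7435
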