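import Groth.Statements.S7440
import Groth.Agent.Lib.Helper38.BddFib

set_option autoImplicit false
universe u
open CategoryTheory AlgebraicGeometry
open BddFib

namespace Groth.Agent.S7440

/-- Let `f : X → Y` be étale and `n ≥ 0`. If for every field `k` and every `Spec k → Y` the base change
`X_k = Spec k ×_Y X` has finitely many, and at most `n`, points, then `n` bounds the degrees of the
fibres of `f`. (The converse implication holds for every morphism of schemes, étale or not, and is
not restated here.) -/
theorem result {X Y : Scheme.{u}} (f : X ⟶ Y) [Etale f] (n : ℕ)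
    (h : ∀ (k : Type u) [Field k] (g : Spec (CommRingCat.of k) ⟶ Y),
      Finite ↥(Limits.pullback f g) ∧ Nat.card ↥(Limits.pullback f g) ≤ n) :
    BddFib.FibreDegLE f n := by
  rw [Groth.Agent.Lib.Helper38.fibreDegLE_iff_forall_field_points]
  intro k _ g P fst snd hP
  let ψ : CommRingCat.of k ⟶ CommRingCat.of (AlgebraicClosure k) :=
    CommRingCat.ofHom (algebraMap k (AlgebraicClosure k))
  have sq := IsPullback.of_hasPullback snd (Spec.map ψ)
  refine Groth.Agent.Lib.Helper38.finiteOfDegLE_of_isPullback_descent ψ sq ?_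
  have big : IsPullback (Limits.pullback.fst snd (Spec.map ψ) ≫ fst) (Limits.pullback.snd snd (Spec.map ψ)) f
      (Spec.map ψ ≫ g) := sq.paste_horiz hP
  let e : Limits.pullback snd (Spec.map ψ) ≅ Limits.pullback f (Spec.map ψ ≫ g) := big.isoPullback
  obtain ⟨hfin, hcard⟩ := h (AlgebraicClosure k) (Spec.map ψ ≫ g)
  have hfin' : Finite ↥(Limits.pullback snd (Spec.map ψ)) :=
    Finite.of_equiv _ e.hom.homeomorph.symm.toEquiv
  have hc : Nat.card ↥(Limits.pullback snd (Spec.map ψ)) ≤ n := by
    rw [Nat.card_congr e.hom.homeomorph.toEquiv]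
    exact hcard
  have hEt : Etale (Limits.pullback.snd snd (Spec.map ψ)) :=
    MorphismProperty.of_isPullback big (inferInstance : Etale f)
  exact Groth.Agent.Lib.Helper38.finiteOfDegLE_mono
    (Groth.Agent.Lib.Helper38.finiteOfDegLE_of_etale_of_isSepClosed _) hc


end Groth.Agent.S7440
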