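import Groth.Statements.S7449
import Groth.Agent.Lib.Helper39.CC.Main
import Groth.Agent.S0566
import Groth.Agent.Lib.Helper39.CurveVal
-- import your own Groth.Agent.* helpers here

set_option autoImplicit false
universe u
open CategoryTheory AlgebraicGeometry
open Lim

namespace Groth.Agent.S7449

section Helpers

set_option autoImplicit false
open CategoryTheory AlgebraicGeometry
open Lim

namespace T7449
open Groth.Agent.Lib.Helper39

theorem main7449 (S : Scheme.{u}) (hS : ∀ W : S.affineOpens, CAlg.IsNagata Γ(S, W))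
    (hNag : ∀ (R : Type u) [CommRing R], CAlg.IsNagata R → ∀ (B : Type u) [CommRing B] [Algebra R B]
      [Algebra.FiniteType R B], CAlg.IsNagata B)
    {X Y : Scheme.{u}} (p : X ⟶ S) (q : Y ⟶ S) [LocallyOfFiniteType p] [LocallyOfFiniteType q] (f : X ⟶ Y)
    (hf : f ≫ q = p) [QuasiCompact f] :
    UniversallyClosed f ↔
      ∀ (C : Scheme.{u}) (r : C ⟶ S) [IsIntegral C] [LocallyOfFiniteType r] [QuasiCompact r],
        (∀ x : C, IsIntegrallyClosed (C.presheaf.stalk x)) →
        ∀ (c : C), IsClosed ({c} : Set C) → ringKrullDim (C.presheaf.stalk c) = 1 →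
        ∀ (U : C.Opens), (U : Set C) = {c}ᶜ →
        ∀ (u : (U : Scheme.{u}) ⟶ X) (g : C ⟶ Y), g ≫ q = r → u ≫ f = U.ι ≫ g →
        ∀ (k : Spec (CommRingCat.of (FractionRing (C.presheaf.stalk c))) ⟶ (U : Scheme.{u})),
          k ≫ U.ι = Spec.map (CommRingCat.ofHom (algebraMap (C.presheaf.stalk c)
            (FractionRing (C.presheaf.stalk c)))) ≫ C.fromSpecStalk c →
        ∃ l : Spec (C.presheaf.stalk c) ⟶ X, l ≫ f = C.fromSpecStalk c ≫ g ∧
          Spec.map (CommRingCat.ofHom (algebraMap (C.presheaf.stalk c) (FractionRing (C.presheaf.stalk c)))) ≫ l =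
            k ≫ u := by
  constructor
  · intro huc C r _ _ _ hnormal c hcl hdim U hU u g hgr hug k hk
    haveI : IsLocallyNoetherian S := ⟨fun W => (hS W).1⟩
    haveI : IsLocallyNoetherian C := LocallyOfFiniteType.isLocallyNoetherian r
    haveI : IsDomain (C.presheaf.stalk c) := inferInstance
    haveI : IsIntegrallyClosed (C.presheaf.stalk c) := hnormal c
    haveI : IsNoetherianRing (C.presheaf.stalk c) := inferInstance
    haveI : IsDiscreteValuationRing (C.presheaf.stalk c) :=
      CurveVal.isDiscreteValuationRing_of_dim_one (C.presheaf.stalk c) hdim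
    have hex : ValuativeCriterion.Existence f := by
      have := UniversallyClosed.eq_valuativeCriterion
      have h2 : (ValuativeCriterion.Existence ⊓ @QuasiCompact) f := this ▸ huc
      exact h2.1
    have hsq : (k ≫ u) ≫ f = Spec.map (CommRingCat.ofHom (algebraMap (C.presheaf.stalk c)
        (FractionRing (C.presheaf.stalk c)))) ≫ (C.fromSpecStalk c ≫ g) := by
      rw [Category.assoc, hug, ← Category.assoc, hk, Category.assoc]
    let Sq : ValuativeCommSq f :=
      @ValuativeCommSq.mk _ _ f (C.presheaf.stalk c) _ inferInstance inferInstance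
        (FractionRing (C.presheaf.stalk c)) _ _ _ (k ≫ u) (C.fromSpecStalk c ≫ g) ⟨hsq⟩
    obtain ⟨⟨l⟩⟩ := hex Sq
    exact ⟨l.l, l.fac_right, l.fac_left⟩
  · intro H
    exact CC.universallyClosed_of_curveCrit S (fun W B _ _ _ => hNag _ (hS W) B) p q f hf H

end T7449

end Helpers

/-- Let `S` be a Nagata scheme, `X`, `Y` locally of finite type over `S` and `f : X → Y` a quasi-compact
morphism over `S`. Then `f` is universally closed if and only if for every commutative diagram `U →
X`, `C → Y` over `S` where `C` is a normal integral scheme of finite type over `S`, `c ∈ C` is a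
closed point whose local ring `A = O_{C,c}` has dimension `1` and `U = C ∖ {c}`, there is a morphism
`Spec A → X` making the square `Spec K → X`, `Spec A → Y` (with `K = Frac A`, `Spec K → X` through
`U`, `Spec A → Y` through `C`) commute. -/
theorem result (S : Scheme.{u}) (hS : ∀ W : S.affineOpens, CAlg.IsNagata Γ(S, W))
    {X Y : Scheme.{u}} (p : X ⟶ S) (q : Y ⟶ S) [LocallyOfFiniteType p] [LocallyOfFiniteType q] (f : X ⟶ Y)
    (hf : f ≫ q = p) [QuasiCompact f] :
    UniversallyClosed f ↔
      ∀ (C : Scheme.{u}) (r : C ⟶ S) [IsIntegral C] [LocallyOfFiniteType r] [QuasiCompact r],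
        (∀ x : C, IsIntegrallyClosed (C.presheaf.stalk x)) →
        ∀ (c : C), IsClosed ({c} : Set C) → ringKrullDim (C.presheaf.stalk c) = 1 →
        ∀ (U : C.Opens), (U : Set C) = {c}ᶜ →
        ∀ (u : (U : Scheme.{u}) ⟶ X) (g : C ⟶ Y), g ≫ q = r → u ≫ f = U.ι ≫ g →
        ∀ (k : Spec (CommRingCat.of (FractionRing (C.presheaf.stalk c))) ⟶ (U : Scheme.{u})),
          k ≫ U.ι = Spec.map (CommRingCat.ofHom (algebraMap (C.presheaf.stalk c)
            (FractionRing (C.presheaf.stalk c)))) ≫ C.fromSpecStalk c →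
        ∃ l : Spec (C.presheaf.stalk c) ⟶ X, l ≫ f = C.fromSpecStalk c ≫ g ∧
          Spec.map (CommRingCat.ofHom (algebraMap (C.presheaf.stalk c) (FractionRing (C.presheaf.stalk c)))) ≫ l =
            k ≫ u := by
  exact T7449.main7449 S hS (fun R _ hR B _ _ _ => Groth.Agent.S0566.result R hR B) p q f hf

end Groth.Agent.S7449
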