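import Groth.Statements.S7450
import Groth.Agent.Lib.Helper39.CC.Main
import Groth.Agent.S0566
import Groth.Agent.Lib.Helper39.CurveVal
-- import your own Groth.Agent.* helpers here

set_option autoImplicit false
universe u
open CategoryTheory AlgebraicGeometry
open Lim

namespace Groth.Agent.S7450

section Helpers

set_option autoImplicit false
open CategoryTheory AlgebraicGeometry
open Lim

namespace T7450
open Groth.Agent.Lib.Helper39 Limits

theorem main7450 (S : Scheme.{u}) (hS : ∀ W : S.affineOpens, CAlg.IsNagata Γ(S, W))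
    (hNag : ∀ (R : Type u) [CommRing R], CAlg.IsNagata R → ∀ (B : Type u) [CommRing B] [Algebra R B]
      [Algebra.FiniteType R B], CAlg.IsNagata B)
    {X Y : Scheme.{u}} (p : X ⟶ S) (q : Y ⟶ S) [LocallyOfFiniteType p] [LocallyOfFiniteType q] (f : X ⟶ Y)
    (hf : f ≫ q = p) :
    IsSeparated f ↔
      ∀ (C : Scheme.{u}) (r : C ⟶ S) [IsIntegral C] [LocallyOfFiniteType r] [QuasiCompact r],
        (∀ x : C, IsIntegrallyClosed (C.presheaf.stalk x)) →
        ∀ (c : C), IsClosed ({c} : Set C) → ringKrullDim (C.presheaf.stalk c) = 1 →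
        ∀ (U : C.Opens), (U : Set C) = {c}ᶜ →
        ∀ (u : (U : Scheme.{u}) ⟶ X) (g : C ⟶ Y), g ≫ q = r → u ≫ f = U.ι ≫ g →
        ∀ (k : Spec (CommRingCat.of (FractionRing (C.presheaf.stalk c))) ⟶ (U : Scheme.{u})),
          k ≫ U.ι = Spec.map (CommRingCat.ofHom (algebraMap (C.presheaf.stalk c)
            (FractionRing (C.presheaf.stalk c)))) ≫ C.fromSpecStalk c →
        ∀ l l' : Spec (C.presheaf.stalk c) ⟶ X,
          l ≫ f = C.fromSpecStalk c ≫ g →
          Spec.map (CommRingCat.ofHom (algebraMap (C.presheaf.stalk c) (FractionRing (C.presheaf.stalk c)))) ≫ l =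
            k ≫ u →
          l' ≫ f = C.fromSpecStalk c ≫ g →
          Spec.map (CommRingCat.ofHom (algebraMap (C.presheaf.stalk c) (FractionRing (C.presheaf.stalk c)))) ≫ l' =
            k ≫ u → l = l' := by
  haveI : IsLocallyNoetherian S := ⟨fun W => (hS W).1⟩
  constructor
  · intro hsep C r _ _ _ hnormal c hcl hdim U hU u g hgr hug k hk l l' hl1 hl2 hl'1 hl'2
    haveI : IsLocallyNoetherian C := LocallyOfFiniteType.isLocallyNoetherian r
    haveI : IsDomain (C.presheaf.stalk c) := inferInstance
    haveI : IsIntegrallyClosed (C.presheaf.stalk c) := hnormal c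
    haveI : IsNoetherianRing (C.presheaf.stalk c) := inferInstance
    haveI : IsDiscreteValuationRing (C.presheaf.stalk c) :=
      CurveVal.isDiscreteValuationRing_of_dim_one (C.presheaf.stalk c) hdim
    have huniq : ValuativeCriterion.Uniqueness f := IsSeparated.valuativeCriterion f
    have hsq : (k ≫ u) ≫ f = Spec.map (CommRingCat.ofHom (algebraMap (C.presheaf.stalk c)
        (FractionRing (C.presheaf.stalk c)))) ≫ (C.fromSpecStalk c ≫ g) := by
      rw [Category.assoc, hug, ← Category.assoc, hk, Category.assoc]
    let Sq : ValuativeCommSq f :=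
      @ValuativeCommSq.mk _ _ f (C.presheaf.stalk c) _ inferInstance inferInstance
        (FractionRing (C.presheaf.stalk c)) _ _ _ (k ≫ u) (C.fromSpecStalk c ≫ g) ⟨hsq⟩
    have hsub : Subsingleton Sq.commSq.LiftStruct := huniq Sq
    let L₁ : Sq.commSq.LiftStruct := ⟨l, hl2, hl1⟩
    let L₂ : Sq.commSq.LiftStruct := ⟨l', hl'2, hl'1⟩
    have := congrArg CommSq.LiftStruct.l (Subsingleton.elim L₁ L₂)
    exact this
  · intro H
    haveI : IsLocallyNoetherian X := LocallyOfFiniteType.isLocallyNoetherian p
    haveI : QuasiSeparated f := inferInstance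
    haveI : LocallyOfFiniteType (f ≫ q) := by rw [hf]; infer_instance
    haveI : LocallyOfFiniteType f := locallyOfFiniteType_of_comp f q
    have hΔ : pullback.diagonal f ≫ (pullback.fst f f ≫ p) = p := by simp
    have HcritΔ : CC.CurveCrit (pullback.fst f f ≫ p) (pullback.diagonal f) := by
      intro C r _ _ _ hnormal c hcl hdim U hU u g hgr hug k hk
      have hu : u = U.ι ≫ g ≫ pullback.fst f f := by
        have := congr($hug ≫ pullback.fst f f)
        simpa using this
      have hu' : u = U.ι ≫ g ≫ pullback.snd f f := by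
        have := congr($hug ≫ pullback.snd f f)
        simpa using this
      have e := H C r hnormal c hcl hdim U hU u (g ≫ pullback.fst f f ≫ f)
        (by rw [← hgr, ← hf]; simp) (by rw [hu]; simp) k hk
        (C.fromSpecStalk c ≫ g ≫ pullback.fst f f) (C.fromSpecStalk c ≫ g ≫ pullback.snd f f)
        (by simp)
        (by rw [← reassoc_of% hk, hu])
        (by simp [pullback.condition])
        (by rw [← reassoc_of% hk, hu'])
      refine ⟨C.fromSpecStalk c ≫ g ≫ pullback.fst f f, ?_, ?_⟩
      · apply pullback.hom_ext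
        · simp
        · simp only [Category.assoc, pullback.diagonal_snd, Category.comp_id]
          exact e
      · rw [← reassoc_of% hk, hu]
    haveI : QuasiCompact (pullback.diagonal f) := inferInstance
    have hUC : UniversallyClosed (pullback.diagonal f) :=
      CC.universallyClosed_of_curveCrit S (fun W B _ _ _ => hNag _ (hS W) B) p
        (pullback.fst f f ≫ p) (pullback.diagonal f) hΔ HcritΔ
    exact ⟨.of_isPreimmersion _ (pullback.diagonal f).isClosedMap.isClosed_range⟩

end T7450

end Helpers

/-- Assume `S` is a Nagata scheme and `f : X → Y` is a morphism over `S` between schemes `X`, `Y` that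
are locally of finite type over `S`. Then `f` is separated exactly when the following holds. Take
any normal integral scheme `C` of finite type over `S` and a closed point `c ∈ C` such that the
local ring `A = O_{C,c}` is one-dimensional, put `U = C ∖ {c}`, and consider any commutative diagram
of `S`-schemes formed by `U → X` and `C → Y`. Then at most one morphism `Spec A → X` makes the
square with `Spec K → X` and `Spec A → Y` commute. -/
theorem result (S : Scheme.{u}) (hS : ∀ W : S.affineOpens, CAlg.IsNagata Γ(S, W))
    {X Y : Scheme.{u}} (p : X ⟶ S) (q : Y ⟶ S) [LocallyOfFiniteType p] [LocallyOfFiniteType q] (f : X ⟶ Y)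
    (hf : f ≫ q = p) :
    IsSeparated f ↔
      ∀ (C : Scheme.{u}) (r : C ⟶ S) [IsIntegral C] [LocallyOfFiniteType r] [QuasiCompact r],
        (∀ x : C, IsIntegrallyClosed (C.presheaf.stalk x)) →
        ∀ (c : C), IsClosed ({c} : Set C) → ringKrullDim (C.presheaf.stalk c) = 1 →
        ∀ (U : C.Opens), (U : Set C) = {c}ᶜ →
        ∀ (u : (U : Scheme.{u}) ⟶ X) (g : C ⟶ Y), g ≫ q = r → u ≫ f = U.ι ≫ g →
        ∀ (k : Spec (CommRingCat.of (FractionRing (C.presheaf.stalk c))) ⟶ (U : Scheme.{u})),
          k ≫ U.ι = Spec.map (CommRingCat.ofHom (algebraMap (C.presheaf.stalk c)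
            (FractionRing (C.presheaf.stalk c)))) ≫ C.fromSpecStalk c →
        ∀ l l' : Spec (C.presheaf.stalk c) ⟶ X,
          l ≫ f = C.fromSpecStalk c ≫ g →
          Spec.map (CommRingCat.ofHom (algebraMap (C.presheaf.stalk c) (FractionRing (C.presheaf.stalk c)))) ≫ l =
            k ≫ u →
          l' ≫ f = C.fromSpecStalk c ≫ g →
          Spec.map (CommRingCat.ofHom (algebraMap (C.presheaf.stalk c) (FractionRing (C.presheaf.stalk c)))) ≫ l' =
            k ≫ u → l = l' := by
  exact T7450.main7450 S hS (fun R _ hR B _ _ _ => Groth.Agent.S0566.result R hR B) p q f hf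

end Groth.Agent.S7450
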