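import Groth.Statements.S7453
import Groth.Agent.Lib.Helper38.GrpdLib
import Mathlib.AlgebraicGeometry.Morphisms.Separated

set_option autoImplicit false
universe u
open CategoryTheory CategoryTheory.Limits AlgebraicGeometry
open Grpd

namespace Groth.Agent.S7453

/-- Let (U, R, s, t, c) be a groupoid scheme over S with U the spectrum of a field. Then R is a
separated scheme. (A groupoid scheme carries U, R, s, t, c, e, i over S with the groupoid axioms on
T-points; c is defined on the fibre product of s and t and sends a pair (a, b) with s(a) = t(b) to a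
composed with b.) -/
theorem result (S : Scheme.{u}) (G : Grpd.GroupoidScheme S) (k : Type u) [Field k] (eU : G.U ≅ Spec (CommRingCat.of k)) : G.R.IsSeparated := by
  open Groth.Agent.Lib.Helper38.GrpdLib in
  haveI : Subsingleton G.U := eU.hom.homeomorph.injective.subsingleton
  haveI : IsAffine G.U := IsAffine.of_isIso eU.hom
  haveI he : IsClosedImmersion G.e := isClosedImmersion_of_comp_eq_id G.s G.e G.e_s
  -- the "difference" map `(a, b) ↦ a ∘ b⁻¹`
  have hd0 : pullback.fst G.s G.s ≫ G.s = (pullback.snd G.s G.s ≫ G.i) ≫ G.t := by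
    rw [Category.assoc, G.i_t, pullback.condition]
  let d : pullback G.s G.s ⟶ G.R := mul (pullback.fst G.s G.s) (pullback.snd G.s G.s ≫ G.i) hd0
  have hcomm : pullback.diagonal G.s ≫ d = G.t ≫ G.e := by
    show pullback.diagonal G.s ≫ mul _ _ hd0 = _
    rw [comp_mul]
    have h1 : pullback.diagonal G.s ≫ pullback.fst G.s G.s = 𝟙 G.R := pullback.diagonal_fst _
    have h2 : pullback.diagonal G.s ≫ pullback.snd G.s G.s ≫ G.i = 𝟙 G.R ≫ G.i := by
      rw [← Category.assoc, pullback.diagonal_snd]
    rw [mul_congr h1 h2, mul_i, Category.id_comp]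
  have key : ∀ {T : Scheme.{u}} (α : T ⟶ pullback G.s G.s) (x : T ⟶ G.U),
      α ≫ d = x ≫ G.e → α ≫ pullback.fst G.s G.s = α ≫ pullback.snd G.s G.s ∧
        (α ≫ pullback.fst G.s G.s) ≫ G.t = x := by
    intro T α x h
    have hab : (α ≫ pullback.fst G.s G.s) ≫ G.s = (α ≫ pullback.snd G.s G.s) ≫ G.s := by
      rw [Category.assoc, Category.assoc, pullback.condition]
    have h' : mul (α ≫ pullback.fst G.s G.s) ((α ≫ pullback.snd G.s G.s) ≫ G.i)
        (by rw [Category.assoc _ G.i, G.i_t, hab]) = x ≫ G.e := by
      rw [← h]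
      show _ = α ≫ mul _ _ hd0
      rw [comp_mul]
      exact mul_congr rfl (Category.assoc _ _ _) _
    have hx1 : (α ≫ pullback.snd G.s G.s) ≫ G.t = x := by
      have := congrArg (· ≫ G.s) h'
      simp only [mul_s, Category.assoc, G.i_s, G.e_s, Category.comp_id] at this
      rw [Category.assoc]; exact this
    have hx2 : (α ≫ pullback.fst G.s G.s) ≫ G.t = x := by
      have := congrArg (· ≫ G.t) h'
      simp only [mul_t, Category.assoc, G.e_t, Category.comp_id] at this
      rw [Category.assoc]; exact this
    refine ⟨?_, hx2⟩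
    have h3 := mul_i_mul' (α ≫ pullback.fst G.s G.s) (α ≫ pullback.snd G.s G.s) hab
    rw [← h3]
    have h4 : x ≫ G.e = (α ≫ pullback.snd G.s G.s) ≫ G.t ≫ G.e := by
      rw [← Category.assoc, hx1]
    rw [mul_congr (h'.trans h4) rfl]
    exact e_mul _ _ rfl
  have hsq : IsPullback (pullback.diagonal G.s) G.t d G.e := by
    refine ⟨⟨hcomm⟩, ⟨PullbackCone.IsLimit.mk _ (fun c => c.fst ≫ pullback.fst G.s G.s) ?_ ?_ ?_⟩⟩
    · intro c
      obtain ⟨h1, _⟩ := key c.fst c.snd c.condition
      apply pullback.hom_ext
      · rw [Category.assoc, pullback.diagonal_fst, Category.comp_id]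
      · rw [Category.assoc, pullback.diagonal_snd, Category.comp_id, h1]
    · intro c
      exact (key c.fst c.snd c.condition).2
    · intro c m hm _
      rw [← hm, Category.assoc, pullback.diagonal_fst, Category.comp_id]
  haveI : IsSeparated G.s :=
    ⟨MorphismProperty.of_isPullback (P := @IsClosedImmersion) hsq.flip he⟩
  have hR : terminal.from G.R = G.s ≫ terminal.from G.U := Subsingleton.elim _ _
  refine ⟨?_⟩
  rw [hR]
  infer_instance


end Groth.Agent.S7453
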