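import Groth.Statements.S7455
import Groth.Agent.S7457
import Groth.Agent.S2757
import Groth.Agent.Lib.Helper40.GrpdRank

set_option autoImplicit false
set_option backward.isDefEq.respectTransparency.types false
universe u
open CategoryTheory CategoryTheory.Limits AlgebraicGeometry
open Grpd

namespace Groth.Agent.S7455

section aux

theorem mem_smoothLocus_of_nhd {X Y : Scheme.{u}} (f : X ⟶ Y) [LocallyOfFinitePresentation f]
    (V : X.Opens) (hV : Smooth (V.ι ≫ f)) : V ≤ f.smoothLocus := by
  have h1 : V.ι ⁻¹ᵁ f.smoothLocus = ⊤ := by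
    rw [Scheme.Hom.preimage_smoothLocus_eq, Scheme.Hom.smoothLocus_eq_top_iff]
    exact hV
  intro z hz
  have hz' : (⟨z, hz⟩ : V) ∈ V.ι ⁻¹ᵁ f.smoothLocus := by rw [h1]; trivial
  exact hz'

theorem exists_smooth_nhd_of_mem_smoothLocus {X Y : Scheme.{u}} (f : X ⟶ Y)
    [LocallyOfFinitePresentation f] (x : X) (hx : x ∈ f.smoothLocus) :
    ∃ U : X.Opens, x ∈ U ∧ Smooth (U.ι ≫ f) := by
  refine ⟨f.smoothLocus, hx, ?_⟩
  rw [← Scheme.Hom.smoothLocus_eq_top_iff, ← Scheme.Hom.preimage_smoothLocus_eq]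
  exact Scheme.Opens.ι_preimage_self _

theorem smooth_bc {X S T : Scheme.{u}} (p : X ⟶ S) (g : T ⟶ S) (U : X.Opens)
    (hU : Smooth (U.ι ≫ p)) :
    Smooth ((pullback.fst p g ⁻¹ᵁ U).ι ≫ pullback.snd p g) := by
  have h1 := isPullback_morphismRestrict (pullback.fst p g) U
  have h2 := IsPullback.of_hasPullback p g
  have h3 := h1.paste_vert h2
  exact MorphismProperty.of_isPullback (P := @Smooth) h3 hU

theorem smoothLocus_congr {X Y : Scheme.{u}} {h h' : X ⟶ Y} (e : h = h')
    [LocallyOfFinitePresentation h] [LocallyOfFinitePresentation h'] :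
    h.smoothLocus = h'.smoothLocus := by
  subst e; rfl

/-- ascent of smooth points along base change -/
theorem mem_smoothLocus_snd {X S T : Scheme.{u}} (p : X ⟶ S) [LocallyOfFinitePresentation p]
    (g : T ⟶ S) (z : ↑(pullback p g))
    (hz : (pullback.fst p g).base z ∈ p.smoothLocus) :
    z ∈ (pullback.snd p g).smoothLocus := by
  obtain ⟨V, hV, hsm⟩ := exists_smooth_nhd_of_mem_smoothLocus p _ hz
  exact mem_smoothLocus_of_nhd (pullback.snd p g) _ (smooth_bc p g V hsm) hV

/-- descent of smooth points along flat base change, for an arbitrary cartesian square -/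
theorem mem_smoothLocus_of_isPullback {X Y Y' P : Scheme.{u}} {f : X ⟶ Y}
    [LocallyOfFinitePresentation f] {g : Y' ⟶ Y} [Flat g] {f' : P ⟶ Y'} {g' : P ⟶ X}
    (sq : IsPullback g' f' f g) [LocallyOfFinitePresentation f'] (z : P)
    (hz : z ∈ f'.smoothLocus) : g'.base z ∈ f.smoothLocus := by
  have e1 : sq.isoPullback.hom ≫ pullback.fst f g = g' := sq.isoPullback_hom_fst
  have e2 : sq.isoPullback.hom ≫ pullback.snd f g = f' := sq.isoPullback_hom_snd
  have h1 : sq.isoPullback.hom ⁻¹ᵁ (pullback.snd f g).smoothLocus =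
      (sq.isoPullback.hom ≫ pullback.snd f g).smoothLocus :=
    Scheme.Hom.preimage_smoothLocus_eq _ _
  have h2 : (sq.isoPullback.hom ≫ pullback.snd f g).smoothLocus = f'.smoothLocus :=
    smoothLocus_congr e2
  have hz' : sq.isoPullback.hom.base z ∈ (pullback.snd f g).smoothLocus := by
    have h3 : z ∈ sq.isoPullback.hom ⁻¹ᵁ (pullback.snd f g).smoothLocus := by
      rw [h1, h2]; exact hz
    exact h3
  obtain ⟨U', hU', hsm'⟩ :=
    exists_smooth_nhd_of_mem_smoothLocus (pullback.snd f g) _ hz'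
  obtain ⟨U, hU, hsm⟩ := Groth.Agent.S2757.result f g (sq.isoPullback.hom.base z)
    (Flat.stalkMap g _) ⟨U', hU', hsm'⟩
  have e3 : (pullback.fst f g).base (sq.isoPullback.hom.base z) = g'.base z := by
    rw [← Scheme.Hom.comp_apply, e1]
  rw [e3] at hU
  exact mem_smoothLocus_of_nhd f U hsm hU

end aux

/-- Let (U, R, s, t, c) be a groupoid scheme over S with U the spectrum of a perfect field, s and t
locally of finite type, and R reduced. Then s and t are smooth. (A groupoid scheme carries U, R, s,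
t, c, e, i over S with the groupoid axioms on T-points; c is defined on the fibre product of s and t
and sends a pair (a, b) with s(a) = t(b) to a composed with b.) -/
theorem result (S : Scheme.{u}) (G : Grpd.GroupoidScheme S) (k : Type u) [Field k] [PerfectField k] (eU : G.U ≅ Spec (CommRingCat.of k)) [LocallyOfFiniteType G.s] [LocallyOfFiniteType G.t] [IsReduced G.R] : Smooth G.s ∧ Smooth G.t := by
  haveI hsub : Subsingleton ↥(Spec (CommRingCat.of k)) :=
    inferInstanceAs (Subsingleton (PrimeSpectrum k))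
  haveI hsubU : Subsingleton ↥G.U := eU.hom.homeomorph.injective.subsingleton
  haveI hnoeth : IsLocallyNoetherian G.U := isLocallyNoetherian_of_isOpenImmersion eU.hom
  haveI hlfp : LocallyOfFinitePresentation G.s := inferInstance
  haveI hflat : Flat G.s := by
    have h1 : Flat (G.s ≫ eU.hom) := inferInstance
    exact (MorphismProperty.cancel_right_of_respectsIso @Flat G.s eU.hom).mp h1
  haveI hlfp' : LocallyOfFinitePresentation (G.s ≫ eU.hom) := inferInstance
  -- the smooth locus of `s` is nonempty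
  have hdense : Dense ((G.s ≫ eU.hom).smoothLocus : Set G.R) :=
    (G.s ≫ eU.hom).dense_smoothLocus_of_perfectField
  haveI hne : Nonempty G.R :=
    ⟨G.e.base (eU.inv.base (⟨⊥, Ideal.bot_prime⟩ : PrimeSpectrum k))⟩
  obtain ⟨w, hw⟩ := hdense.nonempty
  have hw' : w ∈ G.s.smoothLocus := by
    obtain ⟨V, hwV, hsm⟩ := exists_smooth_nhd_of_mem_smoothLocus (G.s ≫ eU.hom) w hw
    have hsm' : Smooth (V.ι ≫ G.s) :=
      (MorphismProperty.cancel_right_of_respectsIso @Smooth (V.ι ≫ G.s) eU.hom).mp
        (by rw [Category.assoc]; exact hsm)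
    exact mem_smoothLocus_of_nhd G.s V hsm' hwV
  -- the isomorphism `(a, b) ↦ (a, a⁻¹ b)`
  have hcomp : (pullback.fst G.t G.t ≫ G.i) ≫ G.s = pullback.snd G.t G.t ≫ G.t :=
    (Category.assoc _ _ _).trans
      ((congrArg (fun x => pullback.fst G.t G.t ≫ x) G.i_s).trans pullback.condition)
  have hφ : pullback.fst G.t G.t ≫ G.s =
      (pullback.lift (pullback.fst G.t G.t ≫ G.i) (pullback.snd G.t G.t) hcomp ≫ G.c) ≫ G.t := by
    rw [G.comp_t, Category.assoc, G.i_t]
  let φ : pullback G.t G.t ⟶ pullback G.s G.t :=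
    pullback.lift (pullback.fst G.t G.t)
      (pullback.lift (pullback.fst G.t G.t ≫ G.i) (pullback.snd G.t G.t) hcomp ≫ G.c) hφ
  obtain ⟨hmain, sq⟩ := Groth.Agent.S7457.result S G
  obtain ⟨-, hφc⟩ := hmain φ (pullback.lift_fst _ _ _) (pullback.lift_snd _ _ _)
  have hφ1 : φ ≫ pullback.fst G.s G.t = pullback.fst G.t G.t := pullback.lift_fst _ _ _
  haveI hlfpsnd : LocallyOfFinitePresentation (pullback.snd G.s G.t) := inferInstance
  have hall : G.s.smoothLocus = ⊤ := by
    rw [eq_top_iff]
    intro r _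
    obtain ⟨z', hz1, hz2⟩ := Scheme.Pullback.exists_preimage_pullback (f := G.t) (g := G.t) w r
      (Subsingleton.elim _ _)
    have hfst : (pullback.fst G.s G.t).base (φ.base z') = w := by
      rw [← Scheme.Hom.comp_apply, hφ1]; exact hz1
    have hc : G.c.base (φ.base z') = r := by
      rw [← Scheme.Hom.comp_apply, hφc]; exact hz2
    have h1 : φ.base z' ∈ (pullback.snd G.s G.t).smoothLocus :=
      mem_smoothLocus_snd G.s G.t _ (by rw [hfst]; exact hw')
    have h2 := mem_smoothLocus_of_isPullback sq (φ.base z') h1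
    rw [hc] at h2
    exact h2
  have hs : Smooth G.s := Scheme.Hom.smoothLocus_eq_top_iff.mp hall
  refine ⟨hs, ?_⟩
  haveI := hs
  rw [← G.i_s]
  infer_instance

end Groth.Agent.S7455
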