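import Groth.Statements.S7456
import Groth.Agent.Lib.Helper38.GrpdLib

set_option autoImplicit false
universe u
open CategoryTheory CategoryTheory.Limits AlgebraicGeometry
open Grpd

namespace Groth.Agent.S7456

/-- Let (U, R, s, t, c) be a groupoid scheme over S. For every subset W of U, the subset t(s^{-1}(W)) is
set-theoretically R-invariant: its preimages under s and t coincide. If moreover s and t are open
maps and quasi-compact, then U is covered by R-invariant quasi-compact open subsets. (The published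
statement also asserts that this set is open when W is open and s, t are open maps; this row omits
that clause.) (A groupoid scheme carries U, R, s, t, c, e, i over S with the groupoid axioms on
T-points; c is defined on the fibre product of s and t and sends a pair (a, b) with s(a) = t(b) to a
composed with b.) -/
theorem result (S : Scheme.{u}) (G : Grpd.GroupoidScheme S) : (∀ W : Set G.U, ⇑G.s ⁻¹' (⇑G.t '' (⇑G.s ⁻¹' W)) = ⇑G.t ⁻¹' (⇑G.t '' (⇑G.s ⁻¹' W))) ∧ (IsOpenMap ⇑G.s → IsOpenMap ⇑G.t → QuasiCompact G.s → QuasiCompact G.t → ∀ u : G.U, ∃ W : G.U.Opens, IsCompact (W : Set G.U) ∧ u ∈ W ∧ G.s ⁻¹ᵁ W = G.t ⁻¹ᵁ W) := by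
  have part1 : ∀ W : Set G.U, ⇑G.s ⁻¹' (⇑G.t '' (⇑G.s ⁻¹' W)) = ⇑G.t ⁻¹' (⇑G.t '' (⇑G.s ⁻¹' W)) := by
    intro W
    ext r₁
    simp only [Set.mem_preimage, Set.mem_image]
    constructor
    · rintro ⟨r₂, hr₂W, hr₂⟩
      obtain ⟨r₃, h3s, h3t⟩ := Groth.Agent.Lib.Helper38.GrpdLib.exists_comp_point G r₁ r₂ hr₂.symm
      exact ⟨r₃, by rw [h3s]; exact hr₂W, h3t⟩
    · rintro ⟨r₂, hr₂W, hr₂⟩
      obtain ⟨r₃, h3s, h3t⟩ := Groth.Agent.Lib.Helper38.GrpdLib.exists_comp_point G (G.i r₁) r₂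
        (by rw [Groth.Agent.Lib.Helper38.GrpdLib.s_i_apply, hr₂])
      refine ⟨r₃, by rw [h3s]; exact hr₂W, ?_⟩
      rw [h3t, Groth.Agent.Lib.Helper38.GrpdLib.t_i_apply]
  refine ⟨part1, ?_⟩
  intro hs ht hqs hqt u
  obtain ⟨_, ⟨W₀, hW₀, rfl⟩, huW₀, -⟩ :=
    G.U.isBasis_affineOpens.exists_subset_of_mem_open (Set.mem_univ u) isOpen_univ
  have hc : IsCompact (⇑G.s ⁻¹' (W₀ : Set G.U)) :=
    hqs.isCompact_preimage _ W₀.2 (IsAffineOpen.isCompact hW₀)
  have ho : IsOpen (⇑G.t '' (⇑G.s ⁻¹' (W₀ : Set G.U))) := ht _ (W₀.2.preimage G.s.continuous)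
  refine ⟨⟨_, ho⟩, hc.image G.t.continuous, ?_, ?_⟩
  · refine ⟨G.e u, ?_, Groth.Agent.Lib.Helper38.GrpdLib.t_e_apply G u⟩
    show G.s (G.e u) ∈ W₀
    rw [Groth.Agent.Lib.Helper38.GrpdLib.s_e_apply]
    exact huW₀
  · ext r
    have := part1 (W₀ : Set G.U)
    exact Set.ext_iff.mp this r


end Groth.Agent.S7456
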