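import Groth.Statements.S7458
-- import your own Groth.Agent.* helpers here

set_option autoImplicit false
universe u
open CategoryTheory MonoidalCategory CartesianMonoidalCategory MonObj GrpObj AlgebraicGeometry
open GrpSch

namespace Groth.Agent.S7458

/-- For a group scheme G over a scheme S, a scheme T flat over S and a morphism ψ : T -> G over S, the
map T x_S G -> G sending (t, g) to the product ψ(t)·g is a flat morphism; taking T = G and ψ the
identity, the multiplication G x_S G -> G is flat whenever G is flat over S. -/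
theorem result (S : Scheme.{u}) (G : Over S) [GrpObj G] : (∀ (T : Over S) (ψ : T ⟶ G), Flat T.hom → Flat (ψ ▷ G ≫ μ[G]).left) ∧ (Flat G.hom → Flat μ[G].left) := by
  have key : ∀ (T : Over S) (ψ : T ⟶ G), Flat T.hom → Flat (ψ ▷ G ≫ μ[G]).left := by
    intro T ψ hT
    let a : T ⊗ G ⟶ G := fst T G ≫ ψ
    let b : T ⊗ G ⟶ G := snd T G
    have hm : ψ ▷ G ≫ μ[G] = a * b := by
      rw [Hom.mul_def]
      congr 1
    let Φ : T ⊗ G ⟶ T ⊗ G := lift (fst T G) (a * b)
    let Ψ : T ⊗ G ⟶ T ⊗ G := lift (fst T G) (a⁻¹ * b)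
    have hΦa : Φ ≫ a = a := by simp [Φ, a]
    have hΦb : Φ ≫ b = a * b := by simp [Φ, b]
    have hΨa : Ψ ≫ a = a := by simp [Ψ, a]
    have hΨb : Ψ ≫ b = a⁻¹ * b := by simp [Ψ, b]
    have h1 : Φ ≫ Ψ = 𝟙 _ := by
      apply CartesianMonoidalCategory.hom_ext
      · simp [Φ, Ψ]
      · have : (Φ ≫ Ψ) ≫ snd T G = Φ ≫ (a⁻¹ * b) := by simp [Ψ]
        rw [this, MonObj.comp_mul, GrpObj.comp_inv, hΦa, hΦb, inv_mul_cancel_left]
        simp [b]
    have h2 : Ψ ≫ Φ = 𝟙 _ := by
      apply CartesianMonoidalCategory.hom_ext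
      · simp [Φ, Ψ]
      · have : (Ψ ≫ Φ) ≫ snd T G = Ψ ≫ (a * b) := by simp [Φ]
        rw [this, MonObj.comp_mul, hΨa, hΨb, mul_inv_cancel_left]
        simp [b]
    have hΦ : IsIso Φ := ⟨Ψ, h1, h2⟩
    have hfac : ψ ▷ G ≫ μ[G] = Φ ≫ snd T G := by
      rw [hm]
      simp [Φ]
    rw [hfac, Over.comp_left]
    have : IsIso Φ.left := (Over.forget S).map_isIso Φ
    have : Flat (snd T G).left := by
      rw [Over.snd_left]
      infer_instance
    infer_instance
  refine ⟨key, fun hG => ?_⟩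
  have := key G (𝟙 G) hG
  simpa using this


end Groth.Agent.S7458
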