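import Groth.Statements.S7459
import Groth.Agent.S18826

set_option autoImplicit false
universe u
open CategoryTheory MonoidalCategory CartesianMonoidalCategory MonObj GrpObj AlgebraicGeometry
open GrpSch

namespace Groth.Agent.S7459

theorem key (Q : MorphismProperty Scheme.{u}) [Q.IsStableUnderBaseChange]
    (S : Scheme.{u}) (G : Over S) [GrpObj G] (T : Over S) (ψ : T ⟶ G) (hT : Q T.hom) :
    Q (ψ ▷ G ≫ μ[G]).left := by
  have : Q.RespectsIso := MorphismProperty.IsStableUnderBaseChange.respectsIso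
  let a : T ⊗ G ⟶ G := fst T G ≫ ψ
  let b : T ⊗ G ⟶ G := snd T G
  have hm : ψ ▷ G ≫ μ[G] = a * b := by
    rw [Hom.mul_def]
    congr 1
  let Φ : T ⊗ G ⟶ T ⊗ G := lift (fst T G) (a * b)
  let Ψ : T ⊗ G ⟶ T ⊗ G := lift (fst T G) (a⁻¹ * b)
  have hΦa : Φ ≫ a = a := by simp [Φ, a]
  have hΦb : Φ ≫ b = a * b := by simp [Φ, b]
  have hΨa : Ψ ≫ a = a := by simp [Ψ, a]
  have hΨb : Ψ ≫ b = a⁻¹ * b := by simp [Ψ, b]
  have h1 : Φ ≫ Ψ = 𝟙 _ := by
    apply CartesianMonoidalCategory.hom_ext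
    · simp [Φ, Ψ]
    · have : (Φ ≫ Ψ) ≫ snd T G = Φ ≫ (a⁻¹ * b) := by simp [Ψ]
      rw [this, MonObj.comp_mul, GrpObj.comp_inv, hΦa, hΦb, inv_mul_cancel_left]
      simp [b]
  have h2 : Ψ ≫ Φ = 𝟙 _ := by
    apply CartesianMonoidalCategory.hom_ext
    · simp [Φ, Ψ]
    · have : (Ψ ≫ Φ) ≫ snd T G = Ψ ≫ (a * b) := by simp [Φ]
      rw [this, MonObj.comp_mul, hΨa, hΨb, mul_inv_cancel_left]
      simp [b]
  have hΦ : IsIso Φ := ⟨Ψ, h1, h2⟩
  have hfac : ψ ▷ G ≫ μ[G] = Φ ≫ snd T G := by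
    rw [hm]
    simp [Φ]
  rw [hfac, Over.comp_left]
  have : IsIso Φ.left := (Over.forget S).map_isIso Φ
  rw [Q.cancel_left_of_respectsIso, Over.snd_left]
  exact Q.pullback_snd _ _ hT


/-- Let G be a group scheme over a field k, W an open subscheme of G and f : T -> G a morphism of
schemes (T becomes a k-scheme through f). Then the image of the composition T x_k W -> G x_k G -> G,
the second map being the multiplication, is open. -/
theorem result (K : Type u) [Field K] (G : Over (Spec (CommRingCat.of K))) [GrpObj G] (W : G.left.Opens) (T : Scheme.{u}) (f : T ⟶ G.left) : IsOpen (Set.range ⇑(((Over.homMk f rfl : Over.mk (f ≫ G.hom) ⟶ G) ⊗ₘ (Over.homMk W.ι rfl : Over.mk (W.ι ≫ G.hom) ⟶ G)) ≫ μ[G]).left) := by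
  have : Subsingleton (Spec (CommRingCat.of K)) := inferInstanceAs (Subsingleton (PrimeSpectrum K))
  set ft : Over.mk (f ≫ G.hom) ⟶ G := Over.homMk f rfl with hft
  set jw : Over.mk (W.ι ≫ G.hom) ⟶ G := Over.homMk W.ι rfl with hjw
  have hopen : UniversallyOpen (ft ▷ G ≫ μ[G]).left :=
    key @UniversallyOpen _ G _ ft (inferInstanceAs (UniversallyOpen (f ≫ G.hom)))
  have hfac : (ft ⊗ₘ jw) ≫ μ[G] = (Over.mk (f ≫ G.hom) ◁ jw) ≫ (ft ▷ G ≫ μ[G]) := by
    rw [tensorHom_def', Category.assoc]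
  rw [hfac, Over.comp_left, Scheme.Hom.comp_base, TopCat.coe_comp, Set.range_comp]
  apply (ft ▷ G ≫ μ[G]).left.isOpenMap
  have sq := ((Groth.Agent.S18826.isPullback_snd_whiskerLeft (Over.mk (f ≫ G.hom)) jw).map
      (Over.forget _)).flip
  have : IsOpenImmersion jw.left := inferInstanceAs (IsOpenImmersion W.ι)
  have : IsOpenImmersion (Over.mk (f ≫ G.hom) ◁ jw).left :=
    MorphismProperty.of_isPullback (P := @IsOpenImmersion) sq.flip
      (inferInstanceAs (IsOpenImmersion W.ι))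
  exact (Over.mk (f ≫ G.hom) ◁ jw).left.isOpenEmbedding.isOpen_range

end Groth.Agent.S7459
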