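import Groth.Statements.S7460
-- import your own Groth.Agent.* helpers here

set_option autoImplicit false
universe u
open CategoryTheory CategoryTheory.Limits AlgebraicGeometry
open GrpSch

namespace Groth.Agent.S7460


open TensorProduct in
theorem alg_key (k : Type u) [Field k] (A : Type u) [CommRing A] [Algebra k A]
    (B : Type u) [CommRing B] [Algebra k B] {n : ℕ} (ι0 : (Fin n → k) →ₐ[k] A)
    (S : Finset (A × B)) (v : A → (Fin n → k))
    (hv : ∀ i ∈ S, ι0 (v i.1) = i.1) (q : Ideal (A ⊗[k] B)) [q.IsPrime]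
    (hg : (∑ i ∈ S, i.1 ⊗ₜ[k] i.2) ∉ q) :
    ∃ (a : A) (b : B), a ⊗ₜ[k] (1:B) ∉ q ∧ (1:A) ⊗ₜ[k] b ∉ q ∧
      ∀ q' : Ideal (A ⊗[k] B), q'.IsPrime → a ⊗ₜ[k] (1:B) ∉ q' → (1:A) ⊗ₜ[k] b ∉ q' →
        (∑ i ∈ S, i.1 ⊗ₜ[k] i.2) ∉ q' := by
  classical
  let ε : Fin n → A := fun j => ι0 (Pi.single j 1)
  let h : Fin n → B := fun j => ∑ i ∈ S, (v i.1 j) • i.2
  have hεmul : ∀ j l, ε j * ε l = if j = l then ε j else 0 := by
    intro j l
    show ι0 (Pi.single j 1) * ι0 (Pi.single l 1) = if j = l then ι0 (Pi.single j 1) else 0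
    rw [← map_mul]
    split_ifs with hjl
    · subst hjl
      congr 1
      ext x
      simp [Pi.single_apply]
    · have h0 : (Pi.single j (1:k) * Pi.single l (1:k) : Fin n → k) = 0 := by
        ext x
        simp only [Pi.mul_apply, Pi.single_apply, Pi.zero_apply]
        split_ifs with h1 h2
        · exact absurd (h1.symm.trans h2) hjl
        · simp
        · simp
        · simp
      rw [h0, map_zero]
  have hdec : ∀ w : Fin n → k, ι0 w = ∑ j, w j • ε j := by
    intro w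
    have hw : w = ∑ j, w j • (Pi.single j (1:k) : Fin n → k) := by
      ext x
      simp [Finset.sum_apply, Pi.single_apply]
    conv_lhs => rw [hw]
    simp only [map_sum, map_smul]
    rfl
  have hsum : (∑ i ∈ S, i.1 ⊗ₜ[k] i.2) = ∑ j, ε j ⊗ₜ[k] h j := by
    calc (∑ i ∈ S, i.1 ⊗ₜ[k] i.2) = ∑ i ∈ S, ∑ j, ε j ⊗ₜ[k] ((v i.1 j) • i.2) := by
          refine Finset.sum_congr rfl fun i hi => ?_
          conv_lhs => rw [← hv i hi, hdec, TensorProduct.sum_tmul]
          refine Finset.sum_congr rfl fun j _ => ?_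
          rw [TensorProduct.smul_tmul]
      _ = ∑ j, ε j ⊗ₜ[k] h j := by
          rw [Finset.sum_comm]
          refine Finset.sum_congr rfl fun j _ => ?_
          show _ = ε j ⊗ₜ[k] (∑ i ∈ S, (v i.1 j) • i.2)
          rw [TensorProduct.tmul_sum]
  rw [hsum] at hg ⊢
  have hex : ∃ j, ε j ⊗ₜ[k] h j ∉ q := by
    by_contra hcon
    simp only [not_exists, not_not] at hcon
    exact hg (Ideal.sum_mem _ fun j _ => hcon j)
  obtain ⟨j, hj⟩ := hex
  have hfac : ε j ⊗ₜ[k] h j = (ε j ⊗ₜ[k] (1:B)) * ((1:A) ⊗ₜ[k] h j) := by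
    rw [Algebra.TensorProduct.tmul_mul_tmul, mul_one, one_mul]
  refine ⟨ε j, h j, fun hc => hj ?_, fun hc => hj ?_, ?_⟩
  · rw [hfac]; exact Ideal.mul_mem_right _ _ hc
  · rw [hfac]; exact Ideal.mul_mem_left _ _ hc
  intro q' hq' h1 h2 hc
  have hmul : (∑ l, ε l ⊗ₜ[k] h l) * (ε j ⊗ₜ[k] (1:B)) =
      (ε j ⊗ₜ[k] (1:B)) * ((1:A) ⊗ₜ[k] h j) := by
    rw [Finset.sum_mul, ← hfac, Finset.sum_eq_single j]
    · rw [Algebra.TensorProduct.tmul_mul_tmul, hεmul, if_pos rfl, mul_one]
    · intro l _ hlj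
      rw [Algebra.TensorProduct.tmul_mul_tmul, hεmul, if_neg hlj, TensorProduct.zero_tmul]
    · intro hj'; exact absurd (Finset.mem_univ j) hj'
  have hmem := Ideal.mul_mem_right (ε j ⊗ₜ[k] (1:B)) q' hc
  rw [hmul] at hmem
  rcases hq'.mem_or_mem hmem with h' | h'
  · exact h1 h'
  · exact h2 h'

open TensorProduct in
theorem alg_key' (k : Type u) [Field k] (A : Type u) [CommRing A] [Algebra k A]
    (hA : ∀ s : Finset A, ∃ (B : Subalgebra k A) (n : ℕ), (↑s : Set A) ⊆ (B : Set A) ∧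
      Nonempty (B ≃ₐ[k] (Fin n → k)))
    (B : Type u) [CommRing B] [Algebra k B]
    (g : A ⊗[k] B) (q : Ideal (A ⊗[k] B)) [q.IsPrime] (hg : g ∉ q) :
    ∃ (a : A) (b : B), a ⊗ₜ[k] (1:B) ∉ q ∧ (1:A) ⊗ₜ[k] b ∉ q ∧
      ∀ q' : Ideal (A ⊗[k] B), q'.IsPrime → a ⊗ₜ[k] (1:B) ∉ q' → (1:A) ⊗ₜ[k] b ∉ q' →
        g ∉ q' := by
  classical
  obtain ⟨S, rfl⟩ := TensorProduct.exists_finset g
  obtain ⟨A0, n, hsub, ⟨e⟩⟩ := hA (S.image Prod.fst)
  let ι0 : (Fin n → k) →ₐ[k] A := A0.val.comp e.symm.toAlgHom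
  let v : A → (Fin n → k) := fun a => if h : a ∈ A0 then e ⟨a, h⟩ else 0
  refine alg_key k A B ι0 S v ?_ q hg
  intro i hi
  have hmem : i.1 ∈ A0 := hsub (Finset.mem_coe.2 (Finset.mem_image_of_mem _ hi))
  show A0.val (e.symm (if h : i.1 ∈ A0 then e ⟨i.1, h⟩ else 0)) = i.1
  rw [dif_pos hmem, AlgEquiv.symm_apply_apply]
  rfl

open TensorProduct in
theorem key_affine0 (k : Type u) [Field k] (A : Type u) [CommRing A] [Algebra k A]
    (hA : ∀ s : Finset A, ∃ (B : Subalgebra k A) (n : ℕ), (↑s : Set A) ⊆ (B : Set A) ∧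
      Nonempty (B ≃ₐ[k] (Fin n → k)))
    (B : Type u) [CommRing B] [Algebra k B]
    (p : ↑(pullback (Spec.map (CommRingCat.ofHom (algebraMap k A)))
      (Spec.map (CommRingCat.ofHom (algebraMap k B)))))
    (W : Set ↑(pullback (Spec.map (CommRingCat.ofHom (algebraMap k A)))
      (Spec.map (CommRingCat.ofHom (algebraMap k B)))))
    (hW : IsOpen W) (hp : p ∈ W) :
    ∃ (V : Set ↑(Spec (CommRingCat.of A))) (W' : Set ↑(Spec (CommRingCat.of B))),
      IsOpen V ∧ IsOpen W' ∧
      pullback.fst (Spec.map (CommRingCat.ofHom (algebraMap k A)))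
        (Spec.map (CommRingCat.ofHom (algebraMap k B))) p ∈ V ∧
      pullback.snd (Spec.map (CommRingCat.ofHom (algebraMap k A)))
        (Spec.map (CommRingCat.ofHom (algebraMap k B))) p ∈ W' ∧
      ∀ p', pullback.fst (Spec.map (CommRingCat.ofHom (algebraMap k A)))
          (Spec.map (CommRingCat.ofHom (algebraMap k B))) p' ∈ V →
        pullback.snd (Spec.map (CommRingCat.ofHom (algebraMap k A)))
          (Spec.map (CommRingCat.ofHom (algebraMap k B))) p' ∈ W' → p' ∈ W := by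
  let e := pullbackSpecIso k A B
  have he1 : e.inv ≫ pullback.fst _ _ =
      Spec.map (CommRingCat.ofHom Algebra.TensorProduct.includeLeftRingHom) :=
    pullbackSpecIso_inv_fst k A B
  have he2 : e.inv ≫ pullback.snd _ _ =
      Spec.map (CommRingCat.ofHom (R := B) (S := A ⊗[k] B)
        (Algebra.TensorProduct.includeRight).toRingHom) :=
    pullbackSpecIso_inv_snd k A B
  let DA : A → Set ↑(Spec (CommRingCat.of A)) :=
    fun a => {t | a ∉ (show PrimeSpectrum A from t).asIdeal}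
  let DB : B → Set ↑(Spec (CommRingCat.of B)) :=
    fun b => {t | b ∉ (show PrimeSpectrum B from t).asIdeal}
  have hDA : ∀ a, IsOpen (DA a) := fun a => (PrimeSpectrum.basicOpen a).isOpen
  have hDB : ∀ b, IsOpen (DB b) := fun b => (PrimeSpectrum.basicOpen b).isOpen
  have hfst : ∀ (q : ↑(Spec (CommRingCat.of (A ⊗[k] B)))) (a : A),
      (pullback.fst (Spec.map (CommRingCat.ofHom (algebraMap k A)))
        (Spec.map (CommRingCat.ofHom (algebraMap k B))) (e.inv q) ∈ DA a) ↔
        a ⊗ₜ[k] (1:B) ∉ (show PrimeSpectrum (A ⊗[k] B) from q).asIdeal := by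
    intro q a
    rw [← Scheme.Hom.comp_apply, he1]
    rfl
  have hsnd : ∀ (q : ↑(Spec (CommRingCat.of (A ⊗[k] B)))) (b : B),
      (pullback.snd (Spec.map (CommRingCat.ofHom (algebraMap k A)))
        (Spec.map (CommRingCat.ofHom (algebraMap k B))) (e.inv q) ∈ DB b) ↔
        (1:A) ⊗ₜ[k] b ∉ (show PrimeSpectrum (A ⊗[k] B) from q).asIdeal := by
    intro q b
    rw [← Scheme.Hom.comp_apply, he2]
    rfl
  have hinv : ∀ p' : ↑(pullback (Spec.map (CommRingCat.ofHom (algebraMap k A)))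
      (Spec.map (CommRingCat.ofHom (algebraMap k B)))), e.inv (e.hom p') = p' := by
    intro p'
    rw [← Scheme.Hom.comp_apply, e.hom_inv_id]
    rfl
  let q : ↑(Spec (CommRingCat.of (A ⊗[k] B))) := e.hom p
  have hq : e.inv q = p := hinv p
  have hW1 : IsOpen (e.inv ⁻¹' W) := hW.preimage e.inv.continuous
  obtain ⟨_, ⟨_, ⟨g, rfl⟩, rfl⟩, hqg, hgW⟩ :=
    PrimeSpectrum.isBasis_basic_opens.exists_subset_of_mem_open
      (a := (show PrimeSpectrum (A ⊗[k] B) from q))
      (u := (show Set (PrimeSpectrum (A ⊗[k] B)) from e.inv ⁻¹' W))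
      (by show e.inv q ∈ W; rw [hq]; exact hp) hW1
  obtain ⟨a, b, ha, hb, hab⟩ := alg_key' k A hA B g
    (show PrimeSpectrum (A ⊗[k] B) from q).asIdeal hqg
  refine ⟨DA a, DB b, hDA a, hDB b, ?_, ?_, ?_⟩
  · rw [← hq]; exact (hfst q a).2 ha
  · rw [← hq]; exact (hsnd q b).2 hb
  · intro p' h1 h2
    rw [← hinv p'] at h1 h2 ⊢
    exact hgW (hab _ (PrimeSpectrum.isPrime _) ((hfst _ a).1 h1) ((hsnd _ b).1 h2))

theorem key_affine (k : Type u) [Field k] (A : Type u) [CommRing A] [Algebra k A]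
    (hA : ∀ s : Finset A, ∃ (B : Subalgebra k A) (n : ℕ), (↑s : Set A) ⊆ (B : Set A) ∧
      Nonempty (B ≃ₐ[k] (Fin n → k)))
    (B : CommRingCat.{u}) (g : Spec B ⟶ Spec (CommRingCat.of k))
    (p : ↑(pullback (Spec.map (CommRingCat.ofHom (algebraMap k A))) g))
    (W : Set ↑(pullback (Spec.map (CommRingCat.ofHom (algebraMap k A))) g))
    (hW : IsOpen W) (hp : p ∈ W) :
    ∃ (V : Set ↑(Spec (CommRingCat.of A))) (W' : Set ↑(Spec B)),
      IsOpen V ∧ IsOpen W' ∧
      pullback.fst (Spec.map (CommRingCat.ofHom (algebraMap k A))) g p ∈ V ∧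
      pullback.snd (Spec.map (CommRingCat.ofHom (algebraMap k A))) g p ∈ W' ∧
      ∀ p', pullback.fst (Spec.map (CommRingCat.ofHom (algebraMap k A))) g p' ∈ V →
        pullback.snd (Spec.map (CommRingCat.ofHom (algebraMap k A))) g p' ∈ W' → p' ∈ W := by
  obtain ⟨ψ, rfl⟩ : ∃ ψ : CommRingCat.of k ⟶ B, g = Spec.map ψ :=
    ⟨Spec.preimage g, (Spec.map_preimage g).symm⟩
  letI : Algebra k B := ψ.hom.toAlgebra
  exact key_affine0 k A hA B p W hW hp

/-- The structure map `Spec A ⟶ Spec k`. -/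
noncomputable abbrev tkMap (k : Type u) [Field k] (A : Type u) [CommRing A] [Algebra k A] :
    Spec (CommRingCat.of A) ⟶ Spec (CommRingCat.of k) :=
  Spec.map (CommRingCat.ofHom (algebraMap k A))

theorem key_general (k : Type u) [Field k] (A : Type u) [CommRing A] [Algebra k A]
    (hA : ∀ s : Finset A, ∃ (B : Subalgebra k A) (n : ℕ), (↑s : Set A) ⊆ (B : Set A) ∧
      Nonempty (B ≃ₐ[k] (Fin n → k)))
    (X : Scheme.{u}) (f : X ⟶ Spec (CommRingCat.of k))
    (p : ↑(pullback (Spec.map (CommRingCat.ofHom (algebraMap k A))) f))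
    (W : Set ↑(pullback (Spec.map (CommRingCat.ofHom (algebraMap k A))) f))
    (hW : IsOpen W) (hp : p ∈ W) :
    ∃ (V : Set ↑(Spec (CommRingCat.of A))) (W' : Set ↑X),
      IsOpen V ∧ IsOpen W' ∧
      pullback.fst (Spec.map (CommRingCat.ofHom (algebraMap k A))) f p ∈ V ∧
      pullback.snd (Spec.map (CommRingCat.ofHom (algebraMap k A))) f p ∈ W' ∧
      ∀ p', pullback.fst (Spec.map (CommRingCat.ofHom (algebraMap k A))) f p' ∈ V →
        pullback.snd (Spec.map (CommRingCat.ofHom (algebraMap k A))) f p' ∈ W' → p' ∈ W := by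
  obtain ⟨U, hU, hxU, -⟩ := exists_isAffineOpen_mem_and_subset
    (x := pullback.snd (tkMap k A) f p) (U := ⊤) trivial
  let ι : Spec Γ(X, U) ⟶ X := hU.fromSpec
  obtain ⟨u, hu⟩ : ∃ u, ι u = pullback.snd (tkMap k A) f p := by
    have : pullback.snd (tkMap k A) f p ∈ Set.range hU.fromSpec := by
      rw [hU.range_fromSpec]; exact hxU
    exact this
  let j : pullback (tkMap k A) (ι ≫ f) ⟶ pullback (tkMap k A) f :=
    pullback.lift (pullback.fst _ _) (pullback.snd _ _ ≫ ι)
      (by rw [pullback.condition, Category.assoc])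
  have hj1 : j ≫ pullback.fst (tkMap k A) f = pullback.fst _ _ := pullback.lift_fst _ _ _
  have hj2 : j ≫ pullback.snd (tkMap k A) f = pullback.snd _ _ ≫ ι := pullback.lift_snd _ _ _
  have hlift : ∀ (p' : ↑(pullback (tkMap k A) f)) (u' : ↑(Spec Γ(X, U))), ι u' = pullback.snd (tkMap k A) f p' →
      ∃ pi : ↑(pullback (tkMap k A) (ι ≫ f)), j pi = p' ∧ pullback.snd (tkMap k A) (ι ≫ f) pi = u' := by
    intro p' u' hu'
    obtain ⟨z, hz1, hz2⟩ := Scheme.Pullback.exists_preimage_pullback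
      (f := pullback.snd (tkMap k A) f) (g := ι) p' u' hu'.symm
    let l : pullback (pullback.snd (tkMap k A) f) ι ⟶ pullback (tkMap k A) (ι ≫ f) :=
      pullback.lift (pullback.fst _ _ ≫ pullback.fst _ _) (pullback.snd _ _)
        (by rw [Category.assoc, pullback.condition, ← Category.assoc, pullback.condition,
          Category.assoc])
    have hl1 : l ≫ j = pullback.fst _ _ := by
      apply pullback.hom_ext
      · rw [Category.assoc, hj1, pullback.lift_fst]
      · rw [Category.assoc, hj2, ← Category.assoc, pullback.lift_snd, pullback.condition]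
    have hl2 : l ≫ pullback.snd (tkMap k A) (ι ≫ f) = pullback.snd _ _ := pullback.lift_snd _ _ _
    refine ⟨l z, ?_, ?_⟩
    · rw [← Scheme.Hom.comp_apply, hl1]; exact hz1
    · rw [← Scheme.Hom.comp_apply, hl2]; exact hz2
  obtain ⟨pi, hpi1, hpi2⟩ := hlift p u hu
  obtain ⟨V, W'i, hV, hW'i, hpV, hpW'i, hsub⟩ := key_affine k A hA Γ(X, U) (ι ≫ f) pi (j ⁻¹' W)
    (hW.preimage j.continuous) (by rw [Set.mem_preimage, hpi1]; exact hp)
  refine ⟨V, ι '' W'i, hV, ι.isOpenEmbedding.isOpenMap _ hW'i, ?_, ?_, ?_⟩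
  · rw [← hpi1, ← Scheme.Hom.comp_apply, hj1]; exact hpV
  · exact ⟨pullback.snd (tkMap k A) (ι ≫ f) pi, hpW'i, by rw [hpi2]; exact hu⟩
  · rintro p' hp'V ⟨u', hu'W, hu'⟩
    obtain ⟨pi', hpi'1, hpi'2⟩ := hlift p' u' hu'
    have hmem : pi' ∈ j ⁻¹' W := by
      refine hsub pi' ?_ (by rw [hpi'2]; exact hu'W)
      rw [← hj1, Scheme.Hom.comp_apply, hpi'1]; exact hp'V
    rw [← hpi'1]; exact hmem

/-- Let k be a field and A a k-algebra such that every finite subset of A is contained in a k-subalgebra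
isomorphic to a finite product of copies of k (that is, A is a directed colimit of finite products
of copies of k). Let X be a scheme over k. Then the map from the underlying space of Spec A x_k X to
the product of the underlying spaces of Spec A and X, given by the two projections, is a
homeomorphism. -/
theorem result (k : Type u) [Field k] (A : Type u) [CommRing A] [Algebra k A] (hA : ∀ s : Finset A, ∃ (B : Subalgebra k A) (n : ℕ), (↑s : Set A) ⊆ (B : Set A) ∧ Nonempty (B ≃ₐ[k] (Fin n → k))) (X : Scheme.{u}) (f : X ⟶ Spec (CommRingCat.of k)) : IsHomeomorph (fun p : ↑(pullback (Spec.map (CommRingCat.ofHom (algebraMap k A))) f) => (pullback.fst (Spec.map (CommRingCat.ofHom (algebraMap k A))) f p, pullback.snd (Spec.map (CommRingCat.ofHom (algebraMap k A))) f p)) := by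
  have hcont : Continuous (fun p : ↑(pullback (Spec.map (CommRingCat.ofHom (algebraMap k A))) f) =>
      (pullback.fst (Spec.map (CommRingCat.ofHom (algebraMap k A))) f p,
        pullback.snd (Spec.map (CommRingCat.ofHom (algebraMap k A))) f p)) :=
    (pullback.fst _ f).continuous.prodMk (pullback.snd _ f).continuous
  have hsurj : Function.Surjective
      (fun p : ↑(pullback (Spec.map (CommRingCat.ofHom (algebraMap k A))) f) =>
      (pullback.fst (Spec.map (CommRingCat.ofHom (algebraMap k A))) f p,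
        pullback.snd (Spec.map (CommRingCat.ofHom (algebraMap k A))) f p)) := by
    rintro ⟨t, x⟩
    obtain ⟨z, hz1, hz2⟩ := Scheme.Pullback.exists_preimage_pullback
      (f := Spec.map (CommRingCat.ofHom (algebraMap k A))) (g := f) t x
      (@Subsingleton.elim (PrimeSpectrum k) _ _ _)
    exact ⟨z, Prod.ext hz1 hz2⟩
  have hind : Topology.IsInducing
      (fun p : ↑(pullback (Spec.map (CommRingCat.ofHom (algebraMap k A))) f) =>
      (pullback.fst (Spec.map (CommRingCat.ofHom (algebraMap k A))) f p,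
        pullback.snd (Spec.map (CommRingCat.ofHom (algebraMap k A))) f p)) := by
    rw [Topology.isInducing_iff_nhds]
    intro p
    refine le_antisymm (hcont.tendsto p).le_comap ?_
    intro W hW
    obtain ⟨W0, hW0sub, hW0open, hpW0⟩ := mem_nhds_iff.1 hW
    obtain ⟨V, W', hV, hW', hpV, hpW', hsub⟩ := key_general k A hA X f p W0 hW0open hpW0
    rw [Filter.mem_comap]
    exact ⟨V ×ˢ W', (hV.prod hW').mem_nhds ⟨hpV, hpW'⟩,
      fun p' hp' => hW0sub (hsub p' hp'.1 hp'.2)⟩
  rw [isHomeomorph_iff_isEmbedding_surjective]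
  exact ⟨⟨hind, hind.injective⟩, hsurj⟩

end Groth.Agent.S7460
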