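import Groth.Statements.S7462
import Groth.Agent.Lib.Helper38.GrpdClosure
import Mathlib.AlgebraicGeometry.Morphisms.UniversallyOpen
open Groth.Agent.Lib.Helper38.GrpdLib Groth.Agent.Lib.Helper38.GrpdHom Groth.Agent.Lib.Helper38.GrpdClosure

set_option autoImplicit false
universe u
open CategoryTheory CategoryTheory.Limits AlgebraicGeometry
open Grpd

namespace Groth.Agent.S7462

/-- Consider two groupoid schemes (U, R_1, s_1, t_1, c_1) and (U, R_2, s_2, t_2, c_2) over S, where U is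
the spectrum of a field, together with a map a : R_1 -> R_2 respecting source, target and
composition (in the Lean: a morphism of groupoid schemes whose object-scheme component is an
isomorphism). Write Z for the closure in R_2 of the image of a. Then, as a map of sets, c_2 sends Z
x_(s_2,U,t_2) Z into Z: any point of R_2 x_(s_2,U,t_2) R_2 with both projections in Z has its
c_2-image in Z. (Here a groupoid scheme over S consists of U, R, s, t, c, e, i satisfying the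
groupoid axioms on T-points; c lives on the fibre product of s and t and takes a pair (a, b) with
s(a) = t(b) to the composite of a with b.) -/
theorem result (S : Scheme.{u}) (G₁ G₂ : Grpd.GroupoidScheme S) (f : Grpd.GroupoidScheme.Hom G₁ G₂) [IsIso f.fU] (k : Type u) [Field k] (eU : G₂.U ≅ Spec (CommRingCat.of k)) (p : ↑(pullback G₂.s G₂.t)) (h₁ : pullback.fst G₂.s G₂.t p ∈ closure (Set.range ⇑f.fR)) (h₂ : pullback.snd G₂.s G₂.t p ∈ closure (Set.range ⇑f.fR)) : G₂.c p ∈ closure (Set.range ⇑f.fR) := by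
  classical
  obtain ⟨p₂, hp₂⟩ : ∃ q, q = pullback.snd G₂.s G₂.t p := ⟨_, rfl⟩
  rw [← hp₂] at h₂
  obtain ⟨ζ, hζ⟩ : ∃ q : Spec (G₂.R.residueField p₂) ⟶ G₂.R, q = G₂.R.fromSpecResidueField p₂ :=
    ⟨_, rfl⟩
  have hζpt : ∀ τ : Spec (G₂.R.residueField p₂), ζ τ = p₂ := by
    intro τ; rw [hζ]; exact Scheme.fromSpecResidueField_apply _ _
  obtain ⟨π, hπ⟩ : ∃ q : pullback G₂.s (ζ ≫ G₂.t) ⟶ G₂.R, q = pullback.fst G₂.s (ζ ≫ G₂.t) :=
    ⟨_, rfl⟩
  obtain ⟨σ, hσ⟩ : ∃ q : pullback G₂.s (ζ ≫ G₂.t) ⟶ G₂.R,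
    q = pullback.snd G₂.s (ζ ≫ G₂.t) ≫ ζ := ⟨_, rfl⟩
  have hπσ : π ≫ G₂.s = σ ≫ G₂.t := by
    rw [hπ, hσ, Category.assoc]; exact pullback.condition
  have hopen : IsOpenMap ⇑π := by
    have h1 : UniversallyOpen ((ζ ≫ G₂.t) ≫ eU.hom) := inferInstance
    have h2 : UniversallyOpen (ζ ≫ G₂.t) :=
      (MorphismProperty.cancel_right_of_respectsIso @UniversallyOpen (ζ ≫ G₂.t) eU.hom).mp h1
    have h3 : UniversallyOpen (pullback.fst G₂.s (ζ ≫ G₂.t)) :=
      MorphismProperty.pullback_fst (P := @UniversallyOpen) _ _ h2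
    rw [hπ]
    exact (pullback.fst G₂.s (ζ ≫ G₂.t)).isOpenMap
  obtain ⟨Φ, hΦ⟩ : ∃ q, q = mul π σ hπσ := ⟨_, rfl⟩
  have hW : π ⁻¹' (Set.range ⇑f.fR) ⊆ Φ ⁻¹' closure (Set.range ⇑f.fR) := by
    rintro x' ⟨r₁, hr₁⟩
    obtain ⟨t₁, ht₁, ht₁'⟩ := Scheme.Pullback.exists_preimage_pullback (f := π) (g := f.fR) x' r₁
      hr₁.symm
    have h : (pullback.snd π f.fR ≫ f.fR) ≫ G₂.s = (pullback.fst π f.fR ≫ σ) ≫ G₂.t := by
      rw [← pullback.condition, Category.assoc, hπσ, Category.assoc]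
    have hz : (pullback.fst π f.fR ≫ σ) t₁ ∈ closure (Set.range ⇑f.fR) := by
      rw [hσ, ← Category.assoc, Scheme.Hom.comp_apply, hζpt]
      exact h₂
    have key := mul_mem_closure f k eU t₁ (pullback.snd π f.fR) (pullback.fst π f.fR ≫ σ) h hz
    have e : mul (pullback.snd π f.fR ≫ f.fR) (pullback.fst π f.fR ≫ σ) h =
        pullback.fst π f.fR ≫ Φ := by
      rw [hΦ, comp_mul]; exact mul_congr pullback.condition.symm rfl _
    rw [e, Scheme.Hom.comp_apply, ht₁] at key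
    exact key
  have hcl : IsClosed (Φ ⁻¹' closure (Set.range ⇑f.fR)) :=
    isClosed_closure.preimage Φ.continuous
  obtain ⟨τ₀⟩ : Nonempty (Spec (G₂.R.residueField p₂)) := inferInstance
  obtain ⟨q, hq1, hq2⟩ := Scheme.Pullback.exists_preimage_pullback
    (f := pullback.snd G₂.s G₂.t) (g := ζ) p τ₀ (hp₂.symm.trans (hζpt τ₀).symm)
  have hcond : (pullback.fst (pullback.snd G₂.s G₂.t) ζ ≫ pullback.fst G₂.s G₂.t) ≫ G₂.s =
      pullback.snd (pullback.snd G₂.s G₂.t) ζ ≫ ζ ≫ G₂.t := by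
    rw [Category.assoc, pullback.condition, ← Category.assoc, pullback.condition, Category.assoc]
  obtain ⟨δ, hδ⟩ : ∃ d : pullback (pullback.snd G₂.s G₂.t) ζ ⟶ pullback G₂.s (ζ ≫ G₂.t),
    d = pullback.lift (pullback.fst (pullback.snd G₂.s G₂.t) ζ ≫ pullback.fst G₂.s G₂.t)
      (pullback.snd (pullback.snd G₂.s G₂.t) ζ) hcond := ⟨_, rfl⟩
  have hδπ : δ ≫ π = pullback.fst (pullback.snd G₂.s G₂.t) ζ ≫ pullback.fst G₂.s G₂.t := by
    rw [hδ, hπ, pullback.lift_fst]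
  have hδσ : δ ≫ σ = pullback.fst (pullback.snd G₂.s G₂.t) ζ ≫ pullback.snd G₂.s G₂.t := by
    rw [hδ, hσ, ← Category.assoc, pullback.lift_snd, pullback.condition]
  have hδΦ : δ ≫ Φ = pullback.fst (pullback.snd G₂.s G₂.t) ζ ≫ G₂.c := by
    rw [hΦ, comp_mul, comp_c]
    exact mul_congr hδπ hδσ _
  have hmem : δ q ∈ π ⁻¹' closure (Set.range ⇑f.fR) := by
    show π (δ q) ∈ closure (Set.range ⇑f.fR)
    rw [← Scheme.Hom.comp_apply, hδπ, Scheme.Hom.comp_apply, hq1]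
    exact h₁
  have h3 := hcl.closure_subset_iff.mpr hW (hopen.preimage_closure_subset_closure_preimage hmem)
  have h4 : Φ (δ q) ∈ closure (Set.range ⇑f.fR) := h3
  rw [← Scheme.Hom.comp_apply, hδΦ, Scheme.Hom.comp_apply, hq1] at h4
  exact h4


end Groth.Agent.S7462
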