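import Groth.Statements.S7464
import Groth.Agent.Lib.Helper38.GrpdLib

set_option autoImplicit false
universe u
open CategoryTheory CategoryTheory.Limits AlgebraicGeometry
open Grpd

namespace Groth.Agent.S7464

/-- Let (U, R, s, t, c) be a groupoid scheme over S with s and t finite, and let u, u' be distinct
points of U in the same orbit, say u = s(r) and u' = t(r). Then u' does not lie in the closure of u.
(The published statement calls u, u' points of R; this row takes them to be points of U, as the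
orbit condition and the proof require.) (A groupoid scheme carries U, R, s, t, c, e, i over S with
the groupoid axioms on T-points; c is defined on the fibre product of s and t and sends a pair (a,
b) with s(a) = t(b) to a composed with b.) -/
theorem result (S : Scheme.{u}) (G : Grpd.GroupoidScheme S) [IsFinite G.s] [IsFinite G.t] (r : G.R) (hne : G.s r ≠ G.t r) : ¬ (G.s r ⤳ G.t r) := by
  intro hsp
  let O : Set G.U := ⇑G.t '' (⇑G.s ⁻¹' {G.s r})
  have hOfin : O.Finite := (G.s.finite_preimage_singleton _).image _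
  let P : G.U → Prop := fun x => ∃ r' : G.R, G.s r' = x ∧ G.t r' ≠ x ∧ x ⤳ G.t r'
  let S' : Set G.U := {x | x ∈ O ∧ P x}
  have hSfin : S'.Finite := hOfin.subset (fun x hx => hx.1)
  have hSne : S'.Nonempty := ⟨G.s r, ⟨G.e (G.s r), Groth.Agent.Lib.Helper38.GrpdLib.s_e_apply G _,
    Groth.Agent.Lib.Helper38.GrpdLib.t_e_apply G _⟩, r, rfl, hne.symm, hsp⟩
  letI := specializationPreorder G.U
  obtain ⟨x, ⟨hxO, r₁, hr₁s, hr₁ne, hr₁sp⟩, hmin⟩ := hSfin.exists_minimal hSne
  have hspec : SpecializingMap G.s := G.s.isClosedMap.specializingMap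
  obtain ⟨r₂, hr₂sp, hr₂s⟩ := hspec (show G.s r₁ ⤳ G.t r₁ by rw [hr₁s]; exact hr₁sp)
  have h1 : G.t r₁ ⤳ G.t r₂ := hr₂sp.map G.t.continuous
  have h2 : G.t r₂ ≠ G.t r₁ := by
    intro heq
    have hd := (G.t.isDiscrete_preimage_singleton (G.t r₁)).to_subtype
    have hsub : (⟨r₁, rfl⟩ : ⇑G.t ⁻¹' {G.t r₁}) ⤳ ⟨r₂, heq⟩ :=
      (subtype_specializes_iff _ _).mpr hr₂sp
    have := congrArg Subtype.val hsub.eq
    simp only at this
    apply hr₁ne
    rw [← hr₁s, this, hr₂s]
    exact heq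
  have hx'O : G.t r₁ ∈ O := by
    obtain ⟨r₀, hr₀s, hr₀t⟩ := hxO
    obtain ⟨r₃, h3s, h3t⟩ := Groth.Agent.Lib.Helper38.GrpdLib.exists_comp_point G r₁ r₀
      (by rw [hr₁s, hr₀t])
    exact ⟨r₃, by rw [Set.mem_preimage, h3s]; exact hr₀s, h3t⟩
  have hx'S : G.t r₁ ∈ S' := ⟨hx'O, r₂, hr₂s, h2, h1⟩
  have h3 : G.t r₁ ⤳ x := hmin hx'S (show G.t r₁ ≤ x from hr₁sp)
  exact hr₁ne (h3.antisymm hr₁sp).eq


end Groth.Agent.S7464
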