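import Groth.Statements.S7467
import Groth.Agent.Lib.Helper38.HTopV

set_option autoImplicit false
universe w u
open HTop

namespace Groth.Agent.S7467

open CategoryTheory CategoryTheory.Limits AlgebraicGeometry in
/-- A standard fpqc covering, that is a finite family of flat morphisms T_j -> T of affine schemes whose
images jointly cover the affine scheme T, is a standard V covering (every morphism from the spectrum
of a valuation ring to T lifts to some T_j after an extension of valuation rings). -/
theorem result {T : Scheme.{u}} [IsAffine T] (E : PreZeroHypercover.{w} T) (hfin : Finite E.I₀) (haff : ∀ j, IsAffine (E.X j)) (hflat : ∀ j, Flat (E.f j)) (hsurj : ∀ t : T, ∃ (j : E.I₀) (x : E.X j), E.f j x = t) : HTop.IsStandardV E := by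
  refine ⟨inferInstance, hfin, haff, ?_⟩
  intro V _ _ g
  obtain ⟨j, x, hx⟩ := hsurj (g (IsLocalRing.closedPoint V))
  obtain ⟨p, hp1, hp2⟩ := Scheme.Pullback.exists_preimage_pullback (f := g) (g := E.f j)
    (IsLocalRing.closedPoint V) x hx.symm
  haveI := hflat j
  have hgen : GeneralizingMap (pullback.fst g (E.f j)) := Flat.generalizingMap _
  have hsp : (⊥ : PrimeSpectrum V) ⤳ pullback.fst g (E.f j) p := by
    rw [hp1, ← PrimeSpectrum.le_iff_specializes]
    exact bot_le
  obtain ⟨p', hp'1, hp'2⟩ := hgen hsp
  obtain ⟨W, hWd, hWv, φ, hφ, ι, hι, -⟩ :=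
    Groth.Agent.Lib.Helper38.HTopV.exists_extVal_lift (pullback.fst g (E.f j)) hp'1 hp'2 hp1
  refine ⟨W, hWd, hWv, φ, hφ, j, ι ≫ pullback.snd g (E.f j), ?_⟩
  rw [Category.assoc, ← pullback.condition, ← Category.assoc, hι]


end Groth.Agent.S7467
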