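import Groth.Statements.S7471
import Groth.Agent.Lib.Helper38.HTopV

set_option autoImplicit false
universe w u
open HTop

namespace Groth.Agent.S7471

open CategoryTheory CategoryTheory.Limits AlgebraicGeometry in
/-- If E is a V covering of T and T' -> T is any morphism of schemes, then the family of base changes T'
x_T T_i -> T' is a V covering of T'. -/
theorem result {T T' : Scheme.{u}} (g : T' ⟶ T) (E : PreZeroHypercover.{w} T) (hE : HTop.IsVCover E) : HTop.IsVCover (E.pullback₁ g) := by
  rw [Groth.Agent.Lib.Helper38.HTopV.isVCover_iff_forall_affine]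
  intro W _ h
  obtain ⟨F, hF, href⟩ := Groth.Agent.Lib.Helper38.HTopV.IsVCover.exists_refinement hE (h ≫ g)
  refine ⟨F, hF, ?_⟩
  intro j
  obtain ⟨i, k, hk⟩ := href j
  refine ⟨i, pullback.lift (F.f j ≫ h) k ?_, ?_⟩
  · rw [hk, Category.assoc]
  · show pullback.lift _ _ _ ≫ pullback.fst _ _ = _
    rw [pullback.lift_fst]


end Groth.Agent.S7471
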