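import Groth.Statements.S7473
import Groth.Agent.Lib.Helper38.HTopV

set_option autoImplicit false
universe u
open HTop

namespace Groth.Agent.S7473

open CategoryTheory CategoryTheory.Limits AlgebraicGeometry in
/-- An fpqc covering of a scheme T is a V covering. (Here an fpqc covering is a family in Mathlib's fpqc
precoverage: flat, jointly surjective, and every affine open of T is the union of the images of
finitely many quasi-compact opens of the members. The further clauses for fppf, syntomic, smooth,
étale and Zariski coverings follow because those coverings are fpqc coverings; the clause for ph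
coverings is the standard ph statement applied over each affine open.) -/
theorem result {T : Scheme.{u}} : ∀ 𝒰 : Scheme.Cover Scheme.fpqcPrecoverage T, HTop.IsVCover 𝒰.toPreZeroHypercover := by
  intro 𝒰 U
  have hmem := 𝒰.mem₀
  obtain ⟨h1, h2⟩ := hmem
  rw [Scheme.presieve₀_mem_qcPrecoverage_iff] at h1
  rw [Scheme.presieve₀_mem_precoverage_iff] at h2
  obtain ⟨-, hflat⟩ := h2
  obtain ⟨n, a, V, hV, hcov⟩ :=
    QuasiCompactCover.exists_isAffineOpen_of_isCompact 𝒰.toPreZeroHypercover
      (U := (U : T.Opens)) U.2.isCompact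
  have hUaff : IsAffine ((U : T.Opens) : Scheme.{u}) := U.2
  have hr : ∀ i, Set.range ((V i).ι ≫ 𝒰.f (a i)) ⊆ Set.range (U : T.Opens).ι := by
    intro i
    rintro _ ⟨x, rfl⟩
    rw [Scheme.Opens.range_ι, ← hcov]
    refine Set.mem_iUnion.mpr ⟨i, ?_⟩
    rw [Scheme.Hom.comp_apply]
    exact ⟨_, x.2, rfl⟩
  let F : PreZeroHypercover.{0} ((U : T.Opens) : Scheme.{u}) :=
    { I₀ := Fin n
      X := fun i => (V i : Scheme.{u})
      f := fun i => IsOpenImmersion.lift (U : T.Opens).ι ((V i).ι ≫ 𝒰.f (a i)) (hr i) }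
  refine ⟨F, ?_, ?_⟩
  · refine Groth.Agent.Lib.Helper38.HTopV.isStandardV_of_flat F
      (inferInstanceAs (Finite (Fin n))) (fun i => hV i) (fun i => ?_) ?_
    · have := hflat (a i)
      refine MorphismProperty.of_postcomp (W := @Flat) (W' := @IsOpenImmersion) _ (U : T.Opens).ι
        inferInstance ?_
      show Flat (IsOpenImmersion.lift (U : T.Opens).ι ((V i).ι ≫ 𝒰.f (a i)) (hr i) ≫ _)
      rw [IsOpenImmersion.lift_fac]
      infer_instance
    · intro t
      have ht : (U : T.Opens).ι t ∈ ((U : T.Opens) : Set T) := by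
        have := Set.mem_range_self (f := (U : T.Opens).ι) t
        rwa [Scheme.Opens.range_ι] at this
      rw [← hcov] at ht
      obtain ⟨i, x, hx, hxt⟩ := Set.mem_iUnion.mp ht
      refine ⟨i, ⟨x, hx⟩, ?_⟩
      apply (U : T.Opens).ι.isOpenEmbedding.injective
      show (IsOpenImmersion.lift (U : T.Opens).ι ((V i).ι ≫ 𝒰.f (a i)) (hr i) ≫ (U : T.Opens).ι)
        ⟨x, hx⟩ = _
      rw [IsOpenImmersion.lift_fac, Scheme.Hom.comp_apply]
      exact hxt
  · intro i
    refine ⟨a i, (V i).ι, ?_⟩
    show _ = IsOpenImmersion.lift (U : T.Opens).ι ((V i).ι ≫ 𝒰.f (a i)) (hr i) ≫ _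
    rw [IsOpenImmersion.lift_fac]


end Groth.Agent.S7473
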