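import Groth.Statements.S7474
import Groth.Agent.Lib.Helper38.HTopSheaf

set_option autoImplicit false
universe w u
open HTop

namespace Groth.Agent.S7474

open CategoryTheory CategoryTheory.Limits AlgebraicGeometry in
/-- A presheaf F of sets on the category of all schemes has the sheaf property for every V covering
family exactly when F is a sheaf for the Zariski topology and has the sheaf property for each
standard V covering. -/
theorem result (F : Scheme.{u}ᵒᵖ ⥤ Type w) : HTop.IsVSheaf F ↔ (Presieve.IsSheaf Scheme.zariskiTopology F ∧ ∀ (T : Scheme.{u}) (E : PreZeroHypercover.{u} T), HTop.IsStandardV E → Presieve.IsSheafFor F E.presieve₀) := by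
  constructor
  · intro h
    refine ⟨?_, fun T E hE => h _ ((HTop.presieve₀_mem_vPrecoverage_iff E).mpr
      (Groth.Agent.Lib.Helper38.HTopV.isVCover_of_isStandardV hE))⟩
    rw [Precoverage.isSheaf_toGrothendieck_iff_of_isStableUnderBaseChange]
    intro X R hR
    apply h
    obtain ⟨E₀, rfl⟩ := R.exists_eq_preZeroHypercover
    rw [HTop.presieve₀_mem_vPrecoverage_iff]
    let 𝒰 : Scheme.Cover Scheme.fpqcPrecoverage X :=
      ⟨E₀, Scheme.zariskiPrecoverage_le_fpqcPrecoverage _ hR⟩
    exact Groth.Agent.Lib.Helper38.HTopV.isVCover_of_fpqc 𝒰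
  · rintro ⟨hzar, hstd⟩ X R hR
    obtain ⟨E₀, rfl⟩ := R.exists_eq_preZeroHypercover
    rw [HTop.presieve₀_mem_vPrecoverage_iff] at hR
    exact Groth.Agent.Lib.Helper38.HTopV.isSheafFor_of_isVCover hzar hstd E₀ hR


end Groth.Agent.S7474
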