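import Groth.Statements.S7475
import Groth.Agent.Lib.Helper38.HTopSheaf

set_option autoImplicit false
universe w u
open HTop

namespace Groth.Agent.S7475

open CategoryTheory CategoryTheory.Limits AlgebraicGeometry in
/-- Variant with a single arrow: a presheaf of sets on all schemes has the sheaf property for every V
covering family exactly when it is a Zariski sheaf and has the sheaf property for every morphism V
-> U of affine schemes that on its own forms a standard V covering. -/
theorem result (F : Scheme.{u}ᵒᵖ ⥤ Type w) : HTop.IsVSheaf F ↔ (Presieve.IsSheaf Scheme.zariskiTopology F ∧ ∀ (U V : Scheme.{u}) (f : V ⟶ U), HTop.IsStandardV (PreZeroHypercover.singleton f) → Presieve.IsSheafFor F (Presieve.singleton f)) := by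
  constructor
  · intro h
    refine ⟨?_, fun U V f hf => ?_⟩
    · rw [Precoverage.isSheaf_toGrothendieck_iff_of_isStableUnderBaseChange]
      intro X R hR
      apply h
      obtain ⟨E₀, rfl⟩ := R.exists_eq_preZeroHypercover
      rw [HTop.presieve₀_mem_vPrecoverage_iff]
      let 𝒰 : Scheme.Cover Scheme.fpqcPrecoverage X :=
        ⟨E₀, Scheme.zariskiPrecoverage_le_fpqcPrecoverage _ hR⟩
      exact Groth.Agent.Lib.Helper38.HTopV.isVCover_of_fpqc 𝒰
    · rw [← PreZeroHypercover.presieve₀_singleton]
      exact h _ ((HTop.presieve₀_mem_vPrecoverage_iff _).mpr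
        (Groth.Agent.Lib.Helper38.HTopV.isVCover_of_isStandardV hf))
  · rintro ⟨hzar, hsing⟩ X R hR
    obtain ⟨E₀, rfl⟩ := R.exists_eq_preZeroHypercover
    rw [HTop.presieve₀_mem_vPrecoverage_iff] at hR
    refine Groth.Agent.Lib.Helper38.HTopV.isSheafFor_of_isVCover hzar (fun T E hE => ?_) E₀ hR
    exact Groth.Agent.Lib.Helper38.HTopV.isSheafFor_of_isSheafFor_singleton_sigmaDesc hzar hE
      (hsing _ _ _ (Groth.Agent.Lib.Helper38.HTopV.isStandardV_singleton_sigmaDesc hE))


end Groth.Agent.S7475
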