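import Groth.Statements.S7476
import Groth.Agent.Lib.Helper38.HTopV

set_option autoImplicit false
universe w u
open HTop

namespace Groth.Agent.S7476

open CategoryTheory CategoryTheory.Limits AlgebraicGeometry in
/-- Let f : X -> Y be a quasi-compact morphism of schemes. Then the one-member family of f is a V
covering if and only if every morphism from the spectrum of a valuation ring to Y lifts to X after
an extension of valuation rings; and the latter holds if and only if for every morphism Z -> Y and
every specialization z' ⤳ z of points of Z there is a specialization w' ⤳ w of points of Z x_Y X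
mapping to z' ⤳ z. -/
theorem result {X Y : Scheme.{u}} (f : X ⟶ Y) [QuasiCompact f] : (HTop.IsVCover (PreZeroHypercover.singleton f) ↔ HTop.HasValLift (PreZeroHypercover.singleton f)) ∧ (HTop.HasValLift (PreZeroHypercover.singleton f) ↔ ∀ (Z : Scheme.{u}) (g : Z ⟶ Y) (z' z : Z), z' ⤳ z → ∃ w' w : ↑(pullback g f), w' ⤳ w ∧ pullback.fst g f w' = z' ∧ pullback.fst g f w = z) := by
  refine ⟨⟨fun h => (Groth.Agent.Lib.Helper38.HTopV.hasValLift_singleton_univ f).mp
      (Groth.Agent.Lib.Helper38.HTopV.hasValLift_of_isVCover h), fun h =>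
    Groth.Agent.Lib.Helper38.HTopV.isVCover_singleton_of_hasValLift f
      ((Groth.Agent.Lib.Helper38.HTopV.hasValLift_singleton_univ f).mp h)⟩,
    ⟨fun h Z g z' z hz => ?_, fun h => ?_⟩⟩
  · obtain ⟨i, w', w, hw, h1, h2⟩ :=
      Groth.Agent.Lib.Helper38.HTopV.exists_specializes_of_hasValLift h g hz
    exact ⟨w', w, hw, h1, h2⟩
  · apply Groth.Agent.Lib.Helper38.HTopV.hasValLift_of_exists_specializes
    intro V _ _ g
    obtain ⟨w', w, hw, h1, h2⟩ := h (Spec V) g (⊥ : PrimeSpectrum V) (IsLocalRing.closedPoint V)
      (IsLocalRing.specializes_closedPoint _)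
    exact ⟨PUnit.unit, w', w, hw, h1, h2⟩


end Groth.Agent.S7476
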