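import Groth.Statements.S7477
import Groth.Agent.Lib.Helper38.HTopV

set_option autoImplicit false
universe w u
open HTop

namespace Groth.Agent.S7477

open CategoryTheory CategoryTheory.Limits AlgebraicGeometry in
/-- If {f_i : X_i -> X} is a V covering (indexed by a type in the universe of X), then the morphism from
the coproduct of the X_i to X induced by the f_i is universally submersive. -/
theorem result {X : Scheme.{u}} (E : PreZeroHypercover.{u} X) (hE : HTop.IsVCover E) : SGA1.UnivSubmersive (Sigma.desc E.f) := by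
  intro X' Y' i₁ i₂ f' hpb
  have hA : ∀ (U : Y'.affineOpens), ∃ F : PreZeroHypercover.{0} ((U : Y'.Opens) : Scheme.{u}),
      HTop.IsStandardV F ∧ ∀ j, ∃ k : F.X j ⟶ X', k ≫ f' = F.f j ≫ (U : Y'.Opens).ι := by
    intro U
    have : IsAffine ((U : Y'.Opens) : Scheme.{u}) := U.2
    obtain ⟨F, hF, href⟩ :=
      Groth.Agent.Lib.Helper38.HTopV.IsVCover.exists_refinement hE ((U : Y'.Opens).ι ≫ i₂)
    refine ⟨F, hF, fun j => ?_⟩
    obtain ⟨i, m, hm⟩ := href j
    refine ⟨hpb.lift (F.f j ≫ (U : Y'.Opens).ι) (m ≫ Sigma.ι E.X i) ?_, hpb.lift_fst _ _ _⟩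
    rw [Category.assoc, Category.assoc, Sigma.ι_desc, hm]
  have hcov : ∀ y : Y', ∃ U : Y'.affineOpens, y ∈ (U : Y'.Opens) := by
    intro y
    obtain ⟨_, ⟨U, hU, rfl⟩, hyU, -⟩ :=
      Y'.isBasis_affineOpens.exists_subset_of_mem_open (Set.mem_univ y) isOpen_univ
    exact ⟨⟨U, hU⟩, hyU⟩
  show Topology.IsQuotientMap f'
  rw [Topology.isQuotientMap_iff_isClosed]
  refine ⟨?_, fun S => ⟨fun hS => hS.preimage f'.continuous, fun hS => ?_⟩⟩
  · intro y
    obtain ⟨U, hyU⟩ := hcov y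
    obtain ⟨F, hF, hk⟩ := hA U
    obtain ⟨j, x, hx⟩ := Groth.Agent.Lib.Helper38.HTopV.HasValLift.exists_preimage hF.lift ⟨y, hyU⟩
    obtain ⟨k, hk'⟩ := hk j
    refine ⟨k x, ?_⟩
    rw [← Scheme.Hom.comp_apply, hk', Scheme.Hom.comp_apply, hx]
    rfl
  · rw [← isOpen_compl_iff, isOpen_iff_forall_mem_open]
    intro y hy
    obtain ⟨U, hyU⟩ := hcov y
    obtain ⟨F, hF, hk⟩ := hA U
    have hcl : IsClosed ((U : Y'.Opens).ι ⁻¹' S) := by
      refine Groth.Agent.Lib.Helper38.HTopV.IsStandardV.isClosed_of_forall_isClosed_preimage hF _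
        (fun j => ?_)
      obtain ⟨k, hk'⟩ := hk j
      have : (F.f j) ⁻¹' ((U : Y'.Opens).ι ⁻¹' S) = k ⁻¹' (f' ⁻¹' S) := by
        ext z
        simp only [Set.mem_preimage]
        rw [← Scheme.Hom.comp_apply, ← Scheme.Hom.comp_apply, hk']
      rw [this]
      exact hS.preimage k.continuous
    refine ⟨(U : Y'.Opens).ι '' ((U : Y'.Opens).ι ⁻¹' S)ᶜ, ?_,
      (U : Y'.Opens).ι.isOpenEmbedding.isOpenMap _ hcl.isOpen_compl, ⟨⟨y, hyU⟩, hy, rfl⟩⟩
    rintro _ ⟨z, hz, rfl⟩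
    exact hz


end Groth.Agent.S7477
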