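import Groth.Statements.S7478
import Mathlib.AlgebraicGeometry.PullbackCarrier

set_option autoImplicit false
universe w u
open HTop

namespace Groth.Agent.S7478

open CategoryTheory CategoryTheory.Limits AlgebraicGeometry in
/-- The base change of a standard ph covering along a morphism of affine schemes T' -> T is a standard
ph covering of T'. -/
theorem result {T T' : Scheme.{u}} [IsAffine T'] (g : T' ⟶ T) (E : PreZeroHypercover.{w} T) (hE : HTop.IsStandardPh E) : HTop.IsStandardPh (E.pullback₁ g) := by
  obtain ⟨U, f, ι, hprop, hsurj, hopen, hcomp, hcov⟩ := hE.exists_proper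
  have := hE.isAffine
  have := hE.isAffine_obj
  refine ⟨inferInstance, hE.finite_index, ?_, ?_⟩
  · intro j
    show IsAffine (pullback g (E.f j))
    infer_instance
  · have he1 : ∀ _ : E.I₀, g ≫ 𝟙 T = 𝟙 T' ≫ g := fun _ => by simp
    have he2 : ∀ j : E.I₀, E.f j ≫ 𝟙 T = ι j ≫ f := fun j => by simp [hcomp j]
    refine ⟨pullback g f, pullback.fst g f,
      fun j => pullback.map g (E.f j) g f (𝟙 T') (ι j) (𝟙 T) (he1 j) (he2 j),
      inferInstance, inferInstance, fun j => ?_, fun j => ?_, fun x => ?_⟩
    · have := hopen j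
      show IsOpenImmersion (pullback.map g (E.f j) g f (𝟙 T') (ι j) (𝟙 T) (he1 j) (he2 j))
      infer_instance
    · show pullback.map g (E.f j) g f (𝟙 T') (ι j) (𝟙 T) (he1 j) (he2 j) ≫ pullback.fst g f =
        pullback.fst g (E.f j)
      rw [pullback.lift_fst, Category.comp_id]
    · obtain ⟨j, hj⟩ := hcov (pullback.snd g f x)
      refine ⟨j, ?_⟩
      show x ∈ Set.range (pullback.map g (E.f j) g f (𝟙 T') (ι j) (𝟙 T) (he1 j) (he2 j))
      rw [Scheme.Pullback.range_map]
      refine ⟨?_, hj⟩
      simp


end Groth.Agent.S7478
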