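import Groth.Statements.S9858
import Mathlib
import Groth.Agent.Lib.Helper81.DescSig
import Groth.Agent.Lib.Helper81.DescMain
-- import your own Groth.Agent.* helpers here

set_option autoImplicit false
open CategoryTheory CategoryTheory.Limits AlgebraicGeometry Opposite
universe u
open Desc

namespace Groth.Agent.S9858
set_option backward.isDefEq.respectTransparency false


open Groth.Agent.Lib.Helper81.DescSig Groth.Agent.Lib.Helper38.FpqcGlue Groth.Agent.Lib.Helper81.DescE
  Groth.Agent.Lib.Helper81.DescZ Groth.Agent.Lib.Helper81.DescR Groth.Agent.Lib.Helper81.DescMain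

lemma P_sigma_ulift (P : MorphismProperty Scheme.{u}) [P.RespectsIso]
    (h2 : ∀ (m : ℕ) (Y V : Fin m → Scheme.{u}) (q : ∀ j, Y j ⟶ V j), (∀ j, P (q j)) →
      P (Limits.Sigma.map q))
    {n : ℕ} {A B : ULift.{u} (Fin n) → Scheme.{u}} (q : ∀ k, A k ⟶ B k) (hq : ∀ k, P (q k)) :
    P (Limits.Sigma.map q) := by
  let ε : Fin n ≃ ULift.{u} (Fin n) := Equiv.ulift.symm
  have h := h2 n (A ∘ ε) (B ∘ ε) (fun j => q (ε j)) (fun j => hq _)
  have e : Limits.Sigma.map q = (Sigma.reindex ε A).inv ≫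
      Limits.Sigma.map (fun j => q (ε j)) ≫ (Sigma.reindex ε B).hom := by
    rw [Iso.eq_inv_comp]
    apply Sigma.hom_ext
    intro j
    simp only [Sigma.ι_map_assoc, Sigma.ι_reindex_hom_assoc, Function.comp_apply, Sigma.ι_map,
      Category.assoc]
    congr 1
    exact (Sigma.ι_reindex_hom ε B j).symm
  rw [e]
  exact (P.cancel_left_of_respectsIso _ _).mpr ((P.cancel_right_of_respectsIso _ _).mpr h)

/-- pullback of an effective datum along a refinement is effective -/
lemma isEffective_pull {S : Scheme.{u}} {ι κ : Type u} {U : ι → Scheme.{u}} {V : κ → Scheme.{u}}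
    {uu : ∀ i, U i ⟶ S} {v : ∀ j, V j ⟶ S} {α : ι → κ} {g : ∀ i, U i ⟶ V (α i)}
    (w : ∀ i, g i ≫ v (α i) = uu i ≫ 𝟙 S) (E : SchDDFam v) (hE : E.IsEffective) :
    ((pullDDFam w).obj E).IsEffective := by
  obtain ⟨Y, ⟨ε⟩⟩ := hE
  exact ⟨Y, ⟨(asIso (pullCan w Y)).symm ≪≫ (pullDDFam w).mapIso ε⟩⟩

/-- effectiveness for a finite family of affines over an affine base -/
lemma effective_fin (P : MorphismProperty Scheme.{u}) [P.IsStableUnderBaseChange]
    (h2 : ∀ (m : ℕ) (Y V : Fin m → Scheme.{u}) (q : ∀ j, Y j ⟶ V j), (∀ j, P (q j)) →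
      P (Limits.Sigma.map q))
    (h3 : ∀ (X S : Scheme.{u}) (p : X ⟶ S), IsAffine X → IsAffine S → Flat p → Surjective p →
      ∀ D : Desc.SchDD p, P D.obj.hom → ∃ U : Over S, Nonempty ((Desc.toDD p).obj U ≅ D))
    {n : ℕ} {V : Scheme.{u}} [IsAffine V] {Pk : ULift.{u} (Fin n) → Scheme.{u}}
    [∀ k, IsAffine (Pk k)] (π : ∀ k, Pk k ⟶ V) (hπ : ∀ k, Flat (π k))
    (hsurj : ∀ x : V, ∃ k, x ∈ Set.range (π k).base)
    (D : SchDDFam π) (hD : ∀ k, P (D.obj k).hom) : D.IsEffective := by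
  let p' : ∐ Pk ⟶ V := Sigma.desc π
  haveI : Flat p' := IsZariskiLocalAtSource.sigmaDesc (P := @Flat) hπ
  haveI : Surjective p' := by
    constructor
    intro x
    obtain ⟨k, y, hy⟩ := hsurj x
    refine ⟨(Sigma.ι Pk k).base y, ?_⟩
    rw [← hy, ← Scheme.Hom.comp_apply]
    simp [p']
  haveI : IsAffine (∐ Pk) := inferInstance
  have hP : P (sigDD π D).obj.hom := P_sigma_ulift P h2 _ hD
  obtain ⟨U0, ⟨ε⟩⟩ := h3 _ _ p' inferInstance inferInstance inferInstance inferInstance
    (sigDD π D) hP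
  have h1 : ((SchDDFam.ofSchDD.{u, u} p').obj (sigDD π D)).IsEffective :=
    fam_of_single p' _ ⟨U0, ⟨ε⟩⟩
  have h4 : (pulled π D).IsEffective := isEffective_pull (uu := π)
    (v := fun _ : PUnit.{u + 1} => Sigma.desc π) (α := fun _ => PUnit.unit)
    (g := fun k => Sigma.ι Pk k) (sig_w π) _ h1
  obtain ⟨Y, ⟨ε'⟩⟩ := h4
  exact ⟨Y, ⟨ε' ≪≫ (asIso (sigHom π D)).symm⟩⟩


/-- Case τ = fpqc: let P be a property of morphisms of schemes which is stable under base change and
under finite disjoint unions, and such that for every flat surjective morphism of affine schemes p :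
X ⟶ S, every descent datum relative to p whose structure morphism to X has P is effective. Then for
every fpqc covering family u i : U i ⟶ S of a scheme S, every descent datum for schemes relative to
(u i) all of whose structure morphisms have P is effective. -/
theorem result (P : MorphismProperty Scheme.{u}) [P.IsStableUnderBaseChange]
    (h2 : ∀ (m : ℕ) (Y V : Fin m → Scheme.{u}) (q : ∀ j, Y j ⟶ V j), (∀ j, P (q j)) → P (Limits.Sigma.map q))
    (h3 : ∀ (X S : Scheme.{u}) (p : X ⟶ S), IsAffine X → IsAffine S → Flat p → Surjective p →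
      ∀ D : Desc.SchDD p, P D.obj.hom → ∃ U : Over S, Nonempty ((Desc.toDD p).obj U ≅ D))
    {ι : Type u} {S : Scheme.{u}} {U : ι → Scheme.{u}} (u : ∀ i, U i ⟶ S)
    (hu : Presieve.ofArrows U u ∈ Scheme.fpqcPrecoverage S) (D : Desc.SchDDFam u) (hD : ∀ i, P (D.obj i).hom) :
    D.IsEffective := by
  have hqc : QuasiCompactCover (⟨ι, U, u⟩ : PreZeroHypercover.{u} S) :=
    Scheme.presieve₀_mem_qcPrecoverage_iff.mp hu.1
  have hflat : ∀ i, Flat (u i) := ((Scheme.ofArrows_mem_precoverage_iff _).mp hu.2).2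
  obtain ⟨Y, q, e, hE⟩ := exists_isESol_of_local hu D (fun V => by
    apply exists_isLocSol_of_baseChange_isEffective
    haveI : IsAffine (V.1 : Scheme.{u}) := V.2
    obtain ⟨n, idx, Pk, π, qq, hP, hπ, hπq, hsurj⟩ :=
      Groth.Agent.Lib.Helper81.ClosedDesc.exists_finite_affine_refinement
        (f := u) hflat hqc V.1.ι
    let Pk' : ULift.{u} (Fin n) → Scheme.{u} := fun k => Pk k.down
    let π' : ∀ k : ULift.{u} (Fin n), Pk' k ⟶ (V.1 : Scheme.{u}) := fun k => π k.down
    haveI : ∀ k, IsAffine (Pk' k) := fun k => hP k.down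
    have hπ' : ∀ k, Flat (π' k) := fun k => hπ k.down
    have hsurj' : ∀ x : (V.1 : Scheme.{u}), ∃ k, x ∈ Set.range (π' k).base := fun x => by
      obtain ⟨k, hk⟩ := hsurj x
      exact ⟨⟨k⟩, hk⟩
    let r : ∀ k : ULift.{u} (Fin n), Pk' k ⟶ pullback (u (idx k.down)) V.1.ι :=
      fun k => pullback.lift (qq k.down) (π k.down) (hπq k.down).symm
    have w : ∀ k : ULift.{u} (Fin n), r k ≫ pullback.snd (u (idx k.down)) V.1.ι = π' k ≫ 𝟙 _ :=
      fun k => by simp [r, π']
    let 𝒰 : Scheme.Cover.{u} (Scheme.precoverage @Flat) (V.1 : Scheme.{u}) :=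
      { I₀ := ULift.{u} (Fin n), X := Pk', f := π',
        mem₀ := by
          rw [Scheme.ofArrows_mem_precoverage_iff]
          exact ⟨hsurj', hπ'⟩ }
    haveI : ∀ i, QuasiCompact (𝒰.f i) := fun i => inferInstanceAs (QuasiCompact (π' i))
    haveI : Finite 𝒰.I₀ := inferInstanceAs (Finite (ULift.{u} (Fin n)))
    have hqc' : QuasiCompactCover 𝒰.toPreZeroHypercover := QuasiCompactCover.of_finite
    have hf' : Presieve.ofArrows Pk' π' ∈ Scheme.fpqcPrecoverage (V.1 : Scheme.{u}) :=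
      ⟨Scheme.presieve₀_mem_qcPrecoverage_iff.mpr hqc', 𝒰.mem₀⟩
    have H : ∀ j : ι, Sieve.pullback (pullback.snd (u j) V.1.ι)
        (Sieve.ofArrows Pk' π') ∈ Scheme.fpqcTopology (pullback (u j) V.1.ι) :=
      fun _ => pullback_ofArrows_mem _ hf' _
    refine isEffective_of_pull (uu := π') (v := fun i => pullback.snd (u i) V.1.ι)
      (α := fun k => idx k.down) (g := r) w H (baseChange D V.1.ι) ?_
    apply effective_fin P h2 h3 π' hπ' hsurj'
    intro k
    change P (pullback.snd (pullback.snd (D.obj (idx k.down)).hom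
      (pullback.fst (u (idx k.down)) V.1.ι)) (r k))
    exact P.pullback_snd _ _ (P.pullback_snd _ _ (hD _)))
  exact isEffective_of_isESol D q e hE

end Groth.Agent.S9858
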