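import Groth.Statements.S7483
import Mathlib
import Groth.Agent.Lib.Helper81.DescFin
-- import your own Groth.Agent.* helpers here

set_option autoImplicit false
open CategoryTheory CategoryTheory.Limits AlgebraicGeometry
universe u
open Desc

namespace Groth.Agent.S7483
open Desc

open Groth.Agent.Lib.Helper81.DescFin Groth.Agent.Lib.Helper81.DescQA


/-- Suppose p : X -> Y is surjective and finite locally free (that is, finite, flat, and locally of
finite presentation), and consider a scheme V over X with the property that any finite collection of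
points of V mapping to a common point of Y lies inside some affine open subset of V. Under these
assumptions, each descent datum on V relative to p is effective, meaning it is isomorphic to the
canonical descent datum attached to some scheme over Y. (Descent data are formulated in
functor-of-points form.) -/
theorem result {X Y : Scheme.{u}} (p : X ⟶ Y) [Surjective p] [IsFinite p] [Flat p] [LocallyOfFinitePresentation p] (D : Desc.SchDD p) (hV : ∀ (y : Y) (s : Finset ↑(D.obj.left)), (∀ v ∈ s, p (D.obj.hom v) = y) → ∃ U : D.obj.left.Opens, IsAffineOpen U ∧ ∀ v ∈ s, v ∈ U) : ∃ W : Over Y, Nonempty ((Desc.toDD p).obj W ≅ D) := by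
  apply effective_of_bc
  intro Y₀
  haveI : IsAffine (Y₀.1 : Scheme.{u}) := Y₀.2
  let D₀ := bc D Y₀.1.ι
  apply core_affine D₀
  intro v₀
  classical
  let g : D₀.obj.left ⟶ D.obj.left := pullback.fst D.obj.hom (pullback.fst p Y₀.1.ι)
  haveI : IsOpenImmersion g :=
    inferInstanceAs (IsOpenImmersion (pullback.fst D.obj.hom (pullback.fst p Y₀.1.ι)))
  have hfin := orbit_finite D₀ v₀
  have hg : g ≫ D.obj.hom ≫ p = D₀.obj.hom ≫ pullback.snd p Y₀.1.ι ≫ Y₀.1.ι := by
    have c1 : g ≫ D.obj.hom = D₀.obj.hom ≫ pullback.fst p Y₀.1.ι := pullback.condition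
    rw [reassoc_of% c1, pullback.condition]
  obtain ⟨U, hUaff, hU⟩ := hV (Y₀.1.ι (pullback.snd p Y₀.1.ι (D₀.obj.hom v₀)))
    (hfin.toFinset.image g) (by
      intro v' hv'
      obtain ⟨w, hw, rfl⟩ := Finset.mem_image.mp hv'
      obtain ⟨z, hz, rfl⟩ := hfin.mem_toFinset.mp hw
      have e1 := congrArg (fun m => m (psi D₀ z)) hg
      simp only [Scheme.Hom.comp_apply] at e1
      rw [e1, orbit_over D₀ z, hz])
  haveI : IsAffine (U : Scheme.{u}) := hUaff
  refine ⟨g ⁻¹ᵁ U, ⟨U, hUaff, g ∣_ U, inferInstance⟩, fun z hz => ?_⟩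
  apply hU
  exact Finset.mem_image.mpr ⟨psi D₀ z, hfin.mem_toFinset.mpr ⟨z, Set.mem_preimage.mpr (Set.mem_singleton_iff.mpr hz), rfl⟩, rfl⟩

end Groth.Agent.S7483
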