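import Groth.Statements.S7487
import Groth.Agent.S1879
import Groth.Agent.S7457
import Groth.Agent.Lib.Helper38.GrpdLib
import Groth.Agent.Lib.Helper76.QuotBC
import Mathlib

set_option autoImplicit false
universe u
open CategoryTheory CategoryTheory.Limits AlgebraicGeometry
open Grpd
open Groth.Agent.Lib.Helper76

namespace Groth.Agent.S7487

/-- Let (U, R, s, t, c) be a groupoid scheme over S with U = Spec A and R = Spec B affine and s, t
finite locally free; let C be the subring of R-invariant functions of A and C -> C' a ring map. Put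
A' = A (x)_C C' and B' = B (x)_C C' (B a C-algebra through s^#) and let C^1 be the subring of A'
where the two maps s^# (x) 1, t^# (x) 1 : A' -> B' agree; the structure map C' -> A' lands in C^1,
giving φ : C' -> C^1. Then: (a) for every f in C^1 there are n > 0 and a polynomial P over C' whose
image in A'[x] is (x - f)^n; (b) every element of the kernel of φ is nilpotent; (c) if C -> C' is
flat then φ is bijective, that is C' -> A' is injective with image C^1. (The published statement
also asserts that the base change is again a groupoid scheme; this row omits that clause.) (A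
groupoid scheme carries U, R, s, t, c, e, i over S with the groupoid axioms on T-points; c is
defined on the fibre product of s and t and sends a pair (a, b) with s(a) = t(b) to a composed with
b.) -/
theorem result (S : Scheme.{u}) (G : Grpd.GroupoidScheme S) [IsAffine G.U] [IsAffine G.R] [IsFinite G.s] [Flat G.s] [LocallyOfFinitePresentation G.s] [IsFinite G.t] [Flat G.t] [LocallyOfFinitePresentation G.t] (C' : Type u) [CommRing C'] [Algebra G.invariants C'] : letI : Algebra G.invariants Γ(G.R, ⊤) := (G.s.appTop.hom.comp G.invariants.subtype).toAlgebra; ∀ (sT tT : TensorProduct G.invariants Γ(G.U, ⊤) C' →ₐ[G.invariants] TensorProduct G.invariants Γ(G.R, ⊤) C'), (∀ (a : Γ(G.U, ⊤)) (c : C'), sT (a ⊗ₜ c) = G.s.appTop.hom a ⊗ₜ c) → (∀ (a : Γ(G.U, ⊤)) (c : C'), tT (a ⊗ₜ c) = G.t.appTop.hom a ⊗ₜ c) → (∀ f : TensorProduct G.invariants Γ(G.U, ⊤) C', sT f = tT f → ∃ (n : ℕ) (P : Polynomial C'), 0 < n ∧ Polynomial.map (Algebra.TensorProduct.includeRight : C' →ₐ[G.invariants] TensorProduct G.invariants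 Γ(G.U, ⊤) C').toRingHom P = (Polynomial.X - Polynomial.C f) ^ n) ∧ (∀ c : C', (Algebra.TensorProduct.includeRight : C' →ₐ[G.invariants] TensorProduct G.invariants Γ(G.U, ⊤) C') c = 0 → IsNilpotent c) ∧ (Module.Flat G.invariants C' → Function.Injective (Algebra.TensorProduct.includeRight : C' →ₐ[G.invariants] TensorProduct G.invariants Γ(G.U, ⊤) C') ∧ ∀ f : TensorProduct G.invariants Γ(G.U, ⊤) C', sT f = tT f → f ∈ Set.range (Algebra.TensorProduct.includeRight : C' →ₐ[G.invariants] TensorProduct G.invariants Γ(G.U, ⊤) C')) := by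
  classical
  letI alg : Algebra Γ(G.U, ⊤) Γ(G.R, ⊤) := G.s.appTop.hom.toAlgebra
  have hfinite : RingHom.Finite G.s.appTop.hom := Scheme.Hom.finite_appTop G.s
  have hflat : RingHom.Flat G.s.appTop.hom :=
    (HasRingHomProperty.iff_of_isAffine (P := @Flat)).mp inferInstance
  have hfp : RingHom.FinitePresentation G.s.appTop.hom :=
    (HasRingHomProperty.iff_of_isAffine (P := @LocallyOfFinitePresentation)).mp inferInstance
  haveI : Module.Finite Γ(G.U, ⊤) Γ(G.R, ⊤) := hfinite
  haveI : Module.Flat Γ(G.U, ⊤) Γ(G.R, ⊤) := hflat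
  haveI : Algebra.FinitePresentation Γ(G.U, ⊤) Γ(G.R, ⊤) := hfp
  haveI : Module.FinitePresentation Γ(G.U, ⊤) Γ(G.R, ⊤) :=
    Module.FinitePresentation.of_finite_of_finitePresentation _ _
  haveI : Module.Projective Γ(G.U, ⊤) Γ(G.R, ⊤) := Module.Flat.projective_of_finitePresentation
  have sqA : IsPushout G.t.appTop G.s.appTop (pullback.snd G.s G.t).appTop
      (pullback.fst G.s G.t).appTop :=
    (isPushout_appTop_of_isPullback (IsPullback.of_hasPullback G.s G.t)).flip
  have sqB : IsPushout G.s.appTop G.s.appTop (pullback.snd G.s G.t).appTop G.c.appTop :=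
    (isPushout_appTop_of_isPullback (Groth.Agent.S7457.result S G).2).flip
  have hct : ∀ a, G.c.appTop.hom (G.t.appTop.hom a) =
      (pullback.fst G.s G.t).appTop.hom (G.t.appTop.hom a) := by
    intro a
    have h1 : G.t.appTop ≫ G.c.appTop = G.t.appTop ≫ (pullback.fst G.s G.t).appTop := by
      rw [← Scheme.Hom.comp_appTop, ← Scheme.Hom.comp_appTop,
        Groth.Agent.Lib.Helper38.GrpdLib.c_t]
    exact congrArg (fun g => g.hom a) h1
  have hεσ : ∀ a, G.e.appTop.hom (G.s.appTop.hom a) = a := by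
    intro a
    have h1 : G.s.appTop ≫ G.e.appTop = 𝟙 _ := by
      rw [← Scheme.Hom.comp_appTop, G.e_s]
      rfl
    exact congrArg (fun g => g.hom a) h1
  have hετ : ∀ a, G.e.appTop.hom (G.t.appTop.hom a) = a := by
    intro a
    have h1 : G.t.appTop ≫ G.e.appTop = 𝟙 _ := by
      rw [← Scheme.Hom.comp_appTop, G.e_t]
      rfl
    exact congrArg (fun g => g.hom a) h1
  let 𝔖 : QuotPts.PS Γ(G.U, ⊤) Γ(G.R, ⊤) Γ(pullback G.s G.t, ⊤) :=
    { τ := G.t.appTop.hom
      ε := G.e.appTop.hom
      p1 := (pullback.snd G.s G.t).appTop.hom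
      p0 := (pullback.fst G.s G.t).appTop.hom
      c := G.c.appTop.hom
      hεσ := hεσ
      hετ := hετ
      sqA := sqA
      sqB := sqB
      hct := hct }
  haveI hint : Algebra.IsIntegral G.invariants Γ(G.U, ⊤) := Groth.Agent.S1879.result S G
  letI algC : Algebra G.invariants Γ(G.R, ⊤) :=
    (G.s.appTop.hom.comp G.invariants.subtype).toAlgebra
  haveI : IsScalarTower G.invariants Γ(G.U, ⊤) Γ(G.R, ⊤) :=
    IsScalarTower.of_algebraMap_eq (fun x => rfl)
  have hC : ∀ a : Γ(G.U, ⊤), algebraMap Γ(G.U, ⊤) Γ(G.R, ⊤) a = 𝔖.τ a →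
      ∃ c : G.invariants, algebraMap G.invariants Γ(G.U, ⊤) c = a :=
    fun a ha => ⟨⟨a, ha⟩, rfl⟩
  have hC' : ∀ c : G.invariants, algebraMap Γ(G.U, ⊤) Γ(G.R, ⊤)
      (algebraMap G.invariants Γ(G.U, ⊤) c) = 𝔖.τ (algebraMap G.invariants Γ(G.U, ⊤) c) :=
    fun c => c.2
  have hinj : Function.Injective (algebraMap G.invariants Γ(G.U, ⊤)) := Subtype.val_injective
  intro sT tT hsT htT
  refine ⟨fun f hf => QuotBC.partA 𝔖 hC C' sT tT hsT htT f hf,
    fun c hc => QuotBC.partB hinj C' c hc, fun hfl => ?_⟩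
  haveI := hfl
  exact QuotBC.partC 𝔖 hC hC' hinj C' sT tT hsT htT

end Groth.Agent.S7487
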