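import Groth.Statements.S7488
import Groth.Agent.S1877
import Groth.Agent.S1879
import Groth.Agent.Lib.Helper40.QuotSection
import Mathlib

set_option autoImplicit false
universe u
open CategoryTheory CategoryTheory.Limits AlgebraicGeometry
open Grpd

namespace Groth.Agent.S7488

/-- Let (U, R, s, t, c) be a groupoid scheme over S with U and R affine, s and t finite locally free,
and j = (t, s) : R -> U x_S U a monomorphism. Let C be the ring of R-invariant functions on U and M
= Spec C. Then the structure morphism U -> S factors uniquely through U -> M, and for the resulting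
structure of scheme over S on M, the morphism U -> M represents the quotient sheaf U/R in the fppf
topology: it coequalizes s and t and the induced map from the coequalizer of h_R => h_U (sheaves of
sets on the big fppf site of S) to h_M is an isomorphism. (The published statement also asserts that
U -> M is finite locally free and that R = U x_M U; this row states only the quotient-sheaf clause.)
(A groupoid scheme carries U, R, s, t, c, e, i over S with the groupoid axioms on T-points; c is
defined on the fibre product of s and t and sends a pair (a, b) with s(a) = t(b) to a composed with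
b.) -/
theorem result (S : Scheme.{u}) (G : Grpd.GroupoidScheme S) [IsAffine G.U] [IsAffine G.R] [IsFinite G.s] [Flat G.s] [LocallyOfFinitePresentation G.s] [IsFinite G.t] [Flat G.t] [LocallyOfFinitePresentation G.t] [Mono G.j] : ∃! m : Spec (CommRingCat.of G.invariants) ⟶ S, ∃ h : G.toQuot ≫ m = G.pU, QuotSh.IsQuotient Scheme.fppfPrecoverage (Over.homMk G.s G.s_over : Over.mk G.pR ⟶ Over.mk G.pU) (Over.homMk G.t G.t_over : Over.mk G.pR ⟶ Over.mk G.pU) (Over.homMk G.toQuot h : Over.mk G.pU ⟶ Over.mk m) := by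
  classical
  obtain ⟨⟨hfin, hflat, hlfp⟩, φ, hφ1, hφ2⟩ := Groth.Agent.S1877.result S G
  haveI := hfin
  haveI := hflat
  haveI := hlfp
  haveI hint : Algebra.IsIntegral G.invariants Γ(G.U, ⊤) := Groth.Agent.S1879.result S G
  haveI hsurjSpec : Surjective (Spec.map (CommRingCat.ofHom G.invariants.subtype)) := by
    constructor
    intro x
    obtain ⟨p, -, hpprime, hpq⟩ := Ideal.exists_ideal_over_prime_of_isIntegral
      (show PrimeSpectrum G.invariants from x).asIdeal (⊥ : Ideal Γ(G.U, ⊤)) (by
        intro c hc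
        rw [Ideal.mem_comap, Ideal.mem_bot] at hc
        have h0 : c = 0 := Subtype.ext hc
        rw [h0]; exact Ideal.zero_mem _)
    exact ⟨(⟨p, hpprime⟩ : PrimeSpectrum Γ(G.U, ⊤)), PrimeSpectrum.ext hpq⟩
  haveI : Surjective G.toQuot := by
    show Surjective (G.U.toSpecΓ ≫ Spec.map (CommRingCat.ofHom G.invariants.subtype))
    infer_instance
  haveI : IsRegularEpi G.toQuot := isRegularEpi_of_flat_of_surjective_of_isAffine _
  have hφt : φ.inv ≫ G.t = pullback.fst G.toQuot G.toQuot := by rw [Iso.inv_comp_eq, hφ1]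
  have hφs : φ.inv ≫ G.s = pullback.snd G.toQuot G.toQuot := by rw [Iso.inv_comp_eq, hφ2]
  have hcoeq : ∀ {Z : Scheme.{u}} (g₁ g₂ : Z ⟶ G.U), g₁ ≫ G.toQuot = g₂ ≫ G.toQuot →
      g₁ ≫ G.pU = g₂ ≫ G.pU := by
    intro Z g₁ g₂ h12
    have e1 : (pullback.lift g₁ g₂ h12 ≫ φ.inv) ≫ G.t = g₁ := by
      rw [Category.assoc, hφt, pullback.lift_fst]
    have e2 : (pullback.lift g₁ g₂ h12 ≫ φ.inv) ≫ G.s = g₂ := by
      rw [Category.assoc, hφs, pullback.lift_snd]
    calc g₁ ≫ G.pU = ((pullback.lift g₁ g₂ h12 ≫ φ.inv) ≫ G.t) ≫ G.pU := by rw [e1]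
      _ = (pullback.lift g₁ g₂ h12 ≫ φ.inv) ≫ G.pR := by rw [Category.assoc, G.t_over]
      _ = ((pullback.lift g₁ g₂ h12 ≫ φ.inv) ≫ G.s) ≫ G.pU := by
          rw [Category.assoc (pullback.lift g₁ g₂ h12 ≫ φ.inv) G.s G.pU, G.s_over]
      _ = g₂ ≫ G.pU := by rw [e2]
  obtain ⟨m, hm⟩ : ∃ m : Spec (CommRingCat.of G.invariants) ⟶ S,
      m = EffectiveEpi.desc G.toQuot G.pU (fun g₁ g₂ h => hcoeq g₁ g₂ h) := ⟨_, rfl⟩
  have hfac : G.toQuot ≫ m = G.pU := by
    rw [hm]
    exact EffectiveEpi.fac G.toQuot G.pU (fun g₁ g₂ h => hcoeq g₁ g₂ h)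
  refine ⟨m, ⟨hfac, ?_⟩, ?_⟩
  · have hpbS : IsPullback G.s G.t G.toQuot G.toQuot := by
      have h1 : IsPullback G.t G.s G.toQuot G.toQuot :=
        IsPullback.of_iso_pullback ⟨by
          rw [← hφ1, ← hφ2, Category.assoc, Category.assoc, pullback.condition]⟩ φ hφ1 hφ2
      exact h1.flip
    let q : Over.mk G.pU ⟶ Over.mk m := Over.homMk G.toQuot hfac
    have hql : q.left = G.toQuot := rfl
    have hw : (Over.homMk G.s G.s_over : Over.mk G.pR ⟶ Over.mk G.pU) ≫ q =
        (Over.homMk G.t G.t_over : Over.mk G.pR ⟶ Over.mk G.pU) ≫ q := by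
      ext
      exact hpbS.w
    have hk : IsKernelPair q
        (Over.homMk G.s G.s_over : Over.mk G.pR ⟶ Over.mk G.pU)
        (Over.homMk G.t G.t_over : Over.mk G.pR ⟶ Over.mk G.pU) :=
      IsPullback.of_map (Over.forget S) hw hpbS
    haveI : Flat q.left := by rw [hql]; exact hflat
    haveI : Surjective q.left := by rw [hql]; infer_instance
    haveI : LocallyOfFinitePresentation q.left := by rw [hql]; exact hlfp
    exact Groth.Agent.Lib.Helper40.QuotShApi.isQuotient_of_isKernelPair Scheme.fppfPrecoverage hk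
      (fun T y => Groth.Agent.Lib.Helper40.QuotShApi.liftSieve_mem_fppf q T y)
  · rintro m' ⟨h', -⟩
    haveI : Epi G.toQuot := Flat.epi_of_flat_of_surjective _
    exact (cancel_epi G.toQuot).1 (h'.trans hfac.symm)

end Groth.Agent.S7488
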