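import Groth.Statements.S7490
-- import your own Groth.Agent.* helpers here
import Groth.Agent.Lib.Helper40.QuotShApi

set_option autoImplicit false
open CategoryTheory CategoryTheory.Limits AlgebraicGeometry
universe u
open QuotSh

namespace Groth.Agent.S7490

/-- Let K be a precoverage on schemes (the topology τ), S a scheme, s, t : R -> U morphisms of schemes
over S (a pre-relation) and q : U -> M a morphism over S such that (1) q coequalizes s and t, (2)
the induced map of τ-sheaves h_U -> h_M is an epimorphism, and (3) the map h_R -> h_(U x_M U)
induced by (t, s) is an epimorphism of τ-sheaves. Then M, through q, represents the quotient sheaf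
U/R: the canonical map from the coequalizer of h_s, h_t to h_M is an isomorphism. (The published
statement takes τ to be the Zariski, étale, fppf, smooth or syntomic topology; this row allows the
topology generated by any precoverage K.) -/
theorem result (K : Precoverage Scheme.{u}) {S : Scheme.{u}} {R U M : Over S} (s t : R ⟶ U) (q : U ⟶ M) (w : s ≫ q = t ≫ q) (w' : t.left ≫ q.left = s.left ≫ q.left) (h₂ : Epi (QuotSh.repMap K q)) (h₃ : Epi (QuotSh.repMap K (Over.homMk (pullback.lift t.left s.left w') (((Category.assoc _ _ _).symm.trans (congrArg (fun k => k ≫ U.hom) (pullback.lift_fst t.left s.left w'))).trans (Over.w t)) : R ⟶ Over.mk (pullback.fst q.left q.left ≫ U.hom)))) : QuotSh.IsQuotient K s t q := by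
  classical
  rw [Groth.Agent.Lib.Helper40.QuotShApi.isQuotient_iff]
  refine ⟨w, (Groth.Agent.Lib.Helper40.QuotShApi.epi_repMap_iff K q).mp h₂, fun T a b hab => ?_⟩
  have hab' : b.left ≫ q.left = a.left ≫ q.left := by
    rw [← Over.comp_left, ← Over.comp_left, hab]
  let c : T ⟶ Over.mk (pullback.fst q.left q.left ≫ U.hom) :=
    Over.homMk (pullback.lift b.left a.left hab') (by
      simp only [Over.mk_hom]
      rw [← Category.assoc, pullback.lift_fst, Over.w])
  have hcov := (Groth.Agent.Lib.Helper40.QuotShApi.epi_repMap_iff K _).mp h₃ T c
  refine GrothendieckTopology.superset_covering _ ?_ hcov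
  rintro T' g ⟨r, hr⟩
  have hr' := congrArg (fun k => k.left) hr
  simp only [Over.comp_left, Over.homMk_left, c] at hr'
  have h1 : r.left ≫ t.left = g.left ≫ b.left := by
    have := congrArg (fun k => k ≫ pullback.fst q.left q.left) hr'
    simpa only [Category.assoc, pullback.lift_fst] using this
  have h2 : r.left ≫ s.left = g.left ≫ a.left := by
    have := congrArg (fun k => k ≫ pullback.snd q.left q.left) hr'
    simpa only [Category.assoc, pullback.lift_snd] using this
  exact Relation.EqvGen.rel _ _ ⟨r, Over.OverMorphism.ext h2, Over.OverMorphism.ext h1⟩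

end Groth.Agent.S7490
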