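import Groth.Statements.S7491
import Mathlib
import Groth.Agent.Lib.Helper21.PerfProdRed
import Groth.Agent.Lib.Helper21.FieldProdDense
import Groth.Agent.Lib.Helper21.SubGrpd
import Groth.Agent.Lib.Helper21.RedLift
import Groth.Agent.Lib.Helper21.RedSubscheme
import Groth.Agent.Lib.Helper38.GrpdClosure
-- import your own Groth.Agent.* helpers here

set_option autoImplicit false
universe u
open CategoryTheory CategoryTheory.Limits AlgebraicGeometry
open Grpd

namespace Groth.Agent.S7491

open TopologicalSpace Groth.Agent.Lib.Helper21 Groth.Agent.Lib.Helper38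

/-- Let (U, R_1, s_1, t_1, c_1) -> (U, R_2, s_2, t_2, c_2) be a morphism of groupoid schemes over S that
is an isomorphism on object schemes, where U is the spectrum of a perfect field, and let Z be the
reduced closed subscheme of R_2 supported on the closure of a(R_1), for the arrow map a : R_1 ->
R_2. Restricting s_2, t_2 and c_2 to Z makes U and Z into a groupoid scheme over S; stated as: there
are a groupoid scheme G' over S with G'.R reduced and a morphism of groupoid schemes G' -> (U, R_2,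
...) which is an isomorphism on object schemes and a closed immersion on arrow schemes with image
the closure of the image of a. (A groupoid scheme carries U, R, s, t, c, e, i over S with the
groupoid axioms on T-points; c is defined on the fibre product of s and t and sends a pair (a, b)
with s(a) = t(b) to a composed with b.) -/
theorem result (S : Scheme.{u}) (G₁ G₂ : Grpd.GroupoidScheme S) (f : Grpd.GroupoidScheme.Hom G₁ G₂) [IsIso f.fU] (k : Type u) [Field k] [PerfectField k] (eU : G₂.U ≅ Spec (CommRingCat.of k)) : ∃ (G' : Grpd.GroupoidScheme S) (ψ : Grpd.GroupoidScheme.Hom G' G₂), IsIso ψ.fU ∧ IsClosedImmersion ψ.fR ∧ IsReduced G'.R ∧ Set.range ⇑ψ.fR = closure (Set.range ⇑f.fR) := by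
  classical
  -- instances on the base
  haveI : Subsingleton (Spec (CommRingCat.of k)) :=
    inferInstanceAs (Subsingleton (PrimeSpectrum k))
  haveI hUss : Subsingleton G₂.U := eU.hom.homeomorph.subsingleton
  haveI : Nonempty G₂.U := ⟨eU.inv (IsLocalRing.closedPoint k)⟩
  haveI hUint : IsIntegral G₂.U := isIntegral_of_isOpenImmersion eU.hom
  haveI hUred : IsReduced G₂.U := inferInstance
  -- the reduced closed subscheme
  let W : Closeds G₂.R := ⟨closure (Set.range ⇑f.fR), isClosed_closure⟩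
  let ι := (Scheme.IdealSheafData.vanishingIdeal W).subschemeι
  haveI hZ : IsReduced (Scheme.IdealSheafData.vanishingIdeal W).subscheme :=
    RedSubscheme.isReduced_vanishingIdeal_subscheme W
  have hr : Set.range ⇑ι = closure (Set.range ⇑f.fR) :=
    RedSubscheme.range_subschemeι_vanishingIdeal W
  have hmem : ∀ z, ι z ∈ closure (Set.range ⇑f.fR) := fun z => hr ▸ ⟨z, rfl⟩
  -- the identity
  obtain ⟨e', he'⟩ := RedLift.exists_lift W G₂.e (by
    rintro _ ⟨u, rfl⟩
    apply subset_closure
    refine ⟨G₁.e (inv f.fU u), ?_⟩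
    rw [← Scheme.Hom.comp_apply, GrpdHom.comm_e f, ← Scheme.Hom.comp_apply, ← Category.assoc,
      IsIso.inv_hom_id, Category.id_comp])
  -- the inverse
  obtain ⟨i', hi'⟩ := RedLift.exists_lift W (ι ≫ G₂.i) (by
    rintro _ ⟨z, rfl⟩
    rw [Scheme.Hom.comp_apply]
    refine map_mem_closure G₂.i.continuous (hmem z) ?_
    rintro _ ⟨x, rfl⟩
    exact ⟨G₁.i x, by rw [← Scheme.Hom.comp_apply, GrpdClosure.comm_i f, Scheme.Hom.comp_apply]⟩)
  -- the composition
  haveI hT : IsReduced (pullback (ι ≫ G₂.s) (ι ≫ G₂.t)) :=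
    PerfProdRed.isReduced_pullback k eU _ _
  let mι : pullback (ι ≫ G₂.s) (ι ≫ G₂.t) ⟶ pullback G₂.s G₂.t :=
    pullback.map (ι ≫ G₂.s) (ι ≫ G₂.t) G₂.s G₂.t ι ι (𝟙 _)
      (by rw [Category.comp_id]) (by rw [Category.comp_id])
  have hmul : ∀ y : ↥(pullback G₂.s G₂.t),
      pullback.fst G₂.s G₂.t y ∈ closure (Set.range ⇑f.fR) →
      pullback.snd G₂.s G₂.t y ∈ closure (Set.range ⇑f.fR) →
      G₂.c y ∈ closure (Set.range ⇑f.fR) := by
    intro y h1 h2
    have hy := FieldProdDense.fst_snd_closure_subset G₂.s G₂.t f.fR f.fR ι hr ⟨h1, h2⟩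
    refine map_mem_closure G₂.c.continuous hy ?_
    -- the multiplication maps pairs of images to images
    let mm : pullback (f.fR ≫ G₂.s) (f.fR ≫ G₂.t) ⟶ pullback G₂.s G₂.t :=
      pullback.map (f.fR ≫ G₂.s) (f.fR ≫ G₂.t) G₂.s G₂.t f.fR f.fR (𝟙 _)
        (by rw [Category.comp_id]) (by rw [Category.comp_id])
    have hmm : Set.range ⇑mm = pullback.fst G₂.s G₂.t ⁻¹' Set.range ⇑f.fR ∩
        pullback.snd G₂.s G₂.t ⁻¹' Set.range ⇑f.fR :=
      Scheme.Pullback.range_map _ _ _ _ _ _ _ _ _
    rw [← hmm]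
    rintro _ ⟨w, rfl⟩
    have hcond : pullback.fst (f.fR ≫ G₂.s) (f.fR ≫ G₂.t) ≫ G₁.s =
        pullback.snd (f.fR ≫ G₂.s) (f.fR ≫ G₂.t) ≫ G₁.t := by
      rw [← cancel_mono f.fU, Category.assoc, Category.assoc, ← f.comm_s, ← f.comm_t]
      exact pullback.condition
    have hcc := f.comm_c _ _ hcond
    refine ⟨(pullback.lift _ _ hcond ≫ G₁.c) w, ?_⟩
    rw [← Scheme.Hom.comp_apply, hcc, Scheme.Hom.comp_apply]
  obtain ⟨c', hc'⟩ := RedLift.exists_lift W (mι ≫ G₂.c) (by
    rintro _ ⟨x, rfl⟩
    rw [Scheme.Hom.comp_apply]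
    apply hmul
    · rw [← Scheme.Hom.comp_apply]
      have : mι ≫ pullback.fst G₂.s G₂.t = pullback.fst _ _ ≫ ι := pullback.lift_fst _ _ _
      rw [this, Scheme.Hom.comp_apply]
      exact hmem _
    · rw [← Scheme.Hom.comp_apply]
      have : mι ≫ pullback.snd G₂.s G₂.t = pullback.snd _ _ ≫ ι := pullback.lift_snd _ _ _
      rw [this, Scheme.Hom.comp_apply]
      exact hmem _)
  refine ⟨SubGrpd.sub G₂ ι e' he' i' hi' c' hc', SubGrpd.subHom G₂ ι e' he' i' hi' c' hc',
    ?_, ?_, ?_, ?_⟩
  · show IsIso (𝟙 G₂.U)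
    infer_instance
  · show IsClosedImmersion ι
    infer_instance
  · exact hZ
  · exact hr

end Groth.Agent.S7491
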