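import Groth.Statements.S7492
import Mathlib
import Groth.Agent.Lib.Helper21.SchImDom
import Groth.Agent.Lib.Helper21.SubGrpd
import Groth.Agent.Lib.Helper38.GrpdClosure
-- import your own Groth.Agent.* helpers here

set_option autoImplicit false
universe u
open CategoryTheory CategoryTheory.Limits AlgebraicGeometry
open Grpd

namespace Groth.Agent.S7492

open Groth.Agent.Lib.Helper21 Groth.Agent.Lib.Helper38

/-- Let (U, R_1, s_1, t_1, c_1) -> (U, R_2, s_2, t_2, c_2) be a morphism of groupoid schemes over S that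
is an isomorphism on object schemes, where U is the spectrum of a field, and assume a : R_1 -> R_2
is quasi-compact. Let Z be the scheme-theoretic image of a (the closed subscheme of R_2 cut out by
the kernel ideal sheaf of a). Then (U, Z, s_2|_Z, t_2|_Z, c_2|_Z) is a groupoid scheme over S;
stated as: there are a groupoid scheme G' over S and a morphism of groupoid schemes G' -> (U, R_2,
...) which is an isomorphism on object schemes and whose arrow component is a closed immersion with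
kernel ideal sheaf equal to that of a. (A groupoid scheme carries U, R, s, t, c, e, i over S with
the groupoid axioms on T-points; c is defined on the fibre product of s and t and sends a pair (a,
b) with s(a) = t(b) to a composed with b.) -/
theorem result (S : Scheme.{u}) (G₁ G₂ : Grpd.GroupoidScheme S) (f : Grpd.GroupoidScheme.Hom G₁ G₂) [IsIso f.fU] [QuasiCompact f.fR] (k : Type u) [Field k] (eU : G₂.U ≅ Spec (CommRingCat.of k)) : ∃ (G' : Grpd.GroupoidScheme S) (ψ : Grpd.GroupoidScheme.Hom G' G₂), IsIso ψ.fU ∧ IsClosedImmersion ψ.fR ∧ ψ.fR.ker = f.fR.ker := by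
  classical
  haveI : Subsingleton (Spec (CommRingCat.of k)) :=
    inferInstanceAs (Subsingleton (PrimeSpectrum k))
  haveI hUss : Subsingleton G₂.U := eU.hom.homeomorph.subsingleton
  haveI : Nonempty G₂.U := ⟨eU.inv (IsLocalRing.closedPoint k)⟩
  haveI hUint : IsIntegral G₂.U := isIntegral_of_isOpenImmersion eU.hom
  obtain ⟨ι, hι⟩ : ∃ ι : f.fR.image ⟶ G₂.R, ι = f.fR.imageι := ⟨_, rfl⟩
  obtain ⟨a', ha'⟩ : ∃ a' : G₁.R ⟶ f.fR.image, a' = f.fR.toImage := ⟨_, rfl⟩
  haveI hcl : IsClosedImmersion ι := by rw [hι]; infer_instance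
  haveI hqc : QuasiCompact a' := by rw [ha']; infer_instance
  haveI hdom : IsSchemeTheoreticallyDominant a' := by rw [ha']; infer_instance
  have ha : a' ≫ ι = f.fR := by rw [ha', hι]; exact f.fR.toImage_imageι
  have hker : ι.ker = f.fR.ker := by
    rw [hι]; exact Scheme.IdealSheafData.ker_subschemeι _
  clear hι ha'
  -- the identity
  have he' : (inv f.fU ≫ G₁.e ≫ a') ≫ ι = G₂.e := by
    rw [Category.assoc, Category.assoc, ha, GrpdHom.comm_e f, IsIso.inv_hom_id_assoc]
  -- the inverse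
  obtain ⟨i', hi'⟩ := SchImDom.exists_lift a' (ι ≫ G₂.i) ι (G₁.i ≫ a') (by
    rw [← Category.assoc, ha, Category.assoc, ha]
    exact (GrpdClosure.comm_i f).symm)
  -- the composition
  let mι : pullback (ι ≫ G₂.s) (ι ≫ G₂.t) ⟶ pullback G₂.s G₂.t :=
    pullback.map (ι ≫ G₂.s) (ι ≫ G₂.t) G₂.s G₂.t ι ι (𝟙 _)
      (by rw [Category.comp_id]) (by rw [Category.comp_id])
  let φ : pullback (a' ≫ (ι ≫ G₂.s)) (a' ≫ (ι ≫ G₂.t)) ⟶ pullback (ι ≫ G₂.s) (ι ≫ G₂.t) :=
    pullback.map (a' ≫ (ι ≫ G₂.s)) (a' ≫ (ι ≫ G₂.t)) (ι ≫ G₂.s) (ι ≫ G₂.t) a' a' (𝟙 _)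
      (by rw [Category.comp_id]) (by rw [Category.comp_id])
  haveI hφ : IsSchemeTheoreticallyDominant φ :=
    SchImDom.dominant_map (ι ≫ G₂.s) (ι ≫ G₂.t) a' a'
  have hcond : pullback.fst (a' ≫ (ι ≫ G₂.s)) (a' ≫ (ι ≫ G₂.t)) ≫ G₁.s =
      pullback.snd (a' ≫ (ι ≫ G₂.s)) (a' ≫ (ι ≫ G₂.t)) ≫ G₁.t := by
    have hs : a' ≫ (ι ≫ G₂.s) = G₁.s ≫ f.fU := by rw [← Category.assoc, ha, f.comm_s]
    have ht : a' ≫ (ι ≫ G₂.t) = G₁.t ≫ f.fU := by rw [← Category.assoc, ha, f.comm_t]
    rw [← cancel_mono f.fU, Category.assoc, Category.assoc, ← hs, ← ht]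
    exact pullback.condition
  obtain ⟨c', hc'⟩ := SchImDom.exists_lift φ (mι ≫ G₂.c) ι
    ((pullback.lift _ _ hcond ≫ G₁.c) ≫ a') (by
    rw [Category.assoc _ a' ι, ha, f.comm_c _ _ hcond, ← Category.assoc φ mι G₂.c]
    congr 1
    apply pullback.hom_ext
    · simp only [φ, mι, pullback.map, Category.assoc, pullback.lift_fst, pullback.lift_fst_assoc,
        ha]
    · simp only [φ, mι, pullback.map, Category.assoc, pullback.lift_snd, pullback.lift_snd_assoc,
        ha])
  refine ⟨SubGrpd.sub G₂ ι _ he' i' hi' c' hc', SubGrpd.subHom G₂ ι _ he' i' hi' c' hc',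
    ?_, ?_, ?_⟩
  · show IsIso (𝟙 G₂.U)
    infer_instance
  · show IsClosedImmersion ι
    infer_instance
  · exact hker

end Groth.Agent.S7492
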