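import Groth.Statements.S7493
import Mathlib
import Groth.Agent.Lib.Helper21.AlgClosedAut
-- import your own Groth.Agent.* helpers here

set_option autoImplicit false
universe u
open CategoryTheory CategoryTheory.Limits AlgebraicGeometry
open Grpd

namespace Groth.Agent.S7493

/-- Let (U, R, s, t, c) be a groupoid scheme over S with U = Spec k for a field k, and let r be a point
of R. Then there exist a field extension k -> k' with k' algebraically closed and a point r' of the
restriction R' of R along g : U' = Spec k' -> U, that is R' = (U' x_(g,U,t) R) x_(s pr, U, g) U'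
with t' the projection to the first factor U' and s' the projection to the last factor U', such that
r' maps to r under R' -> R and both s' and t' induce isomorphisms on residue fields at r' (k' ->
κ(r') bijective). (A groupoid scheme carries U, R, s, t, c, e, i over S with the groupoid axioms on
T-points; c is defined on the fibre product of s and t and sends a pair (a, b) with s(a) = t(b) to a
composed with b.) -/
theorem result (S : Scheme.{u}) (G : Grpd.GroupoidScheme S) (k : Type u) [Field k] (eU : G.U ≅ Spec (CommRingCat.of k)) (r : G.R) : ∃ (k' : Type u) (_ : Field k') (_ : IsAlgClosed k') (_ : Algebra k k'), ∃ r' : ↑(pullback (pullback.snd (Spec.map (CommRingCat.ofHom (algebraMap k k')) ≫ eU.inv) G.t ≫ G.s) (Spec.map (CommRingCat.ofHom (algebraMap k k')) ≫ eU.inv)), (pullback.fst (pullback.snd (Spec.map (CommRingCat.ofHom (algebraMap k k')) ≫ eU.inv) G.t ≫ G.s) (Spec.map (CommRingCat.ofHom (algebraMap k k')) ≫ eU.inv) ≫ pullback.snd (Spec.map (CommRingCat.ofHom (algebraMap k k')) ≫ eU.inv) G.t) r' = r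 ∧ IsIso ((pullback.snd (pullback.snd (Spec.map (CommRingCat.ofHom (algebraMap k k')) ≫ eU.inv) G.t ≫ G.s) (Spec.map (CommRingCat.ofHom (algebraMap k k')) ≫ eU.inv)).residueFieldMap r') ∧ IsIso ((pullback.fst (pullback.snd (Spec.map (CommRingCat.ofHom (algebraMap k k')) ≫ eU.inv) G.t ≫ G.s) (Spec.map (CommRingCat.ofHom (algebraMap k k')) ≫ eU.inv) ≫ pullback.fst (Spec.map (CommRingCat.ofHom (algebraMap k k')) ≫ eU.inv) G.t).residueFieldMap r') := by
  classical
  -- residue field at r and the two field homs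
  let K : Type u := G.R.residueField r
  let φ : Spec (G.R.residueField r) ⟶ G.R := G.R.fromSpecResidueField r
  let αs : Spec (CommRingCat.of K) ⟶ Spec (CommRingCat.of k) := φ ≫ G.t ≫ eU.hom
  let βs : Spec (CommRingCat.of K) ⟶ Spec (CommRingCat.of k) := φ ≫ G.s ≫ eU.hom
  let α : k →+* K := (Spec.preimage αs).hom
  let β : k →+* K := (Spec.preimage βs).hom
  have hα : Spec.map (CommRingCat.ofHom α) = αs := Spec.map_preimage αs
  have hβ : Spec.map (CommRingCat.ofHom β) = βs := Spec.map_preimage βs
  obtain ⟨k', fk', ack', ι, τ, hτ⟩ :=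
    Groth.Agent.Lib.Helper21.AlgClosedAut.exists_algClosed_aut α β
  letI := fk'
  letI := ack'
  letI algk : Algebra k k' := (ι.comp α).toAlgebra
  refine ⟨k', fk', ack', algk, ?_⟩
  have halg : (algebraMap k k') = ι.comp α := rfl
  -- the key morphisms
  let ρR : Spec (CommRingCat.of k') ⟶ G.R := Spec.map (CommRingCat.ofHom ι) ≫ φ
  have hg' : Spec.map (CommRingCat.ofHom (algebraMap k k')) ≫ eU.inv = ρR ≫ G.t := by
    rw [halg]
    have : CommRingCat.ofHom (ι.comp α) = CommRingCat.ofHom α ≫ CommRingCat.ofHom ι := rfl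
    rw [this, Spec.map_comp, hα]
    simp [αs, ρR]
  let x₂ : Spec (CommRingCat.of k') ⟶ Spec (CommRingCat.of k') :=
    Spec.map (CommRingCat.ofHom τ.toRingHom)
  have hx₂ : IsIso x₂ := by
    have : IsIso (CommRingCat.ofHom τ.toRingHom) :=
      (inferInstance : IsIso (τ.toCommRingCatIso).hom)
    infer_instance
  have hs : ρR ≫ G.s = x₂ ≫ Spec.map (CommRingCat.ofHom (algebraMap k k')) ≫ eU.inv := by
    rw [halg]
    have e1 : x₂ ≫ Spec.map (CommRingCat.ofHom (ι.comp α)) =
        Spec.map (CommRingCat.ofHom (ι.comp β)) := by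
      rw [← Spec.map_comp]
      congr 1
      ext x
      exact hτ x
    rw [← Category.assoc, e1]
    have : CommRingCat.ofHom (ι.comp β) = CommRingCat.ofHom β ≫ CommRingCat.ofHom ι := rfl
    rw [this, Spec.map_comp, hβ]
    simp [βs, ρR]
  have h1 : 𝟙 (Spec (CommRingCat.of k')) ≫
      (Spec.map (CommRingCat.ofHom (algebraMap k k')) ≫ eU.inv) = ρR ≫ G.t := by
    rw [Category.id_comp, hg']
  let ρA : Spec (CommRingCat.of k') ⟶
      pullback (Spec.map (CommRingCat.ofHom (algebraMap k k')) ≫ eU.inv) G.t :=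
    pullback.lift (𝟙 _) ρR h1
  have h2 : ρA ≫ (pullback.snd (Spec.map (CommRingCat.ofHom (algebraMap k k')) ≫ eU.inv) G.t ≫ G.s)
      = x₂ ≫ (Spec.map (CommRingCat.ofHom (algebraMap k k')) ≫ eU.inv) := by
    rw [← Category.assoc, pullback.lift_snd, hs]
  let ρ : Spec (CommRingCat.of k') ⟶
      pullback (pullback.snd (Spec.map (CommRingCat.ofHom (algebraMap k k')) ≫ eU.inv) G.t ≫ G.s)
        (Spec.map (CommRingCat.ofHom (algebraMap k k')) ≫ eU.inv) :=
    pullback.lift ρA x₂ h2
  let pt : Spec (CommRingCat.of k') := IsLocalRing.closedPoint k'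
  have hρ0 : ρ ≫ pullback.fst _ _ = ρA := pullback.lift_fst _ _ _
  have hρ1 : ρ ≫ pullback.fst _ _ ≫ pullback.snd _ _ = ρR := by
    rw [← Category.assoc, hρ0]; exact pullback.lift_snd _ _ _
  have hρ2 : ρ ≫ pullback.snd _ _ = x₂ := pullback.lift_snd _ _ _
  have hρ3 : ρ ≫ pullback.fst _ _ ≫ pullback.fst _ _ = 𝟙 _ := by
    rw [← Category.assoc, hρ0]; exact pullback.lift_fst _ _ _
  -- general principle
  have key : ∀ (pr : pullback (pullback.snd (Spec.map (CommRingCat.ofHom (algebraMap k k')) ≫ eU.inv) G.t ≫ G.s)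
        (Spec.map (CommRingCat.ofHom (algebraMap k k')) ≫ eU.inv) ⟶ Spec (CommRingCat.of k')),
      IsIso (ρ ≫ pr) → IsIso (pr.residueFieldMap (ρ pt)) := by
    intro pr hpr
    have hc := Scheme.residueFieldMap_comp ρ pr pt
    have hi : IsIso (pr.residueFieldMap (ρ pt) ≫ ρ.residueFieldMap pt) := by
      have : IsIso ((ρ ≫ pr).residueFieldMap pt) := inferInstance
      rw [hc] at this
      exact this
    have hm : Mono (ρ.residueFieldMap pt) := by
      apply ConcreteCategory.mono_of_injective
      exact (ρ.residueFieldMap pt).hom.injective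
    obtain ⟨w, hw1, hw2⟩ := hi.out
    refine ⟨ρ.residueFieldMap pt ≫ w, ?_, ?_⟩
    · simpa only [Category.assoc] using hw1
    · rw [← cancel_mono (ρ.residueFieldMap pt)]
      simp only [Category.assoc, Category.id_comp]
      simp only [Category.assoc] at hw2
      rw [hw2, Category.comp_id]
  refine ⟨ρ pt, ?_, ?_, ?_⟩
  · rw [← Scheme.Hom.comp_apply, hρ1]
    show φ (Spec.map (CommRingCat.ofHom ι) pt) = r
    have : Spec.map (CommRingCat.ofHom ι) pt = IsLocalRing.closedPoint _ := Subsingleton.elim _ _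
    rw [this]
    exact Scheme.fromSpecResidueField_apply _ _
  · apply key
    rw [hρ2]; exact hx₂
  · apply key
    rw [hρ3]; infer_instance

end Groth.Agent.S7493
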