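import Groth.Statements.S7494
-- import your own Groth.Agent.* helpers here
import Groth.Prelude.Def_ChGrp

set_option autoImplicit false
universe u
open CategoryTheory MonoidalCategory CartesianMonoidalCategory MonObj GrpObj AlgebraicGeometry
open AlgGrp

namespace Groth.Agent.S7494

/-- Let G be a group scheme over S acting on a scheme X over S by a. The action is free, meaning that
for every scheme T over S and all T-points g of G and x of X with g · x = x one has g = 1, if and
only if the morphism G x_S X -> X x_S X, (g, x) ↦ (a(g, x), x), is a monomorphism of schemes. -/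
theorem result {S : Scheme.{u}} (G X : Over S) [GrpObj G] (a : AlgGrp.Action G X) : (∀ (T : Over S) (g : T ⟶ G) (x : T ⟶ X), lift g x ≫ a.act = x → g = toUnit T ≫ η[G]) ↔ Mono (lift a.act (snd G X)).left := by
  constructor
  · intro hfree
    suffices h : Mono (lift a.act (snd G X)) by
      exact (Over.forget S).map_mono (lift a.act (snd G X))
    refine ⟨fun {T} p q hpq => ?_⟩
    have hp : p = lift (p ≫ fst G X) (p ≫ snd G X) := by
      apply CartesianMonoidalCategory.hom_ext <;> simp
    have hq : q = lift (q ≫ fst G X) (q ≫ snd G X) := by
      apply CartesianMonoidalCategory.hom_ext <;> simp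
    have h1 : p ≫ snd G X = q ≫ snd G X := by
      have := congrArg (fun k => k ≫ snd X X) hpq
      simpa using this
    have h2 : p ≫ a.act = q ≫ a.act := by
      have := congrArg (fun k => k ≫ fst X X) hpq
      simpa using this
    set g := p ≫ fst G X
    set g' := q ≫ fst G X
    set x := p ≫ snd G X
    rw [hp, hq, ← h1] at h2
    -- g • x = g' • x
    have h3 : lift (g'⁻¹ * g) x ≫ a.act = x := by
      rw [AlgGrp.Action.lift_mul_act, h2, ← AlgGrp.Action.lift_mul_act, inv_mul_cancel,
        AlgGrp.Action.lift_one_act]
    have h4 := hfree T _ _ h3
    rw [← Hom.one_def] at h4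
    have h5 : g = g' := by
      have := congrArg (fun k => g' * k) h4
      simpa using this
    rw [hp, hq, ← h1, h5]
  · intro hmono T g x hgx
    have hm : Mono (lift a.act (snd G X)) :=
      (Over.forget S).mono_of_mono_map hmono
    have h1 : lift g x ≫ lift a.act (snd G X) = lift (1 : T ⟶ G) x ≫ lift a.act (snd G X) := by
      apply CartesianMonoidalCategory.hom_ext
      · simp only [Category.assoc, lift_fst]
        rw [hgx, AlgGrp.Action.lift_one_act]
      · simp
    have h2 := (cancel_mono _).mp h1
    have := congrArg (fun k => k ≫ fst G X) h2
    simpa [Hom.one_def] using this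

end Groth.Agent.S7494
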