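import Groth.Statements.S7496
import Mathlib
-- import your own Groth.Agent.* helpers here

set_option autoImplicit false
universe w u
open CategoryTheory CategoryTheory.Limits AlgebraicGeometry
open HTop

namespace Groth.Agent.S7496
open CategoryTheory AlgebraicGeometry Limits TopologicalSpace Topology Opposite


/-- Let T be a quasi-separated scheme and {f_i : T_i -> T} a family of morphisms. Then every affine open
of T is the union of the images of finitely many quasi-compact opens of the T_i (the
quasi-compactness condition in the definition of an fpqc covering) if and only if for every point t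
of T there are finitely many quasi-compact opens U_j of members T_(i_j) such that the union of the
f_(i_j)(U_j) is a neighbourhood of t. (The published statement also asks every f_i to be flat, on
both sides, and lists two more equivalent forms of the quasi-compactness condition; this row omits
flatness, which plays no part in the equivalence, and states only the equivalence of the
quasi-compactness condition with the neighbourhood condition.) -/
theorem result {T : Scheme.{u}} [QuasiSeparatedSpace T] (E : PreZeroHypercover.{w} T) : QuasiCompactCover E ↔ ∀ t : T, ∃ (n : ℕ) (i : Fin n → E.I₀) (V : ∀ j, (E.X (i j)).Opens), (∀ j, IsCompact (V j : Set (E.X (i j)))) ∧ (⋃ j, ⇑(E.f (i j)) '' (V j : Set (E.X (i j)))) ∈ nhds t := by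
  constructor
  · intro hE t
    obtain ⟨U, hU, htU, -⟩ := exists_isAffineOpen_mem_and_subset (x := t) (U := ⊤) trivial
    obtain ⟨s, hs, V, hVc, hVU⟩ := hE.isCompactOpenCovered_of_isAffineOpen hU
    haveI : Finite s := hs.to_subtype
    obtain ⟨n, ⟨e⟩⟩ := Finite.exists_equiv_fin s
    refine ⟨n, fun j => (e.symm j).1, fun j => V (e.symm j).1 (e.symm j).2,
      fun j => hVc _ _, ?_⟩
    have heq : (⋃ j, ⇑(E.f ((e.symm j).1)) '' (V (e.symm j).1 (e.symm j).2 : Set _)) = U := by
      rw [← hVU]
      ext x
      simp only [Set.mem_iUnion]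
      constructor
      · rintro ⟨j, hj⟩
        exact ⟨(e.symm j).1, (e.symm j).2, hj⟩
      · rintro ⟨i, hi, hx⟩
        obtain ⟨j, hj⟩ := e.symm.surjective ⟨i, hi⟩
        refine ⟨j, ?_⟩
        rw [hj]
        exact hx
    rw [heq]
    exact U.2.mem_nhds htU
  · intro h
    constructor
    intro U hU
    apply IsCompactOpenCovered.of_isCompact_of_forall_exists_isCompactOpenCovered hU.isCompact
    intro x hxU
    obtain ⟨n, i, V, hVc, hN⟩ := h x
    -- open nbhd inside U ∩ interior N
    have hopen : IsOpen ((U : Set T) ∩ interior (⋃ j, ⇑(E.f (i j)) '' (V j : Set (E.X (i j))))) :=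
      U.2.inter isOpen_interior
    have hxmem : x ∈ (U : Set T) ∩ interior (⋃ j, ⇑(E.f (i j)) '' (V j : Set (E.X (i j)))) :=
      ⟨hxU, mem_interior_iff_mem_nhds.mpr hN⟩
    obtain ⟨W, hW, hxW, hWsub⟩ := exists_isAffineOpen_mem_and_subset (x := x)
      (U := ⟨_, hopen⟩) hxmem
    refine ⟨W, fun y hy => (hWsub hy).1, hxW, W.2, ?_⟩
    -- compact opens V_j ∩ f_j⁻¹ W
    have hcomp : ∀ j, IsCompact ((V j ⊓ (E.f (i j)) ⁻¹ᵁ W : (E.X (i j)).Opens) : Set (E.X (i j))) := by
      intro j
      haveI : CompactSpace (V j) := isCompact_iff_compactSpace.mp (hVc j)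
      haveI : CompactSpace ((V j : Scheme.{u})) := ‹CompactSpace (V j)›
      haveI : QuasiCompact ((V j).ι ≫ E.f (i j)) := quasiCompact_of_compactSpace _
      have h1 : IsCompact (((V j).ι ≫ E.f (i j)) ⁻¹ᵁ W : Set (V j : Scheme.{u})) :=
        QuasiCompact.isCompact_preimage (f := (V j).ι ≫ E.f (i j)) _ W.2 hW.isCompact
      have h2 := h1.image (V j).ι.continuous
      convert h2 using 1
      ext y
      simp only [Opens.coe_inf, Set.mem_inter_iff, Set.mem_image]
      constructor
      · rintro ⟨hy1, hy2⟩
        exact ⟨⟨y, hy1⟩, hy2, rfl⟩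
      · rintro ⟨z, hz, rfl⟩
        exact ⟨z.2, hz⟩
    refine IsCompactOpenCovered.of_finite (κ := Fin n) i
      (fun j => V j ⊓ (E.f (i j)) ⁻¹ᵁ W) hcomp ?_
    ext y
    simp only [Set.mem_iUnion, Set.mem_image]
    constructor
    · rintro ⟨j, z, ⟨-, hz⟩, rfl⟩
      exact hz
    · intro hy
      have := interior_subset (hWsub hy).2
      obtain ⟨j, z, hz, rfl⟩ := Set.mem_iUnion.mp this
      exact ⟨j, z, ⟨hz, hy⟩, rfl⟩

end Groth.Agent.S7496
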