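import Groth.Statements.S7497
import Mathlib
-- import your own Groth.Agent.* helpers here

set_option autoImplicit false
universe u
open CategoryTheory CategoryTheory.Limits AlgebraicGeometry
open HTop

namespace Groth.Agent.S7497
open CategoryTheory AlgebraicGeometry Limits TopologicalSpace Topology Opposite


/-- Let {f_i : T_i -> T} be a family of flat morphisms of schemes and {g_j : S_j -> T} an fpqc covering
such that for every j the family of base changes {S_j x_T T_i -> S_j} is an fpqc covering. Then {f_i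
: T_i -> T} is an fpqc covering. (fpqc coverings are Mathlib's: flat, jointly surjective, every
affine open of the target covered by images of finitely many quasi-compact opens.) -/
theorem result {T : Scheme.{u}} (E : PreZeroHypercover.{u} T) (hflat : ∀ i, Flat (E.f i)) (𝒱 : Scheme.Cover Scheme.fpqcPrecoverage T) (hloc : ∀ j, (E.pullback₁ (𝒱.f j)).presieve₀ ∈ Scheme.fpqcPrecoverage (𝒱.X j)) : E.presieve₀ ∈ Scheme.fpqcPrecoverage T := by
  let F : ∀ j, Precoverage.ZeroHypercover Scheme.fpqcPrecoverage (𝒱.X j) := fun j =>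
    { toPreZeroHypercover := E.pullback₁ (𝒱.f j), mem₀ := hloc j }
  let 𝒲 := Precoverage.ZeroHypercover.bind 𝒱 F
  have hW := 𝒲.mem₀
  have hWqc : QuasiCompactCover 𝒲.toPreZeroHypercover :=
    Scheme.presieve₀_mem_qcPrecoverage_iff.mp hW.1
  have hWsurj := (Scheme.presieve₀_mem_precoverage_iff _).mp hW.2
  let φ : 𝒲.toPreZeroHypercover.Hom E :=
    { s₀ := fun ji => ji.2
      h₀ := fun ji => pullback.snd (𝒱.f ji.1) (E.f ji.2)
      w₀ := fun ji => (pullback.condition).symm }
  refine ⟨Scheme.presieve₀_mem_qcPrecoverage_iff.mpr (QuasiCompactCover.of_hom φ), ?_⟩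
  rw [Scheme.presieve₀_mem_precoverage_iff]
  refine ⟨fun t => ?_, hflat⟩
  obtain ⟨⟨j, i⟩, z, hz⟩ := hWsurj.1 t
  refine ⟨i, pullback.snd (𝒱.f j) (E.f i) z, ?_⟩
  rw [← hz]
  change (pullback.snd (𝒱.f j) (E.f i) ≫ E.f i) z = (pullback.fst (𝒱.f j) (E.f i) ≫ 𝒱.f j) z
  rw [pullback.condition]

end Groth.Agent.S7497
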