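import Groth.Statements.S7502
import Groth.Agent.Lib.QCoh.Helper50_FpqcReflect
import Groth.Agent.Lib.QCoh.Helper50_FpqcDescent
import Groth.Agent.Lib.QCoh.Helper50_Products
import Groth.Agent.Lib.QCoh.Helper43_PushQcqs
import Groth.Agent.Lib.QCoh.CohKernel

set_option autoImplicit false
universe u
open CategoryTheory CategoryTheory.Limits AlgebraicGeometry
open Coh

namespace Groth.Agent.S7502

/-- Let f : Y -> X be a morphism of schemes which is quasi-compact, quasi-separated, flat and
surjective, with X and Y locally Noetherian. Let F be a quasi-coherent O_X-module, G a coherent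
O_Y-module and φ : G -> f^*F an injective map of O_Y-modules. Then the O_X-module F ∩ f_*G, defined
as the fibre product of the adjunction unit F -> f_*f^*F with f_*φ : f_*G -> f_*f^*F, is coherent.
('Coherent' is quasi-coherent of finite type, the usual notion on locally Noetherian schemes.) -/
theorem result {X Y : Scheme.{u}} (f : Y ⟶ X) [QuasiCompact f] [QuasiSeparated f] [Flat f] [Surjective f] [IsLocallyNoetherian X] [IsLocallyNoetherian Y] (F : X.Modules) (hF : Coh.IsQCoh F) (G : Y.Modules) (hG : Coh.IsCoh G) (φ : G ⟶ (Scheme.Modules.pullback f).obj F) [Mono φ] : Coh.IsCoh (Limits.pullback ((Scheme.Modules.pullbackPushforwardAdjunction f).unit.app F) ((Scheme.Modules.pushforward f).map φ)) := by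
  let adj := Scheme.Modules.pullbackPushforwardAdjunction f
  let η : F ⟶ (Scheme.Modules.pushforward f).obj ((Scheme.Modules.pullback f).obj F) :=
    adj.unit.app F
  let ψ : (Scheme.Modules.pushforward f).obj G ⟶
      (Scheme.Modules.pushforward f).obj ((Scheme.Modules.pullback f).obj F) :=
    (Scheme.Modules.pushforward f).map φ
  have hFq : F.IsQuasicoherent := hF
  have hGq : G.IsQuasicoherent := hG.1
  have h1 : ((Scheme.Modules.pushforward f).obj G).IsQuasicoherent :=
    Groth.Agent.Lib.QCoh.isQuasicoherent_pushforward_of_qcqs f G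
  have h2 : ((Scheme.Modules.pullback f).obj F).IsQuasicoherent :=
    Groth.Agent.Lib.QCoh.isQuasicoherent_pullback f F
  have h3 : ((Scheme.Modules.pushforward f).obj ((Scheme.Modules.pullback f).obj F)).IsQuasicoherent :=
    Groth.Agent.Lib.QCoh.isQuasicoherent_pushforward_of_qcqs f _
  have hPq : (Limits.pullback η ψ).IsQuasicoherent :=
    Groth.Agent.Lib.QCoh.isQuasicoherent_pullback_of_isQuasicoherent η ψ
  refine ⟨hPq, ?_⟩
  -- descend finite type along `f`
  apply Groth.Agent.Lib.QCoh.isFiniteType_of_pullback f
  have hPq' : ((Scheme.Modules.pullback f).obj (Limits.pullback η ψ)).IsQuasicoherent :=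
    Groth.Agent.Lib.QCoh.isQuasicoherent_pullback f _
  -- `ψ` is a monomorphism, hence so is the first projection
  have hψ : Mono ψ := inferInstance
  have hp1 : Mono (Limits.pullback.fst η ψ) := inferInstance
  have hfp1 : Mono ((Scheme.Modules.pullback f).map (Limits.pullback.fst η ψ)) :=
    Groth.Agent.Lib.QCoh.mono_pullback_map_of_flat f _
  let m : (Scheme.Modules.pullback f).obj (Limits.pullback η ψ) ⟶ G :=
    (Scheme.Modules.pullback f).map (Limits.pullback.snd η ψ) ≫ adj.counit.app G
  have hm : m ≫ φ = (Scheme.Modules.pullback f).map (Limits.pullback.fst η ψ) := by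
    have hnat : adj.counit.app G ≫ φ =
        (Scheme.Modules.pullback f).map ((Scheme.Modules.pushforward f).map φ) ≫
          adj.counit.app ((Scheme.Modules.pullback f).obj F) :=
      (adj.counit.naturality φ).symm
    have htri : (Scheme.Modules.pullback f).map (adj.unit.app F) ≫
        adj.counit.app ((Scheme.Modules.pullback f).obj F) = 𝟙 _ :=
      adj.left_triangle_components F
    calc m ≫ φ = (Scheme.Modules.pullback f).map (Limits.pullback.snd η ψ) ≫
          (adj.counit.app G ≫ φ) := by rw [Category.assoc]
      _ = (Scheme.Modules.pullback f).map (Limits.pullback.snd η ψ ≫ ψ) ≫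
          adj.counit.app ((Scheme.Modules.pullback f).obj F) := by
        rw [hnat, ← Category.assoc, ← Functor.map_comp]
      _ = (Scheme.Modules.pullback f).map (Limits.pullback.fst η ψ ≫ η) ≫
          adj.counit.app ((Scheme.Modules.pullback f).obj F) := by
        rw [Limits.pullback.condition]
      _ = (Scheme.Modules.pullback f).map (Limits.pullback.fst η ψ) := by
        rw [Functor.map_comp, Category.assoc, htri]
        exact Category.comp_id _
  have hmono : Mono m := by
    have : Mono (m ≫ φ) := by rw [hm]; exact hfp1
    exact mono_of_mono m φ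
  exact (Groth.Agent.Lib.QCoh.isCoh_of_mono m hG hPq').2

end Groth.Agent.S7502
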