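import Groth.Statements.S7503
import Mathlib
import Groth.Agent.S7491
import Groth.Agent.Lib.Helper38.PairGrpd
-- import your own Groth.Agent.* helpers here

set_option autoImplicit false
universe u
open CategoryTheory CategoryTheory.Limits AlgebraicGeometry
open Grpd

namespace Groth.Agent.S7503

open Groth.Agent.Lib.Helper38

/-- Let (U, R, s, t, c) be a groupoid scheme over S with U the spectrum of a perfect field and let Z be
the reduced closed subscheme of U x_S U whose underlying set is the closure of the image of j = (t,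
s). Then (U, Z, pr_0|_Z, pr_1|_Z, pr_02) is a groupoid scheme over S; stated as: there are a
groupoid scheme G' over S with G'.R reduced and an isomorphism of schemes over S from G'.U to U such
that j' = (t', s') : G'.R -> G'.U x_S G'.U is a closed immersion and the image of j' followed by the
induced isomorphism G'.U x_S G'.U -> U x_S U is the closure of the image of j. (No morphism from (U,
R, s, t, c) to G' is asserted: when R is not reduced, j need not factor through the reduced
subscheme Z.) (A groupoid scheme carries U, R, s, t, c, e, i over S with the groupoid axioms on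
T-points; c is defined on the fibre product of s and t and sends a pair (a, b) with s(a) = t(b) to a
composed with b.) -/
theorem result (S : Scheme.{u}) (G : Grpd.GroupoidScheme S) (k : Type u) [Field k] [PerfectField k] (eU : G.U ≅ Spec (CommRingCat.of k)) : ∃ (G' : Grpd.GroupoidScheme S) (ψ : G'.U ≅ G.U) (hψ : ψ.hom ≫ G.pU = G'.pU), IsReduced G'.R ∧ IsClosedImmersion G'.j ∧ Set.range ⇑(G'.j ≫ pullback.map G'.pU G'.pU G.pU G.pU ψ.hom ψ.hom (𝟙 S) ((Category.comp_id _).trans hψ.symm) ((Category.comp_id _).trans hψ.symm)) = closure (Set.range ⇑G.j) := by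
  haveI : IsIso (PairGrpd.jHom G).fU := inferInstanceAs (IsIso (𝟙 G.U))
  obtain ⟨G', ψ, hψU, hψR, hred, hrange⟩ :=
    Groth.Agent.S7491.result S G (PairGrpd.pair G) (PairGrpd.jHom G) k eU
  obtain ⟨φU, hφU⟩ : ∃ φU : G'.U ⟶ G.U, φU = ψ.fU := ⟨_, rfl⟩
  obtain ⟨φR, hφR⟩ : ∃ φR : G'.R ⟶ pullback G.pU G.pU, φR = ψ.fR := ⟨_, rfl⟩
  haveI hiso : IsIso φU := by rw [hφU]; exact hψU
  haveI hci : IsClosedImmersion φR := by rw [hφR]; exact hψR
  have hover : φU ≫ G.pU = G'.pU := by rw [hφU]; exact ψ.fU_over
  have hct : φR ≫ pullback.fst G.pU G.pU = G'.t ≫ φU := by rw [hφU, hφR]; exact ψ.comm_t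
  have hcs : φR ≫ pullback.snd G.pU G.pU = G'.s ≫ φU := by rw [hφU, hφR]; exact ψ.comm_s
  have hrange' : Set.range ⇑φR = closure (Set.range ⇑G.j) := by rw [hφR]; exact hrange
  clear hφU hφR hrange hψU hψR
  let m : pullback G'.pU G'.pU ⟶ pullback G.pU G.pU :=
    pullback.map G'.pU G'.pU G.pU G.pU φU φU (𝟙 S)
      ((Category.comp_id _).trans hover.symm) ((Category.comp_id _).trans hover.symm)
  haveI hm : IsIso m := by dsimp only [m]; infer_instance
  have hj : G'.j ≫ m = φR := by
    apply pullback.hom_ext
    · have h1 : G'.j ≫ pullback.fst G'.pU G'.pU = G'.t := pullback.lift_fst _ _ _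
      have h2 : m ≫ pullback.fst G.pU G.pU = pullback.fst G'.pU G'.pU ≫ φU :=
        pullback.lift_fst _ _ _
      rw [Category.assoc, h2, ← Category.assoc, h1, hct]
    · have h1 : G'.j ≫ pullback.snd G'.pU G'.pU = G'.s := pullback.lift_snd _ _ _
      have h2 : m ≫ pullback.snd G.pU G.pU = pullback.snd G'.pU G'.pU ≫ φU :=
        pullback.lift_snd _ _ _
      rw [Category.assoc, h2, ← Category.assoc, h1, hcs]
  refine ⟨G', asIso φU, hover, hred, ?_, ?_⟩
  · have : G'.j = φR ≫ inv m := by rw [← hj, Category.assoc, IsIso.hom_inv_id, Category.comp_id]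
    rw [this]
    infer_instance
  · show Set.range ⇑(G'.j ≫ m) = _
    rw [hj, hrange']

end Groth.Agent.S7503
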