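import Groth.Statements.S7505
import Groth.Agent.Lib.Helper38.MaxOpenK
import Groth.Agent.Lib.Helper38.StabConj

set_option autoImplicit false
universe u
open CategoryTheory CategoryTheory.Limits AlgebraicGeometry
open Grpd

namespace Groth.Agent.S7505

/-- Let (U, R, s, t, c) be a groupoid scheme over S with stabilizer group scheme G -> U, let τ be the
étale, smooth or fppf topology (given as the corresponding precoverage K), and let P be a property
of scheme morphisms that is τ-local on the target. (The published statement also allows the syntomic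
topology; this row omits it.) Assume {s : R -> U} and {t : R -> U} are τ-coverings. If W is the
largest open subscheme of U such that the restriction G_W -> W of the stabilizer has P, then W is
R-invariant: s^{-1}(W) = t^{-1}(W). (A groupoid scheme carries U, R, s, t, c, e, i over S with the
groupoid axioms on T-points; c is defined on the fibre product of s and t and sends a pair (a, b)
with s(a) = t(b) to a composed with b.) -/
theorem result (S : Scheme.{u}) (G : Grpd.GroupoidScheme S) (K : Precoverage Scheme.{u}) (hK : K = Scheme.etalePrecoverage ∨ K = Scheme.precoverage @Smooth ∨ K = Scheme.fppfPrecoverage) (P : MorphismProperty Scheme.{u}) [P.IsLocalAtTarget K] (hs : Presieve.singleton G.s ∈ K G.U) (ht : Presieve.singleton G.t ∈ K G.U) (W : G.U.Opens) (hW : P (G.stabilizerToU ∣_ W)) (hmax : ∀ W' : G.U.Opens, P (G.stabilizerToU ∣_ W') → W' ≤ W) : G.s ⁻¹ᵁ W = G.t ⁻¹ᵁ W := by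

  have sq₁ : IsPullback (pullback.fst G.stabilizerToU G.s) (pullback.snd G.stabilizerToU G.s)
      G.stabilizerToU G.s := IsPullback.of_hasPullback G.stabilizerToU G.s
  have sq₂ : IsPullback (Groth.Agent.Lib.Helper38.StabConj.conjMap G)
      (pullback.snd G.stabilizerToU G.s) G.stabilizerToU G.t :=
    Groth.Agent.Lib.Helper38.StabConj.isPullback_conjMap G
  have key : ∀ (Q : MorphismProperty Scheme.{u}) [Q.IsStableUnderBaseChange] [Q.IsStableUnderComposition]
      [Q.ContainsIdentities] [P.IsLocalAtTarget (Scheme.precoverage Q)]
      (_ : ∀ {A B : Scheme.{u}} (i : A ⟶ B), IsOpenImmersion i → Q i)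
      (_ : ∀ {A B : Scheme.{u}} (g : A ⟶ B), Q g → IsOpenMap g.base)
      (_ : Presieve.singleton G.s ∈ Scheme.precoverage Q G.U)
      (_ : Presieve.singleton G.t ∈ Scheme.precoverage Q G.U), G.s ⁻¹ᵁ W = G.t ⁻¹ᵁ W := by
    intro Q _ _ _ _ hOI hopen hs ht
    rw [← Presieve.ofArrows_pUnit.{0}, Scheme.ofArrows_mem_precoverage_iff] at hs ht
    exact Groth.Agent.Lib.Helper38.MaxOpenK.preimage_eq_preimage Q P hOI hopen sq₁ sq₂
      (hs.2 ⟨⟩) (ht.2 ⟨⟩) W hW hmax
  rcases hK with rfl | rfl | rfl
  · have : P.IsLocalAtTarget (Scheme.precoverage @Etale) :=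
      inferInstanceAs (P.IsLocalAtTarget Scheme.etalePrecoverage)
    exact key @Etale (fun i hi => by have : IsOpenImmersion i := hi; exact (inferInstance : Etale i))
      (fun g hg => by have : Etale g := hg; exact g.isOpenMap) hs ht
  · have : MorphismProperty.ContainsIdentities (@Smooth : MorphismProperty Scheme.{u}) :=
      ⟨fun X => (inferInstance : Smooth (𝟙 X))⟩
    exact key @Smooth (fun i hi => by have : IsOpenImmersion i := hi; exact (inferInstance : Smooth i))
      (fun g hg => by have : Smooth g := hg; exact g.isOpenMap) hs ht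
  · have : P.IsLocalAtTarget (Scheme.precoverage (@Flat ⊓ @LocallyOfFinitePresentation)) :=
      inferInstanceAs (P.IsLocalAtTarget Scheme.fppfPrecoverage)
    have : MorphismProperty.ContainsIdentities
        (@Flat ⊓ @LocallyOfFinitePresentation : MorphismProperty Scheme.{u}) :=
      ⟨fun X => ⟨(inferInstance : Flat (𝟙 X)), (inferInstance : LocallyOfFinitePresentation (𝟙 X))⟩⟩
    exact key (@Flat ⊓ @LocallyOfFinitePresentation)
      (fun i hi => by have : IsOpenImmersion i := hi; exact ⟨inferInstance, inferInstance⟩)
      (fun g hg => by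
        have : Flat g := hg.1
        have : LocallyOfFinitePresentation g := hg.2
        exact g.isOpenMap) hs ht


end Groth.Agent.S7505
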