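import Groth.Statements.S7507
import Mathlib
import Groth.Agent.Lib.Helper21.GrpdSliceIter
import Groth.Agent.Lib.Helper21.GrpdRestrictMain
import Groth.Agent.Lib.Helper21.StabDimLower
import Groth.Agent.Lib.Helper73.FibreDimRetro
-- import your own Groth.Agent.* helpers here

set_option autoImplicit false
universe u
open CategoryTheory CategoryTheory.Limits AlgebraicGeometry
open Grpd

namespace Groth.Agent.S7507

/-- Let (U, R, s, t, c, e, i) be a groupoid scheme over S with s and t Cohen-Macaulay and locally of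
finite presentation, G -> U the stabilizer and u a finite type point of U. Then there exist an
affine scheme U', an immersion g : U' -> U locally of finite presentation and a point u' with g(u')
= u such that: h = s ∘ pr_1 : U' x_(g,U,t) R -> U is Cohen-Macaulay as well as locally of finite
presentation; the source and target s', t' : R' -> U' of the restriction R' = (U' x_(g,U,t) R)
x_(h,U,g) U' are likewise locally of finite presentation and Cohen-Macaulay; and, p being the point
of U' x_(g,U,t) R with projections u' and e(u), the local dimension at p of the fibre of h equals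
dim(G_u) (that is, dim_(e'(u'))(F'_(u')) = dim(G'_(u'))). Here a morphism is Cohen-Macaulay when it
is Cohen-Macaulay at every point of its source (flat there with Cohen-Macaulay fibre local ring,
Grpd.IsCMAt), a finite type point u is one for which Spec κ(u) -> U is locally of finite type, dim_x
of a fibre is the local dimension FlatMor.fibreDimAt, and G_u is the scheme-theoretic fibre of the
stabilizer G -> U over u. (A groupoid scheme carries U, R, s, t, c, e, i over S with the groupoid
axioms on T-points; c is defined on the fibre product of s and t and sends a pair (a, b) with s(a) =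
t(b) to a composed with b.) -/
theorem result (S : Scheme.{u}) (G : Grpd.GroupoidScheme S) [LocallyOfFinitePresentation G.s] [LocallyOfFinitePresentation G.t] (hs : ∀ r : G.R, Grpd.IsCMAt G.s r) (ht : ∀ r : G.R, Grpd.IsCMAt G.t r) (u : G.U) (hu : LocallyOfFiniteType (G.U.fromSpecResidueField u)) : ∃ (U' : Scheme.{u}) (_ : IsAffine U') (g : U' ⟶ G.U) (u' : U') (p : ↑(pullback g G.t)), IsImmersion g ∧ LocallyOfFinitePresentation g ∧ g u' = u ∧ pullback.fst g G.t p = u' ∧ pullback.snd g G.t p = G.e u ∧ (∀ q, Grpd.IsCMAt (pullback.snd g G.t ≫ G.s) q) ∧ LocallyOfFinitePresentation (pullback.snd g G.t ≫ G.s) ∧ (∀ q, Grpd.IsCMAt (pullback.snd (pullback.snd g G.t ≫ G.s) g) q) ∧ LocallyOfFinitePresentation (pullback.snd (pullback.snd g G.t ≫ G.s) g) ∧ (∀ q, Grpd.IsCMAt (pullback.fst (pullback.snd g G.t ≫ G.s) g ≫ pullback.fst g G.t) q) ∧ LocallyOfFinitePresentation (pullback.fst (pullback.snd g G.t ≫ G.s) g ≫ pullback.fst g G.t) ∧ FlatMor.fibreDimAt (pullback.snd g G.t ≫ G.s) p = topologicalKrullDim ↥(G.stabilizerToU.fiber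 u) := by
  classical
  have := hu
  have hfs : Flat G.s := Flat.of_stalkMap _ (fun r => (hs r).1)
  have hft : Flat G.t := Flat.of_stalkMap _ (fun r => (ht r).1)
  obtain ⟨V, hV, I₀, u', p, hfg, hgu', hp1, hp2, hcm, hdim⟩ :=
    Groth.Agent.Lib.Helper21.GrpdSliceIter.exists_iter_slice S G hs u hu
      (topologicalKrullDim ↥(G.stabilizerToU.fiber u)) le_rfl
  have hgi : IsImmersion (Groth.Agent.Lib.Helper21.PullbackSliceStalkI.sliceHomI hV I₀) :=
    inferInstance
  have hgfp : LocallyOfFinitePresentation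
      (Groth.Agent.Lib.Helper21.PullbackSliceStalkI.sliceHomI hV I₀) :=
    Groth.Agent.Lib.Helper21.PullbackSliceStalkI.lfp_sliceHomI hV I₀ hfg
  generalize Groth.Agent.Lib.Helper21.PullbackSliceStalkI.sliceHomI hV I₀ = g at *
  have : LocallyOfFinitePresentation (Groth.Agent.Lib.Helper21.GrpdAct.hX G g) := inferInstance
  have : LocallyOfFiniteType (Groth.Agent.Lib.Helper21.GrpdAct.hX G g) := inferInstance
  have hpL : p ∈ Groth.Agent.Lib.Helper21.GrpdInvLocus.fcSet
      (Groth.Agent.Lib.Helper21.GrpdAct.hX G g) :=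
    (Groth.Agent.Lib.Helper21.GrpdRestrictMain.mem_fcSet_iff _ p).mpr hcm
  have hopen : IsOpen (Groth.Agent.Lib.Helper21.GrpdInvLocus.fcSet
      (Groth.Agent.Lib.Helper21.GrpdAct.hX G g)) :=
    Groth.Agent.S4961.result (Groth.Agent.Lib.Helper21.GrpdAct.hX G g)
  obtain ⟨U'', hU'', hu'U'', hall⟩ := Groth.Agent.Lib.Helper21.GrpdShrink.exists_shrink G g
    (fun f => Groth.Agent.Lib.Helper21.GrpdInvLocus.fcSet f)
    (fun hc => Groth.Agent.Lib.Helper21.GrpdInvLocus.fcSet_of_isPullback hc)
    (fun k _ f _ => Groth.Agent.Lib.Helper21.GrpdRestrictMain.fcSet_comp_openImmersion k f)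
    hopen p hpL
  have : IsAffine (U'' : Scheme.{u}) := hU''
  rw [hp1] at hu'U''
  have htx : G.t (G.e u) = u := Groth.Agent.Lib.Helper21.GrpdDiagPt.t_e_apply G u
  have hg''u'' : (U''.ι ≫ g) (⟨u', hu'U''⟩ : (U'' : Scheme.{u})) = G.t (G.e u) := by
    rw [htx]
    exact hgu'
  obtain ⟨p'', hp''1, hp''2⟩ :=
    Scheme.Pullback.exists_preimage_pullback (f := U''.ι ≫ g) (g := G.t)
      (⟨u', hu'U''⟩ : (U'' : Scheme.{u})) (G.e u) hg''u''
  obtain ⟨c1, c2, c3, c4, c5, c6⟩ :=
    Groth.Agent.Lib.Helper21.GrpdRestrictMain.restrict_fc G (U''.ι ≫ g) hall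
  refine ⟨U'', inferInstance, U''.ι ≫ g, ⟨u', hu'U''⟩, p'', inferInstance, inferInstance, hgu',
    hp''1, hp''2, c1, c2, c3, c4, c5, c6, ?_⟩
  apply le_antisymm
  · have hk : Groth.Agent.Lib.Helper21.GrpdShrink.kmap G g U''.ι p'' = p := by
      apply (pullback.snd g G.t).isEmbedding.injective
      rw [← Scheme.Hom.comp_apply, Groth.Agent.Lib.Helper21.GrpdShrink.kmap_snd, hp''2, hp2]
    have e1 : pullback.snd (U''.ι ≫ g) G.t ≫ G.s =
        Groth.Agent.Lib.Helper21.GrpdShrink.kmap G g U''.ι ≫ (pullback.snd g G.t ≫ G.s) :=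
      (Groth.Agent.Lib.Helper21.GrpdShrink.kmap_hX G g U''.ι).symm
    rw [e1, Groth.Agent.Lib.Helper73.FibreDimRetro.fibreDimAt_comp_openImmersion]
    have e2 : (Groth.Agent.Lib.Helper21.GrpdShrink.kmap G g U''.ι).base p'' = p := hk
    rw [e2]
    exact hdim
  · exact Groth.Agent.Lib.Helper21.StabDimLower.stab_dim_le G u (U''.ι ≫ g) p'' hp''2

end Groth.Agent.S7507
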