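import Groth.Statements.S7509
import Mathlib
import Groth.Agent.Lib.Helper21.SchImGrpd
import Groth.Agent.Lib.Helper21.SubGrpdHom
import Groth.Agent.Lib.Helper38.PairGrpd
-- import your own Groth.Agent.* helpers here

set_option autoImplicit false
universe u
open CategoryTheory CategoryTheory.Limits AlgebraicGeometry
open Grpd

namespace Groth.Agent.S7509

open Groth.Agent.Lib.Helper21 Groth.Agent.Lib.Helper38

/-- Let (U, R, s, t, c) be a groupoid scheme over S with U the spectrum of a field and R quasi-compact
(equivalently s, t quasi-compact), and let Z be the scheme-theoretic image of j = (t, s) : R -> U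
x_S U. Then (U, Z, pr_0|_Z, pr_1|_Z, pr_02) is a groupoid scheme over S; stated as: there are a
groupoid scheme G' over S and a morphism of groupoid schemes φ : (U, R, s, t, c) -> G' which is an
isomorphism on object schemes, such that j' : G'.R -> G'.U x_S G'.U is a closed immersion whose
kernel ideal sheaf equals the kernel ideal sheaf of j followed by the induced isomorphism U x_S U ->
G'.U x_S G'.U (so G'.R is the scheme-theoretic image of j, transported). (A groupoid scheme carries
U, R, s, t, c, e, i over S with the groupoid axioms on T-points; c is defined on the fibre product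
of s and t and sends a pair (a, b) with s(a) = t(b) to a composed with b.) -/
theorem result (S : Scheme.{u}) (G : Grpd.GroupoidScheme S) (k : Type u) [Field k] (eU : G.U ≅ Spec (CommRingCat.of k)) [CompactSpace G.R] : ∃ (G' : Grpd.GroupoidScheme S) (φ : Grpd.GroupoidScheme.Hom G G'), IsIso φ.fU ∧ IsClosedImmersion G'.j ∧ G'.j.ker = (G.j ≫ pullback.map G.pU G.pU G'.pU G'.pU φ.fU φ.fU (𝟙 S) ((Category.comp_id _).trans φ.fU_over.symm) ((Category.comp_id _).trans φ.fU_over.symm)).ker := by
  classical
  haveI : Subsingleton (Spec (CommRingCat.of k)) :=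
    inferInstanceAs (Subsingleton (PrimeSpectrum k))
  haveI hUss : Subsingleton G.U := eU.hom.homeomorph.subsingleton
  haveI hUaff : IsAffine G.U := .of_isIso eU.hom
  -- `j` is quasi-compact
  haveI hqs : QuasiSeparated G.pU := by
    constructor
    constructor
    intro V _ _
    exact (Set.toFinite _).isCompact
  haveI hqt : QuasiCompact G.t := inferInstance
  haveI hqj : QuasiCompact G.j := by
    have h1 : G.j ≫ pullback.fst G.pU G.pU = G.t := pullback.lift_fst _ _ _
    haveI : QuasiCompact (G.j ≫ pullback.fst G.pU G.pU) := by rw [h1]; exact hqt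
    exact QuasiCompact.of_comp G.j (pullback.fst G.pU G.pU)
  haveI : IsIso (PairGrpd.jHom G).fU := inferInstanceAs (IsIso (𝟙 G.U))
  haveI : QuasiCompact (PairGrpd.jHom G).fR := hqj
  obtain ⟨e', i', c', he', hi', hc'⟩ := SchImGrpd.exists_lifts (PairGrpd.jHom G) k eU
  have ha : (PairGrpd.jHom G).fR.toImage ≫ (PairGrpd.jHom G).fR.imageι = (PairGrpd.jHom G).fR :=
    (PairGrpd.jHom G).fR.toImage_imageι
  have hker : (PairGrpd.jHom G).fR.imageι.ker = G.j.ker :=
    Scheme.IdealSheafData.ker_subschemeι _
  have hj' : (SubGrpd.sub (PairGrpd.pair G) (PairGrpd.jHom G).fR.imageι e' he' i' hi' c' hc').j =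
      (PairGrpd.jHom G).fR.imageι := by
    apply pullback.hom_ext
    · exact pullback.lift_fst _ _ _
    · exact pullback.lift_snd _ _ _
  refine ⟨SubGrpd.sub (PairGrpd.pair G) (PairGrpd.jHom G).fR.imageι e' he' i' hi' c' hc',
    SubGrpd.liftHom (PairGrpd.pair G) (PairGrpd.jHom G).fR.imageι e' he' i' hi' c' hc'
      (PairGrpd.jHom G) (PairGrpd.jHom G).fR.toImage ha, ?_, ?_, ?_⟩
  · show IsIso (𝟙 G.U)
    infer_instance
  · have hci : IsClosedImmersion (PairGrpd.jHom G).fR.imageι := inferInstance
    rw [hj']
    exact hci
  · have hm : pullback.map G.pU G.pU G.pU G.pU (𝟙 G.U) (𝟙 G.U) (𝟙 S)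
        ((Category.comp_id _).trans (Category.id_comp _).symm)
        ((Category.comp_id _).trans (Category.id_comp _).symm) = 𝟙 _ := by
      apply pullback.hom_ext
      · rw [pullback.lift_fst, Category.id_comp]; exact Category.comp_id _
      · rw [pullback.lift_snd, Category.id_comp]; exact Category.comp_id _
    have hc2 : G.j ≫ pullback.map G.pU G.pU G.pU G.pU (𝟙 G.U) (𝟙 G.U) (𝟙 S)
        ((Category.comp_id _).trans (Category.id_comp _).symm)
        ((Category.comp_id _).trans (Category.id_comp _).symm) = G.j := by
      rw [hm, Category.comp_id]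
    have key : (PairGrpd.jHom G).fR.imageι.ker =
        (G.j ≫ pullback.map G.pU G.pU G.pU G.pU (𝟙 G.U) (𝟙 G.U) (𝟙 S)
        ((Category.comp_id _).trans (Category.id_comp _).symm)
        ((Category.comp_id _).trans (Category.id_comp _).symm)).ker :=
      hker.trans (congrArg Scheme.Hom.ker hc2.symm)
    rw [hj']
    exact key

end Groth.Agent.S7509
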