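import Groth.Statements.S7510
import Groth.Agent.S7457
import Groth.Agent.Lib.Helper38.GrpdLib

set_option autoImplicit false
universe u
open CategoryTheory CategoryTheory.Limits AlgebraicGeometry
open Grpd

namespace Groth.Agent.S7510

/-- Let (U, R, s, t, c, e, i) be a groupoid scheme over S and g : U' -> U a morphism; write h = s ∘ pr_1
: U' x_(g,U,t) R -> U. Let P, Q, R be properties of morphisms of schemes, with P invariant under
composition with isomorphisms, such that (1) R implies Q, (2) Q is stable under base change and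
composition, (3) every morphism f : X -> Y with Q has a largest open W(P, f) of X on which the
restriction of f has P (given here as a function W with these two properties), and (4) for f with Q
and a base change along Y' -> Y with R, the preimage of W(P, f) in X x_Y Y' is W(P, f') for the base
change f'. If s, t have R and g has Q, then there is an open W of U' whose preimage in U' x_(g,U,t)
R equals W(P, h). (The published statement speaks of arbitrary properties of morphisms; this row
asks P to be invariant under composition with isomorphisms, which the proof uses to identify the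
largest opens on the two isomorphic fibre products of h with t and with s.) (A groupoid scheme
carries U, R, s, t, c, e, i over S with the groupoid axioms on T-points; c is defined on the fibre
product of s and t and sends a pair (a, b) with s(a) = t(b) to a composed with b.) -/
theorem result (S : Scheme.{u}) (G : Grpd.GroupoidScheme S) {U' : Scheme.{u}} (g : U' ⟶ G.U) (P Q R : MorphismProperty Scheme.{u}) [P.RespectsIso] (hRQ : R ≤ Q) [Q.IsStableUnderBaseChange] [Q.IsStableUnderComposition] (W : ∀ {X Y : Scheme.{u}} (f : X ⟶ Y), Q f → X.Opens) (hWP : ∀ {X Y : Scheme.{u}} (f : X ⟶ Y) (hf : Q f), P ((W f hf).ι ≫ f)) (hWmax : ∀ {X Y : Scheme.{u}} (f : X ⟶ Y) (hf : Q f) (V : X.Opens), P (V.ι ≫ f) → V ≤ W f hf) (hWbc : ∀ {X Y Y' : Scheme.{u}} (f : X ⟶ Y) (hf : Q f) (b : Y' ⟶ Y), R b → ∀ hf' : Q (pullback.snd f b), pullback.fst f b ⁻¹ᵁ W f hf = W (pullback.snd f b) hf') (hs : R G.s) (ht : R G.t) (hg : Q g) (hh : Q (pullback.snd g G.t ≫ G.s)) : ∃ V : U'.Opens, pullback.fst g G.t ⁻¹ᵁ V = W (pullback.snd g G.t ≫ G.s) hh := by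

  -- general base change of the largest open along an arbitrary pullback square
  have gen : ∀ {X₀ Y₀ Y₁ X₁ : Scheme.{u}} {a : X₁ ⟶ X₀} {b : X₁ ⟶ Y₁} {f : X₀ ⟶ Y₀} {c : Y₁ ⟶ Y₀}
      (_ : IsPullback a b f c) (hf : Q f) (_ : R c) (hb : Q b), a ⁻¹ᵁ W f hf = W b hb := by
    intro X₀ Y₀ Y₁ X₁ a b f c sq hf hc hb
    have hf' : Q (pullback.snd f c) := MorphismProperty.pullback_snd f c hf
    have h1 := hWbc f hf c hc hf'
    let e := sq.isoPullback
    have ea : e.hom ≫ pullback.fst f c = a := sq.isoPullback_hom_fst
    have eb : e.hom ≫ pullback.snd f c = b := sq.isoPullback_hom_snd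
    have eb' : e.inv ≫ b = pullback.snd f c := sq.isoPullback_inv_snd
    have h2 : e.hom ⁻¹ᵁ W (pullback.snd f c) hf' = W b hb := by
      apply le_antisymm
      · apply hWmax b hb
        have hP := hWP (pullback.snd f c) hf'
        have : (e.hom ⁻¹ᵁ W (pullback.snd f c) hf').ι ≫ b =
            (e.hom ∣_ W (pullback.snd f c) hf') ≫ (W (pullback.snd f c) hf').ι ≫
              pullback.snd f c := by
          rw [← Category.assoc, morphismRestrict_ι, Category.assoc, eb]
        rw [this]
        exact (P.cancel_left_of_respectsIso _ _).mpr hP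
      · have hle : e.inv ⁻¹ᵁ W b hb ≤ W (pullback.snd f c) hf' := by
          apply hWmax (pullback.snd f c) hf'
          have hP := hWP b hb
          have : (e.inv ⁻¹ᵁ W b hb).ι ≫ pullback.snd f c =
              (e.inv ∣_ W b hb) ≫ (W b hb).ι ≫ b := by
            rw [← Category.assoc, morphismRestrict_ι, Category.assoc, eb']
          rw [this]
          exact (P.cancel_left_of_respectsIso _ _).mpr hP
        intro x hx
        have hx' : e.inv (e.hom x) ∈ W b hb := by
          rw [← Scheme.Hom.comp_apply, e.hom_inv_id]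
          exact hx
        exact hle hx'
    rw [← h2, ← h1, ← Scheme.Hom.comp_preimage, ea]
  -- notation
  set h := pullback.snd g G.t ≫ G.s with hh_def
  have hb : Q (pullback.snd h G.t) := MorphismProperty.pullback_snd h G.t hh
  -- the map `Y → R ×_{s,t} R`
  let m : pullback h G.t ⟶ pullback G.s G.t :=
    pullback.lift (pullback.fst h G.t ≫ pullback.snd g G.t) (pullback.snd h G.t)
      (by rw [Category.assoc]; exact pullback.condition)
  have m_fst : m ≫ pullback.fst G.s G.t = pullback.fst h G.t ≫ pullback.snd g G.t :=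
    pullback.lift_fst _ _ _
  have m_snd : m ≫ pullback.snd G.s G.t = pullback.snd h G.t := pullback.lift_snd _ _ _
  -- the "multiplication" map `Y → X`
  let a' : pullback h G.t ⟶ pullback g G.t :=
    pullback.lift (pullback.fst h G.t ≫ pullback.fst g G.t) (m ≫ G.c)
      (by rw [Category.assoc, Category.assoc, Groth.Agent.Lib.Helper38.GrpdLib.c_t,
        ← Category.assoc m, m_fst, Category.assoc, pullback.condition])
  have a'_fst : a' ≫ pullback.fst g G.t = pullback.fst h G.t ≫ pullback.fst g G.t :=
    pullback.lift_fst _ _ _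
  have a'_snd : a' ≫ pullback.snd g G.t = m ≫ G.c := pullback.lift_snd _ _ _
  have sq1 : IsPullback (pullback.fst h G.t) m (pullback.snd g G.t) (pullback.fst G.s G.t) := by
    refine IsPullback.of_bot (v₂₁ := pullback.snd G.s G.t) (v₂₂ := G.s) (h₃₁ := G.t) ?_ m_fst.symm
      (IsPullback.of_hasPullback G.s G.t)
    rw [m_snd]
    exact IsPullback.of_hasPullback h G.t
  have sq2 : IsPullback (pullback.fst h G.t ≫ pullback.fst g G.t) m g
      (pullback.fst G.s G.t ≫ G.t) :=
    sq1.paste_horiz (IsPullback.of_hasPullback g G.t)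
  have sq3 : IsPullback a' m (pullback.snd g G.t) G.c := by
    refine IsPullback.of_right (h₁₂ := pullback.fst g G.t) (v₁₃ := g) (h₂₂ := G.t) ?_ a'_snd
      (IsPullback.of_hasPullback g G.t)
    rw [a'_fst, Groth.Agent.Lib.Helper38.GrpdLib.c_t]
    exact sq2
  have sq4 : IsPullback a' (pullback.snd h G.t) h G.s := by
    have := sq3.paste_vert (Groth.Agent.S7457.result S G).2
    rw [m_snd] at this
    exact this
  have e1 : pullback.fst h G.t ⁻¹ᵁ W h hh = W (pullback.snd h G.t) hb :=
    gen (IsPullback.of_hasPullback h G.t) hh ht hb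
  have e2 : a' ⁻¹ᵁ W h hh = W (pullback.snd h G.t) hb := gen sq4 hh hs hb
  -- the sections
  let σ : U' ⟶ pullback g G.t := pullback.lift (𝟙 U') (g ≫ G.e)
    (by rw [Category.id_comp, Category.assoc, G.e_t, Category.comp_id])
  let β : pullback g G.t ⟶ pullback h G.t := pullback.lift (𝟙 _) (pullback.snd g G.t ≫ G.i)
    (by rw [Category.id_comp, Category.assoc, G.i_t])
  have β_fst : β ≫ pullback.fst h G.t = 𝟙 _ := pullback.lift_fst _ _ _
  have β_snd : β ≫ pullback.snd h G.t = pullback.snd g G.t ≫ G.i := pullback.lift_snd _ _ _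
  have β_a' : β ≫ a' = pullback.fst g G.t ≫ σ := by
    apply pullback.hom_ext
    · rw [Category.assoc, a'_fst, ← Category.assoc, β_fst, Category.id_comp, Category.assoc,
        pullback.lift_fst, Category.comp_id]
    · rw [Category.assoc, a'_snd, Category.assoc, pullback.lift_snd, ← Category.assoc,
        Groth.Agent.Lib.Helper38.GrpdLib.comp_c]
      have hm1 : (β ≫ m) ≫ pullback.fst G.s G.t = pullback.snd g G.t := by
        rw [Category.assoc, m_fst, ← Category.assoc, β_fst, Category.id_comp]
      have hm2 : (β ≫ m) ≫ pullback.snd G.s G.t = pullback.snd g G.t ≫ G.i := by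
        rw [Category.assoc, m_snd, β_snd]
      rw [Groth.Agent.Lib.Helper38.GrpdLib.mul_congr hm1 hm2,
        Groth.Agent.Lib.Helper38.GrpdLib.mul_i, ← Category.assoc, ← pullback.condition,
        Category.assoc]
  refine ⟨σ ⁻¹ᵁ W h hh, ?_⟩
  rw [← Scheme.Hom.comp_preimage, ← β_a', Scheme.Hom.comp_preimage, e2, ← e1,
    ← Scheme.Hom.comp_preimage, β_fst]
  rfl


end Groth.Agent.S7510
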