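import Groth.Statements.S7511


set_option autoImplicit false
universe u
open CategoryTheory CategoryTheory.Limits AlgebraicGeometry
open HTop

namespace Groth.Agent.S7511

/-- Let {f_i : T_i -> T} be a family of morphisms of schemes (indexed by a type in the universe of T, so
that the coproduct exists). Then it is an fpqc covering if and only if the one-arrow family
consisting of the induced morphism from the coproduct of the T_i to T is an fpqc covering. -/
lemma sigmaDesc_comp_sigmaMk {T : Scheme.{u}} (E : PreZeroHypercover.{u} T) (p : Σ i, E.X i) :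
    Sigma.desc E.f (sigmaMk E.X p) = E.f p.1 p.2 := by
  obtain ⟨i, x⟩ := p
  rw [sigmaMk_mk, ← Scheme.Hom.comp_apply, Sigma.ι_desc]

lemma qc_iff {T : Scheme.{u}} (E : PreZeroHypercover.{u} T) :
    QuasiCompactCover E ↔
      QuasiCompactCover (PreZeroHypercover.singleton.{u} (Sigma.desc E.f)) := by
  constructor
  · intro h
    exact .of_hom (𝒱 := E)
      { s₀ := fun _ => PUnit.unit
        h₀ := fun i => Sigma.ι E.X i
        w₀ := fun i => Sigma.ι_desc _ _ }
  · intro h
    refine ⟨fun {U} hU => ?_⟩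
    have h1 := hU.isCompactOpenCovered (PreZeroHypercover.singleton.{u} (Sigma.desc E.f))
    rw [IsCompactOpenCovered.iff_of_unique] at h1
    obtain ⟨V, hVc, hVU⟩ := h1
    rw [IsCompactOpenCovered.iff_isCompactOpenCovered_sigmaMk, IsCompactOpenCovered.iff_of_unique]
    refine ⟨⟨sigmaMk E.X ⁻¹' V.1, V.2.preimage (sigmaMk E.X).continuous⟩, ?_, ?_⟩
    · exact (sigmaMk E.X).isCompact_preimage.mpr hVc
    · rw [← hVU]
      ext t
      simp only [Set.mem_image, Set.mem_preimage]
      constructor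
      · rintro ⟨p, hp, rfl⟩
        exact ⟨sigmaMk E.X p, hp, sigmaDesc_comp_sigmaMk E p⟩
      · rintro ⟨z, hz, rfl⟩
        obtain ⟨p, rfl⟩ := (sigmaMk E.X).surjective z
        exact ⟨p, hz, (sigmaDesc_comp_sigmaMk E p).symm⟩

lemma flat_iff {T : Scheme.{u}} (E : PreZeroHypercover.{u} T) :
    E.presieve₀ ∈ Scheme.precoverage @Flat T ↔
      Presieve.singleton (Sigma.desc E.f) ∈ Scheme.precoverage @Flat T := by
  have e1 := Scheme.singleton_mem_precoverage_iff (P := @Flat) (Sigma.desc E.f)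
  have e2 := Scheme.ofArrows_mem_precoverage_iff (P := @Flat) (f := E.f)
  refine Iff.trans e2 (Iff.trans ?_ e1.symm)
  constructor
  · rintro ⟨h1, h2⟩
    refine ⟨fun t => ?_, IsZariskiLocalAtSource.sigmaDesc h2⟩
    obtain ⟨i, x, rfl⟩ := h1 t
    exact ⟨sigmaMk E.X ⟨i, x⟩, sigmaDesc_comp_sigmaMk E ⟨i, x⟩⟩
  · rintro ⟨h1, h2⟩
    refine ⟨fun t => ?_, fun i => ?_⟩
    · obtain ⟨z, rfl⟩ := h1 t
      obtain ⟨⟨i, x⟩, rfl⟩ := (sigmaMk E.X).surjective z
      exact ⟨i, x, (sigmaDesc_comp_sigmaMk E ⟨i, x⟩).symm⟩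
    · rw [← Sigma.ι_desc E.f i]
      infer_instance

theorem result {T : Scheme.{u}} (E : PreZeroHypercover.{u} T) : E.presieve₀ ∈ Scheme.fpqcPrecoverage T ↔ Presieve.singleton (Sigma.desc E.f) ∈ Scheme.fpqcPrecoverage T := by
  have key1 : E.presieve₀ ∈ Scheme.qcPrecoverage T ↔
      Presieve.singleton (Sigma.desc E.f) ∈ Scheme.qcPrecoverage T := by
    rw [← PreZeroHypercover.presieve₀_singleton.{_, _, u}, Scheme.presieve₀_mem_qcPrecoverage_iff,
      Scheme.presieve₀_mem_qcPrecoverage_iff]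
    exact qc_iff E
  exact and_congr key1 (flat_iff E)

end Groth.Agent.S7511
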