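import Groth.Statements.S7512


set_option autoImplicit false
universe w u
open HTop

namespace Groth.Agent.S7512

open CategoryTheory CategoryTheory.Limits AlgebraicGeometry in
/-- Let {f_i : T_i -> T} be a family of flat morphisms of schemes. Assume that for every affine scheme Z
and every morphism h : Z -> T there is a standard fpqc covering of Z (a finite family of flat
morphisms Z_j -> Z with Z_j affine whose images cover Z) refining the family of base changes {T_i
x_T Z -> Z} (every Z_j -> Z factors through some T_i compatibly with h). Then {f_i : T_i -> T} is an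
fpqc covering (in Mathlib's sense). -/
theorem result {T : Scheme.{u}} (E : PreZeroHypercover.{w} T) (hflat : ∀ i, Flat (E.f i)) (href : ∀ (Z : Scheme.{u}) [IsAffine Z] (h : Z ⟶ T), ∃ F : PreZeroHypercover.{0} Z, Finite F.I₀ ∧ (∀ j, IsAffine (F.X j)) ∧ (∀ j, Flat (F.f j)) ∧ (∀ z : Z, ∃ (j : F.I₀) (x : F.X j), F.f j x = z) ∧ HTop.RefinesOver h F E) : E.presieve₀ ∈ Scheme.fpqcPrecoverage T := by
  refine ⟨?_, ?_⟩
  · rw [Scheme.presieve₀_mem_qcPrecoverage_iff]
    refine ⟨fun {U} hU => ?_⟩
    have hUaff : IsAffine (U : Scheme.{u}) := hU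
    obtain ⟨F, hfin, haff, -, hsurj, href'⟩ := href U U.ι
    choose a t ht using href'
    refine IsCompactOpenCovered.of_comp (σ := F.I₀) (Y := fun j => F.X j)
      (fun j => (F.f j ≫ U.ι : F.X j ⟶ T)) (a := a) (fun j => t j)
      (fun j => (t j).continuous) (fun j => ?_) (fun i => (E.f i).continuous) U.2 ?_
    · ext x
      simp [← ht j]
    · refine IsCompactOpenCovered.of_finite (κ := F.I₀) id (fun j => ⊤)
        (fun j => isCompact_univ) ?_
      ext y
      simp only [id_eq, TopologicalSpace.Opens.coe_top, Set.image_univ, Set.mem_iUnion,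
        Set.mem_range, SetLike.mem_coe]
      constructor
      · rintro ⟨j, x, rfl⟩
        simp
      · intro hy
        obtain ⟨j, x, hx⟩ := hsurj ⟨y, hy⟩
        exact ⟨j, x, by simp [hx]⟩
  · rw [Scheme.presieve₀_mem_precoverage_iff]
    refine ⟨fun y => ?_, hflat⟩
    obtain ⟨U, hU, hyU, -⟩ :=
      TopologicalSpace.Opens.isBasis_iff_nbhd.mp T.isBasis_affineOpens
        (TopologicalSpace.Opens.mem_top y)
    obtain ⟨U', rfl⟩ : ∃ U' : T.Opens, U' = U := ⟨U, rfl⟩
    have hUaff : IsAffine (U' : Scheme.{u}) := hU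
    obtain ⟨F, -, -, -, hsurj, href'⟩ := href U' U'.ι
    obtain ⟨j, x, hx⟩ := hsurj ⟨y, hyU⟩
    obtain ⟨i, h, hh⟩ := href' j
    refine ⟨i, h x, ?_⟩
    have := congrArg (fun φ => φ x) hh
    simp only [Scheme.Hom.comp_apply] at this
    rw [this, hx]
    rfl

end Groth.Agent.S7512
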