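import Groth.Statements.S7516
import Mathlib
import Groth.Agent.S1882
import Groth.Agent.S7517

set_option autoImplicit false
set_option linter.style.haveILetI false
universe u
open CategoryTheory CategoryTheory.Limits AlgebraicGeometry
open Grpd

namespace Groth.Agent.S7516
open CategoryTheory CategoryTheory.Limits AlgebraicGeometry TopologicalSpace
open Groth.Agent.S0350 Groth.Agent.S1882

section A

variable {S : Scheme.{u}} (G : GroupoidScheme S) {k : Type u} [Field k]
  (eU : G.U ≅ Spec (CommRingCat.of k))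

include eU in
/-- a geometric point `ρ` of `R`, seen in the source fibre at `s ρ`, lies on a unique component. -/
theorem uniqueComp_ρX {K : Type u} [Field K] [IsAlgClosed K] (ρ : Spec (CommRingCat.of K) ⟶ G.R) :
    UniqueComp (ρX G ρ (IsLocalRing.closedPoint K)) := by
  have hUne : Nonempty G.U := ⟨eU.inv (IsLocalRing.closedPoint k)⟩
  have hUint : IsIntegral G.U := isIntegral_of_isOpenImmersion eU.hom
  have hUsub : Subsingleton G.U := (Scheme.homeoOfIso eU).toEquiv.subsingleton
  have h0 : UniqueComp ((eW G (ρ ≫ G.t)) (IsLocalRing.closedPoint K)) :=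
    uniqueComp_unit₂ (sW G _) (tW G _) (mW G _) (eW G _) (eW_s G _) (eW_t G _) (unitR G _)
      (unitL G _)
  have hpW : Flat (pW G (ρ ≫ G.t)) := by unfold pW; infer_instance
  have h1 := UniqueComp.of_generalizingMap (π := pW G (ρ ≫ G.t)) (Scheme.Hom.continuous _)
    (Flat.generalizingMap _) h0
  have h1' : pW G (ρ ≫ G.t) (eW G (ρ ≫ G.t) (IsLocalRing.closedPoint K)) =
      eX G (ρ ≫ G.t) (IsLocalRing.closedPoint K) := by
    rw [← Scheme.Hom.comp_apply, eW_pW]
  rw [h1'] at h1
  have h2 := UniqueComp.of_generalizingMap (π := (Tiso G ρ).hom) (Scheme.Hom.continuous _)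
    (Scheme.homeoOfIso (Tiso G ρ)).isOpenEmbedding.generalizingMap h1
  have h2' : (Tiso G ρ).hom (eX G (ρ ≫ G.t) (IsLocalRing.closedPoint K)) =
      ρX G ρ (IsLocalRing.closedPoint K) := by
    rw [← Scheme.Hom.comp_apply]
    exact congr(($(eX_Tfwd G ρ)) (IsLocalRing.closedPoint K))
  rwa [h2'] at h2

include eU in
/-- every point of every source fibre lies on a unique irreducible component. -/
theorem uniqueComp_Xb {K : Type u} [Field K] (b : Spec (CommRingCat.of K) ⟶ G.U)
    (x' : ↥(pullback G.s b)) : UniqueComp x' := by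
  let L := AlgebraicClosure ((pullback G.s b).residueField x')
  let ξ : Spec (CommRingCat.of L) ⟶ pullback G.s b :=
    Spec.map (CommRingCat.ofHom (algebraMap ((pullback G.s b).residueField x') L)) ≫
      (pullback G.s b).fromSpecResidueField x'
  obtain ⟨ρ', τ, hρ', hρfst, hτsnd⟩ : ∃ (ρ' : Spec (CommRingCat.of L) ⟶ G.R)
      (τ : Spec (CommRingCat.of L) ⟶ Spec (CommRingCat.of K)),
      ρ' ≫ G.s = τ ≫ b ∧ ξ ≫ pullback.fst G.s b = ρ' ∧ ξ ≫ pullback.snd G.s b = τ :=
    ⟨_, _, by simp only [Category.assoc, pullback.condition], rfl, rfl⟩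
  have h := uniqueComp_ρX G eU ρ'
  let q : pullback G.s (ρ' ≫ G.s) ⟶ pullback G.s b :=
    pullback.lift (pullback.fst G.s (ρ' ≫ G.s)) (pullback.snd G.s (ρ' ≫ G.s) ≫ τ)
      (by rw [Category.assoc, ← hρ']; exact pullback.condition)
  have hq1 : q ≫ pullback.fst G.s b = pullback.fst G.s (ρ' ≫ G.s) := pullback.lift_fst _ _ _
  have hq2 : q ≫ pullback.snd G.s b = pullback.snd G.s (ρ' ≫ G.s) ≫ τ := pullback.lift_snd _ _ _
  have hsq : IsPullback q (pullback.snd G.s (ρ' ≫ G.s)) (pullback.snd G.s b) τ := by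
    refine IsPullback.of_right (h₁₂ := pullback.fst G.s b) (v₁₃ := G.s) (h₂₂ := b) ?_ hq2
      (IsPullback.of_hasPullback G.s b)
    rw [hq1, ← hρ']
    exact IsPullback.of_hasPullback G.s (ρ' ≫ G.s)
  have hqflat : Flat q := MorphismProperty.of_isPullback (P := @Flat) hsq.flip inferInstance
  have h3 := UniqueComp.of_generalizingMap (π := q) (Scheme.Hom.continuous _)
    (Flat.generalizingMap _) h
  have hξ : ρX G ρ' ≫ q = ξ := by
    apply pullback.hom_ext
    · rw [Category.assoc, hq1, hρfst]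
      unfold ρX; rw [pullback.lift_fst]
    · rw [Category.assoc, hq2, hτsnd]
      unfold ρX; rw [pullback.lift_snd_assoc, Category.id_comp]
  have h3' : q (ρX G ρ' (IsLocalRing.closedPoint L)) = x' := by
    rw [← Scheme.Hom.comp_apply, hξ]
    show (pullback G.s b).fromSpecResidueField x' _ = x'
    exact Scheme.fromSpecResidueField_apply _ _
  rwa [h3'] at h3

include eU in
/-- the component through the unit is geometrically irreducible via `s`. -/
theorem geomIrr_s (Z : Scheme.{u}) (ι : Z ⟶ G.R) [IsClosedImmersion ι] [IrreducibleSpace Z]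
    (hZ : Set.range ⇑ι ∈ irreducibleComponents ↥G.R)
    (he : G.e (eU.inv (IsLocalRing.closedPoint k)) ∈ Set.range ⇑ι) :
    GeometricallyIrreducible (ι ≫ G.s ≫ eU.hom) := by
  let K := AlgebraicClosure k
  let g : Spec (CommRingCat.of K) ⟶ Spec (CommRingCat.of k) :=
    Spec.map (CommRingCat.ofHom (algebraMap k K))
  obtain ⟨f, hf⟩ : ∃ f : G.R ⟶ Spec (CommRingCat.of k), f = G.s ≫ eU.hom := ⟨_, rfl⟩
  obtain ⟨b, hb⟩ : ∃ b : Spec (CommRingCat.of K) ⟶ G.U, b = g ≫ eU.inv := ⟨_, rfl⟩
  let θ : pullback G.s b ⟶ pullback f g :=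
    pullback.map G.s b f g (𝟙 _) (𝟙 _) eU.hom (by rw [hf, Category.id_comp])
      (by rw [hb, Category.assoc, Iso.inv_hom_id, Category.comp_id, Category.id_comp])
  have hθiso : IsIso θ := inferInstance
  let π : pullback f g ⟶ G.R := pullback.fst f g
  have hUR : ∀ r : G.R, UniqueComp r := uniqueComp_R G eU
  have hUH : ∀ x : ↥(pullback f g), UniqueComp x := by
    intro x
    have h1 := UniqueComp.of_generalizingMap (π := θ) (Scheme.Hom.continuous _)
      (Scheme.homeoOfIso (asIso θ)).isOpenEmbedding.generalizingMap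
      (uniqueComp_Xb G eU b ((inv θ) x))
    have h2 : θ ((inv θ) x) = x := by
      rw [← Scheme.Hom.comp_apply, IsIso.inv_hom_id]; rfl
    rwa [h2] at h1
  -- the section
  obtain ⟨e'', he''def⟩ : ∃ e'' : Spec (CommRingCat.of k) ⟶ G.R, e'' = eU.inv ≫ G.e := ⟨_, rfl⟩
  have he'' : e'' ≫ f = 𝟙 _ := by
    rw [he''def, hf, Category.assoc, ← Category.assoc G.e, G.e_s, Category.id_comp,
      Iso.inv_hom_id]
  set e₀ := G.e (eU.inv (IsLocalRing.closedPoint k)) with he₀
  have he₀' : e₀ = e'' (IsLocalRing.closedPoint k) := by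
    rw [he''def, Scheme.Hom.comp_apply]
  let eK : Spec (CommRingCat.of K) ⟶ pullback f g :=
    pullback.lift (g ≫ e'') (𝟙 _) (by rw [Category.assoc, he'', Category.comp_id, Category.id_comp])
  set e' := eK (IsLocalRing.closedPoint K) with he'
  have hgpt : g (IsLocalRing.closedPoint K) = IsLocalRing.closedPoint k := Subsingleton.elim _ _
  have hπe : π e' = e'' (g (IsLocalRing.closedPoint K)) := by
    rw [he', ← Scheme.Hom.comp_apply, pullback.lift_fst, Scheme.Hom.comp_apply]
  have hπe₀ : π e' = e₀ := by rw [hπe, hgpt, he₀']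
  have hbij : Function.Bijective (f.residueFieldMap (π e')).hom :=
    S7517.bijective_residueFieldMap_of_section f e'' he'' _ _ hπe
  have hpre : π ⁻¹' Set.range ι = irreducibleComponent e' := by
    apply Set.Subset.antisymm
    · intro x' hx'
      have hC' := irreducibleComponent_mem_irreducibleComponents x'
      have himg : π '' irreducibleComponent x' ∈ irreducibleComponents G.R :=
        Groth.Agent.Lib.Helper21.image_mem_irreducibleComponents_of_isAlgebraic f K _ hC'
      have heq : π '' irreducibleComponent x' = Set.range ι :=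
        hUR (π x') _ himg _ hZ ⟨x', mem_irreducibleComponent, rfl⟩ hx'
      have : e₀ ∈ π '' irreducibleComponent x' := heq ▸ he
      obtain ⟨c', hc', hπc'⟩ := this
      have hce : c' = e' :=
        Groth.Agent.Lib.Helper70.EtaleBirational.eq_of_fst_eq_of_snd_eq c' e'
          (hπc'.trans hπe₀.symm) (Subsingleton.elim _ _) hbij
      rw [hce] at hc'
      have := hUH e' _ hC' _ (irreducibleComponent_mem_irreducibleComponents e') hc'
        mem_irreducibleComponent
      rw [← this]; exact mem_irreducibleComponent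
    · intro z hz
      have hirr : IsIrreducible (π '' irreducibleComponent e') :=
        isIrreducible_irreducibleComponent.image _ (Scheme.Hom.continuous π).continuousOn
      obtain ⟨W', hW', hsub⟩ := exists_mem_irreducibleComponents_subset_of_isIrreducible _ hirr
      have heW : e₀ ∈ W' := hsub ⟨e', mem_irreducibleComponent, hπe₀⟩
      have := hUR e₀ W' hW' _ hZ heW he
      rw [← this]
      exact hsub ⟨z, hz, rfl⟩
  have hT : IrreducibleSpace ↥(pullback ι π) :=
    irreducibleSpace_of_isInducing (pullback.snd ι π).isEmbedding.isInducing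
      (by rw [Scheme.Pullback.range_snd, hpre]; exact isIrreducible_irreducibleComponent)
  have hirr : IrreducibleSpace ↥(pullback (ι ≫ f) g) :=
    irreducibleSpace_of_surjective
      (Scheme.Hom.continuous (pullbackRightPullbackFstIso f g ι).hom)
      (Scheme.homeoOfIso (pullbackRightPullbackFstIso f g ι)).surjective
  have := Groth.Agent.Lib.Helper21.geometricallyIrreducible_of_irreducibleSpace_isAlgClosed
    (ι ≫ f) K
  rwa [hf] at this

end A

section inv

variable {S : Scheme.{u}} (G : GroupoidScheme S)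

theorem i_s_assoc {Z : Scheme.{u}} (h : G.U ⟶ Z) : G.i ≫ G.s ≫ h = G.t ≫ h := by
  rw [← Category.assoc, G.i_s]

theorem i_t_assoc {Z : Scheme.{u}} (h : G.U ⟶ Z) : G.i ≫ G.t ≫ h = G.s ≫ h := by
  rw [← Category.assoc, G.i_t]

theorem inv_inv {T : Scheme.{u}} (α : T ⟶ G.R) : (α ≫ G.i) ≫ G.i = α := by
  have h : (α ≫ G.i) ≫ G.s = α ≫ G.t := by rw [Category.assoc, G.i_s]
  have h' : ((α ≫ G.i) ≫ G.i) ≫ G.s = (α ≫ G.i) ≫ G.t := by rw [Category.assoc, G.i_s]
  have h1 : ((α ≫ G.i) ≫ G.i) ≫ G.s ≫ G.e = cmp G (α ≫ G.i) α h := by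
    refine Eq.trans ?_ (i_cmp G α).symm
    simp only [Category.assoc, i_s_assoc, i_t_assoc]
  have h2 : cmp G ((α ≫ G.i) ≫ G.i) (α ≫ G.i) h' = α ≫ G.t ≫ G.e := by
    refine (i_cmp G (α ≫ G.i)).trans ?_
    simp only [Category.assoc, i_s_assoc]
  refine (cmp_e G ((α ≫ G.i) ≫ G.i)).symm.trans ?_
  refine (cmp_congr G rfl h1 _).trans ?_
  refine (cmp_assoc G ((α ≫ G.i) ≫ G.i) (α ≫ G.i) α h' h).symm.trans ?_
  refine (cmp_congr G h2 rfl _).trans ?_
  exact e_cmp G α

theorem i_i : G.i ≫ G.i = 𝟙 G.R := by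
  have := inv_inv G (𝟙 G.R)
  rwa [Category.id_comp] at this

theorem e_i : G.e ≫ G.i = G.e := by
  have hh : (G.e ≫ G.i) ≫ G.s ≫ G.e = G.e := by
    simp only [Category.assoc, i_s_assoc]
    rw [← Category.assoc, G.e_t, Category.id_comp]
  refine (cmp_e G (G.e ≫ G.i)).symm.trans ?_
  refine (cmp_congr G rfl hh _).trans ?_
  refine (i_cmp G G.e).trans ?_
  rw [← Category.assoc, G.e_s, Category.id_comp]

end inv

theorem main (S : Scheme.{u}) (G : GroupoidScheme S) (k : Type u) [Field k]
    (eU : G.U ≅ Spec (CommRingCat.of k)) (Z : Scheme.{u}) (ι : Z ⟶ G.R) [IsClosedImmersion ι]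
    [IrreducibleSpace Z] (hZ : Set.range ⇑ι ∈ irreducibleComponents ↥G.R)
    (he : G.e (eU.inv (IsLocalRing.closedPoint k)) ∈ Set.range ⇑ι) :
    GeometricallyIrreducible (ι ≫ G.s ≫ eU.hom) ∧ GeometricallyIrreducible (ι ≫ G.t ≫ eU.hom) := by
  refine ⟨geomIrr_s G eU Z ι hZ he, ?_⟩
  have hiso : IsIso G.i := ⟨G.i, i_i G, i_i G⟩
  have hii : ∀ x : G.R, G.i (G.i x) = x := fun x => by
    rw [← Scheme.Hom.comp_apply, i_i]; rfl
  have hrange : Set.range ⇑(ι ≫ G.i) = G.i ⁻¹' Set.range ⇑ι := by
    ext x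
    constructor
    · rintro ⟨z, rfl⟩
      exact ⟨z, by rw [Scheme.Hom.comp_apply, hii]⟩
    · rintro ⟨z, hz⟩
      exact ⟨z, by rw [Scheme.Hom.comp_apply, hz, hii]⟩
  have hZ' : Set.range ⇑(ι ≫ G.i) ∈ irreducibleComponents ↥G.R := by
    rw [hrange]
    refine preimage_mem_irreducibleComponents hZ G.i.isOpenEmbedding ?_
    obtain ⟨c, hc⟩ := hZ.1.nonempty
    exact ⟨c, hc, G.i c, hii c⟩
  have he' : G.e (eU.inv (IsLocalRing.closedPoint k)) ∈ Set.range ⇑(ι ≫ G.i) := by
    rw [hrange, Set.mem_preimage, ← Scheme.Hom.comp_apply, e_i]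
    exact he
  have := geomIrr_s G eU Z (ι ≫ G.i) hZ' he'
  rwa [Category.assoc, i_s_assoc] at this


/-- Let (U, R, s, t, c) be a groupoid scheme over S with U = Spec k for a field k, and let Z be an
irreducible component of R passing through the identity point e (there is exactly one). Then Z is
geometrically irreducible over k via either s or t: for any closed immersion ι : Z -> R from an
irreducible scheme whose image is an irreducible component of R containing e, the composites Z -> R
-> U = Spec k through s and through t are geometrically irreducible. (A groupoid scheme carries U,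
R, s, t, c, e, i over S with the groupoid axioms on T-points; c is defined on the fibre product of s
and t and sends a pair (a, b) with s(a) = t(b) to a composed with b.) -/
theorem result (S : Scheme.{u}) (G : Grpd.GroupoidScheme S) (k : Type u) [Field k] (eU : G.U ≅ Spec (CommRingCat.of k)) (Z : Scheme.{u}) (ι : Z ⟶ G.R) [IsClosedImmersion ι] [IrreducibleSpace Z] (hZ : Set.range ⇑ι ∈ irreducibleComponents ↥G.R) (he : G.e (eU.inv (IsLocalRing.closedPoint k)) ∈ Set.range ⇑ι) : GeometricallyIrreducible (ι ≫ G.s ≫ eU.hom) ∧ GeometricallyIrreducible (ι ≫ G.t ≫ eU.hom) := by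
  exact main S G k eU Z ι hZ he

end Groth.Agent.S7516
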