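import Groth.Statements.S7519
import Groth.Agent.Lib.Helper16.FixedLocus
import Groth.Agent.Lib.Helper23.GrpSeparated

set_option autoImplicit false
universe u
open CategoryTheory MonoidalCategory CartesianMonoidalCategory MonObj GrpObj AlgebraicGeometry
open GrpSch

namespace Groth.Agent.S7519

/-- Let G be a group scheme locally of finite type over a field k. Then the centre of G is
(representable by) a closed subgroup scheme of G: there are a scheme Z over k and a closed immersion
Z -> G over k such that for every scheme T over k, a T-valued point g of G factors through Z if and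
only if g is central, i.e. for every T' -> T over k and every T'-valued point g' of G, the
restriction of g to T' commutes with g' in the group G(T'). -/
theorem result (K : Type u) [Field K] (G : Over (Spec (CommRingCat.of K))) [GrpObj G] [LocallyOfFiniteType G.hom] : ∃ (Z : Over (Spec (CommRingCat.of K))) (incl : Z ⟶ G), IsClosedImmersion incl.left ∧ ∀ (T : Over (Spec (CommRingCat.of K))) (g : T ⟶ G), (∃ z : T ⟶ Z, z ≫ incl = g) ↔ ∀ (T' : Over (Spec (CommRingCat.of K))) (h : T' ⟶ T) (g' : T' ⟶ G), (h ≫ g) * g' = g' * (h ≫ g) := by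
  haveI : IsSeparated G.hom := Lib.Helper23.GrpSeparated.isSeparated_of_field G
  -- conjugation `(y, x) ↦ y x y⁻¹`
  let a : G ⊗ G ⟶ G := (fst G G * snd G G) * (fst G G)⁻¹
  obtain ⟨Z, incl, hcl, hfix, huniv⟩ := Lib.Helper16.FixedLocus.exists_fixedLocus a
  -- the fixed-point condition is centrality against the universal point
  have key : ∀ (T : Over (Spec (CommRingCat.of K))) (x : T ⟶ G),
      (G ◁ x) ≫ a = snd G T ≫ x ↔ fst G T * (snd G T ≫ x) = (snd G T ≫ x) * fst G T := by
    intro T x
    have h1 : (G ◁ x) ≫ a = (fst G T * (snd G T ≫ x)) * (fst G T)⁻¹ := by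
      show (G ◁ x) ≫ ((fst G G * snd G G) * (fst G G)⁻¹) = _
      rw [MonObj.comp_mul, MonObj.comp_mul, GrpObj.comp_inv, whiskerLeft_fst, whiskerLeft_snd]
    rw [h1]
    constructor
    · intro h
      have := congrArg (fun m => m * fst G T) h
      simpa [_root_.mul_assoc] using this
    · intro h
      rw [h, _root_.mul_assoc, _root_.mul_inv_cancel, _root_.mul_one]
  refine ⟨Z, incl, hcl, fun T g => ⟨?_, ?_⟩⟩
  · rintro ⟨z, rfl⟩ T' h g'
    have h1 : (G ◁ (z ≫ incl)) ≫ a = snd G T ≫ z ≫ incl := by
      rw [MonoidalCategory.whiskerLeft_comp, Category.assoc, hfix, whiskerLeft_snd_assoc]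
    have h2 := (key T (z ≫ incl)).1 h1
    have h3 := congrArg (fun m => lift g' h ≫ m) h2
    simp only [MonObj.comp_mul, lift_fst, lift_snd_assoc] at h3
    exact h3.symm
  · intro h
    apply huniv T g
    rw [key]
    exact (h (G ⊗ T) (snd G T) (fst G T)).symm

end Groth.Agent.S7519
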