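import Groth.Statements.S7522
import Mathlib.AlgebraicGeometry.PullbackCarrier

set_option autoImplicit false
universe u
open CategoryTheory CategoryTheory.Limits AlgebraicGeometry
open Grpd

namespace Groth.Agent.S7522

/-- Let S be a scheme, U a scheme over S and j : R -> U x_S U a pre-equivalence relation, that is a
morphism such that for every scheme T the image of the T-points of R in pairs of T-points of U is an
equivalence relation; write t = pr_0 ∘ j and s = pr_1 ∘ j. Then the relation on the points of U in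
which x ∼ y when some point r of R has t(r) = x and s(r) = y is an equivalence relation. -/
theorem result {S U R : Scheme.{u}} (pU : U ⟶ S) (j : R ⟶ pullback pU pU) (hj : ∀ T : Scheme.{u}, Equivalence (fun a b : T ⟶ U => ∃ r : T ⟶ R, r ≫ j ≫ pullback.fst pU pU = a ∧ r ≫ j ≫ pullback.snd pU pU = b)) : Equivalence (fun x y : ↥U => ∃ r : R, (j ≫ pullback.fst pU pU) r = x ∧ (j ≫ pullback.snd pU pU) r = y) := by
  set t : R ⟶ U := j ≫ pullback.fst pU pU with ht
  set s : R ⟶ U := j ≫ pullback.snd pU pU with hs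
  refine ⟨fun x => ?_, ?_, ?_⟩
  · -- reflexivity: use the identity `U`-point of `U`
    obtain ⟨ρ, h1, h2⟩ := (hj U).refl (𝟙 U)
    refine ⟨ρ x, ?_, ?_⟩
    · have : (ρ ≫ t) x = x := by rw [h1]; rfl
      simpa using this
    · have : (ρ ≫ s) x = x := by rw [h2]; rfl
      simpa using this
  · -- symmetry: use the `R`-points `t`, `s`
    rintro x y ⟨r, rfl, rfl⟩
    obtain ⟨ρ, h1, h2⟩ := (hj R).symm ⟨𝟙 R, Category.id_comp _, Category.id_comp _⟩
    refine ⟨ρ r, ?_, ?_⟩
    · have : (ρ ≫ t) r = s r := by rw [h1]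
      simpa using this
    · have : (ρ ≫ s) r = t r := by rw [h2]
      simpa using this
  · -- transitivity: use the fibre product `R ×_{s,U,t} R`
    rintro x y z ⟨r₁, rfl, rfl⟩ ⟨r₂, h₂, rfl⟩
    obtain ⟨w, hw1, hw2⟩ := Scheme.Pullback.exists_preimage_pullback (f := s) (g := t) r₁ r₂ h₂.symm
    have hcond : pullback.fst s t ≫ s = pullback.snd s t ≫ t := pullback.condition
    obtain ⟨ρ, h1, h2⟩ := (hj (pullback s t)).trans
      (x := pullback.fst s t ≫ t) (y := pullback.fst s t ≫ s) (z := pullback.snd s t ≫ s)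
      ⟨pullback.fst s t, rfl, rfl⟩ ⟨pullback.snd s t, hcond.symm, rfl⟩
    refine ⟨ρ w, ?_, ?_⟩
    · have : (ρ ≫ t) w = (pullback.fst s t ≫ t) w := by rw [h1]
      simpa [hw1] using this
    · have : (ρ ≫ s) w = (pullback.snd s t ≫ s) w := by rw [h2]
      simpa [hw2] using this

end Groth.Agent.S7522
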