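import Groth.Statements.S7523
import Groth.Agent.Lib.Helper38.Spectral

set_option autoImplicit false
universe u
open SpecSp

namespace Groth.Agent.S7523

/-- For a spectral map f : X → Y between spectral spaces, (1) f remains continuous once X and Y are both
given their constructible topologies, (2) every fibre of f is quasi-compact, and (3) f(X) is a
closed subset of Y for the constructible topology. -/
theorem result {X Y : Type u} [TopologicalSpace X] [TopologicalSpace Y]
    [SpectralSpace X] [SpectralSpace Y] (f : X → Y) (hf : IsSpectralMap f) :
    @Continuous X Y (constructibleTopology X) (constructibleTopology Y) f ∧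
    (∀ y : Y, IsCompact (f ⁻¹' {y})) ∧
    @IsClosed Y (constructibleTopology Y) (Set.range f) := by
  exact ⟨Groth.Agent.Lib.Helper38.Spec.continuous_ct_of_isSpectralMap hf,
    Groth.Agent.Lib.Helper38.Spec.isCompact_fiber_of_isSpectralMap hf,
    Groth.Agent.Lib.Helper38.Spec.isClosed_ct_range_of_isSpectralMap hf⟩

end Groth.Agent.S7523
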