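import Groth.Statements.S7528
import Groth.Agent.Lib.Helper38.Spectral

set_option autoImplicit false
universe u
open SpecSp

namespace Groth.Agent.S7528

/-- For a spectral space X the following are equivalent: (1) X is profinite, i.e. quasi-compact,
Hausdorff and totally disconnected (quasi-compactness being automatic); (2) X is Hausdorff; (3) X is
totally disconnected; (4) every quasi-compact open subset is closed; (5) there are no nontrivial
specializations between points; (6) every point is closed; (7) every point is the generic point of
an irreducible component; (8) the constructible topology coincides with the topology of X. -/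
theorem result (X : Type u) [tX : TopologicalSpace X] [SpectralSpace X] :
    List.TFAE [
      T2Space X ∧ TotallyDisconnectedSpace X,
      T2Space X,
      TotallyDisconnectedSpace X,
      ∀ U : Set X, IsOpen U → IsCompact U → IsClosed U,
      ∀ x y : X, x ⤳ y → x = y,
      ∀ x : X, IsClosed ({x} : Set X),
      ∀ x : X, closure ({x} : Set X) ∈ irreducibleComponents X,
      constructibleTopology X = tX] := by
  tfae_have 1 → 2 := And.left
  tfae_have 1 → 3 := And.right
  tfae_have 2 → 4 := fun _ U _ hc => hc.isClosed
  tfae_have 3 → 5 := by
    intro _ x y hxy
    have hpre : IsPreconnected ({x, y} : Set X) := by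
      refine isPreconnected_singleton.subset_closure (s := {x}) (by simp) ?_
      intro z hz
      rcases hz with rfl | rfl
      · exact subset_closure rfl
      · exact specializes_iff_mem_closure.mp hxy
    exact hpre.subsingleton (by simp) (by simp)
  tfae_have 4 → 5 := by
    intro h x y hxy
    by_contra hne
    obtain ⟨U, hUo, hUc, hU | hU⟩ :=
      Groth.Agent.Lib.Helper38.Spec.exists_isCompact_isOpen_mem_notMem hne
    · exact hU.2 (hxy.mem_closed (h U hUo hUc) hU.1)
    · exact hU.2 (hxy.mem_open hUo hU.1)
  tfae_have 5 → 6 := by
    intro h x
    rw [← closure_subset_iff_isClosed]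
    intro y hy
    exact (h x y (specializes_iff_mem_closure.mpr hy)).symm
  tfae_have 6 → 5 := by
    intro h x y hxy
    have := specializes_iff_mem_closure.mp hxy
    rw [(h x).closure_eq] at this
    exact this.symm
  tfae_have 5 → 7 := by
    intro h x
    refine ⟨isIrreducible_singleton.closure, fun Z hZ hxZ => ?_⟩
    obtain ⟨η, hη⟩ := QuasiSober.sober hZ.closure isClosed_closure
    have hx : x ∈ closure Z := subset_closure (hxZ (subset_closure rfl))
    have hηx : η ⤳ x := hη.specializes hx
    have : η = x := h η x hηx
    subst this
    rw [hη.def]
    exact subset_closure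
  tfae_have 7 → 5 := by
    intro h x y hxy
    have h1 : closure ({y} : Set X) ⊆ closure {x} := specializes_iff_closure_subset.mp hxy
    have h2 : closure ({x} : Set X) ⊆ closure {y} :=
      (h y).2 isIrreducible_singleton.closure h1
    have hyx : y ⤳ x := specializes_iff_closure_subset.mpr h2
    exact (hxy.antisymm hyx).eq
  tfae_have 5 → 8 := by
    intro h
    refine le_antisymm Groth.Agent.Lib.Helper38.Spec.ct_le ?_
    rw [TopologicalSpace.le_def]
    intro E hE
    refine Groth.Agent.Lib.Helper38.Spec.isOpen_of_isOpen_ct_of_stableUnderGeneralization hE ?_
    intro a b hba ha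
    rw [h b a hba]
    exact ha
  tfae_have 8 → 1 := by
    intro h
    have hT2 : T2Space X := by
      have := Groth.Agent.Lib.Helper38.Spec.t2Space_ct (X := X)
      rwa [h] at this
    exact ⟨hT2, inferInstance⟩
  tfae_finish

end Groth.Agent.S7528
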