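import Groth.Statements.S7531
import Groth.Agent.Lib.Helper58.SpectralLimit
-- import your own Groth.Agent.* helpers here

set_option autoImplicit false
universe u
open CategoryTheory CategoryTheory.Limits
open SpecSp

namespace Groth.Agent.S7531

/-- A finite T0 quasi-sober space is spectral. -/
theorem spectralSpace_of_finite {X : Type u} [TopologicalSpace X] [Finite X] [T0Space X]
    [QuasiSober X] : SpectralSpace X :=
  { (inferInstance : T0Space X), (inferInstance : CompactSpace X),
    (inferInstance : QuasiSober X) with
    inter_isCompact := fun U V _ _ _ _ => (Set.toFinite (U ∩ V)).isCompact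
    isTopologicalBasis := by
      have : {U : Set X | IsOpen U ∧ IsCompact U} = {U : Set X | IsOpen U} := by
        ext U
        exact ⟨fun h => h.1, fun h => ⟨h, (Set.toFinite U).isCompact⟩⟩
      rw [this]
      exact TopologicalSpace.isTopologicalBasis_opens }

/-- Let J be a nonempty directed preordered set and let (X_j) be an inverse system of finite sober
topological spaces indexed by J (a functor from the opposite of J to topological spaces). Then any
limit of this system in the category of topological spaces is a spectral space. -/
theorem result {J : Type u} [Preorder J] [Nonempty J] [IsDirected J (· ≤ ·)]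
    (F : Jᵒᵖ ⥤ TopCat.{u})
    (hF : ∀ j : Jᵒᵖ, Finite (F.obj j) ∧ T0Space (F.obj j) ∧ QuasiSober (F.obj j))
    (c : Cone F) (hc : IsLimit c) :
    SpectralSpace c.pt := by
  have hF' : ∀ j, SpectralSpace (F.obj j) := fun j =>
    haveI := (hF j).1
    haveI := (hF j).2.1
    haveI := (hF j).2.2
    spectralSpace_of_finite
  have hFm : ∀ {i j : Jᵒᵖ} (a : i ⟶ j), IsSpectralMap (F.map a : F.obj i → F.obj j) :=
    fun {i j} a => ⟨(ConcreteCategory.hom (F.map a)).continuous, fun s _ _ =>
      haveI := (hF i).1
      (Set.toFinite _).isCompact⟩
  exact Groth.Agent.Lib.Helper58.spectralSpace_of_isLimit hc hF' hFm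

end Groth.Agent.S7531
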