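import Groth.Statements.S7532
import Groth.Agent.Lib.Helper58.ConsClosed
import Groth.Agent.Lib.Helper58.SierpinskiPower
-- import your own Groth.Agent.* helpers here

set_option autoImplicit false
universe u
open SpecSp

namespace Groth.Agent.S7532

open Topology TopologicalSpace Set Groth.Agent.Lib.Helper58

/-- Finite intersections of compact opens in a compact quasi-separated space. -/
theorem isOpen_isCompact_biInter_finset {X : Type u} [TopologicalSpace X] [CompactSpace X]
    [QuasiSeparatedSpace X] {ι : Type u} (t : Finset ι) (U : ι → Set X)
    (h : ∀ i, IsOpen (U i) ∧ IsCompact (U i)) :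
    IsOpen (⋂ i ∈ t, U i) ∧ IsCompact (⋂ i ∈ t, U i) := by
  classical
  induction t using Finset.induction_on with
  | empty => simpa using isCompact_univ
  | insert a t _ ih =>
    rw [Finset.set_biInter_insert]
    exact ⟨(h a).1.inter ih.1,
      QuasiSeparatedSpace.inter_isCompact _ _ (h a).1 (h a).2 ih.1 ih.2⟩

/-- The forward direction: a spectral space embeds into a power of the Sierpiński space with
constructibly closed image. -/
theorem exists_embedding_of_spectralSpace (X : Type u) [TopologicalSpace X] [SpectralSpace X] :
    ∃ (I : Type u) (f : X → (I → Prop)),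
      Topology.IsEmbedding f ∧
        @IsClosed (I → Prop) (constructibleTopology (I → Prop)) (Set.range f) := by
  let I := {U : Set X // IsOpen U ∧ IsCompact U}
  let f : X → (I → Prop) := fun x U => x ∈ U.1
  have hsp := spectralSpace_sierpinski_pi I
  have hcont : Continuous f := continuous_pi fun U => continuous_Prop.mpr U.2.1
  have hinj : Function.Injective f := by
    intro x y hxy
    apply Inseparable.eq
    rw [inseparable_iff_forall_isOpen]
    intro V hV
    constructor
    · intro h
      obtain ⟨B, hB, hxB, hBV⟩ :=
        PrespectralSpace.isTopologicalBasis.exists_subset_of_mem_open h hV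
      have : f x ⟨B, hB⟩ := hxB
      rw [hxy] at this
      exact hBV this
    · intro h
      obtain ⟨B, hB, hyB, hBV⟩ :=
        PrespectralSpace.isTopologicalBasis.exists_subset_of_mem_open h hV
      have : f y ⟨B, hB⟩ := hyB
      rw [← hxy] at this
      exact hBV this
  have hind : IsInducing f := by
    rw [isInducing_iff]
    refine le_antisymm (continuous_iff_le_induced.mp hcont) ?_
    intro V hV
    rw [isOpen_induced_iff]
    obtain ⟨S, hS, rfl⟩ := PrespectralSpace.isTopologicalBasis.open_eq_sUnion hV
    refine ⟨⋃ s : S, {A : I → Prop | A ⟨s.1, hS s.2⟩},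
      isOpen_iUnion fun s => continuous_Prop.mp (continuous_apply _), ?_⟩
    ext x
    simp only [preimage_iUnion, mem_iUnion, mem_preimage, mem_ofPred_eq, mem_sUnion]
    constructor
    · rintro ⟨s, hs⟩
      exact ⟨s.1, s.2, hs⟩
    · rintro ⟨s, hsS, hs⟩
      exact ⟨⟨s, hsS⟩, hs⟩
  have hspec : IsSpectralMap f := ⟨hcont, fun K hKo hKc => by
    obtain ⟨T, hT, rfl⟩ := (isCompact_open_iff_eq_finite_iUnion_of_isTopologicalBasis
      (sierpBasic I) (isTopologicalBasis_sierpBasic I) (isCompact_sierpBasic I) K).mp ⟨hKc, hKo⟩
    rw [preimage_iUnion₂]
    refine hT.isCompact_biUnion fun S _ => ?_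
    have : f ⁻¹' sierpBasic I S = ⋂ U ∈ S, (U.1 : Set X) := by
      ext x
      simp [sierpBasic, f]
    rw [this]
    exact (isOpen_isCompact_biInter_finset S (fun U : I => U.1) fun U => U.2).2⟩
  refine ⟨I, f, ⟨hind, hinj⟩, ?_⟩
  have hcc := continuous_constructibleTopology_of_isSpectralMap hspec
  have hcompX : @CompactSpace X (constructibleTopology X) := compactSpace_constructibleTopology
  have hcr : @IsCompact _ (constructibleTopology (I → Prop)) (range f) :=
    @isCompact_range _ _ (constructibleTopology X) (constructibleTopology (I → Prop)) hcompX f hcc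
  exact @IsCompact.isClosed _ (constructibleTopology (I → Prop)) t2Space_constructibleTopology _ hcr

/-- Let W be the two-point space with one closed and one non-closed point (here the Sierpiński topology
on Prop). A topological space X is spectral exactly when, for some index type I, X admits a
topological embedding into the power W^I whose image is a closed set for the constructible topology
on W^I. -/
theorem result (X : Type u) [TopologicalSpace X] :
    SpectralSpace X ↔ ∃ (I : Type u) (f : X → (I → Prop)),
      Topology.IsEmbedding f ∧ @IsClosed (I → Prop) (constructibleTopology (I → Prop)) (Set.range f) := by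
  constructor
  · intro hX
    exact exists_embedding_of_spectralSpace X
  · rintro ⟨I, f, hf, hcl⟩
    have h1 := spectralSpace_sierpinski_pi I
    have h2 : SpectralSpace (Set.range f) := spectralSpace_of_isClosed_constructibleTopology hcl
    have h3 : CompactSpace X := hf.toHomeomorph.symm.compactSpace
    exact hf.toHomeomorph.isOpenEmbedding.spectralSpace

end Groth.Agent.S7532
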