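import Groth.Statements.S7536
import Groth.Agent.Lib.Helper58.SpectralLimit
import Groth.Agent.Lib.Helper58.Constructible
-- import your own Groth.Agent.* helpers here

set_option autoImplicit false
universe u
open CategoryTheory CategoryTheory.Limits
open SpecSp

namespace Groth.Agent.S7536

/-- Let j ↦ X_j be a cofiltered diagram of spectral spaces with spectral transition maps and X its limit
with projections p_j. For every constructible E ⊆ X there are an object i and a constructible E_i ⊆
X_i with p_i⁻¹(E_i) = E; if E is open, resp. closed, then E_i may be chosen open, resp. closed. -/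
theorem result {J : Type u} [SmallCategory J] [IsCofiltered J] (F : J ⥤ TopCat.{u})
    (hF : ∀ j, SpectralSpace (F.obj j))
    (hFm : ∀ {i j : J} (a : i ⟶ j), IsSpectralMap (F.map a : F.obj i → F.obj j))
    (c : Cone F) (hc : IsLimit c)
    (E : Set c.pt) (hE : Topology.IsConstructible E) :
    (∃ (i : J) (Ei : Set (F.obj i)), Topology.IsConstructible Ei ∧ c.π.app i ⁻¹' Ei = E) ∧
    (IsOpen E → ∃ (i : J) (Ei : Set (F.obj i)), Topology.IsConstructible Ei ∧ IsOpen Ei ∧ c.π.app i ⁻¹' Ei = E) ∧
    (IsClosed E → ∃ (i : J) (Ei : Set (F.obj i)), Topology.IsConstructible Ei ∧ IsClosed Ei ∧ c.π.app i ⁻¹' Ei = E) := by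
  have hsp := Groth.Agent.Lib.Helper58.spectralSpace_of_isLimit hc hF hFm
  refine ⟨Groth.Agent.Lib.Helper58.exists_preimage_eq_of_isConstructible hc hF hFm hE, ?_, ?_⟩
  · intro hEo
    have hEc : IsCompact E :=
      (Groth.Agent.Lib.Helper58.isRetrocompact_of_isConstructible hE).isCompact
    obtain ⟨i, V, hVo, hVc, hV⟩ :=
      Groth.Agent.Lib.Helper58.exists_preimage_eq_of_isCompact_isOpen hc hF hFm hEo hEc
    exact ⟨i, V, hVc.isConstructible hVo, hVo, hV⟩
  · intro hEcl
    have hEc : IsCompact Eᶜ :=
      (Groth.Agent.Lib.Helper58.isRetrocompact_of_isConstructible hE.compl).isCompact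
    obtain ⟨i, V, hVo, hVc, hV⟩ :=
      Groth.Agent.Lib.Helper58.exists_preimage_eq_of_isCompact_isOpen hc hF hFm
        hEcl.isOpen_compl hEc
    refine ⟨i, Vᶜ, (hVc.isConstructible hVo).compl, hVo.isClosed_compl, ?_⟩
    rw [Set.preimage_compl, hV, compl_compl]

end Groth.Agent.S7536
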