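import Groth.Statements.S7538
import Groth.Agent.Lib.Helper58.SpectralLimit
-- import your own Groth.Agent.* helpers here

set_option autoImplicit false
universe u
open CategoryTheory CategoryTheory.Limits
open SpecSp

namespace Groth.Agent.S7538

open Topology

/-- Let j ↦ X_j be a cofiltered diagram of spectral spaces with spectral transition maps f_a and X its
limit with projections p_j. (1) Any quasi-compact open U ⊆ X is p_i⁻¹(U_i) for some i and some
quasi-compact open U_i ⊆ X_i. (2) If U_i ⊆ X_i and U_j ⊆ X_j are quasi-compact opens with p_i⁻¹(U_i)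
⊆ p_j⁻¹(U_j), there are k and a : k → i, b : k → j with f_a⁻¹(U_i) ⊆ f_b⁻¹(U_j). (3) If U_i and
finitely many U_{l,i} are quasi-compact opens of X_i with p_i⁻¹(U_i) = ⋃_l p_i⁻¹(U_{l,i}), then
f_a⁻¹(U_i) = ⋃_l f_a⁻¹(U_{l,i}) for some a : j → i. (4) The same with intersections. -/
theorem result {J : Type u} [SmallCategory J] [IsCofiltered J] (F : J ⥤ TopCat.{u})
    (hF : ∀ j, SpectralSpace (F.obj j))
    (hFm : ∀ {i j : J} (a : i ⟶ j), IsSpectralMap (F.map a : F.obj i → F.obj j))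
    (c : Cone F) (hc : IsLimit c) :
    (∀ U : Set c.pt, IsOpen U → IsCompact U →
      ∃ (i : J) (Ui : Set (F.obj i)), IsOpen Ui ∧ IsCompact Ui ∧ c.π.app i ⁻¹' Ui = U) ∧
    (∀ (i j : J) (Ui : Set (F.obj i)) (Uj : Set (F.obj j)),
      IsOpen Ui → IsCompact Ui → IsOpen Uj → IsCompact Uj →
      c.π.app i ⁻¹' Ui ⊆ c.π.app j ⁻¹' Uj →
      ∃ (k : J) (a : k ⟶ i) (b : k ⟶ j), F.map a ⁻¹' Ui ⊆ F.map b ⁻¹' Uj) ∧
    (∀ (i : J) (n : ℕ) (Ui : Set (F.obj i)) (V : Fin n → Set (F.obj i)),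
      IsOpen Ui → IsCompact Ui → (∀ l, IsOpen (V l) ∧ IsCompact (V l)) →
      (c.π.app i ⁻¹' Ui = ⋃ l, c.π.app i ⁻¹' V l →
        ∃ (j : J) (a : j ⟶ i), F.map a ⁻¹' Ui = ⋃ l, F.map a ⁻¹' V l) ∧
      (c.π.app i ⁻¹' Ui = ⋂ l, c.π.app i ⁻¹' V l →
        ∃ (j : J) (a : j ⟶ i), F.map a ⁻¹' Ui = ⋂ l, F.map a ⁻¹' V l)) := by
  have hclopen : ∀ (i : J) (V : Set (F.obj i)), IsOpen V → IsCompact V →
      IsClosed[constructibleTopology (F.obj i)] V ∧ IsOpen[constructibleTopology (F.obj i)] V :=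
    fun i V hVo hVc =>
      ⟨Groth.Agent.Lib.Helper58.isClosed_constructibleTopology_of_isCompact_isOpen hVo hVc,
        hVc.isOpen_constructibleTopology_of_isOpen hVo⟩
  refine ⟨?_, ?_, ?_⟩
  · intro U hUo hUc
    exact Groth.Agent.Lib.Helper58.exists_preimage_eq_of_isCompact_isOpen hc hF hFm hUo hUc
  · intro i j Ui Uj hUio hUic hUjo hUjc hsub
    have h1 := hclopen _ _ (hUio.preimage (hFm (IsCofiltered.minToLeft i j)).continuous)
      ((hFm (IsCofiltered.minToLeft i j)).isCompact_preimage_of_isOpen hUio hUic)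
    have h2 := hclopen _ _ (hUjo.preimage (hFm (IsCofiltered.minToRight i j)).continuous)
      ((hFm (IsCofiltered.minToRight i j)).isCompact_preimage_of_isOpen hUjo hUjc)
    have hsub' : c.π.app (IsCofiltered.min i j) ⁻¹' (F.map (IsCofiltered.minToLeft i j) ⁻¹' Ui) ⊆
        c.π.app (IsCofiltered.min i j) ⁻¹' (F.map (IsCofiltered.minToRight i j) ⁻¹' Uj) := by
      intro x hx
      simp only [Set.mem_preimage, Groth.Agent.Lib.Helper58.proj_compatible] at hx ⊢
      exact hsub hx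
    obtain ⟨k, d, hd⟩ := (Groth.Agent.Lib.Helper58.preimage_subset_preimage_iff_exists hc hF hFm
      (IsCofiltered.min i j) _ _ h1.1 h2.2).mp hsub'
    refine ⟨k, d ≫ IsCofiltered.minToLeft i j, d ≫ IsCofiltered.minToRight i j, ?_⟩
    intro x hx
    have : x ∈ F.map d ⁻¹' (F.map (IsCofiltered.minToLeft i j) ⁻¹' Ui) := by
      simpa only [F.map_comp, Set.mem_preimage, TopCat.comp_app] using hx
    simpa only [F.map_comp, Set.mem_preimage, TopCat.comp_app] using hd this
  · intro i n Ui V hUio hUic hV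
    have hUi := hclopen i Ui hUio hUic
    have hVl := fun l => hclopen i (V l) (hV l).1 (hV l).2
    constructor
    · intro h
      have hW : IsClosed[constructibleTopology (F.obj i)] (⋃ l, V l) ∧
          IsOpen[constructibleTopology (F.obj i)] (⋃ l, V l) :=
        ⟨@isClosed_iUnion_of_finite _ _ (constructibleTopology (F.obj i)) _ _ fun l => (hVl l).1,
          @isOpen_iUnion _ _ (constructibleTopology (F.obj i)) _ fun l => (hVl l).2⟩
      obtain ⟨j, a, ha⟩ := Groth.Agent.Lib.Helper58.exists_preimage_eq_preimage hc hF hFm i Ui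
        (⋃ l, V l) hUi.1 hUi.2 hW.1 hW.2 (by rw [h, Set.preimage_iUnion])
      exact ⟨j, a, by rw [ha, Set.preimage_iUnion]⟩
    · intro h
      have hW : IsClosed[constructibleTopology (F.obj i)] (⋂ l, V l) ∧
          IsOpen[constructibleTopology (F.obj i)] (⋂ l, V l) :=
        ⟨@isClosed_iInter _ _ (constructibleTopology (F.obj i)) _ fun l => (hVl l).1,
          @isOpen_iInter_of_finite _ _ (constructibleTopology (F.obj i)) _ _ fun l => (hVl l).2⟩
      obtain ⟨j, a, ha⟩ := Groth.Agent.Lib.Helper58.exists_preimage_eq_preimage hc hF hFm i Ui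
        (⋂ l, V l) hUi.1 hUi.2 hW.1 hW.2 (by rw [h, Set.preimage_iInter])
      exact ⟨j, a, by rw [ha, Set.preimage_iInter]⟩

end Groth.Agent.S7538
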