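import Groth.Statements.S7540
import Mathlib.Topology.Spectral.ConstructibleTopology
-- import your own Groth.Agent.* helpers here

set_option autoImplicit false
universe u
open SpecSp
open Topology

namespace Groth.Agent.S7540

/-- In a prespectral space every open set is open for the constructible topology. -/
theorem isOpen_constructible_of_isOpen {X : Type u} [TopologicalSpace X] [PrespectralSpace X]
    {V : Set X} (hV : IsOpen V) : IsOpen[constructibleTopology X] V := by
  obtain ⟨S, hS, rfl⟩ := PrespectralSpace.isTopologicalBasis.open_eq_sUnion hV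
  exact @isOpen_sUnion X (constructibleTopology X) S fun t ht =>
    (hS ht).2.isOpen_constructibleTopology_of_isOpen (hS ht).1

/-- Let X be a spectral space, I a nonempty index set and U_i ⊆ X quasi-compact opens such that for all
i, j some U_k lies in U_i ∩ U_j; put W = ⋂ U_i. Then every open subset of X containing W contains
some U_i. The published statement also asserts that W is spectral and is the limit of the U_i; this
row states the neighbourhood property. -/
theorem result {X : Type u} [TopologicalSpace X] [SpectralSpace X]
    {I : Type u} [Nonempty I] (U : I → Set X) (hU : ∀ i, IsOpen (U i) ∧ IsCompact (U i))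
    (hdir : ∀ i j, ∃ k, U k ⊆ U i ∩ U j) :
    ∀ V : Set X, IsOpen V → (⋂ i, U i) ⊆ V → ∃ i, U i ⊆ V := by
  intro V hV hWV
  have hcomp : @CompactSpace X (constructibleTopology X) := by
    have h := compactSpace_withConstructibleTopology (X := X)
    exact @Function.Surjective.compactSpace _ _ _ (constructibleTopology X) _
      (WithTopology.continuous_ofTopology _) h (WithTopology.ofTopology_surjective _)
  have hclosed : ∀ i, IsClosed[constructibleTopology X] (U i ∩ Vᶜ) := by
    intro i
    refine @IsClosed.inter X _ _ (constructibleTopology X) ?_ ?_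
    · rw [← @isOpen_compl_iff X _ (constructibleTopology X)]
      exact IsCompact.isOpen_constructibleTopology_of_isClosed (by simpa using (hU i).2)
        (hU i).1.isClosed_compl
    · rw [← @isOpen_compl_iff X _ (constructibleTopology X), compl_compl]
      exact isOpen_constructible_of_isOpen hV
  have hdirected : Directed (· ⊇ ·) fun i => U i ∩ Vᶜ := by
    intro i j
    obtain ⟨k, hk⟩ := hdir i j
    exact ⟨k, fun x hx => ⟨(hk hx.1).1, hx.2⟩, fun x hx => ⟨(hk hx.1).2, hx.2⟩⟩
  have hempty : (Set.univ ∩ ⋂ i, (U i ∩ Vᶜ)) = ∅ := by
    rw [Set.eq_empty_iff_forall_notMem]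
    rintro x ⟨-, hx⟩
    rw [Set.mem_iInter] at hx
    exact (hx (Classical.arbitrary I)).2 (hWV (Set.mem_iInter.mpr fun i => (hx i).1))
  obtain ⟨i, hi⟩ := @IsCompact.elim_directed_family_closed X (constructibleTopology X) Set.univ I _
    (@isCompact_univ X (constructibleTopology X) hcomp) _ hclosed hempty hdirected
  refine ⟨i, fun x hx => ?_⟩
  by_contra hxV
  have : x ∈ Set.univ ∩ (U i ∩ Vᶜ) := ⟨trivial, hx, hxV⟩
  rw [hi] at this
  exact this

end Groth.Agent.S7540
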