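import Groth.Statements.S7544
import Mathlib.Topology.Constructible
import Mathlib.Topology.Spectral.Prespectral
import Mathlib.Topology.LocallyClosed
-- import your own Groth.Agent.* helpers here

set_option autoImplicit false
universe u
open ConstrTop

namespace Groth.Agent.S7544

/-- Let X be a quasi-compact topological space whose quasi-compact opens form a basis and are closed
under pairwise intersection. Take T ⊆ X to be locally closed, quasi-compact, and with retrocompact
complement. Then T is constructible in X. -/
theorem result {X : Type u} [TopologicalSpace X]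
    [CompactSpace X] [PrespectralSpace X] [QuasiSeparatedSpace X]
    (T : Set X) (hT : IsLocallyClosed T) (hTc : IsCompact T) (hTr : IsRetrocompact Tᶜ) :
    Topology.IsConstructible T := by
  obtain ⟨U, hUc, hUo, hTU, hUcob⟩ :=
    PrespectralSpace.exists_isCompact_and_isOpen_between hTc hT.isOpen_coborder subset_coborder
  have hT_eq : T = closure T ∩ U := by
    apply Set.Subset.antisymm
    · exact fun x hx => ⟨subset_closure hx, hTU hx⟩
    · intro x hx
      have : x ∈ closure T ∩ coborder T := ⟨hx.1, hUcob hx.2⟩
      rwa [closure_inter_coborder] at this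
  have hdiff_eq : U \ T = U ∩ (closure T)ᶜ := by
    ext x
    constructor
    · rintro ⟨hxU, hxT⟩
      refine ⟨hxU, fun hxc => hxT ?_⟩
      rw [hT_eq]
      exact ⟨hxc, hxU⟩
    · rintro ⟨hxU, hxc⟩
      exact ⟨hxU, fun hxT => hxc (subset_closure hxT)⟩
  have hdiff_open : IsOpen (U \ T) := by
    rw [hdiff_eq]
    exact hUo.inter isClosed_closure.isOpen_compl
  have hdiff_compact : IsCompact (U \ T) := by
    have := hTr hUc hUo
    rwa [Set.inter_comm, ← Set.sdiff_eq] at this
  have hfinal : T = U \ (U \ T) := by
    rw [Set.sdiff_sdiff_right_self, Set.inter_eq_right.mpr hTU]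
  rw [hfinal]
  exact (hUc.isConstructible hUo).sdiff (hdiff_compact.isConstructible hdiff_open)

end Groth.Agent.S7544
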