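import Groth.Statements.S7546
import Mathlib.Topology.LocallyClosed
import Mathlib.Topology.Irreducible
-- import your own Groth.Agent.* helpers here

set_option autoImplicit false
universe u
open ConstrTop

namespace Groth.Agent.S7546

/-- Let X be a topological space, Z ⊆ X irreducible and E ⊆ X a finite union of locally closed subsets
(for instance a constructible set). Then E ∩ Z is dense in Z if and only if E ∩ Z contains a subset
of the form U ∩ Z, U open in X, which is dense in Z. If moreover ξ ∈ Z is a generic point of Z,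
these conditions are equivalent to ξ ∈ E. -/
theorem result {X : Type u} [TopologicalSpace X] (Z : Set X) (hZ : IsIrreducible Z)
    {n : ℕ} (L : Fin n → Set X) (hL : ∀ i, IsLocallyClosed (L i)) (E : Set X) (hE : E = ⋃ i, L i) :
    (Z ⊆ closure (E ∩ Z) ↔ ∃ U : Set X, IsOpen U ∧ U ∩ Z ⊆ E ∧ Z ⊆ closure (U ∩ Z)) ∧
    (∀ ξ : X, ξ ∈ Z → Z ⊆ closure {ξ} → (Z ⊆ closure (E ∩ Z) ↔ ξ ∈ E)) := by
  subst hE
  have key : Z ⊆ closure ((⋃ i, L i) ∩ Z) →
      ∃ U : Set X, IsOpen U ∧ U ∩ Z ⊆ (⋃ i, L i) ∧ Z ⊆ closure (U ∩ Z) := by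
    intro hdense
    have hcl : closure ((⋃ i, L i) ∩ Z) = ⋃ i, closure (L i ∩ Z) := by
      rw [Set.iUnion_inter, closure_iUnion_of_finite]
    rw [hcl] at hdense
    -- an irreducible set contained in a finite union of closed sets lies in one of them
    obtain ⟨i, hi⟩ : ∃ i, Z ⊆ closure (L i ∩ Z) := by
      have := (isIrreducible_iff_sUnion_isClosed.mp hZ)
        (Finset.univ.image fun i => closure (L i ∩ Z))
        (by
          intro t ht
          simp only [Finset.mem_image, Finset.mem_univ, true_and] at ht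
          obtain ⟨i, rfl⟩ := ht
          exact isClosed_closure)
        (by
          intro x hx
          obtain ⟨i, hi⟩ := Set.mem_iUnion.mp (hdense hx)
          exact Set.mem_sUnion.mpr ⟨_, by simp, hi⟩)
      obtain ⟨t, ht, hZt⟩ := this
      simp only [Finset.mem_image, Finset.mem_univ, true_and] at ht
      obtain ⟨i, rfl⟩ := ht
      exact ⟨i, hZt⟩
    obtain ⟨O, C, hO, hC, hLi⟩ := hL i
    have hZC : Z ⊆ C := by
      refine hi.trans (closure_minimal ?_ hC)
      rw [hLi]
      exact fun x hx => hx.1.2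
    have hOZ : O ∩ Z = L i ∩ Z := by
      rw [hLi]
      ext x
      constructor
      · rintro ⟨hxO, hxZ⟩
        exact ⟨⟨hxO, hZC hxZ⟩, hxZ⟩
      · rintro ⟨⟨hxO, -⟩, hxZ⟩
        exact ⟨hxO, hxZ⟩
    refine ⟨O, hO, ?_, ?_⟩
    · rw [hOZ]
      exact fun x hx => Set.mem_iUnion.mpr ⟨i, hx.1⟩
    · rw [hOZ]
      exact hi
  have back : (∃ U : Set X, IsOpen U ∧ U ∩ Z ⊆ (⋃ i, L i) ∧ Z ⊆ closure (U ∩ Z)) →
      Z ⊆ closure ((⋃ i, L i) ∩ Z) := by
    rintro ⟨U, -, hUE, hZU⟩
    exact hZU.trans (closure_mono fun x hx => ⟨hUE hx, hx.2⟩)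
  refine ⟨⟨key, back⟩, ?_⟩
  intro ξ hξZ hξ
  constructor
  · intro hdense
    obtain ⟨U, hUo, hUE, hZU⟩ := key hdense
    have hne : (U ∩ Z).Nonempty := by
      by_contra hempty
      rw [Set.not_nonempty_iff_eq_empty] at hempty
      rw [hempty, closure_empty] at hZU
      exact hZU hξZ
    obtain ⟨z, hzU, hzZ⟩ := hne
    have hzξ : z ∈ closure ({ξ} : Set X) := hξ hzZ
    have hξU : ξ ∈ U := by
      rw [mem_closure_iff] at hzξ
      obtain ⟨w, hwU, hw⟩ := hzξ U hUo hzU
      rw [Set.mem_singleton_iff] at hw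
      rwa [← hw]
    exact hUE ⟨hξU, hξZ⟩
  · intro hξE
    refine hξ.trans (closure_mono ?_)
    intro x hx
    rw [Set.mem_singleton_iff] at hx
    subst hx
    exact ⟨hξE, hξZ⟩

end Groth.Agent.S7546
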