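import Groth.Statements.S7547
import Mathlib.Topology.JacobsonSpace
import Mathlib.Topology.Spectral.Prespectral
import Mathlib.Topology.Separation.Basic
-- import your own Groth.Agent.* helpers here

set_option autoImplicit false
universe u
open PtTop

namespace Groth.Agent.S7547

/-- Let X be a Kolmogorov topological space whose quasi-compact opens form a basis for the topology. If
X is not Jacobson, there is a point x ∈ X which is not closed but such that {x} is locally closed. -/
theorem result {X : Type u} [TopologicalSpace X]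
    [T0Space X] [PrespectralSpace X] (hX : ¬ JacobsonSpace X) :
    ∃ x : X, ¬ IsClosed ({x} : Set X) ∧ IsLocallyClosed ({x} : Set X) := by
  rw [jacobsonSpace_iff_locallyClosed] at hX
  push_neg at hX
  obtain ⟨Z, ⟨z, hz⟩, hZlc, hZcl⟩ := hX
  obtain ⟨O, C, hO, hC, rfl⟩ := hZlc
  obtain ⟨B, ⟨hBo, hBc⟩, hzB, hBO⟩ :=
    PrespectralSpace.isTopologicalBasis.exists_subset_of_mem_open hz.1 hO
  -- `B ∩ C` is a nonempty compact T0 space, hence has a closed point
  have hK : IsCompact (B ∩ C) := hBc.inter_right hC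
  haveI : CompactSpace ↥(B ∩ C) := isCompact_iff_compactSpace.mp hK
  obtain ⟨x, -, hx⟩ := (isClosed_univ (X := ↥(B ∩ C))).exists_closed_singleton
    ⟨⟨z, hzB, hz.2⟩, trivial⟩
  obtain ⟨D, hD, hDx⟩ := isClosed_induced_iff.mp hx
  have hxeq : ({x.1} : Set X) = B ∩ (C ∩ D) := by
    ext y
    constructor
    · intro hy
      rw [Set.mem_singleton_iff] at hy
      subst hy
      have : x ∈ (Subtype.val : ↥(B ∩ C) → X) ⁻¹' D := by rw [hDx]; rfl
      exact ⟨x.2.1, x.2.2, this⟩
    · rintro ⟨hyB, hyC, hyD⟩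
      have : (⟨y, hyB, hyC⟩ : ↥(B ∩ C)) ∈ (Subtype.val : ↥(B ∩ C) → X) ⁻¹' D := hyD
      rw [hDx, Set.mem_singleton_iff] at this
      rw [Set.mem_singleton_iff, ← this]
  refine ⟨x.1, ?_, ?_⟩
  · intro hcl
    have : x.1 ∈ O ∩ C ∩ closedPoints X := ⟨⟨hBO x.2.1, x.2.2⟩, hcl⟩
    rw [hZcl] at this
    exact this
  · rw [hxeq]
    exact ⟨B, C ∩ D, hBo, hC.inter hD, rfl⟩

end Groth.Agent.S7547
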