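import Groth.Statements.S7548
import Mathlib.Topology.JacobsonSpace
import Mathlib.Topology.LocallyClosed
-- import your own Groth.Agent.* helpers here

set_option autoImplicit false
universe u
open PtTop

namespace Groth.Agent.S7548

/-- Let X be a Jacobson space and let T = ⋃ T_i be a union of subsets T_i ⊆ X each locally closed in X
(open, closed, locally closed and constructible subsets are of this form). Then T is Jacobson and
every point of T closed in T is closed in X. -/
theorem result {X : Type u} [TopologicalSpace X] [JacobsonSpace X]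
    {ι : Type u} (T : ι → Set X) (hT : ∀ i, IsLocallyClosed (T i)) :
    JacobsonSpace ↥(⋃ i, T i) ∧
      closedPoints ↥(⋃ i, T i) ⊆ (Subtype.val : ↥(⋃ i, T i) → X) ⁻¹' closedPoints X := by
  have hsub : ∀ i, T i ⊆ ⋃ i, T i := fun i => Set.subset_iUnion T i
  constructor
  · rw [jacobsonSpace_iff_locallyClosed]
    rintro Z ⟨z, hz⟩ hZ
    obtain ⟨Z', hZ', rfl⟩ := Topology.IsInducing.subtypeVal.isLocallyClosed_iff.mp hZ
    obtain ⟨i, hi⟩ := Set.mem_iUnion.mp z.2
    obtain ⟨x, ⟨hxZ', hxTi⟩, hxcl⟩ :=
      nonempty_inter_closedPoints (Z := Z' ∩ T i) ⟨z.1, hz, hi⟩ (hZ'.inter (hT i))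
    refine ⟨⟨x, hsub i hxTi⟩, hxZ', ?_⟩
    exact preimage_closedPoints_subset Subtype.val_injective continuous_subtype_val hxcl
  · intro x hx
    rw [mem_closedPoints_iff] at hx
    obtain ⟨D, hD, hDx⟩ := isClosed_induced_iff.mp hx
    obtain ⟨i, hi⟩ := Set.mem_iUnion.mp x.2
    have hxeq : ({x.1} : Set X) = T i ∩ D := by
      ext y
      constructor
      · intro hy
        rw [Set.mem_singleton_iff] at hy
        subst hy
        have : x ∈ (Subtype.val : ↥(⋃ i, T i) → X) ⁻¹' D := by rw [hDx]; rfl
        exact ⟨hi, this⟩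
      · rintro ⟨hyT, hyD⟩
        have : (⟨y, hsub i hyT⟩ : ↥(⋃ i, T i)) ∈ (Subtype.val : ↥(⋃ i, T i) → X) ⁻¹' D := hyD
        rw [hDx, Set.mem_singleton_iff] at this
        rw [Set.mem_singleton_iff, ← this]
    show IsClosed ({x.1} : Set X)
    apply isClosed_singleton_of_isLocallyClosed_singleton
    rw [hxeq]
    exact (hT i).inter hD.isLocallyClosed

end Groth.Agent.S7548
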