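import Groth.Statements.S7549
import Mathlib.Topology.JacobsonSpace
import Mathlib.Topology.Constructible
-- import your own Groth.Agent.* helpers here

set_option autoImplicit false
universe u
open PtTop

namespace Groth.Agent.S7549

open Topology Set in
/-- A nonempty constructible subset of a Jacobson space contains a closed point. -/
theorem nonempty_inter_closedPoints_of_isConstructible {X : Type u} [TopologicalSpace X]
    [JacobsonSpace X] {E : Set X} (hE : IsConstructible E) :
    E.Nonempty → (E ∩ closedPoints X).Nonempty := by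
  induction E, hE using BooleanSubalgebra.closure_sdiff_sup_induction with
  | isSublattice =>
    exact ⟨fun s hs t ht ↦ ⟨hs.1.union ht.1, hs.2.union ht.2⟩,
      fun s hs t ht ↦ ⟨hs.1.inter ht.1, hs.2.inter_isOpen ht.2 ht.1⟩⟩
  | bot_mem => exact ⟨isOpen_empty, .empty⟩
  | top_mem => exact ⟨isOpen_univ, .univ⟩
  | sdiff U hU V hV =>
    intro hne
    exact nonempty_inter_closedPoints hne
      (hU.1.isLocallyClosed.inter hV.1.isClosed_compl.isLocallyClosed)
  | sup s _ t _ hs' ht' =>
    rintro ⟨x, hx | hx⟩
    · obtain ⟨y, hy, hy'⟩ := hs' ⟨x, hx⟩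
      exact ⟨y, Or.inl hy, hy'⟩
    · obtain ⟨y, hy, hy'⟩ := ht' ⟨x, hx⟩
      exact ⟨y, Or.inr hy, hy'⟩

open Topology Set in
/-- In a Jacobson space, inclusions of constructible sets can be tested on closed points. -/
theorem subset_of_preimage_closedPoints_subset {X : Type u} [TopologicalSpace X]
    [JacobsonSpace X] {E E' : Set X} (hE : IsConstructible E) (hE' : IsConstructible E')
    (h : (Subtype.val : closedPoints X → X) ⁻¹' E ⊆ Subtype.val ⁻¹' E') : E ⊆ E' := by
  by_contra hne
  rw [← Set.sdiff_eq_empty, ← Set.not_nonempty_iff_eq_empty, not_not] at hne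
  obtain ⟨x, ⟨hxE, hxE'⟩, hxcl⟩ := nonempty_inter_closedPoints_of_isConstructible
    (hE.sdiff hE') hne
  exact hxE' (h (a := ⟨x, hxcl⟩) hxE)

open Topology Set in
/-- In a Jacobson space, an open set is compact iff its set of closed points is. -/
theorem isCompact_iff_preimage_closedPoints {X : Type u} [TopologicalSpace X]
    [JacobsonSpace X] {U : Set X} (hU : IsOpen U) :
    IsCompact U ↔ IsCompact ((Subtype.val : closedPoints X → X) ⁻¹' U) := by
  have key : ∀ {ι : Type u} (W : ι → Set X), (∀ i, IsOpen (W i)) → ∀ s : Finset ι,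
      ((Subtype.val : closedPoints X → X) ⁻¹' U ⊆ ⋃ i ∈ s, Subtype.val ⁻¹' W i) →
      U ⊆ ⋃ i ∈ s, W i := by
    intro ι W hW s hs
    by_contra hne
    rw [← Set.sdiff_eq_empty, ← Set.not_nonempty_iff_eq_empty, not_not] at hne
    have hlc : IsLocallyClosed (U \ ⋃ i ∈ s, W i) :=
      hU.isLocallyClosed.inter
        (isOpen_biUnion fun i _ => hW i).isClosed_compl.isLocallyClosed
    obtain ⟨x, ⟨hxU, hxW⟩, hxcl⟩ := nonempty_inter_closedPoints hne hlc
    have := hs (a := ⟨x, hxcl⟩) hxU
    simp only [mem_iUnion, mem_preimage, exists_prop] at this hxW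
    exact hxW this
  constructor
  · intro hc
    rw [isCompact_iff_finite_subcover]
    intro ι W hW hcov
    choose W' hW'o hW' using fun i => isOpen_induced_iff.mp (hW i)
    have hUW : U ⊆ ⋃ i, W' i := by
      by_contra hne
      rw [← Set.sdiff_eq_empty, ← Set.not_nonempty_iff_eq_empty, not_not] at hne
      have hlc : IsLocallyClosed (U \ ⋃ i, W' i) :=
        hU.isLocallyClosed.inter (isOpen_iUnion hW'o).isClosed_compl.isLocallyClosed
      obtain ⟨x, ⟨hxU, hxW⟩, hxcl⟩ := nonempty_inter_closedPoints hne hlc
      have := hcov (a := ⟨x, hxcl⟩) hxU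
      simp only [mem_iUnion] at this hxW
      obtain ⟨i, hi⟩ := this
      rw [← hW' i] at hi
      exact hxW ⟨i, hi⟩
    obtain ⟨s, hs⟩ := hc.elim_finite_subcover W' hW'o hUW
    refine ⟨s, fun x hx => ?_⟩
    have := hs hx
    simp only [mem_iUnion, exists_prop] at this ⊢
    obtain ⟨i, his, hi⟩ := this
    exact ⟨i, his, by rw [← hW' i]; exact hi⟩
  · intro hc
    rw [isCompact_iff_finite_subcover]
    intro ι W hW hcov
    obtain ⟨s, hs⟩ := hc.elim_finite_subcover (fun i => (Subtype.val : closedPoints X → X) ⁻¹' W i)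
      (fun i => (hW i).preimage continuous_subtype_val)
      (by
        intro x hx
        have := hcov hx
        simp only [mem_iUnion] at this ⊢
        exact this)
    exact ⟨s, key W hW s hs⟩

open Topology Set in
/-- In a Jacobson space, an open set is retrocompact iff its set of closed points is. -/
theorem isRetrocompact_iff_preimage_closedPoints {X : Type u} [TopologicalSpace X]
    [JacobsonSpace X] {U : Set X} (hU : IsOpen U) :
    IsRetrocompact U ↔ IsRetrocompact ((Subtype.val : closedPoints X → X) ⁻¹' U) := by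
  constructor
  · intro hr Q hQc hQo
    obtain ⟨V, hVo, rfl⟩ := isOpen_induced_iff.mp hQo
    have hVc : IsCompact V := (isCompact_iff_preimage_closedPoints hVo).mpr hQc
    rw [← preimage_inter, ← isCompact_iff_preimage_closedPoints (hU.inter hVo)]
    exact hr hVc hVo
  · intro hr V hVc hVo
    rw [isCompact_iff_preimage_closedPoints (hU.inter hVo), preimage_inter]
    exact hr ((isCompact_iff_preimage_closedPoints hVo).mp hVc)
      (hVo.preimage continuous_subtype_val)

/-- Let X be a Jacobson space and X₀ ⊆ X the subspace of closed points. (a) For U ⊆ X open, U is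
quasi-compact if and only if U ∩ X₀ is quasi-compact, and U is retrocompact in X if and only if U ∩
X₀ is retrocompact in X₀. (b) The rule E ↦ E ∩ X₀ is an inclusion-preserving and
inclusion-reflecting bijection between the constructible subsets of X and the constructible subsets
of X₀. -/
theorem result {X : Type u} [TopologicalSpace X] [JacobsonSpace X] :
    (∀ U : Set X, IsOpen U →
      (IsCompact U ↔ IsCompact ((Subtype.val : closedPoints X → X) ⁻¹' U)) ∧
      (IsRetrocompact U ↔ IsRetrocompact ((Subtype.val : closedPoints X → X) ⁻¹' U))) ∧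
    (∀ E : Set X, Topology.IsConstructible E →
      Topology.IsConstructible ((Subtype.val : closedPoints X → X) ⁻¹' E)) ∧
    (∀ E E' : Set X, Topology.IsConstructible E → Topology.IsConstructible E' →
      ((Subtype.val : closedPoints X → X) ⁻¹' E ⊆ Subtype.val ⁻¹' E' ↔ E ⊆ E')) ∧
    (∀ F : Set (closedPoints X), Topology.IsConstructible F →
      ∃ E : Set X, Topology.IsConstructible E ∧ (Subtype.val : closedPoints X → X) ⁻¹' E = F) := by
  refine ⟨fun U hU => ⟨isCompact_iff_preimage_closedPoints hU,
    isRetrocompact_iff_preimage_closedPoints hU⟩, ?_, ?_, ?_⟩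
  · intro E hE
    exact hE.preimage continuous_subtype_val fun U hUo hUr =>
      (isRetrocompact_iff_preimage_closedPoints hUo).mp hUr
  · intro E E' hE hE'
    exact ⟨subset_of_preimage_closedPoints_subset hE hE', fun h => Set.preimage_mono h⟩
  · intro F hF
    induction hF using Topology.IsConstructible.empty_union_induction with
    | open_retrocompact W hWo hWr =>
      obtain ⟨U, hUo, rfl⟩ := isOpen_induced_iff.mp hWo
      exact ⟨U, ((isRetrocompact_iff_preimage_closedPoints hUo).mpr hWr).isConstructible hUo, rfl⟩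
    | union s hs t ht hs' ht' =>
      obtain ⟨Es, hEs, rfl⟩ := hs'
      obtain ⟨Et, hEt, rfl⟩ := ht'
      exact ⟨Es ∪ Et, hEs.union hEt, rfl⟩
    | compl s hs hs' =>
      obtain ⟨Es, hEs, rfl⟩ := hs'
      exact ⟨Esᶜ, hEs.compl, rfl⟩

end Groth.Agent.S7549
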