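import Groth.Statements.S7550
import Mathlib.Topology.NoetherianSpace
import Mathlib.Topology.Sober
import Mathlib.Topology.Inseparable
-- import your own Groth.Agent.* helpers here

set_option autoImplicit false
universe u
open PtTop

namespace Groth.Agent.S7550

/-- Let f : X → Y be a continuous and open map of topological spaces, with X Noetherian, every
irreducible closed subset of X having a generic point, and Y Kolmogorov. Then generalizations lift
along f. (Part (1), closed maps are specializing, is a library fact.) -/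
theorem result {X Y : Type u} [TopologicalSpace X] [TopologicalSpace Y]
    [TopologicalSpace.NoetherianSpace X] [QuasiSober X] [T0Space Y]
    (f : X → Y) (hf : Continuous f) (hfo : IsOpenMap f) :
    GeneralizingMap f := by
  intro x y hy
  have hTcl : IsClosed (f ⁻¹' closure ({y} : Set Y)) := isClosed_closure.preimage hf
  obtain ⟨S, hSfin, hScl, hSirr, hSeq⟩ :=
    TopologicalSpace.NoetherianSpace.exists_finite_set_isClosed_irreducible hTcl
  -- the union of the pieces not containing `x` is closed
  have hS'cl : IsClosed (⋃₀ {t ∈ S | x ∉ t}) := by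
    rw [Set.sUnion_eq_biUnion]
    exact (hSfin.subset (Set.sep_subset _ _)).isClosed_biUnion fun t ht => hScl t ht.1
  have hxU : x ∈ (⋃₀ {t ∈ S | x ∉ t})ᶜ := by
    rintro ⟨t, ⟨-, hxt⟩, hxt'⟩
    exact hxt hxt'
  have hfU : IsOpen (f '' (⋃₀ {t ∈ S | x ∉ t})ᶜ) := hfo _ hS'cl.isOpen_compl
  obtain ⟨x', hx'U, hx'y⟩ : y ∈ f '' (⋃₀ {t ∈ S | x ∉ t})ᶜ :=
    hy.mem_open hfU ⟨x, hxU, rfl⟩
  have hx'T : x' ∈ f ⁻¹' closure ({y} : Set Y) := by
    show f x' ∈ closure ({y} : Set Y)
    rw [hx'y]
    exact subset_closure rfl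
  rw [hSeq] at hx'T
  obtain ⟨t, htS, hx't⟩ := hx'T
  have hxt : x ∈ t := by
    by_contra hxt
    exact hx'U ⟨t, ⟨htS, hxt⟩, hx't⟩
  have hgen := (hSirr t htS).closure_genericPoint (hScl t htS)
  have hξx : (hSirr t htS).genericPoint ⤳ x := by
    rw [specializes_iff_mem_closure, hgen]
    exact hxt
  have hξx' : (hSirr t htS).genericPoint ⤳ x' := by
    rw [specializes_iff_mem_closure, hgen]
    exact hx't
  have hξt : (hSirr t htS).genericPoint ∈ t :=
    hgen.subset (subset_closure rfl)
  have hξT : (hSirr t htS).genericPoint ∈ f ⁻¹' closure ({y} : Set Y) := by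
    rw [hSeq]
    exact ⟨t, htS, hξt⟩
  have h1 : y ⤳ f (hSirr t htS).genericPoint := specializes_iff_mem_closure.mpr hξT
  have h2 : f (hSirr t htS).genericPoint ⤳ y := by
    have := hξx'.map hf
    rwa [hx'y] at this
  exact ⟨(hSirr t htS).genericPoint, hξx, (h2.antisymm h1).eq⟩

end Groth.Agent.S7550
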