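import Groth.Statements.S7551
-- import your own Groth.Agent.* helpers here

set_option autoImplicit false
universe u
open PtTop

namespace Groth.Agent.S7551

/-- Let s, t : R → U and π : U → X be continuous maps between topological spaces satisfying: (1) π is an
open map, (2) U is a sober space, (3) s and t have finite fibres, (4) generalizations lift along s
and along t, and (5) the image of (t, s) : R → U × U is an equivalence relation on U and π
identifies X, as a set, with the quotient of U by it. Then X is Kolmogorov. -/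
theorem result {R U X : Type u}
    [TopologicalSpace R] [TopologicalSpace U] [TopologicalSpace X] [QuasiSober U] [T0Space U]
    (s t : R → U) (π : U → X) (hs : Continuous s) (ht : Continuous t) (hπ : Continuous π)
    (hπo : IsOpenMap π) (hsf : ∀ u, (s ⁻¹' {u}).Finite) (htf : ∀ u, (t ⁻¹' {u}).Finite)
    (hsg : GeneralizingMap s) (htg : GeneralizingMap t)
    (hE : Equivalence fun u u' : U => ∃ r, t r = u ∧ s r = u')
    (hπs : Function.Surjective π) (hπq : ∀ u u' : U, π u = π u' ↔ ∃ r, t r = u ∧ s r = u') :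
    T0Space X := by
  classical
  have hfin : ∀ u, {u₁ | ∃ r, t r = u₁ ∧ s r = u}.Finite := by
    intro u
    apply ((hsf u).image t).subset
    rintro u₁ ⟨r, hr1, hr2⟩
    exact ⟨r, hr2, hr1⟩
  have claimA : ∀ u u', π u ⤳ π u' → ∃ u₁, (∃ r, t r = u₁ ∧ s r = u) ∧ u₁ ⤳ u' := by
    intro u u' hspec
    let W : Set U := ⋃ u₁ ∈ {u₁ | ∃ r, t r = u₁ ∧ s r = u}, closure {u₁}
    have hWclosed : IsClosed W := (hfin u).isClosed_biUnion (fun _ _ => isClosed_closure)
    have hWsat : ∀ w w', w ∈ W → (∃ r, t r = w' ∧ s r = w) → w' ∈ W := by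
      intro w w' hw hrel'
      simp only [W, Set.mem_iUnion] at hw ⊢
      obtain ⟨u₁, hu₁, hwu₁⟩ := hw
      obtain ⟨r', hr'1, hr'2⟩ := hrel'
      have h1 : u₁ ⤳ s r' := by rw [hr'2]; exact specializes_iff_mem_closure.mpr hwu₁
      obtain ⟨r, hr1, hr2⟩ := hsg h1
      have h2 : t r ⤳ t r' := hr1.map ht
      refine ⟨t r, ?_, ?_⟩
      · exact hE.trans ⟨r, rfl, hr2⟩ hu₁
      · rw [← hr'1]; exact specializes_iff_mem_closure.mp h2
    have hπW : IsClosed (π '' W) := by
      have : (π '' W)ᶜ = π '' Wᶜ := by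
        ext x
        constructor
        · intro hx
          obtain ⟨w, rfl⟩ := hπs x
          exact ⟨w, fun hw => hx ⟨w, hw, rfl⟩, rfl⟩
        · rintro ⟨w, hw, rfl⟩ ⟨w', hw', heq⟩
          exact hw (hWsat w' w hw' ((hπq w w').mp heq.symm))
      rw [← isOpen_compl_iff, this]
      exact hπo _ hWclosed.isOpen_compl
    have huW : u ∈ W := by
      simp only [W, Set.mem_iUnion]
      exact ⟨u, hE.refl u, subset_closure rfl⟩
    have h3 : π u' ∈ π '' W := by
      have : closure {π u} ⊆ π '' W :=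
        closure_minimal (Set.singleton_subset_iff.mpr ⟨u, huW, rfl⟩) hπW
      exact this (specializes_iff_mem_closure.mp hspec)
    obtain ⟨w, hw, hwu'⟩ := h3
    have hu'W : u' ∈ W := hWsat w u' hw ((hπq u' w).mp hwu'.symm)
    simp only [W, Set.mem_iUnion] at hu'W
    obtain ⟨u₁, hu₁, hu'⟩ := hu'W
    exact ⟨u₁, hu₁, specializes_iff_mem_closure.mpr hu'⟩
  refine ⟨fun x x' hxx' => ?_⟩
  obtain ⟨u, rfl⟩ := hπs x
  obtain ⟨u', rfl⟩ := hπs x'
  have h12 : π u ⤳ π u' := hxx'.specializes
  have h21 : π u' ⤳ π u := hxx'.specializes'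
  let _ := specializationPreorder U
  obtain ⟨a, haF, hamax⟩ := (hfin u).exists_maximal ⟨u, hE.refl u⟩
  have hπa : π a = π u := (hπq a u).mpr haF
  obtain ⟨a', ha'1, ha'2⟩ := claimA u' a (by rw [hπa]; exact h21)
  have hπa' : π a' = π u' := (hπq a' u').mpr ha'1
  obtain ⟨b, hb1, hb2⟩ := claimA u a' (by rw [hπa']; exact h12)
  have hba : b ⤳ a := hb2.trans ha'2
  have hab : a ⤳ b := hamax hb1 hba
  have heq : a = a' := ((hab.trans hb2).antisymm ha'2).eq
  rw [← hπa, ← hπa', heq]

end Groth.Agent.S7551
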