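import Groth.Statements.S7552
-- import your own Groth.Agent.* helpers here

set_option autoImplicit false
universe u
open PtTop

namespace Groth.Agent.S7552

theorem exists_lift_seq {X Y : Type u} (rα : X → X → Prop) (rβ : Y → Y → Prop) (f : X → Y)
    (hf : Relation.Fibration rα rβ f) (η : ℕ → Y) (hη : ∀ i, rβ (η (i + 1)) (η i))
    (x₀ : X) (hx₀ : f x₀ = η 0) :
    ∃ x : ℕ → X, (∀ i, f (x i) = η i) ∧ ∀ i, rα (x (i + 1)) (x i) := by
  have step : ∀ i (a : {a : X // f a = η i}), ∃ a' : {a : X // f a = η (i + 1)}, rα a'.1 a.1 := by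
    intro i a
    obtain ⟨a', h1, h2⟩ := hf (a := a.1) (b := η (i + 1)) (by rw [a.2]; exact hη i)
    exact ⟨⟨a', h2⟩, h1⟩
  choose g hg using step
  let s : (i : ℕ) → {a : X // f a = η i} := fun i => Nat.rec ⟨x₀, hx₀⟩ (fun i a => g i a) i
  exact ⟨fun i => (s i).1, fun i => (s i).2, fun i => hg i (s i)⟩

theorem exists_ltSeries_inc {α : Type u} [Preorder α] (n : ℕ) (a : ℕ → α)
    (h : ∀ i < n, a i < a (i + 1)) : ∃ q : LTSeries α, q.length = n :=
  ⟨LTSeries.mk n (fun i => a i) (Fin.strictMono_iff_lt_succ.mpr (fun i => by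
    simpa using h i i.2)), rfl⟩

theorem exists_ltSeries_dec {α : Type u} [Preorder α] (n : ℕ) (a : ℕ → α)
    (h : ∀ i < n, a (i + 1) < a i) : ∃ q : LTSeries α, q.length = n := by
  apply exists_ltSeries_inc n (fun i => a (n - i))
  intro i hi
  have := h (n - (i + 1)) (by omega)
  have e : n - (i + 1) + 1 = n - i := by omega
  rw [e] at this
  exact this

open TopologicalSpace in
theorem closure_singleton_lt {X Y : Type u} [TopologicalSpace X] [TopologicalSpace Y]
    (f : X → Y) (hf : Continuous f) (a b : X) (Za Zb : IrreducibleCloseds Y)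
    (ha : IsGenericPoint (f a) (Za : Set Y)) (hb : IsGenericPoint (f b) (Zb : Set Y))
    (hlt : Za < Zb) (hab : b ⤳ a) :
    (⟨closure {a}, isIrreducible_singleton.closure, isClosed_closure⟩ : IrreducibleCloseds X) <
      ⟨closure {b}, isIrreducible_singleton.closure, isClosed_closure⟩ := by
  refine lt_of_le_not_ge ?_ ?_
  · exact specializes_iff_closure_subset.mp hab
  · intro hle
    have h1 : a ⤳ b := specializes_iff_closure_subset.mpr hle
    have h2 : f a ⤳ f b := h1.map hf
    have h3 : closure {f b} ⊆ closure {f a} := specializes_iff_closure_subset.mp h2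
    rw [ha.def, hb.def] at h3
    exact absurd hlt (not_lt_of_ge h3)

/-- Let f : X → Y be a continuous surjective map of topological spaces with Y sober, and assume that
specializations lift along f or that generalizations lift along f. Then dim X ≥ dim Y (Krull
dimensions as suprema of lengths of chains of irreducible closed subsets). -/
theorem result {X Y : Type u}
    [TopologicalSpace X] [TopologicalSpace Y] [QuasiSober Y] [T0Space Y]
    (f : X → Y) (hf : Continuous f) (hsurj : Function.Surjective f)
    (hlift : SpecializingMap f ∨ GeneralizingMap f) :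
    topologicalKrullDim Y ≤ topologicalKrullDim X := by
  classical
  unfold topologicalKrullDim
  rw [Order.krullDim]
  apply iSup_le
  intro p
  suffices h : ∃ q : LTSeries (TopologicalSpace.IrreducibleCloseds X), q.length = p.length by
    obtain ⟨q, hq⟩ := h
    rw [← hq]
    exact Order.LTSeries.length_le_krullDim q
  set n := p.length with hn
  let Z : ℕ → TopologicalSpace.IrreducibleCloseds Y :=
    fun i => p ⟨min i n, Nat.lt_succ_of_le (Nat.min_le_right _ _)⟩
  have hZmono : ∀ i j, i ≤ j → Z i ≤ Z j := by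
    intro i j hij
    apply p.strictMono.monotone
    show (⟨min i n, _⟩ : Fin (n + 1)) ≤ ⟨min j n, _⟩
    simp only [Fin.mk_le_mk]
    exact min_le_min_right n hij
  have hZlt : ∀ i j, i < j → j ≤ n → Z i < Z j := by
    intro i j hij hjn
    apply p.strictMono
    show (⟨min i n, _⟩ : Fin (n + 1)) < ⟨min j n, _⟩
    simp only [Fin.mk_lt_mk]
    rw [min_eq_left (by omega), min_eq_left hjn]
    exact hij
  have hgen : ∀ i, ∃ η : Y, IsGenericPoint η (Z i : Set Y) := fun i =>
    QuasiSober.sober (Z i).isIrreducible' (Z i).isClosed'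
  choose η hη using hgen
  have hspec : ∀ i j, i ≤ j → η j ⤳ η i := by
    intro i j hij
    rw [specializes_iff_closure_subset, (hη i).def, (hη j).def]
    exact hZmono i j hij
  rcases hlift with hsp | hge
  · -- specializations lift: go down from the top
    obtain ⟨x₀, hx₀⟩ := hsurj (η (n - 0))
    obtain ⟨x, hx1, hx2⟩ := exists_lift_seq (flip (· ⤳ ·)) (flip (· ⤳ ·)) f hsp
      (fun i => η (n - i)) (fun i => hspec _ _ (by omega)) x₀ hx₀
    apply exists_ltSeries_dec n
      (fun i => (⟨closure {x i}, isIrreducible_singleton.closure, isClosed_closure⟩ :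
        TopologicalSpace.IrreducibleCloseds X))
    intro i hi
    refine closure_singleton_lt f hf (x (i + 1)) (x i) (Z (n - (i + 1))) (Z (n - i)) ?_ ?_ ?_ ?_
    · rw [hx1]; exact hη _
    · rw [hx1]; exact hη _
    · exact hZlt _ _ (by omega) (by omega)
    · exact hx2 i
  · obtain ⟨x₀, hx₀⟩ := hsurj (η 0)
    obtain ⟨x, hx1, hx2⟩ := exists_lift_seq (· ⤳ ·) (· ⤳ ·) f hge
      η (fun i => hspec _ _ (by omega)) x₀ hx₀
    apply exists_ltSeries_inc n
      (fun i => (⟨closure {x i}, isIrreducible_singleton.closure, isClosed_closure⟩ :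
        TopologicalSpace.IrreducibleCloseds X))
    intro i hi
    refine closure_singleton_lt f hf (x i) (x (i + 1)) (Z i) (Z (i + 1)) ?_ ?_ ?_ ?_
    · rw [hx1]; exact hη _
    · rw [hx1]; exact hη _
    · exact hZlt _ _ (by omega) (by omega)
    · exact hx2 i

end Groth.Agent.S7552
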