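import Groth.Statements.S7556
import Groth.Agent.S7555
import Mathlib.Topology.Compactification.StoneCech

set_option autoImplicit false
universe u
open PtTop

namespace Groth.Agent.S7556

open Function Set in
/-- The space of ultrafilters on a type is projective among compact Hausdorff spaces. -/
theorem ultrafilter_projective (X : Type u) : CompactT2.Projective (Ultrafilter X) := by
  intro Y Z _ _ _ _ _ _ f g hf hg g_sur
  let sec : Z → Y := fun z => Classical.choose (g_sur z)
  have hsec : g ∘ sec = id := funext fun z => Classical.choose_spec (g_sur z)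
  let t : X → Y := sec ∘ f ∘ pure
  let h : Ultrafilter X → Y := Ultrafilter.extend t
  have hh : Continuous h := continuous_ultrafilter_extend t
  refine ⟨h, hh, denseRange_pure.equalizer (hg.comp hh) hf ?_⟩
  rw [comp_assoc, ultrafilter_extend_extends t, ← comp_assoc, hsec, id_comp]

open Function Set in
/-- A minimal (irreducible) self-map over the base is the identity. -/
theorem eq_id_of_minimal {X X' : Type u} [TopologicalSpace X] [TopologicalSpace X']
    [CompactSpace X'] [T2Space X'] (p : X' → X) (hpsurj : Surjective p)
    (hmin : ∀ E : Set X', IsClosed E → E ≠ univ → p '' E ≠ univ)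
    (g : X' → X') (hg : Continuous g) (hpg : p ∘ g = p) : g = id := by
  have hgsurj : Surjective g := by
    rw [← range_eq_univ]
    by_contra hne
    apply hmin (range g) (isCompact_range hg).isClosed hne
    rw [← range_comp, hpg]
    exact range_eq_univ.mpr hpsurj
  by_contra hne
  obtain ⟨E, hE, hEne, hEu⟩ := Groth.Agent.S7555.result g hg hgsurj hne
  apply hmin E hE hEne
  rw [eq_univ_iff_forall]
  intro x
  obtain ⟨y, rfl⟩ := hpsurj x
  have hy : y ∈ E ∪ g '' E := hEu ▸ mem_univ y
  rcases hy with hy | ⟨z, hz, rfl⟩
  · exact ⟨y, hy, rfl⟩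
  · exact ⟨z, hz, (congr_fun hpg z).symm⟩

/-- Let X be a quasi-compact Hausdorff space. There is a continuous surjection p : X' → X with X'
quasi-compact, Hausdorff and extremally disconnected such that no proper closed subset of X' maps
onto X; and if q : X'' → X is a second cover with the same properties, there is a homeomorphism X' ≃
X'' compatible with p and q. -/
theorem result (X : Type u) [TopologicalSpace X] [CompactSpace X] [T2Space X] :
    (∃ (X' : Type u) (_ : TopologicalSpace X') (_ : CompactSpace X') (_ : T2Space X') (_ : ExtremallyDisconnected X')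
        (p : X' → X), Continuous p ∧ Function.Surjective p ∧
        ∀ E : Set X', IsClosed E → E ≠ Set.univ → p '' E ≠ Set.univ) ∧
    (∀ (X' X'' : Type u) [TopologicalSpace X'] [CompactSpace X'] [T2Space X'] [ExtremallyDisconnected X']
        [TopologicalSpace X''] [CompactSpace X''] [T2Space X''] [ExtremallyDisconnected X'']
        (p : X' → X) (q : X'' → X),
        Continuous p → Function.Surjective p → (∀ E : Set X', IsClosed E → E ≠ Set.univ → p '' E ≠ Set.univ) →
        Continuous q → Function.Surjective q → (∀ E : Set X'', IsClosed E → E ≠ Set.univ → q '' E ≠ Set.univ) →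
        ∃ h : X' ≃ₜ X'', q ∘ h = p) := by
  constructor
  · -- existence
    let π₀ : Ultrafilter X → X := Ultrafilter.extend id
    have hπ₀ : Continuous π₀ := continuous_ultrafilter_extend id
    have hπ₀s : Function.Surjective π₀ := fun x => ⟨pure x, ultrafilter_extend_pure id x⟩
    obtain ⟨E, hEc, hEonto, hEmin⟩ := exists_compact_surjective_zorn_subset hπ₀ hπ₀s
    let p : E → X := E.domRestrict π₀
    have hp : Continuous p := hπ₀.continuousOn.domRestrict
    have hps : Function.Surjective p := fun a => by
      rcases (hEonto ▸ Set.mem_univ a : a ∈ π₀ '' E) with ⟨d, hd, rfl⟩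
      exact ⟨⟨d, hd⟩, rfl⟩
    have hmin : ∀ E₀ : Set E, IsClosed E₀ → E₀ ≠ Set.univ → p '' E₀ ≠ Set.univ :=
      fun E₀ h1 h2 => hEmin E₀ h2 h1
    -- retraction of the ultrafilter space onto E
    obtain ⟨ρ, hρ, hρp⟩ := ultrafilter_projective X hπ₀ hp hps
    have hret : ρ ∘ (Subtype.val : E → Ultrafilter X) = id := by
      apply eq_id_of_minimal p hps hmin _ (hρ.comp continuous_subtype_val)
      rw [← Function.comp_assoc, hρp]
      rfl
    have hproj : CompactT2.Projective E := by
      intro Y Z _ _ _ _ _ _ f g hf hg g_sur
      obtain ⟨h', hh', hgh'⟩ := ultrafilter_projective X (hf.comp hρ) hg g_sur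
      refine ⟨h' ∘ Subtype.val, hh'.comp continuous_subtype_val, ?_⟩
      rw [← Function.comp_assoc, hgh', Function.comp_assoc, hret, Function.comp_id]
    exact ⟨E, inferInstance, hEc, inferInstance, hproj.extremallyDisconnected, p, hp, hps, hmin⟩
  · -- uniqueness
    intro X' X'' _ _ _ _ _ _ _ _ p q hp hps hpmin hq hqs hqmin
    obtain ⟨h, hh, hqh⟩ :=
      (CompactT2.ExtremallyDisconnected.projective (A := X')) hp hq hqs
    have hhs : Function.Surjective h := by
      rw [← Set.range_eq_univ]
      by_contra hne
      apply hqmin (Set.range h) (isCompact_range hh).isClosed hne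
      rw [← Set.range_comp, hqh]
      exact Set.range_eq_univ.mpr hps
    have hzorn : ∀ E₀ : Set X', E₀ ≠ Set.univ → IsClosed E₀ → h '' E₀ ≠ Set.univ := by
      intro E₀ h1 h2 h3
      apply hpmin E₀ h2 h1
      rw [← hqh, Set.image_comp, h3, Set.image_univ]
      exact Set.range_eq_univ.mpr hqs
    refine ⟨ExtremallyDisconnected.homeoCompactToT2 hh hhs hzorn, ?_⟩
    rw [← hqh]
    rfl

end Groth.Agent.S7556
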