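import Groth.Statements.S7557
import Mathlib.Topology.Algebra.Ring.Basic
import Mathlib.Topology.Algebra.Constructions
import Mathlib.Algebra.Ring.Subring.Basic

set_option autoImplicit false
universe u
open CategoryTheory CategoryTheory.Limits
open PtTop

namespace Groth.Agent.S7557

section
variable {J : Type u} [Category.{u} J] (F : J ⥤ TopCommRingCat.{u})

/-- The subring of compatible families. -/
def sectionsSubring : Subring (∀ j, F.obj j) where
  carrier := {x | ∀ {i j : J} (f : i ⟶ j), (F.map f).1 (x i) = x j}
  mul_mem' := by
    intro a b ha hb i j f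
    simp only [Pi.mul_apply, map_mul, ha f, hb f]
  one_mem' := by
    intro i j f
    simp only [Pi.one_apply, map_one]
  add_mem' := by
    intro a b ha hb i j f
    simp only [Pi.add_apply, map_add, ha f, hb f]
  zero_mem' := by
    intro i j f
    simp only [Pi.zero_apply, map_zero]
  neg_mem' := by
    intro a ha i j f
    simp only [Pi.neg_apply, map_neg, ha f]

/-- The limit cone. -/
def limitCone : Cone F where
  pt := TopCommRingCat.of (sectionsSubring F)
  π :=
    { app := fun j => ⟨(Pi.evalRingHom (fun j => F.obj j) j).comp (sectionsSubring F).subtype,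
        (continuous_apply j).comp continuous_subtype_val⟩
      naturality := by
        intro i j f
        apply Subtype.ext
        apply RingHom.ext
        intro x
        exact (x.2 f).symm }

/-- The lift to the limit cone. -/
def limitLift (c : Cone F) : c.pt ⟶ (limitCone F).pt :=
  ⟨RingHom.codRestrict (RingHom.pi fun j => (c.π.app j).1) (sectionsSubring F) (by
      intro x i j f
      have := c.w f
      exact congrArg (fun g : c.pt ⟶ F.obj j => g.1 x) this),
    (continuous_pi fun j => (c.π.app j).2).subtype_mk _⟩

/-- The cone is a limit cone. -/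
def limitConeIsLimit : IsLimit (limitCone F) where
  lift c := limitLift F c
  fac c j := by
    apply Subtype.ext
    apply RingHom.ext
    intro x
    rfl
  uniq c m hm := by
    apply Subtype.ext
    apply RingHom.ext
    intro x
    apply Subtype.ext
    funext j
    exact congrArg (fun g : c.pt ⟶ F.obj j => g.1 x) (hm j)

theorem top_compat (c : Cone (F ⋙ forget₂ TopCommRingCat.{u} TopCat.{u})) (x : c.pt) :
    (fun j => (c.π.app j x : F.obj j)) ∈ sectionsSubring F := by
  intro i j f
  exact ConcreteCategory.congr_hom (c.w f) x

/-- The image of the limit cone in topological spaces is a limit cone. -/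
def topIsLimit : IsLimit ((forget₂ TopCommRingCat.{u} TopCat.{u}).mapCone (limitCone F)) where
  lift c := TopCat.ofHom ⟨fun x => (⟨fun j => (c.π.app j x : F.obj j), top_compat F c x⟩ :
      sectionsSubring F),
      (continuous_pi fun j => (c.π.app j).hom.continuous).subtype_mk _⟩
  fac c j := by
    ext x
    rfl
  uniq c m hm := by
    ext x
    apply Subtype.ext
    funext j
    exact ConcreteCategory.congr_hom (hm j) x

theorem ring_compat (c : Cone (F ⋙ forget₂ TopCommRingCat.{u} CommRingCat.{u})) (x : c.pt) :
    (RingHom.pi fun j => ((c.π.app j).hom : c.pt →+* F.obj j)) x ∈ sectionsSubring F := by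
  intro i j f
  exact ConcreteCategory.congr_hom (c.w f) x

/-- The image of the limit cone in commutative rings is a limit cone. -/
def ringIsLimit : IsLimit ((forget₂ TopCommRingCat.{u} CommRingCat.{u}).mapCone (limitCone F)) where
  lift c := CommRingCat.ofHom (RingHom.codRestrict
    (RingHom.pi fun j => ((c.π.app j).hom : c.pt →+* F.obj j)) (sectionsSubring F)
    (ring_compat F c))
  fac c j := by
    ext x
    rfl
  uniq c m hm := by
    ext x
    apply Subtype.ext
    funext j
    exact ConcreteCategory.congr_hom (hm j) x

end

/-- The category of topological rings (commutative, with continuous ring homomorphisms) has limits, and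
limits commute with the forgetful functors to topological spaces and to rings. -/
theorem result :
    HasLimits TopCommRingCat.{u} ∧
    PreservesLimits (forget₂ TopCommRingCat.{u} TopCat.{u}) ∧
    PreservesLimits (forget₂ TopCommRingCat.{u} CommRingCat.{u}) := by
  refine ⟨?_, ?_, ?_⟩
  · exact ⟨fun J _ => ⟨fun F => HasLimit.mk ⟨limitCone F, limitConeIsLimit F⟩⟩⟩
  · exact ⟨fun {J} _ => ⟨fun {F} =>
      preservesLimit_of_preserves_limit_cone (limitConeIsLimit F) (topIsLimit F)⟩⟩
  · exact ⟨fun {J} _ => ⟨fun {F} =>
      preservesLimit_of_preserves_limit_cone (limitConeIsLimit F) (ringIsLimit F)⟩⟩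

end Groth.Agent.S7557
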