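import Groth.Statements.S7558
import Mathlib.Algebra.Category.Ring.Colimits
import Mathlib.Topology.Algebra.Ring.Basic

set_option autoImplicit false
universe u
open CategoryTheory CategoryTheory.Limits
open PtTop

namespace Groth.Agent.S7558

section
variable {J : Type u} [Category.{u} J] (F : J ⥤ TopCommRingCat.{u})

/-- The underlying colimit cocone in commutative rings. -/
noncomputable def ringCocone : Cocone (F ⋙ forget₂ TopCommRingCat.{u} CommRingCat.{u}) :=
  colimit.cocone (F ⋙ forget₂ TopCommRingCat.{u} CommRingCat.{u})

/-- It is a colimit cocone. -/
noncomputable def ringCoconeIsColimit : IsColimit (ringCocone F) :=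
  colimit.isColimit (F ⋙ forget₂ TopCommRingCat.{u} CommRingCat.{u})

/-- The ring topologies on the colimit ring for which all coprojections are continuous. -/
def goodTops : Set (RingTopology (ringCocone F).pt) :=
  {t | ∀ j, @Continuous _ _ (F.obj j).isTopologicalSpace t.toTopologicalSpace
    ((ringCocone F).ι.app j).hom}

/-- The colimit topology: the finest ring topology making all coprojections continuous. -/
def colimTop : TopologicalSpace (ringCocone F).pt :=
  sInf (RingTopology.toTopologicalSpace '' goodTops F)

theorem colimTop_isTopologicalRing : @IsTopologicalRing (ringCocone F).pt (colimTop F) _ :=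
  let _ := colimTop F
  { toContinuousAdd := continuousAdd_sInf <| Set.forall_mem_image.2 fun t _ =>
      let _ := t.1; t.toContinuousAdd
    toContinuousMul := continuousMul_sInf <| Set.forall_mem_image.2 fun t _ =>
      let _ := t.1; t.toContinuousMul
    toContinuousNeg := continuousNeg_sInf <| Set.forall_mem_image.2 fun t _ =>
      let _ := t.1; t.toContinuousNeg }

theorem continuous_ι (j : J) : @Continuous _ _ (F.obj j).isTopologicalSpace (colimTop F)
    ((ringCocone F).ι.app j).hom :=
  continuous_sInf_rng.2 <| Set.forall_mem_image.2 fun _ ht => ht j

/-- The colimit object. -/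
noncomputable def colimPt : TopCommRingCat.{u} :=
  @TopCommRingCat.of (ringCocone F).pt _ (colimTop F) (colimTop_isTopologicalRing F)

/-- The colimit cocone. -/
noncomputable def colimCocone : Cocone F where
  pt := colimPt F
  ι :=
    { app := fun j => ⟨((ringCocone F).ι.app j).hom, continuous_ι F j⟩
      naturality := by
        intro i j f
        apply Subtype.ext
        apply RingHom.ext
        intro x
        exact ConcreteCategory.congr_hom ((ringCocone F).w f) x }

/-- The comparison ring homomorphism to the point of a cocone. -/
noncomputable def descHom (c : Cocone F) : (ringCocone F).pt →+* c.pt :=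
  ((ringCoconeIsColimit F).desc ((forget₂ TopCommRingCat.{u} CommRingCat.{u}).mapCocone c)).hom

theorem descHom_ι (c : Cocone F) (j : J) (x : F.obj j) :
    descHom F c (((ringCocone F).ι.app j).hom x) = (c.ι.app j).1 x :=
  ConcreteCategory.congr_hom ((ringCoconeIsColimit F).fac
    ((forget₂ TopCommRingCat.{u} CommRingCat.{u}).mapCocone c) j) x

theorem continuous_desc (c : Cocone F) :
    @Continuous _ _ (colimTop F) c.pt.isTopologicalSpace (descHom F c) := by
  let t' : RingTopology (ringCocone F).pt :=
    { toTopologicalSpace := TopologicalSpace.induced (descHom F c) c.pt.isTopologicalSpace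
      toContinuousAdd := continuousAdd_induced (descHom F c)
      toContinuousMul := continuousMul_induced (descHom F c)
      toContinuousNeg := ContinuousNeg.induced (descHom F c) }
  have ht' : t' ∈ goodTops F := by
    intro j
    rw [continuous_induced_rng]
    exact Continuous.congr (c.ι.app j).2 (fun x => (descHom_ι F c j x).symm)
  rw [continuous_iff_le_induced]
  exact sInf_le (Set.mem_image_of_mem _ ht')

/-- The cocone is a colimit cocone. -/
noncomputable def colimCoconeIsColimit : IsColimit (colimCocone F) where
  desc c := ⟨descHom F c, continuous_desc F c⟩
  fac c j := by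
    apply Subtype.ext
    apply RingHom.ext
    intro x
    exact descHom_ι F c j x
  uniq c m hm := by
    apply Subtype.ext
    have := (ringCoconeIsColimit F).uniq
      ((forget₂ TopCommRingCat.{u} CommRingCat.{u}).mapCocone c)
      (CommRingCat.ofHom m.1) (by
        intro j
        ext x
        exact congrArg (fun g : F.obj j ⟶ c.pt => g.1 x) (hm j))
    exact congrArg CommRingCat.Hom.hom this

/-- The image of the colimit cocone in commutative rings is a colimit cocone. -/
noncomputable def mapIsColimit :
    IsColimit ((forget₂ TopCommRingCat.{u} CommRingCat.{u}).mapCocone (colimCocone F)) :=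
  ringCoconeIsColimit F

end

/-- The category of topological rings (commutative, with continuous ring homomorphisms) has colimits,
and colimits commute with the forgetful functor to rings. -/
theorem result :
    HasColimits TopCommRingCat.{u} ∧
    PreservesColimits (forget₂ TopCommRingCat.{u} CommRingCat.{u}) := by
  refine ⟨?_, ?_⟩
  · exact ⟨fun J _ => ⟨fun F => HasColimit.mk ⟨colimCocone F, colimCoconeIsColimit F⟩⟩⟩
  · exact ⟨fun {J} _ => ⟨fun {F} =>
      preservesColimit_of_preserves_colimit_cocone (colimCoconeIsColimit F) (mapIsColimit F)⟩⟩

end Groth.Agent.S7558
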