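import Groth.Statements.S7559
import Mathlib.Data.Fintype.Sum
import Mathlib.Data.Fintype.Powerset
-- import your own Groth.Agent.* helpers here

set_option autoImplicit false
universe u
open PtTop

namespace Groth.Agent.S7559

/-- The stratification attached to a finite family of closed sets: the stratum of `A` consists of
the points lying outside exactly the closed sets indexed by `A`. -/
theorem strata_of_closed {X : Type u} [TopologicalSpace X] {J : Type} [Fintype J] [DecidableEq J]
    (Zc : J → Set X) (hZc : ∀ j, IsClosed (Zc j)) :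
    ∃ S : Finset J → Set X, (∀ A x, x ∈ S A ↔ ∀ j, x ∈ Zc j ↔ j ∉ A) ∧
      (∀ A, IsLocallyClosed (S A)) ∧ (⋃ A, S A = Set.univ) ∧
      (∀ A B, A ≠ B → Disjoint (S A) (S B)) ∧
      (∀ B, closure (S B) ⊆ ⋃ A ∈ Set.Iic B, S A) := by
  classical
  refine ⟨fun A => {x | ∀ j, x ∈ Zc j ↔ j ∉ A}, fun A x => Iff.rfl, ?_, ?_, ?_, ?_⟩
  · intro A
    refine ⟨⋂ j ∈ A, (Zc j)ᶜ, ⋂ j ∈ (Finset.univ \ A), Zc j, ?_, ?_, ?_⟩
    · exact isOpen_biInter_finset fun j _ => (hZc j).isOpen_compl
    · exact isClosed_biInter fun j _ => hZc j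
    · ext x
      simp only [Set.mem_ofPred_eq, Set.mem_inter_iff, Set.mem_iInter, Set.mem_compl_iff,
        Finset.mem_sdiff, Finset.mem_univ, true_and]
      constructor
      · intro h
        exact ⟨fun j hj hx => ((h j).mp hx) hj, fun j hj => (h j).mpr hj⟩
      · rintro ⟨h1, h2⟩ j
        exact ⟨fun hx hj => h1 j hj hx, fun hj => h2 j hj⟩
  · rw [Set.eq_univ_iff_forall]
    intro x
    refine Set.mem_iUnion.mpr ⟨Finset.univ.filter (fun j => x ∉ Zc j), ?_⟩
    intro j
    simp
  · intro A B hAB
    rw [Set.disjoint_left]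
    intro x hxA hxB
    apply hAB
    ext j
    have h1 := hxA j
    have h2 := hxB j
    constructor
    · intro hj
      by_contra hjB
      exact (h1.mp (h2.mpr hjB)) hj
    · intro hj
      by_contra hjA
      exact (h2.mp (h1.mpr hjA)) hj
  · intro B
    have hsub : closure {x | ∀ j, x ∈ Zc j ↔ j ∉ B} ⊆ ⋂ j ∈ (Finset.univ \ B), Zc j := by
      apply closure_minimal
      · intro x hx
        simp only [Set.mem_iInter, Finset.mem_sdiff, Finset.mem_univ, true_and]
        intro j hj
        exact (hx j).mpr hj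
      · exact isClosed_biInter fun j _ => hZc j
    intro x hx
    have hx' := hsub hx
    simp only [Set.mem_iInter, Finset.mem_sdiff, Finset.mem_univ, true_and] at hx'
    refine Set.mem_biUnion (x := Finset.univ.filter (fun j => x ∉ Zc j)) ?_ ?_
    · rw [Set.mem_Iic]
      intro j hj
      simp only [Finset.mem_filter, Finset.mem_univ, true_and] at hj
      by_contra hjB
      exact hj (hx' j hjB)
    · intro j
      simp

/-- Let X be a topological space and X = ∐ P_k a finite partition into locally closed parts. Then there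
is a finite stratification of X refining it: a finite partially ordered index set I and pairwise
disjoint locally closed strata S_i covering X with closure(S_j) ⊆ ⋃_{i ≤ j} S_i, such that every
part P_k is a union of strata. -/
theorem result {X : Type u} [TopologicalSpace X]
    {n : ℕ} (P : Fin n → Set X) (hP : ∀ k, IsLocallyClosed (P k)) (hcov : ⋃ k, P k = Set.univ)
    (hdisj : ∀ k k', k ≠ k' → Disjoint (P k) (P k')) :
    ∃ (I : Type) (_ : Fintype I) (_ : PartialOrder I) (S : I → Set X),
      (∀ i, IsLocallyClosed (S i)) ∧ (⋃ i, S i = Set.univ) ∧ (∀ i j, i ≠ j → Disjoint (S i) (S j)) ∧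
      (∀ j, closure (S j) ⊆ ⋃ i ∈ Set.Iic j, S i) ∧
      (∀ i k, (S i ∩ P k).Nonempty → S i ⊆ P k) := by
  classical
  choose U C hU hC hPUC using hP
  let Zc : Fin n ⊕ Fin n → Set X := fun j => Sum.elim C (fun k => (U k)ᶜ) j
  have hZc : ∀ j, IsClosed (Zc j) := by
    rintro (k | k)
    · exact hC k
    · exact (hU k).isClosed_compl
  obtain ⟨S, hS, h1, h2, h3, h4⟩ := strata_of_closed Zc hZc
  refine ⟨Finset (Fin n ⊕ Fin n), inferInstance, inferInstance, S, h1, h2, h3, h4, ?_⟩
  rintro A k ⟨x, hxA, hxP⟩ y hyA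
  rw [hS] at hxA hyA
  rw [hPUC k] at hxP ⊢
  have hl : Sum.inl k ∉ A := (hxA (Sum.inl k)).mp hxP.2
  have hr : Sum.inr k ∈ A := by
    by_contra h
    exact ((hxA (Sum.inr k)).mpr h) hxP.1
  refine ⟨?_, (hyA (Sum.inl k)).mpr hl⟩
  by_contra hyU
  exact ((hyA (Sum.inr k)).mp hyU) hr

end Groth.Agent.S7559
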