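import Groth.Statements.S7560
import Groth.Agent.S7559

set_option autoImplicit false
universe u
open ConstrTop

namespace Groth.Agent.S7560

theorem exists_finset_saturated {X : Type u} [TopologicalSpace X] (T : Set X)
    (hT : Topology.IsConstructible T) :
    ∃ F : Finset (Set X), (∀ O ∈ F, IsOpen O ∧ IsRetrocompact O) ∧
      ∀ x y, (∀ O ∈ F, x ∈ O ↔ y ∈ O) → (x ∈ T ↔ y ∈ T) := by
  classical
  induction hT using Topology.IsConstructible.empty_union_induction with
  | open_retrocompact U hUopen hUcomp =>
    refine ⟨{U}, ?_, ?_⟩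
    · intro O hO
      rw [Finset.mem_singleton] at hO
      subst hO
      exact ⟨hUopen, hUcomp⟩
    · intro x y h
      exact h U (Finset.mem_singleton_self U)
  | union s hs t ht ihs iht =>
    obtain ⟨Fs, hFs1, hFs2⟩ := ihs
    obtain ⟨Ft, hFt1, hFt2⟩ := iht
    refine ⟨Fs ∪ Ft, ?_, ?_⟩
    · intro O hO
      rcases Finset.mem_union.mp hO with h | h
      · exact hFs1 O h
      · exact hFt1 O h
    · intro x y h
      have h1 := hFs2 x y (fun O hO => h O (Finset.mem_union_left _ hO))
      have h2 := hFt2 x y (fun O hO => h O (Finset.mem_union_right _ hO))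
      simp only [Set.mem_union, h1, h2]
  | compl s hs ih =>
    obtain ⟨F, hF1, hF2⟩ := ih
    refine ⟨F, hF1, ?_⟩
    intro x y h
    simp only [Set.mem_compl_iff, hF2 x y h]

/-- Let X be a topological space written as a finite union X = T_1 ∪ … ∪ T_n of constructible subsets.
Then there is a finite stratification X = ∐ S_i (pairwise disjoint locally closed strata indexed by
a finite partially ordered set, with closure(S_j) ⊆ ⋃_{i ≤ j} S_i) whose strata are constructible
and such that every T_k is a union of strata. -/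
theorem result {X : Type u} [TopologicalSpace X]
    {n : ℕ} (T : Fin n → Set X) (hT : ∀ k, Topology.IsConstructible (T k)) (hcov : ⋃ k, T k = Set.univ) :
    ∃ (I : Type) (_ : Fintype I) (_ : PartialOrder I) (S : I → Set X),
      (∀ i, IsLocallyClosed (S i) ∧ Topology.IsConstructible (S i)) ∧ (⋃ i, S i = Set.univ) ∧
      (∀ i j, i ≠ j → Disjoint (S i) (S j)) ∧
      (∀ j, closure (S j) ⊆ ⋃ i ∈ Set.Iic j, S i) ∧
      (∀ i k, (S i ∩ T k).Nonempty → S i ⊆ T k) := by
  classical
  have hex := fun k => exists_finset_saturated (T k) (hT k)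
  choose Fk hFk1 hFk2 using hex
  let F : Finset (Set X) := Finset.univ.biUnion Fk
  let O : Fin F.card → Set X := fun a => (F.equivFin.symm a).1
  have hO : ∀ a, IsOpen (O a) ∧ IsRetrocompact (O a) := by
    intro a
    obtain ⟨k, -, hk⟩ := Finset.mem_biUnion.mp (F.equivFin.symm a).2
    exact hFk1 k _ hk
  have hOsurj : ∀ o ∈ F, ∃ a, O a = o := by
    intro o ho
    refine ⟨F.equivFin ⟨o, ho⟩, ?_⟩
    simp [O]
  obtain ⟨S, hS, h1, h2, h3, h4⟩ := Groth.Agent.S7559.strata_of_closed (fun a => (O a)ᶜ)
    (fun a => (hO a).1.isClosed_compl)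
  refine ⟨Finset (Fin F.card), inferInstance, inferInstance, S, fun A => ⟨h1 A, ?_⟩, h2, h3, h4, ?_⟩
  · have hSA : S A = (⋂ a ∈ (A : Set (Fin F.card)), O a) ∩
        (⋂ a ∈ ((Aᶜ : Finset (Fin F.card)) : Set (Fin F.card)), (O a)ᶜ) := by
      ext x
      rw [hS]
      simp only [Set.mem_compl_iff, Set.mem_inter_iff, Set.mem_iInter, Finset.mem_coe,
        Finset.mem_compl]
      constructor
      · intro h
        refine ⟨fun a ha => ?_, fun a ha => (h a).mpr ha⟩
        by_contra hx
        exact ((h a).mp hx) ha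
      · rintro ⟨h1, h2⟩ a
        exact ⟨fun hx ha => hx (h1 a ha), fun ha => h2 a ha⟩
    rw [hSA]
    apply Topology.IsConstructible.inter
    · exact Topology.IsConstructible.biInter (Finset.finite_toSet A)
        (fun a _ => (hO a).2.isConstructible (hO a).1)
    · exact Topology.IsConstructible.biInter (Finset.finite_toSet _)
        (fun a _ => ((hO a).2.isConstructible (hO a).1).compl)
  · rintro A k ⟨x, hxA, hxT⟩ y hyA
    rw [hS] at hxA hyA
    refine (hFk2 k x y ?_).mp hxT
    intro o ho
    have hoF : o ∈ F := Finset.mem_biUnion.mpr ⟨k, Finset.mem_univ k, ho⟩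
    obtain ⟨a, rfl⟩ := hOsurj o hoF
    have hx := hxA a
    have hy := hyA a
    simp only [Set.mem_compl_iff] at hx hy
    constructor
    · intro h
      by_contra h'
      exact (hx.mpr (hy.mp h')) h
    · intro h
      by_contra h'
      exact (hy.mpr (hx.mp h')) h

end Groth.Agent.S7560
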