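import Groth.Statements.S7561
-- import your own Groth.Agent.* helpers here

set_option autoImplicit false
universe u
open PtTop

namespace Groth.Agent.S7561

open Classical in
theorem exists_open_refine {X : Type u} [TopologicalSpace X] (Pf : Finset (Set X))
    (hPf : ∀ P ∈ Pf, IsLocallyClosed P) (Y : Set X) (hYne : Y.Nonempty) :
    ∃ O : Set X, IsOpen O ∧ (Y ∩ O).Nonempty ∧ ∀ P ∈ Pf, (Y ∩ O ⊆ P ∨ Disjoint (Y ∩ O) P) := by
  induction Pf using Finset.induction_on with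
  | empty =>
    refine ⟨Set.univ, isOpen_univ, by simpa using hYne, ?_⟩
    intro P hP
    simp at hP
  | insert P Pf hPn ih =>
    obtain ⟨O, hO, hne, hall⟩ := ih (fun Q hQ => hPf Q (Finset.mem_insert_of_mem hQ))
    obtain ⟨O', C, hO', hC, rfl⟩ := hPf P (Finset.mem_insert_self _ _)
    have key : ∃ O₁ : Set X, IsOpen O₁ ∧ O₁ ⊆ O ∧ (Y ∩ O₁).Nonempty ∧
        (Y ∩ O₁ ⊆ O' ∩ C ∨ Disjoint (Y ∩ O₁) (O' ∩ C)) := by
      by_cases h1 : (Y ∩ O ∩ (O' ∩ C)).Nonempty
      · by_cases h2 : Y ∩ (O ∩ O') ⊆ C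
        · refine ⟨O ∩ O', hO.inter hO', Set.inter_subset_left, ?_, Or.inl ?_⟩
          · obtain ⟨z, ⟨hzY, hzO⟩, hzO', hzC⟩ := h1
            exact ⟨z, hzY, hzO, hzO'⟩
          · intro z hz
            exact ⟨hz.2.2, h2 hz⟩
        · rw [Set.not_subset] at h2
          obtain ⟨z, ⟨hzY, hzO, hzO'⟩, hzC⟩ := h2
          refine ⟨O ∩ O' ∩ Cᶜ, (hO.inter hO').inter hC.isOpen_compl,
            fun w hw => hw.1.1, ⟨z, hzY, ⟨hzO, hzO'⟩, hzC⟩, Or.inr ?_⟩
          rw [Set.disjoint_left]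
          rintro w ⟨-, -, hwC⟩ ⟨-, hwC'⟩
          exact hwC hwC'
      · refine ⟨O, hO, subset_rfl, hne, Or.inr ?_⟩
        rw [Set.disjoint_iff_inter_eq_empty]
        exact Set.not_nonempty_iff_eq_empty.mp h1
    obtain ⟨O₁, hO₁, hsub, hne₁, hP₁⟩ := key
    refine ⟨O₁, hO₁, hne₁, ?_⟩
    intro Q hQ
    rcases Finset.mem_insert.mp hQ with rfl | hQ
    · exact hP₁
    · rcases hall Q hQ with h | h
      · exact Or.inl (fun z hz => h ⟨hz.1, hsub hz.2⟩)
      · exact Or.inr (h.mono_left (show Y ∩ O₁ ⊆ Y ∩ O from fun z hz => ⟨hz.1, hsub hz.2⟩))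

open Classical TopologicalSpace in
theorem good_strat {X : Type u} [TopologicalSpace X] [NoetherianSpace X] (Y : Closeds X) :
    ∀ Pf : Finset (Set X), (∀ P ∈ Pf, IsLocallyClosed P) →
      ∃ Sf : Finset (Set X), (∀ S ∈ Sf, IsLocallyClosed S ∧ S ⊆ (Y : Set X)) ∧
        (⋃₀ (Sf : Set (Set X)) = (Y : Set X)) ∧
        (∀ S ∈ Sf, ∀ T ∈ Sf, S ≠ T → Disjoint S T) ∧
        (∀ S ∈ Sf, ∀ T ∈ Sf, (S ∩ closure T).Nonempty → S ⊆ closure T) ∧
        (∀ S ∈ Sf, ∀ P ∈ Pf, (S ∩ P).Nonempty → S ⊆ P) := by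
  refine (wellFounded_lt (α := Closeds X)).induction
    (C := fun Y : Closeds X => ∀ Pf : Finset (Set X), (∀ P ∈ Pf, IsLocallyClosed P) →
      ∃ Sf : Finset (Set X), (∀ S ∈ Sf, IsLocallyClosed S ∧ S ⊆ (Y : Set X)) ∧
        (⋃₀ (Sf : Set (Set X)) = (Y : Set X)) ∧
        (∀ S ∈ Sf, ∀ T ∈ Sf, S ≠ T → Disjoint S T) ∧
        (∀ S ∈ Sf, ∀ T ∈ Sf, (S ∩ closure T).Nonempty → S ⊆ closure T) ∧
        (∀ S ∈ Sf, ∀ P ∈ Pf, (S ∩ P).Nonempty → S ⊆ P)) Y ?_
  intro Y ih Pf hPf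
  by_cases hYe : (Y : Set X) = ∅
  · refine ⟨∅, by simp, by simp [hYe], by simp, by simp, by simp⟩
  have hYne : (Y : Set X).Nonempty := Set.nonempty_iff_ne_empty.mpr hYe
  obtain ⟨O, hO, hne, hall⟩ := exists_open_refine Pf hPf (Y : Set X) hYne
  set U : Set X := (Y : Set X) ∩ O with hU
  let Y' : Closeds X := ⟨(Y : Set X) ∩ Oᶜ, Y.isClosed.inter hO.isClosed_compl⟩
  have hY'coe : (Y' : Set X) = (Y : Set X) ∩ Oᶜ := rfl
  have hlt : Y' < Y := by
    refine lt_of_le_of_ne (fun z hz => hz.1) ?_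
    intro heq
    obtain ⟨z, hzY, hzO⟩ := hne
    have : z ∈ (Y' : Set X) := by rw [heq]; exact hzY
    exact this.2 hzO
  have hPf' : ∀ P ∈ insert (closure U) Pf, IsLocallyClosed P := by
    intro P hP
    rcases Finset.mem_insert.mp hP with rfl | hP
    · exact isClosed_closure.isLocallyClosed
    · exact hPf P hP
  obtain ⟨Sf', h1, h2, h3, h4, h5⟩ := ih Y' hlt (insert (closure U) Pf) hPf'
  have hUloc : IsLocallyClosed U := ⟨O, (Y : Set X), hO, Y.isClosed, Set.inter_comm _ _⟩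
  have hSY' : ∀ S ∈ Sf', S ⊆ (Y : Set X) ∩ Oᶜ := fun S hS => (h1 S hS).2
  have hdisjU : ∀ S ∈ Sf', Disjoint U S := by
    intro S hS
    rw [Set.disjoint_left]
    intro z hzU hzS
    exact (hSY' S hS hzS).2 hzU.2
  have hclY' : ∀ T ∈ Sf', closure T ⊆ (Y : Set X) ∩ Oᶜ := by
    intro T hT
    exact closure_minimal (hSY' T hT) (Y.isClosed.inter hO.isClosed_compl)
  refine ⟨insert U Sf', ?_, ?_, ?_, ?_, ?_⟩
  · intro S hS
    rcases Finset.mem_insert.mp hS with rfl | hS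
    · exact ⟨hUloc, Set.inter_subset_left⟩
    · exact ⟨(h1 S hS).1, fun z hz => ((h1 S hS).2 hz).1⟩
  · rw [Finset.coe_insert, Set.sUnion_insert, h2, hY'coe, hU]
    ext z
    constructor
    · rintro (h | h)
      · exact h.1
      · exact h.1
    · intro hz
      by_cases hzO : z ∈ O
      · exact Or.inl ⟨hz, hzO⟩
      · exact Or.inr ⟨hz, hzO⟩
  · intro S hS T hT hST
    rcases Finset.mem_insert.mp hS with rfl | hS
    · rcases Finset.mem_insert.mp hT with rfl | hT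
      · exact absurd rfl hST
      · exact hdisjU T hT
    · rcases Finset.mem_insert.mp hT with rfl | hT
      · exact (hdisjU S hS).symm
      · exact h3 S hS T hT hST
  · intro S hS T hT hne'
    rcases Finset.mem_insert.mp hS with rfl | hS
    · rcases Finset.mem_insert.mp hT with rfl | hT
      · exact subset_closure
      · exfalso
        obtain ⟨z, hzU, hzT⟩ := hne'
        exact (hclY' T hT hzT).2 hzU.2
    · rcases Finset.mem_insert.mp hT with rfl | hT
      · exact h5 S hS (closure U) (Finset.mem_insert_self _ _) hne'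
      · exact h4 S hS T hT hne'
  · intro S hS P hP hne'
    rcases Finset.mem_insert.mp hS with rfl | hS
    · rcases hall P hP with h | h
      · exact h
      · exfalso
        obtain ⟨z, hzU, hzP⟩ := hne'
        exact Set.disjoint_left.mp h hzU hzP
    · exact h5 S hS P (Finset.mem_insert_of_mem hP) hne'

/-- Let X be a Noetherian topological space and X = ∐ P_k a finite partition into locally closed parts.
Then it is refined by a finite good stratification: a finite partition X = ∐ S_i into locally closed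
strata such that S_i ∩ closure(S_j) ≠ ∅ implies S_i ⊆ closure(S_j), with every P_k a union of
strata. -/
theorem result {X : Type u} [TopologicalSpace X]
    [TopologicalSpace.NoetherianSpace X]
    {n : ℕ} (P : Fin n → Set X) (hP : ∀ k, IsLocallyClosed (P k)) (hcov : ⋃ k, P k = Set.univ)
    (hdisj : ∀ k k', k ≠ k' → Disjoint (P k) (P k')) :
    ∃ (m : ℕ) (S : Fin m → Set X),
      (∀ i, IsLocallyClosed (S i)) ∧ (⋃ i, S i = Set.univ) ∧ (∀ i j, i ≠ j → Disjoint (S i) (S j)) ∧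
      (∀ i j, (S i ∩ closure (S j)).Nonempty → S i ⊆ closure (S j)) ∧
      (∀ i k, (S i ∩ P k).Nonempty → S i ⊆ P k) := by
  classical
  obtain ⟨Sf, h1, h2, h3, h4, h5⟩ := good_strat (⊤ : TopologicalSpace.Closeds X)
    (Finset.univ.image P) (by
      intro Q hQ
      obtain ⟨k, -, rfl⟩ := Finset.mem_image.mp hQ
      exact hP k)
  refine ⟨Sf.card, fun i => (Sf.equivFin.symm i).1, ?_, ?_, ?_, ?_, ?_⟩
  · intro i
    exact (h1 _ (Sf.equivFin.symm i).2).1
  · rw [Set.eq_univ_iff_forall]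
    intro x
    have hx : x ∈ ⋃₀ (Sf : Set (Set X)) := by rw [h2]; trivial
    obtain ⟨S, hS, hxS⟩ := Set.mem_sUnion.mp hx
    refine Set.mem_iUnion.mpr ⟨Sf.equivFin ⟨S, hS⟩, ?_⟩
    simpa using hxS
  · intro i j hij
    apply h3 _ (Sf.equivFin.symm i).2 _ (Sf.equivFin.symm j).2
    intro h
    apply hij
    have := Subtype.ext h
    exact Sf.equivFin.symm.injective this
  · intro i j
    exact h4 _ (Sf.equivFin.symm i).2 _ (Sf.equivFin.symm j).2
  · intro i k
    exact h5 _ (Sf.equivFin.symm i).2 (P k) (Finset.mem_image_of_mem P (Finset.mem_univ k))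

end Groth.Agent.S7561
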