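import Groth.Statements.S7563
import Mathlib.Topology.Irreducible
-- import your own Groth.Agent.* helpers here

set_option autoImplicit false
universe u
open PtTop

namespace Groth.Agent.S7563

theorem exists_subset_of_irreducible {X : Type u} [TopologicalSpace X]
    {n : ℕ} (Z : Fin n → Set X) (hZ : ∀ i, IsClosed (Z i))
    (hcov : ⋃ i, Z i = Set.univ) (s : Set X) (hs : IsIrreducible s) : ∃ j, s ⊆ Z j := by
  classical
  obtain ⟨z, hz, hsz⟩ := (isIrreducible_iff_sUnion_isClosed.mp hs) (Finset.univ.image Z)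
    (by
      intro z hz
      obtain ⟨i, _, rfl⟩ := Finset.mem_image.mp hz
      exact hZ i)
    (by
      intro x _
      have hx : x ∈ ⋃ i, Z i := hcov ▸ Set.mem_univ x
      obtain ⟨i, hi⟩ := Set.mem_iUnion.mp hx
      exact Set.mem_sUnion.mpr ⟨Z i, by simp, hi⟩)
  obtain ⟨j, _, rfl⟩ := Finset.mem_image.mp hz
  exact ⟨j, hsz⟩

/-- Let X be a topological space and X = X_1 ∪ … ∪ X_n with each X_i irreducible and closed and no X_i
contained in the union of the others. Then the irreducible components of X are precisely the sets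
X_1, …, X_n. -/
theorem result {X : Type u} [TopologicalSpace X]
    {n : ℕ} (Z : Fin n → Set X) (hZ : ∀ i, IsIrreducible (Z i) ∧ IsClosed (Z i))
    (hcov : ⋃ i, Z i = Set.univ) (hirr : ∀ i, ¬ Z i ⊆ ⋃ j ∈ ({i}ᶜ : Set (Fin n)), Z j) :
    irreducibleComponents X = Set.range Z := by
  ext s
  constructor
  · intro hs
    obtain ⟨j, hj⟩ := exists_subset_of_irreducible Z (fun i => (hZ i).2) hcov s hs.1
    exact ⟨j, Set.Subset.antisymm (hs.2 (hZ j).1 hj) hj⟩
  · rintro ⟨i, rfl⟩
    refine ⟨(hZ i).1, fun t ht hit => ?_⟩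
    obtain ⟨j, hj⟩ := exists_subset_of_irreducible Z (fun i => (hZ i).2) hcov t ht
    by_cases hji : j = i
    · subst hji
      exact hj
    · exfalso
      apply hirr i
      intro x hx
      exact Set.mem_biUnion (show j ∈ ({i}ᶜ : Set (Fin n)) from hji) (hj (hit hx))

end Groth.Agent.S7563
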