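import Groth.Statements.S7564
import Mathlib.Topology.Irreducible
import Mathlib.Data.Set.Card
-- import your own Groth.Agent.* helpers here

set_option autoImplicit false
universe u
open PtTop

namespace Groth.Agent.S7564

/-- For a continuous surjection f : X → Y, if X has finitely many irreducible components, say n of them,
then Y has at most n irreducible components. -/
theorem result {X Y : Type u} [TopologicalSpace X] [TopologicalSpace Y]
    (f : X → Y) (hf : Continuous f) (hs : Function.Surjective f) (hfin : (irreducibleComponents X).Finite) :
    (irreducibleComponents Y).Finite ∧ (irreducibleComponents Y).ncard ≤ (irreducibleComponents X).ncard := by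
  classical
  have key : irreducibleComponents Y ⊆ (fun C => closure (f '' C)) '' irreducibleComponents X := by
    intro W hW
    have hcovY : W ⊆ ⋃₀ ((hfin.image (fun C => closure (f '' C))).toFinset : Set (Set Y)) := by
      intro y _
      obtain ⟨x, rfl⟩ := hs y
      have hx : x ∈ ⋃₀ irreducibleComponents X := by
        rw [sUnion_irreducibleComponents]; exact Set.mem_univ x
      obtain ⟨C, hC, hxC⟩ := Set.mem_sUnion.mp hx
      refine Set.mem_sUnion.mpr ⟨closure (f '' C), ?_, subset_closure ⟨x, hxC, rfl⟩⟩
      simpa using ⟨C, hC, rfl⟩
    obtain ⟨z, hz, hWz⟩ := (isIrreducible_iff_sUnion_isClosed.mp hW.1) _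
      (by
        intro z hz
        simp only [Set.Finite.mem_toFinset, Set.mem_image] at hz
        obtain ⟨C, _, rfl⟩ := hz
        exact isClosed_closure) hcovY
    simp only [Set.Finite.mem_toFinset, Set.mem_image] at hz
    obtain ⟨C, hC, rfl⟩ := hz
    refine ⟨C, hC, ?_⟩
    have hirr : IsIrreducible (closure (f '' C)) := (hC.1.image f hf.continuousOn).closure
    exact Set.Subset.antisymm (hW.2 hirr hWz) hWz
  have hfinY : ((fun C => closure (f '' C)) '' irreducibleComponents X).Finite := hfin.image _
  refine ⟨hfinY.subset key, ?_⟩
  calc (irreducibleComponents Y).ncard ≤ ((fun C => closure (f '' C)) '' irreducibleComponents X).ncard :=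
        Set.ncard_le_ncard key hfinY
    _ ≤ (irreducibleComponents X).ncard := Set.ncard_image_le hfin

end Groth.Agent.S7564
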