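import Groth.Statements.S7566
-- import your own Groth.Agent.* helpers here

set_option autoImplicit false
universe u
open PtTop

namespace Groth.Agent.S7566

open Set in
theorem cc_eq_iInter {X : Type u} [TopologicalSpace X]
    [CompactSpace X] [PrespectralSpace X] [QuasiSeparatedSpace X] (x : X) :
    connectedComponent x = ⋂ s : { s : Set X // IsClopen s ∧ x ∈ s }, (s : Set X) := by
  apply Subset.antisymm connectedComponent_subset_iInter_isClopen
  refine IsPreconnected.subset_connectedComponent ?_ (mem_iInter.2 fun s => s.2.2)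
  have hs : IsClosed (⋂ s : { s : Set X // IsClopen s ∧ x ∈ s }, (s : Set X)) :=
    isClosed_iInter fun s => s.2.1.1
  rw [isPreconnected_iff_subset_of_fully_disjoint_closed hs]
  intro a b ha hb hab ab_disj
  obtain ⟨u, huc, hu, hau, hub⟩ := PrespectralSpace.exists_isCompact_and_isOpen_between
    ha.isCompact hb.isOpen_compl ab_disj.subset_compl_right
  obtain ⟨v, hvc, hv, hbv, hva⟩ := PrespectralSpace.exists_isCompact_and_isOpen_between
    hb.isCompact ha.isOpen_compl ab_disj.subset_compl_left
  have hK : IsCompact ((u ∪ v)ᶜ ∪ (u ∩ v)) :=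
    (hu.union hv).isClosed_compl.isCompact.union
      (QuasiSeparatedSpace.inter_isCompact u v hu huc hv hvc)
  obtain ⟨s, hsclopen, hxs, hsK⟩ : ∃ s : Set X, IsClopen s ∧ x ∈ s ∧
      Disjoint ((u ∪ v)ᶜ ∪ (u ∩ v)) s := by
    have H1 := hK.inter_iInter_nonempty
      (fun s : { s : Set X // IsClopen s ∧ x ∈ s } => s) fun s => s.2.1.1
    rw [← not_disjoint_iff_nonempty_inter, imp_not_comm, not_forall] at H1
    have hdisj : Disjoint ((u ∪ v)ᶜ ∪ (u ∩ v))
        (⋂ s : { s : Set X // IsClopen s ∧ x ∈ s }, (s : Set X)) := by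
      rw [Set.disjoint_left]
      rintro z (hz | ⟨hzu, hzv⟩) hzS
      · rcases hab hzS with h | h
        · exact hz (Or.inl (hau h))
        · exact hz (Or.inr (hbv h))
      · rcases hab hzS with h | h
        · exact hva hzv h
        · exact hub hzu h
    obtain ⟨si, H2⟩ := H1 hdisj
    refine ⟨⋂ U ∈ si, Subtype.val U, ?_, ?_, ?_⟩
    · exact isClopen_biInter_finset fun s _ => s.2.1
    · exact mem_iInter₂.2 fun s _ => s.2.2
    · rwa [disjoint_iff_inter_eq_empty, ← not_nonempty_iff_eq_empty]
  have hsuv : s ⊆ (s ∩ u) ∪ (s ∩ v) := by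
    intro z hz
    by_contra hcon
    apply Set.disjoint_left.mp hsK _ hz
    left
    rintro (h | h)
    · exact hcon (Or.inl ⟨hz, h⟩)
    · exact hcon (Or.inr ⟨hz, h⟩)
  have hdisj' : Disjoint (s ∩ u) (s ∩ v) := by
    rw [Set.disjoint_left]
    rintro z ⟨hz, hzu⟩ ⟨-, hzv⟩
    exact Set.disjoint_left.mp hsK (Or.inr ⟨hzu, hzv⟩) hz
  have H1 : IsClopen (s ∩ (s ∩ u)) := isClopen_inter_of_disjoint_cover_clopen hsclopen hsuv
    (hsclopen.2.inter hu) (hsclopen.2.inter hv) hdisj'
  have H2 : IsClopen (s ∩ (s ∩ v)) := isClopen_inter_of_disjoint_cover_clopen hsclopen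
    (by rw [union_comm]; exact hsuv)
    (hsclopen.2.inter hv) (hsclopen.2.inter hu) hdisj'.symm
  by_cases hxu : x ∈ u
  · left
    have hSu : (⋂ s : { s : Set X // IsClopen s ∧ x ∈ s }, (s : Set X)) ⊆ u := by
      refine Subset.trans ?_ (show s ∩ (s ∩ u) ⊆ u from fun z hz => hz.2.2)
      exact iInter_subset (fun s : { s : Set X // IsClopen s ∧ x ∈ s } => s.1)
        ⟨s ∩ (s ∩ u), H1, ⟨hxs, hxs, hxu⟩⟩
    intro z hz
    rcases hab hz with h | h
    · exact h
    · exact absurd h (hub (hSu hz))
  · right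
    have hxv : x ∈ v := by
      rcases hsuv hxs with h | h
      · exact absurd h.2 hxu
      · exact h.2
    have hSv : (⋂ s : { s : Set X // IsClopen s ∧ x ∈ s }, (s : Set X)) ⊆ v := by
      refine Subset.trans ?_ (show s ∩ (s ∩ v) ⊆ v from fun z hz => hz.2.2)
      exact iInter_subset (fun s : { s : Set X // IsClopen s ∧ x ∈ s } => s.1)
        ⟨s ∩ (s ∩ v), H2, ⟨hxs, hxs, hxv⟩⟩
    intro z hz
    rcases hab hz with h | h
    · exact absurd h (hva (hSv hz))
    · exact h

/-- Let X be a quasi-compact topological space whose quasi-compact opens form a basis, any two of them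
meeting in a quasi-compact set. Then for every x ∈ X the connected component of x equals the
intersection of every clopen subset of X that contains x. -/
theorem result {X : Type u} [TopologicalSpace X]
    [CompactSpace X] [PrespectralSpace X] [QuasiSeparatedSpace X] (x : X) :
    connectedComponent x = ⋂₀ {Z : Set X | IsClopen Z ∧ x ∈ Z} := by
  rw [cc_eq_iInter x]
  ext z
  simp only [Set.mem_iInter, Set.mem_sInter, Set.mem_ofPred_eq, Subtype.forall]

end Groth.Agent.S7566
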