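import Groth.Statements.S7567
import Groth.Agent.S7566

set_option autoImplicit false
universe u
open PtTop

namespace Groth.Agent.S7567

/-- Let X be a quasi-compact topological space whose quasi-compact opens form a basis, any two of them
meeting in a quasi-compact set. For a subset T ⊆ X these two conditions are equivalent: (a) T can be
written as an intersection of clopen subsets of X; (b) T is closed and is a union of connected
components of X. -/
theorem result {X : Type u} [TopologicalSpace X]
    [CompactSpace X] [PrespectralSpace X] [QuasiSeparatedSpace X] (T : Set X) :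
    (∃ S : Set (Set X), (∀ Z ∈ S, IsClopen Z) ∧ T = ⋂₀ S) ↔
      (IsClosed T ∧ ∀ x ∈ T, connectedComponent x ⊆ T) := by
  constructor
  · rintro ⟨S, hS, rfl⟩
    refine ⟨isClosed_sInter fun Z hZ => (hS Z hZ).1, fun x hx => ?_⟩
    intro y hy
    rw [Set.mem_sInter] at hx ⊢
    intro Z hZ
    exact (hS Z hZ).connectedComponent_subset (hx Z hZ) hy
  · rintro ⟨hTc, hT⟩
    refine ⟨{Z | IsClopen Z ∧ T ⊆ Z}, fun Z hZ => hZ.1, ?_⟩
    apply Set.Subset.antisymm
    · exact Set.subset_sInter fun Z hZ => hZ.2
    · intro y hy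
      by_contra hyT
      have hex : ∀ x : T, ∃ Z : Set X, IsClopen Z ∧ x.1 ∈ Z ∧ y ∉ Z := by
        intro x
        have hy' : y ∉ connectedComponent x.1 := fun h => hyT (hT x.1 x.2 h)
        rw [Groth.Agent.S7566.result x.1, Set.mem_sInter] at hy'
        push Not at hy'
        obtain ⟨Z, ⟨hZ1, hZ2⟩, hyZ⟩ := hy'
        exact ⟨Z, hZ1, hZ2, hyZ⟩
      choose Z hZ1 hZ2 hZ3 using hex
      obtain ⟨t, ht⟩ := hTc.isCompact.elim_finite_subcover Z (fun x => (hZ1 x).2)
        (fun x hx => Set.mem_iUnion.mpr ⟨⟨x, hx⟩, hZ2 ⟨x, hx⟩⟩)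
      have hclopen : IsClopen (⋃ i ∈ t, Z i) := isClopen_biUnion_finset fun i _ => hZ1 i
      have := Set.mem_sInter.mp hy _ ⟨hclopen, ht⟩
      simp only [Set.mem_iUnion] at this
      obtain ⟨i, _, hi⟩ := this
      exact hZ3 i hi

end Groth.Agent.S7567
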