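import Groth.Statements.S7568
import Groth.Agent.Lib.Helper85.RelHausdorff

set_option autoImplicit false
universe u
open PtTop

namespace Groth.Agent.S7568

/-- Let X be a Hausdorff quasi-compact space, X = ⋃ U_i an open covering, p ≥ 0 an integer, and for
every (p+1)-tuple (i_0, …, i_p) an open covering of U_{i_0} ∩ … ∩ U_{i_p} by opens W_{i_0…i_p,k}.
Then there are an open covering X = ⋃_{j ∈ J} V_j and a map α : J → I with closure(V_j) ⊆ U_{α(j)}
such that each V_{j_0} ∩ … ∩ V_{j_p} is contained in W_{α(j_0)…α(j_p),k} for some k. The published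
statement allows a covering of an empty intersection to have no members; this row requires every
covering W_{i_0…i_p} to have at least one member (possibly empty), without which the conclusion
fails. -/
theorem result {X : Type u} [TopologicalSpace X] [CompactSpace X] [T2Space X]
    {ι : Type u} (U : ι → Set X) (hU : ∀ i, IsOpen (U i)) (hcov : ⋃ i, U i = Set.univ) (p : ℕ)
    (W : (Fin (p + 1) → ι) → Set (Set X)) (hWo : ∀ t, ∀ w ∈ W t, IsOpen w)
    (hWc : ∀ t, ⋃₀ W t = ⋂ l, U (t l)) (hWne : ∀ t, (W t).Nonempty) :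
    ∃ (J : Type u) (V : J → Set X) (α : J → ι), (∀ j, IsOpen (V j)) ∧ (⋃ j, V j = Set.univ) ∧
      (∀ j, closure (V j) ⊆ U (α j)) ∧
      (∀ t : Fin (p + 1) → J, ∃ w ∈ W (α ∘ t), (⋂ l, V (t l)) ⊆ w) := by
  classical
  have hsep : Groth.Agent.Lib.Helper85.RelT2 (Set.univ : Set X) := by
    intro z _ z' _ hne
    obtain ⟨A, B, hA, hB, hzA, hzB, hAB⟩ := t2_separation hne
    exact ⟨A, B, hA, hB, hzA, hzB, hAB⟩
  obtain ⟨I₀, C, hC, hC0, hCU, hCcov⟩ := Groth.Agent.Lib.Helper85.exists_closed_shrink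
    isCompact_univ hsep U hU (by rw [hcov])
  have hexO : ∀ i, ∃ O : Set X, IsOpen O ∧ Set.univ ∩ C i ⊆ O ∧ O ⊆ U i ∧
      closure O ∩ Set.univ ⊆ U i := fun i =>
    Groth.Agent.Lib.Helper85.exists_open_closure_inter isCompact_univ hsep (hC i) (hU i) (hCU i)
  choose O hOo hCO hOU hOcl using hexO
  have hCO' : ∀ i, C i ⊆ O i := fun i x hx => hCO i ⟨trivial, hx⟩
  have hOcl' : ∀ i, closure (O i) ⊆ U i := fun i x hx => hOcl i ⟨hx, trivial⟩
  have hexα : ∀ x : X, ∃ i, x ∈ C i := fun x => Set.mem_iUnion.mp (hCcov (Set.mem_univ x))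
  choose α hα using hexα
  have hαI : ∀ x, α x ∈ I₀ := by
    intro x
    by_contra h
    have := hα x
    rw [hC0 _ h] at this
    exact this
  -- choice of members of the coverings
  have hexw : ∀ (t : Fin (p + 1) → ι) (x : X), ∃ w : Set X, IsOpen w ∧
      (x ∈ ⋂ l, U (t l) → w ∈ W t ∧ x ∈ w) := by
    intro t x
    by_cases hx : x ∈ ⋂ l, U (t l)
    · rw [← hWc t] at hx
      obtain ⟨w, hw, hxw⟩ := Set.mem_sUnion.mp hx
      exact ⟨w, hWo t w hw, fun _ => ⟨hw, hxw⟩⟩
    · exact ⟨Set.univ, isOpen_univ, fun h => absurd h hx⟩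
  choose w hwo hw using hexw
  let T₀ : Finset (Fin (p + 1) → ι) := Fintype.piFinset (fun _ => I₀)
  let V : X → Set X := fun x =>
    O (α x) ∩ (⋂ i ∈ I₀.filter (fun i => x ∉ closure (O i)), (closure (O i))ᶜ) ∩
      (⋂ t ∈ T₀.filter (fun t => x ∈ ⋂ l, U (t l)), w t x)
  have hxV : ∀ x, x ∈ V x := by
    intro x
    refine ⟨⟨hCO' _ (hα x), ?_⟩, ?_⟩
    · simp only [Set.mem_iInter, Finset.mem_filter]
      intro i hi
      exact hi.2
    · simp only [Set.mem_iInter, Finset.mem_filter]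
      intro t ht
      exact (hw t x (Set.mem_iInter.mpr ht.2)).2
  refine ⟨X, V, α, ?_, ?_, ?_, ?_⟩
  · intro x
    exact ((hOo _).inter (isOpen_biInter_finset fun i _ => isClosed_closure.isOpen_compl)).inter
      (isOpen_biInter_finset fun t _ => hwo t x)
  · rw [Set.eq_univ_iff_forall]
    intro x
    exact Set.mem_iUnion.mpr ⟨x, hxV x⟩
  · intro x
    exact (closure_mono (fun y hy => hy.1.1)).trans (hOcl' _)
  · intro t
    by_cases hne : (⋂ l, V (t l)).Nonempty
    · obtain ⟨y, hy⟩ := hne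
      rw [Set.mem_iInter] at hy
      have hτ : (α ∘ t) ∈ T₀ := Fintype.mem_piFinset.mpr fun l => hαI (t l)
      have hx₀ : t 0 ∈ ⋂ l, U ((α ∘ t) l) := by
        rw [Set.mem_iInter]
        intro l
        apply hOcl'
        by_contra hcon
        have h1 : y ∈ (closure (O ((α ∘ t) l)))ᶜ := by
          have := (hy 0).1.2
          simp only [Set.mem_iInter, Finset.mem_filter] at this
          exact this ((α ∘ t) l) ⟨hαI (t l), hcon⟩
        exact h1 (subset_closure (hy l).1.1)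
      refine ⟨w (α ∘ t) (t 0), (hw _ _ hx₀).1, ?_⟩
      intro z hz
      rw [Set.mem_iInter] at hz
      have := (hz 0).2
      simp only [Set.mem_iInter, Finset.mem_filter] at this
      exact this (α ∘ t) ⟨hτ, Set.mem_iInter.mp hx₀⟩
    · obtain ⟨w₀, hw₀⟩ := hWne (α ∘ t)
      refine ⟨w₀, hw₀, ?_⟩
      rw [Set.not_nonempty_iff_eq_empty] at hne
      rw [hne]
      exact Set.empty_subset _

end Groth.Agent.S7568
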