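import Groth.Statements.S7569
import Groth.Agent.Lib.Helper85.RelHausdorff
import Mathlib.Topology.Separation.Regular

set_option autoImplicit false
universe u
open PtTop

namespace Groth.Agent.S7569

/-- Let X be a Hausdorff, locally quasi-compact space and Z ⊆ X a quasi-compact subset. Let p ≥ 0, let
U_i ⊆ X be opens with Z ⊆ ⋃ U_i, and for every (p+1)-tuple (i_0, …, i_p) let W_{i_0…i_p} ⊆ U_{i_0} ∩
… ∩ U_{i_p} be an open with W_{i_0…i_p} ∩ Z = U_{i_0} ∩ … ∩ U_{i_p} ∩ Z. Then there are opens V_i ⊆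
X with Z ⊆ ⋃ V_i, closure(V_i) ⊆ U_i for all i, and V_{i_0} ∩ … ∩ V_{i_p} ⊆ W_{i_0…i_p} for all
(p+1)-tuples. -/
theorem result {X : Type u} [TopologicalSpace X]
    [T2Space X] [LocallyCompactSpace X] (Z : Set X) (hZ : IsCompact Z)
    {ι : Type u} (U : ι → Set X) (hU : ∀ i, IsOpen (U i)) (hcov : Z ⊆ ⋃ i, U i) (p : ℕ)
    (W : (Fin (p + 1) → ι) → Set X) (hWo : ∀ t, IsOpen (W t)) (hWU : ∀ t, W t ⊆ ⋂ l, U (t l))
    (hWZ : ∀ t, W t ∩ Z = (⋂ l, U (t l)) ∩ Z) :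
    ∃ V : ι → Set X, (∀ i, IsOpen (V i)) ∧ (Z ⊆ ⋃ i, V i) ∧ (∀ i, closure (V i) ⊆ U i) ∧
      (∀ t : Fin (p + 1) → ι, (⋂ l, V (t l)) ⊆ W t) := by
  have hsep : Groth.Agent.Lib.Helper85.RelT2 Z := by
    intro z _ z' _ hne
    obtain ⟨A, B, hA, hB, hzA, hzB, hAB⟩ := t2_separation hne
    exact ⟨A, B, hA, hB, hzA, hzB, hAB⟩
  obtain ⟨C, hC, hCU, href⟩ :=
    Groth.Agent.Lib.Helper85.exists_refinement hZ hsep U hU hcov p W hWo hWZ
  have hex : ∀ i, ∃ V' : Set X, IsOpen V' ∧ Z ∩ C i ⊆ V' ∧ closure V' ⊆ U i := by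
    intro i
    obtain ⟨V', h1, h2, h3, -⟩ :=
      exists_open_between_and_isCompact_closure (hZ.inter_right (hC i)) (hU i) (hCU i)
    exact ⟨V', h1, h2, h3⟩
  choose V' hV'o hV'sub hV'cl using hex
  obtain ⟨V, hVo, hVV', hVcov, hVW⟩ := href V' hV'o hV'sub
  exact ⟨V, hVo, hVcov, fun i => (closure_mono (hVV' i)).trans (hV'cl i), hVW⟩

end Groth.Agent.S7569
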