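import Groth.Statements.S7571
import Mathlib.Topology.Category.TopCat.Limits.Cofiltered
-- import your own Groth.Agent.* helpers here

set_option autoImplicit false
universe u
open CategoryTheory CategoryTheory.Limits
open PtTop

namespace Groth.Agent.S7571

/-- Let j ↦ X_j be a diagram of topological spaces over a cofiltered category with limit X and
projections f_j. (1) Every open of X is a union of subsets of the form f_j⁻¹(U_j) with U_j ⊆ X_j
open. (2) Every quasi-compact open of X equals f_i⁻¹(U_i) for some i and some open U_i ⊆ X_i. -/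
theorem result {J : Type u} [SmallCategory J] [IsCofiltered J]
    (F : J ⥤ TopCat.{u}) (c : Cone F) (hc : IsLimit c) :
    (∀ W : Set c.pt, IsOpen W →
      ∃ S : Set (Σ j, Set (F.obj j)), (∀ s ∈ S, IsOpen s.2) ∧ W = ⋃ s ∈ S, c.π.app s.1 ⁻¹' s.2) ∧
    (∀ W : Set c.pt, IsOpen W → IsCompact W →
      ∃ (i : J) (Ui : Set (F.obj i)), IsOpen Ui ∧ W = c.π.app i ⁻¹' Ui) := by
  have hB := TopCat.isTopologicalBasis_cofiltered_limit.{u, u, u} F c hc
    (fun j => {V : Set (F.obj j) | IsOpen V}) (fun j => TopologicalSpace.isTopologicalBasis_opens)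
    (fun i => isOpen_univ) (fun i U1 U2 h1 h2 => IsOpen.inter h1 h2)
    (fun i j f V hV => hV.preimage (F.map f).hom.continuous)
  have hcov : ∀ W : Set c.pt, IsOpen W → ∀ x ∈ W, ∃ (j : J) (V : Set (F.obj j)), IsOpen V ∧
      x ∈ c.π.app j ⁻¹' V ∧ c.π.app j ⁻¹' V ⊆ W := by
    intro W hW x hx
    obtain ⟨U, ⟨j, V, hV, rfl⟩, hxU, hUW⟩ := hB.exists_subset_of_mem_open hx hW
    exact ⟨j, V, hV, hxU, hUW⟩
  refine ⟨?_, ?_⟩
  · intro W hW
    refine ⟨{s | IsOpen s.2 ∧ c.π.app s.1 ⁻¹' s.2 ⊆ W}, fun s hs => hs.1, ?_⟩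
    apply Set.Subset.antisymm
    · intro x hx
      obtain ⟨j, V, hV, hxV, hVW⟩ := hcov W hW x hx
      exact Set.mem_biUnion (x := (⟨j, V⟩ : Σ j, Set (F.obj j))) ⟨hV, hVW⟩ hxV
    · exact Set.iUnion₂_subset fun s hs => hs.2
  · intro W hW hWc
    -- binary unions of basic opens are basic
    have hunion : ∀ (j k : J) (V : Set (F.obj j)) (V' : Set (F.obj k)), IsOpen V → IsOpen V' →
        ∃ (i : J) (Ui : Set (F.obj i)), IsOpen Ui ∧
          c.π.app j ⁻¹' V ∪ c.π.app k ⁻¹' V' = c.π.app i ⁻¹' Ui := by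
      intro j k V V' hV hV'
      refine ⟨IsCofiltered.min j k, F.map (IsCofiltered.minToLeft j k) ⁻¹' V ∪
        F.map (IsCofiltered.minToRight j k) ⁻¹' V', ?_, ?_⟩
      · exact (hV.preimage (F.map _).hom.continuous).union (hV'.preimage (F.map _).hom.continuous)
      · ext x
        have h1 : F.map (IsCofiltered.minToLeft j k) (c.π.app (IsCofiltered.min j k) x) =
            c.π.app j x := by
          rw [← ConcreteCategory.comp_apply, c.w]
        have h2 : F.map (IsCofiltered.minToRight j k) (c.π.app (IsCofiltered.min j k) x) =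
            c.π.app k x := by
          rw [← ConcreteCategory.comp_apply, c.w]
        simp only [Set.mem_union, Set.mem_preimage, h1, h2]
    let ι := {s : Σ j, Set (F.obj j) // IsOpen s.2 ∧ c.π.app s.1 ⁻¹' s.2 ⊆ W}
    obtain ⟨t, ht⟩ := hWc.elim_finite_subcover (fun s : ι => c.π.app s.1.1 ⁻¹' s.1.2)
      (fun s => s.2.1.preimage (c.π.app s.1.1).hom.continuous) (by
        intro x hx
        obtain ⟨j, V, hV, hxV, hVW⟩ := hcov W hW x hx
        exact Set.mem_iUnion.mpr ⟨⟨⟨j, V⟩, hV, hVW⟩, hxV⟩)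
    have hfin : ∀ t : Finset ι, ∃ (i : J) (Ui : Set (F.obj i)), IsOpen Ui ∧
        (⋃ s ∈ t, c.π.app s.1.1 ⁻¹' s.1.2) = c.π.app i ⁻¹' Ui := by
      classical
      intro t
      induction t using Finset.induction_on with
      | empty =>
        obtain ⟨j⟩ := IsCofiltered.nonempty (C := J)
        exact ⟨j, ∅, isOpen_empty, by simp⟩
      | insert a t _ ih =>
        obtain ⟨i, Ui, hUi, hU⟩ := ih
        obtain ⟨i', Ui', hUi', hU'⟩ := hunion a.1.1 i a.1.2 Ui a.2.1 hUi
        refine ⟨i', Ui', hUi', ?_⟩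
        rw [Finset.set_biUnion_insert, hU, hU']
    obtain ⟨i, Ui, hUi, hU⟩ := hfin t
    refine ⟨i, Ui, hUi, ?_⟩
    rw [← hU]
    exact Set.Subset.antisymm ht (Set.iUnion₂_subset fun s _ => s.2.2)

end Groth.Agent.S7571
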