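import Groth.Statements.S7575
import Groth.Agent.Lib.Helper43.ShColim

set_option autoImplicit false
universe u
open CategoryTheory CategoryTheory.Limits TopologicalSpace Opposite
open ShSp

namespace Groth.Agent.S7575

/-- Let X be a topological space, I a directed set, (F_i) a system of sheaves of sets on X over I with
colimit F (in sheaves), U ⊆ X open, and Ψ : colim_i F_i(U) → F(U) the canonical map. (1) If all
transition maps F_i → F_{i'} are injective (on all sections) then Ψ is injective. (2)
Quasi-compactness of U alone already makes Ψ injective. (3) When U is quasi-compact and every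
transition map is injective, Ψ is bijective. (4) If every open covering of U can be refined by a
finite open covering U = U_1 ∪ … ∪ U_m with all U_j ∩ U_{j'} quasi-compact, then Ψ is bijective. -/
theorem result {X : TopCat.{u}} {J : Type u} [Preorder J] [Nonempty J] [IsDirected J (· ≤ ·)]
    (F : J ⥤ X.Sheaf (Type u)) (c : Cocone F) (hc : IsColimit c) (U : Opens X) :
    let ev := TopCat.Sheaf.forget (Type u) X ⋙ (evaluation (Opens X)ᵒᵖ (Type u)).obj (op U)
    let Ψ : colimit (F ⋙ ev) → ev.obj c.pt := colimit.desc (F ⋙ ev) (ev.mapCocone c)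
    ((∀ (i j : J) (h : i ⟶ j) (V : Opens X), Function.Injective ((F.map h).1.app (op V))) → Function.Injective Ψ) ∧
    (IsCompact (U : Set X) → Function.Injective Ψ) ∧
    (IsCompact (U : Set X) → (∀ (i j : J) (h : i ⟶ j) (V : Opens X), Function.Injective ((F.map h).1.app (op V))) →
      Function.Bijective Ψ) ∧
    ((∀ 𝒱 : Set (Opens X), (⨆ V ∈ 𝒱, V) = U →
        ∃ (m : ℕ) (W : Fin m → Opens X), (∀ j, ∃ V ∈ 𝒱, W j ≤ V) ∧ (⨆ j, W j) = U ∧
          ∀ j j', IsCompact ((W j ⊓ W j' : Opens X) : Set X)) →
      Function.Bijective Ψ) := by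
  intro ev Ψ
  open Groth.Agent.Lib.Helper43 in
  have hinj1 : (∀ (i j : J) (h : i ⟶ j) (V : Opens X),
      Function.Injective ((F.map h).1.app (op V))) → Function.Injective Ψ := by
    intro hinj
    refine ShColim.desc_injective_of (F := F) (c := c) (U := U) ?_
    intro i y z hyz
    exact ⟨i, le_rfl, congrArg _ (ShColim.ι_injective_of_tr_injective hc hinj i U hyz)⟩
  have hinj2 : IsCompact (U : Set X) → Function.Injective Ψ := by
    intro hU
    refine ShColim.desc_injective_of (F := F) (c := c) (U := U) ?_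
    intro i y z hyz
    exact ShColim.exists_tr_eq_of_isCompact hc hU y z hyz
  refine ⟨hinj1, hinj2, ?_, ?_⟩
  · intro hU hinj
    refine ⟨hinj1 hinj, ?_⟩
    refine ShColim.desc_surjective_of (F := F) (c := c) (U := U) ?_
    intro s
    have H := fun (x : U) => ShColim.exists_local_lift hc s x.1 x.2
    choose i V hVU hxV t ht using H
    obtain ⟨T, hT⟩ := hU.elim_finite_subcover (fun x : U => (V x : Set X)) (fun x => (V x).2)
      (fun x hx => Set.mem_iUnion.mpr ⟨⟨x, hx⟩, hxV ⟨x, hx⟩⟩)
    refine ShColim.exists_lift_of_finite_cover (F := F) (c := c) (A := {x // x ∈ T}) s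
      (fun a => V a.1) (fun a => hVU a.1) ?_ (fun a => ⟨i a.1, t a.1, ht a.1⟩) ?_
    · intro p hp
      obtain ⟨x, hxT, hpx⟩ : ∃ x ∈ T, p ∈ V x := by
        have := hT hp
        simpa using this
      exact Opens.mem_iSup.mpr ⟨⟨x, hxT⟩, hpx⟩
    · intro a b i y z hyz
      exact ⟨i, le_rfl, congrArg _ (ShColim.ι_injective_of_tr_injective hc hinj i _ hyz)⟩
  · intro H
    constructor
    · -- `U` is quasi-compact
      obtain ⟨m, W, -, hW, hWc⟩ := H {U} (by simp)
      refine hinj2 ?_
      rw [← hW, Opens.coe_iSup]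
      refine isCompact_iUnion fun j => ?_
      have := hWc j j
      rwa [inf_idem] at this
    · refine ShColim.desc_surjective_of (F := F) (c := c) (U := U) ?_
      intro s
      let 𝒱 : Set (Opens X) := {V | ∃ hV : V ≤ U, ∃ (i : J) (t : (F.obj i).1.obj (op V)),
        ShColim.ι F c i V t = ShColim.res c.pt hV s}
      have h𝒱 : (⨆ V ∈ 𝒱, V) = U := by
        apply le_antisymm
        · exact iSup₂_le fun V hV => hV.1
        · intro x hx
          obtain ⟨i, V, hVU, hxV, t, ht⟩ := ShColim.exists_local_lift hc s x hx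
          exact Opens.mem_iSup.mpr ⟨V, Opens.mem_iSup.mpr ⟨⟨hVU, i, t, ht⟩, hxV⟩⟩
      obtain ⟨m, W, hW𝒱, hW, hWc⟩ := H 𝒱 h𝒱
      have hWU : ∀ j, W j ≤ U := fun j => hW ▸ le_iSup W j
      refine ShColim.exists_lift_of_finite_cover (F := F) (c := c) s W hWU (le_of_eq hW.symm) ?_ ?_
      · intro j
        obtain ⟨V, ⟨hVU, i, t, ht⟩, hWV⟩ := hW𝒱 j
        refine ⟨i, ShColim.res (F.obj i) hWV t, ?_⟩
        rw [ShColim.ι_res, ht, ShColim.res_res]
      · intro a b i y z hyz
        exact ShColim.exists_tr_eq_of_isCompact hc (hWc a b) y z hyz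

end Groth.Agent.S7575
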