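import Groth.Statements.S7578
-- import your own Groth.Agent.* helpers here

set_option autoImplicit false
universe u
open PtTop

namespace Groth.Agent.S7578

section Aux
open Topology TopologicalSpace

/-- Two dimension functions have the same differences along specializations. -/
theorem diff_eq_of_specializes {X : Type u} [TopologicalSpace X] (δ δ' : X → ℤ)
    (hδ : PtTop.IsDimensionFunction δ) (hδ' : PtTop.IsDimensionFunction δ') :
    ∀ (n : ℕ) (x y : X), x ⤳ y → δ x - δ y ≤ n → δ x - δ y = δ' x - δ' y := by
  intro n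
  induction n using Nat.strong_induction_on with
  | _ n ih =>
    intro x y hxy hn
    by_cases hxy' : x = y
    · subst hxy'; simp
    by_cases himm : PtTop.IsImmediateSpecialization x y
    · have h1 := hδ.2 x y himm
      have h2 := hδ'.2 x y himm
      omega
    · have hz : ∃ z, x ⤳ z ∧ z ⤳ y ∧ z ≠ x ∧ z ≠ y := by
        by_contra hcon
        apply himm
        refine ⟨hxy, hxy', fun z hxz hzy => ?_⟩
        by_contra hz
        have hz' := not_or.mp hz
        exact hcon ⟨z, hxz, hzy, hz'.1, hz'.2⟩
      obtain ⟨z, hxz, hzy, hzx, hzy'⟩ := hz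
      have h1 : δ z < δ x := hδ.1 x z hxz (Ne.symm hzx)
      have h2 : δ y < δ z := hδ.1 z y hzy hzy'
      have e1 := ih (n - 1) (by omega) x z hxz (by omega)
      have e2 := ih (n - 1) (by omega) z y hzy (by omega)
      omega

/-- In a Noetherian quasi-sober space every point has an open neighbourhood all of whose points
have a common generization with it. -/
theorem exists_open_common_generization {β : Type*} [TopologicalSpace β] [NoetherianSpace β]
    [QuasiSober β] (x : β) :
    ∃ O : Set β, IsOpen O ∧ x ∈ O ∧ ∀ y ∈ O, ∃ η : β, η ⤳ x ∧ η ⤳ y := by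
  have hfin : (irreducibleComponents β).Finite := NoetherianSpace.finite_irreducibleComponents
  refine ⟨(⋃₀ {Z | Z ∈ irreducibleComponents β ∧ x ∉ Z})ᶜ, ?_, ?_, ?_⟩
  · rw [isOpen_compl_iff, Set.sUnion_eq_biUnion]
    exact (hfin.subset (fun Z h => h.1)).isClosed_biUnion
      (fun Z h => isClosed_of_mem_irreducibleComponents Z h.1)
  · rintro ⟨Z, ⟨-, hxZ⟩, hx⟩
    exact hxZ hx
  · intro y hy
    have hZ : irreducibleComponent y ∈ irreducibleComponents β :=
      irreducibleComponent_mem_irreducibleComponents y
    have hxZ : x ∈ irreducibleComponent y := by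
      by_contra hx
      exact hy ⟨irreducibleComponent y, ⟨hZ, hx⟩, mem_irreducibleComponent⟩
    have hirr : IsIrreducible (irreducibleComponent y) := isIrreducible_irreducibleComponent
    have hgen := hirr.isGenericPoint_genericPoint isClosed_irreducibleComponent
    exact ⟨hirr.genericPoint, hgen.specializes hxZ, hgen.specializes mem_irreducibleComponent⟩

end Aux

/-- Let X be a topological space which is locally Noetherian (every point has a Noetherian
neighbourhood) and sober, and let δ, δ' be two dimension functions on X. Then δ − δ' is locally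
constant. -/
theorem result {X : Type u} [TopologicalSpace X] [QuasiSober X] [T0Space X]
    (hX : ∀ x : X, ∃ E ∈ nhds x, TopologicalSpace.NoetherianSpace E)
    (δ δ' : X → ℤ) (hδ : PtTop.IsDimensionFunction δ) (hδ' : PtTop.IsDimensionFunction δ') :
    IsLocallyConstant (fun x => δ x - δ' x) := by
  rw [IsLocallyConstant.iff_exists_open]
  intro x
  obtain ⟨E, hE, hEn⟩ := hX x
  obtain ⟨V, hVE, hVopen, hxV⟩ := mem_nhds_iff.mp hE
  haveI := hEn
  haveI : TopologicalSpace.NoetherianSpace ↥V := TopologicalSpace.NoetherianSpace.of_subset hVE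
  haveI : QuasiSober ↥V := hVopen.isOpenEmbedding_subtypeVal.quasiSober
  obtain ⟨O, hOopen, hxO, hO⟩ := exists_open_common_generization (⟨x, hxV⟩ : ↥V)
  refine ⟨Subtype.val '' O, hVopen.isOpenMap_subtype_val _ hOopen, ⟨⟨x, hxV⟩, hxO, rfl⟩, ?_⟩
  rintro _ ⟨y, hyO, rfl⟩
  obtain ⟨η, hηx, hηy⟩ := hO y hyO
  have hηx' : (η : X) ⤳ x := (subtype_specializes_iff η ⟨x, hxV⟩).mp hηx
  have hηy' : (η : X) ⤳ (y : X) := (subtype_specializes_iff η y).mp hηy
  have key : ∀ a b : X, a ⤳ b → δ a - δ b = δ' a - δ' b := by
    intro a b hab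
    have hle : 0 ≤ δ a - δ b := by
      by_cases e : a = b
      · rw [e]; simp
      · have := hδ.1 a b hab e; omega
    exact diff_eq_of_specializes δ δ' hδ hδ' (δ a - δ b).toNat a b hab (by omega)
  have e1 := key η x hηx'
  have e2 := key η y hηy'
  show δ (y : X) - δ' (y : X) = δ x - δ' x
  omega

end Groth.Agent.S7578
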