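import Groth.Statements.S7579
import Mathlib.Topology.Connected.Separation
-- import your own Groth.Agent.* helpers here

set_option autoImplicit false
universe u
open SpecSp

namespace Groth.Agent.S7579

/-- Let X be a spectral space. Then X with its constructible topology is Hausdorff and totally
disconnected. The published statement also asserts that the constructible topology is quasi-compact;
this row states the Hausdorff and totally disconnected parts. -/
theorem result (X : Type u) [TopologicalSpace X] [SpectralSpace X] :
    T2Space (WithConstructibleTopology X) ∧ TotallyDisconnectedSpace (WithConstructibleTopology X) := by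
  have aux : ∀ (p q : X) (U : Set X), IsOpen U → p ∈ U → q ∉ U →
      ∃ V : Set X, IsOpen V ∧ IsCompact V ∧ p ∈ V ∧ q ∉ V := by
    intro p q U hU hp hq
    obtain ⟨V, ⟨hVo, hVc⟩, hpV, hVU⟩ :=
      PrespectralSpace.isTopologicalBasis.exists_subset_of_mem_open hp hU
    exact ⟨V, hVo, hVc, hpV, fun h => hq (hVU h)⟩
  have clopen : ∀ V : Set X, IsOpen V → IsCompact V →
      IsClopen ((WithTopology.ofTopology (t := constructibleTopology X)) ⁻¹' V) := by
    intro V hVo hVc
    constructor
    · rw [WithConstructibleTopology.isClosed_iff]
      have h1 : @IsOpen X (constructibleTopology X) Vᶜ :=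
        IsCompact.isOpen_constructibleTopology_of_isClosed (by rwa [compl_compl]) hVo.isClosed_compl
      exact @IsClosed.mk X (constructibleTopology X) _ h1
    · rw [WithConstructibleTopology.isOpen_iff]
      exact IsCompact.isOpen_constructibleTopology_of_isOpen hVc hVo
  have key : TotallySeparatedSpace (WithConstructibleTopology X) := by
    rw [totallySeparatedSpace_iff_exists_isClopen]
    intro x y hxy
    have hab : WithTopology.ofTopology x ≠ WithTopology.ofTopology y :=
      fun h => hxy (WithTopology.ofTopology_injective _ h)
    obtain ⟨U, hU, hU'⟩ := exists_isOpen_xor_mem hab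
    rcases hU' with ⟨h1, h2⟩ | ⟨h1, h2⟩
    · obtain ⟨V, hVo, hVc, hpV, hqV⟩ := aux _ _ U hU h1 h2
      exact ⟨_, clopen V hVo hVc, hpV, hqV⟩
    · obtain ⟨V, hVo, hVc, hpV, hqV⟩ := aux _ _ U hU h1 h2
      exact ⟨_, (clopen V hVo hVc).compl, hqV, fun h => h hpV⟩
  exact ⟨inferInstance, inferInstance⟩

end Groth.Agent.S7579
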