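import Groth.Statements.S7580
-- import your own Groth.Agent.* helpers here

set_option autoImplicit false
universe u
open PtTop

namespace Groth.Agent.S7580

/-- Let f : X → Y be a continuous map of topological spaces with f(X) dense in Y and Y Hausdorff. Then
the cardinality of Y is at most that of the double power set of X. -/
theorem result {X Y : Type u} [TopologicalSpace X] [TopologicalSpace Y] [T2Space Y]
    (f : X → Y) (hf : Continuous f) (hd : DenseRange f) :
    Cardinal.mk Y ≤ (2 : Cardinal.{u}) ^ ((2 : Cardinal.{u}) ^ Cardinal.mk X) := by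
  have hcard : Cardinal.mk (Set (Set X)) = (2 : Cardinal.{u}) ^ ((2 : Cardinal.{u}) ^ Cardinal.mk X) := by
    rw [Cardinal.mk_set, Cardinal.mk_set]
  rw [← hcard]
  refine Cardinal.mk_le_of_injective (f := fun y => ((nhds y).comap f).sets) ?_
  intro y y' h
  by_contra hne
  obtain ⟨V, V', hV, hV', hy, hy', hdisj⟩ := t2_separation hne
  have h1 : f ⁻¹' V ∈ ((nhds y).comap f).sets := Filter.preimage_mem_comap (hV.mem_nhds hy)
  have h2 : f ⁻¹' V ∈ ((nhds y').comap f).sets := by
    have h' : ((nhds y).comap f).sets = ((nhds y').comap f).sets := h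
    rw [← h']; exact h1
  obtain ⟨W, hW, hWV⟩ := Filter.mem_comap.mp h2
  have hWV' : W ∩ V' ∈ nhds y' := Filter.inter_mem hW (hV'.mem_nhds hy')
  obtain ⟨x, hx⟩ := hd.mem_nhds hWV'
  have hxV : f x ∈ V := hWV hx.1
  exact Set.disjoint_left.mp hdisj hxV hx.2

end Groth.Agent.S7580
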