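import Groth.Statements.S7587
import Groth.Agent.Lib.Helper43.ShB

set_option autoImplicit false
universe u
open ShSp

namespace Groth.Agent.S7587

/-- Let X be a topological space, ℬ a basis for its topology, U ∈ ℬ and F a sheaf of sets on ℬ. Sending
a section over U to its germs at the points of U, a map from F(U) into the product of the stalks F_x
over x ∈ U, puts F(U) in bijection with those germ families (s_x)_{x ∈ U} that satisfy (*): each x ∈
U lies in some V ∈ ℬ contained in U carrying a section σ ∈ F(V) whose germ at every y ∈ V equals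
s_y. That is, the map is injective and its image is exactly the set of such families. -/
theorem result {X : Type u} [TopologicalSpace X] {B : Set (TopologicalSpace.Opens X)}
    (hB : TopologicalSpace.Opens.IsBasis B) (F : ShB.Pre B) (hF : ShB.IsSheaf F) (U : B) :
    Function.Injective (fun (s : F.obj U) (x : (U : TopologicalSpace.Opens X)) => ShB.germ F x.1 x.2 s) ∧
    ∀ f : ∀ x : (U : TopologicalSpace.Opens X), ShB.Stalk F x.1,
      (∃ s : F.obj U, ∀ x, ShB.germ F x.1 x.2 s = f x) ↔
      ∀ x : (U : TopologicalSpace.Opens X), ∃ (V : B) (hxV : x.1 ∈ (V : TopologicalSpace.Opens X))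
        (hVU : (V : TopologicalSpace.Opens X) ≤ (U : TopologicalSpace.Opens X)) (σ : F.obj V),
        ∀ (y : X) (hy : y ∈ (V : TopologicalSpace.Opens X)), ShB.germ F y hy σ = f ⟨y, hVU hy⟩ := by
  have hS := Groth.Agent.Lib.Helper43.ShBLib.sep_of_isSheaf hB F hF
  refine ⟨?_, ?_⟩
  · intro s s' h
    apply hS U
    intro x hx
    have hx' := congrFun h ⟨x, hx⟩
    obtain ⟨W, hxW, ha, hb, hEq⟩ :=
      (Groth.Agent.Lib.Helper43.ShBLib.germ_eq_iff hB F x hx hx s s').mp hx'
    exact ⟨W, ha, hxW, hEq⟩
  · intro f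
    constructor
    · rintro ⟨s, hs⟩ x
      exact ⟨U, x.2, le_rfl, s, fun y hy => hs ⟨y, hy⟩⟩
    · intro h
      choose V hxV hVU σ hσ using h
      obtain ⟨t, ht, -⟩ := Groth.Agent.Lib.Helper43.ShBLib.exists_glue hB F hF U
        (U : TopologicalSpace.Opens X) V hVU
        (fun x hx => TopologicalSpace.Opens.mem_iSup.mpr ⟨⟨x, hx⟩, hxV ⟨x, hx⟩⟩) σ (by
          intro x x' D h1 h2
          apply hS D
          intro y hy
          have e1 := hσ x y (h1 hy)
          have e2 := hσ x' y (h2 hy)
          have e3 : ShB.germ F y (h1 hy) (σ x) = ShB.germ F y (h2 hy) (σ x') := e1.trans e2.symm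
          obtain ⟨W, hyW, ha, hb, hEq⟩ :=
            (Groth.Agent.Lib.Helper43.ShBLib.germ_eq_iff hB F y _ _ _ _).mp e3
          obtain ⟨E, hyE, hE⟩ := Groth.Agent.Lib.Helper43.ShBLib.exists_basis_nbhd hB
            (show y ∈ (W : TopologicalSpace.Opens X) ⊓ D from ⟨hyW, hy⟩)
          refine ⟨E, hE.trans inf_le_right, hyE, ?_⟩
          rw [F.res_comp, F.res_comp]
          have hEW : (E : TopologicalSpace.Opens X) ≤ W := hE.trans inf_le_left
          calc F.res _ (σ x) = F.res hEW (F.res ha (σ x)) := (F.res_comp _ _ _).symm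
            _ = F.res hEW (F.res hb (σ x')) := by rw [hEq]
            _ = _ := F.res_comp _ _ _)
      refine ⟨t, fun x => ?_⟩
      rw [← hσ x x.1 (hxV x), ← ht x]
      exact (Groth.Agent.Lib.Helper43.ShBLib.germ_res F (hVU x) x.1 (hxV x) t).symm

end Groth.Agent.S7587
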