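import Groth.Statements.S7588
import Groth.Agent.Lib.Helper43.ShBExt

set_option autoImplicit false
universe u
open CategoryTheory
open ShSp

namespace Groth.Agent.S7588

/-- Let X be a topological space, ℬ a basis for its topology and F a sheaf of sets on ℬ. There is a
sheaf of sets F^ext on X together with an isomorphism of presheaves on ℬ between the restriction of
F^ext to ℬ and F; and it is unique: given two sheaves G, G′ on X with such isomorphisms e, e′, there
is a unique isomorphism G ≅ G′ whose restriction to the members of ℬ is compatible with e and e′. -/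
theorem result {X : Type u} [TopologicalSpace X] {B : Set (TopologicalSpace.Opens X)}
    (hB : TopologicalSpace.Opens.IsBasis B) (F : ShB.Pre B) (hF : ShB.IsSheaf F) :
    (∃ G : TopCat.Sheaf (Type u) (TopCat.of X), Nonempty (ShB.Iso (ShB.restrict B G.presheaf) F)) ∧
    ∀ (G G' : TopCat.Sheaf (Type u) (TopCat.of X)) (e : ShB.Iso (ShB.restrict B G.presheaf) F)
      (e' : ShB.Iso (ShB.restrict B G'.presheaf) F),
      ∃! φ : G ⟶ G', IsIso φ ∧ ∀ (U : B) (s : G.presheaf.obj (Opposite.op (U : TopologicalSpace.Opens X))),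
        e'.hom.app U (φ.1.app (Opposite.op (U : TopologicalSpace.Opens X)) s) = e.hom.app U s := by
  classical
  refine ⟨⟨Groth.Agent.Lib.Helper43.ShBLib.extSheaf hB F hF,
    ⟨Groth.Agent.Lib.Helper43.ShBLib.extIso F⟩⟩, ?_⟩
  intro G G' e e'
  have hiso : ∀ (H : TopCat.Sheaf (Type u) (TopCat.of X))
      (eH : ShB.Iso (ShB.restrict B H.presheaf) F),
      IsIso (Groth.Agent.Lib.Helper43.ShBLib.ψ F H eH) := by
    intro H eH
    have : ∀ U, IsIso ((Groth.Agent.Lib.Helper43.ShBLib.ψ F H eH).app U) := fun U =>
      (isIso_iff_bijective _).mpr ⟨Groth.Agent.Lib.Helper43.ShBLib.ψ_injective hB F H eH U,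
        Groth.Agent.Lib.Helper43.ShBLib.ψ_surjective hB F H eH U⟩
    exact NatIso.isIso_of_isIso_app _
  let E := Groth.Agent.Lib.Helper43.ShBLib.extSheaf hB F hF
  let Ψ : G ⟶ E := ⟨Groth.Agent.Lib.Helper43.ShBLib.ψ F G e⟩
  let Ψ' : G' ⟶ E := ⟨Groth.Agent.Lib.Helper43.ShBLib.ψ F G' e'⟩
  have hΨ : IsIso Ψ := by
    have : IsIso ((sheafToPresheaf (Opens.grothendieckTopology (TopCat.of X)) (Type u)).map Ψ) :=
      hiso G e
    exact (fullyFaithfulSheafToPresheaf (Opens.grothendieckTopology (TopCat.of X))
      (Type u)).isIso_of_isIso_map Ψ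
  have hΨ' : IsIso Ψ' := by
    have : IsIso ((sheafToPresheaf (Opens.grothendieckTopology (TopCat.of X)) (Type u)).map Ψ') :=
      hiso G' e'
    exact (fullyFaithfulSheafToPresheaf (Opens.grothendieckTopology (TopCat.of X))
      (Type u)).isIso_of_isIso_map Ψ'
  -- the key property: a morphism is compatible iff it commutes with the comparison maps
  have key : ∀ φ : G ⟶ G', (∀ (U : B) (s : G.presheaf.obj (Opposite.op (U : TopologicalSpace.Opens X))),
        e'.hom.app U (φ.1.app (Opposite.op (U : TopologicalSpace.Opens X)) s) = e.hom.app U s) ↔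
      φ ≫ Ψ' = Ψ := by
    intro φ
    constructor
    · intro h
      apply Sheaf.hom_ext
      apply NatTrans.ext
      funext U
      apply ConcreteCategory.hom_ext
      intro s
      apply Groth.Agent.Lib.Helper43.ShBLib.ExtObj.ext
      funext V hV
      show e'.hom.app V (G'.presheaf.map (homOfLE hV).op (φ.1.app U s)) =
        e.hom.app V (G.presheaf.map (homOfLE hV).op s)
      rw [← h V]
      congr 1
      exact (NatTrans.naturality_apply φ.1 (homOfLE hV).op s).symm
    · intro h U s
      have h1 : (φ ≫ Ψ').1.app (Opposite.op (U : TopologicalSpace.Opens X)) s =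
          Ψ.1.app (Opposite.op (U : TopologicalSpace.Opens X)) s := by rw [h]
      have h2 := congrArg (fun t : Groth.Agent.Lib.Helper43.ShBLib.ExtObj F (U : TopologicalSpace.Opens X) =>
        t.sec U le_rfl) h1
      have h3 : e'.hom.app U (G'.presheaf.map (homOfLE (le_refl (U : TopologicalSpace.Opens X))).op
          (φ.1.app (Opposite.op (U : TopologicalSpace.Opens X)) s)) =
          e.hom.app U (G.presheaf.map (homOfLE (le_refl (U : TopologicalSpace.Opens X))).op s) := h2
      have hid : ∀ (H : TopCat.Sheaf (Type u) (TopCat.of X))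
          (x : H.presheaf.obj (Opposite.op (U : TopologicalSpace.Opens X))),
          H.presheaf.map (homOfLE (le_refl (U : TopologicalSpace.Opens X))).op x = x := by
        intro H x
        have : (homOfLE (le_refl (U : TopologicalSpace.Opens X))).op = 𝟙 _ := rfl
        rw [this, H.presheaf.map_id]
        rfl
      rw [hid, hid] at h3
      exact h3
  refine ⟨Ψ ≫ inv Ψ', ⟨inferInstance, (key _).mpr (by simp)⟩, ?_⟩
  rintro φ' ⟨-, hφ'⟩
  rw [IsIso.eq_comp_inv]
  exact (key φ').mp hφ'

end Groth.Agent.S7588
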