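import Groth.Statements.S7589
import Mathlib
import Groth.Agent.Lib.Helper21.FieldDimStalk
import Groth.Agent.Lib.Helper49.FibreSk
-- import your own Groth.Agent.* helpers here

set_option autoImplicit false
universe u
open CategoryTheory CategoryTheory.Limits AlgebraicGeometry
attribute [local instance] Curv2.stalkAlgebra Curv2.resAlgebra
open Variety

namespace Groth.Agent.S7589

/-- Let X be locally of finite type over a field k, K an extension field of k, y a point of the base
change X_K and x its image in X; write a = trdeg_k κ(x) and a' = trdeg_K κ(y). Then dim O_{X_K, y} +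
a' = dim O_{X, x} + a, and the fibre ring O_{X_K, y} / m_x O_{X_K, y} has Krull dimension a - a' (in
particular a' ≤ a); dimensions in WithBot ℕ∞. -/
theorem result (k : Type u) [Field k] (X : Scheme.{u}) [X.Over (Spec (CommRingCat.of k))] [LocallyOfFiniteType (X ↘ (Spec (CommRingCat.of k)))]
    (K : Type u) [Field K] [Algebra k K] (y : ↥(Curv2.bc k X K)) (a a' : ℕ)
    (ha : Algebra.trdeg k (X.residueField (Curv2.bcFst k X K y)) = a)
    (ha' : letI : (Curv2.bc k X K).Over (Spec (CommRingCat.of K)) := ⟨Curv2.bcSnd k X K⟩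
      Algebra.trdeg K ((Curv2.bc k X K).residueField y) = a') :
    ringKrullDim ((Curv2.bc k X K).presheaf.stalk y) + (a' : WithBot ℕ∞) =
        ringKrullDim (X.presheaf.stalk (Curv2.bcFst k X K y)) + (a : WithBot ℕ∞) ∧
      ringKrullDim (↥((Curv2.bc k X K).presheaf.stalk y) ⧸ Ideal.map ((Curv2.bcFst k X K).stalkMap y).hom (IsLocalRing.maximalIdeal ↥(X.presheaf.stalk (Curv2.bcFst k X K y)))) + (a' : WithBot ℕ∞) =
        (a : WithBot ℕ∞) := by
  classical
  set f := X ↘ (Spec (CommRingCat.of k)) with hf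
  set g := Spec.map (CommRingCat.ofHom (algebraMap k K)) with hg
  have hP : IsLocallyNoetherian (Curv2.bc k X K) :=
    LocallyOfFiniteType.isLocallyNoetherian (Limits.pullback.snd f g)
  have hXN : IsLocallyNoetherian X := LocallyOfFiniteType.isLocallyNoetherian f
  have ta : Groth.Agent.Lib.Helper21.FieldDim.td f (Curv2.bcFst k X K y) = a :=
    Groth.Agent.Lib.Helper21.FieldDim.td_eq_of_resAlgebra k X _ a ha
  have ta' : Groth.Agent.Lib.Helper21.FieldDim.td (Limits.pullback.snd f g) y = a' :=
    letI : (Curv2.bc k X K).Over (Spec (CommRingCat.of K)) := ⟨Curv2.bcSnd k X K⟩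
    haveI : LocallyOfFiniteType ((Curv2.bc k X K) ↘ Spec (CommRingCat.of K)) :=
      inferInstanceAs (LocallyOfFiniteType (Limits.pullback.snd f g))
    Groth.Agent.Lib.Helper21.FieldDim.td_eq_of_resAlgebra K (Curv2.bc k X K) y a' ha'
  have h1 := Groth.Agent.Lib.Helper21.FieldDim.localDim_eq_stalk_add_td f (Curv2.bcFst k X K y)
  have h2 := Groth.Agent.Lib.Helper21.FieldDim.localDim_eq_stalk_add_td (Limits.pullback.snd f g) y
  have h3 := Groth.Agent.Lib.Helper21.FieldDim.localDim_bc f g y
  rw [ta] at h1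
  rw [ta'] at h2
  have part1 : ringKrullDim ((Curv2.bc k X K).presheaf.stalk y) + (a' : WithBot ℕ∞) =
      ringKrullDim (X.presheaf.stalk (Curv2.bcFst k X K y)) + (a : WithBot ℕ∞) := by
    rw [← h1, ← h2]
    exact h3
  refine ⟨part1, ?_⟩
  let alg : Algebra (X.presheaf.stalk (Curv2.bcFst k X K y)) ((Curv2.bc k X K).presheaf.stalk y) :=
    ((Curv2.bcFst k X K).stalkMap y).hom.toAlgebra
  have : Module.Flat (X.presheaf.stalk (Curv2.bcFst k X K y)) ((Curv2.bc k X K).presheaf.stalk y) :=
    AlgebraicGeometry.Flat.stalkMap (Curv2.bcFst k X K) y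
  have : IsLocalHom (algebraMap (X.presheaf.stalk (Curv2.bcFst k X K y))
      ((Curv2.bc k X K).presheaf.stalk y)) :=
    inferInstanceAs (IsLocalHom ((Curv2.bcFst k X K).stalkMap y).hom)
  have h4 := Groth.Agent.Lib.Helper49.FibreSk.ringKrullDim_eq_add_fibre
    (X.presheaf.stalk (Curv2.bcFst k X K y)) ((Curv2.bc k X K).presheaf.stalk y)
    (Ideal.map ((Curv2.bcFst k X K).stalkMap y).hom
      (IsLocalRing.maximalIdeal ↥(X.presheaf.stalk (Curv2.bcFst k X K y)))) rfl
  have hfin : ringKrullDim (X.presheaf.stalk (Curv2.bcFst k X K y)) < ⊤ := ringKrullDim_lt_top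
  have hnn : (0 : WithBot ℕ∞) ≤ ringKrullDim (X.presheaf.stalk (Curv2.bcFst k X K y)) :=
    ringKrullDim_nonneg_of_nontrivial
  obtain ⟨n, hn⟩ : ∃ n : ℕ, ringKrullDim (X.presheaf.stalk (Curv2.bcFst k X K y)) = n := by
    induction hd : ringKrullDim (X.presheaf.stalk (Curv2.bcFst k X K y)) with
    | bot =>
      rw [hd] at hnn
      exact absurd hnn (by simp)
    | coe d =>
      rw [hd] at hfin
      have hd' : d ≠ ⊤ := by rintro rfl; exact lt_irrefl _ hfin
      lift d to ℕ using hd'
      exact ⟨d, rfl⟩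
  rw [h4, hn, add_assoc] at part1
  exact Groth.Agent.Lib.Helper21.FieldDim.add_left_cancel_nat part1

end Groth.Agent.S7589
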