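import Groth.Statements.S7593
import Groth.Agent.Lib.Helper21.GalComponents
-- import your own Groth.Agent.* helpers here

set_option autoImplicit false
universe u
open CategoryTheory CategoryTheory.Limits AlgebraicGeometry
open Variety

namespace Groth.Agent.S7593

/-- Let k̄ be a separable algebraic closure of a field k, X a scheme over k and t a point of X_{k̄} with
image x in X. The connected component of t is mapped onto itself by the action of every
k-automorphism of k̄ if and only if it equals the full inverse image of the connected component T of
x in X and T is geometrically connected over k (the inverse image of T in X_K is connected for every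
extension field K of k). -/
theorem result (k : Type u) [Field k] (X : Scheme.{u}) [X.Over (Spec (CommRingCat.of k))] (t : ↥(Curv2.bc k X (SeparableClosure k))) :
    (∀ σ : SeparableClosure k ≃ₐ[k] SeparableClosure k,
        (Curv2.galAct k X (SeparableClosure k) σ).base '' connectedComponent t = connectedComponent t) ↔
      ((Curv2.bcFst k X (SeparableClosure k)).base ⁻¹' connectedComponent (Curv2.bcFst k X (SeparableClosure k) t) = connectedComponent t ∧
        ∀ (K : Type u) [Field K] [Algebra k K],
          _root_.IsConnected ((Curv2.bcFst k X K).base ⁻¹' connectedComponent (Curv2.bcFst k X (SeparableClosure k) t))) := by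
  rw [show (∀ σ : SeparableClosure k ≃ₐ[k] SeparableClosure k,
      (Curv2.galAct k X (SeparableClosure k) σ).base '' connectedComponent t =
        connectedComponent t) ↔
      (Curv2.bcFst k X (SeparableClosure k)).base ⁻¹'
        connectedComponent (Curv2.bcFst k X (SeparableClosure k) t) = connectedComponent t from
    Groth.Agent.Lib.Helper21.connectedComponent_invariant_iff (X ↘ Spec (CommRingCat.of k))
      (SeparableClosure k) t]
  constructor
  · intro h
    refine ⟨h, fun K _ _ => ?_⟩
    apply Groth.Agent.Lib.Helper21.isConnected_preimage_of_isSepClosed
      (X ↘ Spec (CommRingCat.of k)) (SeparableClosure k) _ isClosed_connectedComponent _ K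
    change _root_.IsConnected ((Curv2.bcFst k X (SeparableClosure k)).base ⁻¹'
      connectedComponent (Curv2.bcFst k X (SeparableClosure k) t))
    rw [h]
    exact isConnected_connectedComponent
  · rintro ⟨h, -⟩
    exact h

end Groth.Agent.S7593
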