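import Groth.Statements.S7594
import Groth.Agent.Lib.Helper21.GenericFibre
import Groth.Agent.Lib.Helper21.SepClosedNil
import Groth.Agent.Lib.Helper21.PrimaryGeom
-- import your own Groth.Agent.* helpers here

set_option autoImplicit false
universe u
open CategoryTheory CategoryTheory.Limits AlgebraicGeometry
open Variety

namespace Groth.Agent.S7594

open Groth.Agent.Lib.Helper21 in
private theorem aux {k : Type u} [Field k] {X : Scheme.{u}} (f : X ⟶ Spec (CommRingCat.of k))
    (h : IrreducibleSpace ↥(pullback f f)) : GeometricallyIrreducible f := by
  -- `X` is irreducible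
  have hsurj : Function.Surjective (pullback.fst f f) := by
    intro x
    obtain ⟨z, hz, -⟩ := Scheme.Pullback.exists_preimage_pullback x x rfl
    exact ⟨z, hz⟩
  have hX : IrreducibleSpace X := hsurj.irreducibleSpace (pullback.fst f f).continuous
  let g : Spec (X.residueField (genericPoint X)) ⟶ Spec (CommRingCat.of k) :=
    X.fromSpecResidueField (genericPoint X) ≫ f
  -- generic fibre of the first projection
  have h2 : IrreducibleSpace ↥(pullback g f) :=
    (irreducibleSpace_pullback_iff f f (pullback.fst f f).isOpenMap).1 h
  have h2' : IrreducibleSpace ↥(pullback f g) :=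
    (pullbackSymmetry f g).hom.homeomorph.irreducibleSpace_iff.2 h2
  have h3 : IrreducibleSpace ↥(pullback g g) :=
    (irreducibleSpace_pullback_iff f g (pullback.fst f g).isOpenMap).1 h2'
  -- algebra
  obtain ⟨ρ, hρ⟩ := Spec.map_surjective g
  let _ : Algebra k (X.residueField (genericPoint X)) := ρ.hom.toAlgebra
  have hρ' : Spec.map (CommRingCat.ofHom (algebraMap k (X.residueField (genericPoint X)))) = g :=
    hρ
  have h4 : IrreducibleSpace ↥(Spec (CommRingCat.of
      (TensorProduct k (X.residueField (genericPoint X)) (X.residueField (genericPoint X))))) := by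
    rw [← (pullbackSpecIso k (X.residueField (genericPoint X))
      (X.residueField (genericPoint X))).hom.homeomorph.irreducibleSpace_iff, hρ']
    exact h3
  have hsep : separableClosure k (X.residueField (genericPoint X)) = ⊥ :=
    separableClosure_eq_bot_of_isPrime_nilradical k _
      (PrimeSpectrum.irreducibleSpace_iff_isPrime_nilradical.1 h4)
  have hgi : GeometricallyIrreducible g := by
    rw [← hρ']
    exact geometricallyIrreducible_SpecMap_of_separableClosure_eq_bot k _ hsep
  -- conclusion
  refine ⟨geometrically_iff_of_isClosedUnderIsomorphisms.mpr fun L _ x ↦ ?_⟩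
  have h5 : IrreducibleSpace ↥(pullback g x) :=
    GeometricallyIrreducible.geometrically_irreducibleSpace _ _ _ (.of_hasPullback g x)
  exact (irreducibleSpace_pullback_iff f x (pullback.fst f x).isOpenMap).2 h5

/-- A scheme X over a field k is geometrically irreducible over k precisely when the fibre product X ×_k
X of X with itself is an irreducible scheme. -/
theorem result (k : Type u) [Field k] (X : Scheme.{u}) [X.Over (Spec (CommRingCat.of k))] :
    GeometricallyIrreducible (X ↘ (Spec (CommRingCat.of k))) ↔ IrreducibleSpace ↥(pullback (X ↘ (Spec (CommRingCat.of k))) (X ↘ (Spec (CommRingCat.of k)))) := by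
  constructor
  · intro h
    have : IrreducibleSpace X :=
      GeometricallyIrreducible.irreducibleSpace_of_subsingleton (f := X ↘ (Spec (CommRingCat.of k)))
    infer_instance
  · intro h
    exact aux _ h

end Groth.Agent.S7594
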