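import Groth.Statements.S7599
import Groth.Agent.Lib.Helper39.NormTensor.GeomFieldPI
import Groth.Agent.Lib.Helper62.BCStalk
-- import your own Groth.Agent.* helpers here

set_option autoImplicit false
universe u
open CategoryTheory CategoryTheory.Limits AlgebraicGeometry
attribute [local instance] Curv2.stalkAlgebra
open scoped TensorProduct
open Variety

namespace Groth.Agent.S7599

section Helpers

set_option autoImplicit false
set_option linter.style.haveILetI false
open CategoryTheory CategoryTheory.Limits AlgebraicGeometry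
attribute [local instance] Curv2.stalkAlgebra
open scoped TensorProduct

namespace T7599

open Groth.Agent.Lib.Helper39.NormTensor Groth.Agent.Lib.Helper62

/-- for a local `k`-algebra `O` and an algebraic extension `k'`, normality of `k' ⊗ O` can be
checked at the primes over the maximal ideal -/
theorem isNormalRing_tensor_of_forall_prime (k : Type u) [Field k] (O : Type u) [CommRing O]
    [IsLocalRing O] [Algebra k O] (k' : Type u) [Field k'] [Algebra k k'] [Algebra.IsIntegral k k']
    (h : ∀ (M : Ideal (k' ⊗[k] O)) [M.IsPrime],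
      M.comap (Algebra.TensorProduct.includeRight (R := k) (A := k')
        (B := O)).toRingHom = IsLocalRing.maximalIdeal O →
        IsDomain (Localization.AtPrime M) ∧ IsIntegrallyClosed (Localization.AtPrime M)) :
    EGA4.IsNormalRing (k' ⊗[k] O) := by
  apply isNormalRing_of_forall_isMaximal
  intro J hJ
  apply h J
  letI : Algebra O (k' ⊗[k] O) := Algebra.TensorProduct.rightAlgebra
  have hint : (algebraMap O (k' ⊗[k] O)).IsIntegral :=
    RingHom.isIntegral_isStableUnderBaseChange k k' O (k' ⊗[k] O)
      (algebraMap_isIntegral_iff.mpr (inferInstance : Algebra.IsIntegral k k'))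
  haveI : Algebra.IsIntegral O (k' ⊗[k] O) := algebraMap_isIntegral_iff.mp hint
  have hmax : (J.comap (algebraMap O (k' ⊗[k] O))).IsMaximal :=
    Ideal.isMaximal_comap_of_isIntegral_of_isMaximal J
  exact IsLocalRing.eq_maximalIdeal hmax

theorem main7599 (k : Type u) [Field k] (X : Scheme.{u}) [X.Over (Spec (CommRingCat.of k))] (x : ↥X) :
    ((∀ (k' : Type u) [Field k'] [Algebra k k'] (x' : ↥(Curv2.bc k X k')), Curv2.bcFst k X k' x' = x →
          IsDomain ↥((Curv2.bc k X k').presheaf.stalk x') ∧ IsIntegrallyClosed ↥((Curv2.bc k X k').presheaf.stalk x')) ↔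
      (∀ (k' : Type u) [Field k'] [Algebra k k'] [FiniteDimensional k k'] [IsPurelyInseparable k k'] (x' : ↥(Curv2.bc k X k')), Curv2.bcFst k X k' x' = x →
          IsDomain ↥((Curv2.bc k X k').presheaf.stalk x') ∧ IsIntegrallyClosed ↥((Curv2.bc k X k').presheaf.stalk x'))) ∧
    ((∀ (k' : Type u) [Field k'] [Algebra k k'] [FiniteDimensional k k'] [IsPurelyInseparable k k'] (x' : ↥(Curv2.bc k X k')), Curv2.bcFst k X k' x' = x →
          IsDomain ↥((Curv2.bc k X k').presheaf.stalk x') ∧ IsIntegrallyClosed ↥((Curv2.bc k X k').presheaf.stalk x')) ↔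
      ∀ (k' : Type u) [Field k'] [Algebra k k'], EGA4.IsNormalRing (k' ⊗[k] ↥(X.presheaf.stalk x))) := by
  have h31 : (∀ (k' : Type u) [Field k'] [Algebra k k'],
      EGA4.IsNormalRing (k' ⊗[k] ↥(X.presheaf.stalk x))) →
      (∀ (k' : Type u) [Field k'] [Algebra k k'] (x' : ↥(Curv2.bc k X k')),
        Curv2.bcFst k X k' x' = x →
          IsDomain ↥((Curv2.bc k X k').presheaf.stalk x') ∧
            IsIntegrallyClosed ↥((Curv2.bc k X k').presheaf.stalk x')) := by
    intro h k' _ _ x' hx'
    obtain ⟨M, hM, -, ⟨e⟩⟩ := BCStalk.exists_prime_of_point (X ↘ Spec (CommRingCat.of k)) k' x' x hx'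
      rfl
    obtain ⟨hd, hic⟩ := h k' M
    exact ⟨e.toMulEquiv.isDomain _, IsIntegrallyClosed.of_equiv e.symm⟩
  have h23 : (∀ (k' : Type u) [Field k'] [Algebra k k'] [FiniteDimensional k k']
      [IsPurelyInseparable k k'] (x' : ↥(Curv2.bc k X k')), Curv2.bcFst k X k' x' = x →
          IsDomain ↥((Curv2.bc k X k').presheaf.stalk x') ∧
            IsIntegrallyClosed ↥((Curv2.bc k X k').presheaf.stalk x')) →
      ∀ (k' : Type u) [Field k'] [Algebra k k'],
        EGA4.IsNormalRing (k' ⊗[k] ↥(X.presheaf.stalk x)) := by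
    intro h L _ _
    apply isNormalRing_field_tensor_of_forall_purelyInseparable
    intro k' _ _ _ _
    apply isNormalRing_tensor_of_forall_prime
    intro M _ hM
    obtain ⟨x', hx', ⟨e⟩⟩ := BCStalk.exists_point_of_prime (X ↘ Spec (CommRingCat.of k))
      k' x rfl M hM
    obtain ⟨hd, hic⟩ := h k' x' hx'
    exact ⟨e.symm.toMulEquiv.isDomain _, IsIntegrallyClosed.of_equiv e⟩
  refine ⟨⟨fun h k' _ _ _ _ x' hx' => h k' x' hx', fun h => h31 (h23 h)⟩, ⟨h23, fun h => ?_⟩⟩
  intro k' _ _ _ _ x' hx'
  exact h31 h k' x' hx'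

end T7599

end Helpers

/-- Let X be a scheme over a field k and x a point of X. These conditions are equivalent: (1) the scheme
X is geometrically normal at x (meaning: for any extension field k' and any point x' of X_{k'} over
x the local ring O_{X_{k'}, x'} is an integrally closed domain); (2) the same for the finite purely
inseparable extensions k' of k only; (3) for every extension field k' of k the ring k' ⊗_k O_{X, x}
is normal (all its localisations at primes are integrally closed domains). Stated as (1) ↔ (2)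
together with (2) ↔ (3). -/
theorem result (k : Type u) [Field k] (X : Scheme.{u}) [X.Over (Spec (CommRingCat.of k))] (x : ↥X) :
    ((∀ (k' : Type u) [Field k'] [Algebra k k'] (x' : ↥(Curv2.bc k X k')), Curv2.bcFst k X k' x' = x →
          IsDomain ↥((Curv2.bc k X k').presheaf.stalk x') ∧ IsIntegrallyClosed ↥((Curv2.bc k X k').presheaf.stalk x')) ↔
      (∀ (k' : Type u) [Field k'] [Algebra k k'] [FiniteDimensional k k'] [IsPurelyInseparable k k'] (x' : ↥(Curv2.bc k X k')), Curv2.bcFst k X k' x' = x →
          IsDomain ↥((Curv2.bc k X k').presheaf.stalk x') ∧ IsIntegrallyClosed ↥((Curv2.bc k X k').presheaf.stalk x'))) ∧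
    ((∀ (k' : Type u) [Field k'] [Algebra k k'] [FiniteDimensional k k'] [IsPurelyInseparable k k'] (x' : ↥(Curv2.bc k X k')), Curv2.bcFst k X k' x' = x →
          IsDomain ↥((Curv2.bc k X k').presheaf.stalk x') ∧ IsIntegrallyClosed ↥((Curv2.bc k X k').presheaf.stalk x')) ↔
      ∀ (k' : Type u) [Field k'] [Algebra k k'], EGA4.IsNormalRing (k' ⊗[k] ↥(X.presheaf.stalk x))) := by
  exact T7599.main7599 k X x

end Groth.Agent.S7599
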