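import Groth.Statements.S7600
import Mathlib
import Groth.Agent.Lib.Helper62.CommonPoint
import Groth.Agent.Lib.Lead.NormalDescent

set_option autoImplicit false
set_option linter.style.haveILetI false
universe u
open CategoryTheory CategoryTheory.Limits AlgebraicGeometry
open Variety

namespace Groth.Agent.S7600

open TensorProduct IsLocalRing Groth.Agent.Lib.Helper62

theorem main (k : Type u) [Field k] (X : Scheme.{u}) [X.Over (Spec (CommRingCat.of k))]
    (k' : Type u) [Field k'] [Algebra k k'] (x' : ↥(Curv2.bc k X k'))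
    (h : letI : (Curv2.bc k X k').Over (Spec (CommRingCat.of k')) := ⟨Curv2.bcSnd k X k'⟩
      ∀ (k'' : Type u) [Field k''] [Algebra k' k'']
        (x'' : ↥(Curv2.bc k' (Curv2.bc k X k') k'')),
        Curv2.bcFst k' (Curv2.bc k X k') k'' x'' = x' →
          IsDomain ↥((Curv2.bc k' (Curv2.bc k X k') k'').presheaf.stalk x'') ∧
            IsIntegrallyClosed ↥((Curv2.bc k' (Curv2.bc k X k') k'').presheaf.stalk x'')) :
    ∀ (K : Type u) [Field K] [Algebra k K] (y : ↥(Curv2.bc k X K)),
      Curv2.bcFst k X K y = (Curv2.bcFst k X k' x') →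
        IsDomain ↥((Curv2.bc k X K).presheaf.stalk y) ∧
          IsIntegrallyClosed ↥((Curv2.bc k X K).presheaf.stalk y) := by
  intro K _ _ y hy
  obtain ⟨L, _, _, z, -, hz, θ, hθflat, hθloc⟩ :=
    CommonPoint.exists_common_point k X k' K x' y hy
  obtain ⟨hdom, hic⟩ := h L z hz
  haveI : IsDomain ((BCStalk.bc (Curv2.bcSnd k X k') L).presheaf.stalk z) := hdom
  haveI : IsIntegrallyClosed ((BCStalk.bc (Curv2.bcSnd k X k') L).presheaf.stalk z) := hic
  letI := θ.toAlgebra
  haveI : IsLocalHom (algebraMap ((Curv2.bc k X K).presheaf.stalk y)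
      ((BCStalk.bc (Curv2.bcSnd k X k') L).presheaf.stalk z)) := hθloc
  haveI : Module.Flat ((Curv2.bc k X K).presheaf.stalk y)
      ((BCStalk.bc (Curv2.bcSnd k X k') L).presheaf.stalk z) := hθflat
  haveI : Module.FaithfullyFlat ((Curv2.bc k X K).presheaf.stalk y)
      ((BCStalk.bc (Curv2.bcSnd k X k') L).presheaf.stalk z) :=
    Module.FaithfullyFlat.of_flat_of_isLocalHom
  exact Groth.Agent.Lib.Lead.isIntegrallyClosed_of_faithfullyFlat _
    ((BCStalk.bc (Curv2.bcSnd k X k') L).presheaf.stalk z)


/-- (2) ⇒ (1): let X be a scheme over a field k, k' an extension field of k and x' a point of X_{k'}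
with image x in X. If X_{k'} is geometrically normal at x' over k' (for every extension field k'' of
k' and every point x'' of (X_{k'})_{k''} over x' the local ring at x'' is an integrally closed
domain), then X is geometrically normal at x over k. -/
theorem result (k : Type u) [Field k] (X : Scheme.{u}) [X.Over (Spec (CommRingCat.of k))] (k' : Type u) [Field k'] [Algebra k k'] (x' : ↥(Curv2.bc k X k'))
    (h : letI : (Curv2.bc k X k').Over (Spec (CommRingCat.of k')) := ⟨Curv2.bcSnd k X k'⟩
      ∀ (k'' : Type u) [Field k''] [Algebra k' k''] (x'' : ↥(Curv2.bc k' (Curv2.bc k X k') k'')), Curv2.bcFst k' (Curv2.bc k X k') k'' x'' = x' →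
          IsDomain ↥((Curv2.bc k' (Curv2.bc k X k') k'').presheaf.stalk x'') ∧ IsIntegrallyClosed ↥((Curv2.bc k' (Curv2.bc k X k') k'').presheaf.stalk x'')) :
    ∀ (K : Type u) [Field K] [Algebra k K] (y : ↥(Curv2.bc k X K)), Curv2.bcFst k X K y = (Curv2.bcFst k X k' x') →
          IsDomain ↥((Curv2.bc k X K).presheaf.stalk y) ∧ IsIntegrallyClosed ↥((Curv2.bc k X K).presheaf.stalk y) := by
  exact main k X k' x' h

end Groth.Agent.S7600
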