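import Groth.Statements.S7601
import Groth.Agent.Lib.Helper62.ProdStalk
import Groth.Agent.Lib.Helper39.NormTensor.Main
import Groth.Agent.Lib.Lead.NormalDescent
import Mathlib

set_option autoImplicit false
set_option linter.style.haveILetI false
universe u
open CategoryTheory CategoryTheory.Limits AlgebraicGeometry
open Variety

namespace Groth.Agent.S7601

open scoped TensorProduct
open Groth.Agent.Lib.Helper62

/-- sections over an affine open of a normal scheme form a normal ring. -/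
theorem isNormalRing_sections {T : Scheme.{u}} (hT : Pi1.IsNormalScheme T) {V : T.Opens}
    (hV : IsAffineOpen V) : EGA4.IsNormalRing Γ(T, V) := by
  intro p hp
  let y : PrimeSpectrum Γ(T, V) := ⟨p, hp⟩
  let x : V := hV.isoSpec.inv y
  have hxy : hV.primeIdealOf x = y := by
    change hV.isoSpec.hom (hV.isoSpec.inv y) = y
    rw [← Scheme.Hom.comp_apply, Iso.inv_hom_id]
    rfl
  letI : Algebra Γ(T, V) (T.presheaf.stalk x.1) := T.presheaf.algebra_section_stalk x
  haveI := hV.isLocalization_stalk x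
  rw [hxy] at this
  obtain ⟨hd, hic⟩ := hT x.1
  let e : Localization.AtPrime p ≃ₐ[Γ(T, V)] T.presheaf.stalk x.1 :=
    IsLocalization.algEquiv p.primeCompl _ _
  exact ⟨e.toRingEquiv.toMulEquiv.isDomain _, IsIntegrallyClosed.of_equiv e.symm.toRingEquiv⟩

/-- converse at a point. -/
theorem stalk_normal_of_sections {T : Scheme.{u}} {V : T.Opens}
    (hV : IsAffineOpen V) (h : EGA4.IsNormalRing Γ(T, V)) (z : T) (hz : z ∈ V) :
    IsDomain (T.presheaf.stalk z) ∧ IsIntegrallyClosed (T.presheaf.stalk z) := by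
  letI : Algebra Γ(T, V) (T.presheaf.stalk z) := T.presheaf.algebra_section_stalk ⟨z, hz⟩
  haveI := hV.isLocalization_stalk ⟨z, hz⟩
  obtain ⟨hd, hic⟩ := h (hV.primeIdealOf ⟨z, hz⟩).asIdeal
  let e : Localization.AtPrime (hV.primeIdealOf ⟨z, hz⟩).asIdeal ≃ₐ[Γ(T, V)] T.presheaf.stalk z :=
    IsLocalization.algEquiv (hV.primeIdealOf ⟨z, hz⟩).asIdeal.primeCompl _ _
  exact ⟨e.symm.toRingEquiv.toMulEquiv.isDomain _, IsIntegrallyClosed.of_equiv e.toRingEquiv⟩

theorem main' (k : Type u) [Field k] (X Y : Scheme.{u}) (f : X ⟶ Spec (CommRingCat.of k))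
    (g : Y ⟶ Spec (CommRingCat.of k))
    (hX : ∀ (K : Type u) [Field K] [Algebra k K], Pi1.IsNormalScheme (BCStalk.bc f K))
    (hY : Pi1.IsNormalScheme Y) :
    Pi1.IsNormalScheme (pullback f g) := by
  intro z
  obtain ⟨_, ⟨U, hU, rfl⟩, hxU, -⟩ :=
    X.isBasis_affineOpens.exists_subset_of_mem_open (Set.mem_univ (pullback.fst f g z)) isOpen_univ
  obtain ⟨_, ⟨V, hV, rfl⟩, hyV, -⟩ :=
    Y.isBasis_affineOpens.exists_subset_of_mem_open (Set.mem_univ (pullback.snd f g z)) isOpen_univ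
  letI : Algebra k Γ(X, U) := (BCStalk.toSection f U).toAlgebra
  letI : Algebra k Γ(Y, V) := (BCStalk.toSection g V).toAlgebra
  obtain ⟨φ, -, -⟩ := ProdStalk.exists_ringEquiv_sections (f := f) (g := g) hU hV
  have hA : EGA4.IsGeomNormal k Γ(X, U) := by
    intro k' _ _ _
    obtain ⟨ψ, -, -⟩ := BCStalk.exists_ringEquiv_sections (f := f) k' hU
    have h1 : EGA4.IsNormalRing Γ(BCStalk.bc f k', (BCStalk.bcπ f k') ⁻¹ᵁ U) :=
      isNormalRing_sections (hX k') (hU.preimage (BCStalk.bcπ f k'))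
    exact Groth.Agent.Lib.Lead.isNormalRing_of_ringEquiv ψ h1
  have hB : EGA4.IsNormalRing Γ(Y, V) := isNormalRing_sections hY hV
  have hAB : EGA4.IsNormalRing (Γ(X, U) ⊗[k] Γ(Y, V)) :=
    Groth.Agent.Lib.Helper39.NormTensor.isNormalRing_tensor_of_isGeomNormal k _ _ hA hB
  have hbox : EGA4.IsNormalRing Γ(pullback f g, ProdStalk.box f g U V) :=
    Groth.Agent.Lib.Lead.isNormalRing_of_ringEquiv φ.symm hAB
  exact stalk_normal_of_sections (ProdStalk.isAffineOpen_box hU hV) hbox z ⟨hxU, hyV⟩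

theorem main (k : Type u) [Field k] (X : Scheme.{u}) [X.Over (Spec (CommRingCat.of k))] (Y : Scheme.{u}) [Y.Over (Spec (CommRingCat.of k))]
    (hX : ∀ (K : Type u) [Field K] [Algebra k K], Pi1.IsNormalScheme (Curv2.bc k X K)) (hY : Pi1.IsNormalScheme Y) :
    Pi1.IsNormalScheme (pullback (X ↘ (Spec (CommRingCat.of k))) (Y ↘ (Spec (CommRingCat.of k)))) :=
  main' k X Y _ _ hX hY


/-- Let X be a geometrically normal scheme over a field k (X_K is a normal scheme for every extension
field K of k) and Y a normal scheme over k. Then X ×_k Y is a normal scheme. -/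
theorem result (k : Type u) [Field k] (X : Scheme.{u}) [X.Over (Spec (CommRingCat.of k))] (Y : Scheme.{u}) [Y.Over (Spec (CommRingCat.of k))]
    (hX : ∀ (K : Type u) [Field K] [Algebra k K], Pi1.IsNormalScheme (Curv2.bc k X K)) (hY : Pi1.IsNormalScheme Y) :
    Pi1.IsNormalScheme (pullback (X ↘ (Spec (CommRingCat.of k))) (Y ↘ (Spec (CommRingCat.of k)))) := by
  exact main k X Y hX hY

end Groth.Agent.S7601
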