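import Groth.Statements.S7602
import Groth.Agent.Lib.Helper39.NormTensor.GeomFieldPI
import Groth.Agent.Lib.Helper62.BCStalk
-- import your own Groth.Agent.* helpers here

set_option autoImplicit false
universe u
open CategoryTheory CategoryTheory.Limits AlgebraicGeometry
open Variety

namespace Groth.Agent.S7602

section Helpers

set_option autoImplicit false
set_option linter.style.haveILetI false
open CategoryTheory CategoryTheory.Limits AlgebraicGeometry
open scoped TensorProduct

namespace T7602

attribute [local instance] Curv2.stalkAlgebra

open Groth.Agent.Lib.Helper39.NormTensor Groth.Agent.Lib.Helper62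

theorem isGeometricallyReduced_of_specMap (k K : Type u) [Field k] [Field K] [Algebra k K]
    [GeometricallyReduced (Spec.map (CommRingCat.ofHom (algebraMap k K)))] :
    Algebra.IsGeometricallyReduced k K := by
  rw [Algebra.isGeometricallyReduced_field_iff]
  have h := (geometrically_iff_of_commRing_of_isClosedUnderIsomorphisms
    (P := (AlgebraicGeometry.IsReduced ·))).1
    (GeometricallyReduced.geometrically_isReduced
      (f := Spec.map (CommRingCat.ofHom (algebraMap k K)))) (AlgebraicClosure k)
  have h2 : AlgebraicGeometry.IsReduced (Spec (CommRingCat.of (K ⊗[k] AlgebraicClosure k))) :=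
    isReduced_of_isOpenImmersion (pullbackSpecIso k K (AlgebraicClosure k)).inv
  have h3 : _root_.IsReduced (K ⊗[k] AlgebraicClosure k) :=
    (affine_isReduced_iff (CommRingCat.of (K ⊗[k] AlgebraicClosure k))).1 h2
  exact isReduced_of_injective (Algebra.TensorProduct.comm k (AlgebraicClosure k) K).toAlgHom
    (Algebra.TensorProduct.comm k (AlgebraicClosure k) K).injective

theorem main7602 (k : Type u) [Field k] (X : Scheme.{u}) [X.Over (Spec (CommRingCat.of k))] (hX : Pi1.IsNormalScheme X)
    (K : Type u) [Field K] [Algebra k K] [GeometricallyReduced (Spec.map (CommRingCat.ofHom (algebraMap k K)))] :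
    Pi1.IsNormalScheme (Curv2.bc k X K) := by
  haveI : Algebra.IsGeometricallyReduced k K := isGeometricallyReduced_of_specMap k K
  intro x'
  obtain ⟨M, hM, -, ⟨e⟩⟩ := BCStalk.exists_prime_of_point (X ↘ Spec (CommRingCat.of k)) K x'
    (Curv2.bcFst k X K x') rfl rfl
  obtain ⟨hd, hic⟩ := hX (Curv2.bcFst k X K x')
  have hn : EGA4.IsNormalRing (K ⊗[k] X.presheaf.stalk (Curv2.bcFst k X K x')) :=
    isNormalRing_tensor_of_isGeometricallyReduced k _ K
      (Groth.Agent.Lib.Helper49.EtaleNormal.isNormalRing_of_isIntegrallyClosed _)
  obtain ⟨hd', hic'⟩ := hn M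
  exact ⟨e.toMulEquiv.isDomain _, IsIntegrallyClosed.of_equiv e.symm⟩

end T7602

end Helpers

/-- Let X be a normal scheme over a field k and K an extension field of k which is separable over k in
the sense that Spec K → Spec k is geometrically reduced (K ⊗_k k' reduced for every field k' over
k). Then X_K is a normal scheme. -/
theorem result (k : Type u) [Field k] (X : Scheme.{u}) [X.Over (Spec (CommRingCat.of k))] (hX : Pi1.IsNormalScheme X)
    (K : Type u) [Field K] [Algebra k K] [GeometricallyReduced (Spec.map (CommRingCat.ofHom (algebraMap k K)))] :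
    Pi1.IsNormalScheme (Curv2.bc k X K) := by
  exact T7602.main7602 k X hX K

end Groth.Agent.S7602
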