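import Groth.Statements.S7603
import Groth.Agent.Lib.Helper21.DomainStalks
import Groth.Agent.Lib.Helper21.AlgClosedGeom
-- import your own Groth.Agent.* helpers here

set_option autoImplicit false
universe u
open CategoryTheory CategoryTheory.Limits AlgebraicGeometry
open Variety

namespace Groth.Agent.S7603

/-- (2) ⇔ (3): let X be a proper scheme over a field k which is geometrically normal (X_K is a normal
scheme for every extension field K of k). Then X is geometrically connected over k exactly when it
is geometrically irreducible over k. (The published statement lists geometric integrality as a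
further equivalent condition; given geometric normality it is equivalent to geometric irreducibility
by a direct argument, so this row omits it.) -/
theorem result (k : Type u) [Field k] (X : Scheme.{u}) [X.Over (Spec (CommRingCat.of k))] [IsProper (X ↘ (Spec (CommRingCat.of k)))]
    (hX : ∀ (K : Type u) [Field K] [Algebra k K], Pi1.IsNormalScheme (Curv2.bc k X K)) :
    GeometricallyConnected (X ↘ (Spec (CommRingCat.of k))) ↔ GeometricallyIrreducible (X ↘ (Spec (CommRingCat.of k))) := by
  constructor
  · intro hgc
    refine ⟨geometrically_iff_of_commRing_of_isClosedUnderIsomorphisms.mpr ?_⟩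
    intro K _ _
    have hconn : ConnectedSpace ↥(pullback (X ↘ Spec (CommRingCat.of k))
        (Spec.map (CommRingCat.ofHom (algebraMap k K)))) :=
      pullback_of_geometrically (P := (ConnectedSpace ·)) hgc.geometrically_connectedSpace K _
    have hlft : LocallyOfFiniteType (pullback.snd (X ↘ Spec (CommRingCat.of k))
        (Spec.map (CommRingCat.ofHom (algebraMap k K)))) := inferInstance
    have hqc : QuasiCompact (pullback.snd (X ↘ Spec (CommRingCat.of k))
        (Spec.map (CommRingCat.ofHom (algebraMap k K)))) := inferInstance
    have hLN : IsLocallyNoetherian (pullback (X ↘ Spec (CommRingCat.of k))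
        (Spec.map (CommRingCat.ofHom (algebraMap k K)))) :=
      LocallyOfFiniteType.isLocallyNoetherian (pullback.snd (X ↘ Spec (CommRingCat.of k))
        (Spec.map (CommRingCat.ofHom (algebraMap k K))))
    have hcpt : CompactSpace ↥(pullback (X ↘ Spec (CommRingCat.of k))
        (Spec.map (CommRingCat.ofHom (algebraMap k K)))) :=
      QuasiCompact.compactSpace_of_compactSpace (pullback.snd (X ↘ Spec (CommRingCat.of k))
        (Spec.map (CommRingCat.ofHom (algebraMap k K))))
    have hN : IsNoetherian (pullback (X ↘ Spec (CommRingCat.of k))
        (Spec.map (CommRingCat.ofHom (algebraMap k K)))) := { }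
    have hfin : (irreducibleComponents ↥(pullback (X ↘ Spec (CommRingCat.of k))
        (Spec.map (CommRingCat.ofHom (algebraMap k K))))).Finite :=
      TopologicalSpace.NoetherianSpace.finite_irreducibleComponents
    exact Groth.Agent.Lib.Helper21.irreducibleSpace_of_connectedSpace_of_isDomain_stalk hfin
      (fun x => (hX K x).1)
  · intro hgi
    exact Groth.Agent.Lib.Helper21.geometricallyConnected_of_geometricallyIrreducible _

end Groth.Agent.S7603
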