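import Groth.Statements.S7604
import Groth.Agent.Lib.Helper62.ProdStalk
import Groth.Agent.S1541
import Groth.Agent.S9635
import Mathlib

set_option autoImplicit false
set_option linter.style.haveILetI false
universe u
open CategoryTheory CategoryTheory.Limits AlgebraicGeometry
open Variety

namespace Groth.Agent.S7604

open scoped TensorProduct
open Groth.Agent.Lib.Helper62

theorem main' (k : Type u) [Field k] (X Y : Scheme.{u}) (f : X ⟶ Spec (CommRingCat.of k))
    (g : Y ⟶ Spec (CommRingCat.of k)) [IsReduced Y] (z : ↥(pullback f g))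
    [Algebra k (X.presheaf.stalk (pullback.fst f g z))]
    (halg : algebraMap k (X.presheaf.stalk (pullback.fst f g z)) = BCStalk.stalkStr f _)
    [Algebra.IsGeometricallyReduced k (X.presheaf.stalk (pullback.fst f g z))] :
    _root_.IsReduced ↥((pullback f g).presheaf.stalk z) := by
  obtain ⟨_, ⟨U, hU, rfl⟩, hxU, -⟩ :=
    X.isBasis_affineOpens.exists_subset_of_mem_open (Set.mem_univ (pullback.fst f g z)) isOpen_univ
  obtain ⟨_, ⟨V, hV, rfl⟩, hyV, -⟩ :=
    Y.isBasis_affineOpens.exists_subset_of_mem_open (Set.mem_univ (pullback.snd f g z)) isOpen_univ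
  letI : Algebra k Γ(X, U) := (BCStalk.toSection f U).toAlgebra
  letI : Algebra k Γ(Y, V) := (BCStalk.toSection g V).toAlgebra
  letI : Algebra Γ(X, U) (X.presheaf.stalk (pullback.fst f g z)) :=
    X.presheaf.algebra_section_stalk ⟨pullback.fst f g z, hxU⟩
  haveI : IsScalarTower k Γ(X, U) (X.presheaf.stalk (pullback.fst f g z)) :=
    BCStalk.chart_aux f _ hxU halg
  haveI := hU.isLocalization_stalk ⟨pullback.fst f g z, hxU⟩
  obtain ⟨φ, hφ1, -⟩ := ProdStalk.exists_ringEquiv_sections (f := f) (g := g) hU hV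
  have hbox : IsAffineOpen (ProdStalk.box f g U V) := ProdStalk.isAffineOpen_box hU hV
  have hzbox : z ∈ ProdStalk.box f g U V := ⟨hxU, hyV⟩
  letI : Algebra Γ(pullback f g, ProdStalk.box f g U V) ((pullback f g).presheaf.stalk z) :=
    (pullback f g).presheaf.algebra_section_stalk ⟨z, hzbox⟩
  haveI := hbox.isLocalization_stalk ⟨z, hzbox⟩
  set PB := (hbox.primeIdealOf ⟨z, hzbox⟩).asIdeal with hPB
  set q := (hU.primeIdealOf ⟨pullback.fst f g z, hxU⟩).asIdeal with hq
  have hPBq : PB.comap ((pullback.fst f g).appLE U (ProdStalk.box f g U V) inf_le_left).hom = q := by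
    have := IsAffineOpen.comap_primeIdealOf_appLE (f := pullback.fst f g) U hU _ hbox
      inf_le_left hzbox
    have h2 := congr($(this).asIdeal)
    rw [PrimeSpectrum.comap_asIdeal] at h2
    rw [hPB, h2, hq]
  let φ' : Γ(Y, V) ⊗[k] Γ(X, U) ≃+* Γ(pullback f g, ProdStalk.box f g U V) :=
    (Algebra.TensorProduct.comm k Γ(Y, V) Γ(X, U)).toRingEquiv.trans φ
  have hφ' : ∀ a : Γ(X, U), φ' (1 ⊗ₜ a) =
      ((pullback.fst f g).appLE U (ProdStalk.box f g U V) inf_le_left).hom a := by
    intro a
    change φ (Algebra.TensorProduct.comm k Γ(Y, V) Γ(X, U) (1 ⊗ₜ a)) = _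
    rw [Algebra.TensorProduct.comm_tmul, hφ1]
  let P' : Ideal (Γ(Y, V) ⊗[k] Γ(X, U)) := PB.comap φ'.toRingHom
  haveI : P'.IsPrime := Ideal.comap_isPrime _ _
  have hP' : P'.comap (Algebra.TensorProduct.includeRight (R := k) (A := Γ(Y, V))
      (B := Γ(X, U))).toRingHom = q := by
    rw [← hPBq]
    ext a
    simp only [Ideal.mem_comap, P']
    change φ' (1 ⊗ₜ a) ∈ PB ↔ _
    rw [hφ']
  obtain ⟨M, hM, -, ⟨e⟩⟩ := BCStalk.exists_prime_tensor_of_prime k Γ(Y, V) Γ(X, U) q
    (X.presheaf.stalk (pullback.fst f g z)) P' hP'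
  have hred : _root_.IsReduced (Γ(Y, V) ⊗[k] X.presheaf.stalk (pullback.fst f g z)) :=
    Groth.Agent.S9635.reduced_of_forall_prime (fun K _ _ =>
      Groth.Agent.S2536.isReduced_tensorProduct_field k _ K)
  haveI : _root_.IsReduced (Localization.AtPrime M) :=
    isReduced_localizationPreserves M.primeCompl (Localization.AtPrime M) hred
  have e1 : (pullback f g).presheaf.stalk z ≃+* Localization.AtPrime PB :=
    (IsLocalization.algEquiv PB.primeCompl _ _).toRingEquiv
  have e2 : Localization.AtPrime P' ≃+* Localization.AtPrime PB :=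
    IsLocalization.ringEquivOfRingEquiv (M := P'.primeCompl) (T := PB.primeCompl)
      (Localization.AtPrime P') (Localization.AtPrime PB) φ' (by
        ext b
        simp only [Submonoid.mem_map, P']
        constructor
        · rintro ⟨a, ha, rfl⟩
          exact ha
        · intro hb
          exact ⟨φ'.symm b, by simpa [Ideal.primeCompl, Ideal.mem_comap] using hb, by simp⟩)
  let E : (pullback f g).presheaf.stalk z ≃+* Localization.AtPrime M :=
    (e1.trans e2.symm).trans e
  exact isReduced_of_injective E.toRingHom E.injective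

theorem main (k : Type u) [Field k] (X : Scheme.{u}) [X.Over (Spec (CommRingCat.of k))] (Y : Scheme.{u}) [Y.Over (Spec (CommRingCat.of k))] [IsReduced Y]
    (x : ↥X) (hx : Curv2.IsGeomReducedAt k X x) (z : ↥(pullback (X ↘ (Spec (CommRingCat.of k))) (Y ↘ (Spec (CommRingCat.of k)))))
    (hz : pullback.fst (X ↘ (Spec (CommRingCat.of k))) (Y ↘ (Spec (CommRingCat.of k))) z = x) :
    _root_.IsReduced ↥((pullback (X ↘ (Spec (CommRingCat.of k))) (Y ↘ (Spec (CommRingCat.of k)))).presheaf.stalk z) := by
  subst hz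
  letI := Curv2.stalkAlgebra k X (pullback.fst (X ↘ (Spec (CommRingCat.of k))) (Y ↘ (Spec (CommRingCat.of k))) z)
  haveI : Algebra.IsGeometricallyReduced k (X.presheaf.stalk
      (pullback.fst (X ↘ (Spec (CommRingCat.of k))) (Y ↘ (Spec (CommRingCat.of k))) z)) :=
    Groth.Agent.S1541.forward k X _ hx
  exact main' k X Y _ _ z rfl


/-- Let X and Y be schemes over a field k with Y reduced, and let x be a point of X at which X is
geometrically reduced. Then each point of X ×_k Y mapping to x has a reduced local ring. -/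
theorem result (k : Type u) [Field k] (X : Scheme.{u}) [X.Over (Spec (CommRingCat.of k))] (Y : Scheme.{u}) [Y.Over (Spec (CommRingCat.of k))] [IsReduced Y]
    (x : ↥X) (hx : Curv2.IsGeomReducedAt k X x) (z : ↥(pullback (X ↘ (Spec (CommRingCat.of k))) (Y ↘ (Spec (CommRingCat.of k)))))
    (hz : pullback.fst (X ↘ (Spec (CommRingCat.of k))) (Y ↘ (Spec (CommRingCat.of k))) z = x) :
    _root_.IsReduced ↥((pullback (X ↘ (Spec (CommRingCat.of k))) (Y ↘ (Spec (CommRingCat.of k)))).presheaf.stalk z) := by
  exact main k X Y x hx z hz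

end Groth.Agent.S7604
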