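import Groth.Statements.S7607
import Mathlib
import Groth.Agent.Lib.Helper62.CommonPoint
import Groth.Agent.S0565
import Groth.Agent.S7605

set_option autoImplicit false
set_option linter.style.haveILetI false
universe u
open CategoryTheory CategoryTheory.Limits AlgebraicGeometry
open Variety

namespace Groth.Agent.S7607

open TensorProduct IsLocalRing Groth.Agent.Lib.Helper62

theorem main (k : Type u) [Field k] (X : Scheme.{u}) [X.Over (Spec (CommRingCat.of k))]
    (k' : Type u) [Field k'] [Algebra k k'] (hfg : (⊤ : IntermediateField k k').FG)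
    (x' : ↥(Curv2.bc k X k'))
    (h : @Curv2.IsGeomRegularAt k' _ (Curv2.bc k X k') ⟨Curv2.bcSnd k X k'⟩ x') :
    Curv2.IsGeomRegularAt k X (Curv2.bcFst k X k' x') := by
  intro K _ _ hK y hy
  obtain ⟨L, _, _, z, hLfg, hz, θ, hθflat, hθloc⟩ :=
    CommonPoint.exists_common_point k X k' K x' y hy
  haveI hreg : IsRegularLocalRing ((BCStalk.bc (Curv2.bcSnd k X k') L).presheaf.stalk z) :=
    h L (hLfg hK) z hz
  letI := θ.toAlgebra
  haveI : IsLocalHom (algebraMap ((Curv2.bc k X K).presheaf.stalk y)
      ((BCStalk.bc (Curv2.bcSnd k X k') L).presheaf.stalk z)) := hθloc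
  haveI : Module.Flat ((Curv2.bc k X K).presheaf.stalk y)
      ((BCStalk.bc (Curv2.bcSnd k X k') L).presheaf.stalk z) := hθflat
  haveI : Module.FaithfullyFlat ((Curv2.bc k X K).presheaf.stalk y)
      ((BCStalk.bc (Curv2.bcSnd k X k') L).presheaf.stalk z) :=
    Module.FaithfullyFlat.of_flat_of_isLocalHom
  haveI : IsNoetherianRing ((Curv2.bc k X K).presheaf.stalk y) :=
    Groth.Agent.S7605.isNoetherianRing_of_faithfullyFlat _
      ((BCStalk.bc (Curv2.bcSnd k X k') L).presheaf.stalk z)
  exact Groth.Agent.S0565.result _ ((BCStalk.bc (Curv2.bcSnd k X k') L).presheaf.stalk z)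


/-- (2) ⇒ (1): let X be a scheme over a field k, k' a finitely generated field extension of k and x' a
point of X_{k'} with image x in X. If X_{k'} is geometrically regular at x' over k', then X is
geometrically regular at x over k. (The published setting defines geometric regularity only for
locally Noetherian schemes; this row allows any scheme X over k.) -/
theorem result (k : Type u) [Field k] (X : Scheme.{u}) [X.Over (Spec (CommRingCat.of k))] (k' : Type u) [Field k'] [Algebra k k'] (hfg : (⊤ : IntermediateField k k').FG)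
    (x' : ↥(Curv2.bc k X k'))
    (h : @Curv2.IsGeomRegularAt k' _ (Curv2.bc k X k') ⟨Curv2.bcSnd k X k'⟩ x') :
    Curv2.IsGeomRegularAt k X (Curv2.bcFst k X k' x') := by
  exact main k X k' hfg x' h

end Groth.Agent.S7607
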