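import Groth.Statements.S7608
import Mathlib
import Groth.Agent.Lib.Helper33.FibreBC10

set_option autoImplicit false
set_option maxHeartbeats 800000
set_option backward.isDefEq.respectTransparency.types false
universe u
open CategoryTheory CategoryTheory.Limits AlgebraicGeometry
open Variety

namespace Groth.Agent.S7608

/-- Let X be a locally Noetherian scheme over a field k, k' a finitely generated field extension of k
and x' a point of X_{k'} with image x in X. Then the local ring O_{X, x} is Cohen-Macaulay if and
only if O_{X_{k'}, x'} is Cohen-Macaulay. -/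
theorem result (k : Type u) [Field k] (X : Scheme.{u}) [X.Over (Spec (CommRingCat.of k))] [IsLocallyNoetherian X] (k' : Type u) [Field k'] [Algebra k k']
    (hfg : (⊤ : IntermediateField k k').FG) (x' : ↥(Curv2.bc k X k')) :
    LocCoh.IsCohenMacaulayLocalRing ↥(X.presheaf.stalk (Curv2.bcFst k X k' x')) ↔
      LocCoh.IsCohenMacaulayLocalRing ↥((Curv2.bc k X k').presheaf.stalk x') := by
  have hsq : IsPullback (Curv2.bcFst k X k') (Curv2.bcSnd k X k') (X ↘ Spec (CommRingCat.of k))
      (Spec.map (CommRingCat.ofHom (algebraMap k k'))) := IsPullback.of_hasPullback _ _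
  haveI : Algebra.EssFiniteType k k' := IntermediateField.fg_top_iff.1 hfg
  haveI : IsNoetherianRing ((Curv2.bc k X k').presheaf.stalk x') :=
    Groth.Agent.Lib.Helper33.FibreBC.isNoetherianRing_stalk_of_essFiniteType
      (X ↘ Spec (CommRingCat.of k)) (Curv2.bcSnd k X k') (Curv2.bcFst k X k') hsq x'
  letI : Algebra k (X.residueField ((Curv2.bcFst k X k').base x')) :=
    (Groth.Agent.Lib.Helper33.PullbackStalk.gl (X ↘ Spec (CommRingCat.of k))
      ((Curv2.bcFst k X k').base x') ≫ X.residue ((Curv2.bcFst k X k').base x')).hom.toAlgebra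
  have key := (Groth.Agent.Lib.Helper33.FibreBC.gor_cm_stalk_iff (k := k) (K := k')
    (X ↘ Spec (CommRingCat.of k)) (Curv2.bcSnd k X k') (Curv2.bcFst k X k')
    (CommRingCat.ofHom (algebraMap k k')) hsq x' rfl rfl (Or.inl hfg)).2
  exact key.symm

end Groth.Agent.S7608
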