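import Groth.Statements.S7611
import Groth.Agent.Lib.Helper69.BigFieldJacSch

set_option autoImplicit false
universe u
open CategoryTheory CategoryTheory.Limits AlgebraicGeometry
attribute [local instance] Curv2.resAlgebra
open Variety

namespace Groth.Agent.S7611


open Cardinal TensorProduct Groth.Agent.Lib.Helper69 in
theorem rank_tensor_lt (k A K : Type u) [Field k] [CommRing A] [Algebra k A] [Field K]
    [Algebra k K] (h : #A < #K) :
    letI := Algebra.TensorProduct.rightAlgebra (R := k) (A := A) (B := K)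
    Module.rank K (A ⊗[k] K) < #K := by
  letI := Algebra.TensorProduct.rightAlgebra (R := k) (A := A) (B := K)
  let s : Set (A ⊗[k] K) := Set.range (fun a : A => a ⊗ₜ[k] (1 : K))
  have hs : Submodule.span K s = ⊤ := by
    rw [eq_top_iff]
    rintro x -
    induction x using TensorProduct.induction_on with
    | zero => exact Submodule.zero_mem _
    | tmul a c =>
      have : a ⊗ₜ[k] c = c • (a ⊗ₜ[k] (1 : K)) := by
        rw [Algebra.smul_def]
        change _ = ((1 : A) ⊗ₜ[k] c) * _
        rw [Algebra.TensorProduct.tmul_mul_tmul, one_mul, mul_one]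
      rw [this]
      exact Submodule.smul_mem _ _ (Submodule.subset_span ⟨a, rfl⟩)
    | add x y hx hy => exact Submodule.add_mem _ hx hy
  have h1 : Module.rank K (A ⊗[k] K) ≤ #s := by
    rw [← rank_top K (A ⊗[k] K), ← hs]
    exact rank_span_le s
  exact (h1.trans Cardinal.mk_range_le).trans_lt h

open Cardinal TensorProduct Groth.Agent.Lib.Helper69 in
/-- The chart: for an affine chart `j : Spec A ⟶ X`, an open immersion
`Spec (A ⊗[k] K) ⟶ X_K` over `Spec K` hitting every point over the image of `j`. -/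
theorem exists_chart (k : Type u) [Field k] (X : Scheme.{u}) [X.Over (Spec (CommRingCat.of k))]
    (K : Type u) [Field K] [Algebra k K] (A : CommRingCat.{u}) (j : Spec A ⟶ X)
    [IsOpenImmersion j] (hA : #A < #K) (x : ↥(Curv2.bc k X K))
    (hx : Curv2.bcFst k X K x ∈ Set.range j) :
    ∃ (R : Type u) (_ : CommRing R) (_ : Algebra K R)
      (h : Spec (CommRingCat.of R) ⟶ Curv2.bc k X K), IsOpenImmersion h ∧
      h ≫ Curv2.bcSnd k X K = Spec.map (CommRingCat.ofHom (algebraMap K R)) ∧
      Module.rank K R < #K ∧ x ∈ Set.range h := by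
  let φ : CommRingCat.of k ⟶ A := Spec.preimage (j ≫ (X ↘ Spec (CommRingCat.of k)))
  have hφ : Spec.map φ = j ≫ (X ↘ Spec (CommRingCat.of k)) := Spec.map_preimage _
  letI : Algebra k A := φ.hom.toAlgebra
  letI : Algebra K (A ⊗[k] K) := Algebra.TensorProduct.rightAlgebra
  have hφ' : Spec.map (CommRingCat.ofHom (algebraMap k A)) =
      j ≫ (X ↘ Spec (CommRingCat.of k)) := hφ
  let a : Spec (CommRingCat.of (A ⊗[k] K)) ⟶ Spec (CommRingCat.of A) :=
    Spec.map (CommRingCat.ofHom Algebra.TensorProduct.includeLeftRingHom)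
  let b : Spec (CommRingCat.of (A ⊗[k] K)) ⟶ Spec (CommRingCat.of K) :=
    Spec.map (CommRingCat.ofHom (Algebra.TensorProduct.includeRight (R := k) (A := A) (B := K)).toRingHom)
  have H1 : IsPullback a b (Spec.map (CommRingCat.ofHom (algebraMap k A)))
      (Spec.map (CommRingCat.ofHom (algebraMap k K))) :=
    isPullback_SpecMap_of_isPushout _ _ _ _ (CommRingCat.isPushout_tensorProduct k A K)
  have H2 : IsPullback (Curv2.bcFst k X K) (Curv2.bcSnd k X K) (X ↘ Spec (CommRingCat.of k))
      (Spec.map (CommRingCat.ofHom (algebraMap k K))) := IsPullback.of_hasPullback _ _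
  have w : (a ≫ j) ≫ (X ↘ Spec (CommRingCat.of k)) =
      b ≫ Spec.map (CommRingCat.ofHom (algebraMap k K)) := by
    rw [Category.assoc, ← hφ', H1.w]
  let h : Spec (CommRingCat.of (A ⊗[k] K)) ⟶ Curv2.bc k X K := H2.lift (a ≫ j) b w
  have hh1 : h ≫ Curv2.bcFst k X K = a ≫ j := H2.lift_fst _ _ _
  have hh2 : h ≫ Curv2.bcSnd k X K = b := H2.lift_snd _ _ _
  have H3 : IsPullback h a (Curv2.bcFst k X K) j := by
    refine IsPullback.of_right ?_ hh1 H2.flip
    rw [hh2, ← hφ']
    exact H1.flip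
  have hopen : IsOpenImmersion h :=
    MorphismProperty.of_isPullback (P := @IsOpenImmersion) H3.flip inferInstance
  obtain ⟨z, hz⟩ := hx
  obtain ⟨t, ht1, ht2⟩ := Scheme.exists_preimage_of_isPullback H3 x z hz.symm
  exact ⟨A ⊗[k] K, inferInstance, inferInstance, h, hopen, hh2,
    rank_tensor_lt k A K hA, ⟨t, ht1⟩⟩

/-- Let X be a scheme over a field k. There is a cardinal κ such that for every extension field K of k
of cardinality at least κ, the base change X_K is a Jacobson scheme and for every closed point x of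
X_K the residue field κ(x) is algebraic over K. -/
theorem result (k : Type u) [Field k] (X : Scheme.{u}) [X.Over (Spec (CommRingCat.of k))] :
    ∃ κ : Cardinal.{u}, ∀ (K : Type u) [Field K] [Algebra k K], κ ≤ Cardinal.mk K →
      JacobsonSpace ↥(Curv2.bc k X K) ∧
        ∀ x : ↥(Curv2.bc k X K), IsClosed ({x} : Set ↥(Curv2.bc k X K)) →
          letI : (Curv2.bc k X K).Over (Spec (CommRingCat.of K)) := ⟨Curv2.bcSnd k X K⟩
          Algebra.IsAlgebraic K ((Curv2.bc k X K).residueField x) := by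
  classical
  let 𝒜 := X.affineOpenCover
  refine ⟨Order.succ (max Cardinal.aleph0 (Cardinal.sum fun i : 𝒜.I₀ => Cardinal.mk (𝒜.X i))), ?_⟩
  intro K _ _ hκ
  rw [Order.succ_le_iff] at hκ
  have hK : Cardinal.aleph0 < Cardinal.mk K := (le_max_left _ _).trans_lt hκ
  have hA : ∀ i : 𝒜.I₀, Cardinal.mk (𝒜.X i) < Cardinal.mk K := fun i =>
    ((Cardinal.le_sum (fun i : 𝒜.I₀ => Cardinal.mk (𝒜.X i)) i).trans (le_max_right _ _)).trans_lt hκ
  have hcov : ∀ x : ↥(Curv2.bc k X K), ∃ i : 𝒜.I₀,
      Curv2.bcFst k X K x ∈ Set.range (𝒜.f i) := fun x =>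
    ⟨𝒜.openCover.idx (Curv2.bcFst k X K x), 𝒜.openCover.covers (Curv2.bcFst k X K x)⟩
  have hchart : ∀ x : ↥(Curv2.bc k X K), _ := fun x =>
    exists_chart k X K (𝒜.X (hcov x).choose) (𝒜.f (hcov x).choose) (hA _) x (hcov x).choose_spec
  refine ⟨?_, ?_⟩
  · refine Groth.Agent.Lib.Helper69.BigFieldJacSch.jacobsonSpace_of_cover _ fun x => ?_
    obtain ⟨R, _, _, h, h1, h2, h3, h4⟩ := hchart x
    exact ⟨CommRingCat.of R, h, h1, h4,
      Groth.Agent.Lib.Helper69.BigFieldJac.isJacobsonRing_of_rank_lt K R hK h3⟩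
  · intro x hx
    letI : (Curv2.bc k X K).Over (Spec (CommRingCat.of K)) := ⟨Curv2.bcSnd k X K⟩
    obtain ⟨R, _, _, h, h1, h2, h3, h4⟩ := hchart x
    exact Groth.Agent.Lib.Helper69.BigFieldJacSch.isAlgebraic_residueField K _ R h h2 h3 x hx h4

end Groth.Agent.S7611
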