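import Groth.Statements.S7612
import Mathlib.AlgebraicGeometry.Morphisms.UniversallyOpen
import Mathlib.AlgebraicGeometry.Fiber
-- import your own Groth.Agent.* helpers here

set_option autoImplicit false
universe u
open CategoryTheory CategoryTheory.Limits AlgebraicGeometry
open Variety

namespace Groth.Agent.S7612

/-- fibrewise step: over a base `S` which is the spectrum of a field -/
theorem step {P X Y S : Scheme.{u}} [IsIntegral S] [Subsingleton S]
    (p : P ⟶ X) (q : P ⟶ Y) (fX : X ⟶ S) (fY : Y ⟶ S) (sq : IsPullback p q fX fY)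
    (A : Set X) (B : Set Y) :
    p.base ⁻¹' A ∩ q.base ⁻¹' closure B ⊆ closure (p.base ⁻¹' A ∩ q.base ⁻¹' B) := by
  rintro z ⟨hzA, hzB⟩
  set a : X := p.base z with ha
  -- the fibre of `p` over `a`
  have h1 : IsPullback (p.fiberι a ≫ q) (p.fiberToSpecResidueField a) fY
      (X.fromSpecResidueField a ≫ fX) :=
    (IsPullback.of_hasPullback p (X.fromSpecResidueField a)).paste_horiz sq.flip
  haveI : UniversallyOpen (X.fromSpecResidueField a ≫ fX) := inferInstance
  haveI : UniversallyOpen (p.fiberι a ≫ q) :=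
    MorphismProperty.of_isPullback (P := @UniversallyOpen) h1.flip inferInstance
  have hopen : IsOpenMap (p.fiberι a ≫ q).base := (p.fiberι a ≫ q).isOpenMap
  have hcont : Continuous (p.fiberι a ≫ q).base := (p.fiberι a ≫ q).continuous
  -- `z` lies in the fibre
  obtain ⟨t, ht⟩ : z ∈ Set.range (p.fiberι a).base := by
    rw [Scheme.Hom.range_fiberι]; rfl
  have hgt : (p.fiberι a ≫ q).base t ∈ closure B := by
    have : (p.fiberι a ≫ q).base t = q.base z := by
      rw [← ht]; rfl
    rw [this]; exact hzB
  have h2 : t ∈ closure ((p.fiberι a ≫ q).base ⁻¹' B) := by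
    rw [← hopen.preimage_closure_eq_closure_preimage hcont]
    exact hgt
  have h3 : (p.fiberι a).base t ∈ closure ((p.fiberι a).base '' ((p.fiberι a ≫ q).base ⁻¹' B)) :=
    image_closure_subset_closure_image (p.fiberι a).continuous (Set.mem_image_of_mem _ h2)
  rw [ht] at h3
  refine closure_mono ?_ h3
  rintro _ ⟨t', ht', rfl⟩
  refine ⟨?_, ht'⟩
  have : (p.fiberι a).base t' ∈ p.base ⁻¹' {a} := by
    rw [← Scheme.Hom.range_fiberι]; exact ⟨t', rfl⟩
  have h4 : p.base ((p.fiberι a).base t') = a := this
  change p.base ((p.fiberι a).base t') ∈ A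
  rw [h4]
  exact hzA

/-- Let X and Y be schemes over a field k and A ⊆ X, B ⊆ Y subsets. Inside X ×_k Y, the closure of the
set of points projecting into A and into B equals the set of points projecting into the closure of A
and into the closure of B. -/
theorem result (k : Type u) [Field k] (X : Scheme.{u}) [X.Over (Spec (CommRingCat.of k))] (Y : Scheme.{u}) [Y.Over (Spec (CommRingCat.of k))] (A : Set ↥X) (B : Set ↥Y) :
    closure ((pullback.fst (X ↘ (Spec (CommRingCat.of k))) (Y ↘ (Spec (CommRingCat.of k)))).base ⁻¹' A ∩ (pullback.snd (X ↘ (Spec (CommRingCat.of k))) (Y ↘ (Spec (CommRingCat.of k)))).base ⁻¹' B) =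
      (pullback.fst (X ↘ (Spec (CommRingCat.of k))) (Y ↘ (Spec (CommRingCat.of k)))).base ⁻¹' closure A ∩ (pullback.snd (X ↘ (Spec (CommRingCat.of k))) (Y ↘ (Spec (CommRingCat.of k)))).base ⁻¹' closure B := by
  set p := pullback.fst (X ↘ (Spec (CommRingCat.of k))) (Y ↘ (Spec (CommRingCat.of k))) with hp
  set q := pullback.snd (X ↘ (Spec (CommRingCat.of k))) (Y ↘ (Spec (CommRingCat.of k))) with hq
  have sq : IsPullback p q (X ↘ (Spec (CommRingCat.of k))) (Y ↘ (Spec (CommRingCat.of k))) :=
    IsPullback.of_hasPullback _ _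
  apply subset_antisymm
  · apply closure_minimal
    · exact Set.inter_subset_inter (Set.preimage_mono subset_closure) (Set.preimage_mono subset_closure)
    · exact (isClosed_closure.preimage p.continuous).inter (isClosed_closure.preimage q.continuous)
  · have s1 := step p q _ _ sq (closure A) B
    have s2 := step q p _ _ sq.flip B A
    rw [Set.inter_comm (q.base ⁻¹' B), Set.inter_comm (q.base ⁻¹' B)] at s2
    calc p.base ⁻¹' closure A ∩ q.base ⁻¹' closure B
        ⊆ closure (p.base ⁻¹' closure A ∩ q.base ⁻¹' B) := s1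
      _ ⊆ closure (closure (p.base ⁻¹' A ∩ q.base ⁻¹' B)) := closure_mono s2
      _ = closure (p.base ⁻¹' A ∩ q.base ⁻¹' B) := closure_closure

end Groth.Agent.S7612
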