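import Groth.Statements.S7613
import Groth.Agent.S1549
import Groth.Agent.S1540
import Groth.Agent.S4989

set_option autoImplicit false
universe u
open CategoryTheory CategoryTheory.Limits AlgebraicGeometry
open Variety

namespace Groth.Agent.S7613

section aux
attribute [local instance] Curv2.resAlgebra Curv2.stalkAlgebra

/-- An element of the function field (written as the residue field of the generic point) of an
integral `k`-scheme that is integral over `k` lies in `k`, as soon as there is a `k`-rational point
whose local ring is integrally closed. -/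
theorem core (k : Type u) [Field k] (X : Scheme.{u}) [X.Over (Spec (CommRingCat.of k))] [IsIntegral X]
    (x : X) (hx : Function.Surjective (Curv2.resMap k X x))
    (hn : IsIntegrallyClosed (X.presheaf.stalk x))
    (a : X.residueField (genericPoint X)) (ha : IsIntegral k a) :
    a ∈ Set.range (algebraMap k (X.residueField (genericPoint X))) := by
  let φ : k →+* X.presheaf.stalk x := Curv2.stalkMap k X x
  let ι : X.presheaf.stalk x →+* X.functionField := algebraMap _ _
  let ρ : X.functionField →+* X.residueField (genericPoint X) := (X.residue (genericPoint X)).hom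
  have hρι : ρ.comp (ι.comp φ) = algebraMap k (X.residueField (genericPoint X)) := by
    rw [RingHom.algebraMap_toAlgebra]
    change _ = (X.residue (genericPoint X)).hom.comp (Curv2.stalkMap k X (genericPoint X))
    congr 1
    change (X.presheaf.stalkSpecializes _).hom.comp
        ((X.presheaf.germ ⊤ x trivial).hom.comp _) =
      (X.presheaf.germ ⊤ (genericPoint X) trivial).hom.comp _
    rw [← RingHom.comp_assoc, ← CommRingCat.hom_comp, TopCat.Presheaf.germ_stalkSpecializes]
  have hρinj : Function.Injective ρ := ρ.injective
  obtain ⟨a', rfl⟩ : ∃ a', ρ a' = a := X.residue_surjective (genericPoint X) a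
  obtain ⟨p, hpm, hp⟩ := ha
  have h1 : Polynomial.eval₂ (ι.comp φ) a' p = 0 := by
    apply hρinj
    rw [map_zero, Polynomial.hom_eval₂, hρι]
    exact hp
  have h2 : IsIntegral (X.presheaf.stalk x) a' := by
    refine ⟨p.map φ, hpm.map φ, ?_⟩
    rw [Polynomial.eval₂_map]
    exact h1
  obtain ⟨b, hb⟩ := IsIntegrallyClosed.isIntegral_iff.mp h2
  have h3 : Polynomial.eval₂ φ b p = 0 := by
    apply IsFractionRing.injective (X.presheaf.stalk x) X.functionField
    rw [map_zero, Polynomial.hom_eval₂, hb]
    exact h1
  obtain ⟨c, hc⟩ := hx (X.residue x b)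
  have hb_int : IsIntegral k b := ⟨p, hpm, h3⟩
  have hd_int : IsIntegral k (b - φ c) := hb_int.sub (isIntegral_algebraMap (x := c))
  have hd_nonunit : ¬ IsUnit (b - φ c) := by
    intro hu
    have h0 : (X.residue x).hom (b - φ c) = 0 := by
      rw [map_sub, sub_eq_zero]
      exact hc.symm
    exact (hu.map (X.residue x).hom).ne_zero h0
  have hd : b - φ c = 0 := by
    by_contra h0
    exact hd_nonunit (hd_int.isUnit h0)
  refine ⟨c, ?_⟩
  rw [← hρι]
  have : b = φ c := sub_eq_zero.mp hd
  simp only [RingHom.comp_apply]
  rw [← this]
  exact congrArg ρ hb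

end aux

/-- Let X be a variety over a field k (integral, separated and of finite type over k) with a k-rational
point x (k → κ(x) onto) such that X → Spec k is smooth at x. Then every base change of X to an
extension field of k is an integral scheme (X is geometrically integral over k). -/
theorem result (k : Type u) [Field k] (X : Scheme.{u}) [X.Over (Spec (CommRingCat.of k))] [IsIntegral X] [IsSeparated (X ↘ (Spec (CommRingCat.of k)))]
    [LocallyOfFiniteType (X ↘ (Spec (CommRingCat.of k)))] [QuasiCompact (X ↘ (Spec (CommRingCat.of k)))]
    (x : ↥X) (hx : Function.Surjective (Curv2.resMap k X x)) (hsm : x ∈ (X ↘ (Spec (CommRingCat.of k))).smoothLocus) :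
    GeometricallyIntegral (X ↘ (Spec (CommRingCat.of k))) := by
  classical
  have hred : GeometricallyReduced (X ↘ (Spec (CommRingCat.of k))) := by
    rw [Groth.Agent.S1549.result]
    refine ⟨(X ↘ (Spec (CommRingCat.of k))).smoothLocus, ?_, ?_⟩
    · exact (X ↘ (Spec (CommRingCat.of k))).smoothLocus.2.dense ⟨x, hsm⟩
    · rw [← Scheme.Hom.smoothLocus_eq_top_iff, ← Scheme.Hom.preimage_smoothLocus_eq]
      ext y
      simp
  have hstalk : IsDomain (X.presheaf.stalk x) ∧ IsIntegrallyClosed (X.presheaf.stalk x) := by
    rw [(Groth.Agent.S4989.result (X ↘ (Spec (CommRingCat.of k))) x hsm).2]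
    have hpt : (X ↘ (Spec (CommRingCat.of k))).base x = genericPoint (Spec (CommRingCat.of k)) :=
      Subsingleton.elim (α := PrimeSpectrum k) _ _
    rw [hpt]
    exact ⟨inferInstanceAs (IsDomain (Spec (CommRingCat.of k)).functionField),
      inferInstanceAs (IsIntegrallyClosed (Spec (CommRingCat.of k)).functionField)⟩
  have hirr : GeometricallyIrreducible (X ↘ (Spec (CommRingCat.of k))) := by
    rw [Groth.Agent.S1540.result]
    intro a ha
    letI : Algebra k (X.residueField (genericPoint X)) := Curv2.resAlgebra k X (genericPoint X)
    exact core k X x hx hstalk.2 a (IsSeparable.isIntegral ha)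
  exact GeometricallyIntegral.of_geometricallyReduced_of_geometricallyIrreducible _

end Groth.Agent.S7613
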