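import Groth.Statements.S7614
import Groth.Agent.Lib.Helper62.BCStalk
import Mathlib

set_option autoImplicit false
set_option linter.style.haveILetI false
universe u
open CategoryTheory CategoryTheory.Limits AlgebraicGeometry
open Variety

namespace Groth.Agent.S7614

open Groth.Agent.Lib.Helper62

section general

variable {S T X W : Scheme.{u}}

/-- quasi-compactness descends along a surjection. -/
theorem compactSpace_of_surjective {X Y : Scheme.{u}} (g : Y ⟶ X) [Surjective g] [CompactSpace Y] :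
    CompactSpace X :=
  g.surjective.compactSpace g.continuous

/-- quasi-separatedness descends along a surjective affine morphism. -/
theorem quasiSeparatedSpace_of_surjective {X Y : Scheme.{u}} (g : Y ⟶ X) [Surjective g]
    [IsAffineHom g] [QuasiSeparatedSpace Y] : QuasiSeparatedSpace X := by
  rw [quasiSeparatedSpace_iff_forall_affineOpens]
  intro U V
  have hU : IsAffineOpen (g ⁻¹ᵁ U.1) := U.2.preimage g
  have hV : IsAffineOpen (g ⁻¹ᵁ V.1) := V.2.preimage g
  have hc : IsCompact ((g ⁻¹ᵁ U.1 : Y.Opens) ∩ (g ⁻¹ᵁ V.1 : Y.Opens) : Set Y) :=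
    (quasiSeparatedSpace_iff_forall_affineOpens.mp inferInstance) ⟨_, hU⟩ ⟨_, hV⟩
  have himg : g.base '' (((g ⁻¹ᵁ U.1 : Y.Opens) : Set Y) ∩ ((g ⁻¹ᵁ V.1 : Y.Opens) : Set Y)) =
      (U.1 : Set X) ∩ (V.1 : Set X) := by
    ext x
    constructor
    · rintro ⟨y, ⟨hy1, hy2⟩, rfl⟩
      exact ⟨hy1, hy2⟩
    · rintro ⟨hx1, hx2⟩
      obtain ⟨y, rfl⟩ := g.surjective x
      exact ⟨y, ⟨hx1, hx2⟩, rfl⟩
  rw [← himg]
  exact hc.image g.continuous

theorem isIso_appLE_pullbackMap (a : X ⟶ W) (s : W ⟶ S) (f : T ⟶ S) [Flat f]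
    [IsAffine S] [IsAffine T] [IsAffine W] [CompactSpace X] [QuasiSeparatedSpace X]
    [IsIso (a.appLE ⊤ ⊤ le_top)] (iX : X ⟶ S) (has : a ≫ s = iX)
    (aT : pullback iX f ⟶ pullback s f)
    (h1 : aT ≫ pullback.fst s f = pullback.fst iX f ≫ a)
    (h2 : aT ≫ pullback.snd s f = pullback.snd iX f) :
    IsIso (aT.appLE ⊤ ⊤ le_top) := by
  subst has
  have H₁ : IsPullback (pullback.fst (a ≫ s) f) (pullback.snd (a ≫ s) f) (a ≫ s) f :=
    .of_hasPullback _ _
  have H₂ : IsPullback (pullback.fst s f) (pullback.snd s f) s f := .of_hasPullback _ _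
  have i₁ := isIso_pushoutSection_of_isQuasiSeparated_of_flat_right H₁ (US := ⊤) (UT := ⊤)
    (UX := ⊤) (UY := ⊤) le_top le_top (by simp) (isAffineOpen_top S) (isAffineOpen_top T)
    isCompact_univ isQuasiSeparated_univ
  have i₂ := isIso_pushoutSection_of_isAffineOpen H₂ (US := ⊤) (UT := ⊤)
    (UX := ⊤) (UY := ⊤) le_top le_top (by simp) (isAffineOpen_top S) (isAffineOpen_top T)
    (isAffineOpen_top W)
  rw [isIso_pushoutSection_iff] at i₁ i₂
  have i₁' : IsPushout (s.appLE ⊤ ⊤ le_top) (f.appLE ⊤ ⊤ le_top)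
      (a.appLE ⊤ ⊤ le_top ≫ (pullback.fst (a ≫ s) f).appLE ⊤ ⊤ le_top)
      ((pullback.snd (a ≫ s) f).appLE ⊤ ⊤ le_top) := by
    refine IsPushout.of_iso i₁ (Iso.refl _) (asIso (a.appLE ⊤ ⊤ le_top)).symm (Iso.refl _)
      (Iso.refl _) ?_ ?_ ?_ ?_
    · simp only [Iso.refl_hom, Category.id_comp, Iso.symm_hom, asIso_inv]
      rw [IsIso.comp_inv_eq, Scheme.Hom.appLE_comp_appLE]
    · simp
    · simp
    · simp
  have : aT.appLE ⊤ ⊤ le_top = (i₂.isoIsPushout _ _ i₁').hom := by
    apply i₂.hom_ext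
    · rw [IsPushout.inl_isoIsPushout_hom, Scheme.Hom.appLE_comp_appLE,
        Scheme.Hom.appLE_comp_appLE]
      congr 1
    · rw [IsPushout.inr_isoIsPushout_hom, Scheme.Hom.appLE_comp_appLE]
      congr 1
  rw [this]
  infer_instance

theorem isQuasiAffine_of_pullback (iX : X ⟶ S) (f : T ⟶ S) [IsAffine S] [IsAffine T] [Flat f]
    [Surjective f] [(pullback iX f).IsQuasiAffine] : X.IsQuasiAffine := by
  haveI : Surjective (pullback.fst iX f) := inferInstance
  haveI : IsAffineHom f := isAffineHom_of_isAffine f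
  haveI : IsAffineHom (pullback.fst iX f) :=
    MorphismProperty.pullback_fst (P := @IsAffineHom) _ _ inferInstance
  haveI : QuasiSeparatedSpace ↥(pullback iX f) := inferInstance
  haveI : CompactSpace X := compactSpace_of_surjective (pullback.fst iX f)
  haveI : QuasiSeparatedSpace X := quasiSeparatedSpace_of_surjective (pullback.fst iX f)
  let a : X ⟶ Spec Γ(X, ⊤) := X.toSpecΓ
  let s : Spec Γ(X, ⊤) ⟶ S := Spec.map iX.appTop ≫ S.isoSpec.inv
  have has : a ≫ s = iX := by
    simp only [a, s]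
    rw [← Scheme.toSpecΓ_naturality_assoc]
    simp [Scheme.isoSpec]
  let aT : pullback iX f ⟶ pullback s f :=
    pullback.lift (pullback.fst iX f ≫ a) (pullback.snd iX f)
      (by rw [Category.assoc, has, pullback.condition])
  have h1 : aT ≫ pullback.fst s f = pullback.fst iX f ≫ a := pullback.lift_fst _ _ _
  have h2 : aT ≫ pullback.snd s f = pullback.snd iX f := pullback.lift_snd _ _ _
  haveI : IsIso (a.appLE ⊤ ⊤ le_top) := by
    have : a.appLE ⊤ ⊤ le_top = (Scheme.ΓSpecIso Γ(X, ⊤)).hom := by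
      simp [a, Scheme.Hom.appLE]
    rw [this]
    infer_instance
  have hiso := isIso_appLE_pullbackMap a s f iX has aT h1 h2
  haveI : IsIso aT.appTop := by
    have : aT.appTop = aT.appLE ⊤ ⊤ le_top := by simp [Scheme.Hom.appLE]
    rw [this]
    exact hiso
  have hnat : aT ≫ (pullback s f).toSpecΓ = (pullback iX f).toSpecΓ ≫ Spec.map aT.appTop :=
    Scheme.toSpecΓ_naturality aT
  haveI : IsOpenImmersion (aT ≫ (pullback s f).toSpecΓ) := by
    rw [hnat]
    infer_instance
  haveI : IsOpenImmersion aT := IsOpenImmersion.of_comp aT (pullback s f).toSpecΓ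
  have HP : IsPullback aT (pullback.fst iX f) (pullback.fst s f) a := by
    refine IsPullback.of_right ?_ h1 (IsPullback.of_hasPullback s f).flip
    rw [h2, has]
    exact (IsPullback.of_hasPullback iX f).flip
  have : IsOpenImmersion a :=
    MorphismProperty.of_isPullback_of_descendsAlong (P := @IsOpenImmersion)
      (Q := @Surjective ⊓ @Flat ⊓ @QuasiCompact) HP
      ⟨⟨inferInstance, inferInstance⟩, inferInstance⟩ inferInstance
  exact { toCompactSpace := inferInstance, toIsImmersion := inferInstance }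

end general

theorem main (k : Type u) [Field k] (X : Scheme.{u}) [X.Over (Spec (CommRingCat.of k))] (K : Type u) [Field K] [Algebra k K]
    [(Curv2.bc k X K).IsQuasiAffine] : X.IsQuasiAffine := by
  have hff : (CommRingCat.ofHom (algebraMap k K)).hom.FaithfullyFlat := by
    rw [CommRingCat.hom_ofHom, RingHom.faithfullyFlat_algebraMap_iff]
    infer_instance
  obtain ⟨h1, h2⟩ := (flat_and_surjective_SpecMap_iff _).mpr hff
  exact isQuasiAffine_of_pullback (X ↘ Spec (CommRingCat.of k))
    (Spec.map (CommRingCat.ofHom (algebraMap k K)))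


/-- Let X be a scheme over a field k and K an extension field of k. If X_K is quasi-affine, then X is
quasi-affine. -/
theorem result (k : Type u) [Field k] (X : Scheme.{u}) [X.Over (Spec (CommRingCat.of k))] (K : Type u) [Field K] [Algebra k K]
    [(Curv2.bc k X K).IsQuasiAffine] : X.IsQuasiAffine := by
  exact main k X K

end Groth.Agent.S7614
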