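import Groth.Statements.S7615
import Groth.Agent.S7856
import Groth.Agent.S15533
import Mathlib

set_option autoImplicit false
set_option linter.style.haveILetI false
universe u
open CategoryTheory CategoryTheory.Limits AlgebraicGeometry
open Variety

namespace Groth.Agent.S7615

open CategoryTheory CategoryTheory.Limits AlgebraicGeometry Opposite
open scoped TensorProduct
open Groth.Agent.Lib.Helper62

theorem main' (k : Type u) [Field k] (X : Scheme.{u}) (f : X ⟶ Spec (CommRingCat.of k))
    [IsIntegral X] [IsProper f] :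
    letI := (f.appTop.hom.comp (Scheme.ΓSpecIso (CommRingCat.of k)).inv.hom : k →+* Γ(X, ⊤)).toAlgebra
    IsField ↑Γ(X, ⊤) ∧ Module.Finite k ↑Γ(X, ⊤) ∧
      (GeometricallyReduced f → Algebra.IsSeparable k ↑Γ(X, ⊤)) ∧
      (GeometricallyIrreducible f → IsPurelyInseparable k ↑Γ(X, ⊤)) := by
  letI : Algebra k Γ(X, ⊤) :=
    (f.appTop.hom.comp (Scheme.ΓSpecIso (CommRingCat.of k)).inv.hom : k →+* Γ(X, ⊤)).toAlgebra
  have hsec : BCStalk.toSection f ⊤ =
      f.appTop.hom.comp (Scheme.ΓSpecIso (CommRingCat.of k)).inv.hom := by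
    ext c
    simp [BCStalk.toSection, Scheme.Hom.appLE]
  have hfield : IsField Γ(X, ⊤) := isField_of_universallyClosed k f
  have hfin : Module.Finite k Γ(X, ⊤) := by
    have h1 := finite_appTop_of_universallyClosed k f
    exact h1.comp (RingHom.Finite.of_surjective _
      (Scheme.ΓSpecIso (CommRingCat.of k)).symm.commRingCatIsoToRingEquiv.surjective)
  haveI : CompactSpace X := QuasiCompact.compactSpace_of_compactSpace f
  haveI : QuasiSeparatedSpace X := by
    haveI : IsSeparated f := inferInstance
    exact (quasiSeparatedSpace_iff_quasiSeparated X).mpr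
      (by rw [← terminal.comp_from f]; infer_instance)
  have hbc : ∀ (K : Type u) [Field K] [Algebra k K],
      ∃ φ : K ⊗[k] Γ(X, ⊤) ≃+* Γ(BCStalk.bc f K, ⊤), True := by
    intro K _ _
    haveI := BCGlobal.flat_SpecMap_field k K
    have := BCGlobal.exists_ringEquiv_sections_of_qcqs (f := f) K
      (U := ⊤) isCompact_univ isQuasiSeparated_univ
    rw [hsec] at this
    obtain ⟨φ, -, -⟩ := this
    exact ⟨φ, trivial⟩
  refine ⟨hfield, hfin, ?_, ?_⟩
  · intro hgr
    have hred : _root_.IsReduced (AlgebraicClosure k ⊗[k] Γ(X, ⊤)) := by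
      obtain ⟨φ, -⟩ := hbc (AlgebraicClosure k)
      haveI : IsReduced (BCStalk.bc f (AlgebraicClosure k)) :=
        pullback_of_geometrically hgr.1 _ _
      haveI : _root_.IsReduced Γ(BCStalk.bc f (AlgebraicClosure k), ⊤) := inferInstance
      exact isReduced_of_injective φ.toRingHom φ.injective
    haveI := Groth.Agent.S15533.formallyUnramified_of_isReduced_tensor k Γ(X, ⊤) hred
    letI : Field Γ(X, ⊤) := hfield.toField
    exact Algebra.FormallyUnramified.isSeparable k Γ(X, ⊤)
  · intro hgi
    letI : Field Γ(X, ⊤) := hfield.toField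
    have hun : ∀ a : Γ(X, ⊤), IsUnit a ∨ IsNilpotent a := by
      intro a
      by_cases ha : a = 0
      · right
        rw [ha]
        exact IsNilpotent.zero
      · left
        exact IsUnit.mk0 a ha
    have hT : ∀ (F : Type u) [Field F] [Algebra k F] [FiniteDimensional k F],
        ∀ e : F ⊗[k] Γ(X, ⊤), IsIdempotentElem e → e = 0 ∨ e = 1 := by
      intro F _ _ _ e he
      obtain ⟨φ, -⟩ := hbc F
      haveI : IrreducibleSpace ↥(BCStalk.bc f F) := pullback_of_geometrically hgi.1 _ _
      rcases Groth.Agent.Lib.Helper61.H0Field.idem_of_connected (BCStalk.bc f F) (φ e)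
        (he.map φ) with h0 | h1
      · left
        apply φ.injective
        rw [h0, map_zero]
      · right
        apply φ.injective
        rw [h1, map_one]
    haveI : Algebra.IsIntegral k Γ(X, ⊤) := Algebra.IsIntegral.of_finite k Γ(X, ⊤)
    rw [isPurelyInseparable_iff_pow_mem k (ringExpChar k)]
    intro a
    obtain ⟨n, c, hc⟩ := Groth.Agent.S7856.exists_pow_sub_nilpotent_of_trivial_idem k Γ(X, ⊤)
      hun hT a
    refine ⟨n, c, ?_⟩
    have := hc.eq_zero
    exact (sub_eq_zero.mp this).symm

theorem main (k : Type u) [Field k] (X : Scheme.{u}) [X.Over (Spec (CommRingCat.of k))] [IsIntegral X] [IsProper (X ↘ (Spec (CommRingCat.of k)))] :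
    letI := ((X ↘ (Spec (CommRingCat.of k))).appTop.hom.comp (Scheme.ΓSpecIso (CommRingCat.of k)).inv.hom : k →+* Γ(X, ⊤)).toAlgebra
    IsField ↑Γ(X, ⊤) ∧ Module.Finite k ↑Γ(X, ⊤) ∧
      (GeometricallyReduced (X ↘ (Spec (CommRingCat.of k))) → Algebra.IsSeparable k ↑Γ(X, ⊤)) ∧
      (GeometricallyIrreducible (X ↘ (Spec (CommRingCat.of k))) → IsPurelyInseparable k ↑Γ(X, ⊤)) :=
  main' k X _


/-- Let X be a proper variety over a field k (integral, separated, of finite type and proper over k) and
K = H^0(X, O_X), a k-algebra via the structure morphism. Then K is a field, finite over k; K/k is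
separable when X is geometrically reduced over k, and purely inseparable when X is geometrically
irreducible over k. -/
theorem result (k : Type u) [Field k] (X : Scheme.{u}) [X.Over (Spec (CommRingCat.of k))] [IsIntegral X] [IsProper (X ↘ (Spec (CommRingCat.of k)))] :
    letI := ((X ↘ (Spec (CommRingCat.of k))).appTop.hom.comp (Scheme.ΓSpecIso (CommRingCat.of k)).inv.hom : k →+* Γ(X, ⊤)).toAlgebra
    IsField ↑Γ(X, ⊤) ∧ Module.Finite k ↑Γ(X, ⊤) ∧
      (GeometricallyReduced (X ↘ (Spec (CommRingCat.of k))) → Algebra.IsSeparable k ↑Γ(X, ⊤)) ∧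
      (GeometricallyIrreducible (X ↘ (Spec (CommRingCat.of k))) → IsPurelyInseparable k ↑Γ(X, ⊤)) := by
  exact main k X

end Groth.Agent.S7615
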