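import Groth.Statements.S7683
import Groth.Agent.Lib.Helper39.DeltaSep.Ring
import Groth.Agent.Lib.Helper39.DeltaSep.Point
import Groth.Agent.Lib.Helper62.BCStalk
-- import your own Groth.Agent.* helpers here

set_option autoImplicit false
universe u
open CategoryTheory CategoryTheory.Limits AlgebraicGeometry
open Variety

namespace Groth.Agent.S7683

section Helpers

set_option autoImplicit false
set_option linter.style.haveILetI false
open CategoryTheory CategoryTheory.Limits AlgebraicGeometry
open scoped TensorProduct

namespace T7683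

attribute [local instance] Curv2.stalkAlgebra

open Groth.Agent.Lib.Helper39 Groth.Agent.Lib.Helper62

theorem essFiniteType_stalk (k : Type u) [Field k] (X : Scheme.{u}) [X.Over (Spec (CommRingCat.of k))]
    [LocallyOfFiniteType (X ↘ (Spec (CommRingCat.of k)))] (x : X) :
    Algebra.EssFiniteType k (X.presheaf.stalk x) := by
  obtain ⟨_, ⟨U, hU, rfl⟩, hxU, -⟩ :=
    X.isBasis_affineOpens.exists_subset_of_mem_open (Set.mem_univ x) isOpen_univ
  letI : Algebra k Γ(X, U) := (BCStalk.toSection (X ↘ Spec (CommRingCat.of k)) U).toAlgebra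
  letI : Algebra Γ(X, U) (X.presheaf.stalk x) := X.presheaf.algebra_section_stalk ⟨x, hxU⟩
  haveI : IsScalarTower k Γ(X, U) (X.presheaf.stalk x) :=
    BCStalk.chart_aux (X ↘ Spec (CommRingCat.of k)) x hxU rfl
  haveI := hU.isLocalization_stalk ⟨x, hxU⟩
  haveI : Algebra.FiniteType k Γ(X, U) := by
    have h1 : ((X ↘ Spec (CommRingCat.of k)).appLE ⊤ U le_top).hom.FiniteType :=
      (X ↘ Spec (CommRingCat.of k)).finiteType_appLE (isAffineOpen_top _) hU le_top
    have h2 : (Scheme.ΓSpecIso (CommRingCat.of k)).inv.hom.FiniteType :=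
      RingHom.FiniteType.of_surjective _
        (ConcreteCategory.bijective_of_isIso (Scheme.ΓSpecIso (CommRingCat.of k)).inv).2
    exact h1.comp h2
  haveI : Algebra.EssFiniteType Γ(X, U) (X.presheaf.stalk x) :=
    Algebra.EssFiniteType.of_isLocalization _ (hU.primeIdealOf ⟨x, hxU⟩).asIdeal.primeCompl
  exact Algebra.EssFiniteType.comp k Γ(X, U) (X.presheaf.stalk x)

theorem isReduced_tensor_of_geometricallyReduced (k K F : Type u) [Field k] [Field K] [Algebra k K]
    [CommRing F] [Algebra k F]
    [GeometricallyReduced (Spec.map (CommRingCat.ofHom (algebraMap k F)))] :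
    _root_.IsReduced (K ⊗[k] F) := by
  have h := (geometrically_iff_of_commRing_of_isClosedUnderIsomorphisms
    (P := (AlgebraicGeometry.IsReduced ·))).1
    (GeometricallyReduced.geometrically_isReduced
      (f := Spec.map (CommRingCat.ofHom (algebraMap k F)))) K
  have h2 : AlgebraicGeometry.IsReduced (Spec (CommRingCat.of (F ⊗[k] K))) :=
    isReduced_of_isOpenImmersion (pullbackSpecIso k F K).inv
  have h3 : _root_.IsReduced (F ⊗[k] K) :=
    (affine_isReduced_iff (CommRingCat.of (F ⊗[k] K))).1 h2
  exact isReduced_of_injective (Algebra.TensorProduct.comm k K F).toAlgHom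
    (Algebra.TensorProduct.comm k K F).injective

theorem exists_point_kalg (k : Type u) [Field k] (X : Scheme.{u}) [X.Over (Spec (CommRingCat.of k))]
    [IsIntegral X]
    [QuasiCompact (X.fromSpecStalk (genericPoint X))] [QuasiSeparated (X.fromSpecStalk (genericPoint X))]
    (x : X)
    (m' : Ideal (integralClosure (X.presheaf.stalk x) (FractionRing (X.presheaf.stalk x))))
    [hm' : m'.IsMaximal] :
    letI : (Curv2.normalization X).Over (Spec (CommRingCat.of k)) :=
        ⟨Curv2.normalizationι X ≫ (X ↘ (Spec (CommRingCat.of k)))⟩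
    ∃ (x' : ↥(Curv2.normalization X)) (_ : (Curv2.normalizationι X).base x' = x)
      (φ : integralClosure (X.presheaf.stalk x) (FractionRing (X.presheaf.stalk x)) →+*
        (Curv2.normalization X).residueField x'),
      m' ≤ RingHom.ker φ ∧
      ∀ c : k, φ (algebraMap (X.presheaf.stalk x) _ (Curv2.stalkMap k X x c)) =
        Curv2.resMap k (Curv2.normalization X) x' c := by
  letI : (Curv2.normalization X).Over (Spec (CommRingCat.of k)) :=
    ⟨Curv2.normalizationι X ≫ (X ↘ (Spec (CommRingCat.of k)))⟩
  obtain ⟨_, ⟨U, hU, rfl⟩, hxU, -⟩ :=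
    X.isBasis_affineOpens.exists_subset_of_mem_open (Set.mem_univ x) isOpen_univ
  obtain ⟨x', hx'W, hx'x, φ, hφ1, hφ2⟩ := DeltaSep.exists_point_of_maximal X U hU x hxU m'
  refine ⟨x', hx'x, φ, hφ1, fun c => ?_⟩
  have h1 := hφ2 ((X.presheaf.map (homOfLE (le_top : U ≤ ⊤)).op).hom
    (Coh.toGlobal (X ↘ Spec (CommRingCat.of k)) c))
  rw [← DeltaSep.stalkMap_eq_germ U x hxU c] at h1
  exact h1.trans (DeltaSep.resMap_comp (Curv2.normalizationι X) U x' hx'W c).symm

theorem main7683 (k : Type u) [Field k] (X : Scheme.{u}) [X.Over (Spec (CommRingCat.of k))]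
    [IsIntegral X] [LocallyOfFiniteType (X ↘ (Spec (CommRingCat.of k)))]
    [QuasiCompact (X.fromSpecStalk (genericPoint X))] [QuasiSeparated (X.fromSpecStalk (genericPoint X))]
    (K : Type u) [Field K] [Algebra k K] (y : ↥(Curv2.bc k X K))
    (hdx : ringKrullDim (X.presheaf.stalk ((Curv2.bcFst k X K).base y)) = 1)
    (hsep : letI : (Curv2.normalization X).Over (Spec (CommRingCat.of k)) :=
        ⟨Curv2.normalizationι X ≫ (X ↘ (Spec (CommRingCat.of k)))⟩
      ∀ x' : ↥(Curv2.normalization X), (Curv2.normalizationι X).base x' = (Curv2.bcFst k X K).base y →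
        GeometricallyReduced (Spec.map (CommRingCat.ofHom (Curv2.resMap k (Curv2.normalization X) x'))))
    (hdy : ringKrullDim ((Curv2.bc k X K).presheaf.stalk y) = 1) :
    Curv2.deltaInv (X.presheaf.stalk ((Curv2.bcFst k X K).base y)) =
      Curv2.deltaInv ((Curv2.bc k X K).presheaf.stalk y) := by
  obtain ⟨M, hM, hMc, ⟨e⟩⟩ := BCStalk.exists_prime_of_point (X ↘ Spec (CommRingCat.of k)) K y
    ((Curv2.bcFst k X K).base y) rfl rfl
  haveI := essFiniteType_stalk k X ((Curv2.bcFst k X K).base y)
  rw [DeltaSep.deltaInv_eq_of_ringEquiv e]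
  symm
  apply DeltaSep.deltaInv_localization_tensor_eq' k K _ hdx M hMc
  · rw [← ringKrullDim_eq_of_ringEquiv e]; exact hdy
  intro m' hm'
  letI : (Curv2.normalization X).Over (Spec (CommRingCat.of k)) :=
    ⟨Curv2.normalizationι X ≫ (X ↘ (Spec (CommRingCat.of k)))⟩
  obtain ⟨x', hx'x, φ, hφ1, hφ2⟩ := exists_point_kalg k X ((Curv2.bcFst k X K).base y) m'
  have hsx := hsep x' hx'x
  letI algκ : Algebra k ((Curv2.normalization X).residueField x') :=
    (Curv2.resMap k (Curv2.normalization X) x').toAlgebra
  haveI : GeometricallyReduced (Spec.map (CommRingCat.ofHom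
      (algebraMap k ((Curv2.normalization X).residueField x')))) := hsx
  have hred : _root_.IsReduced (K ⊗[k] ((Curv2.normalization X).residueField x')) :=
    isReduced_tensor_of_geometricallyReduced k K _
  have hcompat : ∀ c : k, (Ideal.Quotient.lift m' φ (fun a ha => hφ1 ha)) (algebraMap k _ c) =
      algebraMap k ((Curv2.normalization X).residueField x') c := by
    intro c
    show φ (algebraMap k _ c) = Curv2.resMap k (Curv2.normalization X) x' c
    rw [IsScalarTower.algebraMap_apply k
      (X.presheaf.stalk ((Curv2.bcFst k X K).base y))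
      (integralClosure (X.presheaf.stalk ((Curv2.bcFst k X K).base y))
      (FractionRing (X.presheaf.stalk ((Curv2.bcFst k X K).base y))))]
    exact hφ2 c
  let φa : (integralClosure (X.presheaf.stalk ((Curv2.bcFst k X K).base y))
      (FractionRing (X.presheaf.stalk ((Curv2.bcFst k X K).base y))) ⧸ m') →ₐ[k]
      (Curv2.normalization X).residueField x' :=
    { Ideal.Quotient.lift m' φ (fun a ha => hφ1 ha) with commutes' := hcompat }
  letI : Field (integralClosure (X.presheaf.stalk ((Curv2.bcFst k X K).base y))
      (FractionRing (X.presheaf.stalk ((Curv2.bcFst k X K).base y))) ⧸ m') :=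
    Ideal.Quotient.field m'
  have hinj : Function.Injective φa := φa.toRingHom.injective
  have hinjT : Function.Injective (Algebra.TensorProduct.map (AlgHom.id k K) φa) :=
    Module.Flat.lTensor_preserves_injective_linearMap (M := K) φa.toLinearMap hinj
  exact isReduced_of_injective _ hinjT

end T7683

end Helpers

/-- Let X be locally of finite type over a field k with normalization ν : X^ν → X, K/k a field
extension, y ∈ X_K a point with image x ∈ X. Assume O_{X,x} is reduced of dimension one, κ(x')/k is
separable for every x' ∈ X^ν over x, and dim O_{X_K,y} = 1. Then the δ-invariant of X at x equals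
the δ-invariant of X_K at y. (The published statement needs only O_{X,x} reduced; this row takes X
integral so that X^ν is the normalization of an integral scheme.) -/
theorem result (k : Type u) [Field k] (X : Scheme.{u}) [X.Over (Spec (CommRingCat.of k))]
    [IsIntegral X] [LocallyOfFiniteType (X ↘ (Spec (CommRingCat.of k)))]
    [QuasiCompact (X.fromSpecStalk (genericPoint X))] [QuasiSeparated (X.fromSpecStalk (genericPoint X))]
    (K : Type u) [Field K] [Algebra k K] (y : ↥(Curv2.bc k X K))
    (hdx : ringKrullDim (X.presheaf.stalk ((Curv2.bcFst k X K).base y)) = 1)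
    (hsep : letI : (Curv2.normalization X).Over (Spec (CommRingCat.of k)) :=
        ⟨Curv2.normalizationι X ≫ (X ↘ (Spec (CommRingCat.of k)))⟩
      ∀ x' : ↥(Curv2.normalization X), (Curv2.normalizationι X).base x' = (Curv2.bcFst k X K).base y →
        GeometricallyReduced (Spec.map (CommRingCat.ofHom (Curv2.resMap k (Curv2.normalization X) x'))))
    (hdy : ringKrullDim ((Curv2.bc k X K).presheaf.stalk y) = 1) :
    Curv2.deltaInv (X.presheaf.stalk ((Curv2.bcFst k X K).base y)) =
      Curv2.deltaInv ((Curv2.bc k X K).presheaf.stalk y) := by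
  exact T7683.main7683 k X K y hdx hsep hdy

end Groth.Agent.S7683
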