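import Groth.Statements.S7617
import Groth.Agent.Lib.Helper39.GeomRegDVR.Ring
import Groth.Agent.Lib.Helper39.GeomRegDVR.Sch
import Groth.Agent.Lib.Helper62.BCStalk
import Groth.Agent.S7683
import Groth.Agent.S7606
import Groth.Agent.S2536
-- import your own Groth.Agent.* helpers here

set_option autoImplicit false
universe u
open CategoryTheory CategoryTheory.Limits AlgebraicGeometry
open Variety

namespace Groth.Agent.S7617

section Helpers

set_option autoImplicit false
set_option linter.style.haveILetI false
open CategoryTheory CategoryTheory.Limits AlgebraicGeometry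
open scoped TensorProduct

namespace T7617

attribute [local instance] Curv2.stalkAlgebra

open Groth.Agent.Lib.Helper39 Groth.Agent.Lib.Helper62

theorem key (k : Type u) [Field k] (X : Scheme.{u}) [X.Over (Spec (CommRingCat.of k))] [IsIntegral X]
    [LocallyOfFiniteType (X ↘ (Spec (CommRingCat.of k)))]
    [QuasiCompact (X.fromSpecStalk (genericPoint X))] [QuasiSeparated (X.fromSpecStalk (genericPoint X))]
    (x' : ↥(Curv2.normalization X))
    (hdim : ringKrullDim ↥(X.presheaf.stalk (Curv2.normalizationι X x')) = 1)
    (hsep : letI : (Curv2.normalization X).Over (Spec (CommRingCat.of k)) :=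
        ⟨Curv2.normalizationι X ≫ (X ↘ (Spec (CommRingCat.of k)))⟩
      GeometricallyReduced (Spec.map (CommRingCat.ofHom (Curv2.resMap k (Curv2.normalization X) x')))) :
    letI : (Curv2.normalization X).Over (Spec (CommRingCat.of k)) :=
        ⟨Curv2.normalizationι X ≫ (X ↘ (Spec (CommRingCat.of k)))⟩
    IsRegularLocalRing ((Curv2.normalization X).presheaf.stalk x') ∧
      ∀ (K : Type u) [Field K] [Algebra k K],
        _root_.IsReduced (K ⊗[k] IsLocalRing.ResidueField ((Curv2.normalization X).presheaf.stalk x')) := by
  letI : (Curv2.normalization X).Over (Spec (CommRingCat.of k)) :=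
    ⟨Curv2.normalizationι X ≫ (X ↘ (Spec (CommRingCat.of k)))⟩
  haveI hLN : IsLocallyNoetherian (X.fromSpecStalk (genericPoint X)).normalization :=
    GeomRegDVR.isLocallyNoetherian_normalization_of_lft X (X ↘ (Spec (CommRingCat.of k)))
  refine ⟨GeomRegDVR.isRegularLocalRing_stalk X x' hdim, ?_⟩
  intro K _ _
  letI algκ : Algebra k ((Curv2.normalization X).residueField x') :=
    (Curv2.resMap k (Curv2.normalization X) x').toAlgebra
  haveI : GeometricallyReduced (Spec.map (CommRingCat.ofHom
      (algebraMap k ((Curv2.normalization X).residueField x')))) := hsep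
  have hred : _root_.IsReduced (K ⊗[k] ((Curv2.normalization X).residueField x')) :=
    Groth.Agent.S7683.T7683.isReduced_tensor_of_geometricallyReduced k K _
  let π : (Curv2.normalization X).presheaf.stalk x' →ₐ[k] (Curv2.normalization X).residueField x' :=
    { ((Curv2.normalization X).residue x').hom with commutes' := fun c => rfl }
  exact GeomRegDVR.isReduced_tensor_residueField k _ _ π
    (fun a ha => (IsLocalRing.residue_eq_zero_iff a).mpr ha) K hred

theorem main7617 (k : Type u) [Field k] (X : Scheme.{u}) [X.Over (Spec (CommRingCat.of k))] [IsIntegral X] [LocallyOfFiniteType (X ↘ (Spec (CommRingCat.of k)))]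
    [QuasiCompact (X.fromSpecStalk (genericPoint X))] [QuasiSeparated (X.fromSpecStalk (genericPoint X))]
    (x : ↥X) (hdim : ringKrullDim ↥(X.presheaf.stalk x) = 1)
    (hsep : letI : (Curv2.normalization X).Over (Spec (CommRingCat.of k)) := ⟨Curv2.normalizationι X ≫ (X ↘ (Spec (CommRingCat.of k)))⟩
      ∀ x' : ↥(Curv2.normalization X), Curv2.normalizationι X x' = x →
        GeometricallyReduced (Spec.map (CommRingCat.ofHom (Curv2.resMap k (Curv2.normalization X) x')))) :
    Curv2.IsGeomReducedAt k X x ∧
      letI : (Curv2.normalization X).Over (Spec (CommRingCat.of k)) := ⟨Curv2.normalizationι X ≫ (X ↘ (Spec (CommRingCat.of k)))⟩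
      ∀ x' : ↥(Curv2.normalization X), Curv2.normalizationι X x' = x → Curv2.IsGeomRegularAt k (Curv2.normalization X) x' := by
  letI : (Curv2.normalization X).Over (Spec (CommRingCat.of k)) :=
    ⟨Curv2.normalizationι X ≫ (X ↘ (Spec (CommRingCat.of k)))⟩
  haveI hLN : IsLocallyNoetherian (Curv2.normalization X) :=
    GeomRegDVR.isLocallyNoetherian_normalization_of_lft X (X ↘ (Spec (CommRingCat.of k)))
  refine ⟨?_, ?_⟩
  · obtain ⟨x', hx''⟩ : ∃ x' : ↥(Curv2.normalization X), Curv2.normalizationι X x' = x :=
      GeomRegDVR.exists_point_over X x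
    subst hx''
    obtain ⟨hreg, hs⟩ := key k X x' hdim (hsep x' rfl)
    haveI := hreg
    haveI : Algebra.IsGeometricallyReduced k ((Curv2.normalization X).presheaf.stalk x') :=
      GeomRegDVR.isGeometricallyReduced k _ hs
    let f : X.presheaf.stalk (Curv2.normalizationι X x') →ₐ[k]
        (Curv2.normalization X).presheaf.stalk x' :=
      { ((Curv2.normalizationι X).stalkMap x').hom with
        commutes' := fun c => (GeomRegDVR.stalkMap_comp (Curv2.normalizationι X) x' c).symm }
    haveI : Algebra.IsGeometricallyReduced k (X.presheaf.stalk (Curv2.normalizationι X x')) :=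
      Algebra.IsGeometricallyReduced.of_injective f (GeomRegDVR.injective_stalkMap X x')
    intro K _ _ z hz
    obtain ⟨M, hM, hMc, ⟨e⟩⟩ := BCStalk.exists_prime_of_point (X ↘ Spec (CommRingCat.of k)) K z
      (Curv2.normalizationι X x') hz rfl
    haveI : _root_.IsReduced (K ⊗[k] X.presheaf.stalk (Curv2.normalizationι X x')) :=
      Groth.Agent.S2536.isReduced_tensorProduct_field k _ K
    exact isReduced_of_injective e.toRingHom e.injective
  · intro x' hx'
    subst hx'
    obtain ⟨hreg, hs⟩ := key k X x' hdim (hsep x' rfl)
    haveI := hreg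
    have h := Groth.Agent.S7606.result k (Curv2.normalization X) x'
    exact h.1.mpr (h.2.mpr (GeomRegDVR.isGeometricallyRegular k _ hs))

end T7617

end Helpers

/-- Let X be an integral scheme locally of finite type over a field k, ν : X^ν → X its normalization,
and x a point of X with dim O_{X, x} = 1 such that for every point x' of X^ν over x the residue
field κ(x') is separable over k (Spec κ(x') → Spec k geometrically reduced). Then X is geometrically
reduced at x, and at every point of X^ν over x the normalization is geometrically regular. (The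
published statement covers every scheme locally of finite type over k with reduced local ring at x,
using the normalization of a possibly non-integral scheme; this row takes X integral.) -/
theorem result (k : Type u) [Field k] (X : Scheme.{u}) [X.Over (Spec (CommRingCat.of k))] [IsIntegral X] [LocallyOfFiniteType (X ↘ (Spec (CommRingCat.of k)))]
    [QuasiCompact (X.fromSpecStalk (genericPoint X))] [QuasiSeparated (X.fromSpecStalk (genericPoint X))]
    (x : ↥X) (hdim : ringKrullDim ↥(X.presheaf.stalk x) = 1)
    (hsep : letI : (Curv2.normalization X).Over (Spec (CommRingCat.of k)) := ⟨Curv2.normalizationι X ≫ (X ↘ (Spec (CommRingCat.of k)))⟩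
      ∀ x' : ↥(Curv2.normalization X), Curv2.normalizationι X x' = x →
        GeometricallyReduced (Spec.map (CommRingCat.ofHom (Curv2.resMap k (Curv2.normalization X) x')))) :
    Curv2.IsGeomReducedAt k X x ∧
      letI : (Curv2.normalization X).Over (Spec (CommRingCat.of k)) := ⟨Curv2.normalizationι X ≫ (X ↘ (Spec (CommRingCat.of k)))⟩
      ∀ x' : ↥(Curv2.normalization X), Curv2.normalizationι X x' = x → Curv2.IsGeomRegularAt k (Curv2.normalization X) x' := by
  exact T7617.main7617 k X x hdim hsep

end Groth.Agent.S7617
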