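import Groth.Statements.S7618
import Mathlib.RingTheory.Artinian.Ring
import Mathlib.AlgebraicGeometry.Properties
import Mathlib.RingTheory.IntegralClosure.IsIntegralClosure.Basic
-- import your own Groth.Agent.* helpers here

set_option autoImplicit false
universe u
open CategoryTheory CategoryTheory.Limits AlgebraicGeometry
open Variety

namespace Groth.Agent.S7618

theorem isField_of_artinian_reduced_of_idem (A : Type*) [CommRing A] [IsArtinianRing A]
    [_root_.IsReduced A] [Nontrivial A] (h : ∀ e : A, IsIdempotentElem e → e = 0 ∨ e = 1) :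
    IsField A := by
  classical
  have hsub : Subsingleton (MaximalSpectrum A) := by
    refine ⟨fun m₁ m₂ => ?_⟩
    by_contra hne
    let e : A := (IsArtinianRing.equivPi A).symm (Pi.single m₁ 1)
    have he : IsIdempotentElem e := by
      change e * e = e
      rw [← map_mul, ← Pi.single_mul, one_mul]
    have hm₁ : Nontrivial (A ⧸ m₁.asIdeal) := Ideal.Quotient.nontrivial_iff.2 m₁.isMaximal.ne_top
    have hm₂ : Nontrivial (A ⧸ m₂.asIdeal) := Ideal.Quotient.nontrivial_iff.2 m₂.isMaximal.ne_top
    rcases h e he with h0 | h1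
    · have := congrArg (IsArtinianRing.equivPi A) h0
      rw [AlgEquiv.apply_symm_apply, map_zero] at this
      have := congrFun this m₁
      simp at this
    · have := congrArg (IsArtinianRing.equivPi A) h1
      rw [AlgEquiv.apply_symm_apply, map_one] at this
      have := congrFun this m₂
      rw [Pi.single_eq_of_ne (Ne.symm hne)] at this
      simp at this
  obtain ⟨m, hm⟩ := Ideal.exists_maximal A
  haveI : IsLocalRing A := IsLocalRing.of_unique_max_ideal
    ⟨m, hm, fun I hI => congrArg MaximalSpectrum.asIdeal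
      (Subsingleton.elim (⟨I, hI⟩ : MaximalSpectrum A) ⟨m, hm⟩)⟩
  exact IsArtinianRing.isField_of_isReduced_of_isLocalRing A

/-- Let X be a connected reduced scheme over a field k. Then the global functions on X that are integral
over k form a field. -/
theorem result (k : Type u) [Field k] (X : Scheme.{u}) [X.Over (Spec (CommRingCat.of k))] [ConnectedSpace ↥X] [IsReduced X] :
    letI := ((X ↘ (Spec (CommRingCat.of k))).appTop.hom.comp (Scheme.ΓSpecIso (CommRingCat.of k)).inv.hom : k →+* Γ(X, ⊤)).toAlgebra
    IsField ↥(integralClosure k ↑Γ(X, ⊤)) := by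
  letI := ((X ↘ (Spec (CommRingCat.of k))).appTop.hom.comp
    (Scheme.ΓSpecIso (CommRingCat.of k)).inv.hom : k →+* Γ(X, ⊤)).toAlgebra
  -- `Γ(X, ⊤)` is nontrivial
  haveI hnt : Nontrivial Γ(X, ⊤) := by
    refine ⟨⟨0, 1, fun h01 => ?_⟩⟩
    have h1 : X.basicOpen (1 : Γ(X, ⊤)) = ⊤ := X.basicOpen_one
    rw [← h01, X.basicOpen_zero] at h1
    obtain ⟨x⟩ : Nonempty X := inferInstance
    have : x ∈ (⊥ : X.Opens) := h1 ▸ (trivial : x ∈ (⊤ : X.Opens))
    exact this
  -- idempotents of `Γ(X, ⊤)` are trivial
  have hidem : ∀ e : Γ(X, ⊤), IsIdempotentElem e → e = 0 ∨ e = 1 := by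
    intro e he
    have hdisj : X.basicOpen e ⊓ X.basicOpen (1 - e) = ⊥ := by
      rw [← X.basicOpen_mul, mul_sub, mul_one, he.eq, sub_self, X.basicOpen_zero]
    have hcov : X.basicOpen e ⊔ X.basicOpen (1 - e) = ⊤ := by
      rw [eq_top_iff]
      have := X.basicOpen_add_le (f := e) (g := 1 - e)
      rwa [add_sub_cancel, X.basicOpen_one] at this
    have hclopen : IsClopen (X.basicOpen e : Set X) := by
      refine ⟨?_, (X.basicOpen e).2⟩
      have : (X.basicOpen e : Set X)ᶜ = (X.basicOpen (1 - e) : Set X) := by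
        have h1 : (X.basicOpen e : Set X) ∩ (X.basicOpen (1 - e) : Set X) = ∅ := by
          rw [← TopologicalSpace.Opens.coe_inf, hdisj]; rfl
        have h2 : (X.basicOpen e : Set X) ∪ (X.basicOpen (1 - e) : Set X) = Set.univ := by
          rw [← TopologicalSpace.Opens.coe_sup, hcov]; rfl
        ext x
        constructor
        · intro hx
          have : x ∈ (X.basicOpen e : Set X) ∪ (X.basicOpen (1 - e) : Set X) := h2 ▸ Set.mem_univ x
          exact this.resolve_left hx
        · intro hx hx'
          have : x ∈ (X.basicOpen e : Set X) ∩ (X.basicOpen (1 - e) : Set X) := ⟨hx', hx⟩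
          rw [h1] at this
          exact this
      rw [← isOpen_compl_iff, this]
      exact (X.basicOpen (1 - e)).2
    rcases isClopen_iff.1 hclopen with h0 | h1
    · left
      have : X.basicOpen e = ⊥ := TopologicalSpace.Opens.ext h0
      exact (basicOpen_eq_bot_iff e).1 this
    · right
      have : X.basicOpen e = ⊤ := TopologicalSpace.Opens.ext h1
      rw [this, top_inf_eq] at hdisj
      have := (basicOpen_eq_bot_iff (1 - e)).1 hdisj
      exact (sub_eq_zero.1 this).symm
  refine ⟨⟨0, 1, fun h => hnt.exists_pair_ne.elim fun a ⟨b, hab⟩ => ?_⟩, mul_comm, ?_⟩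
  · have h01 : (0 : Γ(X, ⊤)) = 1 := congrArg Subtype.val h
    exact hab (by rw [← mul_one a, ← mul_one b, ← h01, mul_zero, mul_zero])
  · intro f hf
    let A : Subalgebra k Γ(X, ⊤) := Algebra.adjoin k {(f : Γ(X, ⊤))}
    have hfg : A.toSubmodule.FG := f.2.fg_adjoin_singleton
    haveI : Module.Finite k A := Module.Finite.iff_fg.2 hfg
    haveI : IsArtinianRing A := IsArtinianRing.of_finite k A
    haveI : _root_.IsReduced A := isReduced_of_injective A.val Subtype.val_injective
    haveI : Nontrivial A := ⟨⟨0, 1, fun h => zero_ne_one (congrArg Subtype.val h)⟩⟩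
    have hA : IsField A := by
      apply isField_of_artinian_reduced_of_idem
      intro e he
      have he' : IsIdempotentElem (e : Γ(X, ⊤)) := congrArg Subtype.val he
      rcases hidem _ he' with h0 | h1
      · left; exact Subtype.ext h0
      · right; exact Subtype.ext h1
    have hf' : (⟨f, Algebra.subset_adjoin (Set.mem_singleton _)⟩ : A) ≠ 0 := by
      intro h
      apply hf
      have h' : (f : Γ(X, ⊤)) = 0 := congrArg Subtype.val h
      exact Subtype.ext h'
    obtain ⟨g, hg⟩ := hA.mul_inv_cancel hf'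
    have hgint : IsIntegral k (g : Γ(X, ⊤)) := IsIntegral.of_mem_of_fg A hfg _ g.2
    have hg' : (f : Γ(X, ⊤)) * (g : Γ(X, ⊤)) = 1 := congrArg Subtype.val hg
    exact ⟨⟨g, hgint⟩, Subtype.ext hg'⟩

end Groth.Agent.S7618
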