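import Groth.Statements.S7619
import Mathlib.RingTheory.LocalRing.Module
import Mathlib.LinearAlgebra.Dimension.StrongRankCondition
import Mathlib.RingTheory.Support
-- import your own Groth.Agent.* helpers here

set_option autoImplicit false
universe u
open CategoryTheory CategoryTheory.Limits AlgebraicGeometry
open scoped TensorProduct
open Variety

namespace Groth.Agent.S7619

/-- Let A → B be a finite type ring map (a finite type morphism of affine schemes), q a prime of B and r
= dim_{κ(q)} Ω_{B/A} ⊗_B κ(q). Then there is an A-algebra homomorphism A[x_1, …, x_r] → B for which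
B is unramified over A[x_1, …, x_r] at q. -/
theorem result (A B : Type u) [CommRing A] [CommRing B] [Algebra A B] [Algebra.FiniteType A B]
    (q : Ideal B) [q.IsPrime] (r : ℕ) (hr : Module.finrank q.ResidueField (q.ResidueField ⊗[B] Ω[B⁄A]) = r) :
    ∃ φ : MvPolynomial (Fin r) A →ₐ[A] B,
      letI := φ.toRingHom.toAlgebra
      Algebra.IsUnramifiedAt (MvPolynomial (Fin r) A) q := by
  classical
  -- the elements `1 ⊗ D b` span the fibre of the differentials
  let s : Set (q.ResidueField ⊗[B] Ω[B⁄A]) :=
    Set.range fun b : B => (1 : q.ResidueField) ⊗ₜ[B] KaehlerDifferential.D A B b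
  have hs : Submodule.span q.ResidueField s = ⊤ := by
    rw [eq_top_iff]
    rintro x -
    induction x using TensorProduct.induction_on with
    | zero => exact Submodule.zero_mem _
    | add x y hx hy => exact Submodule.add_mem _ hx hy
    | tmul c ω =>
      have hω : ω ∈ Submodule.span B (Set.range (KaehlerDifferential.D A B)) := by
        rw [KaehlerDifferential.span_range_derivation]; trivial
      induction hω using Submodule.span_induction with
      | mem y hy =>
        obtain ⟨b, rfl⟩ := hy
        have : c ⊗ₜ[B] KaehlerDifferential.D A B b =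
            c • ((1 : q.ResidueField) ⊗ₜ[B] KaehlerDifferential.D A B b) := by
          rw [TensorProduct.smul_tmul', smul_eq_mul, mul_one]
        rw [this]
        exact Submodule.smul_mem _ _ (Submodule.subset_span ⟨b, rfl⟩)
      | zero => rw [TensorProduct.tmul_zero]; exact Submodule.zero_mem _
      | add y z _ _ hy hz => rw [TensorProduct.tmul_add]; exact Submodule.add_mem _ hy hz
      | smul b y _ hy =>
        have : c ⊗ₜ[B] (b • y) = algebraMap B q.ResidueField b • (c ⊗ₜ[B] y) := by
          rw [TensorProduct.smul_tmul', ← TensorProduct.smul_tmul, smul_eq_mul, Algebra.smul_def]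
        rw [this]
        exact Submodule.smul_mem _ _ hy
  obtain ⟨f, hfs, hfspan, -⟩ := Submodule.exists_fun_fin_finrank_span_eq q.ResidueField s
  have hrank : Module.finrank q.ResidueField (Submodule.span q.ResidueField s) = r := by
    rw [hs, finrank_top, hr]
  choose b hb using hfs
  let φ : MvPolynomial (Fin r) A →ₐ[A] B := MvPolynomial.aeval fun i => b (Fin.cast hrank.symm i)
  refine ⟨φ, ?_⟩
  letI := φ.toRingHom.toAlgebra
  haveI : IsScalarTower A (MvPolynomial (Fin r) A) B :=
    IsScalarTower.of_algebraMap_eq fun a => (φ.commutes a).symm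
  haveI : Algebra.FiniteType (MvPolynomial (Fin r) A) B :=
    Algebra.FiniteType.of_restrictScalars_finiteType A (MvPolynomial (Fin r) A) B
  change (⟨q, inferInstance⟩ : PrimeSpectrum B) ∈ Algebra.unramifiedLocus (MvPolynomial (Fin r) A) B
  rw [Algebra.unramifiedLocus_eq_compl_support, Set.mem_compl_iff,
    Module.mem_support_iff_nontrivial_residueField_tensorProduct, not_nontrivial_iff_subsingleton]
  -- the base change of the canonical surjection
  let g : Ω[B⁄A] →ₗ[B] Ω[B⁄MvPolynomial (Fin r) A] :=
    KaehlerDifferential.map A (MvPolynomial (Fin r) A) B B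
  have hg : Function.Surjective g := KaehlerDifferential.map_surjective A _ B
  let G : q.ResidueField ⊗[B] Ω[B⁄A] →ₗ[q.ResidueField] q.ResidueField ⊗[B] Ω[B⁄MvPolynomial (Fin r) A] :=
    g.baseChange q.ResidueField
  have hG : Function.Surjective G := LinearMap.lTensor_surjective _ hg
  have hG0 : G = 0 := by
    apply LinearMap.ext_on_range (v := f)
    · rw [hfspan, hs]
    · intro i
      rw [← hb i, LinearMap.zero_apply]
      change g.baseChange q.ResidueField (1 ⊗ₜ[B] KaehlerDifferential.D A B (b i)) = 0
      rw [LinearMap.baseChange_tmul]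
      have h1 : b i = algebraMap (MvPolynomial (Fin r) A) B (MvPolynomial.X (Fin.cast hrank i)) := by
        change b i = φ (MvPolynomial.X (Fin.cast hrank i))
        simp [φ]
      have h2 : g (KaehlerDifferential.D A B (b i)) = 0 := by
        change KaehlerDifferential.map A (MvPolynomial (Fin r) A) B B
          (KaehlerDifferential.D A B (b i)) = 0
        rw [KaehlerDifferential.map_D, Algebra.algebraMap_self, RingHom.id_apply, h1,
          Derivation.map_algebraMap]
      rw [h2, TensorProduct.tmul_zero]
  refine ⟨fun x y => ?_⟩
  obtain ⟨x', rfl⟩ := hG x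
  obtain ⟨y', rfl⟩ := hG y
  rw [hG0]; rfl

end Groth.Agent.S7619
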