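import Groth.Statements.S7620
import Groth.Agent.S10843
import Mathlib.RingTheory.LocalRing.ResidueField.Ideal
import Mathlib.RingTheory.TensorProduct.MvPolynomial
-- import your own Groth.Agent.* helpers here

set_option autoImplicit false
universe u
open CategoryTheory CategoryTheory.Limits AlgebraicGeometry
open scoped TensorProduct
open Variety

namespace Groth.Agent.S7620

theorem exists_frac {A : Type u} [CommRing A] (p : Ideal A) [p.IsPrime] (x : p.ResidueField) :
    ∃ a s : A, algebraMap A p.ResidueField s ≠ 0 ∧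
      x * algebraMap A p.ResidueField s = algebraMap A p.ResidueField a := by
  obtain ⟨y, rfl⟩ := IsLocalRing.residue_surjective (R := Localization.AtPrime p) x
  obtain ⟨a, s, rfl⟩ := IsLocalization.exists_mk'_eq p.primeCompl y
  refine ⟨a, s, ?_, ?_⟩
  · rw [Ne, Ideal.algebraMap_residueField_eq_zero]
    exact s.2
  · rw [IsScalarTower.algebraMap_apply A (Localization.AtPrime p) p.ResidueField,
      IsScalarTower.algebraMap_apply A (Localization.AtPrime p) p.ResidueField]
    change IsLocalRing.residue _ _ * IsLocalRing.residue _ _ = IsLocalRing.residue _ _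
    rw [← map_mul, IsLocalization.mk'_spec]

theorem exists_pure {A B : Type u} [CommRing A] [CommRing B] [Algebra A B] (p : Ideal A) [p.IsPrime]
    (c : p.ResidueField ⊗[A] B) : ∃ (x : p.ResidueField) (b : B), c = x ⊗ₜ[A] b := by
  induction c using TensorProduct.induction_on with
  | zero => exact ⟨0, 0, by simp⟩
  | tmul x b => exact ⟨x, b, rfl⟩
  | add c₁ c₂ h₁ h₂ =>
    obtain ⟨x₁, b₁, rfl⟩ := h₁
    obtain ⟨x₂, b₂, rfl⟩ := h₂
    obtain ⟨a₁, s₁, hs₁, e₁⟩ := exists_frac p x₁
    obtain ⟨a₂, s₂, hs₂, e₂⟩ := exists_frac p x₂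
    refine ⟨(algebraMap A p.ResidueField (s₁ * s₂))⁻¹, (s₂ * a₁) • b₁ + (s₁ * a₂) • b₂, ?_⟩
    rw [TensorProduct.tmul_add, ← TensorProduct.smul_tmul, ← TensorProduct.smul_tmul,
      Algebra.smul_def, Algebra.smul_def]
    have h1 : x₁ = algebraMap A p.ResidueField (s₂ * a₁) * (algebraMap A p.ResidueField (s₁ * s₂))⁻¹ := by
      rw [map_mul, map_mul, ← e₁]
      field_simp
    have h2 : x₂ = algebraMap A p.ResidueField (s₁ * a₂) * (algebraMap A p.ResidueField (s₁ * s₂))⁻¹ := by
      rw [map_mul, map_mul, ← e₂]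
      field_simp
    rw [← h1, ← h2]

/-- Let A → B be a finite type ring map (a finite type morphism of affine schemes X → S), p a prime of A
and suppose the fibre ring κ(p) ⊗_A B has Krull dimension d. Then there is an A-algebra homomorphism
π : A[t_1, …, t_d] → B such that the induced map of fibres κ(p) ⊗_A A[t_1, …, t_d] → κ(p) ⊗_A B is
finite. -/
theorem result (A B : Type u) [CommRing A] [CommRing B] [Algebra A B] [Algebra.FiniteType A B]
    (p : Ideal A) [p.IsPrime] (d : ℕ) (hd : ringKrullDim (p.ResidueField ⊗[A] B) = d) :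
    ∃ π : MvPolynomial (Fin d) A →ₐ[A] B,
      (Algebra.TensorProduct.map (AlgHom.id p.ResidueField p.ResidueField) π).toRingHom.Finite := by
  classical
  haveI : Nontrivial (p.ResidueField ⊗[A] B) := by
    by_contra hcon
    rw [not_nontrivial_iff_subsingleton] at hcon
    rw [ringKrullDim_eq_bot_of_subsingleton] at hd
    exact WithBot.bot_ne_coe hd
  obtain ⟨φ, hφfin, -⟩ := (Groth.Agent.S10843.result p.ResidueField (p.ResidueField ⊗[A] B) d).1 hd
  choose x b hxb using fun i : Fin d => exists_pure p (φ (MvPolynomial.X i))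
  refine ⟨MvPolynomial.aeval b, ?_⟩
  let h : MvPolynomial (Fin d) p.ResidueField →ₐ[p.ResidueField]
      p.ResidueField ⊗[A] MvPolynomial (Fin d) A :=
    MvPolynomial.aeval fun i => x i ⊗ₜ[A] MvPolynomial.X i
  have hcomp : (Algebra.TensorProduct.map (AlgHom.id p.ResidueField p.ResidueField)
      (MvPolynomial.aeval b : MvPolynomial (Fin d) A →ₐ[A] B)).comp h = φ := by
    apply MvPolynomial.algHom_ext
    intro i
    simp [h, hxb i]
  have : ((Algebra.TensorProduct.map (AlgHom.id p.ResidueField p.ResidueField)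
      (MvPolynomial.aeval b : MvPolynomial (Fin d) A →ₐ[A] B)).comp h).toRingHom.Finite := by
    rw [hcomp]; exact hφfin
  exact RingHom.Finite.of_comp_finite (f := h.toRingHom) this

end Groth.Agent.S7620
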