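import Groth.Statements.S7622
import Mathlib
import Groth.Agent.S2451
import Groth.Agent.Lib.Helper76.PSComplete

set_option autoImplicit false
universe u
open CategoryTheory CategoryTheory.Limits AlgebraicGeometry
open Variety

namespace Groth.Agent.S7622

open IsLocalRing in
/-- Core: given a complete Noetherian-type local `k`-algebra `B` (complete w.r.t. its maximal
ideal, which is generated by `b`), and a `k`-algebra section-like map `σ : κ →ₐ[k] B` from a field
`κ` such that `κ → B → B/m` is surjective, `B` is a quotient of a power series ring over `κ`. -/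
theorem exists_quotient_equiv_of_section (k κ B : Type u) [Field k] [Field κ] [Algebra k κ]
    [CommRing B] [Algebra k B] [IsLocalRing B] [IsAdicComplete (maximalIdeal B) B]
    (σ : κ →ₐ[k] B) (n : ℕ) (b : Fin n → B) (hb : ∀ i, b i ∈ maximalIdeal B)
    (hgen : Ideal.span (Set.range b) = maximalIdeal B)
    (hres : Function.Surjective ((Ideal.Quotient.mk (maximalIdeal B)).comp (σ : κ →+* B))) :
    ∃ (I : Ideal (MvPowerSeries (Fin n) κ)) (e : (MvPowerSeries (Fin n) κ ⧸ I) ≃ₐ[k] B),
      ∀ c : κ, e (Ideal.Quotient.mk I (MvPowerSeries.C c)) = σ c := by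
  letI : Algebra κ B := (σ : κ →+* B).toAlgebra
  haveI : IsScalarTower k κ B := IsScalarTower.of_algebraMap_eq (fun x => (σ.commutes x).symm)
  let φ0 : MvPowerSeries (Fin n) κ →ₐ[κ] B :=
    Groth.Agent.Lib.Helper76.PSComplete.evC (maximalIdeal B) b hb
  have hsurj0 : Function.Surjective φ0 :=
    Groth.Agent.Lib.Helper76.PSComplete.evC_surjective (maximalIdeal B) b hb hgen hres
  let φ : MvPowerSeries (Fin n) κ →ₐ[k] B := φ0.restrictScalars k
  have hsurj : Function.Surjective φ := hsurj0
  refine ⟨RingHom.ker φ, Ideal.quotientKerAlgEquivOfSurjective hsurj, fun c => ?_⟩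
  show φ0 (MvPowerSeries.C c) = σ c
  have : (MvPowerSeries.C c : MvPowerSeries (Fin n) κ) = algebraMap κ _ c := rfl
  rw [this, φ0.commutes]
  rfl

/-- Let A be a Noetherian local algebra over a field k (such as the local ring of a locally Noetherian
k-scheme at a point) whose residue field κ is a separable extension of k, meaning geometrically
reduced over k; κ need not be algebraic over k. Then there are n ≥ 0, an ideal I of κ[[x_1, …, x_n]]
and a k-algebra isomorphism e from κ[[x_1, …, x_n]]/I onto the completion A^∧ of A at its maximal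
ideal which induces the identity on residue fields: for every a in A, the value of e on the constant
power series whose value is the residue class of a is congruent to the image of a modulo the
extended maximal ideal of A^∧. -/
theorem result (k A : Type u) [Field k] [CommRing A] [Algebra k A]
    [IsNoetherianRing A] [IsLocalRing A] [Algebra.IsGeometricallyReduced k (IsLocalRing.ResidueField A)] :
    ∃ (n : ℕ) (I : Ideal (MvPowerSeries (Fin n) (IsLocalRing.ResidueField A)))
      (e : (MvPowerSeries (Fin n) (IsLocalRing.ResidueField A) ⧸ I) ≃ₐ[k]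
        AdicCompletion (IsLocalRing.maximalIdeal A) A),
      ∀ a : A, e (Ideal.Quotient.mk I (MvPowerSeries.C (IsLocalRing.residue A a))) -
          algebraMap A (AdicCompletion (IsLocalRing.maximalIdeal A) A) a ∈
        (IsLocalRing.maximalIdeal A).map (algebraMap A (AdicCompletion (IsLocalRing.maximalIdeal A) A)) := by
  classical
  haveI : Algebra.FormallySmooth k (IsLocalRing.ResidueField A) := Groth.Agent.S2451.result.mpr inferInstance
  have hbij := AdicCompletion.residueField_map_bijective A
  have hmax : IsLocalRing.maximalIdeal (AdicCompletion (IsLocalRing.maximalIdeal A) A) =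
      (IsLocalRing.maximalIdeal A).map (algebraMap A (AdicCompletion (IsLocalRing.maximalIdeal A) A)) :=
    AdicCompletion.maximalIdeal_eq_map
  -- the comparison map on residue fields, as a k-algebra map to the quotient
  let τ : IsLocalRing.ResidueField A →ₐ[k] AdicCompletion (IsLocalRing.maximalIdeal A) A ⧸
      IsLocalRing.maximalIdeal (AdicCompletion (IsLocalRing.maximalIdeal A) A) :=
    { toRingHom := IsLocalRing.ResidueField.map
        (algebraMap A (AdicCompletion (IsLocalRing.maximalIdeal A) A))
      commutes' := fun c => by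
        show IsLocalRing.ResidueField.map (algebraMap A (AdicCompletion (IsLocalRing.maximalIdeal A) A))
          (IsLocalRing.residue A (algebraMap k A c)) = _
        rw [IsLocalRing.ResidueField.map_residue, ← IsScalarTower.algebraMap_apply]
        rfl }
  obtain ⟨g, hg⟩ := Algebra.FormallySmooth.exists_mkₐ_comp_eq_of_isAdicComplete
    (R := k) (A := IsLocalRing.ResidueField A) (S := AdicCompletion (IsLocalRing.maximalIdeal A) A)
    (I := IsLocalRing.maximalIdeal (AdicCompletion (IsLocalRing.maximalIdeal A) A)) τ
  have hg' : ∀ x, Ideal.Quotient.mk (IsLocalRing.maximalIdeal (AdicCompletion (IsLocalRing.maximalIdeal A) A)) (g x) =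
      IsLocalRing.ResidueField.map (algebraMap A (AdicCompletion (IsLocalRing.maximalIdeal A) A)) x :=
    fun x => congrArg (fun ψ : IsLocalRing.ResidueField A →ₐ[k] AdicCompletion (IsLocalRing.maximalIdeal A) A ⧸
      IsLocalRing.maximalIdeal (AdicCompletion (IsLocalRing.maximalIdeal A) A) => ψ x) hg
  -- generators of the maximal ideal
  obtain ⟨n, x, hx⟩ := Submodule.fg_iff_exists_fin_generating_family.mp
    (IsLocalRing.maximalIdeal A).fg_of_isNoetherianRing
  have hxm : ∀ i, x i ∈ IsLocalRing.maximalIdeal A := fun i => by
    rw [← hx]; exact Submodule.subset_span ⟨i, rfl⟩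
  let b : Fin n → AdicCompletion (IsLocalRing.maximalIdeal A) A := fun i =>
    algebraMap A (AdicCompletion (IsLocalRing.maximalIdeal A) A) (x i)
  have hb : ∀ i, b i ∈ IsLocalRing.maximalIdeal (AdicCompletion (IsLocalRing.maximalIdeal A) A) := fun i => by
    rw [hmax]; exact Ideal.mem_map_of_mem _ (hxm i)
  have hgen : Ideal.span (Set.range b) = IsLocalRing.maximalIdeal (AdicCompletion (IsLocalRing.maximalIdeal A) A) := by
    have h1 : Ideal.map (algebraMap A (AdicCompletion (IsLocalRing.maximalIdeal A) A))
        (Ideal.span (Set.range x)) = Ideal.span (Set.range b) := by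
      rw [Ideal.map_span, ← Set.range_comp]
      rfl
    rw [hmax, ← h1]
    exact congrArg (Ideal.map (algebraMap A (AdicCompletion (IsLocalRing.maximalIdeal A) A))) hx
  have hres : Function.Surjective ((Ideal.Quotient.mk
      (IsLocalRing.maximalIdeal (AdicCompletion (IsLocalRing.maximalIdeal A) A))).comp
      (g : IsLocalRing.ResidueField A →+* AdicCompletion (IsLocalRing.maximalIdeal A) A)) := by
    intro y
    obtain ⟨c, hc⟩ := hbij.2 y
    exact ⟨c, (hg' c).trans hc⟩
  obtain ⟨I, e, he⟩ := exists_quotient_equiv_of_section k (IsLocalRing.ResidueField A)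
    (AdicCompletion (IsLocalRing.maximalIdeal A) A) g n b hb hgen hres
  refine ⟨n, I, e, fun a => ?_⟩
  rw [he, ← hmax, ← Ideal.Quotient.eq, hg']
  exact IsLocalRing.ResidueField.map_residue _ a

end Groth.Agent.S7622
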