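import Groth.Statements.S7624
import Mathlib
import Groth.Agent.Lib.Helper21.ValTrdegSch
import Groth.Agent.Lib.Helper21.IrrFibres
-- import your own Groth.Agent.* helpers here

set_option autoImplicit false
universe u
open CategoryTheory CategoryTheory.Limits AlgebraicGeometry
open Variety

namespace Groth.Agent.S7624
open Groth.Agent.Lib.Helper21 Groth.Agent.Lib.Helper21.FieldDim Groth.Agent.Lib.Helper21.IrrFibres Groth.Agent.Lib.Helper21.ValTrdeg

/-- Let R be a valuation ring, X an irreducible scheme and f : X → Spec R a surjective morphism locally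
of finite type. Then each irreducible component of the fibre of f over the closed point of Spec R
has Krull dimension equal to that of the fibre of f over the generic point. -/
theorem result (R : Type u) [CommRing R] [IsDomain R] [ValuationRing R]
    (X : Scheme.{u}) [IrreducibleSpace ↥X] (f : X ⟶ Spec (CommRingCat.of R)) [LocallyOfFiniteType f] [Surjective f]
    (Z : Set ↥(f.fiber (IsLocalRing.closedPoint R))) (hZ : Z ∈ irreducibleComponents ↥(f.fiber (IsLocalRing.closedPoint R))) :
    topologicalKrullDim ↥Z = topologicalKrullDim ↥(f.fiber (⟨⊥, Ideal.bot_prime⟩ : PrimeSpectrum R)) := by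
  classical
  let m : Spec (CommRingCat.of R) := IsLocalRing.closedPoint R
  set η : Spec (CommRingCat.of R) := (⟨⊥, Ideal.bot_prime⟩ : PrimeSpectrum R) with hη
  set ξ : X := genericPoint ↑X with hξdef
  have hξsp : ∀ x : X, ξ ⤳ x := fun x => (genericPoint_spec X).specializes (Set.mem_univ x)
  -- `f ξ = η`
  have hfξ : f ξ = η := by
    obtain ⟨x, hx⟩ := f.surjective η
    have h1 : f ξ ⤳ η := hx ▸ (hξsp x).map f.continuous
    have h2 : (f ξ).asIdeal ≤ (⊥ : Ideal R) := (PrimeSpectrum.le_iff_specializes _ _).mpr h1
    exact PrimeSpectrum.ext (le_bot_iff.mp h2)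
  have hfξ' : (f ξ).asIdeal = ⊥ := by rw [hfξ]
  -- dimension of the generic fibre
  have hgen : topologicalKrullDim ↥(f.fiber η) = ((tdR f ξ : ℕ) : WithBot ℕ∞) := by
    apply le_antisymm
    · rw [dim_fiber_le_iff]
      intro x hx
      have := tdR_le_of_specializes f (hξsp x) (hfξ.trans hx.symm)
      exact_mod_cast this
    · have := tdR_le_dim_fiber f ξ
      rw [hfξ] at this
      exact this
  rw [hgen]
  -- generic point of `Z`
  have hZcl := isClosed_of_mem_irreducibleComponents Z hZ
  obtain ⟨z, hz⟩ := QuasiSober.sober hZ.1 hZcl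
  rw [dim_eq_td_of_isGenericPoint (fibStr f m) hz, td_fibStr]
  set w : X := f.fiberι m z with hw
  have hfw : f w = m := by
    have : w ∈ Set.range (f.fiberι m) := ⟨z, rfl⟩
    rw [Scheme.Hom.range_fiberι] at this
    exact this
  have hle : tdR f w ≤ tdR f ξ := tdR_le_of_valuation (R := CommRingCat.of R) f (hξsp w) hfξ'
  obtain ⟨ξ', -, hξ'w, hfξ'w, hge⟩ := exists_between_tdR_le f (hξsp w)
  have hξ'eq : ξ' = w := by
    have hmem : ξ' ∈ Set.range (f.fiberι m) := by
      rw [Scheme.Hom.range_fiberι]
      exact hfξ'w.trans hfw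
    obtain ⟨z', rfl⟩ := hmem
    have hsp : z' ⤳ z := (f.fiberι m).isEmbedding.toIsInducing.specializes_iff.mp hξ'w
    have hmax := maximal_of_closure_singleton_mem_irreducibleComponents (x := z)
      (by rw [hz.def]; exact hZ)
    have := (hmax z' hsp).antisymm hsp
    rw [hw, this.eq]
  rw [hξ'eq] at hge
  have : tdR f w = tdR f ξ := le_antisymm hle hge
  rw [this]

end Groth.Agent.S7624
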