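import Groth.Statements.S7627
import Groth.Agent.Lib.Helper62.BCStalk2
import Mathlib

set_option autoImplicit false
set_option linter.style.haveILetI false
universe u
open CategoryTheory CategoryTheory.Limits AlgebraicGeometry
attribute [local instance] Curv2.resAlgebra
open scoped TensorProduct
open Variety

namespace Groth.Agent.S7627

open IsLocalRing Groth.Agent.Lib.Helper62

/-- the commutative algebra core: a flat local homomorphism `O → B` of Noetherian local rings of the
same dimension, with `B` a localisation of `K ⊗[k] O` and `K ⊗[k] κ(O)` reduced, satisfies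
`𝔪_O B = 𝔪_B`. -/
theorem local_main (k K O B : Type u) [Field k] [Field K] [Algebra k K] [CommRing O] [Algebra k O]
    [IsLocalRing O] [IsNoetherianRing O] [CommRing B] [IsLocalRing B] [IsNoetherianRing B]
    (can : K ⊗[k] O →+* B)
    (hloc : letI := can.toAlgebra
      IsLocalization.AtPrime B ((maximalIdeal B).comap can))
    (φ : O →+* B) (hφ : ∀ a, can (1 ⊗ₜ a) = φ a) (hflat : φ.Flat) [IsLocalHom φ]
    (hdim : ringKrullDim O = ringKrullDim B)
    (hred : IsReduced (K ⊗[k] ResidueField O)) :
    Ideal.map φ (maximalIdeal O) = maximalIdeal B := by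
  set I : Ideal B := Ideal.map φ (maximalIdeal O) with hI
  have hIle : I ≤ maximalIdeal B := ((IsLocalRing.local_hom_TFAE φ).out 0 2).mp ‹IsLocalHom φ›
  -- `I` is a radical ideal
  have hrad : I.IsRadical := by
    let g : O →ₐ[k] ResidueField O := IsScalarTower.toAlgHom k O (ResidueField O)
    have hg : Function.Surjective g := IsLocalRing.residue_surjective
    let ψ : K ⊗[k] O →ₐ[k] K ⊗[k] ResidueField O :=
      Algebra.TensorProduct.map (AlgHom.id k K) g
    have hker : RingHom.ker ψ = (RingHom.ker g).map
        (Algebra.TensorProduct.includeRight : O →ₐ[k] K ⊗[k] O) :=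
      Algebra.TensorProduct.lTensor_ker g hg
    have hkerg : RingHom.ker g = maximalIdeal O := IsLocalRing.ker_residue
    have hJrad : (RingHom.ker ψ).IsRadical := by
      intro t ht
      obtain ⟨n, hn⟩ := ht
      rw [RingHom.mem_ker, map_pow] at hn
      rw [RingHom.mem_ker]
      exact IsReduced.eq_zero _ ⟨n, hn⟩
    letI := can.toAlgebra
    haveI := hloc
    have hmap : I = (RingHom.ker ψ).map (algebraMap (K ⊗[k] O) B) := by
      rw [hker, hkerg, hI]
      apply le_antisymm
      · rw [Ideal.map_le_iff_le_comap]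
        intro a ha
        rw [Ideal.mem_comap, ← hφ a]
        exact Ideal.mem_map_of_mem _ (Ideal.mem_map_of_mem _ ha)
      · rw [Ideal.map_le_iff_le_comap, Ideal.map_le_iff_le_comap]
        intro a ha
        simp only [Ideal.mem_comap]
        change can (1 ⊗ₜ a) ∈ _
        rw [hφ a]
        exact Ideal.mem_map_of_mem _ ha
    rw [hmap, ← Ideal.radical_eq_iff, ← IsLocalization.map_radical
      ((maximalIdeal B).comap can).primeCompl, hJrad.radical]
  -- the quotient `B ⧸ I` is a reduced local ring of dimension zero, hence a field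
  letI := φ.toAlgebra
  haveI : Module.Flat O B := hflat
  haveI : (maximalIdeal B).LiesOver (maximalIdeal O) :=
    ⟨(IsLocalRing.maximalIdeal_comap φ).symm⟩
  have key := Ideal.height_eq_height_add_of_liesOver_of_hasGoingDown
    (maximalIdeal O) (maximalIdeal B)
  have h1 : (maximalIdeal O).height = (maximalIdeal B).height := by
    have := hdim
    rw [← maximalIdeal_height_eq_ringKrullDim, ← maximalIdeal_height_eq_ringKrullDim] at this
    exact_mod_cast this
  have hfin : (maximalIdeal O).height ≠ ⊤ := Ideal.height_ne_top_of_isPrime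
  have h0 : ((maximalIdeal B).map (Ideal.Quotient.mk I)).height = 0 := by
    rw [← h1] at key
    have h2 : (maximalIdeal O).height + ((maximalIdeal B).map (Ideal.Quotient.mk I)).height =
        (maximalIdeal O).height + 0 := by
      rw [add_zero]
      exact key.symm
    exact ENat.add_right_injective_of_ne_top hfin h2
  have hne : I ≠ ⊤ := fun h => (IsLocalRing.maximalIdeal.isMaximal B).ne_top
    (top_le_iff.mp (h ▸ hIle))
  haveI : Nontrivial (B ⧸ I) := Ideal.Quotient.nontrivial_iff.mpr hne
  haveI : IsLocalRing (B ⧸ I) :=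
    IsLocalRing.of_surjective' (Ideal.Quotient.mk I) Ideal.Quotient.mk_surjective
  haveI : IsReduced (B ⧸ I) := (Ideal.isRadical_iff_quotient_reduced I).mp hrad
  have hmax : (maximalIdeal B).map (Ideal.Quotient.mk I) = maximalIdeal (B ⧸ I) := by
    have hloc' : IsLocalHom (Ideal.Quotient.mk I) :=
      IsLocalHom.of_surjective _ Ideal.Quotient.mk_surjective
    have h3 := IsLocalRing.maximalIdeal_comap (Ideal.Quotient.mk I)
    rw [← h3, Ideal.map_comap_of_surjective _ Ideal.Quotient.mk_surjective]
  haveI : Ring.KrullDimLE 0 (B ⧸ I) := by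
    rw [Ring.krullDimLE_iff, ← maximalIdeal_height_eq_ringKrullDim, ← hmax, h0]
    rfl
  have hF : IsField (B ⧸ I) := Ring.KrullDimLE.isField_of_isReduced
  exact IsLocalRing.eq_maximalIdeal (Ideal.Quotient.maximal_of_isField I hF)

theorem main (k : Type u) [Field k] (X : Scheme.{u}) [X.Over (Spec (CommRingCat.of k))] [LocallyOfFiniteType (X ↘ (Spec (CommRingCat.of k)))]
    (K : Type u) [Field K] [Algebra k K] (y : ↥(Curv2.bc k X K))
    (hdim : ringKrullDim ↥(X.presheaf.stalk (Curv2.bcFst k X K y)) = ringKrullDim ↥((Curv2.bc k X K).presheaf.stalk y))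
    (hred : _root_.IsReduced (X.residueField (Curv2.bcFst k X K y) ⊗[k] K)) :
    Ideal.map ((Curv2.bcFst k X K).stalkMap y).hom (IsLocalRing.maximalIdeal ↥(X.presheaf.stalk (Curv2.bcFst k X K y))) =
      IsLocalRing.maximalIdeal ↥((Curv2.bc k X K).presheaf.stalk y) := by
  letI := Curv2.stalkAlgebra k X (Curv2.bcFst k X K y)
  haveI : IsLocallyNoetherian X :=
    LocallyOfFiniteType.isLocallyNoetherian (X ↘ Spec (CommRingCat.of k))
  haveI : IsLocallyNoetherian (Curv2.bc k X K) :=
    LocallyOfFiniteType.isLocallyNoetherian (Curv2.bcSnd k X K)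
  obtain ⟨can, -, hcan, hloc⟩ := BCStalk.exists_canMap (X ↘ Spec (CommRingCat.of k)) K y rfl
  haveI : Flat (Spec.map (CommRingCat.ofHom (algebraMap k K))) :=
    Flat.SpecMap_iff.mpr (RingHom.Flat.of_isField (Field.toIsField k) _)
  haveI : Flat (Curv2.bcFst k X K) := inferInstance
  have hflat := Flat.stalkMap (Curv2.bcFst k X K) y
  have heq : Curv2.resAlgebra k X (Curv2.bcFst k X K y) =
      (inferInstance : Algebra k (ResidueField (X.presheaf.stalk (Curv2.bcFst k X K y)))) :=
    Algebra.algebra_ext _ _ (fun r => rfl)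
  have hred' : _root_.IsReduced
      (K ⊗[k] ResidueField (X.presheaf.stalk (Curv2.bcFst k X K y))) := by
    rw [heq] at hred
    haveI : _root_.IsReduced
      (ResidueField (X.presheaf.stalk (Curv2.bcFst k X K y)) ⊗[k] K) := hred
    exact isReduced_of_injective (Algebra.TensorProduct.comm k K
      (ResidueField (X.presheaf.stalk (Curv2.bcFst k X K y)))).toRingHom
      (Algebra.TensorProduct.comm k K _).injective
  exact local_main k K _ _ can hloc _ hcan hflat hdim hred'


/-- Let X be locally of finite type over a field k, K an extension field of k, y a point of X_K with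
image x in X. Assume dim O_{X, x} = dim O_{X_K, y} and that κ(x) ⊗_k K is reduced (for instance
κ(x)/k separable or K/k separable). Then m_x O_{X_K, y} = m_y. -/
theorem result (k : Type u) [Field k] (X : Scheme.{u}) [X.Over (Spec (CommRingCat.of k))] [LocallyOfFiniteType (X ↘ (Spec (CommRingCat.of k)))]
    (K : Type u) [Field K] [Algebra k K] (y : ↥(Curv2.bc k X K))
    (hdim : ringKrullDim ↥(X.presheaf.stalk (Curv2.bcFst k X K y)) = ringKrullDim ↥((Curv2.bc k X K).presheaf.stalk y))
    (hred : _root_.IsReduced (X.residueField (Curv2.bcFst k X K y) ⊗[k] K)) :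
    Ideal.map ((Curv2.bcFst k X K).stalkMap y).hom (IsLocalRing.maximalIdeal ↥(X.presheaf.stalk (Curv2.bcFst k X K y))) =
      IsLocalRing.maximalIdeal ↥((Curv2.bc k X K).presheaf.stalk y) := by
  exact main k X K y hdim hred

end Groth.Agent.S7627
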