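import Groth.Statements.S7634
import Groth.Agent.Lib.Helper62.JacMinor

set_option autoImplicit false
set_option linter.style.haveILetI false
universe u
open CategoryTheory CategoryTheory.Limits AlgebraicGeometry
open scoped TensorProduct
open Variety

namespace Groth.Agent.S7634

open MvPolynomial Algebra

/-- Step 2: the choice of relations and columns. -/
theorem exists_rels_cols (A B : Type u) [CommRing A] [CommRing B] [Algebra A B]
    (q : Ideal B) [q.IsPrime] (r n : ℕ)
    (hr : Module.finrank q.ResidueField (q.ResidueField ⊗[B] Ω[B⁄A]) = r)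
    (φ : MvPolynomial (Fin n) A →ₐ[A] B) (hφ : Function.Surjective φ) :
    ∃ (c : ℕ) (_ : c + r = n) (f : Fin c → MvPolynomial (Fin n) A) (cols : Fin c ↪ Fin n),
      (∀ j, φ (f j) = 0) ∧
      φ (Matrix.det (Matrix.of fun i j => pderiv (cols i) (f j))) ∉ q := by
  classical
  let G : Generators A B (Fin n) := Generators.ofAlgHom φ hφ
  let E := G.toExtension
  let κ := q.ResidueField
  have hval : ∀ p : MvPolynomial (Fin n) A, aeval G.val p = φ p := by
    intro p
    have : (aeval G.val : MvPolynomial (Fin n) A →ₐ[A] B) = φ := by
      ext i; simp [G, Generators.ofAlgHom, Generators.ofSurjective]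
    rw [this]
  let f' : κ ⊗[B] E.Cotangent →ₗ[κ] κ ⊗[B] E.CotangentSpace := E.cotangentComplex.baseChange κ
  let g' : κ ⊗[B] E.CotangentSpace →ₗ[κ] κ ⊗[B] Ω[B⁄A] := E.toKaehler.baseChange κ
  have hexact : Function.Exact f' g' := by
    have := lTensor_exact κ E.exact_cotangentComplex_toKaehler E.toKaehler_surjective
    exact this
  have hsurj : Function.Surjective g' := by
    have := LinearMap.lTensor_surjective κ E.toKaehler_surjective
    exact this
  let bB := G.cotangentSpaceBasis
  let bκ : Module.Basis (Fin n) κ (κ ⊗[B] E.CotangentSpace) := bB.baseChange κ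
  have hn : Module.finrank κ (κ ⊗[B] E.CotangentSpace) = n := by
    rw [Module.finrank_eq_card_basis bκ]; simp
  haveI : Module.Finite κ (κ ⊗[B] E.CotangentSpace) := Module.Finite.of_basis bκ
  let w : E.ker → κ ⊗[B] E.CotangentSpace := fun x =>
    (1 : κ) ⊗ₜ[B] E.cotangentComplex (Extension.Cotangent.mk x)
  have hrange : LinearMap.range f' = Submodule.span κ (Set.range w) := by
    apply le_antisymm
    · rintro _ ⟨z, rfl⟩
      induction z using TensorProduct.induction_on with
      | zero => simp
      | tmul a x =>
        obtain ⟨x, rfl⟩ := Extension.Cotangent.mk_surjective x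
        have : f' (a ⊗ₜ[B] Extension.Cotangent.mk x) = a • w x := by
          simp only [f', w, LinearMap.baseChange_tmul, TensorProduct.smul_tmul', smul_eq_mul,
            mul_one]
        rw [this]
        exact Submodule.smul_mem _ _ (Submodule.subset_span ⟨x, rfl⟩)
      | add x y hx hy => rw [map_add]; exact Submodule.add_mem _ hx hy
    · rw [Submodule.span_le]
      rintro _ ⟨x, rfl⟩
      exact ⟨(1 : κ) ⊗ₜ[B] Extension.Cotangent.mk x, by simp [f', w]⟩
  have hfr : Module.finrank κ (LinearMap.range f') + r = n := by
    have h1 := LinearMap.finrank_range_add_finrank_ker g'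
    rw [hn, LinearMap.range_eq_top.mpr hsurj, finrank_top, hr,
      (LinearMap.exact_iff.mp hexact)] at h1
    omega
  obtain ⟨F, hFs, -, hFli⟩ := Submodule.exists_fun_fin_finrank_span_eq κ (Set.range w)
  rw [hrange] at hfr
  generalize Module.finrank κ (Submodule.span κ (Set.range w)) = c at F hFs hFli hfr
  choose f hf using hFs
  refine ⟨c, hfr, fun j => (f j).1, ?_⟩
  let M : Matrix (Fin c) (Fin n) κ := fun j i => algebraMap B κ (φ (pderiv i ((f j).1 : MvPolynomial (Fin n) A)))
  have hMrow : ∀ j, M.row j = bκ.equivFun (F j) := by
    intro j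
    ext i
    rw [← hf j]
    simp only [M, w, Matrix.row, Module.Basis.equivFun_apply, bκ, Extension.cotangentComplex_mk]
    rw [Module.Basis.baseChange_repr_tmul]
    erw [Generators.cotangentSpaceBasis_repr_one_tmul]
    rw [hval, Algebra.smul_def, mul_one]
  have hMli : LinearIndependent κ M.row := by
    have h1 : LinearIndependent κ (fun j => bκ.equivFun (F j)) :=
      hFli.map' bκ.equivFun.toLinearMap bκ.equivFun.ker
    convert h1 using 1
    ext j : 1
    exact hMrow j
  obtain ⟨cols, hcols⟩ := Groth.Agent.Lib.Helper62.JacMinor.exists_cols_det_ne_zero M hMli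
  refine ⟨cols, fun j => ?_, ?_⟩
  · have h := (f j).2
    rw [← hval]
    exact h
  · intro hmem
    apply hcols
    have h0 : algebraMap B κ (φ (Matrix.det (Matrix.of fun i j =>
        pderiv (cols i) ((f j).1 : MvPolynomial (Fin n) A)))) = 0 :=
      Ideal.algebraMap_residueField_eq_zero.mpr hmem
    rw [← Matrix.det_transpose, ← h0]
    have h1 : algebraMap B κ (φ (Matrix.det (Matrix.of fun i j =>
        pderiv (cols i) ((f j).1 : MvPolynomial (Fin n) A)))) =
        ((algebraMap B κ).comp φ.toRingHom) (Matrix.det (Matrix.of fun i j =>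
        pderiv (cols i) ((f j).1 : MvPolynomial (Fin n) A))) := rfl
    rw [h1, RingHom.map_det]
    congr 1


/-- Let A → B be a finite type ring map, q a prime of B and r = dim_{κ(q)} Ω_{B/A} ⊗_B κ(q). Then there
are g in B with g not in q, an A-algebra D which is standard smooth of relative dimension r over A,
and a surjective A-algebra homomorphism D → B[1/g]; that is, the principal open D(g) containing q is
a closed subscheme of Spec D with D smooth of relative dimension r over A. (The published statement
is for a morphism X → S locally of finite type, a point x and an affine open V ⊆ S under it, and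
gives an affine open neighbourhood of x with a closed immersion over V into a scheme smooth of
relative dimension r over V; this row states the case X = Spec B, S = Spec A, with the neighbourhood
a principal open D(g) and the smooth scheme standard smooth.) -/
theorem result (A B : Type u) [CommRing A] [CommRing B] [Algebra A B] [Algebra.FiniteType A B]
    (q : Ideal B) [q.IsPrime] (r : ℕ) (hr : Module.finrank q.ResidueField (q.ResidueField ⊗[B] Ω[B⁄A]) = r) :
    ∃ g : B, g ∉ q ∧ ∃ (D : Type u) (_ : CommRing D) (_ : Algebra A D),
      Algebra.IsStandardSmoothOfRelativeDimension r A D ∧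
        ∃ φ : D →ₐ[A] Localization.Away g, Function.Surjective φ := by
  classical
  obtain ⟨n, φ, hφ⟩ := Algebra.FiniteType.iff_quotient_mvPolynomial''.mp ‹Algebra.FiniteType A B›
  obtain ⟨c, hcr, f, cols, hf0, hdet⟩ := exists_rels_cols A B q r n hr φ hφ
  let I : Ideal (MvPolynomial (Fin n) A) := Ideal.span (Set.range f)
  let Q₀ := MvPolynomial (Fin n) A ⧸ I
  let Pre : PreSubmersivePresentation A Q₀ (Fin n) (Fin c) :=
    PreSubmersivePresentation.naive cols cols.injective
  let jac : Q₀ := Pre.jacobian
  let ψ₀ : Q₀ →ₐ[A] B := Ideal.Quotient.liftₐ I φ (by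
    intro a ha
    refine Submodule.span_induction (p := fun a _ => φ a = 0) ?_ ?_ ?_ ?_ ha
    · rintro _ ⟨j, rfl⟩; exact hf0 j
    · simp
    · intro x y _ _ hx hy; rw [map_add, hx, hy, add_zero]
    · intro a x _ hx; rw [smul_eq_mul, map_mul, hx, mul_zero])
  have hψ₀ : Function.Surjective ψ₀ := by
    intro b
    obtain ⟨p, rfl⟩ := hφ b
    exact ⟨Ideal.Quotient.mk I p, rfl⟩
  have hjm : Pre.jacobiMatrix = Matrix.of fun i j => pderiv (cols i) (f j) := by
    refine Matrix.ext fun i j => ?_
    exact PreSubmersivePresentation.jacobiMatrix_apply Pre i j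
  have halg : ∀ p : MvPolynomial (Fin n) A, algebraMap Pre.Ring Q₀ p = Ideal.Quotient.mk I p := by
    intro p
    rw [Generators.algebraMap_apply]
    have : (aeval Pre.val : MvPolynomial (Fin n) A →ₐ[A] Q₀) = Ideal.Quotient.mkₐ A I := by
      ext i
      rw [aeval_X]
      rfl
    rw [this]
    rfl
  have hjac : ψ₀ jac = φ (Matrix.det (Matrix.of fun i j => pderiv (cols i) (f j))) := by
    have h1 : jac = algebraMap Pre.Ring Q₀ Pre.jacobiMatrix.det :=
      PreSubmersivePresentation.jacobian_eq_jacobiMatrix_det Pre
    rw [h1, hjm, halg]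
    rfl
  refine ⟨ψ₀ jac, by rw [hjac]; exact hdet, Localization.Away jac, inferInstance, inferInstance, ?_,
    IsLocalization.Away.mapₐ (Localization.Away jac) (Localization.Away (ψ₀ jac)) ψ₀ jac,
    IsLocalization.Away.mapₐ_surjective_of_surjective jac hψ₀⟩
  let QL : PreSubmersivePresentation Q₀ (Localization.Away jac) Unit Unit :=
    PreSubmersivePresentation.localizationAway (Localization.Away jac) jac
  let Sub : SubmersivePresentation A (Localization.Away jac) (Unit ⊕ Fin n) (Unit ⊕ Fin c) :=
    { toPreSubmersivePresentation := QL.comp Pre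
      jacobian_isUnit := by
        rw [PreSubmersivePresentation.comp_jacobian_eq_jacobian_smul_jacobian, Algebra.smul_def,
          IsUnit.mul_iff]
        refine ⟨IsLocalization.Away.algebraMap_isUnit jac, ?_⟩
        rw [PreSubmersivePresentation.localizationAway_jacobian]
        exact IsLocalization.Away.algebraMap_isUnit jac }
  apply Sub.isStandardSmoothOfRelativeDimension
  have h1 : Sub.dimension = QL.dimension + Pre.dimension :=
    PreSubmersivePresentation.dimension_comp_eq_dimension_add_dimension QL Pre
  rw [h1]
  have h2 : QL.dimension = 0 := Presentation.localizationAway_dimension_zero jac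
  have h3 : Pre.dimension = n - c := by
    simp [Presentation.dimension]
  rw [h2, h3]
  omega

end Groth.Agent.S7634
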