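import Groth.Statements.S7651
import Mathlib.Algebra.Group.Pi.Units
-- import your own Groth.Agent.* helpers here

set_option autoImplicit false
universe u
open CategoryTheory CategoryTheory.Limits AlgebraicGeometry
open Variety

namespace Groth.Agent.S7651

section helpers

variable {A : Type u} [CommRing A] [IsLocalRing A]

theorem prime_cases (hdim : ringKrullDim A = 1) (Q : Ideal A) (hQ : Q.IsPrime) :
    Q ∈ minimalPrimes A ∨ Q = IsLocalRing.maximalIdeal A := by
  have hdim1 : Ring.KrullDimLE 1 A := Ring.krullDimLE_iff.2 (by rw [hdim]; rfl)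
  rcases Ring.krullDimLE_one_iff.1 hdim1 Q hQ with h | h
  · exact Or.inl h
  · exact Or.inr (IsLocalRing.eq_maximalIdeal h)

theorem max_not_minimal (hdim : ringKrullDim A = 1) :
    IsLocalRing.maximalIdeal A ∉ minimalPrimes A := by
  intro hmin
  have h0 : Ring.KrullDimLE 0 A := by
    rw [Ring.krullDimLE_zero_iff]
    intro I hI
    have h1 : I ≤ IsLocalRing.maximalIdeal A := IsLocalRing.le_maximalIdeal hI.ne_top
    have h2 : IsLocalRing.maximalIdeal A ≤ I := hmin.2 ⟨hI, bot_le⟩ h1
    rw [le_antisymm h1 h2]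
    infer_instance
  have := Ring.krullDimLE_iff.1 h0
  rw [hdim] at this
  exact absurd this (by decide)

theorem le_radical_of_not_le_minimal (hdim : ringKrullDim A = 1) (I : Ideal A)
    (h : ∀ p ∈ minimalPrimes A, ¬ I ≤ p) : IsLocalRing.maximalIdeal A ≤ I.radical := by
  rw [Ideal.radical_eq_sInf]
  refine le_sInf ?_
  rintro Q ⟨hQ, hQprime⟩
  rcases prime_cases hdim Q hQprime with hmin | hmax
  · exact absurd hQ (h Q hmin)
  · rw [hmax]

theorem exists_pow_le_of_not_le_minimal [IsNoetherianRing A] (hdim : ringKrullDim A = 1)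
    (I : Ideal A) (h : ∀ p ∈ minimalPrimes A, ¬ I ≤ p) :
    ∃ N : ℕ, (IsLocalRing.maximalIdeal A) ^ N ≤ I :=
  Ideal.exists_pow_le_of_le_radical_of_fg (le_radical_of_not_le_minimal hdim I h)
    (IsNoetherian.noetherian _)

/-- part (1) -/
theorem radical_iff (hdim : ringKrullDim A = 1) (f : A) (hf : f ∈ IsLocalRing.maximalIdeal A) :
    (IsLocalRing.maximalIdeal A = (Ideal.span {f}).radical) ↔
      (∀ p ∈ minimalPrimes A, f ∉ p) := by
  constructor
  · intro h p hp hfp
    have hpp : p.IsPrime := hp.1.1
    have h1 : (Ideal.span {f}).radical ≤ p :=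
      hpp.radical_le_iff.2 ((Ideal.span_singleton_le_iff_mem p).2 hfp)
    rw [← h] at h1
    have h2 : p ≤ IsLocalRing.maximalIdeal A := IsLocalRing.le_maximalIdeal hpp.ne_top
    exact max_not_minimal hdim (le_antisymm h2 h1 ▸ hp)
  · intro h
    apply le_antisymm
    · apply le_radical_of_not_le_minimal hdim
      intro p hp hle
      exact h p hp ((Ideal.span_singleton_le_iff_mem p).1 hle)
    · exact (IsLocalRing.maximalIdeal.isMaximal A).isPrime.radical_le_iff.2
        ((Ideal.span_singleton_le_iff_mem _).2 hf)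

/-- part (0) -/
theorem exists_param [IsNoetherianRing A] (hdim : ringKrullDim A = 1) :
    ∃ f ∈ IsLocalRing.maximalIdeal A, ∀ p ∈ minimalPrimes A, f ∉ p := by
  classical
  by_contra hcon
  push Not at hcon
  have hfin := minimalPrimes.finite_of_isNoetherianRing A
  have hsub : ((IsLocalRing.maximalIdeal A : Ideal A) : Set A) ⊆
      ⋃ p ∈ (hfin.toFinset : Set (Ideal A)), ((id p : Ideal A) : Set A) := by
    intro x hx
    obtain ⟨p, hp, hxp⟩ := hcon x hx
    simp only [Set.Finite.coe_toFinset, Set.mem_iUnion, exists_prop]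
    exact ⟨p, hp, hxp⟩
  by_cases hne : (minimalPrimes A).Nonempty
  · obtain ⟨p0, hp0⟩ := hne
    obtain ⟨p, hp, hle⟩ := (Ideal.subset_union_prime (f := id) p0 p0
      (fun i hi _ _ => (hfin.mem_toFinset.1 hi).1.1)).1 hsub
    have hp' := hfin.mem_toFinset.1 hp
    have h2 : p ≤ IsLocalRing.maximalIdeal A := IsLocalRing.le_maximalIdeal hp'.1.1.ne_top
    exact max_not_minimal hdim (le_antisymm h2 hle ▸ hp')
  · rw [Set.not_nonempty_iff_eq_empty] at hne
    obtain ⟨p, hp, -⟩ := Ideal.exists_minimalPrimes_le (I := (⊥ : Ideal A))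
      (J := IsLocalRing.maximalIdeal A) bot_le
    have : p ∈ minimalPrimes A := hp
    rw [hne] at this
    exact this

/-- the product of the localizations at minimal primes -/
abbrev LL (A : Type u) [CommRing A] : Type u :=
  ∀ p : {p : PrimeSpectrum A // p.asIdeal ∈ minimalPrimes A}, Localization.AtPrime p.1.asIdeal

theorem finite_P [IsNoetherianRing A] :
    Finite {p : PrimeSpectrum A // p.asIdeal ∈ minimalPrimes A} := by
  have h := minimalPrimes.finite_of_isNoetherianRing A
  have : Finite {q : Ideal A // q ∈ minimalPrimes A} := h.to_subtype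
  refine Finite.of_injective (fun p : {p : PrimeSpectrum A // p.asIdeal ∈ minimalPrimes A} =>
    (⟨p.1.asIdeal, p.2⟩ : {q : Ideal A // q ∈ minimalPrimes A})) ?_
  intro p q hpq
  apply Subtype.ext
  apply PrimeSpectrum.ext
  exact congrArg Subtype.val hpq

theorem loc_mem_range [IsNoetherianRing A] (x : LL A)
    (p₀ : {p : PrimeSpectrum A // p.asIdeal ∈ minimalPrimes A}) :
    ∃ s : A, s ∉ p₀.1.asIdeal ∧ s • x ∈ LinearMap.range (Algebra.linearMap A (LL A)) := by
  classical
  have := finite_P (A := A)
  have : Fintype {p : PrimeSpectrum A // p.asIdeal ∈ minimalPrimes A} := Fintype.ofFinite _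
  have hu : ∀ q : {p : PrimeSpectrum A // p.asIdeal ∈ minimalPrimes A}, q ≠ p₀ → ∃ u : A,
      u ∉ p₀.1.asIdeal ∧ algebraMap A (Localization.AtPrime q.1.asIdeal) u = 0 := by
    intro q hq
    have hnle : ¬ q.1.asIdeal ≤ p₀.1.asIdeal := by
      intro hle
      have : p₀.1.asIdeal ≤ q.1.asIdeal := p₀.2.2 ⟨q.1.isPrime, bot_le⟩ hle
      exact hq (Subtype.ext (PrimeSpectrum.ext (le_antisymm hle this)))
    obtain ⟨t, htq, htp⟩ := SetLike.not_le_iff_exists.1 hnle
    have := q.1.isPrime
    have hrad := IsLocalization.AtPrime.radical_map_of_mem_minimalPrimes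
      (A := Localization.AtPrime q.1.asIdeal) q.1.asIdeal ⊥ q.2
    have htmem : algebraMap A (Localization.AtPrime q.1.asIdeal) t ∈
        (q.1.asIdeal).map (algebraMap A (Localization.AtPrime q.1.asIdeal)) :=
      Ideal.mem_map_of_mem _ htq
    rw [← hrad, Ideal.map_bot] at htmem
    obtain ⟨k, hk⟩ := htmem
    rw [Ideal.mem_bot, ← map_pow] at hk
    refine ⟨t ^ k, fun h => htp (p₀.1.isPrime.mem_of_pow_mem k h), hk⟩
  choose! u hu1 hu2 using hu
  set w : A := ∏ q ∈ Finset.univ.erase p₀, u q with hw
  have hwp : w ∉ p₀.1.asIdeal := by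
    rw [hw, p₀.1.isPrime.prod_mem_iff]
    rintro ⟨q, hq, hmem⟩
    exact hu1 q (Finset.ne_of_mem_erase hq) hmem
  have hwq : ∀ q : {p : PrimeSpectrum A // p.asIdeal ∈ minimalPrimes A}, q ≠ p₀ →
      algebraMap A (Localization.AtPrime q.1.asIdeal) w = 0 := by
    intro q hq
    rw [hw, map_prod]
    exact Finset.prod_eq_zero (Finset.mem_erase.2 ⟨hq, Finset.mem_univ q⟩) (hu2 q hq)
  obtain ⟨⟨b, v⟩, hbv⟩ := IsLocalization.surj p₀.1.asIdeal.primeCompl (x p₀)
  refine ⟨(v : A) * w, ?_, ?_⟩
  · intro h
    rcases p₀.1.isPrime.mem_or_mem h with h | h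
    · exact v.2 h
    · exact hwp h
  · rw [LinearMap.mem_range]
    refine ⟨w * b, ?_⟩
    rw [Algebra.linearMap_apply]
    funext q
    rw [Pi.algebraMap_apply, Pi.smul_apply, Algebra.smul_def]
    by_cases hq : q = p₀
    · subst hq
      simp only at hbv
      rw [map_mul, map_mul, ← hbv]
      ring
    · rw [map_mul, map_mul, hwq q hq]
      ring

theorem glob_mem_range [IsNoetherianRing A] (hdim : ringKrullDim A = 1) (a : A)
    (ha : a ∈ IsLocalRing.maximalIdeal A) (x : LL A) :
    ∃ N : ℕ, (algebraMap A (LL A) a) ^ N * x ∈ (algebraMap A (LL A)).range := by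
  set R : Submodule A (LL A) := LinearMap.range (Algebra.linearMap A (LL A)) with hR
  have hRmem : ∀ x : LL A, x ∈ R ↔ x ∈ (algebraMap A (LL A)).range := by
    intro x
    simp [hR, LinearMap.mem_range, RingHom.mem_range, Algebra.linearMap_apply]
  set ann : Ideal A := R.colon {x} with hann
  have hnot : ∀ p ∈ minimalPrimes A, ¬ ann ≤ p := by
    intro p hp hle
    obtain ⟨s, hs1, hs2⟩ := loc_mem_range x ⟨⟨p, hp.1.1⟩, hp⟩
    exact hs1 (hle (Submodule.mem_colon_singleton.2 hs2))
  obtain ⟨N, hN⟩ := exists_pow_le_of_not_le_minimal hdim ann hnot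
  refine ⟨N, ?_⟩
  have haN : a ^ N ∈ ann := hN (Ideal.pow_mem_pow ha N)
  have := Submodule.mem_colon_singleton.1 haN
  rw [Algebra.smul_def, map_pow] at this
  exact (hRmem _).1 this

theorem ker_killed [IsNoetherianRing A] (hdim : ringKrullDim A = 1) (a : A)
    (ha : a ∈ IsLocalRing.maximalIdeal A) (d : A) (hd : algebraMap A (LL A) d = 0) :
    ∃ N : ℕ, a ^ N * d = 0 := by
  set ann : Ideal A := Submodule.annihilator (Ideal.span {d}) with hann
  have hnot : ∀ p ∈ minimalPrimes A, ¬ ann ≤ p := by
    intro p hp hle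
    have hpp : p.IsPrime := hp.1.1
    have h0 : algebraMap A (Localization.AtPrime p) d = 0 := by
      have := congrFun hd ⟨⟨p, hpp⟩, hp⟩
      simpa [Pi.algebraMap_apply] using this
    obtain ⟨s, hs⟩ := (IsLocalization.map_eq_zero_iff p.primeCompl
      (Localization.AtPrime p) d).1 h0
    have hsann : (s : A) ∈ ann := by
      rw [hann, Submodule.mem_annihilator_span_singleton]
      simpa [smul_eq_mul] using hs
    exact s.2 (hle hsann)
  obtain ⟨N, hN⟩ := exists_pow_le_of_not_le_minimal hdim ann hnot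
  refine ⟨N, ?_⟩
  have haN : a ^ N ∈ ann := hN (Ideal.pow_mem_pow ha N)
  rw [hann, Submodule.mem_annihilator_span_singleton] at haN
  simpa [smul_eq_mul] using haN

theorem isLocalization_away [IsNoetherianRing A] (hdim : ringKrullDim A = 1) (f : A)
    (hf : f ∈ IsLocalRing.maximalIdeal A) (h : ∀ p ∈ minimalPrimes A, f ∉ p) :
    IsLocalization.Away f (LL A) := by
  refine ⟨?_, ?_, ?_⟩
  · rintro ⟨_, n, rfl⟩
    simp only
    rw [map_pow]
    apply IsUnit.pow
    rw [Pi.isUnit_iff]
    intro p
    rw [Pi.algebraMap_apply]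
    exact IsLocalization.map_units (M := p.1.asIdeal.primeCompl) _ ⟨f, h _ p.2⟩
  · intro z
    obtain ⟨N, x, hx⟩ := glob_mem_range hdim f hf z
    refine ⟨(x, ⟨f ^ N, N, rfl⟩), ?_⟩
    simp only
    rw [hx, map_pow, mul_comm]
  · intro x y hxy
    have hd : algebraMap A (LL A) (x - y) = 0 := by rw [map_sub, hxy, sub_self]
    obtain ⟨N, hN⟩ := ker_killed hdim f hf (x - y) hd
    refine ⟨⟨f ^ N, N, rfl⟩, ?_⟩
    simp only
    rw [mul_sub, sub_eq_zero] at hN
    exact hN

theorem not_mem_minimal_of_nonZeroDivisor (f : A) (hf : f ∈ nonZeroDivisors A) :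
    ∀ p ∈ minimalPrimes A, f ∉ p := by
  intro p hp hfp
  exact Set.disjoint_left.1 (Ideal.disjoint_nonZeroDivisors_of_mem_minimalPrimes hp) hfp hf

/-- depth one gives a regular element in the maximal ideal -/
theorem exists_regular_of_depth (hd : LocCoh.depth A A = 1) :
    ∃ r ∈ IsLocalRing.maximalIdeal A, r ∈ nonZeroDivisors A := by
  classical
  unfold LocCoh.depth LocCoh.idealDepth at hd
  split_ifs at hd with h1
  · exact absurd hd (by decide)
  · by_contra hcon
    push Not at hcon
    have hle : (⨆ (rs : List A) (_ : RingTheory.Sequence.IsWeaklyRegular A rs ∧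
        ∀ r ∈ rs, r ∈ IsLocalRing.maximalIdeal A), (rs.length : ℕ∞)) ≤ 0 := by
      refine iSup_le fun rs => iSup_le fun hrs => ?_
      rcases rs with _ | ⟨r, rs⟩
      · simp
      · exfalso
        have hreg := ((RingTheory.Sequence.isWeaklyRegular_cons_iff A r rs).1 hrs.1).1
        refine hcon r (hrs.2 r (List.mem_cons_self)) ?_
        rw [mem_nonZeroDivisors_iff_left]
        intro x hx
        exact (isSMulRegular_iff_right_eq_zero_of_smul.1 hreg) x hx
    rw [hd] at hle
    exact absurd hle (by decide)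

/-- part (3a) -/
theorem nzd_iff [IsNoetherianRing A] (hdim : ringKrullDim A = 1) (f : A)
    (hf : f ∈ IsLocalRing.maximalIdeal A) (hyp : LocCoh.depth A A = 1 ∨ IsReduced A) :
    (∀ p ∈ minimalPrimes A, f ∉ p) ↔ f ∈ nonZeroDivisors A := by
  refine ⟨fun h => ?_, not_mem_minimal_of_nonZeroDivisor f⟩
  rcases hyp with hd | hred
  · obtain ⟨r, hrm, hr⟩ := exists_regular_of_depth hd
    have hmf := (radical_iff hdim f hf).2 h
    have hrrad : r ∈ (Ideal.span {f}).radical := hmf ▸ hrm
    obtain ⟨n, hn⟩ := hrrad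
    obtain ⟨g, hg⟩ := Ideal.mem_span_singleton.1 hn
    have hrn : r ^ n ∈ nonZeroDivisors A := pow_mem hr n
    rw [hg] at hrn
    exact (mul_mem_nonZeroDivisors.1 hrn).1
  · rw [mem_nonZeroDivisors_iff_left]
    intro c hc
    have hcn : c ∈ nilradical A := by
      rw [nilradical, ← Ideal.sInf_minimalPrimes, Ideal.mem_sInf]
      intro p hp
      have hpp : p.IsPrime := hp.1.1
      have : f * c ∈ p := by rw [hc]; exact p.zero_mem
      exact (hpp.mem_or_mem this).resolve_left (h p hp)
    rw [nilradical_eq_zero] at hcn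
    exact hcn

/-- part (3b) -/
theorem isLocalization_iff [IsNoetherianRing A] (hdim : ringKrullDim A = 1) (f : A)
    (hf : f ∈ IsLocalRing.maximalIdeal A) (hyp : LocCoh.depth A A = 1 ∨ IsReduced A) :
    (∀ p ∈ minimalPrimes A, f ∉ p) ↔
      IsLocalization (nonZeroDivisors A) (Localization.Away f) := by
  constructor
  · intro h
    have hfn : f ∈ nonZeroDivisors A := (nzd_iff hdim f hf hyp).1 h
    have hmf := (radical_iff hdim f hf).2 h
    refine IsLocalization.of_le (M := Submonoid.powers f) (nonZeroDivisors A) ?_ ?_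
    · rw [Submonoid.powers_le]; exact hfn
    · intro g hg
      by_cases hgu : IsUnit g
      · exact hgu.map _
      · have hgm : g ∈ IsLocalRing.maximalIdeal A := (IsLocalRing.mem_maximalIdeal g).2 hgu
        have hmg := (radical_iff hdim g hgm).2 (not_mem_minimal_of_nonZeroDivisor g hg)
        have hfrad : f ∈ (Ideal.span {g}).radical := hmg ▸ hf
        obtain ⟨n, hn⟩ := hfrad
        obtain ⟨c, hc⟩ := Ideal.mem_span_singleton.1 hn
        have hu : IsUnit (algebraMap A (Localization.Away f) (f ^ n)) := by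
          rw [map_pow]
          exact (IsLocalization.Away.algebraMap_isUnit f).pow n
        rw [hc, map_mul] at hu
        exact isUnit_of_mul_isUnit_left hu
  · intro hloc
    apply not_mem_minimal_of_nonZeroDivisor
    rw [mem_nonZeroDivisors_iff_left]
    intro c hc
    have hinj : Function.Injective (algebraMap A (Localization.Away f)) :=
      IsLocalization.injective (Localization.Away f) (M := nonZeroDivisors A) le_rfl
    apply hinj
    rw [map_zero]
    have h1 : algebraMap A (Localization.Away f) f * algebraMap A (Localization.Away f) c = 0 := by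
      rw [← map_mul, hc, map_zero]
    exact (IsLocalization.Away.algebraMap_isUnit f).mul_right_eq_zero.1 h1

theorem unit_of_algEquiv {B C : Type u} [CommRing B] [CommRing C] [Algebra A B] [Algebra A C]
    (e : B ≃ₐ[A] C) (f : A) (hu : IsUnit (algebraMap A B f)) : IsUnit (algebraMap A C f) := by
  have := hu.map e
  rwa [e.commutes] at this

end helpers

/-- Let (A, m) be a Noetherian local ring of dimension one and f ∈ m. Then (1) m = √(f), (2) f lies in
no minimal prime of A, and (3) A_f ≅ ∏_{p minimal} A_p as A-algebras, are equivalent; such an f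
exists; if A has depth one, for instance if A is reduced, they are also equivalent to (4) f is a
nonzerodivisor and to (5) A → A_f is the localization of A at all its nonzerodivisors; and if A is
reduced they are also equivalent to (6) A_f ≅ ∏_{p minimal} κ(p) as A-algebras. -/
theorem result (A : Type u) [CommRing A] [IsLocalRing A]
    [IsNoetherianRing A] (hdim : ringKrullDim A = 1) :
    (∃ f ∈ IsLocalRing.maximalIdeal A, ∀ p ∈ minimalPrimes A, f ∉ p) ∧
    ∀ f ∈ IsLocalRing.maximalIdeal A,
      ((IsLocalRing.maximalIdeal A = (Ideal.span {f}).radical) ↔ (∀ p ∈ minimalPrimes A, f ∉ p)) ∧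
      ((∀ p ∈ minimalPrimes A, f ∉ p) ↔
        Nonempty (Localization.Away f ≃ₐ[A] (∀ p : {p : PrimeSpectrum A // p.asIdeal ∈ minimalPrimes A}, Localization.AtPrime p.1.asIdeal))) ∧
      ((LocCoh.depth A A = 1 ∨ IsReduced A) →
        ((∀ p ∈ minimalPrimes A, f ∉ p) ↔ f ∈ nonZeroDivisors A) ∧
        ((∀ p ∈ minimalPrimes A, f ∉ p) ↔ IsLocalization (nonZeroDivisors A) (Localization.Away f))) ∧
      (IsReduced A →
        ((∀ p ∈ minimalPrimes A, f ∉ p) ↔
          Nonempty (Localization.Away f ≃ₐ[A] (∀ p : {p : PrimeSpectrum A // p.asIdeal ∈ minimalPrimes A}, p.1.asIdeal.ResidueField)))) := by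
  refine ⟨exists_param hdim, fun f hf => ⟨radical_iff hdim f hf, ?_, fun hyp =>
    ⟨nzd_iff hdim f hf hyp, isLocalization_iff hdim f hf hyp⟩, ?_⟩⟩
  · constructor
    · intro h
      have := isLocalization_away hdim f hf h
      exact ⟨IsLocalization.algEquiv (Submonoid.powers f) (Localization.Away f) (LL A)⟩
    · rintro ⟨e⟩ p hp
      have hu : IsUnit (algebraMap A (LL A) f) :=
        unit_of_algEquiv e f (IsLocalization.Away.algebraMap_isUnit f)
      rw [Pi.isUnit_iff] at hu
      have hpp : p.IsPrime := hp.1.1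
      have := hu ⟨⟨p, hpp⟩, hp⟩
      rw [Pi.algebraMap_apply] at this
      exact (IsLocalization.AtPrime.isUnit_to_map_iff (Localization.AtPrime p) p f).1 this
  · intro hred
    constructor
    · intro h
      have := isLocalization_away hdim f hf h
      let e₁ : Localization.Away f ≃ₐ[A] LL A :=
        IsLocalization.algEquiv (Submonoid.powers f) (Localization.Away f) (LL A)
      have hbij : ∀ p : {p : PrimeSpectrum A // p.asIdeal ∈ minimalPrimes A},
          Function.Bijective (IsScalarTower.toAlgHom A (Localization.AtPrime p.1.asIdeal)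
            p.1.asIdeal.ResidueField) := by
        intro p
        have : Ring.KrullDimLE 0 (Localization.AtPrime p.1.asIdeal) :=
          Ring.KrullDimLE.of_isLocalization p.1.asIdeal p.2 _
        have hfield : IsField (Localization.AtPrime p.1.asIdeal) :=
          Ring.KrullDimLE.isField_of_isReduced
        constructor
        · rw [IsScalarTower.coe_toAlgHom', injective_iff_map_eq_zero]
          intro x hx
          have hx' : x ∈ IsLocalRing.maximalIdeal (Localization.AtPrime p.1.asIdeal) := by
            rw [← IsLocalRing.ker_residue, RingHom.mem_ker]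
            exact hx
          rw [IsLocalRing.isField_iff_maximalIdeal_eq.1 hfield] at hx'
          exact hx'
        · rw [IsScalarTower.coe_toAlgHom']
          exact IsLocalRing.residue_surjective
      let e₂ : LL A ≃ₐ[A]
          (∀ p : {p : PrimeSpectrum A // p.asIdeal ∈ minimalPrimes A}, p.1.asIdeal.ResidueField) :=
        AlgEquiv.piCongrRight (fun p => AlgEquiv.ofBijective _ (hbij p))
      exact ⟨e₁.trans e₂⟩
    · rintro ⟨e⟩ p hp
      have hu : IsUnit (algebraMap A (∀ p : {p : PrimeSpectrum A // p.asIdeal ∈ minimalPrimes A},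
          p.1.asIdeal.ResidueField) f) :=
        unit_of_algEquiv e f (IsLocalization.Away.algebraMap_isUnit f)
      rw [Pi.isUnit_iff] at hu
      have hpp : p.IsPrime := hp.1.1
      have := hu ⟨⟨p, hpp⟩, hp⟩
      rw [Pi.algebraMap_apply] at this
      intro hfp
      have h0 : algebraMap A p.ResidueField f = 0 :=
        Ideal.algebraMap_residueField_eq_zero.2 hfp
      simp only at this
      rw [h0] at this
      exact not_isUnit_zero this

end Groth.Agent.S7651
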