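import Groth.Statements.S7653
import Mathlib.RingTheory.DiscreteValuationRing.TFAE
import Mathlib.RingTheory.Ideal.MinimalPrime.Noetherian
import Mathlib.Tactic
-- import your own Groth.Agent.* helpers here

set_option autoImplicit false
universe u
open CategoryTheory CategoryTheory.Limits AlgebraicGeometry
open Variety

namespace Groth.Agent.S7653

section Helpers

open Curv2

section
variable {A : Type u} [CommRing A]

/-- in a reduced ring an element outside all minimal primes is a nonzerodivisor -/
theorem nzd_of_not_mem_minimal [IsReduced A] (x : A) (hx : ∀ p ∈ minimalPrimes A, x ∉ p) :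
    x ∈ nonZeroDivisors A := by
  rw [mem_nonZeroDivisors_iff_right]
  intro y hy
  have : y ∈ nilradical A := by
    rw [nilradical, ← Ideal.sInf_minimalPrimes, Ideal.mem_sInf]
    intro p hp
    have hp' : p.IsPrime := hp.1.1
    have : y * x ∈ p := by rw [hy]; exact zero_mem _
    rcases hp'.mem_or_mem this with h | h
    · exact h
    · exact absurd h (hx p hp)
  rw [nilradical_eq_zero] at this
  exact this

theorem idem_local [IsLocalRing A] (c : A) (hc : c * c = c) : c = 0 ∨ c = 1 := by
  rcases IsLocalRing.isUnit_or_isUnit_one_sub_self c with h | h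
  · right
    have : c * (c - 1) = 0 := by rw [mul_sub, hc, mul_one, sub_self]
    have := (h.mul_right_eq_zero).mp this
    exact sub_eq_zero.mp this
  · left
    have : (1 - c) * c = 0 := by rw [sub_mul, hc, one_mul, sub_self]
    exact (h.mul_right_eq_zero).mp this

end

section
variable {A : Type u} [CommRing A]

open scoped Classical in
/-- If A is reduced noetherian with two distinct minimal primes there is a nontrivial idempotent pair -/
theorem exists_ab [IsReduced A] [IsNoetherianRing A] (p₁ p₂ : Ideal A) (h1 : p₁ ∈ minimalPrimes A)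
    (h2 : p₂ ∈ minimalPrimes A) (hne : p₁ ≠ p₂) :
    ∃ a b : A, a ∈ p₁ ∧ b ∈ p₂ ∧ a * b = 0 ∧ (∀ p ∈ minimalPrimes A, a + b ∉ p) := by
  have hfin : (minimalPrimes A).Finite := minimalPrimes.finite_of_isNoetherianRing A
  set T : Finset (Ideal A) := hfin.toFinset with hT
  have hTmem : ∀ p, p ∈ T ↔ p ∈ minimalPrimes A := fun p => hfin.mem_toFinset
  let J : Ideal A := (T.erase p₁).inf id
  have hJ : ∀ b, b ∈ J ↔ ∀ q ∈ minimalPrimes A, q ≠ p₁ → b ∈ q := by
    intro b
    simp only [J, Submodule.mem_finsetInf, Finset.mem_erase, id, hTmem]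
    constructor
    · intro h q hq hne; exact h q ⟨hne, hq⟩
    · intro h q hq; exact h q hq.2 hq.1
  -- p₁ ⊔ J is not contained in any minimal prime
  have hnot : ¬ ((p₁ ⊔ J : Ideal A) : Set A) ⊆ ⋃ q ∈ (T : Set (Ideal A)), ((id q : Ideal A) : Set A) := by
    intro hsub
    have hsub' := (Ideal.subset_union_prime (s := T) (f := id) p₁ p₁ (by
      intro q hq _ _
      exact ((hTmem q).mp hq).1.1)).mp hsub
    obtain ⟨q, hq, hle⟩ := hsub'
    simp only [id] at hle
    have hqmin : q ∈ minimalPrimes A := (hTmem q).mp hq
    have hq' : q.IsPrime := hqmin.1.1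
    have hp1q : p₁ ≤ q := le_sup_left.trans hle
    have hq1 : q = p₁ := le_antisymm (hqmin.2 h1.1 hp1q) hp1q
    subst hq1
    have hJq : J ≤ q := le_sup_right.trans hle
    -- a prime containing a finite inf contains one of them
    have := (Ideal.IsPrime.inf_le' (s := T.erase q) (f := id) hq').mp hJq
    obtain ⟨r, hr, hrq⟩ := this
    simp only [id, Finset.mem_erase] at hr hrq
    have hrmin : r ∈ minimalPrimes A := (hTmem r).mp hr.2
    exact hr.1 (le_antisymm hrq (h1.2 hrmin.1 hrq))
  rw [Set.not_subset] at hnot
  obtain ⟨x, hx, hxn⟩ := hnot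
  obtain ⟨a, ha, b, hb, rfl⟩ := Submodule.mem_sup.mp hx
  refine ⟨a, b, ha, (hJ b).mp hb p₂ h2 (Ne.symm hne), ?_, ?_⟩
  · have : a * b ∈ nilradical A := by
      rw [nilradical, ← Ideal.sInf_minimalPrimes, Ideal.mem_sInf]
      intro q hq
      by_cases hq1 : q = p₁
      · rw [hq1]; exact Ideal.mul_mem_right _ _ ha
      · exact Ideal.mul_mem_left _ _ ((hJ b).mp hb q hq hq1)
    rw [nilradical_eq_zero] at this
    exact this
  · intro q hq hmem
    apply hxn
    simp only [Set.mem_iUnion]
    exact ⟨q, (hTmem q).mpr hq, hmem⟩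
end

section
variable (A : Type u) [CommRing A] [IsLocalRing A]

theorem not_isField_of_dim_one (hdim : ringKrullDim A = 1) : ¬ IsField A := by
  intro h
  have := ringKrullDim_eq_zero_of_isField h
  rw [hdim] at this
  exact absurd this (by decide)

theorem domain_of_surj [IsReduced A] [IsNoetherianRing A]
    (hsurj : ∀ x : FractionRing A, IsIntegral A x → ∃ a, algebraMap A (FractionRing A) a = x) :
    IsDomain A := by
  obtain ⟨p, hp, -⟩ := Ideal.exists_minimalPrimes_le (show (⊥ : Ideal A) ≤ IsLocalRing.maximalIdeal A from bot_le)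
  have hp : p ∈ minimalPrimes A := hp
  have huniq : ∀ q ∈ minimalPrimes A, q = p := by
    intro q hq
    by_contra hne
    obtain ⟨a, b, ha, hb, hab, hs⟩ := exists_ab q p hq hp hne
    have hs' : a + b ∈ nonZeroDivisors A := nzd_of_not_mem_minimal _ hs
    set φ := algebraMap A (FractionRing A) with hφ
    have hinj : Function.Injective φ := IsLocalization.injective _ (le_refl _)
    set e : FractionRing A := IsLocalization.mk' (FractionRing A) a ⟨a + b, hs'⟩ with he
    have hes : e * φ (a + b) = φ a := IsLocalization.mk'_spec _ _ _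
    have hunit : IsUnit (φ (a + b)) := IsLocalization.map_units (FractionRing A) ⟨a + b, hs'⟩
    have hee : e * e = e := by
      apply hunit.mul_left_injective
      apply hunit.mul_left_injective
      show e * e * φ (a + b) * φ (a + b) = e * φ (a + b) * φ (a + b)
      have h1 : e * e * φ (a + b) * φ (a + b) = (e * φ (a + b)) * (e * φ (a + b)) := by ring
      rw [h1, hes, ← map_mul, ← map_mul]
      congr 1
      rw [mul_add, hab, add_zero]
    have hint : IsIntegral A e := by
      refine ⟨Polynomial.X ^ 2 - Polynomial.X, ?_, ?_⟩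
      · apply Polynomial.monic_X_pow_sub
        rw [Polynomial.degree_X]; norm_num
      · simp [pow_two, hee]
    obtain ⟨c, hc⟩ := hsurj e hint
    have hcc : c * c = c := by
      apply hinj
      rw [map_mul, hc, hee]
    rcases idem_local c hcc with h0 | h1
    · rw [h0, map_zero] at hc
      rw [← hc, zero_mul] at hes
      have ha0 : a = 0 := hinj (by rw [← hes, map_zero])
      apply hs p hp
      rw [ha0, zero_add]; exact hb
    · rw [h1, map_one] at hc
      rw [← hc, one_mul] at hes
      have := hinj hes
      apply hs q hq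
      rw [this]; exact ha
  have hbot : p = ⊥ := by
    have h1 : sInf (minimalPrimes A) = p := by
      apply le_antisymm (sInf_le hp)
      apply le_sInf
      intro q hq
      rw [huniq q hq]
    have h2 : sInf (minimalPrimes A) = nilradical A := by
      rw [nilradical, ← Ideal.sInf_minimalPrimes]; rfl
    rw [← h1, h2, nilradical_eq_zero]; rfl
  have : (⊥ : Ideal A).IsPrime := hbot ▸ hp.1.1
  exact IsDomain.of_bot_isPrime A

end

theorem final (A : Type u) [CommRing A] [IsLocalRing A]
    [IsReduced A] (hN : CAlg.IsNagata A) (hdim : ringKrullDim A = 1) :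
    Curv2.deltaInv A = 0 ↔ ∃ _ : IsDomain A, IsDiscreteValuationRing A := by
  have : IsNoetherianRing A := hN.1
  have key : Curv2.deltaInv A = 0 ↔
      ∀ x : FractionRing A, IsIntegral A x → ∃ a, algebraMap A (FractionRing A) a = x := by
    unfold Curv2.deltaInv
    rw [Module.length_eq_zero_iff, Submodule.Quotient.subsingleton_iff, LinearMap.range_eq_top]
    constructor
    · intro h x hx
      obtain ⟨a, ha⟩ := h ⟨x, hx⟩
      exact ⟨a, congrArg Subtype.val ha⟩
    · rintro h ⟨x, hx⟩
      obtain ⟨a, ha⟩ := h x hx
      exact ⟨a, Subtype.ext ha⟩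
  rw [key]
  constructor
  · intro hsurj
    have hdom : IsDomain A := domain_of_surj A hsurj
    refine ⟨hdom, ?_⟩
    have hnf := not_isField_of_dim_one A hdim
    have hT := (IsDiscreteValuationRing.TFAE A hnf).out 0 3
    rw [hT]
    refine ⟨?_, ?_⟩
    · rw [isIntegrallyClosed_iff (FractionRing A)]
      intro x hx
      exact hsurj x hx
    · have hm0 : IsLocalRing.maximalIdeal A ≠ ⊥ := IsLocalRing.isField_iff_maximalIdeal_eq.not.mp hnf
      refine ⟨IsLocalRing.maximalIdeal A, ⟨hm0, inferInstance⟩, ?_⟩
      rintro P ⟨hP0, hPprime⟩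
      have hdim1 : Ring.KrullDimLE 1 A := Ring.krullDimLE_iff.2 (by rw [hdim]; rfl)
      rcases Ring.krullDimLE_one_iff.1 hdim1 P hPprime with h | h
      · exfalso
        apply hP0
        have hbot : (⊥ : Ideal A).IsPrime := Ideal.isPrime_bot
        exact le_antisymm (h.2 ⟨hbot, bot_le⟩ bot_le) bot_le
      · exact IsLocalRing.eq_maximalIdeal h
  · rintro ⟨hdom, hdvr⟩ x hx
    have : IsIntegrallyClosed A := inferInstance
    exact (isIntegrallyClosed_iff (FractionRing A)).mp this hx

end Helpers

/-- For a reduced local Nagata ring A of Krull dimension one, the δ-invariant of A is zero exactly when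
A is a DVR (in particular a domain). -/
theorem result (A : Type u) [CommRing A] [IsLocalRing A]
    [IsReduced A] (hN : CAlg.IsNagata A) (hdim : ringKrullDim A = 1) :
    Curv2.deltaInv A = 0 ↔ ∃ _ : IsDomain A, IsDiscreteValuationRing A := by
  exact final A hN hdim

end Groth.Agent.S7653
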