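import Groth.Statements.S7655
import Groth.Agent.Lib.Helper39.Branch
-- import your own Groth.Agent.* helpers here

set_option autoImplicit false
universe u
open CategoryTheory CategoryTheory.Limits AlgebraicGeometry
open Variety

namespace Groth.Agent.S7655

section Helpers

open Groth.Agent.Lib.Helper39.Branch

theorem main7655 (A : Type u) [CommRing A] [IsLocalRing A]
    [IsReduced A] (hN : CAlg.IsNagata A) (hdim : ringKrullDim A = 1) :
    Brnch.numGeomBranches A ≤ Curv2.deltaInv A + 1 := by
  classical
  have hNoeth : IsNoetherianRing A := hN.1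
  have hfin : (minimalPrimes A).Finite := minimalPrimes.finite_of_isNoetherianRing A
  unfold Brnch.numGeomBranches
  rw [if_pos hfin]
  -- the trivial case
  by_cases htop : Curv2.deltaInv A = ⊤
  · rw [htop, top_add]; exact le_top
  obtain ⟨n, hn⟩ := ENat.ne_top_iff_exists.mp htop
  rw [← hn]
  have hcast : ((n : ℕ∞) + 1) = ((n + 1 : ℕ) : ℕ∞) := by push_cast; rfl
  rw [hcast]
  apply enat_card_le_of_forall_finset
  intro t
  -- notation
  let N := CAlg2.normRed A
  let Ω := AlgebraicClosure (IsLocalRing.ResidueField A)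
  let φ : A →+* N := (algebraMap (CAlg2.red A) (CAlg2.normRed A)).comp
    (Ideal.Quotient.mk (nilradical A))
  let _ : Algebra A N := φ.toAlgebra
  let _ : Algebra A Ω := (Brnch.toClosure A).toAlgebra
  -- characters
  let Ξ : (Σ m' : MaximalSpectrum (CAlg2.normRed A), Brnch.Emb A m') → (N →+* Ω) :=
    fun p => p.2.1.comp (Ideal.Quotient.mk p.1.asIdeal)
  have hΞker : ∀ p, RingHom.ker (Ξ p) = p.1.asIdeal := by
    intro p
    have : IsField (N ⧸ p.1.asIdeal) := (Ideal.Quotient.maximal_ideal_iff_isField_quotient _).mp p.1.isMaximal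
    let _ : Field (N ⧸ p.1.asIdeal) := this.toField
    ext x
    simp only [Ξ, RingHom.mem_ker, RingHom.comp_apply]
    rw [map_eq_zero_iff _ (p.2.1.injective), Ideal.Quotient.eq_zero_iff_mem]
  have hΞinj : Function.Injective Ξ := by
    rintro ⟨m1, σ1⟩ ⟨m2, σ2⟩ h
    have hm : m1 = m2 := by
      apply MaximalSpectrum.ext
      rw [← hΞker ⟨m1, σ1⟩, ← hΞker ⟨m2, σ2⟩, h]
    subst hm
    congr 1
    apply Subtype.ext
    apply RingHom.ext
    intro y
    obtain ⟨x, rfl⟩ := Ideal.Quotient.mk_surjective y
    exact congrArg (fun ψ : N →+* Ω => ψ x) h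
  let s : Finset (N →+* Ω) := t.map ⟨Ξ, hΞinj⟩
  have hs : ∀ χ ∈ s, ∀ a : A, χ (algebraMap A N a) = algebraMap A Ω a := by
    intro χ hχ a
    obtain ⟨p, -, rfl⟩ := Finset.mem_map.mp hχ
    have := congrArg (fun ψ : A →+* Ω => ψ a) p.2.2
    exact this
  have h1 := card_le_length_add_one s hs
  have h2 : Module.length A (N ⧸ LinearMap.range (Algebra.linearMap A N)) ≤ Curv2.deltaInv A := by
    have hbot : nilradical A = ⊥ := nilradical_eq_bot_iff.mpr inferInstance
    let e0 : A ≃+* CAlg2.red A :=
      (RingEquiv.quotientBot A).symm.trans (Ideal.quotEquivOfEq hbot.symm)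
    exact length_integralClosure_le_of_ringEquiv e0 (fun a => rfl)
  have h3 : (s.card : ℕ∞) ≤ (n : ℕ∞) + 1 := by
    rw [hn]
    exact h1.trans (by gcongr)
  rw [Finset.card_map] at h3
  exact_mod_cast h3

end Helpers

/-- Let (A, m) be a reduced Nagata local ring of dimension one. Then the δ-invariant of A is at least
the number of geometric branches of A minus one. -/
theorem result (A : Type u) [CommRing A] [IsLocalRing A]
    [IsReduced A] (hN : CAlg.IsNagata A) (hdim : ringKrullDim A = 1) :
    Brnch.numGeomBranches A ≤ Curv2.deltaInv A + 1 := by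
  exact main7655 A hN hdim

end Groth.Agent.S7655
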