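import Groth.Statements.S7663
import Groth.Agent.Lib.Helper39.DimOneDVR
-- import your own Groth.Agent.* helpers here

set_option autoImplicit false
universe u
open CategoryTheory CategoryTheory.Limits AlgebraicGeometry
open Variety

namespace Groth.Agent.S7663

section Helpers

open Groth.Agent.Lib.Helper39

theorem main7663 (K : Type u) [Field K]
    (A : Subring K) [IsFractionRing A K] (B : Subring K) [IsFractionRing B K] [IsNoetherianRing A] (hdim : ringKrullDim A = 1) :
    A ⊔ B ≠ ⊤ ↔ ∃ O : ValuationSubring K, IsDiscreteValuationRing O ∧ A ≤ O.toSubring ∧ B ≤ O.toSubring := by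
  have := KA.krullDimLE_one_of_eq hdim
  constructor
  · intro h
    obtain ⟨V, hCV, hV⟩ := KA.exists_valuationSubring_ne_top A (A ⊔ B) le_sup_left h
    exact ⟨V, KA.isDiscreteValuationRing_of_le A V (le_sup_left.trans hCV) hV,
      le_sup_left.trans hCV, le_sup_right.trans hCV⟩
  · rintro ⟨O, hO, hA, hB⟩ h
    apply KA.valuationSubring_ne_top_of_isDiscreteValuationRing O
    rw [eq_top_iff, ← h]
    exact sup_le hA hB

end Helpers

/-- Let K be a field and A, B ⊆ K subrings with fraction field K, with A Noetherian of dimension one.
Then A ⊗ B → K is not surjective (equivalently, the subring generated by A and B is not K) if and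
only if some discrete valuation ring O ⊆ K with fraction field K contains both A and B. -/
theorem result (K : Type u) [Field K]
    (A : Subring K) [IsFractionRing A K] (B : Subring K) [IsFractionRing B K] [IsNoetherianRing A] (hdim : ringKrullDim A = 1) :
    A ⊔ B ≠ ⊤ ↔ ∃ O : ValuationSubring K, IsDiscreteValuationRing O ∧ A ≤ O.toSubring ∧ B ≤ O.toSubring := by
  exact main7663 K A B hdim

end Groth.Agent.S7663
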