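import Groth.Statements.S7687
import Groth.Agent.Lib.Helper39.DimOneGlue
-- import your own Groth.Agent.* helpers here

set_option autoImplicit false
universe u
open CategoryTheory CategoryTheory.Limits AlgebraicGeometry
open Variety

namespace Groth.Agent.S7687

section Helpers

open CategoryTheory CategoryTheory.Limits AlgebraicGeometry
open Groth.Agent.Lib.Helper39

theorem main7687 (K : Type u) [Field K]
    (A : Subring K) [IsFractionRing A K] (B : Subring K) [IsFractionRing B K] [IsNoetherianRing A] [IsNoetherianRing B]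
    (hdimA : ringKrullDim A = 1) (hdimB : ringKrullDim B = 1)
    (hslA : Finite (MaximalSpectrum A)) (hslB : Finite (MaximalSpectrum B)) (hgen : A ⊔ B = ⊤) :
    IsOpenImmersion (Spec.map (CommRingCat.ofHom (Subring.inclusion (inf_le_left : A ⊓ B ≤ A)))) ∧
      IsOpenImmersion (Spec.map (CommRingCat.ofHom (Subring.inclusion (inf_le_right : A ⊓ B ≤ B)))) ∧
      Set.range (Spec.map (CommRingCat.ofHom (Subring.inclusion (inf_le_left : A ⊓ B ≤ A)))).base ∪
        Set.range (Spec.map (CommRingCat.ofHom (Subring.inclusion (inf_le_right : A ⊓ B ≤ B)))).base = Set.univ ∧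
      IsPushout (CommRingCat.ofHom (Subring.inclusion (inf_le_left : A ⊓ B ≤ A)))
        (CommRingCat.ofHom (Subring.inclusion (inf_le_right : A ⊓ B ≤ B)))
        (CommRingCat.ofHom A.subtype) (CommRingCat.ofHom B.subtype) := by
  have hKA := KA.krullDimLE_one_of_eq hdimA
  have hKB := KA.krullDimLE_one_of_eq hdimB
  obtain ⟨x, hxA, hx0, hx⟩ := KA.exists_inv_mem_jacobson_family A 1 (fun _ => B)
    (fun _ => hdimB) (fun _ => hslB) (fun _ => hgen)
  obtain ⟨hpB, hp⟩ := hx 0
  obtain ⟨y, hyB, hy0, hy⟩ := KA.exists_inv_mem_jacobson_family B 1 (fun _ => A)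
    (fun _ => hdimA) (fun _ => hslA) (fun _ => by rw [sup_comm]; exact hgen)
  obtain ⟨hqA, hq⟩ := hy 0
  obtain ⟨f, g, hsum, hf0, hg0, hfu, hgu, hfA, hfB, hgA, hgB, hfrad, hgrad⟩ :=
    KA.exists_partition_of_unity A B x hxA hx0 hpB hp y hyB hy0 hqA hq
  let R : Subring K := A ⊓ B
  let _ : Algebra R A := (Subring.inclusion inf_le_left).toAlgebra
  let _ : Algebra R B := (Subring.inclusion inf_le_right).toAlgebra
  let fR : R := ⟨f, hfA, hfB⟩
  let gR : R := ⟨g, hgA, hgB⟩
  have locA : IsLocalization.Away fR A :=
    KA.isLocalization_away_of_mem_jacobson R A B inf_le_left (fun k ha hb => ⟨ha, hb⟩) f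
      ⟨hfA, hfB⟩ hfB hfu hf0 hfrad
  have locB : IsLocalization.Away gR B :=
    KA.isLocalization_away_of_mem_jacobson R B A inf_le_right (fun k hb ha => ⟨ha, hb⟩) g
      ⟨hgA, hgB⟩ hgA hgu hg0 hgrad
  have h1 : IsOpenImmersion (Spec.map (CommRingCat.ofHom (algebraMap R A))) :=
    IsOpenImmersion.of_isLocalization fR
  have h2 : IsOpenImmersion (Spec.map (CommRingCat.ofHom (algebraMap R B))) :=
    IsOpenImmersion.of_isLocalization gR
  refine ⟨h1, h2, ?_, ?_⟩
  · have r1 := PrimeSpectrum.localization_away_comap_range A fR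
    have r2 := PrimeSpectrum.localization_away_comap_range B gR
    rw [Set.eq_univ_iff_forall]
    intro p
    by_cases hfp : fR ∈ (p : PrimeSpectrum R).asIdeal
    · right
      have hgp : gR ∉ (p : PrimeSpectrum R).asIdeal := by
        intro hgp
        have : (1 : R) ∈ (p : PrimeSpectrum R).asIdeal := by
          have : fR + gR = 1 := Subtype.ext hsum
          rw [← this]; exact Ideal.add_mem _ hfp hgp
        exact (p : PrimeSpectrum R).2.ne_top ((Ideal.eq_top_iff_one _).mpr this)
      have : (p : PrimeSpectrum R) ∈ Set.range (PrimeSpectrum.comap (algebraMap R B)) := by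
        rw [r2]; exact hgp
      exact this
    · left
      have : (p : PrimeSpectrum R) ∈ Set.range (PrimeSpectrum.comap (algebraMap R A)) := by
        rw [r1]; exact hfp
      exact this
  · have locK : IsLocalization.Away (⟨f, hfB⟩ : B) K :=
      KA.isLocalization_away_field_of_mem_jacobson B ⟨f, hfB⟩
        (fun h => hf0 (congrArg Subtype.val h)) hfrad
    have hloc : IsLocalization (Algebra.algebraMapSubmonoid B (Submonoid.powers fR)) K := by
      have e : Algebra.algebraMapSubmonoid B (Submonoid.powers fR) =
          Submonoid.powers (⟨f, hfB⟩ : B) := by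
        rw [Algebra.algebraMapSubmonoid, Submonoid.map_powers]; rfl
      rw [e]; exact locK
    have t1 : IsScalarTower R A K := IsScalarTower.of_algebraMap_eq (fun x => rfl)
    have t2 : IsScalarTower R B K := IsScalarTower.of_algebraMap_eq (fun x => rfl)
    have hP : Algebra.IsPushout R B A K :=
      Algebra.isPushout_of_isLocalization (Submonoid.powers fR) A B K
    have hP' : Algebra.IsPushout R A B K := hP.symm
    exact CommRingCat.isPushout_of_isPushout R A B K

end Helpers

/-- Let K be a field and A, B ⊆ K Noetherian semi-local domains of dimension one with fraction field K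
such that A ⊗ B → K is surjective, and R = A ∩ B. Then Spec A and Spec B each map to Spec R by an
open immersion, Spec R is the union of the two images, and the natural map A ⊗_R B → K is an
isomorphism. -/
theorem result (K : Type u) [Field K]
    (A : Subring K) [IsFractionRing A K] (B : Subring K) [IsFractionRing B K] [IsNoetherianRing A] [IsNoetherianRing B]
    (hdimA : ringKrullDim A = 1) (hdimB : ringKrullDim B = 1)
    (hslA : Finite (MaximalSpectrum A)) (hslB : Finite (MaximalSpectrum B)) (hgen : A ⊔ B = ⊤) :
    IsOpenImmersion (Spec.map (CommRingCat.ofHom (Subring.inclusion (inf_le_left : A ⊓ B ≤ A)))) ∧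
      IsOpenImmersion (Spec.map (CommRingCat.ofHom (Subring.inclusion (inf_le_right : A ⊓ B ≤ B)))) ∧
      Set.range (Spec.map (CommRingCat.ofHom (Subring.inclusion (inf_le_left : A ⊓ B ≤ A)))).base ∪
        Set.range (Spec.map (CommRingCat.ofHom (Subring.inclusion (inf_le_right : A ⊓ B ≤ B)))).base = Set.univ ∧
      IsPushout (CommRingCat.ofHom (Subring.inclusion (inf_le_left : A ⊓ B ≤ A)))
        (CommRingCat.ofHom (Subring.inclusion (inf_le_right : A ⊓ B ≤ B)))
        (CommRingCat.ofHom A.subtype) (CommRingCat.ofHom B.subtype) := by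
  exact main7687 K A B hdimA hdimB hslA hslB hgen

end Groth.Agent.S7687
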