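import Groth.Statements.S7664
import Groth.Agent.S7687
import Groth.Agent.Lib.Helper39.DimOneGlue
-- import your own Groth.Agent.* helpers here

set_option autoImplicit false
universe u
open CategoryTheory CategoryTheory.Limits AlgebraicGeometry
open Variety

namespace Groth.Agent.S7664

section Helpers

open CategoryTheory CategoryTheory.Limits AlgebraicGeometry
open Groth.Agent.Lib.Helper39

theorem finite_maximalSpectrum_of_isLocalRing (R : Type*) [CommRing R] [IsLocalRing R] :
    Finite (MaximalSpectrum R) := by
  have : Subsingleton (MaximalSpectrum R) := ⟨fun m m' => by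
    ext1
    rw [IsLocalRing.eq_maximalIdeal m.isMaximal, IsLocalRing.eq_maximalIdeal m'.isMaximal]⟩
  exact Finite.of_subsingleton

theorem main7664 (K : Type u) [Field K]
    (A : Subring K) [IsFractionRing A K] [IsNoetherianRing A] (hdim : ringKrullDim A = 1) (hsl : Finite (MaximalSpectrum A))
    (B : ValuationSubring K) [IsDiscreteValuationRing B] :
    ((∃ u : A, IsUnit u ∧ (u : K) ∉ B) →
      IsOpenImmersion (Spec.map (CommRingCat.ofHom (Subring.inclusion (inf_le_left : A ⊓ B.toSubring ≤ A)))) ∧
      IsOpenImmersion (Spec.map (CommRingCat.ofHom (Subring.inclusion (inf_le_right : A ⊓ B.toSubring ≤ B.toSubring)))) ∧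
      Set.range (Spec.map (CommRingCat.ofHom (Subring.inclusion (inf_le_left : A ⊓ B.toSubring ≤ A)))).base ∪
        Set.range (Spec.map (CommRingCat.ofHom (Subring.inclusion (inf_le_right : A ⊓ B.toSubring ≤ B.toSubring)))).base = Set.univ ∧
      IsPushout (CommRingCat.ofHom (Subring.inclusion (inf_le_left : A ⊓ B.toSubring ≤ A)))
        (CommRingCat.ofHom (Subring.inclusion (inf_le_right : A ⊓ B.toSubring ≤ B.toSubring)))
        (CommRingCat.ofHom A.subtype) (CommRingCat.ofHom B.toSubring.subtype)) ∧
    ((∀ u : A, IsUnit u → (u : K) ∈ B) →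
      (∃ h : A ≤ B.toSubring,
        (Ideal.comap (Subring.inclusion h) (IsLocalRing.maximalIdeal B)).IsMaximal) ∧ A ⊔ B.toSubring ≠ ⊤) := by
  have hKA := KA.krullDimLE_one_of_eq hdim
  have hBdvr : IsDiscreteValuationRing B.toSubring := inferInstanceAs (IsDiscreteValuationRing B)
  have hBfr : IsFractionRing B.toSubring K := inferInstanceAs (IsFractionRing B K)
  have hBdim : ringKrullDim B.toSubring = 1 := IsDiscreteValuationRing.ringKrullDim_eq_one _
  have hBsl : Finite (MaximalSpectrum B.toSubring) := finite_maximalSpectrum_of_isLocalRing _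
  have hBtop : B.toSubring ≠ ⊤ := KA.valuationSubring_ne_top_of_isDiscreteValuationRing B
  constructor
  · rintro ⟨u, hu, huB⟩
    apply Groth.Agent.S7687.result K A B.toSubring hdim hBdim hsl hBsl
    -- A ⊔ B = ⊤
    rw [eq_top_iff]
    intro z _
    have hu0 : (u : K) ≠ 0 := by
      intro h; apply huB; rw [h]; exact B.zero_mem
    have huinv : (u : K)⁻¹ ∈ B := (B.mem_or_inv_mem (u : K)).resolve_left huB
    let π : B.toSubring := ⟨(u : K)⁻¹, huinv⟩
    have hπ : π ∈ (⊥ : Ideal B.toSubring).jacobson := by
      rw [IsLocalRing.jacobson_eq_maximalIdeal ⊥ bot_ne_top, IsLocalRing.mem_maximalIdeal,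
        mem_nonunits_iff]
      intro hunit
      obtain ⟨w, hw⟩ := isUnit_iff_exists_inv.mp hunit
      have h1 : (u : K)⁻¹ * (w : K) = 1 := congrArg Subtype.val hw
      have : (w : K) = u := by
        field_simp at h1
        exact h1
      exact huB (this ▸ w.2)
    obtain ⟨n, b, hb⟩ := KA.exists_pow_mul_mem_range (K := K) hπ z
    have hb' : (b : K) = ((u : K)⁻¹) ^ n * z := hb
    have hz : z = (u : K) ^ n * (b : K) := by
      rw [hb', inv_pow, ← mul_assoc, mul_inv_cancel₀ (pow_ne_zero n hu0), one_mul]
    rw [hz]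
    have hle1 : A ≤ A ⊔ B.toSubring := le_sup_left
    have hle2 : B.toSubring ≤ A ⊔ B.toSubring := le_sup_right
    exact Subring.mul_mem _ (Subring.pow_mem _ (hle1 u.2) n) (hle2 b.2)
  · intro hunits
    have hAnf : ¬ IsField A := by
      intro hf
      have := ringKrullDim_eq_zero_of_isField hf
      rw [hdim] at this
      exact one_ne_zero this
    obtain ⟨t, ht0, ht⟩ := KA.exists_ne_zero_mem_jacobson hAnf
    have hAB : A ≤ B.toSubring := by
      intro a ha
      by_contra haB
      have haB' : a ∉ B := haB
      have ha0 : a ≠ 0 := by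
        rintro rfl; exact haB' B.zero_mem
      have hainv : a⁻¹ ∈ B := (B.mem_or_inv_mem a).resolve_left haB'
      let π : B := ⟨a⁻¹, hainv⟩
      have hπ : π ∈ IsLocalRing.maximalIdeal B := by
        rw [IsLocalRing.mem_maximalIdeal, mem_nonunits_iff]
        intro hunit
        obtain ⟨w, hw⟩ := isUnit_iff_exists_inv.mp hunit
        have h1 : a⁻¹ * (w : K) = 1 := congrArg Subtype.val hw
        have : (w : K) = a := by
          field_simp at h1
          exact h1
        exact haB' (this ▸ w.2)
      have hk : ∀ k : ℕ, (t : K) * a ^ k ∈ B := by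
        intro k
        have hmem : (t * ⟨a, ha⟩ ^ k : A) ∈ (⊥ : Ideal A).jacobson := Ideal.mul_mem_right _ _ ht
        have hunit : IsUnit ((t * ⟨a, ha⟩ ^ k : A) * 1 + 1) := Ideal.mem_jacobson_bot.mp hmem 1
        have h3 := hunits _ hunit
        have h2 : (t : K) * a ^ k = ((t : K) * a ^ k * 1 + 1) - 1 := by ring
        rw [h2]
        exact B.sub_mem (by simpa using h3) B.one_mem
      have htB : (t : K) ∈ B := by simpa using hk 0
      have hmem : (⟨t, htB⟩ : B) ∈ ⨅ k : ℕ, (IsLocalRing.maximalIdeal B) ^ k := by
        rw [Ideal.mem_iInf]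
        intro k
        have : (⟨t, htB⟩ : B) = π ^ k * ⟨(t : K) * a ^ k, hk k⟩ := by
          apply Subtype.ext
          change (t : K) = (a⁻¹) ^ k * ((t : K) * a ^ k)
          rw [inv_pow, mul_left_comm, inv_mul_cancel₀ (pow_ne_zero k ha0), mul_one]
        rw [this]
        exact Ideal.mul_mem_right _ _ (Ideal.pow_mem_pow hπ k)
      rw [Ideal.iInf_pow_eq_bot_of_isLocalRing _ Ideal.IsPrime.ne_top'] at hmem
      have : (⟨t, htB⟩ : B) = 0 := hmem
      have h4 : (t : K) = 0 := congrArg Subtype.val this
      exact ht0 (Subtype.ext h4)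
    refine ⟨⟨hAB, ?_⟩, ?_⟩
    · have hprime : (Ideal.comap (Subring.inclusion hAB) (IsLocalRing.maximalIdeal B)).IsPrime :=
        Ideal.comap_isPrime _ _
      apply Ring.krullDimLE_one_iff_of_noZeroDivisors.mp hKA _ ?_ hprime
      intro hbot
      apply hBtop
      rw [eq_top_iff]
      intro z _
      obtain ⟨a, a', ha', rfl⟩ := IsFractionRing.div_surjective (A := A) z
      have hnot : Subring.inclusion hAB a' ∉ IsLocalRing.maximalIdeal B := by
        intro hmem
        have h1 : a' ∈ Ideal.comap (Subring.inclusion hAB) (IsLocalRing.maximalIdeal B) := hmem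
        rw [hbot] at h1
        exact nonZeroDivisors.ne_zero ha' h1
      have hunit : IsUnit (Subring.inclusion hAB a' : B) := by
        by_contra h
        exact hnot ((IsLocalRing.mem_maximalIdeal _).mpr h)
      obtain ⟨w, hw⟩ := isUnit_iff_exists_inv.mp hunit
      have h1 : (a' : K) * (w : K) = 1 := congrArg Subtype.val hw
      have ha'0 : (a' : K) ≠ 0 := fun h => by simp [h] at h1
      have : algebraMap A K a / algebraMap A K a' = (a : K) * (w : K) := by
        change (a : K) / (a' : K) = _
        rw [div_eq_iff ha'0, mul_assoc, mul_comm (w : K), h1, mul_one]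
      rw [this]
      exact B.mul_mem _ _ (hAB a.2) w.2
    · rw [sup_eq_right.mpr hAB]; exact hBtop

end Helpers

/-- Let K be a field, A ⊆ K a Noetherian semi-local domain of dimension one and B ⊆ K a discrete
valuation ring, both with fraction field K, and R = A ∩ B. (a) If some unit of A does not lie in R,
then Spec A and Spec B each map to Spec R by an open immersion, Spec R is the union of the two
images, and the natural map A ⊗_R B → K is an isomorphism. (b) If every unit of A lies in R, then B
dominates the local ring of A at one of its maximal ideals (A ⊆ B and the maximal ideal of B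
contracts to a maximal ideal of A) and A ⊗ B → K is not surjective. -/
theorem result (K : Type u) [Field K]
    (A : Subring K) [IsFractionRing A K] [IsNoetherianRing A] (hdim : ringKrullDim A = 1) (hsl : Finite (MaximalSpectrum A))
    (B : ValuationSubring K) [IsDiscreteValuationRing B] :
    ((∃ u : A, IsUnit u ∧ (u : K) ∉ B) →
      IsOpenImmersion (Spec.map (CommRingCat.ofHom (Subring.inclusion (inf_le_left : A ⊓ B.toSubring ≤ A)))) ∧
      IsOpenImmersion (Spec.map (CommRingCat.ofHom (Subring.inclusion (inf_le_right : A ⊓ B.toSubring ≤ B.toSubring)))) ∧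
      Set.range (Spec.map (CommRingCat.ofHom (Subring.inclusion (inf_le_left : A ⊓ B.toSubring ≤ A)))).base ∪
        Set.range (Spec.map (CommRingCat.ofHom (Subring.inclusion (inf_le_right : A ⊓ B.toSubring ≤ B.toSubring)))).base = Set.univ ∧
      IsPushout (CommRingCat.ofHom (Subring.inclusion (inf_le_left : A ⊓ B.toSubring ≤ A)))
        (CommRingCat.ofHom (Subring.inclusion (inf_le_right : A ⊓ B.toSubring ≤ B.toSubring)))
        (CommRingCat.ofHom A.subtype) (CommRingCat.ofHom B.toSubring.subtype)) ∧
    ((∀ u : A, IsUnit u → (u : K) ∈ B) →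
      (∃ h : A ≤ B.toSubring,
        (Ideal.comap (Subring.inclusion h) (IsLocalRing.maximalIdeal B)).IsMaximal) ∧ A ⊔ B.toSubring ≠ ⊤) := by
  exact main7664 K A hdim hsl B

end Groth.Agent.S7664
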