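import Groth.Statements.S7665
import Groth.Agent.Lib.Helper39.DimOneGlueFamily
-- import your own Groth.Agent.* helpers here

set_option autoImplicit false
universe u
open CategoryTheory CategoryTheory.Limits AlgebraicGeometry
open Variety

namespace Groth.Agent.S7665

section Helpers

open CategoryTheory CategoryTheory.Limits AlgebraicGeometry
open Groth.Agent.Lib.Helper39

theorem main7665 (K : Type u) [Field K] (r : ℕ) (hr : 1 ≤ r)
    (A : Fin r → Subring K) [∀ i, IsNoetherianRing (A i)] [∀ i, IsFractionRing (A i) K]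
    (hdim : ∀ i, ringKrullDim (A i) = 1) (hsl : ∀ i, Finite (MaximalSpectrum (A i)))
    (hgen : ∀ i j, i ≠ j → A i ⊔ A j = ⊤) :
    IsNoetherianRing ↥(⨅ i, A i) ∧ ringKrullDim ↥(⨅ i, A i) = 1 ∧ Finite (MaximalSpectrum ↥(⨅ i, A i)) ∧
      IsFractionRing ↥(⨅ i, A i) K ∧
      (∀ i, IsOpenImmersion (Spec.map (CommRingCat.ofHom (Subring.inclusion (iInf_le A i))))) ∧
      (⋃ i, Set.range (Spec.map (CommRingCat.ofHom (Subring.inclusion (iInf_le A i)))).base) = Set.univ ∧
      (∀ m : PrimeSpectrum ↥(⨅ i, A i), m.asIdeal.IsMaximal →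
        ∃! i, m ∈ Set.range (Spec.map (CommRingCat.ofHom (Subring.inclusion (iInf_le A i)))).base) := by
  classical
  have hne : Nonempty (Fin r) := ⟨⟨0, hr⟩⟩
  have hKd : ∀ i, Ring.KrullDimLE 1 (A i) := fun i => KA.krullDimLE_one_of_eq (hdim i)
  -- the elements `x i`
  have hx : ∀ i, ∃ x : K, x ∈ A i ∧ x ≠ 0 ∧ ∀ j, j ≠ i →
      ∃ h : x⁻¹ ∈ A j, (⟨x⁻¹, h⟩ : A j) ∈ (⊥ : Ideal (A j)).jacobson := by
    intro i
    obtain ⟨x, hxA, hx0, hx⟩ := KA.exists_inv_mem_jacobson_of_finite (A i)
      (fun j : {j : Fin r // j ≠ i} => A j.1) (fun j => hdim j.1) (fun j => hsl j.1)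
      (fun j => hgen i j.1 j.2.symm)
    exact ⟨x, hxA, hx0, fun j hj => hx ⟨j, hj⟩⟩
  choose x hxA hx0 hx using hx
  obtain ⟨f, hsum, hf⟩ := KA.exists_partition_of_unity_family A x hxA hx0 hx
  have hf0 : ∀ i, f i ≠ 0 := fun i => (hf i).1
  have hfA : ∀ i, f i ∈ A i := fun i => (hf i).2.1
  have hfinv : ∀ i, (f i)⁻¹ ∈ A i := fun i => (hf i).2.2.1
  have hfrad : ∀ i j, j ≠ i → ∃ h : f i ∈ A j, (⟨f i, h⟩ : A j) ∈ (⊥ : Ideal (A j)).jacobson :=
    fun i => (hf i).2.2.2
  let C : Subring K := ⨅ i, A i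
  have hfC : ∀ i, f i ∈ C := by
    intro i
    refine Subring.mem_iInf.mpr fun j => ?_
    by_cases hji : j = i
    · subst hji; exact hfA j
    · exact (hfrad i j hji).1
  let fC : Fin r → C := fun i => ⟨f i, hfC i⟩
  have hsumC : ∑ i, fC i = 1 := by
    apply Subtype.ext
    have h1 : ((∑ i, fC i : C) : K) = ∑ i, f i := map_sum C.subtype fC Finset.univ
    rw [h1, hsum]; rfl
  let _ : ∀ i, Algebra C (A i) := fun i => (Subring.inclusion (iInf_le A i)).toAlgebra
  have hloc : ∀ i, IsLocalization.Away (fC i) (A i) := fun i =>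
    KA.isLocalization_away_iInf A i (f i) (hfinv i) (hf0 i) (hfrad i) (hfC i)
  have hinj : ∀ i, Function.Injective (algebraMap C (A i)) := fun i =>
    Subring.inclusion_injective (iInf_le A i)
  have hCnoeth : IsNoetherianRing C := KA.isNoetherianRing_of_cover fC hsumC (fun i => A i)
  have hCdim1 : Ring.KrullDimLE 1 C := KA.krullDimLE_one_of_cover fC hsumC (fun i => A i) hinj
  have hCnf : ¬ IsField C := by
    let i₀ : Fin r := ⟨0, hr⟩
    have hAnf : ¬ IsField (A i₀) := by
      intro hfld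
      have := ringKrullDim_eq_zero_of_isField hfld
      rw [hdim i₀] at this
      exact one_ne_zero this
    obtain ⟨P, hP0, hP⟩ := Ring.not_isField_iff_exists_prime.mp hAnf
    rw [Ring.not_isField_iff_exists_prime]
    refine ⟨P.comap (algebraMap C (A i₀)), ?_, Ideal.comap_isPrime _ _⟩
    intro h
    have h1 := IsLocalization.map_under (Submonoid.powers (fC i₀)) (A i₀) P
    rw [Ideal.under_def, h, Ideal.map_bot] at h1
    exact hP0 h1.symm
  have hCdim : ringKrullDim C = 1 := by
    refine eq_of_le_of_not_lt (Ring.krullDimLE_iff (n := 1).mp hCdim1) fun h => ?_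
    have : Ring.KrullDimLE 0 C := Ring.krullDimLE_iff.mpr (ENat.WithBot.lt_add_one_iff.mp h)
    exact hCnf Ring.KrullDimLE.isField_of_isDomain
  have hCsl : Finite (MaximalSpectrum C) :=
    KA.finite_maximalSpectrum_of_cover fC hsumC (fun i => A i) hinj hCnf
  have hCfrac : IsFractionRing C K := by
    let i₀ : Fin r := ⟨0, hr⟩
    rw [IsFractionRing, isLocalization_iff]
    refine ⟨?_, ?_, ?_⟩
    · intro y
      have hy0 : (y : C) ≠ 0 := nonZeroDivisors.ne_zero y.2
      have : algebraMap C K y ≠ 0 := fun h => hy0 (Subtype.ext h)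
      exact this.isUnit
    · intro z
      obtain ⟨a, a', ha', rfl⟩ := IsFractionRing.div_surjective (A := A i₀) z
      obtain ⟨⟨c, ⟨_, n, rfl⟩⟩, hc⟩ := IsLocalization.surj (Submonoid.powers (fC i₀)) a
      obtain ⟨⟨c', ⟨_, m, rfl⟩⟩, hc'⟩ := IsLocalization.surj (Submonoid.powers (fC i₀)) a'
      have hcK : (a : K) * f i₀ ^ n = (c : K) := congrArg (Subtype.val : A i₀ → K) hc
      have hc'K : (a' : K) * f i₀ ^ m = (c' : K) := congrArg (Subtype.val : A i₀ → K) hc'
      have ha'0 : (a' : K) ≠ 0 := fun h => nonZeroDivisors.ne_zero ha' (Subtype.ext h)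
      have hc'0 : c' * fC i₀ ^ n ≠ 0 := by
        intro h
        have h1 : (c' : K) * f i₀ ^ n = 0 := by
          have := congrArg (Subtype.val : C → K) h
          simpa [fC] using this
        rw [← hc'K] at h1
        have := pow_ne_zero n (hf0 i₀)
        have := pow_ne_zero m (hf0 i₀)
        simp_all
      refine ⟨(c * fC i₀ ^ m, ⟨c' * fC i₀ ^ n, mem_nonZeroDivisors_of_ne_zero hc'0⟩), ?_⟩
      change (a : K) / (a' : K) * ((c' : K) * f i₀ ^ n) = (c : K) * f i₀ ^ m
      rw [← hcK, ← hc'K]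
      field_simp
    · intro y y' h
      exact ⟨1, by rw [Subtype.ext h]⟩
  have hopen : ∀ i, IsOpenImmersion (Spec.map (CommRingCat.ofHom (algebraMap C (A i)))) :=
    fun i => IsOpenImmersion.of_isLocalization (fC i)
  have hrange : ∀ i, Set.range (PrimeSpectrum.comap (algebraMap C (A i))) =
      PrimeSpectrum.basicOpen (fC i) :=
    fun i => PrimeSpectrum.localization_away_comap_range (A i) (fC i)
  have hmem : ∀ (i : Fin r) (p : PrimeSpectrum C),
      p ∈ Set.range (Spec.map (CommRingCat.ofHom (Subring.inclusion (iInf_le A i)))).base ↔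
        fC i ∉ p.asIdeal := by
    intro i p
    have : p ∈ Set.range (PrimeSpectrum.comap (algebraMap C (A i))) ↔ fC i ∉ p.asIdeal := by
      rw [hrange i]; rfl
    exact this
  refine ⟨hCnoeth, hCdim, hCsl, hCfrac, hopen, ?_, ?_⟩
  · rw [Set.eq_univ_iff_forall]
    intro p
    obtain ⟨i, hi⟩ := KA.exists_notMem_of_sum_eq_one fC hsumC (p : PrimeSpectrum C).asIdeal
      (p : PrimeSpectrum C).2.ne_top
    exact Set.mem_iUnion.mpr ⟨i, (hmem i p).mpr hi⟩
  · intro m hm
    obtain ⟨i, hi⟩ := KA.exists_notMem_of_sum_eq_one fC hsumC m.asIdeal hm.ne_top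
    refine ⟨i, (hmem i m).mpr hi, ?_⟩
    intro j hj
    rw [hmem j m] at hj
    by_contra hji
    -- `m.map` is a maximal ideal of `A i`, which contains `f j`
    have hp := m.2
    have dp : Disjoint (Submonoid.powers (fC i) : Set C) m.asIdeal :=
      (Ideal.disjoint_powers_iff_notMem_of_isPrime (fC i)).mpr hi
    have hpi := IsLocalization.isPrime_of_isPrime_disjoint (Submonoid.powers (fC i)) (A i)
      m.asIdeal hp dp
    have hpu := IsLocalization.under_map_of_isPrime_disjoint (Submonoid.powers (fC i)) (A i) hp dp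
    have hpi0 : m.asIdeal.map (algebraMap C (A i)) ≠ ⊥ := by
      intro h
      rw [h, Ideal.under_def, Ideal.comap_bot_of_injective _ (hinj i)] at hpu
      exact Ring.ne_bot_of_isMaximal_of_not_isField hm hCnf hpu.symm
    have hpimax : (m.asIdeal.map (algebraMap C (A i))).IsMaximal :=
      Ring.krullDimLE_one_iff_of_noZeroDivisors.mp (hKd i) _ hpi0 hpi
    obtain ⟨h, hrad⟩ := hfrad j i (fun h => hji h.symm)
    have hmemJ : (⟨f j, h⟩ : A i) ∈ m.asIdeal.map (algebraMap C (A i)) := by
      rw [Ideal.jacobson, Ideal.mem_sInf] at hrad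
      exact hrad ⟨bot_le, hpimax⟩
    have : fC j ∈ (m.asIdeal.map (algebraMap C (A i))).under C := hmemJ
    rw [hpu] at this
    exact hj this

end Helpers

/-- Let K be a field and A_1, …, A_r ⊆ K (r ≥ 1) Noetherian semi-local rings of dimension one with
fraction field K, and assume A_i and A_j generate K as a ring whenever i ≠ j. Then A = A_1 ∩ … ∩ A_r
is a Noetherian semi-local domain of dimension one with fraction field K contained in every A_i,
each Spec A_i → Spec A is an open immersion, Spec A is the union of their images, and every closed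
point of Spec A belongs to the image of exactly one Spec A_i. (The published statement asserts only
that some such subring A exists; this row takes A to be the intersection A_1 ∩ … ∩ A_r.) -/
theorem result (K : Type u) [Field K] (r : ℕ) (hr : 1 ≤ r)
    (A : Fin r → Subring K) [∀ i, IsNoetherianRing (A i)] [∀ i, IsFractionRing (A i) K]
    (hdim : ∀ i, ringKrullDim (A i) = 1) (hsl : ∀ i, Finite (MaximalSpectrum (A i)))
    (hgen : ∀ i j, i ≠ j → A i ⊔ A j = ⊤) :
    IsNoetherianRing ↥(⨅ i, A i) ∧ ringKrullDim ↥(⨅ i, A i) = 1 ∧ Finite (MaximalSpectrum ↥(⨅ i, A i)) ∧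
      IsFractionRing ↥(⨅ i, A i) K ∧
      (∀ i, IsOpenImmersion (Spec.map (CommRingCat.ofHom (Subring.inclusion (iInf_le A i))))) ∧
      (⋃ i, Set.range (Spec.map (CommRingCat.ofHom (Subring.inclusion (iInf_le A i)))).base) = Set.univ ∧
      (∀ m : PrimeSpectrum ↥(⨅ i, A i), m.asIdeal.IsMaximal →
        ∃! i, m ∈ Set.range (Spec.map (CommRingCat.ofHom (Subring.inclusion (iInf_le A i)))).base) := by
  exact main7665 K r hr A hdim hsl hgen

end Groth.Agent.S7665
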