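import Groth.Statements.S7666
-- import your own Groth.Agent.* helpers here

set_option autoImplicit false
universe u
open CategoryTheory CategoryTheory.Limits AlgebraicGeometry
open Variety

namespace Groth.Agent.S7666

/-- Let A be a one-dimensional Noetherian local ring and L = ∏ A_p, the product over the minimal primes
of A. If a_1, a_2 ∈ m_A have the same image in L, then a_1 and a_2 have equal n-th powers for some
positive integer n. -/
theorem result (A : Type u) [CommRing A]
    [IsLocalRing A] [IsNoetherianRing A] (hdim : ringKrullDim A = 1)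
    (a₁ a₂ : A) (h₁ : a₁ ∈ IsLocalRing.maximalIdeal A) (h₂ : a₂ ∈ IsLocalRing.maximalIdeal A)
    (heq : ∀ p : {p : PrimeSpectrum A // p.asIdeal ∈ minimalPrimes A},
      algebraMap A (Localization.AtPrime p.1.asIdeal) a₁ = algebraMap A (Localization.AtPrime p.1.asIdeal) a₂) :
    ∃ n : ℕ, 0 < n ∧ a₁ ^ n = a₂ ^ n := by
  classical
  set m := IsLocalRing.maximalIdeal A with hm
  set d := a₁ - a₂ with hd
  set J : Ideal A := Ideal.span {d} with hJ
  -- the annihilator of d
  set ann : Ideal A := Submodule.annihilator J with hann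
  have hdim1 : Ring.KrullDimLE 1 A := Ring.krullDimLE_iff.2 (by rw [hdim]; rfl)
  -- ann is not contained in any minimal prime
  have hnot : ∀ p ∈ minimalPrimes A, ¬ ann ≤ p := by
    intro p hp hle
    have hpp : p.IsPrime := hp.1.1
    have := heq ⟨⟨p, hpp⟩, hp⟩
    rw [← sub_eq_zero, ← map_sub] at this
    obtain ⟨s, hs⟩ := (IsLocalization.map_eq_zero_iff p.primeCompl
      (Localization.AtPrime p) d).1 this
    have hsann : (s : A) ∈ ann := by
      rw [hann, hJ, Submodule.mem_annihilator_span_singleton]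
      simpa [smul_eq_mul] using hs
    exact s.2 (hle hsann)
  -- m ≤ radical ann
  have hrad : m ≤ ann.radical := by
    rw [Ideal.radical_eq_sInf]
    refine le_sInf ?_
    rintro P ⟨hP, hPprime⟩
    rcases Ring.krullDimLE_one_iff.1 hdim1 P hPprime with hmin | hmax
    · exact absurd hP (hnot P hmin)
    · rw [IsLocalRing.eq_maximalIdeal hmax]
  obtain ⟨N, hN⟩ := Ideal.exists_pow_le_of_le_radical_of_fg hrad
    (IsNoetherian.noetherian m)
  refine ⟨N + 1, Nat.succ_pos N, ?_⟩
  rw [← sub_eq_zero, ← geom_sum₂_mul]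
  have hsum : (∑ i ∈ Finset.range (N + 1), a₁ ^ i * a₂ ^ (N + 1 - 1 - i)) ∈ m ^ N := by
    refine Ideal.sum_mem _ fun i hi => ?_
    have hi' : i ≤ N := Nat.lt_succ_iff.1 (Finset.mem_range.1 hi)
    have h1 : a₁ ^ i ∈ m ^ i := Ideal.pow_mem_pow h₁ i
    have h2 : a₂ ^ (N + 1 - 1 - i) ∈ m ^ (N - i) := by
      have : N + 1 - 1 - i = N - i := by omega
      rw [this]
      exact Ideal.pow_mem_pow h₂ _
    have : a₁ ^ i * a₂ ^ (N + 1 - 1 - i) ∈ m ^ i * m ^ (N - i) := Ideal.mul_mem_mul h1 h2
    rwa [← pow_add, Nat.add_sub_cancel' hi'] at this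
  have hmem : (∑ i ∈ Finset.range (N + 1), a₁ ^ i * a₂ ^ (N + 1 - 1 - i)) ∈ ann := hN hsum
  rw [hann, hJ, Submodule.mem_annihilator_span_singleton] at hmem
  simpa [smul_eq_mul] using hmem

end Groth.Agent.S7666
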