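import Groth.Statements.S7667
-- import your own Groth.Agent.* helpers here

set_option autoImplicit false
universe u
open CategoryTheory CategoryTheory.Limits AlgebraicGeometry
open Variety

namespace Groth.Agent.S7667

/-- Let A be a one-dimensional Noetherian local ring, L the product of the localizations A_p over its
minimal primes p, and I the intersection of those primes (the nilradical of A). If f ∈ L equals i +
a with a in the maximal ideal of A and i ∈ I·L, then for some positive integer n, f^n belongs to the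
subring of L obtained as the image of the structure map from A. -/
theorem result (A : Type u) [CommRing A]
    [IsLocalRing A] [IsNoetherianRing A] (hdim : ringKrullDim A = 1)
    (a : A) (ha : a ∈ IsLocalRing.maximalIdeal A)
    (i : ∀ p : {p : PrimeSpectrum A // p.asIdeal ∈ minimalPrimes A}, Localization.AtPrime p.1.asIdeal)
    (hi : i ∈ (nilradical A).map (algebraMap A (∀ p : {p : PrimeSpectrum A // p.asIdeal ∈ minimalPrimes A}, Localization.AtPrime p.1.asIdeal))) :
    ∃ n : ℕ, 0 < n ∧ (i + algebraMap A (∀ p : {p : PrimeSpectrum A // p.asIdeal ∈ minimalPrimes A}, Localization.AtPrime p.1.asIdeal) a) ^ n ∈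
      (algebraMap A (∀ p : {p : PrimeSpectrum A // p.asIdeal ∈ minimalPrimes A}, Localization.AtPrime p.1.asIdeal)).range := by
  classical
  revert i
  set P := {p : PrimeSpectrum A // p.asIdeal ∈ minimalPrimes A} with hP
  set L := ∀ p : P, Localization.AtPrime p.1.asIdeal with hL
  intro i hi
  set m := IsLocalRing.maximalIdeal A with hm
  have hdim1 : Ring.KrullDimLE 1 A := Ring.krullDimLE_iff.2 (by rw [hdim]; rfl)
  -- P is finite
  have hfinP : Finite P := by
    have h := minimalPrimes.finite_of_isNoetherianRing A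
    have : Finite {q : Ideal A // q ∈ minimalPrimes A} := h.to_subtype
    refine Finite.of_injective (fun p : P => (⟨p.1.asIdeal, p.2⟩ : {q : Ideal A // q ∈ minimalPrimes A})) ?_
    intro p q hpq
    apply Subtype.ext
    apply PrimeSpectrum.ext
    exact congrArg Subtype.val hpq
  have : Fintype P := Fintype.ofFinite P
  -- the image subring / submodule
  set R : Submodule A L := LinearMap.range (Algebra.linearMap A L) with hR
  have hRmem : ∀ x : L, x ∈ R ↔ x ∈ (algebraMap A L).range := by
    intro x
    simp [hR, LinearMap.mem_range, RingHom.mem_range, Algebra.linearMap_apply]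
  -- Step 1: i is nilpotent
  have hnil : IsNilpotent i := by
    have hle : (nilradical A).map (algebraMap A L) ≤ nilradical L := by
      rw [Ideal.map_le_iff_le_comap]
      intro x hx
      rw [Ideal.mem_comap, mem_nilradical]
      exact (mem_nilradical.1 hx).map _
    exact mem_nilradical.1 (hle hi)
  -- Step 2a: local statement
  have hloc : ∀ (x : L) (p₀ : P), ∃ s : A, s ∉ p₀.1.asIdeal ∧ s • x ∈ R := by
    intro x p₀
    -- for q ≠ p₀ choose u_q ∉ p₀ mapping to zero in A_q
    have hu : ∀ q : P, q ≠ p₀ → ∃ u : A, u ∉ p₀.1.asIdeal ∧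
        algebraMap A (Localization.AtPrime q.1.asIdeal) u = 0 := by
      intro q hq
      have hnle : ¬ q.1.asIdeal ≤ p₀.1.asIdeal := by
        intro hle
        have : p₀.1.asIdeal ≤ q.1.asIdeal := p₀.2.2 ⟨q.1.isPrime, bot_le⟩ hle
        exact hq (Subtype.ext (PrimeSpectrum.ext (le_antisymm hle this)))
      obtain ⟨t, htq, htp⟩ := SetLike.not_le_iff_exists.1 hnle
      have := q.1.isPrime
      have hrad := IsLocalization.AtPrime.radical_map_of_mem_minimalPrimes
        (A := Localization.AtPrime q.1.asIdeal) q.1.asIdeal ⊥ q.2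
      have htmem : algebraMap A (Localization.AtPrime q.1.asIdeal) t ∈
          (q.1.asIdeal).map (algebraMap A (Localization.AtPrime q.1.asIdeal)) :=
        Ideal.mem_map_of_mem _ htq
      rw [← hrad, Ideal.map_bot] at htmem
      obtain ⟨k, hk⟩ := htmem
      rw [Ideal.mem_bot, ← map_pow] at hk
      refine ⟨t ^ k, fun h => htp (p₀.1.isPrime.mem_of_pow_mem k h), hk⟩
    choose! u hu1 hu2 using hu
    set w : A := ∏ q ∈ Finset.univ.erase p₀, u q with hw
    have hwp : w ∉ p₀.1.asIdeal := by
      rw [hw, p₀.1.isPrime.prod_mem_iff]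
      rintro ⟨q, hq, hmem⟩
      exact hu1 q (Finset.ne_of_mem_erase hq) hmem
    have hwq : ∀ q : P, q ≠ p₀ → algebraMap A (Localization.AtPrime q.1.asIdeal) w = 0 := by
      intro q hq
      rw [hw, map_prod]
      exact Finset.prod_eq_zero (Finset.mem_erase.2 ⟨hq, Finset.mem_univ q⟩) (hu2 q hq)
    obtain ⟨⟨b, v⟩, hbv⟩ := IsLocalization.surj p₀.1.asIdeal.primeCompl (x p₀)
    refine ⟨(v : A) * w, ?_, ?_⟩
    · intro h
      rcases p₀.1.isPrime.mem_or_mem h with h | h
      · exact v.2 h
      · exact hwp h
    · rw [hR, LinearMap.mem_range]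
      refine ⟨w * b, ?_⟩
      rw [Algebra.linearMap_apply]
      funext q
      rw [Pi.algebraMap_apply, Pi.smul_apply, Algebra.smul_def]
      by_cases hq : q = p₀
      · subst hq
        simp only at hbv
        rw [map_mul, map_mul, ← hbv]
        ring
      · rw [map_mul, map_mul, hwq q hq]
        ring
  -- Step 2b: global statement
  have hglob : ∀ x : L, ∃ N : ℕ, (algebraMap A L a) ^ N * x ∈ R := by
    intro x
    set ann : Ideal A := R.colon {x} with hann
    have hnot : ∀ p ∈ minimalPrimes A, ¬ ann ≤ p := by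
      intro p hp hle
      obtain ⟨s, hs1, hs2⟩ := hloc x ⟨⟨p, hp.1.1⟩, hp⟩
      exact hs1 (hle (Submodule.mem_colon_singleton.2 hs2))
    have hrad : m ≤ ann.radical := by
      rw [Ideal.radical_eq_sInf]
      refine le_sInf ?_
      rintro Q ⟨hQ, hQprime⟩
      rcases Ring.krullDimLE_one_iff.1 hdim1 Q hQprime with hmin | hmax
      · exact absurd hQ (hnot Q hmin)
      · rw [IsLocalRing.eq_maximalIdeal hmax]
    obtain ⟨N, hN⟩ := Ideal.exists_pow_le_of_le_radical_of_fg hrad
      (IsNoetherian.noetherian m)
    refine ⟨N, ?_⟩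
    have haN : a ^ N ∈ ann := hN (Ideal.pow_mem_pow ha N)
    have := Submodule.mem_colon_singleton.1 haN
    rwa [Algebra.smul_def, map_pow] at this
  -- Step 3
  obtain ⟨t, ht⟩ := hnil
  choose Nf hNf using fun j : ℕ => hglob (i ^ j)
  set N := ∑ j ∈ Finset.range t, Nf j with hNdef
  have hRsub : ∀ x y : L, x ∈ R → y ∈ R → x * y ∈ R := by
    intro x y hx hy
    rw [hRmem] at hx hy ⊢
    exact Subring.mul_mem _ hx hy
  have haR : ∀ k : ℕ, (algebraMap A L a) ^ k ∈ R := by
    intro k
    rw [hRmem, ← map_pow]
    exact RingHom.mem_range_self _ _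
  refine ⟨N + t + 1, Nat.succ_pos _, ?_⟩
  rw [← hRmem, add_pow]
  refine Submodule.sum_mem _ fun j hj => ?_
  by_cases hjt : j < t
  · have hle : Nf j ≤ N + t + 1 - j := by
      have h1 : Nf j ≤ N := Finset.single_le_sum (f := Nf) (fun _ _ => Nat.zero_le _)
        (Finset.mem_range.2 hjt)
      omega
    have h2 : i ^ j * (algebraMap A L a) ^ (N + t + 1 - j) =
        (algebraMap A L a) ^ (N + t + 1 - j - Nf j) * ((algebraMap A L a) ^ Nf j * i ^ j) := by
      rw [← mul_assoc, ← pow_add, Nat.sub_add_cancel hle, mul_comm]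
    rw [h2]
    have h3 : ((N + t + 1).choose j : L) ∈ R := by
      rw [hRmem]
      exact natCast_mem _ _
    exact hRsub _ _ (hRsub _ _ (haR _) (hNf j)) h3
  · have : i ^ j = 0 := pow_eq_zero_of_le (not_lt.1 hjt) ht
    rw [this, zero_mul, zero_mul]
    exact R.zero_mem

end Groth.Agent.S7667
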