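import Groth.Statements.S7668
-- import your own Groth.Agent.* helpers here

set_option autoImplicit false
universe u
open CategoryTheory CategoryTheory.Limits AlgebraicGeometry
open Variety

namespace Groth.Agent.S7668

/-- Let A be a ring, p_1, …, p_r primes of A and S = A ∖ ⋃ p_i. Then S is a multiplicative subset, S⁻¹A
is semi-local, and contraction to A is a bijection from the maximal ideals of S⁻¹A onto the maximal
elements of {p_1, …, p_r}. -/
theorem result (A : Type u) [CommRing A]
    (r : ℕ) (p : Fin r → PrimeSpectrum A) :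
    Finite (MaximalSpectrum (Localization (⨅ i, (p i).asIdeal.primeCompl))) ∧
      Set.BijOn (fun m : Ideal (Localization (⨅ i, (p i).asIdeal.primeCompl)) =>
          m.comap (algebraMap A (Localization (⨅ i, (p i).asIdeal.primeCompl))))
        {m | m.IsMaximal}
        {q | q ∈ Set.range (fun i => (p i).asIdeal) ∧
          ∀ j, q ≤ (p j).asIdeal → q = (p j).asIdeal} := by
  classical
  set M : Submonoid A := ⨅ i, (p i).asIdeal.primeCompl with hM
  set L := Localization M with hL
  have hmemM : ∀ x : A, x ∈ M ↔ ∀ i, x ∉ (p i).asIdeal := by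
    intro x
    rw [hM, Submonoid.mem_iInf]
    rfl
  -- each p i is disjoint from M
  have hdisj : ∀ i, Disjoint (M : Set A) ((p i).asIdeal : Set A) := by
    intro i
    rw [Set.disjoint_left]
    intro x hx hxp
    exact (hmemM x).1 hx i hxp
  -- a prime disjoint from M lies in some p i
  have havoid : ∀ P : Ideal A, P.IsPrime → Disjoint (M : Set A) (P : Set A) →
      ∃ i, P ≤ (p i).asIdeal := by
    intro P hP hd
    have hsub : (P : Set A) ⊆ ⋃ i ∈ ((Finset.univ : Finset (Fin r)) : Set (Fin r)),
        ((p i).asIdeal : Set A) := by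
      intro x hx
      by_contra hcon
      have hxM : x ∈ M := by
        rw [hmemM]
        intro i hi
        apply hcon
        simp only [Finset.coe_univ, Set.mem_univ, Set.iUnion_true, Set.mem_iUnion]
        exact ⟨i, hi⟩
      exact Set.disjoint_left.1 hd hxM hx
    by_cases hr : r = 0
    · subst hr
      exfalso
      have h1 : (1 : A) ∈ M := M.one_mem
      have h0 : (0 : A) ∈ M := by
        rw [hmemM]; intro i; exact i.elim0
      exact Set.disjoint_left.1 hd h0 P.zero_mem
    · have i0 : Fin r := ⟨0, Nat.pos_of_ne_zero hr⟩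
      obtain ⟨i, -, hi⟩ := (Ideal.subset_union_prime (f := fun i => (p i).asIdeal) i0 i0
        (fun i _ _ _ => (p i).isPrime)).1 hsub
      exact ⟨i, hi⟩
  -- key fact: comap of a maximal ideal is some p i, maximal among the p j
  have hkey : ∀ m : Ideal L, m.IsMaximal →
      ∃ i, m.comap (algebraMap A L) = (p i).asIdeal ∧
        ∀ j, (p i).asIdeal ≤ (p j).asIdeal → (p i).asIdeal = (p j).asIdeal := by
    intro m hm
    have hmp : m.IsPrime := hm.isPrime
    obtain ⟨hP, hPd⟩ := (IsLocalization.isPrime_iff_isPrime_disjoint M L m).1 hmp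
    obtain ⟨i, hi⟩ := havoid _ hP hPd
    have hmapne : ∀ j, Ideal.map (algebraMap A L) (p j).asIdeal ≠ ⊤ := fun j =>
      (IsLocalization.isPrime_of_isPrime_disjoint M L _ (p j).isPrime (hdisj j)).ne_top
    have hcm : ∀ j, (Ideal.map (algebraMap A L) (p j).asIdeal).comap (algebraMap A L)
        = (p j).asIdeal := fun j =>
      IsLocalization.under_map_of_isPrime_disjoint M L (p j).isPrime (hdisj j)
    have hle : ∀ j, m.comap (algebraMap A L) ≤ (p j).asIdeal →
        m = Ideal.map (algebraMap A L) (p j).asIdeal := by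
      intro j hj
      have h1 : m ≤ Ideal.map (algebraMap A L) (p j).asIdeal := by
        rw [← IsLocalization.map_under M L m]
        exact Ideal.map_mono hj
      exact hm.eq_of_le (hmapne j) h1
    have hmi := hle i hi
    have hci : m.comap (algebraMap A L) = (p i).asIdeal := by
      rw [hmi]; exact hcm i
    refine ⟨i, hci, fun j hj => ?_⟩
    have hmj := hle j (hci ▸ hj)
    rw [← hcm i, ← hmi, hmj, hcm j]
  have hinj : Function.Injective (fun m : Ideal L => m.comap (algebraMap A L)) :=
    (IsLocalization.orderEmbedding M L).injective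
  refine ⟨?_, ?_, ?_, ?_⟩
  · -- finiteness
    have hfin : (Set.range (fun i => (p i).asIdeal)).Finite := Set.finite_range _
    have : Finite (Set.range (fun i => (p i).asIdeal)) := hfin.to_subtype
    let φ : MaximalSpectrum L → Set.range (fun i => (p i).asIdeal) := fun m =>
      ⟨m.asIdeal.comap (algebraMap A L), by
        obtain ⟨i, hi, -⟩ := hkey m.asIdeal m.isMaximal
        exact ⟨i, hi.symm⟩⟩
    refine Finite.of_injective φ ?_
    intro m₁ m₂ h
    have : m₁.asIdeal.comap (algebraMap A L) = m₂.asIdeal.comap (algebraMap A L) :=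
      congrArg Subtype.val h
    exact MaximalSpectrum.ext (hinj this)
  · -- maps to
    intro m hm
    obtain ⟨i, hi, hmax⟩ := hkey m hm
    refine ⟨⟨i, hi.symm⟩, fun j hj => ?_⟩
    show m.comap (algebraMap A L) = (p j).asIdeal
    have hj' : m.comap (algebraMap A L) ≤ (p j).asIdeal := hj
    rw [hi] at hj' ⊢
    exact hmax j hj'
  · -- injective
    exact hinj.injOn
  · -- surjective
    rintro q ⟨⟨i, rfl⟩, hq⟩
    have hne : Ideal.map (algebraMap A L) (p i).asIdeal ≠ ⊤ :=
      (IsLocalization.isPrime_of_isPrime_disjoint M L _ (p i).isPrime (hdisj i)).ne_top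
    obtain ⟨m, hm, hle⟩ := Ideal.exists_le_maximal _ hne
    refine ⟨m, hm, ?_⟩
    obtain ⟨j, hj, -⟩ := hkey m hm
    show m.comap (algebraMap A L) = (p i).asIdeal
    have h1 : (p i).asIdeal ≤ m.comap (algebraMap A L) := by
      rw [← IsLocalization.under_map_of_isPrime_disjoint M L (p i).isPrime (hdisj i)]
      exact Ideal.comap_mono hle
    rw [hj] at h1 ⊢
    exact (hq j h1).symm

end Groth.Agent.S7668
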