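import Groth.Statements.S7675
import Groth.Agent.Lib.Helper14.PD3
import Groth.Agent.Lib.Helper14.PD4

set_option autoImplicit false
universe u
open CategoryTheory CategoryTheory.Limits AlgebraicGeometry
open Variety

namespace Groth.Agent.S7675

namespace PDd
open Groth.Agent.Lib.Helper14.PD4 Groth.Agent.Lib.Helper14.PD3 Groth.Agent.Lib.Helper14.PD2
open Groth.Agent.Lib.Helper14.PD1
open Groth.Agent.Lib.Helper87.HilbFnI Groth.Agent.Lib.Helper87.HilbFnE
open MvPolynomial Order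

variable {k : Type u} [Field k] {σ : Type} [Finite σ]

attribute [local instance] MvPolynomial.gradedAlgebra

local notation "𝒜" => homogeneousSubmodule σ k

/-- a closed set of dimension `r` contains a point whose closure has dimension `r` -/
theorem exists_point_dim {X : Set (ProjectiveSpectrum 𝒜)} (hX : IsClosed X) (r : ℕ)
    (hXr : topologicalKrullDim ↥X = r) :
    ∃ x ∈ X, ringKrullDim (MvPolynomial σ k ⧸ x.asHomogeneousIdeal.toIdeal) =
      ((r + 1 : ℕ) : WithBot ℕ∞) := by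
  rw [topologicalKrullDim_subtype_eq specOrd hX] at hXr
  obtain ⟨l, hl⟩ := le_krullDim_iff.mp (le_of_eq hXr.symm)
  set x := l.head with hx
  have hsub : {y : ProjectiveSpectrum 𝒜 | x.1 ≤ y} ⊆ X := fun y hy => mem_of_le specOrd hX x.2 hy
  have h1 : (r : WithBot ℕ∞) ≤ krullDim ↥{y : ProjectiveSpectrum 𝒜 | x.1 ≤ y} := by
    rw [le_krullDim_iff]
    refine ⟨⟨l.length, fun i => ⟨(l i).1, LTSeries.head_le l i⟩, fun i => l.step i⟩, hl⟩
  have h2 : krullDim ↥{y : ProjectiveSpectrum 𝒜 | x.1 ≤ y} ≤ (r : WithBot ℕ∞) := by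
    rw [← hXr]
    exact krullDim_le_of_strictMono (fun y => ⟨y.1, hsub y.2⟩) (fun a b hab => hab)
  refine ⟨x.1, x.2, ?_⟩
  rw [← krullDim_Ici_add_one, le_antisymm h2 h1]
  push_cast
  rfl

theorem proj_dim (n r s : ℕ)
    (X Y : Set (ProjectiveSpectrum (homogeneousSubmodule (Fin (n + 1)) k)))
    (hX : IsClosed X) (hY : IsClosed Y)
    (hXr : topologicalKrullDim ↥X = r) (hYs : topologicalKrullDim ↥Y = s) (hrs : n ≤ r + s) :
    (X ∩ Y).Nonempty ∧
      ((r + s : ℕ) : WithBot ℕ∞) ≤ topologicalKrullDim ↥(X ∩ Y) + (n : WithBot ℕ∞) := by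
  obtain ⟨x, hxX, hx⟩ := exists_point_dim hX r hXr
  obtain ⟨y, hyY, hy⟩ := exists_point_dim hY s hYs
  set p := x.asHomogeneousIdeal.toIdeal with hp
  set q := y.asHomogeneousIdeal.toIdeal with hq
  have hIh : (p ⊔ q).IsHomogeneous (homogeneousSubmodule (Fin (n + 1)) k) :=
    x.asHomogeneousIdeal.isHomogeneous.sup y.asHomogeneousIdeal.isHomogeneous
  have hItop : p ⊔ q ≠ ⊤ := by
    intro h
    have hle : p ⊔ q ≤ irr k (Fin (n + 1)) :=
      sup_le (le_irr_of_isHomogeneous x.asHomogeneousIdeal.isHomogeneous x.isPrime.ne_top)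
        (le_irr_of_isHomogeneous y.asHomogeneousIdeal.isHomogeneous y.isPrime.ne_top)
    rw [h, top_le_iff] at hle
    exact (irr_isMaximal (k := k) (σ := Fin (n + 1))).ne_top hle
  obtain ⟨m, hm⟩ := Ideal.nonempty_minimalPrimes hItop
  have hmp : m.IsPrime := hm.1.1
  have hmh := isHomogeneous_of_mem_minimalPrimes hIh hm
  have haff := affine_dim p q m hm
  obtain ⟨dm, hdm⟩ := exists_nat_dim (k := k) m
  rw [hx, hy, hdm] at haff
  have h1 : (r + 1) + (s + 1) ≤ dm + (n + 1) := by exact_mod_cast haff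
  have hrel : ¬ (HomogeneousIdeal.irrelevant (homogeneousSubmodule (Fin (n + 1)) k)).toIdeal ≤ m :=
    relevant_of_dim hmh (dm - 1) (by rw [hdm]; congr 1; omega)
  set z := mkPt m hmp hmh hrel with hz
  have hxz : x ≤ z := le_sup_left.trans hm.1.2
  have hyz : y ≤ z := le_sup_right.trans hm.1.2
  have hzX : z ∈ X := mem_of_le specOrd hX hxX hxz
  have hzY : z ∈ Y := mem_of_le specOrd hY hyY hyz
  refine ⟨⟨z, hzX, hzY⟩, ?_⟩
  obtain ⟨ez, hez, htop⟩ := exists_nat_dim_point z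
  have hez' : ((ez + 1 : ℕ) : WithBot ℕ∞) = (dm : WithBot ℕ∞) := by
    rw [← hez, ← hdm]
    rfl
  have hez'' : ez + 1 = dm := by exact_mod_cast hez'
  have hsub : {w : ProjectiveSpectrum (homogeneousSubmodule (Fin (n + 1)) k) | z ≤ w} ⊆ X ∩ Y :=
    fun w hw => ⟨mem_of_le specOrd hX hzX hw, mem_of_le specOrd hY hzY hw⟩
  have hmono := topologicalKrullDim_mono hsub
  rw [htop] at hmono
  have h2 : r + s ≤ ez + n := by omega
  calc ((r + s : ℕ) : WithBot ℕ∞) ≤ ((ez + n : ℕ) : WithBot ℕ∞) := by exact_mod_cast h2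
    _ = (ez : WithBot ℕ∞) + (n : WithBot ℕ∞) := by push_cast; rfl
    _ ≤ _ := by gcongr

theorem main (k : Type u) [Field k] (n r s : ℕ)
    (X Y : Set ↥(CohB1.ProjSpace n k)) (hX : IsClosed X) (hY : IsClosed Y)
    (_hXne : X.Nonempty) (_hYne : Y.Nonempty)
    (hXr : topologicalKrullDim X = r) (hYs : topologicalKrullDim Y = s) (hrs : n ≤ r + s) :
    (X ∩ Y).Nonempty ∧ ((r + s : ℕ) : WithBot ℕ∞) ≤ topologicalKrullDim ↥(X ∩ Y) + (n : WithBot ℕ∞) :=
  proj_dim n r s X Y hX hY hXr hYs hrs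

end PDd


/-- Let k be a field, n ≥ 0 and X, Y ⊆ P^n_k nonempty closed subsets of dimensions r and s with r + s ≥
n. Then X ∩ Y is nonempty and dim(X ∩ Y) ≥ r + s − n. -/
theorem result (k : Type u) [Field k] (n r s : ℕ)
    (X Y : Set ↥(CohB1.ProjSpace n k)) (hX : IsClosed X) (hY : IsClosed Y)
    (hXne : X.Nonempty) (hYne : Y.Nonempty)
    (hXr : topologicalKrullDim X = r) (hYs : topologicalKrullDim Y = s) (hrs : n ≤ r + s) :
    (X ∩ Y).Nonempty ∧ ((r + s : ℕ) : WithBot ℕ∞) ≤ topologicalKrullDim ↥(X ∩ Y) + (n : WithBot ℕ∞) :=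
  PDd.main k n r s X Y hX hY hXne hYne hXr hYs hrs

end Groth.Agent.S7675
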