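import Groth.Statements.S7678
import Groth.Agent.Lib.Helper39.FrobRed.Alg
import Groth.Agent.S2536
-- import your own Groth.Agent.* helpers here

set_option autoImplicit false
universe u
open CategoryTheory CategoryTheory.Limits AlgebraicGeometry
open Variety

namespace Groth.Agent.S7678

section Helpers

set_option autoImplicit false
set_option linter.style.haveILetI false
open CategoryTheory CategoryTheory.Limits AlgebraicGeometry
open scoped TensorProduct

namespace T7678

open Groth.Agent.Lib.Helper39.FrobRed

/-- affine case -/
theorem isReduced_pullback_affine (k : Type u) [Field k] (p : ℕ) [Fact p.Prime] [CharP k p]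
    (R : CommRingCat.{u}) (h : Spec R ⟶ Spec (CommRingCat.of k))
    (hred : IsReduced (pullback h (Spec.map (CommRingCat.ofHom (frobenius k p)))))
    (K : Type u) [Field K] (x : Spec (CommRingCat.of K) ⟶ Spec (CommRingCat.of k)) :
    IsReduced (pullback h x) := by
  obtain ⟨ψ, rfl⟩ := Spec.map_surjective h
  obtain ⟨φ, rfl⟩ := Spec.map_surjective x
  letI : Algebra k R := ψ.hom.toAlgebra
  letI : Algebra k K := φ.hom.toAlgebra
  haveI : IsReduced (pullback (Spec.map (CommRingCat.ofHom (algebraMap k R)))
      (Spec.map (CommRingCat.ofHom (algebraMap k (FrobField k p))))) := hred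
  have h1 : IsReduced (Spec (CommRingCat.of (R ⊗[k] FrobField k p))) :=
    isReduced_of_isOpenImmersion (pullbackSpecIso k R (FrobField k p)).inv
  have h2 : _root_.IsReduced (R ⊗[k] FrobField k p) :=
    (affine_isReduced_iff (CommRingCat.of (R ⊗[k] FrobField k p))).1 h1
  have h3 : _root_.IsReduced (FrobField k p ⊗[k] R) :=
    isReduced_of_injective (Algebra.TensorProduct.comm k (FrobField k p) R).toAlgHom
      (Algebra.TensorProduct.comm k (FrobField k p) R).injective
  haveI : Algebra.IsGeometricallyReduced k R :=
    isGeometricallyReduced_of_isReduced_tensor_frobField k p R h3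
  have h4 : _root_.IsReduced (K ⊗[k] R) := Groth.Agent.S2536.isReduced_tensorProduct_field k R K
  have h5 : _root_.IsReduced (R ⊗[k] K) :=
    isReduced_of_injective (Algebra.TensorProduct.comm k R K).toAlgHom
      (Algebra.TensorProduct.comm k R K).injective
  have h6 : IsReduced (Spec (CommRingCat.of (R ⊗[k] K))) :=
    (affine_isReduced_iff (CommRingCat.of (R ⊗[k] K))).2 h5
  exact isReduced_of_isOpenImmersion (pullbackSpecIso k R K).hom

theorem main7678 (k : Type u) [Field k] (X : Scheme.{u}) [X.Over (Spec (CommRingCat.of k))]
    (p : ℕ) [Fact p.Prime] [CharP k p] :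
    GeometricallyReduced (X ↘ (Spec (CommRingCat.of k))) ↔
      IsReduced ↑(pullback (X ↘ (Spec (CommRingCat.of k))) (Spec.map (CommRingCat.ofHom (frobenius k p)))) := by
  constructor
  · intro h
    exact GeometricallyReduced.geometrically_isReduced _ _ _ (.of_hasPullback _ _)
  · intro h
    refine ⟨geometrically_iff_of_isClosedUnderIsomorphisms.mpr fun K _ x => ?_⟩
    apply +allowSynthFailures @IsReduced.of_openCover
      (𝒰 := Scheme.Pullback.openCoverOfLeft X.affineCover (X ↘ (Spec (CommRingCat.of k))) x)
    intro i
    refine isReduced_pullback_affine k p _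
      (X.affineCover.f i ≫ (X ↘ (Spec (CommRingCat.of k)))) ?_ K x
    have hoi : IsOpenImmersion ((Scheme.Pullback.openCoverOfLeft X.affineCover
      (X ↘ (Spec (CommRingCat.of k))) (Spec.map (CommRingCat.ofHom (frobenius k p)))).f i) :=
      (Scheme.Pullback.openCoverOfLeft X.affineCover
      (X ↘ (Spec (CommRingCat.of k))) (Spec.map (CommRingCat.ofHom (frobenius k p)))).map_prop i
    exact @isReduced_of_isOpenImmersion _ _ ((Scheme.Pullback.openCoverOfLeft X.affineCover
      (X ↘ (Spec (CommRingCat.of k))) (Spec.map (CommRingCat.ofHom (frobenius k p)))).f i) hoi h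

end T7678

end Helpers

/-- For a field k of positive characteristic p and a k-scheme X, the base change of X along the p-th
power map of k is a reduced scheme exactly when X is geometrically reduced over k. -/
theorem result (k : Type u) [Field k] (X : Scheme.{u}) [X.Over (Spec (CommRingCat.of k))]
    (p : ℕ) [Fact p.Prime] [CharP k p] :
    GeometricallyReduced (X ↘ (Spec (CommRingCat.of k))) ↔
      IsReduced ↑(pullback (X ↘ (Spec (CommRingCat.of k))) (Spec.map (CommRingCat.ofHom (frobenius k p)))) := by
  exact T7678.main7678 k X p

end Groth.Agent.S7678
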