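import Groth.Statements.S7689
import Groth.Agent.Lib.Helper39.NormCok.Norm
import Groth.Agent.Lib.Helper88.Japanese3
-- import your own Groth.Agent.* helpers here

set_option autoImplicit false
universe u
open CategoryTheory CategoryTheory.Limits AlgebraicGeometry
open Variety

namespace Groth.Agent.S7689

section Helpers

set_option autoImplicit false
set_option linter.style.haveILetI false
open CategoryTheory CategoryTheory.Limits AlgebraicGeometry

namespace T7689

open Groth.Agent.Lib.Helper39 Groth.Agent.Lib.Helper39.NormCok

theorem subsingleton_quot_of_isField (A : Type u) [CommRing A] (hA : IsField A) :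
    Subsingleton (integralClosure A (FractionRing A) ⧸
      LinearMap.range (Algebra.linearMap A (integralClosure A (FractionRing A)))) := by
  letI := hA.toField
  rw [Submodule.Quotient.subsingleton_iff, eq_top_iff]
  rintro y -
  have hs : Function.Surjective (algebraMap A (FractionRing A)) :=
    (IsFractionRing.surjective_iff_isField (R := A) (K := FractionRing A)).mpr hA
  obtain ⟨a, ha⟩ := hs (y : FractionRing A)
  exact ⟨a, Subtype.ext ha⟩

theorem main7689 (X : Scheme.{u}) [IsIntegral X]
    [QuasiCompact (X.fromSpecStalk (genericPoint X))] [QuasiSeparated (X.fromSpecStalk (genericPoint X))]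
    (hN : ∀ U : X.affineOpens, CAlg.IsNagata Γ(X, (U : X.Opens))) (hdim : topologicalKrullDim X = 1) :
    IsFinite (Curv2.normalizationι X) ∧
      (∃ U : X.Opens, Dense ((U : Set X)) ∧ IsIso (Curv2.normalizationι X ∣_ U)) ∧
      Mono (ClSub.unitToPush (Curv2.normalizationι X)) ∧
      (∀ x : X, IsClosed ({x} : Set X) →
        Module.length (X.presheaf.stalk x) ((cokernel (ClSub.unitToPush (Curv2.normalizationι X))).presheaf.stalk x) =
          Curv2.deltaInv (X.presheaf.stalk x)) ∧
      (∀ x : X, ¬ IsClosed ({x} : Set X) →
        Subsingleton ((cokernel (ClSub.unitToPush (Curv2.normalizationι X))).presheaf.stalk x)) := by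
  have hfin : IsFinite (X.fromSpecStalk (genericPoint X)).fromNormalization := by
    apply NormCurve.isFinite_fromNormalization_fromSpecStalk X
    intro U hU hne
    haveI : IsDomain Γ(X, U) := @IsIntegral.component_integral X _ U hne
    obtain ⟨-, h2⟩ := hN ⟨U, hU⟩
    haveI : (⊥ : Ideal Γ(X, U)).IsPrime := Ideal.isPrime_bot
    exact Groth.Agent.Lib.Helper88.isN2_of_ringEquiv (RingEquiv.quotientBot Γ(X, U)) (h2 ⊥)
  refine ⟨hfin, exists_dense_isIso X hfin, mono_unitToPush X, ?_, ?_⟩
  · intro x _
    obtain ⟨E⟩ := cokernel_stalk_equiv_normalization X x
    exact E.length_eq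
  · intro x hx
    obtain ⟨E⟩ := cokernel_stalk_equiv_normalization X x
    have hF := isField_stalk_of_not_isClosed X (le_of_eq hdim) x hx
    haveI := subsingleton_quot_of_isField _ hF
    exact E.toEquiv.subsingleton

end T7689

end Helpers

/-- For an integral X: let X be an integral Nagata scheme of dimension one (every affine open has a
Nagata coordinate ring) with normalization ν : X^ν → X. Then ν is finite and birational (an
isomorphism over a dense open), O_X ⊆ ν_*O_{X^ν}, and the quotient ν_*O_{X^ν}/O_X is supported at
closed points, its stalk at a closed point x having length equal to the δ-invariant of O_{X,x}. (The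
published statement is for reduced Nagata schemes of dimension one; it also says that ν is
surjective and that the quotient is nonzero exactly at the singular points, and it describes the
stalk A' of ν_*O_{X^ν} at x, namely the integral closure of O_{X,x} in its total fraction ring, a
semi-local ring that is a finite product of Dedekind domains, together with the completions of
O_{X,x} and A'. This row takes X integral, does not restate surjectivity, which holds for the
normalization of every integral scheme, and keeps the finiteness, birationality, injectivity and
length clauses.) -/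
theorem result (X : Scheme.{u}) [IsIntegral X]
    [QuasiCompact (X.fromSpecStalk (genericPoint X))] [QuasiSeparated (X.fromSpecStalk (genericPoint X))]
    (hN : ∀ U : X.affineOpens, CAlg.IsNagata Γ(X, (U : X.Opens))) (hdim : topologicalKrullDim X = 1) :
    IsFinite (Curv2.normalizationι X) ∧
      (∃ U : X.Opens, Dense ((U : Set X)) ∧ IsIso (Curv2.normalizationι X ∣_ U)) ∧
      Mono (ClSub.unitToPush (Curv2.normalizationι X)) ∧
      (∀ x : X, IsClosed ({x} : Set X) →
        Module.length (X.presheaf.stalk x) ((cokernel (ClSub.unitToPush (Curv2.normalizationι X))).presheaf.stalk x) =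
          Curv2.deltaInv (X.presheaf.stalk x)) ∧
      (∀ x : X, ¬ IsClosed ({x} : Set X) →
        Subsingleton ((cokernel (ClSub.unitToPush (Curv2.normalizationι X))).presheaf.stalk x)) := by
  exact T7689.main7689 X hN hdim

end Groth.Agent.S7689
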