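import Groth.Statements.S8256
import Groth.Agent.Lib.Helper42.AffAlgPushout
import Mathlib.AlgebraicGeometry.Morphisms.Flat
-- import your own Groth.Agent.* helpers here

set_option autoImplicit false
universe u
open CategoryTheory CategoryTheory.Limits AlgebraicGeometry Opposite TopologicalSpace
open EGA2

namespace Groth.Agent.S8256

theorem algHom_app {X Y S : Scheme.{u}} (f : X ⟶ S) (g : Y ⟶ S) (h : Y ⟶ X) (w : h ≫ f = g)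
    (U : S.Opens) (hle : g ⁻¹ᵁ U ≤ h ⁻¹ᵁ f ⁻¹ᵁ U) :
    (AffAlg.algHom f g h w).app (op U) = h.appLE (f ⁻¹ᵁ U) (g ⁻¹ᵁ U) hle := by
  subst w
  change (h.app (f ⁻¹ᵁ U)) ≫ 𝟙 _ = h.app (f ⁻¹ᵁ U) ≫ Y.presheaf.map (homOfLE hle).op
  have h1 : (homOfLE hle).op = 𝟙 (op (h ⁻¹ᵁ f ⁻¹ᵁ U)) := Subsingleton.elim _ _
  have h2 : Y.presheaf.map (homOfLE hle).op = 𝟙 (Y.presheaf.obj (op (h ⁻¹ᵁ f ⁻¹ᵁ U))) :=
    (congrArg Y.presheaf.map h1).trans (Y.presheaf.map_id _)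
  exact congrArg (fun m => h.app (f ⁻¹ᵁ U) ≫ m) h2.symm

theorem isPushout_sections {X X' Y Z S : Scheme.{u}} (g : Y ⟶ S) [IsAffineHom g]
    (f : X ⟶ Y) [IsAffineHom f] (f' : X' ⟶ Y) [IsAffineHom f'] (p : Z ⟶ X) (p' : Z ⟶ X')
    (hZ : IsPullback p p' f f') (w' : p' ≫ f' ≫ g = p ≫ f ≫ g)
    (U : S.Opens) (hU : IsAffineOpen U) :
    IsPushout ((AffAlg.algHom g (f ≫ g) f rfl).app (op U))
      ((AffAlg.algHom g (f' ≫ g) f' rfl).app (op U))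
      ((AffAlg.algHom (f ≫ g) (p ≫ f ≫ g) p rfl).app (op U))
      ((AffAlg.algHom (f' ≫ g) (p ≫ f ≫ g) p' w').app (op U)) := by
  have hUS : IsAffineOpen (g ⁻¹ᵁ U) := hU.preimage g
  have hUX : IsAffineOpen ((f ≫ g) ⁻¹ᵁ U) := hU.preimage (f ≫ g)
  have hUT : IsAffineOpen ((f' ≫ g) ⁻¹ᵁ U) := hU.preimage (f' ≫ g)
  have hUST : (f' ≫ g) ⁻¹ᵁ U ≤ f' ⁻¹ᵁ (g ⁻¹ᵁ U) := le_rfl
  have hUSX : (f ≫ g) ⁻¹ᵁ U ≤ f ⁻¹ᵁ (g ⁻¹ᵁ U) := le_rfl
  have e0 : (p' ≫ f' ≫ g) ⁻¹ᵁ U = (p ≫ f ≫ g) ⁻¹ᵁ U := by rw [w']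
  have hUY : (p ≫ f ≫ g) ⁻¹ᵁ U = p ⁻¹ᵁ ((f ≫ g) ⁻¹ᵁ U) ⊓ p' ⁻¹ᵁ ((f' ≫ g) ⁻¹ᵁ U) := by
    have e1 : p' ⁻¹ᵁ ((f' ≫ g) ⁻¹ᵁ U) = (p ≫ f ≫ g) ⁻¹ᵁ U := e0
    rw [e1]
    exact (inf_idem _).symm
  have key := (isIso_pushoutSection_iff hZ hUST hUSX hUY).mp
    (isIso_pushoutSection_of_isAffineOpen hZ hUST hUSX hUY hUS hUT hUX)
  rw [algHom_app g (f ≫ g) f rfl U le_rfl, algHom_app g (f' ≫ g) f' rfl U le_rfl,
    algHom_app (f ≫ g) (p ≫ f ≫ g) p rfl U le_rfl,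
    algHom_app (f' ≫ g) (p ≫ f ≫ g) p' w' U (le_of_eq e0.symm)]
  exact key

/-- Let Y be affine over S (g : Y → S affine) and X, X' affine over Y (f, f' affine), and let Z = X ×_Y
X' with projections p : Z → X, p' : Z → X'. Then Z is affine over Y and over S, and its direct-image
algebra on S is the tensor product: the square of quasi-coherent O_S-algebras A(Y) → A(X), A(Y) →
A(X'), A(X) → A(Z), A(X') → A(Z), whose maps are induced by f, f', p, p', is a pushout square in the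
category of quasi-coherent O_S-algebras. -/
theorem result {X X' Y Z S : Scheme.{u}} (g : Y ⟶ S) [IsAffineHom g]
    (f : X ⟶ Y) [IsAffineHom f] (f' : X' ⟶ Y) [IsAffineHom f'] (p : Z ⟶ X) (p' : Z ⟶ X') [IsAffineHom p]
    (hZ : IsPullback p p' f f') :
    IsPushout
      (C := RelSpec.QCAlg S)
      (⟨AffAlg.algHom g (f ≫ g) f rfl, AffAlg.algHom_comm g (f ≫ g) f rfl⟩ :
        RelSpec.QCAlg.directImage g ⟶ RelSpec.QCAlg.directImage (f ≫ g))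
      (⟨AffAlg.algHom g (f' ≫ g) f' rfl, AffAlg.algHom_comm g (f' ≫ g) f' rfl⟩ :
        RelSpec.QCAlg.directImage g ⟶ RelSpec.QCAlg.directImage (f' ≫ g))
      (⟨AffAlg.algHom (f ≫ g) (p ≫ f ≫ g) p rfl, AffAlg.algHom_comm (f ≫ g) (p ≫ f ≫ g) p rfl⟩ :
        RelSpec.QCAlg.directImage (f ≫ g) ⟶ RelSpec.QCAlg.directImage (p ≫ f ≫ g))
      (⟨AffAlg.algHom (f' ≫ g) (p ≫ f ≫ g) p'
          ((Category.assoc p' f' g).symm.trans ((congrArg (· ≫ g) hZ.w.symm).trans (Category.assoc p f g))),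
        AffAlg.algHom_comm (f' ≫ g) (p ≫ f ≫ g) p'
          ((Category.assoc p' f' g).symm.trans ((congrArg (· ≫ g) hZ.w.symm).trans (Category.assoc p f g)))⟩ :
        RelSpec.QCAlg.directImage (f' ≫ g) ⟶ RelSpec.QCAlg.directImage (p ≫ f ≫ g)) := by
  exact Groth.Agent.Lib.Helper42.AffAlg.isPushout_of_affine _ _ _ _ (fun U hU =>
    isPushout_sections g f f' p p' hZ
      ((Category.assoc p' f' g).symm.trans ((congrArg (· ≫ g) hZ.w.symm).trans (Category.assoc p f g)))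
      U hU)

end Groth.Agent.S8256
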