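import Groth.Statements.S8257
import Groth.Agent.Lib.Helper20.ThickAffine2
import Mathlib.AlgebraicGeometry.Noetherian
-- import your own Groth.Agent.* helpers here

set_option autoImplicit false
universe u
open CategoryTheory CategoryTheory.Limits AlgebraicGeometry Opposite TopologicalSpace
open EGA2

namespace Groth.Agent.S8257

/-- the kernel of a surjective morphism consists of nilpotent sections over compact opens. -/
lemma isNilpotent_of_mem_ker {X₀ X : Scheme.{u}} (j : X₀ ⟶ X) (hj : Function.Surjective j)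
    (U : X.Opens) (hU : IsCompact (U : Set X)) (a : Γ(X, U)) (ha : (j.app U).hom a = 0) :
    IsNilpotent a := by
  rw [Scheme.isNilpotent_iff_basicOpen_eq_bot_of_isCompact hU]
  have h1 : j ⁻¹ᵁ (X.basicOpen a) = ⊥ := by
    rw [Scheme.preimage_basicOpen, ha, Scheme.basicOpen_zero]
  refine eq_bot_iff.mpr (fun x hx => ?_)
  obtain ⟨x₀, rfl⟩ := hj x
  have h2 : x₀ ∈ j ⁻¹ᵁ (X.basicOpen a) := hx
  rw [h1] at h2
  exact h2

lemma aux {X X₀ Y : Scheme.{u}}
    [IsLocallyNoetherian Y] (f : X ⟶ Y) [LocallyOfFiniteType f] [QuasiCompact f]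
    (j : X₀ ⟶ X) [IsClosedImmersion j] [Surjective j] [IsReduced X₀] [IsAffineHom (j ≫ f)] :
    IsAffineHom f := by
  have hX : IsLocallyNoetherian X := LocallyOfFiniteType.isLocallyNoetherian f
  have hsurj : Function.Surjective j := Surjective.surj
  have hnil : ∀ U : X.affineOpens, IsNilpotent (j.ker.ideal U) := by
    intro U
    have : IsNoetherianRing Γ(X, (U : X.Opens)) := hX.component_noetherian U
    have hle : j.ker.ideal U ≤ nilradical Γ(X, (U : X.Opens)) := by
      intro a ha
      rw [Scheme.Hom.ker_apply] at ha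
      exact mem_nilradical.mpr (isNilpotent_of_mem_ker j hsurj U.1 U.2.isCompact a ha)
    obtain ⟨n, hn⟩ := IsNoetherianRing.isNilpotent_nilradical Γ(X, (U : X.Opens))
    exact ⟨n, le_bot_iff.mp ((Ideal.pow_right_mono hle n).trans hn.le)⟩
  constructor
  intro V hV
  have hVj : IsAffineOpen (j ⁻¹ᵁ (f ⁻¹ᵁ V)) := by
    rw [← Scheme.Hom.comp_preimage]
    exact hV.preimage (j ≫ f)
  have : IsAffine (j ⁻¹ᵁ (f ⁻¹ᵁ V)).toScheme := hVj
  have hsurj' : Function.Surjective (j ∣_ (f ⁻¹ᵁ V)) := by
    rintro ⟨y, hy⟩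
    obtain ⟨x, rfl⟩ := hsurj y
    exact ⟨⟨x, hy⟩, Subtype.ext (morphismRestrict_base_coe j (f ⁻¹ᵁ V) ⟨x, hy⟩)⟩
  exact Groth.Agent.Lib.Helper20.ThickAffine.isAffine_of_isNilpotent (j ∣_ (f ⁻¹ᵁ V)) hsurj'
    (fun W => by
      rw [Scheme.ker_morphismRestrict_ideal]
      exact hnil _)

/-- Let Y be a locally Noetherian scheme and f : X → Y a morphism of finite type; let j : X₀ → X be a
surjective closed immersion with X₀ reduced (the reduced subscheme underlying X). If X₀ → X → Y is
affine, then f is affine. (So f is affine if and only if f_red is.) -/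
theorem result {X X₀ Y : Scheme.{u}}
    [IsLocallyNoetherian Y] (f : X ⟶ Y) [LocallyOfFiniteType f] [QuasiCompact f]
    (j : X₀ ⟶ X) [IsClosedImmersion j] [Surjective j] [IsReduced X₀] [IsAffineHom (j ≫ f)] :
    IsAffineHom f := by
  exact aux f j

end Groth.Agent.S8257
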