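import Groth.Statements.S8279
import Groth.Agent.S8263
-- import your own Groth.Agent.* helpers here

set_option autoImplicit false
universe u
open CategoryTheory CategoryTheory.Limits AlgebraicGeometry Opposite TopologicalSpace
open scoped HomogeneousIdeal
open EGA2

namespace Groth.Agent.S8279


section projlemmas

variable {A B : Type u} [CommRing A] [CommRing B] {σ τ : Type u}
  [SetLike σ A] [AddSubgroupClass σ A] [SetLike τ B] [AddSubgroupClass τ B]
  {𝒜 : ℕ → σ} {ℬ : ℕ → τ} [GradedRing 𝒜] [GradedRing ℬ]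

/-- `A_(s) → B_(f s)` is bijective when `f` is bijective in positive degrees and `deg s > 0`. -/
lemma awayMap_bijective (f : 𝒜 →+*ᵍ ℬ)
    (hbij : ∀ n : ℕ, 0 < n → Set.BijOn f (𝒜 n) (ℬ n)) {i : ℕ} (hi : 0 < i) (s : A)
    (hs : s ∈ 𝒜 i) : Function.Bijective (HomogeneousLocalization.Away.map f s) := by
  classical
  constructor
  · rw [injective_iff_map_eq_zero]
    intro z hz
    obtain ⟨n, a, ha, rfl⟩ := HomogeneousLocalization.Away.mk_surjective 𝒜 hs z
    rw [HomogeneousLocalization.Away.map_mk] at hz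
    have h1 := congr_arg HomogeneousLocalization.val hz
    rw [HomogeneousLocalization.Away.val_mk, HomogeneousLocalization.val_zero,
      Localization.mk_eq_mk', IsLocalization.mk'_eq_zero_iff] at h1
    obtain ⟨⟨c, m, rfl⟩, hc⟩ := h1
    have hc' : f s ^ m * f a = 0 := hc
    -- multiply by one more `f s` to be in positive degree
    have h2 : f (s ^ (m + 1) * a) = 0 := by
      rw [map_mul, map_pow, pow_succ, mul_assoc, mul_comm (f s) (f a), ← mul_assoc, hc', zero_mul]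
    have hmem : s ^ (m + 1) * a ∈ 𝒜 ((m + 1) • i + n • i) :=
      SetLike.mul_mem_graded (SetLike.pow_mem_graded (m + 1) hs) ha
    have hpos : 0 < (m + 1) • i + n • i := by
      simp only [smul_eq_mul]
      have : 0 < (m + 1) * i := Nat.mul_pos (Nat.succ_pos m) hi
      omega
    have h3 : s ^ (m + 1) * a = 0 :=
      (hbij _ hpos).injOn hmem (zero_mem _) (by rw [h2, map_zero])
    apply HomogeneousLocalization.val_injective
    rw [HomogeneousLocalization.Away.val_mk, HomogeneousLocalization.val_zero,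
      Localization.mk_eq_mk', IsLocalization.mk'_eq_zero_iff]
    exact ⟨⟨s ^ (m + 1), m + 1, rfl⟩, h3⟩
  · intro z
    obtain ⟨n, b, hb, rfl⟩ := HomogeneousLocalization.Away.mk_surjective ℬ (Graded.map_mem f hs) z
    -- replace `b/(f s)^n` by `(b * f s)/(f s)^(n+1)` to be in positive degree
    have hb' : b * f s ∈ ℬ ((n + 1) • i) := by
      have := SetLike.mul_mem_graded hb (Graded.map_mem f hs)
      rwa [show n • i + i = (n + 1) • i by simp only [smul_eq_mul]; ring] at this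
    have hpos : 0 < (n + 1) • i := by
      simp only [smul_eq_mul]
      exact Nat.mul_pos (Nat.succ_pos n) hi
    obtain ⟨a, ha, hab⟩ := (hbij _ hpos).surjOn hb'
    refine ⟨HomogeneousLocalization.Away.mk 𝒜 hs (n + 1) a ha, ?_⟩
    rw [HomogeneousLocalization.Away.map_mk]
    apply HomogeneousLocalization.val_injective
    rw [HomogeneousLocalization.Away.val_mk, HomogeneousLocalization.Away.val_mk,
      Localization.mk_eq_mk_iff, Localization.r_iff_exists]
    refine ⟨1, ?_⟩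
    simp only [OneMemClass.coe_one, one_mul, hab]
    ring

set_option backward.isDefEq.respectTransparency.types false in
/-- `Proj.map` of a graded homomorphism bijective in positive degrees is an isomorphism. -/
lemma proj_map_isIso (f : 𝒜 →+*ᵍ ℬ)
    (hf : (HomogeneousIdeal.irrelevant ℬ) ≤ (HomogeneousIdeal.irrelevant 𝒜).map f)
    (hbij : ∀ n : ℕ, 0 < n → Set.BijOn f (𝒜 n) (ℬ n)) : IsIso (Proj.map f hf) := by
  rw [← MorphismProperty.isomorphisms.iff,
    IsZariskiLocalAtTarget.iff_of_openCover (P := MorphismProperty.isomorphisms Scheme)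
    (Proj.affineOpenCover 𝒜).openCover]
  intro i
  have hpb := IsOpenImmersion.isPullback
    (Spec.map (CommRingCat.ofHom (HomogeneousLocalization.Away.map f (i.2 : A))))
    (Proj.awayι ℬ (f (i.2 : A)) (Graded.map_mem f i.2.2) i.1.2)
    (Proj.awayι 𝒜 (i.2 : A) i.2.2 i.1.2) (Proj.map f hf)
    (Proj.awayι_comp_map f hf i.1.2 (i.2 : A) i.2.2)
    (by rw [Proj.opensRange_awayι, Proj.opensRange_awayι]; rfl)
  have hci : IsIso
      (Spec.map (CommRingCat.ofHom (HomogeneousLocalization.Away.map f (i.2 : A)))) := by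
    rw [isIso_SpecMap_iff]
    exact awayMap_bijective f hbij i.1.2 _ i.2.2
  change MorphismProperty.isomorphisms Scheme (pullback.snd (Proj.map f hf)
    (Proj.awayι 𝒜 (i.2 : A) i.2.2 i.1.2))
  have h2 : hpb.flip.isoPullback.hom ≫ pullback.snd (Proj.map f hf)
      (Proj.awayι 𝒜 (i.2 : A) i.2.2 i.1.2) =
      Spec.map (CommRingCat.ofHom (HomogeneousLocalization.Away.map f (i.2 : A))) :=
    hpb.flip.isoPullback_hom_snd
  rw [MorphismProperty.isomorphisms.iff]
  have h3 : pullback.snd (Proj.map f hf) (Proj.awayι 𝒜 (i.2 : A) i.2.2 i.1.2) =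
      hpb.flip.isoPullback.inv ≫
        Spec.map (CommRingCat.ofHom (HomogeneousLocalization.Away.map f (i.2 : A))) := by
    exact (Iso.eq_inv_comp _).2 h2
  rw [h3]
  infer_instance

end projlemmas

/-- the morphism of relative Proj's induced by a graded homomorphism lies over the base. -/
lemma relProjMap_comp {Y PA PB : Scheme.{u}} {𝒜 ℬ : RelProj.QCGrAlg Y}
    (φ : 𝒜.toQCAlg ⟶ ℬ.toQCAlg) (hφ : RelProj.IsGradedHom φ)
    (hirr : ∀ (U : Y.Opens) (hU : IsAffineOpen U),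
      (ℬ.deg U hU)₊ ≤ ((𝒜.deg U hU)₊).map (RelProj.gradedHomAt φ hφ U hU))
    (pA : PA ⟶ Y) (pB : PB ⟶ Y)
    (chartA : ∀ (U : Y.Opens) (hU : IsAffineOpen U),
      (((pA ⁻¹ᵁ U : PA.Opens) : Scheme.{u}) ≅ Proj (𝒜.deg U hU)))
    (chartB : ∀ (U : Y.Opens) (hU : IsAffineOpen U),
      (((pB ⁻¹ᵁ U : PB.Opens) : Scheme.{u}) ≅ Proj (ℬ.deg U hU)))
    (hA : RelProj.IsRelProj 𝒜 pA chartA) (hB : RelProj.IsRelProj ℬ pB chartB)
    (h : PB ⟶ PA) (hh : RelProj.IsRelProjMap φ hφ hirr chartA chartB h) : h ≫ pA = pB := by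
  have hstr : ∀ (U : Y.Opens) (hU : IsAffineOpen U) (r : Γ(Y, U)),
      (RelProj.gradedHomAt φ hφ U hU) (((𝒜.strZero U hU).hom r : 𝒜.presheaf.obj (op U))) =
        ((ℬ.strZero U hU).hom r : ℬ.presheaf.obj (op U)) := by
    intro U hU r
    have h0 := NatTrans.congr_app φ.comm (op U)
    rw [NatTrans.comp_app] at h0
    change (φ.hom.app (op U)).hom ((𝒜.str.app (op U)).hom r) = (ℬ.str.app (op U)).hom r
    rw [← h0]
    rfl
  refine Scheme.hom_ext_of_forall _ _ (fun x => ?_)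
  obtain ⟨U, hU, hxU, -⟩ := TopologicalSpace.Opens.isBasis_iff_nbhd.mp Y.isBasis_affineOpens
    (show pB x ∈ (⊤ : Y.Opens) from trivial)
  have hU' : IsAffineOpen U := hU
  refine ⟨pB ⁻¹ᵁ U, hxU, ?_⟩
  rw [← Category.assoc, hh U hU', ← hB.chart_over U hU']
  simp only [Category.assoc]
  rw [← hA.chart_over U hU', Iso.inv_hom_id_assoc]
  have h1 := Groth.Agent.S8263.proj_map_toSpecZero (RelProj.gradedHomAt φ hφ U hU') (hirr U hU')
    (𝒜.strZero U hU').hom (ℬ.strZero U hU').hom (hstr U hU')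
  have h2 : Proj.map (RelProj.gradedHomAt φ hφ U hU') (hirr U hU') ≫
      Proj.toSpecZero (𝒜.deg U hU') ≫ Spec.map (𝒜.strZero U hU') =
      Proj.toSpecZero (ℬ.deg U hU') ≫ Spec.map (ℬ.strZero U hU') := h1
  rw [reassoc_of% h2]

/-- a target-local property of the chartwise `Proj.map`s holds for the induced morphism. -/
lemma relProjMap_of_local (P : MorphismProperty Scheme.{u}) [IsZariskiLocalAtTarget P]
    {Y PA PB : Scheme.{u}} {𝒜 ℬ : RelProj.QCGrAlg Y}
    (φ : 𝒜.toQCAlg ⟶ ℬ.toQCAlg) (hφ : RelProj.IsGradedHom φ)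
    (hirr : ∀ (U : Y.Opens) (hU : IsAffineOpen U),
      (ℬ.deg U hU)₊ ≤ ((𝒜.deg U hU)₊).map (RelProj.gradedHomAt φ hφ U hU))
    (pA : PA ⟶ Y) (pB : PB ⟶ Y)
    (chartA : ∀ (U : Y.Opens) (hU : IsAffineOpen U),
      (((pA ⁻¹ᵁ U : PA.Opens) : Scheme.{u}) ≅ Proj (𝒜.deg U hU)))
    (chartB : ∀ (U : Y.Opens) (hU : IsAffineOpen U),
      (((pB ⁻¹ᵁ U : PB.Opens) : Scheme.{u}) ≅ Proj (ℬ.deg U hU)))
    (hA : RelProj.IsRelProj 𝒜 pA chartA) (hB : RelProj.IsRelProj ℬ pB chartB)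
    (h : PB ⟶ PA) (hh : RelProj.IsRelProjMap φ hφ hirr chartA chartB h)
    (hloc : ∀ (U : Y.Opens) (hU : IsAffineOpen U),
      P (Proj.map (RelProj.gradedHomAt φ hφ U hU) (hirr U hU))) : P h := by
  have hcomp := relProjMap_comp φ hφ hirr pA pB chartA chartB hA hB h hh
  have hcov : (⨆ i : Y.affineOpens, pA ⁻¹ᵁ (i : Y.Opens)) = ⊤ := by
    rw [← Scheme.Hom.preimage_iSup, iSup_affineOpens_eq_top]
    rfl
  refine IsZariskiLocalAtTarget.of_iSup_eq_top (P := P)
    (fun i : Y.affineOpens => pA ⁻¹ᵁ (i : Y.Opens)) hcov (fun i => ?_)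
  have hi : IsAffineOpen (i : Y.Opens) := i.2
  have hW : h ⁻¹ᵁ (pA ⁻¹ᵁ (i : Y.Opens)) = pB ⁻¹ᵁ (i : Y.Opens) := by
    rw [← Scheme.Hom.comp_preimage, hcomp]
  have heq : h ∣_ (pA ⁻¹ᵁ (i : Y.Opens)) = (PB.isoOfEq hW).hom ≫ (chartB i.1 hi).hom ≫
      Proj.map (RelProj.gradedHomAt φ hφ i.1 hi) (hirr i.1 hi) ≫ (chartA i.1 hi).inv := by
    rw [← cancel_mono (pA ⁻¹ᵁ (i : Y.Opens)).ι, morphismRestrict_ι]
    simp only [Category.assoc]
    rw [← hh i.1 hi, Scheme.isoOfEq_hom_ι_assoc]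
  change P (h ∣_ (pA ⁻¹ᵁ (i : Y.Opens)))
  rw [heq, P.cancel_left_of_respectsIso, P.cancel_left_of_respectsIso,
    P.cancel_right_of_respectsIso]
  exact hloc i.1 hi

/-- Let 𝒮 be a quasi-coherent positively graded O_Y-algebra and 𝒮' the graded O_Y-algebra O_Y ⊕ (⊕_{n>0}
𝒮_n), presented here as a quasi-coherent graded algebra 𝒮' with 𝒮'_0 = O_Y together with a graded
homomorphism φ : 𝒮' → 𝒮 that is bijective in every positive degree over every affine open. Then the
morphism Proj(𝒮) → Proj(𝒮') induced by φ is an isomorphism (the canonical Y-isomorphism of the two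
relative homogeneous spectra). -/
theorem result {Y P P' : Scheme.{u}} {𝒮' 𝒮 : RelProj.QCGrAlg Y}
    (φ : 𝒮'.toQCAlg ⟶ 𝒮.toQCAlg) (hφ : RelProj.IsGradedHom φ)
    (h0 : ∀ (U : Y.Opens) (hU : IsAffineOpen U), Function.Bijective (𝒮'.strZero U hU).hom)
    (hpos : ∀ (U : Y.Opens) (hU : IsAffineOpen U) (n : ℕ), 0 < n →
      Set.BijOn (φ.hom.app (op U)).hom (𝒮'.deg U hU n) (𝒮.deg U hU n))
    (hirr : ∀ (U : Y.Opens) (hU : IsAffineOpen U),
      (𝒮.deg U hU)₊ ≤ ((𝒮'.deg U hU)₊).map (RelProj.gradedHomAt φ hφ U hU))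
    (p' : P' ⟶ Y) (p : P ⟶ Y)
    (chart' : ∀ (U : Y.Opens) (hU : IsAffineOpen U), (((p' ⁻¹ᵁ U : P'.Opens) : Scheme.{u}) ≅ Proj (𝒮'.deg U hU)))
    (chart : ∀ (U : Y.Opens) (hU : IsAffineOpen U), (((p ⁻¹ᵁ U : P.Opens) : Scheme.{u}) ≅ Proj (𝒮.deg U hU)))
    (hP' : RelProj.IsRelProj 𝒮' p' chart') (hP : RelProj.IsRelProj 𝒮 p chart)
    (h : P ⟶ P') (hh : RelProj.IsRelProjMap φ hφ hirr chart' chart h) : IsIso h := by
  have key := relProjMap_of_local (MorphismProperty.isomorphisms Scheme.{u}) φ hφ hirr p' p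
    chart' chart hP' hP h hh (fun U hU => ?_)
  · exact key
  · rw [MorphismProperty.isomorphisms.iff]
    exact proj_map_isIso (RelProj.gradedHomAt φ hφ U hU) (hirr U hU)
      (fun n hn => hpos U hU n hn)

end Groth.Agent.S8279
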