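import Groth.Statements.S8262
import Groth.Agent.Lib.Helper42.RelProjGlue
import Groth.Agent.S8279
-- import your own Groth.Agent.* helpers here

set_option autoImplicit false
universe u
open CategoryTheory CategoryTheory.Limits AlgebraicGeometry Opposite TopologicalSpace
open scoped HomogeneousIdeal
open EGA2

namespace Groth.Agent.S8262


/-- `Proj.map` only depends on the graded homomorphism. -/
lemma proj_map_congr {A B : Type u} [CommRing A] [CommRing B] {σ τ : Type u}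
    [SetLike σ A] [AddSubgroupClass σ A] [SetLike τ B] [AddSubgroupClass τ B]
    {𝒜 : ℕ → σ} {ℬ : ℕ → τ} [GradedRing 𝒜] [GradedRing ℬ] {f g : 𝒜 →+*ᵍ ℬ} (h : f = g)
    (hf : (HomogeneousIdeal.irrelevant ℬ) ≤ (HomogeneousIdeal.irrelevant 𝒜).map f)
    (hg : (HomogeneousIdeal.irrelevant ℬ) ≤ (HomogeneousIdeal.irrelevant 𝒜).map g) :
    Proj.map f hf = Proj.map g hg := by
  subst h
  rfl

/-- the chartwise `Proj.map`s of a graded homomorphism are compatible with basic opens. -/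
lemma compat {Y PA PB : Scheme.{u}} {𝒜 ℬ : RelProj.QCGrAlg Y}
    (φ : 𝒜.toQCAlg ⟶ ℬ.toQCAlg) (hφ : RelProj.IsGradedHom φ)
    (hirr : ∀ (U : Y.Opens) (hU : IsAffineOpen U),
      (ℬ.deg U hU)₊ ≤ ((𝒜.deg U hU)₊).map (RelProj.gradedHomAt φ hφ U hU))
    (pA : PA ⟶ Y) (pB : PB ⟶ Y)
    (chartA : ∀ (U : Y.Opens) (hU : IsAffineOpen U),
      (((pA ⁻¹ᵁ U : PA.Opens) : Scheme.{u}) ≅ Proj (𝒜.deg U hU)))
    (chartB : ∀ (U : Y.Opens) (hU : IsAffineOpen U),
      (((pB ⁻¹ᵁ U : PB.Opens) : Scheme.{u}) ≅ Proj (ℬ.deg U hU)))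
    (hA : RelProj.IsRelProj 𝒜 pA chartA) (hB : RelProj.IsRelProj ℬ pB chartB)
    (U : Y.Opens) (hU : IsAffineOpen U) (r : Γ(Y, U)) :
    PB.homOfLE (pB.preimage_mono (Y.basicOpen_le r)) ≫
        ((chartB U hU).hom ≫ Proj.map (RelProj.gradedHomAt φ hφ U hU) (hirr U hU) ≫
          (chartA U hU).inv ≫ (pA ⁻¹ᵁ U).ι) =
      (chartB (Y.basicOpen r) (hU.basicOpen r)).hom ≫
        Proj.map (RelProj.gradedHomAt φ hφ (Y.basicOpen r) (hU.basicOpen r))
          (hirr (Y.basicOpen r) (hU.basicOpen r)) ≫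
        (chartA (Y.basicOpen r) (hU.basicOpen r)).inv ≫ (pA ⁻¹ᵁ (Y.basicOpen r)).ι := by
  have h1 := hB.chart_res U hU r
  have h2 := hA.chart_res U hU r
  have h3 : Proj.map (𝒜.res hU (hU.basicOpen r) (Y.basicOpen_le r)) (𝒜.irrelevant_le_map U hU r) ≫
      (chartA U hU).inv = (chartA (Y.basicOpen r) (hU.basicOpen r)).inv ≫
        PA.homOfLE (pA.preimage_mono (Y.basicOpen_le r)) := by
    rw [Iso.eq_inv_comp, ← Category.assoc, ← h2, Category.assoc, Iso.hom_inv_id, Category.comp_id]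
  have hgr : (ℬ.res hU (hU.basicOpen r) (Y.basicOpen_le r)).comp (RelProj.gradedHomAt φ hφ U hU) =
      (RelProj.gradedHomAt φ hφ (Y.basicOpen r) (hU.basicOpen r)).comp
        (𝒜.res hU (hU.basicOpen r) (Y.basicOpen_le r)) := by
    ext x
    have hnat := φ.hom.naturality (homOfLE (Y.basicOpen_le r)).op
    exact (congrArg (fun f => f.hom x) hnat).symm
  have h4 : Proj.map (ℬ.res hU (hU.basicOpen r) (Y.basicOpen_le r)) (ℬ.irrelevant_le_map U hU r) ≫
      Proj.map (RelProj.gradedHomAt φ hφ U hU) (hirr U hU) =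
      Proj.map (RelProj.gradedHomAt φ hφ (Y.basicOpen r) (hU.basicOpen r))
          (hirr (Y.basicOpen r) (hU.basicOpen r)) ≫
        Proj.map (𝒜.res hU (hU.basicOpen r) (Y.basicOpen_le r)) (𝒜.irrelevant_le_map U hU r) := by
    rw [← Proj.map_comp, ← Proj.map_comp]
    exact proj_map_congr hgr _ _
  rw [← Category.assoc, h1]
  simp only [Category.assoc]
  rw [reassoc_of% h4, reassoc_of% h3, Scheme.homOfLE_ι]

/-- The morphism of relative homogeneous spectra induced by a graded homomorphism, in the case where it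
is everywhere defined: let φ : 𝒜 → ℬ be a graded homomorphism of quasi-coherent positively graded
O_Y-algebras such that over every affine open U the irrelevant ideal of ℬ(U) lies in the ideal
generated by the image of that of 𝒜(U) (a condition stronger than the published one, which only asks
that the induced rational map be everywhere defined). Then there is a unique morphism h : Proj(ℬ) →
Proj(𝒜) that over each affine open U of Y is, under the charts, the morphism Proj ℬ(U) → Proj 𝒜(U)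
induced by φ(U); and such an h is a Y-morphism. -/
theorem result {Y PA PB : Scheme.{u}} {𝒜 ℬ : RelProj.QCGrAlg Y}
    (φ : 𝒜.toQCAlg ⟶ ℬ.toQCAlg) (hφ : RelProj.IsGradedHom φ)
    (hirr : ∀ (U : Y.Opens) (hU : IsAffineOpen U),
      (ℬ.deg U hU)₊ ≤ ((𝒜.deg U hU)₊).map (RelProj.gradedHomAt φ hφ U hU))
    (pA : PA ⟶ Y) (pB : PB ⟶ Y)
    (chartA : ∀ (U : Y.Opens) (hU : IsAffineOpen U), (((pA ⁻¹ᵁ U : PA.Opens) : Scheme.{u}) ≅ Proj (𝒜.deg U hU)))
    (chartB : ∀ (U : Y.Opens) (hU : IsAffineOpen U), (((pB ⁻¹ᵁ U : PB.Opens) : Scheme.{u}) ≅ Proj (ℬ.deg U hU)))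
    (hA : RelProj.IsRelProj 𝒜 pA chartA) (hB : RelProj.IsRelProj ℬ pB chartB) :
    (∃! h : PB ⟶ PA, RelProj.IsRelProjMap φ hφ hirr chartA chartB h) ∧
      ∀ h : PB ⟶ PA, RelProj.IsRelProjMap φ hφ hirr chartA chartB h → h ≫ pA = pB := by
  have hex := Groth.Agent.Lib.Helper42.RelProjGlue.existsUnique_glue pB
    (fun U hU => (chartB U hU).hom ≫ Proj.map (RelProj.gradedHomAt φ hφ U hU) (hirr U hU) ≫
      (chartA U hU).inv ≫ (pA ⁻¹ᵁ U).ι)
    (fun U hU r => compat φ hφ hirr pA pB chartA chartB hA hB U hU r)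
  refine ⟨hex, ?_⟩
  intro h hh
  exact Groth.Agent.S8279.relProjMap_comp φ hφ hirr pA pB chartA chartB hA hB h hh

end Groth.Agent.S8262
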