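import Groth.Statements.S8265
-- import your own Groth.Agent.* helpers here

set_option autoImplicit false
universe u
open CategoryTheory CategoryTheory.Limits AlgebraicGeometry Opposite TopologicalSpace
open scoped HomogeneousIdeal
open EGA2

namespace Groth.Agent.S8265


section alg

variable {A : Type u} [CommRing A] {σ : Type u} [SetLike σ A] [AddSubgroupClass σ A]
  (𝒜 : ℕ → σ) [GradedRing 𝒜]

lemma away_nontrivial {b : A} (hb : ¬ IsNilpotent b) :
    Nontrivial (HomogeneousLocalization.Away 𝒜 b) := by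
  by_contra h
  rw [not_nontrivial_iff_subsingleton] at h
  have h1 : (1 : HomogeneousLocalization.Away 𝒜 b) = 0 := Subsingleton.elim _ _
  have h2 := congrArg HomogeneousLocalization.val h1
  rw [HomogeneousLocalization.val_one, HomogeneousLocalization.val_zero] at h2
  have h3 : Localization.mk (1 : A) (1 : Submonoid.powers b) = 0 := by
    rw [Localization.mk_one]; exact h2
  rw [Localization.mk_eq_mk', IsLocalization.mk'_eq_zero_iff] at h3
  obtain ⟨⟨c, k, rfl⟩, hc⟩ := h3
  exact hb ⟨k, by simpa using hc⟩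

lemma fromZero_eq_zero {a b : A} (ha : a ∈ 𝒜 0) (hab : a * b = 0) :
    HomogeneousLocalization.fromZeroRingHom 𝒜 (Submonoid.powers b) ⟨a, ha⟩ = 0 := by
  apply HomogeneousLocalization.val_injective
  rw [HomogeneousLocalization.val_zero]
  change Localization.mk a (1 : Submonoid.powers b) = 0
  rw [Localization.mk_eq_mk', IsLocalization.mk'_eq_zero_iff]
  exact ⟨⟨b, 1, pow_one b⟩, by rw [mul_comm]; exact hab⟩

/-- a non-nilpotent homogeneous element of positive degree has nonempty `D₊`. -/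
lemma basicOpen_nonempty {n : ℕ} (hn : 0 < n) {b : A} (hb : b ∈ 𝒜 n) (hnil : ¬ IsNilpotent b) :
    ∃ v : Spec (CommRingCat.of (HomogeneousLocalization.Away 𝒜 b)),
      Proj.awayι 𝒜 b hb hn v ∈ Proj.basicOpen 𝒜 b := by
  have := away_nontrivial 𝒜 hnil
  obtain ⟨v⟩ : Nonempty (PrimeSpectrum (HomogeneousLocalization.Away 𝒜 b)) := inferInstance
  refine ⟨v, ?_⟩
  rw [← Proj.opensRange_awayι 𝒜 b hb hn]
  exact ⟨v, rfl⟩

end alg

/-- Let Y be an integral scheme and 𝒮 a quasi-coherent positively graded O_Y-algebra with 𝒮_0 = O_Y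
which is essentially reduced (affine-locally, every nilpotent element of the irrelevant ideal of
𝒮(U) vanishes). If Proj(𝒮) is integral and dominant over Y, then 𝒮 is integral: over every nonempty
affine open U, 𝒮(U) is an integral domain with nonzero irrelevant ideal (for Y integral, the
affine-local form of the stalkwise condition of the text). -/
theorem result {Y P : Scheme.{u}} [IsIntegral Y] (𝒮 : RelProj.QCGrAlg Y)
    (h0 : ∀ (U : Y.Opens) (hU : IsAffineOpen U), Function.Bijective (𝒮.strZero U hU).hom)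
    (hred : ∀ (U : Y.Opens) (hU : IsAffineOpen U) (x : 𝒮.presheaf.obj (op U)),
      x ∈ (𝒮.deg U hU)₊ → IsNilpotent x → x = 0)
    (p : P ⟶ Y)
    (chart : ∀ (U : Y.Opens) (hU : IsAffineOpen U), (((p ⁻¹ᵁ U : P.Opens) : Scheme.{u}) ≅ Proj (𝒮.deg U hU)))
    (hP : RelProj.IsRelProj 𝒮 p chart) [IsIntegral P] (hdom : DenseRange p.base)
    (U : Y.Opens) (hU : IsAffineOpen U) (hne : (U : Set Y).Nonempty) :
    IsDomain (𝒮.presheaf.obj (op U)) ∧ ((𝒮.deg U hU)₊).toIdeal ≠ ⊥ := by
  classical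
  have hPirr : IrreducibleSpace P := inferInstance
  have hΓdom : IsDomain Γ(Y, U) := by
    have : Nonempty U := ⟨⟨hne.some, hne.some_mem⟩⟩
    infer_instance
  have hhominv : ∀ y : Proj (𝒮.deg U hU), (chart U hU).hom ((chart U hU).inv y) = y := by
    intro y
    have h3 : ((chart U hU).inv ≫ (chart U hU).hom) y = y := by rw [Iso.inv_hom_id]; rfl
    exact h3
  -- part 1
  have hX : ∃ x : P, x ∈ p ⁻¹ᵁ U := by
    obtain ⟨x, hx⟩ := hdom.exists_mem_open U.2 hne
    exact ⟨x, hx⟩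
  have hirrne : ((𝒮.deg U hU)₊).toIdeal ≠ ⊥ := by
    intro h
    obtain ⟨x, hx⟩ := hX
    apply ((chart U hU).hom ⟨x, hx⟩).not_irrelevant_le
    intro a ha
    have h1 : a ∈ ((𝒮.deg U hU)₊).toIdeal := ha
    rw [h] at h1
    have h0 : a = 0 := h1
    rw [h0]; exact zero_mem _
  refine ⟨?_, hirrne⟩
  -- the opens attached to homogeneous elements
  let O : 𝒮.presheaf.obj (op U) → P.Opens := fun b =>
    (p ⁻¹ᵁ U).ι ''ᵁ ((chart U hU).hom ⁻¹ᵁ Proj.basicOpen (𝒮.deg U hU) b)
  have hmemO : ∀ (b : 𝒮.presheaf.obj (op U)) (x : P), x ∈ O b ↔ ∃ h : x ∈ p ⁻¹ᵁ U,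
      (chart U hU).hom ⟨x, h⟩ ∈ Proj.basicOpen (𝒮.deg U hU) b := by
    intro b x
    constructor
    · rintro ⟨y, hy, rfl⟩
      exact ⟨y.2, hy⟩
    · rintro ⟨h, hx⟩
      exact ⟨⟨x, h⟩, hx, rfl⟩
  have hOne : ∀ (n : ℕ) (hn : 0 < n) (b : 𝒮.presheaf.obj (op U)) (hb : b ∈ 𝒮.deg U hU n),
      b ≠ 0 → ((O b : P.Opens) : Set P).Nonempty := by
    intro n hn b hb hb0
    have hnil : ¬ IsNilpotent b := fun h =>
      hb0 (hred U hU b (HomogeneousIdeal.mem_irrelevant_of_mem _ hn hb) h)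
    obtain ⟨v₀, hv₀⟩ := basicOpen_nonempty (𝒮.deg U hU) hn hb hnil
    refine ⟨(p ⁻¹ᵁ U).ι ((chart U hU).inv (Proj.awayι (𝒮.deg U hU) b hb hn v₀)), ?_⟩
    refine ⟨(chart U hU).inv (Proj.awayι (𝒮.deg U hU) b hb hn v₀), ?_, rfl⟩
    change (chart U hU).hom ((chart U hU).inv (Proj.awayι (𝒮.deg U hU) b hb hn v₀)) ∈
      Proj.basicOpen (𝒮.deg U hU) b
    rw [hhominv]
    exact hv₀
  -- degree zero times positive degree
  have case0n : ∀ (a b : 𝒮.presheaf.obj (op U)) (ha : a ∈ 𝒮.deg U hU 0) (n : ℕ)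
      (hb : b ∈ 𝒮.deg U hU n) (hn : 0 < n), a * b = 0 → a ≠ 0 → b ≠ 0 → False := by
    intro a b ha n hb hn hab ha0 hb0
    obtain ⟨α, hα⟩ := (h0 U hU).2 ⟨a, ha⟩
    have hα0 : α ≠ 0 := by
      rintro rfl
      apply ha0
      have := congrArg Subtype.val hα
      rw [map_zero] at this
      exact this.symm
    have hDne : ((Y.basicOpen α : Y.Opens) : Set Y).Nonempty := by
      rw [Set.nonempty_iff_ne_empty]
      intro h
      apply hα0
      exact (basicOpen_eq_bot_iff α).1 (TopologicalSpace.Opens.ext h)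
    obtain ⟨x₀, hx₀⟩ := hdom.exists_mem_open (Y.basicOpen α).2 hDne
    obtain ⟨x, hxO, hxD⟩ := nonempty_preirreducible_inter (O b).2 (p ⁻¹ᵁ Y.basicOpen α).2
      (hOne n hn b hb hb0) ⟨x₀, hx₀⟩
    obtain ⟨h, hz⟩ := (hmemO b x).1 hxO
    rw [← Proj.opensRange_awayι (𝒮.deg U hU) b hb hn] at hz
    obtain ⟨v, hv⟩ := hz
    have hpx : p x = hU.fromSpec (Spec.map (𝒮.strZero U hU)
        (Spec.map (CommRingCat.ofHom (HomogeneousLocalization.fromZeroRingHom (𝒮.deg U hU)
          (Submonoid.powers b))) v)) := by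
      have h1 := hP.chart_over U hU
      have h2 : ((p ⁻¹ᵁ U).ι ≫ p) ⟨x, h⟩ = p x := rfl
      rw [← h2, ← h1]
      change hU.fromSpec (Spec.map (𝒮.strZero U hU)
        (Proj.toSpecZero (𝒮.deg U hU) ((chart U hU).hom ⟨x, h⟩))) = _
      rw [← hv]
      have h3 := Proj.awayι_toSpecZero (𝒮.deg U hU) b hb hn
      have h4 : Proj.toSpecZero (𝒮.deg U hU) (Proj.awayι (𝒮.deg U hU) b hb hn v) =
          Spec.map (CommRingCat.ofHom (HomogeneousLocalization.fromZeroRingHom (𝒮.deg U hU)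
            (Submonoid.powers b))) v := congrArg (fun f => f v) h3
      rw [h4]
    have hmem : Spec.map (𝒮.strZero U hU)
        (Spec.map (CommRingCat.ofHom (HomogeneousLocalization.fromZeroRingHom (𝒮.deg U hU)
          (Submonoid.powers b))) v) ∈ hU.fromSpec ⁻¹ᵁ Y.basicOpen α := by
      change hU.fromSpec _ ∈ Y.basicOpen α
      rw [← hpx]
      exact hxD
    rw [hU.fromSpec_preimage_basicOpen] at hmem
    apply hmem
    change HomogeneousLocalization.fromZeroRingHom (𝒮.deg U hU) (Submonoid.powers b)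
      ((𝒮.strZero U hU).hom α) ∈ v.asIdeal
    rw [hα, fromZero_eq_zero (𝒮.deg U hU) ha hab]
    exact zero_mem _
  -- homogeneous elements have no zero divisors
  have key : ∀ {x y : 𝒮.presheaf.obj (op U)}, SetLike.IsHomogeneousElem (𝒮.deg U hU) x →
      SetLike.IsHomogeneousElem (𝒮.deg U hU) y → x * y ∈ (⊥ : Ideal (𝒮.presheaf.obj (op U))) →
      x ∈ (⊥ : Ideal (𝒮.presheaf.obj (op U))) ∨ y ∈ (⊥ : Ideal (𝒮.presheaf.obj (op U))) := by
    rintro x y ⟨m, hx⟩ ⟨n, hy⟩ hxy
    have hxy' : x * y = 0 := hxy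
    by_contra hcon
    have hx0 : x ≠ 0 := fun h => hcon (Or.inl h)
    have hy0 : y ≠ 0 := fun h => hcon (Or.inr h)
    rcases Nat.eq_zero_or_pos m with rfl | hm
    · rcases Nat.eq_zero_or_pos n with rfl | hn
      · obtain ⟨α, hα⟩ := (h0 U hU).2 ⟨x, hx⟩
        obtain ⟨β, hβ⟩ := (h0 U hU).2 ⟨y, hy⟩
        have h1 : (𝒮.strZero U hU).hom (α * β) = 0 := by
          rw [map_mul, hα, hβ]
          exact Subtype.ext hxy'
        have h2 := (h0 U hU).1 (h1.trans (map_zero _).symm)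
        rcases mul_eq_zero.1 h2 with h | h
        · apply hx0
          have := congrArg Subtype.val hα
          rw [h, map_zero] at this
          exact this.symm
        · apply hy0
          have := congrArg Subtype.val hβ
          rw [h, map_zero] at this
          exact this.symm
      · exact case0n x y hx n hy hn hxy' hx0 hy0
    · rcases Nat.eq_zero_or_pos n with rfl | hn
      · exact case0n y x hy m hx hm (by rw [mul_comm]; exact hxy') hy0 hx0
      · obtain ⟨z, hzx, hzy⟩ := nonempty_preirreducible_inter (O x).2 (O y).2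
          (hOne m hm x hx hx0) (hOne n hn y hy hy0)
        obtain ⟨h, hz1⟩ := (hmemO x z).1 hzx
        obtain ⟨_, hz2⟩ := (hmemO y z).1 hzy
        have hz3 : (chart U hU).hom ⟨z, h⟩ ∈ Proj.basicOpen (𝒮.deg U hU) (x * y) := by
          rw [Proj.basicOpen_mul]
          exact ⟨hz1, hz2⟩
        rw [hxy', Proj.basicOpen_zero] at hz3
        exact hz3
  have hnt : Nontrivial (𝒮.presheaf.obj (op U)) := by
    by_contra h
    rw [not_nontrivial_iff_subsingleton] at h
    exact hirrne (Subsingleton.elim _ _)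
  have hprime : (⊥ : Ideal (𝒮.presheaf.obj (op U))).IsPrime :=
    (Ideal.IsHomogeneous.bot (𝒮.deg U hU)).isPrime_of_homogeneous_mem_or_mem bot_ne_top key
  exact IsDomain.of_bot_isPrime _

end Groth.Agent.S8265
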