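import Groth.Statements.S8267
import Mathlib.AlgebraicGeometry.Morphisms.FiniteType
import Groth.Agent.Lib.Helper42.SymAlg2
import Groth.Agent.Lib.Helper42.SymFin
import Groth.Agent.Lib.QCoh.AffineOpen
-- import your own Groth.Agent.* helpers here

set_option autoImplicit false
universe u
open CategoryTheory CategoryTheory.Limits AlgebraicGeometry Opposite TopologicalSpace
open EGA2

namespace Groth.Agent.S8267

set_option backward.isDefEq.respectTransparency.types false in
lemma aux {S : Scheme.{u}} (E : S.Modules) (hE : Coh.IsCoh E)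
    (A : RelSpec.QCAlg S) (j : E ⟶ A.toModule) (hA : RelSpec.IsSymAlg E A j) :
    LocallyOfFiniteType A.π := by
  have : E.IsQuasicoherent := hE.1
  have : E.IsFiniteType := hE.2
  refine (IsZariskiLocalAtSource.iff_of_openCover (P := @LocallyOfFiniteType) (f := A.π)
    A.glueData.cover).mpr ?_
  intro U
  change LocallyOfFiniteType (A.ι U.1 U.2 ≫ A.π)
  rw [A.ι_π]
  have hft : LocallyOfFiniteType (Spec.map (A.str.app (op U.1))) := by
    rw [HasRingHomProperty.Spec_iff (P := @LocallyOfFiniteType)]
    haveI : Module.Finite Γ(S, U.1) Γ(E, U.1) :=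
      Groth.Agent.Lib.QCoh.finite_Γ_of_isAffineOpen U.2 E
    have hbij := Groth.Agent.Lib.Helper42.SymAlg.bijective_tauU E hA U.1 U.2
    have hcomp : (A.str.app (op U.1)).hom =
        (Groth.Agent.Lib.Helper42.SymAlg.tauU E A j U.1).comp
          (algebraMap Γ(S, U.1) (Groth.Agent.Lib.Helper42.SymAlg.SymU E U.1)) := by
      ext r
      exact (Groth.Agent.Lib.Helper42.SymLoc.liftRing_algebraMap (A.str.app (op U.1)).hom
        (Groth.Agent.Lib.Helper42.SymAlg.phiU E A j U.1)
        (Groth.Agent.Lib.Helper42.SymAlg.phiU_smul E A j U.1) r).symm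
    rw [hcomp]
    refine RingHom.FiniteType.comp (RingHom.FiniteType.of_surjective _ hbij.2) ?_
    exact (RingHom.finiteType_algebraMap).mpr inferInstance
  infer_instance

/-- Let E be a quasi-coherent O_S-module of finite type and A (through j : E → A) its symmetric algebra.
Then the vector bundle V(E) = Spec(A) is of finite type over S, i.e. its (affine) structure morphism
is locally of finite type. -/
theorem result {S : Scheme.{u}} (E : S.Modules) (hE : Coh.IsCoh E)
    (A : RelSpec.QCAlg S) (j : E ⟶ A.toModule) (hA : RelSpec.IsSymAlg E A j) :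
    LocallyOfFiniteType A.π := by
  exact aux E hE A j hA

end Groth.Agent.S8267
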