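import Groth.Statements.S9380
import Mathlib
import Groth.Prelude.Def_RelSpec
import Groth.Prelude.Def_MoreMor
import Groth.Prelude.Def_AffAlg
import Groth.Agent.S8255
import Groth.Agent.S3569
-- import your own Groth.Agent.* helpers here

set_option autoImplicit false
universe u
open QAff

namespace Groth.Agent.S9380
open CategoryTheory AlgebraicGeometry CategoryTheory.Limits TopologicalSpace Opposite


variable {X S : Scheme.{u}} (f : X ⟶ S) [QuasiCompact f] [QuasiSeparated f]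

/-- existence of the canonical morphism. -/
lemma exists_c : ∃ (c : X ⟶ (RelSpec.QCAlg.directImage f).spec)
    (e : c ≫ (RelSpec.QCAlg.directImage f).π = f),
    (RelSpec.QCAlg.directImage f).gammaMap =
      AffAlg.algHom (RelSpec.QCAlg.directImage f).π f c e := by
  have hω : (RelSpec.QCAlg.directImage f).π.c ≫ (RelSpec.QCAlg.directImage f).gammaMap = f.c :=
    (RelSpec.QCAlg.directImage f).π_c_gammaMap
  obtain ⟨⟨c, e⟩, hc⟩ := (Groth.Agent.S3569.result (RelSpec.QCAlg.directImage f).π f).2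
    ⟨(RelSpec.QCAlg.directImage f).gammaMap, hω⟩
  exact ⟨c, e, (congrArg Subtype.val hc).symm⟩

section key

variable {X S : Scheme.{u}} (f : X ⟶ S) [QuasiCompact f] [QuasiSeparated f]
  (c : X ⟶ (RelSpec.QCAlg.directImage f).spec) (e : c ≫ (RelSpec.QCAlg.directImage f).π = f)

include e in
lemma preimage_eq (V : S.Opens) : c ⁻¹ᵁ ((RelSpec.QCAlg.directImage f).π ⁻¹ᵁ V) = f ⁻¹ᵁ V := by
  ext x
  show (RelSpec.QCAlg.directImage f).π (c x) ∈ V ↔ f x ∈ V
  have := congrArg (fun φ => φ x) e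
  simp only [Scheme.Hom.comp_apply] at this
  rw [this]

lemma isIso_app (hcond : (RelSpec.QCAlg.directImage f).gammaMap =
      AffAlg.algHom (RelSpec.QCAlg.directImage f).π f c e) (V : S.Opens) :
    IsIso (c.app ((RelSpec.QCAlg.directImage f).π ⁻¹ᵁ V)) := by
  haveI : IsIso (RelSpec.QCAlg.directImage f).gammaMap := Groth.Agent.S8255.result _
  have h1 : IsIso ((RelSpec.QCAlg.directImage f).gammaMap.app (op V)) := inferInstance
  rw [hcond, Groth.Agent.S3569.algHom_app] at h1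
  have heq := preimage_eq f c e V
  have h2 : c.app ((RelSpec.QCAlg.directImage f).π ⁻¹ᵁ V) =
      c.appLE ((RelSpec.QCAlg.directImage f).π ⁻¹ᵁ V) (f ⁻¹ᵁ V)
        (Groth.Agent.S3569.le_of_comp _ f c e V) ≫
        X.presheaf.map (homOfLE heq.le).op := by
    rw [Scheme.Hom.appLE_map, Scheme.Hom.appLE_eq_app]
  rw [h2]
  have h3 : IsIso (X.presheaf.map (homOfLE heq.le).op) := by
    refine ⟨⟨X.presheaf.map (homOfLE heq.ge).op, ?_, ?_⟩⟩
    · rw [← Functor.map_comp]; exact (congrArg _ (Subsingleton.elim _ _)).trans (X.presheaf.map_id _)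
    · rw [← Functor.map_comp]; exact (congrArg _ (Subsingleton.elim _ _)).trans (X.presheaf.map_id _)
  exact IsIso.comp_isIso' h1 h3

end key

section key2

variable {X S : Scheme.{u}} (f : X ⟶ S) [QuasiCompact f] [QuasiSeparated f]
  (c : X ⟶ (RelSpec.QCAlg.directImage f).spec) (e : c ≫ (RelSpec.QCAlg.directImage f).π = f)

lemma iSup_preimage :
    ⨆ V : S.affineOpens, (RelSpec.QCAlg.directImage f).π ⁻¹ᵁ V.1 = ⊤ := by
  rw [eq_top_iff]
  intro z _
  obtain ⟨_, ⟨V, hV : IsAffineOpen V, rfl⟩, hzV, -⟩ :=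
    S.isBasis_affineOpens.exists_subset_of_mem_open
      (Set.mem_univ ((RelSpec.QCAlg.directImage f).π z)) isOpen_univ
  exact TopologicalSpace.Opens.mem_iSup.mpr ⟨⟨V, hV⟩, hzV⟩

lemma isIso_toSpecΓ {Y : Scheme.{u}} {W : Y.Opens} (hW : IsAffineOpen W) : IsIso W.toSpecΓ := by
  rw [← hW.isoSpec_hom]; infer_instance

lemma restrict_eq (V : S.Opens) (hV : IsAffineOpen V) :
    c ∣_ ((RelSpec.QCAlg.directImage f).π ⁻¹ᵁ V) =
      ((c ⁻¹ᵁ ((RelSpec.QCAlg.directImage f).π ⁻¹ᵁ V)).toSpecΓ ≫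
        Spec.map (c.app ((RelSpec.QCAlg.directImage f).π ⁻¹ᵁ V))) ≫
        @inv _ _ _ _ ((RelSpec.QCAlg.directImage f).π ⁻¹ᵁ V).toSpecΓ
          (isIso_toSpecΓ (hV.preimage _)) := by
  haveI := isIso_toSpecΓ (hV.preimage (RelSpec.QCAlg.directImage f).π)
  rw [IsIso.eq_comp_inv, Scheme.Opens.toSpecΓ_naturality]

end key2


open AlgebraicGeometry CategoryTheory in
/-- A quasi-compact quasi-separated morphism f : X → S is quasi-affine if and only if the canonical
S-morphism X → Spec_S(f_*O_X) (the one inducing the comparison map on direct-image algebras) exists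
as a quasi-compact open immersion. -/
theorem result {X S : Scheme.{u}} (f : X ⟶ S) [QuasiCompact f] [QuasiSeparated f] :
    MoreMor.IsQuasiAffineHom f ↔
      ∃ (c : X ⟶ (RelSpec.QCAlg.directImage f).spec) (e : c ≫ (RelSpec.QCAlg.directImage f).π = f),
        (RelSpec.QCAlg.directImage f).gammaMap = AffAlg.algHom (RelSpec.QCAlg.directImage f).π f c e ∧
          QuasiCompact c ∧ IsOpenImmersion c := by
  constructor
  · rintro ⟨-, hqa⟩
    obtain ⟨c, e, hcond⟩ := exists_c f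
    refine ⟨c, e, hcond, ?_, ?_⟩
    · refine IsZariskiLocalAtTarget.of_iSup_eq_top (P := @QuasiCompact)
        (fun V : S.affineOpens => (RelSpec.QCAlg.directImage f).π ⁻¹ᵁ V.1) (iSup_preimage f) ?_
      intro V
      haveI : (↑(c ⁻¹ᵁ ((RelSpec.QCAlg.directImage f).π ⁻¹ᵁ V.1)) : Scheme.{u}).IsQuasiAffine := by
        rw [preimage_eq f c e V.1]; exact hqa V.1 V.2
      haveI : IsAffine (↑((RelSpec.QCAlg.directImage f).π ⁻¹ᵁ V.1) : Scheme.{u}) :=
        V.2.preimage (RelSpec.QCAlg.directImage f).π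
      infer_instance
    · refine IsZariskiLocalAtTarget.of_iSup_eq_top (P := @IsOpenImmersion)
        (fun V : S.affineOpens => (RelSpec.QCAlg.directImage f).π ⁻¹ᵁ V.1) (iSup_preimage f) ?_
      intro V
      haveI hq : (↑(c ⁻¹ᵁ ((RelSpec.QCAlg.directImage f).π ⁻¹ᵁ V.1)) : Scheme.{u}).IsQuasiAffine := by
        rw [preimage_eq f c e V.1]; exact hqa V.1 V.2
      haveI := isIso_app f c e hcond V.1
      haveI := isIso_toSpecΓ (V.2.preimage (RelSpec.QCAlg.directImage f).π)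
      show IsOpenImmersion (c ∣_ ((RelSpec.QCAlg.directImage f).π ⁻¹ᵁ V.1))
      rw [restrict_eq f c V.1 V.2]
      haveI : IsOpenImmersion (c ⁻¹ᵁ ((RelSpec.QCAlg.directImage f).π ⁻¹ᵁ V.1)).toSpecΓ := by
        delta Scheme.Opens.toSpecΓ
        infer_instance
      infer_instance
  · rintro ⟨c, e, -, hqc, hoi⟩
    refine ⟨inferInstance, fun V hV => ?_⟩
    rw [← preimage_eq f c e V]
    haveI : IsAffine (↑((RelSpec.QCAlg.directImage f).π ⁻¹ᵁ V) : Scheme.{u}) :=
      hV.preimage (RelSpec.QCAlg.directImage f).π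
    haveI : QuasiCompact (c ∣_ ((RelSpec.QCAlg.directImage f).π ⁻¹ᵁ V)) := inferInstance
    haveI : CompactSpace ↑(c ⁻¹ᵁ ((RelSpec.QCAlg.directImage f).π ⁻¹ᵁ V)) :=
      (HasAffineProperty.iff_of_isAffine (P := @QuasiCompact)
        (f := c ∣_ ((RelSpec.QCAlg.directImage f).π ⁻¹ᵁ V))).mp inferInstance
    exact Scheme.IsQuasiAffine.of_isImmersion (c ∣_ ((RelSpec.QCAlg.directImage f).π ⁻¹ᵁ V))

end Groth.Agent.S9380
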