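import Groth.Statements.S8269
import Groth.Agent.S9380
import Groth.Agent.Lib.QCoh.Helper66_QCAlgSub
import Groth.Agent.Lib.Helper42.SymAlg
import Groth.Agent.Lib.Helper42.SpecMapLocal
-- import your own Groth.Agent.* helpers here

set_option autoImplicit false
universe u
open CategoryTheory CategoryTheory.Limits AlgebraicGeometry Opposite TopologicalSpace
open EGA2

namespace Groth.Agent.S8269

open Groth.Agent.Lib.Helper42 in
/-- for an affine morphism the canonical morphism `X ⟶ Spec(f_* O_X)` is an isomorphism. -/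
lemma isIso_c {X S : Scheme.{u}} (f : X ⟶ S) [IsAffineHom f]
    (c : X ⟶ (RelSpec.QCAlg.directImage f).spec) (e : c ≫ (RelSpec.QCAlg.directImage f).π = f)
    (hcond : (RelSpec.QCAlg.directImage f).gammaMap =
      AffAlg.algHom (RelSpec.QCAlg.directImage f).π f c e) : IsIso c := by
  have h : MorphismProperty.isomorphisms Scheme.{u} c := by
    refine IsZariskiLocalAtTarget.of_iSup_eq_top (P := MorphismProperty.isomorphisms Scheme.{u})
      (fun V : S.affineOpens => (RelSpec.QCAlg.directImage f).π ⁻¹ᵁ V.1)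
      (Groth.Agent.S9380.iSup_preimage f) ?_
    intro V
    show IsIso (c ∣_ ((RelSpec.QCAlg.directImage f).π ⁻¹ᵁ V.1))
    rw [Groth.Agent.S9380.restrict_eq f c V.1 V.2]
    haveI := Groth.Agent.S9380.isIso_app f c e hcond V.1
    haveI : IsIso (c ⁻¹ᵁ ((RelSpec.QCAlg.directImage f).π ⁻¹ᵁ V.1)).toSpecΓ :=
      Groth.Agent.S9380.isIso_toSpecΓ (by
        rw [Groth.Agent.S9380.preimage_eq f c e V.1]; exact V.2.preimage f)
    infer_instance
  exact h

/-- the direct image algebra of an affine morphism locally of finite type is of finite type over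
affine opens. -/
lemma finiteType_directImage {X S : Scheme.{u}} (f : X ⟶ S) [IsAffineHom f]
    [LocallyOfFiniteType f] (U : S.affineOpens) :
    ((RelSpec.QCAlg.directImage f).str.app (op (U : S.Opens))).hom.FiniteType := by
  have h := HasRingHomProperty.appLE (P := @LocallyOfFiniteType) f inferInstance U
    ⟨f ⁻¹ᵁ U.1, U.2.preimage f⟩ le_rfl
  rw [Scheme.Hom.appLE_eq_app] at h
  exact h

/-- Let Y be either a quasi-compact separated scheme or a scheme with Noetherian underlying space, and X
affine and of finite type over Y. Then X is Y-isomorphic to a closed subscheme of a vector bundle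
V(E) with E a quasi-coherent O_Y-module of finite type: there are such an E, its symmetric algebra
A, and a closed immersion X → Spec(A) over Y. -/
theorem result {X Y : Scheme.{u}}
    (hY : (CompactSpace Y ∧ Y.IsSeparated) ∨ NoetherianSpace Y) (f : X ⟶ Y) [IsAffineHom f]
    [LocallyOfFiniteType f] :
    ∃ (E : Y.Modules) (_ : Coh.IsCoh E) (A : RelSpec.QCAlg Y) (j : E ⟶ A.toModule)
      (_ : RelSpec.IsSymAlg E A j) (i : X ⟶ A.spec), IsClosedImmersion i ∧ i ≫ A.π = f := by
  classical
  set B := RelSpec.QCAlg.directImage f with hBdef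
  haveI : CompactSpace Y := by
    rcases hY with ⟨h, -⟩ | h
    · exact h
    · infer_instance
  have H : ∀ (U : Y.Opens), IsAffineOpen U → ∀ s : Γ(B.toModule, U),
      ∃ N : Groth.Agent.Lib.QCoh.SubExt.SubFam B.toModule, N.IsLocal ∧ N.IsLFG ⊤ ∧ s ∈ N.sec U := by
    intro U hU s
    rcases hY with ⟨_, h⟩ | h
    · haveI : Y.IsSeparated := h
      exact Groth.Agent.Lib.QCoh.QCAlgSub.exists_subFam_through_section_of_qcqs U hU.isCompact s
    · refine Groth.Agent.Lib.QCoh.QCAlgSub.exists_subFam_through_section_of_locallyNoetherian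
        (fun x => ⟨⊤, trivial, ?_⟩) U s
      infer_instance
  obtain ⟨E, j, -, hqc, hft, hgen⟩ :=
    Groth.Agent.Lib.QCoh.QCAlgSub.exists_generating_submodule B H (finiteType_directImage f)
  haveI : E.IsQuasicoherent := hqc
  obtain ⟨c, e, hcond⟩ := Groth.Agent.S9380.exists_c f
  haveI : IsIso c := isIso_c f c e hcond
  let ψ : Groth.Agent.Lib.Helper42.SymAlg.symAlg E ⟶ B :=
    Groth.Agent.Lib.Helper42.SymAlg.symLift E B j
  have hψ : Groth.Agent.Lib.Helper42.SymAlg.jSym E ≫ RelSpec.QCAlg.Hom.toModuleMap ψ = j :=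
    Groth.Agent.Lib.Helper42.SymAlg.jSym_symLift E B j
  have hsurj : ∀ (U : Y.Opens) (_ : IsAffineOpen U),
      Function.Surjective (ψ.hom.app (op U)).hom := by
    intro U hU
    rw [← RingHom.range_eq_top, eq_top_iff, ← hgen ⟨U, hU⟩, Subring.closure_le]
    rintro y (⟨r, rfl⟩ | ⟨x, rfl⟩)
    · refine ⟨((Groth.Agent.Lib.Helper42.SymAlg.symAlg E).str.app (op U)).hom r, ?_⟩
      exact congrArg (fun g => g.hom r) (NatTrans.congr_app ψ.comm (op U))
    · refine ⟨(Groth.Agent.Lib.Helper42.SymAlg.jSym E).app U x, ?_⟩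
      exact congrArg (fun g => g.app U x) hψ
  haveI : IsClosedImmersion (RelSpec.QCAlg.specMap ψ) :=
    Groth.Agent.Lib.Helper42.SpecMapLocal.isClosedImmersion_specMap ψ hsurj
  refine ⟨E, ⟨hqc, hft⟩, Groth.Agent.Lib.Helper42.SymAlg.symAlg E,
    Groth.Agent.Lib.Helper42.SymAlg.jSym E, Groth.Agent.Lib.Helper42.SymAlg.isSymAlg E,
    c ≫ RelSpec.QCAlg.specMap ψ, inferInstance, ?_⟩
  rw [Category.assoc, RelSpec.QCAlg.specMap_π, e]

end Groth.Agent.S8269
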