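import Groth.Statements.S8272
-- import your own Groth.Agent.* helpers here

set_option autoImplicit false
universe u
open CategoryTheory CategoryTheory.Limits AlgebraicGeometry Opposite TopologicalSpace
open EGA2

namespace Groth.Agent.S8272


/-- `A_(f) → A_(fg)` is injective when `g` is a non-zero-divisor. -/
lemma awayMap_injective {σ A : Type*} [CommRing A] [SetLike σ A] [AddSubgroupClass σ A]
    (𝒜 : ℕ → σ) [GradedRing 𝒜] {d e : ℕ} {f g x : A} (hf : f ∈ 𝒜 d) (hg : g ∈ 𝒜 e)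
    (hx : x = f * g) (hnz : g ∈ nonZeroDivisors A) :
    Function.Injective (HomogeneousLocalization.awayMap 𝒜 hg hx) := by
  rw [injective_iff_map_eq_zero]
  intro a ha
  obtain ⟨n, s, hs, rfl⟩ := HomogeneousLocalization.Away.mk_surjective 𝒜 hf a
  rw [HomogeneousLocalization.awayMap_mk] at ha
  have h1 := congr_arg HomogeneousLocalization.val ha
  rw [HomogeneousLocalization.Away.val_mk, HomogeneousLocalization.val_zero,
    Localization.mk_eq_mk', IsLocalization.mk'_eq_zero_iff] at h1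
  obtain ⟨⟨c, m, rfl⟩, hc⟩ := h1
  have hc' : x ^ m * (s * g ^ n) = 0 := hc
  subst hx
  have h2 : g ^ (m + n) * (f ^ m * s) = 0 := by
    rw [← hc']
    ring
  have h3 : f ^ m * s = 0 :=
    (mul_left_mem_nonZeroDivisors_eq_zero_iff (pow_mem hnz (m + n))).1 h2
  apply HomogeneousLocalization.val_injective
  rw [HomogeneousLocalization.Away.val_mk, HomogeneousLocalization.val_zero,
    Localization.mk_eq_mk', IsLocalization.mk'_eq_zero_iff]
  exact ⟨⟨f ^ m, m, rfl⟩, h3⟩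

/-- restriction `Γ(D₊ f) → Γ(D₊ (f g))` is injective when `g` is a non-zero-divisor. -/
lemma res_injective {σ A : Type u} [CommRing A] [SetLike σ A] [AddSubgroupClass σ A]
    (𝒜 : ℕ → σ) [GradedRing 𝒜] {d e : ℕ} {f g : A} (hf : f ∈ 𝒜 d) (hd : 0 < d) (hg : g ∈ 𝒜 e)
    (hnz : g ∈ nonZeroDivisors A) :
    Function.Injective ((Proj 𝒜).presheaf.map
      (homOfLE (Proj.basicOpen_mono 𝒜 f (f * g) ⟨g, rfl⟩)).op).hom := by
  have h := Proj.awayMap_awayToSection 𝒜 (f := f) hg (x := f * g) rfl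
  have hiso : IsIso (Proj.awayToSection 𝒜 f) :=
    (Proj.basicOpenIsoAway 𝒜 f hf hd).isIso_hom
  have hinj : Function.Injective
      (CommRingCat.ofHom (HomogeneousLocalization.awayMap 𝒜 hg rfl) ≫
        Proj.awayToSection 𝒜 (f * g)).hom := by
    have hiso' : IsIso (Proj.awayToSection 𝒜 (f * g)) :=
      (Proj.basicOpenIsoAway 𝒜 (f * g) (SetLike.mul_mem_graded hf hg)
        (Nat.lt_of_lt_of_le hd (Nat.le_add_right d e))).isIso_hom
    rw [CommRingCat.hom_comp]
    exact ((ConcreteCategory.bijective_of_isIso (Proj.awayToSection 𝒜 (f * g))).1).comp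
      (awayMap_injective 𝒜 hf hg rfl hnz)
  rw [h, CommRingCat.hom_comp] at hinj
  intro a b hab
  obtain ⟨a', rfl⟩ := (ConcreteCategory.bijective_of_isIso (Proj.awayToSection 𝒜 f)).2 a
  obtain ⟨b', rfl⟩ := (ConcreteCategory.bijective_of_isIso (Proj.awayToSection 𝒜 f)).2 b
  congr 1
  exact hinj hab

/-- Let T be a positively graded ring, Z = Proj T and g ∈ T_d (d > 0) a homogeneous element that is not
a zero divisor in T. Then Z is the smallest closed subscheme of Z containing the open D_+(g);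
equivalently the kernel (ideal sheaf) of the open immersion D_+(g) → Z vanishes. -/
theorem result {R A : Type u} [CommRing R] [CommRing A] [Algebra R A]
    (𝒜 : ℕ → Submodule R A) [GradedAlgebra 𝒜] {d : ℕ} (hd : 0 < d) (g : A) (hg : g ∈ 𝒜 d)
    (hnz : g ∈ nonZeroDivisors A) :
    (Proj.basicOpen 𝒜 g).ι.ker = ⊥ := by
  classical
  have haff : ∀ i : (Σ i : PNat, 𝒜 i), IsAffineOpen (Proj.basicOpen 𝒜 (i.2 : A)) :=
    fun i => Proj.isAffineOpen_basicOpen 𝒜 _ i.2.2 i.1.2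
  have hU : ⨆ i : (Σ i : PNat, 𝒜 i), Proj.basicOpen 𝒜 (i.2 : A) = ⊤ := by
    have h := (Proj.affineOpenCover 𝒜).openCover.iSup_opensRange
    rw [← h]
    refine iSup_congr (fun i => ?_)
    exact (Proj.opensRange_awayι 𝒜 _ i.2.2 i.1.2).symm
  refine Scheme.IdealSheafData.ext_of_iSup_eq_top
    (fun i : (Σ i : PNat, 𝒜 i) => (⟨Proj.basicOpen 𝒜 (i.2 : A), haff i⟩ : (Proj 𝒜).affineOpens))
    hU (fun i => ?_)
  rw [Scheme.IdealSheafData.ideal_bot, Pi.bot_apply, eq_bot_iff]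
  refine le_trans (Scheme.Hom.ideal_ker_le _ _) ?_
  intro s hs
  rw [RingHom.mem_ker] at hs
  change s = 0
  have hW : (Proj.basicOpen 𝒜 g).ι ''ᵁ (Proj.basicOpen 𝒜 g).ι ⁻¹ᵁ (Proj.basicOpen 𝒜 (i.2 : A)) =
      Proj.basicOpen 𝒜 ((i.2 : A) * g) := by
    rw [Scheme.Hom.image_preimage_eq_opensRange_inf, Scheme.Opens.opensRange_ι,
      Proj.basicOpen_mul, inf_comm]
  have hfac : (Proj.basicOpen 𝒜 g).ι.app (Proj.basicOpen 𝒜 (i.2 : A)) =
      (Proj 𝒜).presheaf.map
        (homOfLE (Proj.basicOpen_mono 𝒜 (i.2 : A) ((i.2 : A) * g) ⟨g, rfl⟩)).op ≫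
      (Proj 𝒜).presheaf.map (eqToHom hW).op := by
    rw [Scheme.Opens.ι_app, ← Functor.map_comp, ← op_comp]
    rfl
  rw [hfac] at hs
  have hs2 : ((Proj 𝒜).presheaf.map (eqToHom hW).op).hom
      (((Proj 𝒜).presheaf.map
        (homOfLE (Proj.basicOpen_mono 𝒜 (i.2 : A) ((i.2 : A) * g) ⟨g, rfl⟩)).op).hom s) = 0 := hs
  have hiso : Function.Injective ((Proj 𝒜).presheaf.map (eqToHom hW).op).hom :=
    (ConcreteCategory.bijective_of_isIso ((Proj 𝒜).presheaf.map (eqToHom hW).op)).1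
  have hs' := hiso (hs2.trans (map_zero _).symm)
  exact res_injective 𝒜 i.2.2 i.1.2 hg hnz (hs'.trans (map_zero _).symm)

end Groth.Agent.S8272
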