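import Groth.Statements.S8273
import Groth.Agent.Lib.Helper42.RelProjGlue
-- import your own Groth.Agent.* helpers here

set_option autoImplicit false
universe u
open CategoryTheory CategoryTheory.Limits AlgebraicGeometry Opposite TopologicalSpace
open scoped HomogeneousIdeal
open EGA2

namespace Groth.Agent.S8273


/-- the chartwise identification of two relative Proj's is compatible with basic opens. -/
lemma compat {Y P P' : Scheme.{u}} (𝒮 : RelProj.QCGrAlg Y) (p : P ⟶ Y)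
    (chart : ∀ (U : Y.Opens) (hU : IsAffineOpen U),
      (((p ⁻¹ᵁ U : P.Opens) : Scheme.{u}) ≅ Proj (𝒮.deg U hU)))
    (hP : RelProj.IsRelProj 𝒮 p chart) (p' : P' ⟶ Y)
    (chart' : ∀ (U : Y.Opens) (hU : IsAffineOpen U),
      (((p' ⁻¹ᵁ U : P'.Opens) : Scheme.{u}) ≅ Proj (𝒮.deg U hU)))
    (hP' : RelProj.IsRelProj 𝒮 p' chart')
    (U : Y.Opens) (hU : IsAffineOpen U) (r : Γ(Y, U)) :
    P.homOfLE (p.preimage_mono (Y.basicOpen_le r)) ≫
        ((chart U hU).hom ≫ (chart' U hU).inv ≫ (p' ⁻¹ᵁ U).ι) =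
      (chart (Y.basicOpen r) (hU.basicOpen r)).hom ≫
        (chart' (Y.basicOpen r) (hU.basicOpen r)).inv ≫ (p' ⁻¹ᵁ (Y.basicOpen r)).ι := by
  have h1 := hP.chart_res U hU r
  have h2 := hP'.chart_res U hU r
  have h3 : Proj.map (𝒮.res hU (hU.basicOpen r) (Y.basicOpen_le r)) (𝒮.irrelevant_le_map U hU r) ≫
      (chart' U hU).inv = (chart' (Y.basicOpen r) (hU.basicOpen r)).inv ≫
        P'.homOfLE (p'.preimage_mono (Y.basicOpen_le r)) := by
    rw [Iso.eq_inv_comp, ← Category.assoc, ← h2, Category.assoc, Iso.hom_inv_id, Category.comp_id]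
  rw [← Category.assoc, h1, Category.assoc, ← Category.assoc (Proj.map _ _), h3, Category.assoc,
    Scheme.homOfLE_ι]

/-- Uniqueness of the relative homogeneous spectrum: two schemes over Y equipped with the chart data of
Proj(𝒮) are related by a unique morphism compatible with the charts (chartwise the identity of Proj
𝒮(U)), and that morphism is a Y-isomorphism. -/
theorem result {Y P P' : Scheme.{u}} (𝒮 : RelProj.QCGrAlg Y) (p : P ⟶ Y)
    (chart : ∀ (U : Y.Opens) (hU : IsAffineOpen U), (((p ⁻¹ᵁ U : P.Opens) : Scheme.{u}) ≅ Proj (𝒮.deg U hU)))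
    (hP : RelProj.IsRelProj 𝒮 p chart) (p' : P' ⟶ Y)
    (chart' : ∀ (U : Y.Opens) (hU : IsAffineOpen U), (((p' ⁻¹ᵁ U : P'.Opens) : Scheme.{u}) ≅ Proj (𝒮.deg U hU)))
    (hP' : RelProj.IsRelProj 𝒮 p' chart') :
    (∃! e : P ⟶ P', ∀ (U : Y.Opens) (hU : IsAffineOpen U),
        (p ⁻¹ᵁ U).ι ≫ e = (chart U hU).hom ≫ (chart' U hU).inv ≫ (p' ⁻¹ᵁ U).ι) ∧
      ∀ e : P ⟶ P', (∀ (U : Y.Opens) (hU : IsAffineOpen U),
        (p ⁻¹ᵁ U).ι ≫ e = (chart U hU).hom ≫ (chart' U hU).inv ≫ (p' ⁻¹ᵁ U).ι) → IsIso e ∧ e ≫ p' = p := by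
  have hex := Groth.Agent.Lib.Helper42.RelProjGlue.existsUnique_glue p
    (fun U hU => (chart U hU).hom ≫ (chart' U hU).inv ≫ (p' ⁻¹ᵁ U).ι)
    (fun U hU r => compat 𝒮 p chart hP p' chart' hP' U hU r)
  have hex' := Groth.Agent.Lib.Helper42.RelProjGlue.existsUnique_glue p'
    (fun U hU => (chart' U hU).hom ≫ (chart U hU).inv ≫ (p ⁻¹ᵁ U).ι)
    (fun U hU r => compat 𝒮 p' chart' hP' p chart hP U hU r)
  refine ⟨hex, ?_⟩
  intro e he
  obtain ⟨e', he', -⟩ := hex'
  have h1 : e ≫ e' = 𝟙 P := by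
    refine Groth.Agent.Lib.Helper42.RelProjGlue.hom_ext_affineOpens p (fun U hU => ?_)
    rw [← Category.assoc, he U hU]
    simp only [Category.assoc]
    rw [he' U hU, Iso.inv_hom_id_assoc, Iso.hom_inv_id_assoc, Category.comp_id]
  have h2 : e' ≫ e = 𝟙 P' := by
    refine Groth.Agent.Lib.Helper42.RelProjGlue.hom_ext_affineOpens p' (fun U hU => ?_)
    rw [← Category.assoc, he' U hU]
    simp only [Category.assoc]
    rw [he U hU, Iso.inv_hom_id_assoc, Iso.hom_inv_id_assoc, Category.comp_id]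
  refine ⟨⟨e', h1, h2⟩, ?_⟩
  refine Groth.Agent.Lib.Helper42.RelProjGlue.hom_ext_affineOpens p (fun U hU => ?_)
  rw [← Category.assoc, he U hU]
  simp only [Category.assoc]
  rw [← hP'.chart_over U hU, Iso.inv_hom_id_assoc, hP.chart_over U hU]

end Groth.Agent.S8273
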