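import Groth.Statements.S8274
-- import your own Groth.Agent.* helpers here

set_option autoImplicit false
universe u
open CategoryTheory CategoryTheory.Limits AlgebraicGeometry Opposite TopologicalSpace
open scoped HomogeneousIdeal
open EGA2

namespace Groth.Agent.S8274


/-- the chartwise open `D₊(f|U)` transported to `P`. -/
noncomputable def DU {Y P : Scheme.{u}} (𝒮 : RelProj.QCGrAlg Y) (p : P ⟶ Y)
    (chart : ∀ (U : Y.Opens) (hU : IsAffineOpen U),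
      (((p ⁻¹ᵁ U : P.Opens) : Scheme.{u}) ≅ Proj (𝒮.deg U hU)))
    (f : 𝒮.presheaf.obj (op ⊤)) (U : Y.Opens) (hU : IsAffineOpen U) : P.Opens :=
  (p ⁻¹ᵁ U).ι ''ᵁ ((chart U hU).hom ⁻¹ᵁ
    Proj.basicOpen (𝒮.deg U hU) ((𝒮.presheaf.map (homOfLE le_top).op).hom f))

lemma mem_DU_iff {Y P : Scheme.{u}} (𝒮 : RelProj.QCGrAlg Y) (p : P ⟶ Y)
    (chart : ∀ (U : Y.Opens) (hU : IsAffineOpen U),
      (((p ⁻¹ᵁ U : P.Opens) : Scheme.{u}) ≅ Proj (𝒮.deg U hU)))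
    (f : 𝒮.presheaf.obj (op ⊤)) (U : Y.Opens) (hU : IsAffineOpen U) (x : P) :
    x ∈ DU 𝒮 p chart f U hU ↔ ∃ h : x ∈ p ⁻¹ᵁ U, (chart U hU).hom ⟨x, h⟩ ∈
      Proj.basicOpen (𝒮.deg U hU) ((𝒮.presheaf.map (homOfLE le_top).op).hom f) := by
  constructor
  · rintro ⟨y, hy, rfl⟩
    exact ⟨y.2, hy⟩
  · rintro ⟨h, hx⟩
    exact ⟨⟨x, h⟩, hx, rfl⟩

lemma DU_le {Y P : Scheme.{u}} (𝒮 : RelProj.QCGrAlg Y) (p : P ⟶ Y)
    (chart : ∀ (U : Y.Opens) (hU : IsAffineOpen U),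
      (((p ⁻¹ᵁ U : P.Opens) : Scheme.{u}) ≅ Proj (𝒮.deg U hU)))
    (f : 𝒮.presheaf.obj (op ⊤)) (U : Y.Opens) (hU : IsAffineOpen U) :
    DU 𝒮 p chart f U hU ≤ p ⁻¹ᵁ U := by
  intro x hx
  obtain ⟨h, -⟩ := (mem_DU_iff 𝒮 p chart f U hU x).1 hx
  exact h

lemma DU_congr {Y P : Scheme.{u}} (𝒮 : RelProj.QCGrAlg Y) (p : P ⟶ Y)
    (chart : ∀ (U : Y.Opens) (hU : IsAffineOpen U),
      (((p ⁻¹ᵁ U : P.Opens) : Scheme.{u}) ≅ Proj (𝒮.deg U hU)))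
    (f : 𝒮.presheaf.obj (op ⊤)) {W W' : Y.Opens} (h : W = W') (hW : IsAffineOpen W)
    (hW' : IsAffineOpen W') : DU 𝒮 p chart f W hW = DU 𝒮 p chart f W' hW' := by
  subst h
  rfl

/-- compatibility of `DU` with basic opens. -/
lemma mem_DU_basicOpen_iff {Y P : Scheme.{u}} (𝒮 : RelProj.QCGrAlg Y) (p : P ⟶ Y)
    (chart : ∀ (U : Y.Opens) (hU : IsAffineOpen U),
      (((p ⁻¹ᵁ U : P.Opens) : Scheme.{u}) ≅ Proj (𝒮.deg U hU)))
    (hP : RelProj.IsRelProj 𝒮 p chart)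
    (f : 𝒮.presheaf.obj (op ⊤)) (U : Y.Opens) (hU : IsAffineOpen U) (r : Γ(Y, U)) (x : P)
    (hx : x ∈ p ⁻¹ᵁ (Y.basicOpen r)) :
    x ∈ DU 𝒮 p chart f U hU ↔ x ∈ DU 𝒮 p chart f (Y.basicOpen r) (hU.basicOpen r) := by
  have hxU : x ∈ p ⁻¹ᵁ U := p.preimage_mono (Y.basicOpen_le r) hx
  have h1 := hP.chart_res U hU r
  have h2 : (chart U hU).hom ⟨x, hxU⟩ =
      (Proj.map (𝒮.res hU (hU.basicOpen r) (Y.basicOpen_le r)) (𝒮.irrelevant_le_map U hU r))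
        ((chart (Y.basicOpen r) (hU.basicOpen r)).hom ⟨x, hx⟩) := by
    have h0 : (P.homOfLE (p.preimage_mono (Y.basicOpen_le r)) ≫ (chart U hU).hom) ⟨x, hx⟩ =
        ((chart (Y.basicOpen r) (hU.basicOpen r)).hom ≫
          Proj.map (𝒮.res hU (hU.basicOpen r) (Y.basicOpen_le r))
            (𝒮.irrelevant_le_map U hU r)) ⟨x, hx⟩ := by rw [h1]
    have h0' : (chart U hU).hom (P.homOfLE (p.preimage_mono (Y.basicOpen_le r)) ⟨x, hx⟩) =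
        (Proj.map (𝒮.res hU (hU.basicOpen r) (Y.basicOpen_le r)) (𝒮.irrelevant_le_map U hU r))
        ((chart (Y.basicOpen r) (hU.basicOpen r)).hom ⟨x, hx⟩) := h0
    rw [Scheme.homOfLE_apply'] at h0'
    exact h0'
  have h3 : (𝒮.res hU (hU.basicOpen r) (Y.basicOpen_le r))
      ((𝒮.presheaf.map (homOfLE (le_top : U ≤ ⊤)).op).hom f) =
      (𝒮.presheaf.map (homOfLE (le_top : Y.basicOpen r ≤ ⊤)).op).hom f := by
    rw [RelProj.QCGrAlg.res_apply]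
    change ((𝒮.presheaf.map (homOfLE (le_top : U ≤ ⊤)).op) ≫
      (𝒮.presheaf.map (homOfLE (Y.basicOpen_le r)).op)).hom f = _
    rw [← Functor.map_comp]
    rfl
  rw [mem_DU_iff, mem_DU_iff]
  constructor
  · rintro ⟨_, h⟩
    refine ⟨hx, ?_⟩
    rw [h2] at h
    have h4 : (chart (Y.basicOpen r) (hU.basicOpen r)).hom ⟨x, hx⟩ ∈
        Proj.map (𝒮.res hU (hU.basicOpen r) (Y.basicOpen_le r)) (𝒮.irrelevant_le_map U hU r) ⁻¹ᵁ
          Proj.basicOpen (𝒮.deg U hU) ((𝒮.presheaf.map (homOfLE le_top).op).hom f) := h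
    rw [Proj.map_preimage_basicOpen, h3] at h4
    exact h4
  · rintro ⟨_, h⟩
    refine ⟨hxU, ?_⟩
    rw [h2]
    have h4 : (chart (Y.basicOpen r) (hU.basicOpen r)).hom ⟨x, hx⟩ ∈
        Proj.map (𝒮.res hU (hU.basicOpen r) (Y.basicOpen_le r)) (𝒮.irrelevant_le_map U hU r) ⁻¹ᵁ
          Proj.basicOpen (𝒮.deg U hU) ((𝒮.presheaf.map (homOfLE le_top).op).hom f) := by
      rw [Proj.map_preimage_basicOpen, h3]
      exact h
    exact h4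

/-- independence of the chart. -/
lemma mem_DU_iff_of_mem {Y P : Scheme.{u}} (𝒮 : RelProj.QCGrAlg Y) (p : P ⟶ Y)
    (chart : ∀ (U : Y.Opens) (hU : IsAffineOpen U),
      (((p ⁻¹ᵁ U : P.Opens) : Scheme.{u}) ≅ Proj (𝒮.deg U hU)))
    (hP : RelProj.IsRelProj 𝒮 p chart)
    (f : 𝒮.presheaf.obj (op ⊤)) {U V : Y.Opens} (hU : IsAffineOpen U) (hV : IsAffineOpen V)
    (x : P) (hxU : x ∈ p ⁻¹ᵁ U) (hxV : x ∈ p ⁻¹ᵁ V) :
    x ∈ DU 𝒮 p chart f U hU ↔ x ∈ DU 𝒮 p chart f V hV := by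
  obtain ⟨r, r', hrr', hx⟩ := exists_basicOpen_le_affine_inter hU hV (p x) ⟨hxU, hxV⟩
  have hx' : p x ∈ Y.basicOpen r' := hrr' ▸ hx
  rw [mem_DU_basicOpen_iff 𝒮 p chart hP f U hU r x hx,
    mem_DU_basicOpen_iff 𝒮 p chart hP f V hV r' x hx',
    DU_congr 𝒮 p chart f hrr' (hU.basicOpen r) (hV.basicOpen r')]

/-- Let 𝒮 be a quasi-coherent positively graded O_Y-algebra, P = Proj(𝒮) with structure morphism p and
charts, and f a global section of 𝒮 homogeneous of degree d > 0. There is an open subset X_f of P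
such that for every affine open U of Y, X_f ∩ p⁻¹(U) is the open D_+(f|U) of Proj 𝒮(U) transported
by the chart; moreover X_f is affine over Y. (The identification of X_f with the spectrum of a
quotient of the d-th Veronese algebra is not stated here.) -/
theorem result {Y P : Scheme.{u}} (𝒮 : RelProj.QCGrAlg Y) (p : P ⟶ Y)
    (chart : ∀ (U : Y.Opens) (hU : IsAffineOpen U), (((p ⁻¹ᵁ U : P.Opens) : Scheme.{u}) ≅ Proj (𝒮.deg U hU)))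
    (hP : RelProj.IsRelProj 𝒮 p chart) {d : ℕ} (hd : 0 < d) (f : 𝒮.presheaf.obj (op ⊤))
    (hf : ∀ (U : Y.Opens) (hU : IsAffineOpen U), (𝒮.presheaf.map (homOfLE le_top).op).hom f ∈ 𝒮.deg U hU d) :
    ∃ Xf : P.Opens,
      (∀ (U : Y.Opens) (hU : IsAffineOpen U),
        Xf ⊓ p ⁻¹ᵁ U =
          (p ⁻¹ᵁ U).ι ''ᵁ ((chart U hU).hom ⁻¹ᵁ
            Proj.basicOpen (𝒮.deg U hU) ((𝒮.presheaf.map (homOfLE le_top).op).hom f))) ∧
      IsAffineHom (Xf.ι ≫ p) := by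
  classical
  let Xf : P.Opens := ⨆ i : Y.affineOpens, DU 𝒮 p chart f i.1 i.2
  have hXf : ∀ (U : Y.Opens) (hU : IsAffineOpen U), Xf ⊓ p ⁻¹ᵁ U = DU 𝒮 p chart f U hU := by
    intro U hU
    ext x
    constructor
    · rintro ⟨hx1, hx2⟩
      obtain ⟨i, hi⟩ := TopologicalSpace.Opens.mem_iSup.1 hx1
      exact (mem_DU_iff_of_mem 𝒮 p chart hP f i.2 hU x (DU_le 𝒮 p chart f i.1 i.2 hi) hx2).1 hi
    · intro hx
      exact ⟨TopologicalSpace.Opens.mem_iSup.2 ⟨⟨U, hU⟩, hx⟩, DU_le 𝒮 p chart f U hU hx⟩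
  refine ⟨Xf, fun U hU => hXf U hU, ⟨fun U hU => ?_⟩⟩
  rw [← Xf.ι.isAffineOpen_iff_of_isOpenImmersion, Scheme.Hom.comp_preimage,
    Scheme.Hom.image_preimage_eq_opensRange_inf, Scheme.Opens.opensRange_ι, hXf U hU]
  have h1 : IsAffineOpen (Proj.basicOpen (𝒮.deg U hU) ((𝒮.presheaf.map (homOfLE le_top).op).hom f)) :=
    Proj.isAffineOpen_basicOpen _ _ (hf U hU) hd
  exact (h1.preimage_of_isIso (chart U hU).hom).image_of_isOpenImmersion (p ⁻¹ᵁ U).ι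

end Groth.Agent.S8274
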