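import Groth.Statements.S8275
import Groth.Agent.Lib.Helper42.Natural
import Groth.Agent.Lib.Helper42.GradedGen
import Mathlib.RingTheory.GradedAlgebra.FiniteType
-- import your own Groth.Agent.* helpers here

set_option autoImplicit false
universe u
open EGA2

namespace Groth.Agent.S8275

open Groth.Agent.Lib.Helper42 in
open DirectSum in
/-- `A` of finite type over `A₀` implies `S♮` of finite type over `S♮₀`. -/
lemma finiteType_natural_of_finiteType {R A B : Type u} [CommRing R] [CommRing A] [Algebra R A]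
    (𝒜 : ℕ → Submodule R A) [GradedAlgebra 𝒜] [CommRing B] [Algebra R B]
    (ℬ : ℕ → Submodule R B) [GradedAlgebra ℬ]
    (φ : B →ₐ[R] Polynomial A) (hφ : Function.Injective φ)
    (hdeg : ∀ n : ℕ, Submodule.map φ.toLinearMap (ℬ n) =
      Submodule.map (Natural.mu R n) (Natural.age 𝒜 n))
    (hA : Algebra.FiniteType (𝒜 0) A) : Algebra.FiniteType (ℬ 0) B := by
  classical
  have hφmem : ∀ n (a : A), a ∈ Natural.age 𝒜 n → ∃ b ∈ ℬ n, φ b = Polynomial.monomial n a := by
    intro n a ha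
    have h : Natural.mu R n a ∈ Submodule.map (Natural.mu R n) (Natural.age 𝒜 n) := ⟨a, ha, rfl⟩
    rw [← hdeg n] at h
    obtain ⟨b, hb, hb'⟩ := h
    exact ⟨b, hb, hb'⟩
  obtain ⟨s, hsadj, hs⟩ := GradedAlgebra.exists_finset_adjoin_eq_top_and_homogeneous_ne_zero 𝒜
  choose! n hn0 hn using hs
  have hg : ∀ a ∈ s, ∀ j, j ≤ n a → ∃ b ∈ ℬ j, φ b = Polynomial.monomial j a :=
    fun a ha j hj => hφmem j a (Natural.le_age 𝒜 hj (hn a ha))
  choose! g hgmem hgφ using hg
  let G : Finset B := s.biUnion (fun a => (Finset.range (n a + 1)).image (g a))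
  have hGmem : ∀ a ∈ s, ∀ j, j ≤ n a → g a j ∈ Algebra.adjoin (ℬ 0) (G : Set B) := by
    intro a ha j hj
    apply Algebra.subset_adjoin
    rw [Finset.mem_coe, Finset.mem_biUnion]
    exact ⟨a, ha, Finset.mem_image.2 ⟨j, Finset.mem_range.2 (by omega), rfl⟩⟩
  have hzero : ∀ b ∈ ℬ 0, b ∈ Algebra.adjoin (ℬ 0) (G : Set B) :=
    fun b hb => Subalgebra.algebraMap_mem _ (⟨b, hb⟩ : ℬ 0)
  have hspan : ∀ m : ℕ, m ≠ 0 → ∀ x ∈ 𝒜 m, x ∈ Ideal.span (s : Set A) :=
    fun m hm x hx => GradedGen.grade_le_span_of_adjoin_eq_top 𝒜 (s : Set A)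
      (fun a ha => ⟨n a, hn0 a ha, hn a ha⟩) hsadj hm hx
  have key : ∀ k m : ℕ, k ≤ m → ∀ x ∈ 𝒜 m,
      ∃ b ∈ Algebra.adjoin (ℬ 0) (G : Set B), φ b = Polynomial.monomial k x := by
    intro k
    induction k using Nat.strong_induction_on with
    | _ k ih =>
      intro m hkm x hx
      rcases Nat.eq_zero_or_pos k with rfl | hk
      · obtain ⟨b, hb, hb'⟩ := hφmem 0 x (Natural.le_age 𝒜 (Nat.zero_le m) hx)
        exact ⟨b, hzero b hb, hb'⟩
      · have hm : m ≠ 0 := by omega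
        obtain ⟨y, hy1, hy2, rfl⟩ :=
          GradedGen.exists_decomp_of_mem_span 𝒜 s n hn hx (hspan m hm x hx)
        have hterm : ∀ a ∈ s, ∃ b ∈ Algebra.adjoin (ℬ 0) (G : Set B),
            φ b = Polynomial.monomial k (y a * a) := by
          intro a ha
          by_cases hle : n a ≤ m
          · have hya := hy1 a ha hle
            by_cases hka : k ≤ n a
            · obtain ⟨b₀, hb₀, hb₀'⟩ := hφmem 0 (y a)
                (Natural.le_age 𝒜 (Nat.zero_le _) hya)
              refine ⟨b₀ * g a k, Subalgebra.mul_mem _ (hzero b₀ hb₀) (hGmem a ha k hka), ?_⟩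
              rw [map_mul, hb₀', hgφ a ha k hka, Polynomial.monomial_mul_monomial, zero_add]
            · have hn0a := hn0 a ha
              obtain ⟨b', hb', hb''⟩ := ih (k - n a) (by omega) (m - n a) (by omega) (y a) hya
              refine ⟨b' * g a (n a), Subalgebra.mul_mem _ hb' (hGmem a ha (n a) le_rfl), ?_⟩
              rw [map_mul, hb'', hgφ a ha (n a) le_rfl, Polynomial.monomial_mul_monomial,
                Nat.sub_add_cancel (by omega : n a ≤ k)]
          · refine ⟨0, Subalgebra.zero_mem _, ?_⟩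
            rw [hy2 a ha hle, zero_mul, map_zero, map_zero]
        choose! b hb hbφ using hterm
        refine ⟨∑ a ∈ s, b a, Subalgebra.sum_mem _ (fun a ha => hb a ha), ?_⟩
        rw [map_sum, map_sum]
        exact Finset.sum_congr rfl (fun a ha => hbφ a ha)
  have hage : ∀ (i : ℕ) (a : A), a ∈ Natural.age 𝒜 i →
      ∃ c ∈ Algebra.adjoin (ℬ 0) (G : Set B), φ c = Polynomial.monomial i a := by
    intro i a ha
    refine Natural.age_induction 𝒜 (p := fun a => ∃ c ∈ Algebra.adjoin (ℬ 0) (G : Set B),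
      φ c = Polynomial.monomial i a) ⟨0, Subalgebra.zero_mem _, by simp⟩ ?_ ?_ ha
    · rintro x y ⟨c, hc, hc'⟩ ⟨c', hc2, hc2'⟩
      exact ⟨c + c', Subalgebra.add_mem _ hc hc2, by rw [map_add, map_add, hc', hc2']⟩
    · intro m hm x hx
      exact key i m hm x hx
  refine ⟨⟨G, ?_⟩⟩
  rw [eq_top_iff]
  intro b _
  rw [← DirectSum.sum_support_decompose ℬ b]
  apply Subalgebra.sum_mem
  intro i _
  have hbi : (decompose ℬ b i : B) ∈ ℬ i := (decompose ℬ b i).2
  have h : φ (decompose ℬ b i : B) ∈ Submodule.map φ.toLinearMap (ℬ i) := ⟨_, hbi, rfl⟩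
  rw [hdeg i] at h
  obtain ⟨a, ha, ha'⟩ := h
  obtain ⟨c, hc, hc'⟩ := hage i a ha
  have : c = (decompose ℬ b i : B) := by
    apply hφ
    rw [hc', ← ha']
    rfl
  rw [← this]
  exact hc

open Groth.Agent.Lib.Helper42 in
open DirectSum in
/-- `S♮` of finite type over `S♮₀` implies `A` of finite type over `A₀`. -/
lemma finiteType_of_finiteType_natural {R A B : Type u} [CommRing R] [CommRing A] [Algebra R A]
    (𝒜 : ℕ → Submodule R A) [GradedAlgebra 𝒜] [CommRing B] [Algebra R B]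
    (ℬ : ℕ → Submodule R B) [GradedAlgebra ℬ]
    (φ : B →ₐ[R] Polynomial A)
    (hdeg : ∀ n : ℕ, Submodule.map φ.toLinearMap (ℬ n) =
      Submodule.map (Natural.mu R n) (Natural.age 𝒜 n))
    (hB : Algebra.FiniteType (ℬ 0) B) : Algebra.FiniteType (𝒜 0) A := by
  classical
  have hφmem : ∀ n (a : A), a ∈ Natural.age 𝒜 n → ∃ b ∈ ℬ n, φ b = Polynomial.monomial n a := by
    intro n a ha
    have h : Natural.mu R n a ∈ Submodule.map (Natural.mu R n) (Natural.age 𝒜 n) := ⟨a, ha, rfl⟩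
    rw [← hdeg n] at h
    obtain ⟨b, hb, hb'⟩ := h
    exact ⟨b, hb, hb'⟩
  have hφmem' : ∀ n (b : B), b ∈ ℬ n →
      ∃ a ∈ Natural.age 𝒜 n, φ b = Polynomial.monomial n a := by
    intro n b hb
    have h : φ b ∈ Submodule.map φ.toLinearMap (ℬ n) := ⟨b, hb, rfl⟩
    rw [hdeg n] at h
    obtain ⟨a, ha, ha'⟩ := h
    exact ⟨a, ha, ha'.symm⟩
  obtain ⟨t, htadj, ht⟩ := GradedAlgebra.exists_finset_adjoin_eq_top_and_homogeneous_ne_zero ℬ
  choose! d hd0 hd using ht
  have hc : ∀ g ∈ t, ∃ c ∈ Natural.age 𝒜 (d g), φ g = Polynomial.monomial (d g) c :=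
    fun g hg => hφmem' (d g) g (hd g hg)
  choose! c hcmem hcφ using hc
  have hage1 : ∀ a ∈ Natural.age 𝒜 1, a ∈ Ideal.span ((t.image c : Finset A) : Set A) := by
    intro a ha
    obtain ⟨x, hx, hxφ⟩ := hφmem 1 a ha
    have hxs := GradedGen.grade_le_span_of_adjoin_eq_top ℬ (t : Set B)
      (fun g hg => ⟨d g, hd0 g hg, hd g hg⟩) htadj one_ne_zero hx
    obtain ⟨y, hy1, hy2, hxy⟩ := GradedGen.exists_decomp_of_mem_span ℬ t d hd hx hxs
    have hterm : ∀ g ∈ t, ∃ e : A, φ (y g * g) = Polynomial.monomial 1 (e * c g) := by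
      intro g hg
      by_cases hle : d g ≤ 1
      · have hd1 : d g = 1 := by have := hd0 g hg; omega
        have hyg : y g ∈ ℬ 0 := by
          have := hy1 g hg hle
          rwa [hd1] at this
        obtain ⟨e, -, he⟩ := hφmem' 0 (y g) hyg
        refine ⟨e, ?_⟩
        rw [map_mul, he, hcφ g hg, hd1, Polynomial.monomial_mul_monomial]
      · exact ⟨0, by rw [hy2 g hg hle, zero_mul, map_zero, zero_mul, map_zero]⟩
    choose! e he using hterm
    have h1 : Polynomial.monomial 1 a = Polynomial.monomial 1 (∑ g ∈ t, e g * c g) := by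
      rw [← hxφ, hxy, map_sum, map_sum]
      exact Finset.sum_congr rfl he
    have ha_eq := Polynomial.monomial_injective 1 h1
    rw [ha_eq]
    refine Submodule.sum_mem _ (fun g hg => ?_)
    exact Ideal.mul_mem_left _ _
      (Ideal.subset_span (Finset.mem_coe.2 (Finset.mem_image_of_mem c hg)))
  let s : Finset A := (t.image c).biUnion
    (fun c' => (decompose 𝒜 c').support.image (fun i => (decompose 𝒜 c' i : A)))
  have hs : ∀ a ∈ s, ∃ n, n ≠ 0 ∧ a ∈ 𝒜 n := by
    intro a ha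
    obtain ⟨c', hc', ha'⟩ := Finset.mem_biUnion.1 ha
    obtain ⟨i, hi, rfl⟩ := Finset.mem_image.1 ha'
    obtain ⟨g, hg, rfl⟩ := Finset.mem_image.1 hc'
    refine ⟨i, ?_, (decompose 𝒜 (c g) i).2⟩
    rintro rfl
    have h1 : c g ∈ Natural.age 𝒜 1 := by
      have h2 : Natural.age 𝒜 (d g) ≤ Natural.age 𝒜 1 := by
        unfold Natural.age
        exact iSup₂_le (fun m hm => Natural.le_age 𝒜
          (le_trans (Nat.one_le_iff_ne_zero.2 (hd0 g hg)) hm))
      exact h2 (hcmem g hg)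
    have h3 := Natural.proj_of_mem_age_of_lt 𝒜 (Nat.zero_lt_one) h1
    rw [DFinsupp.mem_support_iff] at hi
    exact hi (Subtype.ext h3)
  have hCs : ∀ c' ∈ ((t.image c : Finset A) : Set A), c' ∈ Ideal.span (s : Set A) := by
    intro c' hc'
    rw [← DirectSum.sum_support_decompose 𝒜 c']
    refine Submodule.sum_mem _ (fun i hi => ?_)
    apply Ideal.subset_span
    rw [Finset.mem_coe, Finset.mem_biUnion]
    exact ⟨c', hc', Finset.mem_image_of_mem _ hi⟩
  have hspan : ∀ m : ℕ, m ≠ 0 → ∀ x ∈ 𝒜 m, x ∈ Ideal.span (s : Set A) := by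
    intro m hm x hx
    have h1 : x ∈ Natural.age 𝒜 1 := Natural.le_age 𝒜 (Nat.one_le_iff_ne_zero.2 hm) hx
    exact (Ideal.span_le.2 hCs) (hage1 x h1)
  exact ⟨⟨s, GradedGen.adjoin_eq_top_of_grade_le_span 𝒜 s hs hspan⟩⟩

/-- For a positively graded ring S and the graded ring S♮ with S♮_n = S_{≥ n} = ⊕_{m ≥ n} S_m (presented
here as a graded ring S' with an injective algebra homomorphism φ : S' → S[X] carrying S'_n onto
S_{≥ n}·X^n for every n, so that S'_0 is identified with S): S♮ is of finite type over S♮_0 = S if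
and only if S is of finite type over S_0. -/
theorem result {R A B : Type u} [CommRing R] [CommRing A] [Algebra R A]
    (𝒜 : ℕ → Submodule R A) [GradedAlgebra 𝒜] [CommRing B] [Algebra R B] (ℬ : ℕ → Submodule R B) [GradedAlgebra ℬ]
    (φ : B →ₐ[R] Polynomial A) (hφ : Function.Injective φ)
    (hdeg : ∀ n : ℕ, Submodule.map φ.toLinearMap (ℬ n) =
      Submodule.map ((Polynomial.monomial n : A →ₗ[A] Polynomial A).restrictScalars R) (⨆ (m : ℕ) (_ : n ≤ m), 𝒜 m)) :
    Algebra.FiniteType (ℬ 0) B ↔ Algebra.FiniteType (𝒜 0) A := by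
  exact ⟨fun hB => finiteType_of_finiteType_natural 𝒜 ℬ φ hdeg hB,
    fun hA => finiteType_natural_of_finiteType 𝒜 ℬ φ hφ hdeg hA⟩

end Groth.Agent.S8275
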