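import Groth.Statements.S8276
import Groth.Agent.S8275
import Mathlib.RingTheory.GradedAlgebra.Noetherian
import Mathlib.RingTheory.Polynomial.Basic
-- import your own Groth.Agent.* helpers here

set_option autoImplicit false
universe u
open EGA2

namespace Groth.Agent.S8276

/-- For a positively graded ring S and the graded ring S♮ with S♮_n = S_{≥ n} = ⊕_{m ≥ n} S_m (presented
here as a graded ring S' with an injective algebra homomorphism φ : S' → S[X] carrying S'_n onto
S_{≥ n}·X^n for every n, so that S'_0 is identified with S): S♮ is Noetherian if and only if S is. -/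
theorem result {R A B : Type u} [CommRing R] [CommRing A] [Algebra R A]
    (𝒜 : ℕ → Submodule R A) [GradedAlgebra 𝒜] [CommRing B] [Algebra R B] (ℬ : ℕ → Submodule R B) [GradedAlgebra ℬ]
    (φ : B →ₐ[R] Polynomial A) (hφ : Function.Injective φ)
    (hdeg : ∀ n : ℕ, Submodule.map φ.toLinearMap (ℬ n) =
      Submodule.map ((Polynomial.monomial n : A →ₗ[A] Polynomial A).restrictScalars R) (⨆ (m : ℕ) (_ : n ≤ m), 𝒜 m)) :
    IsNoetherianRing B ↔ IsNoetherianRing A := by
  classical
  have hdeg' : ∀ n : ℕ, Submodule.map φ.toLinearMap (ℬ n) =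
      Submodule.map (Groth.Agent.Lib.Helper42.Natural.mu R n)
        (Groth.Agent.Lib.Helper42.Natural.age 𝒜 n) := hdeg
  -- the ring hom `ℬ 0 → A`
  let ψ : (ℬ 0) →+* A :=
    (Polynomial.constantCoeff).comp ((φ : B →+* Polynomial A).comp (algebraMap (ℬ 0) B))
  have hψ : ∀ b : ℬ 0, ψ b = (φ (b : B)).coeff 0 := fun b => rfl
  have hage0 : ∀ a : A, a ∈ Groth.Agent.Lib.Helper42.Natural.age 𝒜 0 := by
    intro a
    rw [Groth.Agent.Lib.Helper42.Natural.mem_age_iff]
    intro i hi
    exact absurd hi (Nat.not_lt_zero i)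
  have hsurj : Function.Surjective ψ := by
    intro a
    have h : Groth.Agent.Lib.Helper42.Natural.mu R 0 a ∈
        Submodule.map (Groth.Agent.Lib.Helper42.Natural.mu R 0)
          (Groth.Agent.Lib.Helper42.Natural.age 𝒜 0) := ⟨a, hage0 a, rfl⟩
    rw [← hdeg' 0] at h
    obtain ⟨b, hb, hb'⟩ := h
    refine ⟨⟨b, hb⟩, ?_⟩
    rw [hψ]
    have : φ b = Polynomial.monomial 0 a := hb'
    rw [this, Polynomial.coeff_monomial, if_pos rfl]
  have hinj : Function.Injective ψ := by
    rw [injective_iff_map_eq_zero]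
    intro b hb
    have h : φ (b : B) ∈ Submodule.map φ.toLinearMap (ℬ 0) := ⟨b, b.2, rfl⟩
    rw [hdeg' 0] at h
    obtain ⟨a, -, ha⟩ := h
    have ha' : Polynomial.monomial 0 a = φ (b : B) := ha
    rw [hψ, ← ha', Polynomial.coeff_monomial, if_pos rfl] at hb
    rw [hb, map_zero] at ha'
    have : (b : B) = 0 := hφ (by rw [← ha', map_zero])
    exact Subtype.ext this
  constructor
  · intro hB
    exact isNoetherianRing_of_surjective (ℬ 0) A ψ hsurj
  · intro hA
    have hft : Algebra.FiniteType (𝒜 0) A :=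
      Groth.Agent.Lib.Helper42.GradedGen.finiteType_of_isNoetherianRing 𝒜
    have hftB : Algebra.FiniteType (ℬ 0) B :=
      (Groth.Agent.S8275.result 𝒜 ℬ φ hφ hdeg).2 hft
    have hN0 : IsNoetherianRing (ℬ 0) :=
      isNoetherianRing_of_ringEquiv A (RingEquiv.ofBijective ψ ⟨hinj, hsurj⟩).symm
    exact Algebra.FiniteType.isNoetherianRing (ℬ 0) B

end Groth.Agent.S8276
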