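import Groth.Statements.S8277
import Groth.Agent.Lib.Helper42.Natural
-- import your own Groth.Agent.* helpers here

set_option autoImplicit false
universe u
open EGA2

namespace Groth.Agent.S8277

/-- For a positively graded ring S, the graded ring S♮ with S♮_n = S_{≥ n} = ⊕_{m ≥ n} S_m (presented
here as a graded ring S' with an injective algebra homomorphism φ : S' → S[X] carrying S'_n onto
S_{≥ n}·X^n for every n, so that S'_0 is identified with S), and n₀ ≥ 0: S♮_{n+1} = S♮_1 S♮_n for n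
≥ n₀ if and only if S_{n+1} = S_1 S_n for n ≥ n₀. -/
theorem result {R A B : Type u} [CommRing R] [CommRing A] [Algebra R A]
    (𝒜 : ℕ → Submodule R A) [GradedAlgebra 𝒜] [CommRing B] [Algebra R B] (ℬ : ℕ → Submodule R B) [GradedAlgebra ℬ]
    (φ : B →ₐ[R] Polynomial A) (hφ : Function.Injective φ)
    (hdeg : ∀ n : ℕ, Submodule.map φ.toLinearMap (ℬ n) =
      Submodule.map ((Polynomial.monomial n : A →ₗ[A] Polynomial A).restrictScalars R) (⨆ (m : ℕ) (_ : n ≤ m), 𝒜 m)) (n₀ : ℕ) :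
    (∀ n : ℕ, n₀ ≤ n → ℬ (n + 1) = ℬ 1 * ℬ n) ↔ (∀ n : ℕ, n₀ ≤ n → 𝒜 (n + 1) = 𝒜 1 * 𝒜 n) := by
  have hdeg' : ∀ n : ℕ, Submodule.map φ.toLinearMap (ℬ n) =
      Submodule.map (Groth.Agent.Lib.Helper42.Natural.mu R n) (Groth.Agent.Lib.Helper42.Natural.age 𝒜 n) := hdeg
  have hT : ∀ n, ℬ (n + 1) = ℬ 1 * ℬ n ↔
      Groth.Agent.Lib.Helper42.Natural.age 𝒜 (n + 1) = Groth.Agent.Lib.Helper42.Natural.age 𝒜 1 * Groth.Agent.Lib.Helper42.Natural.age 𝒜 n :=
    fun n => Groth.Agent.Lib.Helper42.Natural.eq_mul_iff 𝒜 ℬ φ hφ hdeg' (n + 1) 1 n (add_comm n 1)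
  simp only [hT]
  constructor
  · intro h n hn
    apply le_antisymm
    · intro x hx
      have hx' : x ∈ Groth.Agent.Lib.Helper42.Natural.age 𝒜 1 * Groth.Agent.Lib.Helper42.Natural.age 𝒜 n := by
        rw [← h n hn]
        exact Groth.Agent.Lib.Helper42.Natural.grade_le_age 𝒜 (n + 1) hx
      have := Groth.Agent.Lib.Helper42.Natural.proj_mem_mul_of_mem_age_mul 𝒜 hx'
      rwa [add_comm 1 n, DirectSum.decompose_of_mem_same 𝒜 hx] at this
    · rw [Submodule.mul_le]
      intro a ha b hb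
      rw [add_comm n 1]
      exact SetLike.GradedMul.mul_mem ha hb
  · intro h n hn
    apply le_antisymm
    · unfold Groth.Agent.Lib.Helper42.Natural.age
      apply iSup₂_le
      intro m hm
      obtain ⟨m', rfl⟩ : ∃ m', m = m' + 1 := ⟨m - 1, by omega⟩
      rw [h m' (by omega)]
      exact mul_le_mul' (Groth.Agent.Lib.Helper42.Natural.grade_le_age 𝒜 1) (Groth.Agent.Lib.Helper42.Natural.le_age 𝒜 (by omega))
    · have := Groth.Agent.Lib.Helper42.Natural.age_mul_le 𝒜 1 n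
      rwa [add_comm 1 n] at this

end Groth.Agent.S8277
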