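import Groth.Statements.S8278
import Groth.Agent.Lib.Helper42.Natural
-- import your own Groth.Agent.* helpers here

set_option autoImplicit false
universe u
open EGA2

namespace Groth.Agent.S8278

/-- For a positively graded ring S, the graded ring S♮ with S♮_n = S_{≥ n} = ⊕_{m ≥ n} S_m (presented
here as a graded ring S' with an injective algebra homomorphism φ : S' → S[X] carrying S'_n onto
S_{≥ n}·X^n for every n, so that S'_0 is identified with S), and n₀ ≥ 1: S♮_n = (S♮_1)^n for n ≥ n₀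
if and only if S_n = (S_1)^n for n ≥ n₀. (n₀ ≥ 1 because the zeroth power of a submodule is the span
of 1, not the degree-zero part.) -/
theorem result {R A B : Type u} [CommRing R] [CommRing A] [Algebra R A]
    (𝒜 : ℕ → Submodule R A) [GradedAlgebra 𝒜] [CommRing B] [Algebra R B] (ℬ : ℕ → Submodule R B) [GradedAlgebra ℬ]
    (φ : B →ₐ[R] Polynomial A) (hφ : Function.Injective φ)
    (hdeg : ∀ n : ℕ, Submodule.map φ.toLinearMap (ℬ n) =
      Submodule.map ((Polynomial.monomial n : A →ₗ[A] Polynomial A).restrictScalars R) (⨆ (m : ℕ) (_ : n ≤ m), 𝒜 m)) (n₀ : ℕ) (hn₀ : 1 ≤ n₀) :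
    (∀ n : ℕ, n₀ ≤ n → ℬ n = ℬ 1 ^ n) ↔ (∀ n : ℕ, n₀ ≤ n → 𝒜 n = 𝒜 1 ^ n) := by
  have hdeg' : ∀ n : ℕ, Submodule.map φ.toLinearMap (ℬ n) =
      Submodule.map (Groth.Agent.Lib.Helper42.Natural.mu R n)
        (Groth.Agent.Lib.Helper42.Natural.age 𝒜 n) := hdeg
  have hT : ∀ n, ℬ n = ℬ 1 ^ n ↔
      Groth.Agent.Lib.Helper42.Natural.age 𝒜 n = Groth.Agent.Lib.Helper42.Natural.age 𝒜 1 ^ n :=
    fun n => Groth.Agent.Lib.Helper42.Natural.eq_pow_iff 𝒜 ℬ φ hφ hdeg' n
  simp only [hT]
  have hmono : ∀ j : ℕ, 𝒜 1 ^ j ≤ Groth.Agent.Lib.Helper42.Natural.age 𝒜 1 ^ j := by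
    intro j
    induction j with
    | zero => simp
    | succ j ih =>
      rw [pow_succ, pow_succ]
      exact mul_le_mul' ih (Groth.Agent.Lib.Helper42.Natural.grade_le_age 𝒜 1)
  constructor
  · intro h n hn
    apply le_antisymm _ (Groth.Agent.Lib.Helper42.Natural.pow_le_grade 𝒜 n)
    -- degree `n` part of `(age 1)^n`
    have key : ∀ (n : ℕ) (y : A), y ∈ Groth.Agent.Lib.Helper42.Natural.age 𝒜 1 ^ n →
        (DirectSum.decompose 𝒜 y n : A) ∈ 𝒜 1 ^ n := by
      intro n
      induction n with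
      | zero =>
        intro y hy
        rw [pow_zero, Submodule.one_eq_range] at hy
        obtain ⟨r, rfl⟩ := hy
        have hr : (Algebra.linearMap R A) r ∈ 𝒜 0 := SetLike.algebraMap_mem_graded 𝒜 r
        rw [DirectSum.decompose_of_mem_same 𝒜 hr, pow_zero, Submodule.one_eq_range]
        exact ⟨r, rfl⟩
      | succ n ih =>
        intro y hy
        rw [pow_succ] at hy
        refine Submodule.mul_induction_on
          (C := fun y => (DirectSum.decompose 𝒜 y (n + 1) : A) ∈ 𝒜 1 ^ (n + 1)) hy ?_ ?_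
        · intro u hu v hv
          rw [Groth.Agent.Lib.Helper42.Natural.proj_mul_of_mem_age 𝒜
            (Groth.Agent.Lib.Helper42.Natural.age_pow_le 𝒜 n hu) hv, pow_succ]
          exact Submodule.mul_mem_mul (ih u hu) (Groth.Agent.Lib.Helper42.Natural.proj_mem 𝒜 1 v)
        · intro x y hx hy
          rw [DirectSum.decompose_add, DirectSum.add_apply, Submodule.coe_add]
          exact Submodule.add_mem _ hx hy
    intro x hx
    have hx' : x ∈ Groth.Agent.Lib.Helper42.Natural.age 𝒜 1 ^ n := by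
      rw [← h n hn]
      exact Groth.Agent.Lib.Helper42.Natural.grade_le_age 𝒜 n hx
    have := key n x hx'
    rwa [DirectSum.decompose_of_mem_same 𝒜 hx] at this
  · intro h n hn
    apply le_antisymm _ (Groth.Agent.Lib.Helper42.Natural.age_pow_le 𝒜 n)
    unfold Groth.Agent.Lib.Helper42.Natural.age
    apply iSup₂_le
    intro m hm
    have hn1 : 1 ≤ n := hn₀.trans hn
    rw [h m (hn.trans hm)]
    have hsplit : m = (n - 1) + (m - n + 1) := by omega
    calc 𝒜 1 ^ m = 𝒜 1 ^ (n - 1) * 𝒜 1 ^ (m - n + 1) := by rw [← pow_add, ← hsplit]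
      _ ≤ Groth.Agent.Lib.Helper42.Natural.age 𝒜 1 ^ (n - 1) *
          Groth.Agent.Lib.Helper42.Natural.age 𝒜 1 := by
        apply mul_le_mul' (hmono _)
        exact le_trans (Groth.Agent.Lib.Helper42.Natural.pow_le_grade 𝒜 _)
          (Groth.Agent.Lib.Helper42.Natural.le_age 𝒜 (by omega))
      _ = Groth.Agent.Lib.Helper42.Natural.age 𝒜 1 ^ n := by
        rw [← pow_succ]
        congr 1
        omega

end Groth.Agent.S8278
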