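import Groth.Statements.S8280
-- import your own Groth.Agent.* helpers here

set_option autoImplicit false
universe u
open CategoryTheory CategoryTheory.Limits AlgebraicGeometry Opposite TopologicalSpace
open scoped HomogeneousIdeal
open EGA2

namespace Groth.Agent.S8280

/-- Let (f_α) be global sections of the quasi-coherent positively graded O_Y-algebra 𝒮, homogeneous of
positive degrees, such that the ideal they generate contains all 𝒮_n from some degree on
(affine-locally). Then the opens X_{f_α} of Proj(𝒮) (characterised chartwise by the basic opens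
D_+(f_α|U)) cover Proj(𝒮). (The published hypothesis fixes one degree, valid over all of Y, from
which on the f_α generate; this row asks for such a degree over each affine open separately, which
is all the proof, carried out one affine open at a time, uses.) -/
theorem result {Y P : Scheme.{u}} (𝒮 : RelProj.QCGrAlg Y) (p : P ⟶ Y)
    (chart : ∀ (U : Y.Opens) (hU : IsAffineOpen U), (((p ⁻¹ᵁ U : P.Opens) : Scheme.{u}) ≅ Proj (𝒮.deg U hU)))
    (hP : RelProj.IsRelProj 𝒮 p chart) {ι : Type u} (d : ι → ℕ) (hd : ∀ a, 0 < d a)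
    (f : ι → 𝒮.presheaf.obj (op ⊤))
    (hf : ∀ (a : ι) (U : Y.Opens) (hU : IsAffineOpen U), (𝒮.presheaf.map (homOfLE le_top).op).hom (f a) ∈ 𝒮.deg U hU (d a))
    (hgen : ∀ (U : Y.Opens) (hU : IsAffineOpen U), ∃ n₀ : ℕ, ∀ n, n₀ ≤ n →
      (𝒮.deg U hU n : Set (𝒮.presheaf.obj (op U))) ⊆
        (Ideal.span (Set.range fun a => (𝒮.presheaf.map (homOfLE (le_top : U ≤ ⊤)).op).hom (f a)) :
          Set (𝒮.presheaf.obj (op U))))
    (X : ι → P.Opens)
    (hX : ∀ (a : ι) (U : Y.Opens) (hU : IsAffineOpen U),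
      X a ⊓ p ⁻¹ᵁ U =
        (p ⁻¹ᵁ U).ι ''ᵁ ((chart U hU).hom ⁻¹ᵁ
          Proj.basicOpen (𝒮.deg U hU) ((𝒮.presheaf.map (homOfLE le_top).op).hom (f a)))) :
    ⨆ a, X a = ⊤ := by
  classical
  rw [eq_top_iff]
  rintro x -
  obtain ⟨U, hU, hxU, -⟩ := TopologicalSpace.Opens.isBasis_iff_nbhd.mp Y.isBasis_affineOpens
    (show p x ∈ (⊤ : Y.Opens) from trivial)
  have hU' : IsAffineOpen U := hU
  let x' : ↥(p ⁻¹ᵁ U) := ⟨x, hxU⟩
  let z : Proj (𝒮.deg U hU') := (chart U hU').hom x'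
  obtain ⟨n₀, hn₀⟩ := hgen U hU'
  have hex : ∃ a, (𝒮.presheaf.map (homOfLE (le_top : U ≤ ⊤)).op).hom (f a) ∉ z.asHomogeneousIdeal := by
    by_contra hcon0
    have hcon : ∀ a, (𝒮.presheaf.map (homOfLE (le_top : U ≤ ⊤)).op).hom (f a) ∈ z.asHomogeneousIdeal :=
      fun a => Classical.byContradiction (fun h => hcon0 ⟨a, h⟩)
    have hspan : Ideal.span (Set.range fun a =>
        (𝒮.presheaf.map (homOfLE (le_top : U ≤ ⊤)).op).hom (f a)) ≤ z.asHomogeneousIdeal.toIdeal := by
      rw [Ideal.span_le]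
      rintro _ ⟨a, rfl⟩
      exact hcon a
    apply z.not_irrelevant_le
    rw [HomogeneousIdeal.irrelevant_le]
    intro i hi b hb
    change b ∈ z.asHomogeneousIdeal.toIdeal
    have hb' : b ∈ 𝒮.deg U hU' i := hb
    have hpow : b ^ n₀ ∈ 𝒮.deg U hU' (n₀ • i) := SetLike.pow_mem_graded n₀ hb'
    have hle : n₀ ≤ n₀ • i := by
      rw [smul_eq_mul]
      exact Nat.le_mul_of_pos_right n₀ hi
    exact z.isPrime.mem_of_pow_mem n₀ (hspan (hn₀ _ hle hpow))
  obtain ⟨a, ha⟩ := hex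
  refine TopologicalSpace.Opens.mem_iSup.2 ⟨a, ?_⟩
  have hmem : x ∈ X a ⊓ p ⁻¹ᵁ U := by
    rw [hX a U hU']
    refine ⟨x', ?_, rfl⟩
    exact ha
  exact hmem.1

end Groth.Agent.S8280
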