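import Groth.Statements.S8282
import Groth.Agent.Lib.Helper42.GenDegOne
import Groth.Agent.Lib.Helper42.ProjDomIsoConv
-- import your own Groth.Agent.* helpers here

set_option autoImplicit false
universe u
open CategoryTheory CategoryTheory.Limits AlgebraicGeometry
open EGA2

namespace Groth.Agent.S8282

/-- Let T be a positively graded ring which is a T_0-algebra of finite type, and T' = ⊕_n T_1^n → T the
injective graded homomorphism from the subalgebra generated by T_1 (T' presented as a graded ring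
with φ : T' → T injective, bijective in degrees 0 and 1, and T'_n = (T'_1)^n for n ≥ 1). If the
morphism of homogeneous spectra induced by φ is everywhere defined (its domain G(φ) is the whole of
Proj T) and is an isomorphism onto Proj T', then there is n₀ with T_n = T_1^n for all n ≥ n₀. -/
theorem result {R A B : Type u} [CommRing R] [CommRing A] [Algebra R A]
    (𝒜 : ℕ → Submodule R A) [GradedAlgebra 𝒜] [CommRing B] [Algebra R B] (ℬ : ℕ → Submodule R B) [GradedAlgebra ℬ]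
    [Algebra.FiniteType (ℬ 0) B] (φ : 𝒜 →+*ᵍ ℬ) (hφ : Function.Injective φ)
    (h0 : Set.BijOn φ (𝒜 0) (ℬ 0)) (h1 : Set.BijOn φ (𝒜 1) (ℬ 1))
    (hgen : ∀ n : ℕ, 1 ≤ n → 𝒜 n = 𝒜 1 ^ n)
    (hdom : PCone.dom φ = ⊤)
    (p : (PCone.dom φ : Scheme.{u}) ⟶ Proj 𝒜)
    (hp : ∀ (d : ℕ) (f : A) (hd : 0 < d) (hf : f ∈ 𝒜 d),
      PCone.chart φ hf hd ≫ p =
        Spec.map (CommRingCat.ofHom (HomogeneousLocalization.Away.map φ f)) ≫ Proj.awayι 𝒜 f hf hd)
    [IsIso p] :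
    ∃ n₀ : ℕ, ∀ n : ℕ, n₀ ≤ n → ℬ n = ℬ 1 ^ n := by
  classical
  obtain ⟨G, hG⟩ := (Algebra.FiniteType.out : (⊤ : Subalgebra (ℬ 0) B).FG)
  have hbij : ∀ {d : ℕ} {f : A} (hf : f ∈ 𝒜 d) (hd : 0 < d),
      Function.Bijective (HomogeneousLocalization.Away.map φ f) := fun hf hd =>
    Groth.Agent.Lib.Helper42.ProjDom.away_map_bijective_of_isIso φ (PCone.dom φ)
      (fun hf hd => PCone.range_awayι_subset φ hf hd)
      (fun x hx => by
        obtain ⟨⟨f, d, hd, hf⟩, hxf⟩ := TopologicalSpace.Opens.mem_iSup.mp hx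
        exact ⟨d, f, hf, hd, hxf⟩)
      p (fun d f hd hf => hp d f hd hf) hf hd
  refine Groth.Agent.Lib.Helper42.GenDegOne.eventually_eq_pow 𝒜 ℬ φ hφ h0 h1 hgen G hG
    (fun f hf => (hbij hf Nat.one_pos).2) ?_
  intro q hqp hqh hle
  by_contra hnot
  let x : ProjectiveSpectrum ℬ := ⟨⟨q, hqh⟩, hqp, fun h => hnot (fun a ha => h ha)⟩
  have hx : (x : Proj ℬ) ∈ PCone.dom φ := by rw [hdom]; trivial
  obtain ⟨⟨f, d, hd, hf⟩, hxf⟩ := TopologicalSpace.Opens.mem_iSup.mp hx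
  have hxf' : φ f ∉ q := (Proj.mem_basicOpen ℬ (φ f) x).mp hxf
  apply hxf'
  have h2 : f ∈ 𝒜 1 ^ d := by rw [← hgen d hd]; exact hf
  have h3 : φ f ∈ ℬ 1 ^ d := Groth.Agent.Lib.Helper42.GenDegOne.map_mem_pow 𝒜 ℬ φ hd h2
  have h4 : φ f ∈ (Ideal.span (ℬ 1 : Set B)) ^ d :=
    Groth.Agent.Lib.Helper42.GenDegOne.mem_span_pow ℬ h3
  exact hle (Ideal.pow_le_self (by omega) h4)

end Groth.Agent.S8282
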