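import Groth.Statements.S8283
-- import your own Groth.Agent.* helpers here
import Mathlib
import Groth.Agent.S9501
import Groth.Agent.Lib.Helper91.ClosedImmStalk

set_option autoImplicit false
universe u
open CategoryTheory CategoryTheory.Limits AlgebraicGeometry Opposite TopologicalSpace
open EGA2

namespace Groth.Agent.S8283

open CategoryTheory CategoryTheory.Limits AlgebraicGeometry Opposite TopologicalSpace
open EGA2
open IsLocalRing

/-- A noetherian local ring whose maximal ideal is generated by a nonzerodivisor is a DVR. -/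
theorem isDVR_of_maximalIdeal_eq_span {C : Type u} [CommRing C] [IsLocalRing C] [IsNoetherianRing C]
    (s : C) (hs : maximalIdeal C = Ideal.span {s}) (hreg : s ∈ nonZeroDivisors C) :
    ∃ _ : IsDomain C, IsDiscreteValuationRing C := by
  have hs0 : ∀ n : ℕ, s ^ n ≠ 0 := fun n h =>
    zero_notMem_nonZeroDivisors (h ▸ pow_mem hreg n)
  have hpow : ∀ n : ℕ, maximalIdeal C ^ n = Ideal.span {s ^ n} := fun n => by
    rw [hs, Ideal.span_singleton_pow]
  have hkrull : ⨅ i, maximalIdeal C ^ i = ⊥ :=
    Ideal.iInf_pow_eq_bot_of_isLocalRing _ Ideal.IsPrime.ne_top'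
  have hfac : ∀ c : C, c ≠ 0 → ∃ (k : ℕ) (u : C), IsUnit u ∧ c = s ^ k * u := by
    intro c hc
    have hex : ∃ n, c ∉ maximalIdeal C ^ n := by
      by_contra hcon
      push_neg at hcon
      have : c ∈ ⨅ i, maximalIdeal C ^ i := by
        simpa [Ideal.mem_iInf] using hcon
      rw [hkrull] at this
      exact hc this
    classical
    obtain ⟨n, hn, hmin⟩ : ∃ n, c ∉ maximalIdeal C ^ n ∧ ∀ m < n, ¬ c ∉ maximalIdeal C ^ m :=
      ⟨Nat.find hex, Nat.find_spec hex, fun m => Nat.find_min hex (m := m)⟩
    have hn0 : n ≠ 0 := by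
      intro h0
      rw [h0, pow_zero] at hn
      exact hn (by simp)
    obtain ⟨k, rfl⟩ : ∃ k, n = k + 1 := Nat.exists_eq_succ_of_ne_zero hn0
    have hk : c ∈ maximalIdeal C ^ k := by
      have := hmin k (Nat.lt_succ_self k)
      simpa using this
    rw [hpow, Ideal.mem_span_singleton'] at hk
    obtain ⟨u, rfl⟩ := hk
    refine ⟨k, u, ?_, mul_comm _ _⟩
    by_contra hu
    have hum : u ∈ maximalIdeal C := hu
    rw [hs, Ideal.mem_span_singleton'] at hum
    obtain ⟨w, rfl⟩ := hum
    apply hn
    rw [hpow, Ideal.mem_span_singleton']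
    exact ⟨w, by ring⟩
  have hdom : IsDomain C := by
    haveI : NoZeroDivisors C := by
      refine ⟨fun {c d} hcd => ?_⟩
      by_contra hcon
      push_neg at hcon
      obtain ⟨k, u, hu, rfl⟩ := hfac c hcon.1
      obtain ⟨l, u', hu', rfl⟩ := hfac d hcon.2
      have h1 : s ^ (k + l) * (u * u') = 0 := by rw [← hcd]; ring
      have h2 : s ^ (k + l) = 0 := by
        exact (hu.mul hu').mul_left_eq_zero.mp h1
      exact hs0 _ h2
    exact NoZeroDivisors.to_isDomain C
  refine ⟨hdom, ?_⟩
  have hnf : ¬ IsField C := by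
    rw [IsLocalRing.isField_iff_maximalIdeal_eq, hs]
    intro h
    rw [Ideal.span_singleton_eq_bot] at h
    exact hs0 1 (by simpa using h)
  have hp : (maximalIdeal C).IsPrincipal := ⟨⟨s, hs⟩⟩
  exact ((IsDiscreteValuationRing.TFAE C hnf).out 0 4).mpr hp

/-- the algebraic core: `B` local with a retraction `σ` onto (a copy of) `A'` whose kernel is
generated by a nonzerodivisor `t`; then `B / m_{A'} B`, if noetherian, is a DVR. -/
theorem alg {A' A B C : Type u} [CommRing A'] [CommRing A] [CommRing B] [CommRing C]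
    [IsLocalRing A'] [IsLocalRing B] [IsLocalRing C] [IsNoetherianRing C]
    (ρ : A' →+* B) [IsLocalHom ρ] (σ : B →+* A) (t : B) (ht : t ∈ nonZeroDivisors B)
    (hker : RingHom.ker σ = Ideal.span {t})
    (hbij : Function.Bijective (σ.comp ρ)) (τ : B →+* C) (hτ : Function.Surjective τ)
    (hkτ : RingHom.ker τ = Ideal.map ρ (maximalIdeal A')) :
    ∃ _ : IsDomain C, IsDiscreteValuationRing C := by
  haveI : Nontrivial A := Function.Injective.nontrivial hbij.injective
  have hσt : σ t = 0 := by
    rw [← RingHom.mem_ker, hker]; exact Ideal.mem_span_singleton_self t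
  have ht_nu : ¬ IsUnit t := by
    intro h
    have := h.map σ
    rw [hσt] at this
    exact not_isUnit_zero this
  have htm : t ∈ maximalIdeal B := ht_nu
  have hdec : ∀ b : B, ∃ a' : A', ∃ b' : B, b = ρ a' + t * b' := by
    intro b
    obtain ⟨a', ha'⟩ := hbij.surjective (σ b)
    have : b - ρ a' ∈ RingHom.ker σ := by
      rw [RingHom.mem_ker, map_sub, ← ha']; simp
    rw [hker, Ideal.mem_span_singleton'] at this
    obtain ⟨b', hb'⟩ := this
    exact ⟨a', b', by rw [mul_comm, hb']; ring⟩
  obtain ⟨I, hI⟩ : ∃ I, I = Ideal.map ρ (maximalIdeal A') := ⟨_, rfl⟩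
  rw [← hI] at hkτ
  have hIle : I ≤ maximalIdeal B := hI ▸ map_maximalIdeal_le ρ
  have hform : ∀ x ∈ I, ∃ a ∈ maximalIdeal A', ∃ z ∈ I, x = ρ a + t * z := by
    intro x hx
    rw [hI, Ideal.map] at hx
    induction hx using Submodule.span_induction with
    | mem x hx =>
      obtain ⟨a, ha, rfl⟩ := hx
      exact ⟨a, ha, 0, I.zero_mem, by simp⟩
    | zero => exact ⟨0, Ideal.zero_mem _, 0, I.zero_mem, by simp⟩
    | add x y _ _ hx hy =>
      obtain ⟨a, ha, z, hz, rfl⟩ := hx
      obtain ⟨a2, ha2, z2, hz2, rfl⟩ := hy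
      exact ⟨a + a2, Ideal.add_mem _ ha ha2, z + z2, I.add_mem hz hz2, by rw [map_add]; ring⟩
    | smul b x _ hx =>
      obtain ⟨a, ha, z, hz, rfl⟩ := hx
      obtain ⟨a2, b2, rfl⟩ := hdec b
      refine ⟨a2 * a, Ideal.mul_mem_left _ _ ha, b2 * ρ a + (ρ a2 + t * b2) * z, ?_, ?_⟩
      · refine I.add_mem (I.mul_mem_left _ ?_) (I.mul_mem_left _ hz)
        rw [hI]; exact Ideal.mem_map_of_mem _ ha
      · rw [map_mul, smul_eq_mul]; ring
  have hkey : ∀ b : B, t * b ∈ I → b ∈ I := by
    intro b hb
    obtain ⟨a, ha, z, hz, e⟩ := hform _ hb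
    have h0 : σ (ρ a) = 0 := by
      have := congrArg σ e
      rw [map_mul, map_add, map_mul, hσt, zero_mul, zero_mul, add_zero] at this
      exact this.symm
    have ha0 : a = 0 := hbij.injective (by simpa using h0)
    rw [ha0, map_zero, zero_add] at e
    have : (b - z) * t = 0 := by rw [sub_mul, mul_comm b, mul_comm z, e, sub_self]
    have := (mem_nonZeroDivisors_iff.mp ht).2 _ this
    rw [sub_eq_zero] at this
    exact this ▸ hz
  have hτI : ∀ b, τ b = 0 ↔ b ∈ I := fun b => by rw [← hkτ, RingHom.mem_ker]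
  have hreg : τ t ∈ nonZeroDivisors C := by
    rw [mem_nonZeroDivisors_iff_right]
    intro c hc
    obtain ⟨b, rfl⟩ := hτ c
    rw [← map_mul, hτI, mul_comm] at hc
    exact (hτI b).mpr (hkey b hc)
  have hmax : maximalIdeal C = Ideal.span {τ t} := by
    apply le_antisymm
    · intro c hc
      obtain ⟨b, rfl⟩ := hτ c
      have hb : b ∈ maximalIdeal B := fun hu => hc (hu.map τ)
      obtain ⟨a', b', rfl⟩ := hdec b
      have ha' : a' ∈ maximalIdeal A' := by
        intro hu
        have h1 : IsUnit (ρ a') := hu.map ρ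
        have h2 : ρ a' ∈ maximalIdeal B := by
          have : ρ a' = (ρ a' + t * b') - t * b' := by ring
          rw [this]
          exact Ideal.sub_mem _ hb (Ideal.mul_mem_right _ _ htm)
        exact h2 h1
      have h3 : τ (ρ a') = 0 := (hτI _).mpr (hI ▸ Ideal.mem_map_of_mem _ ha')
      rw [map_add, h3, zero_add, map_mul]
      exact Ideal.mul_mem_right _ _ (Ideal.mem_span_singleton_self _)
    · rw [Ideal.span_singleton_le_iff_mem]
      intro hu
      obtain ⟨c, hc⟩ := hu.exists_right_inv
      obtain ⟨b, rfl⟩ := hτ c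
      have h1 : t * b - 1 ∈ I := by
        rw [← hτI, map_sub, map_mul, hc, map_one, sub_self]
      have h2 : (1 : B) ∈ maximalIdeal B := by
        have : (1 : B) = t * b - (t * b - 1) := by ring
        rw [this]
        exact Ideal.sub_mem _ (Ideal.mul_mem_right _ _ htm) (hIle h1)
      exact h2 isUnit_one
  exact isDVR_of_maximalIdeal_eq_span (τ t) hmax hreg


lemma bijective_stalkMap_of_eq_id {X : Scheme.{u}} (h : X ⟶ X) (e : h = 𝟙 X) (x : X) :
    Function.Bijective (h.stalkMap x).hom := by
  subst e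
  exact ConcreteCategory.bijective_of_isIso _

lemma local_data {X V : Scheme.{u}} (π : V ⟶ X) (j : X ⟶ V) [IsClosedImmersion j]
    (hj : j ≫ π = 𝟙 X) (hJ : BlowUp.IsEffCartierIdeal j.ker) (x : X) (w : V) (hw : w = j x) :
    ∃ (σ : V.presheaf.stalk w →+* X.presheaf.stalk x) (t : V.presheaf.stalk w),
      t ∈ nonZeroDivisors (V.presheaf.stalk w) ∧ RingHom.ker σ = Ideal.span {t} ∧
      Function.Bijective (σ.comp (π.stalkMap w).hom) := by
  subst hw
  obtain ⟨U, hxU, f, hf, hI⟩ := hJ (j x)
  refine ⟨(j.stalkMap x).hom, (V.presheaf.germ U.1 (j x) hxU).hom f, ?_, ?_, ?_⟩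
  · letI : Algebra Γ(V, U.1) (V.presheaf.stalk (j x)) :=
      TopCat.Presheaf.algebra_section_stalk V.presheaf ⟨j x, hxU⟩
    haveI := U.2.isLocalization_stalk ⟨_, hxU⟩
    exact IsLocalization.map_nonZeroDivisors_le (U.2.primeIdealOf ⟨j x, hxU⟩).asIdeal.primeCompl _
      (Submonoid.mem_map_of_mem _ hf)
  · rw [Groth.Agent.Lib.Helper91.ClosedImmStalk.ker_stalkMap j U x hxU, hI, Ideal.map_span,
      Set.image_singleton]
  · have := bijective_stalkMap_of_eq_id (j ≫ π) hj x
    rw [Scheme.Hom.stalkMap_comp] at this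
    exact this

/-- Let π : V → X be locally of finite type and j : X → V a section of π that is a closed immersion with
invertible ideal sheaf. Then for every x ∈ X the local ring at j(x) of the fibre π⁻¹(π(j(x))) =
π⁻¹(x) is a regular local ring of dimension one, i.e. a discrete valuation ring (so j(x) lies on a
single irreducible component of the fibre; the completion of that local ring is then a power-series
ring in one variable over the residue field of x). (The published statement assumes π of finite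
type; this row assumes only that π is locally of finite type, which is all the proof uses: it needs
no more than the Noetherian property of the local rings of the fibre.) -/
theorem result {X V : Scheme.{u}} (π : V ⟶ X) [LocallyOfFiniteType π]
    (j : X ⟶ V) [IsClosedImmersion j] (hj : j ≫ π = 𝟙 X) (hJ : BlowUp.IsEffCartierIdeal j.ker) (x : X) :
    ∃ _ : IsDomain ((π.fiber (π.base (j.base x))).presheaf.stalk (π.asFiber (j.base x))),
      IsDiscreteValuationRing ((π.fiber (π.base (j.base x))).presheaf.stalk (π.asFiber (j.base x))) := by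
  have hy : π.fiberι _ (π.asFiber (j x)) = j x := π.fiberι_asFiber (j x)
  obtain ⟨σ, t, ht, hker, hbij⟩ := local_data π j hj hJ x (π.fiberι _ (π.asFiber (j x))) hy
  obtain ⟨hsurj, hk⟩ := Groth.Agent.S9501.result π (π (j x)) (π.asFiber (j x))
  haveI : LocallyOfFiniteType (π.fiberToSpecResidueField (π (j x))) :=
    MorphismProperty.pullback_snd _ _ inferInstance
  haveI : IsLocallyNoetherian (π.fiber (π (j x))) :=
    LocallyOfFiniteType.isLocallyNoetherian (π.fiberToSpecResidueField (π (j x)))
  exact alg (π.stalkMap (π.fiberι _ (π.asFiber (j x)))).hom σ t ht hker hbij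
    ((π.fiberι _).stalkMap (π.asFiber (j x))).hom hsurj hk

end Groth.Agent.S8283
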