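import Groth.Statements.S8289
import Groth.Agent.Lib.Helper42.ConeImm2
-- import your own Groth.Agent.* helpers here

set_option autoImplicit false
universe u
open CategoryTheory CategoryTheory.Limits AlgebraicGeometry Opposite TopologicalSpace
open scoped HomogeneousIdeal
noncomputable section
open EGA2

namespace Groth.Agent.S8289

/-- The canonical morphism i from the affine cone to the projective cone: let 𝒮 be a quasi-coherent
positively graded O_Y-algebra with 𝒮_0 = O_Y, Ŝ = 𝒮[z] (z of degree one; presented through a graded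
homomorphism ι : 𝒮 → Ŝ and a degree-one global section z with 𝒮(U)[X] → Ŝ(U), X ↦ z, bijective on
affine opens), C = Spec(𝒮) and Ĉ = Proj(Ŝ). There is a unique morphism i : C → Ĉ which, on the chart
Spec 𝒮(U) of C over an affine open U, is Spec of the ring isomorphism Ŝ(U)_(z) ≅ 𝒮(U) (sending x/z^k
to x for x homogeneous of degree k) followed by the inclusion of D_+(z|U) into Proj Ŝ(U) and the
chart of Ĉ; this i is an open immersion, affine, lies over Y, Ĉ is the smallest closed subscheme of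
Ĉ containing its image (its kernel ideal sheaf is zero), and its image is the open Ĉ_z where the
section z does not vanish (characterised chartwise by D_+(z|U)). -/
theorem result {Y PC : Scheme.{u}} (𝒮 Sh : RelProj.QCGrAlg Y)
    (h0 : ∀ (U : Y.Opens) (hU : IsAffineOpen U), Function.Bijective (𝒮.strZero U hU).hom)
    (ι : 𝒮.toQCAlg ⟶ Sh.toQCAlg) (hι : RelProj.IsGradedHom ι) (z : Sh.presheaf.obj (op ⊤))
    (hz : ∀ (U : Y.Opens) (hU : IsAffineOpen U), (Sh.presheaf.map (homOfLE le_top).op).hom z ∈ Sh.deg U hU 1)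
    (hpoly : ∀ (U : Y.Opens) (hU : IsAffineOpen U),
      Function.Bijective (Polynomial.eval₂RingHom (ι.hom.app (op U)).hom ((Sh.presheaf.map (homOfLE le_top).op).hom z)))
    (pC : PC ⟶ Y)
    (chartC : ∀ (U : Y.Opens) (hU : IsAffineOpen U), (((pC ⁻¹ᵁ U : PC.Opens) : Scheme.{u}) ≅ Proj (Sh.deg U hU)))
    (hPC : RelProj.IsRelProj Sh pC chartC)
    (θ : ∀ (U : Y.Opens) (hU : IsAffineOpen U),
      CommRingCat.of (HomogeneousLocalization.Away (Sh.deg U hU) ((Sh.presheaf.map (homOfLE le_top).op).hom z)) ⟶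
        𝒮.presheaf.obj (op U))
    (hθ : ∀ (U : Y.Opens) (hU : IsAffineOpen U)
      (q : HomogeneousLocalization.Away (Sh.deg U hU) ((Sh.presheaf.map (homOfLE le_top).op).hom z))
      (k : ℕ) (x : 𝒮.presheaf.obj (op U)), x ∈ 𝒮.deg U hU k →
        q.val = Localization.mk ((ι.hom.app (op U)).hom x)
          ⟨(Sh.presheaf.map (homOfLE le_top).op).hom z ^ k,
            pow_mem (Submonoid.mem_powers ((Sh.presheaf.map (homOfLE le_top).op).hom z)) k⟩ →
        (θ U hU).hom q = x) :
    (∃! i : 𝒮.toQCAlg.spec ⟶ PC, ∀ (U : Y.Opens) (hU : IsAffineOpen U),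
        𝒮.toQCAlg.ι U hU ≫ i =
          Spec.map (θ U hU) ≫
            Proj.awayι (Sh.deg U hU) ((Sh.presheaf.map (homOfLE le_top).op).hom z) (hz U hU) one_pos ≫
              RelProj.emb pC chartC U hU) ∧
      ∀ i : 𝒮.toQCAlg.spec ⟶ PC, (∀ (U : Y.Opens) (hU : IsAffineOpen U),
        𝒮.toQCAlg.ι U hU ≫ i =
          Spec.map (θ U hU) ≫
            Proj.awayι (Sh.deg U hU) ((Sh.presheaf.map (homOfLE le_top).op).hom z) (hz U hU) one_pos ≫
              RelProj.emb pC chartC U hU) →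
        IsOpenImmersion i ∧ IsAffineHom i ∧ i ≫ pC = 𝒮.toQCAlg.π ∧ i.ker = ⊥ ∧
          ∀ Xz : PC.Opens, (∀ (U : Y.Opens) (hU : IsAffineOpen U),
            Xz ⊓ pC ⁻¹ᵁ U =
              (pC ⁻¹ᵁ U).ι ''ᵁ ((chartC U hU).hom ⁻¹ᵁ
                Proj.basicOpen (Sh.deg U hU) ((Sh.presheaf.map (homOfLE le_top).op).hom z))) →
            Set.range i.base = (Xz : Set PC) := by
  have hzP : RelCone.IsPolyOver 𝒮 Sh ι z := ⟨hι, hz, hpoly⟩
  have hθeq : ∀ (U : Y.Opens) (hU : IsAffineOpen U),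
      θ U hU = CommRingCat.ofHom (hzP.awayZToBase U hU) := by
    intro U hU
    apply CommRingCat.hom_ext
    exact Groth.Agent.Lib.Helper42.PolyGraded.eq_awayZ_of_spec (RelProj.gradedHomAt ι hι U hU)
      (hz U hU) (hpoly U hU) (θ U hU).hom (hθ U hU)
  have hiff : ∀ i : 𝒮.toQCAlg.spec ⟶ PC, (∀ (U : Y.Opens) (hU : IsAffineOpen U),
        𝒮.toQCAlg.ι U hU ≫ i =
          Spec.map (θ U hU) ≫
            Proj.awayι (Sh.deg U hU) ((Sh.presheaf.map (homOfLE le_top).op).hom z) (hz U hU) one_pos ≫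
              RelProj.emb pC chartC U hU) ↔ RelCone.IsConeImm 𝒮 hzP pC chartC i := by
    intro i
    constructor
    · intro h U hU
      rw [h U hU, hθeq U hU]
    · intro h U hU
      rw [h U hU, hθeq U hU]
  constructor
  · obtain ⟨i, hi, huniq⟩ := Groth.Agent.Lib.Helper42.Cone.existsUnique_isConeImm hzP hPC
      (pC := pC) (chartC := chartC)
    exact ⟨i, (hiff i).mpr hi, fun i' hi' => huniq i' ((hiff i').mp hi')⟩
  · intro i hi
    have hi' := (hiff i).mp hi
    obtain ⟨h1, h2⟩ := Groth.Agent.Lib.Helper42.Cone.isConeImm_props hzP hPC hi'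
    refine ⟨h1, h2, Groth.Agent.Lib.Helper42.Cone.coneImm_comp hzP hPC hi',
      Groth.Agent.Lib.Helper42.Cone.ker_coneImm hzP hPC hi', ?_⟩
    intro Xz hXz
    ext c
    obtain ⟨U, hU, hcU⟩ : ∃ U : Y.Opens, IsAffineOpen U ∧ pC.base c ∈ U := by
      obtain ⟨_, ⟨V, hV, rfl⟩, hxV, -⟩ := (Y.isBasis_affineOpens).exists_subset_of_mem_open
        (Set.mem_univ (pC.base c)) isOpen_univ
      exact ⟨V, hV, hxV⟩
    have hc : c ∈ Set.range (RelProj.emb pC chartC U hU).base := by
      rw [Groth.Agent.Lib.Helper42.ProjQ.range_emb]; exact hcU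
    obtain ⟨ŷ, rfl⟩ := hc
    rw [Groth.Agent.Lib.Helper42.Cone.mem_range_coneImm_iff hzP hPC hi' U hU ŷ]
    have hemb : (RelProj.emb pC chartC U hU).base ŷ =
        (pC ⁻¹ᵁ U).ι.base ((chartC U hU).inv.base ŷ) := rfl
    have hback : (chartC U hU).hom.base ((chartC U hU).inv.base ŷ) = ŷ := by
      have := congrArg (fun φ => φ.base ŷ) (chartC U hU).inv_hom_id
      exact this
    constructor
    · intro hy
      have h3 : (RelProj.emb pC chartC U hU).base ŷ ∈ Xz ⊓ pC ⁻¹ᵁ U := by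
        rw [hXz U hU, hemb]
        refine ⟨_, ?_, rfl⟩
        change (chartC U hU).hom.base ((chartC U hU).inv.base ŷ) ∈
          Proj.basicOpen (Sh.deg U hU) ((Sh.presheaf.map (homOfLE le_top).op).hom z)
        rw [hback]
        exact hy
      exact h3.1
    · intro hX
      have h3 : (RelProj.emb pC chartC U hU).base ŷ ∈ Xz ⊓ pC ⁻¹ᵁ U := ⟨hX, hcU⟩
      rw [hXz U hU] at h3
      obtain ⟨t, ht, hte⟩ := h3
      rw [hemb] at hte
      have := (pC ⁻¹ᵁ U).ι.isOpenEmbedding.injective hte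
      rw [this] at ht
      have ht' : (chartC U hU).hom.base ((chartC U hU).inv.base ŷ) ∈
          Proj.basicOpen (Sh.deg U hU) ((Sh.presheaf.map (homOfLE le_top).op).hom z) := ht
      rw [hback] at ht'
      exact ht'

end Groth.Agent.S8289
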