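import Groth.Statements.S8292
import Groth.Agent.Lib.Helper42.RelProjMap
-- import your own Groth.Agent.* helpers here

set_option autoImplicit false
universe u
open CategoryTheory CategoryTheory.Limits AlgebraicGeometry Opposite TopologicalSpace
open scoped HomogeneousIdeal
noncomputable section
open EGA2

namespace Groth.Agent.S8292

/-- Let 𝒮 be a quasi-coherent positively graded O_Y-algebra generated by 𝒮_1, M a quasi-coherent
O_Y-module and u : M → 𝒮_1 a surjective module map; let ū : Sym(M) → 𝒮 be the graded algebra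
homomorphism extending u. Then the morphism Proj(𝒮) → P(M) = Proj(Sym(M)) induced by ū is a closed
immersion. -/
theorem result {Y PT PS : Scheme.{u}} (𝒮 𝒯 : RelProj.QCGrAlg Y)
    (hgen : 𝒮.IsGenDegOne) (M : Y.Modules) (hM : Coh.IsQCoh M)
    (u : M ⟶ 𝒮.toModule)
    (hu1 : ∀ (U : Y.Opens) (hU : IsAffineOpen U) (x : Γ(M, U)), (u.app U) x ∈ 𝒮.deg U hU 1)
    (husurj : ∀ (U : Y.Opens) (hU : IsAffineOpen U) (s : 𝒮.presheaf.obj (op U)), s ∈ 𝒮.deg U hU 1 →
      ∃ x : Γ(M, U), (u.app U) x = s)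
    (j : M ⟶ 𝒯.toModule) (hT : RelProj.IsGrSymAlg M 𝒯 j)
    (ubar : 𝒯.toQCAlg ⟶ 𝒮.toQCAlg) (hubar : RelProj.IsGradedHom ubar)
    (hju : j ≫ RelSpec.QCAlg.Hom.toModuleMap ubar = u)
    (hirr : ∀ (U : Y.Opens) (hU : IsAffineOpen U),
      (𝒮.deg U hU)₊ ≤ ((𝒯.deg U hU)₊).map (RelProj.gradedHomAt ubar hubar U hU))
    (pT : PT ⟶ Y) (pS : PS ⟶ Y)
    (chartT : ∀ (U : Y.Opens) (hU : IsAffineOpen U), (((pT ⁻¹ᵁ U : PT.Opens) : Scheme.{u}) ≅ Proj (𝒯.deg U hU)))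
    (chartS : ∀ (U : Y.Opens) (hU : IsAffineOpen U), (((pS ⁻¹ᵁ U : PS.Opens) : Scheme.{u}) ≅ Proj (𝒮.deg U hU)))
    (hPT : RelProj.IsRelProj 𝒯 pT chartT) (hPS : RelProj.IsRelProj 𝒮 pS chartS)
    (h : PS ⟶ PT) (hh : RelProj.IsRelProjMap ubar hubar hirr chartT chartS h) : IsClosedImmersion h := by
  refine Groth.Agent.Lib.Helper42.RelProjMap.of_charts (Q := @IsClosedImmersion) ubar hubar hirr
    hPT hPS hh (fun U hU => ?_)
  refine Groth.Agent.Lib.Helper42.ProjClosed.isClosedImmersion_map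
    (RelProj.gradedHomAt ubar hubar U hU) (hirr U hU) ?_
  have hj1 := hT.2
  refine Groth.Agent.Lib.Helper42.ProjClosed.grade_le_of_genDegOne (hgen U hU)
    (fun n => (𝒯.deg U hU n).map (RelProj.gradedHomAt ubar hubar U hU).toRingHom.toAddMonoidHom)
    ?_ ?_
  · intro x hx
    obtain ⟨m, hm⟩ := husurj U hU x hx
    refine ⟨(j.app U) m, hj1 U hU m, ?_⟩
    rw [← hm, ← hju]
    rfl
  · rintro i k _ _ ⟨t, ht, rfl⟩ ⟨t', ht', rfl⟩
    refine ⟨t * t', SetLike.mul_mem_graded ht ht', ?_⟩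
    exact map_mul (RelProj.gradedHomAt ubar hubar U hU) t t'

end Groth.Agent.S8292
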