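import Groth.Statements.S8295
import Groth.Agent.Lib.Helper42.RelSpecGlue
-- import your own Groth.Agent.* helpers here

set_option autoImplicit false
universe u
open CategoryTheory CategoryTheory.Limits AlgebraicGeometry Opposite TopologicalSpace
open scoped HomogeneousIdeal
noncomputable section
open EGA2

namespace Groth.Agent.S8295

/-- the chartwise vertex section over an affine open. -/
noncomputable def vchart {Y : Scheme.{u}} (𝒮 : RelProj.QCGrAlg Y)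
    (aug : 𝒮.toQCAlg ⟶ RelSpec.QCAlg.unit Y) (U : Y.Opens) (hU : IsAffineOpen U) :
    Spec Γ(Y, U) ⟶ 𝒮.toQCAlg.spec :=
  Spec.map (aug.hom.app (op U)) ≫ 𝒮.toQCAlg.ι U hU

theorem vchart_res {Y : Scheme.{u}} (𝒮 : RelProj.QCGrAlg Y)
    (aug : 𝒮.toQCAlg ⟶ RelSpec.QCAlg.unit Y) (U : Y.Opens) (hU : IsAffineOpen U)
    (W : Y.Opens) (hW : IsAffineOpen W) (r : Γ(Y, U)) (hr : Y.basicOpen r = W) (hWU : W ≤ U) :
    Spec.map (Y.presheaf.map (homOfLE hWU).op) ≫ vchart 𝒮 aug U hU = vchart 𝒮 aug W hW := by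
  obtain ⟨-, e2⟩ := Groth.Agent.Lib.Helper42.RelSpecGlue.res_of_basic 𝒮.toQCAlg
    (Z := ⊤_ Scheme.{u}) (fun _ _ => terminal.from _) (fun _ _ _ => terminal.hom_ext _ _)
    U hU W hW r hr hWU
  let aU : 𝒮.presheaf.obj (op U) ⟶ Γ(Y, U) := aug.hom.app (op U)
  let aW : 𝒮.presheaf.obj (op W) ⟶ Γ(Y, W) := aug.hom.app (op W)
  have hnat : 𝒮.presheaf.map (homOfLE hWU).op ≫ aW = aU ≫ Y.presheaf.map (homOfLE hWU).op :=
    aug.hom.naturality (homOfLE hWU).op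
  change Spec.map (Y.presheaf.map (homOfLE hWU).op) ≫ Spec.map aU ≫ 𝒮.toQCAlg.ι U hU =
    Spec.map aW ≫ 𝒮.toQCAlg.ι W hW
  calc Spec.map (Y.presheaf.map (homOfLE hWU).op) ≫ Spec.map aU ≫ 𝒮.toQCAlg.ι U hU
      = (Spec.map (Y.presheaf.map (homOfLE hWU).op) ≫ Spec.map aU) ≫ 𝒮.toQCAlg.ι U hU :=
        (Category.assoc _ _ _).symm
    _ = Spec.map (aU ≫ Y.presheaf.map (homOfLE hWU).op) ≫ 𝒮.toQCAlg.ι U hU :=
        congrArg (fun m => m ≫ 𝒮.toQCAlg.ι U hU) (Spec.map_comp _ _).symm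
    _ = Spec.map (𝒮.presheaf.map (homOfLE hWU).op ≫ aW) ≫ 𝒮.toQCAlg.ι U hU := by rw [hnat]
    _ = (Spec.map aW ≫ Spec.map (𝒮.presheaf.map (homOfLE hWU).op)) ≫ 𝒮.toQCAlg.ι U hU :=
        congrArg (fun m => m ≫ 𝒮.toQCAlg.ι U hU) (Spec.map_comp _ _)
    _ = Spec.map aW ≫ Spec.map (𝒮.presheaf.map (homOfLE hWU).op) ≫ 𝒮.toQCAlg.ι U hU :=
        Category.assoc _ _ _
    _ = Spec.map aW ≫ 𝒮.toQCAlg.ι W hW := by rw [e2]

theorem vchart_π {Y : Scheme.{u}} (𝒮 : RelProj.QCGrAlg Y)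
    (aug : 𝒮.toQCAlg ⟶ RelSpec.QCAlg.unit Y) (U : Y.Opens) (hU : IsAffineOpen U) :
    vchart 𝒮 aug U hU ≫ 𝒮.toQCAlg.π = hU.fromSpec := by
  let aU : 𝒮.presheaf.obj (op U) ⟶ Γ(Y, U) := aug.hom.app (op U)
  have hstr : 𝒮.str.app (op U) ≫ aU = 𝟙 _ :=
    congrArg (fun φ => φ.app (op U)) aug.comm
  change (Spec.map aU ≫ 𝒮.toQCAlg.ι U hU) ≫ 𝒮.toQCAlg.π = hU.fromSpec
  calc (Spec.map aU ≫ 𝒮.toQCAlg.ι U hU) ≫ 𝒮.toQCAlg.π
      = Spec.map aU ≫ 𝒮.toQCAlg.ι U hU ≫ 𝒮.toQCAlg.π := Category.assoc _ _ _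
    _ = Spec.map aU ≫ Spec.map (𝒮.str.app (op U)) ≫ hU.fromSpec := by
        rw [𝒮.toQCAlg.ι_π U hU]
    _ = (Spec.map aU ≫ Spec.map (𝒮.str.app (op U))) ≫ hU.fromSpec :=
        (Category.assoc _ _ _).symm
    _ = Spec.map (𝒮.str.app (op U) ≫ aU) ≫ hU.fromSpec :=
        congrArg (fun m => m ≫ hU.fromSpec) (Spec.map_comp _ _).symm
    _ = hU.fromSpec := by rw [hstr, Spec.map_id, Category.id_comp]

theorem fromSpec_covers {Y : Scheme.{u}} (t : Y) :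
    ∃ U : {U : Y.Opens // IsAffineOpen U}, t ∈ Set.range U.2.fromSpec.base := by
  obtain ⟨_, ⟨V, hV, rfl⟩, hxV, -⟩ := (Y.isBasis_affineOpens).exists_subset_of_mem_open
    (Set.mem_univ t) isOpen_univ
  refine ⟨⟨V, hV⟩, ?_⟩
  have h := IsAffineOpen.range_fromSpec hV
  exact h.symm ▸ hxV

/-- The vertex section of the affine cone: let 𝒮 be a quasi-coherent positively graded O_Y-algebra with
𝒮_0 = O_Y, aug : 𝒮 → O_Y its augmentation (the algebra homomorphism over O_Y that vanishes on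
sections of positive degree) and C = Spec(𝒮) the affine cone. There is exactly one morphism ε : Y →
C which is a section of the structure morphism and which over every affine open U of Y is, on Spec
O_Y(U), the morphism Spec of aug(U) followed by the chart Spec 𝒮(U) → C; moreover every such ε is a
closed immersion. -/
theorem result {Y : Scheme.{u}} (𝒮 : RelProj.QCGrAlg Y)
    (h0 : RelCone.StrZeroBij 𝒮) (aug : 𝒮.toQCAlg ⟶ RelSpec.QCAlg.unit Y) (haug : RelCone.IsAugmentation 𝒮 aug) :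
    (∃! ε : Y ⟶ 𝒮.toQCAlg.spec, RelCone.IsVertex 𝒮 aug ε) ∧
      ∀ ε : Y ⟶ 𝒮.toQCAlg.spec, RelCone.IsVertex 𝒮 aug ε → IsClosedImmersion ε := by
  have hglue : ∃! ε : Y ⟶ 𝒮.toQCAlg.spec, ∀ U : {U : Y.Opens // IsAffineOpen U},
      U.2.fromSpec ≫ ε = vchart 𝒮 aug U.1 U.2 := by
    refine Groth.Agent.Lib.Helper42.LocalGlue.existsUnique_glue
      (J := {U : Y.Opens // IsAffineOpen U}) (fun U => Spec Γ(Y, U.1)) (fun U => U.2.fromSpec)
      fromSpec_covers (fun U => vchart 𝒮 aug U.1 U.2) ?_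
    rintro ⟨U₁, hU₁⟩ ⟨U₂, hU₂⟩ t ht₁ ht₂
    have h1 : t ∈ U₁ := by
      have h : t ∈ (U₁ : Set Y) := (IsAffineOpen.range_fromSpec hU₁) ▸ ht₁
      exact h
    have h2 : t ∈ U₂ := by
      have h : t ∈ (U₂ : Set Y) := (IsAffineOpen.range_fromSpec hU₂) ▸ ht₂
      exact h
    obtain ⟨r₁, r₂, hr, hxr⟩ := exists_basicOpen_le_affine_inter hU₁ hU₂ t ⟨h1, h2⟩
    have hW : IsAffineOpen (Y.basicOpen r₁) := hU₁.basicOpen r₁
    have hWU₂ : Y.basicOpen r₁ ≤ U₂ := hr ▸ Y.basicOpen_le r₂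
    refine ⟨⟨Y.basicOpen r₁, hW⟩, Spec.map (Y.presheaf.map (homOfLE (Y.basicOpen_le r₁)).op),
      Spec.map (Y.presheaf.map (homOfLE hWU₂).op), ?_, ?_, ?_, ?_⟩
    · have h := IsAffineOpen.range_fromSpec hW
      exact h.symm ▸ hxr
    · exact hU₁.map_fromSpec hW (homOfLE (Y.basicOpen_le r₁)).op
    · exact hU₂.map_fromSpec hW (homOfLE hWU₂).op
    · exact (vchart_res 𝒮 aug U₁ hU₁ _ hW r₁ rfl (Y.basicOpen_le r₁)).trans
        (vchart_res 𝒮 aug U₂ hU₂ _ hW r₂ hr.symm hWU₂).symm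
  obtain ⟨ε, hε, huniq⟩ := hglue
  have hvert : ∀ ε' : Y ⟶ 𝒮.toQCAlg.spec, RelCone.IsVertex 𝒮 aug ε' →
      ∀ U : {U : Y.Opens // IsAffineOpen U}, U.2.fromSpec ≫ ε' = vchart 𝒮 aug U.1 U.2 :=
    fun ε' h U => h.chart U.1 U.2
  constructor
  · refine ⟨ε, ⟨?_, fun U hU => hε ⟨U, hU⟩⟩, fun ε' h => huniq ε' (hvert ε' h)⟩
    refine Groth.Agent.Lib.Helper42.LocalGlue.hom_ext_of_family
      (J := {U : Y.Opens // IsAffineOpen U}) (fun U => Spec Γ(Y, U.1)) (fun U => U.2.fromSpec)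
      fromSpec_covers (fun U => ?_)
    rw [← Category.assoc, hε U, vchart_π, Category.comp_id]
  · intro ε' h
    refine Groth.Agent.Lib.Helper42.LocalGlue.of_family_isPullback (Q := @IsClosedImmersion) ε'
      (J := {U : Y.Opens // IsAffineOpen U}) (fun U => Spec (𝒮.presheaf.obj (op U.1)))
      (fun U => 𝒮.toQCAlg.ι U.1 U.2)
      (Groth.Agent.Lib.Helper42.RelSpecGlue.chart_covers 𝒮.toQCAlg)
      (fun U => Spec Γ(Y, U.1)) (fun U => U.2.fromSpec)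
      (fun U => Spec.map (aug.hom.app (op U.1))) (fun U => ?_) (fun U => ?_)
    · refine (IsOpenImmersion.isPullback _ U.2.fromSpec (𝒮.toQCAlg.ι U.1 U.2) ε'
        (h.chart U.1 U.2) ?_).flip
      rw [← 𝒮.toQCAlg.π_preimage U.1 U.2, IsAffineOpen.opensRange_fromSpec]
      change (ε' ≫ 𝒮.toQCAlg.π) ⁻¹ᵁ U.1 = U.1
      rw [h.comp_π]
      rfl
    · refine IsClosedImmersion.spec_of_surjective _ ?_
      have hstr : 𝒮.str.app (op U.1) ≫ aug.hom.app (op U.1) = 𝟙 _ :=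
        congrArg (fun φ => φ.app (op U.1)) aug.comm
      intro x
      exact ⟨(𝒮.str.app (op U.1)).hom x, congrArg (fun φ => φ.hom x) hstr⟩

end Groth.Agent.S8295
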