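import Groth.Statements.S8296
import Groth.Agent.Lib.Helper42.ConeVertex
-- import your own Groth.Agent.* helpers here

set_option autoImplicit false
universe u
open CategoryTheory CategoryTheory.Limits AlgebraicGeometry Opposite TopologicalSpace
open scoped HomogeneousIdeal
noncomputable section
open EGA2

namespace Groth.Agent.S8296

/-- The pointed affine cone: let 𝒮 be a quasi-coherent positively graded O_Y-algebra with 𝒮_0 = O_Y, aug
its augmentation, C = Spec(𝒮) its affine cone and ε : Y → C the vertex section. Then the open subset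
of C which is the union, over the affine opens U of Y, of the chart images of the complements of the
closed sets V(𝒮(U)_+) in Spec 𝒮(U), is exactly the complement of ε(Y); in other words the pointed
affine cone E, defined chart by chart through the irrelevant ideals, is C − ε(Y). -/
theorem result {Y : Scheme.{u}} (𝒮 : RelProj.QCGrAlg Y)
    (h0 : RelCone.StrZeroBij 𝒮) (aug : 𝒮.toQCAlg ⟶ RelSpec.QCAlg.unit Y) (haug : RelCone.IsAugmentation 𝒮 aug)
    (ε : Y ⟶ 𝒮.toQCAlg.spec) (hε : RelCone.IsVertex 𝒮 aug ε) :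
    ((RelCone.pointedCone 𝒮 : 𝒮.toQCAlg.spec.Opens) : Set 𝒮.toQCAlg.spec) = (Set.range ε.base)ᶜ := by
  ext c
  obtain ⟨U, hU, hcU⟩ : ∃ U : Y.Opens, IsAffineOpen U ∧ 𝒮.toQCAlg.π.base c ∈ U := by
    obtain ⟨_, ⟨V, hV, rfl⟩, hxV, -⟩ := (Y.isBasis_affineOpens).exists_subset_of_mem_open
      (Set.mem_univ (𝒮.toQCAlg.π.base c)) isOpen_univ
    exact ⟨V, hV, hxV⟩
  have hc : c ∈ 𝒮.toQCAlg.π ⁻¹ᵁ U := hcU
  rw [𝒮.toQCAlg.π_preimage U hU] at hc
  obtain ⟨q, rfl⟩ := hc
  have h1 : (𝒮.toQCAlg.ι U hU).base q ∈ RelCone.pointedCone 𝒮 ↔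
      q ∈ RelCone.vertexCompl (𝒮.deg U hU) := by
    constructor
    · intro hE
      have h2 : (𝒮.toQCAlg.ι U hU).base q ∈ RelCone.pointedCone 𝒮 ⊓ 𝒮.toQCAlg.π ⁻¹ᵁ U :=
        ⟨hE, hcU⟩
      rw [Groth.Agent.Lib.Helper42.Cone.pointedCone_inf_preimage 𝒮 U hU] at h2
      obtain ⟨q', hq', hqq'⟩ := h2
      have := (𝒮.toQCAlg.ι U hU).isOpenEmbedding.injective hqq'
      rw [← this]
      exact hq'
    · intro hq
      unfold RelCone.pointedCone
      exact TopologicalSpace.Opens.mem_iSup.mpr ⟨⟨U, hU⟩, ⟨q, hq, rfl⟩⟩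
  change (𝒮.toQCAlg.ι U hU).base q ∈ RelCone.pointedCone 𝒮 ↔
    (𝒮.toQCAlg.ι U hU).base q ∉ Set.range ε.base
  rw [h1, Groth.Agent.Lib.Helper42.Cone.mem_range_vertex_iff 𝒮 hε U hU q,
    ← Groth.Agent.Lib.Helper42.Cone.vertex_iff 𝒮 h0 haug U hU q]
  exact Groth.Agent.Lib.Helper42.Cone.mem_vertexCompl (𝒮.deg U hU) q

end Groth.Agent.S8296
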