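import Groth.Statements.S8297
import Groth.Agent.Lib.Helper42.ConeInfinity
-- import your own Groth.Agent.* helpers here

set_option autoImplicit false
universe u
open CategoryTheory CategoryTheory.Limits AlgebraicGeometry Opposite TopologicalSpace
open scoped HomogeneousIdeal
noncomputable section
open EGA2

namespace Groth.Agent.S8297

/-- The relation i(C) = Ĉ − j(X): let 𝒮 be a quasi-coherent positively graded O_Y-algebra with 𝒮_0 =
O_Y, Ŝ = 𝒮[z] (given through a graded homomorphism ι : 𝒮 → Ŝ and a global section z of degree one,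
the map 𝒮(U)[X] → Ŝ(U), X ↦ z, being bijective over every affine open U), C = Spec(𝒮) the affine
cone, Ĉ = Proj(Ŝ) the projective cone and X = Proj(𝒮), each relative homogeneous spectrum given with
its charts; let i : C → Ĉ be the canonical open immersion (chartwise Spec of Ŝ(U)_(z) → 𝒮(U), z ↦ 1,
followed by the inclusion of D_+(z)), θ : Ŝ → 𝒮 the graded retraction of ι sending z to 0, and j : X
→ Ĉ the morphism chartwise induced by θ (the immersion of the locus at infinity). Then the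
underlying set of the image of i is the complement of the image of j. -/
theorem result {Y PC P : Scheme.{u}} (𝒮 𝒮h : RelProj.QCGrAlg Y) (h0 : RelCone.StrZeroBij 𝒮)
    (ι : 𝒮.toQCAlg ⟶ 𝒮h.toQCAlg) (z : 𝒮h.presheaf.obj (op ⊤)) (hz : RelCone.IsPolyOver 𝒮 𝒮h ι z)
    (pC : PC ⟶ Y)
    (chartC : ∀ (U : Y.Opens) (hU : IsAffineOpen U), (((pC ⁻¹ᵁ U : PC.Opens) : Scheme.{u}) ≅ Proj (𝒮h.deg U hU)))
    (hPC : RelProj.IsRelProj 𝒮h pC chartC)
    (i : 𝒮.toQCAlg.spec ⟶ PC) (hi : RelCone.IsConeImm 𝒮 hz pC chartC i)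
    (θ : 𝒮h.toQCAlg ⟶ 𝒮.toQCAlg) (hθ : RelProj.IsGradedHom θ) (hιθ : ι ≫ θ = 𝟙 _)
    (hθz : (θ.hom.app (op ⊤)).hom z = 0)
    (hirr : ∀ (U : Y.Opens) (hU : IsAffineOpen U),
      (𝒮.deg U hU)₊ ≤ ((𝒮h.deg U hU)₊).map (RelProj.gradedHomAt θ hθ U hU))
    (p : P ⟶ Y)
    (chart : ∀ (U : Y.Opens) (hU : IsAffineOpen U), (((p ⁻¹ᵁ U : P.Opens) : Scheme.{u}) ≅ Proj (𝒮.deg U hU)))
    (hP : RelProj.IsRelProj 𝒮 p chart) (j : P ⟶ PC) (hj : RelProj.IsRelProjMap θ hθ hirr chartC chart j) :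
    Set.range i.base = (Set.range j.base)ᶜ := by
  have hθzU : ∀ (U : Y.Opens) (hU : IsAffineOpen U),
      RelProj.gradedHomAt θ hθ U hU (RelCone.restrictTop 𝒮h z U) = 0 := by
    intro U hU
    change (θ.hom.app (op U)).hom ((𝒮h.presheaf.map (homOfLE le_top).op).hom z) = 0
    have h2 := θ.hom.naturality (homOfLE (le_top : U ≤ ⊤)).op
    have h3 : (θ.hom.app (op U)).hom ((𝒮h.presheaf.map (homOfLE le_top).op).hom z) =
        (𝒮.presheaf.map (homOfLE le_top).op).hom ((θ.hom.app (op ⊤)).hom z) :=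
      congrArg (fun φ => φ.hom z) h2
    rw [h3, hθz, map_zero]
  have hθι : ∀ (U : Y.Opens) (hU : IsAffineOpen U) (a : 𝒮.presheaf.obj (op U)),
      RelProj.gradedHomAt θ hθ U hU (RelProj.gradedHomAt ι hz.graded U hU a) = a := by
    intro U hU a
    exact congrArg (fun φ => (φ.hom.app (op U)).hom a) hιθ
  have hjU : ∀ (U : Y.Opens) (hU : IsAffineOpen U), RelProj.emb p chart U hU ≫ j =
      Proj.map (RelProj.gradedHomAt θ hθ U hU) (hirr U hU) ≫ RelProj.emb pC chartC U hU := by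
    intro U hU
    unfold RelProj.emb
    rw [Category.assoc, hj U hU, Iso.inv_hom_id_assoc]
  have hC : ∀ c ∈ Set.range j.base, c ∉ Set.range i.base := by
    rintro _ ⟨x, rfl⟩
    obtain ⟨U, hU, hxU⟩ : ∃ U : Y.Opens, IsAffineOpen U ∧ p.base x ∈ U := by
      obtain ⟨_, ⟨V, hV, rfl⟩, hxV, -⟩ := (Y.isBasis_affineOpens).exists_subset_of_mem_open
        (Set.mem_univ (p.base x)) isOpen_univ
      exact ⟨V, hV, hxV⟩
    have hx : x ∈ Set.range (RelProj.emb p chart U hU).base := by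
      rw [Groth.Agent.Lib.Helper42.ProjQ.range_emb]; exact hxU
    obtain ⟨y, rfl⟩ := hx
    have h1 : j.base ((RelProj.emb p chart U hU).base y) =
        (RelProj.emb pC chartC U hU).base
          ((Proj.map (RelProj.gradedHomAt θ hθ U hU) (hirr U hU)).base y) :=
      congrArg (fun φ => φ.base y) (hjU U hU)
    rw [h1, Groth.Agent.Lib.Helper42.Cone.mem_range_coneImm_iff hz hPC hi U hU]
    intro hmem
    exact (ProjectiveSpectrum.mem_basicOpen _ _ _).mp hmem
      (Groth.Agent.Lib.Helper42.PolyGraded.z_mem_map_retraction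
        (RelProj.gradedHomAt θ hθ U hU) (hθzU U hU) (hirr U hU) y)
  ext c
  obtain ⟨U, hU, hcU⟩ : ∃ U : Y.Opens, IsAffineOpen U ∧ pC.base c ∈ U := by
    obtain ⟨_, ⟨V, hV, rfl⟩, hxV, -⟩ := (Y.isBasis_affineOpens).exists_subset_of_mem_open
      (Set.mem_univ (pC.base c)) isOpen_univ
    exact ⟨V, hV, hxV⟩
  have hc : c ∈ Set.range (RelProj.emb pC chartC U hU).base := by
    rw [Groth.Agent.Lib.Helper42.ProjQ.range_emb]; exact hcU
  obtain ⟨ŷ, rfl⟩ := hc
  constructor
  · intro h1 h2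
    exact hC _ h2 h1
  · intro h1
    rw [Groth.Agent.Lib.Helper42.Cone.mem_range_coneImm_iff hz hPC hi U hU]
    refine (ProjectiveSpectrum.mem_basicOpen _ _ _).mpr ?_
    intro hzy
    apply h1
    obtain ⟨y, hy⟩ := Groth.Agent.Lib.Helper42.PolyGraded.exists_map_retraction_eq
      (RelProj.gradedHomAt ι hz.graded U hU) (hz.deg_z U hU) (hz.bij U hU)
      (RelProj.gradedHomAt θ hθ U hU) (hθι U hU) (hθzU U hU) (hirr U hU) ŷ hzy
    refine ⟨(RelProj.emb p chart U hU).base y, ?_⟩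
    have h3 : j.base ((RelProj.emb p chart U hU).base y) =
        (RelProj.emb pC chartC U hU).base
          ((Proj.map (RelProj.gradedHomAt θ hθ U hU) (hirr U hU)).base y) :=
      congrArg (fun φ => φ.base y) (hjU U hU)
    rw [h3, hy]

end Groth.Agent.S8297
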