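import Groth.Statements.S8298
import Groth.Agent.Lib.Helper42.ConeVertex
-- import your own Groth.Agent.* helpers here

set_option autoImplicit false
universe u
open CategoryTheory CategoryTheory.Limits AlgebraicGeometry Opposite TopologicalSpace
open scoped HomogeneousIdeal
noncomputable section
open EGA2

namespace Groth.Agent.S8298

/-- The pointed projective cone: let 𝒮 be a quasi-coherent positively graded O_Y-algebra with 𝒮_0 = O_Y,
aug its augmentation and ε : Y → C = Spec(𝒮) the vertex section; let Ŝ = 𝒮[z] (given through a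
graded homomorphism ι : 𝒮 → Ŝ and a degree-one global section z, polynomial over every affine open),
Ĉ = Proj(Ŝ) its relative homogeneous spectrum with charts, and i : C → Ĉ the canonical open
immersion. Then the open subset of Ĉ which is the union, over the affine opens U of Y, of the chart
images of the opens of Proj Ŝ(U) where the morphism induced by ι(U) : 𝒮(U) → Ŝ(U) is defined (the
complement of V_+ of the ideal generated by ι(𝒮(U)_+)) has underlying set exactly the complement of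
i(ε(Y)): the pointed projective cone Ê is Ĉ minus its vertex section. -/
theorem result {Y PC : Scheme.{u}} (𝒮 𝒮h : RelProj.QCGrAlg Y) (h0 : RelCone.StrZeroBij 𝒮)
    (ι : 𝒮.toQCAlg ⟶ 𝒮h.toQCAlg) (z : 𝒮h.presheaf.obj (op ⊤)) (hz : RelCone.IsPolyOver 𝒮 𝒮h ι z)
    (pC : PC ⟶ Y)
    (chartC : ∀ (U : Y.Opens) (hU : IsAffineOpen U), (((pC ⁻¹ᵁ U : PC.Opens) : Scheme.{u}) ≅ Proj (𝒮h.deg U hU)))
    (hPC : RelProj.IsRelProj 𝒮h pC chartC)
    (aug : 𝒮.toQCAlg ⟶ RelSpec.QCAlg.unit Y) (haug : RelCone.IsAugmentation 𝒮 aug)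
    (ε : Y ⟶ 𝒮.toQCAlg.spec) (hε : RelCone.IsVertex 𝒮 aug ε)
    (i : 𝒮.toQCAlg.spec ⟶ PC) (hi : RelCone.IsConeImm 𝒮 hz pC chartC i) :
    ((RelCone.pointedProjCone 𝒮 hz pC chartC : PC.Opens) : Set PC) = (Set.range (ε ≫ i).base)ᶜ := by
  ext ĉ
  obtain ⟨U, hU, hcU⟩ : ∃ U : Y.Opens, IsAffineOpen U ∧ pC.base ĉ ∈ U := by
    obtain ⟨_, ⟨V, hV, rfl⟩, hxV, -⟩ := (Y.isBasis_affineOpens).exists_subset_of_mem_open
      (Set.mem_univ (pC.base ĉ)) isOpen_univ
    exact ⟨V, hV, hxV⟩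
  have hc : ĉ ∈ Set.range (RelProj.emb pC chartC U hU).base := by
    rw [Groth.Agent.Lib.Helper42.ProjQ.range_emb]; exact hcU
  obtain ⟨ŷ, rfl⟩ := hc
  have hicomp := Groth.Agent.Lib.Helper42.Cone.coneImm_comp hz hPC hi
  have h1 : (RelProj.emb pC chartC U hU).base ŷ ∈ RelCone.pointedProjCone 𝒮 hz pC chartC ↔
      ŷ ∈ RelCone.domOpen (RelProj.gradedHomAt ι hz.graded U hU) := by
    constructor
    · intro hE
      have h2 : (RelProj.emb pC chartC U hU).base ŷ ∈
          RelCone.pointedProjCone 𝒮 hz pC chartC ⊓ pC ⁻¹ᵁ U := ⟨hE, hcU⟩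
      rw [Groth.Agent.Lib.Helper42.Cone.pointedProjCone_eq_domQ hz hPC,
        Groth.Agent.Lib.Helper42.Cone.domQ_ofHom_inf_preimage ι hz.graded hPC U hU] at h2
      obtain ⟨y', hy', hyy'⟩ := h2
      have := Groth.Agent.Lib.Helper42.ProjQ.emb_injective (p := pC) (chart := chartC) U hU hyy'
      rw [← this]
      exact hy'
    · intro hy
      unfold RelCone.pointedProjCone
      exact TopologicalSpace.Opens.mem_iSup.mpr ⟨⟨U, hU⟩, ⟨ŷ, hy, rfl⟩⟩
  have hεi : ∀ 𝔭 : Spec Γ(Y, U), (ε ≫ i).base (hU.fromSpec.base 𝔭) =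
      (RelProj.emb pC chartC U hU).base
        (Groth.Agent.Lib.Helper42.PolyGraded.conePoint (RelProj.gradedHomAt ι hz.graded U hU)
          (hz.deg_z U hU) (hz.bij U hU) ((Spec.map (aug.hom.app (op U))).base 𝔭)) := by
    intro 𝔭
    have h4 : ε.base (hU.fromSpec.base 𝔭) =
        (𝒮.toQCAlg.ι U hU).base ((Spec.map (aug.hom.app (op U))).base 𝔭) :=
      congrArg (fun φ => φ.base 𝔭) (hε.chart U hU)
    have h5 : (ε ≫ i).base (hU.fromSpec.base 𝔭) = i.base (ε.base (hU.fromSpec.base 𝔭)) := rfl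
    rw [h5, h4]
    exact Groth.Agent.Lib.Helper42.Cone.coneImm_apply hz hi U hU _
  have h2 : (RelProj.emb pC chartC U hU).base ŷ ∈ Set.range (ε ≫ i).base ↔
      ∃ 𝔭 : Spec Γ(Y, U),
        Groth.Agent.Lib.Helper42.PolyGraded.conePoint (RelProj.gradedHomAt ι hz.graded U hU)
          (hz.deg_z U hU) (hz.bij U hU) ((Spec.map (aug.hom.app (op U))).base 𝔭) = ŷ := by
    constructor
    · rintro ⟨s, hs⟩
      have hsU : s ∈ U := by
        have e1 : (ε ≫ i) ≫ pC = 𝟙 Y := by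
          rw [Category.assoc, hicomp, hε.comp_π]
        have e2 := congrArg (fun φ => φ.base s) e1
        simp only [Scheme.Hom.comp_base, TopCat.comp_app] at e2
        have e3 : pC.base ((ε ≫ i).base s) ∈ U := by rw [hs]; exact hcU
        have e4 : pC.base ((ε ≫ i).base s) = s := e2
        rw [e4] at e3
        exact e3
      have hs' : s ∈ Set.range hU.fromSpec.base := by
        rw [hU.range_fromSpec]; exact hsU
      obtain ⟨𝔭, rfl⟩ := hs'
      refine ⟨𝔭, ?_⟩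
      rw [hεi 𝔭] at hs
      exact Groth.Agent.Lib.Helper42.ProjQ.emb_injective (p := pC) (chart := chartC) U hU hs
    · rintro ⟨𝔭, rfl⟩
      exact ⟨hU.fromSpec.base 𝔭, hεi 𝔭⟩
  change (RelProj.emb pC chartC U hU).base ŷ ∈ RelCone.pointedProjCone 𝒮 hz pC chartC ↔
    (RelProj.emb pC chartC U hU).base ŷ ∉ Set.range (ε ≫ i).base
  rw [h1, h2, ← not_iff_not, not_not,
    Groth.Agent.Lib.Helper42.PolyGraded.notMem_domOpen_iff (RelProj.gradedHomAt ι hz.graded U hU)
      (hz.deg_z U hU) (hz.bij U hU)]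
  constructor
  · rintro ⟨q, hq, rfl⟩
    obtain ⟨𝔭, rfl⟩ := (Groth.Agent.Lib.Helper42.Cone.vertex_iff 𝒮 h0 haug U hU q).mp hq
    exact ⟨𝔭, rfl⟩
  · rintro ⟨𝔭, rfl⟩
    exact ⟨_, (Groth.Agent.Lib.Helper42.Cone.vertex_iff 𝒮 h0 haug U hU _).mpr ⟨𝔭, rfl⟩, rfl⟩

end Groth.Agent.S8298
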