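import Groth.Statements.S8299
import Groth.Agent.Lib.Helper42.ConeAffine
-- import your own Groth.Agent.* helpers here

set_option autoImplicit false
universe u
open CategoryTheory CategoryTheory.Limits AlgebraicGeometry Opposite TopologicalSpace
open scoped HomogeneousIdeal
noncomputable section
open EGA2

namespace Groth.Agent.S8299

/-- a point of the cone `C'` lies on the chart over an affine `U' ⊆ q⁻¹(U)`, `U` affine. -/
theorem exists_pair {Y Y' : Scheme.{u}} (q : Y' ⟶ Y) (𝒮' : RelProj.QCGrAlg Y')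
    (t' : 𝒮'.toQCAlg.spec) :
    ∃ (U : Y.Opens) (hU : IsAffineOpen U) (U' : Y'.Opens) (hU' : IsAffineOpen U')
      (_ : U' ≤ q ⁻¹ᵁ U) (q' : Spec (𝒮'.presheaf.obj (op U'))),
      (𝒮'.toQCAlg.ι U' hU').base q' = t' := by
  obtain ⟨U, hU, hxU⟩ : ∃ U : Y.Opens, IsAffineOpen U ∧
      q.base (𝒮'.toQCAlg.π.base t') ∈ U := by
    obtain ⟨_, ⟨V, hV, rfl⟩, hxV, -⟩ := (Y.isBasis_affineOpens).exists_subset_of_mem_open
      (Set.mem_univ (q.base (𝒮'.toQCAlg.π.base t'))) isOpen_univ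
    exact ⟨V, hV, hxV⟩
  obtain ⟨_, ⟨U', hU', rfl⟩, hxU', hU'le⟩ := (Y'.isBasis_affineOpens).exists_subset_of_mem_open
    (show 𝒮'.toQCAlg.π.base t' ∈ ((q ⁻¹ᵁ U : Y'.Opens) : Set Y') from hxU) (q ⁻¹ᵁ U).2
  have ht : t' ∈ 𝒮'.toQCAlg.π ⁻¹ᵁ U' := hxU'
  rw [𝒮'.toQCAlg.π_preimage U' hU'] at ht
  obtain ⟨q', hq'⟩ := ht
  exact ⟨U, hU, U', hU', hU'le, q', hq'⟩

/-- Let q : Y' → Y be a morphism of schemes, 𝒮 and 𝒮' quasi-coherent positively graded algebras over O_Y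
and O_{Y'} with 𝒮_0 = O_Y and 𝒮'_0 = O_{Y'}, and φ : 𝒮 → q_*𝒮' a graded q-morphism (a map of sheaves
of rings compatible with the structure maps through q^♯, whose components 𝒮(U) → 𝒮'(U') for affine
opens U' ⊆ q⁻¹(U) preserve degrees, recorded as graded ring homomorphisms); let C = Spec(𝒮), C' =
Spec(𝒮') be the affine cones and Φ : C' → C the morphism Spec(φ), i.e. the morphism which on the
charts over affine opens U' ⊆ q⁻¹(U) is Spec of 𝒮(U) → 𝒮'(U'); let E ⊆ C and E' ⊆ C' be the pointed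
affine cones (defined chart by chart as the complements of V(𝒮(U)_+), resp. V(𝒮'(U')_+)). Then the
inverse image of E under Φ is contained in E'. -/
theorem result {Y Y' : Scheme.{u}} (q : Y' ⟶ Y) (𝒮 : RelProj.QCGrAlg Y) (𝒮' : RelProj.QCGrAlg Y')
    (h0 : RelCone.StrZeroBij 𝒮) (h0' : RelCone.StrZeroBij 𝒮')
    (u : 𝒮.presheaf ⟶ q.base _* 𝒮'.presheaf)
    (hu : 𝒮.str ≫ u = q.c ≫ (TopCat.Presheaf.pushforward CommRingCat.{u} q.base).map 𝒮'.str)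
    (φ : ∀ (U : Y.Opens) (hU : IsAffineOpen U) (U' : Y'.Opens) (hU' : IsAffineOpen U') (_ : U' ≤ q ⁻¹ᵁ U),
      𝒮.deg U hU →+*ᵍ 𝒮'.deg U' hU')
    (hφ : ∀ (U : Y.Opens) (hU : IsAffineOpen U) (U' : Y'.Opens) (hU' : IsAffineOpen U') (hle : U' ≤ q ⁻¹ᵁ U),
      (φ U hU U' hU' hle).toRingHom =
        ((u.app (op U) : 𝒮.presheaf.obj (op U) ⟶ 𝒮'.presheaf.obj (op (q ⁻¹ᵁ U))) ≫
          𝒮'.presheaf.map (homOfLE hle).op).hom)
    (Φ : 𝒮'.toQCAlg.spec ⟶ 𝒮.toQCAlg.spec)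
    (hΦ : ∀ (U : Y.Opens) (hU : IsAffineOpen U) (U' : Y'.Opens) (hU' : IsAffineOpen U') (hle : U' ≤ q ⁻¹ᵁ U),
      𝒮'.toQCAlg.ι U' hU' ≫ Φ =
        Spec.map ((u.app (op U) : 𝒮.presheaf.obj (op U) ⟶ 𝒮'.presheaf.obj (op (q ⁻¹ᵁ U))) ≫
          𝒮'.presheaf.map (homOfLE hle).op) ≫ 𝒮.toQCAlg.ι U hU) :
    Φ ⁻¹ᵁ RelCone.pointedCone 𝒮 ≤ RelCone.pointedCone 𝒮' := by
  intro t' ht'
  have ht : Φ.base t' ∈ RelCone.pointedCone 𝒮 := ht'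
  obtain ⟨U, hU, U', hU', hle, q', rfl⟩ := exists_pair q 𝒮' t'
  have h1 : Φ.base ((𝒮'.toQCAlg.ι U' hU').base q') = (𝒮.toQCAlg.ι U hU).base
      ((Spec.map ((u.app (op U) : 𝒮.presheaf.obj (op U) ⟶ 𝒮'.presheaf.obj (op (q ⁻¹ᵁ U))) ≫
          𝒮'.presheaf.map (homOfLE hle).op)).base q') :=
    congrArg (fun ψ => ψ.base q') (hΦ U hU U' hU' hle)
  rw [h1] at ht
  have h2 : (𝒮.toQCAlg.ι U hU).base
      ((Spec.map ((u.app (op U) : 𝒮.presheaf.obj (op U) ⟶ 𝒮'.presheaf.obj (op (q ⁻¹ᵁ U))) ≫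
          𝒮'.presheaf.map (homOfLE hle).op)).base q') ∈
      RelCone.pointedCone 𝒮 ⊓ 𝒮.toQCAlg.π ⁻¹ᵁ U := by
    refine ⟨ht, ?_⟩
    change _ ∈ 𝒮.toQCAlg.π ⁻¹ᵁ U
    rw [𝒮.toQCAlg.π_preimage U hU]
    exact ⟨_, rfl⟩
  rw [Groth.Agent.Lib.Helper42.Cone.pointedCone_inf_preimage 𝒮 U hU] at h2
  obtain ⟨q₀, hq₀, hq₀e⟩ := h2
  have hq₀' := (𝒮.toQCAlg.ι U hU).isOpenEmbedding.injective hq₀e
  rw [hq₀'] at hq₀
  replace hq₀ := (Groth.Agent.Lib.Helper42.Cone.mem_vertexCompl _ _).mp hq₀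
  have hq' : q' ∈ RelCone.vertexCompl (𝒮'.deg U' hU') := by
    rw [Groth.Agent.Lib.Helper42.Cone.mem_vertexCompl]
    intro hcon
    apply hq₀
    have hcomap : ((Spec.map ((u.app (op U) : 𝒮.presheaf.obj (op U) ⟶
        𝒮'.presheaf.obj (op (q ⁻¹ᵁ U))) ≫ 𝒮'.presheaf.map (homOfLE hle).op)).base q').asIdeal =
        q'.asIdeal.comap (φ U hU U' hU' hle).toRingHom := by
      rw [hφ U hU U' hU' hle]
      rfl
    rw [hcomap]
    exact le_trans (Groth.Agent.Lib.Helper42.Cone.irrelevant_le_comap (φ U hU U' hU' hle))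
      (Ideal.comap_mono hcon)
  unfold RelCone.pointedCone
  refine TopologicalSpace.Opens.mem_iSup.mpr ⟨⟨U', hU'⟩, ?_⟩
  exact ⟨q', hq', rfl⟩

end Groth.Agent.S8299
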