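import Groth.Statements.S8300
import Groth.Agent.Lib.Helper42.ConeAffine
import Groth.Agent.S8299
-- import your own Groth.Agent.* helpers here

set_option autoImplicit false
universe u
open CategoryTheory CategoryTheory.Limits AlgebraicGeometry Opposite TopologicalSpace
open scoped HomogeneousIdeal
noncomputable section
open EGA2

namespace Groth.Agent.S8300

/-- Let q : Y' → Y be a morphism of schemes, 𝒮 and 𝒮' quasi-coherent positively graded algebras over O_Y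
and O_{Y'} with 𝒮_0 = O_Y and 𝒮'_0 = O_{Y'}, and φ : 𝒮 → q_*𝒮' a graded q-morphism (a map of sheaves
of rings compatible with the structure maps through q^♯, whose components 𝒮(U) → 𝒮'(U') for affine
opens U' ⊆ q⁻¹(U) preserve degrees, recorded as graded ring homomorphisms); let C = Spec(𝒮), C' =
Spec(𝒮') be the affine cones and Φ : C' → C the morphism Spec(φ), i.e. the morphism which on the
charts over affine opens U' ⊆ q⁻¹(U) is Spec of 𝒮(U) → 𝒮'(U'); let E ⊆ C and E' ⊆ C' be the pointed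
affine cones (defined chart by chart as the complements of V(𝒮(U)_+), resp. V(𝒮'(U')_+)). Then
Proj(φ) is everywhere defined, which here means that for all affine opens U' ⊆ q⁻¹(U) the open of
Proj 𝒮'(U') where the morphism induced by 𝒮(U) → 𝒮'(U') is defined (the complement of V_+ of the
ideal generated by the image of the irrelevant ideal of 𝒮(U)) is the whole of Proj 𝒮'(U'), if and
only if the inverse image of E under Φ equals E'. -/
theorem result {Y Y' : Scheme.{u}} (q : Y' ⟶ Y) (𝒮 : RelProj.QCGrAlg Y) (𝒮' : RelProj.QCGrAlg Y')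
    (h0 : RelCone.StrZeroBij 𝒮) (h0' : RelCone.StrZeroBij 𝒮')
    (u : 𝒮.presheaf ⟶ q.base _* 𝒮'.presheaf)
    (hu : 𝒮.str ≫ u = q.c ≫ (TopCat.Presheaf.pushforward CommRingCat.{u} q.base).map 𝒮'.str)
    (φ : ∀ (U : Y.Opens) (hU : IsAffineOpen U) (U' : Y'.Opens) (hU' : IsAffineOpen U') (_ : U' ≤ q ⁻¹ᵁ U),
      𝒮.deg U hU →+*ᵍ 𝒮'.deg U' hU')
    (hφ : ∀ (U : Y.Opens) (hU : IsAffineOpen U) (U' : Y'.Opens) (hU' : IsAffineOpen U') (hle : U' ≤ q ⁻¹ᵁ U),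
      (φ U hU U' hU' hle).toRingHom =
        ((u.app (op U) : 𝒮.presheaf.obj (op U) ⟶ 𝒮'.presheaf.obj (op (q ⁻¹ᵁ U))) ≫
          𝒮'.presheaf.map (homOfLE hle).op).hom)
    (Φ : 𝒮'.toQCAlg.spec ⟶ 𝒮.toQCAlg.spec)
    (hΦ : ∀ (U : Y.Opens) (hU : IsAffineOpen U) (U' : Y'.Opens) (hU' : IsAffineOpen U') (hle : U' ≤ q ⁻¹ᵁ U),
      𝒮'.toQCAlg.ι U' hU' ≫ Φ =
        Spec.map ((u.app (op U) : 𝒮.presheaf.obj (op U) ⟶ 𝒮'.presheaf.obj (op (q ⁻¹ᵁ U))) ≫
          𝒮'.presheaf.map (homOfLE hle).op) ≫ 𝒮.toQCAlg.ι U hU) :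
    (∀ (U : Y.Opens) (hU : IsAffineOpen U) (U' : Y'.Opens) (hU' : IsAffineOpen U') (hle : U' ≤ q ⁻¹ᵁ U),
        RelCone.domOpen (φ U hU U' hU' hle) = ⊤) ↔
      Φ ⁻¹ᵁ RelCone.pointedCone 𝒮 = RelCone.pointedCone 𝒮' := by
  have hcomap : ∀ (U : Y.Opens) (hU : IsAffineOpen U) (U' : Y'.Opens) (hU' : IsAffineOpen U')
      (hle : U' ≤ q ⁻¹ᵁ U) (q' : Spec (𝒮'.presheaf.obj (op U'))),
      ((Spec.map ((u.app (op U) : 𝒮.presheaf.obj (op U) ⟶
        𝒮'.presheaf.obj (op (q ⁻¹ᵁ U))) ≫ 𝒮'.presheaf.map (homOfLE hle).op)).base q').asIdeal =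
        q'.asIdeal.comap (φ U hU U' hU' hle).toRingHom := by
    intro U hU U' hU' hle q'
    rw [hφ U hU U' hU' hle]
    rfl
  have hΦpt : ∀ (U : Y.Opens) (hU : IsAffineOpen U) (U' : Y'.Opens) (hU' : IsAffineOpen U')
      (hle : U' ≤ q ⁻¹ᵁ U) (q' : Spec (𝒮'.presheaf.obj (op U'))),
      Φ.base ((𝒮'.toQCAlg.ι U' hU').base q') = (𝒮.toQCAlg.ι U hU).base
      ((Spec.map ((u.app (op U) : 𝒮.presheaf.obj (op U) ⟶ 𝒮'.presheaf.obj (op (q ⁻¹ᵁ U))) ≫
          𝒮'.presheaf.map (homOfLE hle).op)).base q') :=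
    fun U hU U' hU' hle q' => congrArg (fun ψ => ψ.base q') (hΦ U hU U' hU' hle)
  have hmemE : ∀ (U : Y.Opens) (hU : IsAffineOpen U) (q₀ : Spec (𝒮.presheaf.obj (op U))),
      (𝒮.toQCAlg.ι U hU).base q₀ ∈ RelCone.pointedCone 𝒮 ↔
        q₀ ∈ RelCone.vertexCompl (𝒮.deg U hU) := by
    intro U hU q₀
    constructor
    · intro h
      have h2 : (𝒮.toQCAlg.ι U hU).base q₀ ∈
          RelCone.pointedCone 𝒮 ⊓ 𝒮.toQCAlg.π ⁻¹ᵁ U := by
        refine ⟨h, ?_⟩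
        change _ ∈ 𝒮.toQCAlg.π ⁻¹ᵁ U
        rw [𝒮.toQCAlg.π_preimage U hU]
        exact ⟨_, rfl⟩
      rw [Groth.Agent.Lib.Helper42.Cone.pointedCone_inf_preimage 𝒮 U hU] at h2
      obtain ⟨q₁, hq₁, hq₁e⟩ := h2
      rw [← (𝒮.toQCAlg.ι U hU).isOpenEmbedding.injective hq₁e]
      exact hq₁
    · intro h
      unfold RelCone.pointedCone
      refine TopologicalSpace.Opens.mem_iSup.mpr ⟨⟨U, hU⟩, ?_⟩
      exact ⟨q₀, h, rfl⟩
  have hmemE' : ∀ (U' : Y'.Opens) (hU' : IsAffineOpen U') (q' : Spec (𝒮'.presheaf.obj (op U'))),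
      (𝒮'.toQCAlg.ι U' hU').base q' ∈ RelCone.pointedCone 𝒮' ↔
        q' ∈ RelCone.vertexCompl (𝒮'.deg U' hU') := by
    intro U' hU' q'
    constructor
    · intro h
      have h2 : (𝒮'.toQCAlg.ι U' hU').base q' ∈
          RelCone.pointedCone 𝒮' ⊓ 𝒮'.toQCAlg.π ⁻¹ᵁ U' := by
        refine ⟨h, ?_⟩
        change _ ∈ 𝒮'.toQCAlg.π ⁻¹ᵁ U'
        rw [𝒮'.toQCAlg.π_preimage U' hU']
        exact ⟨_, rfl⟩
      rw [Groth.Agent.Lib.Helper42.Cone.pointedCone_inf_preimage 𝒮' U' hU'] at h2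
      obtain ⟨q₁, hq₁, hq₁e⟩ := h2
      rw [← (𝒮'.toQCAlg.ι U' hU').isOpenEmbedding.injective hq₁e]
      exact hq₁
    · intro h
      unfold RelCone.pointedCone
      refine TopologicalSpace.Opens.mem_iSup.mpr ⟨⟨U', hU'⟩, ?_⟩
      exact ⟨q', h, rfl⟩
  constructor
  · intro hdom
    apply le_antisymm (Groth.Agent.S8299.result q 𝒮 𝒮' h0 h0' u hu φ hφ Φ hΦ)
    intro t' ht'
    obtain ⟨U, hU, U', hU', hle, q', rfl⟩ := Groth.Agent.S8299.exists_pair q 𝒮' t'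
    have hq' := (hmemE' U' hU' q').mp ht'
    change Φ.base _ ∈ RelCone.pointedCone 𝒮
    rw [hΦpt U hU U' hU' hle q', hmemE U hU]
    replace hq' := (Groth.Agent.Lib.Helper42.Cone.mem_vertexCompl _ _).mp hq'
    rw [Groth.Agent.Lib.Helper42.Cone.mem_vertexCompl, hcomap U hU U' hU' hle q']
    intro hcon
    have hprime : ((q'.asIdeal.homogeneousCore (𝒮'.deg U' hU')).toIdeal).IsPrime :=
      Ideal.IsPrime.homogeneousCore q'.isPrime
    have hnot : ¬ HomogeneousIdeal.irrelevant (𝒮'.deg U' hU') ≤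
        q'.asIdeal.homogeneousCore (𝒮'.deg U' hU') := by
      intro h
      exact hq' (le_trans h (Ideal.toIdeal_homogeneousCore_le (𝒮'.deg U' hU') q'.asIdeal))
    let y : Proj (𝒮'.deg U' hU') := ⟨q'.asIdeal.homogeneousCore (𝒮'.deg U' hU'), hprime, hnot⟩
    have hy : y ∈ RelCone.domOpen (φ U hU U' hU' hle) := by
      rw [hdom U hU U' hU' hle]; trivial
    obtain ⟨f, hf, hfy⟩ := (RelCone.mem_domOpen _ _).mp hy
    obtain ⟨d, hd, fd, hfd, hfdy⟩ := Groth.Agent.Lib.Helper42.ProjQ.exists_homogeneous_notMem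
      (φ U hU U' hU' hle) y.asHomogeneousIdeal.toIdeal hf hfy
    apply hfdy
    have h3 : (φ U hU U' hU' hle) fd ∈ q'.asIdeal :=
      hcon (HomogeneousIdeal.mem_irrelevant_of_mem _ hd hfd)
    exact Ideal.mem_homogeneousCore_of_homogeneous_of_mem
      ⟨d, GradedFunLike.map_mem (φ U hU U' hU' hle) hfd⟩ h3
  · intro hE U hU U' hU' hle
    rw [eq_top_iff]
    intro y _
    let q' : Spec (𝒮'.presheaf.obj (op U')) := ⟨y.asHomogeneousIdeal.toIdeal, y.isPrime⟩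
    have hq' : q' ∈ RelCone.vertexCompl (𝒮'.deg U' hU') := by
      rw [Groth.Agent.Lib.Helper42.Cone.mem_vertexCompl]
      exact y.not_irrelevant_le
    have h1 : (𝒮'.toQCAlg.ι U' hU').base q' ∈ RelCone.pointedCone 𝒮' := (hmemE' U' hU' q').mpr hq'
    rw [← hE] at h1
    have h2 : Φ.base ((𝒮'.toQCAlg.ι U' hU').base q') ∈ RelCone.pointedCone 𝒮 := h1
    rw [hΦpt U hU U' hU' hle q', hmemE U hU] at h2
    replace h2 := (Groth.Agent.Lib.Helper42.Cone.mem_vertexCompl _ _).mp h2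
    rw [hcomap U hU U' hU' hle q'] at h2
    obtain ⟨f, hf, hfq⟩ := SetLike.not_le_iff_exists.mp h2
    exact (RelCone.mem_domOpen _ _).mpr ⟨f, hf, hfq⟩

end Groth.Agent.S8300
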