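import Groth.Statements.S8304
import Groth.Agent.Lib.Helper42.SymCone
import Groth.Agent.Lib.QCoh.Helper50_Products
import Groth.Agent.Lib.QCoh.Invertible
-- import your own Groth.Agent.* helpers here

set_option autoImplicit false
universe u
open CategoryTheory CategoryTheory.Limits AlgebraicGeometry Opposite TopologicalSpace
open scoped HomogeneousIdeal
noncomputable section
open EGA2

namespace Groth.Agent.S8304

/-- At the level of graded algebras: let E be a quasi-coherent O_Y-module and 𝒮 = Sym(E) its graded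
symmetric algebra (j : E → 𝒮 landing in degree one), and let Ŝ = 𝒮[z] be given through a graded
homomorphism ι : 𝒮 → Ŝ and a global section z of degree one with 𝒮(U)[X] → Ŝ(U), X ↦ z, bijective
over every affine open U. If k : O_Y → Ŝ is a module homomorphism sending the unit section to z over
every open, then Ŝ together with the map E ⊕ O_Y → Ŝ whose components are j followed by ι, and k, is
the graded symmetric algebra of E ⊕ O_Y. Consequently the projective cone of V(E) = Spec(Sym E),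
which is Proj(Ŝ), is the projective bundle P(E ⊕ O_Y), and its locus at infinity Proj(𝒮) is P(E). -/
theorem result {Y : Scheme.{u}} (E : Y.Modules) (hE : Coh.IsQCoh E)
    (𝒮 𝒮h : RelProj.QCGrAlg Y) (j : E ⟶ 𝒮.toModule) (hS : RelProj.IsGrSymAlg E 𝒮 j)
    (ι : 𝒮.toQCAlg ⟶ 𝒮h.toQCAlg) (z : 𝒮h.presheaf.obj (op ⊤)) (hz : RelCone.IsPolyOver 𝒮 𝒮h ι z)
    (k : Coh.structureModule Y ⟶ 𝒮h.toModule)
    (hk : ∀ U : Y.Opens, (k.app U) (1 : Γ(Y, U)) = RelCone.restrictTop 𝒮h z U) :
    RelProj.IsGrSymAlg (E ⊞ Coh.structureModule Y) 𝒮h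
      (biprod.desc (j ≫ RelSpec.QCAlg.Hom.toModuleMap ι) k) := by
  haveI : E.IsQuasicoherent := hE
  haveI : (Coh.structureModule Y).IsQuasicoherent :=
    Groth.Agent.Lib.QCoh.isQuasicoherent_of_isInvertible
      (Groth.Agent.Lib.QCoh.isInvertible_structureModule Y)
  haveI : (E ⊞ Coh.structureModule Y).IsQuasicoherent :=
    Groth.Agent.Lib.QCoh.isQuasicoherent_biprod E (Coh.structureModule Y)
  refine ⟨Groth.Agent.Lib.Helper42.SymAlg.isSymAlg_of_bijective_tauU (E ⊞ Coh.structureModule Y)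
    (fun U hU => Groth.Agent.Lib.Helper42.SymAlg.bijective_tauU_cone k hk hS hz U hU), ?_⟩
  intro U hU x
  have hx := Groth.Agent.Lib.Helper42.SymAlg.total_O (E := E) U x
  have h1 : ∀ a : Γ(E, U), ((biprod.desc (j ≫ RelSpec.QCAlg.Hom.toModuleMap ι) k).app U)
      ((biprod.inl : E ⟶ E ⊞ Coh.structureModule Y).app U a) ∈ 𝒮h.deg U hU 1 := by
    intro a
    have e1 : (biprod.inl : E ⟶ E ⊞ Coh.structureModule Y) ≫
        biprod.desc (j ≫ RelSpec.QCAlg.Hom.toModuleMap ι) k =
        j ≫ RelSpec.QCAlg.Hom.toModuleMap ι := biprod.inl_desc _ _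
    have e2 := congrArg (fun f => f.app U a) e1
    refine (show _ = _ from e2) ▸ ?_
    exact hz.graded U hU 1 _ (hS.2 U hU a)
  have h2 : ((biprod.desc (j ≫ RelSpec.QCAlg.Hom.toModuleMap ι) k).app U)
      (Groth.Agent.Lib.Helper42.SymAlg.eO (E := E) U) ∈ 𝒮h.deg U hU 1 := by
    have e1 : (biprod.inr : Coh.structureModule Y ⟶ E ⊞ Coh.structureModule Y) ≫
        biprod.desc (j ≫ RelSpec.QCAlg.Hom.toModuleMap ι) k = k := biprod.inr_desc _ _
    have e2 := congrArg (fun f => f.app U (1 : Γ(Y, U))) e1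
    refine (show _ = _ from e2) ▸ ?_
    rw [hk U]
    exact hz.deg_z U hU
  rw [← hx, map_add]
  refine AddSubgroup.add_mem _ (h1 _) ?_
  rw [Scheme.Modules.Hom.app_smul]
  have h3 : ∀ (r : Γ(Y, U)) (y : 𝒮h.presheaf.obj (op U)), y ∈ 𝒮h.deg U hU 1 →
      (r • (show Γ(𝒮h.toModule, U) from y) : Γ(𝒮h.toModule, U)) ∈ 𝒮h.deg U hU 1 := by
    intro r y hy
    have h4 : (r • (show Γ(𝒮h.toModule, U) from y) : Γ(𝒮h.toModule, U)) =
        (𝒮h.str.app (op U)).hom r * y := rfl
    rw [h4]
    have := SetLike.mul_mem_graded (𝒮h.str_mem U hU r) hy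
    rwa [zero_add] at this
  exact h3 _ _ h2

end Groth.Agent.S8304
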