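import Groth.Statements.S8305
import Groth.Agent.Lib.Helper42.QCohIso
import Groth.Agent.Lib.QCoh.Helper50_Pushforward
import Mathlib.AlgebraicGeometry.Morphisms.IsIso
-- import your own Groth.Agent.* helpers here

set_option autoImplicit false
universe u
open CategoryTheory CategoryTheory.Limits AlgebraicGeometry Opposite TopologicalSpace
noncomputable section
open EGA2

namespace Groth.Agent.S8305

theorem algHom_app_rfl {X Y S : Scheme.{u}} (gX : X ⟶ S) (h : Y ⟶ X) (U : S.Opens) :
    (AffAlg.algHom gX (h ≫ gX) h rfl).app (op U) = h.app (gX ⁻¹ᵁ U) := by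
  change h.app (gX ⁻¹ᵁ U) ≫ 𝟙 _ = _
  exact Category.comp_id _

theorem isIso_app_of_eq {X Y : Scheme.{u}} (h : Y ⟶ X) {V W : X.Opens} (e : W = V)
    (hV : IsIso (h.app V)) : IsIso (h.app W) := by
  subst e; exact hV

set_option backward.isDefEq.respectTransparency false in
theorem isIso_of_affine {X Y S : Scheme.{u}} (gX : X ⟶ S) [IsAffineHom gX] (h : Y ⟶ X)
    [IsAffineHom (h ≫ gX)]
    (hA : ∀ (U : S.Opens), IsAffineOpen U → IsIso (h.app (gX ⁻¹ᵁ U))) : IsIso h := by
  refine HasAffineProperty.of_iSup_eq_top (P := MorphismProperty.isomorphisms Scheme)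
    (fun i : S.affineOpens => (⟨gX ⁻¹ᵁ i.1, i.2.preimage gX⟩ : X.affineOpens)) ?_ ?_
  · rw [eq_top_iff]
    intro x _
    obtain ⟨W, hW, hxW, -⟩ := Opens.isBasis_iff_nbhd.1 S.isBasis_affineOpens
      (show gX.base x ∈ (⊤ : S.Opens) from trivial)
    exact Opens.mem_iSup.2 ⟨⟨W, hW⟩, hxW⟩
  · intro i
    refine ⟨?_, ?_⟩
    · exact (i.2.preimage (h ≫ gX) : IsAffineOpen ((h ≫ gX) ⁻¹ᵁ i.1))
    · rw [morphismRestrict_appTop]
      have : IsIso (h.app ((gX ⁻¹ᵁ i.1).ι ''ᵁ ⊤)) :=
        isIso_app_of_eq h (Scheme.Opens.ι_image_top _) (hA i.1 i.2)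
      infer_instance

/-- Let X and Y be schemes affine over S with structure morphisms gX and gY, h : Y → X a morphism over
S, F a quasi-coherent O_X-module, G a quasi-coherent O_Y-module and v : F → h_*G a homomorphism of
O_X-modules, so that (h, v) is a morphism of pairs (Y, G) → (X, F). Then h and v are isomorphisms if
and only if the direct-image algebra homomorphism A(h) : gX_*O_X → gY_*O_Y and the direct image A(v)
= gX_*(v) : gX_*F → gX_*h_*G are isomorphisms (the pair (A(h), A(v)) is a di-isomorphism). -/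
theorem result {X Y S : Scheme.{u}} (gX : X ⟶ S) [IsAffineHom gX]
    (gY : Y ⟶ S) [IsAffineHom gY] (h : Y ⟶ X) (hh : h ≫ gX = gY)
    (F : X.Modules) (G : Y.Modules) (hF : Coh.IsQCoh F) (hG : Coh.IsQCoh G)
    (v : F ⟶ (Scheme.Modules.pushforward h).obj G) :
    (IsIso h ∧ IsIso v) ↔
      (IsIso (AffAlg.algHom gX gY h hh) ∧ IsIso ((Scheme.Modules.pushforward gX).map v)) := by
  subst hh
  have : F.IsQuasicoherent := hF
  have : G.IsQuasicoherent := hG
  constructor
  · rintro ⟨hh1, hv⟩
    have := hh1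
    have := hv
    refine ⟨?_, inferInstance⟩
    have key : ∀ U : S.Opens, IsIso ((AffAlg.algHom gX (h ≫ gX) h rfl).app (op U)) := by
      intro U
      have h1 : IsIso (h.app (gX ⁻¹ᵁ U)) := inferInstance
      rw [algHom_app_rfl]
      exact h1
    have : ∀ U : (Opens S)ᵒᵖ, IsIso ((AffAlg.algHom gX (h ≫ gX) h rfl).app U) :=
      fun U => key U.unop
    exact NatIso.isIso_of_isIso_app _
  · rintro ⟨hA, hv⟩
    have := hA
    have := hv
    have hiso : IsIso h := by
      refine isIso_of_affine gX h (fun U _ => ?_)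
      have h1 : IsIso ((AffAlg.algHom gX (h ≫ gX) h rfl).app (op U)) :=
        NatIso.isIso_app_of_isIso _ _
      rw [algHom_app_rfl] at h1
      exact h1
    refine ⟨hiso, ?_⟩
    have := Groth.Agent.Lib.QCoh.isQuasicoherent_pushforward_of_isIso h G
    refine Groth.Agent.Lib.Helper42.QCohIso.isIso_of_bijective_affine_cover v
      (fun i : S.affineOpens => gX ⁻¹ᵁ i.1) (fun i => i.2.preimage gX) ?_ ?_
    · intro x
      obtain ⟨W, hW, hxW, -⟩ := Opens.isBasis_iff_nbhd.1 S.isBasis_affineOpens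
        (show gX.base x ∈ (⊤ : S.Opens) from trivial)
      exact ⟨⟨W, hW⟩, hxW⟩
    · intro i
      have h1 : IsIso (((Scheme.Modules.pushforward gX).map v).app i.1) := inferInstance
      exact (ConcreteCategory.isIso_iff_bijective _).1 h1

end Groth.Agent.S8305
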