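import Groth.Statements.S8306
import Groth.Agent.Lib.QCoh.Helper50_AffineDict
import Groth.Agent.Lib.Helper42.ModAff
-- import your own Groth.Agent.* helpers here

set_option autoImplicit false
universe u
open CategoryTheory CategoryTheory.Limits AlgebraicGeometry Opposite TopologicalSpace
noncomputable section
open EGA2

namespace Groth.Agent.S8306

/-- Exactness: in the form it takes for the direct image: let f : X → S be an affine morphism and v : F
→ G an epimorphism between quasi-coherent O_X-modules. Then the direct image f_*(v) : f_*F → f_*G, a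
homomorphism of modules over the direct-image algebra f_*O_X, is again an epimorphism. (The
published statement says that the module on X attached to a quasi-coherent f_*O_X-module is an exact
functor of that module; since this functor is inverse to the direct image on quasi-coherent modules
and the direct image is left exact, its exactness amounts to the direct image preserving
epimorphisms between quasi-coherent modules.) -/
theorem result {X S : Scheme.{u}} (f : X ⟶ S) [IsAffineHom f]
    (F G : X.Modules) (hF : Coh.IsQCoh F) (hG : Coh.IsQCoh G) (v : F ⟶ G) [Epi v] :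
    Epi ((AMod.dirImg f).map v) := by
  have : F.IsQuasicoherent := hF
  have : G.IsQuasicoherent := hG
  rw [Preadditive.epi_iff_cancel_zero]
  intro Q χ hχ
  have key : ∀ (U : S.Opens) (hU : IsAffineOpen U)
      (t : ((AMod.dirImg f).obj G).val.obj (op U)), (χ.val.app (op U)).hom t = 0 := by
    intro U hU t
    obtain ⟨m, hm⟩ := Groth.Agent.Lib.QCoh.surjective_app_of_epi v (hU.preimage f) t
    have h1 := congrArg (fun ψ => (ψ.val.app (op U)).hom m) hχ
    rw [← hm]
    exact h1
  apply SheafOfModules.hom_ext
  apply PresheafOfModules.hom_ext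
  intro W
  ext s
  let ι := {U : S.Opens // IsAffineOpen U ∧ U ≤ W.unop}
  refine TopCat.Sheaf.eq_of_locally_eq' (⟨Q.val.presheaf, Q.isSheaf⟩ : TopCat.Sheaf Ab S.carrier)
    (fun i : ι => i.1) W.unop (fun i => homOfLE i.2.2) ?_ _ _ (fun i => ?_)
  · intro x hx
    obtain ⟨U, hU, hxU, hUW⟩ := Opens.isBasis_iff_nbhd.1 S.isBasis_affineOpens hx
    exact Opens.mem_iSup.2 ⟨⟨U, hU, hUW⟩, hxU⟩
  · have n1 := PresheafOfModules.naturality_apply χ.val (homOfLE i.2.2).op s
    have h0 : (Q.val.presheaf.map (homOfLE i.2.2).op)
        ((ModuleCat.Hom.hom ((SheafOfModules.Hom.val (0 : (AMod.dirImg f).obj G ⟶ Q)).app W)) s) = 0 :=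
      map_zero _
    refine Eq.trans ?_ h0.symm
    refine Eq.trans n1.symm ?_
    exact key i.1 i.2.1 _

end Groth.Agent.S8306
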