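import Groth.Statements.S8309
import Groth.Agent.Lib.Helper42.ConeImm
-- import your own Groth.Agent.* helpers here

set_option autoImplicit false
universe u
open CategoryTheory CategoryTheory.Limits AlgebraicGeometry Opposite TopologicalSpace
open scoped HomogeneousIdeal
noncomputable section
open EGA2

namespace Groth.Agent.S8309

/-- The canonical retraction of the pointed affine cone: let 𝒮 be a quasi-coherent positively graded
O_Y-algebra with 𝒮_0 = O_Y, Ŝ = 𝒮[z] (graded homomorphism ι : 𝒮 → Ŝ and a degree-one global section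
z, polynomial over affine opens), C = Spec(𝒮), X = Proj(𝒮) and Ĉ = Proj(Ŝ) with their charts, E ⊆ C
and Ê ⊆ Ĉ the pointed cones, i : C → Ĉ the canonical open immersion and p : Ê → X the canonical
retraction (the morphism which on each affine piece Spec Ŝ(U)_(ι f), f ∈ 𝒮(U) homogeneous of
positive degree, is Spec of 𝒮(U)_(f) → Ŝ(U)_(ι f) followed by the chart of X). Then the image of E
under i lies in Ê, and for the induced morphism i' : E → Ê the composite π = i' ≫ p : E → X is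
affine and surjective. -/
theorem result {Y PC P : Scheme.{u}} (𝒮 𝒮h : RelProj.QCGrAlg Y) (h0 : RelCone.StrZeroBij 𝒮)
    (ι : 𝒮.toQCAlg ⟶ 𝒮h.toQCAlg) (z : 𝒮h.presheaf.obj (op ⊤)) (hz : RelCone.IsPolyOver 𝒮 𝒮h ι z)
    (pC : PC ⟶ Y)
    (chartC : ∀ (U : Y.Opens) (hU : IsAffineOpen U), (((pC ⁻¹ᵁ U : PC.Opens) : Scheme.{u}) ≅ Proj (𝒮h.deg U hU)))
    (hPC : RelProj.IsRelProj 𝒮h pC chartC)
    (p : P ⟶ Y)
    (chart : ∀ (U : Y.Opens) (hU : IsAffineOpen U), (((p ⁻¹ᵁ U : P.Opens) : Scheme.{u}) ≅ Proj (𝒮.deg U hU)))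
    (hP : RelProj.IsRelProj 𝒮 p chart)
    (i : 𝒮.toQCAlg.spec ⟶ PC) (hi : RelCone.IsConeImm 𝒮 hz pC chartC i)
    (r : ((RelCone.pointedProjCone 𝒮 hz pC chartC : PC.Opens) : Scheme.{u}) ⟶ P)
    (hr : (∀ (U : Y.Opens) (hU : IsAffineOpen U) (d : ℕ) (hd : 0 < d) (f : 𝒮.presheaf.obj (op U)) (hf : f ∈ 𝒮.deg U hU d)
        (g : Spec (CommRingCat.of (HomogeneousLocalization.Away (𝒮h.deg U hU) ((RelProj.gradedHomAt ι hz.graded U hU) f))) ⟶
          ((RelCone.pointedProjCone 𝒮 hz pC chartC : PC.Opens) : Scheme.{u})),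
        g ≫ (RelCone.pointedProjCone 𝒮 hz pC chartC).ι =
            Proj.awayι (𝒮h.deg U hU) ((RelProj.gradedHomAt ι hz.graded U hU) f) ((RelProj.gradedHomAt ι hz.graded U hU).2 hf) hd ≫
              RelProj.emb pC chartC U hU →
          g ≫ r =
            Spec.map (CommRingCat.ofHom (HomogeneousLocalization.Away.map (RelProj.gradedHomAt ι hz.graded U hU) f)) ≫
              Proj.awayι (𝒮.deg U hU) f hf hd ≫ RelProj.emb p chart U hU)) :
    (RelCone.pointedCone 𝒮 : 𝒮.toQCAlg.spec.Opens) ≤ i ⁻¹ᵁ (RelCone.pointedProjCone 𝒮 hz pC chartC) ∧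
      ∀ i' : ((RelCone.pointedCone 𝒮 : 𝒮.toQCAlg.spec.Opens) : Scheme.{u}) ⟶ ((RelCone.pointedProjCone 𝒮 hz pC chartC : PC.Opens) : Scheme.{u}),
        i' ≫ (RelCone.pointedProjCone 𝒮 hz pC chartC).ι = (RelCone.pointedCone 𝒮).ι ≫ i →
          IsAffineHom (i' ≫ r) ∧ Function.Surjective (i' ≫ r).base := by
  have hrR : Groth.Agent.Lib.Helper42.Cone.IsRetr hz p chart r := hr
  refine ⟨Groth.Agent.Lib.Helper42.Cone.pointedCone_le_preimage hz hi, ?_⟩
  intro i' hi'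
  obtain ⟨hraff, hrsurj, hrcomp⟩ := Groth.Agent.Lib.Helper42.Cone.isRetr_props hz hPC hP hrR
  have hicomp := Groth.Agent.Lib.Helper42.Cone.coneImm_comp hz hPC hi
  have hover : ∀ (t : ((RelCone.pointedCone 𝒮 : 𝒮.toQCAlg.spec.Opens) : Scheme.{u}))
      (U : Y.Opens) (hU : IsAffineOpen U), p.base ((i' ≫ r).base t) ∈ U →
      ∃ q ∈ RelCone.vertexCompl (𝒮.deg U hU),
        (RelCone.pointedCone 𝒮).ι.base t = (𝒮.toQCAlg.ι U hU).base q := by
    intro t U hU ht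
    have h1 : (i' ≫ r) ≫ p = (RelCone.pointedCone 𝒮).ι ≫ 𝒮.toQCAlg.π := by
      rw [Category.assoc, hrcomp, ← Category.assoc, hi', Category.assoc, hicomp]
    have h2 := congrArg (fun φ => φ.base t) h1
    simp only [Scheme.Hom.comp_base, TopCat.comp_app] at h2
    have h3 : (RelCone.pointedCone 𝒮).ι.base t ∈
        RelCone.pointedCone 𝒮 ⊓ 𝒮.toQCAlg.π ⁻¹ᵁ U := by
      refine ⟨t.2, ?_⟩
      change 𝒮.toQCAlg.π.base ((RelCone.pointedCone 𝒮).ι.base t) ∈ U
      rw [← h2]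
      exact ht
    rw [Groth.Agent.Lib.Helper42.Cone.pointedCone_inf_preimage 𝒮 U hU] at h3
    obtain ⟨q, hq, hqt⟩ := h3
    exact ⟨q, hq, hqt.symm⟩
  constructor
  · apply isAffineHom_of_forall_exists_isAffineOpen
    intro x
    obtain ⟨j, hj⟩ := Groth.Agent.Lib.Helper42.ProjQ.pchart_covers (p := p) (chart := chart) x
    obtain ⟨U, hU, d, hd, f, hf⟩ := j
    refine ⟨(Groth.Agent.Lib.Helper42.ProjQ.PIdx.pchart p chart ⟨U, hU, d, hd, f, hf⟩).opensRange,
      hj, isAffineOpen_opensRange _, ?_⟩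
    have hAle : (𝒮.toQCAlg.ι U hU) ''ᵁ (PrimeSpectrum.basicOpen f) ≤ RelCone.pointedCone 𝒮 := by
      rintro _ ⟨q, hq, rfl⟩
      unfold RelCone.pointedCone
      refine TopologicalSpace.Opens.mem_iSup.mpr ⟨⟨U, hU⟩, ?_⟩
      refine ⟨q, ?_, rfl⟩
      refine (Groth.Agent.Lib.Helper42.Cone.mem_vertexCompl (𝒮.deg U hU) q).mpr ?_
      intro hle
      exact hq (hle (HomogeneousIdeal.mem_irrelevant_of_mem _ hd hf))
    have hset : (i' ≫ r) ⁻¹ᵁ
        (Groth.Agent.Lib.Helper42.ProjQ.PIdx.pchart p chart ⟨U, hU, d, hd, f, hf⟩).opensRange =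
        (RelCone.pointedCone 𝒮).ι ⁻¹ᵁ ((𝒮.toQCAlg.ι U hU) ''ᵁ (PrimeSpectrum.basicOpen f)) := by
      ext t
      constructor
      · rintro ⟨w₀, hw₀⟩
        have hw₀' : (RelProj.emb p chart U hU).base
            ((Proj.awayι (𝒮.deg U hU) f hf hd).base w₀) = (i' ≫ r).base t := hw₀
        have htU : p.base ((i' ≫ r).base t) ∈ U := by
          have h2 : (i' ≫ r).base t ∈ Set.range (RelProj.emb p chart U hU).base := ⟨_, hw₀'⟩
          rw [Groth.Agent.Lib.Helper42.ProjQ.range_emb] at h2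
          exact h2
        obtain ⟨q, hqv, hq⟩ := hover t U hU htU
        have hfq := (Groth.Agent.Lib.Helper42.Cone.retr_apply_mem_iff hz hi hrR hi' t U hU q hq hqv
          hd hf).mp ⟨_, (Proj.opensRange_awayι (𝒮.deg U hU) f hf hd).le ⟨w₀, rfl⟩, hw₀'⟩
        exact ⟨q, hfq, hq.symm⟩
      · rintro ⟨q, hfq, hq⟩
        have hfq' : f ∉ q.asIdeal := hfq
        obtain ⟨w, -, hπ⟩ := Groth.Agent.Lib.Helper42.Cone.exists_retr_apply hz hi hrR hi' t U hU q
          hq.symm hd hf hfq'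
        exact ⟨_, hπ.symm⟩
    rw [hset]
    refine IsAffineOpen.preimage_of_isOpenImmersion
      ((IsAffineOpen.Spec_basicOpen f).image_of_isOpenImmersion (𝒮.toQCAlg.ι U hU))
      (RelCone.pointedCone 𝒮).ι ?_
    rw [Scheme.Opens.opensRange_ι]
    exact hAle
  · intro x
    obtain ⟨U, hU, hxU⟩ : ∃ U : Y.Opens, IsAffineOpen U ∧ p.base x ∈ U := by
      obtain ⟨_, ⟨V, hV, rfl⟩, hxV, -⟩ := (Y.isBasis_affineOpens).exists_subset_of_mem_open
        (Set.mem_univ (p.base x)) isOpen_univ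
      exact ⟨V, hV, hxV⟩
    have hx : x ∈ Set.range (RelProj.emb p chart U hU).base := by
      rw [Groth.Agent.Lib.Helper42.ProjQ.range_emb]; exact hxU
    obtain ⟨y, rfl⟩ := hx
    -- the homogeneous prime `y` as a point of `Spec 𝒮(U)`
    let q : Spec (𝒮.presheaf.obj (op U)) := ⟨y.asHomogeneousIdeal.toIdeal, y.isPrime⟩
    have hqv : q ∈ RelCone.vertexCompl (𝒮.deg U hU) :=
      (Groth.Agent.Lib.Helper42.Cone.mem_vertexCompl (𝒮.deg U hU) q).mpr y.not_irrelevant_le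
    have htE : (𝒮.toQCAlg.ι U hU).base q ∈ RelCone.pointedCone 𝒮 := by
      unfold RelCone.pointedCone
      exact TopologicalSpace.Opens.mem_iSup.mpr ⟨⟨U, hU⟩, ⟨q, hqv, rfl⟩⟩
    let t : ((RelCone.pointedCone 𝒮 : 𝒮.toQCAlg.spec.Opens) : Scheme.{u}) :=
      ⟨(𝒮.toQCAlg.ι U hU).base q, htE⟩
    have hq : (RelCone.pointedCone 𝒮).ι.base t = (𝒮.toQCAlg.ι U hU).base q := rfl
    refine ⟨t, ?_⟩
    obtain ⟨f₀, hf₀, hf₀q⟩ := SetLike.not_le_iff_exists.mp y.not_irrelevant_le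
    obtain ⟨d, hd, f, hf, hfq⟩ := Groth.Agent.Lib.Helper42.ProjDom.exists_pos_deg_notMem
      (𝒜 := 𝒮.deg U hU) y.asHomogeneousIdeal.toIdeal hf₀ hf₀q
    obtain ⟨w, hw, hπ⟩ := Groth.Agent.Lib.Helper42.Cone.exists_retr_apply hz hi hrR hi' t U hU q
      hq hd hf hfq
    rw [hπ]
    congr 1
    apply Groth.Agent.Lib.Helper42.PolyGraded.proj_ext_of_pos
    intro e he g hg
    have h1 := Groth.Agent.Lib.Helper42.Cone.retr_apply_mem_iff hz hi hrR hi' t U hU q hq hqv he hg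
    rw [hπ] at h1
    constructor
    · intro hgy'
      by_contra hgy
      have hgq : g ∉ q.asIdeal := hgy
      obtain ⟨y₂, hy₂, hy₂e⟩ := h1.mpr hgq
      have := Groth.Agent.Lib.Helper42.ProjQ.emb_injective (p := p) (chart := chart) U hU hy₂e
      rw [this] at hy₂
      exact hy₂ hgy'
    · intro hgy
      by_contra hgy'
      have : g ∉ q.asIdeal := h1.mp ⟨_, hgy', rfl⟩
      exact this hgy

end Groth.Agent.S8309
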