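import Groth.Statements.S8312
import Groth.Agent.Lib.Helper42.Natural
import Groth.Agent.Lib.Helper42.GradedGen
-- import your own Groth.Agent.* helpers here

set_option autoImplicit false
universe u
open scoped HomogeneousIdeal
open EGA2

namespace Groth.Agent.S8312


open Groth.Agent.Lib.Helper42 in
/-- core: a homogeneous element of `S_m` placed in degree `n ≤ m`, `0 < n`, lies in the radical. -/
lemma core {R A B : Type u} [CommRing R] [CommRing A] [Algebra R A]
    (𝒜 : ℕ → Submodule R A) [GradedAlgebra 𝒜] [CommRing B] [Algebra R B]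
    (ℬ : ℕ → Submodule R B) [GradedAlgebra ℬ]
    (φ : B →ₐ[R] Polynomial A) (hφ : Function.Injective φ)
    (hdeg : ∀ n : ℕ, Submodule.map φ.toLinearMap (ℬ n) =
      Submodule.map (Natural.mu R n) (Natural.age 𝒜 n))
    {ι : Type u} (d : ι → ℕ) (f : ι → A) (hf : ∀ a, f a ∈ 𝒜 (d a))
    (hrad : ∀ g ∈ (HomogeneousIdeal.irrelevant 𝒜).toIdeal,
      ∃ n : ℕ, 0 < n ∧ g ^ n ∈ Ideal.span (Set.range f))
    (fn : ι → B) (hfn : ∀ a, φ (fn a) = Polynomial.monomial (d a) (f a))
    {n m : ℕ} (hn : 0 < n) (hnm : n ≤ m) {x : A} (hx : x ∈ 𝒜 m) {b : B}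
    (hb : φ b = Polynomial.monomial n x) :
    b ∈ (Ideal.span (Set.range fn)).radical := by
  classical
  have hφmem : ∀ n (a : A), a ∈ Natural.age 𝒜 n → ∃ b ∈ ℬ n, φ b = Polynomial.monomial n a := by
    intro n a ha
    have h : Natural.mu R n a ∈ Submodule.map (Natural.mu R n) (Natural.age 𝒜 n) := ⟨a, ha, rfl⟩
    rw [← hdeg n] at h
    obtain ⟨b, hb, hb'⟩ := h
    exact ⟨b, hb, hb'⟩
  have hxirr : x ∈ (HomogeneousIdeal.irrelevant 𝒜).toIdeal :=
    HomogeneousIdeal.mem_irrelevant_of_mem 𝒜 (lt_of_lt_of_le hn hnm) hx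
  obtain ⟨k, hk, hxk⟩ := hrad x hxirr
  rcases isEmpty_or_nonempty ι with hι | hι
  · have h0 : x ^ k = 0 := by
      have : Set.range f = ∅ := Set.range_eq_empty f
      rw [this, Ideal.span_empty] at hxk
      exact hxk
    rw [Ideal.mem_radical_iff]
    refine ⟨k, ?_⟩
    have : b ^ k = 0 := hφ (by rw [map_pow, hb, Polynomial.monomial_pow, h0, map_zero, map_zero])
    rw [this]
    exact Ideal.zero_mem _
  -- finite subfamily
  obtain ⟨c, hc⟩ := (Finsupp.mem_span_range_iff_exists_finsupp).1 hxk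
  have hxk' : x ^ k ∈ Ideal.span ((c.support.image f : Finset A) : Set A) := by
    rw [← hc, Finsupp.sum]
    refine Submodule.sum_mem _ (fun a ha => ?_)
    rw [smul_eq_mul]
    exact Ideal.mul_mem_left _ _ (Ideal.subset_span (Finset.mem_coe.2 (Finset.mem_image_of_mem f ha)))
  -- choose an index for each generator
  have hidx : ∀ g ∈ c.support.image f, ∃ a, f a = g := by
    intro g hg
    obtain ⟨a, -, rfl⟩ := Finset.mem_image.1 hg
    exact ⟨a, rfl⟩
  choose! idx hidxf using hidx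
  have hgdeg : ∀ g ∈ c.support.image f, g ∈ 𝒜 (d (idx g)) := by
    intro g hg
    have := hf (idx g)
    rwa [hidxf g hg] at this
  have hxkm : x ^ k ∈ 𝒜 (k • m) := SetLike.pow_mem_graded k hx
  obtain ⟨y, hy1, hy2, hxy⟩ := GradedGen.exists_decomp_of_mem_span 𝒜 (c.support.image f)
    (fun g => d (idx g)) hgdeg hxkm hxk'
  -- bound on the degrees
  obtain ⟨D, hD⟩ : ∃ D : ℕ, ∀ g ∈ c.support.image f, d (idx g) ≤ D :=
    ⟨(c.support.image f).sup (fun g => d (idx g)), fun g hg => Finset.le_sup (f := fun g => d (idx g)) hg⟩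
  have hk1 : 1 ≤ k := hk
  have hn1 : 1 ≤ n := hn
  -- the coefficients in `B`
  have hw : ∀ g ∈ c.support.image f, ∃ w : B,
      φ w = Polynomial.monomial (n * (k * (D + 1)) - d (idx g)) (x ^ (k * D) * y g) := by
    intro g hg
    by_cases hle : d (idx g) ≤ k • m
    · have h1 : x ^ (k * D) * y g ∈ 𝒜 ((k * D) • m + (k • m - d (idx g))) :=
        SetLike.mul_mem_graded (SetLike.pow_mem_graded (k * D) hx) (hy1 g hg hle)
      have h2 : n * (k * (D + 1)) - d (idx g) ≤ (k * D) • m + (k • m - d (idx g)) := by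
        simp only [smul_eq_mul] at hle ⊢
        have h3 : n * (k * (D + 1)) ≤ m * (k * (D + 1)) := Nat.mul_le_mul_right _ hnm
        have h4 : m * (k * (D + 1)) = k * D * m + k * m := by ring
        omega
      obtain ⟨w, -, hw⟩ := hφmem _ _ (Natural.le_age 𝒜 h2 h1)
      exact ⟨w, hw⟩
    · exact ⟨0, by rw [hy2 g hg hle, mul_zero, map_zero, map_zero]⟩
  choose! w hw using hw
  rw [Ideal.mem_radical_iff] 
  refine ⟨k * (D + 1), ?_⟩
  have hbN : b ^ (k * (D + 1)) = ∑ g ∈ c.support.image f, w g * fn (idx g) := by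
    apply hφ
    rw [map_pow, hb, map_sum, Polynomial.monomial_pow]
    have h5 : x ^ (k * (D + 1)) = ∑ g ∈ c.support.image f, x ^ (k * D) * y g * g := by
      rw [mul_add, mul_one, pow_add, hxy, Finset.mul_sum]
      exact Finset.sum_congr rfl (fun g _ => by ring)
    rw [h5, map_sum]
    refine Finset.sum_congr rfl (fun g hg => ?_)
    rw [map_mul φ (w g) (fn (idx g)), hw g hg, hfn, hidxf g hg, Polynomial.monomial_mul_monomial]
    have h6 : d (idx g) ≤ D := hD g hg
    have h7 : D + 1 ≤ n * (k * (D + 1)) := by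
      calc D + 1 = 1 * (1 * (D + 1)) := by ring
        _ ≤ n * (k * (D + 1)) := Nat.mul_le_mul hn1 (Nat.mul_le_mul_right _ hk1)
    have h8 : n * (k * (D + 1)) - d (idx g) + d (idx g) = n * (k * (D + 1)) := by omega
    rw [h8]
  rw [hbN]
  refine Submodule.sum_mem _ (fun g _ => ?_)
  exact Ideal.mul_mem_left _ _ (Ideal.subset_span ⟨idx g, rfl⟩)

/-- Let S be a positively graded ring (an ℕ-graded R-algebra) and S♮ the graded ring with S♮_n = S_[n] =
⊕_{m ≥ n} S_m, presented as a graded ring S' with an injective algebra homomorphism φ : S' → S[X]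
carrying S'_n onto S_[n]·X^n; for a homogeneous f ∈ S_d write f♮ for the element of S' with φ(f♮) =
f·X^d (f placed in degree d of S♮). If (f_α) is a family of homogeneous elements of S of positive
degrees such that every element of the irrelevant ideal S_+ has a positive power in the ideal
generated by the f_α (that is, S_+ is the radical in S_+ of that ideal), then every element of the
irrelevant ideal S'_+ has a positive power in the ideal of S' generated by the f_α♮. -/
theorem result {R A B : Type u} [CommRing R] [CommRing A] [Algebra R A]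
    (𝒜 : ℕ → Submodule R A) [GradedAlgebra 𝒜] [CommRing B] [Algebra R B] (ℬ : ℕ → Submodule R B) [GradedAlgebra ℬ]
    (φ : B →ₐ[R] Polynomial A) (hφ : Function.Injective φ)
    (hdeg : ∀ n : ℕ, Submodule.map φ.toLinearMap (ℬ n) =
      Submodule.map ((Polynomial.monomial n : A →ₗ[A] Polynomial A).restrictScalars R) (⨆ (m : ℕ) (_ : n ≤ m), 𝒜 m))
    {ι : Type u} (d : ι → ℕ) (hd : ∀ a, 0 < d a) (f : ι → A) (hf : ∀ a, f a ∈ 𝒜 (d a))
    (hrad : ∀ g ∈ (HomogeneousIdeal.irrelevant 𝒜).toIdeal, ∃ n : ℕ, 0 < n ∧ g ^ n ∈ Ideal.span (Set.range f))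
    (fn : ι → B) (hfn : ∀ a, φ (fn a) = Polynomial.monomial (d a) (f a)) :
    ∀ g ∈ (HomogeneousIdeal.irrelevant ℬ).toIdeal, ∃ n : ℕ, 0 < n ∧ g ^ n ∈ Ideal.span (Set.range fn) := by
  classical
  have hdeg' : ∀ n : ℕ, Submodule.map φ.toLinearMap (ℬ n) =
      Submodule.map (Groth.Agent.Lib.Helper42.Natural.mu R n)
        (Groth.Agent.Lib.Helper42.Natural.age 𝒜 n) := hdeg
  have hφmem : ∀ n (a : A), a ∈ Groth.Agent.Lib.Helper42.Natural.age 𝒜 n →
      ∃ b ∈ ℬ n, φ b = Polynomial.monomial n a := by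
    intro n a ha
    have h : Groth.Agent.Lib.Helper42.Natural.mu R n a ∈
        Submodule.map (Groth.Agent.Lib.Helper42.Natural.mu R n)
          (Groth.Agent.Lib.Helper42.Natural.age 𝒜 n) := ⟨a, ha, rfl⟩
    rw [← hdeg' n] at h
    obtain ⟨b, hb, hb'⟩ := h
    exact ⟨b, hb, hb'⟩
  -- homogeneous elements of positive degree lie in the radical
  have hhom : ∀ n : ℕ, 0 < n → ∀ b ∈ ℬ n, b ∈ (Ideal.span (Set.range fn)).radical := by
    intro n hn b hb
    have h : φ b ∈ Submodule.map φ.toLinearMap (ℬ n) := ⟨b, hb, rfl⟩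
    rw [hdeg' n] at h
    obtain ⟨z, hz, hzb⟩ := h
    have hzb' : φ b = Polynomial.monomial n z := hzb.symm
    have key : ∃ b' ∈ (Ideal.span (Set.range fn)).radical, φ b' = Polynomial.monomial n z := by
      refine Groth.Agent.Lib.Helper42.Natural.age_induction 𝒜
        (p := fun z => ∃ b' ∈ (Ideal.span (Set.range fn)).radical, φ b' = Polynomial.monomial n z)
        ?_ ?_ ?_ hz
      · exact ⟨0, Ideal.zero_mem _, by rw [map_zero, map_zero]⟩
      · rintro x y ⟨bx, hbx, hbx'⟩ ⟨by', hby, hby'⟩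
        exact ⟨bx + by', Ideal.add_mem _ hbx hby, by rw [map_add, map_add, hbx', hby']⟩
      · intro m hnm x hx
        obtain ⟨b', -, hb'⟩ := hφmem n x (Groth.Agent.Lib.Helper42.Natural.le_age 𝒜 hnm hx)
        exact ⟨b', core 𝒜 ℬ φ hφ hdeg' d f hf hrad fn hfn hn hnm hx hb', hb'⟩
    obtain ⟨b', hb'rad, hb'φ⟩ := key
    have : b = b' := hφ (by rw [hzb', hb'φ])
    rw [this]
    exact hb'rad
  have hle : (HomogeneousIdeal.irrelevant ℬ).toIdeal ≤ (Ideal.span (Set.range fn)).radical := by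
    rw [HomogeneousIdeal.toIdeal_irrelevant_le]
    intro i hi b hb
    exact hhom i hi b hb
  intro g hg
  obtain ⟨n, hn⟩ := Ideal.mem_radical_iff.1 (hle hg)
  rcases Nat.eq_zero_or_pos n with rfl | hpos
  · refine ⟨1, Nat.one_pos, ?_⟩
    rw [pow_zero] at hn
    rw [(Ideal.eq_top_iff_one _).2 hn]
    trivial
  · exact ⟨n, hpos, hn⟩

end Groth.Agent.S8312
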