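import Groth.Statements.S8333
import Groth.Agent.S8261
import Groth.Agent.Lib.RelVA.Ample
import Groth.Agent.Lib.Helper56.RelAmpleCounit
import Groth.Agent.Lib.Helper42.RelTwistExists
import Groth.Agent.Lib.Proj.Helper66_RelTwistTensor
import Groth.Agent.Lib.QCoh.TensorPic

set_option autoImplicit false
universe u
open CategoryTheory CategoryTheory.Limits AlgebraicGeometry Opposite TopologicalSpace
open scoped HomogeneousIdeal
noncomputable section
open EGA2

namespace Groth.Agent.S8333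

section aux

open Groth.Agent.Lib.QCoh CohB1

variable {Y P : Scheme.{u}} {𝒮 : RelProj.QCGrAlg Y} {p : P ⟶ Y}
  {chart : ∀ (U : Y.Opens) (hU : IsAffineOpen U), (((p ⁻¹ᵁ U : P.Opens) : Scheme.{u}) ≅ Proj (𝒮.deg U hU))}

/-- `O(m) ⊗ O(n) ≅ O(k)` for `k = m + n`. -/
theorem tensor_iso' (hP : RelProj.IsRelProj 𝒮 p chart) (hgen : 𝒮.IsGenDegOne) {m n k : ℤ} (hk : k = m + n)
    {L L' L'' : P.Modules}
    {lam : ∀ (U : Y.Opens) (hU : IsAffineOpen U),
      L ⟶ (Scheme.Modules.pushforward (RelProj.emb p chart U hU)).obj (GrTwist.twist (𝒮.deg U hU) m)}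
    {lam' : ∀ (U : Y.Opens) (hU : IsAffineOpen U),
      L' ⟶ (Scheme.Modules.pushforward (RelProj.emb p chart U hU)).obj (GrTwist.twist (𝒮.deg U hU) n)}
    {lam'' : ∀ (U : Y.Opens) (hU : IsAffineOpen U),
      L'' ⟶ (Scheme.Modules.pushforward (RelProj.emb p chart U hU)).obj (GrTwist.twist (𝒮.deg U hU) k)}
    (hL : RelProj.IsRelTwist 𝒮 p chart m L lam) (hL' : RelProj.IsRelTwist 𝒮 p chart n L' lam')
    (hL'' : RelProj.IsRelTwist 𝒮 p chart k L'' lam'') :
    Nonempty (CohB1.tensorMod L L' ≅ L'') := by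
  subst hk
  exact Groth.Agent.Lib.Proj.RelTw.nonempty_tensor_iso hP hgen hL hL' hL''

/-- two relative twists of the same degree are isomorphic -/
theorem twist_unique (hP : RelProj.IsRelProj 𝒮 p chart) (hgen : 𝒮.IsGenDegOne) {n : ℤ}
    {L L' : P.Modules}
    {lam : ∀ (U : Y.Opens) (hU : IsAffineOpen U),
      L ⟶ (Scheme.Modules.pushforward (RelProj.emb p chart U hU)).obj (GrTwist.twist (𝒮.deg U hU) n)}
    {lam' : ∀ (U : Y.Opens) (hU : IsAffineOpen U),
      L' ⟶ (Scheme.Modules.pushforward (RelProj.emb p chart U hU)).obj (GrTwist.twist (𝒮.deg U hU) n)}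
    (hL : RelProj.IsRelTwist 𝒮 p chart n L lam) (hL' : RelProj.IsRelTwist 𝒮 p chart n L' lam') :
    Nonempty (L ≅ L') := by
  obtain ⟨T0, lam0, h0⟩ := Groth.Agent.Lib.Helper42.RelTwistExists.exists_isRelTwist 𝒮 p chart hP 0
  obtain ⟨e1⟩ := tensor_iso' hP hgen (by ring : n = n + 0) hL h0 hL
  obtain ⟨e2⟩ := tensor_iso' hP hgen (by ring : n = n + 0) hL h0 hL'
  exact ⟨e1.symm ≪≫ e2⟩

/-- a relative twist of degree `k ≥ 1` is the `k`-th tensor power of `O(1)` -/
theorem twist_iso_tensorPow (hP : RelProj.IsRelProj 𝒮 p chart) (hgen : 𝒮.IsGenDegOne)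
    {O1 : P.Modules}
    {lam1 : ∀ (U : Y.Opens) (hU : IsAffineOpen U),
      O1 ⟶ (Scheme.Modules.pushforward (RelProj.emb p chart U hU)).obj (GrTwist.twist (𝒮.deg U hU) 1)}
    (h1 : RelProj.IsRelTwist 𝒮 p chart 1 O1 lam1) :
    ∀ (k : ℕ), 1 ≤ k → ∀ (n : ℤ), n = (k : ℤ) → ∀ (L : P.Modules)
      (lam : ∀ (U : Y.Opens) (hU : IsAffineOpen U),
        L ⟶ (Scheme.Modules.pushforward (RelProj.emb p chart U hU)).obj (GrTwist.twist (𝒮.deg U hU) n)),
      RelProj.IsRelTwist 𝒮 p chart n L lam → Nonempty (tensorPow O1 k ≅ L) := by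
  intro k
  induction k with
  | zero => intro h; omega
  | succ k ih =>
    intro _ n hn L lam hL
    rcases Nat.eq_zero_or_pos k with hk | hk
    · subst hk
      have hn1 : n = 1 := by simpa using hn
      subst hn1
      obtain ⟨e⟩ := twist_unique hP hgen h1 hL
      exact ⟨tensorPowOneIso O1 ≪≫ e⟩
    · obtain ⟨T, lamT, hT⟩ :=
        Groth.Agent.Lib.Helper42.RelTwistExists.exists_isRelTwist 𝒮 p chart hP (k : ℤ)
      obtain ⟨e⟩ := ih hk (k : ℤ) rfl T lamT hT
      obtain ⟨e'⟩ := tensor_iso' hP hgen (by rw [hn]; push_cast; ring : n = (k : ℤ) + 1) hT h1 hL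
      exact ⟨tensorModCongr e (Iso.refl O1) ≪≫ e'⟩

/-- epimorphy of the counit transports along isomorphisms -/
theorem epi_counit_of_iso {A B : P.Modules} (e : A ≅ B)
    (h : Epi ((Scheme.Modules.pullbackPushforwardAdjunction p).counit.app A)) :
    Epi ((Scheme.Modules.pullbackPushforwardAdjunction p).counit.app B) := by
  have nat := (Scheme.Modules.pullbackPushforwardAdjunction p).counit.naturality e.hom
  have h2 : (Scheme.Modules.pullbackPushforwardAdjunction p).counit.app B =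
      inv ((Scheme.Modules.pushforward p ⋙ Scheme.Modules.pullback p).map e.hom) ≫
        (Scheme.Modules.pullbackPushforwardAdjunction p).counit.app A ≫ e.hom := by
    have nat' : (Scheme.Modules.pushforward p ⋙ Scheme.Modules.pullback p).map e.hom ≫
        (Scheme.Modules.pullbackPushforwardAdjunction p).counit.app B =
        (Scheme.Modules.pullbackPushforwardAdjunction p).counit.app A ≫ e.hom := nat
    rw [← nat', IsIso.inv_hom_id_assoc]
  rw [h2]
  infer_instance

end aux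

/-- Let Y be a scheme with quasi-compact underlying space, 𝒮 a quasi-coherent positively graded
O_Y-algebra generated by 𝒮_1 with 𝒮_1 of finite type, p : P = Proj(𝒮) → Y, and F a quasi-coherent
O_P-module of finite type. Then there is n₀ such that for all n ≥ n₀ the canonical morphism
p^*(p_*(F(n))) → F(n) is an epimorphism, where F(n) = F ⊗ O_P(n) with O_P(n) given through its
chartwise identifications. -/
theorem result {Y P : Scheme.{u}} (𝒮 : RelProj.QCGrAlg Y) (p : P ⟶ Y)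
    (chart : ∀ (U : Y.Opens) (hU : IsAffineOpen U), (((p ⁻¹ᵁ U : P.Opens) : Scheme.{u}) ≅ Proj (𝒮.deg U hU)))
    (hP : RelProj.IsRelProj 𝒮 p chart) [CompactSpace Y] (hgen : 𝒮.IsGenDegOne)
    (hft : 𝒮.IsFTDeg 1) (F : P.Modules) (hFq : Coh.IsQCoh F) (hFt : CohB1.IsFT F) :
    ∃ n₀ : ℤ, ∀ (n : ℤ), n₀ ≤ n → ∀ (L : P.Modules)
      (lam : ∀ (U : Y.Opens) (hU : IsAffineOpen U),
      L ⟶ (Scheme.Modules.pushforward (RelProj.emb p chart U hU)).obj (GrTwist.twist (𝒮.deg U hU) n)),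
      RelProj.IsRelTwist 𝒮 p chart n L lam →
        Epi ((Scheme.Modules.pullbackPushforwardAdjunction p).counit.app (CohB1.tensorMod F L)) := by
  classical
  obtain ⟨O1, lam1, h1⟩ := Groth.Agent.Lib.Helper42.RelTwistExists.exists_isRelTwist 𝒮 p chart hP 1
  haveI : QuasiCompact p := (Groth.Agent.S8261.result 𝒮 hgen hft p chart hP).2
  haveI : CompactSpace P := by
    have h := QuasiCompact.isCompact_preimage (f := p) (Set.univ) isOpen_univ isCompact_univ
    rw [Set.preimage_univ] at h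
    exact ⟨h⟩
  have hamp : RelAmple.IsRelAmple p O1 :=
    Groth.Agent.Lib.RelVA.isRelAmple_of_isRelTwist p 𝒮 hgen p chart O1 lam1 h1 (𝟙 P)
      (Category.id_comp p) O1 ((Scheme.Modules.pullbackId P).app O1).symm
  haveI : F.IsQuasicoherent := hFq
  haveI : F.IsFiniteType := hFt
  obtain ⟨n₀, hn₀, H⟩ :=
    Groth.Agent.Lib.Helper56.RelAmpleCounit.exists_epi_counit_of_isRelAmple p O1 hamp F
  refine ⟨(n₀ : ℤ), fun n hn L lam hL => ?_⟩
  obtain ⟨k, rfl⟩ : ∃ k : ℕ, n = (k : ℤ) := ⟨n.toNat, by omega⟩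
  have hk : n₀ ≤ k := by exact_mod_cast hn
  obtain ⟨e⟩ := twist_iso_tensorPow hP hgen h1 k (by omega) (k : ℤ) rfl L lam hL
  exact epi_counit_of_iso (Groth.Agent.Lib.QCoh.tensorModCongr (Iso.refl F) e) (H k hk)

end Groth.Agent.S8333
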