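import Groth.Statements.S8334
import Groth.Agent.S8333
import Groth.Agent.Lib.RelVA.QuotPull
import Groth.Agent.Lib.Ample.Helper50_Counit
import Groth.Agent.Lib.Ample.Helper50_Basis
import Groth.Agent.Lib.Helper48.DualInv
import Groth.Agent.Lib.QCoh.TensorQCoh
import Groth.Agent.Lib.QCoh.TensorColim

set_option autoImplicit false
universe u
open CategoryTheory CategoryTheory.Limits AlgebraicGeometry Opposite TopologicalSpace
open scoped HomogeneousIdeal
noncomputable section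
open EGA2

namespace Groth.Agent.S8334

section aux

open Groth.Agent.Lib.QCoh CohB1

variable {Y P : Scheme.{u}} {𝒮 : RelProj.QCGrAlg Y} {p : P ⟶ Y}
  {chart : ∀ (U : Y.Opens) (hU : IsAffineOpen U), (((p ⁻¹ᵁ U : P.Opens) : Scheme.{u}) ≅ Proj (𝒮.deg U hU))}

/-- a relative twist of degree `0` is trivial -/
theorem twist_zero_iso (hP : RelProj.IsRelProj 𝒮 p chart) (hgen : 𝒮.IsGenDegOne)
    {T0 : P.Modules}
    {lam0 : ∀ (U : Y.Opens) (hU : IsAffineOpen U),
      T0 ⟶ (Scheme.Modules.pushforward (RelProj.emb p chart U hU)).obj (GrTwist.twist (𝒮.deg U hU) 0)}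
    (h0 : RelProj.IsRelTwist 𝒮 p chart 0 T0 lam0) :
    Nonempty (T0 ≅ Coh.structureModule P) := by
  obtain ⟨e⟩ := Groth.Agent.S8333.tensor_iso' hP hgen (by ring : (0 : ℤ) = 0 + 0) h0 h0 h0
  have hinv : PicF.IsInvertible T0 := Groth.Agent.Lib.Proj.RelTw.isInvertible hgen h0
  obtain ⟨N, -, ⟨ev⟩⟩ := Groth.Agent.Lib.Helper48.DualInv.exists_inverse hinv
  exact ⟨(tensorModRightUnitor T0).symm ≪≫ tensorModCongr (Iso.refl T0) ev.symm ≪≫
    (tensorModAssoc T0 T0 N).symm ≪≫ tensorModCongr e (Iso.refl N) ≪≫ ev⟩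

set_option backward.isDefEq.respectTransparency.types false in
theorem quasiSeparated_of_affineOpens {X Y : Scheme.{u}} (f : X ⟶ Y)
    (h : ∀ V : Y.affineOpens, QuasiSeparatedSpace (f ⁻¹ᵁ V.1 : X.Opens)) : QuasiSeparated f :=
  HasAffineProperty.of_iSup_eq_top (P := @QuasiSeparated)
    (fun V : Y.affineOpens => V) (iSup_affineOpens_eq_top Y) (fun V => h V)

end aux

/-- Let Y be a quasi-compact separated scheme, or a scheme with Noetherian underlying space, 𝒮 a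
quasi-coherent positively graded O_Y-algebra generated by 𝒮_1 with 𝒮_1 of finite type, p : P =
Proj(𝒮) → Y, and F a quasi-coherent O_P-module of finite type. Then there is n₀ such that for every
n ≥ n₀, F is a quotient of (p^*G)(−n) = p^*(G) ⊗ O_P(−n) for some quasi-coherent O_Y-module G of
finite type (which may vary with n), O_P(−n) being given through its chartwise identifications. -/
theorem result {Y P : Scheme.{u}} (𝒮 : RelProj.QCGrAlg Y) (p : P ⟶ Y)
    (chart : ∀ (U : Y.Opens) (hU : IsAffineOpen U), (((p ⁻¹ᵁ U : P.Opens) : Scheme.{u}) ≅ Proj (𝒮.deg U hU)))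
    (hP : RelProj.IsRelProj 𝒮 p chart)
    (hY : (CompactSpace Y ∧ Y.IsSeparated) ∨ NoetherianSpace Y) (hgen : 𝒮.IsGenDegOne)
    (hft : 𝒮.IsFTDeg 1) (F : P.Modules) (hFq : Coh.IsQCoh F) (hFt : CohB1.IsFT F) :
    ∃ n₀ : ℤ, ∀ (n : ℤ), n₀ ≤ n → ∀ (L : P.Modules)
      (lam : ∀ (U : Y.Opens) (hU : IsAffineOpen U),
      L ⟶ (Scheme.Modules.pushforward (RelProj.emb p chart U hU)).obj (GrTwist.twist (𝒮.deg U hU) (-n))),
      RelProj.IsRelTwist 𝒮 p chart (-n) L lam →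
        ∃ (G : Y.Modules) (π : CohB1.tensorMod ((Scheme.Modules.pullback p).obj G) L ⟶ F),
          Coh.IsQCoh G ∧ CohB1.IsFT G ∧ Epi π := by
  classical
  haveI : CompactSpace Y := by
    rcases hY with ⟨h, -⟩ | h
    · exact h
    · infer_instance
  haveI : QuasiSeparatedSpace Y := by
    rcases hY with ⟨-, h⟩ | h
    · infer_instance
    · infer_instance
  obtain ⟨O1, lam1, h1⟩ := Groth.Agent.Lib.Helper42.RelTwistExists.exists_isRelTwist 𝒮 p chart hP 1
  haveI : QuasiCompact p := (Groth.Agent.S8261.result 𝒮 hgen hft p chart hP).2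
  haveI : CompactSpace P := QuasiCompact.compactSpace_of_compactSpace p
  have hamp : RelAmple.IsRelAmple p O1 :=
    Groth.Agent.Lib.RelVA.isRelAmple_of_isRelTwist p 𝒮 hgen p chart O1 lam1 h1 (𝟙 P)
      (Category.id_comp p) O1 ((Scheme.Modules.pullbackId P).app O1).symm
  haveI : QuasiSeparated p := quasiSeparated_of_affineOpens p
    (fun V => Groth.Agent.Lib.Ample.quasiSeparatedSpace_of_isAmple (hamp.2 V))
  haveI : F.IsQuasicoherent := hFq
  haveI : F.IsFiniteType := hFt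
  obtain ⟨A, hA⟩ := isCompact_univ.elim_finite_subcover
    (fun V : Y.affineOpens => ((V.1 : Y.Opens) : Set Y)) (fun V => V.1.isOpen)
    (fun y _ => by
      obtain ⟨V, hV, hyV, -⟩ := TopologicalSpace.Opens.isBasis_iff_nbhd.1 Y.isBasis_affineOpens
        (show y ∈ (⊤ : Y.Opens) from trivial)
      exact Set.mem_iUnion.2 ⟨⟨V, hV⟩, hyV⟩)
  have hA' : ∀ y : Y, ∃ V ∈ A, y ∈ V.1 := fun y => by
    obtain ⟨V, hVA, hyV⟩ := Set.mem_iUnion₂.1 (hA (Set.mem_univ y))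
    exact ⟨V, hVA, hyV⟩
  choose n₀ hn₀ using fun V : Y.affineOpens =>
    Groth.Agent.Lib.Ample.Counit.exists_span_eq_top_of_isAmple_restrict (p ⁻¹ᵁ V.1) (hamp.2 V) F
  refine ⟨((max (A.sup n₀) 1 : ℕ) : ℤ), fun n hn L lam hL => ?_⟩
  obtain ⟨k, rfl⟩ : ∃ k : ℕ, n = (k : ℤ) := ⟨n.toNat, by omega⟩
  have hk : max (A.sup n₀) 1 ≤ k := by exact_mod_cast hn
  have hk1 : 1 ≤ k := le_trans (le_max_right _ _) hk
  have hkA : ∀ V ∈ A, n₀ V ≤ k := fun V hV =>
    le_trans (Finset.le_sup hV) (le_trans (le_max_left _ _) hk)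
  have hO1 : PicF.IsInvertible O1 := Groth.Agent.Lib.Proj.RelTw.isInvertible hgen h1
  have hPk : PicF.IsInvertible (CohB1.tensorPow O1 k) :=
    Groth.Agent.Lib.QCoh.isInvertible_tensorPow hO1 k
  haveI : (CohB1.tensorPow O1 k).IsQuasicoherent :=
    Groth.Agent.Lib.QCoh.isQuasicoherent_of_isInvertible hPk
  haveI : (CohB1.tensorPow O1 k).IsFiniteType :=
    Groth.Agent.Lib.QCoh.isFiniteType_of_isInvertible hPk
  haveI : (CohB1.tensorMod F (CohB1.tensorPow O1 k)).IsQuasicoherent :=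
    Groth.Agent.Lib.QCoh.isQuasicoherent_tensorMod _ _
  haveI : (CohB1.tensorMod F (CohB1.tensorPow O1 k)).IsFiniteType :=
    Groth.Agent.Lib.QCoh.isFiniteType_tensorMod _ _
  obtain ⟨G, ψ', hGq, hGt, hepi⟩ := Groth.Agent.Lib.RelVA.QuotPull.exists_epi_pullback p
    (CohB1.tensorMod F (CohB1.tensorPow O1 k)) (fun x => by
      obtain ⟨V, hVA, hxV⟩ := hA' (p.base x)
      exact ⟨V, fun U hxU => hn₀ V k (hkA V hVA) x hxV U hxU⟩)
  obtain ⟨Tk, lamk, hTk⟩ :=
    Groth.Agent.Lib.Helper42.RelTwistExists.exists_isRelTwist 𝒮 p chart hP (k : ℤ)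
  obtain ⟨e1⟩ := Groth.Agent.S8333.twist_iso_tensorPow hP hgen h1 k hk1 (k : ℤ) rfl Tk lamk hTk
  obtain ⟨T0, lam0, h0⟩ :=
    Groth.Agent.Lib.Helper42.RelTwistExists.exists_isRelTwist 𝒮 p chart hP 0
  obtain ⟨e2⟩ := Groth.Agent.S8333.tensor_iso' hP hgen (by ring : (0 : ℤ) = (k : ℤ) + -(k : ℤ))
    hTk hL h0
  obtain ⟨e3⟩ := twist_zero_iso hP hgen h0
  have ev : CohB1.tensorMod (CohB1.tensorPow O1 k) L ≅ Coh.structureModule P :=
    Groth.Agent.Lib.QCoh.tensorModCongr e1 (Iso.refl L) ≪≫ e2 ≪≫ e3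
  refine ⟨G, Groth.Agent.Lib.QCoh.tensorModMap ψ' (𝟙 L) ≫
      (Groth.Agent.Lib.QCoh.tensorModAssoc F (CohB1.tensorPow O1 k) L).hom ≫
      (Groth.Agent.Lib.QCoh.tensorModCongr (Iso.refl F) ev).hom ≫
      (Groth.Agent.Lib.QCoh.tensorModRightUnitor F).hom, hGq, hGt, ?_⟩
  haveI := hepi
  haveI : Epi (Groth.Agent.Lib.QCoh.tensorModMap ψ' (𝟙 L)) :=
    Groth.Agent.Lib.QCoh.epi_tensorModMap_id _ L
  infer_instance

end Groth.Agent.S8334
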