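import Groth.Statements.S8342
import Groth.Agent.Lib.Proj.Helper66_RelTwistGen

set_option autoImplicit false
universe u
open CategoryTheory CategoryTheory.Limits AlgebraicGeometry Opposite TopologicalSpace
open scoped HomogeneousIdeal
noncomputable section
open EGA2

namespace Groth.Agent.S8342

/-- Let 𝒮 be a quasi-coherent positively graded O_Y-algebra generated by 𝒮_1, P = Proj(𝒮), and f a
global section of 𝒮 of degree d > 0. Then the open X_f (chartwise D_+(f|U)) is the set of points of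
P where the global section α_d(f) of the invertible module O_P(d) does not vanish — here: X_f equals
the largest open over which the module map O_P → O_P(d) defined by α_d(f) is an isomorphism; O_P(d)
is given through its chartwise identifications and α_d(f) is pinned as the section reading f|U / 1
on every chart. -/
theorem result {Y P : Scheme.{u}} (𝒮 : RelProj.QCGrAlg Y) (p : P ⟶ Y)
    (chart : ∀ (U : Y.Opens) (hU : IsAffineOpen U), (((p ⁻¹ᵁ U : P.Opens) : Scheme.{u}) ≅ Proj (𝒮.deg U hU)))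
    (hP : RelProj.IsRelProj 𝒮 p chart) (hgen : 𝒮.IsGenDegOne) {d : ℕ} (hd : 0 < d)
    (f : 𝒮.presheaf.obj (op ⊤))
    (hf : ∀ (U : Y.Opens) (hU : IsAffineOpen U), (𝒮.presheaf.map (homOfLE le_top).op).hom f ∈ 𝒮.deg U hU d)
    (Xf : P.Opens)
    (hXf : ∀ (U : Y.Opens) (hU : IsAffineOpen U),
      Xf ⊓ p ⁻¹ᵁ U =
        (p ⁻¹ᵁ U).ι ''ᵁ ((chart U hU).hom ⁻¹ᵁ
          Proj.basicOpen (𝒮.deg U hU) ((𝒮.presheaf.map (homOfLE le_top).op).hom f)))
    (L : P.Modules)
    (lam : ∀ (U : Y.Opens) (hU : IsAffineOpen U),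
      L ⟶ (Scheme.Modules.pushforward (RelProj.emb p chart U hU)).obj (GrTwist.twist (𝒮.deg U hU) (d : ℤ)))
    (hL : RelProj.IsRelTwist 𝒮 p chart (d : ℤ) L lam) (s : Coh.structureModule P ⟶ L)
    (hs : ∀ (U : Y.Opens) (hU : IsAffineOpen U) (y : Proj (𝒮.deg U hU)),
      GrTwist.val (V := RelProj.emb p chart U hU ⁻¹ᵁ ⊤)
        ((lam U hU).app ⊤ (s.app ⊤ (show Γ(Coh.structureModule P, ⊤) from (1 : Γ(P, ⊤))))) ⟨y, Set.mem_univ _⟩ =
        Localization.mk ((𝒮.presheaf.map (homOfLE le_top).op).hom f) 1) :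
    Xf = CohB1.genLocus L s := by
  have hσ : ∀ (U : Y.Opens) (hU : IsAffineOpen U) (y : Proj (𝒮.deg U hU)),
      GrTwist.val (V := RelProj.emb p chart U hU ⁻¹ᵁ ⊤)
        ((lam U hU).app ⊤ (Groth.Agent.Lib.Ample.secOf s)) ⟨y, Set.mem_univ _⟩ =
        Localization.mk ((𝒮.presheaf.map (homOfLE le_top).op).hom f) 1 := hs
  have himg : ∀ (U : Y.Opens) (hU : IsAffineOpen U), Xf ⊓ p ⁻¹ᵁ U =
      (RelProj.emb p chart U hU) ''ᵁ
        (Proj.basicOpen (𝒮.deg U hU) ((𝒮.presheaf.map (homOfLE le_top).op).hom f)) := by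
    intro U hU
    rw [hXf U hU]
    exact Groth.Agent.Lib.Proj.RelTw.image_ι_preimage_chart U hU _
  have hcover : ∀ x : P, ∃ (U : Y.Opens) (hU : IsAffineOpen U), x ∈ p ⁻¹ᵁ U := by
    intro x
    obtain ⟨U, hU0, hxU, -⟩ := Opens.isBasis_iff_nbhd.1 (Y.isBasis_affineOpens)
      (show p x ∈ (⊤ : Y.Opens) from trivial)
    exact ⟨U, hU0, hxU⟩
  apply le_antisymm
  · intro x hx
    obtain ⟨U, hU, hxU⟩ := hcover x
    have hW : Xf ⊓ p ⁻¹ᵁ U ≤ CohB1.genLocus L s := by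
      rw [Groth.Agent.Lib.Ample.le_genLocus_iff']
      intro V hV
      have hb := Groth.Agent.Lib.Proj.RelTw.bijective_smul_resSec hL U hU
        ⟨(𝒮.presheaf.map (homOfLE le_top).op).hom f, hf U hU⟩ (Groth.Agent.Lib.Ample.secOf s)
        (hσ U hU) V (by rw [← himg U hU]; exact hV)
      have he : ((s.app V).hom : Γ(Coh.structureModule P, V) → Γ(L, V)) =
          (fun r : Γ(P, V) => r • Groth.Agent.Lib.Ample.resSec L (le_top : V ≤ ⊤)
            (Groth.Agent.Lib.Ample.secOf s)) := by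
        funext r
        exact Groth.Agent.Lib.Ample.app_apply s V r
      change Function.Bijective ((s.app V).hom : Γ(Coh.structureModule P, V) → Γ(L, V))
      rw [he]
      exact hb
    exact hW ⟨hx, hxU⟩
  · intro x hx
    obtain ⟨U, hU, hxU⟩ := hcover x
    have hmem : x ∈ Xf ⊓ p ⁻¹ᵁ U := by
      rw [himg U hU]
      refine ⟨(chart U hU).hom ⟨x, hxU⟩, ?_, Groth.Agent.Lib.Proj.RelTw.emb_chart_hom U hU ⟨x, hxU⟩⟩
      have hcov := Groth.Agent.Lib.Proj.GrTw.iSup_basicOpen_eq_top_of_closure (𝒮.deg U hU) (hgen U hU)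
      have hy : (chart U hU).hom ⟨x, hxU⟩ ∈ (⨆ t : 𝒮.deg U hU 1, Proj.basicOpen (𝒮.deg U hU) (t : _)) := by
        rw [hcov]; trivial
      obtain ⟨t, ht⟩ := Opens.mem_iSup.1 hy
      have hty := (Proj.mem_basicOpen (𝒮.deg U hU) _ _).1 ht
      have hbij := (Groth.Agent.Lib.Ample.le_genLocus_iff' L s (CohB1.genLocus L s)).1 le_rfl
        (CohB1.genLocus L s ⊓ p ⁻¹ᵁ U) inf_le_left
      have hsurj : Function.Surjective (fun r : Γ(P, CohB1.genLocus L s ⊓ p ⁻¹ᵁ U) =>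
          r • Groth.Agent.Lib.Ample.resSec L (le_top : CohB1.genLocus L s ⊓ p ⁻¹ᵁ U ≤ ⊤)
            (Groth.Agent.Lib.Ample.secOf s)) := by
        intro τ
        obtain ⟨r, hr⟩ := hbij.2 τ
        exact ⟨r, (Groth.Agent.Lib.Ample.app_apply s _ r).symm.trans hr⟩
      have hfy := Groth.Agent.Lib.Proj.RelTw.not_mem_of_surjective hL U hU
        ⟨(𝒮.presheaf.map (homOfLE le_top).op).hom f, hf U hU⟩ (Groth.Agent.Lib.Ample.secOf s)
        (hσ U hU) (CohB1.genLocus L s ⊓ p ⁻¹ᵁ U) inf_le_right hsurj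
        ((chart U hU).hom ⟨x, hxU⟩)
        (by rw [Groth.Agent.Lib.Proj.RelTw.emb_chart_hom U hU ⟨x, hxU⟩]; exact ⟨hx, hxU⟩) t hty
      exact (Proj.mem_basicOpen (𝒮.deg U hU) _ _).2 hfy
    exact hmem.1

end Groth.Agent.S8342
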