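import Groth.Statements.S8346
import Groth.Agent.S8344
import Mathlib.Topology.Constructible
import Mathlib.Tactic

set_option autoImplicit false
universe u
open ConstrTop

namespace Groth.Agent.S8346

open TopologicalSpace in
/-- Let X be a topological space admitting a basis of open subsets which are retrocompact in X. Then
every locally constructible subset T of X is retrocompact in X. -/
theorem result {X : Type u} [TopologicalSpace X]
    {B : Set (Set X)} (hB : IsTopologicalBasis B) (hBr : ∀ U ∈ B, IsRetrocompact U) {T : Set X}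
    (hT : Topology.IsLocallyConstructible T) : IsRetrocompact T := by
  have key (x : X) : ∃ V, IsOpen V ∧ x ∈ V ∧ Topology.IsConstructible (V ∩ T) := by
    obtain ⟨U, hxU, hU, hUs⟩ := hT x
    obtain ⟨V, hVB, hxV, hVU⟩ := hB.mem_nhds_iff.mp hxU
    have hV₁ : IsOpen V := hB.isOpen hVB
    have h1 : Topology.IsConstructible ((Subtype.val : V → X) ⁻¹' T) :=
      (hUs.preimage_of_isOpenEmbedding (Topology.IsOpenEmbedding.id.restrict hVU hV₁) :)
    have h2 := h1.image_of_isOpenEmbedding hV₁.isOpenEmbedding_subtypeVal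
        (by simpa using hBr V hVB)
    rw [Subtype.image_preimage_coe] at h2
    exact ⟨V, hV₁, hxV, h2⟩
  choose V hV hxV hVT using key
  intro W hW hWo
  obtain ⟨σ, hσ, hWσ⟩ := hW.elim_nhds_subcover V (fun x _ ↦ (hV x).mem_nhds (hxV x))
  have h3 : T ∩ W = ⋃ x ∈ σ, (V x ∩ T) ∩ W := by
    apply subset_antisymm
    · rintro y ⟨hyT, hyW⟩
      obtain ⟨x, hxσ, hyx⟩ := Set.mem_iUnion₂.mp (hWσ hyW)
      exact Set.mem_iUnion₂.mpr ⟨x, hxσ, ⟨hyx, hyT⟩, hyW⟩
    · exact Set.iUnion₂_subset fun x _ y hy ↦ ⟨hy.1.2, hy.2⟩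
  rw [h3]
  exact σ.isCompact_biUnion fun x _ ↦ Groth.Agent.S8344.result (hVT x) hW hWo

end Groth.Agent.S8346
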