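import Groth.Statements.S8348
import Mathlib
-- import your own Groth.Agent.* helpers here

set_option autoImplicit false
universe v u
open CategoryTheory CategoryTheory.Limits
open HomAlg3

namespace Groth.Agent.S8348

/-- Let C be an abelian category and Q a cochain complex of objects of C in degrees 0, 1, 2, ... such
that every Q^i is injective, every homology object H^i(Q) with i ≥ 1 is zero, and every inclusion of
the cycles Z^i(Q) into Q^i (i ≥ 0) is a split monomorphism. Then Q is an injective object of the
category of cochain complexes of C indexed by the natural numbers. (The published statement is for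
the narrower class of complexes with Z^i(Q) = B^i(Q) for every i ≥ 0, which in degree 0, where there
is no incoming differential, forces Z^0(Q) = 0; this row allows a nonzero Z^0(Q), so that it pairs
with the embedding of an arbitrary complex into such a Q. Such a Q is the direct sum of Z^0(Q)
placed in degree 0 and of the two-term complexes with Z^{i+1}(Q) in degrees i and i+1 and the
identity as differential, and the published argument carries over with Z^i(Q) in place of B^i(Q) as
the first summand of Q^i.) -/
theorem result {C : Type u} [Category.{v} C] [Abelian C]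
    (Q : CochainComplex C ℕ) (hinj : ∀ i : ℕ, Injective (Q.X i)) (hac : ∀ i : ℕ, IsZero (Q.homology (i + 1)))
    (hsplit : ∀ i : ℕ, IsSplitMono (Q.iCycles i)) : Injective Q := by
  have hepi : ∀ i, Epi (Q.toCycles i (i + 1)) := fun i =>
    Preadditive.epi_of_isZero_cokernel' _ (Q.homologyIsCokernel i (i + 1) (by simp)) (hac i)
  -- retractions
  let r : ∀ i, Q.X i ⟶ Q.cycles i := fun i => retraction (Q.iCycles i)
  have hr : ∀ i, Q.iCycles i ≫ r i = 𝟙 _ := fun i => IsSplitMono.id (Q.iCycles i)
  have hZinj : ∀ i, Injective (Q.cycles i) := fun i =>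
    Retract.injective (Y := Q.X i) ⟨Q.iCycles i, r i, hr i⟩
  have hzero : ∀ i, Q.iCycles i ≫ Q.toCycles i (i + 1) = 0 := fun i => by
    rw [← cancel_mono (Q.iCycles (i + 1)), Category.assoc, HomologicalComplex.toCycles_i,
      HomologicalComplex.iCycles_d, zero_comp]
  let S : ∀ i, ShortComplex C := fun i => ShortComplex.mk (Q.iCycles i) (Q.toCycles i (i + 1)) (hzero i)
  have hS : ∀ i, (S i).Exact := by
    intro i
    refine ShortComplex.exact_of_f_is_kernel _ ?_
    refine KernelFork.IsLimit.ofι _ _
      (fun {W'} g' eq' => Q.liftCycles g' (i + 1) (by simp) ?_) ?_ ?_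
    · have : g' ≫ Q.toCycles i (i + 1) = 0 := eq'
      rw [← Q.toCycles_i i (i + 1), ← Category.assoc, this, zero_comp]
    · intro W' g' eq'
      exact Q.liftCycles_i _ _ _ _
    · intro W' g' eq' m hm
      rw [← cancel_mono (Q.iCycles i)]
      rw [Q.liftCycles_i]
      exact hm
  let spl : ∀ i, (S i).Splitting := fun i =>
    ShortComplex.Splitting.ofExactOfRetraction (S i) (hS i) (r i) (hr i) (hepi i)
  let σ : ∀ i, Q.cycles (i + 1) ⟶ Q.X i := fun i => (spl i).s
  have hσ : ∀ i, σ i ≫ Q.toCycles i (i + 1) = 𝟙 _ := fun i => (spl i).s_g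
  have hid : ∀ i, r i ≫ Q.iCycles i + Q.toCycles i (i + 1) ≫ σ i = 𝟙 _ := fun i => (spl i).id
  refine ⟨fun {X Y} g f hf => ?_⟩
  let b : ∀ i, Y.X i ⟶ Q.cycles i := fun i =>
    haveI := hZinj i
    Injective.factorThru (g.f i ≫ r i) (f.f i)
  have hb : ∀ i, f.f i ≫ b i = g.f i ≫ r i := fun i => by
    haveI := hZinj i
    exact Injective.comp_factorThru _ _
  let h : Y ⟶ Q :=
    { f := fun i => b i ≫ Q.iCycles i + Y.d i (i + 1) ≫ b (i + 1) ≫ σ i
      comm' := by
        intro i j hij
        have : i + 1 = j := hij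
        subst this
        rw [Preadditive.add_comp, Preadditive.comp_add]
        have e1 : (b i ≫ Q.iCycles i) ≫ Q.d i (i + 1) = 0 := by
          rw [Category.assoc, HomologicalComplex.iCycles_d, comp_zero]
        have e2 : (Y.d i (i + 1) ≫ b (i + 1) ≫ σ i) ≫ Q.d i (i + 1) =
            Y.d i (i + 1) ≫ b (i + 1) ≫ Q.iCycles (i + 1) := by
          rw [← Q.toCycles_i i (i + 1)]
          simp only [Category.assoc]
          rw [← Category.assoc (σ i), hσ i, Category.id_comp]
        have e3 : Y.d i (i + 1) ≫ Y.d (i + 1) (i + 1 + 1) ≫ b (i + 1 + 1) ≫ σ (i + 1) = 0 := by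
          rw [← Category.assoc, Y.d_comp_d, zero_comp]
        rw [e1, e2, e3, zero_add, add_zero] }
  refine ⟨h, ?_⟩
  ext i
  change f.f i ≫ (b i ≫ Q.iCycles i + Y.d i (i + 1) ≫ b (i + 1) ≫ σ i) = g.f i
  rw [Preadditive.comp_add, ← Category.assoc, hb i, ← Category.assoc (f.f i), f.comm i (i + 1)]
  simp only [Category.assoc]
  rw [← Category.assoc (f.f (i + 1)), hb (i + 1)]
  simp only [Category.assoc]
  rw [← Category.assoc (X.d i (i + 1)), ← g.comm i (i + 1)]
  have e4 : (g.f i ≫ Q.d i (i + 1)) ≫ r (i + 1) ≫ σ i = g.f i ≫ Q.toCycles i (i + 1) ≫ σ i := by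
    rw [← Q.toCycles_i i (i + 1)]
    simp only [Category.assoc]
    rw [← Category.assoc (Q.iCycles (i + 1)), hr (i + 1), Category.id_comp]
  rw [e4, ← Preadditive.comp_add, hid i, Category.comp_id]

end Groth.Agent.S8348
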