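import Groth.Statements.S8349
import Groth.Agent.Lib.Helper6.DiscN

set_option autoImplicit false
universe v u
open CategoryTheory CategoryTheory.Limits
open HomAlg3

namespace Groth.Agent.S8349

/-- Let C be an abelian category in which every object embeds in an injective object, and let A be a
cochain complex of objects of C in degrees 0, 1, 2, .... Then there are a cochain complex Q, with
every Q^i injective, H^i(Q) = 0 for every i ≥ 1 and every cycle inclusion Z^i(Q) ⟶ Q^i (i ≥ 0) a
split monomorphism, and a monomorphism of complexes A ⟶ Q. (The published statement asks Z^i(Q) =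
B^i(Q) for every i ≥ 0; in degree 0, where there is no incoming differential, this makes Z^0(Q) = 0,
and then no complex with nonzero degree-0 cycles, for instance a nonzero object placed in degree 0,
embeds in such a Q, because the degree-0 component of a chain map into Q factors through Z^0(Q).
This row asks vanishing homology in positive degrees only; the published construction, which embeds
each A^i in an injective I^i and takes Q^i = I^i ⊕ I^{i+1}, proves that version once an injective
I^0 containing A^0 is used in degree 0 as well.) -/
theorem result {C : Type u} [Category.{v} C] [Abelian C]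
    [EnoughInjectives C] (A : CochainComplex C ℕ) :
    ∃ (Q : CochainComplex C ℕ) (f : A ⟶ Q), Mono f ∧ (∀ i : ℕ, Injective (Q.X i)) ∧
      (∀ i : ℕ, IsZero (Q.homology (i + 1))) ∧ ∀ i : ℕ, IsSplitMono (Q.iCycles i) := by
  let I : ℕ → C := fun i => Injective.under (A.X i)
  let ι : ∀ i, A.X i ⟶ I i := fun i => Injective.ι (A.X i)
  refine ⟨Lib.Helper6.DiscN.disc I, Lib.Helper6.DiscN.toDisc I A ι,
    Lib.Helper6.DiscN.mono_toDisc I A ι (fun i => inferInstance),
    Lib.Helper6.DiscN.injective_disc_X I (fun i => inferInstance), ?_,
    Lib.Helper6.DiscN.isSplitMono_iCycles I⟩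
  intro i
  rw [← HomologicalComplex.exactAt_iff_isZero_homology]
  exact Lib.Helper6.DiscN.exactAt_disc I i

end Groth.Agent.S8349
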