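import Groth.Statements.S8351
import Groth.Agent.Lib.Helper34.HDSheafify
import Groth.Agent.Lib.Helper34.RDPlusCompare

set_option autoImplicit false
universe u
open CategoryTheory CategoryTheory.Limits TopologicalSpace
open CohCx

namespace Groth.Agent.S8351

/-- For abelian sheaves on topological spaces and a complex bounded below. Let f : X ⟶ Y be a continuous
map and K a bounded below complex of abelian sheaves on X. For every p, the p-th cohomology sheaf of
the derived direct image R f_*(K) (bounded below right derived functor of f_*, computed with
injective resolutions) is isomorphic to the sheaf associated with the presheaf U ↦ H^p(f⁻¹(U), K) on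
Y, where H^p(V, K) denotes hypercohomology (morphisms from the free abelian sheaf on V to K[p] in
the derived category). (The published statement is for modules over arbitrary ringed spaces,
complexes unbounded via Cartan-Eilenberg resolutions, and a canonical isomorphism; here only the
existence of an isomorphism is asserted, and the derived categories are assumed to exist with
morphism types in the universe of X and Y.) -/
theorem result {X Y : TopCat.{u}} (f : X ⟶ Y)
    [HasDerivedCategory.{u} (CohTop.Ab X)] [HasDerivedCategory.{u} (CohTop.Ab Y)]
    (K : CochainComplex.Plus (CohTop.Ab X)) (p : ℤ) :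
    Nonempty ((DerivedCategory.Plus.homologyFunctor (CohTop.Ab Y) p).obj
        ((CohTop.push f).rightDerivedFunctorPlus.obj
          (DerivedCategory.Plus.Qh.obj ((HomotopyCategory.Plus.quotient (CohTop.Ab X)).obj K))) ≅
      (presheafToSheaf (Opens.grothendieckTopology Y) AddCommGrpCat.{u}).obj
        ((Opens.map f).op ⋙ CohCx.HDUPresheaf (DerivedCategory.Q.obj K.obj) p)) := by
  obtain ⟨e1⟩ := Groth.Agent.Lib.Helper34.RDPlusCompare.nonempty_iso (CohTop.push f)
    (Groth.Agent.Lib.Helper34.HDPush.RG f)
    ((Groth.Agent.Lib.Helper34.HDPush.Ψ f).totalRightDerivedUnit DerivedCategory.Qh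
      (HomotopyCategory.quasiIso (CohTop.Ab X) (ComplexShape.up ℤ))) K
  obtain ⟨e2⟩ := Groth.Agent.Lib.Helper34.HDSheafify.nonempty_sheafify_iso f
    (DerivedCategory.Q.obj K.obj) p
  exact ⟨(DerivedCategory.homologyFunctor (CohTop.Ab Y) p).mapIso e1 ≪≫ e2.symm⟩

end Groth.Agent.S8351
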