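import Groth.Statements.S8353
import Mathlib
import Groth.Agent.Lib.Helper83.AdicConv
-- import your own Groth.Agent.* helpers here

set_option autoImplicit false
universe u
open HomAlg3

namespace Groth.Agent.S8353


open Groth.Agent.Lib.Helper83 in
theorem key {S : Type u} [CommRing S] (J : Ideal S) [IsPrecomplete J S] {M : Type u}
    [AddCommGroup M] [Module S M]
    (G : ℕ → Submodule S M) (hG : Antitone G) (hJG : ∀ k, J • G k ≤ G (k + 1))
    (hsep : ⨅ k, G k = ⊥) (A0 A1 : Submodule S M) (h0 : G 0 = A0) (h1 : G 1 = A1)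
    (hfg : (A0.map A1.mkQ).FG) (hstep : ∀ k, G (k + 1) = J • G k ⊔ G (k + 2)) :
    A0.FG ∧ A1 ≤ J • A0 := by
  classical
  subst h0 h1
  obtain ⟨r, s, hs⟩ := Submodule.fg_iff_exists_fin_generating_family.1 hfg
  have hsmem : ∀ i, ∃ x ∈ G 0, (G 1).mkQ x = s i := by
    intro i
    have : s i ∈ (G 0).map (G 1).mkQ := hs ▸ Submodule.subset_span (Set.mem_range_self i)
    exact this
  choose x hx0 hxs using hsmem
  have hcover : G 0 ≤ Submodule.span S (Set.range x) ⊔ G 1 := by
    intro y hy
    have h1 : (G 1).mkQ y ∈ Submodule.span S (Set.range s) := hs ▸ Submodule.mem_map_of_mem hy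
    have h2 : Set.range s = (G 1).mkQ '' Set.range x := by
      rw [← Set.range_comp]; congr 1; ext i; exact (hxs i).symm
    rw [h2, ← Submodule.map_span] at h1
    obtain ⟨z, hz, hzy⟩ := h1
    have h3 : y - z ∈ G 1 := by
      rw [← Submodule.ker_mkQ (G 1), LinearMap.mem_ker, map_sub, hzy, sub_self]
    have : y = z + (y - z) := by abel
    rw [this]
    exact Submodule.add_mem_sup hz h3
  have hpowle : ∀ k j, J ^ k • G j ≤ G (j + k) := by
    intro k
    induction k with
    | zero => intro j; simp
    | succ k ih =>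
      intro j
      rw [pow_succ', mul_smul]
      calc J • J ^ k • G j ≤ J • G (j + k) := Submodule.smul_mono le_rfl (ih j)
        _ ≤ G (j + k + 1) := hJG _
  have hpow : ∀ k, G k = J ^ k • G 0 ⊔ G (k + 1) := by
    intro k
    induction k with
    | zero =>
      rw [pow_zero, Ideal.one_eq_top, Submodule.top_smul]
      exact (sup_eq_left.mpr (hG (Nat.le_succ 0))).symm
    | succ k ih =>
      conv_lhs => rw [hstep k, ih, Submodule.smul_sup, ← mul_smul, ← pow_succ']
      rw [sup_assoc]
      congr 1
      exact sup_eq_right.mpr (hJG (k + 1))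
  let F : J.Filtration M :=
    { N := G
      mono := fun i => hG (Nat.le_succ i)
      smul_le := hJG }
  have main := exists_eq_sum_of_step (I := J) F hsep (fun _ : Fin r => 0) x
    (fun i => hx0 i) (fun _ => True) (by
      intro n m _ hm
      have hm' : m ∈ J ^ n • G 0 ⊔ G (n + 1) := hpow n ▸ hm
      have hle : J ^ n • G 0 ⊔ G (n + 1) ≤
          J ^ n • Submodule.span S (Set.range x) ⊔ G (n + 1) := by
        refine sup_le ?_ le_sup_right
        calc J ^ n • G 0 ≤ J ^ n • (Submodule.span S (Set.range x) ⊔ G 1) :=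
              Submodule.smul_mono le_rfl hcover
          _ = J ^ n • Submodule.span S (Set.range x) ⊔ J ^ n • G 1 := Submodule.smul_sup _ _ _
          _ ≤ J ^ n • Submodule.span S (Set.range x) ⊔ G (n + 1) :=
              sup_le_sup_left (by simpa [add_comm] using hpowle n 1) _
      obtain ⟨u, hu, v, hv, rfl⟩ := Submodule.mem_sup.mp (hle hm')
      obtain ⟨a, ha, rfl⟩ := (Submodule.mem_ideal_smul_span_iff_exists_sum _ x u).mp hu
      refine ⟨fun i => a i, fun i => by simpa using ha i, trivial, ?_⟩
      rw [Finsupp.sum_fintype _ _ (fun i => zero_smul S (x i))]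
      simpa using hv)
  constructor
  · have : G 0 = Submodule.span S (Set.range x) := by
      apply le_antisymm
      · intro m hm
        obtain ⟨a, _, rfl⟩ := main 0 m trivial hm
        exact Submodule.sum_mem _ fun i _ =>
          Submodule.smul_mem _ _ (Submodule.subset_span (Set.mem_range_self i))
      · rw [Submodule.span_le]
        rintro _ ⟨i, rfl⟩
        exact hx0 i
    rw [this]
    exact Submodule.fg_span (Set.finite_range x)
  · intro m hm
    obtain ⟨a, ha, rfl⟩ := main 1 m trivial hm
    exact Submodule.sum_mem _ fun i _ =>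
      Submodule.smul_mem_smul (by simpa using ha i) (hx0 i)

/-- Let S be a Noetherian ring which is separated and complete for the adic topology of an ideal J, and
let M be an S-module with a decreasing filtration (F^p M)_{p ∈ ℤ} by submodules such that F^p M = M
for some p, J·F^p M ⊆ F^{p+1} M for all p, and ⋂_p F^p M = 0. Then the following are equivalent: (a)
M is a finitely generated S-module and J·F^p M = F^{p+1} M for all large p; (c) every F^p M /
F^{p+1} M is a finitely generated S-module and, for all large p, the map J ⊗ (F^p M/F^{p+1} M) ⟶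
F^{p+1} M/F^{p+2} M is surjective, that is F^{p+1} M = J·F^p M + F^{p+2} M. (The published statement
also lists a third equivalent condition, finite generation of the associated graded module over the
associated graded ring; this row states the equivalence of the other two.) -/
theorem result {S : Type u} [CommRing S] [IsNoetherianRing S]
    (J : Ideal S) [IsAdicComplete J S] {M : Type u} [AddCommGroup M] [Module S M]
    (F : ℤ → Submodule S M) (hF : Antitone F) (hcod : ∃ p₀ : ℤ, F p₀ = ⊤)
    (hJ : ∀ p : ℤ, J • F p ≤ F (p + 1)) (hsep : ⨅ p : ℤ, F p = ⊥) :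
    (Module.Finite S M ∧ ∃ p₁ : ℤ, ∀ p : ℤ, p₁ ≤ p → J • F p = F (p + 1)) ↔
      ((∀ p : ℤ, (Submodule.map (F (p + 1)).mkQ (F p)).FG) ∧
        ∃ p₁ : ℤ, ∀ p : ℤ, p₁ ≤ p → F (p + 1) = J • F p ⊔ F (p + 2)) := by
  constructor
  · rintro ⟨hfin, p₁, hp₁⟩
    have : IsNoetherian S M := isNoetherian_of_isNoetherianRing_of_finite S M
    refine ⟨fun p => (IsNoetherian.noetherian (F p)).map _, p₁, fun p hp => ?_⟩
    rw [hp₁ p hp]
    exact (sup_eq_left.mpr (hF (by omega))).symm
  · rintro ⟨hfg, p₁, hp₁⟩
    have hkey : ∀ p : ℤ, p₁ ≤ p → (F p).FG ∧ F (p + 1) ≤ J • F p := by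
      intro p hp
      refine key J (fun k : ℕ => F (p + k)) (fun a b hab => hF (by omega)) ?_ ?_ (F p) (F (p + 1))
        (by simp) (by simp) (hfg p) ?_
      · intro k
        have := hJ (p + k)
        rwa [show p + (k : ℤ) + 1 = p + ((k + 1 : ℕ) : ℤ) by push_cast; ring] at this
      · rw [eq_bot_iff, ← hsep]
        refine le_iInf fun q => ?_
        by_cases hq : q ≤ p
        · exact iInf_le_of_le 0 (hF (by omega))
        · exact iInf_le_of_le (q - p).toNat (hF (by omega))
      · intro k
        show F (p + ((k + 1 : ℕ) : ℤ)) = J • F (p + (k : ℤ)) ⊔ F (p + ((k + 2 : ℕ) : ℤ))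
        rw [show p + ((k + 1 : ℕ) : ℤ) = p + k + 1 by push_cast; ring,
          show p + ((k + 2 : ℕ) : ℤ) = p + k + 2 by push_cast; ring]
        exact hp₁ _ (by omega)
    obtain ⟨p₀, hp₀⟩ := hcod
    have hdown : ∀ k : ℕ, (F (max p₁ p₀ - k)).FG := by
      intro k
      induction k with
      | zero => simpa using (hkey _ (le_max_left _ _)).1
      | succ k ih =>
        have h1 := hfg (max p₁ p₀ - ((k + 1 : ℕ) : ℤ))
        have h2 : max p₁ p₀ - ((k + 1 : ℕ) : ℤ) + 1 = max p₁ p₀ - (k : ℤ) := by
          push_cast; ring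
        rw [h2] at h1
        refine Submodule.fg_of_fg_map_of_fg_inf_ker (F (max p₁ p₀ - (k : ℤ))).mkQ h1 ?_
        rw [Submodule.ker_mkQ, inf_eq_right.mpr (hF (by omega))]
        exact ih
    refine ⟨?_, p₁, fun p hp => le_antisymm (hJ p) (hkey p hp).2⟩
    have h3 : (F p₀).FG := by
      have := hdown (max p₁ p₀ - p₀).toNat
      rwa [show max p₁ p₀ - ((max p₁ p₀ - p₀).toNat : ℤ) = p₀ by omega] at this
    rw [hp₀] at h3
    exact ⟨h3⟩

end Groth.Agent.S8353
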