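import Groth.Statements.S8355
-- import your own Groth.Agent.* helpers here

set_option autoImplicit false
universe v u
open CategoryTheory CategoryTheory.Limits
open SpSeq

namespace Groth.Agent.S8355

section helpers

variable {C : Type u} [Category.{v} C] [Abelian C] {r₀ : ℤ}

/-- zero at a position on one page implies zero on the next page -/
lemma isZero_next (E : CohomologicalSpectralSequence C r₀) (k : ℤ) (hk : r₀ ≤ k) (pq : ℤ × ℤ)
    (h : IsZero ((E.page k hk).X pq)) :
    IsZero ((E.page (k + 1) (hk.trans (Int.le_add_one le_rfl))).X pq) := by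
  have h1 : IsZero ((E.page k hk).homology pq) :=
    (HomologicalComplex.ExactAt.of_isZero h).isZero_homology
  exact IsZero.of_iso h1 (E.iso k (k + 1) pq rfl hk).symm

/-- zero at a position on the next page implies zero on this page when both differentials at the
position vanish -/
lemma isZero_prev (E : CohomologicalSpectralSequence C r₀) (k : ℤ) (hk : r₀ ≤ k) (pq : ℤ × ℤ)
    (hin : (E.page k hk).d (pq - (k, 1 - k)) pq = 0)
    (hout : (E.page k hk).d pq (pq + (k, 1 - k)) = 0)
    (h : IsZero ((E.page (k + 1) (hk.trans (Int.le_add_one le_rfl))).X pq)) :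
    IsZero ((E.page k hk).X pq) := by
  have h1 : IsZero ((E.page k hk).homology pq) :=
    IsZero.of_iso h (E.iso k (k + 1) pq rfl hk)
  have hnext : (ComplexShape.up' ((k, 1 - k) : ℤ × ℤ)).next pq = pq + (k, 1 - k) :=
    ComplexShape.next_eq' _ (ComplexShape.up'_mk _ _ _ rfl)
  have hprev : (ComplexShape.up' ((k, 1 - k) : ℤ × ℤ)).prev pq = pq - (k, 1 - k) :=
    ComplexShape.prev_eq' _ (ComplexShape.up'_mk _ _ _ (sub_add_cancel _ _))
  have e1 := (E.page k hk).iCyclesIso pq _ hnext hout
  have e2 := (E.page k hk).isoHomologyπ _ pq hprev hin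
  exact IsZero.of_iso h1 (e1.symm ≪≫ e2)

end helpers

/-- Let E be a spectral sequence in an abelian category and suppose E_r^{p,q} = 0. Then E_k^{p,q} = 0
for every k ≥ r, and E_∞^{p,q} = 0: for any abutment data (H^n) of E, the graded piece gr^p H^{p+q},
identified by the abutment with the limit term at (p, q), is zero. -/
theorem result {C : Type u} [Category.{v} C] [Abelian C] {r₀ : ℤ}
    (E : CohomologicalSpectralSequence C r₀) (r : ℤ) (hr : r₀ ≤ r) (pq : ℤ × ℤ)
    (h : IsZero ((E.page r hr).X pq)) :
    (∀ (k : ℤ) (hk : r ≤ k), IsZero ((E.page k (hr.trans hk)).X pq)) ∧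
      ∀ (H : ℤ → C) (a : SpSeq.Abutment E H),
        IsZero (SpSeq.grPiece (a.fil (pq.1 + pq.2)) (a.anti (pq.1 + pq.2)) pq.1) := by
  have part1 : ∀ (k : ℤ) (hk : r ≤ k), IsZero ((E.page k (hr.trans hk)).X pq) := by
    intro k hk
    induction k, hk using Int.leInduction with
    | base => exact h
    | succ k hk ih => exact isZero_next E k (hr.trans hk) pq ih
  refine ⟨part1, ?_⟩
  intro H a
  refine IsZero.of_iso ?_ (a.β pq).symm
  have hstat := a.stat pq
  -- downward induction from page `r` (or upward from `r` if `rk pq ≥ r`)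
  rcases le_total r (a.rk pq) with hle | hle
  · exact part1 _ hle
  · have key : ∀ (d : ℕ) (k : ℤ) (hk : a.rk pq ≤ k), k + d = r →
        IsZero ((E.page k (hstat.1.trans hk)).X pq) := by
      intro d
      induction d with
      | zero =>
        intro k hk hkr
        have : k = r := by simpa using hkr
        subst this
        exact h
      | succ d ih =>
        intro k hk hkr
        have h1 := ih (k + 1) (hk.trans (Int.le_add_one le_rfl)) (by push_cast at hkr ⊢; omega)
        obtain ⟨hin, hout⟩ := hstat.2 k (hstat.1.trans hk) hk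
        exact isZero_prev E k (hstat.1.trans hk) pq hin hout h1
    obtain ⟨d, hd⟩ := Int.le.dest hle
    exact key d (a.rk pq) le_rfl hd

end Groth.Agent.S8355
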