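import Groth.Statements.S8361
import Mathlib

set_option autoImplicit false
universe u
open CategoryTheory MonObj AlgebraicGeometry
open LieS

namespace Groth.Agent.S8361

open TopologicalSpace

lemma away_map_injective {R S P Q : Type*} [CommRing R] [CommRing S] [CommRing P] [CommRing Q]
    [Algebra R S] [Algebra P Q] (g : R →+* P) (r : R)
    [IsLocalization.Away r S] [IsLocalization.Away (g r) Q] (hg : Function.Injective g) :
    Function.Injective (IsLocalization.Away.map S Q g r) := by
  have : IsLocalization ((Submonoid.powers r).map g) Q := by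
    rw [Submonoid.map_powers]; infer_instance
  exact IsLocalization.map_injective_of_injective (Submonoid.powers r) S Q hg

/-- Step 1: for a morphism of affine schemes injective on global sections,
all section maps are injective. -/
lemma app_injective_of_affine {X' X : Scheme.{u}} [IsAffine X'] [IsAffine X] (π : X' ⟶ X)
    (hinj : Function.Injective π.appTop) (U : X.Opens) : Function.Injective (π.app U) := by
  rw [injective_iff_map_eq_zero]
  intro s hs
  apply TopCat.Presheaf.section_ext X.sheaf U s 0
  intro x hx
  obtain ⟨r, hr1, hr2⟩ := (isAffineOpen_top X).exists_basicOpen_le (V := U) ⟨x, hx⟩ trivial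
  have hU0 := isAffineOpen_top X
  have hV0 := isAffineOpen_top X'
  have e0 : (⊤ : X'.Opens) ≤ π ⁻¹ᵁ ⊤ := le_top
  letI := hU0.isLocalization_basicOpen r
  letI := hV0.isLocalization_basicOpen (π.appLE ⊤ ⊤ e0 r)
  have key := IsAffineOpen.appLE_eq_away_map π hU0 hV0 e0 r
  have hinj' : Function.Injective (π.appLE ⊤ ⊤ e0).hom := by
    have : π.appLE ⊤ ⊤ e0 = π.appTop := by
      change π.app ⊤ ≫ X'.presheaf.map (𝟙 (Opposite.op (π ⁻¹ᵁ ⊤))) = π.app ⊤
      rw [X'.presheaf.map_id]; exact Category.comp_id _
    rw [this]; exact hinj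
  have hmapinj := away_map_injective (S := Γ(X, X.basicOpen r))
    (Q := Γ(X', X'.basicOpen (π.appLE ⊤ ⊤ e0 r))) (π.appLE ⊤ ⊤ e0).hom r hinj'
  -- the restriction of s to D(r) is zero
  have hres : X.presheaf.map (homOfLE hr1).op s = 0 := by
    apply hmapinj
    rw [map_zero]
    have h1 := congrArg (fun φ => φ.hom (X.presheaf.map (homOfLE hr1).op s)) key
    simp only [CommRingCat.hom_ofHom] at h1
    rw [← h1]
    change (X.presheaf.map (homOfLE hr1).op ≫ π.appLE (X.basicOpen r) _ _).hom s = 0
    rw [Scheme.Hom.map_appLE]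
    unfold Scheme.Hom.appLE
    rw [CommRingCat.hom_comp, RingHom.comp_apply]
    change (X'.presheaf.map _).hom (π.app U s) = 0
    rw [hs, map_zero]
  have hg := TopCat.Presheaf.germ_res_apply X.presheaf (homOfLE hr1) x hr2 s
  change X.presheaf.germ U x hx s = X.presheaf.germ U x hx 0
  rw [← hg, hres, map_zero, map_zero]

lemma map_map_eq_self {X : Scheme.{u}} {V W : X.Opens} (j2 : Opposite.op V ⟶ Opposite.op W)
    (j1 : Opposite.op W ⟶ Opposite.op V) (c : Γ(X, V)) :
    (X.presheaf.map j1).hom ((X.presheaf.map j2).hom c) = c := by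
  rw [← RingHom.comp_apply, ← CommRingCat.hom_comp, ← Functor.map_comp,
    Subsingleton.elim (j2 ≫ j1) (𝟙 _), X.presheaf.map_id]
  rfl

/-- Step 2: a surjective morphism with injective section maps is an epimorphism of schemes. -/
lemma epi_of_surjective_of_app_injective {X' X : Scheme.{u}} (π : X' ⟶ X)
    (hs : Function.Surjective π.base) (hinj : ∀ U, Function.Injective (π.app U)) : Epi π := by
  constructor
  intro Y u v h
  have hbase : u.base = v.base := by
    ext x
    obtain ⟨x', rfl⟩ := hs x
    exact congrArg (fun g : X' ⟶ Y => g.base x') h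
  refine Scheme.Hom.ext hbase (fun U => ?_)
  ext a
  apply hinj (v ⁻¹ᵁ U)
  -- RHS
  have hR : π.app (v ⁻¹ᵁ U) (v.app U a) = (π ≫ v).app U a := rfl
  -- LHS
  have hnat := π.naturality (eqToHom congr((Opens.map $hbase.symm).obj U)).op
  have hL : π.app (v ⁻¹ᵁ U) ((X.presheaf.map
      (eqToHom congr((Opens.map $hbase.symm).obj U)).op).hom (u.app U a))
      = (X'.presheaf.map ((Opens.map π.base).map
          (eqToHom congr((Opens.map $hbase.symm).obj U)).op.unop).op).hom
          (π.app (u ⁻¹ᵁ U) (u.app U a)) :=
    congrArg (fun φ => φ.hom (u.app U a)) hnat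
  have hU : π.app (u ⁻¹ᵁ U) (u.app U a) = (π ≫ u).app U a := rfl
  have hc := congrArg (fun φ => φ.hom a) (Scheme.Hom.congr_app h U)
  simp only [CommRingCat.hom_comp, RingHom.comp_apply] at hc
  refine (hL.trans ?_).trans hR.symm
  rw [hU]
  refine (congrArg _ hc).trans ?_
  exact map_map_eq_self _ _ _

lemma mulHom_fst_fst {B : Type u} [CommRing B] (x : DualNumber B) :
    (mulHom B x).fst = algebraMap B (DualNumber B) x.fst := by
  simp [mulHom, toD2, TrivSqZeroExt.algebraMap_eq_inl']

lemma mulHom_snd_snd {B : Type u} [CommRing B] (x : DualNumber B) :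
    (mulHom B x).snd.snd = x.snd := by
  simp [mulHom, toD2, TrivSqZeroExt.algebraMap_eq_inl']

lemma mulHom_injective (B : Type u) [CommRing B] : Function.Injective (mulHom B) := by
  intro x y h
  have h1 := congrArg (fun z => z.fst.fst) h
  have h2 := congrArg (fun z => z.snd.snd) h
  simp only [mulHom_fst_fst, mulHom_snd_snd, TrivSqZeroExt.algebraMap_eq_inl',
    TrivSqZeroExt.fst_inl] at h1 h2
  exact TrivSqZeroExt.ext h1 h2

lemma appTop_injective {R S : CommRingCat.{u}} (φ : R ⟶ S) (h : Function.Injective φ) :
    Function.Injective (Spec.map φ).appTop := by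
  have e := Scheme.ΓSpecIso_naturality φ
  intro a b hab
  have h1 := congrArg (fun ψ => ψ.hom a) e
  have h2 := congrArg (fun ψ => ψ.hom b) e
  simp only [CommRingCat.hom_comp, RingHom.comp_apply] at h1 h2
  have h3 : φ.hom ((Scheme.ΓSpecIso R).hom.hom a) = φ.hom ((Scheme.ΓSpecIso R).hom.hom b) := by
    rw [← h1, ← h2]
    exact congrArg _ hab
  exact (ConcreteCategory.bijective_of_isIso (Scheme.ΓSpecIso R).hom).1 (h h3)

lemma mulHom_spec_surjective (B : Type u) [CommRing B] :
    Function.Surjective (Spec.map (CommRingCat.ofHom (mulHom B) : CommRingCat.of (DualNumber B) ⟶ CommRingCat.of (D2 B))).base := by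
  intro p
  let ρ : D2 B →+* DualNumber B :=
    (TrivSqZeroExt.fstHom (DualNumber B) (DualNumber B) (DualNumber B)).toRingHom
  haveI : p.asIdeal.IsPrime := p.isPrime
  refine ⟨⟨Ideal.comap ρ p.asIdeal, Ideal.comap_isPrime ρ p.asIdeal⟩, ?_⟩
  apply PrimeSpectrum.ext
  change Ideal.comap (mulHom B) (Ideal.comap ρ p.asIdeal) = p.asIdeal
  ext x
  rw [Ideal.mem_comap, Ideal.mem_comap]
  have h1 : ρ (mulHom B x) = algebraMap B (DualNumber B) x.fst := mulHom_fst_fst x
  rw [h1]
  have hnil : (x - algebraMap B (DualNumber B) x.fst) ∈ p.asIdeal := by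
    apply p.isPrime.mem_of_pow_mem 2
    have : (x - algebraMap B (DualNumber B) x.fst) ^ 2 = 0 := by
      rw [pow_two]
      apply TrivSqZeroExt.ext <;>
        simp [TrivSqZeroExt.algebraMap_eq_inl']
    rw [this]
    exact Ideal.zero_mem _
  constructor
  · intro h
    have := Ideal.add_mem _ h hnil
    rwa [add_sub_cancel] at this
  · intro h
    have := Ideal.sub_mem _ h hnil
    rwa [sub_sub_cancel] at this

/-- Uniqueness of the bracket: for a group scheme G over a scheme S and an affine S-scheme T = Spec B:
an element of Lie(G/S)(T) is determined by its pull-back along the coordinate-multiplying map from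
the iterated dual numbers over T to the dual numbers over T; in particular the bracket of x and y,
the element whose pull-back is the commutator of x read in the second dual coordinate with y read in
the first, is unique when it exists. -/
theorem result (S : Scheme.{u}) (G : Over S) [GrpObj G] (B : Type u) [CommRing B]
    (f : Spec (CommRingCat.of B) ⟶ S) (x y z z' : LieS.Lie G B f)
    (h : LieS.IsBracket G B f x y z) (h' : LieS.IsBracket G B f x y z') : z = z' := by
  have hepi : Epi (Spec.map (CommRingCat.ofHom (mulHom B) : CommRingCat.of (DualNumber B) ⟶ CommRingCat.of (D2 B))) := by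
    apply epi_of_surjective_of_app_injective _ (mulHom_spec_surjective B)
    apply app_injective_of_affine
    exact appTop_injective _ (mulHom_injective B)
  have h1 : mulMap B f ≫ z.1 = mulMap B f ≫ z'.1 := h.trans h'.symm
  have h2 : (mulMap B f).left ≫ z.1.left = (mulMap B f).left ≫ z'.1.left :=
    congrArg (fun g => g.left) h1
  have h3 : z.1.left = z'.1.left := by
    have : (mulMap B f).left = Spec.map (CommRingCat.ofHom (mulHom B) : CommRingCat.of (DualNumber B) ⟶ CommRingCat.of (D2 B)) := rfl
    rw [this] at h2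
    exact hepi.left_cancellation _ _ h2
  exact Subtype.ext (Over.OverMorphism.ext h3)

end Groth.Agent.S8361
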