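import Groth.Statements.S8365
import Groth.Agent.S8361
import Mathlib

set_option autoImplicit false
universe u
open CategoryTheory MonObj AlgebraicGeometry
open LieS

namespace Groth.Agent.S8365

open CategoryTheory.Limits

/-- maps out of `Spec (R × S)` are determined by the two restrictions -/
lemma spec_prod_hom_ext (R S : Type u) [CommRing R] [CommRing S] {Y : Scheme.{u}}
    (a b : Spec (CommRingCat.of (R × S)) ⟶ Y)
    (h1 : Spec.map (CommRingCat.ofHom (RingHom.fst R S)) ≫ a
      = Spec.map (CommRingCat.ofHom (RingHom.fst R S)) ≫ b)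
    (h2 : Spec.map (CommRingCat.ofHom (RingHom.snd R S)) ≫ a
      = Spec.map (CommRingCat.ofHom (RingHom.snd R S)) ≫ b) : a = b := by
  rw [← cancel_epi (coprodSpec R S)]
  apply coprod.hom_ext
  · rw [← Category.assoc, ← Category.assoc, coprodSpec_inl, h1]
  · rw [← Category.assoc, ← Category.assoc, coprodSpec_inr, h2]

/-- joint epi for two ring maps with jointly injective product and the first one
Spec-surjective -/
lemma jointEpi {A A₁ A₂ : Type u} [CommRing A] [CommRing A₁] [CommRing A₂]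
    (φ₁ : A →+* A₁) (φ₂ : A →+* A₂)
    (hinj : Function.Injective (φ₁.prod φ₂))
    (hsurj : Function.Surjective (Spec.map (CommRingCat.ofHom φ₁)).base)
    {Y : Scheme.{u}} (a b : Spec (CommRingCat.of A) ⟶ Y)
    (h1 : Spec.map (CommRingCat.ofHom φ₁) ≫ a = Spec.map (CommRingCat.ofHom φ₁) ≫ b)
    (h2 : Spec.map (CommRingCat.ofHom φ₂) ≫ a = Spec.map (CommRingCat.ofHom φ₂) ≫ b) :
    a = b := by
  have hepi : Epi (Spec.map (CommRingCat.ofHom (φ₁.prod φ₂))) := by
    apply Groth.Agent.S8361.epi_of_surjective_of_app_injective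
    · intro p
      obtain ⟨q, rfl⟩ := hsurj p
      refine ⟨(Spec.map (CommRingCat.ofHom (RingHom.fst A₁ A₂))).base q, ?_⟩
      have : Spec.map (CommRingCat.ofHom (RingHom.fst A₁ A₂)) ≫
          Spec.map (CommRingCat.ofHom (φ₁.prod φ₂)) = Spec.map (CommRingCat.ofHom φ₁) := by
        rw [← Spec.map_comp, ← CommRingCat.ofHom_comp]
        rfl
      rw [← this]
      rfl
    · apply Groth.Agent.S8361.app_injective_of_affine
      exact Groth.Agent.S8361.appTop_injective _ hinj
  apply hepi.left_cancellation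
  apply spec_prod_hom_ext
  · rw [← Category.assoc, ← Category.assoc, ← Spec.map_comp, ← CommRingCat.ofHom_comp]
    exact h1
  · rw [← Category.assoc, ← Category.assoc, ← Spec.map_comp, ← CommRingCat.ofHom_comp]
    exact h2

section DM
variable {S : Scheme.{u}} (B : Type u) [CommRing B] (f : Spec (CommRingCat.of B) ⟶ S)

/-- the square-zero thickening `Spec (B ⊕ M)` over `S` -/
noncomputable def DM (M : Type u) [AddCommGroup M] [Module B M] [Module Bᵐᵒᵖ M]
    [IsCentralScalar B M] : Over S :=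
  Over.mk (Spec.map (CommRingCat.ofHom (algebraMap B (TrivSqZeroExt B M))) ≫ f)

variable {M N P : Type u} [AddCommGroup M] [Module B M] [Module Bᵐᵒᵖ M] [IsCentralScalar B M]
  [AddCommGroup N] [Module B N] [Module Bᵐᵒᵖ N] [IsCentralScalar B N]
  [AddCommGroup P] [Module B P] [Module Bᵐᵒᵖ P] [IsCentralScalar B P]

/-- functoriality in the module -/
noncomputable def Dm (g : M →ₗ[B] N) : DM B f N ⟶ DM B f M :=
  Over.homMk (Spec.map (CommRingCat.ofHom (TrivSqZeroExt.map g).toRingHom)) (by
    change Spec.map _ ≫ Spec.map _ ≫ f = Spec.map _ ≫ f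
    rw [← Category.assoc, LieS.specMap_comp]
    congr 3
    exact (TrivSqZeroExt.map g).comp_algebraMap)

lemma Dm_comp (g : M →ₗ[B] N) (g' : P →ₗ[B] M) :
    Dm B f g ≫ Dm B f g' = Dm B f (g ∘ₗ g') := by
  ext
  change Spec.map _ ≫ Spec.map _ = Spec.map _
  rw [LieS.specMap_comp]
  congr 2
  ext z <;> simp

lemma Dm_id : Dm B f (LinearMap.id : M →ₗ[B] M) = 𝟙 _ := by
  ext
  change Spec.map _ = 𝟙 _
  rw [TrivSqZeroExt.map_id]
  erw [Spec.map_id]

lemma scale_eq (b : B) :
    LieS.scale B f b = Dm B f (b • LinearMap.id : B →ₗ[B] B) := by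
  ext
  change Spec.map _ = Spec.map _
  congr 2
  ext z <;> simp [LieS.scaleHom, TrivSqZeroExt.algebraMap_eq_inl']

lemma Dm_zero : Dm B f (0 : B →ₗ[B] B) = LieS.proj B f ≫ LieS.zeroSec B f := by
  ext
  change Spec.map _ = Spec.map _ ≫ Spec.map _
  rw [LieS.specMap_comp]
  congr 2
  ext z <;> simp [TrivSqZeroExt.algebraMap_eq_inl']

/-- `proj` typed on `DM` -/
noncomputable def projD : DM B f B ⟶ LieS.pt B f := LieS.proj B f
/-- `zeroSec` typed on `DM` -/
noncomputable def zeroD : LieS.pt B f ⟶ DM B f B := LieS.zeroSec B f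

lemma zeroD_projD : zeroD B f ≫ projD B f = 𝟙 _ := LieS.zeroSec_proj B f

lemma Dm_zero' : Dm B f (0 : B →ₗ[B] B) = projD B f ≫ zeroD B f := Dm_zero B f

lemma sq_zero_of_fst_eq_zero {M : Type u} [AddCommGroup M] [Module B M] [Module Bᵐᵒᵖ M]
    [IsCentralScalar B M] (z : TrivSqZeroExt B M) (hz : z.fst = 0) : z ^ 2 = 0 := by
  rw [pow_two]
  apply TrivSqZeroExt.ext <;> simp [hz]

lemma prod_injective :
    Function.Injective (((TrivSqZeroExt.map (LinearMap.fst B B B)).toRingHom).prod
      ((TrivSqZeroExt.map (LinearMap.snd B B B)).toRingHom)) := by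
  intro z z' h
  have h1 := congrArg Prod.fst h
  have h2 := congrArg Prod.snd h
  simp only [RingHom.prod_apply] at h1 h2
  have a1 := congrArg TrivSqZeroExt.fst h1
  have a2 := congrArg TrivSqZeroExt.snd h1
  have a3 := congrArg TrivSqZeroExt.snd h2
  simp only [AlgHom.toRingHom_eq_coe, RingHom.coe_coe, TrivSqZeroExt.fst_map,
    TrivSqZeroExt.snd_map, LinearMap.fst_apply, LinearMap.snd_apply] at a1 a2 a3
  exact TrivSqZeroExt.ext a1 (Prod.ext a2 a3)

lemma spec_surjective_fst :
    Function.Surjective (Spec.map (CommRingCat.ofHom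
      (TrivSqZeroExt.map (LinearMap.fst B B B)).toRingHom)).base := by
  intro p
  haveI : p.asIdeal.IsPrime := p.isPrime
  let ι₁ : TrivSqZeroExt B B →+* TrivSqZeroExt B (B × B) :=
    (TrivSqZeroExt.map (LinearMap.inl B B B)).toRingHom
  refine ⟨⟨Ideal.comap ι₁ p.asIdeal, Ideal.comap_isPrime ι₁ p.asIdeal⟩, ?_⟩
  apply PrimeSpectrum.ext
  change Ideal.comap (TrivSqZeroExt.map (LinearMap.fst B B B)).toRingHom
    (Ideal.comap ι₁ p.asIdeal) = p.asIdeal
  ext z
  rw [Ideal.mem_comap, Ideal.mem_comap]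
  set z' := ι₁ ((TrivSqZeroExt.map (LinearMap.fst B B B)).toRingHom z) with hz'
  have hnil : z - z' ∈ p.asIdeal := by
    apply p.isPrime.mem_of_pow_mem 2
    rw [sq_zero_of_fst_eq_zero B (z - z') (by simp [hz', ι₁])]
    exact Ideal.zero_mem _
  constructor
  · intro h
    have := Ideal.add_mem _ h hnil
    rwa [add_sub_cancel] at this
  · intro h
    have := Ideal.sub_mem _ h hnil
    rwa [sub_sub_cancel] at this

lemma DM_prod_ext {Y : Over S} (u v : DM B f (B × B) ⟶ Y)
    (h1 : Dm B f (LinearMap.fst B B B) ≫ u = Dm B f (LinearMap.fst B B B) ≫ v)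
    (h2 : Dm B f (LinearMap.snd B B B) ≫ u = Dm B f (LinearMap.snd B B B) ≫ v) : u = v := by
  apply Over.OverMorphism.ext
  exact jointEpi _ _ (prod_injective B) (spec_surjective_fst B) u.left v.left
    (congrArg (fun t => t.left) h1) (congrArg (fun t => t.left) h2)

lemma core (X : Over S) [MonObj X] (u : DM B f B ⟶ X)
    (hu : Dm B f (0 : B →ₗ[B] B) ≫ u = 1) (b₁ b₂ : B) :
    (Dm B f (b₁ • LinearMap.id : B →ₗ[B] B) ≫ u) * (Dm B f (b₂ • LinearMap.id : B →ₗ[B] B) ≫ u)
      = Dm B f ((b₁ + b₂) • LinearMap.id : B →ₗ[B] B) ≫ u := by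
  let g₁ : B →ₗ[B] B := b₁ • LinearMap.id
  let g₂ : B →ₗ[B] B := b₂ • LinearMap.id
  let a : DM B f (B × B) ⟶ X :=
    (Dm B f (LinearMap.inl B B B) ≫ Dm B f g₁ ≫ u) * (Dm B f (LinearMap.inr B B B) ≫ Dm B f g₂ ≫ u)
  let b : DM B f (B × B) ⟶ X := Dm B f (LinearMap.prod g₁ g₂) ≫ u
  have hab : a = b := by
    apply DM_prod_ext
    · dsimp only [a, b]
      rw [MonObj.comp_mul]
      simp only [← Category.assoc, Dm_comp]
      have e1 : LinearMap.fst B B B ∘ₗ LinearMap.inl B B B ∘ₗ g₁ = g₁ := by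
        ext; simp
      have e2 : LinearMap.fst B B B ∘ₗ LinearMap.inr B B B ∘ₗ g₂ = 0 := by
        ext; simp
      have e3 : LinearMap.fst B B B ∘ₗ LinearMap.prod g₁ g₂ = g₁ := by
        ext; simp
      rw [e1, e2, e3, hu, _root_.mul_one]
    · dsimp only [a, b]
      rw [MonObj.comp_mul]
      simp only [← Category.assoc, Dm_comp]
      have e1 : LinearMap.snd B B B ∘ₗ LinearMap.inl B B B ∘ₗ g₁ = 0 := by
        ext; simp
      have e2 : LinearMap.snd B B B ∘ₗ LinearMap.inr B B B ∘ₗ g₂ = g₂ := by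
        ext; simp
      have e3 : LinearMap.snd B B B ∘ₗ LinearMap.prod g₁ g₂ = g₂ := by
        ext; simp
      rw [e1, e2, e3, hu, _root_.one_mul]
  have h := congrArg (fun t => Dm B f (LinearMap.coprod LinearMap.id LinearMap.id : B × B →ₗ[B] B) ≫ t)
    hab
  dsimp only [a, b] at h
  rw [MonObj.comp_mul] at h
  simp only [← Category.assoc, Dm_comp] at h
  have e1 : (LinearMap.coprod LinearMap.id LinearMap.id : B × B →ₗ[B] B) ∘ₗ LinearMap.inl B B B
      ∘ₗ g₁ = g₁ := by ext; simp
  have e2 : (LinearMap.coprod LinearMap.id LinearMap.id : B × B →ₗ[B] B) ∘ₗ LinearMap.inr B B B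
      ∘ₗ g₂ = g₂ := by ext; simp
  have e3 : (LinearMap.coprod LinearMap.id LinearMap.id : B × B →ₗ[B] B) ∘ₗ LinearMap.prod g₁ g₂
      = (b₁ + b₂) • LinearMap.id := by
    ext; simp [g₁, g₂]
  rw [e1, e2, e3] at h
  exact h

end DM

theorem main_aux {S : Scheme.{u}} (X : Over S) [MonObj X] (B : Type u) [CommRing B]
    (f : Spec (CommRingCat.of B) ⟶ S) (v : DM B f B ⟶ X) :
    IsUnit v ↔ IsUnit (zeroD B f ≫ v) := by
  constructor
  · intro h
    obtain ⟨w, h1, h2⟩ := isUnit_iff_exists.mp h
    refine isUnit_iff_exists.mpr ⟨zeroD B f ≫ w, ?_, ?_⟩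
    · rw [← MonObj.comp_mul, h1, MonObj.comp_one]
    · rw [← MonObj.comp_mul, h2, MonObj.comp_one]
  · intro h
    obtain ⟨w₀, h1, h2⟩ := isUnit_iff_exists.mp h
    set v₀ := zeroD B f ≫ v with hv₀
    let u : DM B f B ⟶ X := v * (projD B f ≫ w₀)
    have hu0 : zeroD B f ≫ u = 1 := by
      dsimp only [u]
      rw [MonObj.comp_mul, ← Category.assoc, zeroD_projD, Category.id_comp, ← hv₀, h1]
    have hu : Dm B f (0 : B →ₗ[B] B) ≫ u = 1 := by
      rw [Dm_zero', Category.assoc, hu0, MonObj.comp_one]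
    have hid : Dm B f ((1 : B) • LinearMap.id : B →ₗ[B] B) = 𝟙 _ := by
      rw [one_smul, Dm_id]
    have c1 := core B f X u hu 1 (-1)
    have c2 := core B f X u hu (-1) 1
    rw [hid, Category.id_comp, add_neg_cancel, zero_smul, hu] at c1
    rw [hid, Category.id_comp, neg_add_cancel, zero_smul, hu] at c2
    have hunit_u : IsUnit u := isUnit_iff_exists.mpr ⟨_, c1, c2⟩
    have hunit_p : IsUnit (projD B f ≫ v₀) := by
      refine isUnit_iff_exists.mpr ⟨projD B f ≫ w₀, ?_, ?_⟩
      · rw [← MonObj.comp_mul, h1, MonObj.comp_one]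
      · rw [← MonObj.comp_mul, h2, MonObj.comp_one]
    have hv : v = u * (projD B f ≫ v₀) := by
      dsimp only [u]
      rw [_root_.mul_assoc, ← MonObj.comp_mul, h2, MonObj.comp_one, _root_.mul_one]
    rw [hv]
    exact hunit_u.mul hunit_p

/-- For a monoid scheme X over a scheme S (an associative unital monoid object in S-schemes) and an
affine S-scheme T = Spec B, a point of X with values in the dual numbers over T is invertible if and
only if its restriction along the zero section ε = 0 is invertible in X(T); in particular every such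
point restricting to the unit section is invertible. (The published statement is for monoid-valued
functors satisfying a tangent-space exactness condition, which every representable functor
satisfies, and its special case where the restriction is the unit section allows unital composition
laws that need not be associative; this row treats monoid schemes only.) -/
theorem result (S : Scheme.{u}) (X : Over S) [MonObj X] (B : Type u) [CommRing B]
    (f : Spec (CommRingCat.of B) ⟶ S) (v : LieS.dpt B f ⟶ X) :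
    IsUnit v ↔ IsUnit (LieS.zeroSec B f ≫ v) := by
  exact main_aux X B f v

end Groth.Agent.S8365
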