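import Groth.Statements.S8357
import Groth.Agent.S8365
import Mathlib

set_option autoImplicit false
universe u
open CategoryTheory MonObj AlgebraicGeometry
open LieS

namespace Groth.Agent.S8357

open Groth.Agent.S8365

lemma zpow_eq {S : Scheme.{u}} (G : Over S) [GrpObj G] (B : Type u) [CommRing B]
    (f : Spec (CommRingCat.of B) ⟶ S) (u : DM B f B ⟶ G)
    (hu : Dm B f (0 : B →ₗ[B] B) ≫ u = 1) (n : ℤ) :
    u ^ n = Dm B f (((n : ℤ) : B) • LinearMap.id : B →ₗ[B] B) ≫ u := by
  have hid : Dm B f ((1 : B) • LinearMap.id : B →ₗ[B] B) ≫ u = u := by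
    rw [one_smul, Dm_id, Category.id_comp]
  have hinv : u⁻¹ = Dm B f ((-1 : B) • LinearMap.id : B →ₗ[B] B) ≫ u := by
    have c1 := core B f G u hu 1 (-1)
    rw [hid, add_neg_cancel, zero_smul, hu] at c1
    exact (eq_inv_of_mul_eq_one_right c1).symm ▸ rfl
  induction n using Int.induction_on with
  | zero => rw [zpow_zero, Int.cast_zero, zero_smul, hu]
  | succ k ih =>
    rw [zpow_add_one, ih, Int.cast_add, Int.cast_one]
    have c := core B f G u hu ((k : ℤ) : B) 1
    rw [hid] at c
    exact c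
  | pred k ih =>
    rw [zpow_sub_one, ih, Int.cast_sub, Int.cast_one, hinv, sub_eq_add_neg]
    exact core B f G u hu _ (-1)

lemma Dm_zero_comp {S : Scheme.{u}} (G : Over S) [GrpObj G] (B : Type u) [CommRing B]
    (f : Spec (CommRingCat.of B) ⟶ S) (w : DM B f B ⟶ G) (h : zeroD B f ≫ w = 1) :
    Dm B f (0 : B →ₗ[B] B) ≫ w = 1 := by
  rw [Dm_zero', Category.assoc, h, MonObj.comp_one]

lemma main_aux {S : Scheme.{u}} (G : Over S) [GrpObj G] (B : Type u) [CommRing B]
    (f : Spec (CommRingCat.of B) ⟶ S) (w : DM B f B ⟶ G) (h : zeroD B f ≫ w = 1) (n : ℤ) :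
    w ^ n = Dm B f (((n : ℤ) : B) • LinearMap.id : B →ₗ[B] B) ≫ w :=
  zpow_eq G B f w (Dm_zero_comp G B f w h) n

/-- For a group scheme G over a scheme S and an affine S-scheme T = Spec B, the map induced on
Lie(G/S)(T) by the n-th power map of G is multiplication by n; that is, for v in Lie(G/S)(T) and an
integer n, the n-th power of v in the group law inherited from G is the rescaling of v by the image
of n in B. -/
theorem result (S : Scheme.{u}) (G : Over S) [GrpObj G] (B : Type u) [CommRing B]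
    (f : Spec (CommRingCat.of B) ⟶ S) (v : LieS.Lie G B f) (n : ℤ) :
    v ^ n = ((n : B) • v : LieS.Lie G B f) := by
  apply Subtype.ext
  rw [Subgroup.coe_zpow, LieS.smul_val, scale_eq]
  exact main_aux G B f v.1 ((LieS.mem_Lie_iff G B f v.1).1 v.2) n

end Groth.Agent.S8357
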