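import Groth.Statements.S8358
import Mathlib

set_option autoImplicit false
universe u
open CategoryTheory MonObj AlgebraicGeometry
open LieS

namespace Groth.Agent.S8358

open MonoidalCategory CartesianMonoidalCategory

section General
variable {R : Type u} [CommRing R] {A : Type u} [CommRing A] [HopfAlgebra R A]

/-- the algebra hom of a point with values in `Spec T` -/
noncomputable def phi {T : Type u} [CommRing T] [Algebra R T]
    (w : (Spec (CommRingCat.of T)).asOver (Spec (CommRingCat.of R)) ⟶
      (Spec (CommRingCat.of A)).asOver (Spec (CommRingCat.of R))) : A →ₐ[R] T :=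
  (Spec.mapMulEquiv.symm w).ofConv

lemma spec_phi {T : Type u} [CommRing T] [Algebra R T]
    (w : (Spec (CommRingCat.of T)).asOver (Spec (CommRingCat.of R)) ⟶
      (Spec (CommRingCat.of A)).asOver (Spec (CommRingCat.of R))) :
    Spec.map (CommRingCat.ofHom (phi w).toRingHom) = w.left := by
  have h := Spec.mapMulEquiv.apply_symm_apply w
  have h2 := congrArg (fun k => k.left) h
  exact h2

lemma phi_mul {T : Type u} [CommRing T] [Algebra R T]
    (w w' : (Spec (CommRingCat.of T)).asOver (Spec (CommRingCat.of R)) ⟶
      (Spec (CommRingCat.of A)).asOver (Spec (CommRingCat.of R))) :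
    WithConv.toConv (phi (w * w')) = WithConv.toConv (phi w) * WithConv.toConv (phi w') := by
  unfold phi
  exact map_mul Spec.mapMulEquiv.symm w w'

lemma phi_injective {T : Type u} [CommRing T] [Algebra R T]
    (w w' : (Spec (CommRingCat.of T)).asOver (Spec (CommRingCat.of R)) ⟶
      (Spec (CommRingCat.of A)).asOver (Spec (CommRingCat.of R))) (h : phi w = phi w') : w = w' := by
  apply Spec.mapMulEquiv.symm.injective
  exact WithConv.ofConv_injective h

lemma phi_mapMulEquiv {T : Type u} [CommRing T] [Algebra R T] (φ : A →ₐ[R] T) :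
    phi (Spec.mapMulEquiv (WithConv.toConv φ)) = φ := by
  unfold phi
  rw [MulEquiv.symm_apply_apply]

/-- ring hom equality from equality of `Spec.map`s -/
lemma ringHom_eq_of_spec {P Q : Type u} [CommRing P] [CommRing Q] (a b : P →+* Q)
    (h : Spec.map (CommRingCat.ofHom a) = Spec.map (CommRingCat.ofHom b)) : a = b := by
  have := Spec.map_injective h
  exact congrArg CommRingCat.Hom.hom this

variable (B : Type u) [CommRing B] [Algebra R B]

/-- the algebra hom of a dual-number point -/
noncomputable def phiD (v : dpt B (Spec.map (CommRingCat.ofHom (algebraMap R B))) ⟶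
    (Spec (CommRingCat.of A)).asOver (Spec (CommRingCat.of R))) : A →ₐ[R] DualNumber B :=
  phi ((dptIso B).inv ≫ v)

lemma spec_phiD (v : dpt B (Spec.map (CommRingCat.ofHom (algebraMap R B))) ⟶
    (Spec (CommRingCat.of A)).asOver (Spec (CommRingCat.of R))) :
    Spec.map (CommRingCat.ofHom (phiD B v).toRingHom) = v.left := by
  unfold phiD
  rw [spec_phi, Over.comp_left]
  exact Category.id_comp _


lemma one_left (Z : Over (Spec (CommRingCat.of R))) :
    (1 : Z ⟶ (Spec (CommRingCat.of A)).asOver (Spec (CommRingCat.of R))).left =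
      Z.hom ≫ Spec.map (CommRingCat.ofHom (Bialgebra.counitAlgHom R A).toRingHom) := by
  rw [Hom.one_def, Over.comp_left, Over.toUnit_left]
  rfl

lemma fst_phiD (v : dpt B (Spec.map (CommRingCat.ofHom (algebraMap R B))) ⟶
    (Spec (CommRingCat.of A)).asOver (Spec (CommRingCat.of R)))
    (hv : zeroSec B (Spec.map (CommRingCat.ofHom (algebraMap R B))) ≫ v = 1) (a : A) :
    TrivSqZeroExt.fst (phiD B v a) = algebraMap R B (Bialgebra.counitAlgHom R A a) := by
  have h1 := congrArg (fun k => k.left) hv
  simp only [Over.comp_left] at h1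
  rw [one_left, ← spec_phiD] at h1
  have h1' : Spec.map (CommRingCat.ofHom ((TrivSqZeroExt.fstHom B B B).toRingHom :
        DualNumber B →+* B)) ≫ Spec.map (CommRingCat.ofHom (phiD B v).toRingHom) =
      Spec.map (CommRingCat.ofHom (algebraMap R B)) ≫
        Spec.map (CommRingCat.ofHom (Bialgebra.counitAlgHom R A).toRingHom) := h1
  have h2 := ringHom_eq_of_spec _ _
    ((specMap_comp _ _).symm.trans (h1'.trans (specMap_comp _ _)))
  exact congrArg (fun k => k a) h2

end General


section Diag
variable (R : Type u) [CommRing R] (M : Type) [AddCommGroup M] (B : Type u) [CommRing B] [Algebra R B]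

/-- the grouplike basis elements -/
noncomputable abbrev sg (m : M) : MonoidAlgebra R (Multiplicative M) :=
  MonoidAlgebra.single (Multiplicative.ofAdd m) 1

lemma counit_sg (m : M) :
    Bialgebra.counitAlgHom R (MonoidAlgebra R (Multiplicative M)) (sg R M m) = 1 := by
  simp [sg]

lemma comul_sg (m : M) :
    CoalgebraStruct.comul (R := R) (sg R M m) = sg R M m ⊗ₜ[R] sg R M m := by
  simp [sg]

lemma sg_zero : sg R M 0 = 1 := by
  simp [sg, MonoidAlgebra.one_def]

lemma sg_add (m m' : M) : sg R M (m + m') = sg R M m * sg R M m' := by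
  simp [sg, MonoidAlgebra.single_mul_single]

lemma fst_phiD_sg (v : LieR (Red.diag R M) B) (m : M) :
    TrivSqZeroExt.fst (phiD B v.1 (sg R M m)) = 1 := by
  rw [fst_phiD B v.1 ((mem_Lie_iff _ _ _ _).1 v.2), counit_sg, map_one]

/-- the additive character attached to a point of the Lie algebra -/
noncomputable def chi (v : LieR (Red.diag R M) B) : M →+ B where
  toFun m := TrivSqZeroExt.snd (phiD B v.1 (sg R M m))
  map_zero' := by
    rw [sg_zero, map_one]; rfl
  map_add' m m' := by
    rw [sg_add, map_mul, DualNumber.snd_mul, fst_phiD_sg, fst_phiD_sg]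
    ring


lemma phiD_mul_sg (v w : LieR (Red.diag R M) B) (m : M) :
    phiD B (v * w).1 (sg R M m) = phiD B v.1 (sg R M m) * phiD B w.1 (sg R M m) := by
  have h1 : phiD B (v * w).1 = (WithConv.toConv (phiD B v.1) * WithConv.toConv (phiD B w.1)).ofConv := by
    unfold phiD
    rw [← phi_mul, Subgroup.coe_mul, MonObj.comp_mul]
  rw [h1, AlgHom.convMul_apply, comul_sg]
  simp

lemma chi_mul (v w : LieR (Red.diag R M) B) : chi R M B (v * w) = chi R M B v + chi R M B w := by
  ext m
  change TrivSqZeroExt.snd (phiD B (v * w).1 (sg R M m)) =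
    TrivSqZeroExt.snd (phiD B v.1 (sg R M m)) + TrivSqZeroExt.snd (phiD B w.1 (sg R M m))
  rw [phiD_mul_sg, DualNumber.snd_mul, fst_phiD_sg, fst_phiD_sg]
  ring


lemma phiD_sg (v : LieR (Red.diag R M) B) (m : M) :
    phiD B v.1 (sg R M m) = TrivSqZeroExt.inl 1 + TrivSqZeroExt.inr (chi R M B v m) := by
  apply TrivSqZeroExt.ext
  · rw [fst_phiD_sg]; simp
  · simp [chi]

lemma chi_injective : Function.Injective (chi R M B) := by
  intro v w h
  have h1 : phiD B v.1 = phiD B w.1 := by
    apply (MonoidAlgebra.lift R (DualNumber B) (Multiplicative M)).symm.injective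
    refine MonoidHom.ext fun x => ?_
    rw [MonoidAlgebra.lift_symm_apply, MonoidAlgebra.lift_symm_apply]
    have e1 := phiD_sg R M B v (Multiplicative.toAdd x)
    have e2 := phiD_sg R M B w (Multiplicative.toAdd x)
    rw [h] at e1
    exact e1.trans e2.symm
  have h2 := phi_injective _ _ h1
  have h3 : v.1 = w.1 := (Iso.cancel_iso_inv_left _ _ _).mp h2
  exact Subtype.ext h3


/-- the monoid hom `m ↦ 1 + χ(m) ε` -/
noncomputable def psi (χ : M →+ B) : Multiplicative M →* DualNumber B where
  toFun x := TrivSqZeroExt.inl 1 + TrivSqZeroExt.inr (χ (Multiplicative.toAdd x))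
  map_one' := by
    apply TrivSqZeroExt.ext <;> simp
  map_mul' x y := by
    apply TrivSqZeroExt.ext
    · simp
    · simp [DualNumber.snd_mul, add_comm]

/-- the algebra hom attached to an additive character -/
noncomputable def phiOf (χ : M →+ B) : MonoidAlgebra R (Multiplicative M) →ₐ[R] DualNumber B :=
  MonoidAlgebra.lift R (DualNumber B) (Multiplicative M) (psi M B χ)

lemma phiOf_sg (χ : M →+ B) (m : M) :
    phiOf R M B χ (sg R M m) = TrivSqZeroExt.inl 1 + TrivSqZeroExt.inr (χ m) := by
  simp [phiOf, sg, psi]

lemma fst_phiOf (χ : M →+ B) (a : MonoidAlgebra R (Multiplicative M)) :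
    TrivSqZeroExt.fst (phiOf R M B χ a) =
      algebraMap R B (Bialgebra.counitAlgHom R (MonoidAlgebra R (Multiplicative M)) a) := by
  have h : (TrivSqZeroExt.fstHom R B B).comp (phiOf R M B χ) =
      (Algebra.ofId R B).comp (Bialgebra.counitAlgHom R (MonoidAlgebra R (Multiplicative M))) := by
    apply (MonoidAlgebra.lift R B (Multiplicative M)).symm.injective
    refine MonoidHom.ext fun x => ?_
    rw [MonoidAlgebra.lift_symm_apply, MonoidAlgebra.lift_symm_apply]
    simp [phiOf, psi]
  exact AlgHom.congr_fun h a

/-- the point attached to an additive character -/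
noncomputable def vOf (χ : M →+ B) :
    dpt B (Spec.map (CommRingCat.ofHom (algebraMap R B))) ⟶ Red.diag R M :=
  (dptIso B).hom ≫ Spec.mapMulEquiv (WithConv.toConv (phiOf R M B χ))

lemma phiD_vOf (χ : M →+ B) : phiD B (vOf R M B χ) = phiOf R M B χ := by
  unfold phiD vOf
  rw [Iso.inv_hom_id_assoc, phi_mapMulEquiv]

lemma vOf_mem (χ : M →+ B) : vOf R M B χ ∈ LieR (Red.diag R M) B := by
  rw [mem_Lie_iff]
  ext
  rw [one_left, Over.comp_left, ← spec_phiD, phiD_vOf]
  have h2 : ((TrivSqZeroExt.fstHom B B B).toRingHom : DualNumber B →+* B).comp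
      (phiOf R M B χ).toRingHom = (algebraMap R B).comp
        (Bialgebra.counitAlgHom R (MonoidAlgebra R (Multiplicative M))).toRingHom :=
    RingHom.ext fun a => fst_phiOf R M B χ a
  have h3 := congrArg (fun k => Spec.map (CommRingCat.ofHom k)) h2
  exact (specMap_comp _ _).trans (h3.trans (specMap_comp _ _).symm)

lemma chi_surjective : Function.Surjective (chi R M B) := by
  intro χ
  refine ⟨⟨vOf R M B χ, vOf_mem R M B χ⟩, ?_⟩
  ext m
  change TrivSqZeroExt.snd (phiD B (vOf R M B χ) (sg R M m)) = χ m
  rw [phiD_vOf, phiOf_sg]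
  simp


lemma snd_scaleHom (b : B) (x : DualNumber B) :
    TrivSqZeroExt.snd (scaleHom b x) = b * TrivSqZeroExt.snd x := by
  simp [scaleHom, TrivSqZeroExt.algebraMap_eq_inl', mul_comm]

lemma phiD_smul (b : B) (v : LieR (Red.diag R M) B) (a : MonoidAlgebra R (Multiplicative M)) :
    phiD B (b • v).1 a = scaleHom b (phiD B v.1 a) := by
  have h1 : Spec.map (CommRingCat.ofHom (phiD B (b • v).1).toRingHom) =
      Spec.map (CommRingCat.ofHom (scaleHom b)) ≫
        Spec.map (CommRingCat.ofHom (phiD B v.1).toRingHom) := by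
    rw [spec_phiD, spec_phiD, smul_val, Over.comp_left]
    rfl
  have h2 := ringHom_eq_of_spec _ _ (h1.trans (specMap_comp _ _))
  exact congrArg (fun k => k a) h2

lemma chi_smul (b : B) (v : LieR (Red.diag R M) B) : chi R M B (b • v) = b • chi R M B v := by
  ext m
  change TrivSqZeroExt.snd (phiD B (b • v).1 (sg R M m)) =
    b * TrivSqZeroExt.snd (phiD B v.1 (sg R M m))
  rw [phiD_smul, snd_scaleHom]

end Diag

theorem main_aux (R : Type u) [CommRing R] (M : Type) [AddCommGroup M]
    (B : Type u) [CommRing B] [Algebra R B] :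
    ∃ e : LieS.LieR (Red.diag R M) B ≃* Multiplicative (M →+ B),
      (∀ (v : LieS.LieR (Red.diag R M) B) (m : M),
        Multiplicative.toAdd (e v) m = TrivSqZeroExt.snd (phiD B v.1 (sg R M m))) ∧
      ∀ (b : B) (v : LieS.LieR (Red.diag R M) B),
        e (b • v) = Multiplicative.ofAdd (b • Multiplicative.toAdd (e v)) := by
  let e₀ : LieS.LieR (Red.diag R M) B →* Multiplicative (M →+ B) :=
    { toFun := fun v => Multiplicative.ofAdd (chi R M B v)
      map_one' := by
        have h := chi_mul R M B 1 1
        rw [_root_.mul_one] at h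
        have h0 : chi R M B 1 = 0 := by
          have := congrArg (fun t => t - chi R M B 1) h
          simpa using this.symm
        rw [h0]; rfl
      map_mul' := fun v w => by
        rw [chi_mul]; rfl }
  have hbij : Function.Bijective e₀ :=
    ⟨fun v w h => chi_injective R M B (Multiplicative.ofAdd.injective h),
     fun χ => by
      obtain ⟨v, hv⟩ := chi_surjective R M B (Multiplicative.toAdd χ)
      exact ⟨v, congrArg Multiplicative.ofAdd hv⟩⟩
  refine ⟨MulEquiv.ofBijective e₀ hbij, fun v m => rfl, fun b v => ?_⟩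
  change Multiplicative.ofAdd (chi R M B (b • v)) = _
  rw [chi_smul]
  rfl

/-- First isomorphism: over an affine base: for a commutative ring R, a commutative group M, the
diagonalisable group D(M) = Spec R[M] over Spec R and a commutative R-algebra B, the group
Lie(D(M))(Spec B) is identified with the additive group Hom(M, B) of group homomorphisms: there is a
multiplicative isomorphism which sends a point v of D(M) with values in B[ε], read as an R-algebra
homomorphism from R[M] to B[ε], to the homomorphism m ↦ (ε-coefficient of the image of m), and which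
carries the rescaling action of b in B to multiplication of homomorphisms by b. -/
theorem result (R : Type u) [CommRing R] (M : Type) [AddCommGroup M]
    (B : Type u) [CommRing B] [Algebra R B] :
    ∃ e : LieS.LieR (Red.diag R M) B ≃* Multiplicative (M →+ B),
      (∀ (v : LieS.LieR (Red.diag R M) B) (m : M),
        Multiplicative.toAdd (e v) m =
          TrivSqZeroExt.snd (((Spec.mapMulEquiv.symm ((LieS.dptIso B).inv ≫ v.1)).ofConv :
            MonoidAlgebra R (Multiplicative M) →ₐ[R] DualNumber B)
            (MonoidAlgebra.single (Multiplicative.ofAdd m) 1))) ∧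
      ∀ (b : B) (v : LieS.LieR (Red.diag R M) B),
        e (b • v) = Multiplicative.ofAdd (b • Multiplicative.toAdd (e v)) := by
  obtain ⟨e, h1, h2⟩ := main_aux R M B
  exact ⟨e, h1, h2⟩

end Groth.Agent.S8358
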