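import Groth.Statements.S8363
import Mathlib

set_option autoImplicit false
universe u
open CategoryTheory MonObj AlgebraicGeometry
open SGA3

namespace Groth.Agent.S8363

open MonoidalCategory CartesianMonoidalCategory

/-- ring lemma: `f₁ + f₂ - f₀` is a ring hom when all are congruent mod a square-zero ideal. -/
lemma sumHom {B C : Type u} [CommRing B] [CommRing C] (𝔧 : Ideal C)
    (h𝔧 : ∀ a ∈ 𝔧, ∀ b ∈ 𝔧, a * b = 0) (f₀ f₁ f₂ : B →+* C)
    (h₁ : ∀ b, f₁ b - f₀ b ∈ 𝔧) (h₂ : ∀ b, f₂ b - f₀ b ∈ 𝔧) :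
    ∃ f : B →+* C, ∀ b, f b = f₁ b + f₂ b - f₀ b := by
  refine ⟨{ toFun := fun b => f₁ b + f₂ b - f₀ b
            map_one' := by simp
            map_mul' := ?_
            map_zero' := by simp
            map_add' := ?_ }, fun b => rfl⟩
  · intro x y
    have h11 := h𝔧 _ (h₁ x) _ (h₁ y)
    have h22 := h𝔧 _ (h₂ x) _ (h₂ y)
    have h12 := h𝔧 _ (h₁ x) _ (h₂ y)
    have h21 := h𝔧 _ (h₂ x) _ (h₁ y)
    simp only [map_mul]
    linear_combination (-1 : C) * h12 - h21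
  · intro x y
    simp only [map_add]
    ring

lemma factor {T : Scheme.{u}} {D : CommRingCat.{u}} [IsLocalRing D] (φ : Spec D ⟶ T) (t : T)
    (c : ↥(Spec D)) (hc : c = IsLocalRing.closedPoint D) (ht : φ c = t) :
    ∃ f : T.presheaf.stalk t ⟶ D, Spec.map f ≫ T.fromSpecStalk t = φ := by
  subst hc
  subst ht
  exact ⟨_, Scheme.Spec_stalkClosedPointTo_fromSpecStalk φ⟩

lemma factor' {T T' : Scheme.{u}} (ψ : T ⟶ T') (t : T) (t' : T') (h : ψ t = t') :
    ∃ f : T'.presheaf.stalk t' ⟶ T.presheaf.stalk t,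
      Spec.map f ≫ T'.fromSpecStalk t' = T.fromSpecStalk t ≫ ψ := by
  subst h
  exact ⟨ψ.stalkMap t, Scheme.SpecMap_stalkMap_fromSpecStalk ψ⟩

lemma ring_eq_of_spec {T : Scheme.{u}} {t : T} {D : CommRingCat.{u}}
    (f₁ f₂ : T.presheaf.stalk t ⟶ D)
    (h : Spec.map f₁ ≫ T.fromSpecStalk t = Spec.map f₂ ≫ T.fromSpecStalk t) : f₁ = f₂ :=
  Spec.map_injective ((cancel_mono _).mp h)

lemma el {A B C : CommRingCat.{u}} {f : A ⟶ B} {g : B ⟶ C} {h : A ⟶ C} (e : f ≫ g = h) (t : A) :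
    g.hom (f.hom t) = h.hom t := by
  rw [← e]; rfl

lemma el_id {A B : CommRingCat.{u}} {f : A ⟶ B} {g : B ⟶ A} (e : f ≫ g = 𝟙 A) (t : A) :
    g.hom (f.hom t) = t := by
  have := el e t
  simpa using this

lemma hom_ext_affine {Y X : Scheme.{u}} [IsAffine X] (a b : Y ⟶ X)
    (h : ∀ y, Y.fromSpecStalk y ≫ a = Y.fromSpecStalk y ≫ b) : a = b := by
  apply ext_of_isAffine
  ext s
  apply TopCat.Presheaf.section_ext Y.sheaf
  intro y hy
  have h1 := congrArg Scheme.Hom.appTop (h y)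
  rw [Scheme.Hom.comp_appTop, Scheme.Hom.comp_appTop, Scheme.fromSpecStalk_appTop] at h1
  have hiso : IsIso (homOfLE (le_top : (Y.fromSpecStalk y) ⁻¹ᵁ ⊤ ≤ ⊤)) :=
    ⟨⟨homOfLE (by simp), Subsingleton.elim _ _, Subsingleton.elim _ _⟩⟩
  have h2 := congrArg (fun k => k.hom s) h1
  simp only [CommRingCat.comp_apply] at h2
  have i1 := (ConcreteCategory.bijective_of_isIso ((Spec (Y.presheaf.stalk y)).presheaf.map
      (homOfLE (le_top : (Y.fromSpecStalk y) ⁻¹ᵁ ⊤ ≤ ⊤)).op)).1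
  have i2 := (ConcreteCategory.bijective_of_isIso (Scheme.ΓSpecIso (Y.presheaf.stalk y)).inv).1
  exact i2 (i1 h2)

lemma hom_ext_stalks {Y X : Scheme.{u}} (a b : Y ⟶ X)
    (h : ∀ y, Y.fromSpecStalk y ≫ a = Y.fromSpecStalk y ≫ b) : a = b := by
  have hpt : ∀ y, a y = b y := by
    intro y
    obtain ⟨c, hc⟩ : ∃ c : ↥(Spec (Y.presheaf.stalk y)), Y.fromSpecStalk y c = y :=
      ⟨_, Scheme.fromSpecStalk_closedPoint⟩
    have h1 : a (Y.fromSpecStalk y c) = b (Y.fromSpecStalk y c) := by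
      rw [← Scheme.Hom.comp_apply, ← Scheme.Hom.comp_apply, h y]
    rwa [hc] at h1
  have hex : ∀ y : Y, ∃ U : X.Opens, IsAffineOpen U ∧ a y ∈ U := by
    intro y
    obtain ⟨_, ⟨U, hU, rfl⟩, hxU, -⟩ := X.isBasis_affineOpens.exists_subset_of_mem_open
      (Set.mem_univ (a y)) isOpen_univ
    exact ⟨U, hU, hxU⟩
  choose U hU hyU using hex
  have hcov : TopologicalSpace.IsOpenCover (fun y => a ⁻¹ᵁ (U y)) := by
    rw [TopologicalSpace.IsOpenCover, eq_top_iff]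
    intro y _
    rw [TopologicalSpace.Opens.mem_iSup]
    exact ⟨y, hyU y⟩
  apply Scheme.Cover.hom_ext (Y.openCoverOfIsOpenCover _ hcov)
  intro y
  change (a ⁻¹ᵁ (U y)).ι ≫ a = (a ⁻¹ᵁ (U y)).ι ≫ b
  have ra : Set.range ((a ⁻¹ᵁ (U y)).ι ≫ a) ⊆ Set.range (U y).ι := by
    rintro _ ⟨v, rfl⟩
    rw [Scheme.Opens.range_ι, Scheme.Hom.comp_apply]
    exact v.2
  have rb : Set.range ((a ⁻¹ᵁ (U y)).ι ≫ b) ⊆ Set.range (U y).ι := by
    rintro _ ⟨v, rfl⟩
    rw [Scheme.Opens.range_ι, Scheme.Hom.comp_apply, ← hpt]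
    exact v.2
  have ea := IsOpenImmersion.lift_fac (U y).ι _ ra
  have eb := IsOpenImmersion.lift_fac (U y).ι _ rb
  rw [← ea, ← eb]
  congr 1
  have : IsAffine (U y) := hU y
  apply hom_ext_affine
  intro v
  rw [← cancel_mono (U y).ι, Category.assoc, Category.assoc, ea, eb,
    ← Scheme.SpecMap_stalkMap_fromSpecStalk_assoc, ← Scheme.SpecMap_stalkMap_fromSpecStalk_assoc, h]


lemma red_eq {S S₀ : Scheme.{u}} (j : S₀ ⟶ S) (X : Over S) [GrpObj X] (Y : Over S) (g : Y ⟶ X)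
    (hg : (Over.pullback j).map g = 1) :
    Limits.pullback.fst Y.hom j ≫ g.left = Limits.pullback.fst Y.hom j ≫ (1 : Y ⟶ X).left := by
  have h1 : (Over.pullback j).map g = (Over.pullback j).map (1 : Y ⟶ X) := by
    rw [hg, Functor.map_one]
  have h0 : ∀ k : Y ⟶ X, ((Over.pullback j).map k).left ≫ Limits.pullback.fst X.hom j =
        Limits.pullback.fst Y.hom j ≫ k.left := fun k => Limits.pullback.lift_fst _ _ _
  rw [← h0, ← h0, h1]

lemma core {S : Scheme.{u}} (X : Over S) [GrpObj X] (C : CommRingCat.{u}) [IsLocalRing C]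
    (v : Spec C ⟶ S) (𝔧 : Ideal C) (h𝔧 : ∀ a ∈ 𝔧, ∀ b ∈ 𝔧, a * b = 0)
    (g g' : Over.mk v ⟶ X)
    (hg : Spec.map (CommRingCat.ofHom (Ideal.Quotient.mk 𝔧)) ≫ g.left =
      Spec.map (CommRingCat.ofHom (Ideal.Quotient.mk 𝔧)) ≫ (1 : Over.mk v ⟶ X).left)
    (hg' : Spec.map (CommRingCat.ofHom (Ideal.Quotient.mk 𝔧)) ≫ g'.left =
      Spec.map (CommRingCat.ofHom (Ideal.Quotient.mk 𝔧)) ≫ (1 : Over.mk v ⟶ X).left) :
    g * g' = g' * g := by
  let V : Over S := Over.mk v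
  set q := Spec.map (CommRingCat.ofHom (Ideal.Quotient.mk 𝔧)) with hq
  set e₀ : V ⟶ X := 1 with he₀
  obtain ⟨c, hc⟩ : ∃ c : ↥(Spec C), c = IsLocalRing.closedPoint C := ⟨_, rfl⟩
  -- the closed point is in the range of `q`
  have h𝔧le : 𝔧 ≤ IsLocalRing.maximalIdeal C := by
    intro a ha
    have h2 : a * a ∈ IsLocalRing.maximalIdeal C := by
      rw [h𝔧 a ha a ha]; exact Ideal.zero_mem _
    exact ((IsLocalRing.maximalIdeal.isMaximal C).isPrime.mem_or_mem h2).elim id id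
  obtain ⟨c₀, hc₀⟩ : ∃ c₀, q c₀ = c := by
    have hp : IsLocalRing.closedPoint C ∈
        Set.range (PrimeSpectrum.comap (Ideal.Quotient.mk 𝔧)) := by
      rw [range_comap_of_surjective _ _ Ideal.Quotient.mk_surjective,
        Ideal.mk_ker, PrimeSpectrum.mem_zeroLocus]
      exact h𝔧le
    obtain ⟨c₀, h₀⟩ := hp
    exact ⟨c₀, by rw [hc]; exact h₀⟩
  set x : X.left := e₀.left c with hx
  have P1 : ∀ k : V ⟶ X, q ≫ k.left = q ≫ e₀.left → k.left c = x := by
    intro k hk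
    rw [hx, ← hc₀, ← Scheme.Hom.comp_apply, ← Scheme.Hom.comp_apply, hk]
  set z : (X ⊗ X).left := (lift e₀ e₀).left c with hz
  -- morphisms
  set u : X ⟶ X := 1 with hu
  set E₁ : X ⟶ X ⊗ X := lift (𝟙 X) u with hE₁
  set E₂ : X ⟶ X ⊗ X := lift u (𝟙 X) with hE₂
  have hE₁m : E₁ ≫ μ[X] = 𝟙 X := by
    rw [hE₁, ← Hom.mul_def]; exact _root_.mul_one _
  have hE₂m : E₂ ≫ μ[X] = 𝟙 X := by
    rw [hE₂, ← Hom.mul_def]; exact _root_.one_mul _
  have hE₁1 : E₁ ≫ fst X X = 𝟙 X := lift_fst _ _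
  have hE₁2 : E₁ ≫ snd X X = u := lift_snd _ _
  have hE₂1 : E₂ ≫ fst X X = u := lift_fst _ _
  have hE₂2 : E₂ ≫ snd X X = 𝟙 X := lift_snd _ _
  have hku : ∀ k : V ⟶ X, k ≫ u = e₀ := fun k => MonObj.comp_one k
  have he₀E₁ : e₀ ≫ E₁ = lift e₀ e₀ := by
    rw [hE₁, comp_lift, Category.comp_id, hku]
  have he₀E₂ : e₀ ≫ E₂ = lift e₀ e₀ := by
    rw [hE₂, comp_lift, Category.comp_id, hku]
  have hee : lift e₀ e₀ ≫ μ[X] = e₀ := by
    rw [← Hom.mul_def]; exact _root_.mul_one _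
  -- point facts
  have Q1 : E₁.left x = z := by
    rw [hx, hz, ← Scheme.Hom.comp_apply, ← Over.comp_left, he₀E₁]
  have Q2 : E₂.left x = z := by
    rw [hx, hz, ← Scheme.Hom.comp_apply, ← Over.comp_left, he₀E₂]
  have Q3 : (μ[X]).left z = x := by
    rw [hx, hz, ← Scheme.Hom.comp_apply, ← Over.comp_left, hee]
  have Q4 : (fst X X).left z = x := by
    rw [hx, hz, ← Scheme.Hom.comp_apply, ← Over.comp_left, lift_fst]
  have Q5 : (snd X X).left z = x := by
    rw [hx, hz, ← Scheme.Hom.comp_apply, ← Over.comp_left, lift_snd]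
  have Q6 : u.left x = x := by
    rw [hx, ← Scheme.Hom.comp_apply, ← Over.comp_left, hku]
  -- the local rings and ring maps
  set a₀ := X.left.fromSpecStalk x with ha₀
  set b₀ := (X ⊗ X).left.fromSpecStalk z with hb₀
  obtain ⟨T₁, hT₁⟩ := factor' E₁.left x z Q1
  obtain ⟨T₂, hT₂⟩ := factor' E₂.left x z Q2
  obtain ⟨M, hM⟩ := factor' (μ[X]).left z x Q3
  obtain ⟨I₁, hI₁⟩ := factor' (fst X X).left z x Q4
  obtain ⟨I₂, hI₂⟩ := factor' (snd X X).left z x Q5
  obtain ⟨N, hN⟩ := factor' u.left x x Q6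
  obtain ⟨ε, hε⟩ := factor e₀.left x c hc rfl
  -- identities between the ring maps
  have hMT₁ : M ≫ T₁ = 𝟙 _ := by
    apply ring_eq_of_spec
    rw [Spec.map_comp, Category.assoc, hM, ← Category.assoc, hT₁, Category.assoc,
      ← Over.comp_left, hE₁m, Spec.map_id, Category.id_comp]
    exact Category.comp_id _
  have hMT₂ : M ≫ T₂ = 𝟙 _ := by
    apply ring_eq_of_spec
    rw [Spec.map_comp, Category.assoc, hM, ← Category.assoc, hT₂, Category.assoc,
      ← Over.comp_left, hE₂m, Spec.map_id, Category.id_comp]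
    exact Category.comp_id _
  have hI₁T₁ : I₁ ≫ T₁ = 𝟙 _ := by
    apply ring_eq_of_spec
    rw [Spec.map_comp, Category.assoc, hI₁, ← Category.assoc, hT₁, Category.assoc,
      ← Over.comp_left, hE₁1, Spec.map_id, Category.id_comp]
    exact Category.comp_id _
  have hI₂T₂ : I₂ ≫ T₂ = 𝟙 _ := by
    apply ring_eq_of_spec
    rw [Spec.map_comp, Category.assoc, hI₂, ← Category.assoc, hT₂, Category.assoc,
      ← Over.comp_left, hE₂2, Spec.map_id, Category.id_comp]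
    exact Category.comp_id _
  have hI₂T₁ : I₂ ≫ T₁ = N := by
    apply ring_eq_of_spec
    rw [Spec.map_comp, Category.assoc, hI₂, ← Category.assoc, hT₁, Category.assoc,
      ← Over.comp_left, hE₁2, hN]
  have hI₁T₂ : I₁ ≫ T₂ = N := by
    apply ring_eq_of_spec
    rw [Spec.map_comp, Category.assoc, hI₁, ← Category.assoc, hT₂, Category.assoc,
      ← Over.comp_left, hE₂1, hN]
  have hT₁ε : T₁ ≫ ε = T₂ ≫ ε := by
    apply ring_eq_of_spec
    rw [Spec.map_comp, Category.assoc, hT₁, ← Category.assoc, hε, Spec.map_comp, Category.assoc,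
      hT₂, ← Category.assoc, hε, ← Over.comp_left, ← Over.comp_left, he₀E₁, he₀E₂]
  have hNk : ∀ (k : V ⟶ X) (κ : X.left.presheaf.stalk x ⟶ C), Spec.map κ ≫ a₀ = k.left →
      N ≫ κ = ε := by
    intro k κ hκ
    apply ring_eq_of_spec
    rw [Spec.map_comp, Category.assoc, hN, ← Category.assoc, hκ, ← Over.comp_left, hku, hε]
  -- the key formula
  have key : ∀ (g₁ g₂ : V ⟶ X) (γ₁ γ₂ : X.left.presheaf.stalk x ⟶ C),
      Spec.map γ₁ ≫ a₀ = g₁.left → Spec.map γ₂ ≫ a₀ = g₂.left →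
      q ≫ g₁.left = q ≫ e₀.left → q ≫ g₂.left = q ≫ e₀.left →
      ∃ Φ : X.left.presheaf.stalk x ⟶ C,
        (∀ t, Φ.hom t = γ₁.hom t + γ₂.hom t - ε.hom t) ∧ (g₁ * g₂).left = Spec.map Φ ≫ a₀ := by
    intro g₁ g₂ γ₁ γ₂ hγ₁ hγ₂ hq₁ hq₂
    have cong : ∀ (k : V ⟶ X) (κ : X.left.presheaf.stalk x ⟶ C), Spec.map κ ≫ a₀ = k.left →
        q ≫ k.left = q ≫ e₀.left → ∀ t, κ.hom t - ε.hom t ∈ 𝔧 := by
      intro k κ hκ hqk t
      have h1 : κ ≫ CommRingCat.ofHom (Ideal.Quotient.mk 𝔧) =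
          ε ≫ CommRingCat.ofHom (Ideal.Quotient.mk 𝔧) := by
        apply ring_eq_of_spec
        rw [Spec.map_comp, Category.assoc, hκ, Spec.map_comp, Category.assoc, hε]
        exact hqk
      have h2 := el h1 t
      rw [← el (rfl : ε ≫ CommRingCat.ofHom (Ideal.Quotient.mk 𝔧) = _) t] at h2
      exact Ideal.Quotient.eq.mp h2
    have c₁ := cong g₁ γ₁ hγ₁ hq₁
    have c₂ := cong g₂ γ₂ hγ₂ hq₂
    obtain ⟨Γ, hΓ⟩ := sumHom 𝔧 h𝔧 (T₁ ≫ ε).hom (T₁ ≫ γ₁).hom (T₂ ≫ γ₂).hom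
      (fun b => c₁ (T₁.hom b))
      (fun b => by
        have := c₂ (T₂.hom b)
        rw [el (rfl : T₂ ≫ ε = _) b, ← hT₁ε] at this
        exact this)
    obtain ⟨Γc, hΓ'⟩ : ∃ Γc : (X ⊗ X).left.presheaf.stalk z ⟶ C, ∀ b, Γc.hom b =
        γ₁.hom (T₁.hom b) + γ₂.hom (T₂.hom b) - ε.hom (T₁.hom b) := ⟨CommRingCat.ofHom Γ, hΓ⟩
    have hN₁ := hNk g₁ γ₁ hγ₁
    have hN₂ := hNk g₂ γ₂ hγ₂
    -- the morphism `h`
    have hp₁ : I₁ ≫ Γc = γ₁ := by
      ext t
      change Γc.hom (I₁.hom t) = _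
      rw [hΓ', el_id hI₁T₁, el hI₁T₂, el hN₂]
      exact add_sub_cancel_right _ _
    have hp₂ : I₂ ≫ Γc = γ₂ := by
      ext t
      change Γc.hom (I₂.hom t) = _
      rw [hΓ', el_id hI₂T₂, el hI₂T₁, el hN₁, el (hNk e₀ ε hε)]
      exact add_sub_cancel_left (ε.hom t) (γ₂.hom t)
    have h1 : (Spec.map Γc ≫ b₀) ≫ (fst X X).left = g₁.left := by
      rw [Category.assoc, ← hI₁, ← Category.assoc, ← Spec.map_comp, hp₁, hγ₁]
    have h2 : (Spec.map Γc ≫ b₀) ≫ (snd X X).left = g₂.left := by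
      rw [Category.assoc, ← hI₂, ← Category.assoc, ← Spec.map_comp, hp₂, hγ₂]
    have hw : (Spec.map Γc ≫ b₀) ≫ (X ⊗ X).hom = V.hom := by
      rw [← Over.w (fst X X), ← Category.assoc, h1, Over.w g₁]
    have hH : (Over.homMk (U := V) (V := X ⊗ X) (Spec.map Γc ≫ b₀) hw : V ⟶ X ⊗ X) =
        lift g₁ g₂ := by
      apply CartesianMonoidalCategory.hom_ext
      · rw [lift_fst]; ext; exact h1
      · rw [lift_snd]; ext; exact h2
    refine ⟨M ≫ Γc, ?_, ?_⟩
    · intro t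
      change Γc.hom (M.hom t) = _
      rw [hΓ', el_id hMT₁, el_id hMT₂]
    · rw [Hom.mul_def, ← hH, Over.comp_left]
      change (Spec.map Γc ≫ b₀) ≫ _ = _
      rw [Category.assoc, ← hM, ← Category.assoc, ← Spec.map_comp]
  obtain ⟨ga, hga⟩ := factor g.left x c hc (P1 g hg)
  obtain ⟨gb, hgb⟩ := factor g'.left x c hc (P1 g' hg')
  obtain ⟨Φ₁, hΦ₁, e₁⟩ := key g g' ga gb hga hgb hg hg'
  obtain ⟨Φ₂, hΦ₂, e₂⟩ := key g' g gb ga hgb hga hg' hg
  have hΦ : Φ₁ = Φ₂ := by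
    ext t
    rw [hΦ₁, hΦ₂, add_comm]
  ext
  rw [e₁, e₂, hΦ]


theorem main_aux (R : Type u) [CommRing R] (J : Ideal R) (hJ : J * J = ⊥)
    (X : Over (Spec (CommRingCat.of R))) [GrpObj X] (Y : Over (Spec (CommRingCat.of R))) (g g' : Y ⟶ X)
    (hg : (Over.pullback (Spec.map (CommRingCat.ofHom (Ideal.Quotient.mk J)))).map g = 1)
    (hg' : (Over.pullback (Spec.map (CommRingCat.ofHom (Ideal.Quotient.mk J)))).map g' = 1) :
    g * g' = g' * g := by
  set j := Spec.map (CommRingCat.ofHom (Ideal.Quotient.mk J)) with hj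
  have r := red_eq j X Y g hg
  have r' := red_eq j X Y g' hg'
  ext
  apply hom_ext_stalks
  intro y
  -- the local Over-object
  set C := Y.left.presheaf.stalk y with hC
  set v : Spec C ⟶ Spec (CommRingCat.of R) := Y.left.fromSpecStalk y ≫ Y.hom with hv
  let inc : Over.mk v ⟶ Y := Over.homMk (Y.left.fromSpecStalk y) rfl
  have hinc : inc.left = Y.left.fromSpecStalk y := rfl
  set ρ : CommRingCat.of R ⟶ C := Spec.preimage v with hρ
  have hρv : Spec.map ρ = v := Spec.map_preimage v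
  set 𝔧 : Ideal C := J.map ρ.hom with h𝔧def
  have h𝔧 : ∀ a ∈ 𝔧, ∀ b ∈ 𝔧, a * b = 0 := by
    intro a ha b hb
    have : a * b ∈ 𝔧 * 𝔧 := Ideal.mul_mem_mul ha hb
    rw [h𝔧def, ← Ideal.map_mul, hJ, Ideal.map_bot] at this
    exact this
  -- the map `Spec (C/𝔧) ⟶ Y₀`
  have hle : J ≤ 𝔧.comap ρ.hom := Ideal.le_comap_map
  set q := Spec.map (CommRingCat.ofHom (Ideal.Quotient.mk 𝔧)) with hq
  have hcomm : (q ≫ Y.left.fromSpecStalk y) ≫ Y.hom =
      Spec.map (CommRingCat.ofHom (Ideal.quotientMap 𝔧 ρ.hom hle)) ≫ j := by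
    rw [Category.assoc, ← hv, ← hρv, hq, hj, ← Spec.map_comp, ← Spec.map_comp]
    congr 1
  have hfac : ∀ k : Y ⟶ X, Limits.pullback.fst Y.hom j ≫ k.left =
      Limits.pullback.fst Y.hom j ≫ (1 : Y ⟶ X).left →
      q ≫ (inc ≫ k).left = q ≫ (1 : Over.mk v ⟶ X).left := by
    intro k hk
    have h1 : q ≫ Y.left.fromSpecStalk y =
        Limits.pullback.lift _ _ hcomm ≫ Limits.pullback.fst Y.hom j :=
      (Limits.pullback.lift_fst _ _ hcomm).symm
    calc q ≫ (inc ≫ k).left = (q ≫ Y.left.fromSpecStalk y) ≫ k.left := by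
          rw [Over.comp_left, hinc, Category.assoc]
      _ = (q ≫ Y.left.fromSpecStalk y) ≫ (1 : Y ⟶ X).left := by
          rw [h1, Category.assoc, hk, Category.assoc]
      _ = q ≫ (inc ≫ (1 : Y ⟶ X)).left := by rw [Over.comp_left, hinc, Category.assoc]
      _ = q ≫ (1 : Over.mk v ⟶ X).left := by rw [MonObj.comp_one]
  have hcore := core X C v 𝔧 h𝔧 (inc ≫ g) (inc ≫ g') (hfac g r) (hfac g' r')
  rw [← MonObj.comp_mul, ← MonObj.comp_mul] at hcore
  have := congrArg (fun k => k.left) hcore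
  simpa only [Over.comp_left, hinc] using this

/-- The kernel of the reduction map is commutative: over an affine base S = Spec R with S₀ = Spec (R/J)
for an ideal J of square zero: for a group scheme X over S and an arbitrary S-scheme Y, the kernel
of the reduction map from X(Y) to X(Y ×_S S₀) = X₀(Y₀) is a commutative group: two Y-valued points
of X whose base changes to S₀ are the unit commute. (The published statement identifies this kernel,
as a group functor, with the commutative functor of homomorphisms from the pulled-back invariant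
differentials of X₀ to J·O_Y, over an arbitrary base with a quasi-coherent ideal of square zero;
this row states only the resulting commutativity, over an affine base.) -/
theorem result (R : Type u) [CommRing R] (J : Ideal R) (hJ : J * J = ⊥)
    (X : Over (Spec (CommRingCat.of R))) [GrpObj X] (Y : Over (Spec (CommRingCat.of R))) (g g' : Y ⟶ X)
    (hg : (Over.pullback (Spec.map (CommRingCat.ofHom (Ideal.Quotient.mk J)))).map g = 1)
    (hg' : (Over.pullback (Spec.map (CommRingCat.ofHom (Ideal.Quotient.mk J)))).map g' = 1) :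
    g * g' = g' * g := by
  exact main_aux R J hJ X Y g g' hg hg'

end Groth.Agent.S8363
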