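import Groth.Statements.S8359
import Groth.Agent.S8363
import Mathlib

set_option autoImplicit false
universe u
open CategoryTheory MonObj AlgebraicGeometry
open Red

namespace Groth.Agent.S8359

open MonoidalCategory CartesianMonoidalCategory
open Groth.Agent.S8363 (sumHom factor factor' ring_eq_of_spec el el_id hom_ext_stalks red_eq)

lemma keyFormula {S : Scheme.{u}} (X : Over S) [GrpObj X] (C : CommRingCat.{u}) [IsLocalRing C]
    (v : Spec C ⟶ S) (𝔧 : Ideal C) (h𝔧 : ∀ a ∈ 𝔧, ∀ b ∈ 𝔧, a * b = 0)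
    (g g' : Over.mk v ⟶ X)
    (hg : Spec.map (CommRingCat.ofHom (Ideal.Quotient.mk 𝔧)) ≫ g.left =
      Spec.map (CommRingCat.ofHom (Ideal.Quotient.mk 𝔧)) ≫ (1 : Over.mk v ⟶ X).left)
    (hg' : Spec.map (CommRingCat.ofHom (Ideal.Quotient.mk 𝔧)) ≫ g'.left =
      Spec.map (CommRingCat.ofHom (Ideal.Quotient.mk 𝔧)) ≫ (1 : Over.mk v ⟶ X).left)
    (c : ↥(Spec C)) (hc : c = IsLocalRing.closedPoint C) :
    ∃ (γ₁ γ₂ ε Φ : X.left.presheaf.stalk ((1 : Over.mk v ⟶ X).left c) ⟶ C),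
      Spec.map γ₁ ≫ X.left.fromSpecStalk _ = g.left ∧
      Spec.map γ₂ ≫ X.left.fromSpecStalk _ = g'.left ∧
      Spec.map ε ≫ X.left.fromSpecStalk _ = (1 : Over.mk v ⟶ X).left ∧
      (g * g').left = Spec.map Φ ≫ X.left.fromSpecStalk _ ∧
      ∀ t, Φ.hom t = γ₁.hom t + γ₂.hom t - ε.hom t := by
  let V : Over S := Over.mk v
  set q := Spec.map (CommRingCat.ofHom (Ideal.Quotient.mk 𝔧)) with hq
  set e₀ : V ⟶ X := 1 with he₀
  -- the closed point is in the range of `q`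
  have h𝔧le : 𝔧 ≤ IsLocalRing.maximalIdeal C := by
    intro a ha
    have h2 : a * a ∈ IsLocalRing.maximalIdeal C := by
      rw [h𝔧 a ha a ha]; exact Ideal.zero_mem _
    exact ((IsLocalRing.maximalIdeal.isMaximal C).isPrime.mem_or_mem h2).elim id id
  obtain ⟨c₀, hc₀⟩ : ∃ c₀, q c₀ = c := by
    have hp : IsLocalRing.closedPoint C ∈
        Set.range (PrimeSpectrum.comap (Ideal.Quotient.mk 𝔧)) := by
      rw [range_comap_of_surjective _ _ Ideal.Quotient.mk_surjective,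
        Ideal.mk_ker, PrimeSpectrum.mem_zeroLocus]
      exact h𝔧le
    obtain ⟨c₀, h₀⟩ := hp
    exact ⟨c₀, by rw [hc]; exact h₀⟩
  set x : X.left := e₀.left c with hx
  have P1 : ∀ k : V ⟶ X, q ≫ k.left = q ≫ e₀.left → k.left c = x := by
    intro k hk
    rw [hx, ← hc₀, ← Scheme.Hom.comp_apply, ← Scheme.Hom.comp_apply, hk]
  set z : (X ⊗ X).left := (lift e₀ e₀).left c with hz
  -- morphisms
  set u : X ⟶ X := 1 with hu
  set E₁ : X ⟶ X ⊗ X := lift (𝟙 X) u with hE₁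
  set E₂ : X ⟶ X ⊗ X := lift u (𝟙 X) with hE₂
  have hE₁m : E₁ ≫ μ[X] = 𝟙 X := by
    rw [hE₁, ← Hom.mul_def]; exact _root_.mul_one _
  have hE₂m : E₂ ≫ μ[X] = 𝟙 X := by
    rw [hE₂, ← Hom.mul_def]; exact _root_.one_mul _
  have hE₁1 : E₁ ≫ fst X X = 𝟙 X := lift_fst _ _
  have hE₁2 : E₁ ≫ snd X X = u := lift_snd _ _
  have hE₂1 : E₂ ≫ fst X X = u := lift_fst _ _
  have hE₂2 : E₂ ≫ snd X X = 𝟙 X := lift_snd _ _
  have hku : ∀ k : V ⟶ X, k ≫ u = e₀ := fun k => MonObj.comp_one k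
  have he₀E₁ : e₀ ≫ E₁ = lift e₀ e₀ := by
    rw [hE₁, comp_lift, Category.comp_id, hku]
  have he₀E₂ : e₀ ≫ E₂ = lift e₀ e₀ := by
    rw [hE₂, comp_lift, Category.comp_id, hku]
  have hee : lift e₀ e₀ ≫ μ[X] = e₀ := by
    rw [← Hom.mul_def]; exact _root_.mul_one _
  -- point facts
  have Q1 : E₁.left x = z := by
    rw [hx, hz, ← Scheme.Hom.comp_apply, ← Over.comp_left, he₀E₁]
  have Q2 : E₂.left x = z := by
    rw [hx, hz, ← Scheme.Hom.comp_apply, ← Over.comp_left, he₀E₂]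
  have Q3 : (μ[X]).left z = x := by
    rw [hx, hz, ← Scheme.Hom.comp_apply, ← Over.comp_left, hee]
  have Q4 : (fst X X).left z = x := by
    rw [hx, hz, ← Scheme.Hom.comp_apply, ← Over.comp_left, lift_fst]
  have Q5 : (snd X X).left z = x := by
    rw [hx, hz, ← Scheme.Hom.comp_apply, ← Over.comp_left, lift_snd]
  have Q6 : u.left x = x := by
    rw [hx, ← Scheme.Hom.comp_apply, ← Over.comp_left, hku]
  -- the local rings and ring maps
  set a₀ := X.left.fromSpecStalk x with ha₀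
  set b₀ := (X ⊗ X).left.fromSpecStalk z with hb₀
  obtain ⟨T₁, hT₁⟩ := factor' E₁.left x z Q1
  obtain ⟨T₂, hT₂⟩ := factor' E₂.left x z Q2
  obtain ⟨M, hM⟩ := factor' (μ[X]).left z x Q3
  obtain ⟨I₁, hI₁⟩ := factor' (fst X X).left z x Q4
  obtain ⟨I₂, hI₂⟩ := factor' (snd X X).left z x Q5
  obtain ⟨N, hN⟩ := factor' u.left x x Q6
  obtain ⟨ε, hε⟩ := factor e₀.left x c hc rfl
  -- identities between the ring maps
  have hMT₁ : M ≫ T₁ = 𝟙 _ := by
    apply ring_eq_of_spec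
    rw [Spec.map_comp, Category.assoc, hM, ← Category.assoc, hT₁, Category.assoc,
      ← Over.comp_left, hE₁m, Spec.map_id, Category.id_comp]
    exact Category.comp_id _
  have hMT₂ : M ≫ T₂ = 𝟙 _ := by
    apply ring_eq_of_spec
    rw [Spec.map_comp, Category.assoc, hM, ← Category.assoc, hT₂, Category.assoc,
      ← Over.comp_left, hE₂m, Spec.map_id, Category.id_comp]
    exact Category.comp_id _
  have hI₁T₁ : I₁ ≫ T₁ = 𝟙 _ := by
    apply ring_eq_of_spec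
    rw [Spec.map_comp, Category.assoc, hI₁, ← Category.assoc, hT₁, Category.assoc,
      ← Over.comp_left, hE₁1, Spec.map_id, Category.id_comp]
    exact Category.comp_id _
  have hI₂T₂ : I₂ ≫ T₂ = 𝟙 _ := by
    apply ring_eq_of_spec
    rw [Spec.map_comp, Category.assoc, hI₂, ← Category.assoc, hT₂, Category.assoc,
      ← Over.comp_left, hE₂2, Spec.map_id, Category.id_comp]
    exact Category.comp_id _
  have hI₂T₁ : I₂ ≫ T₁ = N := by
    apply ring_eq_of_spec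
    rw [Spec.map_comp, Category.assoc, hI₂, ← Category.assoc, hT₁, Category.assoc,
      ← Over.comp_left, hE₁2, hN]
  have hI₁T₂ : I₁ ≫ T₂ = N := by
    apply ring_eq_of_spec
    rw [Spec.map_comp, Category.assoc, hI₁, ← Category.assoc, hT₂, Category.assoc,
      ← Over.comp_left, hE₂1, hN]
  have hT₁ε : T₁ ≫ ε = T₂ ≫ ε := by
    apply ring_eq_of_spec
    rw [Spec.map_comp, Category.assoc, hT₁, ← Category.assoc, hε, Spec.map_comp, Category.assoc,
      hT₂, ← Category.assoc, hε, ← Over.comp_left, ← Over.comp_left, he₀E₁, he₀E₂]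
  have hNk : ∀ (k : V ⟶ X) (κ : X.left.presheaf.stalk x ⟶ C), Spec.map κ ≫ a₀ = k.left →
      N ≫ κ = ε := by
    intro k κ hκ
    apply ring_eq_of_spec
    rw [Spec.map_comp, Category.assoc, hN, ← Category.assoc, hκ, ← Over.comp_left, hku, hε]
  -- the key formula
  have key : ∀ (g₁ g₂ : V ⟶ X) (γ₁ γ₂ : X.left.presheaf.stalk x ⟶ C),
      Spec.map γ₁ ≫ a₀ = g₁.left → Spec.map γ₂ ≫ a₀ = g₂.left →
      q ≫ g₁.left = q ≫ e₀.left → q ≫ g₂.left = q ≫ e₀.left →
      ∃ Φ : X.left.presheaf.stalk x ⟶ C,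
        (∀ t, Φ.hom t = γ₁.hom t + γ₂.hom t - ε.hom t) ∧ (g₁ * g₂).left = Spec.map Φ ≫ a₀ := by
    intro g₁ g₂ γ₁ γ₂ hγ₁ hγ₂ hq₁ hq₂
    have cong : ∀ (k : V ⟶ X) (κ : X.left.presheaf.stalk x ⟶ C), Spec.map κ ≫ a₀ = k.left →
        q ≫ k.left = q ≫ e₀.left → ∀ t, κ.hom t - ε.hom t ∈ 𝔧 := by
      intro k κ hκ hqk t
      have h1 : κ ≫ CommRingCat.ofHom (Ideal.Quotient.mk 𝔧) =
          ε ≫ CommRingCat.ofHom (Ideal.Quotient.mk 𝔧) := by
        apply ring_eq_of_spec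
        rw [Spec.map_comp, Category.assoc, hκ, Spec.map_comp, Category.assoc, hε]
        exact hqk
      have h2 := el h1 t
      rw [← el (rfl : ε ≫ CommRingCat.ofHom (Ideal.Quotient.mk 𝔧) = _) t] at h2
      exact Ideal.Quotient.eq.mp h2
    have c₁ := cong g₁ γ₁ hγ₁ hq₁
    have c₂ := cong g₂ γ₂ hγ₂ hq₂
    obtain ⟨Γ, hΓ⟩ := sumHom 𝔧 h𝔧 (T₁ ≫ ε).hom (T₁ ≫ γ₁).hom (T₂ ≫ γ₂).hom
      (fun b => c₁ (T₁.hom b))
      (fun b => by
        have := c₂ (T₂.hom b)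
        rw [el (rfl : T₂ ≫ ε = _) b, ← hT₁ε] at this
        exact this)
    obtain ⟨Γc, hΓ'⟩ : ∃ Γc : (X ⊗ X).left.presheaf.stalk z ⟶ C, ∀ b, Γc.hom b =
        γ₁.hom (T₁.hom b) + γ₂.hom (T₂.hom b) - ε.hom (T₁.hom b) := ⟨CommRingCat.ofHom Γ, hΓ⟩
    have hN₁ := hNk g₁ γ₁ hγ₁
    have hN₂ := hNk g₂ γ₂ hγ₂
    -- the morphism `h`
    have hp₁ : I₁ ≫ Γc = γ₁ := by
      ext t
      change Γc.hom (I₁.hom t) = _
      rw [hΓ', el_id hI₁T₁, el hI₁T₂, el hN₂]
      exact add_sub_cancel_right _ _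
    have hp₂ : I₂ ≫ Γc = γ₂ := by
      ext t
      change Γc.hom (I₂.hom t) = _
      rw [hΓ', el_id hI₂T₂, el hI₂T₁, el hN₁, el (hNk e₀ ε hε)]
      exact add_sub_cancel_left (ε.hom t) (γ₂.hom t)
    have h1 : (Spec.map Γc ≫ b₀) ≫ (fst X X).left = g₁.left := by
      rw [Category.assoc, ← hI₁, ← Category.assoc, ← Spec.map_comp, hp₁, hγ₁]
    have h2 : (Spec.map Γc ≫ b₀) ≫ (snd X X).left = g₂.left := by
      rw [Category.assoc, ← hI₂, ← Category.assoc, ← Spec.map_comp, hp₂, hγ₂]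
    have hw : (Spec.map Γc ≫ b₀) ≫ (X ⊗ X).hom = V.hom := by
      rw [← Over.w (fst X X), ← Category.assoc, h1, Over.w g₁]
    have hH : (Over.homMk (U := V) (V := X ⊗ X) (Spec.map Γc ≫ b₀) hw : V ⟶ X ⊗ X) =
        lift g₁ g₂ := by
      apply CartesianMonoidalCategory.hom_ext
      · rw [lift_fst]; ext; exact h1
      · rw [lift_snd]; ext; exact h2
    refine ⟨M ≫ Γc, ?_, ?_⟩
    · intro t
      change Γc.hom (M.hom t) = _
      rw [hΓ', el_id hMT₁, el_id hMT₂]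
    · rw [Hom.mul_def, ← hH, Over.comp_left]
      change (Spec.map Γc ≫ b₀) ≫ _ = _
      rw [Category.assoc, ← hM, ← Category.assoc, ← Spec.map_comp]
  obtain ⟨ga, hga⟩ := factor g.left x c hc (P1 g hg)
  obtain ⟨gb, hgb⟩ := factor g'.left x c hc (P1 g' hg')
  obtain ⟨Φ₁, hΦ₁, e₁⟩ := key g g' ga gb hga hgb hg hg'
  exact ⟨ga, gb, ε, Φ₁, hga, hgb, hε, e₁, hΦ₁⟩


/-- the localisation map to the stalk -/
noncomputable def loc (C : CommRingCat.{u}) (w : ↥(Spec C)) : C ⟶ (Spec C).presheaf.stalk w :=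
  (Scheme.ΓSpecIso C).inv ≫ (Spec C).presheaf.germ ⊤ w trivial

lemma spec_loc (C : CommRingCat.{u}) (w : ↥(Spec C)) :
    Spec.map (loc C w) = (Spec C).fromSpecStalk w :=
  (Spec.fromSpecStalk_eq C w).symm

lemma eq_of_loc (C : CommRingCat.{u}) (a b : C)
    (h : ∀ w : ↥(Spec C), (loc C w).hom a = (loc C w).hom b) : a = b := by
  have i2 := (ConcreteCategory.bijective_of_isIso (Scheme.ΓSpecIso C).inv).1
  apply i2
  apply TopCat.Presheaf.section_ext (Spec C).sheaf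
  intro w hw
  exact h w

lemma fac {X : Scheme.{u}} {U : X.Opens} (hU : IsAffineOpen U) {C : CommRingCat.{u}}
    (k : Spec C ⟶ X) (hk : ∀ t, k t ∈ U) :
    ∃ κ : Γ(X, U) ⟶ C, Spec.map κ ≫ hU.fromSpec = k := by
  have hr : Set.range k ⊆ Set.range hU.fromSpec := by
    rw [hU.range_fromSpec]; rintro _ ⟨t, rfl⟩; exact hk t
  refine ⟨Spec.preimage (IsOpenImmersion.lift hU.fromSpec k hr), ?_⟩
  rw [Spec.map_preimage, IsOpenImmersion.lift_fac]

lemma ring_eq_of_fromSpec {X : Scheme.{u}} {U : X.Opens} (hU : IsAffineOpen U) {C : CommRingCat.{u}}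
    (κ κ' : Γ(X, U) ⟶ C) (h : Spec.map κ ≫ hU.fromSpec = Spec.map κ' ≫ hU.fromSpec) : κ = κ' :=
  Spec.map_injective ((cancel_mono _).mp h)

lemma stepA {S : Scheme.{u}} (X : Over S) [GrpObj X] (C : CommRingCat.{u})
    (v : Spec C ⟶ S) (𝔧 : Ideal C) (h𝔧 : ∀ a ∈ 𝔧, ∀ b ∈ 𝔧, a * b = 0)
    (g₁ g₂ : Over.mk v ⟶ X)
    (hg₁ : Spec.map (CommRingCat.ofHom (Ideal.Quotient.mk 𝔧)) ≫ g₁.left =
      Spec.map (CommRingCat.ofHom (Ideal.Quotient.mk 𝔧)) ≫ (1 : Over.mk v ⟶ X).left)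
    (hg₂ : Spec.map (CommRingCat.ofHom (Ideal.Quotient.mk 𝔧)) ≫ g₂.left =
      Spec.map (CommRingCat.ofHom (Ideal.Quotient.mk 𝔧)) ≫ (1 : Over.mk v ⟶ X).left)
    (U : X.left.Opens) (hU : IsAffineOpen U) (hUe : ∀ t, (1 : Over.mk v ⟶ X).left t ∈ U)
    (γ₁ γ₂ ε γ₁₂ : Γ(X.left, U) ⟶ C)
    (h₁ : Spec.map γ₁ ≫ hU.fromSpec = g₁.left) (h₂ : Spec.map γ₂ ≫ hU.fromSpec = g₂.left)
    (hε : Spec.map ε ≫ hU.fromSpec = (1 : Over.mk v ⟶ X).left)
    (h₁₂ : Spec.map γ₁₂ ≫ hU.fromSpec = (g₁ * g₂).left) (a : Γ(X.left, U)) :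
    γ₁₂.hom a = γ₁.hom a + γ₂.hom a - ε.hom a := by
  apply eq_of_loc
  intro w
  set lw := loc C w with hlw
  set q := Spec.map (CommRingCat.ofHom (Ideal.Quotient.mk 𝔧)) with hq
  let inc : Over.mk (Spec.map lw ≫ v) ⟶ Over.mk v := Over.homMk (Spec.map lw) rfl
  have hinc : inc.left = Spec.map lw := rfl
  set 𝔧w : Ideal ((Spec C).presheaf.stalk w) := 𝔧.map lw.hom with h𝔧w
  have hsq : ∀ a ∈ 𝔧w, ∀ b ∈ 𝔧w, a * b = 0 := by
    intro a ha b hb
    have h0 : 𝔧 * 𝔧 = ⊥ := by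
      rw [eq_bot_iff, Ideal.mul_le]
      intro x hx y hy
      rw [Ideal.mem_bot]; exact h𝔧 x hx y hy
    have : a * b ∈ 𝔧w * 𝔧w := Ideal.mul_mem_mul ha hb
    rw [h𝔧w, ← Ideal.map_mul, h0, Ideal.map_bot] at this
    exact this
  have hle : 𝔧 ≤ 𝔧w.comap lw.hom := Ideal.le_comap_map
  set qw := Spec.map (CommRingCat.ofHom (Ideal.Quotient.mk 𝔧w)) with hqw
  have hqq : qw ≫ Spec.map lw =
      Spec.map (CommRingCat.ofHom (Ideal.quotientMap 𝔧w lw.hom hle)) ≫ q := by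
    rw [hqw, hq, ← Spec.map_comp, ← Spec.map_comp]
    congr 1
  have hfac : ∀ k : Over.mk v ⟶ X, q ≫ k.left = q ≫ (1 : Over.mk v ⟶ X).left →
      qw ≫ (inc ≫ k).left = qw ≫ (1 : Over.mk (Spec.map lw ≫ v) ⟶ X).left := by
    intro k hk
    calc qw ≫ (inc ≫ k).left = (qw ≫ Spec.map lw) ≫ k.left := by
          rw [Over.comp_left, hinc, Category.assoc]
      _ = (qw ≫ Spec.map lw) ≫ (1 : Over.mk v ⟶ X).left := by
          rw [hqq, Category.assoc, hk, Category.assoc]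
      _ = qw ≫ (inc ≫ (1 : Over.mk v ⟶ X)).left := by rw [Over.comp_left, hinc, Category.assoc]
      _ = qw ≫ (1 : Over.mk (Spec.map lw ≫ v) ⟶ X).left := by rw [MonObj.comp_one]
  obtain ⟨c, hc⟩ : ∃ c : ↥(Spec ((Spec C).presheaf.stalk w)),
      c = IsLocalRing.closedPoint ((Spec C).presheaf.stalk w) := ⟨_, rfl⟩
  obtain ⟨k₁, k₂, kε, Φ, e₁, e₂, eε, eΦ, hΦ⟩ := keyFormula X ((Spec C).presheaf.stalk w)
    (Spec.map lw ≫ v) 𝔧w hsq (inc ≫ g₁) (inc ≫ g₂) (hfac g₁ hg₁) (hfac g₂ hg₂) c hc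
  generalize hx : (1 : Over.mk (Spec.map lw ≫ v) ⟶ X).left c = x at *
  have hxU : x ∈ U := by
    have : x = (1 : Over.mk v ⟶ X).left (Spec.map lw c) := by
      rw [← hx, ← MonObj.comp_one inc, Over.comp_left, hinc, Scheme.Hom.comp_apply]
    rw [this]; exact hUe _
  have ha₀ : X.left.fromSpecStalk x = Spec.map (X.left.presheaf.germ U x hxU) ≫ hU.fromSpec := by
    rw [← hU.fromSpecStalk_eq_fromSpecStalk hxU]; rfl
  have cmp : ∀ (k : Over.mk v ⟶ X) (κ : Γ(X.left, U) ⟶ C)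
      (κw : X.left.presheaf.stalk x ⟶ (Spec C).presheaf.stalk w),
      Spec.map κ ≫ hU.fromSpec = k.left → Spec.map κw ≫ X.left.fromSpecStalk x = (inc ≫ k).left →
      ∀ t, lw.hom (κ.hom t) = κw.hom ((X.left.presheaf.germ U x hxU).hom t) := by
    intro k κ κw hκ hκw t
    have h : κ ≫ lw = X.left.presheaf.germ U x hxU ≫ κw := by
      apply ring_eq_of_fromSpec hU
      rw [Spec.map_comp, Category.assoc, hκ, Spec.map_comp, Category.assoc, ← ha₀, hκw,
        Over.comp_left, hinc]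
    exact el h t
  have c₁ := cmp g₁ γ₁ k₁ h₁ e₁
  have c₂ := cmp g₂ γ₂ k₂ h₂ e₂
  have cε := cmp 1 ε kε hε (by rw [MonObj.comp_one]; exact eε)
  have c₁₂ := cmp (g₁ * g₂) γ₁₂ Φ h₁₂ (by rw [MonObj.comp_mul]; exact eΦ.symm)
  rw [map_sub, map_add, c₁₂, c₁, c₂, cε, hΦ]

lemma coeff_core {Λ : Type u} [CommRing Λ] {H : Type} [Monoid H] (x : MonoidAlgebra Λ H)
    (h : MonoidAlgebra.mapDomain (fun m : H => (m, m)) x =
      MonoidAlgebra.mapDomain (fun m : H => (m, (1 : H))) x +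
      MonoidAlgebra.mapDomain (fun m : H => ((1 : H), m)) x) : x = 0 := by
  have hd : Function.Injective (fun m : H => (m, m)) := fun a b hab => (Prod.mk.inj hab).1
  have h1 : Function.Injective (fun m : H => (m, (1 : H))) := fun a b hab => (Prod.mk.inj hab).1
  have h2 : Function.Injective (fun m : H => ((1 : H), m)) := fun a b hab => (Prod.mk.inj hab).2
  ext m
  have := congrArg (fun y => y.coeff (m, m)) h
  simp only [MonoidAlgebra.mapDomain, MonoidAlgebra.coeff_ofCoeff, MonoidAlgebra.coeff_add,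
    Finsupp.add_apply] at this
  have e0 : Finsupp.mapDomain (fun m : H => (m, m)) x.coeff (m, m) = x.coeff m :=
    Finsupp.mapDomain_apply hd x.coeff m
  rw [e0] at this
  by_cases hm : m = 1
  · subst hm
    have e1 : Finsupp.mapDomain (fun m : H => (m, (1 : H))) x.coeff (1, 1) = x.coeff 1 :=
      Finsupp.mapDomain_apply h1 x.coeff 1
    have e2 : Finsupp.mapDomain (fun m : H => ((1 : H), m)) x.coeff (1, 1) = x.coeff 1 :=
      Finsupp.mapDomain_apply h2 x.coeff 1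
    rw [e1, e2] at this
    simpa using this
  · have e1 : Finsupp.mapDomain (fun m : H => (m, (1 : H))) x.coeff (m, m) = 0 := by
      apply Finsupp.mapDomain_of_notMem_range
      rintro ⟨a, ha⟩
      exact hm (Prod.mk.inj ha).2.symm
    have e2 : Finsupp.mapDomain (fun m : H => ((1 : H), m)) x.coeff (m, m) = 0 := by
      apply Finsupp.mapDomain_of_notMem_range
      rintro ⟨a, ha⟩
      exact hm (Prod.mk.inj ha).1.symm
    rw [e1, e2] at this
    simpa using this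

theorem specMap_comp {B C E : Type u} [CommRing B] [CommRing C] [CommRing E] (a : B →+* C) (b : C →+* E) :
    Spec.map (CommRingCat.ofHom b) ≫ Spec.map (CommRingCat.ofHom a) = Spec.map (CommRingCat.ofHom (b.comp a)) := by
  rw [← Spec.map_comp, ← CommRingCat.ofHom_comp]

section Points
variable {R : Type u} [CommRing R] {A : Type u} [CommRing A] [HopfAlgebra R A]

/-- `Spec C` as an object over `Spec R` -/
noncomputable abbrev TT (R : Type u) [CommRing R] (C : Type u) [CommRing C] [Algebra R C] :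
    Over (Spec (CommRingCat.of R)) :=
  (Spec (CommRingCat.of C)).asOver (Spec (CommRingCat.of R))

/-- the point of `Spec A` attached to an algebra hom -/
noncomputable def Pt {C : Type u} [CommRing C] [Algebra R C] (θ : A →ₐ[R] C) :
    TT R C ⟶ TT R A :=
  Spec.mapMulEquiv (WithConv.toConv θ)

lemma Pt_left {C : Type u} [CommRing C] [Algebra R C] (θ : A →ₐ[R] C) :
    (Pt θ).left = Spec.map (CommRingCat.ofHom θ.toRingHom) := rfl

/-- `Spec` of an algebra hom as a morphism over `Spec R` -/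
noncomputable def SpecOver {C C' : Type u} [CommRing C] [Algebra R C] [CommRing C'] [Algebra R C']
    (ψ : C →ₐ[R] C') : TT R C' ⟶ TT R C :=
  (Spec.map (CommRingCat.ofHom ψ.toRingHom)).asOver (Spec (CommRingCat.of R))

lemma SpecOver_left {C C' : Type u} [CommRing C] [Algebra R C] [CommRing C'] [Algebra R C']
    (ψ : C →ₐ[R] C') : (SpecOver ψ).left = Spec.map (CommRingCat.ofHom ψ.toRingHom) := rfl

lemma Pt_comp {C C' : Type u} [CommRing C] [Algebra R C] [CommRing C'] [Algebra R C']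
    (ψ : C →ₐ[R] C') (θ : A →ₐ[R] C) : Pt (ψ.comp θ) = SpecOver ψ ≫ Pt θ := by
  ext
  rw [Over.comp_left, Pt_left, Pt_left, SpecOver_left]
  exact (specMap_comp θ.toRingHom ψ.toRingHom).symm

lemma Pt_mul {C : Type u} [CommRing C] [Algebra R C] (θ₁ θ₂ θ₁₂ : A →ₐ[R] C)
    (h : (WithConv.toConv θ₁ * WithConv.toConv θ₂).ofConv = θ₁₂) :
    Pt θ₁ * Pt θ₂ = Pt θ₁₂ := by
  unfold Pt
  rw [← map_mul, ← h]

lemma one_left' {S : Scheme.{u}} (X : Over S) [GrpObj X] (Z : Over S) :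
    (1 : Z ⟶ X).left = Z.hom ≫ η[X].left := by
  rw [Hom.one_def, Over.comp_left, Over.toUnit_left]

lemma SpecOver_comp {C C' C'' : Type u} [CommRing C] [Algebra R C] [CommRing C'] [Algebra R C']
    [CommRing C''] [Algebra R C''] (ψ : C →ₐ[R] C') (ψ' : C' →ₐ[R] C'') :
    SpecOver (ψ'.comp ψ) = SpecOver ψ' ≫ SpecOver ψ := by
  ext
  rw [Over.comp_left, SpecOver_left, SpecOver_left, SpecOver_left]
  exact (specMap_comp ψ.toRingHom ψ'.toRingHom).symm

end Points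

section Main
variable {R : Type u} [CommRing R] {M : Type} [AddCommGroup M]
  {X : Over (Spec (CommRingCat.of R))} [GrpObj X]

/-- the universal point over `Λ` -/
noncomputable def ptL (Λ : Type u) [CommRing Λ] [Algebra R Λ] :
    MonoidAlgebra R (Multiplicative M) →ₐ[R] MonoidAlgebra Λ (Multiplicative M) :=
  MonoidAlgebra.mapAlgHom (Multiplicative M) (Algebra.ofId R Λ)

lemma lands (Λ : Type u) [CommRing Λ] [IsLocalRing Λ] [Algebra R Λ] (U : X.left.Opens)
    (c₀ : ↥(TT R Λ).left) (hc₀ : c₀ = IsLocalRing.closedPoint Λ)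
    (hx₀ : (1 : TT R Λ ⟶ X).left c₀ ∈ U)
    (C : Type u) [CommRing C] [Algebra R C] (ψ : Λ →ₐ[R] C) (t : ↥(TT R C).left) :
    (1 : TT R C ⟶ X).left t ∈ U := by
  have h1 : (1 : TT R C ⟶ X) = SpecOver ψ ≫ (1 : TT R Λ ⟶ X) := (MonObj.comp_one _).symm
  rw [h1, Over.comp_left, Scheme.Hom.comp_apply]
  have hp : (SpecOver ψ).left t ⤳ c₀ := by
    rw [hc₀]; exact IsLocalRing.specializes_closedPoint _
  exact (hp.map ((1 : TT R Λ ⟶ X).left.continuous)).mem_open U.2 hx₀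


lemma range_of_sqzero (C : Type u) [CommRing C] (𝔧 : Ideal C) (h𝔧 : ∀ a ∈ 𝔧, ∀ b ∈ 𝔧, a * b = 0)
    (t : ↥(Spec (CommRingCat.of C))) :
    ∃ t' : ↥(Spec (CommRingCat.of (C ⧸ 𝔧))),
      Spec.map (CommRingCat.ofHom (Ideal.Quotient.mk 𝔧)) t' = t := by
  have hp : ∀ p : PrimeSpectrum C, p ∈ Set.range (PrimeSpectrum.comap (Ideal.Quotient.mk 𝔧)) := by
    intro p
    rw [range_comap_of_surjective _ _ Ideal.Quotient.mk_surjective,
      Ideal.mk_ker, PrimeSpectrum.mem_zeroLocus]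
    intro a ha
    have h2 : a * a ∈ p.asIdeal := by
      rw [h𝔧 a ha a ha]; exact Ideal.zero_mem _
    exact (p.isPrime.mem_or_mem h2).elim id id
  obtain ⟨t', ht'⟩ := hp t
  exact ⟨t', ht'⟩

lemma sqzero_map {Λ C : Type u} [CommRing Λ] [CommRing C] (φ : Λ →+* C) (𝔫 : Ideal Λ)
    (h𝔫 : 𝔫 * 𝔫 = ⊥) : ∀ a ∈ 𝔫.map φ, ∀ b ∈ 𝔫.map φ, a * b = 0 := by
  intro a ha b hb
  have : a * b ∈ 𝔫.map φ * 𝔫.map φ := Ideal.mul_mem_mul ha hb
  rw [← Ideal.map_mul, h𝔫, Ideal.map_bot] at this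
  exact this


section ML
variable (f : Red.diag R M ⟶ X) [IsMonHom f]
variable (Λ : Type u) [CommRing Λ] [IsLocalRing Λ] [Algebra R Λ]

/-- the three monoid homs `H → H × H` as algebra maps -/
noncomputable abbrev I₁ : MonoidAlgebra Λ (Multiplicative M) →ₐ[R]
    MonoidAlgebra Λ (Multiplicative M × Multiplicative M) :=
  MonoidAlgebra.mapDomainAlgHom R Λ (MonoidHom.inl (Multiplicative M) (Multiplicative M))

noncomputable abbrev I₂ : MonoidAlgebra Λ (Multiplicative M) →ₐ[R]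
    MonoidAlgebra Λ (Multiplicative M × Multiplicative M) :=
  MonoidAlgebra.mapDomainAlgHom R Λ (MonoidHom.inr (Multiplicative M) (Multiplicative M))

noncomputable abbrev Dg : MonoidAlgebra Λ (Multiplicative M) →ₐ[R]
    MonoidAlgebra Λ (Multiplicative M × Multiplicative M) :=
  MonoidAlgebra.mapDomainAlgHom R Λ
    ((MonoidHom.id (Multiplicative M)).prod (MonoidHom.id (Multiplicative M)))

omit [IsLocalRing Λ] in
lemma conv_id : (WithConv.toConv ((I₁ (R := R) (M := M) Λ).comp (ptL Λ)) *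
    WithConv.toConv ((I₂ (R := R) (M := M) Λ).comp (ptL Λ))).ofConv =
      (Dg (R := R) (M := M) Λ).comp (ptL Λ) := by
  apply (MonoidAlgebra.lift R (MonoidAlgebra Λ (Multiplicative M × Multiplicative M))
    (Multiplicative M)).symm.injective
  refine MonoidHom.ext fun x => ?_
  rw [MonoidAlgebra.lift_symm_apply, MonoidAlgebra.lift_symm_apply, AlgHom.convMul_apply]
  simp [ptL, MonoidAlgebra.single_mul_single]


omit [IsLocalRing Λ] in
lemma alg_comp (J : MonoidAlgebra Λ (Multiplicative M) →ₐ[R]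
      MonoidAlgebra Λ (Multiplicative M × Multiplicative M))
    (hJ : ∀ r : Λ, J (MonoidAlgebra.single 1 r) = MonoidAlgebra.single 1 r) :
    J.toRingHom.comp (algebraMap Λ (MonoidAlgebra Λ (Multiplicative M))) =
      algebraMap Λ (MonoidAlgebra Λ (Multiplicative M × Multiplicative M)) := by
  refine RingHom.ext fun r => ?_
  have h1 : ∀ (K : Type) [Monoid K], algebraMap Λ (MonoidAlgebra Λ K) r =
      MonoidAlgebra.single 1 r := by
    intro K _
    simp [MonoidAlgebra.coe_algebraMap]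
  change J (algebraMap Λ (MonoidAlgebra Λ (Multiplicative M)) r) = _
  rw [h1, h1, hJ]

lemma mainLemma (𝔫 : Ideal Λ) (h𝔫 : 𝔫 * 𝔫 = ⊥)
    (hyp : SpecOver (Ideal.Quotient.mkₐ R
        (𝔫.map (algebraMap Λ (MonoidAlgebra Λ (Multiplicative M))))) ≫
      (Pt (ptL (M := M) Λ) ≫ f) = 1) :
    Pt (ptL (M := M) Λ) ≫ f = 1 := by
  -- notation
  set C₁ := MonoidAlgebra Λ (Multiplicative M) with hC₁
  set C₂ := MonoidAlgebra Λ (Multiplicative M × Multiplicative M) with hC₂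
  set 𝔧₁ : Ideal C₁ := 𝔫.map (algebraMap Λ C₁) with h𝔧₁
  set 𝔧₂ : Ideal C₂ := 𝔫.map (algebraMap Λ C₂) with h𝔧₂
  have sq₁ := sqzero_map (algebraMap Λ C₁) 𝔫 h𝔫
  have sq₂ := sqzero_map (algebraMap Λ C₂) 𝔫 h𝔫
  set g : TT R C₁ ⟶ X := Pt (ptL (M := M) Λ) ≫ f with hg
  -- the affine open
  obtain ⟨c₀, hc₀⟩ : ∃ c₀ : ↥(TT R Λ).left, c₀ = IsLocalRing.closedPoint Λ := ⟨_, rfl⟩
  obtain ⟨_, ⟨U, hU, rfl⟩, hx₀, -⟩ := X.left.isBasis_affineOpens.exists_subset_of_mem_open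
    (Set.mem_univ ((1 : TT R Λ ⟶ X).left c₀)) isOpen_univ
  have hl₁ := lands Λ U c₀ hc₀ hx₀ C₁ (IsScalarTower.toAlgHom R Λ C₁)
  have hl₂ := lands Λ U c₀ hc₀ hx₀ C₂ (IsScalarTower.toAlgHom R Λ C₂)
  -- congruence of `g` with the unit
  set q₁ := Spec.map (CommRingCat.ofHom (Ideal.Quotient.mk 𝔧₁)) with hq₁
  have hgq : q₁ ≫ g.left = q₁ ≫ (1 : TT R C₁ ⟶ X).left := by
    have h1 := congrArg (fun k => k.left) hyp
    have h2 : (1 : TT R (C₁ ⧸ 𝔧₁) ⟶ X) = SpecOver (Ideal.Quotient.mkₐ R 𝔧₁) ≫ (1 : TT R C₁ ⟶ X) :=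
      (MonObj.comp_one _).symm
    rw [h2] at h1
    simp only [Over.comp_left] at h1
    exact h1
  have hgU : ∀ t, g.left t ∈ U := by
    intro t
    obtain ⟨t', ht'⟩ := range_of_sqzero C₁ 𝔧₁ sq₁ t
    have e1 : (q₁ ≫ g.left) t' = (q₁ ≫ (1 : TT R C₁ ⟶ X).left) t' := by rw [hgq]
    have e2 : g.left t = (1 : TT R C₁ ⟶ X).left t := by
      rw [← ht']; exact e1
    rw [e2]
    exact hl₁ _
  obtain ⟨φ, hφ⟩ := fac hU g.left hgU
  obtain ⟨ε, hε⟩ := fac hU (1 : TT R C₁ ⟶ X).left hl₁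
  -- the three points over `C₂`
  have hQ : ∀ (J : C₁ →ₐ[R] C₂), (∀ r : Λ, J (MonoidAlgebra.single 1 r) = MonoidAlgebra.single 1 r) →
      SpecOver (Ideal.Quotient.mkₐ R 𝔧₂) ≫ (SpecOver J ≫ g) = 1 := by
    intro J hJ
    have hJΛ := alg_comp Λ J hJ
    have hle : 𝔧₁ ≤ 𝔧₂.comap J := by
      apply Ideal.map_le_iff_le_comap.mp
      change 𝔧₁.map J.toRingHom ≤ 𝔧₂
      rw [h𝔧₁, Ideal.map_map, hJΛ]
    have e1 : (Ideal.Quotient.mkₐ R 𝔧₂).comp J =
        (Ideal.quotientMapₐ 𝔧₂ J hle).comp (Ideal.Quotient.mkₐ R 𝔧₁) :=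
      (Ideal.quotient_map_comp_mkₐ _ _ _).symm
    rw [← Category.assoc, ← SpecOver_comp, e1, SpecOver_comp, Category.assoc, hyp,
      MonObj.comp_one]
  have hI₁ : ∀ r : Λ, I₁ (R := R) (M := M) Λ (MonoidAlgebra.single 1 r) =
      MonoidAlgebra.single 1 r := by
    intro r; simp; rfl
  have hI₂ : ∀ r : Λ, I₂ (R := R) (M := M) Λ (MonoidAlgebra.single 1 r) =
      MonoidAlgebra.single 1 r := by
    intro r; simp; rfl
  have hmul : (SpecOver (I₁ (R := R) (M := M) Λ) ≫ g) * (SpecOver (I₂ (R := R) (M := M) Λ) ≫ g) =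
      SpecOver (Dg (R := R) (M := M) Λ) ≫ g := by
    rw [hg, ← Category.assoc, ← Category.assoc, ← Category.assoc, ← Pt_comp, ← Pt_comp, ← Pt_comp,
      ← MonObj.mul_comp, Pt_mul _ _ _ (conv_id Λ)]
  -- ring maps over `C₂`
  have hγ : ∀ (J : C₁ →ₐ[R] C₂) (k : TT R C₁ ⟶ X) (κ : Γ(X.left, U) ⟶ CommRingCat.of C₁),
      Spec.map κ ≫ hU.fromSpec = k.left →
      Spec.map (κ ≫ CommRingCat.ofHom J.toRingHom) ≫ hU.fromSpec = (SpecOver J ≫ k).left := by
    intro J k κ hκ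
    rw [Spec.map_comp, Category.assoc, hκ, Over.comp_left, SpecOver_left]
    rfl
  have hone : ∀ (J : C₁ →ₐ[R] C₂), SpecOver J ≫ (1 : TT R C₁ ⟶ X) = 1 := fun J => MonObj.comp_one _
  have hεJ : ∀ (J : C₁ →ₐ[R] C₂), ε ≫ CommRingCat.ofHom J.toRingHom =
      ε ≫ CommRingCat.ofHom (I₁ (R := R) (M := M) Λ).toRingHom := by
    intro J
    apply ring_eq_of_fromSpec hU
    rw [hγ J 1 ε hε, hγ _ 1 ε hε, hone, hone]
  have hq₂ : ∀ k : TT R C₂ ⟶ X, SpecOver (Ideal.Quotient.mkₐ R 𝔧₂) ≫ k = 1 →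
      Spec.map (CommRingCat.ofHom (Ideal.Quotient.mk 𝔧₂)) ≫ k.left =
        Spec.map (CommRingCat.ofHom (Ideal.Quotient.mk 𝔧₂)) ≫ (1 : TT R C₂ ⟶ X).left := by
    intro k hk
    have h1 := congrArg (fun k => k.left) hk
    have h2 : (1 : TT R (C₂ ⧸ 𝔧₂) ⟶ X) = SpecOver (Ideal.Quotient.mkₐ R 𝔧₂) ≫ (1 : TT R C₂ ⟶ X) :=
      (MonObj.comp_one _).symm
    rw [h2] at h1
    simp only [Over.comp_left] at h1
    exact h1
  have hform := stepA X (CommRingCat.of C₂) (TT R C₂).hom 𝔧₂ sq₂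
    (SpecOver (I₁ (R := R) (M := M) Λ) ≫ g) (SpecOver (I₂ (R := R) (M := M) Λ) ≫ g)
    (hq₂ _ (hQ _ hI₁)) (hq₂ _ (hQ _ hI₂)) U hU hl₂
    (φ ≫ CommRingCat.ofHom (I₁ (R := R) (M := M) Λ).toRingHom)
    (φ ≫ CommRingCat.ofHom (I₂ (R := R) (M := M) Λ).toRingHom)
    (ε ≫ CommRingCat.ofHom (I₁ (R := R) (M := M) Λ).toRingHom)
    (φ ≫ CommRingCat.ofHom (Dg (R := R) (M := M) Λ).toRingHom)
    (hγ _ g φ hφ) (hγ _ g φ hφ) ((hγ _ 1 ε hε).trans (congrArg (fun k => k.left) (hone _)))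
    ((hγ _ g φ hφ).trans (congrArg (fun k => k.left) hmul).symm)
  have hφε : φ = ε := by
    refine CommRingCat.hom_ext (RingHom.ext fun a => ?_)
    have h1 := hform a
    have h2 := congrArg (fun k => k.hom a) (hεJ (Dg (R := R) (M := M) Λ))
    have h3 := congrArg (fun k => k.hom a) (hεJ (I₂ (R := R) (M := M) Λ))
    simp only [CommRingCat.comp_apply, CommRingCat.hom_ofHom] at h1 h2 h3
    have hx : MonoidAlgebra.mapDomain (fun m : Multiplicative M => (m, m)) (φ.hom a - ε.hom a) =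
        MonoidAlgebra.mapDomain (fun m : Multiplicative M => (m, (1 : Multiplicative M)))
          (φ.hom a - ε.hom a) +
        MonoidAlgebra.mapDomain (fun m : Multiplicative M => ((1 : Multiplicative M), m))
          (φ.hom a - ε.hom a) := by
      have k1 : ∀ y : C₁, MonoidAlgebra.mapDomain (fun m : Multiplicative M => (m, m)) y =
          Dg (R := R) (M := M) Λ y := fun y => rfl
      have k2 : ∀ y : C₁, MonoidAlgebra.mapDomain
          (fun m : Multiplicative M => (m, (1 : Multiplicative M))) y =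
          I₁ (R := R) (M := M) Λ y := fun y => rfl
      have k3 : ∀ y : C₁, MonoidAlgebra.mapDomain
          (fun m : Multiplicative M => ((1 : Multiplicative M), m)) y =
          I₂ (R := R) (M := M) Λ y := fun y => rfl
      rw [k1, k2, k3, map_sub, map_sub, map_sub]
      have h1' : (Dg (R := R) (M := M) Λ) (φ.hom a) = (I₁ (R := R) (M := M) Λ) (φ.hom a) +
          (I₂ (R := R) (M := M) Λ) (φ.hom a) - (I₁ (R := R) (M := M) Λ) (ε.hom a) := h1
      have h2' : (Dg (R := R) (M := M) Λ) (ε.hom a) = (I₁ (R := R) (M := M) Λ) (ε.hom a) := h2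
      have h3' : (I₂ (R := R) (M := M) Λ) (ε.hom a) = (I₁ (R := R) (M := M) Λ) (ε.hom a) := h3
      rw [h1', h2', h3']
      abel
    have := coeff_core _ hx
    exact sub_eq_zero.mp this
  ext
  rw [← hφ, ← hε, hφε]

end ML


section Induction
variable (f : Red.diag R M ⟶ X) [IsMonHom f] (I : Ideal R)

/-- the inductive claim -/
def Claim (k : ℕ) : Prop :=
  ∀ (C : Type u) [CommRing C] [Algebra R C], (∀ r ∈ I ^ k, algebraMap R C r = 0) →
    ∀ θ : MonoidAlgebra R (Multiplicative M) →ₐ[R] C, Pt θ ≫ f = 1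

omit [IsMonHom f] in
lemma claim_one
    (h : (Over.pullback (Spec.map (CommRingCat.ofHom (Ideal.Quotient.mk I)))).map f = 1) :
    Claim f I 1 := by
  intro C _ _ hC θ
  set j := Spec.map (CommRingCat.ofHom (Ideal.Quotient.mk I)) with hj
  have r := red_eq j X (Red.diag R M) f h
  have hker : ∀ a ∈ I, algebraMap R C a = 0 := fun a ha => hC a (by simpa using ha)
  set ζ : R ⧸ I →+* C := Ideal.Quotient.lift I (algebraMap R C) hker with hζ
  have comm : (Pt θ).left ≫ (Red.diag R M).hom = Spec.map (CommRingCat.ofHom ζ) ≫ j := by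
    rw [Over.w (Pt θ), hj, specMap_comp]
    have : ζ.comp (Ideal.Quotient.mk I) = algebraMap R C := Ideal.Quotient.lift_comp_mk _ _ _
    rw [this]
    rfl
  have h1 : (Pt θ).left = Limits.pullback.lift _ _ comm ≫
      Limits.pullback.fst (Red.diag R M).hom j := (Limits.pullback.lift_fst _ _ comm).symm
  ext
  calc (Pt θ ≫ f).left = (Pt θ).left ≫ f.left := by rw [Over.comp_left]
    _ = (Pt θ).left ≫ (1 : Red.diag R M ⟶ X).left := by
        rw [h1, Category.assoc, r, Category.assoc]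
    _ = (Pt θ ≫ (1 : Red.diag R M ⟶ X)).left := by rw [Over.comp_left]
    _ = (1 : TT R C ⟶ X).left := by rw [MonObj.comp_one]


lemma claim_local (k : ℕ) (hk1 : 1 ≤ k) (hk : Claim f I k)
    (Λ : Type u) [CommRing Λ] [IsLocalRing Λ] [Algebra R Λ]
    (hΛ : ∀ r ∈ I ^ (k + 1), algebraMap R Λ r = 0)
    (θ : MonoidAlgebra R (Multiplicative M) →ₐ[R] Λ) : Pt θ ≫ f = 1 := by
  set 𝔫 : Ideal Λ := (I ^ k).map (algebraMap R Λ) with h𝔫def
  have hbot : (I ^ (k + 1)).map (algebraMap R Λ) = ⊥ := by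
    rw [Ideal.map_eq_bot_iff_le_ker]
    intro r hr
    exact hΛ r hr
  have h𝔫 : 𝔫 * 𝔫 = ⊥ := by
    rw [h𝔫def, ← Ideal.map_mul, ← pow_add, eq_bot_iff, ← hbot]
    exact Ideal.map_mono (Ideal.pow_le_pow_right (by omega))
  set C₁ := MonoidAlgebra Λ (Multiplicative M) with hC₁
  set 𝔧₁ : Ideal C₁ := 𝔫.map (algebraMap Λ C₁) with h𝔧₁
  have hyp : SpecOver (Ideal.Quotient.mkₐ R 𝔧₁) ≫ (Pt (ptL (M := M) Λ) ≫ f) = 1 := by
    rw [← Category.assoc, ← Pt_comp]
    apply hk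
    intro r hr
    have h1 : algebraMap R (C₁ ⧸ 𝔧₁) r = Ideal.Quotient.mk 𝔧₁ (algebraMap Λ C₁ (algebraMap R Λ r)) := by
      rw [← IsScalarTower.algebraMap_apply R Λ C₁]
      rfl
    rw [h1, Ideal.Quotient.eq_zero_iff_mem]
    exact Ideal.mem_map_of_mem _ (Ideal.mem_map_of_mem _ hr)
  have hmain := mainLemma f Λ 𝔫 h𝔫 hyp
  -- the section
  let χ : Multiplicative M →* Λ :=
    (θ : MonoidAlgebra R (Multiplicative M) →* Λ).comp (MonoidAlgebra.of R (Multiplicative M))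
  let sec : C₁ →ₐ[R] Λ := (MonoidAlgebra.lift Λ Λ (Multiplicative M) χ).restrictScalars R
  have hsec : sec.comp (ptL (M := M) Λ) = θ := by
    apply (MonoidAlgebra.lift R Λ (Multiplicative M)).symm.injective
    refine MonoidHom.ext fun x => ?_
    rw [MonoidAlgebra.lift_symm_apply, MonoidAlgebra.lift_symm_apply]
    have e1 : ptL (R := R) (M := M) Λ (MonoidAlgebra.single x (1 : R)) =
        MonoidAlgebra.single x (1 : Λ) := by
      unfold ptL
      rw [MonoidAlgebra.mapAlgHom_single, map_one]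
    change (MonoidAlgebra.lift Λ Λ (Multiplicative M) χ)
      (ptL (R := R) (M := M) Λ (MonoidAlgebra.single x (1 : R))) = _
    rw [e1, MonoidAlgebra.lift_single, one_smul]
    rfl
  rw [← hsec, Pt_comp, Category.assoc, hmain, MonObj.comp_one]


lemma claim_succ (k : ℕ) (hk1 : 1 ≤ k) (hk : Claim f I k) : Claim f I (k + 1) := by
  intro C _ _ hC θ
  ext
  apply hom_ext_stalks
  intro (t : ↥(Spec (CommRingCat.of C)))
  -- the local ring at `t`
  set lt := loc (CommRingCat.of C) t with hlt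
  let _ : Algebra R ((Spec (CommRingCat.of C)).presheaf.stalk t) :=
    (lt.hom.comp (algebraMap R C)).toAlgebra
  let ψ : C →ₐ[R] (Spec (CommRingCat.of C)).presheaf.stalk t :=
    { lt.hom with commutes' := fun r => rfl }
  have hΛ : ∀ r ∈ I ^ (k + 1),
      algebraMap R ((Spec (CommRingCat.of C)).presheaf.stalk t) r = 0 := by
    intro r hr
    change lt.hom (algebraMap R C r) = 0
    rw [hC r hr, map_zero]
  have hloc := claim_local f I k hk1 hk ((Spec (CommRingCat.of C)).presheaf.stalk t) hΛ (ψ.comp θ)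
  rw [Pt_comp, Category.assoc] at hloc
  have h1 := congrArg (fun k => k.left) hloc
  have h2 : (1 : TT R ((Spec (CommRingCat.of C)).presheaf.stalk t) ⟶ X) =
      SpecOver ψ ≫ (1 : TT R C ⟶ X) := (MonObj.comp_one _).symm
  rw [h2] at h1
  simp only [Over.comp_left] at h1
  have h3 : (TT R C).left.fromSpecStalk t = (SpecOver ψ).left := by
    rw [SpecOver_left]
    exact (spec_loc (CommRingCat.of C) t).symm
  rw [h3, Over.comp_left]
  exact h1


lemma claim_all (h : (Over.pullback (Spec.map (CommRingCat.ofHom (Ideal.Quotient.mk I)))).map f = 1)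
    (n : ℕ) : Claim f I (n + 1) := by
  induction n with
  | zero => exact claim_one f I h
  | succ n ih => exact claim_succ f I (n + 1) (by omega) ih

end Induction

end Main

theorem main_aux (R : Type u) [CommRing R] (I : Ideal R) (hI : IsNilpotent I)
    (M : Type) [AddCommGroup M] (X : Over (Spec (CommRingCat.of R))) [GrpObj X]
    (f : Red.diag R M ⟶ X) [IsMonHom f]
    (h : (Over.pullback (Spec.map (CommRingCat.ofHom (Ideal.Quotient.mk I)))).map f = 1) :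
    f = 1 := by
  obtain ⟨n, hn⟩ := hI
  have hcl := claim_all f I h n
  have h0 : ∀ r ∈ I ^ (n + 1), algebraMap R (MonoidAlgebra R (Multiplicative M)) r = 0 := by
    intro r hr
    rw [pow_succ, hn] at hr
    have : r = 0 := by simpa using hr
    rw [this, map_zero]
  have h1 := hcl (MonoidAlgebra R (Multiplicative M)) h0 (AlgHom.id R _)
  have h2 : Pt (AlgHom.id R (MonoidAlgebra R (Multiplicative M))) = 𝟙 _ := by
    ext
    rw [Pt_left]
    exact Spec.map_id _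
  rw [h2, Category.id_comp] at h1
  exact h1

/-- Over an affine base S = Spec R with S₀ = Spec (R/I) for a nilpotent ideal I: for a commutative group
M, the diagonalisable group D(M) = Spec R[M] over S, a group scheme X locally of finite presentation
over S and a homomorphism f from D(M) to X, if the base change of f to S₀ is the unit homomorphism
then f is the unit homomorphism. (The published statement is over an arbitrary base scheme with S₀
defined by a nilpotent quasi-coherent ideal; this row is its case of an affine base.) -/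
theorem result (R : Type u) [CommRing R] (I : Ideal R) (hI : IsNilpotent I)
    (M : Type) [AddCommGroup M] (X : Over (Spec (CommRingCat.of R))) [GrpObj X]
    [LocallyOfFinitePresentation X.hom] (f : Red.diag R M ⟶ X) [IsMonHom f]
    (h : (Over.pullback (Spec.map (CommRingCat.ofHom (Ideal.Quotient.mk I)))).map f = 1) :
    f = 1 := by
  exact main_aux R I hI M X f h

end Groth.Agent.S8359
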