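import Groth.Statements.S8362
import Groth.Agent.Lib.Helper38.SqZeroEndo
import Mathlib.AlgebraicGeometry.PullbackCarrier
import Mathlib.RingTheory.Spectrum.Prime.RingHom

set_option autoImplicit false
universe u
open CategoryTheory AlgebraicGeometry
open SGA3

namespace Groth.Agent.S8362

/-- Over an affine base S = Spec R with S₀ = Spec (R/J) for an ideal J of square zero: for an arbitrary
S-scheme X, every S-endomorphism of X inducing the identity on X ×_S S₀ is an automorphism. (The
published statement is over an arbitrary base scheme with a quasi-coherent ideal of square zero;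
this row is its case of an affine base, to which it reduces since being an isomorphism is local on
the base.) -/
theorem result (R : Type u) [CommRing R] (J : Ideal R) (hJ : J * J = ⊥)
    (X : Over (Spec (CommRingCat.of R))) (u : X ⟶ X)
    (h : (Over.pullback (Spec.map (CommRingCat.ofHom (Ideal.Quotient.mk J)))).map u = 𝟙 _) :
    IsIso u := by

  set j := Spec.map (CommRingCat.ofHom (Ideal.Quotient.mk J)) with hj_def
  set φ := u.left with hφ_def
  have hφπ : φ ≫ X.hom = X.hom := Over.w u
  -- `i ≫ φ = i`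
  have hi : Limits.pullback.fst X.hom j ≫ φ = Limits.pullback.fst X.hom j := by
    have h0 : ((Over.pullback j).map u).left ≫ Limits.pullback.fst X.hom j =
        Limits.pullback.fst X.hom j ≫ u.left := Limits.pullback.lift_fst _ _ _
    have h1 : ((Over.pullback j).map u).left = 𝟙 _ := by rw [h]; rfl
    rw [h1, Category.id_comp] at h0
    exact h0.symm
  -- `J` is contained in every prime, so `j` is surjective
  have hJle : ∀ p : PrimeSpectrum R, J ≤ p.asIdeal := by
    intro p x hx
    have h2 : x * x ∈ J * J := Ideal.mul_mem_mul hx hx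
    rw [hJ, Ideal.mem_bot] at h2
    have h3 : x * x ∈ p.asIdeal := by rw [h2]; exact p.asIdeal.zero_mem
    exact (p.isPrime.mem_or_mem h3).elim id id
  have hjsurj : Surjective j := by
    constructor
    intro p
    have hp : ∀ p' : PrimeSpectrum R,
        p' ∈ Set.range (PrimeSpectrum.comap (Ideal.Quotient.mk J)) := by
      intro p'
      rw [range_comap_of_surjective _ _ Ideal.Quotient.mk_surjective,
        Ideal.mk_ker, PrimeSpectrum.mem_zeroLocus]
      exact hJle p'
    have hp := hp p
    obtain ⟨q, hq⟩ := hp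
    exact ⟨q, hq⟩
  have hisurj : Surjective (Limits.pullback.fst X.hom j) := inferInstance
  -- `φ` is the identity on points
  have hpt : ∀ x, φ x = x := by
    intro x
    obtain ⟨x₀, rfl⟩ := (Limits.pullback.fst X.hom j).surjective x
    rw [← Scheme.Hom.comp_apply, hi]
  -- global sections of `j`
  have hjtop : j.appTop ≫ (Scheme.ΓSpecIso (CommRingCat.of (R ⧸ J))).hom =
      (Scheme.ΓSpecIso (CommRingCat.of R)).hom ≫ CommRingCat.ofHom (Ideal.Quotient.mk J) :=
    Scheme.ΓSpecIso_naturality _
  have hjapp : ∀ x, (Scheme.ΓSpecIso (CommRingCat.of (R ⧸ J))).hom.hom (j.appTop.hom x) =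
      Ideal.Quotient.mk J ((Scheme.ΓSpecIso (CommRingCat.of R)).hom.hom x) := fun x =>
    congrArg (fun g => g.hom x) hjtop
  have hbij₁ : Function.Bijective (Scheme.ΓSpecIso (CommRingCat.of R)).hom.hom :=
    (ConcreteCategory.isIso_iff_bijective _).mp inferInstance
  have hbij₂ : Function.Bijective (Scheme.ΓSpecIso (CommRingCat.of (R ⧸ J))).hom.hom :=
    (ConcreteCategory.isIso_iff_bijective _).mp inferInstance
  have hjs : Function.Surjective j.appTop.hom := by
    intro y
    obtain ⟨r, hr⟩ := Ideal.Quotient.mk_surjective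
      ((Scheme.ΓSpecIso (CommRingCat.of (R ⧸ J))).hom.hom y)
    obtain ⟨x, rfl⟩ := hbij₁.2 r
    refine ⟨x, hbij₂.1 ?_⟩
    rw [hjapp, hr]
  have hker : ∀ x, x ∈ RingHom.ker j.appTop.hom →
      (Scheme.ΓSpecIso (CommRingCat.of R)).hom.hom x ∈ J := by
    intro x hx
    rw [RingHom.mem_ker] at hx
    have := hjapp x
    rw [hx, map_zero] at this
    exact Ideal.Quotient.eq_zero_iff_mem.mp this.symm
  have hJ' : RingHom.ker j.appTop.hom * RingHom.ker j.appTop.hom = ⊥ := by
    rw [eq_bot_iff]
    rw [Ideal.mul_le]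
    intro x hx y hy
    rw [Ideal.mem_bot]
    apply hbij₁.1
    rw [map_mul, map_zero]
    have : (Scheme.ΓSpecIso (CommRingCat.of R)).hom.hom x *
        (Scheme.ΓSpecIso (CommRingCat.of R)).hom.hom y ∈ J * J :=
      Ideal.mul_mem_mul (hker x hx) (hker y hy)
    rw [hJ, Ideal.mem_bot] at this
    exact this
  -- reduce to an affine open cover
  have hφiso : IsIso φ := by
    let 𝒰 := X.left.affineCover
    refine (IsZariskiLocalAtTarget.iff_of_openCover
      (P := MorphismProperty.isomorphisms Scheme.{u}) 𝒰).mpr (fun k => ?_)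
    · change IsIso (Limits.pullback.snd φ (𝒰.f k))
      have hrange : Set.range ⇑(𝒰.f k ≫ φ) ⊆ Set.range ⇑(𝒰.f k) := by
        rintro _ ⟨v, rfl⟩
        rw [Scheme.Hom.comp_apply, hpt]
        exact ⟨v, rfl⟩
      let φk : 𝒰.X k ⟶ 𝒰.X k := IsOpenImmersion.lift (𝒰.f k) (𝒰.f k ≫ φ) hrange
      have hφk : φk ≫ 𝒰.f k = 𝒰.f k ≫ φ := IsOpenImmersion.lift_fac _ _ _
      have hpre : φ ⁻¹ᵁ (𝒰.f k).opensRange = (𝒰.f k).opensRange := by
        ext x
        change φ x ∈ Set.range ⇑(𝒰.f k) ↔ x ∈ Set.range ⇑(𝒰.f k)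
        rw [hpt]
      have sq : IsPullback φk (𝒰.f k) (𝒰.f k) φ :=
        IsOpenImmersion.isPullback φk (𝒰.f k) (𝒰.f k) φ hφk.symm hpre
      have hk1 : φk ≫ (𝒰.f k ≫ X.hom) = 𝒰.f k ≫ X.hom := by
        rw [← Category.assoc, hφk, Category.assoc, hφπ]
      have hk2 : Limits.pullback.fst (𝒰.f k ≫ X.hom) j ≫ φk = Limits.pullback.fst (𝒰.f k ≫ X.hom) j := by
        rw [← cancel_mono (𝒰.f k), Category.assoc, hφk]
        let w : Limits.pullback (𝒰.f k ≫ X.hom) j ⟶ Limits.pullback X.hom j :=
          Limits.pullback.map (𝒰.f k ≫ X.hom) j X.hom j (𝒰.f k) (𝟙 _) (𝟙 _)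
            (by rw [Category.comp_id]) (by rw [Category.comp_id, Category.id_comp])
        have hw : w ≫ Limits.pullback.fst X.hom j = Limits.pullback.fst (𝒰.f k ≫ X.hom) j ≫ 𝒰.f k :=
          Limits.pullback.lift_fst _ _ _
        rw [← Category.assoc, ← hw, Category.assoc, hi]
      have hφkiso : IsIso φk :=
        Groth.Agent.Lib.Helper38.SqZeroEndo.isIso_of_affine (𝒰.f k ≫ X.hom) j hjs hJ' φk hk1 hk2
      have e : Limits.pullback.snd φ (𝒰.f k) = sq.flip.isoPullback.inv ≫ φk := by
        rw [Iso.eq_inv_comp]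
        exact sq.flip.isoPullback_hom_snd
      rw [e]
      infer_instance
  have : IsIso ((Over.forget _).map u) := hφiso
  exact isIso_of_reflects_iso u (Over.forget _)


end Groth.Agent.S8362
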