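import Groth.Statements.S8364
-- import your own Groth.Agent.* helpers here

set_option autoImplicit false
universe u
open SGA3

namespace Groth.Agent.S8364

/-- an endomorphism congruent to the identity modulo the extension of a square-zero ideal is
bijective -/
lemma bijective_of_comp_eq (R A : Type u) [CommRing R] [CommRing A] [Algebra R A]
    (J : Ideal R) (hJ : J * J = ⊥) (θ : A →ₐ[R] A)
    (hθ : (Ideal.Quotient.mkₐ R (Ideal.map (algebraMap R A) J)).comp θ =
      Ideal.Quotient.mkₐ R (Ideal.map (algebraMap R A) J)) :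
    Function.Bijective θ := by
  set I := Ideal.map (algebraMap R A) J with hIdef
  have hII : I * I = ⊥ := by
    rw [hIdef, ← Ideal.map_mul, hJ, Ideal.map_bot]
  have hδ : ∀ a : A, θ a - a ∈ I := by
    intro a
    have := AlgHom.congr_fun hθ a
    rw [AlgHom.comp_apply, Ideal.Quotient.mkₐ_eq_mk] at this
    exact Ideal.Quotient.eq.1 this
  have hfix : ∀ x ∈ I, θ x = x := by
    intro x hx
    rw [hIdef, Ideal.map] at hx
    induction hx using Submodule.span_induction with
    | mem x hx =>
      obtain ⟨j, -, rfl⟩ := hx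
      exact θ.commutes j
    | zero => exact map_zero θ
    | add x y _ _ hx hy => rw [map_add, hx, hy]
    | smul a x hxI hx =>
      rw [smul_eq_mul, map_mul, hx]
      have h1 : (θ a - a) * x ∈ I * I := Ideal.mul_mem_mul (hδ a) hxI
      rw [hII, Ideal.mem_bot] at h1
      linear_combination h1
  constructor
  · rw [injective_iff_map_eq_zero]
    intro a ha
    have h1 : a ∈ I := by
      have := hδ a
      rw [ha, zero_sub] at this
      simpa using I.neg_mem this
    rw [← hfix a h1, ha]
  · intro b
    refine ⟨b - (θ b - b), ?_⟩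
    rw [map_sub, hfix _ (hδ b)]
    ring

/-- For a commutative ring R, an ideal J of R of square zero, a smooth R-algebra A and the extended
ideal I = J·A, every R-algebra automorphism of A/I lifts to an R-algebra automorphism of A. (The
published statement concerns the automorphism functor of a smooth affine S-scheme E and affine test
schemes Y; this row is the case Y = S = Spec R, E = Spec A, which gives the general one after
replacing R by the ring of Y.) -/
theorem result (R A : Type u) [CommRing R] [CommRing A] [Algebra R A]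
    [Algebra.Smooth R A] (J : Ideal R) (hJ : J * J = ⊥)
    (φ₀ : (A ⧸ Ideal.map (algebraMap R A) J) ≃ₐ[R] (A ⧸ Ideal.map (algebraMap R A) J)) :
    ∃ φ : A ≃ₐ[R] A,
      (Ideal.Quotient.mkₐ R (Ideal.map (algebraMap R A) J)).comp φ.toAlgHom =
        φ₀.toAlgHom.comp (Ideal.Quotient.mkₐ R (Ideal.map (algebraMap R A) J)) := by
  have hII : Ideal.map (algebraMap R A) J * Ideal.map (algebraMap R A) J = ⊥ := by
    rw [← Ideal.map_mul, hJ, Ideal.map_bot]
  have hI : IsNilpotent (Ideal.map (algebraMap R A) J) := ⟨2, by rw [pow_two, hII]; rfl⟩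
  let π := Ideal.Quotient.mkₐ R (Ideal.map (algebraMap R A) J)
  let φ : A →ₐ[R] A := Algebra.FormallySmooth.lift _ hI (φ₀.toAlgHom.comp π)
  let ψ : A →ₐ[R] A := Algebra.FormallySmooth.lift _ hI (φ₀.symm.toAlgHom.comp π)
  have hφ : π.comp φ = φ₀.toAlgHom.comp π := Algebra.FormallySmooth.comp_lift _ hI _
  have hψ : π.comp ψ = φ₀.symm.toAlgHom.comp π := Algebra.FormallySmooth.comp_lift _ hI _
  have h1 : π.comp (φ.comp ψ) = π := by
    rw [← AlgHom.comp_assoc, hφ, AlgHom.comp_assoc, hψ, ← AlgHom.comp_assoc]
    ext a
    simp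
  have h2 : π.comp (ψ.comp φ) = π := by
    rw [← AlgHom.comp_assoc, hψ, AlgHom.comp_assoc, hφ, ← AlgHom.comp_assoc]
    ext a
    simp
  have hb1 := bijective_of_comp_eq R A J hJ (φ.comp ψ) h1
  have hb2 := bijective_of_comp_eq R A J hJ (ψ.comp φ) h2
  have hinj : Function.Injective φ := by
    have : Function.Injective (ψ ∘ φ) := hb2.1
    exact this.of_comp
  have hsurj : Function.Surjective φ := by
    have : Function.Surjective (φ ∘ ψ) := hb1.2
    exact this.of_comp
  exact ⟨AlgEquiv.ofBijective φ ⟨hinj, hsurj⟩, hφ⟩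

end Groth.Agent.S8364
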