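import Groth.Statements.S8366
import Groth.Agent.Lib.Helper7.Deform
import Mathlib

set_option autoImplicit false
universe u
open CategoryTheory MonoidalCategory MonObj AlgebraicGeometry
open SGA3

namespace Groth.Agent.S8366

open CartesianMonoidalCategory Limits

section abstract

variable {C : Type*} [Category C] [CartesianMonoidalCategory C] {X : C} (P : X ⊗ X ⟶ X)

/-- point-wise multiplication -/
def m {T : C} (a b : T ⟶ X) : T ⟶ X := lift a b ≫ P

lemma comp_m {T T' : C} (g : T' ⟶ T) (a b : T ⟶ X) : g ≫ m P a b = m P (g ≫ a) (g ≫ b) := by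
  rw [m, m, ← Category.assoc, comp_lift]

lemma m_assoc (hassoc : (P ▷ X) ≫ P = (α_ X X X).hom ≫ (X ◁ P) ≫ P) {T : C} (a b c : T ⟶ X) :
    m P (m P a b) c = m P a (m P b c) := by
  have := congrArg (fun t => lift (lift a b) c ≫ t) hassoc
  simpa [m] using this

lemma lcancel [IsIso (lift (fst X X) P)] {T : C} (a c c' : T ⟶ X) (h : m P a c = m P a c') :
    c = c' := by
  have h1 : lift a c ≫ lift (fst X X) P = lift a c' ≫ lift (fst X X) P := by
    ext
    · simp
    · simpa [m] using h
  have h2 := (cancel_mono _).1 h1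
  simpa using congrArg (fun t => t ≫ snd X X) h2

lemma rcancel [IsIso (lift P (snd X X))] {T : C} (a c c' : T ⟶ X) (h : m P c a = m P c' a) :
    c = c' := by
  have h1 : lift c a ≫ lift P (snd X X) = lift c' a ≫ lift P (snd X X) := by
    ext
    · simpa [m] using h
    · simp
  have h2 := (cancel_mono _).1 h1
  simpa using congrArg (fun t => t ≫ fst X X) h2

lemma ldiv [IsIso (lift (fst X X) P)] {T : C} (a b : T ⟶ X) : ∃ c, m P a c = b := by
  set d := lift a b ≫ inv (lift (fst X X) P) with hd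
  have h1 : d ≫ lift (fst X X) P = lift a b := by
    rw [hd, Category.assoc, IsIso.inv_hom_id, Category.comp_id]
  have h2 : d ≫ fst X X = a := by simpa using congrArg (fun t => t ≫ fst X X) h1
  have h3 : d ≫ P = b := by simpa using congrArg (fun t => t ≫ snd X X) h1
  refine ⟨d ≫ snd X X, ?_⟩
  have h4 : lift a (d ≫ snd X X) = d := by
    ext <;> simp [h2]
  rw [m, h4, h3]

lemma rdiv [IsIso (lift P (snd X X))] {T : C} (a b : T ⟶ X) : ∃ c, m P c a = b := by
  set d := lift b a ≫ inv (lift P (snd X X)) with hd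
  have h1 : d ≫ lift P (snd X X) = lift b a := by
    rw [hd, Category.assoc, IsIso.inv_hom_id, Category.comp_id]
  have h2 : d ≫ snd X X = a := by simpa using congrArg (fun t => t ≫ snd X X) h1
  have h3 : d ≫ P = b := by simpa using congrArg (fun t => t ≫ fst X X) h1
  refine ⟨d ≫ fst X X, ?_⟩
  have h4 : lift (d ≫ fst X X) a = d := by
    ext <;> simp [h2]
  rw [m, h4, h3]

variable (hassoc : (P ▷ X) ≫ P = (α_ X X X).hom ≫ (X ◁ P) ≫ P)
  [IsIso (lift (fst X X) P)] [IsIso (lift P (snd X X))]

include hassoc in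
lemma G1 (e₀ : X ⟶ X) (he₀ : m P (𝟙 X) e₀ = 𝟙 X) {T : C} (y z : T ⟶ X) :
    m P (y ≫ e₀) z = z := by
  apply lcancel P y
  rw [← m_assoc P hassoc]
  have : m P y (y ≫ e₀) = y := by
    have := comp_m P y (𝟙 X) e₀
    rw [he₀] at this
    simpa using this.symm
  rw [this]

include hassoc in
lemma G2 (f₀ : X ⟶ X) (hf₀ : m P f₀ (𝟙 X) = 𝟙 X) {T : C} (y z : T ⟶ X) :
    m P z (y ≫ f₀) = z := by
  apply rcancel P y
  rw [m_assoc P hassoc]
  have : m P (y ≫ f₀) y = y := by
    have := comp_m P y f₀ (𝟙 X)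
    rw [hf₀] at this
    simpa using this.symm
  rw [this]

include hassoc in
lemma G3 (e₀ : X ⟶ X) (he₀ : m P (𝟙 X) e₀ = 𝟙 X) {T : C} (y y' : T ⟶ X) :
    y ≫ e₀ = y' ≫ e₀ ∧ ∀ z : T ⟶ X, m P z (y ≫ e₀) = z := by
  obtain ⟨f₀, hf₀⟩ := rdiv P (𝟙 X) (𝟙 X)
  have key : ∀ {T : C} (y y' : T ⟶ X), y ≫ e₀ = y' ≫ f₀ := by
    intro T y y'
    rw [← G2 P hassoc f₀ hf₀ y' (y ≫ e₀), G1 P hassoc e₀ he₀]
  have hef : e₀ = f₀ := by simpa using key (𝟙 X) (𝟙 X)
  subst hef
  exact ⟨key y y', fun z => G2 P hassoc e₀ hf₀ y z⟩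

include hassoc in
theorem grp_of_shear (one : 𝟙_ C ⟶ X) (e₀ : X ⟶ X) (he₀ : m P (𝟙 X) e₀ = 𝟙 X)
    (hone : toUnit X ≫ one = e₀) : ∃ _ : GrpObj X, μ[X] = P := by
  have hu : ∀ {T : C} (y : T ⟶ X), toUnit T ≫ one = y ≫ e₀ := by
    intro T y
    rw [← hone, ← Category.assoc]
    congr 1
    exact toUnit_unique _ _
  have h1 : ∀ {T : C} (y z : T ⟶ X), m P (toUnit T ≫ one) z = z := by
    intro T y z
    rw [hu y]; exact G1 P hassoc e₀ he₀ y z
  have h2 : ∀ {T : C} (y z : T ⟶ X), m P z (toUnit T ≫ one) = z := by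
    intro T y z
    rw [hu y]; exact (G3 P hassoc e₀ he₀ y y).2 z
  obtain ⟨iv, hiv⟩ := rdiv P (𝟙 X) e₀
  have hri : m P (𝟙 X) iv = e₀ := by
    apply lcancel P (m P (𝟙 X) iv)
    rw [m_assoc P hassoc, ← m_assoc P hassoc iv, hiv]
    have : e₀ = 𝟙 X ≫ e₀ := by simp
    rw [this, G1 P hassoc e₀ he₀ (𝟙 X) iv]
    exact ((G3 P hassoc e₀ he₀ (𝟙 X) (𝟙 X)).2 _).symm
  refine ⟨{ one := one, mul := P, one_mul := ?_, mul_one := ?_, mul_assoc := hassoc, inv := iv,
            left_inv := ?_, right_inv := ?_ }, rfl⟩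
  · have : (one ▷ X) ≫ P = m P (toUnit (𝟙_ C ⊗ X) ≫ one) (snd (𝟙_ C) X) := by
      rw [m]; congr 1; ext
      · simp only [whiskerRight_fst, lift_fst]
        congr 1; exact toUnit_unique _ _
      · simp
    rw [this, h1 (snd _ _), leftUnitor_hom]
  · have : (X ◁ one) ≫ P = m P (fst X (𝟙_ C)) (toUnit (X ⊗ 𝟙_ C) ≫ one) := by
      rw [m]; congr 1; ext
      · simp
      · simp only [whiskerLeft_snd, lift_snd]
        congr 1; exact toUnit_unique _ _
    rw [this, h2 (fst _ _), rightUnitor_hom]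
  · change m P iv (𝟙 X) = _
    rw [hiv, hone]
  · change m P (𝟙 X) iv = _
    rw [hri, hone]

end abstract

section grp

variable {C : Type*} [Category C] [CartesianMonoidalCategory C] (G : C) [GrpObj G]

instance shearL_iso : IsIso (lift (fst G G) μ[G]) := by
  refine ⟨lift (fst G G) (lift (fst G G ≫ ι[G]) (snd G G) ≫ μ[G]), ?_, ?_⟩
  · ext
    · simp
    · simp only [Category.assoc, lift_snd, Category.id_comp]
      have hμ : (μ[G] : G ⊗ G ⟶ G) = fst G G * snd G G := by rw [Hom.mul_def]; simp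
      rw [comp_lift_assoc, lift_fst_assoc, lift_snd, ← Hom.inv_def, ← Hom.mul_def, hμ]
      simp
  · ext
    · simp
    · simp only [Category.assoc, lift_snd, lift_fst, Category.id_comp]
      rw [← Hom.inv_def, ← Hom.mul_def, ← Hom.mul_def]
      simp

instance shearR_iso : IsIso (lift μ[G] (snd G G)) := by
  refine ⟨lift (lift (fst G G) (snd G G ≫ ι[G]) ≫ μ[G]) (snd G G), ?_, ?_⟩
  · ext
    · simp only [Category.assoc, lift_fst, Category.id_comp]
      have hμ : (μ[G] : G ⊗ G ⟶ G) = fst G G * snd G G := by rw [Hom.mul_def]; simp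
      rw [comp_lift_assoc, lift_snd_assoc, lift_fst, ← Hom.inv_def, ← Hom.mul_def, hμ]
      simp
    · simp
  · ext
    · simp only [Category.assoc, lift_snd, lift_fst, Category.id_comp]
      rw [← Hom.inv_def, ← Hom.mul_def, ← Hom.mul_def]
      simp
    · simp

end grp

section schemes

variable {R : Type u} [CommRing R] (I : Ideal R)

/-- the thickening -/
noncomputable abbrev jj : Spec (CommRingCat.of (R ⧸ I)) ⟶ Spec (CommRingCat.of R) :=
  Spec.map (CommRingCat.ofHom (Ideal.Quotient.mk I))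

instance jj_closed : IsClosedImmersion (jj I) :=
  IsClosedImmersion.spec_of_surjective _ Ideal.Quotient.mk_surjective

lemma jj_surjective (hI : IsNilpotent I) : Surjective (jj I) := by
  constructor
  intro p
  obtain ⟨n, hn⟩ := hI
  have : p.asIdeal.IsPrime := p.isPrime
  have hp : I ≤ p.asIdeal := by
    apply Ideal.IsPrime.le_of_pow_le (n := n)
    rw [hn]; exact bot_le
  have : p ∈ Set.range (PrimeSpectrum.comap (Ideal.Quotient.mk I)) := by
    rw [range_comap_of_surjective _ _ Ideal.Quotient.mk_surjective, Ideal.mk_ker]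
    exact hp
  obtain ⟨q, hq⟩ := this
  exact ⟨q, hq⟩

lemma jj_ker_nilpotent (hI : IsNilpotent I) : IsNilpotent (jj I).ker := by
  obtain ⟨n, hn⟩ := hI
  refine ⟨n, ?_⟩
  apply Scheme.IdealSheafData.ext_of_isAffine
  have h1 : ((jj I).ker ^ n).ideal ⟨⊤, isAffineOpen_top _⟩ =
      ((jj I).ker.ideal ⟨⊤, isAffineOpen_top _⟩) ^ n := rfl
  rw [h1, Scheme.Hom.ker_apply]
  have nat : ∀ x, (Scheme.ΓSpecIso (CommRingCat.of (R ⧸ I))).hom.hom
      ((jj I).appTop.hom x) =
      Ideal.Quotient.mk I ((Scheme.ΓSpecIso (CommRingCat.of R)).hom.hom x) :=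
    fun x => congr($(Scheme.ΓSpecIso_naturality (CommRingCat.ofHom (Ideal.Quotient.mk I))) x)
  have injA : Function.Injective (Scheme.ΓSpecIso (CommRingCat.of R)).hom.hom :=
    (ConcreteCategory.bijective_of_isIso (Scheme.ΓSpecIso (CommRingCat.of R)).hom).injective
  have hle : RingHom.ker ((jj I).app ⊤).hom ≤
      Ideal.comap (Scheme.ΓSpecIso (CommRingCat.of R)).hom.hom I := by
    intro x hx
    rw [Ideal.mem_comap, ← Ideal.Quotient.eq_zero_iff_mem, ← nat]
    have : (jj I).appTop.hom x = 0 := hx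
    rw [this, map_zero]
  have h2 : RingHom.ker ((jj I).app ⊤).hom ^ n ≤ ⊥ := by
    refine (Ideal.pow_right_mono hle n).trans ?_
    refine (Ideal.le_comap_pow _ n).trans ?_
    rw [hn]
    intro x hx
    have : (Scheme.ΓSpecIso (CommRingCat.of R)).hom.hom x = 0 := hx
    exact injA (by rw [this, map_zero])
  exact le_bot_iff.1 h2

theorem isIso_of_map_isIso (hI : IsNilpotent I) {Y Z : Over (Spec (CommRingCat.of R))} (u : Y ⟶ Z)
    [Flat Y.hom] [IsIso ((Over.pullback (jj I)).map u)] : IsIso u := by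
  have : IsIso u.left := by
    have hcY : IsPullback (pullback.fst Z.hom (jj I)) (pullback.snd Z.hom (jj I)) Z.hom (jj I) :=
      IsPullback.of_hasPullback _ _
    have hcX : IsPullback (pullback.fst Y.hom (jj I))
        (((Over.pullback (jj I)).map u).left ≫ pullback.snd Z.hom (jj I))
        (u.left ≫ Z.hom) (jj I) := by
      have h1 : ((Over.pullback (jj I)).map u).left ≫ pullback.snd Z.hom (jj I) =
          pullback.snd Y.hom (jj I) := pullback.lift_snd _ _ _
      rw [h1, Over.w]; exact IsPullback.of_hasPullback _ _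
    have w : pullback.fst Y.hom (jj I) ≫ u.left =
        ((Over.pullback (jj I)).map u).left ≫ pullback.fst Z.hom (jj I) :=
      (pullback.lift_fst _ _ _).symm
    have : Flat (u.left ≫ Z.hom) := by rw [Over.w]; infer_instance
    have : Surjective (jj I) := jj_surjective I hI
    exact Groth.Agent.Lib.Helper7.Deform.isIso_of_isIso hcX hcY w (jj_ker_nilpotent I hI)
      (show IsIso ((Over.forget _).map ((Over.pullback (jj I)).map u)) from inferInstance)
  have : IsIso ((Over.forget _).map u) := this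
  exact isIso_of_reflects_iso u (Over.forget _)

end schemes

section main

open Functor.LaxMonoidal Functor.OplaxMonoidal Functor.Monoidal

theorem main_aux (R : Type u) [CommRing R] (I : Ideal R)
    (hI : IsNilpotent I) (X : Over (Spec (CommRingCat.of R))) [Flat X.hom]
    (hX : QuasiCompact X.hom ∨ LocallyOfFinitePresentation X.hom) (P : X ⊗ X ⟶ X)
    (hassoc : (P ▷ X) ≫ P = (α_ X X X).hom ≫ (X ◁ P) ≫ P)
    (h0 : ∃ _ : GrpObj ((Over.pullback (jj I)).obj X),
      μ[(Over.pullback (jj I)).obj X] =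
        Functor.LaxMonoidal.μ (Over.pullback (jj I)) X X ≫ (Over.pullback (jj I)).map P) :
    ∃ _ : GrpObj X, μ[X] = P := by
  obtain ⟨hG, hμ⟩ := h0
  have hflat : Flat (X ⊗ X).hom := by
    rw [Over.tensorObj_hom]; infer_instance
  have hL : IsIso (lift (fst X X) P) := by
    have : IsIso ((Over.pullback (jj I)).map (lift (fst X X) P)) := by
      have h1 : (Over.pullback (jj I)).map (lift (fst X X) P) =
          δ (Over.pullback (jj I)) X X ≫ lift (fst _ _) μ[(Over.pullback (jj I)).obj X] ≫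
            Functor.LaxMonoidal.μ (Over.pullback (jj I)) X X := by
        rw [hμ, ← lift_μ, ← Category.assoc]
        congr 1
        ext <;> simp
      rw [h1]
      have i1 : IsIso (δ (Over.pullback (jj I)) X X) := inferInstance
      have i2 : IsIso (lift (fst _ _) μ[(Over.pullback (jj I)).obj X]) := shearL_iso _
      have i3 : IsIso (Functor.LaxMonoidal.μ (Over.pullback (jj I)) X X) := inferInstance
      exact IsIso.comp_isIso' i1 (IsIso.comp_isIso' i2 i3)
    exact isIso_of_map_isIso I hI _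
  have hR : IsIso (lift P (snd X X)) := by
    have : IsIso ((Over.pullback (jj I)).map (lift P (snd X X))) := by
      have h1 : (Over.pullback (jj I)).map (lift P (snd X X)) =
          δ (Over.pullback (jj I)) X X ≫ lift μ[(Over.pullback (jj I)).obj X] (snd _ _) ≫
            Functor.LaxMonoidal.μ (Over.pullback (jj I)) X X := by
        rw [hμ, ← lift_μ, ← Category.assoc]
        congr 1
        ext <;> simp
      rw [h1]
      have i1 : IsIso (δ (Over.pullback (jj I)) X X) := inferInstance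
      have i2 : IsIso (lift μ[(Over.pullback (jj I)).obj X] (snd _ _)) := shearR_iso _
      have i3 : IsIso (Functor.LaxMonoidal.μ (Over.pullback (jj I)) X X) := inferInstance
      exact IsIso.comp_isIso' i1 (IsIso.comp_isIso' i2 i3)
    exact isIso_of_map_isIso I hI _
  -- surjectivity
  have hsurj : Surjective X.hom := by
    constructor
    intro p
    obtain ⟨q, rfl⟩ := (jj_surjective I hI).surj p
    let x₀ := (η[(Over.pullback (jj I)).obj X]).left q
    have h1 : (pullback.snd X.hom (jj I)) x₀ = q := by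
      have := Over.w (η[(Over.pullback (jj I)).obj X])
      have h2 := congrArg (fun t => t q) this
      simpa [x₀] using h2
    refine ⟨(pullback.fst X.hom (jj I)) x₀, ?_⟩
    rw [← Scheme.Hom.comp_apply, pullback.condition, Scheme.Hom.comp_apply, h1]
  have hEE : EffectiveEpi X.hom := by
    rcases hX with h | h <;> infer_instance
  obtain ⟨e₀, he₀⟩ := ldiv P (𝟙 X) (𝟙 X)
  have hdesc : ∀ {Z : Scheme.{u}} (g₁ g₂ : Z ⟶ X.left), g₁ ≫ X.hom = g₂ ≫ X.hom →
      g₁ ≫ e₀.left = g₂ ≫ e₀.left := by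
    intro Z g₁ g₂ h
    have := (G3 P hassoc e₀ he₀ (T := Over.mk (g₁ ≫ X.hom)) (Over.homMk g₁ rfl)
      (Over.homMk g₂ h.symm)).1
    exact congrArg CommaMorphism.left this
  let ε := EffectiveEpi.desc X.hom e₀.left hdesc
  have hε : X.hom ≫ ε = e₀.left := EffectiveEpi.fac _ _ _
  have hε' : ε ≫ X.hom = 𝟙 _ := by
    have : Epi X.hom := inferInstance
    rw [← cancel_epi X.hom, reassoc_of% hε, Over.w e₀]; simp
  let one : 𝟙_ (Over (Spec (CommRingCat.of R))) ⟶ X := Over.homMk ε (by simpa using hε')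
  exact grp_of_shear P hassoc one e₀ he₀ (by ext; simp [one, hε])

end main

/-- Over an affine base S = Spec R with S₀ = Spec (R/I) for a nilpotent ideal I: let X be an S-scheme
which is flat and either quasi-compact or locally of finite presentation over S, and P : X ×_S X → X
a composition law. If P is associative and its base change to S₀ is the multiplication of some
group-scheme structure on X ×_S S₀, then P is the multiplication of a group-scheme structure on X.
(The published statement is over an arbitrary base scheme with S₀ defined by a nilpotent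
quasi-coherent ideal; this row is its case of an affine base.) -/
theorem result (R : Type u) [CommRing R] (I : Ideal R)
    (hI : IsNilpotent I) (X : Over (Spec (CommRingCat.of R))) [Flat X.hom]
    (hX : QuasiCompact X.hom ∨ LocallyOfFinitePresentation X.hom) (P : X ⊗ X ⟶ X)
    (hassoc : (P ▷ X) ≫ P = (α_ X X X).hom ≫ (X ◁ P) ≫ P)
    (h0 : ∃ _ : GrpObj ((Over.pullback (Spec.map (CommRingCat.ofHom (Ideal.Quotient.mk I)))).obj X),
      μ[(Over.pullback (Spec.map (CommRingCat.ofHom (Ideal.Quotient.mk I)))).obj X] =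
        Functor.LaxMonoidal.μ (Over.pullback (Spec.map (CommRingCat.ofHom (Ideal.Quotient.mk I)))) X X ≫ (Over.pullback (Spec.map (CommRingCat.ofHom (Ideal.Quotient.mk I)))).map P) :
    ∃ _ : GrpObj X, μ[X] = P := by
  exact main_aux R I hI X hX P hassoc h0

end Groth.Agent.S8366
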