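import Groth.Statements.S8369
import Mathlib.RingTheory.Flat.EquationalCriterion
-- import your own Groth.Agent.* helpers here

set_option autoImplicit false
universe u v
open SGA3

namespace Groth.Agent.S8369

/-- If `M ⧸ N` is flat then `N ⊓ I • ⊤ ≤ I • N`. -/
lemma inf_smul_top_le (A : Type u) [CommRing A] (I : Ideal A)
    (M : Type v) [AddCommGroup M] [Module A M] (N : Submodule A M) [Module.Flat A (M ⧸ N)] :
    N ⊓ I • (⊤ : Submodule A M) ≤ I • N := by
  classical
  rintro x ⟨hxN, hxI⟩
  have hxI' : x ∈ I • Submodule.span A (Set.range (id : M → M)) := by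
    rw [Set.range_id, Submodule.span_univ]; exact hxI
  rw [Submodule.mem_ideal_smul_span_iff_exists_sum] at hxI'
  obtain ⟨a, haI, hax⟩ := hxI'
  -- finite relation indexed by the support of `a`
  let f : a.support → A := fun i => a i
  let m : a.support → M := fun i => i
  have hsum : ∑ i : a.support, f i • m i = x := by
    rw [← hax, Finsupp.sum]
    exact Finset.sum_coe_sort a.support (fun i => a i • id i)
  have hrel : ∑ i : a.support, f i • (N.mkQ (m i)) = 0 := by
    have h0 : N.mkQ (∑ i : a.support, f i • m i) = 0 := by
      rw [hsum]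
      exact (Submodule.Quotient.mk_eq_zero N).2 hxN
    rw [map_sum] at h0
    simpa only [map_smul] using h0
  obtain ⟨k, c, y, hy, hc⟩ := Module.Flat.isTrivialRelation_of_sum_smul_eq_zero hrel
  have hy : ∀ i, N.mkQ (m i) = ∑ j, c i j • y j := hy
  choose y' hy' using fun j => N.mkQ_surjective (y j)
  have hn : ∀ i, m i - ∑ j, c i j • y' j ∈ N := by
    intro i
    rw [← Submodule.Quotient.mk_eq_zero N, Submodule.Quotient.mk_sub]
    change N.mkQ (m i) - N.mkQ (∑ j, c i j • y' j) = 0
    rw [map_sum, hy i, sub_eq_zero]
    apply Finset.sum_congr rfl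
    intro j _
    rw [map_smul, hy']
  have hx : x = ∑ i : a.support, f i • (m i - ∑ j, c i j • y' j) := by
    have h2 : ∑ i : a.support, f i • ∑ j, c i j • y' j = 0 := by
      simp only [Finset.smul_sum, smul_smul]
      rw [Finset.sum_comm]
      apply Finset.sum_eq_zero
      intro j _
      rw [← Finset.sum_smul, hc j, zero_smul]
    simp only [smul_sub, Finset.sum_sub_distrib]
    rw [h2, sub_zero, hsum]
  rw [hx]
  apply Submodule.sum_mem
  intro i _
  exact Submodule.smul_mem_smul (haI i) (hn i)

/-- Let A be a commutative ring, J a nilpotent ideal, N ⊆ M A-modules with M/N flat over A. If elements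
of N have images generating the image of N in M/JM, then they generate N. (The published statement
takes finitely many elements; this row allows an arbitrary set, which the same argument permits.) -/
theorem result (A : Type u) [CommRing A] (J : Ideal A) (hJ : IsNilpotent J)
    (M : Type v) [AddCommGroup M] [Module A M] (N : Submodule A M) [Module.Flat A (M ⧸ N)] (s : Set M)
    (hs : s ⊆ N)
    (hgen : (Submodule.span A s).map (J • (⊤ : Submodule A M)).mkQ = N.map (J • (⊤ : Submodule A M)).mkQ) :
    Submodule.span A s = N := by
  apply le_antisymm (Submodule.span_le.2 hs)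
  have h1 : N ≤ Submodule.span A s ⊔ J • (⊤ : Submodule A M) := by
    have := congrArg (Submodule.comap (J • (⊤ : Submodule A M)).mkQ) hgen
    rw [Submodule.comap_map_mkQ, Submodule.comap_map_mkQ] at this
    calc N ≤ J • (⊤ : Submodule A M) ⊔ N := le_sup_right
      _ = J • (⊤ : Submodule A M) ⊔ Submodule.span A s := this.symm
      _ = _ := sup_comm _ _
  have h2 : N ≤ Submodule.span A s ⊔ J • N := by
    intro x hx
    obtain ⟨n', hn', y, hy, rfl⟩ := Submodule.mem_sup.1 (h1 hx)
    have hyN : y ∈ N := by
      have : y = (n' + y) - n' := by abel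
      rw [this]
      exact N.sub_mem hx (Submodule.span_le.2 hs hn')
    exact Submodule.mem_sup.2 ⟨n', hn', y, inf_smul_top_le A J M N ⟨hyN, hy⟩, rfl⟩
  have h3 : ∀ n : ℕ, N ≤ Submodule.span A s ⊔ J ^ n • N := by
    intro n
    induction n with
    | zero => simp
    | succ n ih =>
      calc N ≤ Submodule.span A s ⊔ J • N := h2
        _ ≤ Submodule.span A s ⊔ J • (Submodule.span A s ⊔ J ^ n • N) :=
          sup_le_sup_left (Submodule.smul_mono le_rfl ih) _
        _ = Submodule.span A s ⊔ (J • Submodule.span A s ⊔ J • (J ^ n • N)) := by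
          rw [Submodule.smul_sup]
        _ ≤ Submodule.span A s ⊔ J ^ (n + 1) • N := by
          apply sup_le le_sup_left
          apply sup_le
          · exact le_trans Submodule.smul_le_right le_sup_left
          · rw [← mul_smul, ← pow_succ']
            exact le_sup_right
  obtain ⟨n, hn⟩ := hJ
  have := h3 n
  rwa [hn, Ideal.zero_eq_bot, Submodule.bot_smul, sup_bot_eq] at this

end Groth.Agent.S8369
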