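import Groth.Statements.S8370
import Mathlib

set_option autoImplicit false
universe u
open CategoryTheory MonObj AlgebraicGeometry
open LieS

namespace Groth.Agent.S8370

section
variable {S : Scheme.{u}} (G K : Over S) [GrpObj G] [GrpObj K] (i : K ⟶ G)
  (B : Type u) [CommRing B] (f : Spec (CommRingCat.of B) ⟶ S) (x : LieS.Lie G B f)

lemma pull_val {B' : Type u} [CommRing B'] (h : B →+* B') :
    (LieS.pull G f h x).1 = LieS.dptMap f h ≫ x.1 := rfl

lemma Ad_val {B' : Type u} [CommRing B'] (f' : Spec (CommRingCat.of B') ⟶ S)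
    (g : LieS.pt B' f' ⟶ G) (w : LieS.Lie G B' f') :
    (LieS.Ad G B' f' g w).1 = (LieS.proj B' f' ≫ g) * w.1 * (LieS.proj B' f' ≫ g)⁻¹ := rfl

lemma forward
    (hc : ∀ (X' : Over S) (y : X' ⟶ LieS.dpt B f) (h : X' ⟶ K),
      (y ≫ x.1) * (h ≫ i) = (h ≫ i) * (y ≫ x.1))
    (B' : Type u) [CommRing B'] (h : B →+* B')
    (k : LieS.pt B' (Spec.map (CommRingCat.ofHom h) ≫ f) ⟶ K) :
    LieS.Ad G B' (Spec.map (CommRingCat.ofHom h) ≫ f) (k ≫ i) (LieS.pull G f h x)
      = LieS.pull G f h x := by
  apply Subtype.ext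
  rw [Ad_val, pull_val]
  have := hc _ (LieS.dptMap f h) (LieS.proj B' (Spec.map (CommRingCat.ofHom h) ≫ f) ≫ k)
  rw [Category.assoc] at this
  rw [← this, mul_inv_cancel_right]

/-- decomposition of a dual number -/
lemma dual_decomp (z : DualNumber B) :
    z = algebraMap B (DualNumber B) z.fst + algebraMap B (DualNumber B) z.snd * DualNumber.eps := by
  apply TrivSqZeroExt.ext <;> simp [TrivSqZeroExt.algebraMap_eq_inl']

/-- Claim A: commutation after restriction to an affine chart. -/
lemma claimA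
    (hAd : ∀ (B' : Type u) [CommRing B'] (h : B →+* B')
      (k : LieS.pt B' (Spec.map (CommRingCat.ofHom h) ≫ f) ⟶ K),
      LieS.Ad G B' (Spec.map (CommRingCat.ofHom h) ≫ f) (k ≫ i) (LieS.pull G f h x)
        = LieS.pull G f h x)
    (X' : Over S) (y : X' ⟶ LieS.dpt B f) (h : X' ⟶ K)
    (C : Type u) [CommRing C] (j : Spec (CommRingCat.of C) ⟶ X'.left) :
    j ≫ ((y ≫ x.1) * (h ≫ i)).left = j ≫ ((h ≫ i) * (y ≫ x.1)).left := by
  -- the ring map of the chart
  let ψc : CommRingCat.of (DualNumber B) ⟶ CommRingCat.of C := Spec.preimage (j ≫ y.left)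
  have hψc : Spec.map ψc = j ≫ y.left := Spec.map_preimage _
  let ψ : DualNumber B →+* C := ψc.hom
  have hψ : Spec.map (CommRingCat.ofHom ψ) = j ≫ y.left := hψc
  let h₀ : B →+* C := ψ.comp (algebraMap B (DualNumber B))
  let e : C := ψ DualNumber.eps
  have he : e * e = 0 := by
    change ψ DualNumber.eps * ψ DualNumber.eps = 0
    rw [← map_mul, LieS.eps_sq, map_zero]
  let f' : Spec (CommRingCat.of C) ⟶ S := Spec.map (CommRingCat.ofHom h₀) ≫ f
  have hw : j ≫ X'.hom = f' := by
    rw [← Over.w y, ← Category.assoc, ← hψ]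
    change Spec.map (CommRingCat.ofHom ψ) ≫
      Spec.map (CommRingCat.ofHom (algebraMap B (DualNumber B))) ≫ f = _
    rw [← Category.assoc, LieS.specMap_comp]
  let J' : LieS.pt C f' ⟶ X' := Over.homMk j hw
  -- the section σ
  let σr : DualNumber C →+* C := LieS.dualHom (RingHom.id C) e he
  have hσr : σr.comp (algebraMap C (DualNumber C)) = RingHom.id C :=
    LieS.dualHom_comp_algebraMap _ _ _
  let σ : LieS.pt C f' ⟶ LieS.dpt C f' := Over.homMk (Spec.map (CommRingCat.ofHom σr)) (by
    change Spec.map _ ≫ Spec.map _ ≫ f' = f'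
    rw [← Category.assoc, LieS.specMap_comp, hσr, CommRingCat.ofHom_id]
    erw [Spec.map_id]; exact Category.id_comp f')
  have hσproj : σ ≫ LieS.proj C f' = 𝟙 _ := by
    ext
    change Spec.map _ ≫ Spec.map _ = 𝟙 _
    rw [LieS.specMap_comp, hσr, CommRingCat.ofHom_id]; erw [Spec.map_id]
  have hσy : σ ≫ LieS.dptMap f h₀ = J' ≫ y := by
    ext
    change Spec.map _ ≫ Spec.map _ = j ≫ y.left
    rw [LieS.specMap_comp, ← hψ]
    congr 2
    ext z
    · simp [σr, LieS.bcHom, h₀, TrivSqZeroExt.algebraMap_eq_inl']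
    · simp [σr, LieS.bcHom, h₀, e, TrivSqZeroExt.algebraMap_eq_inl']
  let k : LieS.pt C f' ⟶ K := J' ≫ h
  have hA := hAd C h₀ k
  have hA1 := congrArg Subtype.val hA
  rw [Ad_val, pull_val] at hA1
  have hA2 := mul_inv_eq_iff_eq_mul.mp hA1
  have hA3 := congrArg (fun t => σ ≫ t) hA2
  simp only [MonObj.comp_mul] at hA3
  rw [← Category.assoc σ, hσproj, Category.id_comp, ← Category.assoc σ, hσy] at hA3
  have hfin : J' ≫ ((y ≫ x.1) * (h ≫ i)) = J' ≫ ((h ≫ i) * (y ≫ x.1)) := by
    rw [MonObj.comp_mul, MonObj.comp_mul]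
    simp only [Category.assoc] at hA3 ⊢
    exact hA3.symm
  exact congrArg (fun t => t.left) hfin

end

/-- For a group scheme G over a scheme S (the group law of the Lie algebra functor of a group scheme is
commutative, which the published statement assumes), a sub-group-scheme K of G given by a
monomorphic homomorphism i, and an affine S-scheme T = Spec B: an element x of Lie(G/S)(T) belongs
to the Lie algebra of the centraliser of K, i.e. the point x of G with values in the dual numbers
I_T commutes with every point of K with values in any scheme over I_T, if and only if x is fixed by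
the adjoint action of every point of K with values in an affine scheme T' = Spec B' over T (acting
on the restriction of x to T'). -/
theorem result (S : Scheme.{u}) (G K : Over S) [GrpObj G] [GrpObj K] (i : K ⟶ G)
    [IsMonHom i] [Mono i] (B : Type u) [CommRing B] (f : Spec (CommRingCat.of B) ⟶ S) (x : LieS.Lie G B f) :
    (∀ (X' : Over S) (y : X' ⟶ LieS.dpt B f) (h : X' ⟶ K), (y ≫ x.1) * (h ≫ i) = (h ≫ i) * (y ≫ x.1)) ↔
    (∀ (B' : Type u) [CommRing B'] (h : B →+* B')
      (k : LieS.pt B' (Spec.map (CommRingCat.ofHom h) ≫ f) ⟶ K),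
      LieS.Ad G B' (Spec.map (CommRingCat.ofHom h) ≫ f) (k ≫ i) (LieS.pull G f h x) = LieS.pull G f h x) := by
  constructor
  · intro hc B' _ h k
    exact forward G K i B f x hc B' h k
  · intro hAd X' y h
    apply Over.OverMorphism.ext
    apply X'.left.affineCover.hom_ext
    intro j
    exact claimA G K i B f x hAd X' y h _ (X'.left.affineCover.f j)

end Groth.Agent.S8370
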