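import Groth.Statements.S8372
import Groth.Agent.Lib.Helper28.CartanMain2

set_option autoImplicit false
universe u
open scoped TensorProduct
open SGA3t2b

namespace Groth.Agent.S8372

open Groth.Agent.Lib.Helper28.CR in
theorem aux {A : Type u} [CommRing A] {L : Type u} [LieRing L]
    [LieAlgebra A L] [Module.Finite A L] [Module.Projective A L] (a : L) (ha : SGA3t2b.IsQuasiRegular A L a) :
    (∀ H : LieSubalgebra A L, SGA3t2b.IsCartanRel H → a ∈ H → H = LieSubalgebra.engel A a) ∧
    ((∃ H : LieSubalgebra A L, SGA3t2b.IsCartanRel H ∧ a ∈ H) ↔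
      (Module.Projective A (L ⧸ (LieSubalgebra.engel A a).toSubmodule) ∧
        (∀ z : L, ⁅a, z⁆ ∈ LieSubalgebra.engel A a → z ∈ LieSubalgebra.engel A a) ∧
        (∀ y : L, ∃ z : L, ⁅a, z⁆ - y ∈ LieSubalgebra.engel A a))) := by
  have h1 : ∀ H : LieSubalgebra A L, SGA3t2b.IsCartanRel H → a ∈ H → H = LieSubalgebra.engel A a := by
    intro H hH haH
    ext y
    exact eq_engel H hH a haH ha y
  have hinj : ∀ z : L, ⁅a, z⁆ ∈ LieSubalgebra.engel A a → z ∈ LieSubalgebra.engel A a := by
    intro z hz
    rw [LieSubalgebra.mem_engel_iff] at hz ⊢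
    obtain ⟨k, hk⟩ := hz
    refine ⟨k + 1, ?_⟩
    rw [pow_succ, Module.End.mul_apply]
    exact hk
  refine ⟨h1, ?_, ?_⟩
  · rintro ⟨H, hH, haH⟩
    have hHE := h1 H hH haH
    refine ⟨?_, hinj, ?_⟩
    · rw [← hHE]; exact hH.1
    · obtain ⟨N, γ, hc, hN⟩ :=
        exists_fitting_relation a ha (rank_locallyConstant_of_isCartanRel H hH)
      set φ : Module.End A L := LieAlgebra.ad A L a with hφ
      have hidem := fitIdem_isIdempotent φ γ hc N hN
      have hker : (LieSubalgebra.engel A a).toSubmodule = LinearMap.ker (fitIdem φ γ N) := by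
        rw [ker_fitIdem φ γ hc N hN, ← fit_maxGenEigenspace φ γ hc N hN]
        rfl
      intro y
      refine ⟨(φ ^ N * γ ^ (N + 1)) y, ?_⟩
      have he : fitIdem φ γ N = φ * (φ ^ N * γ ^ (N + 1)) := by
        have hc' : Commute γ (γ ^ N) := (Commute.refl γ).pow_right N
        calc fitIdem φ γ N = φ ^ N * γ ^ N := rfl
          _ = (φ ^ (N + 1) * γ) * γ ^ N := by rw [← hN]
          _ = φ ^ (N + 1) * (γ * γ ^ N) := mul_assoc _ _ _
          _ = (φ * φ ^ N) * γ ^ (N + 1) := by rw [pow_succ' φ N, pow_succ' γ N]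
          _ = φ * (φ ^ N * γ ^ (N + 1)) := mul_assoc _ _ _
      have hmem : ⁅a, (φ ^ N * γ ^ (N + 1)) y⁆ - y ∈ LinearMap.ker (fitIdem φ γ N) := by
        have e1 : ⁅a, (φ ^ N * γ ^ (N + 1)) y⁆ = fitIdem φ γ N y := by
          rw [he, Module.End.mul_apply]; rfl
        rw [e1, LinearMap.mem_ker, map_sub, ← Module.End.mul_apply, hidem, sub_self]
      rw [← hker] at hmem
      exact hmem
  · rintro ⟨hproj, hinj', hsurj⟩
    refine ⟨LieSubalgebra.engel A a, ?_, LieSubalgebra.self_mem_engel A a⟩
    exact isCartanRel_engel' a ha hproj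
      (fun p => engel_baseChange_eq_of_bijective a hinj' hsurj p.asIdeal.ResidueField)

/-- Over an affine base Spec A: let L be a Lie algebra over the commutative ring A which is a finitely
generated projective A-module, and a an element of L which is quasi-regular (its image in every
fibre κ(p) ⊗ L is a regular element). Then every Cartan subalgebra of L relative to A (locally a
direct summand, with nilpotent self-normalizing fibres) which contains a is the Engel subalgebra
Nil(a, L) of elements killed by a power of ad(a); and a lies in some relative Cartan subalgebra (a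
is regular) if and only if the quotient module of L by Nil(a, L) is projective and ad(a) induces a
bijection of that quotient (injective and surjective modulo Nil(a, L)). -/
theorem result {A : Type u} [CommRing A] {L : Type u} [LieRing L]
    [LieAlgebra A L] [Module.Finite A L] [Module.Projective A L] (a : L) (ha : SGA3t2b.IsQuasiRegular A L a) :
    (∀ H : LieSubalgebra A L, SGA3t2b.IsCartanRel H → a ∈ H → H = LieSubalgebra.engel A a) ∧
    ((∃ H : LieSubalgebra A L, SGA3t2b.IsCartanRel H ∧ a ∈ H) ↔
      (Module.Projective A (L ⧸ (LieSubalgebra.engel A a).toSubmodule) ∧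
        (∀ z : L, ⁅a, z⁆ ∈ LieSubalgebra.engel A a → z ∈ LieSubalgebra.engel A a) ∧
        (∀ y : L, ∃ z : L, ⁅a, z⁆ - y ∈ LieSubalgebra.engel A a))) := by
  exact aux a ha

end Groth.Agent.S8372
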