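import Groth.Statements.S8373
import Groth.Agent.Lib.Helper28.CartanEngel

set_option autoImplicit false
universe u
open scoped TensorProduct
open SGA3t2b

namespace Groth.Agent.S8373

theorem ad_lieEquiv' {A : Type u} [CommRing A] {L : Type u} [LieRing L]
    [LieAlgebra A L] (e : L ≃ₗ⁅A⁆ L) (x : L) :
    LieAlgebra.ad A L (e x) = e.toLinearEquiv.conj (LieAlgebra.ad A L x) := by
  ext y
  simp only [LieAlgebra.ad_apply, LinearEquiv.conj_apply, LinearMap.comp_apply,
    LinearEquiv.coe_coe, LieEquiv.coe_toLinearEquiv]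
  have : y = e (e.symm y) := (e.apply_symm_apply y).symm
  conv_lhs => rw [this]
  rw [← e.map_lie]
  rfl

open Groth.Agent.Lib.Helper28.CR in
theorem isRegular_equiv_tmul {A : Type u} [CommRing A] {L : Type u} [LieRing L]
    [LieAlgebra A L] [Module.Finite A L] (u : L ≃ₗ⁅A⁆ L) (K : Type u) [Field K] [Algebra A K]
    (a : L) :
    LieAlgebra.IsRegular K ((1 : K) ⊗ₜ[A] (u a)) ↔ LieAlgebra.IsRegular K ((1 : K) ⊗ₜ[A] a) := by
  rw [LieAlgebra.isRegular_def, LieAlgebra.isRegular_def, ad_one_tmul, ad_one_tmul, ad_lieEquiv']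
  have : (u.toLinearEquiv.conj (LieAlgebra.ad A L a)).baseChange K =
      (u.toLinearEquiv.baseChange A K L L).conj ((LieAlgebra.ad A L a).baseChange K) := by
    apply TensorProduct.AlgebraTensorModule.curry_injective
    ext y
    simp [LinearEquiv.conj_apply]
  rw [this, LinearEquiv.charpoly_conj]

open Groth.Agent.Lib.Helper28.CR in
theorem aux {A : Type u} [CommRing A] {L : Type u} [LieRing L]
    [LieAlgebra A L] [Module.Finite A L] [Module.Projective A L]
    (H : LieSubalgebra A L) (hH : SGA3t2b.IsCartanRel H) (a : L) (haH : a ∈ H)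
    (ha : SGA3t2b.IsQuasiRegular A L a) (u : L ≃ₗ⁅A⁆ L) :
    H.map u.toLieHom = H ↔ u a ∈ H := by
  constructor
  · intro h
    rw [← h]
    exact (LieSubalgebra.mem_map _ _ _).mpr ⟨a, haH, rfl⟩
  · intro hua
    have hqr : SGA3t2b.IsQuasiRegular A L (u a) := fun p =>
      (isRegular_equiv_tmul u p.asIdeal.ResidueField a).mpr (ha p)
    have hcomm : (LieAlgebra.ad A L (u a) : L →ₗ[A] L) ∘ₗ (u.toLinearEquiv : L →ₗ[A] L) =
        (u.toLinearEquiv : L →ₗ[A] L) ∘ₗ (LieAlgebra.ad A L a : L →ₗ[A] L) := by
      ext y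
      simp only [LinearMap.comp_apply, LinearEquiv.coe_coe, LieEquiv.coe_toLinearEquiv,
        LieAlgebra.ad_apply]
      exact (u.map_lie a y).symm
    ext y
    rw [LieSubalgebra.mem_map]
    constructor
    · rintro ⟨h, hh, rfl⟩
      rw [eq_engel H hH (u a) hua hqr]
      rw [eq_engel H hH a haH ha, LieSubalgebra.mem_engel_iff] at hh
      obtain ⟨k, hk⟩ := hh
      rw [LieSubalgebra.mem_engel_iff]
      refine ⟨k, ?_⟩
      have := LinearMap.congr_fun (Module.End.commute_pow_left_of_commute hcomm k) h
      simp only [LinearMap.comp_apply, LinearEquiv.coe_coe, LieEquiv.coe_toLinearEquiv] at this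
      change ((LieAlgebra.ad A L (u a)) ^ k) (u h) = 0
      rw [this, hk, map_zero]
    · intro hy
      refine ⟨u.symm y, ?_, u.apply_symm_apply y⟩
      rw [eq_engel H hH (u a) hua hqr, LieSubalgebra.mem_engel_iff] at hy
      obtain ⟨k, hk⟩ := hy
      rw [eq_engel H hH a haH ha, LieSubalgebra.mem_engel_iff]
      refine ⟨k, ?_⟩
      have := LinearMap.congr_fun (Module.End.commute_pow_left_of_commute hcomm k) (u.symm y)
      simp only [LinearMap.comp_apply, LinearEquiv.coe_coe, LieEquiv.coe_toLinearEquiv,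
        LieEquiv.apply_symm_apply] at this
      rw [hk] at this
      have h0 : u (((LieAlgebra.ad A L a) ^ k) (u.symm y)) = u 0 := by
        rw [map_zero]; exact this.symm
      exact u.injective h0

/-- Over an affine base Spec A: let L be a Lie algebra over A which is a finitely generated projective
A-module, H a Cartan subalgebra of L relative to A, a an element of H which is quasi-regular in L,
and u an automorphism of the Lie algebra L over A. Then u(H) = H if and only if u(a) ∈ H. -/
theorem result {A : Type u} [CommRing A] {L : Type u} [LieRing L]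
    [LieAlgebra A L] [Module.Finite A L] [Module.Projective A L]
    (H : LieSubalgebra A L) (hH : SGA3t2b.IsCartanRel H) (a : L) (haH : a ∈ H)
    (ha : SGA3t2b.IsQuasiRegular A L a) (u : L ≃ₗ⁅A⁆ L) :
    H.map u.toLieHom = H ↔ u a ∈ H := by
  exact aux H hH a haH ha u

end Groth.Agent.S8373
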