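import Groth.Statements.S8375
import Groth.Agent.Lib.Helper28.CartanFibre

set_option autoImplicit false
universe u
open scoped TensorProduct
open SGA3t2b

namespace Groth.Agent.S8375

open Groth.Agent.Lib.Helper28.CR in
theorem aux {A : Type u} [CommRing A] {L : Type u} [LieRing L]
    [LieAlgebra A L] [Module.Finite A L] [Module.Projective A L]
    (hC0 : ∀ p : PrimeSpectrum A, ∃ f : A, f ∉ p.asIdeal ∧ ∀ q : PrimeSpectrum A, f ∉ q.asIdeal →
        LieAlgebra.rank q.asIdeal.ResidueField (q.asIdeal.ResidueField ⊗[A] L) =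
          LieAlgebra.rank p.asIdeal.ResidueField (p.asIdeal.ResidueField ⊗[A] L)) (a : L) :
    IsOpen {p : PrimeSpectrum A |
      LieAlgebra.IsRegular p.asIdeal.ResidueField ((1 : p.asIdeal.ResidueField) ⊗ₜ[A] a)} := by
  obtain ⟨n, π, i, -, -, h⟩ := Module.Finite.exists_comp_eq_id_of_projective A L
  rw [isOpen_iff_forall_mem_open]
  intro p hp
  obtain ⟨f₁, hf₁, hr⟩ := hC0 p
  obtain ⟨f₂, hf₂, hd⟩ := exists_basicOpen_finrank_fibre_eq L p
  set m := n - Module.finrank p.asIdeal.ResidueField (p.asIdeal.ResidueField ⊗[A] L) +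
    LieAlgebra.rank p.asIdeal.ResidueField (p.asIdeal.ResidueField ⊗[A] L) with hm
  set c := (Phi i π a).charpoly.coeff m with hc
  have hcp : c ∉ p.asIdeal := by
    have := (isRegular_iff_coeff_Phi i π h p.asIdeal.ResidueField a).mp hp
    rwa [Ne, Ideal.algebraMap_residueField_eq_zero] at this
  refine ⟨PrimeSpectrum.basicOpen (f₁ * f₂ * c), ?_, (PrimeSpectrum.basicOpen _).isOpen, ?_⟩
  · intro q hq
    have hq' : f₁ * f₂ * c ∉ q.asIdeal := hq
    have hq1 : f₁ ∉ q.asIdeal := fun h1 => hq' (Ideal.mul_mem_right _ _ (Ideal.mul_mem_right _ _ h1))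
    have hq2 : f₂ ∉ q.asIdeal := fun h1 => hq' (Ideal.mul_mem_right _ _ (Ideal.mul_mem_left _ _ h1))
    have hq3 : c ∉ q.asIdeal := fun h1 => hq' (Ideal.mul_mem_left _ _ h1)
    change LieAlgebra.IsRegular q.asIdeal.ResidueField ((1 : q.asIdeal.ResidueField) ⊗ₜ[A] a)
    rw [isRegular_iff_coeff_Phi i π h q.asIdeal.ResidueField a, hr q hq1, hd q hq2, Ne,
      Ideal.algebraMap_residueField_eq_zero]
    exact hq3
  · change f₁ * f₂ * c ∉ p.asIdeal
    intro hmem
    rcases (p.isPrime.mem_or_mem hmem) with h12 | h3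
    · rcases (p.isPrime.mem_or_mem h12) with h1 | h2
      · exact hf₁ h1
      · exact hf₂ h2
    · exact hcp h3

/-- Over an affine base Spec A: let L be a Lie algebra over A which is a finitely generated projective
A-module, such that the nilpotent rank of the fibre Lie algebras κ(p) ⊗ L is a locally constant
function of p ∈ Spec A. Then for every a ∈ L the set of primes p at which 1 ⊗ a is a regular element
of κ(p) ⊗ L is open in Spec A. (The published statement is over an arbitrary base and first asserts
that the locus of regular elements in the vector bundle of L is open; this row states its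
consequence for a given section a, over an affine base.) -/
theorem result {A : Type u} [CommRing A] {L : Type u} [LieRing L]
    [LieAlgebra A L] [Module.Finite A L] [Module.Projective A L]
    (hC0 : ∀ p : PrimeSpectrum A, ∃ f : A, f ∉ p.asIdeal ∧ ∀ q : PrimeSpectrum A, f ∉ q.asIdeal →
        LieAlgebra.rank q.asIdeal.ResidueField (q.asIdeal.ResidueField ⊗[A] L) =
          LieAlgebra.rank p.asIdeal.ResidueField (p.asIdeal.ResidueField ⊗[A] L)) (a : L) :
    IsOpen {p : PrimeSpectrum A |
      LieAlgebra.IsRegular p.asIdeal.ResidueField ((1 : p.asIdeal.ResidueField) ⊗ₜ[A] a)} := by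
  exact aux hC0 a

end Groth.Agent.S8375
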