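import Groth.Statements.S8376
import Groth.Agent.Lib.Helper28.CartanLift
import Groth.Agent.S8375

set_option autoImplicit false
universe u
open scoped TensorProduct
open SGA3t2b

namespace Groth.Agent.S8376

open Groth.Agent.Lib.Helper28.CR in
theorem aux {A : Type u} [CommRing A] {L : Type u} [LieRing L]
    [LieAlgebra A L] [Module.Finite A L] [Module.Projective A L]
    (hC2 : ((∀ p : PrimeSpectrum A, ∃ f : A, f ∉ p.asIdeal ∧ ∀ q : PrimeSpectrum A, f ∉ q.asIdeal →
        LieAlgebra.rank q.asIdeal.ResidueField (q.asIdeal.ResidueField ⊗[A] L) =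
          LieAlgebra.rank p.asIdeal.ResidueField (p.asIdeal.ResidueField ⊗[A] L)) ∧
      ∀ (A' : Type u) [CommRing A'] [Algebra A A'] (a' : A' ⊗[A] L),
        SGA3t2b.IsQuasiRegular A' (A' ⊗[A] L) a' → SGA3t2b.IsRegularRel A' (A' ⊗[A] L) a'))
    (p : PrimeSpectrum A)
    (hp : ∃ x : p.asIdeal.ResidueField ⊗[A] L, LieAlgebra.IsRegular p.asIdeal.ResidueField x) :
    ∃ f : A, f ∉ p.asIdeal ∧
      ∃ H : LieSubalgebra (Localization.Away f) (Localization.Away f ⊗[A] L), SGA3t2b.IsCartanRel H := by
  obtain ⟨x, hx⟩ := hp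
  obtain ⟨t, htp, a, hta⟩ := exists_smul_eq_one_tmul L p.asIdeal x
  have hreg : LieAlgebra.IsRegular p.asIdeal.ResidueField
      ((1 : p.asIdeal.ResidueField) ⊗ₜ[A] a) := by
    rw [hta, ← algebraMap_smul p.asIdeal.ResidueField t x, isRegular_smul _ _]
    · exact hx
    · rwa [Ne, Ideal.algebraMap_residueField_eq_zero]
  have hopen := Groth.Agent.S8375.result hC2.1 a
  obtain ⟨U, ⟨f, rfl⟩, hpU, hU⟩ :=
    PrimeSpectrum.isTopologicalBasis_basic_opens.exists_subset_of_mem_open
      (show p ∈ {p : PrimeSpectrum A | LieAlgebra.IsRegular p.asIdeal.ResidueField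
        ((1 : p.asIdeal.ResidueField) ⊗ₜ[A] a)} from hreg) hopen
  refine ⟨f, hpU, ?_⟩
  have hq : SGA3t2b.IsQuasiRegular (Localization.Away f) (Localization.Away f ⊗[A] L)
      ((1 : Localization.Away f) ⊗ₜ[A] a) := by
    intro p'
    have hmem : PrimeSpectrum.comap (algebraMap A (Localization.Away f)) p' ∈
        (PrimeSpectrum.basicOpen f : Set (PrimeSpectrum A)) := by
      change f ∉ (PrimeSpectrum.comap (algebraMap A (Localization.Away f)) p').asIdeal
      intro hf
      have hu : IsUnit (algebraMap A (Localization.Away f) f) :=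
        IsLocalization.Away.algebraMap_isUnit f
      exact p'.isPrime.ne_top (Ideal.eq_top_of_isUnit_mem _ hf hu)
    have hreg_q := hU hmem
    exact (isRegular_fibre_baseChange (Localization.Away f) p'.asIdeal
      (PrimeSpectrum.comap (algebraMap A (Localization.Away f)) p').asIdeal rfl a).mpr hreg_q
  obtain ⟨_, H, hH, _⟩ := hC2.2 (Localization.Away f) ((1 : Localization.Away f) ⊗ₜ[A] a) hq
  exact ⟨H, hH⟩

/-- Over an affine base Spec A: let L be a Lie algebra over A which is a finitely generated projective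
A-module satisfying condition (C₂): the nilpotent rank of the fibres κ(p) ⊗ L is locally constant on
Spec A and, for every A-algebra A', every quasi-regular element of A' ⊗ L is regular (lies in a
relative Cartan subalgebra). Then for every prime p such that κ(p) ⊗ L has a regular element
(automatic when κ(p) is infinite) there is f ∉ p such that the Lie algebra A_f ⊗ L over the
localisation A_f has a Cartan subalgebra relative to A_f. -/
theorem result {A : Type u} [CommRing A] {L : Type u} [LieRing L]
    [LieAlgebra A L] [Module.Finite A L] [Module.Projective A L]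
    (hC2 : ((∀ p : PrimeSpectrum A, ∃ f : A, f ∉ p.asIdeal ∧ ∀ q : PrimeSpectrum A, f ∉ q.asIdeal →
        LieAlgebra.rank q.asIdeal.ResidueField (q.asIdeal.ResidueField ⊗[A] L) =
          LieAlgebra.rank p.asIdeal.ResidueField (p.asIdeal.ResidueField ⊗[A] L)) ∧
      ∀ (A' : Type u) [CommRing A'] [Algebra A A'] (a' : A' ⊗[A] L),
        SGA3t2b.IsQuasiRegular A' (A' ⊗[A] L) a' → SGA3t2b.IsRegularRel A' (A' ⊗[A] L) a'))
    (p : PrimeSpectrum A)
    (hp : ∃ x : p.asIdeal.ResidueField ⊗[A] L, LieAlgebra.IsRegular p.asIdeal.ResidueField x) :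
    ∃ f : A, f ∉ p.asIdeal ∧
      ∃ H : LieSubalgebra (Localization.Away f) (Localization.Away f ⊗[A] L), SGA3t2b.IsCartanRel H := by
  exact aux hC2 p hp

end Groth.Agent.S8376
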