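import Groth.Statements.S8377
import Groth.Agent.Lib.Helper28.CartanCover
import Groth.Agent.S8375
import Groth.Agent.S8379

set_option autoImplicit false
universe u
open scoped TensorProduct
open SGA3t2b

namespace Groth.Agent.S8377

open Groth.Agent.Lib.Helper28.CR in
theorem aux {A : Type u} [CommRing A] {L : Type u} [LieRing L]
    [LieAlgebra A L] [Module.Finite A L] [Module.Projective A L]
    (hC0 : ∀ p : PrimeSpectrum A, ∃ f : A, f ∉ p.asIdeal ∧ ∀ q : PrimeSpectrum A, f ∉ q.asIdeal →
        LieAlgebra.rank q.asIdeal.ResidueField (q.asIdeal.ResidueField ⊗[A] L) =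
          LieAlgebra.rank p.asIdeal.ResidueField (p.asIdeal.ResidueField ⊗[A] L))
    (hreg : ∀ p : PrimeSpectrum A, ∃ x : p.asIdeal.ResidueField ⊗[A] L, LieAlgebra.IsRegular p.asIdeal.ResidueField x) :
    ∃ (A' : Type u) (_ : CommRing A') (_ : Algebra A A'), Algebra.Etale A A' ∧ Module.FaithfullyFlat A A' ∧
        ∃ H : LieSubalgebra A' (A' ⊗[A] L), SGA3t2b.IsCartanRel H := by
  classical
  -- local sections regular on a basic open
  have hloc : ∀ p : PrimeSpectrum A, ∃ f : A, f ∉ p.asIdeal ∧ ∃ a : L,
      ∀ q : PrimeSpectrum A, f ∉ q.asIdeal →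
        LieAlgebra.IsRegular q.asIdeal.ResidueField ((1 : q.asIdeal.ResidueField) ⊗ₜ[A] a) := by
    intro p
    obtain ⟨x, hx⟩ := hreg p
    obtain ⟨t, htp, a, hta⟩ := exists_smul_eq_one_tmul L p.asIdeal x
    have hrega : LieAlgebra.IsRegular p.asIdeal.ResidueField
        ((1 : p.asIdeal.ResidueField) ⊗ₜ[A] a) := by
      rw [hta, ← algebraMap_smul p.asIdeal.ResidueField t x, isRegular_smul _ _]
      · exact hx
      · rwa [Ne, Ideal.algebraMap_residueField_eq_zero]
    have hopen := Groth.Agent.S8375.result hC0 a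
    obtain ⟨U, ⟨f, rfl⟩, hpU, hU⟩ :=
      PrimeSpectrum.isTopologicalBasis_basic_opens.exists_subset_of_mem_open
        (show p ∈ {p : PrimeSpectrum A | LieAlgebra.IsRegular p.asIdeal.ResidueField
          ((1 : p.asIdeal.ResidueField) ⊗ₜ[A] a)} from hrega) hopen
    exact ⟨f, hpU, a, fun q hq =>
      hU (show q ∈ (PrimeSpectrum.basicOpen f : Set (PrimeSpectrum A)) from hq)⟩
  set S : Set A := {f | ∃ a : L, ∀ q : PrimeSpectrum A, f ∉ q.asIdeal →
    LieAlgebra.IsRegular q.asIdeal.ResidueField ((1 : q.asIdeal.ResidueField) ⊗ₜ[A] a)} with hS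
  have hspan : Ideal.span S = ⊤ := by
    by_contra hne
    obtain ⟨M, hM, hle⟩ := Ideal.exists_le_maximal _ hne
    obtain ⟨f, hf, a, ha⟩ := hloc ⟨M, hM.isPrime⟩
    exact hf (hle (Ideal.subset_span ⟨a, ha⟩))
  obtain ⟨s', hs'S, hs'span⟩ := (Ideal.span_eq_top_iff_finite S).mp hspan
  let ι : Type u := {x : A // x ∈ s'}
  let f : ι → A := fun i => i.1
  have hex : ∀ i : ι, ∃ a : L, ∀ q : PrimeSpectrum A, f i ∉ q.asIdeal →
      LieAlgebra.IsRegular q.asIdeal.ResidueField ((1 : q.asIdeal.ResidueField) ⊗ₜ[A] a) :=
    fun i => hs'S i.2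
  choose a ha using hex
  have hfspan : Ideal.span (Set.range f) = ⊤ := by
    have : Set.range f = (s' : Set A) := Subtype.range_coe
    rw [this, hs'span]
  refine ⟨∀ i : ι, Localization.Away (f i), inferInstance, inferInstance, inferInstance,
    zcov_faithfullyFlat f hfspan, ?_⟩
  have hq := isQuasiRegular_cover f a ha
  exact ⟨LieSubalgebra.engel _ _, isCartanRel_engel _ hq
    (Groth.Agent.S8379.C0_baseChange hC0 (∀ i : ι, Localization.Away (f i)))⟩

/-- Let L be a Lie algebra over the commutative ring A which is a finitely generated projective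
A-module. Suppose that the nilpotent rank of the fibres κ(p) ⊗ L is locally constant on Spec A, that
for every A-algebra A' every quasi-regular element of A' ⊗ L is regular (condition (C₂)), and that
every fibre κ(p) ⊗ L has a regular element (automatic when every residue field of A is infinite).
Then L acquires a relative Cartan subalgebra after a faithfully flat etale base change A → A'
(condition (C′₁)). (The published implication (C₂) ⇒ (C′₁) is over an arbitrary base and has no
hypothesis on regular elements of the fibres; this row is over an affine base and assumes every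
fibre has a regular element, the case in which the published argument, through the existence of a
Cartan subalgebra Zariski-locally near each such point, is complete.) -/
theorem result {A : Type u} [CommRing A] {L : Type u} [LieRing L]
    [LieAlgebra A L] [Module.Finite A L] [Module.Projective A L]
    (hC2 : ((∀ p : PrimeSpectrum A, ∃ f : A, f ∉ p.asIdeal ∧ ∀ q : PrimeSpectrum A, f ∉ q.asIdeal →
        LieAlgebra.rank q.asIdeal.ResidueField (q.asIdeal.ResidueField ⊗[A] L) =
          LieAlgebra.rank p.asIdeal.ResidueField (p.asIdeal.ResidueField ⊗[A] L)) ∧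
      ∀ (A' : Type u) [CommRing A'] [Algebra A A'] (a' : A' ⊗[A] L),
        SGA3t2b.IsQuasiRegular A' (A' ⊗[A] L) a' → SGA3t2b.IsRegularRel A' (A' ⊗[A] L) a'))
    (hreg : ∀ p : PrimeSpectrum A, ∃ x : p.asIdeal.ResidueField ⊗[A] L, LieAlgebra.IsRegular p.asIdeal.ResidueField x) :
    ∃ (A' : Type u) (_ : CommRing A') (_ : Algebra A A'), Algebra.Etale A A' ∧ Module.FaithfullyFlat A A' ∧
        ∃ H : LieSubalgebra A' (A' ⊗[A] L), SGA3t2b.IsCartanRel H := by
  exact aux hC2.1 hreg

end Groth.Agent.S8377
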