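import Groth.Statements.S8378
import Groth.Agent.Lib.Helper28.CartanSummand

set_option autoImplicit false
universe u
open scoped TensorProduct
open SGA3t2b

namespace Groth.Agent.S8378

open Groth.Agent.Lib.Helper28.CR in
theorem aux {A : Type u} [CommRing A] {L : Type u} [LieRing L]
    [LieAlgebra A L] [Module.Finite A L] [Module.Projective A L]
    (hC1 : ∃ (A' : Type u) (_ : CommRing A') (_ : Algebra A A'), Module.FaithfullyFlat A A' ∧
        ∃ H : LieSubalgebra A' (A' ⊗[A] L), SGA3t2b.IsCartanRel H) :
    ∀ p : PrimeSpectrum A, ∃ f : A, f ∉ p.asIdeal ∧ ∀ q : PrimeSpectrum A, f ∉ q.asIdeal →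
        LieAlgebra.rank q.asIdeal.ResidueField (q.asIdeal.ResidueField ⊗[A] L) =
          LieAlgebra.rank p.asIdeal.ResidueField (p.asIdeal.ResidueField ⊗[A] L) := by
  obtain ⟨A', _, _, hff, H, hH⟩ := hC1
  set r : PrimeSpectrum A → ℕ := fun q =>
    LieAlgebra.rank q.asIdeal.ResidueField (q.asIdeal.ResidueField ⊗[A] L) with hr
  have hquot : Topology.IsQuotientMap (PrimeSpectrum.comap (algebraMap A A')) :=
    PrimeSpectrum.isQuotientMap_of_generalizingMap
      PrimeSpectrum.comap_surjective_of_faithfullyFlat
      (RingHom.Flat.generalizingMap_comap (f := algebraMap A A')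
        (by rw [RingHom.flat_algebraMap_iff]; infer_instance))
  haveI : Module.Projective A' ((A' ⊗[A] L) ⧸ H.toSubmodule) := hH.1
  haveI := finite_of_projective_quotient H.toSubmodule
  haveI := projective_of_projective_quotient H.toSubmodule
  haveI := Module.finitePresentation_of_projective A' H.toSubmodule
  have hcomp : ∀ p' : PrimeSpectrum A', r (PrimeSpectrum.comap (algebraMap A A') p') =
      Module.rankAtStalk (R := A') H.toSubmodule p' := by
    intro p'
    rw [← finrank_baseChange_residueField H.toSubmodule p']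
    have h3 := (hH.2 p').2.2
    unfold SGA3t2b.fibreSubmodule at h3
    rw [h3]
    exact (rank_fibre_baseChange L A' p'.asIdeal
      (PrimeSpectrum.comap (algebraMap A A') p').asIdeal rfl).symm
  have hlc : IsLocallyConstant r := by
    rw [IsLocallyConstant.iff_isOpen_fiber]
    intro c
    rw [← hquot.isOpen_preimage]
    have : (PrimeSpectrum.comap (algebraMap A A')) ⁻¹' (r ⁻¹' {c}) =
        {p' | Module.rankAtStalk (R := A') H.toSubmodule p' = c} := by
      ext p'
      simp only [Set.mem_preimage, Set.mem_singleton_iff, Set.mem_ofPred_eq]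
      rw [hcomp]
    rw [this]
    exact (Module.isLocallyConstant_rankAtStalk (R := A') (M := H.toSubmodule)).isOpen_fiber c
  intro p
  have hopen : IsOpen {q : PrimeSpectrum A | r q = r p} := hlc.isOpen_fiber _
  obtain ⟨U, ⟨f, rfl⟩, hpU, hU⟩ :=
    PrimeSpectrum.isTopologicalBasis_basic_opens.exists_subset_of_mem_open
      (show p ∈ {q : PrimeSpectrum A | r q = r p} from rfl) hopen
  exact ⟨f, hpU, fun q hq => hU (show q ∈ (PrimeSpectrum.basicOpen f : Set (PrimeSpectrum A)) from hq)⟩

/-- Over an affine base Spec A: let L be a Lie algebra over A which is a finitely generated projective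
A-module. If for some faithfully flat A-algebra A' the Lie algebra A' ⊗ L has a Cartan subalgebra
relative to A' (condition (C₁)), then the nilpotent rank of the fibres κ(p) ⊗ L is a locally
constant function of p ∈ Spec A (condition (C₀)). -/
theorem result {A : Type u} [CommRing A] {L : Type u} [LieRing L]
    [LieAlgebra A L] [Module.Finite A L] [Module.Projective A L]
    (hC1 : ∃ (A' : Type u) (_ : CommRing A') (_ : Algebra A A'), Module.FaithfullyFlat A A' ∧
        ∃ H : LieSubalgebra A' (A' ⊗[A] L), SGA3t2b.IsCartanRel H) :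
    ∀ p : PrimeSpectrum A, ∃ f : A, f ∉ p.asIdeal ∧ ∀ q : PrimeSpectrum A, f ∉ q.asIdeal →
        LieAlgebra.rank q.asIdeal.ResidueField (q.asIdeal.ResidueField ⊗[A] L) =
          LieAlgebra.rank p.asIdeal.ResidueField (p.asIdeal.ResidueField ⊗[A] L) := by
  exact aux hC1

end Groth.Agent.S8378
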