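import Groth.Statements.S8383
import Mathlib.LinearAlgebra.Matrix.ToLinearEquiv
import Mathlib.LinearAlgebra.Matrix.NonsingularInverse
import Mathlib.LinearAlgebra.FreeModule.Basic
import Mathlib.LinearAlgebra.Dimension.Constructions
import Mathlib.LinearAlgebra.Dual.Lemmas
import Mathlib.RingTheory.TensorProduct.Free
-- import your own Groth.Agent.* helpers here

set_option autoImplicit false
universe u
open scoped TensorProduct
open SGA3t2b

namespace Groth.Agent.S8383

section helper

open Matrix in
/-- Independent transversal: for an invertible matrix over an extension `K` of `k`, there is a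
`k`-rational vector all of whose images' coordinates are nonzero. -/
lemma exists_vec (k K : Type u) [Field k] [Field K] [Algebra k K] {ι : Type} [Fintype ι]
    [DecidableEq ι] (N : Matrix ι ι K) (hN : N.det ≠ 0) :
    ∃ x : ι → k, ∀ i, ∑ j, algebraMap k K (x j) * N i j ≠ 0 := by
  classical
  let E := Module.Free.chooseBasis k K
  let T : Finset (Module.Free.ChooseBasisIndex k K) :=
    Finset.univ.biUnion (fun p : ι × ι => (E.repr (N p.1 p.2)).support)
  let c : ι → ι → Module.Free.ChooseBasisIndex k K → k := fun i j l => E.repr (N i j) l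
  have hdecomp : ∀ i j, N i j = ∑ l ∈ T, c i j l • E l := by
    intro i j
    conv_lhs => rw [← E.linearCombination_repr (N i j), Finsupp.linearCombination_apply]
    apply Finsupp.sum_of_support_subset
    · intro l hl
      exact Finset.mem_biUnion.2 ⟨(i, j), Finset.mem_univ _, hl⟩
    · intro l _
      exact zero_smul _ _
  let ρ : ι → Module.Free.ChooseBasisIndex k K → ι → K := fun i l j => algebraMap k K (c i j l)
  have hrow : N = fun i => ∑ l ∈ T, E l • ρ i l := by
    funext i j
    rw [hdecomp i j, Finset.sum_apply]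
    apply Finset.sum_congr rfl
    intro l _
    simp only [ρ, Pi.smul_apply, smul_eq_mul, Algebra.smul_def]
    ring
  have hdet : N.det = ∑ r ∈ Fintype.piFinset (fun _ : ι => T),
      (∏ i, E (r i)) • Matrix.det (fun i => ρ i (r i)) := by
    conv_lhs => rw [hrow]
    change Matrix.detRowAlternating.toMultilinearMap (fun i => ∑ l ∈ T, E l • ρ i l) = _
    rw [MultilinearMap.map_sum_finset]
    apply Finset.sum_congr rfl
    intro r _
    exact MultilinearMap.map_smul_univ _ (fun i => E (r i)) (fun i => ρ i (r i))
  obtain ⟨r, hrT, hr⟩ : ∃ r ∈ Fintype.piFinset (fun _ : ι => T),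
      Matrix.det (fun i => ρ i (r i)) ≠ 0 := by
    by_contra hcon
    push Not at hcon
    apply hN
    rw [hdet]
    apply Finset.sum_eq_zero
    intro r hr
    rw [hcon r hr, smul_zero]
  let B : Matrix ι ι k := fun i j => c i j (r i)
  have hB : (algebraMap k K).mapMatrix B = fun i => ρ i (r i) := by
    funext i j
    rfl
  have hBdet : B.det ≠ 0 := by
    intro h0
    apply hr
    rw [← hB, ← RingHom.map_det, h0, map_zero]
  have hBunit : IsUnit B.det := isUnit_iff_ne_zero.2 hBdet
  refine ⟨B⁻¹ *ᵥ (fun _ => 1), fun i => ?_⟩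
  have hBx : B *ᵥ (B⁻¹ *ᵥ (fun _ => (1 : k))) = fun _ => 1 := by
    rw [Matrix.mulVec_mulVec, Matrix.mul_nonsing_inv B hBunit, Matrix.one_mulVec]
  set x := B⁻¹ *ᵥ (fun _ => (1 : k)) with hx
  have hsum : ∑ j, algebraMap k K (x j) * N i j = ∑ l ∈ T, (∑ j, x j * c i j l) • E l := by
    simp_rw [hdecomp i, Finset.mul_sum, Finset.sum_smul]
    rw [Finset.sum_comm]
    apply Finset.sum_congr rfl
    intro l _
    apply Finset.sum_congr rfl
    intro j _
    rw [Algebra.smul_def, Algebra.smul_def, map_mul]
    ring
  rw [hsum]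
  intro h0
  have h1 := congrArg (fun z => E.repr z (r i)) h0
  simp only [map_sum, map_smul, Module.Basis.repr_self, Finsupp.coe_finsetSum, Finsupp.coe_smul,
    Finset.sum_apply, Pi.smul_apply, Finsupp.single_apply, smul_eq_mul, mul_ite, mul_one,
    mul_zero, map_zero, Finsupp.coe_zero, Pi.zero_apply] at h1
  rw [Finset.sum_ite_eq' T (r i)] at h1
  have hri : r i ∈ T := (Fintype.mem_piFinset.1 hrT) i
  rw [if_pos hri] at h1
  have h2 : (B *ᵥ x) i = 1 := congrFun hBx i
  rw [Matrix.mulVec, dotProduct] at h2
  have h3 : ∑ j, x j * c i j (r i) = 1 := by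
    rw [← h2]
    apply Finset.sum_congr rfl
    intro j _
    exact mul_comm _ _
  rw [h3] at h1
  exact one_ne_zero h1

end helper

/-- Let k be a finite field with algebraic closure K, V a finite-dimensional vector space over k, and
θ₁, …, θₙ a basis of the dual of the K-vector space K ⊗ V. Then there is x ∈ V with θᵢ(1 ⊗ x) ≠ 0
for every i. -/
theorem result (k : Type u) [Field k] [Finite k]
    (V : Type u) [AddCommGroup V] [Module k V] [Module.Finite k V] {ι : Type} [Fintype ι]
    (θ : Module.Basis ι (AlgebraicClosure k) (Module.Dual (AlgebraicClosure k) (AlgebraicClosure k ⊗[k] V))) :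
    ∃ x : V, ∀ i : ι, θ i ((1 : AlgebraicClosure k) ⊗ₜ[k] x) ≠ 0 := by
  classical
  have hcard : Module.finrank k V = Fintype.card ι := by
    rw [← Module.finrank_eq_card_basis θ, Subspace.dual_finrank_eq, Module.finrank_baseChange]
  let b : Module.Basis ι k V :=
    (Module.finBasisOfFinrankEq k V hcard).reindex (Fintype.equivFin ι).symm
  let bK : Module.Basis ι (AlgebraicClosure k) (AlgebraicClosure k ⊗[k] V) :=
    Algebra.TensorProduct.basis (AlgebraicClosure k) b
  have hbK : ∀ j, bK j = (1 : AlgebraicClosure k) ⊗ₜ[k] b j :=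
    fun j => Algebra.TensorProduct.basis_apply _ _
  let N : Matrix ι ι (AlgebraicClosure k) := fun i j => θ i (bK j)
  have hN : N.det ≠ 0 := by
    intro h0
    obtain ⟨v, hv, hvN⟩ := Matrix.exists_vecMul_eq_zero_iff.2 h0
    apply hv
    have hsum : ∑ i, v i • θ i = 0 := by
      apply bK.ext
      intro j
      have h1 := congrFun hvN j
      simp only [Matrix.vecMul, dotProduct, Pi.zero_apply] at h1
      simp only [LinearMap.coe_sum, Finset.sum_apply, LinearMap.smul_apply, smul_eq_mul,
        LinearMap.zero_apply]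
      exact h1
    have h2 := Fintype.linearIndependent_iff.1 θ.linearIndependent v hsum
    funext i
    exact h2 i
  obtain ⟨x, hx⟩ := exists_vec k (AlgebraicClosure k) N hN
  refine ⟨∑ j, x j • b j, fun i => ?_⟩
  have key : θ i ((1 : AlgebraicClosure k) ⊗ₜ[k] (∑ j, x j • b j)) =
      ∑ j, algebraMap k (AlgebraicClosure k) (x j) * N i j := by
    rw [TensorProduct.tmul_sum, map_sum]
    apply Finset.sum_congr rfl
    intro j _
    rw [TensorProduct.tmul_smul, ← hbK, LinearMap.map_smul_of_tower, Algebra.smul_def]
  rw [key]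
  exact hx i

end Groth.Agent.S8383
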