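import Groth.Statements.S8384
import Mathlib

set_option autoImplicit false
universe u
open CategoryTheory MonoidalCategory CartesianMonoidalCategory MonObj GrpObj AlgebraicGeometry
open SGA3x

namespace Groth.Agent.S8384

lemma fac {X : Scheme.{u}} {U : X.Opens} (hU : IsAffineOpen U) {C : CommRingCat.{u}}
    (k : Spec C ⟶ X) (hk : ∀ t, k t ∈ U) :
    ∃ κ : Γ(X, U) ⟶ C, Spec.map κ ≫ hU.fromSpec = k := by
  have hr : Set.range k ⊆ Set.range hU.fromSpec := by
    rw [hU.range_fromSpec]; rintro _ ⟨t, rfl⟩; exact hk t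
  refine ⟨Spec.preimage (IsOpenImmersion.lift hU.fromSpec k hr), ?_⟩
  rw [Spec.map_preimage, IsOpenImmersion.lift_fac]

lemma ring_eq_of_fromSpec {X : Scheme.{u}} {U : X.Opens} (hU : IsAffineOpen U) {C : CommRingCat.{u}}
    (κ κ' : Γ(X, U) ⟶ C) (h : Spec.map κ ≫ hU.fromSpec = Spec.map κ' ≫ hU.fromSpec) : κ = κ' :=
  Spec.map_injective ((cancel_mono _).mp h)

section
variable (A : Type u) [CommRing A] [IsLocalRing A]

/-- the closed immersion `Spec (A/𝔪^n) ⟶ Spec A` -/
noncomputable abbrev qn (n : ℕ) :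
    Spec (CommRingCat.of (A ⧸ (IsLocalRing.maximalIdeal A) ^ n)) ⟶ Spec (CommRingCat.of A) :=
  Spec.map (CommRingCat.ofHom (Ideal.Quotient.mk ((IsLocalRing.maximalIdeal A) ^ n)))

/-- every point of `Spec (A/𝔪^n)` lies over the closed point -/
lemma qn_apply (n : ℕ) (t : Spec (CommRingCat.of (A ⧸ (IsLocalRing.maximalIdeal A) ^ n))) :
    qn A n t = IsLocalRing.closedPoint A := by
  apply PrimeSpectrum.ext
  show Ideal.comap (Ideal.Quotient.mk ((IsLocalRing.maximalIdeal A) ^ n)) t.asIdeal =
    IsLocalRing.maximalIdeal A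
  have hp : (Ideal.comap (Ideal.Quotient.mk ((IsLocalRing.maximalIdeal A) ^ n)) t.asIdeal).IsPrime := by
    have : t.asIdeal.IsPrime := t.isPrime
    exact Ideal.comap_isPrime _ _
  apply le_antisymm
  · exact IsLocalRing.le_maximalIdeal hp.ne_top
  · have h1 : (IsLocalRing.maximalIdeal A) ^ n ≤
        Ideal.comap (Ideal.Quotient.mk ((IsLocalRing.maximalIdeal A) ^ n)) t.asIdeal := by
      intro a ha
      rw [Ideal.mem_comap, Ideal.Quotient.eq_zero_iff_mem.mpr ha]
      exact Ideal.zero_mem _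
    exact hp.le_of_pow_le h1

lemma qn_injective (n : ℕ) : Function.Injective (qn A n) := by
  intro t t' h
  exact PrimeSpectrum.comap_injective_of_surjective _ Ideal.Quotient.mk_surjective h

lemma subsingleton_Spec (n : ℕ) :
    Subsingleton (Spec (CommRingCat.of (A ⧸ (IsLocalRing.maximalIdeal A) ^ n))) :=
  ⟨fun t t' => qn_injective A n (by rw [qn_apply, qn_apply])⟩

lemma nonempty_Spec (n : ℕ) :
    Nonempty (Spec (CommRingCat.of (A ⧸ (IsLocalRing.maximalIdeal A) ^ (n + 1)))) := by
  have hne : (IsLocalRing.maximalIdeal A) ^ (n + 1) ≠ ⊤ := by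
    intro h
    have h1 : (IsLocalRing.maximalIdeal A) ^ (n + 1) ≤ IsLocalRing.maximalIdeal A :=
      Ideal.pow_le_self (Nat.succ_ne_zero n)
    rw [h] at h1
    exact (IsLocalRing.maximalIdeal.isMaximal A).ne_top (top_le_iff.mp h1)
  have : Nontrivial (A ⧸ (IsLocalRing.maximalIdeal A) ^ (n + 1)) := Ideal.Quotient.nontrivial_iff.mpr hne
  exact (inferInstance : Nonempty (PrimeSpectrum (A ⧸ (IsLocalRing.maximalIdeal A) ^ (n + 1))))

/-- an open of `Spec A` containing the closed point is everything -/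
lemma mem_of_closedPoint_mem (V : (Spec (CommRingCat.of A)).Opens)
    (h : (IsLocalRing.closedPoint A : Spec (CommRingCat.of A)) ∈ V)
    (t : Spec (CommRingCat.of A)) : t ∈ V :=
  (IsLocalRing.specializes_closedPoint (R := A) t).mem_open V.2 h

end

theorem main_aux (A : Type u) [CommRing A] [IsLocalRing A]
    [IsAdicComplete (IsLocalRing.maximalIdeal A) A] (X : Scheme.{u}) :
    (∀ f g : (Spec (CommRingCat.of A)) ⟶ X,
      (∀ n : ℕ, (Spec.map (CommRingCat.ofHom (Ideal.Quotient.mk ((IsLocalRing.maximalIdeal A) ^ n)))) ≫ f = (Spec.map (CommRingCat.ofHom (Ideal.Quotient.mk ((IsLocalRing.maximalIdeal A) ^ n)))) ≫ g) → f = g) ∧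
    (∀ u : (n : ℕ) → (Spec (CommRingCat.of (A ⧸ (IsLocalRing.maximalIdeal A) ^ n)) ⟶ X),
      (∀ n : ℕ, (Spec.map (CommRingCat.ofHom (Ideal.Quotient.factor
          (Ideal.pow_le_pow_right (I := (IsLocalRing.maximalIdeal A)) (Nat.le_succ n))))) ≫ u (n + 1) = u n) →
      ∃ f : (Spec (CommRingCat.of A)) ⟶ X, ∀ n : ℕ, (Spec.map (CommRingCat.ofHom (Ideal.Quotient.mk ((IsLocalRing.maximalIdeal A) ^ n)))) ≫ f = u n) := by
  constructor
  · intro f g h
    obtain ⟨t₁⟩ := nonempty_Spec A 0
    have hx : f (IsLocalRing.closedPoint A) = g (IsLocalRing.closedPoint A) := by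
      have h1 := congrArg (fun k => k t₁) (h (0 + 1))
      simp only [Scheme.Hom.comp_apply] at h1
      rw [qn_apply A (0 + 1) t₁] at h1
      exact h1
    obtain ⟨_, ⟨U, hU : IsAffineOpen U, rfl⟩, hxU, -⟩ :=
      X.isBasis_affineOpens.exists_subset_of_mem_open
        (Set.mem_univ (f (IsLocalRing.closedPoint A))) isOpen_univ
    have hfU : ∀ t, f t ∈ U := fun t =>
      mem_of_closedPoint_mem A (f ⁻¹ᵁ U) hxU t
    have hgU : ∀ t, g t ∈ U := fun t =>
      mem_of_closedPoint_mem A (g ⁻¹ᵁ U) (by show g _ ∈ U; rw [← hx]; exact hxU) t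
    obtain ⟨φ, hφ⟩ := fac hU f hfU
    obtain ⟨ψ, hψ⟩ := fac hU g hgU
    have key : ∀ n, φ ≫ CommRingCat.ofHom (Ideal.Quotient.mk ((IsLocalRing.maximalIdeal A) ^ n)) =
        ψ ≫ CommRingCat.ofHom (Ideal.Quotient.mk ((IsLocalRing.maximalIdeal A) ^ n)) := by
      intro n
      apply ring_eq_of_fromSpec hU
      rw [Spec.map_comp, Spec.map_comp, Category.assoc, Category.assoc, hφ, hψ]
      exact h n
    have hφψ : φ = ψ := by
      ext b
      rw [← sub_eq_zero]
      apply IsHausdorff.haus' (I := IsLocalRing.maximalIdeal A)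
      intro n
      rw [SModEq.zero, smul_eq_mul, Ideal.mul_top]
      have h1 := congrArg (fun k => k.hom b) (key n)
      simp only [CommRingCat.hom_comp, CommRingCat.hom_ofHom, RingHom.comp_apply] at h1
      rw [← Ideal.Quotient.eq]
      exact h1
    rw [← hφ, ← hψ, hφψ]
  · intro u hu
    obtain ⟨t₁⟩ := nonempty_Spec A 0
    obtain ⟨_, ⟨U, hU : IsAffineOpen U, rfl⟩, hxU, -⟩ :=
      X.isBasis_affineOpens.exists_subset_of_mem_open
        (Set.mem_univ (u (0 + 1) t₁)) isOpen_univ
    have hP : ∀ n, ∀ t, u n t ∈ U := by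
      intro n
      induction n using Nat.twoStepInduction with
      | zero =>
        intro t
        exfalso
        have h0 : (IsLocalRing.maximalIdeal A) ^ 0 = ⊤ := by rw [pow_zero, Ideal.one_eq_top]
        have : Subsingleton (A ⧸ (IsLocalRing.maximalIdeal A) ^ 0) :=
          Ideal.Quotient.subsingleton_iff.mpr h0
        exact (PrimeSpectrum.instIsEmptyOfSubsingleton : IsEmpty (PrimeSpectrum (A ⧸ (IsLocalRing.maximalIdeal A) ^ 0))).false t
      | one =>
        intro t
        have := subsingleton_Spec A (0 + 1)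
        rw [Subsingleton.elim t t₁]
        exact hxU
      | more n _ ih =>
        intro t
        obtain ⟨t'⟩ := nonempty_Spec A n
        have := subsingleton_Spec A (n + 1 + 1)
        have h1 := congrArg (fun k => k t') (hu (n + 1))
        simp only [Scheme.Hom.comp_apply] at h1
        rw [Subsingleton.elim t _, h1]
        exact ih t'
    choose κ hκ using fun n => fac hU (u n) (hP n)
    have hsucc : ∀ n, κ (n + 1) ≫ CommRingCat.ofHom (Ideal.Quotient.factor
          (Ideal.pow_le_pow_right (I := (IsLocalRing.maximalIdeal A)) (Nat.le_succ n))) = κ n := by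
      intro n
      apply ring_eq_of_fromSpec hU
      rw [Spec.map_comp, Category.assoc, hκ, hκ]
      exact hu n
    have hf : ∀ {m n : ℕ} (hle : m ≤ n),
        (Ideal.Quotient.factorPow (IsLocalRing.maximalIdeal A) hle).comp (κ n).hom = (κ m).hom := by
      intro m n hle
      induction n, hle using Nat.le_induction with
      | base =>
        ext b
        simp
      | succ n hmn ih =>
        rw [← ih]
        have h1 := congrArg (fun k => k.hom) (hsucc n)
        simp only [CommRingCat.hom_comp, CommRingCat.hom_ofHom] at h1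
        rw [← h1, ← RingHom.comp_assoc]
        congr 1
        apply Ideal.Quotient.ringHom_ext
        ext a
        simp
    let φ : Γ(X, U) →+* A :=
      IsAdicComplete.liftRingHom (IsLocalRing.maximalIdeal A) (fun n => (κ n).hom) hf
    refine ⟨Spec.map (CommRingCat.ofHom φ) ≫ hU.fromSpec, fun n => ?_⟩
    rw [← Category.assoc, ← Spec.map_comp, ← hκ n]
    congr 2
    ext b
    exact IsAdicComplete.mk_liftRingHom (IsLocalRing.maximalIdeal A) (fun n => (κ n).hom) hf n b

/-- Let A be a local ring, separated and complete for the topology defined by its maximal ideal m, S =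
Spec A and Sₙ = Spec(A/mⁿ). Then for every scheme X the canonical map Hom(S, X) → lim Hom(Sₙ, X) is
bijective: two morphisms S → X that agree on every Sₙ are equal, and every family of morphisms Sₙ →
X compatible with the closed immersions Sₙ → Sₙ₊₁ is induced by a morphism S → X. -/
theorem result (A : Type u) [CommRing A] [IsLocalRing A]
    [IsAdicComplete (IsLocalRing.maximalIdeal A) A] (X : Scheme.{u}) :
    (∀ f g : (Spec (CommRingCat.of A)) ⟶ X,
      (∀ n : ℕ, (Spec.map (CommRingCat.ofHom (Ideal.Quotient.mk ((IsLocalRing.maximalIdeal A) ^ n)))) ≫ f = (Spec.map (CommRingCat.ofHom (Ideal.Quotient.mk ((IsLocalRing.maximalIdeal A) ^ n)))) ≫ g) → f = g) ∧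
    (∀ u : (n : ℕ) → (Spec (CommRingCat.of (A ⧸ (IsLocalRing.maximalIdeal A) ^ n)) ⟶ X),
      (∀ n : ℕ, (Spec.map (CommRingCat.ofHom (Ideal.Quotient.factor
          (Ideal.pow_le_pow_right (I := (IsLocalRing.maximalIdeal A)) (Nat.le_succ n))))) ≫ u (n + 1) = u n) →
      ∃ f : (Spec (CommRingCat.of A)) ⟶ X, ∀ n : ℕ, (Spec.map (CommRingCat.ofHom (Ideal.Quotient.mk ((IsLocalRing.maximalIdeal A) ^ n)))) ≫ f = u n) := by
  exact main_aux A X

end Groth.Agent.S8384
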