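import Groth.Statements.S8441
import Mathlib.LinearAlgebra.Determinant
import Mathlib.LinearAlgebra.Matrix.Block
import Mathlib.LinearAlgebra.Matrix.Basis
-- import your own Groth.Agent.* helpers here

set_option autoImplicit false
universe u v w
open SGA3t2b

namespace Groth.Agent.S8441

section aux

variable {ι : Type u} {R : Type} {M : Type v} {N : Type w} [CommRing R] [AddCommGroup M] [Module R M]
    [AddCommGroup N] [Module R N] (P : RootPairing ι R M N) (b : P.Base) (n : ℕ) (e : Fin n ≃ ↥b.support)

/-- The reflection in the `j`-th simple root, on coefficient vectors. -/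
def rho (j : Fin n) (c : Fin n → R) : Fin n → R :=
  c - Pi.single j (∑ k, c k * P.pairing (e k : ι) (e j : ι))

/-- The linear combination map of the simple roots. -/
noncomputable def L : (Fin n → R) →ₗ[R] M :=
  Fintype.linearCombination R (fun i : Fin n => P.root (e i : ι))

lemma L_rho (j : Fin n) (c : Fin n → R) :
    L P b n e (rho P b n e j c) = P.reflection (e j : ι) (L P b n e c) := by
  classical
  rw [RootPairing.reflection_apply]
  unfold rho
  rw [map_sub]
  congr 1
  simp only [L, Fintype.linearCombination_apply, map_sum, map_smul, smul_eq_mul]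
  rw [Finset.sum_eq_single j]
  · simp only [Pi.single_eq_same]
    rfl
  · intro k _ hk
    rw [Pi.single_eq_of_ne hk]
    exact zero_smul R _
  · intro h
    exact absurd (Finset.mem_univ j) h

lemma rho_apply_ne (j k : Fin n) (h : k ≠ j) (c : Fin n → R) :
    rho P b n e j c k = c k := by
  simp [rho, Pi.single_apply, h]

/-- The coefficient vectors of the `θᵢ`. -/
def cf (i : Fin n) : Fin n → R :=
  ((List.finRange n).filter (fun j => i < j)).foldl (fun c j => rho P b n e j c) (Pi.single i 1)

lemma foldl_L (l : List (Fin n)) (c : Fin n → R) :
    L P b n e (l.foldl (fun c j => rho P b n e j c) c) =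
      l.foldl (fun x j => P.reflection (e j : ι) x) (L P b n e c) := by
  induction l generalizing c with
  | nil => rfl
  | cons j l ih =>
    simp only [List.foldl_cons]
    rw [ih, L_rho]

lemma foldl_apply_of_notMem (l : List (Fin n)) (k : Fin n) (hk : k ∉ l) (c : Fin n → R) :
    (l.foldl (fun c j => rho P b n e j c) c) k = c k := by
  induction l generalizing c with
  | nil => rfl
  | cons j l ih =>
    simp only [List.foldl_cons]
    simp only [List.mem_cons, not_or] at hk
    rw [ih hk.2, rho_apply_ne P b n e j k hk.1]

lemma L_single (i : Fin n) : L P b n e (Pi.single i 1) = P.root (e i : ι) := by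
  classical
  simp only [L, Fintype.linearCombination_apply]
  rw [Finset.sum_eq_single i]
  · rw [Pi.single_eq_same]
    exact one_smul R _
  · intro k _ hk
    rw [Pi.single_eq_of_ne hk]
    exact zero_smul R _
  · intro h
    exact absurd (Finset.mem_univ i) h

lemma L_cf (i : Fin n) :
    L P b n e (cf P b n e i) =
      ((List.finRange n).filter (fun j => i < j)).foldl (fun x j => P.reflection (e j : ι) x)
        (P.root (e i : ι)) := by
  rw [cf, foldl_L, L_single]

lemma cf_apply_of_le (i k : Fin n) (hk : k ≤ i) :
    cf P b n e i k = (Pi.single i 1 : Fin n → R) k := by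
  apply foldl_apply_of_notMem
  simp only [List.mem_filter, List.mem_finRange, decide_eq_true_eq, true_and, not_lt]
  exact hk

lemma det_cf : (Matrix.of (cf P b n e)).det = 1 := by
  rw [Matrix.det_of_isUpperTriangular]
  · apply Finset.prod_eq_one
    intro i _
    simp [cf_apply_of_le P b n e i i le_rfl]
  · intro i j hij
    simp only [id] at hij
    simp only [Matrix.of_apply]
    rw [cf_apply_of_le P b n e i j hij.le]
    simp [Pi.single_apply, hij.ne]

lemma cf_basis : LinearIndependent R (cf P b n e) ∧ Submodule.span R (Set.range (cf P b n e)) = ⊤ := by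
  rw [Module.Basis.is_basis_iff_det (Pi.basisFun R (Fin n)), Module.Basis.det_apply]
  have : (Pi.basisFun R (Fin n)).toMatrix (cf P b n e) = (Matrix.of (cf P b n e)).transpose := by
    ext i j
    rfl
  rw [this, Matrix.det_transpose, det_cf]
  exact isUnit_one

lemma L_injective : Function.Injective (L P b n e) := by
  have h1 : LinearIndependent R (fun i : Fin n => P.root (e i : ι)) := by
    have := b.linearIndepOn_root
    rw [LinearIndepOn] at this
    exact this.comp e e.injective
  exact linearIndependent_iff_injective_fintypeLinearCombination.mp h1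

lemma range_L : LinearMap.range (L P b n e) = Submodule.span R (Set.range P.root) := by
  rw [L, Fintype.range_linearCombination]
  apply le_antisymm
  · apply Submodule.span_mono
    rintro _ ⟨i, rfl⟩
    exact ⟨(e i : ι), rfl⟩
  · rw [Submodule.span_le]
    rintro _ ⟨i, rfl⟩
    have hsub : P.root '' (b.support : Set ι) ⊆ Set.range (fun i : Fin n => P.root (e i : ι)) := by
      rintro _ ⟨j, hj, rfl⟩
      exact ⟨e.symm ⟨j, hj⟩, by simp⟩
    have hle : AddSubmonoid.closure (P.root '' (b.support : Set ι)) ≤
        (Submodule.span R (Set.range (fun i : Fin n => P.root (e i : ι)))).toAddSubmonoid :=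
      AddSubmonoid.closure_le.mpr (fun x hx => Submodule.subset_span (hsub hx))
    rcases b.root_mem_or_neg_mem i with h | h
    · exact hle h
    · have := hle h
      simpa using (Submodule.neg_mem_iff _).mp this

end aux

/-- Let R be a root system with a system of simple roots a₁, …, aₙ and simple reflections rᵢ, and put θᵢ
= rₙ ⋯ rᵢ₊₁(aᵢ). Then the θᵢ form a basis of the group generated by the roots. Stated for a root
pairing over ℤ (Mathlib) with a base whose support is enumerated by Fin n: the θᵢ are ℤ-linearly
independent and their ℤ-span is the ℤ-span of all roots. -/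
theorem result {ι : Type u} {M : Type v} {N : Type w} [AddCommGroup M] [Module ℤ M]
    [AddCommGroup N] [Module ℤ N] (P : RootPairing ι ℤ M N) (b : P.Base) (n : ℕ) (e : Fin n ≃ ↥b.support) :
    LinearIndependent ℤ (fun i : Fin n =>
      ((List.finRange n).filter (fun j => i < j)).foldl (fun x j => P.reflection (e j : ι) x) (P.root (e i : ι))) ∧
    Submodule.span ℤ (Set.range (fun i : Fin n =>
      ((List.finRange n).filter (fun j => i < j)).foldl (fun x j => P.reflection (e j : ι) x) (P.root (e i : ι)))) =
      Submodule.span ℤ (Set.range P.root) := by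
  have hfun : (fun i : Fin n =>
      ((List.finRange n).filter (fun j => i < j)).foldl (fun x j => P.reflection (e j : ι) x) (P.root (e i : ι))) =
      (L P b n e) ∘ (cf P b n e) := by
    funext i
    exact (L_cf P b n e i).symm
  rw [hfun]
  obtain ⟨h1, h2⟩ := cf_basis P b n e
  refine ⟨h1.map' _ (LinearMap.ker_eq_bot.mpr (L_injective P b n e)), ?_⟩
  rw [Set.range_comp, ← Submodule.map_span, h2, Submodule.map_top, range_L]

end Groth.Agent.S8441
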