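import Groth.Statements.S8471
import Groth.Agent.Lib.Helper43.RatFE

set_option autoImplicit false
open Red

namespace Groth.Agent.S8471

/-- Let k be a field and F ∈ k(X) a rational function whose denominator does not vanish at 0 and with
F(0) = 1. Suppose that in the field of fractions L of k[X₀, X₁] one has F(X₀ + X₁ · F(X₀)) = F(X₀) ·
F(X₁) (the functional equation F(x + y F(x)) = F(x) F(y)). Then there is a ∈ k with F = 1 + a X.
(The published statement takes the identity on an open neighbourhood of the origin of 𝔾_a × 𝔾_a on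
which all terms are defined; this row takes it as an identity of rational functions in two
variables.) -/
theorem result (k : Type) [Field k] (F : RatFunc k)
    (h0 : F.denom.eval 0 ≠ 0) (h1 : F.num.eval 0 = F.denom.eval 0)
    (hFE : RatFunc.eval (algebraMap k (FractionRing (MvPolynomial (Fin 2) k)))
        (algebraMap (MvPolynomial (Fin 2) k) (FractionRing (MvPolynomial (Fin 2) k)) (MvPolynomial.X 0) +
          algebraMap (MvPolynomial (Fin 2) k) (FractionRing (MvPolynomial (Fin 2) k)) (MvPolynomial.X 1) *
            RatFunc.eval (algebraMap k (FractionRing (MvPolynomial (Fin 2) k)))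
              (algebraMap (MvPolynomial (Fin 2) k) (FractionRing (MvPolynomial (Fin 2) k)) (MvPolynomial.X 0)) F) F =
      RatFunc.eval (algebraMap k (FractionRing (MvPolynomial (Fin 2) k)))
          (algebraMap (MvPolynomial (Fin 2) k) (FractionRing (MvPolynomial (Fin 2) k)) (MvPolynomial.X 0)) F *
        RatFunc.eval (algebraMap k (FractionRing (MvPolynomial (Fin 2) k)))
          (algebraMap (MvPolynomial (Fin 2) k) (FractionRing (MvPolynomial (Fin 2) k)) (MvPolynomial.X 1)) F) :
    ∃ a : k, F = 1 + RatFunc.C a * RatFunc.X := by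
  classical
  -- the target field `K(Y)` with `K = Frac k[T]`
  let B := MvPolynomial (Fin 1) k
  let K := FractionRing B
  let t : K := algebraMap B K (MvPolynomial.X 0)
  have ht : Transcendental k t := by
    have h1 : Transcendental k (MvPolynomial.X (R := k) (0 : Fin 1)) := by
      have := MvPolynomial.algebraicIndependent_X (Fin 1) k
      rw [algebraicIndependent_unique_type_iff] at this
      exact this
    exact (transcendental_algebraMap_iff (IsFractionRing.injective B K)).mpr h1
  -- the ring hom `g : k[X₀,X₁] → K(Y)`, `X₀ ↦ t`, `X₁ ↦ Y`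
  let g₁ : MvPolynomial (Fin 2) k →+* MvPolynomial (Fin 2) k :=
    (MvPolynomial.rename (Equiv.swap (0 : Fin 2) 1) : MvPolynomial (Fin 2) k →ₐ[k] _).toRingHom
  let g₂ : MvPolynomial (Fin 2) k →+* Polynomial B :=
    (MvPolynomial.finSuccEquiv k 1).toAlgHom.toRingHom
  let g₃ : Polynomial B →+* Polynomial K := Polynomial.mapRingHom (algebraMap B K)
  let g₄ : Polynomial K →+* RatFunc K := algebraMap _ _
  let g : MvPolynomial (Fin 2) k →+* RatFunc K := g₄.comp (g₃.comp (g₂.comp g₁))
  have hg : Function.Injective g := by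
    refine (RatFunc.algebraMap_injective K).comp ?_
    refine (Polynomial.map_injective _ (IsFractionRing.injective B K)).comp ?_
    refine (MvPolynomial.finSuccEquiv k 1).injective.comp ?_
    exact MvPolynomial.rename_injective _ (Equiv.injective _)
  have gX0 : g (MvPolynomial.X 0) = algebraMap (Polynomial K) (RatFunc K) (Polynomial.C t) := by
    show g₄ (g₃ (g₂ (g₁ (MvPolynomial.X 0)))) = _
    have h1 : g₁ (MvPolynomial.X 0) = MvPolynomial.X 1 := by
      show MvPolynomial.rename _ (MvPolynomial.X 0) = _
      rw [MvPolynomial.rename_X, Equiv.swap_apply_left]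
    have h2 : g₂ (MvPolynomial.X 1) = Polynomial.C (MvPolynomial.X 0) :=
      MvPolynomial.finSuccEquiv_X_succ (R := k) (n := 1) (j := 0)
    rw [h1, h2]
    show g₄ (Polynomial.map _ _) = _
    rw [Polynomial.map_C]
  have gX1 : g (MvPolynomial.X 1) = RatFunc.X := by
    show g₄ (g₃ (g₂ (g₁ (MvPolynomial.X 1)))) = _
    have h1 : g₁ (MvPolynomial.X 1) = MvPolynomial.X 0 := by
      show MvPolynomial.rename _ (MvPolynomial.X 1) = _
      rw [MvPolynomial.rename_X, Equiv.swap_apply_right]
    have h2 : g₂ (MvPolynomial.X 0) = Polynomial.X :=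
      MvPolynomial.finSuccEquiv_X_zero (R := k) (n := 1)
    rw [h1, h2]
    show g₄ (Polynomial.map _ _) = _
    rw [Polynomial.map_X]
    exact RatFunc.algebraMap_X
  have gC : ∀ c : k, g (MvPolynomial.C c) =
      algebraMap (Polynomial K) (RatFunc K) (Polynomial.C (algebraMap k K c)) := by
    intro c
    show g₄ (g₃ (g₂ (g₁ (MvPolynomial.C c)))) = _
    have h1 : g₁ (MvPolynomial.C c) = MvPolynomial.C c := by
      show MvPolynomial.rename _ (MvPolynomial.C c) = _
      rw [MvPolynomial.rename_C]
    have h2 : g₂ (MvPolynomial.C c) = Polynomial.C (MvPolynomial.C c) := by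
      show MvPolynomial.finSuccEquiv k 1 (MvPolynomial.C c) = _
      rw [MvPolynomial.finSuccEquiv_apply]
      simp
    rw [h1, h2]
    show g₄ (Polynomial.map _ _) = _
    rw [Polynomial.map_C]
    rfl
  let θ : FractionRing (MvPolynomial (Fin 2) k) →+* RatFunc K := IsFractionRing.lift hg
  have θ_alg : ∀ p, θ (algebraMap (MvPolynomial (Fin 2) k) _ p) = g p :=
    fun p => IsFractionRing.lift_algebraMap hg p
  have hf' : ∀ c : k, (θ.comp (algebraMap k (FractionRing (MvPolynomial (Fin 2) k)))) c =
      algebraMap (Polynomial K) (RatFunc K) (Polynomial.C (algebraMap k K c)) := by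
    intro c
    rw [RingHom.comp_apply, IsScalarTower.algebraMap_apply k (MvPolynomial (Fin 2) k)
      (FractionRing (MvPolynomial (Fin 2) k)), θ_alg, MvPolynomial.algebraMap_eq, gC]
  have hFE' := congrArg θ hFE
  rw [Groth.Agent.Lib.Helper43.RatFE.map_ratFunc_eval, map_mul,
    Groth.Agent.Lib.Helper43.RatFE.map_ratFunc_eval,
    Groth.Agent.Lib.Helper43.RatFE.map_ratFunc_eval, map_add, map_mul,
    Groth.Agent.Lib.Helper43.RatFE.map_ratFunc_eval, θ_alg, θ_alg, gX0, gX1] at hFE'
  exact Groth.Agent.Lib.Helper43.RatFE.final t ht F h0 h1 _ hf' hFE'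

end Groth.Agent.S8471
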