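import Groth.Statements.S8524
import Groth.Agent.Lib.Helper70.Supp2

set_option autoImplicit false
universe u
open CategoryTheory CategoryTheory.Limits AlgebraicGeometry Opposite
open EtAcyc

namespace Groth.Agent.S8524

/-- For the small etale site of a scheme and abelian sheaves: let L be a set of primes, F an abelian
L-torsion sheaf on the small etale site of a scheme X, and U an etale X-scheme with quasi-compact
underlying space. Then every section of F over U is killed by some positive integer all of whose
prime factors lie in L. -/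
theorem result {X : Scheme.{u}} (L : Set ℕ) (F : EtCoh.Ab X)
    (hF : EtAcyc.IsLTorsion L F) (U : X.Etale) [CompactSpace U.left] (s : EtCoh.sect F U) :
    ∃ m : ℕ, EtAcyc.PrimesIn L m ∧ m • s = 0 := by
  choose V g m hv hm h0 using hF U s
  have hopen : ∀ x : U.left, IsOpen (Set.range (g x).left.base) := by
    intro x
    haveI : Etale (g x).left := by
      haveI : Etale U.hom := U.prop
      haveI : Etale ((g x).left ≫ U.hom) := by
        rw [MorphismProperty.Over.w (g x)]; exact (V x).prop
      exact MorphismProperty.of_postcomp (W := @Etale) (W' := @Etale) (g x).left U.hom inferInstance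
        inferInstance
    exact (g x).left.isOpenMap.isOpen_range
  have hcov : (Set.univ : Set U.left) ⊆ ⋃ x : U.left, Set.range (g x).left.base := by
    intro x _
    exact Set.mem_iUnion.2 ⟨x, hv x⟩
  obtain ⟨t, ht⟩ := isCompact_univ.elim_finite_subcover _ hopen hcov
  refine ⟨∏ x ∈ t, m x, ⟨?_, ?_⟩, ?_⟩
  · exact Finset.prod_pos fun x _ => (hm x).1
  · intro p hp hdvd
    obtain ⟨x, hx, hpx⟩ := (Prime.dvd_finsetProd_iff hp.prime _).1 hdvd
    exact (hm x).2 p hp hpx
  · apply Groth.Agent.Lib.Helper70.Supp.eq_zero_of_sectSupp_eq_empty F U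
    rw [Set.eq_empty_iff_forall_notMem]
    intro p hp
    obtain ⟨x, hx, hpx⟩ : ∃ x ∈ t, p ∈ Set.range (g x).left.base := by
      have := ht (Set.mem_univ p)
      simpa using this
    obtain ⟨w, hw⟩ := hpx
    refine hp (V x) (g x) ⟨w, hw⟩ ?_
    obtain ⟨c, hc⟩ := Finset.dvd_prod_of_mem m hx
    rw [hc, map_nsmul, mul_comm, mul_nsmul, smul_comm, h0 x, nsmul_zero]

end Groth.Agent.S8524
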