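import Groth.Statements.S8530
import Groth.Agent.Lib.Cohomology.Helper3_NearFLC
-- import your own Groth.Agent.* helpers here

set_option autoImplicit false
universe u
open CategoryTheory CategoryTheory.Limits AlgebraicGeometry Opposite
open EtPBC

namespace Groth.Agent.S8530

/-- Let F be a constructible abelian sheaf on the small etale site of a scheme X, x a point of X and ξ a
geometric point of X located at x. Then F is finite locally constant on some open neighbourhood of x
if and only if, for every geometric point ξ' of X and every morphism of points of the etale site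
from ξ' to ξ (a specialization arrow, ξ' a generization of ξ), the induced specialization map F_ξ →
F_ξ' is an isomorphism. -/
theorem result {X : Scheme.{u}} (F : EtCoh.Ab X)
    (hF : EtPBC.IsConstructible F) (x : X) {Ω : Type u} [Field Ω] [IsSepClosed Ω]
    (ξ : Spec (CommRingCat.of Ω) ⟶ X) (hξ : Set.range ξ.base = {x}) :
    (∃ U : X.Opens, x ∈ U ∧ EtCoh.IsFiniteLocallyConstant ((EtCoh.pull U.ι).obj F)) ↔
      ∀ (Ω' : Type u) [Field Ω'] [IsSepClosed Ω'] (ξ' : Spec (CommRingCat.of Ω') ⟶ X)
        (φ : Scheme.pointSmallEtale ξ' ⟶ Scheme.pointSmallEtale ξ),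
        IsIso ((GrothendieckTopology.Point.Hom.sheafFiber (A := AddCommGrpCat.{u + 1}) φ).app F) := by
  have hpt : ξ.base default = x := by
    have h1 : ξ.base default ∈ Set.range ξ.base := ⟨default, rfl⟩
    rw [hξ] at h1
    exact h1
  constructor
  · rintro ⟨V₀, hxV, hflc⟩ Ω' _ _ ξ' φ
    exact Groth.Agent.Lib.Cohomology.NearFLC.isIso_sheafFiber_of_isFLC_near F hF ξ V₀
      (hpt ▸ hxV) hflc ξ' φ
  · intro hiso
    obtain ⟨V, hV, hflc⟩ :=
      Groth.Agent.Lib.Cohomology.NearFLC.exists_open_isFLC_of_sheafFiber_iso F hF ξ hiso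
    exact ⟨V, hpt ▸ hV, hflc⟩

end Groth.Agent.S8530
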