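import Groth.Statements.S8532
import Groth.Agent.Lib.Helper70.TraceL
import Groth.Agent.Lib.Helper70.TraceCount2

set_option autoImplicit false
universe u
open CategoryTheory CategoryTheory.Limits AlgebraicGeometry Opposite
open EtAcyc

namespace Groth.Agent.S8532

/-- Let f : X' → X be finite etale of constant degree d (every geometric fibre has exactly d points), L
a set of primes such that no prime in L divides d, F an abelian L-torsion sheaf on the small etale
site of X, and q a natural number. If H^q(X', f⁻¹F) = 0, then H^q(X, F) = 0. -/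
theorem result {X X' : Scheme.{u}} (f : X' ⟶ X) [IsFinite f] [Etale f]
    (d : ℕ) (hd : ∀ (Ω : Type u) [Field Ω] [IsSepClosed Ω] (ξ : Spec (CommRingCat.of Ω) ⟶ X),
      Nat.card ↥(pullback f ξ) = d)
    (L : Set ℕ) (hL : ∀ p : ℕ, p.Prime → p ∈ L → ¬ p ∣ d) (F : EtCoh.Ab X) (hF : EtAcyc.IsLTorsion L F)
    [PreservesFiniteLimits (EtCoh.pull f)] (q : ℕ)
    (h : Subsingleton (EtCoh.H X' ((EtCoh.pull f).obj F) q)) :
    Subsingleton (EtCoh.H X F q) := by
  refine ⟨fun a b => ?_⟩
  have key : ∀ α : EtCoh.H X F q, α = 0 := by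
    intro α
    apply Groth.Agent.Lib.Helper70.TraceL.eq_zero_of_nsmul_eq_zero L d hL F hF q α
    apply Groth.Agent.Lib.Helper70.TraceCoh.nsmul_eq_zero_of_Hpull_eq_zero f d ?_ F q α
      (Subsingleton.elim _ _)
    intro Ω _ _ η
    rw [Groth.Agent.Lib.Helper70.TraceCount2.card_J_eq_card_pullback f η]
    exact hd Ω η
  rw [key a, key b]

end Groth.Agent.S8532
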