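import Groth.Statements.S8535
import Mathlib
-- import your own Groth.Agent.* helpers here

set_option autoImplicit false
universe v v' u u'
open CategoryTheory CategoryTheory.Limits
open DeltaF

namespace Groth.Agent.S8535

variable {A : Type u} [Category.{v} A] [Abelian A] {B : Type u'} [Category.{v'} B] [Abelian B]

/-- the short exact sequence attached to a monomorphism -/
theorem ses_of_mono {X Y : A} (u : X ⟶ Y) [Mono u] :
    (ShortComplex.mk u (cokernel.π u) (cokernel.condition u)).ShortExact where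
  exact := ShortComplex.exact_of_g_is_cokernel _ (cokernelIsCokernel u)
  mono_f := by dsimp; infer_instance
  epi_g := by dsimp; infer_instance

theorem epi_step (T T' : DeltaF.CohDeltaFunctor A B ℕ) (φ : T ⟶ T') (k : ℕ) (X : A)
    (hE : ∃ (Y : A) (u : X ⟶ Y), Mono u ∧ (T'.F (k + 1)).map u = 0)
    (he : ∀ Z : A, Epi ((φ.app k).app Z)) : Epi ((φ.app (k + 1)).app X) := by
  obtain ⟨Y, u, hu, hu0⟩ := hE
  have hS := ses_of_mono u
  have h1 : Epi (T'.δ _ hS k (k + 1) rfl) :=
    (T'.exact₁ _ hS k (k + 1) rfl).epi_f hu0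
  have h2 := φ.comm _ hS k (k + 1) rfl
  have h3 : Epi ((φ.app k).app (cokernel u) ≫ T'.δ _ hS k (k + 1) rfl) := by
    have := he (cokernel u)
    exact epi_comp _ _
  dsimp at h2 h3
  rw [← h2] at h3
  exact epi_of_epi (T.δ _ hS k (k + 1) rfl) _

theorem mono_step (T T' : DeltaF.CohDeltaFunctor A B ℕ) (φ : T ⟶ T') (k : ℕ) (X : A)
    (hE : ∃ (Y : A) (u : X ⟶ Y), Mono u ∧ (T.F (k + 1)).map u = 0)
    (hm : ∀ Z : A, Mono ((φ.app k).app Z))
    (he : ∀ Z : A, Epi ((φ.app k).app Z)) : Mono ((φ.app (k + 1)).app X) := by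
  obtain ⟨Y, u, hu, hu0⟩ := hE
  have hS := ses_of_mono u
  have hδ : Epi (T.δ _ hS k (k + 1) rfl) :=
    (T.exact₁ _ hS k (k + 1) rfl).epi_f hu0
  have hcomm := φ.comm _ hS k (k + 1) rfl
  dsimp at hcomm
  rw [Preadditive.mono_iff_cancel_zero]
  intro W a ha
  obtain ⟨W₁, π₁, hπ₁, z, hz⟩ := surjective_up_to_refinements_of_epi (T.δ _ hS k (k + 1) rfl) a
  have h1 : (z ≫ (φ.app k).app (cokernel u)) ≫ T'.δ _ hS k (k + 1) rfl = 0 := by
    rw [Category.assoc, ← hcomm, ← Category.assoc, ← hz, Category.assoc, ha, comp_zero]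
  obtain ⟨W₂, π₂, hπ₂, y', hy'⟩ :=
    (T'.exact₃ _ hS k (k + 1) rfl).exact_up_to_refinements _ h1
  dsimp at y' hy'
  have := he Y
  obtain ⟨W₃, π₃, hπ₃, y, hy⟩ := surjective_up_to_refinements_of_epi ((φ.app k).app Y) y'
  have := hm (cokernel u)
  have h2 : π₃ ≫ π₂ ≫ z = y ≫ (T.F k).map (cokernel.π u) := by
    rw [← cancel_mono ((φ.app k).app (cokernel u))]
    simp only [Category.assoc]
    rw [hy', ← Category.assoc π₃, hy, Category.assoc, (φ.app k).naturality]
  have h3 : (π₃ ≫ π₂ ≫ π₁) ≫ a = 0 := by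
    simp only [Category.assoc]
    rw [hz]
    have h2' := congrArg (· ≫ T.δ _ hS k (k + 1) rfl) h2
    simp only [Category.assoc] at h2'
    have := T.comp_δ _ hS k (k + 1) rfl
    dsimp at this
    rw [h2', this, comp_zero]
  have : Epi (π₃ ≫ π₂ ≫ π₁) := by
    have : Epi (π₂ ≫ π₁) := epi_comp _ _
    exact epi_comp _ _
  exact (cancel_epi (π₃ ≫ π₂ ≫ π₁)).mp (h3.trans comp_zero.symm)



/-- Let A and B be abelian categories, T and T' cohomological delta-functors from A to B in degrees ≥ 0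
whose degree-0 components are left exact (they vanish in negative degrees), such that T^i is
effaceable for every i > 0, and let φ : T → T' be a morphism of delta-functors and n a natural
number. Then the following are equivalent: (a) φ^i is an isomorphism for i ≤ n and a monomorphism
for i = n + 1; (b) φ^0 is a monomorphism and φ^i is an epimorphism for every i ≤ n; (c) φ^0 is an
isomorphism and, for 0 < i ≤ n, T'^i is effaceable (every object X admits a monomorphism X → Y
killed by T'^i). -/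
theorem result {A : Type u} [Category.{v} A] [Abelian A]
    {B : Type u'} [Category.{v'} B] [Abelian B] (T T' : DeltaF.CohDeltaFunctor A B ℕ)
    (h0 : T.ZeroMono) (h0' : T'.ZeroMono) (hT : T.IsEffaceable) (φ : T ⟶ T') (n : ℕ) :
    ((∀ i : ℕ, i ≤ n → IsIso (φ.app i)) ∧ Mono (φ.app (n + 1)) ↔
      (Mono (φ.app 0) ∧ ∀ i : ℕ, i ≤ n → Epi (φ.app i))) ∧
    ((∀ i : ℕ, i ≤ n → IsIso (φ.app i)) ∧ Mono (φ.app (n + 1)) ↔
      (IsIso (φ.app 0) ∧ ∀ i : ℕ, 0 < i → i ≤ n → ∀ X : A, ∃ (Y : A) (u : X ⟶ Y), Mono u ∧ (T'.F i).map u = 0)) := by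
  have monoiff : ∀ i, Mono (φ.app i) ↔ ∀ Z : A, Mono ((φ.app i).app Z) :=
    fun i => NatTrans.mono_iff_mono_app (φ.app i)
  have epiiff : ∀ i, Epi (φ.app i) ↔ ∀ Z : A, Epi ((φ.app i).app Z) :=
    fun i => NatTrans.epi_iff_epi_app (φ.app i)
  have isoiff : ∀ i, IsIso (φ.app i) ↔ ∀ Z : A, IsIso ((φ.app i).app Z) :=
    fun i => NatTrans.isIso_iff_isIso_app (φ.app i)
  have iso_of : ∀ i, Mono (φ.app i) → Epi (φ.app i) → IsIso (φ.app i) := by
    intro i hm he
    rw [isoiff]
    intro Z
    have := (monoiff i).mp hm Z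
    have := (epiiff i).mp he Z
    exact isIso_of_mono_of_epi _
  have mstep : ∀ k, Mono (φ.app k) → Epi (φ.app k) → Mono (φ.app (k + 1)) := by
    intro k hm he
    rw [monoiff]
    intro X
    exact mono_step T T' φ k X (hT k X) ((monoiff k).mp hm) ((epiiff k).mp he)
  refine ⟨⟨?_, ?_⟩, ⟨?_, ?_⟩⟩
  · rintro ⟨h1, h2⟩
    refine ⟨?_, fun i hi => ?_⟩
    · have := h1 0 (Nat.zero_le n)
      infer_instance
    · have := h1 i hi
      infer_instance
  · rintro ⟨h1, h2⟩
    have key : ∀ k, k ≤ n + 1 → Mono (φ.app k) := by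
      intro k
      induction k with
      | zero => intro _; exact h1
      | succ k ih =>
        intro hk
        exact mstep k (ih (by omega)) (h2 k (by omega))
    exact ⟨fun i hi => iso_of i (key i (by omega)) (h2 i hi), key (n + 1) le_rfl⟩
  · rintro ⟨h1, h2⟩
    refine ⟨h1 0 (Nat.zero_le n), ?_⟩
    intro i hi0 hin X
    obtain ⟨j, rfl⟩ : ∃ j, i = j + 1 := ⟨i - 1, by omega⟩
    obtain ⟨Y, u, hu, hu0⟩ := hT j X
    refine ⟨Y, u, hu, ?_⟩
    have := h1 (j + 1) hin
    have : IsIso ((φ.app (j + 1)).app X) := (isoiff (j + 1)).mp inferInstance X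
    rw [← cancel_epi ((φ.app (j + 1)).app X), ← (φ.app (j + 1)).naturality, hu0, zero_comp,
      comp_zero]
  · rintro ⟨h1, h2⟩
    have key : ∀ k, k ≤ n → IsIso (φ.app k) := by
      intro k
      induction k with
      | zero => intro _; exact h1
      | succ k ih =>
        intro hk
        have := ih (by omega)
        have hm : Mono (φ.app (k + 1)) := mstep k inferInstance inferInstance
        have he : Epi (φ.app (k + 1)) := by
          rw [epiiff]
          intro X
          exact epi_step T T' φ k X (h2 (k + 1) (by omega) hk X)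
            ((epiiff k).mp inferInstance)
        exact iso_of _ hm he
    refine ⟨key, ?_⟩
    have := key n le_rfl
    exact mstep n inferInstance inferInstance

end Groth.Agent.S8535
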