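import Groth.Statements.S8536
import Groth.Agent.Lib.Helper47.HpullLES
-- import your own Groth.Agent.* helpers here

set_option autoImplicit false
universe u
open CategoryTheory CategoryTheory.Limits AlgebraicGeometry Opposite
open EtAcyc

namespace Groth.Agent.S8536

open CategoryTheory.Abelian Groth.Agent.Lib.Helper47.HpullLES


/-- Let h : Y → X be a morphism of quasi-compact quasi-separated schemes, L a set of primes and n a
natural number, and suppose that for every abelian L-torsion sheaf on X the pullback map on etale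
cohomology along h is bijective in degrees ≤ n and injective in degree n + 1. Let u : F → G be a
monomorphism of abelian L-torsion sheaves on X and ξ a class in H^{n+1}(Y, h⁻¹F) whose image in
H^{n+1}(Y, h⁻¹G) comes from H^{n+1}(X, G). Then ξ comes from H^{n+1}(X, F). -/
theorem result {X Y : Scheme.{u}} [CompactSpace X] [QuasiSeparatedSpace X]
    [CompactSpace Y] [QuasiSeparatedSpace Y] (h : Y ⟶ X) (L : Set ℕ) (n : ℕ) (hc : EtAcyc.CompN h L n)
    [PreservesFiniteLimits (EtCoh.pull h)] {F G : EtCoh.Ab X} (u : F ⟶ G) [Mono u]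
    (hF : EtAcyc.IsLTorsion L F) (hG : EtAcyc.IsLTorsion L G)
    (ξ : EtCoh.H Y ((EtCoh.pull h).obj F) (n + 1))
    (hξ : (EtCoh.HF Y (n + 1)).map ((EtCoh.pull h).map u) ξ ∈ Set.range (EtCore.Hpull h G (n + 1))) :
    ξ ∈ Set.range (EtCore.Hpull h F (n + 1)) := by
  let S : ShortComplex (EtCoh.Ab X) := ShortComplex.mk u (cokernel.π u) (cokernel.condition u)
  have hS : S.ShortExact :=
    { exact := ShortComplex.exact_cokernel u
      mono_f := inferInstanceAs (Mono u)
      epi_g := inferInstanceAs (Epi (cokernel.π u)) }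
  have hC : EtAcyc.IsLTorsion L (cokernel u) := isLTorsion_of_epi L (cokernel.π u) hG
  have hS' := hS.map_of_exact (EtCoh.pull h)
  obtain ⟨γ, hγ⟩ := hξ
  have hγ' : EtCore.Hpull h G (n + 1) γ =
      ξ.comp (Ext.mk₀ ((EtCoh.pull h).map u)) (add_zero (n + 1)) := hγ
  have hCc := hc (cokernel u) hC
  -- step 1
  have h1 : γ.comp (Ext.mk₀ (cokernel.π u)) (add_zero (n + 1)) = 0 := by
    apply hCc.2
    rw [map_zero, Hpull_comp_mk₀, hγ', Ext.comp_assoc_of_third_deg_zero, Ext.mk₀_comp_mk₀,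
      ← Functor.map_comp, cokernel.condition, Functor.map_zero, Ext.mk₀_zero, Ext.comp_zero]
  -- step 2
  obtain ⟨φ, hφ⟩ := Ext.covariant_sequence_exact₂ _ hS γ h1
  -- step 3
  have h2 : (ξ - EtCore.Hpull h F (n + 1) φ).comp (Ext.mk₀ ((EtCoh.pull h).map u))
      (add_zero (n + 1)) = 0 := by
    change ((Ext.mk₀ ((EtCoh.pull h).map u)).postcomp _ (add_zero (n + 1)))
      (ξ - EtCore.Hpull h F (n + 1) φ) = 0
    rw [map_sub]
    change ξ.comp (Ext.mk₀ ((EtCoh.pull h).map u)) (add_zero (n + 1)) -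
      (EtCore.Hpull h F (n + 1) φ).comp (Ext.mk₀ ((EtCoh.pull h).map u)) (add_zero (n + 1)) = 0
    rw [← Hpull_comp_mk₀]
    have : φ.comp (Ext.mk₀ u) (add_zero (n + 1)) = γ := hφ
    rw [this, hγ', sub_self]
  obtain ⟨c', hc'⟩ := Ext.covariant_sequence_exact₁ _ hS' (ξ - EtCore.Hpull h F (n + 1) φ) h2 rfl
  obtain ⟨c, rfl⟩ := (hCc.1 n le_rfl).2 c'
  refine ⟨φ + c.comp hS.extClass rfl, ?_⟩
  have h3 : EtCore.Hpull h F (n + 1) (c.comp hS.extClass rfl) =
      ξ - EtCore.Hpull h F (n + 1) φ :=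
    (Hpull_comp_extClass h S hS n c).trans hc'
  rw [map_add, h3]
  abel

end Groth.Agent.S8536
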