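import Groth.Statements.S8560
import Groth.Agent.Lib.Helper47.EtRpushTors
-- import your own Groth.Agent.* helpers here

set_option autoImplicit false
universe u
open CategoryTheory CategoryTheory.Limits AlgebraicGeometry Opposite
open EtAcyc

namespace Groth.Agent.S8560

open Groth.Agent.Lib.Helper47.EtQc

open Classical in
/-- the product of all `L`-numbers up to `k` -/
noncomputable def mL (L : Set ℕ) (k : ℕ) : ℕ :=
  ∏ n ∈ (Finset.range (k + 1)).filter (fun n => EtAcyc.PrimesIn L n), n

lemma mL_dvd (L : Set ℕ) (k : ℕ) : mL L k ∣ mL L (k + 1) := by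
  classical
  unfold mL
  apply Finset.prod_dvd_prod_of_subset
  intro n hn
  rw [Finset.mem_filter, Finset.mem_range] at hn ⊢
  exact ⟨by omega, hn.2⟩

lemma primesIn_mL (L : Set ℕ) (k : ℕ) : EtAcyc.PrimesIn L (mL L k) := by
  classical
  unfold mL
  refine ⟨Finset.prod_pos (fun n hn => ((Finset.mem_filter.1 hn).2).1), ?_⟩
  intro p hp hdvd
  obtain ⟨n, hn, hpn⟩ := (Prime.dvd_finsetProd_iff hp.prime _).1 hdvd
  exact ((Finset.mem_filter.1 hn).2).2 p hp hpn

lemma dvd_mL (L : Set ℕ) (n : ℕ) (hn : EtAcyc.PrimesIn L n) : n ∣ mL L n := by
  classical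
  unfold mL
  exact Finset.dvd_prod_of_mem _ (Finset.mem_filter.2 ⟨Finset.mem_range.2 (by omega), hn⟩)



/-- For the etale sites of schemes and a set of primes L: if f : X ⟶ Y is a quasi-compact and
quasi-separated morphism of schemes and F is an abelian L-torsion sheaf on the small etale site of X
(every section is, etale-locally around each point, killed by a positive integer all of whose prime
factors lie in L), then each higher direct image R^q f_* F is an L-torsion sheaf on Y. (The
published statement, for topoi, asks only that the morphism be quasi-compact; this row also assumes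
f quasi-separated: for the spectrum of a polynomial ring in countably many variables over a
separably closed field glued to a copy of itself along the complement of the origin, and the direct
sum of the skyscraper sheaves ℤ/pⁿ at the points where exactly the n-th variable is 1, the structure
morphism to the field is quasi-compact but H¹ contains a class of infinite order.) -/
theorem result {X Y : Scheme.{u}} (f : X ⟶ Y) [QuasiCompact f] [QuasiSeparated f]
    [EtCoh.BCCont f] (L : Set ℕ) (F : EtCoh.Ab X) (hF : EtAcyc.IsLTorsion L F) (q : ℕ) :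
    EtAcyc.IsLTorsion L ((EtCoh.Rpush f q).obj F) := by
  have h1 : LocKilled (mL L) F := by
    intro U s x
    obtain ⟨V, g, n, hv, hn, hs⟩ := hF U s x
    obtain ⟨c, hc⟩ := dvd_mL L n hn
    exact ⟨V, g, n, hv, by rw [hc, mul_nsmul, hs, smul_zero]⟩
  have h2 := locKilled_Rpush f (mL L) (mL_dvd L) F h1 q
  intro U s x
  obtain ⟨V, g, k, hv, hs⟩ := h2 U s x
  exact ⟨V, g, mL L k, hv, primesIn_mL L k, hs⟩

end Groth.Agent.S8560
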