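import Groth.Statements.S8564
import Groth.Agent.Lib.Helper19.CechAcyclic

set_option autoImplicit false
open CategoryTheory CategoryTheory.Limits
universe u
open CohCx

namespace Groth.Agent.S8564

/-- Let (F_t) be a family of abelian sheaves on a small site, indexed by a small set, such that each F_t
is totally acyclic, i.e. H^p(K, F_t) = 0 for every sheaf of sets K and every p > 0. Then the product
sheaf of the family is totally acyclic. (The published statement is for modules over a ringed topos;
this row is the case of abelian sheaves.) -/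
theorem result {C : Type u} [SmallCategory C] (J : GrothendieckTopology C)
    {T : Type u} (F : T → Sheaf J AddCommGrpCat.{u}) (hF : ∀ t, CohCx.IsTotallyAcyclic (F t)) :
    CohCx.IsTotallyAcyclic (∏ᶜ F) := by
  classical
  apply Groth.Agent.Lib.Helper19.CechAcyclic.isTotallyAcyclic_of_cechAcyc
  intro K' K f hf q x hx
  have h : ∀ t, ∃ y : (Groth.Agent.Lib.Helper19.CechHom.freeCx f).X q ⟶ F t,
      (Groth.Agent.Lib.Helper19.CechHom.freeCx f).d (q + 1) q ≫ y = x ≫ Limits.Pi.π F t := by
    intro t
    exact Groth.Agent.Lib.Helper19.CechAcyclic.cechAcyc_of_isTotallyAcyclic (F t) (hF t) K' K f hf q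
      (x ≫ Limits.Pi.π F t) (by rw [← Category.assoc, hx, Limits.zero_comp])
  choose y hy using h
  refine ⟨Limits.Pi.lift y, ?_⟩
  apply Limits.Pi.hom_ext
  intro t
  rw [Category.assoc, Limits.Pi.lift_π, hy]

end Groth.Agent.S8564
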