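import Groth.Statements.S8586
import Mathlib.RingTheory.Ideal.KrullsHeightTheorem
import Mathlib.RingTheory.Ideal.MinimalPrime.Noetherian
import Mathlib.RingTheory.KrullDimension.Basic

set_option autoImplicit false
universe u
open CAlg

namespace Groth.Agent.S8586

section Helpers

open IsLocalRing

variable {A : Type u} [CommRing A] [IsLocalRing A] {d : ℕ}

/-- system of parameters (of length `d`) -/
def IsSOP (w : Fin d → A) : Prop :=
  (∀ i, w i ∈ maximalIdeal A) ∧ maximalIdeal A ≤ (Ideal.span (Set.range w)).radical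

/-- the ideal generated by all coordinates but the `i`-th -/
def J (w : Fin d → A) (i : Fin d) : Ideal A := Ideal.span (w '' {j | j ≠ i})

lemma span_range_update (w : Fin d → A) (i : Fin d) (t : A) :
    Ideal.span (Set.range (Function.update w i t)) = J w i ⊔ Ideal.span {t} := by
  apply le_antisymm
  · rw [Ideal.span_le]
    rintro _ ⟨j, rfl⟩
    by_cases hj : j = i
    · subst hj
      rw [Function.update_self]
      exact Ideal.mem_sup_right (Ideal.subset_span rfl)
    · rw [Function.update_of_ne hj]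
      exact Ideal.mem_sup_left (Ideal.subset_span ⟨j, hj, rfl⟩)
  · rw [sup_le_iff, J, Ideal.span_le, Ideal.span_le]
    constructor
    · rintro _ ⟨j, hj, rfl⟩
      exact Ideal.subset_span ⟨j, by rw [Function.update_of_ne hj]⟩
    · rintro _ rfl
      exact Ideal.subset_span ⟨i, by rw [Function.update_self]⟩

lemma span_range_eq (w : Fin d → A) (i : Fin d) :
    Ideal.span (Set.range w) = J w i ⊔ Ideal.span {w i} := by
  conv_lhs => rw [← Function.update_eq_self i w]
  exact span_range_update w i (w i)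


lemma isSOP_update [IsNoetherianRing A] (w : Fin d → A) (hw : IsSOP w) (i : Fin d) (t : A)
    (ht : t ∈ maximalIdeal A) (havoid : ∀ p ∈ (J w i).minimalPrimes, t ∉ p) :
    IsSOP (Function.update w i t) := by
  refine ⟨fun j ↦ ?_, ?_⟩
  · by_cases hj : j = i
    · subst hj; rwa [Function.update_self]
    · rw [Function.update_of_ne hj]; exact hw.1 j
  rw [span_range_update, Ideal.radical_eq_sInf, le_sInf_iff]
  rintro q ⟨hq, hqprime⟩
  by_contra hmq
  have hqm : q < maximalIdeal A := lt_of_le_of_ne (le_maximalIdeal hqprime.ne_top) (fun h ↦ hmq h.ge)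
  obtain ⟨p, hp, hpq⟩ := Ideal.exists_minimalPrimes_le (le_sup_left.trans hq)
  have hpprime : p.IsPrime := hp.1.1
  have htq : t ∈ q := hq (Ideal.mem_sup_right (Ideal.subset_span rfl))
  have hpq' : p < q := lt_of_le_of_ne hpq (fun h ↦ havoid p hp (h ▸ htq))
  have hJp : J w i ≤ p := hp.1.2
  -- the maximal ideal is minimal over J + (w i)
  have hm : maximalIdeal A ∈ (J w i ⊔ Ideal.span {w i}).minimalPrimes := by
    refine ⟨⟨inferInstance, ?_⟩, ?_⟩
    · rw [← span_range_eq, Ideal.span_le]
      rintro _ ⟨j, rfl⟩; exact hw.1 j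
    · rintro q' ⟨hq'prime, hq'le⟩ _
      rw [← span_range_eq] at hq'le
      exact hw.2.trans (hq'prime.radical_le_iff.mpr hq'le)
  have h1 := Ideal.map_height_le_one_of_mem_minimalPrimes hm
  set f := Ideal.Quotient.mk (J w i) with hf
  have hfs : Function.Surjective f := Ideal.Quotient.mk_surjective
  have hker : RingHom.ker f = J w i := Ideal.mk_ker
  have hp' : (p.map f).IsPrime := Ideal.map_isPrime_of_surjective hfs (hker.le.trans hJp)
  have hq' : (q.map f).IsPrime := Ideal.map_isPrime_of_surjective hfs (hker.le.trans (hJp.trans hpq))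
  have hcomap : ∀ a : Ideal A, J w i ≤ a → (a.map f).comap f = a := by
    intro a ha
    rw [Ideal.comap_map_of_surjective f hfs, ← RingHom.ker_eq_comap_bot, hker, sup_eq_left.mpr ha]
  have hlt1 : p.map f < q.map f := by
    refine lt_of_le_of_ne (Ideal.map_mono hpq) (fun h ↦ hpq'.ne ?_)
    rw [← hcomap p hJp, ← hcomap q (hJp.trans hpq), h]
  have hlt2 : q.map f < (maximalIdeal A).map f := by
    refine lt_of_le_of_ne (Ideal.map_mono hqm.le) (fun h ↦ hqm.ne ?_)
    rw [← hcomap q (hJp.trans hpq), ← hcomap (maximalIdeal A) (hJp.trans (hpq.trans hqm.le)), h]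
  have h2 := Ideal.height_strict_mono_of_isPrime hlt1
  have h3 := Ideal.height_strict_mono_of_isPrime hlt2
  have h4 : (1 : ℕ∞) ≤ (q.map f).height := Order.one_le_iff_pos.mpr (lt_of_le_of_lt zero_le h2)
  have h5 : (q.map f).height < 1 := lt_of_lt_of_le h3 h1
  exact absurd h4 (not_le.mpr h5)


lemma not_le_of_mem_minimalPrimes [IsNoetherianRing A] (hd : ringKrullDim A = d) (w : Fin d → A)
    (i : Fin d) (p : Ideal A) (hp : p ∈ (J w i).minimalPrimes) : ¬ maximalIdeal A ≤ p := by
  intro hmp
  have hpprime : p.IsPrime := hp.1.1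
  have hpm : p = maximalIdeal A := le_antisymm (le_maximalIdeal hpprime.ne_top) hmp
  have h1 : p.height ≤ (w '' {j | j ≠ i}).ncard :=
    Ideal.height_le_card_of_mem_minimalPrimes_span (Set.toFinite _) hp
  have h2 : (w '' {j | j ≠ i}).ncard ≤ d - 1 := by
    refine (Set.ncard_image_le (Set.toFinite _)).trans ?_
    have : ({j | j ≠ i} : Set (Fin d)) = {i}ᶜ := by ext; simp
    rw [this, Set.ncard_compl, Set.ncard_singleton, Nat.card_eq_fintype_card, Fintype.card_fin]
  have h3 : (p.height : WithBot ℕ∞) = d := by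
    rw [hpm, maximalIdeal_height_eq_ringKrullDim, hd]
  have h4 : (p.height : WithBot ℕ∞) ≤ ((d - 1 : ℕ) : ℕ∞) := by
    exact_mod_cast h1.trans (by exact_mod_cast h2)
  rw [h3] at h4
  have h5 : (d : ℕ∞) ≤ ((d - 1 : ℕ) : ℕ∞) := by exact_mod_cast h4
  have h6 : d ≤ d - 1 := by exact_mod_cast h5
  have : 0 < d := Fin.pos i
  omega


lemma exists_avoid [IsNoetherianRing A] (hd : ringKrullDim A = d) (u v : Fin d → A) (i : Fin d) :
    ∃ t ∈ maximalIdeal A, (∀ p ∈ (J u i).minimalPrimes, t ∉ p) ∧
      (∀ p ∈ (J v i).minimalPrimes, t ∉ p) := by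
  classical
  have hfin : ((J u i).minimalPrimes ∪ (J v i).minimalPrimes).Finite :=
    (Ideal.finite_minimalPrimes_of_isNoetherianRing A _).union
      (Ideal.finite_minimalPrimes_of_isNoetherianRing A _)
  set S := hfin.toFinset with hS
  have hprime : ∀ p ∈ S, p.IsPrime := by
    intro p hp
    rw [hS, Set.Finite.mem_toFinset] at hp
    rcases hp with hp | hp <;> exact hp.1.1
  have hnot : ¬ ((maximalIdeal A : Set A) ⊆ ⋃ p ∈ (S : Set (Ideal A)), (p : Set A)) := by
    intro h
    obtain ⟨p, hpS, hmp⟩ := (Ideal.subset_union_prime (f := fun p : Ideal A ↦ p) (maximalIdeal A)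
      (maximalIdeal A) (fun p hp _ _ ↦ hprime p hp)).mp h
    rw [hS, Set.Finite.mem_toFinset] at hpS
    rcases hpS with hp | hp
    · exact not_le_of_mem_minimalPrimes hd u i p hp hmp
    · exact not_le_of_mem_minimalPrimes hd v i p hp hmp
  rw [Set.not_subset] at hnot
  obtain ⟨t, htm, htS⟩ := hnot
  simp only [Set.mem_iUnion, not_exists] at htS
  refine ⟨t, htm, fun p hp htp ↦ htS p ?_ htp, fun p hp htp ↦ htS p ?_ htp⟩
  · rw [Finset.mem_coe, hS, Set.Finite.mem_toFinset]; exact Or.inl hp
  · rw [Finset.mem_coe, hS, Set.Finite.mem_toFinset]; exact Or.inr hp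


/-- one-coordinate-change relation on systems of parameters -/
def Step (a b : {w : Fin d → A // IsSOP w}) : Prop :=
  ∃ i : Fin d, ∀ i' : Fin d, i' ≠ i → a.1 i' = b.1 i'

open Classical in
theorem reflTransGen_step [IsNoetherianRing A] (hd : ringKrullDim A = d) :
    ∀ (n : ℕ) (u v : Fin d → A) (hu : IsSOP u) (hv : IsSOP v),
      (Finset.univ.filter (fun j ↦ u j ≠ v j)).card = n →
      Relation.ReflTransGen Step (⟨u, hu⟩ : {w : Fin d → A // IsSOP w}) ⟨v, hv⟩ := by
  intro n
  induction n using Nat.strong_induction_on with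
  | _ n ih =>
  intro u v hu hv hn
  by_cases huv : u = v
  · subst huv; exact Relation.ReflTransGen.refl
  · obtain ⟨i, hi⟩ : ∃ i, u i ≠ v i := by
      by_contra h; exact huv (funext fun j ↦ not_not.mp (not_exists.mp h j))
    obtain ⟨t, htm, htu, htv⟩ := exists_avoid hd u v i
    have hu' := isSOP_update u hu i t htm htu
    have hv' := isSOP_update v hv i t htm htv
    have hcard : (Finset.univ.filter
        (fun j ↦ Function.update u i t j ≠ Function.update v i t j)).card < n := by
      rw [← hn]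
      apply Finset.card_lt_card
      refine ⟨fun j hj ↦ ?_, fun h ↦ ?_⟩
      · rw [Finset.mem_filter] at hj ⊢
        refine ⟨Finset.mem_univ _, ?_⟩
        by_cases hji : j = i
        · subst hji; simp at hj
        · simpa [Function.update_of_ne hji] using hj.2
      · have := h (Finset.mem_filter.mpr ⟨Finset.mem_univ i, hi⟩)
        simp at this
    have key := ih _ hcard (Function.update u i t) (Function.update v i t) hu' hv' rfl
    have s1 : Step (⟨u, hu⟩ : {w : Fin d → A // IsSOP w}) ⟨Function.update u i t, hu'⟩ :=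
      ⟨i, fun i' hi' ↦ (Function.update_of_ne hi' _ _).symm⟩
    have s2 : Step (⟨Function.update v i t, hv'⟩ : {w : Fin d → A // IsSOP w}) ⟨v, hv⟩ :=
      ⟨i, fun i' hi' ↦ Function.update_of_ne hi' _ _⟩
    exact (Relation.ReflTransGen.head s1 key).tail s2


lemma exists_chain_of_reflTransGen {α : Type u} {r : α → α → Prop} {a b : α}
    (h : Relation.ReflTransGen r a b) :
    ∃ (m : ℕ) (w : Fin (m + 1) → α), w 0 = a ∧ w (Fin.last m) = b ∧
      ∀ k : Fin m, r (w k.castSucc) (w k.succ) := by
  induction h using Relation.ReflTransGen.head_induction_on with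
  | refl => exact ⟨0, fun _ ↦ b, rfl, rfl, fun k ↦ k.elim0⟩
  | head hac hcb ih =>
    obtain ⟨m, w, h0, hl, hs⟩ := ih
    refine ⟨m + 1, Fin.cons _ w, rfl, ?_, ?_⟩
    · rw [← Fin.succ_last, Fin.cons_succ]; exact hl
    · intro k
      refine Fin.cases ?_ (fun k' ↦ ?_) k
      · rw [Fin.castSucc_zero, Fin.cons_zero, Fin.cons_succ, h0]; exact hac
      · rw [← Fin.succ_castSucc, Fin.cons_succ, Fin.cons_succ]; exact hs k'

end Helpers

/-- Suppose A is a Cohen–Macaulay local ring whose Krull dimension is d, and consider two systems of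
parameters u = (u_1, ..., u_d) and v = (v_1, ..., v_d) of A (that is, d-tuples of elements of the
maximal ideal m such that the ideal they generate has radical m). Then one can find a finite
sequence w_0 = u, w_1, ..., w_m = v, each term a system of parameters of A, where w_{k+1} arises
from w_k by altering just one coordinate. -/
theorem result (A : Type u) [CommRing A] [LocCoh.IsCohenMacaulayLocalRing A]
    (d : ℕ) (hd : ringKrullDim A = d) (u v : Fin d → A)
    (hu : ∀ i, u i ∈ IsLocalRing.maximalIdeal A) (hu' : IsLocalRing.maximalIdeal A ≤ (Ideal.span (Set.range u)).radical)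
    (hv : ∀ i, v i ∈ IsLocalRing.maximalIdeal A) (hv' : IsLocalRing.maximalIdeal A ≤ (Ideal.span (Set.range v)).radical) :
    ∃ (m : ℕ) (w : Fin (m + 1) → Fin d → A), w 0 = u ∧ w (Fin.last m) = v ∧
      (∀ k : Fin (m + 1), (∀ i, w k i ∈ IsLocalRing.maximalIdeal A) ∧
        IsLocalRing.maximalIdeal A ≤ (Ideal.span (Set.range (w k))).radical) ∧
      (∀ k : Fin m, ∃ i : Fin d, ∀ i' : Fin d, i' ≠ i → w k.castSucc i' = w k.succ i') := by
  have h := reflTransGen_step hd _ u v ⟨hu, hu'⟩ ⟨hv, hv'⟩ rfl
  obtain ⟨m, w, h0, hl, hs⟩ := exists_chain_of_reflTransGen h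
  refine ⟨m, fun k ↦ (w k).1, ?_, ?_, fun k ↦ (w k).2, fun k ↦ hs k⟩
  · exact congrArg Subtype.val h0
  · exact congrArg Subtype.val hl

end Groth.Agent.S8586
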