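import Groth.Statements.S8591
import Mathlib.RingTheory.Polynomial.Resultant.Basic
import Mathlib.RingTheory.Norm.Basic
import Mathlib.LinearAlgebra.Matrix.Charpoly.Minpoly
import Mathlib.LinearAlgebra.Charpoly.ToMatrix
import Mathlib.LinearAlgebra.Matrix.Charpoly.Coeff

set_option autoImplicit false
universe u
open CAlg

namespace Groth.Agent.S8591

section Helpers
open Polynomial

/-- base change of `aeval` on matrices -/
lemma mapMatrix_aeval {R S : Type u} [CommRing R] [CommRing S] (φ : R →+* S) {n : ℕ}
    (A : Matrix (Fin n) (Fin n) R) (p : R[X]) :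
    φ.mapMatrix (aeval A p) = aeval (A.map φ) (p.map φ) := by
  rw [aeval_def, aeval_def, hom_eval₂, eval₂_map]
  congr 1
  ext r i j
  simp [Matrix.algebraMap_matrix_apply]
  split_ifs <;> simp

/-- the matrix of multiplication by `X` on `R[X]/χ` in the basis `1, X, …, X^(n-1)`. -/
noncomputable def comp {R : Type u} [CommRing R] (χ : R[X]) (n : ℕ) : Matrix (Fin n) (Fin n) R :=
  Matrix.of fun i j => ((X : R[X]) ^ ((j : ℕ) + 1) %ₘ χ).coeff i

lemma comp_map {R S : Type u} [CommRing R] [CommRing S] (φ : R →+* S) (χ : R[X]) (hχ : χ.Monic)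
    (n : ℕ) : (comp χ n).map φ = comp (χ.map φ) n := by
  ext i j
  simp only [comp, Matrix.map_apply, Matrix.of_apply]
  rw [← coeff_map, map_modByMonic _ hχ, Polynomial.map_pow, map_X]


/-- the reindexed power basis of `AdjoinRoot χ`. -/
noncomputable def bas {R : Type u} [CommRing R] (χ : R[X]) (hχ : χ.Monic) (n : ℕ)
    (h : χ.natDegree = n) : Module.Basis (Fin n) R (AdjoinRoot χ) :=
  (AdjoinRoot.powerBasisAux' hχ).reindex (finCongr h)

lemma bas_apply {R : Type u} [CommRing R] (χ : R[X]) (hχ : χ.Monic) (n : ℕ)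
    (h : χ.natDegree = n) (i : Fin n) : bas χ hχ n h i = AdjoinRoot.root χ ^ (i : ℕ) := by
  rw [bas, Module.Basis.reindex_apply]
  have := (AdjoinRoot.powerBasis' hχ).basis_eq_pow ((finCongr h).symm i)
  have h2 : (AdjoinRoot.powerBasisAux' hχ) ((finCongr h).symm i) =
      AdjoinRoot.root χ ^ (((finCongr h).symm i : Fin χ.natDegree) : ℕ) := this
  rw [h2]
  simp

lemma leftMulMatrix_root {R : Type u} [CommRing R] (χ : R[X]) (hχ : χ.Monic) (n : ℕ)
    (h : χ.natDegree = n) :
    Algebra.leftMulMatrix (bas χ hχ n h) (AdjoinRoot.root χ) = comp χ n := by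
  ext i j
  rw [Algebra.leftMulMatrix_eq_repr_mul, bas_apply]
  simp only [comp, Matrix.of_apply]
  rw [bas, Module.Basis.repr_reindex_apply, AdjoinRoot.powerBasisAux'_repr_apply_to_fun]
  have : AdjoinRoot.root χ * AdjoinRoot.root χ ^ (j : ℕ) = AdjoinRoot.mk χ (X ^ ((j : ℕ) + 1)) := by
    rw [map_pow, AdjoinRoot.mk_X, pow_succ']
  rw [this, AdjoinRoot.modByMonicHom_mk]
  simp

lemma norm_mk_eq {R : Type u} [CommRing R] (χ : R[X]) (hχ : χ.Monic) (n : ℕ)
    (h : χ.natDegree = n) (p : R[X]) :
    Algebra.norm R (AdjoinRoot.mk χ p) = (aeval (comp χ n) p).det := by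
  rw [Algebra.norm_eq_matrix_det (bas χ hχ n h), ← leftMulMatrix_root χ hχ n h,
    ← AdjoinRoot.aeval_eq, aeval_algHom_apply]

/-- `comp χ n` has characteristic polynomial `χ` over a field. -/
lemma charpoly_comp {K : Type u} [Field K] (χ : K[X]) (hχ : χ.Monic) (n : ℕ)
    (h : χ.natDegree = n) : (comp χ n).charpoly = χ := by
  let pb : PowerBasis K (AdjoinRoot χ) :=
    { gen := AdjoinRoot.root χ
      dim := n
      basis := bas χ hχ n h
      basis_eq_pow := bas_apply χ hχ n h }
  have := charpoly_leftMulMatrix pb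
  change (Algebra.leftMulMatrix (bas χ hχ n h) (AdjoinRoot.root χ)).charpoly =
    minpoly K (AdjoinRoot.root χ) at this
  rw [leftMulMatrix_root, AdjoinRoot.minpoly_root hχ.ne_zero, hχ.leadingCoeff] at this
  simpa using this


lemma det_aeval_X_sub_C {K : Type u} [CommRing K] {n : ℕ} (A : Matrix (Fin n) (Fin n) K) (β : K) :
    (aeval A (X - C β)).det = (-1) ^ n * A.charpoly.eval β := by
  rw [Matrix.eval_charpoly, map_sub, aeval_X, aeval_C, ← neg_sub, Matrix.det_neg]
  simp only [Matrix.algebraMap_eq_diagonal, Matrix.scalar_apply, Fintype.card_fin]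
  rfl

lemma det_aeval_C {K : Type u} [CommRing K] {n : ℕ} (A : Matrix (Fin n) (Fin n) K) (c : K) :
    (aeval A (C c)).det = c ^ n := by
  rw [aeval_C, Matrix.algebraMap_eq_diagonal]
  simp

lemma det_aeval_eq_of_splits {K : Type u} [Field K] {n : ℕ} (A B : Matrix (Fin n) (Fin n) K)
    (h : A.charpoly = B.charpoly) (p : K[X]) (hp : p.Splits) :
    (aeval A p).det = (aeval B p).det := by
  have key : ∀ s : Multiset K, (aeval A (s.map (fun a => X - C a)).prod).det =
      (aeval B (s.map (fun a => X - C a)).prod).det := by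
    intro s
    induction s using Multiset.induction_on with
    | empty => simp
    | cons a s ih =>
      simp only [Multiset.map_cons, Multiset.prod_cons, map_mul, Matrix.det_mul, ih,
        det_aeval_X_sub_C, h]
  rw [hp.eq_prod_roots]
  simp only [map_mul, Matrix.det_mul, det_aeval_C, key]


theorem det_aeval_comp {R : Type u} [CommRing R] (p : R[X]) :
    ∀ (n : ℕ) (A : Matrix (Fin n) (Fin n) R),
      (aeval (comp A.charpoly n) p).det = (aeval A p).det := by
  induction p using induction_of_Splits_of_injective_of_surjective with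
  | Splits K p hp =>
    intro n A
    exact det_aeval_eq_of_splits _ _ (charpoly_comp _ (Matrix.charpoly_monic A) n
      (by simp [Matrix.charpoly_natDegree_eq_dim])) p hp
  | injective R S φ hφ p IH =>
    intro n A
    apply hφ
    have := IH n (A.map φ)
    rw [Matrix.charpoly_map, ← comp_map φ _ (Matrix.charpoly_monic A), ← mapMatrix_aeval,
      ← mapMatrix_aeval] at this
    rw [RingHom.map_det, RingHom.map_det]
    exact this
  | surjective R S φ hφ p IH =>
    intro n A
    obtain ⟨q, rfl⟩ := Polynomial.map_surjective φ hφ p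
    obtain ⟨A', rfl⟩ : ∃ A' : Matrix (Fin n) (Fin n) R, A'.map φ = A :=
      ⟨fun i j => (hφ (A i j)).choose, by ext i j; exact (hφ (A i j)).choose_spec⟩
    have := congrArg φ (IH q n A')
    rw [RingHom.map_det, RingHom.map_det, mapMatrix_aeval, mapMatrix_aeval,
      comp_map _ _ (Matrix.charpoly_monic _), ← Matrix.charpoly_map] at this
    exact this


end Helpers

/-- Let k be a commutative ring, M a finite free k-module, u an endomorphism of M with characteristic
polynomial χ, and P a polynomial over k. Then the norm, from the k-algebra k[T]/(χ) (free of rank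
the rank of M) down to k, of the class of P(T) equals det(P(u)). (The published statement writes the
quotient by det(u - T), which generates the same ideal as χ(T) = det(T - u).) -/
theorem result (k : Type u) [CommRing k] (M : Type u) [AddCommGroup M] [Module k M]
    [Module.Free k M] [Module.Finite k M] (u : M →ₗ[k] M) (P : Polynomial k) :
    Algebra.norm k (AdjoinRoot.mk u.charpoly P) = LinearMap.det (Polynomial.aeval u P) := by
  cases subsingleton_or_nontrivial k
  · exact Subsingleton.elim _ _
  let b : Module.Basis (Fin (Module.finrank k M)) k M := Module.finBasis k M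
  have hχ : u.charpoly = (LinearMap.toMatrix b b u).charpoly := (LinearMap.charpoly_toMatrix u b).symm
  have hdeg : u.charpoly.natDegree = Module.finrank k M := LinearMap.charpoly_natDegree u
  rw [norm_mk_eq _ (LinearMap.charpoly_monic u) _ hdeg, hχ, det_aeval_comp P _ _,
    ← LinearMap.det_toMatrix b]
  congr 1
  exact (Polynomial.aeval_algHom_apply (LinearMap.toMatrixAlgEquiv b).toAlgHom u P)

end Groth.Agent.S8591
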