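import Groth.Statements.S8598
import Groth.Agent.Lib.Helper70.StalkCons
import Groth.Agent.Lib.Helper70.StalkPull
import Groth.Agent.Lib.Helper47.EtRestr

set_option autoImplicit false
universe u
open CategoryTheory CategoryTheory.Limits AlgebraicGeometry Opposite
open EtDl

namespace Groth.Agent.S8598

/-- Let u : X -> Y be an etale, separated morphism of finite type that is surjective, and F an abelian
sheaf on Y_et. The sheaves F_n = (u_n)_! u_n^* F built from the iterated fibre powers of X over Y
form a left resolution of F; in particular (the part stated here) the augmentation u_! u^* F -> F,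
which is the counit of the adjunction between extension by zero u_! and restriction u^*, is an
epimorphism. (The continuity of V ↦ (V -> X -> Y) between the small etale sites is carried as an
instance hypothesis, the prelude's convention for extension by zero along an etale morphism.) -/
theorem result {X Y : Scheme.{u}} (u : X ⟶ Y) [Etale u] [IsSeparated u]
    [LocallyOfFiniteType u] [QuasiCompact u] [Surjective u] [EtShriek.JCont u] (F : EtCoh.Ab Y) :
    Epi ((EtShriek.extZeroAdj u).counit.app F) := by
  obtain ⟨c, hc⟩ : ∃ c : (EtShriek.extZero u).obj ((EtShriek.restrAlong u).obj F) ⟶ F,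
    c = (EtShriek.extZeroAdj u).counit.app F := ⟨_, rfl⟩
  rw [← hc]
  apply Preadditive.epi_of_isZero_cokernel
  -- the restriction of `c` to `X` is a split epimorphism
  have htri : (EtShriek.extZeroAdj u).unit.app ((EtShriek.restrAlong u).obj F) ≫
      (EtShriek.restrAlong u).map c = 𝟙 _ := by
    rw [hc]; exact (EtShriek.extZeroAdj u).right_triangle_components F
  haveI : IsSplitEpi ((EtShriek.restrAlong u).map c) := ⟨⟨⟨_, htri⟩⟩⟩
  haveI : PreservesColimitsOfSize.{0, 0} (EtShriek.restrAlong u) :=
    (Groth.Agent.Lib.Helper47.EtRestr.restrPushAdj u).leftAdjoint_preservesColimits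
  haveI : (EtShriek.restrAlong u).IsLeftAdjoint :=
    (Groth.Agent.Lib.Helper47.EtRestr.restrPushAdj u).isLeftAdjoint
  have hz : IsZero ((EtShriek.restrAlong u).obj (cokernel c)) := by
    refine IsZero.of_iso ?_ (PreservesCokernel.iso (EtShriek.restrAlong u) c)
    exact isZero_cokernel_of_epi _
  apply Groth.Agent.Lib.Helper70.StalkCons.isZero_of_stalks
  intro Ω _ _ ξ
  obtain ⟨x, hx⟩ := (inferInstance : Surjective u).surj (ξ.base default)
  obtain ⟨l, hl1, hl2⟩ := Scheme.exists_fac_of_etale_of_isSepClosed u ξ x hx
  obtain ⟨e⟩ := Groth.Agent.Lib.Helper70.StalkPull.nonempty_stalk_pull_iso u l (cokernel c)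
  rw [hl1] at e
  refine IsZero.of_iso ?_ e.symm
  apply Functor.map_isZero
  exact IsZero.of_iso hz ((Groth.Agent.Lib.Helper47.EtRestr.pullIsoRestr u).app (cokernel c))

end Groth.Agent.S8598
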