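import Groth.Statements.S8604
import Mathlib
-- import your own Groth.Agent.* helpers here

set_option autoImplicit false
universe u
open CAlg

namespace Groth.Agent.S8604

open Polynomial

section poly
variable (p : ℕ) [Fact p.Prime] (k : Type u) [Field k] [IsAlgClosed k] [CharP k p]

theorem coeff_pow_char (f : k[X]) (m : ℕ) :
    (f ^ p).coeff m = if p ∣ m then (f.coeff (m / p)) ^ p else 0 := by
  rw [← Polynomial.map_frobenius_expand p f, coeff_map, coeff_expand (Fact.out : p.Prime).pos]
  split_ifs <;> simp [frobenius_def, (Fact.out : p.Prime).ne_zero]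

/-- the recursive additive polynomials -/
noncomputable def XP (c : ℕ → k) : ℕ → k[X]
  | 0 => C (c 0) * X ^ p
  | (i+1) => (XP c i) ^ p + C (c (i+1)) * X ^ p

theorem XP_coeff_zero (c : ℕ → k) (i : ℕ) : (XP p k c i).coeff 0 = 0 := by
  have hp := (Fact.out : p.Prime)
  induction i with
  | zero => simp [XP, coeff_X_pow, hp.ne_zero.symm]
  | succ i ih =>
    simp only [XP, coeff_add, coeff_pow_char, coeff_C_mul, coeff_X_pow]
    simp [ih, hp.ne_zero, hp.ne_zero.symm]

theorem XP_coeff_one (c : ℕ → k) (i : ℕ) : (XP p k c i).coeff 1 = 0 := by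
  have hp := (Fact.out : p.Prime)
  have h1 : ¬ p ∣ 1 := hp.not_dvd_one
  cases i with
  | zero => simp [XP, coeff_X_pow, hp.one_lt.ne]
  | succ i =>
    simp only [XP, coeff_add, coeff_pow_char, coeff_C_mul, coeff_X_pow]
    simp [h1, hp.one_lt.ne]

theorem XP_eq_zero (c : ℕ → k) (i : ℕ) (h : XP p k c i = 0) : ∀ j ≤ i, c j = 0 := by
  have hp := (Fact.out : p.Prime)
  induction i with
  | zero =>
    intro j hj
    obtain rfl : j = 0 := Nat.le_zero.mp hj
    simpa [XP, hp.ne_zero] using h
  | succ i ih =>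
    have h1 : c (i+1) = 0 := by
      have := congrArg (fun f => f.coeff p) h
      simp only [XP, coeff_add, coeff_pow_char, coeff_C_mul, coeff_X_pow, dvd_refl, if_true,
        Nat.div_self hp.pos, XP_coeff_one, coeff_zero] at this
      simpa [hp.ne_zero] using this
    have h2 : XP p k c i = 0 := by
      have h' := h
      simp only [XP, h1, map_zero, zero_mul, add_zero] at h'
      exact pow_eq_zero_iff hp.ne_zero |>.mp h'
    intro j hj
    rcases Nat.le_succ_iff.mp hj with hj | rfl
    · exact ih h2 j hj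
    · exact h1

theorem exists_root (c : ℕ → k) (n : ℕ) (hc : ∃ j ≤ n, c j ≠ 0) :
    ∃ t : k, t ≠ 0 ∧ (XP p k c n).eval t = t := by
  obtain ⟨P, hP⟩ : ∃ P : k[X], P = XP p k c n - X := ⟨_, rfl⟩
  have h0 : P.coeff 0 = 0 := by simp [hP, XP_coeff_zero]
  have h1 : P.coeff 1 = -1 := by simp [hP, XP_coeff_one]
  obtain ⟨Q, hQ⟩ : X ∣ P := X_dvd_iff.mpr h0
  have hQ0 : Q.coeff 0 = -1 := by
    have := coeff_X_mul Q 0
    rw [zero_add, ← hQ, h1] at this
    exact this.symm
  have hXP : XP p k c n = P + X := by simp [hP]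
  have hdeg : Q.degree ≠ 0 := by
    intro hd
    have hQC : Q = C (-1) := by rw [eq_C_of_degree_eq_zero hd, hQ0]
    have : XP p k c n = 0 := by
      rw [hXP, hQ, hQC]; simp
    obtain ⟨j, hj, hcj⟩ := hc
    exact hcj (XP_eq_zero p k c n this j hj)
  obtain ⟨t, ht⟩ := IsAlgClosed.exists_root Q hdeg
  refine ⟨t, ?_, ?_⟩
  · rintro rfl
    rw [IsRoot.def, ← coeff_zero_eq_eval_zero, hQ0] at ht
    simp at ht
  · have : P.eval t = 0 := by rw [hQ, eval_mul, ht, mul_zero]
    rw [hXP, eval_add, this, zero_add, eval_X]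

theorem AS (a : k) : ∃ b : k, b ^ p - b = a := by
  have hp := (Fact.out : p.Prime)
  have hlt : (X + C a : k[X]).degree < (X ^ p : k[X]).degree := by
    rw [degree_X_add_C, degree_X_pow]; exact_mod_cast hp.one_lt
  have hdeg : (X ^ p - (X + C a) : k[X]).degree ≠ 0 := by
    rw [degree_sub_eq_left_of_degree_lt hlt, degree_X_pow]; exact_mod_cast hp.ne_zero
  obtain ⟨b, hb⟩ := IsAlgClosed.exists_root _ hdeg
  refine ⟨b, ?_⟩
  simp only [IsRoot.def, eval_sub, eval_pow, eval_X, eval_add, eval_C] at hb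
  linear_combination hb

theorem fixed_intCast (a : k) (ha : a ^ p = a) : ∃ n : ℤ, (n : k) = a :=
  (mem_bot_iff_intCast p k).mp ((Subfield.mem_bot_iff_pow_eq_self k p).mpr ha)

theorem exists_fixed_or_killed {W : Type u} [AddCommGroup W] [Module k W] [FiniteDimensional k W]
    [Nontrivial W] (G : W →ₛₗ[frobenius k p] W) : ∃ w : W, w ≠ 0 ∧ (G w = 0 ∨ G w = w) := by
  classical
  have hp := (Fact.out : p.Prime)
  obtain ⟨v, hv⟩ := exists_ne (0 : W)
  by_cases hnil : ∃ m, (⇑G)^[m] v = 0
  · have hm0 : Nat.find hnil ≠ 0 := by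
      intro h0
      have := Nat.find_spec hnil
      rw [h0] at this
      exact hv this
    obtain ⟨m1, hm1⟩ := Nat.exists_eq_succ_of_ne_zero hm0
    refine ⟨(⇑G)^[m1] v, ?_, Or.inl ?_⟩
    · intro h
      exact Nat.find_min hnil (by omega : m1 < Nat.find hnil) h
    · have := Nat.find_spec hnil
      rw [hm1, Function.iterate_succ_apply'] at this
      exact this
  · push Not at hnil
    let S : ℕ → Submodule k W := fun r =>
      Submodule.span k (Set.range (fun i : Fin r => (⇑G)^[(i : ℕ)] v))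
    have hSmono : Monotone S := by
      apply monotone_nat_of_le_succ
      intro r
      apply Submodule.span_mono
      rintro _ ⟨i, rfl⟩
      exact ⟨i.castSucc, by simp⟩
    obtain ⟨r0, hr0⟩ := monotone_stabilizes_iff_noetherian.mpr
      (inferInstance : IsNoetherian k W) ⟨S, hSmono⟩
    have hex : ∃ r, (⇑G)^[r] v ∈ S r := by
      refine ⟨r0, ?_⟩
      have h1 : S r0 = S (r0+1) := hr0 (r0+1) (Nat.le_succ _)
      rw [h1]
      exact Submodule.subset_span ⟨Fin.last r0, by simp⟩
    have hr_ne : Nat.find hex ≠ 0 := by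
      intro h0
      have := Nat.find_spec hex
      rw [h0] at this
      have hS0 : S 0 = ⊥ := by simp [S]
      rw [hS0, Submodule.mem_bot] at this
      exact hv this
    obtain ⟨r1, hr1⟩ := Nat.exists_eq_succ_of_ne_zero hr_ne
    rw [Nat.succ_eq_add_one] at hr1
    have hspec := Nat.find_spec hex
    rw [hr1] at hspec
    have hmin : (⇑G)^[r1] v ∉ S r1 := Nat.find_min hex (by omega)
    obtain ⟨c0, hc0⟩ := (Submodule.mem_span_range_iff_exists_fun k).mp hspec
    obtain ⟨c, hc⟩ : ∃ c : ℕ → k, c = fun i => if h : i < r1 + 1 then c0 ⟨i, h⟩ else 0 := ⟨_, rfl⟩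
    have hrel : (⇑G)^[r1+1] v = ∑ i ∈ Finset.range (r1+1), c i • (⇑G)^[i] v := by
      rw [← hc0, ← Fin.sum_univ_eq_sum_range (fun i => c i • (⇑G)^[i] v) (r1+1)]
      refine Finset.sum_congr rfl fun i _ => ?_
      have hi : (i : ℕ) < r1 + 1 := i.2
      rw [hc]
      simp only [dif_pos hi, Fin.eta]
    have hcne : ∃ j ≤ r1, c j ≠ 0 := by
      by_contra hall
      push Not at hall
      apply hnil (r1+1)
      rw [hrel]
      refine Finset.sum_eq_zero fun i hi => ?_
      rw [hall i (by have := Finset.mem_range.mp hi; omega), zero_smul]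
    obtain ⟨t, ht0, ht⟩ := exists_root p k c r1 hcne
    obtain ⟨x, hx0, hxs, hxr⟩ : ∃ x : ℕ → k, x 0 = c 0 * t ^ p ∧
        (∀ i, x (i+1) = (x i) ^ p + c (i+1) * t ^ p) ∧ x r1 = t :=
      ⟨fun i => (XP p k c i).eval t, by simp [XP], by intro i; simp [XP], ht⟩
    obtain ⟨w, hw⟩ : ∃ w : W, w = ∑ i ∈ Finset.range (r1+1), x i • (⇑G)^[i] v := ⟨_, rfl⟩
    refine ⟨w, ?_, Or.inr ?_⟩
    · intro hw0
      apply hmin
      have hw' : ∑ i ∈ Finset.range r1, x i • (⇑G)^[i] v + t • (⇑G)^[r1] v = 0 := by
        rw [← hw0, hw, Finset.sum_range_succ, hxr]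
      have h3 : t • (⇑G)^[r1] v = -∑ i ∈ Finset.range r1, x i • (⇑G)^[i] v :=
        eq_neg_of_add_eq_zero_right hw'
      have h4 : (⇑G)^[r1] v = t⁻¹ • (-∑ i ∈ Finset.range r1, x i • (⇑G)^[i] v) := by
        rw [← h3, smul_smul, inv_mul_cancel₀ ht0, one_smul]
      rw [h4]
      exact Submodule.smul_mem _ _ (Submodule.neg_mem _ (Submodule.sum_mem _ fun i hi =>
        Submodule.smul_mem _ _ (Submodule.subset_span ⟨⟨i, Finset.mem_range.mp hi⟩, rfl⟩)))
    · have h1 : ∀ i, G (x i • (⇑G)^[i] v) = (x i) ^ p • (⇑G)^[i+1] v := by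
        intro i
        rw [G.map_smulₛₗ, frobenius_def, Function.iterate_succ_apply']
      rw [hw, map_sum]
      simp only [h1]
      rw [Finset.sum_range_succ, hrel, hxr,
        Finset.sum_range_succ' (fun i => c i • (⇑G)^[i] v),
        Finset.sum_range_succ' (fun i => x i • (⇑G)^[i] v)]
      simp only [hxs, hx0, smul_add, Finset.smul_sum, add_smul, Finset.sum_add_distrib, smul_smul,
        mul_comm (t ^ p)]
      abel

end poly

section main
variable (p : ℕ) [Fact p.Prime] (k : Type u) [Field k] [IsAlgClosed k] [CharP k p]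
  (V : Type u) [AddCommGroup V] [Module k V] [FiniteDimensional k V]
  (F : V →+ V)

theorem iter_smul (hF : ∀ (a : k) (v : V), F (a • v) = a ^ p • F v) (m : ℕ) (a : k) (v : V) :
    (⇑F)^[m] (a • v) = a ^ (p ^ m) • (⇑F)^[m] v := by
  induction m with
  | zero => simp
  | succ m ih =>
    rw [Function.iterate_succ_apply', ih, hF, Function.iterate_succ_apply', ← pow_mul, pow_succ]

theorem iter_sum {ι : Type*} (m : ℕ) (s : Finset ι) (f : ι → V) :
    (⇑F)^[m] (∑ i ∈ s, f i) = ∑ i ∈ s, (⇑F)^[m] (f i) := by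
  induction m with
  | zero => simp
  | succ m ih => simp only [Function.iterate_succ_apply', ih, map_sum]

/-- the vectors killed by an iterate form a subspace -/
def Nsub (hF : ∀ (a : k) (v : V), F (a • v) = a ^ p • F v) : Submodule k V where
  carrier := {v | ∃ m : ℕ, (⇑F)^[m] v = 0}
  add_mem' := by
    rintro a b ⟨m, hm⟩ ⟨n, hn⟩
    refine ⟨m + n, ?_⟩
    have h1 : (⇑F)^[m+n] a = 0 := by
      rw [add_comm, Function.iterate_add_apply, hm, iterate_map_zero]
    have h2 : (⇑F)^[m+n] b = 0 := by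
      rw [Function.iterate_add_apply, hn, iterate_map_zero]
    rw [iterate_map_add, h1, h2, add_zero]
  zero_mem' := ⟨0, rfl⟩
  smul_mem' := by
    rintro a v ⟨m, hm⟩
    exact ⟨m, by rw [iter_smul p k V F hF, hm, smul_zero]⟩

variable (hF : ∀ (a : k) (v : V), F (a • v) = a ^ p • F v)
include hF

theorem V0_stable (u : V) (hu : u ∈ Submodule.span k {v : V | F v = v}) :
    F u ∈ Submodule.span k {v : V | F v = v} := by
  induction hu using Submodule.span_induction with
  | mem x hx => rw [show F x = x from hx]; exact Submodule.subset_span hx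
  | zero => rw [map_zero]; exact Submodule.zero_mem _
  | add x y _ _ ihx ihy => rw [map_add]; exact Submodule.add_mem _ ihx ihy
  | smul a x _ ih => rw [hF]; exact Submodule.smul_mem _ _ ih

theorem V0_surj (u : V) (hu : u ∈ Submodule.span k {v : V | F v = v}) :
    ∃ u' ∈ Submodule.span k {v : V | F v = v}, F u' = u := by
  induction hu using Submodule.span_induction with
  | mem x hx => exact ⟨x, Submodule.subset_span hx, hx⟩
  | zero => exact ⟨0, Submodule.zero_mem _, map_zero F⟩
  | add x y _ _ ihx ihy =>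
    obtain ⟨x', hx', hx''⟩ := ihx
    obtain ⟨y', hy', hy''⟩ := ihy
    exact ⟨x' + y', Submodule.add_mem _ hx' hy', by rw [map_add, hx'', hy'']⟩
  | smul a x _ ih =>
    obtain ⟨x', hx', hx''⟩ := ih
    obtain ⟨b, hb⟩ := IsAlgClosed.exists_pow_nat_eq a (Fact.out : p.Prime).pos
    exact ⟨b • x', Submodule.smul_mem _ _ hx', by rw [hF, hb, hx'']⟩

theorem V0_AS (u : V) (hu : u ∈ Submodule.span k {v : V | F v = v}) :
    ∃ u' ∈ Submodule.span k {v : V | F v = v}, F u' - u' = u := by
  have key : ∀ a : k, ∃ u' ∈ Submodule.span k {v : V | F v = v}, F u' - u' = a • u := by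
    induction hu using Submodule.span_induction with
    | mem x hx =>
      intro a
      obtain ⟨b, hb⟩ := AS p k a
      exact ⟨b • x, Submodule.smul_mem _ _ (Submodule.subset_span hx), by
        rw [hF, show F x = x from hx, ← sub_smul, hb]⟩
    | zero => intro a; exact ⟨0, Submodule.zero_mem _, by simp⟩
    | add x y _ _ ihx ihy =>
      intro a
      obtain ⟨x', hx', hx''⟩ := ihx a
      obtain ⟨y', hy', hy''⟩ := ihy a
      exact ⟨x' + y', Submodule.add_mem _ hx' hy', by
        rw [map_add, smul_add, ← hx'', ← hy'']; abel⟩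
    | smul b x _ ih =>
      intro a
      obtain ⟨x', hx', hx''⟩ := ih (a * b)
      exact ⟨x', hx', by rw [hx'', mul_smul]⟩
  simpa using key 1

theorem V0_inj (u : V) (hu : u ∈ Submodule.span k {v : V | F v = v}) (m : ℕ)
    (hm : (⇑F)^[m] u = 0) : u = 0 := by
  have hp := (Fact.out : p.Prime)
  obtain ⟨b, hbs, hbspan, hbli⟩ := exists_linearIndependent k {v : V | F v = v}
  rw [← hbspan] at hu
  obtain ⟨l, hl⟩ := (Finsupp.mem_span_iff_linearCombination k b u).mp hu
  rw [Finsupp.linearCombination_apply, Finsupp.sum] at hl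
  have hFm : (⇑F)^[m] u = ∑ i ∈ l.support, (l i) ^ (p ^ m) • (i : V) := by
    rw [← hl, iter_sum]
    refine Finset.sum_congr rfl fun i _ => ?_
    rw [iter_smul p k V F hF, Function.iterate_fixed (hbs i.2)]
  have hli : ∀ i ∈ l.support, l i = 0 := fun i hi =>
    (pow_eq_zero_iff (pow_ne_zero m hp.ne_zero)).mp
      (linearIndependent_iff'.mp hbli l.support (fun i => (l i) ^ (p ^ m))
        (by rw [← hFm, hm]) i hi)
  rw [← hl]
  exact Finset.sum_eq_zero fun i hi => by rw [hli i hi, zero_smul]

theorem N_AS (m : ℕ) : ∀ n : V, (⇑F)^[m] n = 0 →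
    ∃ n' ∈ Nsub p k V F hF, F n' - n' = n := by
  induction m with
  | zero =>
    intro n hn
    refine ⟨0, Submodule.zero_mem _, ?_⟩
    simp only [Function.iterate_zero, id_eq] at hn
    simp [hn]
  | succ m ih =>
    intro n hn
    have hnN : n ∈ Nsub p k V F hF := ⟨m+1, hn⟩
    rw [Function.iterate_succ_apply] at hn
    obtain ⟨n'', hn'', h⟩ := ih (F n) hn
    refine ⟨n'' - n, Submodule.sub_mem _ hn'' hnN, ?_⟩
    rw [map_sub]
    calc F n'' - F n - (n'' - n) = (F n'' - n'') - F n + n := by abel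
      _ = n := by rw [h]; abel

theorem sup_eq_top : Submodule.span k {v : V | F v = v} ⊔ Nsub p k V F hF = ⊤ := by
  by_contra hne
  obtain ⟨U, hUdef⟩ : ∃ U : Submodule k V,
      U = Submodule.span k {v : V | F v = v} ⊔ Nsub p k V F hF := ⟨_, rfl⟩
  rw [← hUdef] at hne
  have hV0U : Submodule.span k {v : V | F v = v} ≤ U := hUdef ▸ le_sup_left
  have hNU : Nsub p k V F hF ≤ U := hUdef ▸ le_sup_right
  let Fs : V →ₛₗ[frobenius k p] V :=
    { toFun := F
      map_add' := map_add F
      map_smul' := fun a v => by simp [hF, frobenius_def] }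
  have hFs : ∀ v, Fs v = F v := fun _ => rfl
  have hU : U ≤ U.comap Fs := by
    intro u hu
    rw [Submodule.mem_comap, hFs]
    rw [hUdef] at hu
    obtain ⟨u0, hu0, n, hn, rfl⟩ := Submodule.mem_sup.mp hu
    rw [map_add]
    refine U.add_mem (hV0U (V0_stable p k V F hF u0 hu0)) (hNU ?_)
    obtain ⟨m, hm⟩ := hn
    exact ⟨m, by rw [← Function.iterate_succ_apply, Function.iterate_succ_apply', hm, map_zero]⟩
  haveI : Nontrivial (V ⧸ U) := Submodule.Quotient.nontrivial_iff.mpr hne
  obtain ⟨wbar, hw0, hw⟩ := exists_fixed_or_killed p k (U.mapQ U Fs hU)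
  obtain ⟨w, rfl⟩ := Submodule.Quotient.mk_surjective U wbar
  have hwU : w ∉ U := fun h => hw0 ((Submodule.Quotient.mk_eq_zero U).mpr h)
  rw [Submodule.mapQ_apply, hFs] at hw
  apply hwU
  rcases hw with hw | hw
  · -- F w ∈ U
    have hFw : F w ∈ U := (Submodule.Quotient.mk_eq_zero U).mp hw
    rw [hUdef] at hFw
    obtain ⟨u0, hu0, n, hn, hsum⟩ := Submodule.mem_sup.mp hFw
    obtain ⟨u0', hu0', hFu0'⟩ := V0_surj p k V F hF u0 hu0
    have h1 : w - u0' ∈ Nsub p k V F hF := by
      obtain ⟨m, hm⟩ := hn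
      refine ⟨m+1, ?_⟩
      rw [Function.iterate_succ_apply, map_sub, hFu0', ← hsum, add_sub_cancel_left, hm]
    have : w = u0' + (w - u0') := by abel
    rw [this]
    exact U.add_mem (hV0U hu0') (hNU h1)
  · have hFw : F w - w ∈ U := (Submodule.Quotient.eq U).mp hw
    rw [hUdef] at hFw
    obtain ⟨u0, hu0, n, hn, hsum⟩ := Submodule.mem_sup.mp hFw
    obtain ⟨u0', hu0', hFu0'⟩ := V0_AS p k V F hF u0 hu0
    obtain ⟨m, hm⟩ := hn
    obtain ⟨n', hn', hFn'⟩ := N_AS p k V F hF m n hm
    have hfix : F (w - u0' - n') = w - u0' - n' := by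
      rw [map_sub, map_sub]
      have : F w - F u0' - F n' - (w - u0' - n') = (F w - w) - (F u0' - u0') - (F n' - n') := by
        abel
      rw [← sub_eq_zero, this, hFu0', hFn', ← hsum]
      abel
    have h2 : w - u0' - n' ∈ Submodule.span k {v : V | F v = v} := Submodule.subset_span hfix
    have : w = (w - u0' - n') + u0' + n' := by abel
    rw [this]
    exact U.add_mem (U.add_mem (hV0U h2) (hV0U hu0')) (hNU hn')

theorem part2 (s : Finset V) (hs : ∀ v ∈ s, F v = v)
    (hc : ∀ c : s → ℤ, (∑ v : s, c v • (v : V)) = 0 → ∀ v : s, (p : ℤ) ∣ c v) :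
    LinearIndependent k (fun v : s => (v : V)) := by
  classical
  have hp := (Fact.out : p.Prime)
  rw [Fintype.linearIndependent_iff]
  suffices H : ∀ n : ℕ, ∀ g : s → k, (Finset.univ.filter (fun i => g i ≠ 0)).card = n →
      ∑ i, g i • (i : V) = 0 → ∀ i, g i = 0 from fun g hg => H _ g rfl hg
  intro n
  induction n using Nat.strong_induction_on with
  | _ n ih =>
  intro g hn hg
  by_contra hne
  push Not at hne
  obtain ⟨i0, hi0⟩ := hne
  obtain ⟨g', hg'⟩ : ∃ g' : s → k, g' = fun i => g i / g i0 := ⟨_, rfl⟩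
  have hg'0 : g' i0 = 1 := by rw [hg']; exact div_self hi0
  have hrel' : ∑ i, g' i • (i : V) = 0 := by
    have : ∑ i, g' i • (i : V) = (g i0)⁻¹ • ∑ i, g i • (i : V) := by
      rw [Finset.smul_sum]
      refine Finset.sum_congr rfl fun i _ => ?_
      rw [smul_smul]
      congr 1
      rw [hg']
      exact div_eq_inv_mul _ _
    rw [this, hg, smul_zero]
  have hrelF : ∑ i, (g' i) ^ p • (i : V) = 0 := by
    have := congrArg F hrel'
    rw [map_sum, map_zero] at this
    rw [← this]
    refine Finset.sum_congr rfl fun i _ => ?_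
    rw [hF, hs i i.2]
  obtain ⟨h, hh⟩ : ∃ h : s → k, h = fun i => (g' i) ^ p - g' i := ⟨_, rfl⟩
  have hrelh : ∑ i, h i • (i : V) = 0 := by
    simp only [hh, sub_smul, Finset.sum_sub_distrib, hrelF, hrel', sub_zero]
  have hsupp : (Finset.univ.filter (fun i => h i ≠ 0)).card < n := by
    rw [← hn]
    apply Finset.card_lt_card
    rw [Finset.ssubset_iff_of_subset]
    · exact ⟨i0, by simp [hi0], by simp [hh, hg'0]⟩
    · intro i
      simp only [Finset.mem_filter, Finset.mem_univ, true_and]
      intro hi hgi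
      apply hi
      simp [hh, hg', hgi, hp.ne_zero]
  have hzero := ih _ hsupp h rfl hrelh
  have hfix : ∀ i, ∃ c : ℤ, (c : k) = g' i := fun i =>
    fixed_intCast p k _ (sub_eq_zero.mp (by have := hzero i; rwa [hh] at this))
  choose c hc' using hfix
  have hsum : ∑ v : s, c v • (v : V) = 0 := by
    rw [← hrel']
    refine Finset.sum_congr rfl fun i _ => ?_
    rw [← hc' i, Int.cast_smul_eq_zsmul]
  have hdiv := hc c hsum i0
  have h0 : ((c i0 : ℤ) : k) = 0 := by
    obtain ⟨m, hm⟩ := hdiv
    rw [hm]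
    push_cast
    rw [CharP.cast_eq_zero k p, zero_mul]
  rw [hc' i0, hg'0] at h0
  exact one_ne_zero h0

end main

/-- Over an algebraically closed field: let k be an algebraically closed field of characteristic p > 0,
V a finite-dimensional k-vector space and F : V -> V a p-linear endomorphism (additive with F(a·v) =
a^p·F(v)). Let V^F be the set of vectors fixed by F (an F_p-subspace), V_0 the k-span of V^F and V_n
the k-span of the vectors killed by some iterate of F (these already form an F-stable subspace on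
which F is nilpotent). Then V = V_0 ⊕ V_n, and V^F ⊗ k -> V_0 is bijective in the sense that any
finitely many F-fixed vectors linearly independent over Z/p (every vanishing integer combination has
all coefficients divisible by p) are linearly independent over k. (The published statement asserts
this decomposition, with V^F ⊗ k ≅ V_0, for every PERFECT field k; that is false when k is not
separably closed — for k = Z/3, V = k and F = multiplication by 2 there are no nonzero fixed vectors
although F is bijective — and the decomposition is stated here over an algebraically closed field,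
the case in which it holds.) -/
theorem result (p : ℕ) [Fact p.Prime] (k : Type u) [Field k]
    [IsAlgClosed k] [CharP k p] (V : Type u) [AddCommGroup V] [Module k V] [FiniteDimensional k V]
    (F : V →+ V) (hF : ∀ (a : k) (v : V), F (a • v) = a ^ p • F v) :
    IsCompl (Submodule.span k {v : V | F v = v})
        (Submodule.span k {v : V | ∃ m : ℕ, (⇑F)^[m] v = 0}) ∧
      ∀ (s : Finset V), (∀ v ∈ s, F v = v) →
        (∀ c : s → ℤ, (∑ v : s, c v • (v : V)) = 0 → ∀ v : s, (p : ℤ) ∣ c v) →
          LinearIndependent k (fun v : s => (v : V)) := by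
  have hNspan : Submodule.span k {v : V | ∃ m : ℕ, (⇑F)^[m] v = 0} = Nsub p k V F hF :=
    Submodule.span_eq (Nsub p k V F hF)
  rw [hNspan]
  refine ⟨⟨?_, ?_⟩, part2 p k V F hF⟩
  · rw [Submodule.disjoint_def]
    rintro u hu0 ⟨m, hm⟩
    exact V0_inj p k V F hF u hu0 m hm
  · exact codisjoint_iff.mpr (sup_eq_top p k V F hF)

end Groth.Agent.S8604
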