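import Groth.Statements.S8611
import Groth.Agent.Lib.Helper94.DeltaAb

set_option autoImplicit false
universe w v u
open CategoryTheory CategoryTheory.Limits
open SGA4h

namespace Groth.Agent.S8611

open Groth.Agent.Lib.Helper94.DeltaAb

/-- Let C be an abelian category, T and T' cohomological delta-functors on C in degrees ≥ 0 with values
in abelian groups, both left exact in degree 0, with T effaceable in every degree q > 0 (every
element of T^q(A) is killed by T^q(u) for some monomorphism u : A → M, depending on the element),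
and φ : T → T' a morphism of delta-functors. Let E be a class of objects such that every object
admits a monomorphism into a member of E. Then the following are equivalent: (i) φ^q(A) is bijective
for all q and all A; (ii) φ^0(M) is bijective and φ^q(M) is surjective for q > 0, for all M in E;
(iii) φ^0(A) is bijective for all A and T' is effaceable in every degree > 0 (in the same
element-wise sense). Stated as (i) ⇔ (ii) together with (i) ⇔ (iii). -/
theorem result {C : Type u} [Category.{v} C] [Abelian C]
    (T T' : DeltaF.CohDeltaFunctor C AddCommGrpCat.{w} ℕ) (hT0 : T.ZeroMono) (hT'0 : T'.ZeroMono)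
    (hT : ∀ (q : ℕ) (A : C) (α : (T.F (q + 1)).obj A),
      ∃ (M : C) (u : A ⟶ M), Mono u ∧ (T.F (q + 1)).map u α = 0)
    (φ : T ⟶ T') (E : ObjectProperty C)
    (hE : ∀ A : C, ∃ (M : C) (i : A ⟶ M), Mono i ∧ E M) :
    ((∀ (q : ℕ) (A : C), IsIso ((φ.app q).app A)) ↔
      ((∀ M : C, E M → IsIso ((φ.app 0).app M)) ∧
        ∀ (q : ℕ) (M : C), E M → Epi ((φ.app (q + 1)).app M))) ∧
    ((∀ (q : ℕ) (A : C), IsIso ((φ.app q).app A)) ↔
      ((∀ A : C, IsIso ((φ.app 0).app A)) ∧
        ∀ (q : ℕ) (A : C) (α : (T'.F (q + 1)).obj A),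
          ∃ (M : C) (u : A ⟶ M), Mono u ∧ (T'.F (q + 1)).map u α = 0)) := by
  have key : (∀ A : C, Function.Bijective ((φ.app 0).app A)) →
      (∀ (q : ℕ) (A : C) (α : (T'.F (q + 1)).obj A),
        ∃ (M : C) (u : A ⟶ M), Mono u ∧ (T'.F (q + 1)).map u α = 0) →
      ∀ (q : ℕ) (A : C), Function.Bijective ((φ.app q).app A) := by
    intro h0 hT' q
    induction q with
    | zero => exact h0
    | succ q ih =>
      intro A
      exact ⟨inj_step φ q (fun A => (ih A).2) (fun A => (ih A).1) (hT q) A,
             surj_step φ q (fun A => (ih A).2) (hT' q) A⟩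
  have iso_iff : ∀ (q : ℕ) (A : C),
      IsIso ((φ.app q).app A) ↔ Function.Bijective ((φ.app q).app A) :=
    fun q A => ConcreteCategory.isIso_iff_bijective _
  have eff_of_iso : (∀ (q : ℕ) (A : C), IsIso ((φ.app q).app A)) →
      ∀ (q : ℕ) (A : C) (α : (T'.F (q + 1)).obj A),
          ∃ (M : C) (u : A ⟶ M), Mono u ∧ (T'.F (q + 1)).map u α = 0 := by
    intro h q A α'
    obtain ⟨α, rfl⟩ := ((iso_iff _ _).1 (h (q+1) A)).2 α'
    obtain ⟨M, u, hu, huα⟩ := hT q A α
    exact ⟨M, u, hu, by rw [← nat_apply, huα, map_zero]⟩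
  constructor
  · constructor
    · intro h
      exact ⟨fun M _ => h 0 M, fun q M _ => by have := h (q+1) M; infer_instance⟩
    · rintro ⟨h0, hs⟩ q A
      rw [iso_iff]
      refine key ?_ ?_ q A
      · -- Bij(0)
        have inj0 : ∀ A, Function.Injective ((φ.app 0).app A) := by
          intro A
          obtain ⟨M, i, hi, hM⟩ := hE A
          have hinjM := ((iso_iff 0 M).1 (h0 M hM)).1
          intro x y hxy
          apply mono_zero_inj i hT0
          apply hinjM
          rw [nat_apply, nat_apply, hxy]
        intro A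
        refine ⟨inj0 A, ?_⟩
        intro a'
        obtain ⟨M, i, hi, hM⟩ := hE A
        obtain ⟨m, hm⟩ := ((iso_iff 0 M).1 (h0 M hM)).2 ((T'.F 0).map i a')
        have hq : (T.F 0).map (cokernel.π i) m = 0 := by
          apply inj0
          rw [nat_apply, hm, map_zero]
          exact map_u_map_π (T := T') i 0 a'
        obtain ⟨a, ha⟩ := mono_ex2 (T := T) i 0 m hq
        refine ⟨a, ?_⟩
        apply mono_zero_inj i hT'0
        rw [← nat_apply, ← hm, ha]
      · -- T' effaceable
        intro q A α'
        obtain ⟨M, i, hi, hM⟩ := hE A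
        have hepi := hs q M hM
        rw [AddCommGrpCat.epi_iff_surjective] at hepi
        obtain ⟨μ, hμ⟩ := hepi ((T'.F (q+1)).map i α')
        obtain ⟨M', v, hv, hvμ⟩ := hT q M μ
        refine ⟨M', i ≫ v, mono_comp i v, ?_⟩
        rw [Functor.map_comp, ConcreteCategory.comp_apply, ← hμ, ← nat_apply, hvμ, map_zero]
  · constructor
    · intro h
      exact ⟨fun A => h 0 A, eff_of_iso h⟩
    · rintro ⟨h0, hT'⟩ q A
      rw [iso_iff]
      exact key (fun A => (iso_iff 0 A).1 (h0 A)) hT' q A

end Groth.Agent.S8611
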