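import Groth.Statements.S8612
import Groth.Agent.Lib.Helper94.DeltaAb
import Groth.Agent.Lib.Helper94.AbFiltered

set_option autoImplicit false
universe w v u
open CategoryTheory CategoryTheory.Limits
open SGA4h

namespace Groth.Agent.S8612

open Groth.Agent.Lib.Helper94.DeltaAb Groth.Agent.Lib.Helper94

/-- Let C be an abelian category with filtered colimits, T and T' cohomological delta-functors on C in
degrees ≥ 0 with values in abelian groups, both left exact in degree 0 and commuting with filtered
colimits in every degree, and φ : T → T' a morphism of delta-functors. Let D and E be classes of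
objects such that (a) every object of C is a filtered colimit of objects of D and (b) every object
of D admits a monomorphism into a member of E. Then φ^q(A) is bijective for all q and all A if and
only if φ^q(M) is bijective for all q and all M in E. -/
theorem result {C : Type u} [Category.{v} C] [Abelian C]
    [HasFilteredColimitsOfSize.{v, v} C]
    (T T' : DeltaF.CohDeltaFunctor C AddCommGrpCat.{w} ℕ) (hT0 : T.ZeroMono) (hT'0 : T'.ZeroMono)
    [∀ n, PreservesFilteredColimitsOfSize.{v, v} (T.F n)] [∀ n, PreservesFilteredColimitsOfSize.{v, v} (T'.F n)]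
    (φ : T ⟶ T') (D E : ObjectProperty C)
    (hD : ∀ A : C, ∃ (J : Type v) (_ : SmallCategory J) (_ : IsFiltered J) (K : J ⥤ C) (c : Cocone K)
      (_ : IsColimit c), (∀ j, D (K.obj j)) ∧ Nonempty (c.pt ≅ A))
    (hE : ∀ A : C, D A → ∃ (M : C) (i : A ⟶ M), Mono i ∧ E M) :
    (∀ (q : ℕ) (A : C), IsIso ((φ.app q).app A)) ↔
      ∀ (q : ℕ) (M : C), E M → IsIso ((φ.app q).app M) := by
  constructor
  · intro h q M _
    exact h q M
  · intro hEiso
    have iso_iff : ∀ (q : ℕ) (A : C),
        IsIso ((φ.app q).app A) ↔ Function.Bijective ((φ.app q).app A) :=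
      fun q A => ConcreteCategory.isIso_iff_bijective _
    have hEb : ∀ (q : ℕ) (M : C), E M → Function.Bijective ((φ.app q).app M) :=
      fun q M hM => (iso_iff q M).1 (hEiso q M hM)
    -- passage to filtered colimits
    have pass_inj : ∀ q : ℕ, (∀ A, D A → Function.Injective ((φ.app q).app A)) →
        ∀ A, Function.Injective ((φ.app q).app A) := by
      intro q h A
      obtain ⟨J, hJ1, hJ2, K, c, hc, hK, ⟨e⟩⟩ := hD A
      apply inj_of_iso φ e q
      rw [injective_iff_map_eq_zero]
      intro x hx
      have hcT := isColimitOfPreserves (T.F q) hc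
      have hcT' := isColimitOfPreserves (T'.F q) hc
      obtain ⟨j, y, rfl⟩ := AbFiltered.exists_rep _ _ hcT x
      have h1 : ((T'.F q).mapCocone c).ι.app j ((φ.app q).app (K.obj j) y) = 0 := by
        change (T'.F q).map (c.ι.app j) _ = 0
        rw [← nat_apply]
        exact hx
      obtain ⟨k, f, hf⟩ := AbFiltered.exists_map_eq_zero _ _ hcT' j _ h1
      change (T'.F q).map (K.map f) _ = 0 at hf
      rw [← nat_apply] at hf
      have h2 : (T.F q).map (K.map f) y = 0 := by
        apply h _ (hK k)
        rw [hf, map_zero]
      change (T.F q).map (c.ι.app j) y = 0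
      rw [← c.w f, Functor.map_comp, ConcreteCategory.comp_apply, h2, map_zero]
    have pass_surj : ∀ q : ℕ, (∀ A, D A → Function.Surjective ((φ.app q).app A)) →
        ∀ A, Function.Surjective ((φ.app q).app A) := by
      intro q h A
      obtain ⟨J, hJ1, hJ2, K, c, hc, hK, ⟨e⟩⟩ := hD A
      apply surj_of_iso φ e q
      intro x'
      have hcT' := isColimitOfPreserves (T'.F q) hc
      obtain ⟨j, y', rfl⟩ := AbFiltered.exists_rep _ _ hcT' x'
      obtain ⟨y, rfl⟩ := h _ (hK j) y'
      refine ⟨(T.F q).map (c.ι.app j) y, ?_⟩
      rw [nat_apply]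
      rfl
    have main : ∀ (q : ℕ) (A : C), Function.Bijective ((φ.app q).app A) := by
      intro q
      induction q with
      | zero =>
        have inj0 : ∀ A, Function.Injective ((φ.app 0).app A) := by
          apply pass_inj 0
          intro A hA
          obtain ⟨M, i, hi, hM⟩ := hE A hA
          exact inj_zero i φ hT0 (hEb 0 M hM).1
        have surj0 : ∀ A, Function.Surjective ((φ.app 0).app A) := by
          apply pass_surj 0
          intro A hA
          obtain ⟨M, i, hi, hM⟩ := hE A hA
          exact surj_zero i φ hT'0 (hEb 0 M hM).2 (inj0 _)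
        exact fun A => ⟨inj0 A, surj0 A⟩
      | succ q ih =>
        have inj1 : ∀ A, Function.Injective ((φ.app (q + 1)).app A) := by
          apply pass_inj (q + 1)
          intro A hA
          obtain ⟨M, i, hi, hM⟩ := hE A hA
          rw [injective_iff_map_eq_zero]
          intro α hα
          refine inj_core i φ q (ih M).2 (ih _).1 α ?_ hα
          apply (hEb (q + 1) M hM).1
          rw [nat_apply, hα, map_zero, map_zero]
        have surj1 : ∀ A, Function.Surjective ((φ.app (q + 1)).app A) := by
          apply pass_surj (q + 1)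
          intro A hA
          obtain ⟨M, i, hi, hM⟩ := hE A hA
          exact surj_core i φ q (hEb (q + 1) M hM).2 (inj1 _) (ih _).2
        exact fun A => ⟨inj1 A, surj1 A⟩
    intro q A
    rw [iso_iff]
    exact main q A

end Groth.Agent.S8612
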