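import Groth.Statements.S8625
import Mathlib.Tactic.Group
-- import your own Groth.Agent.* helpers here

set_option autoImplicit false
universe u
open SGA4h

namespace Groth.Agent.S8625

/-- Let G be a group with an endomorphism F, and assume the Lang map g ↦ F(g)g⁻¹ is surjective (for
instance the geometric points of a connected algebraic group over F_q with its Frobenius, where the
surjectivity is the classical result of Lang; the other Lang map g ↦ g⁻¹F(g) is then surjective too,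
by g ↦ g⁻¹). Let G^F be the subgroup of fixed points of F. (i) If F(g)g⁻¹ is fixed by F then so is
g⁻¹F(g). (ii), (iii) There is a bijection of the set of conjugacy classes of G^F with itself
sending, for every g with F(g)g⁻¹ ∈ G^F, the class of F(g)g⁻¹ to the class of g⁻¹F(g) (in particular
the latter class depends only on the former). -/
theorem result {G : Type u} [Group G] (F : G →* G)
    (hL : Function.Surjective fun g : G => F g * g⁻¹) :
    (∀ g : G, F (F g * g⁻¹) = F g * g⁻¹ → F (g⁻¹ * F g) = g⁻¹ * F g) ∧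
    ∃ φ : ConjClasses ↥(F.eqLocus (MonoidHom.id G)) → ConjClasses ↥(F.eqLocus (MonoidHom.id G)),
      Function.Bijective φ ∧
      ∀ (g : G) (h : F (F g * g⁻¹) = F g * g⁻¹) (h' : F (g⁻¹ * F g) = g⁻¹ * F g),
        φ (ConjClasses.mk (⟨F g * g⁻¹, h⟩ : ↥(F.eqLocus (MonoidHom.id G)))) =
          ConjClasses.mk (⟨g⁻¹ * F g, h'⟩ : ↥(F.eqLocus (MonoidHom.id G))) := by
  classical
  have key1 : ∀ g : G, F (F g * g⁻¹) = F g * g⁻¹ → F (g⁻¹ * F g) = g⁻¹ * F g := by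
    intro g h
    have h2 : F (F g) = F g * g⁻¹ * F g := by
      have := h
      rw [map_mul, map_inv] at this
      calc F (F g) = F (F g) * (F g)⁻¹ * F g := by group
        _ = F g * g⁻¹ * F g := by rw [this]
    rw [map_mul, map_inv, h2]
    group
  have key2 : ∀ g : G, F (g⁻¹ * F g) = g⁻¹ * F g → F (F g * g⁻¹) = F g * g⁻¹ := by
    intro g hg
    have h2 : F (F g) = F g * g⁻¹ * F g := by
      have := hg
      rw [map_mul, map_inv] at this
      calc F (F g) = F g * ((F g)⁻¹ * F (F g)) := by group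
        _ = F g * (g⁻¹ * F g) := by rw [this]
        _ = F g * g⁻¹ * F g := by group
    rw [map_mul, map_inv, h2]; group
  refine ⟨key1, ?_⟩
  -- the fixed subgroup
  set H := F.eqLocus (MonoidHom.id G) with hH
  have memH : ∀ x : G, x ∈ H ↔ F x = x := by
    intro x
    simp [hH, MonoidHom.eqLocus]
  -- choice of Lang preimage
  let pre : ↥H → G := fun a => Classical.choose (hL a.1)
  have hpre : ∀ a : ↥H, F (pre a) * (pre a)⁻¹ = a.1 := fun a => Classical.choose_spec (hL a.1)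
  have hpre' : ∀ a : ↥H, F ((pre a)⁻¹ * F (pre a)) = (pre a)⁻¹ * F (pre a) := by
    intro a
    apply key1
    rw [hpre a]
    exact (memH _).1 a.2
  let f : ↥H → ConjClasses ↥H := fun a =>
    ConjClasses.mk ⟨(pre a)⁻¹ * F (pre a), (memH _).2 (hpre' a)⟩
  -- general conjugacy lemma
  have conj1 : ∀ (g g' : G) (ha : F g * g⁻¹ ∈ H) (ha' : F g' * g'⁻¹ ∈ H)
      (hb : g⁻¹ * F g ∈ H) (hb' : g'⁻¹ * F g' ∈ H),
      IsConj (⟨F g * g⁻¹, ha⟩ : ↥H) (⟨F g' * g'⁻¹, ha'⟩ : ↥H) →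
      IsConj (⟨g⁻¹ * F g, hb⟩ : ↥H) (⟨g'⁻¹ * F g', hb'⟩ : ↥H) := by
    intro g g' ha ha' hb hb' hc
    obtain ⟨c, hc⟩ := isConj_iff.1 hc
    have hc' : c.1 * (F g * g⁻¹) * c.1⁻¹ = F g' * g'⁻¹ := by
      have := congrArg Subtype.val hc
      simpa using this
    have hcF : F c.1 = c.1 := (memH _).1 c.2
    have e1 : F g' = c.1 * (F g * g⁻¹) * c.1⁻¹ * g' := by rw [hc']; group
    have hk : F ((c.1 * g)⁻¹ * g') = (c.1 * g)⁻¹ * g' := by
      rw [map_mul, map_inv, map_mul, hcF, e1]; group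
    rw [isConj_iff]
    refine ⟨⟨((c.1 * g)⁻¹ * g')⁻¹, H.inv_mem ((memH _).2 hk)⟩, ?_⟩
    apply Subtype.ext
    simp only [Subgroup.coe_mul, Subgroup.coe_inv, inv_inv]
    rw [e1]; group
  have conj2 : ∀ (g g' : G) (ha : F g * g⁻¹ ∈ H) (ha' : F g' * g'⁻¹ ∈ H)
      (hb : g⁻¹ * F g ∈ H) (hb' : g'⁻¹ * F g' ∈ H),
      IsConj (⟨g⁻¹ * F g, hb⟩ : ↥H) (⟨g'⁻¹ * F g', hb'⟩ : ↥H) →
      IsConj (⟨F g * g⁻¹, ha⟩ : ↥H) (⟨F g' * g'⁻¹, ha'⟩ : ↥H) := by
    intro g g' ha ha' hb hb' hc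
    obtain ⟨c, hc⟩ := isConj_iff.1 hc
    have hc' : c.1 * (g⁻¹ * F g) * c.1⁻¹ = g'⁻¹ * F g' := by
      have := congrArg Subtype.val hc
      simpa using this
    have hcF : F c.1 = c.1 := (memH _).1 c.2
    have e1 : F g' = g' * (c.1 * (g⁻¹ * F g) * c.1⁻¹) := by rw [hc']; group
    have hh : F (g' * c.1 * g⁻¹) = g' * c.1 * g⁻¹ := by
      rw [map_mul, map_mul, map_inv, hcF, e1]; group
    rw [isConj_iff]
    refine ⟨⟨g' * c.1 * g⁻¹, (memH _).2 hh⟩, ?_⟩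
    apply Subtype.ext
    simp only [Subgroup.coe_mul, Subgroup.coe_inv]
    rw [e1]; group
  -- the map is well defined
  have fwd : ∀ a b : ↥H, IsConj a b → f a = f b := by
    intro a b hab
    apply ConjClasses.mk_eq_mk_iff_isConj.2
    refine conj1 (pre a) (pre b) (by rw [hpre a]; exact a.2) (by rw [hpre b]; exact b.2) _ _ ?_
    have ea : (⟨F (pre a) * (pre a)⁻¹, by rw [hpre a]; exact a.2⟩ : ↥H) = a := Subtype.ext (hpre a)
    have eb : (⟨F (pre b) * (pre b)⁻¹, by rw [hpre b]; exact b.2⟩ : ↥H) = b := Subtype.ext (hpre b)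
    rw [ea, eb]; exact hab
  let φ : ConjClasses ↥H → ConjClasses ↥H := Quotient.lift f fwd
  have hφ : ∀ (g : G) (h : F (F g * g⁻¹) = F g * g⁻¹) (h' : F (g⁻¹ * F g) = g⁻¹ * F g),
        φ (ConjClasses.mk (⟨F g * g⁻¹, (memH _).2 h⟩ : ↥H)) =
          ConjClasses.mk (⟨g⁻¹ * F g, (memH _).2 h'⟩ : ↥H) := by
    intro g h h'
    change f _ = _
    apply ConjClasses.mk_eq_mk_iff_isConj.2
    refine conj1 (pre ⟨F g * g⁻¹, (memH _).2 h⟩) g
      (by rw [hpre]; exact (memH _).2 h) ((memH _).2 h) _ _ ?_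
    have ea : (⟨F (pre ⟨F g * g⁻¹, (memH _).2 h⟩) * (pre ⟨F g * g⁻¹, (memH _).2 h⟩)⁻¹,
        by rw [hpre]; exact (memH _).2 h⟩ : ↥H) = ⟨F g * g⁻¹, (memH _).2 h⟩ := Subtype.ext (hpre _)
    rw [ea]
  refine ⟨φ, ⟨?_, ?_⟩, hφ⟩
  · -- injective
    intro x y hxy
    obtain ⟨a, rfl⟩ := ConjClasses.exists_rep x
    obtain ⟨b, rfl⟩ := ConjClasses.exists_rep y
    change f a = f b at hxy
    have hc := ConjClasses.mk_eq_mk_iff_isConj.1 hxy
    have := conj2 (pre a) (pre b) (by rw [hpre a]; exact a.2) (by rw [hpre b]; exact b.2) _ _ hc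
    have ea : (⟨F (pre a) * (pre a)⁻¹, by rw [hpre a]; exact a.2⟩ : ↥H) = a := Subtype.ext (hpre a)
    have eb : (⟨F (pre b) * (pre b)⁻¹, by rw [hpre b]; exact b.2⟩ : ↥H) = b := Subtype.ext (hpre b)
    rw [ea, eb] at this
    exact ConjClasses.mk_eq_mk_iff_isConj.2 this
  · -- surjective
    intro y
    obtain ⟨b, rfl⟩ := ConjClasses.exists_rep y
    obtain ⟨g', hg'⟩ := hL (b.1⁻¹)
    have hg : (g'⁻¹)⁻¹ * F (g'⁻¹) = b.1 := by
      have : F g' * g'⁻¹ = b.1⁻¹ := hg'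
      rw [map_inv, inv_inv]
      calc g' * (F g')⁻¹ = (F g' * g'⁻¹)⁻¹ := by group
        _ = b.1 := by rw [this, inv_inv]
    have hb : F ((g'⁻¹)⁻¹ * F (g'⁻¹)) = (g'⁻¹)⁻¹ * F (g'⁻¹) := by
      rw [hg]; exact (memH _).1 b.2
    refine ⟨ConjClasses.mk ⟨F (g'⁻¹) * (g'⁻¹)⁻¹, (memH _).2 (key2 _ hb)⟩, ?_⟩
    rw [hφ (g'⁻¹) (key2 _ hb) hb]
    congr 1
    exact Subtype.ext hg

end Groth.Agent.S8625
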