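import Groth.Statements.S8637
-- import your own Groth.Agent.* helpers here

set_option autoImplicit false
open Zeta

namespace Groth.Agent.S8637

/-- First assertion, for a finite family: let (f_i) be finitely many formal power series with real
coefficients, each with constant term 1 and all coefficients ≥ 0, and let f be their product. Then
for every i and every n the n-th coefficient of f_i is at most the n-th coefficient of f (so the
radius of absolute convergence of f_i is at least that of f). (Stated for a finite family; for an
infinite product whose factors f_i - 1 have orders tending to infinity each coefficient is that of a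
finite sub-product, so the same inequality holds.) -/
theorem result {ι : Type} (s : Finset ι) (f : ι → PowerSeries ℝ)
    (h0 : ∀ i ∈ s, PowerSeries.constantCoeff (f i) = 1)
    (hpos : ∀ i ∈ s, ∀ n : ℕ, 0 ≤ PowerSeries.coeff n (f i)) (i : ι) (hi : i ∈ s) (n : ℕ) :
    PowerSeries.coeff n (f i) ≤ PowerSeries.coeff n (∏ j ∈ s, f j) := by
  classical
  have hnn : ∀ t : Finset ι, (∀ j ∈ t, ∀ n : ℕ, 0 ≤ PowerSeries.coeff n (f j)) →
      ∀ n : ℕ, 0 ≤ PowerSeries.coeff n (∏ j ∈ t, f j) := by
    intro t
    induction t using Finset.induction_on with
    | empty =>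
      intro _ n
      simp only [Finset.prod_empty, PowerSeries.coeff_one]
      split_ifs <;> norm_num
    | insert a t ha ih =>
      intro h n
      rw [Finset.prod_insert ha, PowerSeries.coeff_mul]
      apply Finset.sum_nonneg
      intro x _
      apply mul_nonneg
      · exact h a (Finset.mem_insert_self a t) _
      · exact ih (fun j hj => h j (Finset.mem_insert_of_mem hj)) _
  have hmul : ∏ j ∈ s, f j = f i * ∏ j ∈ s.erase i, f j := by
    rw [Finset.mul_prod_erase s f hi]
  rw [hmul, PowerSeries.coeff_mul]
  have hg0 : PowerSeries.coeff 0 (∏ j ∈ s.erase i, f j) = 1 := by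
    rw [PowerSeries.coeff_zero_eq_constantCoeff_apply, map_prod]
    apply Finset.prod_eq_one
    intro j hj
    exact h0 j (Finset.mem_of_mem_erase hj)
  have hmem : (n, 0) ∈ Finset.antidiagonal n := by simp
  calc PowerSeries.coeff n (f i)
      = PowerSeries.coeff (n, 0).1 (f i) * PowerSeries.coeff (n, 0).2 (∏ j ∈ s.erase i, f j) := by
        simp [hg0]
    _ ≤ _ := by
        apply Finset.single_le_sum (f := fun p : ℕ × ℕ =>
          PowerSeries.coeff p.1 (f i) * PowerSeries.coeff p.2 (∏ j ∈ s.erase i, f j)) _ hmem
        intro x _
        apply mul_nonneg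
        · exact hpos i hi _
        · exact hnn _ (fun j hj => hpos j (Finset.mem_of_mem_erase hj)) _

end Groth.Agent.S8637
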