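import Groth.Statements.S8666
import Mathlib
import Groth.Agent.Lib.Helper45.SemilocalBasis

set_option autoImplicit false
universe u
open CAlg
open Groth.Agent.Lib.Helper45 Groth.Agent.Lib.Helper45.Fitting Groth.Agent.Lib.Helper45.Semilocal

namespace Groth.Agent.S8666

/-- Let A be a Noetherian ring, M an invertible A-module and p_1, …, p_k finitely many primes of A
(points of Spec A). Then there is a single element s ∈ M whose image generates M_{p_i} as an
A_{p_i}-module for every i, i.e. s is a basis of the stalk of M at each of the given points. -/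
theorem result (A : Type u) [CommRing A] [IsNoetherianRing A]
    (M : Type u) [AddCommGroup M] [Module A M] [Module.Invertible A M] (ι : Type) [Finite ι] (p : ι → PrimeSpectrum A) :
    ∃ s : M, ∀ i : ι, Submodule.span (Localization.AtPrime (p i).asIdeal)
      {LocalizedModule.mkLinearMap (p i).asIdeal.primeCompl M s} = ⊤ := by
  classical
  have hfin : Fintype ι := Fintype.ofFinite ι
  have hrk : ∀ q : PrimeSpectrum A, Module.rankAtStalk M q = 1 := by
    intro q
    have hfree : Module.Free (Localization.AtPrime q.asIdeal) (LocalizedModule q.asIdeal.primeCompl M) :=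
      Module.free_of_flat_of_isLocalRing
    exact Module.Invertible.finrank_eq_one (Localization.AtPrime q.asIdeal)
      (LocalizedModule q.asIdeal.primeCompl M)
  have hfitt : ∀ q : PrimeSpectrum A, ¬ Fitt.ideal A M 1 ≤ q.asIdeal := by
    intro q
    rw [← fibreDim_le_iff, fibreDim_eq_rankAtStalk, hrk q]
  obtain ⟨s, hs⟩ := exists_spansFibre_finset (R := A) (M := M) 1 (Finset.univ.image p) (fun q _ => hfitt q)
  refine ⟨s 0, fun i => ?_⟩
  obtain ⟨u, hu, hum⟩ := exists_smul_mem_of_spansFibre s (p i).asIdeal
    (hs (p i) (Finset.mem_image_of_mem p (Finset.mem_univ i)))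
  have hspan := span_localizedModule_eq_top (p i).asIdeal.primeCompl s u hu hum
  have hrange : (Set.range fun j => LocalizedModule.mkLinearMap (p i).asIdeal.primeCompl M (s j)) =
      {LocalizedModule.mkLinearMap (p i).asIdeal.primeCompl M (s 0)} := by
    ext x
    constructor
    · rintro ⟨j, rfl⟩
      rw [Subsingleton.elim j 0]
      rfl
    · rintro rfl
      exact ⟨0, rfl⟩
  rw [← hrange]
  exact hspan

end Groth.Agent.S8666
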