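import Groth.Statements.S8678
import Groth.Agent.S8649

set_option autoImplicit false
universe u
open Finset
open LambdaRing

namespace Groth.Agent.S8678

/-- As the identity it proves in the pre-λ-ring K(Y') of the exceptional divisor: let K be a pre-λ-ring
(λ^0 = 1, λ^1 = id, additive formula) with λ^k(1) = 0 for all k ≥ 2, let d ≥ 2, and let F, L, N' ∈ K
satisfy λ^j(L) = 0 for j ≥ 2 (L is the class of an invertible module), λ^i(N') = 0 for i ≥ d − 1 (N'
is the class of a bundle of rank d − 2) and F + L = N' + 2 (for the blowing up of a regular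
immersion of codimension d: on the exceptional divisor the pulled-back conormal class is F + L, and
N = N' + 2). Then 1 − L divides λ_{−1}(F) = Σ_{i<d} (−1)^i λ^i(F). (The published proof uses only
additivity of λ_t and λ_t(1) = 1 + t, the hypotheses taken here.) -/
theorem result (K : Type u) [CommRing K] [LambdaRing.LambdaOps K]
    (h1 : ∀ k : ℕ, 2 ≤ k → LambdaRing.LambdaOps.lam k (1 : K) = 0) (d : ℕ) (hd : 2 ≤ d) (F L N' : K)
    (hL : ∀ j : ℕ, 2 ≤ j → LambdaRing.LambdaOps.lam j L = 0) (hN' : ∀ i : ℕ, d - 1 ≤ i → LambdaRing.LambdaOps.lam i N' = 0)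
    (hrel : F + L = N' + 2) :
    (1 - L) ∣ ∑ i ∈ range d, (-1 : K) ^ i * LambdaRing.LambdaOps.lam i F := by
  have h11 : ∀ j : ℕ, 2 ≤ j → LambdaRing.LambdaOps.lam j (1 : K) = 0 := h1
  -- abbreviations
  set I : Ideal K := Ideal.span {1 - L} with hI
  have hIL : (1 - L) ∈ I := Ideal.subset_span rfl
  -- expansion of `λ^(i+2) (N' + 2)`
  have hN2 : ∀ i : ℕ, LambdaRing.LambdaOps.lam (i + 2) (N' + 2) =
      LambdaRing.LambdaOps.lam (i + 2) N' + 2 * LambdaRing.LambdaOps.lam (i + 1) N' +
        LambdaRing.LambdaOps.lam i N' := by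
    intro i
    have e : N' + 2 = (N' + 1) + 1 := by ring
    rw [e, Groth.Agent.S8649.lam_add_line 1 h11 (i + 1) (N' + 1),
      Groth.Agent.S8649.lam_add_line 1 h11 (i + 1) N',
      Groth.Agent.S8649.lam_add_line 1 h11 i N']
    ring
  -- expansion of `λ^(i+2) (F + L)`
  have hFL : ∀ i : ℕ, LambdaRing.LambdaOps.lam (i + 1) (F + L) =
      LambdaRing.LambdaOps.lam (i + 1) F + L * LambdaRing.LambdaOps.lam i F :=
    fun i => Groth.Agent.S8649.lam_add_line L hL i F
  -- the key congruence
  have hP : ∀ i : ℕ, LambdaRing.LambdaOps.lam (i + 1) F -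
      (LambdaRing.LambdaOps.lam (i + 1) N' + LambdaRing.LambdaOps.lam i N') ∈ I := by
    intro i
    induction i with
    | zero =>
      have e : LambdaRing.LambdaOps.lam (0 + 1) F -
          (LambdaRing.LambdaOps.lam (0 + 1) N' + LambdaRing.LambdaOps.lam 0 N') = 1 - L := by
        rw [zero_add, LambdaRing.LambdaOps.lam_one, LambdaRing.LambdaOps.lam_one,
          LambdaRing.LambdaOps.lam_zero]
        have : F = N' + 2 - L := by rw [← hrel]; ring
        rw [this]
        ring
      rw [e]
      exact hIL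
    | succ i ih =>
      have h2 := hFL (i + 1)
      rw [hrel, hN2 i] at h2
      have e : LambdaRing.LambdaOps.lam (i + 1 + 1) F -
          (LambdaRing.LambdaOps.lam (i + 1 + 1) N' + LambdaRing.LambdaOps.lam (i + 1) N') =
          -(LambdaRing.LambdaOps.lam (i + 1) F -
            (LambdaRing.LambdaOps.lam (i + 1) N' + LambdaRing.LambdaOps.lam i N')) +
          (1 - L) * LambdaRing.LambdaOps.lam (i + 1) F := by
        have h3 : LambdaRing.LambdaOps.lam (i + 1 + 1) F =
            LambdaRing.LambdaOps.lam (i + 2) N' + 2 * LambdaRing.LambdaOps.lam (i + 1) N' +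
              LambdaRing.LambdaOps.lam i N' - L * LambdaRing.LambdaOps.lam (i + 1) F := by
          rw [h2]; ring
        rw [h3]
        ring
      rw [e]
      exact I.add_mem (I.neg_mem ih) (I.mul_mem_right _ hIL)
  -- the alternating sums
  have hQ : ∀ e : ℕ, (∑ i ∈ range (e + 1), (-1 : K) ^ i * LambdaRing.LambdaOps.lam i F) -
      (-1 : K) ^ e * LambdaRing.LambdaOps.lam e N' ∈ I := by
    intro e
    induction e with
    | zero =>
      simp [LambdaRing.LambdaOps.lam_zero]
    | succ e ih =>
      rw [Finset.sum_range_succ]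
      have e' : (∑ i ∈ range (e + 1), (-1 : K) ^ i * LambdaRing.LambdaOps.lam i F) +
          (-1 : K) ^ (e + 1) * LambdaRing.LambdaOps.lam (e + 1) F -
          (-1 : K) ^ (e + 1) * LambdaRing.LambdaOps.lam (e + 1) N' =
          ((∑ i ∈ range (e + 1), (-1 : K) ^ i * LambdaRing.LambdaOps.lam i F) -
            (-1 : K) ^ e * LambdaRing.LambdaOps.lam e N') +
          (-1 : K) ^ (e + 1) * (LambdaRing.LambdaOps.lam (e + 1) F -
            (LambdaRing.LambdaOps.lam (e + 1) N' + LambdaRing.LambdaOps.lam e N')) := by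
        rw [pow_succ]
        ring
      rw [e']
      exact I.add_mem ih (I.mul_mem_left _ (hP e))
  obtain ⟨e, rfl⟩ : ∃ e, d = e + 1 := ⟨d - 1, by omega⟩
  have hfin := hQ e
  rw [hN' e (by omega), mul_zero, sub_zero] at hfin
  exact Ideal.mem_span_singleton.mp hfin

end Groth.Agent.S8678
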