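import Groth.Statements.S8684
import Groth.Agent.Lib.Helper44.SymmPoly

set_option autoImplicit false
universe u
open LambdaRing

namespace Groth.Agent.S8684


section Aux

open MvPolynomial Finset Groth.Agent.Lib.Helper44.SymmPoly

variable (n : ℕ)

/-- The generating polynomial in the nested ring `ℤ[U][T]`. -/
noncomputable def F' : MvPolynomial (Fin n) (MvPolynomial (Fin n) ℤ) :=
  ((Finset.univ : Finset (Fin n × Fin n)).val.map fun ab =>
    (X ab.1 * C (X ab.2) : MvPolynomial (Fin n) (MvPolynomial (Fin n) ℤ))).esymm n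

/-- Flattening `ℤ[U][T] → ℤ[T ⊕ U]`. -/
noncomputable def Φ : MvPolynomial (Fin n) (MvPolynomial (Fin n) ℤ) →+* MvPolynomial (Fin n ⊕ Fin n) ℤ :=
  eval₂Hom (rename Sum.inr : MvPolynomial (Fin n) ℤ →ₐ[ℤ] MvPolynomial (Fin n ⊕ Fin n) ℤ).toRingHom
    (fun a => X (Sum.inl a))

theorem Φ_X (a : Fin n) : Φ n (X a) = X (Sum.inl a) := by
  unfold Φ
  rw [coe_eval₂Hom, eval₂_X]

theorem Φ_C (r : MvPolynomial (Fin n) ℤ) : Φ n (C r) = rename Sum.inr r := by
  unfold Φ
  rw [coe_eval₂Hom, eval₂_C]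
  rfl

theorem Φ_F' : Φ n (F' n) = LambdaRing.mulGen n n := by
  unfold F' LambdaRing.mulGen
  rw [map_multiset_esymm, Multiset.map_map]
  congr 1
  refine Multiset.map_congr rfl fun ab _ => ?_
  simp only [Function.comp_apply]
  rw [map_mul, Φ_X, Φ_C, rename_X]

theorem Φ_esymm (m : ℕ) :
    Φ n (esymm (Fin n) (MvPolynomial (Fin n) ℤ) m) = rename Sum.inl (esymm (Fin n) ℤ m) := by
  unfold esymm
  rw [map_sum, map_sum]
  refine Finset.sum_congr rfl fun t _ => ?_
  rw [map_prod, map_prod]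
  refine Finset.prod_congr rfl fun a _ => ?_
  rw [Φ_X, rename_X]

theorem multiset_map_comp_equiv {α β : Type*} [Fintype α] (g : α ≃ α) (f : α → β) :
    (Finset.univ : Finset α).val.map (f ∘ g) = (Finset.univ : Finset α).val.map f := by
  rw [← Multiset.map_map, Multiset.map_univ_val_equiv]

theorem F'_symm : (F' n).IsSymmetric := by
  intro e
  unfold F'
  have h1 := map_multiset_esymm
    (rename e : MvPolynomial (Fin n) (MvPolynomial (Fin n) ℤ) →ₐ[MvPolynomial (Fin n) ℤ] _).toRingHom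
    ((Finset.univ : Finset (Fin n × Fin n)).val.map fun ab =>
      (X ab.1 * C (X ab.2) : MvPolynomial (Fin n) (MvPolynomial (Fin n) ℤ))) n
  refine h1.trans ?_
  rw [Multiset.map_map]
  congr 1
  rw [← multiset_map_comp_equiv (Equiv.prodCongr e (Equiv.refl (Fin n)))
    (fun ab : Fin n × Fin n => (X ab.1 * C (X ab.2) : MvPolynomial (Fin n) (MvPolynomial (Fin n) ℤ)))]
  refine Multiset.map_congr rfl fun ab _ => ?_
  simp only [Function.comp_apply, Equiv.prodCongr_apply, Equiv.coe_refl, Prod.map_fst, Prod.map_snd, id]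
  show rename e (X ab.1 * C (X ab.2)) = _
  rw [map_mul, rename_X, rename_C]

theorem F'_coeffSymm (τ : Equiv.Perm (Fin n)) :
    MvPolynomial.map (rename τ : MvPolynomial (Fin n) ℤ →ₐ[ℤ] MvPolynomial (Fin n) ℤ).toRingHom (F' n) =
      F' n := by
  unfold F'
  rw [map_multiset_esymm, Multiset.map_map]
  congr 1
  rw [← multiset_map_comp_equiv (Equiv.prodCongr (Equiv.refl (Fin n)) τ)
    (fun ab : Fin n × Fin n => (X ab.1 * C (X ab.2) : MvPolynomial (Fin n) (MvPolynomial (Fin n) ℤ)))]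
  refine Multiset.map_congr rfl fun ab _ => ?_
  simp only [Function.comp_apply, Equiv.prodCongr_apply, Equiv.coe_refl, Prod.map_fst, Prod.map_snd, id]
  rw [map_mul, map_X, map_C]
  congr 2
  show rename τ (X ab.2) = _
  rw [rename_X]

theorem map_aeval_esymm (φ : MvPolynomial (Fin n) ℤ →+* MvPolynomial (Fin n) ℤ)
    (G : MvPolynomial (Fin n) (MvPolynomial (Fin n) ℤ)) :
    MvPolynomial.map φ (aeval (fun k : Fin n => esymm (Fin n) (MvPolynomial (Fin n) ℤ) ((k : ℕ) + 1)) G) =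
      aeval (fun k : Fin n => esymm (Fin n) (MvPolynomial (Fin n) ℤ) ((k : ℕ) + 1)) (MvPolynomial.map φ G) := by
  have h : (MvPolynomial.map φ).comp
      (aeval (fun k : Fin n => esymm (Fin n) (MvPolynomial (Fin n) ℤ) ((k : ℕ) + 1)) :
        MvPolynomial (Fin n) (MvPolynomial (Fin n) ℤ) →ₐ[MvPolynomial (Fin n) ℤ] _).toRingHom =
      (aeval (fun k : Fin n => esymm (Fin n) (MvPolynomial (Fin n) ℤ) ((k : ℕ) + 1)) :
        MvPolynomial (Fin n) (MvPolynomial (Fin n) ℤ) →ₐ[MvPolynomial (Fin n) ℤ] _).toRingHom.comp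
        (MvPolynomial.map φ) := by
    apply MvPolynomial.ringHom_ext
    · intro r
      simp only [RingHom.comp_apply, AlgHom.toRingHom_eq_coe, RingHom.coe_coe, aeval_C, map_C,
        algebraMap_eq]
    · intro k
      simp only [RingHom.comp_apply, AlgHom.toRingHom_eq_coe, RingHom.coe_coe, aeval_X, map_X,
        map_esymm]
  exact RingHom.congr_fun h G

/-- The substitution of the statement. -/
noncomputable def Ψ : Fin n ⊕ Fin n → MvPolynomial (Fin n ⊕ Fin n) ℤ :=
  Sum.elim (fun k : Fin n => rename Sum.inl (esymm (Fin n) ℤ ((k : ℕ) + 1)))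
    (fun k : Fin n => rename Sum.inr (esymm (Fin n) ℤ ((k : ℕ) + 1)))

/-- The key compatibility of the flattening with the two substitutions. -/
theorem aeval_Ψ_Φ (Gt : MvPolynomial (Fin n) (MvPolynomial (Fin n) ℤ)) :
    aeval (Ψ n) (Φ n Gt) =
      Φ n (aeval (fun k : Fin n => esymm (Fin n) (MvPolynomial (Fin n) ℤ) ((k : ℕ) + 1))
        (MvPolynomial.map (aeval (fun k : Fin n => esymm (Fin n) ℤ ((k : ℕ) + 1)) :
          MvPolynomial (Fin n) ℤ →ₐ[ℤ] MvPolynomial (Fin n) ℤ).toRingHom Gt)) := by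
  have h : (aeval (Ψ n) : MvPolynomial (Fin n ⊕ Fin n) ℤ →ₐ[ℤ] _).toRingHom.comp (Φ n) =
      (Φ n).comp ((aeval (fun k : Fin n => esymm (Fin n) (MvPolynomial (Fin n) ℤ) ((k : ℕ) + 1)) :
        MvPolynomial (Fin n) (MvPolynomial (Fin n) ℤ) →ₐ[MvPolynomial (Fin n) ℤ] _).toRingHom.comp
        (MvPolynomial.map (aeval (fun k : Fin n => esymm (Fin n) ℤ ((k : ℕ) + 1)) :
          MvPolynomial (Fin n) ℤ →ₐ[ℤ] MvPolynomial (Fin n) ℤ).toRingHom)) := by
    apply MvPolynomial.ringHom_ext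
    · intro r
      simp only [RingHom.comp_apply, AlgHom.toRingHom_eq_coe, RingHom.coe_coe, map_C, aeval_C,
        algebraMap_eq, Φ_C, aeval_rename]
      have h1 := AlgHom.congr_fun (comp_aeval (R := ℤ)
        (f := fun k : Fin n => esymm (Fin n) ℤ ((k : ℕ) + 1))
        (rename Sum.inr : MvPolynomial (Fin n) ℤ →ₐ[ℤ] MvPolynomial (Fin n ⊕ Fin n) ℤ)) r
      rw [AlgHom.comp_apply] at h1
      rw [h1]
      rfl
    · intro k
      simp only [RingHom.comp_apply, AlgHom.toRingHom_eq_coe, RingHom.coe_coe, map_X, aeval_X,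
        Φ_X, Φ_esymm]
      rfl
  exact RingHom.congr_fun h Gt

/-- bidegree weights on the variables `T`, `U`. -/
def v : Fin n ⊕ Fin n → ℕ × ℕ := Sum.elim (fun _ => (1, 0)) (fun _ => (0, 1))

/-- weights of the statement on `X_k`, `Y_k`. -/
def W : Fin n ⊕ Fin n → ℕ × ℕ :=
  Sum.elim (fun k : Fin n => (((k : ℕ) + 1, 0) : ℕ × ℕ)) (fun k : Fin n => ((0, (k : ℕ) + 1) : ℕ × ℕ))

theorem rename_inl_esymm_isWH (m : ℕ) :
    (rename Sum.inl (esymm (Fin n) ℤ m) : MvPolynomial (Fin n ⊕ Fin n) ℤ).IsWeightedHomogeneous (v n) (m, 0) := by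
  unfold esymm
  rw [map_sum]
  refine IsWeightedHomogeneous.sum _ _ _ fun t ht => ?_
  rw [map_prod]
  have h := IsWeightedHomogeneous.prod t (fun a => (rename Sum.inl (X a) : MvPolynomial (Fin n ⊕ Fin n) ℤ))
    (fun _ => ((1, 0) : ℕ × ℕ)) (w := v n) (fun a _ => by
      rw [rename_X]
      exact isWeightedHomogeneous_X ℤ (v n) (Sum.inl a))
  have hc : ∑ _a ∈ t, ((1, 0) : ℕ × ℕ) = (m, 0) := by
    rw [Finset.sum_const, (Finset.mem_powersetCard.1 ht).2]
    simp
  rwa [hc] at h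

theorem rename_inr_esymm_isWH (m : ℕ) :
    (rename Sum.inr (esymm (Fin n) ℤ m) : MvPolynomial (Fin n ⊕ Fin n) ℤ).IsWeightedHomogeneous (v n) (0, m) := by
  unfold esymm
  rw [map_sum]
  refine IsWeightedHomogeneous.sum _ _ _ fun t ht => ?_
  rw [map_prod]
  have h := IsWeightedHomogeneous.prod t (fun a => (rename Sum.inr (X a) : MvPolynomial (Fin n ⊕ Fin n) ℤ))
    (fun _ => ((0, 1) : ℕ × ℕ)) (w := v n) (fun a _ => by
      rw [rename_X]
      exact isWeightedHomogeneous_X ℤ (v n) (Sum.inr a))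
  have hc : ∑ _a ∈ t, ((0, 1) : ℕ × ℕ) = (0, m) := by
    rw [Finset.sum_const, (Finset.mem_powersetCard.1 ht).2]
    simp
  rwa [hc] at h

theorem Ψ_isWH (k : Fin n ⊕ Fin n) : (Ψ n k).IsWeightedHomogeneous (v n) (W n k) := by
  rcases k with k | k
  · exact rename_inl_esymm_isWH n _
  · exact rename_inr_esymm_isWH n _

theorem mulGen_isWH : (LambdaRing.mulGen n n).IsWeightedHomogeneous (v n) (n, n) := by
  unfold LambdaRing.mulGen
  rw [Finset.esymm_map_val]
  refine IsWeightedHomogeneous.sum _ _ _ fun T hT => ?_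
  have h := IsWeightedHomogeneous.prod T
    (fun ab : Fin n × Fin n => (X (Sum.inl ab.1) * X (Sum.inr ab.2) : MvPolynomial (Fin n ⊕ Fin n) ℤ))
    (fun _ => ((1, 1) : ℕ × ℕ)) (w := v n) (fun ab _ => by
      have h1 := (isWeightedHomogeneous_X ℤ (v n) (Sum.inl ab.1)).mul
        (isWeightedHomogeneous_X ℤ (v n) (Sum.inr ab.2))
      exact h1)
  have hc : ∑ _a ∈ T, ((1, 1) : ℕ × ℕ) = (n, n) := by
    rw [Finset.sum_const, (Finset.mem_powersetCard.1 hT).2]
    simp
  rwa [hc] at h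

end Aux

/-- For every n there is a polynomial P ∈ ℤ[X_1, …, X_n, Y_1, …, Y_n] such that substituting the k-th
elementary symmetric functions of two families T, U of n variables for X_k and Y_k yields the n-th
elementary symmetric function of the n² products T_a U_b, and P is isobaric of weight n separately
in the X_k and in the Y_k, the variables X_k and Y_k having weight k. -/
theorem result (n : ℕ) :
    ∃ P : MvPolynomial (Fin n ⊕ Fin n) ℤ, LambdaRing.IsMulPoly n P := by
  classical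
  -- step 1: the generating polynomial is a polynomial in the `e_k(T)` over `ℤ[U]`
  obtain ⟨G, hG⟩ := MvPolynomial.esymmAlgHom_surjective (MvPolynomial (Fin n) ℤ) (σ := Fin n) (n := n)
    (by simp) ⟨F' n, F'_symm n⟩
  have hG' : MvPolynomial.aeval (fun k : Fin n =>
      MvPolynomial.esymm (Fin n) (MvPolynomial (Fin n) ℤ) ((k : ℕ) + 1)) G = F' n := by
    rw [← MvPolynomial.esymmAlgHom_apply, hG]
  -- step 2: its coefficients are symmetric in `U`
  have hτ : ∀ τ : Equiv.Perm (Fin n), MvPolynomial.map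
      (MvPolynomial.rename τ : MvPolynomial (Fin n) ℤ →ₐ[ℤ] MvPolynomial (Fin n) ℤ).toRingHom G = G := by
    intro τ
    apply MvPolynomial.esymmAlgHom_injective (MvPolynomial (Fin n) ℤ) (σ := Fin n) (n := n) (by simp)
    apply Subtype.ext
    rw [MvPolynomial.esymmAlgHom_apply, MvPolynomial.esymmAlgHom_apply, ← map_aeval_esymm, hG',
      F'_coeffSymm]
  have hsym : ∀ d, (MvPolynomial.coeff d G).IsSymmetric := by
    intro d τ
    have := congrArg (MvPolynomial.coeff d) (hτ τ)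
    rw [MvPolynomial.coeff_map] at this
    exact this
  have hH : ∀ d, ∃ H : MvPolynomial (Fin n) ℤ,
      MvPolynomial.aeval (fun k : Fin n => MvPolynomial.esymm (Fin n) ℤ ((k : ℕ) + 1)) H =
        MvPolynomial.coeff d G := by
    intro d
    obtain ⟨H, hH⟩ := MvPolynomial.esymmAlgHom_surjective ℤ (σ := Fin n) (n := n) (by simp)
      ⟨MvPolynomial.coeff d G, hsym d⟩
    exact ⟨H, by rw [← MvPolynomial.esymmAlgHom_apply, hH]⟩
  choose H hH using hH
  let Gt : MvPolynomial (Fin n) (MvPolynomial (Fin n) ℤ) :=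
    ∑ d ∈ G.support, MvPolynomial.monomial d (H d)
  have hGt : MvPolynomial.map (MvPolynomial.aeval (fun k : Fin n =>
      MvPolynomial.esymm (Fin n) ℤ ((k : ℕ) + 1)) :
        MvPolynomial (Fin n) ℤ →ₐ[ℤ] MvPolynomial (Fin n) ℤ).toRingHom Gt = G := by
    simp only [Gt, map_sum, MvPolynomial.map_monomial]
    conv_rhs => rw [G.as_sum]
    refine Finset.sum_congr rfl fun d _ => ?_
    congr 1
    exact hH d
  have hP0 : MvPolynomial.aeval (Ψ n) (Φ n Gt) = LambdaRing.mulGen n n := by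
    rw [aeval_Ψ_Φ, hGt, hG', Φ_F']
  refine ⟨MvPolynomial.weightedHomogeneousComponent (W n) (n, n) (Φ n Gt), ?_,
    MvPolynomial.weightedHomogeneousComponent_isWeightedHomogeneous _ _⟩
  have h1 := Groth.Agent.Lib.Helper44.SymmPoly.aeval_weightedHomogeneousComponent' (W n) (v n) (Ψ n)
    (Ψ_isWH n) (n, n) (Φ n Gt)
  have h2 : MvPolynomial.aeval (Ψ n) (MvPolynomial.weightedHomogeneousComponent (W n) (n, n) (Φ n Gt)) =
      LambdaRing.mulGen n n := by
    rw [h1, hP0]
    exact (mulGen_isWH n).weightedHomogeneousComponent_same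
  exact h2

end Groth.Agent.S8684
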