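import Groth.Statements.S8686
-- import your own Groth.Agent.* helpers here

set_option autoImplicit false
universe u
open LambdaRing

namespace Groth.Agent.S8686

/-- Let K be a pre-λ-ring with λ^n(1) = 0 for all n ≥ 2, i.e. λ_t(1) = 1 + t. Then the Adams operations,
defined for k ≥ 1 through (d/dt λ_t(x)) · λ_t(x)⁻¹ = Σ_{k ≥ 1} (−1)^{k−1} ψ^k(x) t^{k−1}, satisfy
ψ^k(1) = 1 for every k ≥ 1. (The published statement is for a λ-ring in the strict sense; this
identity uses only λ_t(1) = 1 + t, the hypothesis taken here.) -/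
theorem result (K : Type u) [CommRing K] [LambdaRing.LambdaOps K]
    (h1 : ∀ n : ℕ, 2 ≤ n → LambdaRing.LambdaOps.lam n (1 : K) = 0) (k : ℕ) (hk : 1 ≤ k) :
    LambdaRing.adamsOp k (1 : K) = 1 := by
  -- the series `λ_t(1) = 1 + t`
  have hL : LambdaRing.lamSeries (1 : K) = 1 + PowerSeries.X := by
    ext n
    rw [LambdaRing.lamSeries, PowerSeries.coeff_mk, map_add, PowerSeries.coeff_one,
      PowerSeries.coeff_X]
    rcases n with _ | _ | n
    · simp [LambdaRing.LambdaOps.lam_zero]
    · simp [LambdaRing.LambdaOps.lam_one]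
    · rw [h1 (n + 2) (by omega)]
      simp
  -- the logarithmic derivative
  have hD : LambdaRing.logDerivSeries (1 : K) * (1 + PowerSeries.X) = 1 := by
    rw [LambdaRing.logDerivSeries, hL, map_add, PowerSeries.derivative_one,
      PowerSeries.derivative_X, zero_add, one_mul]
    apply PowerSeries.invOfUnit_mul
    simp
  have hcoeff : ∀ n : ℕ, PowerSeries.coeff n (LambdaRing.logDerivSeries (1 : K)) = (-1) ^ n := by
    intro n
    induction n with
    | zero =>
      have := congrArg (PowerSeries.coeff 0) hD
      rw [mul_add, mul_one, map_add, PowerSeries.coeff_zero_mul_X, add_zero,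
        PowerSeries.coeff_one, if_pos rfl] at this
      rw [this, pow_zero]
    | succ n ih =>
      have := congrArg (PowerSeries.coeff (n + 1)) hD
      rw [mul_add, mul_one, map_add, PowerSeries.coeff_succ_mul_X, ih,
        PowerSeries.coeff_one, if_neg (Nat.succ_ne_zero n)] at this
      rw [pow_succ]
      linear_combination this
  obtain ⟨k, rfl⟩ : ∃ j, k = j + 1 := ⟨k - 1, by omega⟩
  rw [LambdaRing.adamsOp, hcoeff, ← mul_pow]
  simp

end Groth.Agent.S8686
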