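import Groth.Statements.S8687
import Groth.Agent.Lib.Helper44.LambdaSpecialCore

set_option autoImplicit false
universe u
open LambdaRing

namespace Groth.Agent.S8687

/-- Let K be a λ-ring in the strict sense (λ_t(1) = 1 + t and the identities λ^n(xy) = P_n(λ^1 x, …; λ^1
y, …), λ^j(λ^i x) = Q_{i,j}(λ^1 x, …) for the universal polynomials). Then for every k ≥ 1 the Adams
operation ψ^k is multiplicative: ψ^k(xy) = ψ^k(x) ψ^k(y). The hypothesis hP, that a universal
polynomial P_n exists for every n, is a true statement carried here so that the product identities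
of K can be used at every n. -/
theorem result (K : Type u) [CommRing K] [LambdaRing.LambdaOps K]
    (hK : LambdaRing.IsSpecial K)
    (hP : ∀ n : ℕ, ∃ P : MvPolynomial (Fin n ⊕ Fin n) ℤ, LambdaRing.IsMulPoly n P)
    (k : ℕ) (hk : 1 ≤ k) (x y : K) :
    LambdaRing.adamsOp k (x * y) = LambdaRing.adamsOp k x * LambdaRing.adamsOp k y := by
  classical
  obtain ⟨m, rfl⟩ : ∃ m, k = m + 1 := ⟨k - 1, by omega⟩
  choose P hP using hP
  let A : ℕ → MvPolynomial (Fin (m + 1) ⊕ Fin (m + 1)) ℤ := fun i =>
    if h : i ≤ m + 1 then MvPolynomial.rename (Sum.map (Fin.castLE h) (Fin.castLE h)) (P i) else 0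
  have hA : ∀ i, 1 ≤ i → i ≤ m + 1 →
      MvPolynomial.aeval (Groth.Agent.S8684.Ψ (m + 1)) (A i) = LambdaRing.mulGen (m + 1) i := by
    intro i _ hik
    simp only [A, dif_pos hik]
    rw [MvPolynomial.aeval_rename,
      ← Groth.Agent.Lib.Helper44.SymmTwo.mulPoly_stable hik (P i) (hP i)]
    congr 2
    funext z
    rcases z with z | z <;> rfl
  have hθA : ∀ i, 1 ≤ i → i ≤ m + 1 →
      MvPolynomial.aeval (Sum.elim (fun a : Fin (m + 1) => LambdaRing.LambdaOps.lam ((a : ℕ) + 1) x)
        (fun a : Fin (m + 1) => LambdaRing.LambdaOps.lam ((a : ℕ) + 1) y)) (A i) =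
      LambdaRing.LambdaOps.lam i (x * y) := by
    intro i _ hik
    simp only [A, dif_pos hik]
    rw [MvPolynomial.aeval_rename, hK.lam_mul i (P i) (hP i) x y]
    congr 2
    funext z
    rcases z with z | z <;> rfl
  have hr := Groth.Agent.Lib.Helper44.LambdaSpecial.rel_two (m + 1) x y A hA
  have hr' := hr.congr hθA (fun _ _ _ => rfl)
  exact ((Groth.Agent.Lib.Helper44.LambdaNewton.rel_lam_adams (m + 1) (x * y)).eq_newtonB m
    (Nat.lt_succ_self m)).trans (hr'.eq_newtonB m (Nat.lt_succ_self m)).symm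

end Groth.Agent.S8687
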