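import Groth.Statements.S8688
import Groth.Agent.Lib.Helper44.LambdaSpecialCore
import Groth.Agent.S8686
import Groth.Agent.S8687

set_option autoImplicit false
universe u
open LambdaRing

namespace Groth.Agent.S8688

/-- Let K be a λ-ring in the strict sense (λ_t(1) = 1 + t and the identities with the universal
polynomials P_n, Q_{i,j}). Then the Adams operations satisfy ψ^k ∘ ψ^{k'} = ψ^{kk'} for all k, k' ≥
1. The hypotheses hP and hQ, that the universal polynomials exist for all indices, are true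
statements carried here so that the identities of K can be used at every index. -/
theorem result (K : Type u) [CommRing K] [LambdaRing.LambdaOps K]
    (hK : LambdaRing.IsSpecial K)
    (hP : ∀ n : ℕ, ∃ P : MvPolynomial (Fin n ⊕ Fin n) ℤ, LambdaRing.IsMulPoly n P)
    (hQ : ∀ i j : ℕ, ∃ Q : MvPolynomial (Fin (i * j)) ℤ, LambdaRing.IsCompPoly i j Q)
    (k k' : ℕ) (hk : 1 ≤ k) (hk' : 1 ≤ k') (x : K) :
    LambdaRing.adamsOp k (LambdaRing.adamsOp k' x) = LambdaRing.adamsOp (k * k') x := by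
  classical
  obtain ⟨m, rfl⟩ : ∃ m, k = m + 1 := ⟨k - 1, by omega⟩
  obtain ⟨m', rfl⟩ : ∃ m', k' = m' + 1 := ⟨k' - 1, by omega⟩
  choose Q hQ using hQ
  have h1 : LambdaRing.adamsOp (m + 1) (1 : K) = 1 :=
    Groth.Agent.S8686.result K hK.lam_one_eq_zero (m + 1) hk
  have hm : ∀ a b : K, LambdaRing.adamsOp (m + 1) (a * b) =
      LambdaRing.adamsOp (m + 1) a * LambdaRing.adamsOp (m + 1) b :=
    Groth.Agent.S8687.result K hK hP (m + 1) hk
  choose E hE using fun κ l => Groth.Agent.Lib.Helper44.LambdaSpecial.exists_pow_esymm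
    ((m + 1) * (m' + 1)) κ l
  -- Step 1
  have step1 : ∀ i, 1 ≤ i → i ≤ m' + 1 →
      LambdaRing.adamsOp (m + 1) (LambdaRing.LambdaOps.lam i x) =
        MvPolynomial.aeval (fun a : Fin ((m + 1) * (m' + 1)) =>
          LambdaRing.LambdaOps.lam ((a : ℕ) + 1) x) (E (m + 1) i) := by
    intro i hi1 hik'
    have hil : ∀ l, l ≤ m + 1 → i * l ≤ (m + 1) * (m' + 1) := fun l hl => by
      rw [mul_comm (m + 1)]
      exact Nat.mul_le_mul hik' hl
    let A : ℕ → MvPolynomial (Fin ((m + 1) * (m' + 1))) ℤ := fun l =>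
      if h : i * l ≤ (m + 1) * (m' + 1) then MvPolynomial.rename (Fin.castLE h) (Q i l) else 0
    have hA : ∀ l, 1 ≤ l → l ≤ m + 1 →
        MvPolynomial.aeval (fun a : Fin ((m + 1) * (m' + 1)) =>
          MvPolynomial.esymm (Fin ((m + 1) * (m' + 1))) ℤ ((a : ℕ) + 1)) (A l) =
        LambdaRing.compGen ((m + 1) * (m' + 1)) i l := by
      intro l _ hlk
      simp only [A, dif_pos (hil l hlk)]
      rw [MvPolynomial.aeval_rename]
      exact Groth.Agent.Lib.Helper44.SymmTwo.compPoly_stable (hil l hlk) (Q i l) (hQ i l)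
    have hθA : ∀ l, 1 ≤ l → l ≤ m + 1 →
        MvPolynomial.aeval (fun a : Fin ((m + 1) * (m' + 1)) =>
          LambdaRing.LambdaOps.lam ((a : ℕ) + 1) x) (A l) =
        LambdaRing.LambdaOps.lam l (LambdaRing.LambdaOps.lam i x) := by
      intro l _ hlk
      simp only [A, dif_pos (hil l hlk)]
      rw [MvPolynomial.aeval_rename, hK.lam_lam i l (Q i l) (hQ i l) x]
      rfl
    have hr := Groth.Agent.Lib.Helper44.LambdaSpecial.rel_one_comp ((m + 1) * (m' + 1)) x i (m + 1)
      A (fun κ => E κ i) hA (fun κ _ _ => hE κ i)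
    have hr' := hr.congr hθA (fun _ _ _ => rfl)
    exact ((Groth.Agent.Lib.Helper44.LambdaNewton.rel_lam_adams (m + 1)
      (LambdaRing.LambdaOps.lam i x)).eq_newtonB m (Nat.lt_succ_self m)).trans
      (hr'.eq_newtonB m (Nat.lt_succ_self m)).symm
  -- Step 2
  have hr2 := Groth.Agent.Lib.Helper44.LambdaSpecial.rel_one_pow ((m + 1) * (m' + 1)) x (m + 1)
    (m' + 1) hk (by rw [mul_comm]) (fun l => E (m + 1) l) (fun l _ _ => hE (m + 1) l)
  have hr2' := hr2.congr (fun l h1 h2 => (step1 l h1 h2).symm) (fun _ _ _ => rfl)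
  -- Step 3
  have hr3 := (Groth.Agent.Lib.Helper44.LambdaNewton.rel_lam_adams (m' + 1) x).map
    (Groth.Agent.Lib.Helper44.LambdaNewton.adamsRingHom (m + 1) h1 hm)
  have e1 := hr2'.eq_newtonB m' (Nat.lt_succ_self m')
  have e2 := hr3.eq_newtonB m' (Nat.lt_succ_self m')
  have e3 : LambdaRing.adamsOp (m + 1) (LambdaRing.adamsOp (m' + 1) x) =
      LambdaRing.adamsOp ((m' + 1) * (m + 1)) x := e2.trans e1.symm
  rw [e3, mul_comm]

end Groth.Agent.S8688
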