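import Groth.Statements.S8691
import Groth.Agent.Lib.Helper44.GammaRank

set_option autoImplicit false
universe u
open Finset
open LambdaRing

namespace Groth.Agent.S8691

/-- Let K be a λ-ring in the strict sense, d a natural number and N ∈ K with λ^i(N) = 0 for every i > d;
put λ_{−1}(N) = Σ_{i=0}^{d} (−1)^i λ^i(N). Then for every p ≥ 1 and every x ∈ K the element λ^p(x ·
λ_{−1}(N)) is divisible by λ_{−1}(N). (The published statement is for the λ-ring generated over the
integers by N and x subject to λ^i(N) = 0 for i > d, a polynomial ring; the divisibility passes to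
any λ-ring along the λ-homomorphism sending the generators to N and x, which is the substituted form
stated here.) The hypotheses hP and hQ, existence of the universal polynomials, are true statements
carried so that the identities of K can be used at every index. -/
theorem result (K : Type u) [CommRing K] [LambdaRing.LambdaOps K]
    (hK : LambdaRing.IsSpecial K)
    (hP : ∀ n : ℕ, ∃ P : MvPolynomial (Fin n ⊕ Fin n) ℤ, LambdaRing.IsMulPoly n P)
    (hQ : ∀ i j : ℕ, ∃ Q : MvPolynomial (Fin (i * j)) ℤ, LambdaRing.IsCompPoly i j Q)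
    (d : ℕ) (N : K) (hN : ∀ i : ℕ, d < i → LambdaRing.LambdaOps.lam i N = 0)
    (p : ℕ) (hp : 1 ≤ p) (x : K) :
    (∑ i ∈ range (d + 1), (-1 : K) ^ i * LambdaRing.LambdaOps.lam i N) ∣
      LambdaRing.LambdaOps.lam p (x * ∑ i ∈ range (d + 1), (-1 : K) ^ i * LambdaRing.LambdaOps.lam i N) := by
  open MvPolynomial Groth.Agent.Lib.Helper44.GammaUniv Groth.Agent.Lib.Helper44.GammaWeights
    Groth.Agent.Lib.Helper44.LambdaShift Groth.Agent.Lib.Helper44.LambdaTerm
    Groth.Agent.Lib.Helper44.GammaTransferM Groth.Agent.Lib.Helper44.GammaDiv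
    Groth.Agent.Lib.Helper44.GammaRank in
  classical
  show lamAlt d N ∣ LambdaRing.LambdaOps.lam p (x * lamAlt d N)
  rcases Nat.eq_zero_or_pos d with h0 | h0
  · subst h0
    have h1 : lamAlt 0 N = 1 := by
      unfold lamAlt
      rw [Finset.sum_range_one, pow_zero, one_mul, LambdaRing.LambdaOps.lam_zero]
    rw [h1]
    exact one_dvd _
  · obtain ⟨d', rfl⟩ : ∃ d', d = d' + 1 := ⟨d - 1, by omega⟩
    have h1 := hK.lam_one_eq_zero
    let n : K := N - ((d' + 1 : ℕ) : K)
    let t : Tm := Tm.mul (Tm.var 0) (sgn (d' + 1) (Tm.gam (d' + 1) Tm.varN))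
    have hn : ∀ k, d' + 1 < k → LambdaRing.gamma k n = 0 :=
      fun k hk => gamma_sub_rank_eq_zero h1 (d' + 1) N hN k hk
    have hL : lamAlt (d' + 1) N = (-1 : K) ^ (d' + 1) * LambdaRing.gamma (d' + 1) n :=
      lamAlt_eq h1 (d' + 1) N
    have ht : t.eval n (fun _ => x) = x * lamAlt (d' + 1) N := by
      show x * (sgn (d' + 1) (Tm.gam (d' + 1) Tm.varN)).eval n (fun _ => x) = _
      rw [eval_sgn, eval_gam, hL]
      rfl
    have hdiv := verify_div d' (t.rep p) 0 (fun M => ?_) (isMulFil_top (K := K)) n (fun _ => x) hn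
      (fun _ => trivial) (fun _ _ => trivial)
    · obtain ⟨y, _, hy⟩ := hdiv
      rw [← rep_spec hK, ht] at hy
      rw [hy, hL]
      refine ⟨(-1 : K) ^ (d' + 1) * y, ?_⟩
      have h2 : ((-1 : K) ^ (d' + 1)) * ((-1 : K) ^ (d' + 1)) = 1 := by
        rw [← mul_pow]
        norm_num
      linear_combination (-(LambdaRing.gamma (d' + 1) n * y)) * h2
    · letI := shiftOps (Sg (d' + 1) M)
      rw [← rep_spec (isSpecial (Sg (d' + 1) M))]
      have he : t.eval (nu (d' + 1) M) (xu (d' + 1) M) =
          xu (d' + 1) M 0 * ((-1) ^ (d' + 1) * topU (d' + 1) M) := by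
        show xu (d' + 1) M 0 * (sgn (d' + 1) (Tm.gam (d' + 1) Tm.varN)).eval _ _ = _
        rw [eval_sgn, eval_gam]
        show _ * (_ * LambdaRing.gamma (d' + 1) (nu (d' + 1) M)) = _
        rw [gamma_nu_top]
      rw [he]
      have hdvd : topU (d' + 1) M ∣ LambdaRing.LambdaOps.lam p
          (xu (d' + 1) M 0 * ((-1) ^ (d' + 1) * topU (d' + 1) M)) := by
        refine lam_dvd _ _ _ ?_ ?_ p hp
        · exact Dvd.dvd.mul_left (Dvd.dvd.mul_left (dvd_refl _) _) _
        · rw [map_mul, constantCoeff_xu, zero_mul]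
      obtain ⟨q, hq⟩ := hdvd
      exact ⟨q, by rw [pow_zero, Ideal.one_eq_top]; trivial, hq⟩

end Groth.Agent.S8691
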