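import Groth.Statements.S8695
import Groth.Agent.Lib.Helper44.GammaRankDiv

set_option autoImplicit false
universe u v
open Finset nonZeroDivisors
open LambdaRing

namespace Groth.Agent.S8695

/-- In the case where λ_{−1}(N) is a non-zero-divisor: let K be a binomial ring with its binomial
λ-structure, A a λ-ring in the strict sense which is an augmented K-λ-algebra with augmentation ε,
and Fil^n A the γ-filtration (the ideal generated by products of γ^{i}(z) with ε(z) = 0 of total
weight ≥ n; all of A for n = 0). Let d ≥ 1 and N ∈ A be of rank d, that is λ^k(N) = 0 for all k > d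
and ε(N) = d; put λ_{−1}(N) = Σ_{i ≤ d} (−1)^i λ^i(N), and suppose λ_{−1}(N) is a non-zero-divisor.
Then for p ≥ 1 and x ∈ A, the unique y with y · λ_{−1}(N) = γ^p(x · λ_{−1}(N)) — when it exists —
lies in Fil^{p−d} A. (The published statement is γ^p(N, x) ∈ Fil^{p−d} A for the element γ^p(N, x)
defined by substitution from the universal λ-ring, where it is characterised by γ^p(N, x) ·
λ_{−1}(N) = γ^p(x · λ_{−1}(N)); this row covers the case in which that identity determines the
element, λ_{−1}(N) being a non-zero-divisor. The published statement also omits the condition ε(N) =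
d, which its proof uses when it maps the universal generator to N − d compatibly with the
augmentations; without it N = 0, d = 1, x = 1, p = 2 in the integers gives γ^2(1) = 1 outside Fil^1
= 0, so ε(N) = d is assumed here, as is the standing assumption d ≥ 1.) The hypotheses hP and hQ,
existence of the universal polynomials, are true statements carried so that the identities of A can
be used at every index. -/
theorem result
    (K : Type u) [CommRing K] [LambdaRing.LambdaOps K] [BinomialRing K] (hKb : LambdaRing.IsBinomial K)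
    (hK : LambdaRing.IsSpecial K)
    (A : Type v) [CommRing A] [LambdaRing.LambdaOps A] [Algebra K A] (hA : LambdaRing.IsSpecial A)
    (hP : ∀ n : ℕ, ∃ P : MvPolynomial (Fin n ⊕ Fin n) ℤ, LambdaRing.IsMulPoly n P)
    (hQ : ∀ i j : ℕ, ∃ Q : MvPolynomial (Fin (i * j)) ℤ, LambdaRing.IsCompPoly i j Q)
    (ε : A →ₐ[K] K) (hε : LambdaRing.IsAugLambdaAlg K A ε)
    (d : ℕ) (hd : 1 ≤ d) (N : A) (hN : ∀ k : ℕ, d < k → LambdaRing.LambdaOps.lam k N = 0) (hNε : ε N = (d : K))
    (hnzd : (∑ j ∈ range (d + 1), (-1 : A) ^ j * LambdaRing.LambdaOps.lam j N) ∈ A⁰)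
    (p : ℕ) (hp : 1 ≤ p) (x y : A)
    (hy : y * (∑ j ∈ range (d + 1), (-1 : A) ^ j * LambdaRing.LambdaOps.lam j N) = LambdaRing.gamma p (x * (∑ j ∈ range (d + 1), (-1 : A) ^ j * LambdaRing.LambdaOps.lam j N))) :
    y ∈ LambdaRing.gammaFil (ε : A →+* K) (p - d) := by
  open Groth.Agent.Lib.Helper44.GammaUniv Groth.Agent.Lib.Helper44.GammaWeights
    Groth.Agent.Lib.Helper44.GammaFilMain Groth.Agent.Lib.Helper44.LambdaShift
    Groth.Agent.Lib.Helper44.GammaRank Groth.Agent.Lib.Helper44.GammaRankDiv in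
  classical
  obtain ⟨d', rfl⟩ : ∃ d', d = d' + 1 := ⟨d - 1, by omega⟩
  have hF := isMulFil_gammaFil (ε : A →+* K)
  have h1 := hA.lam_one_eq_zero
  have hL : lamAlt (d' + 1) N = (-1 : A) ^ (d' + 1) * LambdaRing.gamma (d' + 1) (N - ((d' + 1 : ℕ) : A)) :=
    lamAlt_eq h1 (d' + 1) N
  have hn : ∀ k, d' + 1 < k → LambdaRing.gamma k (N - ((d' + 1 : ℕ) : A)) = 0 :=
    fun k hk => gamma_sub_rank_eq_zero h1 (d' + 1) N hN k hk
  have hn0 : ε (N - ((d' + 1 : ℕ) : A)) = 0 := by
    rw [map_sub, hNε, map_natCast, sub_self]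
  have hsq : ((-1 : A) ^ (d' + 1)) * ((-1 : A) ^ (d' + 1)) = 1 := by
    rw [← mul_pow]
    norm_num
  have hnzd' : lamAlt (d' + 1) N ∈ A⁰ := hnzd
  have hPnz : ∀ z : A, LambdaRing.gamma (d' + 1) (N - ((d' + 1 : ℕ) : A)) * z = 0 → z = 0 := by
    intro z hz
    refine (mem_nonZeroDivisors_iff.1 hnzd').1 z ?_
    rw [hL, mul_assoc, hz, mul_zero]
  have hx0 : x ∈ LambdaRing.gammaFil (ε : A →+* K) 0 := by
    rw [hF.zero]
    trivial
  obtain ⟨h, hs, _, hg, _⟩ := inv_of_mem hKb hA ε hε d' _ hn0 hn hPnz 0 x hx0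
  have hy' : y * lamAlt (d' + 1) N = LambdaRing.gamma p (x * lamAlt (d' + 1) N) := hy
  rw [hL, hg p hp] at hy'
  have h2 : (-1 : A) ^ (d' + 1) * y - h p = 0 := by
    apply hPnz
    linear_combination hy'
  have h3 : y = (-1 : A) ^ (d' + 1) * h p := by
    linear_combination (-(y : A)) * hsq + ((-1 : A) ^ (d' + 1)) * h2
  rw [h3]
  exact Ideal.mul_mem_left _ _ (hs p hp)

end Groth.Agent.S8695
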