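import Groth.Statements.S8696
import Groth.Agent.Lib.Helper44.GammaRankDiv

set_option autoImplicit false
universe u v
open Finset nonZeroDivisors
open LambdaRing

namespace Groth.Agent.S8696

/-- In the case where λ_{−1}(N) is a non-zero-divisor: let K be a binomial ring with its binomial
λ-structure, R a λ-ring in the strict sense which is an augmented K-λ-algebra with augmentation ε
and γ-filtration Fil^n R, d ≥ 1, N ∈ R of rank d (λ^k(N) = 0 for all k > d and ε(N) = d), λ_{−1}(N)
= Σ_{i ≤ d} (−1)^i λ^i(N) a non-zero-divisor, i a natural number and x ∈ Fil^i R. If y ∈ R satisfies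
y · λ_{−1}(N) = γ^{d+i}(x · λ_{−1}(N)), then y − (−1)^{d+i−1} (d+i−1)! · x ∈ Fil^{i+1} R. (The
published statement is about the element γ^{d+i}(N, x) defined by substitution from the universal
λ-ring, characterised there by γ^{q}(N, x) · λ_{−1}(N) = γ^{q}(x · λ_{−1}(N)); this row covers the
case in which that identity determines the element. The published statement also omits ε(N) = d,
which its proof uses when it maps the universal generator to N − d compatibly with the
augmentations; it is assumed here, together with the standing assumption d ≥ 1.) The hypotheses hP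
and hQ, existence of the universal polynomials, are true statements carried so that the identities
of R can be used at every index. -/
theorem result
    (K : Type u) [CommRing K] [LambdaRing.LambdaOps K] [BinomialRing K] (hKb : LambdaRing.IsBinomial K)
    (hK : LambdaRing.IsSpecial K)
    (A : Type v) [CommRing A] [LambdaRing.LambdaOps A] [Algebra K A] (hA : LambdaRing.IsSpecial A)
    (hP : ∀ n : ℕ, ∃ P : MvPolynomial (Fin n ⊕ Fin n) ℤ, LambdaRing.IsMulPoly n P)
    (hQ : ∀ i j : ℕ, ∃ Q : MvPolynomial (Fin (i * j)) ℤ, LambdaRing.IsCompPoly i j Q)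
    (ε : A →ₐ[K] K) (hε : LambdaRing.IsAugLambdaAlg K A ε)
    (d : ℕ) (hd : 1 ≤ d) (N : A) (hN : ∀ k : ℕ, d < k → LambdaRing.LambdaOps.lam k N = 0) (hNε : ε N = (d : K))
    (hnzd : (∑ j ∈ range (d + 1), (-1 : A) ^ j * LambdaRing.LambdaOps.lam j N) ∈ A⁰)
    (i : ℕ) (x : A) (hx : x ∈ LambdaRing.gammaFil (ε : A →+* K) i) (y : A)
    (hy : y * (∑ j ∈ range (d + 1), (-1 : A) ^ j * LambdaRing.LambdaOps.lam j N) = LambdaRing.gamma (d + i) (x * (∑ j ∈ range (d + 1), (-1 : A) ^ j * LambdaRing.LambdaOps.lam j N))) :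
    y - (-1 : A) ^ (d + i - 1) * ((d + i - 1).factorial : A) * x ∈ LambdaRing.gammaFil (ε : A →+* K) (i + 1) := by
  open Groth.Agent.Lib.Helper44.GammaUniv Groth.Agent.Lib.Helper44.GammaWeights
    Groth.Agent.Lib.Helper44.GammaFilMain Groth.Agent.Lib.Helper44.LambdaShift
    Groth.Agent.Lib.Helper44.GammaRank Groth.Agent.Lib.Helper44.GammaRankDiv in
  classical
  obtain ⟨d', rfl⟩ : ∃ d', d = d' + 1 := ⟨d - 1, by omega⟩
  have hF := isMulFil_gammaFil (ε : A →+* K)
  have h1 := hA.lam_one_eq_zero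
  have hL : lamAlt (d' + 1) N = (-1 : A) ^ (d' + 1) * LambdaRing.gamma (d' + 1) (N - ((d' + 1 : ℕ) : A)) :=
    lamAlt_eq h1 (d' + 1) N
  have hn : ∀ k, d' + 1 < k → LambdaRing.gamma k (N - ((d' + 1 : ℕ) : A)) = 0 :=
    fun k hk => gamma_sub_rank_eq_zero h1 (d' + 1) N hN k hk
  have hn0 : ε (N - ((d' + 1 : ℕ) : A)) = 0 := by
    rw [map_sub, hNε, map_natCast, sub_self]
  have hsq : ((-1 : A) ^ (d' + 1)) * ((-1 : A) ^ (d' + 1)) = 1 := by
    rw [← mul_pow]
    norm_num
  have hnzd' : lamAlt (d' + 1) N ∈ A⁰ := hnzd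
  have hPnz : ∀ z : A, LambdaRing.gamma (d' + 1) (N - ((d' + 1 : ℕ) : A)) * z = 0 → z = 0 := by
    intro z hz
    refine (mem_nonZeroDivisors_iff.1 hnzd').1 z ?_
    rw [hL, mul_assoc, hz, mul_zero]
  obtain ⟨h, _, _, hg, hlead⟩ := inv_of_mem hKb hA ε hε d' _ hn0 hn hPnz i x hx
  have hy' : y * lamAlt (d' + 1) N = LambdaRing.gamma (d' + 1 + i) (x * lamAlt (d' + 1) N) := hy
  rw [hL, add_comm (d' + 1) i, hg (i + (d' + 1)) (by omega)] at hy'
  have h2 : (-1 : A) ^ (d' + 1) * y - h (i + (d' + 1)) = 0 := by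
    apply hPnz
    linear_combination hy'
  have h3 : y - (-1 : A) ^ (d' + 1 + i - 1) * ((d' + 1 + i - 1).factorial : A) * x =
      (-1 : A) ^ (d' + 1) * (h (i + (d' + 1)) - β i (d' + 1) • x) := by
    unfold β
    rw [zsmul_eq_mul, add_comm (d' + 1) i]
    push_cast
    linear_combination (-(y : A) + (-1 : A) ^ (i + (d' + 1) - 1) * ((i + (d' + 1) - 1).factorial : A) * x) * hsq + ((-1 : A) ^ (d' + 1)) * h2
  rw [h3]
  exact Ideal.mul_mem_left _ _ hlead

end Groth.Agent.S8696
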