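import Groth.Statements.S8697
import Groth.Agent.Lib.Helper44.GammaFilMain

set_option autoImplicit false
universe u v
open Finset
open LambdaRing

namespace Groth.Agent.S8697

section Aux

open Groth.Agent.Lib.Helper44.GammaUniv Groth.Agent.Lib.Helper44.GammaWeights
  Groth.Agent.Lib.Helper44.GammaFilMain Groth.Agent.Lib.Helper44.LambdaShift

variable {B : Type v} [CommRing B] [LambdaRing.LambdaOps B] (n : ℕ) (x : B)

/-- the ideal of the monomials of weight at least `k` -/
def Wk (k : ℕ) : Ideal B :=
  Ideal.span {m : B | ∃ e : Fin n → ℕ, k ≤ ∑ j : Fin n, ((j : ℕ) + 1) * e j ∧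
    m = ∏ j : Fin n, LambdaRing.gamma ((j : ℕ) + 1) x ^ e j}

theorem isMulFil_Wk : IsMulFil (Wk n x) where
  zero := by
    rw [Ideal.eq_top_iff_one]
    exact Ideal.subset_span ⟨fun _ => 0, by simp, by simp⟩
  anti := fun a b hab => by
    apply Ideal.span_mono
    rintro y ⟨e, he, rfl⟩
    exact ⟨e, le_trans hab he, rfl⟩
  mul := fun a b y y' hy hy' => by
    have h : Wk n x a * Wk n x b ≤ Wk n x (a + b) := by
      unfold Wk
      rw [Ideal.span_mul_span']
      apply Ideal.span_mono
      rintro _ ⟨y, ⟨e, he, rfl⟩, y', ⟨e', he', rfl⟩, rfl⟩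
      refine ⟨e + e', ?_, ?_⟩
      · have h1 : ∑ j : Fin n, ((j : ℕ) + 1) * (e + e') j =
            ∑ j : Fin n, ((j : ℕ) + 1) * e j + ∑ j : Fin n, ((j : ℕ) + 1) * e' j := by
          rw [← Finset.sum_add_distrib]
          refine Finset.sum_congr rfl fun j _ => ?_
          rw [Pi.add_apply, Nat.mul_add]
        omega
      · show (∏ j : Fin n, LambdaRing.gamma ((j : ℕ) + 1) x ^ e j) *
            (∏ j : Fin n, LambdaRing.gamma ((j : ℕ) + 1) x ^ e' j) = _
        rw [← Finset.prod_mul_distrib]
        refine Finset.prod_congr rfl fun j _ => ?_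
        rw [Pi.add_apply, pow_add]
    exact h (Ideal.mul_mem_mul hy hy')

theorem gamma_mem_Wk (hγ : ∀ k : ℕ, n < k → LambdaRing.gamma k x = 0) (i : ℕ) :
    LambdaRing.gamma i x ∈ Wk n x i := by
  classical
  rcases Nat.eq_zero_or_pos i with h0 | h0
  · subst h0
    rw [gamma_zero_left]
    exact (isMulFil_Wk n x).one_mem
  · by_cases hin : i ≤ n
    · refine Ideal.subset_span ⟨Pi.single (⟨i - 1, by omega⟩ : Fin n) 1, ?_, ?_⟩
      · rw [Finset.sum_eq_single (⟨i - 1, by omega⟩ : Fin n)]
        · rw [Pi.single_eq_same]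
          simp only [mul_one]
          omega
        · intro j _ hj
          rw [Pi.single_eq_of_ne hj, mul_zero]
        · intro h
          exact absurd (Finset.mem_univ _) h
      · rw [Finset.prod_eq_single (⟨i - 1, by omega⟩ : Fin n)]
        · rw [Pi.single_eq_same, pow_one]
          congr 1
          simp only
          omega
        · intro j _ hj
          rw [Pi.single_eq_of_ne hj, pow_zero]
        · intro h
          exact absurd (Finset.mem_univ _) h
    · rw [hγ i (by omega)]
      exact zero_mem _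

end Aux

/-- Let K be a binomial ring with its binomial λ-structure and B a λ-ring in the strict sense which is
an augmented K-λ-algebra with augmentation ε. Let x ∈ B satisfy ε(x) = 0 and γ^k(x) = 0 for every k
> n, and assume that γ^1(x), …, γ^n(x) are algebraically independent over K and generate B as a
K-algebra — so B is the K-λ-algebra generated by one element subject to the relations γ^k = 0 for k
> n, a polynomial ring K[γ^1 x, …, γ^n x]. Then for every k, the k-th ideal Fil^k B of the
γ-filtration (generated by the products of γ^{i}(z), ε(z) = 0, of total weight ≥ k) is the ideal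
generated by the monomials ∏_j (γ^j x)^{e_j} with Σ_j j·e_j ≥ k: the λ-ring filtration is the
filtration by the weight in the γ^j x. (With λ in place of γ — relations λ^k x = 0 for k > n and
weights in the λ^j x — the assertion fails already for n = 1, where γ^i(x) = x for all i ≥ 1 puts x
in every Fil^k while x is not in the ideal (x²); the form with γ stated here is the one the proof
establishes.) The hypotheses hP and hQ, existence of the universal polynomials, are true statements
carried so that the identities of B can be used at every index. -/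
theorem result
    (K : Type u) [CommRing K] [LambdaRing.LambdaOps K] [BinomialRing K] (hKb : LambdaRing.IsBinomial K)
    (hK : LambdaRing.IsSpecial K)
    (B : Type v) [CommRing B] [LambdaRing.LambdaOps B] [Algebra K B] (hB : LambdaRing.IsSpecial B)
    (hP : ∀ n : ℕ, ∃ P : MvPolynomial (Fin n ⊕ Fin n) ℤ, LambdaRing.IsMulPoly n P)
    (hQ : ∀ i j : ℕ, ∃ Q : MvPolynomial (Fin (i * j)) ℤ, LambdaRing.IsCompPoly i j Q)
    (ε : B →ₐ[K] K) (hε : LambdaRing.IsAugLambdaAlg K B ε)
    (n : ℕ) (x : B) (hx : ε x = 0) (hγ : ∀ k : ℕ, n < k → LambdaRing.gamma k x = 0)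
    (hind : AlgebraicIndependent K (fun j : Fin n => LambdaRing.gamma ((j : ℕ) + 1) x))
    (hgen : Algebra.adjoin K (Set.range fun j : Fin n => LambdaRing.gamma ((j : ℕ) + 1) x) = ⊤)
    (k : ℕ) :
    LambdaRing.gammaFil (ε : B →+* K) k =
      Ideal.span {m : B | ∃ e : Fin n → ℕ, k ≤ ∑ j : Fin n, ((j : ℕ) + 1) * e j ∧
        m = ∏ j : Fin n, LambdaRing.gamma ((j : ℕ) + 1) x ^ e j} := by
  open Groth.Agent.Lib.Helper44.GammaUniv Groth.Agent.Lib.Helper44.GammaWeights
    Groth.Agent.Lib.Helper44.GammaFilMain Groth.Agent.Lib.Helper44.LambdaShift in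
  classical
  have hW := isMulFil_Wk n x
  have hxT : x ∈ T (Wk n x) hW := gamma_mem_Wk n x hγ
  have hεγ : ∀ j : ℕ, 1 ≤ j → ε (LambdaRing.gamma j x) = 0 := by
    intro j hj
    have h1 := map_gamma (ε : B →+* K) (fun m a => hε.map_lam m a) j x
    have h2 : (ε : B →+* K) x = 0 := hx
    rw [h2, gamma_zero_right j hj] at h1
    exact h1
  show LambdaRing.gammaFil (ε : B →+* K) k = Wk n x k
  apply le_antisymm
  · refine gammaFil_le hW ε hKb hB hε.isLambdaAlg
      (Set.range (algebraMap K B) ∪ Set.range fun j : Fin n => LambdaRing.gamma ((j : ℕ) + 1) x)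
      ?_ ?_ k
    · rintro s (⟨c, rfl⟩ | ⟨j, rfl⟩)
      · rw [AlgHom.commutes, Algebra.algebraMap_self_apply, sub_self]
        exact zero_mem _
      · rw [hεγ _ (by omega), map_zero, sub_zero]
        exact T_gamma hW hB hxT _ (by omega)
    · rw [← Algebra.adjoin_eq_ring_closure, hgen, Algebra.top_toSubring]
  · refine Ideal.span_le.2 ?_
    rintro _ ⟨e, he, rfl⟩
    have hF := isMulFil_gammaFil (ε : B →+* K)
    refine hF.anti _ _ he ?_
    have h1 := hF.prod_mem (Finset.univ : Finset (Fin n))
      (fun j => LambdaRing.gamma ((j : ℕ) + 1) x ^ e j) (fun j => e j * ((j : ℕ) + 1))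
      (fun j _ => hF.pow_mem (gamma_mem_gammaFil (ε : B →+* K) x hx ((j : ℕ) + 1)) (e j))
    have h2 : ∑ j : Fin n, e j * ((j : ℕ) + 1) = ∑ j : Fin n, ((j : ℕ) + 1) * e j :=
      Finset.sum_congr rfl fun j _ => Nat.mul_comm _ _
    rw [h2] at h1
    exact h1

end Groth.Agent.S8697
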