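import Groth.Statements.S8698
import Groth.Agent.Lib.Helper44.GammaFilMain

set_option autoImplicit false
universe u v w
open Finset
open LambdaRing

namespace Groth.Agent.S8698

section Aux

open Groth.Agent.Lib.Helper44.GammaUniv Groth.Agent.Lib.Helper44.GammaWeights
  Groth.Agent.Lib.Helper44.GammaFilMain Groth.Agent.Lib.Helper44.LambdaShift

variable {K : Type u} [CommRing K] {A : Type v} [CommRing A] [LambdaRing.LambdaOps A]
  {B : Type w} [CommRing B] [LambdaRing.LambdaOps B] [Algebra A B] (εA : A →+* K) (x : B)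

/-- the weight of an exponent vector -/
def wtE (e : ℕ →₀ ℕ) : ℕ := e.sum fun j n => (j + 1) * n

/-- the monomial of an exponent vector -/
def monoE (e : ℕ →₀ ℕ) : B := e.prod fun j n => LambdaRing.gamma (j + 1) x ^ n

theorem wtE_add (e e' : ℕ →₀ ℕ) : wtE (e + e') = wtE e + wtE e' := by
  unfold wtE
  rw [Finsupp.sum_add_index']
  · intro j
    rw [Nat.mul_zero]
  · intro j a b
    rw [Nat.mul_add]

theorem monoE_add (e e' : ℕ →₀ ℕ) : monoE x (e + e') = monoE x e * monoE x e' := by
  unfold monoE
  rw [Finsupp.prod_add_index']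
  · intro j
    rw [pow_zero]
  · intro j a b
    rw [pow_add]

/-- the ideal on the right of the statement -/
def Wk (k : ℕ) : Ideal B :=
  Ideal.span {b : B | ∃ (e : ℕ →₀ ℕ) (a : A),
    a ∈ LambdaRing.gammaFil εA (k - wtE e) ∧ b = algebraMap A B a * monoE x e}

theorem isMulFil_Wk : IsMulFil (Wk εA x) where
  zero := by
    rw [Ideal.eq_top_iff_one]
    refine Ideal.subset_span ⟨0, 1, ?_, ?_⟩
    · rw [Nat.zero_sub, (isMulFil_gammaFil εA).zero]
      trivial
    · unfold monoE
      rw [map_one, Finsupp.prod_zero_index, mul_one]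
  anti := fun a b hab => by
    apply Ideal.span_mono
    rintro y ⟨e, c, hc, rfl⟩
    exact ⟨e, c, (isMulFil_gammaFil εA).anti _ _ (by omega) hc, rfl⟩
  mul := fun a b y y' hy hy' => by
    have h : Wk εA x a * Wk εA x b ≤ Wk εA x (a + b) := by
      unfold Wk
      rw [Ideal.span_mul_span']
      apply Ideal.span_mono
      rintro _ ⟨y, ⟨e, c, hc, rfl⟩, y', ⟨e', c', hc', rfl⟩, rfl⟩
      refine ⟨e + e', c * c', ?_, ?_⟩
      · have h1 := gammaFil_mul εA hc hc'
        refine (isMulFil_gammaFil εA).anti _ _ ?_ h1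
        rw [wtE_add]
        omega
      · show (algebraMap A B c * monoE x e) * (algebraMap A B c' * monoE x e') = _
        rw [map_mul, monoE_add]
        ring
    exact h (Ideal.mul_mem_mul hy hy')

theorem gamma_mem_Wk (i : ℕ) : LambdaRing.gamma i x ∈ Wk εA x i := by
  rcases Nat.eq_zero_or_pos i with h0 | h0
  · subst h0
    rw [gamma_zero_left]
    exact (isMulFil_Wk εA x).one_mem
  · refine Ideal.subset_span ⟨Finsupp.single (i - 1) 1, 1, ?_, ?_⟩
    · have h1 : wtE (Finsupp.single (i - 1) 1) = i := by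
        unfold wtE
        rw [Finsupp.sum_single_index (by rw [Nat.mul_zero])]
        omega
      rw [h1, Nat.sub_self, (isMulFil_gammaFil εA).zero]
      trivial
    · unfold monoE
      rw [Finsupp.prod_single_index (by rw [pow_zero]), map_one, one_mul, pow_one,
        Nat.sub_add_cancel h0]

theorem monoE_mem {K' : Type*} [CommRing K'] (ε : B →+* K') (hx : ε x = 0) (e : ℕ →₀ ℕ) :
    monoE x e ∈ LambdaRing.gammaFil ε (wtE e) := by
  have hF := isMulFil_gammaFil ε
  unfold monoE wtE Finsupp.prod Finsupp.sum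
  have h1 := hF.prod_mem e.support (fun j => LambdaRing.gamma (j + 1) x ^ e j)
    (fun j => e j * (j + 1)) (fun j _ => hF.pow_mem (gamma_mem_gammaFil ε x hx (j + 1)) (e j))
  have h2 : ∑ j ∈ e.support, e j * (j + 1) = ∑ j ∈ e.support, (j + 1) * e j :=
    Finset.sum_congr rfl fun j _ => Nat.mul_comm _ _
  rw [h2] at h1
  exact h1

theorem map_gammaFil {K' : Type*} [CommRing K'] (εA' : A →+* K') (εB : B →+* K')
    (hAB : ∀ (n : ℕ) (a : A), algebraMap A B (LambdaRing.LambdaOps.lam n a) =
      LambdaRing.LambdaOps.lam n (algebraMap A B a))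
    (hε : ∀ a : A, εB (algebraMap A B a) = εA' a) (p : ℕ) :
    LambdaRing.gammaFil εA' p ≤ Ideal.comap (algebraMap A B) (LambdaRing.gammaFil εB p) := by
  refine Ideal.span_le.2 ?_
  rintro y ⟨l, hl, hn, rfl⟩
  show algebraMap A B _ ∈ LambdaRing.gammaFil εB p
  refine Ideal.subset_span ⟨l.map (fun q => (q.1, algebraMap A B q.2)), ?_, ?_, ?_⟩
  · intro q hq
    obtain ⟨q', hq', rfl⟩ := List.mem_map.1 hq
    show εB (algebraMap A B q'.2) = 0
    rw [hε]
    exact hl q' hq'
  · rw [List.map_map]
    exact hn
  · rw [map_list_prod, List.map_map, List.map_map]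
    congr 1
    refine List.map_congr_left fun q _ => ?_
    exact map_gamma (algebraMap A B) hAB q.1 q.2

end Aux

/-- Let K be a binomial ring with its binomial λ-structure, A a λ-ring in the strict sense which is an
augmented K-λ-algebra with augmentation ε_A, and B a λ-ring in the strict sense which is at once an
augmented K-λ-algebra with augmentation ε_B and an A-algebra compatibly with the K-structures, the
structure map A → B commuting with the λ^n and ε_B restricting to ε_A on A. Let x ∈ B with ε_B(x) =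
0, and assume that the family (γ^{j+1} x)_{j ∈ ℕ} is algebraically independent over A and generates
B as an A-algebra: B is the free λ-ring A[X, γ^2 X, γ^3 X, …] on one generator over A, augmented by
X ↦ 0. Then for every k the k-th ideal Fil^k B of the γ-filtration of B is the ideal generated by
the products a · m where m = ∏_j (γ^{j+1} x)^{e_j} is a monomial of weight i = Σ_j (j+1) e_j and a
lies in (the image of) Fil^{k−i} A, with Fil^s A = A for s ≤ 0; that is, Fil^k B = Fil^k A +
Fil^{k−1} A·M_1 + ⋯ + Fil^0 A·M_k + (monomials of weight > k), M_i denoting the monomials of weight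
i. The hypotheses hP and hQ, existence of the universal polynomials, are true statements carried so
that the identities of A and B can be used at every index. -/
theorem result
    (K : Type u) [CommRing K] [LambdaRing.LambdaOps K] [BinomialRing K] (hKb : LambdaRing.IsBinomial K)
    (hK : LambdaRing.IsSpecial K)
    (A : Type v) [CommRing A] [LambdaRing.LambdaOps A] [Algebra K A] (hA : LambdaRing.IsSpecial A)
    (εA : A →ₐ[K] K) (hεA : LambdaRing.IsAugLambdaAlg K A εA)
    (B : Type w) [CommRing B] [LambdaRing.LambdaOps B] [Algebra K B] [Algebra A B] [IsScalarTower K A B]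
    (hB : LambdaRing.IsSpecial B) (hAB : LambdaRing.IsLambdaAlg A B)
    (εB : B →ₐ[K] K) (hεB : LambdaRing.IsAugLambdaAlg K B εB) (hεAB : ∀ a : A, εB (algebraMap A B a) = εA a)
    (hP : ∀ n : ℕ, ∃ P : MvPolynomial (Fin n ⊕ Fin n) ℤ, LambdaRing.IsMulPoly n P)
    (hQ : ∀ i j : ℕ, ∃ Q : MvPolynomial (Fin (i * j)) ℤ, LambdaRing.IsCompPoly i j Q)
    (x : B) (hx : εB x = 0)
    (hind : AlgebraicIndependent A (fun j : ℕ => LambdaRing.gamma (j + 1) x))
    (hgen : Algebra.adjoin A (Set.range fun j : ℕ => LambdaRing.gamma (j + 1) x) = ⊤)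
    (k : ℕ) :
    LambdaRing.gammaFil (εB : B →+* K) k =
      Ideal.span {b : B | ∃ (e : ℕ →₀ ℕ) (a : A),
        a ∈ LambdaRing.gammaFil (εA : A →+* K) (k - e.sum fun j n => (j + 1) * n) ∧
        b = algebraMap A B a * e.prod fun j n => LambdaRing.gamma (j + 1) x ^ n} := by
  open Groth.Agent.Lib.Helper44.GammaUniv Groth.Agent.Lib.Helper44.GammaWeights
    Groth.Agent.Lib.Helper44.GammaFilMain Groth.Agent.Lib.Helper44.LambdaShift in
  classical
  have hW := isMulFil_Wk (εA : A →+* K) x
  have hxT : x ∈ T (Wk (εA : A →+* K) x) hW := gamma_mem_Wk (εA : A →+* K) x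
  have hεγ : ∀ j : ℕ, 1 ≤ j → εB (LambdaRing.gamma j x) = 0 := by
    intro j hj
    have h1 := map_gamma (εB : B →+* K) (fun m a => hεB.map_lam m a) j x
    have h2 : (εB : B →+* K) x = 0 := hx
    rw [h2, gamma_zero_right j hj] at h1
    exact h1
  show LambdaRing.gammaFil (εB : B →+* K) k = Wk (εA : A →+* K) x k
  apply le_antisymm
  · refine gammaFil_le hW εB hKb hB hεB.isLambdaAlg
      (Set.range (algebraMap A B) ∪ Set.range fun j : ℕ => LambdaRing.gamma (j + 1) x)
      ?_ ?_ k
    · rintro s (⟨a, rfl⟩ | ⟨j, rfl⟩)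
      · rw [hεAB, IsScalarTower.algebraMap_apply K A B, ← map_sub]
        intro i
        rw [← map_gamma (algebraMap A B) hAB i]
        refine Ideal.subset_span ⟨0, LambdaRing.gamma i (a - algebraMap K A (εA a)), ?_, ?_⟩
        · have h0 : wtE (0 : ℕ →₀ ℕ) = 0 := by
            unfold wtE
            rw [Finsupp.sum_zero_index]
          rw [h0, Nat.sub_zero]
          refine gamma_mem_gammaFil (εA : A →+* K) _ ?_ i
          show εA (a - algebraMap K A (εA a)) = 0
          rw [map_sub, AlgHom.commutes, Algebra.algebraMap_self_apply, sub_self]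
        · unfold monoE
          rw [Finsupp.prod_zero_index, mul_one]
      · show LambdaRing.gamma (j + 1) x - algebraMap K B (εB (LambdaRing.gamma (j + 1) x)) ∈ _
        rw [hεγ _ (by omega), map_zero, sub_zero]
        exact T_gamma hW hB hxT _ (by omega)
    · rw [← Algebra.adjoin_eq_ring_closure, hgen, Algebra.top_toSubring]
  · refine Ideal.span_le.2 ?_
    rintro _ ⟨e, a, ha, rfl⟩
    have hF := isMulFil_gammaFil (εB : B →+* K)
    have h1 : algebraMap A B a ∈ LambdaRing.gammaFil (εB : B →+* K) (k - wtE e) :=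
      map_gammaFil (εA : A →+* K) (εB : B →+* K) hAB hεAB _ ha
    have h2 := monoE_mem x (εB : B →+* K) hx e
    exact hF.anti _ _ (by omega) (hF.mul _ _ _ _ h1 h2)

end Groth.Agent.S8698
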