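import Groth.Statements.S8699
import Groth.Agent.Lib.Helper44.LambdaSpecialCore

set_option autoImplicit false
universe u
open LambdaRing

namespace Groth.Agent.S8699

/-- A binomial ring K (no additive torsion and all binomial coefficients C(x, n) defined) with its
binomial λ-structure λ^n(x) = C(x, n), i.e. λ_t(x) = (1 + t)^x, is a λ-ring in the strict sense:
λ_t(1) = 1 + t, λ^n(xy) = P_n(λ^1 x, …; λ^1 y, …) and λ^j(λ^i x) = Q_{i,j}(λ^1 x, …) for the
universal polynomials. In particular the integers with λ^n(m) = C(m, n) form a λ-ring. -/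
theorem result (K : Type u) [CommRing K] [LambdaRing.LambdaOps K] [BinomialRing K]
    (hKb : LambdaRing.IsBinomial K) : LambdaRing.IsSpecial K := by
  classical
  have := BinomialRing.toIsAddTorsionFree (R := K)
  have htf : ∀ (m : ℕ) (x : K), ((m : K) + 1) * x = 0 → x = 0 := by
    intro m x hx
    have h : (m + 1) • x = (m + 1) • (0 : K) := by
      rw [nsmul_eq_mul, nsmul_zero]
      push_cast
      exact hx
    exact (nsmul_right_inj (Nat.succ_ne_zero m)).1 h
  have hstep : ∀ (x : K) (m : ℕ),
      ((m : K) + 1) * Ring.choose x (m + 1) = Ring.choose x m * (x - m) := by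
    intro x m
    have h := Ring.choose_smul_choose x (Nat.le_succ m)
    have e : m.succ - m = 1 := by omega
    rw [Nat.choose_succ_self_right, e, Ring.choose_one_right, nsmul_eq_mul] at h
    push_cast at h
    exact h
  have hsum : ∀ (x : K) (m : ℕ),
      ∑ i ∈ Finset.range m, (-1 : K) ^ i * x * Ring.choose x (m - i) + (-1) ^ m * x =
        ((m : K) + 1) * Ring.choose x (m + 1) := by
    intro x m
    induction m with
    | zero => simp [Ring.choose_one_right]
    | succ m ih =>
      rw [Finset.sum_range_succ']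
      have h1 : ∑ i ∈ Finset.range m, (-1 : K) ^ (i + 1) * x * Ring.choose x (m + 1 - (i + 1)) =
          -∑ i ∈ Finset.range m, (-1 : K) ^ i * x * Ring.choose x (m - i) := by
        rw [← Finset.sum_neg_distrib]
        refine Finset.sum_congr rfl fun i _ => ?_
        rw [Nat.add_sub_add_right, pow_succ]
        ring
      rw [h1, pow_zero, Nat.sub_zero]
      have h2 := hstep x (m + 1)
      push_cast at h2 ⊢
      rw [h2]
      linear_combination (-1 : K) * ih
  have hrel : ∀ (x : K) (n : ℕ), Groth.Agent.Lib.Helper44.NewtonSeq.Rel n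
      (fun i => LambdaRing.LambdaOps.lam i x) (fun _ => x) := by
    intro x n m _
    show ((m : K) + 1) * LambdaRing.LambdaOps.lam (m + 1) x =
      ∑ i ∈ Finset.range m, (-1 : K) ^ i * x * LambdaRing.LambdaOps.lam (m - i) x + (-1) ^ m * x
    rw [hKb, ← hsum x m]
    congr 1
    refine Finset.sum_congr rfl fun i _ => ?_
    rw [hKb]
  have hadams : ∀ k : ℕ, 1 ≤ k → ∀ x : K, LambdaRing.adamsOp k x = x := by
    intro k hk x
    obtain ⟨m, rfl⟩ : ∃ m, k = m + 1 := ⟨k - 1, by omega⟩
    exact ((Groth.Agent.Lib.Helper44.LambdaNewton.rel_lam_adams (m + 1) x).eq_newtonB m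
      (Nat.lt_succ_self m)).trans ((hrel x (m + 1)).eq_newtonB m (Nat.lt_succ_self m)).symm
  exact Groth.Agent.Lib.Helper44.LambdaSpecial.isSpecial_of_adams K htf
    (fun k hk => hadams k hk 1)
    (fun k hk x y => by rw [hadams k hk, hadams k hk x, hadams k hk y])
    (fun k k' hk hk' x => by
      rw [hadams k' hk' x, hadams k hk x, hadams (k * k') (Nat.mul_pos hk hk') x])

end Groth.Agent.S8699
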