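import Groth.Statements.S8702
import Groth.Agent.Lib.Helper44.LambdaFromAdams

set_option autoImplicit false
universe u
open LambdaRing

namespace Groth.Agent.S8702


section Aux

open Groth.Agent.Lib.Helper44.LambdaFromAdams Groth.Agent.Lib.Helper44.LambdaAdams Finset

variable {K : Type u} [CommRing K] [Algebra ℚ K] (ψ : ℕ → K →+ K)

/-- The prescribed coefficients of the logarithmic derivative. -/
noncomputable def dseq (x : K) : ℕ → K := fun i => (-1) ^ i * ψ (i + 1) x

theorem mk_dseq_add (x y : K) :
    PowerSeries.mk (dseq ψ (x + y)) = PowerSeries.mk (dseq ψ x) + PowerSeries.mk (dseq ψ y) := by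
  ext n
  rw [map_add, PowerSeries.coeff_mk, PowerSeries.coeff_mk, PowerSeries.coeff_mk]
  unfold dseq
  rw [map_add, mul_add]

theorem sol_add (x y : K) : sol (dseq ψ (x + y)) = sol (dseq ψ x) * sol (dseq ψ y) := by
  apply ode_unique (PowerSeries.mk (dseq ψ (x + y)))
  · exact derivative_sol _
  · rw [Derivation.leibniz, derivative_sol, derivative_sol, mk_dseq_add]
    simp only [smul_eq_mul]
    ring
  · rw [map_mul, constantCoeff_sol, constantCoeff_sol, constantCoeff_sol, mul_one]

/-- The pre-λ-structure with prescribed Adams operations. -/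
noncomputable def ops (hψ : ψ 1 = AddMonoidHom.id K) : LambdaRing.LambdaOps K where
  lam n x := cf (dseq ψ x) n
  lam_zero x := cf_zero _
  lam_one x := by
    have h := cf_succ (dseq ψ x) 0
    rw [Finset.sum_range_one, Nat.sub_zero, cf_zero, mul_one, Nat.cast_zero, zero_add, one_mul] at h
    rw [h]
    unfold dseq
    rw [pow_zero, one_mul, zero_add, hψ]
    rfl
  lam_add k x y := by
    have h := congrArg (PowerSeries.coeff k) (sol_add ψ x y)
    rw [PowerSeries.coeff_mul, Finset.Nat.sum_antidiagonal_eq_sum_range_succ_mk] at h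
    simp only [sol, PowerSeries.coeff_mk] at h
    exact h

theorem lamSeries_ops (hψ : ψ 1 = AddMonoidHom.id K) (x : K) :
    @LambdaRing.lamSeries K _ (ops ψ hψ) x = sol (dseq ψ x) := rfl

theorem logDerivSeries_ops (hψ : ψ 1 = AddMonoidHom.id K) (x : K) :
    @LambdaRing.logDerivSeries K _ (ops ψ hψ) x = PowerSeries.mk (dseq ψ x) := by
  unfold LambdaRing.logDerivSeries
  rw [lamSeries_ops, derivative_sol, mul_assoc,
    PowerSeries.mul_invOfUnit _ _ (by rw [constantCoeff_sol]; rfl), mul_one]

theorem adamsOp_ops (hψ : ψ 1 = AddMonoidHom.id K) (k : ℕ) (x : K) :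
    @LambdaRing.adamsOp K _ (ops ψ hψ) (k + 1) x = ψ (k + 1) x := by
  show (-1) ^ k * PowerSeries.coeff k (@LambdaRing.logDerivSeries K _ (ops ψ hψ) x) = _
  rw [logDerivSeries_ops, PowerSeries.coeff_mk]
  unfold dseq
  rw [← mul_assoc, ← mul_pow]
  norm_num

theorem lambdaOps_ext (L1 L2 : LambdaRing.LambdaOps K)
    (h : ∀ n x, @LambdaRing.LambdaOps.lam K _ L1 n x = @LambdaRing.LambdaOps.lam K _ L2 n x) :
    L1 = L2 := by
  obtain ⟨l1, _, _, _⟩ := L1
  obtain ⟨l2, _, _, _⟩ := L2
  have : l1 = l2 := by
    funext n x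
    exact h n x
  subst this
  rfl

/-- Any pre-λ-structure with the prescribed Adams operations has the prescribed λ-operations. -/
theorem lam_eq_cf (L : LambdaRing.LambdaOps K)
    (hL : ∀ k : ℕ, 1 ≤ k → ∀ x : K, @LambdaRing.adamsOp K _ L k x = ψ k x) :
    ∀ (n : ℕ) (x : K), @LambdaRing.LambdaOps.lam K _ L n x = cf (dseq ψ x) n := by
  intro n
  induction n using Nat.strong_induction_on with
  | _ n ih =>
    intro x
    rcases n with _ | n
    · rw [cf_zero]
      exact @LambdaRing.LambdaOps.lam_zero K _ L x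
    · have h1 := @newton K _ L n x
      have h2 := cf_succ (dseq ψ x) n
      have hd : ∀ i, @dcoef K _ L i x = dseq ψ x i := by
        intro i
        rw [@dcoef_eq K _ L i x, hL (i + 1) (by omega)]
        rfl
      apply (isUnit_natCast_succ n).mul_left_cancel
      rw [h1, h2, Finset.sum_range_succ, Nat.sub_self, cf_zero, mul_one, hd]
      congr 1
      refine Finset.sum_congr rfl fun i hi => ?_
      rw [hd, ih (n - i) (by omega)]

end Aux

/-- Let K be a commutative ring which is an algebra over the rationals, and let ψ^k : K → K, k ≥ 1, be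
additive maps with ψ^1 the identity. Then there is one and only one pre-λ-structure on K whose Adams
operations (defined through the logarithmic derivative of λ_t) are the ψ^k for every k ≥ 1, namely
λ_t(x) = exp(Σ_{k ≥ 1} (−1)^{k−1} ψ^k(x) t^k / k): in characteristic zero, pre-λ-structures and
families of additive operations ψ^k with ψ^1 = id determine each other. (The value of the family at
k = 0 is ignored.) -/
theorem result (K : Type u) [CommRing K] [Algebra ℚ K]
    (ψ : ℕ → K →+ K) (hψ : ψ 1 = AddMonoidHom.id K) :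
    ∃! L : LambdaRing.LambdaOps K, ∀ k : ℕ, 1 ≤ k → ∀ x : K, @LambdaRing.adamsOp K _ L k x = ψ k x := by
  refine ⟨ops ψ hψ, ?_, ?_⟩
  · intro k hk x
    obtain ⟨k, rfl⟩ : ∃ j, k = j + 1 := ⟨k - 1, by omega⟩
    exact adamsOp_ops ψ hψ k x
  · intro L hL
    apply lambdaOps_ext
    intro n x
    rw [lam_eq_cf ψ L hL n x]
    rfl

end Groth.Agent.S8702
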