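import Groth.Statements.S8703
import Groth.Agent.Lib.Helper44.LambdaAdams

set_option autoImplicit false
universe u
open LambdaRing

namespace Groth.Agent.S8703


open Groth.Agent.Lib.Helper44.LambdaAdams Finset in
theorem map_dcoef_of_isLambdaHom {K K' : Type u} [CommRing K] [CommRing K']
    [LambdaRing.LambdaOps K] [LambdaRing.LambdaOps K'] (f : K →+* K')
    (hf : LambdaRing.IsLambdaHom f) : ∀ (n : ℕ) (x : K), f (dcoef n x) = dcoef n (f x) := by
  intro n
  induction n using Nat.strong_induction_on with
  | _ n ih =>
    intro x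
    have h1 := newton n x
    have h2 := newton n (f x)
    have e1 : dcoef n x = ((n : K) + 1) * LambdaRing.LambdaOps.lam (n + 1) x -
        ∑ i ∈ range n, dcoef i x * LambdaRing.LambdaOps.lam (n - i) x := by
      rw [h1]; ring
    have e2 : dcoef n (f x) = ((n : K') + 1) * LambdaRing.LambdaOps.lam (n + 1) (f x) -
        ∑ i ∈ range n, dcoef i (f x) * LambdaRing.LambdaOps.lam (n - i) (f x) := by
      rw [h2]; ring
    rw [e1, e2, map_sub, map_mul, map_add, map_natCast, map_one, hf, map_sum]
    congr 1
    refine Finset.sum_congr rfl fun i hi => ?_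
    rw [map_mul, ih i (Finset.mem_range.1 hi), hf]

open Groth.Agent.Lib.Helper44.LambdaAdams Finset in
theorem isLambdaHom_of_map_dcoef {K K' : Type u} [CommRing K] [CommRing K']
    [LambdaRing.LambdaOps K] [LambdaRing.LambdaOps K'] [Algebra ℚ K'] (f : K →+* K')
    (hd : ∀ (n : ℕ) (x : K), f (dcoef n x) = dcoef n (f x)) : LambdaRing.IsLambdaHom f := by
  intro n
  induction n using Nat.strong_induction_on with
  | _ n ih =>
    intro x
    rcases n with _ | n
    · rw [LambdaRing.LambdaOps.lam_zero, LambdaRing.LambdaOps.lam_zero, map_one]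
    · have h1 := newton n x
      have h2 := newton n (f x)
      have hu : IsUnit ((n : K') + 1) := by
        have : IsUnit ((n : ℚ) + 1) := isUnit_iff_ne_zero.2 (Nat.cast_add_one_ne_zero n)
        have := this.map (algebraMap ℚ K')
        rwa [map_add, map_natCast, map_one] at this
      apply hu.mul_left_cancel
      rw [h2]
      have h3 := congrArg f h1
      rw [map_mul, map_add, map_natCast, map_one] at h3
      rw [h3, map_add, map_sum, hd]
      congr 1
      refine Finset.sum_congr rfl fun i hi => ?_
      rw [map_mul, hd, ih (n - i) (by omega)]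

/-- The Adams operations commute with λ-homomorphisms, and conversely, if K and K' are pre-λ-rings which
are algebras over the rationals, a ring homomorphism f : K → K' commuting with the ψ^k for all k ≥ 1
is a λ-homomorphism (commutes with all λ^i), the λ^i being expressible through the ψ^k in
characteristic zero. -/
theorem result (K K' : Type u) [CommRing K] [CommRing K']
    [LambdaRing.LambdaOps K] [LambdaRing.LambdaOps K'] [Algebra ℚ K] [Algebra ℚ K'] (f : K →+* K') :
    LambdaRing.IsLambdaHom f ↔
      ∀ k : ℕ, 1 ≤ k → ∀ x : K, f (LambdaRing.adamsOp k x) = LambdaRing.adamsOp k (f x) := by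
  constructor
  · intro hf k hk x
    obtain ⟨k, rfl⟩ : ∃ j, k = j + 1 := ⟨k - 1, by omega⟩
    rw [Groth.Agent.Lib.Helper44.LambdaAdams.adamsOp_succ,
      Groth.Agent.Lib.Helper44.LambdaAdams.adamsOp_succ, map_mul, map_pow, map_neg, map_one,
      map_dcoef_of_isLambdaHom f hf]
  · intro h
    apply isLambdaHom_of_map_dcoef
    intro n x
    rw [Groth.Agent.Lib.Helper44.LambdaAdams.dcoef_eq, Groth.Agent.Lib.Helper44.LambdaAdams.dcoef_eq,
      map_mul, map_pow, map_neg, map_one, h (n + 1) (by omega)]

end Groth.Agent.S8703
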