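import Groth.Statements.S8704
import Groth.Agent.Lib.Helper17.LambdaGammaSeries

set_option autoImplicit false
universe u v
open LambdaRing

namespace Groth.Agent.S8704

section Aux

open Finset Groth.Agent.Lib.Helper17.Lam

variable {K : Type u} [CommRing K] {A : Type v} [CommRing A] [LambdaOps A] [Algebra K A]

theorem gamma_zero_left (x : A) : gamma 0 x = 1 := by
  unfold gamma
  rw [if_pos rfl]

theorem gamma_one_left (x : A) : gamma 1 x = x := by
  unfold gamma
  rw [if_neg one_ne_zero]
  simp [Finset.sum_range_succ, LambdaOps.lam_one]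

theorem lam_zero_right (j : ℕ) (hj : j ≠ 0) : LambdaOps.lam j (0 : A) = 0 := by
  have h := congrArg (PowerSeries.coeff j) (lamSeries_zero (K := A))
  rw [coeff_lamSeries, PowerSeries.coeff_one, if_neg hj] at h
  exact h

theorem gamma_zero_right (r : ℕ) (hr : 1 ≤ r) : gamma r (0 : A) = 0 := by
  unfold gamma
  rw [if_neg (by omega)]
  refine Finset.sum_eq_zero fun j _ => ?_
  split_ifs with h
  · rw [mul_zero]
  · rw [lam_zero_right j h, mul_zero]

variable (ε : A →ₐ[K] K) (S : Set A)

/-- the generating products of weight at least `n` -/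
def G (n : ℕ) : Set A :=
  {y : A | ∃ l : List (ℕ × A), (∀ p ∈ l, p.2 ∈ S) ∧ n ≤ (l.map Prod.fst).sum ∧
    y = (l.map fun p => LambdaRing.gamma p.1 (p.2 - algebraMap K A (ε p.2))).prod}

/-- their `K`-span -/
def M (n : ℕ) : Submodule K A := Submodule.span K (G ε S n)

theorem G_mul {n m : ℕ} {y y' : A} (hy : y ∈ G ε S n) (hy' : y' ∈ G ε S m) :
    y * y' ∈ G ε S (n + m) := by
  obtain ⟨l, hl, hn, rfl⟩ := hy
  obtain ⟨l', hl', hm, rfl⟩ := hy'
  refine ⟨l ++ l', ?_, ?_, ?_⟩
  · intro p hp
    rcases List.mem_append.1 hp with h | h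
    · exact hl p h
    · exact hl' p h
  · rw [List.map_append, List.sum_append]
    omega
  · rw [List.map_append, List.prod_append]

theorem M_mul {n m : ℕ} {y y' : A} (hy : y ∈ M ε S n) (hy' : y' ∈ M ε S m) :
    y * y' ∈ M ε S (n + m) := by
  have h : M ε S n * M ε S m ≤ M ε S (n + m) := by
    unfold M
    rw [Submodule.span_mul_span]
    apply Submodule.span_mono
    rintro _ ⟨y, hy, y', hy', rfl⟩
    exact G_mul ε S hy hy'
  exact h (Submodule.mul_mem_mul hy hy')

theorem M_mono {n n' : ℕ} (h : n ≤ n') : M ε S n' ≤ M ε S n := by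
  apply Submodule.span_mono
  rintro y ⟨l, hl, hn, rfl⟩
  exact ⟨l, hl, le_trans h hn, rfl⟩

theorem one_mem_M0 : (1 : A) ∈ M ε S 0 :=
  Submodule.subset_span ⟨[], by simp, by simp, by simp⟩

theorem gamma_neg_mem (x : A) (hx : ∀ r, gamma r x ∈ M ε S r) : ∀ r, gamma r (-x) ∈ M ε S r := by
  intro r
  induction r using Nat.strong_induction_on with
  | _ r ih =>
    rcases r with _ | r
    · rw [gamma_zero_left]
      exact one_mem_M0 ε S
    · have h := gamma_add (r + 1) x (-x)
      rw [add_neg_cancel, gamma_zero_right _ (by omega), Finset.sum_range_succ', gamma_zero_left,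
        one_mul, Nat.sub_zero] at h
      have h2 : gamma (r + 1) (-x) =
          -∑ i ∈ range (r + 1), gamma (i + 1) x * gamma (r + 1 - (i + 1)) (-x) := by
        linear_combination -h
      rw [h2]
      refine Submodule.neg_mem _ (Submodule.sum_mem _ fun i hi => ?_)
      have hi' := Finset.mem_range.1 hi
      have h3 := M_mul ε S (hx (i + 1)) (ih (r + 1 - (i + 1)) (by omega))
      rwa [show i + 1 + (r + 1 - (i + 1)) = r + 1 by omega] at h3

/-- the elements all of whose `γ^r` lie in `M r` -/
def T : AddSubgroup A where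
  carrier := {x | ∀ r, gamma r x ∈ M ε S r}
  zero_mem' := fun r => by
    rcases r with _ | r
    · rw [gamma_zero_left]
      exact one_mem_M0 ε S
    · rw [gamma_zero_right _ (by omega)]
      exact zero_mem _
  add_mem' := fun {x y} hx hy r => by
    rw [gamma_add]
    refine Submodule.sum_mem _ fun i hi => ?_
    have hi' := Finset.mem_range.1 hi
    have h3 := M_mul ε S (hx i) (hy (r - i))
    rwa [show i + (r - i) = r by omega] at h3
  neg_mem' := fun {x} hx => gamma_neg_mem ε S x hx

/-- `a ↦ a - ε(a)` -/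
def φ : A →+ A where
  toFun := fun a => a - algebraMap K A (ε a)
  map_zero' := by simp
  map_add' := fun a b => by
    simp only [map_add]
    ring

theorem key (hS : AddSubgroup.closure S = ⊤) (x : A) (hx : ε x = 0) (r : ℕ) :
    gamma r x ∈ M ε S r := by
  have hx' : φ ε x = x := by
    show x - algebraMap K A (ε x) = x
    rw [hx, map_zero, sub_zero]
  have h1 : φ ε x ∈ AddSubgroup.map (φ ε) (AddSubgroup.closure S) :=
    ⟨x, by rw [hS]; trivial, rfl⟩
  rw [AddMonoidHom.map_closure] at h1
  have h2 : AddSubgroup.closure (φ ε '' S) ≤ T ε S := by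
    rw [AddSubgroup.closure_le]
    rintro _ ⟨s, hs, rfl⟩ r
    exact Submodule.subset_span ⟨[(r, s)], by simpa using hs, by simp, by simp [φ]⟩
  have h3 := h2 h1
  rw [hx'] at h3
  exact h3 r

theorem M0_top (hS : AddSubgroup.closure S = ⊤) (a : A) : a ∈ M ε S 0 := by
  have h1 : a = (ε a) • (1 : A) + (a - algebraMap K A (ε a)) := by
    rw [← Algebra.algebraMap_eq_smul_one]
    ring
  rw [h1]
  refine Submodule.add_mem _ (Submodule.smul_mem _ _ (one_mem_M0 ε S)) ?_
  have h2 : ε (a - algebraMap K A (ε a)) = 0 := by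
    rw [map_sub, AlgHom.commutes]
    simp
  have h3 := key ε S hS _ h2 1
  rw [gamma_one_left] at h3
  exact M_mono ε S (Nat.zero_le 1) h3

theorem prod_mem (hS : AddSubgroup.closure S = ⊤) (l : List (ℕ × A)) (hl : ∀ p ∈ l, ε p.2 = 0) :
    (l.map fun p => gamma p.1 p.2).prod ∈ M ε S (l.map Prod.fst).sum := by
  induction l with
  | nil => simpa using one_mem_M0 ε S
  | cons p l ih =>
    simp only [List.map_cons, List.prod_cons, List.sum_cons]
    exact M_mul ε S (key ε S hS p.2 (hl p (by simp)) p.1)
      (ih (fun q hq => hl q (by simp [hq])))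

end Aux

/-- Let K and A be λ-rings in the strict sense, A an augmented K-λ-algebra with augmentation ε : A → K,
and Fil^n A its γ-filtration, the ideal generated by the products γ^{i_1}(x_1) ⋯ γ^{i_k}(x_k) with
i_1 + ⋯ + i_k ≥ n and all ε(x_r) = 0. If a subset S generates A as an abelian group, then Fil^n A,
as a K-submodule of A, is generated over K by the products γ^{i_1}(s_1 − ε(s_1)) ⋯ γ^{i_k}(s_k −
ε(s_k)) with s_r ∈ S and i_1 + ⋯ + i_k ≥ n. -/
theorem result
    (K : Type u) [CommRing K] [LambdaRing.LambdaOps K] (hK : LambdaRing.IsSpecial K)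
    (A : Type v) [CommRing A] [LambdaRing.LambdaOps A] [Algebra K A] (hA : LambdaRing.IsSpecial A)
    (ε : A →ₐ[K] K) (hε : LambdaRing.IsAugLambdaAlg K A ε)
    (S : Set A) (hS : AddSubgroup.closure S = ⊤) (n : ℕ) :
    (LambdaRing.gammaFil (ε : A →+* K) n).restrictScalars K =
      Submodule.span K {y : A | ∃ l : List (ℕ × A), (∀ p ∈ l, p.2 ∈ S) ∧ n ≤ (l.map Prod.fst).sum ∧
        y = (l.map fun p => LambdaRing.gamma p.1 (p.2 - algebraMap K A (ε p.2))).prod} := by
  apply le_antisymm
  · intro y hy
    rw [Submodule.restrictScalars_mem] at hy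
    let I : Ideal A :=
      { carrier := M ε S n
        add_mem' := fun ha hb => Submodule.add_mem _ ha hb
        zero_mem' := Submodule.zero_mem _
        smul_mem' := fun a y hy => by
          have h := M_mul ε S (M0_top ε S hS a) hy
          rwa [zero_add] at h }
    have h1 : LambdaRing.gammaFil (ε : A →+* K) n ≤ I := by
      refine Ideal.span_le.2 ?_
      rintro y ⟨l, hl, hn, rfl⟩
      exact M_mono ε S hn (prod_mem ε S hS l hl)
    exact h1 hy
  · refine Submodule.span_le.2 ?_
    rintro y ⟨l, hl, hn, rfl⟩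
    show _ ∈ LambdaRing.gammaFil (ε : A →+* K) n
    refine Ideal.subset_span ⟨l.map (fun p => (p.1, p.2 - algebraMap K A (ε p.2))), ?_, ?_, ?_⟩
    · intro p hp
      obtain ⟨q, _, rfl⟩ := List.mem_map.1 hp
      show ε (q.2 - algebraMap K A (ε q.2)) = 0
      rw [map_sub, AlgHom.commutes]
      simp
    · rw [List.map_map]
      exact hn
    · rw [List.map_map]
      rfl

end Groth.Agent.S8704
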