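import Groth.Statements.S8705
import Mathlib
-- import your own Groth.Agent.* helpers here

set_option autoImplicit false
universe u
open SGA7

namespace Groth.Agent.S8705

section tw
variable {P A : Type*} [AddCommGroup P] [AddCommGroup A]

/-- the underlying type of the extension of `P` by `A` twisted by a cocycle `f` -/
structure TwExt (f : P → P → A) where
  fst : A
  snd : P

namespace TwExt
variable {f : P → P → A}

theorem ext' {x y : TwExt f} (h1 : x.fst = y.fst) (h2 : x.snd = y.snd) : x = y := by
  obtain ⟨a, p⟩ := x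
  obtain ⟨b, q⟩ := y
  dsimp only at h1 h2
  subst h1 h2
  rfl

/-- twisted addition -/
def add (x y : TwExt f) : TwExt f := ⟨x.fst + y.fst + f x.snd y.snd, x.snd + y.snd⟩
/-- twisted zero -/
def zero : TwExt f := ⟨-f 0 0, 0⟩
/-- twisted negation -/
def neg (x : TwExt f) : TwExt f := ⟨-x.fst - f x.snd (-x.snd) - f 0 0, -x.snd⟩

theorem f_right_zero (hc : ∀ p q r, f (p + q) r + f p q = f p (q + r) + f q r) (p : P) :
    f p 0 = f 0 0 := by
  have h := hc p 0 0
  rw [add_zero, add_zero] at h
  exact add_left_cancel h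

theorem f_left_zero (hs : ∀ p q, f p q = f q p)
    (hc : ∀ p q r, f (p + q) r + f p q = f p (q + r) + f q r) (p : P) :
    f 0 p = f 0 0 := by
  rw [hs 0 p]; exact f_right_zero hc p

theorem add_assoc' (hc : ∀ p q r, f (p + q) r + f p q = f p (q + r) + f q r)
    (x y z : TwExt f) : add (add x y) z = add x (add y z) := by
  apply ext'
  · simp only [add]
    have h := hc x.snd y.snd z.snd
    have h1 : x.fst + y.fst + f x.snd y.snd + z.fst + f (x.snd + y.snd) z.snd
        = (x.fst + y.fst + z.fst) + (f (x.snd + y.snd) z.snd + f x.snd y.snd) := by abel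
    rw [h1, h]; abel
  · simp only [add]; exact add_assoc _ _ _

theorem add_comm' (hs : ∀ p q, f p q = f q p) (x y : TwExt f) : add x y = add y x := by
  apply ext'
  · simp only [add]; rw [hs x.snd y.snd]; abel
  · simp only [add]; exact add_comm _ _

theorem zero_add' (hs : ∀ p q, f p q = f q p)
    (hc : ∀ p q r, f (p + q) r + f p q = f p (q + r) + f q r) (x : TwExt f) :
    add zero x = x := by
  apply ext'
  · simp only [add, zero]; rw [f_left_zero hs hc x.snd]; abel
  · simp only [add, zero]; exact zero_add _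

theorem neg_add' (hs : ∀ p q, f p q = f q p) (x : TwExt f) : add (neg x) x = zero := by
  apply ext'
  · simp only [add, neg, zero]; rw [hs (-x.snd) x.snd]; abel
  · simp only [add, neg, zero]; exact neg_add_cancel _

/-- the group structure on the twisted extension -/
noncomputable def group (hs : ∀ p q, f p q = f q p)
    (hc : ∀ p q r, f (p + q) r + f p q = f p (q + r) + f q r) : AddCommGroup (TwExt f) :=
  letI : Add (TwExt f) := ⟨add⟩
  letI : Zero (TwExt f) := ⟨zero⟩
  letI : Neg (TwExt f) := ⟨neg⟩
  { AddGroup.ofLeftAxioms (G := TwExt f) (add_assoc' hc) (zero_add' hs hc) (neg_add' hs) with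
    add_comm := add_comm' hs }

end TwExt
end tw

section main
variable (P : Type u) [AddCommGroup P]

/-- augmentation -/
noncomputable def eps : (P →₀ ℤ) →ₗ[ℤ] P := Finsupp.linearCombination ℤ (fun p : P => p)
/-- d₀ -/
noncomputable def d0 : (P × P →₀ ℤ) →ₗ[ℤ] (P →₀ ℤ) := Finsupp.linearCombination ℤ
  (fun pq : P × P => Finsupp.single (pq.1 + pq.2) 1 - Finsupp.single pq.1 1 - Finsupp.single pq.2 1)
/-- d₁ -/
noncomputable def d1 : (P × P × P →₀ ℤ) →ₗ[ℤ] (P × P →₀ ℤ) := Finsupp.linearCombination ℤ
  (fun t : P × P × P => Finsupp.single (t.1 + t.2.1, t.2.2) 1 - Finsupp.single (t.1, t.2.1 + t.2.2) 1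
    + Finsupp.single (t.1, t.2.1) 1 - Finsupp.single (t.2.1, t.2.2) 1)
/-- d₁' -/
noncomputable def d1' : (P × P →₀ ℤ) →ₗ[ℤ] (P × P →₀ ℤ) := Finsupp.linearCombination ℤ
  (fun pq : P × P => Finsupp.single pq 1 - Finsupp.single (pq.2, pq.1) 1)

theorem eps_single (p : P) : eps P (Finsupp.single p 1) = p := by
  simp [eps, Finsupp.linearCombination_single]

theorem d0_single (p q : P) : d0 P (Finsupp.single (p, q) 1) =
    Finsupp.single (p + q) 1 - Finsupp.single p 1 - Finsupp.single q 1 := by
  simp [d0, Finsupp.linearCombination_single]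

theorem d1_single (p q r : P) : d1 P (Finsupp.single (p, q, r) 1) =
    Finsupp.single (p + q, r) 1 - Finsupp.single (p, q + r) 1
    + Finsupp.single (p, q) 1 - Finsupp.single (q, r) 1 := by
  simp [d1, Finsupp.linearCombination_single]

theorem d1'_single (p q : P) : d1' P (Finsupp.single (p, q) 1) =
    Finsupp.single (p, q) 1 - Finsupp.single (q, p) 1 := by
  simp [d1', Finsupp.linearCombination_single]

theorem eps_surj : Function.Surjective (eps P) := fun p => ⟨Finsupp.single p 1, eps_single P p⟩

theorem eps_d0 : (eps P) ∘ₗ (d0 P) = 0 := by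
  apply Finsupp.lhom_ext'
  rintro ⟨p, q⟩
  apply LinearMap.ext_ring
  simp only [LinearMap.comp_apply, Finsupp.lsingle_apply, LinearMap.zero_apply]
  rw [d0_single, map_sub, map_sub, eps_single, eps_single, eps_single]
  abel

theorem d0_d1 : (d0 P) ∘ₗ (d1 P) = 0 := by
  apply Finsupp.lhom_ext'
  rintro ⟨p, q, r⟩
  apply LinearMap.ext_ring
  simp only [LinearMap.comp_apply, Finsupp.lsingle_apply, LinearMap.zero_apply]
  rw [d1_single, map_sub, map_add, map_sub, d0_single, d0_single, d0_single, d0_single,
    add_assoc p q r]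
  abel

theorem d0_d1' : (d0 P) ∘ₗ (d1' P) = 0 := by
  apply Finsupp.lhom_ext'
  rintro ⟨p, q⟩
  apply LinearMap.ext_ring
  simp only [LinearMap.comp_apply, Finsupp.lsingle_apply, LinearMap.zero_apply]
  rw [d1'_single, map_sub, d0_single, d0_single, add_comm q p]
  abel

theorem ker_eps : LinearMap.ker (eps P) = LinearMap.range (d0 P) := by
  apply le_antisymm
  · -- the section `P → Z[P] / range d₀`
    let s : P →+ ((P →₀ ℤ) ⧸ LinearMap.range (d0 P)) := AddMonoidHom.mk'
      (fun p => (LinearMap.range (d0 P)).mkQ (Finsupp.single p 1)) (by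
        intro p q
        rw [← map_add, ← sub_eq_zero, ← map_sub]
        simp only [Submodule.mkQ_apply]
        rw [Submodule.Quotient.mk_eq_zero]
        refine ⟨Finsupp.single (p, q) 1, ?_⟩
        rw [d0_single]; abel)
    have hcomp : (s.toIntLinearMap) ∘ₗ (eps P) = (LinearMap.range (d0 P)).mkQ := by
      apply Finsupp.lhom_ext'
      intro p
      apply LinearMap.ext_ring
      simp only [LinearMap.comp_apply, Finsupp.lsingle_apply]
      rw [eps_single]
      rfl
    intro x hx
    have h1 : (LinearMap.range (d0 P)).mkQ x = 0 := by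
      rw [← hcomp, LinearMap.comp_apply, LinearMap.mem_ker.mp hx, map_zero]
    simpa [Submodule.Quotient.mk_eq_zero] using h1
  · exact LinearMap.range_le_ker_iff.mpr (eps_d0 P)

theorem ker_d0 : LinearMap.ker (d0 P) = LinearMap.range (d1 P) ⊔ LinearMap.range (d1' P) := by
  apply le_antisymm
  · -- the universal symmetric cocycle
    let N : Submodule ℤ (P × P →₀ ℤ) := LinearMap.range (d1 P) ⊔ LinearMap.range (d1' P)
    let f : P → P → ((P × P →₀ ℤ) ⧸ N) := fun p q => N.mkQ (Finsupp.single (p, q) 1)
    have hs : ∀ p q, f p q = f q p := by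
      intro p q
      show N.mkQ _ = N.mkQ _
      rw [← sub_eq_zero, ← map_sub]
      simp only [Submodule.mkQ_apply]
      rw [Submodule.Quotient.mk_eq_zero]
      apply (le_sup_right : LinearMap.range (d1' P) ≤ N)
      exact ⟨Finsupp.single (p, q) 1, d1'_single P p q⟩
    have hc : ∀ p q r, f (p + q) r + f p q = f p (q + r) + f q r := by
      intro p q r
      show N.mkQ _ + N.mkQ _ = N.mkQ _ + N.mkQ _
      rw [← map_add, ← map_add, ← sub_eq_zero, ← map_sub]
      simp only [Submodule.mkQ_apply]
      rw [Submodule.Quotient.mk_eq_zero]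
      apply (le_sup_left : LinearMap.range (d1 P) ≤ N)
      refine ⟨Finsupp.single (p, q, r) 1, ?_⟩
      rw [d1_single]; abel
    letI : AddCommGroup (TwExt f) := TwExt.group hs hc
    have hadd : ∀ x y : TwExt f, x + y = TwExt.add x y := fun _ _ => rfl
    have hzero : (0 : TwExt f) = TwExt.zero := rfl
    let ι : ((P × P →₀ ℤ) ⧸ N) →+ TwExt f := AddMonoidHom.mk'
      (fun a => (⟨a - f 0 0, 0⟩ : TwExt f)) (by
        intro a b
        rw [hadd]
        apply TwExt.ext'
        · simp only [TwExt.add]; abel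
        · simp only [TwExt.add]; rw [add_zero])
    let ψ : (P →₀ ℤ) →ₗ[ℤ] TwExt f :=
      Finsupp.linearCombination ℤ (fun p : P => (⟨0, p⟩ : TwExt f))
    have hψ : ∀ p : P, ψ (Finsupp.single p 1) = (⟨0, p⟩ : TwExt f) := by
      intro p
      simp [ψ, Finsupp.linearCombination_single]
    have hkey : ∀ p q : P, (⟨0, p⟩ : TwExt f) + ⟨0, q⟩ = ι (f p q) + ⟨0, p + q⟩ := by
      intro p q
      rw [hadd, hadd]
      apply TwExt.ext'
      · show (0 : (P × P →₀ ℤ) ⧸ N) + 0 + f p q = (f p q - f 0 0) + 0 + f 0 (p + q)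
        rw [TwExt.f_left_zero hs hc (p + q)]; abel
      · show p + q = 0 + (p + q)
        rw [zero_add]
    have hcomp : ψ ∘ₗ (d0 P) + (ι.toIntLinearMap) ∘ₗ N.mkQ = 0 := by
      apply Finsupp.lhom_ext'
      rintro ⟨p, q⟩
      apply LinearMap.ext_ring
      simp only [LinearMap.comp_apply, Finsupp.lsingle_apply, LinearMap.zero_apply,
        LinearMap.add_apply]
      rw [d0_single, map_sub, map_sub, hψ, hψ, hψ]
      have h1 : (ι.toIntLinearMap) (N.mkQ (Finsupp.single (p, q) 1)) = ι (f p q) := rfl
      rw [h1]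
      have h2 : ι (f p q) = (⟨0, p⟩ : TwExt f) + ⟨0, q⟩ - ⟨0, p + q⟩ :=
        eq_sub_of_add_eq (hkey p q).symm
      rw [h2]; abel
    intro x hx
    have h1 : ι (N.mkQ x) = 0 := by
      have h2 := LinearMap.congr_fun hcomp x
      simp only [LinearMap.comp_apply, LinearMap.zero_apply, LinearMap.add_apply] at h2
      rw [LinearMap.mem_ker.mp hx, map_zero, zero_add] at h2
      exact h2
    have h3 : N.mkQ x = 0 := by
      have h4 := congrArg TwExt.fst h1
      have h5 : N.mkQ x - f 0 0 = - f 0 0 := h4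
      have h6 := sub_eq_neg_self.mp h5
      exact h6
    simpa [Submodule.Quotient.mk_eq_zero] using h3
  · exact sup_le (LinearMap.range_le_ker_iff.mpr (d0_d1 P))
      (LinearMap.range_le_ker_iff.mpr (d0_d1' P))

end main

/-- In the case of the punctual topos (ordinary abelian groups): let P be an abelian group and consider
the complex of free abelian groups Z[P × P × P] ⊕ Z[P × P] → Z[P × P] → Z[P], augmented to P by [p]
↦ p, with d₀[p, q] = [p + q] − [p] − [q], with d₁ on the first summand given by [p, q, r] ↦ [p + q,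
r] − [p, q + r] + [p, q] − [q, r] and on the second summand by [p, q] ↦ [p, q] − [q, p]. Then the
augmentation is surjective with kernel the image of d₀ (so H₀ is P), and the kernel of d₀ is the sum
of the images of the two components of d₁ (so H₁ vanishes). (The published statement is for abelian
sheaves on an arbitrary topos; this row is its case of a one-point space.) -/
theorem result (P : Type u) [AddCommGroup P] :
    letI ε : (P →₀ ℤ) →ₗ[ℤ] P := Finsupp.linearCombination ℤ (fun p : P => p)
    letI d₀ : (P × P →₀ ℤ) →ₗ[ℤ] (P →₀ ℤ) := Finsupp.linearCombination ℤ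
      (fun pq : P × P => Finsupp.single (pq.1 + pq.2) 1 - Finsupp.single pq.1 1 - Finsupp.single pq.2 1)
    letI d₁ : (P × P × P →₀ ℤ) →ₗ[ℤ] (P × P →₀ ℤ) := Finsupp.linearCombination ℤ
      (fun t : P × P × P => Finsupp.single (t.1 + t.2.1, t.2.2) 1 - Finsupp.single (t.1, t.2.1 + t.2.2) 1
        + Finsupp.single (t.1, t.2.1) 1 - Finsupp.single (t.2.1, t.2.2) 1)
    letI d₁' : (P × P →₀ ℤ) →ₗ[ℤ] (P × P →₀ ℤ) := Finsupp.linearCombination ℤ
      (fun pq : P × P => Finsupp.single pq 1 - Finsupp.single (pq.2, pq.1) 1)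
    Function.Surjective ε ∧ LinearMap.ker ε = LinearMap.range d₀ ∧
      LinearMap.ker d₀ = LinearMap.range d₁ ⊔ LinearMap.range d₁' := by
  exact ⟨eps_surj P, ker_eps P, ker_d0 P⟩

end Groth.Agent.S8705
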