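import Groth.Statements.S8710
import Groth.Agent.Lib.Helper46.TorLES

set_option autoImplicit false
universe u
open CategoryTheory CategoryTheory.Limits
open SGA7

namespace Groth.Agent.S8710

open Groth.Agent.Lib.Helper46 in
/-- Sandwich: in a short exact sequence `0 → X → Y → Z → 0` of modules (first variable),
`Torᵢ₊₁(Z, N) = 0` and `Torᵢ(Y, N) = 0` imply `Torᵢ(X, N) = 0`. -/
theorem isZero_of_ses {R : Type u} [CommRing R] {X Y Z N : Type u}
    [AddCommGroup X] [Module R X] [AddCommGroup Y] [Module R Y] [AddCommGroup Z] [Module R Z]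
    [AddCommGroup N] [Module R N]
    (ι : X →ₗ[R] Y) (π : Y →ₗ[R] Z) (hι : Function.Injective ι) (hex : Function.Exact ι π)
    (hπ : Function.Surjective π) (i : ℕ)
    (hZ : IsZero (((Tor (ModuleCat.{u} R) (i + 1)).obj (ModuleCat.of R Z)).obj (ModuleCat.of R N)))
    (hY : IsZero (((Tor (ModuleCat.{u} R) i).obj (ModuleCat.of R Y)).obj (ModuleCat.of R N))) :
    IsZero (((Tor (ModuleCat.{u} R) i).obj (ModuleCat.of R X)).obj (ModuleCat.of R N)) := by
  let S : ShortComplex (ModuleCat.{u} R) :=
    ModuleCat.shortComplexOfCompEqZero ι π hex.linearMap_comp_eq_zero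
  have hS : S.ShortExact := ModuleCat.shortComplex_shortExact S hex hι hπ
  exact (TorLES.exact₁ S hS (ModuleCat.of R N) i).isZero_X₂ (hZ.eq_of_src _ _) (hY.eq_of_tgt _ _)

open Groth.Agent.Lib.Helper46 in
/-- Middle term: `Torᵢ(X, N) = 0` and `Torᵢ(Z, N) = 0` imply `Torᵢ(Y, N) = 0`. -/
theorem isZero_mid_of_ses {R : Type u} [CommRing R] {X Y Z N : Type u}
    [AddCommGroup X] [Module R X] [AddCommGroup Y] [Module R Y] [AddCommGroup Z] [Module R Z]
    [AddCommGroup N] [Module R N]
    (ι : X →ₗ[R] Y) (π : Y →ₗ[R] Z) (hι : Function.Injective ι) (hex : Function.Exact ι π)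
    (hπ : Function.Surjective π) (i : ℕ)
    (hX : IsZero (((Tor (ModuleCat.{u} R) i).obj (ModuleCat.of R X)).obj (ModuleCat.of R N)))
    (hZ : IsZero (((Tor (ModuleCat.{u} R) i).obj (ModuleCat.of R Z)).obj (ModuleCat.of R N))) :
    IsZero (((Tor (ModuleCat.{u} R) i).obj (ModuleCat.of R Y)).obj (ModuleCat.of R N)) := by
  let S : ShortComplex (ModuleCat.{u} R) :=
    ModuleCat.shortComplexOfCompEqZero ι π hex.linearMap_comp_eq_zero
  have hS : S.ShortExact := ModuleCat.shortComplex_shortExact S hex hι hπ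
  exact (TorLES.exact₂ S hS (ModuleCat.of R N) i).isZero_X₂ (hX.eq_of_src _ _) (hZ.eq_of_tgt _ _)

/-- Let f : B' → B be a surjective map of R-algebras with B' flat over R, g : C → B a map of R-algebras,
P = B' ×_B C their fibre product (the equalizer of f ∘ pr₁ and g ∘ pr₂ in B' × C), S an R-algebra
and n a natural number. If Tor_i^R(C, S) = 0 for 0 < i < n and Tor_i^R(B, S) = 0 for 0 < i ≤ n, then
Tor_i^R(P, S) = 0 for 0 < i < n. Here Tor_i^R(M, S) is the i-th left derived functor of M ⊗_R − on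
R-modules, evaluated at S. (The published statement asks the vanishing for B only in degrees 0 < i <
n; the published proof and the corollary following it use it in degrees 0 < i ≤ n, which this row
assumes.) -/
theorem result (R B' B C S : Type u) [CommRing R] [CommRing B'] [CommRing B]
    [CommRing C] [CommRing S] [Algebra R B'] [Algebra R B] [Algebra R C] [Algebra R S]
    (f : B' →ₐ[R] B) (hf : Function.Surjective f) (g : C →ₐ[R] B) [Module.Flat R B'] (n : ℕ)
    (hC : ∀ i : ℕ, 0 < i → i < n →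
      IsZero (((Tor (ModuleCat.{u} R) i).obj (ModuleCat.of R C)).obj (ModuleCat.of R S)))
    (hB : ∀ i : ℕ, 0 < i → i ≤ n →
      IsZero (((Tor (ModuleCat.{u} R) i).obj (ModuleCat.of R B)).obj (ModuleCat.of R S))) :
    letI P := AlgHom.equalizer (f.comp (AlgHom.fst R B' C)) (g.comp (AlgHom.snd R B' C))
    ∀ i : ℕ, 0 < i → i < n →
      IsZero (((Tor (ModuleCat.{u} R) i).obj (ModuleCat.of R ↥P)).obj (ModuleCat.of R S)) := by
  intro i hi0 hin
  let P := AlgHom.equalizer (f.comp (AlgHom.fst R B' C)) (g.comp (AlgHom.snd R B' C))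
  -- `Torᵢ(B' × C, S) = 0`
  have hprod : IsZero (((Tor (ModuleCat.{u} R) i).obj (ModuleCat.of R (B' × C))).obj
      (ModuleCat.of R S)) := by
    refine isZero_mid_of_ses (LinearMap.inl R B' C) (LinearMap.snd R B' C)
      LinearMap.inl_injective ?_ LinearMap.snd_surjective i ?_ (hC i hi0 hin)
    · intro x
      constructor
      · intro h
        exact ⟨x.1, Prod.ext rfl h.symm⟩
      · rintro ⟨y, rfl⟩
        rfl
    · obtain ⟨j, rfl⟩ := Nat.exists_eq_succ_of_ne_zero hi0.ne'
      exact Groth.Agent.Lib.Helper46.TorLES.isZero_tor_succ_of_flat_left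
        (ModuleCat.of R B') (ModuleCat.of R S) j
  -- the sequence `0 → P → B' × C → B → 0`
  let π : (B' × C) →ₗ[R] B :=
    f.toLinearMap ∘ₗ LinearMap.fst R B' C - g.toLinearMap ∘ₗ LinearMap.snd R B' C
  have hπ : Function.Surjective π := by
    intro b
    obtain ⟨b', rfl⟩ := hf b
    exact ⟨(b', 0), by simp [π]⟩
  refine isZero_of_ses (Subalgebra.val P).toLinearMap π Subtype.val_injective ?_ hπ i
    (hB (i + 1) (Nat.succ_pos i) hin) hprod
  intro x
  constructor
  · intro h
    have hx : x ∈ P := by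
      change (f.comp (AlgHom.fst R B' C)) x = (g.comp (AlgHom.snd R B' C)) x
      have : f x.1 - g x.2 = 0 := by simpa [π] using h
      simpa using sub_eq_zero.mp this
    exact ⟨⟨x, hx⟩, rfl⟩
  · rintro ⟨y, rfl⟩
    have hy : (f.comp (AlgHom.fst R B' C)) y.1 = (g.comp (AlgHom.snd R B' C)) y.1 := y.2
    have : f (y.1).1 = g (y.1).2 := by simpa using hy
    simp [π, this]

end Groth.Agent.S8710
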