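import Groth.Statements.S8718
-- import your own Groth.Agent.* helpers here
import Groth.Agent.Lib.Helper40.LocTrivCov

set_option autoImplicit false
universe u
open CategoryTheory CategoryTheory.Limits MonoidalCategory CartesianMonoidalCategory MonObj AlgebraicGeometry
open SGA7

namespace Groth.Agent.S8718

/-- For group schemes over a base scheme S (the representable case on the fppf site): let P and G be
S-group schemes with G commutative, and u : G → E, v : E → P homomorphisms of S-group schemes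
forming a sequence 1 → G → E → P → 1 exact for the fppf topology. Suppose every morphism of
S-schemes P ×_S G → G whose restrictions to P × e_G and to e_P × G are trivial is trivial. Then u(G)
is central in E: for all points g of G and x of E with values in any S-scheme, u(g) x = x u(g). If
moreover P is commutative and every morphism of S-schemes P ×_S P → G trivial on P × e_P and on e_P
× P is trivial, then E is commutative. (The published statement is for sheaves of groups on an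
arbitrary topos; this row is its case of representable sheaves on the fppf site of S. Morphisms to G
form a group; trivial means equal to its unit.) -/
theorem result (S : Scheme.{u})
    (P G E : Over S) [GrpObj P] [GrpObj G] [GrpObj E] [IsCommMonObj G]
    (u : G ⟶ E) (v : E ⟶ P) (hex : NonAbH1.IsExactSeq Scheme.fppfPrecoverage u v)
    (hPG : ∀ f : P ⊗ G ⟶ G, lift (𝟙 P) (toUnit P ≫ η[G]) ≫ f = 1 → lift (toUnit G ≫ η[P]) (𝟙 G) ≫ f = 1 → f = 1) :
    (∀ (T : Over S) (g : T ⟶ G) (x : T ⟶ E), (g ≫ u) * x = x * (g ≫ u)) ∧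
      (IsCommMonObj P →
        (∀ f : P ⊗ P ⟶ G, lift (𝟙 P) (toUnit P ≫ η[P]) ≫ f = 1 → lift (toUnit P ≫ η[P]) (𝟙 P) ≫ f = 1 → f = 1) →
          IsCommMonObj E) := by
  classical
  obtain ⟨hmu, hmv, huv, hsq, hloc⟩ := hex
  have hcov : Groth.Agent.Lib.Helper40.FpqcCov.IsCov v.left :=
    Groth.Agent.Lib.Helper40.FpqcCov.isCov_of_isLocallyTrivialFor_fppf (Over.mk v.left) hloc
  have hepiv : Epi v := Groth.Agent.Lib.Helper40.FpqcCov.epi_of_isCov_left hcov
  have hGcomm : ∀ (T : Over S) (a b : T ⟶ G), a * b = b * a := by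
    intro T a b
    letI := Hom.commMonoid (X := T) (M := G)
    exact mul_comm a b
  -- points with the same image under `v` differ by a point of `G`
  have L3 : ∀ (T : Over S) (x x' : T ⟶ E), x ≫ v = x' ≫ v → ∃ h : T ⟶ G, x' = x * (h ≫ u) := by
    intro T x x' hxx'
    obtain ⟨c, hc1, hc2⟩ : ∃ c : T ⟶ E ⊗ G, c ≫ fst E G = x ∧ c ≫ ((E ◁ u) ≫ μ[E]) = x' :=
      ⟨hsq.lift x x' hxx', hsq.lift_fst _ _ _, hsq.lift_snd _ _ _⟩
    refine ⟨c ≫ snd E G, ?_⟩
    rw [← hc2, ← hc1]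
    have : c = lift (c ≫ fst E G) (c ≫ snd E G) := by
      apply CartesianMonoidalCategory.hom_ext <;> simp
    conv_lhs => rw [this]
    rw [← Category.assoc, lift_whiskerLeft]
    rfl
  have L2 : ∀ (T : Over S) (b : T ⟶ E), b ≫ v = 1 → ∃ k : T ⟶ G, k ≫ u = b := by
    intro T b hb
    obtain ⟨h, hh⟩ := L3 T 1 b (by rw [hb, MonObj.one_comp])
    exact ⟨h, by rw [hh, _root_.one_mul]⟩
  have huone : ∀ (T : Over S) (h : T ⟶ G), (h ≫ u) ≫ v = 1 := by
    intro T h
    rw [Category.assoc, huv, MonObj.comp_one]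
  have humono : ∀ (T : Over S) (a b : T ⟶ G), a ≫ u = b ≫ u → a = b := by
    intro T a b hab
    have h1 : lift (1 : T ⟶ E) a ≫ fst E G = lift (1 : T ⟶ E) b ≫ fst E G := by simp
    have h2 : lift (1 : T ⟶ E) a ≫ ((E ◁ u) ≫ μ[E]) = lift (1 : T ⟶ E) b ≫ ((E ◁ u) ≫ μ[E]) := by
      rw [← Category.assoc, ← Category.assoc, lift_whiskerLeft, lift_whiskerLeft, hab]
    have := hsq.hom_ext h1 h2
    have h3 := congrArg (fun k => k ≫ snd E G) this
    simpa using h3
  -- Part 1: centrality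
  have central : ∀ (T : Over S) (g : T ⟶ G) (x : T ⟶ E), (g ≫ u) * x = x * (g ≫ u) := by
    have hy : (fst E G * (snd E G ≫ u) * (fst E G)⁻¹) ≫ v = 1 := by
      rw [MonObj.mul_comp, MonObj.mul_comp, GrpObj.inv_comp, huone, _root_.mul_one,
        mul_inv_cancel]
    obtain ⟨κ, hκ⟩ := L2 _ _ hy
    have hcovw : Groth.Agent.Lib.Helper40.FpqcCov.IsCov (v ▷ G).left :=
      Groth.Agent.Lib.Helper40.FpqcCov.isCov_whiskerRight hcov G
    have hdesc : ∀ (R : Over S) (a b : R ⟶ E ⊗ G), a ≫ (v ▷ G) = b ≫ (v ▷ G) →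
        a ≫ (κ * (snd E G)⁻¹) = b ≫ (κ * (snd E G)⁻¹) := by
      intro R a b hab
      have hab1 : (a ≫ fst E G) ≫ v = (b ≫ fst E G) ≫ v := by
        have := congrArg (fun k => k ≫ fst P G) hab
        simpa using this
      have hab2 : a ≫ snd E G = b ≫ snd E G := by
        have := congrArg (fun k => k ≫ snd P G) hab
        simpa using this
      obtain ⟨h, hh⟩ := L3 R _ _ hab1
      have hκa : (a ≫ κ) ≫ u = (a ≫ fst E G) * ((a ≫ snd E G) ≫ u) * (a ≫ fst E G)⁻¹ := by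
        rw [Category.assoc, hκ, MonObj.comp_mul, MonObj.comp_mul, GrpObj.comp_inv, Category.assoc]
      have hκb : (b ≫ κ) ≫ u = (b ≫ fst E G) * ((b ≫ snd E G) ≫ u) * (b ≫ fst E G)⁻¹ := by
        rw [Category.assoc, hκ, MonObj.comp_mul, MonObj.comp_mul, GrpObj.comp_inv, Category.assoc]
      have hκab : a ≫ κ = b ≫ κ := by
        apply humono
        rw [hκa, hκb, hh, ← hab2]
        have hcg : (h ≫ u) * ((a ≫ snd E G) ≫ u) * (h ≫ u)⁻¹ = (a ≫ snd E G) ≫ u := by
          rw [← GrpObj.inv_comp, ← MonObj.mul_comp, ← MonObj.mul_comp, hGcomm _ h,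
            mul_inv_cancel_right]
        calc (a ≫ fst E G) * ((a ≫ snd E G) ≫ u) * (a ≫ fst E G)⁻¹
            = (a ≫ fst E G) * ((h ≫ u) * ((a ≫ snd E G) ≫ u) * (h ≫ u)⁻¹) * (a ≫ fst E G)⁻¹ := by
              rw [hcg]
          _ = ((a ≫ fst E G) * (h ≫ u)) * ((a ≫ snd E G) ≫ u) * ((a ≫ fst E G) * (h ≫ u))⁻¹ := by
              group
      rw [MonObj.comp_mul, MonObj.comp_mul, GrpObj.comp_inv, GrpObj.comp_inv, hκab, hab2]
    obtain ⟨cbar, hcbar⟩ :=
      Groth.Agent.Lib.Helper40.FpqcCov.exists_desc_over hcovw (κ * (snd E G)⁻¹) hdesc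
    have hc1 : lift (𝟙 P) (toUnit P ≫ η[G]) ≫ cbar = 1 := by
      rw [← cancel_epi v]
      have e1 : v ≫ lift (𝟙 P) (toUnit P ≫ η[G]) = lift (𝟙 E) (toUnit E ≫ η[G]) ≫ (v ▷ G) := by
        apply CartesianMonoidalCategory.hom_ext
        · simp
        · simp only [Category.assoc, lift_snd, whiskerRight_snd]
          rw [← Category.assoc]
          congr 1
          exact toUnit_unique _ _
      rw [← Category.assoc, e1, Category.assoc, hcbar, MonObj.comp_one]
      have e2 : lift (𝟙 E) (toUnit E ≫ η[G]) ≫ snd E G = 1 := by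
        rw [lift_snd, CategoryTheory.Hom.one_def]
      have e3 : lift (𝟙 E) (toUnit E ≫ η[G]) ≫ κ = 1 := by
        apply humono
        rw [Category.assoc, hκ, MonObj.comp_mul, MonObj.comp_mul, GrpObj.comp_inv,
          ← Category.assoc, e2, MonObj.one_comp, _root_.mul_one, mul_inv_cancel]
      rw [MonObj.comp_mul, GrpObj.comp_inv, e2, e3, inv_one, _root_.mul_one]
    have hc2 : lift (toUnit G ≫ η[P]) (𝟙 G) ≫ cbar = 1 := by
      have e1 : lift (toUnit G ≫ η[P]) (𝟙 G) = lift (toUnit G ≫ η[E]) (𝟙 G) ≫ (v ▷ G) := by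
        apply CartesianMonoidalCategory.hom_ext
        · simp [IsMonHom.one_hom]
        · simp
      rw [e1, Category.assoc, hcbar]
      have e2 : lift (toUnit G ≫ η[E]) (𝟙 G) ≫ snd E G = 𝟙 G := lift_snd _ _
      have e2' : lift (toUnit G ≫ η[E]) (𝟙 G) ≫ fst E G = 1 := by
        rw [lift_fst, CategoryTheory.Hom.one_def]
      have e3 : lift (toUnit G ≫ η[E]) (𝟙 G) ≫ κ = 𝟙 G := by
        apply humono
        rw [Category.assoc, hκ, MonObj.comp_mul, MonObj.comp_mul, GrpObj.comp_inv, e2',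
          ← Category.assoc, e2, _root_.one_mul, inv_one, _root_.mul_one]
      rw [MonObj.comp_mul, GrpObj.comp_inv, e2, e3, mul_inv_cancel]
    have hcbar1 := hPG cbar hc1 hc2
    have hκΓ : κ = snd E G := by
      have : κ * (snd E G)⁻¹ = 1 := by rw [← hcbar, hcbar1, MonObj.comp_one]
      exact mul_inv_eq_one.mp this
    intro T g x
    have h0 : (lift x g ≫ κ) ≫ u =
        lift x g ≫ (fst E G * (snd E G ≫ u) * (fst E G)⁻¹) := by
      rw [Category.assoc, hκ]
    rw [hκΓ, lift_snd, MonObj.comp_mul, MonObj.comp_mul, GrpObj.comp_inv, lift_fst, ← Category.assoc,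
      lift_snd] at h0
    have h' : g ≫ u = x * (g ≫ u) * x⁻¹ := h0
    calc (g ≫ u) * x = (x * (g ≫ u) * x⁻¹) * x := by rw [← h']
      _ = x * (g ≫ u) := by group
  refine ⟨central, ?_⟩
  intro hPc hPP
  have hPcomm : ∀ (T : Over S) (a b : T ⟶ P), a * b = b * a := by
    intro T a b
    letI := Hom.commMonoid (X := T) (M := P)
    exact mul_comm a b
  have hk0 : (fst E E * snd E E * (fst E E)⁻¹ * (snd E E)⁻¹) ≫ v = 1 := by
    rw [MonObj.mul_comp, MonObj.mul_comp, MonObj.mul_comp, GrpObj.inv_comp, GrpObj.inv_comp,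
      hPcomm _ (fst E E ≫ v) (snd E E ≫ v), mul_inv_cancel_right, mul_inv_cancel]
  obtain ⟨κ₂, hκ₂⟩ := L2 _ _ hk0
  have hcov2 : Groth.Agent.Lib.Helper40.FpqcCov.IsCov (v ⊗ₘ v).left :=
    Groth.Agent.Lib.Helper40.FpqcCov.isCov_tensorHom hcov hcov
  have hdesc2 : ∀ (R : Over S) (a b : R ⟶ E ⊗ E), a ≫ (v ⊗ₘ v) = b ≫ (v ⊗ₘ v) →
      a ≫ κ₂ = b ≫ κ₂ := by
    intro R a b hab
    have hab1 : (a ≫ fst E E) ≫ v = (b ≫ fst E E) ≫ v := by
      have := congrArg (fun k => k ≫ fst P P) hab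
      simpa using this
    have hab2 : (a ≫ snd E E) ≫ v = (b ≫ snd E E) ≫ v := by
      have := congrArg (fun k => k ≫ snd P P) hab
      simpa using this
    obtain ⟨h, hh⟩ := L3 R _ _ hab1
    obtain ⟨h', hh'⟩ := L3 R _ _ hab2
    apply humono
    have hκa : (a ≫ κ₂) ≫ u =
        (a ≫ fst E E) * (a ≫ snd E E) * (a ≫ fst E E)⁻¹ * (a ≫ snd E E)⁻¹ := by
      rw [Category.assoc, hκ₂, MonObj.comp_mul, MonObj.comp_mul, MonObj.comp_mul,
        GrpObj.comp_inv, GrpObj.comp_inv]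
    have hκb : (b ≫ κ₂) ≫ u =
        (b ≫ fst E E) * (b ≫ snd E E) * (b ≫ fst E E)⁻¹ * (b ≫ snd E E)⁻¹ := by
      rw [Category.assoc, hκ₂, MonObj.comp_mul, MonObj.comp_mul, MonObj.comp_mul,
        GrpObj.comp_inv, GrpObj.comp_inv]
    rw [hκa, hκb, hh, hh']
    have c1 : ∀ z : R ⟶ E, (h ≫ u) * z = z * (h ≫ u) := fun z => central R h z
    have c2 : ∀ z : R ⟶ E, (h' ≫ u) * z = z * (h' ≫ u) := fun z => central R h' z
    symm
    calc (a ≫ fst E E * h ≫ u) * (a ≫ snd E E * h' ≫ u) * (a ≫ fst E E * h ≫ u)⁻¹ *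
          (a ≫ snd E E * h' ≫ u)⁻¹
        = (a ≫ fst E E) * ((h ≫ u) * (a ≫ snd E E * h' ≫ u) * (h ≫ u)⁻¹) * (a ≫ fst E E)⁻¹ *
          (a ≫ snd E E * h' ≫ u)⁻¹ := by group
      _ = (a ≫ fst E E) * (a ≫ snd E E * h' ≫ u) * (a ≫ fst E E)⁻¹ *
          (a ≫ snd E E * h' ≫ u)⁻¹ := by rw [c1 (a ≫ snd E E * h' ≫ u), mul_inv_cancel_right]
      _ = (a ≫ fst E E) * (a ≫ snd E E) * ((h' ≫ u) * (a ≫ fst E E)⁻¹ * (h' ≫ u)⁻¹) *
          (a ≫ snd E E)⁻¹ := by group
      _ = (a ≫ fst E E) * (a ≫ snd E E) * (a ≫ fst E E)⁻¹ * (a ≫ snd E E)⁻¹ := by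
          rw [c2 (a ≫ fst E E)⁻¹, mul_inv_cancel_right]
  obtain ⟨kbar, hkbar⟩ :=
    Groth.Agent.Lib.Helper40.FpqcCov.exists_desc_over hcov2 κ₂ hdesc2
  have hk1 : lift (𝟙 P) (toUnit P ≫ η[P]) ≫ kbar = 1 := by
    rw [← cancel_epi v]
    have e1 : v ≫ lift (𝟙 P) (toUnit P ≫ η[P]) = lift (𝟙 E) (toUnit E ≫ η[E]) ≫ (v ⊗ₘ v) := by
      apply CartesianMonoidalCategory.hom_ext
      · simp
      · simp only [Category.assoc, lift_snd, tensorHom_snd, lift_snd_assoc, IsMonHom.one_hom]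
        rw [← Category.assoc]
        congr 1
        exact toUnit_unique _ _
    rw [← Category.assoc, e1, Category.assoc, hkbar, MonObj.comp_one]
    apply humono
    rw [Category.assoc, hκ₂, MonObj.comp_mul, MonObj.comp_mul, MonObj.comp_mul, GrpObj.comp_inv,
      GrpObj.comp_inv, lift_fst, lift_snd, ← CategoryTheory.Hom.one_def, inv_one, _root_.mul_one,
      _root_.mul_one, mul_inv_cancel, MonObj.one_comp]
  have hk2 : lift (toUnit P ≫ η[P]) (𝟙 P) ≫ kbar = 1 := by
    rw [← cancel_epi v]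
    have e1 : v ≫ lift (toUnit P ≫ η[P]) (𝟙 P) = lift (toUnit E ≫ η[E]) (𝟙 E) ≫ (v ⊗ₘ v) := by
      apply CartesianMonoidalCategory.hom_ext
      · simp only [Category.assoc, lift_fst, tensorHom_fst, lift_fst_assoc, IsMonHom.one_hom]
        rw [← Category.assoc]
        congr 1
        exact toUnit_unique _ _
      · simp
    rw [← Category.assoc, e1, Category.assoc, hkbar, MonObj.comp_one]
    apply humono
    rw [Category.assoc, hκ₂, MonObj.comp_mul, MonObj.comp_mul, MonObj.comp_mul, GrpObj.comp_inv,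
      GrpObj.comp_inv, lift_fst, lift_snd, ← CategoryTheory.Hom.one_def, inv_one, _root_.one_mul,
      _root_.mul_one, mul_inv_cancel, MonObj.one_comp]
  have hkbar1 := hPP kbar hk1 hk2
  have hκ₂1 : κ₂ = 1 := by rw [← hkbar, hkbar1, MonObj.comp_one]
  have hcomm : fst E E * snd E E = snd E E * fst E E := by
    have h1 : fst E E * snd E E * (fst E E)⁻¹ * (snd E E)⁻¹ = 1 := by
      rw [← hκ₂, hκ₂1, MonObj.one_comp]
    have h2 := mul_inv_eq_one.mp h1
    calc fst E E * snd E E = (fst E E * snd E E * (fst E E)⁻¹) * fst E E := by group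
      _ = snd E E * fst E E := by rw [h2]
  refine ⟨?_⟩
  have hβ : (β_ E E).hom = lift (snd E E) (fst E E) := by
    apply CartesianMonoidalCategory.hom_ext <;> simp
  have hμ : μ[E] = fst E E * snd E E := by
    show μ[E] = lift (fst E E) (snd E E) ≫ μ[E]
    rw [lift_fst_snd, Category.id_comp]
  rw [hβ]
  show snd E E * fst E E = μ[E]
  rw [hμ, hcomm]

end Groth.Agent.S8718
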