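import Groth.Statements.S8719
import Groth.Agent.Lib.Helper44.MvPSDecomp
import Mathlib.RingTheory.MvPowerSeries.Derivative
import Mathlib.LinearAlgebra.Matrix.NonsingularInverse

set_option autoImplicit false
universe u
open VanCyc

namespace Groth.Agent.S8719


open Groth.Agent.Lib.Helper44.MvPSDecomp in
theorem coeff_single_pderiv {k : Type u} [Field k] {N : ℕ} (f : MvPowerSeries (Fin N) k) (i j : Fin N) :
    MvPowerSeries.coeff (Finsupp.single j 1) (MvPowerSeries.pderiv k i f) =
      VanCyc.polarMatrix (VanCyc.quadPart f) i j := by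
  rw [MvPowerSeries.coeff_pderiv]
  unfold VanCyc.polarMatrix VanCyc.quadPart
  by_cases hij : i = j
  · subst hij
    simp only [if_true, Finsupp.single_eq_same]
    rw [← Finsupp.single_add]
    norm_num
    ring
  · rw [if_neg hij]
    have h1 : (Finsupp.single j 1 : Fin N →₀ ℕ) i = 0 := by
      rw [Finsupp.single_apply, if_neg (Ne.symm hij)]
    rw [h1]
    simp only [Nat.cast_zero, zero_add, mul_one]
    by_cases hlt : i < j
    · rw [if_pos hlt, if_neg hij, if_pos hlt, add_comm]
    · have hlt' : j < i := lt_of_le_of_ne (not_lt.1 hlt) (Ne.symm hij)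
      rw [if_neg hlt, if_neg (Ne.symm hij), if_pos hlt']

/-- The formal computation carried out in its proof: let k be a field and f a power series in k[[x_0,
..., x_n]] with vanishing constant and linear terms whose degree-two part is a non-degenerate
quadratic form (the Gram determinant of its polar bilinear form is a unit). Then the partial
derivatives of f generate the maximal ideal of k[[x_0, ..., x_n]] (so f together with its partial
derivatives cut out the origin with multiplicity one). -/
theorem result (k : Type u) [Field k] (n : ℕ)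
    (f : MvPowerSeries (Fin (n + 1)) k) (hf : VanCyc.NondegQuadSeries f) :
    Ideal.span (Set.range fun i : Fin (n + 1) => MvPowerSeries.pderiv k i f) =
      IsLocalRing.maximalIdeal (MvPowerSeries (Fin (n + 1)) k) := by
  classical
  obtain ⟨⟨hc0, hc1⟩, hnd⟩ := hf
  set g : Fin (n + 1) → (MvPowerSeries (Fin (n + 1)) k) := fun i => MvPowerSeries.pderiv k i f with hg
  have hg0 : ∀ i, MvPowerSeries.constantCoeff (g i) = 0 := by
    intro i
    rw [← MvPowerSeries.coeff_zero_eq_constantCoeff_apply, hg]
    simp only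
    rw [MvPowerSeries.coeff_pderiv, zero_add, hc1 i, zero_mul]
  have hmem : ∀ φ : (MvPowerSeries (Fin (n + 1)) k), φ ∈ IsLocalRing.maximalIdeal (MvPowerSeries (Fin (n + 1)) k) ↔ MvPowerSeries.constantCoeff φ = 0 := by
    intro φ
    rw [IsLocalRing.mem_maximalIdeal, mem_nonunits_iff, MvPowerSeries.isUnit_iff_constantCoeff,
      isUnit_iff_ne_zero, not_not]
  -- decompositions
  have hdec : ∀ i, ∃ h : Fin (n + 1) → (MvPowerSeries (Fin (n + 1)) k), g i = ∑ j, MvPowerSeries.X j * h j ∧
      ∀ j, MvPowerSeries.constantCoeff (h j) = MvPowerSeries.coeff (Finsupp.single j 1) (g i) := by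
    intro i
    obtain ⟨h, h1, h2⟩ := Groth.Agent.Lib.Helper44.MvPSDecomp.exists_decomp_univ (g i) (hg0 i)
    exact ⟨h, h1, fun j => (h2 j).1⟩
  choose B hB1 hB2 using hdec
  let Bm : Matrix (Fin (n + 1)) (Fin (n + 1)) (MvPowerSeries (Fin (n + 1)) k) := Matrix.of B
  have hBmap : (MvPowerSeries.constantCoeff (σ := Fin (n + 1)) (R := k)).mapMatrix Bm =
      VanCyc.polarMatrix (VanCyc.quadPart f) := by
    ext i j
    simp only [RingHom.mapMatrix_apply, Matrix.map_apply, Bm, Matrix.of_apply]
    rw [hB2 i j, hg]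
    exact coeff_single_pderiv f i j
  have hdet : IsUnit Bm.det := by
    rw [MvPowerSeries.isUnit_iff_constantCoeff, RingHom.map_det, hBmap]
    exact hnd
  have hinv : Bm⁻¹ * Bm = 1 := Matrix.nonsing_inv_mul Bm hdet
  have hgB : g = Bm.mulVec (fun j => MvPowerSeries.X j) := by
    funext i
    rw [hB1 i]
    simp only [Matrix.mulVec, dotProduct, Bm, Matrix.of_apply]
    refine Finset.sum_congr rfl fun j _ => mul_comm _ _
  have hX : (fun j => (MvPowerSeries.X j : (MvPowerSeries (Fin (n + 1)) k))) = Bm⁻¹.mulVec g := by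
    rw [hgB, Matrix.mulVec_mulVec, hinv, Matrix.one_mulVec]
  apply le_antisymm
  · rw [Ideal.span_le]
    rintro _ ⟨i, rfl⟩
    exact (hmem _).2 (hg0 i)
  · intro φ hφ
    rw [hmem] at hφ
    obtain ⟨h, h1, -⟩ := Groth.Agent.Lib.Helper44.MvPSDecomp.exists_decomp_univ φ hφ
    rw [h1]
    refine Ideal.sum_mem _ fun j _ => Ideal.mul_mem_right _ _ ?_
    have : (MvPowerSeries.X j : (MvPowerSeries (Fin (n + 1)) k)) = Bm⁻¹.mulVec g j := congrFun hX j
    rw [this]
    simp only [Matrix.mulVec, dotProduct]
    refine Ideal.sum_mem _ fun i _ => Ideal.mul_mem_left _ _ ?_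
    exact Ideal.subset_span ⟨i, rfl⟩

end Groth.Agent.S8719
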