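import Groth.Statements.S8720
import Groth.Agent.Lib.Helper44.MvPSDecomp
import Mathlib.RingTheory.Nakayama
import Mathlib.RingTheory.LocalRing.MaximalIdeal.Basic
import Mathlib.Algebra.CharP.Two
import Mathlib.LinearAlgebra.Dimension.Constructions
import Mathlib.LinearAlgebra.Isomorphisms

set_option autoImplicit false
universe u
open VanCyc

namespace Groth.Agent.S8720


section Aux

open MvPowerSeries

variable {k : Type u} [Field k] {m : ℕ}

/-- The target ideal `(x_0^2, x_i, x_i')`. -/
noncomputable def T (k : Type u) [Field k] (m : ℕ) : Ideal (MvPowerSeries (Option (Fin m ⊕ Fin m)) k) :=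
  Ideal.span ({MvPowerSeries.X none ^ 2} ∪
    Set.range fun j : Fin m ⊕ Fin m => (MvPowerSeries.X (some j) : MvPowerSeries (Option (Fin m ⊕ Fin m)) k))

/-- The quadratic form `x_0^2 + Σ x_i x_i'`. -/
noncomputable def Q (k : Type u) [Field k] (m : ℕ) : MvPowerSeries (Option (Fin m ⊕ Fin m)) k :=
  MvPowerSeries.X none ^ 2 +
    ∑ i : Fin m, MvPowerSeries.X (some (Sum.inl i)) * MvPowerSeries.X (some (Sum.inr i))

theorem mem_max_iff (φ : MvPowerSeries (Option (Fin m ⊕ Fin m)) k) :
    φ ∈ IsLocalRing.maximalIdeal (MvPowerSeries (Option (Fin m ⊕ Fin m)) k) ↔ constantCoeff φ = 0 := by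
  rw [IsLocalRing.mem_maximalIdeal, mem_nonunits_iff, MvPowerSeries.isUnit_iff_constantCoeff,
    isUnit_iff_ne_zero, not_not]

theorem Xsome_mem_T (j : Fin m ⊕ Fin m) :
    (X (some j) : MvPowerSeries (Option (Fin m ⊕ Fin m)) k) ∈ T k m :=
  Ideal.subset_span (Or.inr ⟨j, rfl⟩)

theorem Xsq_mem_T : (X none ^ 2 : MvPowerSeries (Option (Fin m ⊕ Fin m)) k) ∈ T k m :=
  Ideal.subset_span (Or.inl rfl)

theorem eq_single_of_forall (e : Option (Fin m ⊕ Fin m) →₀ ℕ) (h : ∀ j, e (some j) = 0) :
    e = Finsupp.single none (e none) := by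
  ext i
  cases i with
  | none => rw [Finsupp.single_eq_same]
  | some j => rw [h j, Finsupp.single_apply, if_neg (by simp)]

/-- A series of order `≥ d` (`d ≥ 2`) lies in `(x_0^d) + 𝔪 T`. -/
theorem mem_of_order (d : ℕ) (hd : 2 ≤ d) (ψ : MvPowerSeries (Option (Fin m ⊕ Fin m)) k)
    (hψ : ∀ e : Option (Fin m ⊕ Fin m) →₀ ℕ, e.degree < d → coeff e ψ = 0) :
    ψ ∈ Ideal.span {(X none ^ d : MvPowerSeries (Option (Fin m ⊕ Fin m)) k)} ⊔
      IsLocalRing.maximalIdeal (MvPowerSeries (Option (Fin m ⊕ Fin m)) k) • T k m := by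
  classical
  obtain ⟨h, r, hdec, hr, hh⟩ := Groth.Agent.Lib.Helper44.MvPSDecomp.exists_decomp
    ((Finset.univ : Finset (Fin m ⊕ Fin m)).image some) ψ
  rw [hdec]
  refine Submodule.add_mem_sup ?_ ?_
  · rw [Ideal.mem_span_singleton, X_pow_dvd_iff]
    intro e he
    rw [hr]
    split_ifs with h1
    · apply hψ
      have h2 : e = Finsupp.single none (e none) :=
        eq_single_of_forall e fun j => h1 (some j) (Finset.mem_image_of_mem _ (Finset.mem_univ j))
      rw [h2, Finsupp.degree_single]
      exact he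
    · rfl
  · refine Submodule.sum_mem _ fun i hi => ?_
    obtain ⟨j, -, rfl⟩ := Finset.mem_image.1 hi
    rw [mul_comm, ← smul_eq_mul]
    refine Submodule.smul_mem_smul ?_ (Xsome_mem_T j)
    rw [mem_max_iff, (hh _ hi).1]
    apply hψ
    rw [Finsupp.degree_single]
    omega

theorem smul_T_le : IsLocalRing.maximalIdeal (MvPowerSeries (Option (Fin m ⊕ Fin m)) k) • T k m ≤ T k m :=
  Submodule.smul_le_right

/-- A series of order `≥ 2` lies in `T`. -/
theorem mem_T_of_order (ψ : MvPowerSeries (Option (Fin m ⊕ Fin m)) k)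
    (hψ : ∀ e : Option (Fin m ⊕ Fin m) →₀ ℕ, e.degree < 2 → coeff e ψ = 0) : ψ ∈ T k m := by
  have := mem_of_order 2 le_rfl ψ hψ
  refine (sup_le ?_ smul_T_le) this
  rw [Ideal.span_singleton_le_iff_mem]
  exact Xsq_mem_T

/-- Coefficients of elements of `T` in degree `< 2` on the `x_0`-axis vanish. -/
theorem coeff_of_mem_T (φ : MvPowerSeries (Option (Fin m ⊕ Fin m)) k) (hφ : φ ∈ T k m)
    (e : Option (Fin m ⊕ Fin m) →₀ ℕ) (he : ∀ j, e (some j) = 0) (he2 : e none < 2) :
    coeff e φ = 0 := by
  unfold T at hφ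
  rw [Ideal.span_union, Submodule.mem_sup] at hφ
  obtain ⟨a, ha, b, hb, rfl⟩ := hφ
  rw [Ideal.mem_span_singleton] at ha
  rw [Ideal.mem_span_range_iff_exists_fun] at hb
  obtain ⟨c, rfl⟩ := hb
  rw [map_add, X_pow_dvd_iff.1 ha e he2, zero_add, map_sum]
  refine Finset.sum_eq_zero fun j _ => ?_
  exact X_dvd_iff.1 (Dvd.intro_left _ rfl) e (he j)

theorem two_eq_zero' [CharP k 2] : (2 : MvPowerSeries (Option (Fin m ⊕ Fin m)) k) = 0 := by
  have h2 : (2 : k) = 0 := CharTwo.two_eq_zero
  have : (2 : MvPowerSeries (Option (Fin m ⊕ Fin m)) k) = C (2 : k) := (map_ofNat C 2).symm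
  rw [this, h2, map_zero]

theorem pderiv_none_Q [CharP k 2] : pderiv k none (Q k m) = 0 := by
  unfold Q
  rw [map_add, pderiv_pow, map_sum, Finset.sum_eq_zero, add_zero]
  · have : ((2 : ℕ) : MvPowerSeries (Option (Fin m ⊕ Fin m)) k) = 0 := by
      rw [Nat.cast_ofNat]; exact two_eq_zero'
    rw [this, zero_mul, zero_mul]
  · intro i _
    rw [Derivation.leibniz, pderiv_X_of_ne (by simp), pderiv_X_of_ne (by simp), smul_zero, smul_zero,
      add_zero]

theorem pderiv_inl_Q (l : Fin m) : pderiv k (some (Sum.inl l)) (Q k m) = X (some (Sum.inr l)) := by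
  unfold Q
  rw [map_add, pderiv_pow, pderiv_X_of_ne (by simp), mul_zero, zero_add, map_sum,
    Finset.sum_eq_single l]
  · rw [Derivation.leibniz, pderiv_X_self, pderiv_X_of_ne (by simp), smul_zero, zero_add,
      smul_eq_mul, mul_one]
  · intro l' _ hl'
    rw [Derivation.leibniz, pderiv_X_of_ne (by simp), pderiv_X_of_ne (by simpa using hl'),
      smul_zero, smul_zero, add_zero]
  · intro h
    exact absurd (Finset.mem_univ l) h

theorem pderiv_inr_Q (l : Fin m) : pderiv k (some (Sum.inr l)) (Q k m) = X (some (Sum.inl l)) := by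
  unfold Q
  rw [map_add, pderiv_pow, pderiv_X_of_ne (by simp), mul_zero, zero_add, map_sum,
    Finset.sum_eq_single l]
  · rw [Derivation.leibniz, pderiv_X_self, pderiv_X_of_ne (by simp), smul_zero, add_zero,
      smul_eq_mul, mul_one]
  · intro l' _ hl'
    rw [Derivation.leibniz, pderiv_X_of_ne (by simpa using hl'), pderiv_X_of_ne (by simp),
      smul_zero, smul_zero, add_zero]
  · intro h
    exact absurd (Finset.mem_univ l) h

theorem Q_mem_T : Q k m ∈ T k m := by
  unfold Q
  refine Ideal.add_mem _ Xsq_mem_T (Submodule.sum_mem _ fun i _ => ?_)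
  exact Ideal.mul_mem_left _ _ (Xsome_mem_T _)

theorem pderiv_Q_mem_T [CharP k 2] (i : Option (Fin m ⊕ Fin m)) : pderiv k i (Q k m) ∈ T k m := by
  rcases i with _ | (l | l)
  · rw [pderiv_none_Q]; exact Submodule.zero_mem _
  · rw [pderiv_inl_Q]; exact Xsome_mem_T _
  · rw [pderiv_inr_Q]; exact Xsome_mem_T _

/-- Membership in `T` from vanishing of the coefficients of `1` and `x_0`. -/
theorem mem_T_of_coeff (φ : MvPowerSeries (Option (Fin m ⊕ Fin m)) k)
    (hφ : ∀ e : Option (Fin m ⊕ Fin m) →₀ ℕ, (∀ j, e (some j) = 0) → e none < 2 → coeff e φ = 0) :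
    φ ∈ T k m := by
  classical
  obtain ⟨h, r, hdec, hr, hh⟩ := Groth.Agent.Lib.Helper44.MvPSDecomp.exists_decomp
    ((Finset.univ : Finset (Fin m ⊕ Fin m)).image some) φ
  rw [hdec]
  refine Ideal.add_mem _ ?_ (Submodule.sum_mem _ fun i hi => ?_)
  · have : (X none ^ 2 : MvPowerSeries (Option (Fin m ⊕ Fin m)) k) ∣ r := by
      rw [X_pow_dvd_iff]
      intro e he
      rw [hr]
      split_ifs with h1
      · exact hφ e (fun j => h1 (some j) (Finset.mem_image_of_mem _ (Finset.mem_univ j))) he
      · rfl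
    obtain ⟨c, rfl⟩ := this
    exact Ideal.mul_mem_right _ _ Xsq_mem_T
  · obtain ⟨j, -, rfl⟩ := Finset.mem_image.1 hi
    exact Ideal.mul_mem_right _ _ (Xsome_mem_T j)

end Aux

/-- The formal computation carried out in its proof: let k be a field of characteristic 2, m a natural
number, and f a power series over k in the variables x_0 and x_i, x_i' (i = 1, ..., m) whose terms
of degree less than 3 are exactly those of x_0^2 + x_1 x_1' + ... + x_m x_m'. Then the ideal
generated by f and all its partial derivatives is the ideal generated by x_0^2 and the x_i, x_i',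
and the quotient of the power series ring by this ideal is two-dimensional over k. (Characteristic 2
is what makes the derivative in x_0 lose its linear term.) -/
theorem result (k : Type u) [Field k] [CharP k 2] (m : ℕ)
    (f : MvPowerSeries (Option (Fin m ⊕ Fin m)) k)
    (hf : ∀ d : Option (Fin m ⊕ Fin m) →₀ ℕ, d.degree < 3 →
      MvPowerSeries.coeff d f = MvPowerSeries.coeff d
        (MvPowerSeries.X none ^ 2 +
          ∑ i : Fin m, MvPowerSeries.X (some (Sum.inl i)) * MvPowerSeries.X (some (Sum.inr i)))) :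
    Ideal.span ({f} ∪ Set.range fun i : Option (Fin m ⊕ Fin m) => MvPowerSeries.pderiv k i f) =
      Ideal.span ({MvPowerSeries.X none ^ 2} ∪
        Set.range fun j : Fin m ⊕ Fin m => (MvPowerSeries.X (some j) : MvPowerSeries (Option (Fin m ⊕ Fin m)) k)) ∧
    Module.finrank k (MvPowerSeries (Option (Fin m ⊕ Fin m)) k ⧸
      Ideal.span ({MvPowerSeries.X none ^ 2} ∪
        Set.range fun j : Fin m ⊕ Fin m => (MvPowerSeries.X (some j) : MvPowerSeries (Option (Fin m ⊕ Fin m)) k))) = 2 := by
  classical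
  have hf' : ∀ e : Option (Fin m ⊕ Fin m) →₀ ℕ, e.degree < 3 →
      MvPowerSeries.coeff e (f - Q k m) = 0 := by
    intro e he
    rw [map_sub, hf e he]
    exact sub_self _
  have hpd : ∀ (i : Option (Fin m ⊕ Fin m)) (e : Option (Fin m ⊕ Fin m) →₀ ℕ), e.degree < 2 →
      MvPowerSeries.coeff e (MvPowerSeries.pderiv k i f - MvPowerSeries.pderiv k i (Q k m)) = 0 := by
    intro i e he
    rw [← map_sub, MvPowerSeries.coeff_pderiv,
      hf' _ (by rw [map_add, Finsupp.degree_single]; omega), zero_mul]
  show Ideal.span ({f} ∪ Set.range fun i : Option (Fin m ⊕ Fin m) => MvPowerSeries.pderiv k i f) = T k m ∧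
    Module.finrank k (MvPowerSeries (Option (Fin m ⊕ Fin m)) k ⧸ T k m) = 2
  refine ⟨le_antisymm ?_ ?_, ?_⟩
  · rw [Ideal.span_le]
    rintro x (hx | ⟨i, rfl⟩)
    · rw [Set.mem_singleton_iff] at hx
      have : f = (f - Q k m) + Q k m := by ring
      rw [SetLike.mem_coe, hx, this]
      exact Ideal.add_mem _ (mem_T_of_order _ fun e he => hf' e (by omega)) Q_mem_T
    · have : MvPowerSeries.pderiv k i f =
          (MvPowerSeries.pderiv k i f - MvPowerSeries.pderiv k i (Q k m)) +
            MvPowerSeries.pderiv k i (Q k m) := by ring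
      simp only
      rw [this]
      exact Ideal.add_mem _ (mem_T_of_order _ (hpd i)) (pderiv_Q_mem_T i)
  · set J := Ideal.span ({f} ∪ Set.range fun i : Option (Fin m ⊕ Fin m) => MvPowerSeries.pderiv k i f)
      with hJ
    have hfJ : f ∈ J := Ideal.subset_span (Or.inl rfl)
    have hpJ : ∀ i, MvPowerSeries.pderiv k i f ∈ J := fun i => Ideal.subset_span (Or.inr ⟨i, rfl⟩)
    have hX3 : (MvPowerSeries.X none ^ 3 : MvPowerSeries (Option (Fin m ⊕ Fin m)) k) ∈
        IsLocalRing.maximalIdeal (MvPowerSeries (Option (Fin m ⊕ Fin m)) k) • T k m := by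
      have : (MvPowerSeries.X none ^ 3 : MvPowerSeries (Option (Fin m ⊕ Fin m)) k) =
          (MvPowerSeries.X none : MvPowerSeries (Option (Fin m ⊕ Fin m)) k) •
            (MvPowerSeries.X none ^ 2 : MvPowerSeries (Option (Fin m ⊕ Fin m)) k) := by
        rw [smul_eq_mul]; ring
      rw [this]
      exact Submodule.smul_mem_smul ((mem_max_iff _).2 (MvPowerSeries.constantCoeff_X none)) Xsq_mem_T
    have h1 : (MvPowerSeries.X none ^ 2 : MvPowerSeries (Option (Fin m ⊕ Fin m)) k) ∈
        J ⊔ IsLocalRing.maximalIdeal (MvPowerSeries (Option (Fin m ⊕ Fin m)) k) • T k m := by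
      have : (MvPowerSeries.X none ^ 2 : MvPowerSeries (Option (Fin m ⊕ Fin m)) k) =
          f + (-(f - Q k m) - ∑ i : Fin m, MvPowerSeries.X (some (Sum.inl i)) *
            MvPowerSeries.X (some (Sum.inr i))) := by
        unfold Q; ring
      rw [this]
      refine Submodule.add_mem_sup hfJ (Submodule.sub_mem _ (Submodule.neg_mem _ ?_)
        (Submodule.sum_mem _ fun i _ => ?_))
      · have := mem_of_order 3 (by norm_num) (f - Q k m) hf'
        have hle : Ideal.span {(MvPowerSeries.X none ^ 3 : MvPowerSeries (Option (Fin m ⊕ Fin m)) k)} ⊔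
            IsLocalRing.maximalIdeal (MvPowerSeries (Option (Fin m ⊕ Fin m)) k) • T k m ≤
            IsLocalRing.maximalIdeal (MvPowerSeries (Option (Fin m ⊕ Fin m)) k) • T k m := by
          refine sup_le ?_ le_rfl
          rw [Ideal.span_singleton_le_iff_mem]
          exact hX3
        exact hle this
      · rw [← smul_eq_mul]
        exact Submodule.smul_mem_smul ((mem_max_iff _).2 (MvPowerSeries.constantCoeff_X _))
          (Xsome_mem_T _)
    have h2 : ∀ ψ : MvPowerSeries (Option (Fin m ⊕ Fin m)) k,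
        (∀ e : Option (Fin m ⊕ Fin m) →₀ ℕ, e.degree < 2 → MvPowerSeries.coeff e ψ = 0) →
        ψ ∈ J ⊔ IsLocalRing.maximalIdeal (MvPowerSeries (Option (Fin m ⊕ Fin m)) k) • T k m := by
      intro ψ hψ
      have := mem_of_order 2 le_rfl ψ hψ
      have hle : Ideal.span {(MvPowerSeries.X none ^ 2 : MvPowerSeries (Option (Fin m ⊕ Fin m)) k)} ⊔
          IsLocalRing.maximalIdeal (MvPowerSeries (Option (Fin m ⊕ Fin m)) k) • T k m ≤
          J ⊔ IsLocalRing.maximalIdeal (MvPowerSeries (Option (Fin m ⊕ Fin m)) k) • T k m := by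
        refine sup_le ?_ le_sup_right
        rw [Ideal.span_singleton_le_iff_mem]
        exact h1
      exact hle this
    have h3 : ∀ j : Fin m ⊕ Fin m, (MvPowerSeries.X (some j) : MvPowerSeries (Option (Fin m ⊕ Fin m)) k) ∈
        J ⊔ IsLocalRing.maximalIdeal (MvPowerSeries (Option (Fin m ⊕ Fin m)) k) • T k m := by
      intro j
      rcases j with l | l
      · have : (MvPowerSeries.X (some (Sum.inl l)) : MvPowerSeries (Option (Fin m ⊕ Fin m)) k) =
            MvPowerSeries.pderiv k (some (Sum.inr l)) f -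
              (MvPowerSeries.pderiv k (some (Sum.inr l)) f -
                MvPowerSeries.pderiv k (some (Sum.inr l)) (Q k m)) := by
          rw [pderiv_inr_Q]; ring
        rw [this]
        exact Submodule.sub_mem _ (Submodule.mem_sup_left (hpJ _)) (h2 _ (hpd _))
      · have : (MvPowerSeries.X (some (Sum.inr l)) : MvPowerSeries (Option (Fin m ⊕ Fin m)) k) =
            MvPowerSeries.pderiv k (some (Sum.inl l)) f -
              (MvPowerSeries.pderiv k (some (Sum.inl l)) f -
                MvPowerSeries.pderiv k (some (Sum.inl l)) (Q k m)) := by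
          rw [pderiv_inl_Q]; ring
        rw [this]
        exact Submodule.sub_mem _ (Submodule.mem_sup_left (hpJ _)) (h2 _ (hpd _))
    refine Submodule.le_of_le_smul_of_le_jacobson_bot
      (I := IsLocalRing.maximalIdeal (MvPowerSeries (Option (Fin m ⊕ Fin m)) k)) ?_
      (IsLocalRing.maximalIdeal_le_jacobson ⊥) ?_
    · unfold T
      exact Submodule.fg_span (Set.Finite.union (Set.finite_singleton _) (Set.finite_range _))
    · unfold T
      rw [Ideal.span_le]
      rintro _ (rfl | ⟨j, rfl⟩)
      · exact h1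
      · exact h3 j
  · let ℓ : MvPowerSeries (Option (Fin m ⊕ Fin m)) k →ₗ[k] k × k :=
      (MvPowerSeries.coeff (R := k) (0 : Option (Fin m ⊕ Fin m) →₀ ℕ)).prod
        (MvPowerSeries.coeff (R := k) (Finsupp.single none 1))
    have hsurj : Function.Surjective ℓ := by
      rintro ⟨a, b⟩
      refine ⟨MvPowerSeries.monomial 0 a + MvPowerSeries.monomial (Finsupp.single none 1) b, ?_⟩
      have h01 : (0 : Option (Fin m ⊕ Fin m) →₀ ℕ) ≠ Finsupp.single none 1 := by
        intro h
        have := congrArg (fun e => e none) h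
        simp at this
      refine Prod.ext ?_ ?_
      · show MvPowerSeries.coeff 0 (_ + _) = a
        rw [map_add, MvPowerSeries.coeff_monomial_same, MvPowerSeries.coeff_monomial_ne h01, add_zero]
      · show MvPowerSeries.coeff (Finsupp.single none 1) (_ + _) = b
        rw [map_add, MvPowerSeries.coeff_monomial_ne h01.symm, MvPowerSeries.coeff_monomial_same, zero_add]
    have hker : LinearMap.ker ℓ = (T k m).restrictScalars k := by
      ext φ
      rw [LinearMap.mem_ker, Submodule.restrictScalars_mem]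
      show (MvPowerSeries.coeff 0 φ, MvPowerSeries.coeff (Finsupp.single none 1) φ) = 0 ↔ _
      rw [Prod.mk_eq_zero]
      constructor
      · rintro ⟨h0, h1⟩
        refine mem_T_of_coeff φ fun e he he2 => ?_
        rw [eq_single_of_forall e he]
        have : e none = 0 ∨ e none = 1 := by omega
        rcases this with h | h
        · rw [h, Finsupp.single_zero]; exact h0
        · rw [h]; exact h1
      · intro hφ
        refine ⟨coeff_of_mem_T φ hφ 0 (fun j => rfl) (by simp), coeff_of_mem_T φ hφ _ (fun j => ?_) ?_⟩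
        · rw [Finsupp.single_apply, if_neg (by simp)]
        · rw [Finsupp.single_eq_same]; norm_num
    let e1 := (Submodule.Quotient.restrictScalarsEquiv k (T k m)).symm
    let e2 := Submodule.quotEquivOfEq _ _ hker.symm
    let e3 := ℓ.quotKerEquivOfSurjective hsurj
    have := LinearEquiv.finrank_eq (e1.trans (e2.trans e3))
    rw [this, Module.finrank_prod, Module.finrank_self]

end Groth.Agent.S8720
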