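import Groth.Statements.S8724
import Mathlib.Algebra.Ring.GeomSum
import Mathlib.Algebra.MvPolynomial.CommRing
import Mathlib.Data.Nat.Choose.Sum

set_option autoImplicit false
open LefPen

namespace Groth.Agent.S8724


theorem key {R : Type*} [CommRing R] (y z : R) (c : ℕ → R) (N K : ℕ) (hK : N ≤ K) :
    ∑ m ∈ Finset.range (N + 1), c m * (y ^ m - z ^ m) =
      (y - z) * ∑ i ∈ Finset.range K, ∑ j ∈ Finset.range K,
        if i + j + 1 ≤ N then c (i + j + 1) * y ^ i * z ^ j else 0 := by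
  have h1 : ∀ m, y ^ m - z ^ m = (y - z) * ∑ i ∈ Finset.range m, y ^ i * z ^ (m - 1 - i) := by
    intro m
    rw [mul_comm]
    exact ((Commute.all y z).geom_sum₂_mul m).symm
  simp_rw [h1]
  have h2 : ∀ m, c m * ((y - z) * ∑ i ∈ Finset.range m, y ^ i * z ^ (m - 1 - i)) =
      (y - z) * ∑ i ∈ Finset.range m, c m * y ^ i * z ^ (m - 1 - i) := by
    intro m
    rw [Finset.mul_sum, Finset.mul_sum, Finset.mul_sum]
    refine Finset.sum_congr rfl fun i _ => by ring
  simp_rw [h2, ← Finset.mul_sum]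
  congr 1
  rw [Finset.sum_sigma', ← Finset.sum_product', ← Finset.sum_filter]
  refine Finset.sum_nbij' (fun x => (x.2, x.1 - 1 - x.2)) (fun p => ⟨p.1 + p.2 + 1, p.1⟩) ?_ ?_ ?_ ?_ ?_
  · rintro ⟨m, i⟩ h
    simp only [Finset.mem_sigma, Finset.mem_range] at h
    simp only [Finset.mem_filter, Finset.mem_product, Finset.mem_range]
    omega
  · rintro ⟨i, j⟩ h
    simp only [Finset.mem_filter, Finset.mem_product, Finset.mem_range] at h
    simp only [Finset.mem_sigma, Finset.mem_range]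
    omega
  · rintro ⟨m, i⟩ h
    simp only [Finset.mem_sigma, Finset.mem_range] at h
    simp only [Sigma.mk.injEq, heq_eq_eq, and_true]
    omega
  · rintro ⟨i, j⟩ h
    simp only [Prod.mk.injEq, true_and]
    omega
  · rintro ⟨m, i⟩ h
    simp only [Finset.mem_sigma, Finset.mem_range] at h
    have : i + (m - 1 - i) + 1 = m := by omega
    simp only [this]

theorem expand {R : Type*} [CommRing R] (y : R) (n : ℕ) :
    (1 + y) ^ n = ∑ m ∈ Finset.range (n + 1), (n.choose m : R) * y ^ m := by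
  rw [add_comm, add_pow]
  refine Finset.sum_congr rfl fun m _ => ?_
  rw [one_pow, mul_one, mul_comm]

theorem first {R : Type*} [CommRing R] (y z : R) (n K : ℕ) (hK : n ≤ K) :
    (1 + y) ^ n - (1 + z) ^ n = (y - z) * ∑ i ∈ Finset.range K, ∑ j ∈ Finset.range K,
        if i + j + 1 ≤ n then ((n.choose (i + j + 1) : ℕ) : R) * y ^ i * z ^ j else 0 := by
  rw [← key y z (fun m => ((n.choose m : ℕ) : R)) n K hK, expand, expand, ← Finset.sum_sub_distrib]
  refine Finset.sum_congr rfl fun m _ => by ring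

theorem second {R : Type*} [CommRing R] (y z : R) (a : ℕ) (ha : 1 ≤ a) :
    (1 + y) ^ a * z - (1 + z) ^ a * y = (y - z) * (-1 + ∑ i ∈ Finset.range (a + 1), ∑ j ∈ Finset.range (a + 1),
        if 1 ≤ i ∧ 1 ≤ j ∧ i + j ≤ a then ((a.choose (i + j) : ℕ) : R) * y ^ i * z ^ j else 0) := by
  have hk := key y z (fun m => ((a.choose (m + 1) : ℕ) : R)) (a - 1) a (by omega)
  have e1 : ∀ w : R, (1 + w) ^ a = 1 + w * ∑ m ∈ Finset.range (a - 1 + 1), ((a.choose (m + 1) : ℕ) : R) * w ^ m := by
    intro w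
    rw [expand, Finset.sum_range_succ', Finset.mul_sum]
    have : a - 1 + 1 = a := by omega
    rw [this, add_comm]
    simp only [Nat.choose_zero_right, Nat.cast_one, pow_zero, mul_one]
    congr 1
    refine Finset.sum_congr rfl fun m _ => by ring
  have e2 : ∑ i ∈ Finset.range (a + 1), ∑ j ∈ Finset.range (a + 1),
        (if 1 ≤ i ∧ 1 ≤ j ∧ i + j ≤ a then ((a.choose (i + j) : ℕ) : R) * y ^ i * z ^ j else 0) =
      y * z * ∑ i ∈ Finset.range a, ∑ j ∈ Finset.range a,
        if i + j + 1 ≤ a - 1 then ((a.choose (i + j + 1 + 1) : ℕ) : R) * y ^ i * z ^ j else 0 := by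
    rw [Finset.sum_range_succ']
    simp only [Nat.le_zero_eq, one_ne_zero, false_and, if_false, Finset.sum_const_zero, add_zero]
    rw [Finset.mul_sum]
    refine Finset.sum_congr rfl fun i _ => ?_
    rw [Finset.sum_range_succ']
    simp only [Nat.le_zero_eq, one_ne_zero, false_and, and_false, if_false, add_zero]
    rw [Finset.mul_sum]
    refine Finset.sum_congr rfl fun j _ => ?_
    have he : i + 1 + (j + 1) = i + j + 1 + 1 := by omega
    by_cases h : i + j + 1 ≤ a - 1
    · rw [if_pos h, if_pos (by omega), he]; ring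
    · rw [if_neg h, if_neg (by omega)]; ring
  rw [e2, e1 y, e1 z]
  have : (1 + y * ∑ m ∈ Finset.range (a - 1 + 1), ((a.choose (m + 1) : ℕ) : R) * y ^ m) * z -
      (1 + z * ∑ m ∈ Finset.range (a - 1 + 1), ((a.choose (m + 1) : ℕ) : R) * z ^ m) * y =
      -(y - z) + y * z * ∑ m ∈ Finset.range (a - 1 + 1), ((a.choose (m + 1) : ℕ) : R) * (y ^ m - z ^ m) := by
    simp only [mul_sub, Finset.sum_sub_distrib]
    ring
  rw [this, hk]
  ring

/-- The algebraic identity established in its proof: let a >= 1 and work in Z[y, z]. Then (1+y)^(a-1) -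
(1+z)^(a-1) = (y - z) * (sum over i, j >= 0 with i + j + 1 <= a - 1 of C(a-1, i+j+1) y^i z^j), and
(1+y)^a z - (1+z)^a y = (y - z) * (-1 + sum over i, j >= 1 with i + j <= a of C(a, i+j) y^i z^j).
Consequently the rational function -((1+y)^(a-1) - (1+z)^(a-1)) / ((1+y)^a z - (1+z)^a y), the
generating series of the primitive middle Hodge numbers of smooth hypersurfaces of degree a, equals
(sum_{i,j >= 0} C(a-1, i+j+1) y^i z^j) / (1 - sum_{i,j >= 1} C(a, i+j) y^i z^j). -/
theorem result (a : ℕ) (ha : 1 ≤ a) :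
    let y : MvPolynomial (Fin 2) ℤ := MvPolynomial.X 0
    let z : MvPolynomial (Fin 2) ℤ := MvPolynomial.X 1
    ((1 + y) ^ (a - 1) - (1 + z) ^ (a - 1) =
      (y - z) * ∑ i ∈ Finset.range a, ∑ j ∈ Finset.range a,
        if i + j + 1 ≤ a - 1 then ((a - 1).choose (i + j + 1) : MvPolynomial (Fin 2) ℤ) * y ^ i * z ^ j else 0) ∧
    ((1 + y) ^ a * z - (1 + z) ^ a * y =
      (y - z) * (-1 + ∑ i ∈ Finset.range (a + 1), ∑ j ∈ Finset.range (a + 1),
        if 1 ≤ i ∧ 1 ≤ j ∧ i + j ≤ a then (a.choose (i + j) : MvPolynomial (Fin 2) ℤ) * y ^ i * z ^ j else 0)) := by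
  intro y z
  refine ⟨?_, ?_⟩
  · have := first y z (a - 1) a (by omega)
    exact_mod_cast this
  · have := second y z a ha
    exact_mod_cast this

end Groth.Agent.S8724
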