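import Groth.Statements.S8732
import Mathlib
-- import your own Groth.Agent.* helpers here

set_option autoImplicit false
open LefPen

namespace Groth.Agent.S8732

section PRE
open MvPowerSeries

abbrev PS := MvPowerSeries (Fin 2) ℤ

def NN (f : PS) : Prop := ∀ m, 0 ≤ coeff m f

lemma nn_mul {f g : PS} (hf : NN f) (hg : NN g) : NN (f * g) := by
  classical
  intro m
  rw [coeff_mul]
  exact Finset.sum_nonneg (fun p _ => mul_nonneg (hf _) (hg _))

lemma nn_add {f g : PS} (hf : NN f) (hg : NN g) : NN (f + g) := by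
  intro m
  rw [map_add]
  exact add_nonneg (hf _) (hg _)

lemma nn_one : NN (1 : PS) := by
  classical
  intro m
  rw [coeff_one]
  split_ifs <;> simp

lemma nn_zero : NN (0 : PS) := by
  intro m
  simp

lemma nn_sum {ι : Type*} (s : Finset ι) (f : ι → PS) (h : ∀ i ∈ s, NN (f i)) : NN (∑ i ∈ s, f i) := by
  intro m
  rw [map_sum]
  exact Finset.sum_nonneg (fun i hi => h i hi m)

lemma nn_prod {ι : Type*} (s : Finset ι) (f : ι → PS) (h : ∀ i ∈ s, NN (f i)) : NN (∏ i ∈ s, f i) := by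
  classical
  induction s using Finset.induction_on with
  | empty => simpa using nn_one
  | insert a s ha ih =>
    rw [Finset.prod_insert ha]
    exact nn_mul (h a (Finset.mem_insert_self a s))
      (ih (fun i hi => h i (Finset.mem_insert_of_mem hi)))

lemma nn_pow {f : PS} (hf : NN f) (k : ℕ) : NN (f ^ k) := by
  induction k with
  | zero => simpa using nn_one
  | succ k ih => rw [pow_succ]; exact nn_mul ih hf

lemma supp_mul {f g : PS} (hf : NN f) (hg : NN g) (m : Fin 2 →₀ ℕ) :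
    coeff m (f * g) ≠ 0 ↔ ∃ a b, a + b = m ∧ coeff a f ≠ 0 ∧ coeff b g ≠ 0 := by
  classical
  rw [coeff_mul, Ne, Finset.sum_eq_zero_iff_of_nonneg (fun p _ => mul_nonneg (hf _) (hg _))]
  push Not
  constructor
  · rintro ⟨p, hp, hne⟩
    rw [Finset.HasAntidiagonal.mem_antidiagonal] at hp
    exact ⟨p.1, p.2, hp, left_ne_zero_of_mul hne, right_ne_zero_of_mul hne⟩
  · rintro ⟨a, b, hab, ha, hb⟩
    exact ⟨(a, b), Finset.HasAntidiagonal.mem_antidiagonal.mpr hab, mul_ne_zero ha hb⟩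

lemma supp_add {f g : PS} (hf : NN f) (hg : NN g) (m : Fin 2 →₀ ℕ) :
    coeff m (f + g) ≠ 0 ↔ coeff m f ≠ 0 ∨ coeff m g ≠ 0 := by
  rw [map_add]
  have h1 := hf m
  have h2 := hg m
  constructor
  · intro h
    by_contra hcon
    push Not at hcon
    rw [hcon.1, hcon.2] at h
    simp at h
  · rintro (h | h) <;> omega

lemma supp_sum {ι : Type*} (s : Finset ι) (f : ι → PS) (h : ∀ i ∈ s, NN (f i)) (m : Fin 2 →₀ ℕ) :
    coeff m (∑ i ∈ s, f i) ≠ 0 ↔ ∃ i ∈ s, coeff m (f i) ≠ 0 := by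
  rw [map_sum, Ne, Finset.sum_eq_zero_iff_of_nonneg (fun i hi => h i hi m)]
  push Not
  rfl

lemma fin2_ext (m n : Fin 2 →₀ ℕ) (h0 : m 0 = n 0) (h1 : m 1 = n 1) : m = n := by
  ext i
  fin_cases i
  · exact h0
  · exact h1

lemma coeff_term (c u v : ℕ) (m : Fin 2 →₀ ℕ) :
    coeff m ((c : PS) * X 0 ^ u * X 1 ^ v) = if m 0 = u ∧ m 1 = v then (c : ℤ) else 0 := by
  classical
  have h1 : ((c : PS) * X 0 ^ u * X 1 ^ v)
      = monomial (Finsupp.single 0 u + Finsupp.single 1 v) (c : ℤ) := by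
    rw [X_pow_eq, X_pow_eq, ← map_natCast (C (σ := Fin 2) (R := ℤ)) c, ← monomial_zero_eq_C_apply,
      monomial_mul_monomial, monomial_mul_monomial]
    simp
  rw [h1, coeff_monomial]
  by_cases h : m 0 = u ∧ m 1 = v
  · rw [if_pos h, if_pos]
    apply fin2_ext
    · simp [h.1]
    · simp [h.2]
  · rw [if_neg h, if_neg]
    intro hm
    apply h
    rw [hm]
    simp

lemma nn_term (c u v : ℕ) : NN ((c : PS) * X 0 ^ u * X 1 ^ v) := by
  intro m
  rw [coeff_term]
  split_ifs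
  · exact Int.natCast_nonneg c
  · exact le_refl 0

noncomputable def Pser (b : ℕ) : PS := ∑ u ∈ Finset.range (b + 1), ∑ v ∈ Finset.range (b + 1),
  if 1 ≤ u ∧ 1 ≤ v ∧ u + v ≤ b then (b.choose (u + v) : PS) * X 0 ^ u * X 1 ^ v else 0

noncomputable def Nser (b : ℕ) : PS := ∑ u ∈ Finset.range b, ∑ v ∈ Finset.range b,
  if u + v + 1 ≤ b - 1 then ((b - 1).choose (u + v + 1) : PS) * X 0 ^ u * X 1 ^ v else 0

lemma nn_ite (P : Prop) [Decidable P] {f : PS} (hf : NN f) : NN (if P then f else 0) := by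
  split_ifs
  · exact hf
  · exact nn_zero

lemma nn_Pser (b : ℕ) : NN (Pser b) :=
  nn_sum _ _ (fun u _ => nn_sum _ _ (fun v _ => nn_ite _ (nn_term _ _ _)))

lemma nn_Nser (b : ℕ) : NN (Nser b) :=
  nn_sum _ _ (fun u _ => nn_sum _ _ (fun v _ => nn_ite _ (nn_term _ _ _)))

lemma supp_Pser (b : ℕ) (m : Fin 2 →₀ ℕ) :
    coeff m (Pser b) ≠ 0 ↔ 1 ≤ m 0 ∧ 1 ≤ m 1 ∧ m 0 + m 1 ≤ b := by
  unfold Pser
  rw [supp_sum _ _ (fun u _ => nn_sum _ _ (fun v _ => nn_ite _ (nn_term _ _ _)))]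
  constructor
  · rintro ⟨u, _, hu⟩
    rw [supp_sum _ _ (fun v _ => nn_ite _ (nn_term _ _ _))] at hu
    obtain ⟨v, _, hv⟩ := hu
    split_ifs at hv with hc
    · rw [coeff_term] at hv
      split_ifs at hv with hm
      · rw [hm.1, hm.2]; exact hc
      · exact absurd rfl hv
    · simp at hv
  · intro h
    refine ⟨m 0, Finset.mem_range.mpr (by omega), ?_⟩
    rw [supp_sum _ _ (fun v _ => nn_ite _ (nn_term _ _ _))]
    refine ⟨m 1, Finset.mem_range.mpr (by omega), ?_⟩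
    rw [if_pos h, coeff_term, if_pos ⟨rfl, rfl⟩]
    have := Nat.choose_pos h.2.2
    exact_mod_cast this.ne'

lemma supp_Nser (b : ℕ) (m : Fin 2 →₀ ℕ) :
    coeff m (Nser b) ≠ 0 ↔ m 0 + m 1 + 2 ≤ b := by
  unfold Nser
  rw [supp_sum _ _ (fun u _ => nn_sum _ _ (fun v _ => nn_ite _ (nn_term _ _ _)))]
  constructor
  · rintro ⟨u, _, hu⟩
    rw [supp_sum _ _ (fun v _ => nn_ite _ (nn_term _ _ _))] at hu
    obtain ⟨v, _, hv⟩ := hu
    split_ifs at hv with hc
    · rw [coeff_term] at hv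
      split_ifs at hv with hm
      · rw [hm.1, hm.2]; omega
      · exact absurd rfl hv
    · simp at hv
  · intro h
    refine ⟨m 0, Finset.mem_range.mpr (by omega), ?_⟩
    rw [supp_sum _ _ (fun v _ => nn_ite _ (nn_term _ _ _))]
    refine ⟨m 1, Finset.mem_range.mpr (by omega), ?_⟩
    have hc : m 0 + m 1 + 1 ≤ b - 1 := by omega
    rw [if_pos hc, coeff_term, if_pos ⟨rfl, rfl⟩]
    have := Nat.choose_pos hc
    exact_mod_cast this.ne'

lemma phi_rec_nat (b p q : ℕ) :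
    (∃ r, r ≤ p ∧ r ≤ q ∧ p + q + 2 ≤ b * (r + 1)) ↔
      (p + q + 2 ≤ b) ∨ ∃ u v, 1 ≤ u ∧ 1 ≤ v ∧ u + v ≤ b ∧ u ≤ p ∧ v ≤ q ∧
        ∃ r, r ≤ p - u ∧ r ≤ q - v ∧ (p - u) + (q - v) + 2 ≤ b * (r + 1) := by
  constructor
  · rintro ⟨r, hrp, hrq, h⟩
    rcases Nat.eq_zero_or_pos r with h0 | hpos
    · left
      rw [h0] at h
      omega
    · right
      obtain ⟨r', rfl⟩ : ∃ r', r = r' + 1 := ⟨r - 1, by omega⟩
      have hb2 : 2 ≤ b := by
        by_contra hlt
        have : b ≤ 1 := by omega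
        have h2 : b * (r' + 1 + 1) ≤ 1 * (r' + 1 + 1) := Nat.mul_le_mul_right _ this
        omega
      have e1 : b * (r' + 1 + 1) = b * (r' + 1) + b := by ring
      have e2 : b * (r' + 1) = b * r' + b := by ring
      have e3 : 2 * r' ≤ b * r' := Nat.mul_le_mul_right r' hb2
      refine ⟨min (min b (p + q - 2 * r') - 1) (p - r'),
        min b (p + q - 2 * r') - min (min b (p + q - 2 * r') - 1) (p - r'), ?_, ?_, ?_, ?_, ?_, r', ?_, ?_, ?_⟩
      all_goals omega
  · rintro (h | ⟨u, v, hu, hv, huv, hup, hvq, r, hr1, hr2, h⟩)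
    · exact ⟨0, Nat.zero_le _, Nat.zero_le _, by omega⟩
    · refine ⟨r + 1, by omega, by omega, ?_⟩
      have e1 : b * (r + 1 + 1) = b * (r + 1) + b := by ring
      omega

def Phi (b : ℕ) (m : Fin 2 →₀ ℕ) : Prop := ∃ r, r ≤ m 0 ∧ r ≤ m 1 ∧ m 0 + m 1 + 2 ≤ b * (r + 1)

lemma Hh_spec (b : ℕ) (Hh : PS) (hH : (1 - Pser b) * Hh = Nser b) :
    ∀ n, ∀ m : Fin 2 →₀ ℕ, m 0 + m 1 = n → 0 ≤ coeff m Hh ∧ (coeff m Hh ≠ 0 ↔ Phi b m) := by
  classical
  have hrec : Hh = Nser b + Pser b * Hh := by rw [← hH]; ring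
  intro n
  induction n using Nat.strong_induction_on with
  | _ n ih =>
    intro m hm
    have hc : coeff m Hh = coeff m (Nser b) +
        ∑ p ∈ Finset.HasAntidiagonal.antidiagonal m, coeff p.1 (Pser b) * coeff p.2 Hh := by
      conv_lhs => rw [hrec]
      rw [map_add, coeff_mul]
    have hdeg : ∀ p ∈ Finset.HasAntidiagonal.antidiagonal m, coeff p.1 (Pser b) ≠ 0 →
        p.2 0 + p.2 1 < n ∧ m 0 = p.1 0 + p.2 0 ∧ m 1 = p.1 1 + p.2 1 := by
      intro p hp h0
      have hs := (supp_Pser b p.1).mp h0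
      have hsum : p.1 + p.2 = m := Finset.HasAntidiagonal.mem_antidiagonal.mp hp
      have h0' : m 0 = p.1 0 + p.2 0 := by rw [← hsum]; rfl
      have h1' : m 1 = p.1 1 + p.2 1 := by rw [← hsum]; rfl
      exact ⟨by omega, h0', h1'⟩
    have hterm : ∀ p ∈ Finset.HasAntidiagonal.antidiagonal m, 0 ≤ coeff p.1 (Pser b) * coeff p.2 Hh := by
      intro p hp
      by_cases h0 : coeff p.1 (Pser b) = 0
      · rw [h0, zero_mul]
      · have := (ih (p.2 0 + p.2 1) (hdeg p hp h0).1 p.2 rfl).1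
        exact mul_nonneg (nn_Pser b _) this
    have hN := nn_Nser b m
    have hS := Finset.sum_nonneg hterm
    constructor
    · rw [hc]; exact add_nonneg hN hS
    · rw [hc]
      have hiff : (coeff m (Nser b) +
          ∑ p ∈ Finset.HasAntidiagonal.antidiagonal m, coeff p.1 (Pser b) * coeff p.2 Hh ≠ 0) ↔
          (coeff m (Nser b) ≠ 0 ∨
            ∑ p ∈ Finset.HasAntidiagonal.antidiagonal m, coeff p.1 (Pser b) * coeff p.2 Hh ≠ 0) := by
        constructor
        · intro h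
          by_contra hcon
          push Not at hcon
          rw [hcon.1, hcon.2] at h
          simp at h
        · rintro (h | h) <;> omega
      rw [hiff, supp_Nser, Ne, Finset.sum_eq_zero_iff_of_nonneg hterm]
      push Not
      unfold Phi
      rw [phi_rec_nat]
      constructor
      · rintro (h | ⟨p, hp, hne⟩)
        · left; exact h
        · right
          have h1 := left_ne_zero_of_mul hne
          have h2 := right_ne_zero_of_mul hne
          have hs := (supp_Pser b p.1).mp h1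
          obtain ⟨hd1, hd2, hd3⟩ := hdeg p hp h1
          obtain ⟨r, hr1, hr2, hr3⟩ := (ih _ hd1 p.2 rfl).2.mp h2
          refine ⟨p.1 0, p.1 1, hs.1, hs.2.1, hs.2.2, by omega, by omega, r, ?_, ?_, ?_⟩
          · rw [hd2]; omega
          · rw [hd3]; omega
          · rw [hd2, hd3]
            have e1 : p.1 0 + p.2 0 - p.1 0 = p.2 0 := by omega
            have e2 : p.1 1 + p.2 1 - p.1 1 = p.2 1 := by omega
            rw [e1, e2]
            exact hr3
      · rintro (h | ⟨u, v, hu, hv, huv, hup, hvq, r, hr1, hr2, hr3⟩)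
        · left; exact h
        · right
          refine ⟨(Finsupp.single 0 u + Finsupp.single 1 v,
            Finsupp.single 0 (m 0 - u) + Finsupp.single 1 (m 1 - v)), ?_, mul_ne_zero ?_ ?_⟩
          · rw [Finset.HasAntidiagonal.mem_antidiagonal]
            apply fin2_ext
            · simp; omega
            · simp; omega
          · rw [supp_Pser]
            simp
            omega
          · have hc0 : (Finsupp.single (0 : Fin 2) (m 0 - u) + Finsupp.single 1 (m 1 - v) :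
                Fin 2 →₀ ℕ) 0 = m 0 - u := by simp
            have hc1 : (Finsupp.single (0 : Fin 2) (m 0 - u) + Finsupp.single 1 (m 1 - v) :
                Fin 2 →₀ ℕ) 1 = m 1 - v := by simp
            refine (ih ((m 0 - u) + (m 1 - v)) (by omega) _ (by rw [hc0, hc1])).2.mpr ⟨r, ?_, ?_, ?_⟩
            · rw [hc0]; exact hr1
            · rw [hc1]; exact hr2
            · rw [hc0, hc1]; exact hr3

lemma one_add_X0 : (1 + X 0 : PS) = ((1 : ℕ) : PS) * X 0 ^ 0 * X 1 ^ 0 + ((1 : ℕ) : PS) * X 0 ^ 1 * X 1 ^ 0 := by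
  simp

lemma one_add_X1 : (1 + X 1 : PS) = ((1 : ℕ) : PS) * X 0 ^ 0 * X 1 ^ 0 + ((1 : ℕ) : PS) * X 0 ^ 0 * X 1 ^ 1 := by
  simp

lemma nn_X0 : NN (1 + X 0 : PS) := by
  rw [one_add_X0]; exact nn_add (nn_term _ _ _) (nn_term _ _ _)

lemma nn_X1 : NN (1 + X 1 : PS) := by
  rw [one_add_X1]; exact nn_add (nn_term _ _ _) (nn_term _ _ _)

lemma supp_X0 (m : Fin 2 →₀ ℕ) : coeff m (1 + X 0 : PS) ≠ 0 ↔ m 0 ≤ 1 ∧ m 1 = 0 := by
  rw [one_add_X0, supp_add (nn_term _ _ _) (nn_term _ _ _), coeff_term, coeff_term]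
  constructor
  · rintro (h | h)
    · split_ifs at h with hc
      · omega
      · exact absurd rfl h
    · split_ifs at h with hc
      · omega
      · exact absurd rfl h
  · rintro ⟨h0, h1⟩
    rcases Nat.eq_zero_or_pos (m 0) with h | h
    · left; rw [if_pos ⟨h, h1⟩]; simp
    · right; rw [if_pos ⟨by omega, h1⟩]; simp

lemma supp_X1 (m : Fin 2 →₀ ℕ) : coeff m (1 + X 1 : PS) ≠ 0 ↔ m 0 = 0 ∧ m 1 ≤ 1 := by
  rw [one_add_X1, supp_add (nn_term _ _ _) (nn_term _ _ _), coeff_term, coeff_term]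
  constructor
  · rintro (h | h)
    · split_ifs at h with hc
      · omega
      · exact absurd rfl h
    · split_ifs at h with hc
      · omega
      · exact absurd rfl h
  · rintro ⟨h0, h1⟩
    rcases Nat.eq_zero_or_pos (m 1) with h | h
    · left; rw [if_pos ⟨h0, h⟩]; simp
    · right; rw [if_pos ⟨h0, by omega⟩]; simp

lemma nn_G : NN ((1 + X 0) * (1 + X 1) : PS) := nn_mul nn_X0 nn_X1

lemma supp_G (m : Fin 2 →₀ ℕ) : coeff m ((1 + X 0) * (1 + X 1) : PS) ≠ 0 ↔ m 0 ≤ 1 ∧ m 1 ≤ 1 := by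
  rw [supp_mul nn_X0 nn_X1]
  constructor
  · rintro ⟨a, b, hab, ha, hb⟩
    rw [supp_X0] at ha
    rw [supp_X1] at hb
    have h0 : m 0 = a 0 + b 0 := by rw [← hab]; rfl
    have h1 : m 1 = a 1 + b 1 := by rw [← hab]; rfl
    omega
  · rintro ⟨h0, h1⟩
    refine ⟨Finsupp.single 0 (m 0), Finsupp.single 1 (m 1), ?_, ?_, ?_⟩
    · apply fin2_ext <;> simp
    · rw [supp_X0]; simp; exact h0
    · rw [supp_X1]; simp; exact h1

lemma supp_Gpow (k : ℕ) (m : Fin 2 →₀ ℕ) :
    coeff m (((1 + X 0) * (1 + X 1) : PS) ^ k) ≠ 0 ↔ m 0 ≤ k ∧ m 1 ≤ k := by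
  classical
  induction k generalizing m with
  | zero =>
    rw [pow_zero, coeff_one]
    constructor
    · intro h
      split_ifs at h with hc
      · rw [hc]; simp
      · exact absurd rfl h
    · rintro ⟨h0, h1⟩
      rw [if_pos]
      · simp
      · apply fin2_ext
        · simpa using h0
        · simpa using h1
  | succ k ih =>
    rw [pow_succ, supp_mul (nn_pow nn_G k) nn_G]
    constructor
    · rintro ⟨a, b, hab, ha, hb⟩
      rw [ih] at ha
      rw [supp_G] at hb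
      have h0 : m 0 = a 0 + b 0 := by rw [← hab]; rfl
      have h1 : m 1 = a 1 + b 1 := by rw [← hab]; rfl
      omega
    · rintro ⟨h0, h1⟩
      refine ⟨Finsupp.single 0 (min (m 0) k) + Finsupp.single 1 (min (m 1) k),
        Finsupp.single 0 (m 0 - min (m 0) k) + Finsupp.single 1 (m 1 - min (m 1) k), ?_, ?_, ?_⟩
      · apply fin2_ext
        · simp
        · simp
      · rw [ih]; simp
      · rw [supp_G]; simp; omega

lemma supp_prod {ι : Type*} [DecidableEq ι] (P : Finset ι) (f : ι → PS)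
    (S : ι → (Fin 2 →₀ ℕ) → Prop) (hnn : ∀ i ∈ P, NN (f i))
    (hs : ∀ i ∈ P, ∀ m, coeff m (f i) ≠ 0 ↔ S i m) (m : Fin 2 →₀ ℕ) :
    coeff m (∏ i ∈ P, f i) ≠ 0 ↔
      ∃ μ : ι → (Fin 2 →₀ ℕ), (∀ i ∈ P, S i (μ i)) ∧ ∑ i ∈ P, μ i = m := by
  classical
  induction P using Finset.induction_on generalizing m with
  | empty =>
    rw [Finset.prod_empty, coeff_one]
    constructor
    · intro h
      split_ifs at h with hc
      · exact ⟨fun _ => 0, by simp, by simp [hc]⟩
      · exact absurd rfl h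
    · rintro ⟨μ, _, hμ⟩
      rw [Finset.sum_empty] at hμ
      rw [if_pos hμ.symm]
      simp
  | insert a s ha ih =>
    have hnn' : ∀ i ∈ s, NN (f i) := fun i hi => hnn i (Finset.mem_insert_of_mem hi)
    have hs' : ∀ i ∈ s, ∀ m, coeff m (f i) ≠ 0 ↔ S i m :=
      fun i hi => hs i (Finset.mem_insert_of_mem hi)
    rw [Finset.prod_insert ha, supp_mul (hnn a (Finset.mem_insert_self a s)) (nn_prod s f hnn')]
    constructor
    · rintro ⟨x, y, hxy, hx, hy⟩
      rw [hs a (Finset.mem_insert_self a s)] at hx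
      obtain ⟨μ, hμ1, hμ2⟩ := (ih hnn' hs' y).mp hy
      refine ⟨Function.update μ a x, ?_, ?_⟩
      · intro i hi
        rcases Finset.mem_insert.mp hi with rfl | hi'
        · rw [Function.update_self]; exact hx
        · rw [Function.update_of_ne (fun h : i = a => ha (by rw [← h]; exact hi'))]; exact hμ1 i hi'
      · rw [Finset.sum_insert ha, Function.update_self, ← hxy, ← hμ2]
        congr 1
        refine Finset.sum_congr rfl (fun i hi => ?_)
        rw [Function.update_of_ne (fun h : i = a => ha (by rw [← h]; exact hi))]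
    · rintro ⟨μ, hμ1, hμ2⟩
      rw [Finset.sum_insert ha] at hμ2
      refine ⟨μ a, ∑ i ∈ s, μ i, hμ2, ?_, ?_⟩
      · rw [hs a (Finset.mem_insert_self a s)]
        exact hμ1 a (Finset.mem_insert_self a s)
      · rw [ih hnn' hs']
        exact ⟨μ, fun i hi => hμ1 i (Finset.mem_insert_of_mem hi), rfl⟩

lemma fill {ι : Type*} [DecidableEq ι] (P : Finset ι) (c : ι → ℕ) (t : ℕ)
    (ht : t ≤ ∑ i ∈ P, c i) : ∃ x : ι → ℕ, (∀ i ∈ P, x i ≤ c i) ∧ ∑ i ∈ P, x i = t := by
  induction P using Finset.induction_on generalizing t with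
  | empty =>
    rw [Finset.sum_empty] at ht
    exact ⟨fun _ => 0, by simp, by simp; omega⟩
  | insert a s ha ih =>
    rw [Finset.sum_insert ha] at ht
    obtain ⟨x, hx1, hx2⟩ := ih (t - min t (c a)) (by omega)
    refine ⟨Function.update x a (min t (c a)), ?_, ?_⟩
    · intro i hi
      rcases Finset.mem_insert.mp hi with rfl | hi'
      · rw [Function.update_self]; exact min_le_right _ _
      · rw [Function.update_of_ne (fun h : i = a => ha (by rw [← h]; exact hi'))]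
        exact hx1 i hi'
    · rw [Finset.sum_insert ha, Function.update_self]
      have : ∑ i ∈ s, Function.update x a (min t (c a)) i = ∑ i ∈ s, x i := by
        refine Finset.sum_congr rfl (fun i hi => ?_)
        rw [Function.update_of_ne (fun h : i = a => ha (by rw [← h]; exact hi))]
      rw [this, hx2]
      omega

lemma fwd (d : ℕ) (a : Fin d → ℕ) (ha : ∀ i, 1 ≤ a i) (P : Finset (Fin d)) (hP : P.Nonempty)
    (m x c : Fin 2 →₀ ℕ) (hxc : x + c = m) (hx0 : x 0 ≤ P.card - 1) (hx1 : x 1 ≤ P.card - 1)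
    (μ : Fin d → (Fin 2 →₀ ℕ)) (hΦ : ∀ i ∈ P, Phi (a i) (μ i)) (hsum : ∑ i ∈ P, μ i = c) :
    m 0 + m 1 + d < m 0 * Finset.univ.sup a + ∑ i, a i := by
  classical
  set A := Finset.univ.sup a with hA
  have hr : ∀ i, ∃ r, i ∈ P → (r ≤ μ i 0 ∧ r ≤ μ i 1 ∧ μ i 0 + μ i 1 + 2 ≤ a i * (r + 1)) := by
    intro i
    by_cases hi : i ∈ P
    · obtain ⟨r, h⟩ := hΦ i hi
      exact ⟨r, fun _ => h⟩
    · exact ⟨0, fun h => absurd h hi⟩
  choose r hr using hr
  have hle : ∀ i, a i ≤ A := fun i => Finset.le_sup (f := a) (Finset.mem_univ i)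
  have E1 : ∑ i ∈ P, (μ i 0 + μ i 1 + 2) ≤ ∑ i ∈ P, (A * r i + a i) := by
    apply Finset.sum_le_sum
    intro i hi
    obtain ⟨h1, h2, h3⟩ := hr i hi
    have : a i * (r i + 1) = a i * r i + a i := by ring
    have h4 : a i * r i ≤ A * r i := Nat.mul_le_mul_right _ (hle i)
    omega
  have hc0 : c 0 = ∑ i ∈ P, μ i 0 := by rw [← hsum, Finsupp.finset_sum_apply]
  have hc1 : c 1 = ∑ i ∈ P, μ i 1 := by rw [← hsum, Finsupp.finset_sum_apply]
  have E1' : c 0 + c 1 + 2 * P.card ≤ A * ∑ i ∈ P, r i + ∑ i ∈ P, a i := by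
    have L : ∑ i ∈ P, (μ i 0 + μ i 1 + 2) = c 0 + c 1 + 2 * P.card := by
      rw [hc0, hc1, Finset.sum_add_distrib, Finset.sum_add_distrib, Finset.sum_const,
        smul_eq_mul, mul_comm]
    have R : ∑ i ∈ P, (A * r i + a i) = A * ∑ i ∈ P, r i + ∑ i ∈ P, a i := by
      rw [Finset.sum_add_distrib, Finset.mul_sum]
    rw [← L, ← R]
    exact E1
  have E2 : ∑ i ∈ P, r i ≤ c 0 := by
    rw [hc0]
    exact Finset.sum_le_sum (fun i hi => (hr i hi).1)
  have E3 : ∑ i ∈ P, a i + (d - P.card) ≤ ∑ i, a i := by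
    have h1 : ∑ i, a i = ∑ i ∈ P, a i + ∑ i ∈ Pᶜ, a i := (Finset.sum_add_sum_compl P a).symm
    have h2 : Pᶜ.card ≤ ∑ i ∈ Pᶜ, a i := by
      rw [Finset.card_eq_sum_ones]
      exact Finset.sum_le_sum (fun i _ => ha i)
    have h3 : Pᶜ.card = d - P.card := by
      rw [Finset.card_compl, Fintype.card_fin]
    omega
  have hcard : P.card ≤ d := by
    have := Finset.card_le_univ P
    simpa using this
  have hcard1 : 1 ≤ P.card := hP.card_pos
  have hA1 : 1 ≤ A := by
    obtain ⟨i, _⟩ := hP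
    exact le_trans (ha i) (hle i)
  have hm0 : m 0 = x 0 + c 0 := by rw [← hxc]; rfl
  have hm1 : m 1 = x 1 + c 1 := by rw [← hxc]; rfl
  have h1 : A * ∑ i ∈ P, r i ≤ A * c 0 := Nat.mul_le_mul_left _ E2
  have h2 : A * (m 0) = A * x 0 + A * c 0 := by rw [hm0]; ring
  have h3 : x 0 ≤ A * x 0 := Nat.le_mul_of_pos_left _ hA1
  rw [Nat.mul_comm (m 0) A]
  omega

lemma bwd (d : ℕ) (a : Fin d → ℕ) (ha : ∀ i, 1 ≤ a i) (m : Fin 2 →₀ ℕ) (hpq : m 0 ≤ m 1)
    (h : m 0 + m 1 + d < m 0 * Finset.univ.sup a + ∑ i, a i) :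
    ∃ P : Finset (Fin d), P.Nonempty ∧ ∃ x c : Fin 2 →₀ ℕ, x + c = m ∧
      (x 0 ≤ P.card - 1 ∧ x 1 ≤ P.card - 1) ∧
      ∃ μ : Fin d → (Fin 2 →₀ ℕ), (∀ i ∈ P, Phi (a i) (μ i)) ∧ ∑ i ∈ P, μ i = c := by
  classical
  rcases Nat.eq_zero_or_pos d with hd0 | hdpos
  · subst hd0
    simp at h
  haveI : Nonempty (Fin d) := Fin.pos_iff_nonempty.mp hdpos
  obtain ⟨i₀, _, hi₀⟩ := Finset.exists_mem_eq_sup (Finset.univ : Finset (Fin d))
    Finset.univ_nonempty a
  set A := Finset.univ.sup a with hA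
  set p := m 0 with hp
  set q := m 1 with hq
  have hle : ∀ i, a i ≤ A := fun i => Finset.le_sup (f := a) (Finset.mem_univ i)
  have hA2 : 2 ≤ A := by
    by_contra hlt
    have hA1 : A ≤ 1 := by omega
    have hall : ∀ i, a i = 1 := fun i => le_antisymm (le_trans (hle i) hA1) (ha i)
    have hs : ∑ i, a i = d := by
      rw [Finset.sum_congr rfl (fun i _ => hall i)]
      simp
    have : p * A ≤ p * 1 := Nat.mul_le_mul_left _ hA1
    omega
  have F1' : ∑ i, a i = ∑ i ∈ Finset.univ.filter (fun i => 2 ≤ a i), a i +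
      (d - (Finset.univ.filter (fun i => 2 ≤ a i)).card) := by
    have h1 := Finset.sum_filter_add_sum_filter_not (Finset.univ : Finset (Fin d))
      (fun i => 2 ≤ a i) a
    have h2 : ∑ i ∈ Finset.univ.filter (fun i => ¬ 2 ≤ a i), a i
        = (Finset.univ.filter (fun i => ¬ 2 ≤ a i)).card := by
      rw [Finset.card_eq_sum_ones]
      refine Finset.sum_congr rfl (fun i hi => ?_)
      rw [Finset.mem_filter] at hi
      have := ha i
      omega
    have h3 := Finset.card_filter_add_card_filter_not (s := (Finset.univ : Finset (Fin d)))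
      (fun i => 2 ≤ a i)
    rw [Finset.card_univ, Fintype.card_fin] at h3
    rw [← h1, h2]
    omega
  obtain ⟨P₀, hP₀⟩ : ∃ P₀ : Finset (Fin d), P₀ = Finset.univ.filter (fun i => 2 ≤ a i) :=
    ⟨_, rfl⟩
  rw [← hP₀] at F1'
  have hi₀P : i₀ ∈ P₀ := by
    rw [hP₀, Finset.mem_filter]
    exact ⟨Finset.mem_univ _, by rw [← hi₀]; exact hA2⟩
  have hcard1 : 1 ≤ P₀.card := Finset.card_pos.mpr ⟨i₀, hi₀P⟩
  have hcardd : P₀.card ≤ d := by
    have := Finset.card_le_univ P₀
    simpa using this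
  have F1 := F1'
  have F2 : ∑ i ∈ P₀, a i = A + ∑ i ∈ P₀.erase i₀, a i := by
    rw [← Finset.add_sum_erase P₀ a hi₀P, hi₀]
  have F3 : ∑ i ∈ P₀.erase i₀, a i = ∑ i ∈ P₀.erase i₀, (a i - 2) + 2 * (P₀.card - 1) := by
    have : ∀ i ∈ P₀.erase i₀, a i = (a i - 2) + 2 := by
      intro i hi
      have hi' := Finset.mem_of_mem_erase hi
      rw [hP₀] at hi'
      have := (Finset.mem_filter.mp hi').2
      omega
    rw [Finset.sum_congr rfl this, Finset.sum_add_distrib, Finset.sum_const, smul_eq_mul,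
      Finset.card_erase_of_mem hi₀P, mul_comm]
  set K := (A - 2) * (p + 1) with hK
  have hKe : K + 2 * (p + 1) = p * A + A := by
    obtain ⟨A', hA'⟩ : ∃ A', A = A' + 2 := ⟨A - 2, by omega⟩
    rw [hK, hA']
    simp only [Nat.add_sub_cancel]
    ring
  set cap : Fin d → ℕ := fun i => if i = i₀ then K else a i - 2 with hcap
  have F4 : ∑ i ∈ P₀, cap i = K + ∑ i ∈ P₀.erase i₀, (a i - 2) := by
    rw [← Finset.add_sum_erase P₀ cap hi₀P]
    congr 1
    · simp [hcap]
    · refine Finset.sum_congr rfl (fun i hi => ?_)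
      simp [hcap, Finset.ne_of_mem_erase hi]
  set f := min (q - p) (P₀.card - 1) with hf
  have ht : q - p - f ≤ ∑ i ∈ P₀, cap i := by
    rw [F4]
    omega
  obtain ⟨x, hx1, hx2⟩ := fill P₀ cap (q - p - f) ht
  refine ⟨P₀, ⟨i₀, hi₀P⟩, Finsupp.single 1 f, Finsupp.single 0 p + Finsupp.single 1 (q - f),
    ?_, ⟨?_, ?_⟩, fun i => if i = i₀ then Finsupp.single 0 p + Finsupp.single 1 (p + x i)
      else Finsupp.single 1 (x i), ?_, ?_⟩
  · apply fin2_ext
    · simp [hp]
    · simp [hq]; omega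
  · simp
  · simp [hf]
  · intro i hi
    show Phi (a i) (if i = i₀ then Finsupp.single 0 p + Finsupp.single 1 (p + x i)
      else Finsupp.single 1 (x i))
    by_cases hii : i = i₀
    · rw [if_pos hii, hii, ← hi₀]
      refine ⟨p, ?_, ?_, ?_⟩
      · simp
      · simp
      · have := hx1 i₀ hi₀P
        simp only [hcap, if_pos rfl] at this
        have e : A * (p + 1) = p * A + A := by ring
        simp
        omega
    · rw [if_neg hii]
      refine ⟨0, Nat.zero_le _, Nat.zero_le _, ?_⟩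
      have := hx1 i hi
      simp only [hcap, if_neg hii] at this
      rw [hP₀] at hi
      have h2 := (Finset.mem_filter.mp hi).2
      simp
      omega
  · apply fin2_ext
    · rw [Finsupp.finset_sum_apply]
      rw [Finset.sum_eq_single i₀]
      · simp
      · intro i _ hne
        simp [hne]
      · intro hcon; exact absurd hi₀P hcon
    · rw [Finsupp.finset_sum_apply]
      have : ∀ i ∈ P₀, (if i = i₀ then Finsupp.single (0 : Fin 2) p + Finsupp.single 1 (p + x i)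
          else Finsupp.single 1 (x i) : Fin 2 →₀ ℕ) 1 = x i + (if i = i₀ then p else 0) := by
        intro i _
        by_cases hii : i = i₀
        · simp [hii]; omega
        · simp [hii]
      rw [Finset.sum_congr rfl this, Finset.sum_add_distrib, hx2, Finset.sum_ite_eq' P₀ i₀,
        if_pos hi₀P]
      simp
      omega

lemma supp_H (d : ℕ) (a : Fin d → ℕ) (Hs : Fin d → PS)
    (hH : ∀ i, (1 - Pser (a i)) * Hs i = Nser (a i)) (m : Fin 2 →₀ ℕ) :
    coeff m (∑ P ∈ (Finset.univ : Finset (Fin d)).powerset with P.Nonempty,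
      ((1 + X 0) * (1 + X 1)) ^ (P.card - 1) * ∏ i ∈ P, Hs i) ≠ 0 ↔
    ∃ P : Finset (Fin d), P.Nonempty ∧ ∃ x c : Fin 2 →₀ ℕ, x + c = m ∧
      (x 0 ≤ P.card - 1 ∧ x 1 ≤ P.card - 1) ∧
      ∃ μ : Fin d → (Fin 2 →₀ ℕ), (∀ i ∈ P, Phi (a i) (μ i)) ∧ ∑ i ∈ P, μ i = c := by
  classical
  have hnn : ∀ i, NN (Hs i) := fun i m => (Hh_spec (a i) (Hs i) (hH i) _ m rfl).1
  have hsp : ∀ i m, coeff m (Hs i) ≠ 0 ↔ Phi (a i) m :=
    fun i m => (Hh_spec (a i) (Hs i) (hH i) _ m rfl).2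
  rw [supp_sum _ _ (fun P _ => nn_mul (nn_pow nn_G _) (nn_prod P Hs (fun i _ => hnn i)))]
  constructor
  · rintro ⟨P, hPmem, hne⟩
    rw [Finset.mem_filter] at hPmem
    rw [supp_mul (nn_pow nn_G _) (nn_prod P Hs (fun i _ => hnn i))] at hne
    obtain ⟨x, c, hxc, hx, hc⟩ := hne
    rw [supp_Gpow] at hx
    rw [supp_prod P Hs (fun i => Phi (a i)) (fun i _ => hnn i) (fun i _ => hsp i)] at hc
    exact ⟨P, hPmem.2, x, c, hxc, hx, hc⟩
  · rintro ⟨P, hP, x, c, hxc, hx, hc⟩
    refine ⟨P, Finset.mem_filter.mpr ⟨Finset.mem_powerset.mpr (Finset.subset_univ _), hP⟩, ?_⟩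
    rw [supp_mul (nn_pow nn_G _) (nn_prod P Hs (fun i _ => hnn i))]
    exact ⟨x, c, hxc, (supp_Gpow _ _).mpr hx,
      (supp_prod P Hs (fun i => Phi (a i)) (fun i _ => hnn i) (fun i _ => hsp i) c).mpr hc⟩

end PRE

/-- For each i let H_i in Z[[y, z]] be the series determined by (1 - sum_{u, v >= 1, u + v <= a_i}
C(a_i, u+v) y^u z^v) H_i = sum_{u, v >= 0, u + v + 1 <= a_i - 1} C(a_i - 1, u+v+1) y^u z^v (the
hypersurface series of degree a_i), and put H = sum over nonempty subsets P of {1, ..., d} of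
((1+y)(1+z))^(|P|-1) prod_{i in P} H_i, the generating series sum h^{p,q} y^p z^q attached to
primitive middle Hodge numbers of smooth complete intersections of multidegree a. Then for p <= q
one has h^{p,q} ≠ 0 if and only if p + q + d < p · max_i a_i + sum_i a_i, i.e. p > floor((p + q + d
- sum_i a_i) / max_i a_i). (The published statement prints the last condition with >= in place of >;
the proof establishes the strict form, which is the correct one: for a single quadric, d = 1 and a_1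
= 2, the coefficient of y^0 z^1 vanishes although 0 >= floor(0/2).) -/
theorem result (d : ℕ) (a : Fin d → ℕ) (ha : ∀ i, 1 ≤ a i)
    (Hs : Fin d → MvPowerSeries (Fin 2) ℤ) (p q : ℕ) (hpq : p ≤ q) :
    let y : MvPowerSeries (Fin 2) ℤ := MvPowerSeries.X 0
    let z : MvPowerSeries (Fin 2) ℤ := MvPowerSeries.X 1
    let Pser : ℕ → MvPowerSeries (Fin 2) ℤ := fun b => ∑ u ∈ Finset.range (b + 1), ∑ v ∈ Finset.range (b + 1),
      if 1 ≤ u ∧ 1 ≤ v ∧ u + v ≤ b then (b.choose (u + v) : MvPowerSeries (Fin 2) ℤ) * y ^ u * z ^ v else 0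
    let Nser : ℕ → MvPowerSeries (Fin 2) ℤ := fun b => ∑ u ∈ Finset.range b, ∑ v ∈ Finset.range b,
      if u + v + 1 ≤ b - 1 then ((b - 1).choose (u + v + 1) : MvPowerSeries (Fin 2) ℤ) * y ^ u * z ^ v else 0
    (∀ i, (1 - Pser (a i)) * Hs i = Nser (a i)) →
    let H : MvPowerSeries (Fin 2) ℤ := ∑ P ∈ (Finset.univ : Finset (Fin d)).powerset with P.Nonempty,
      ((1 + y) * (1 + z)) ^ (P.card - 1) * ∏ i ∈ P, Hs i
    (MvPowerSeries.coeff (Finsupp.single 0 p + Finsupp.single 1 q) H ≠ 0 ↔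
      p + q + d < p * Finset.univ.sup a + ∑ i, a i) := by
  intro y z Pser' Nser' hH H
  have hH' : ∀ i, (1 - Pser (a i)) * Hs i = Nser (a i) := hH
  have hm0 : (Finsupp.single (0 : Fin 2) p + Finsupp.single 1 q : Fin 2 →₀ ℕ) 0 = p := by simp
  have hm1 : (Finsupp.single (0 : Fin 2) p + Finsupp.single 1 q : Fin 2 →₀ ℕ) 1 = q := by simp
  have key := supp_H d a Hs hH' (Finsupp.single 0 p + Finsupp.single 1 q)
  refine Iff.trans key ?_
  constructor
  · rintro ⟨P, hP, x, c, hxc, ⟨hx0, hx1⟩, μ, hΦ, hsum⟩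
    have := fwd d a ha P hP _ x c hxc hx0 hx1 μ hΦ hsum
    rw [hm0, hm1] at this
    exact this
  · intro h
    apply bwd d a ha _ (by rw [hm0, hm1]; exact hpq)
    rw [hm0, hm1]
    exact h


end Groth.Agent.S8732
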