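import Groth.Statements.S8739
import Mathlib
import Groth.Agent.Lib.Helper92.MVFKernel
import Groth.Agent.Lib.Helper92.LinAdeq
import Groth.Agent.Lib.Helper92.FiltTensor
-- import your own Groth.Agent.* helpers here

set_option autoImplicit false
universe u
open CategoryTheory Limits
open Adeq

namespace Groth.Agent.S8739

open TensorProduct

theorem bc_comm {A : Type u} [CommRing A] {M N : ModuleCat.{u + 1} A} (φ₀ : M ⟶ N)
    {B B' : Type u} [CommRing B] [Algebra A B] [CommRing B'] [Algebra A B'] (g : B →ₐ[A] B')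
    (z : B ⊗[A] (M : Type (u + 1))) :
    φ₀.hom.baseChange B' (g.toLinearMap.rTensor M z) =
      g.toLinearMap.rTensor N (φ₀.hom.baseChange B z) := by
  induction z using TensorProduct.induction_on with
  | zero => simp
  | tmul b m =>
    rw [LinearMap.rTensor_tmul, LinearMap.baseChange_tmul, LinearMap.baseChange_tmul,
      LinearMap.rTensor_tmul]
  | add a b ha hb => rw [map_add, map_add, ha, hb, map_add, map_add]

/-- An adequate functor `F` on `A`-algebras commutes with filtered colimits: for a filtered colimit `B =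
colim B_i` of `A`-algebras one has `F(B) = colim F(B_i)`, in the sense that the image under `F` of a
colimit cocone of a filtered diagram of algebras is a colimit cocone of abelian groups. -/
theorem result (A : Type u) [CommRing A] (F : Adeq.MVF A)
    (hF : Adeq.adequate A F) {J : Type u} [SmallCategory J] [IsFiltered J] (D : J ⥤ Adeq.Alg A)
    (c : Cocone D) (hc : IsColimit c) : Nonempty (IsColimit (F.toAb.mapCocone c)) := by
  classical
  obtain ⟨M, N, φ₀, ⟨e⟩⟩ := hF
  obtain ⟨θ, hθinj, hθzero, hθex⟩ :=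
    Groth.Agent.Lib.Helper92.MVFKernel.exists_pointwise_of_iso_kernel
      ((Adeq.underline A).map φ₀) e
  apply Groth.Agent.Lib.Helper92.FiltTensor.ab_isColimit_of_concrete
  · intro x
    obtain ⟨x', hx'⟩ : ∃ x' : F.obj (Adeq.pt c.pt), x' = x := ⟨x, rfl⟩
    obtain ⟨w, hw⟩ : ∃ w : (c.pt : Type u) ⊗[A] (M : Type (u + 1)),
        w = θ.app (Adeq.pt c.pt) x' := ⟨_, rfl⟩
    obtain ⟨j, z, hz⟩ :=
      Groth.Agent.Lib.Helper92.FiltTensor.alg_tensor_surj A D c hc (M : Type (u + 1)) w
    obtain ⟨zN, hzN⟩ : ∃ zN : (D.obj j : Type u) ⊗[A] (N : Type (u + 1)),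
        zN = φ₀.hom.baseChange (D.obj j) z := ⟨_, rfl⟩
    have hzN0 : (Groth.Agent.Lib.Helper92.FiltTensor.ιH D c j).hom.toLinearMap.rTensor N zN
        = 0 := by
      rw [hzN, ← bc_comm φ₀ (Groth.Agent.Lib.Helper92.FiltTensor.ιH D c j).hom z, hz, hw]
      exact hθzero (Adeq.pt c.pt) x'
    obtain ⟨k, f, hf⟩ :=
      Groth.Agent.Lib.Helper92.FiltTensor.alg_tensor_inj A D c hc (N : Type (u + 1)) j zN hzN0
    have hzk : ((Adeq.underline A).map φ₀).app (Adeq.pt (D.obj k))
        ((D.map f).hom.toLinearMap.rTensor M z) = 0 := by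
      change φ₀.hom.baseChange (D.obj k) ((D.map f).hom.toLinearMap.rTensor M z) = 0
      rw [bc_comm φ₀ (D.map f).hom z, ← hzN]
      exact hf
    obtain ⟨y, hy⟩ := hθex (Adeq.pt (D.obj k)) _ hzk
    refine ⟨k, y, ?_⟩
    have e1 : (θ.app (Adeq.pt c.pt)
        (F.map (Adeq.ptHom (Groth.Agent.Lib.Helper92.FiltTensor.ιH D c k)) y) :
        (c.pt : Type u) ⊗[A] (M : Type (u + 1))) =
        (Groth.Agent.Lib.Helper92.FiltTensor.ιH D c k).hom.toLinearMap.rTensor M
          (θ.app (Adeq.pt (D.obj k)) y) :=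
      Groth.Agent.Lib.Helper92.LinAdeq.nat_apply θ
        (Groth.Agent.Lib.Helper92.FiltTensor.ιH D c k) y
    have e2 : (Groth.Agent.Lib.Helper92.FiltTensor.ιH D c k).hom.toLinearMap.rTensor M
          (θ.app (Adeq.pt (D.obj k)) y) =
        (Groth.Agent.Lib.Helper92.FiltTensor.ιH D c k).hom.toLinearMap.rTensor M
          ((D.map f).hom.toLinearMap.rTensor M z) :=
      congrArg ((Groth.Agent.Lib.Helper92.FiltTensor.ιH D c k).hom.toLinearMap.rTensor M) hy
    have e3 := Groth.Agent.Lib.Helper92.FiltTensor.alg_tensor_ι A D c (M : Type (u + 1)) f z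
    have key : F.map (Adeq.ptHom (Groth.Agent.Lib.Helper92.FiltTensor.ιH D c k)) y = x' :=
      hθinj (Adeq.pt c.pt) (e1.trans (e2.trans (e3.trans (hz.trans hw))))
    exact key.trans hx'
  · intro j y hy
    obtain ⟨y', hy'⟩ : ∃ y' : F.obj (Adeq.pt (D.obj j)), y' = y := ⟨y, rfl⟩
    subst hy'
    obtain ⟨z, hz⟩ : ∃ z : (D.obj j : Type u) ⊗[A] (M : Type (u + 1)),
        z = θ.app (Adeq.pt (D.obj j)) y' := ⟨_, rfl⟩
    have e2 : F.map (Adeq.ptHom (Groth.Agent.Lib.Helper92.FiltTensor.ιH D c j)) y' = 0 := hy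
    have hz0 : (Groth.Agent.Lib.Helper92.FiltTensor.ιH D c j).hom.toLinearMap.rTensor M z
        = 0 := by
      have e1 := Groth.Agent.Lib.Helper92.LinAdeq.nat_apply θ
        (Groth.Agent.Lib.Helper92.FiltTensor.ιH D c j) y'
      rw [hz]
      exact e1.symm.trans ((congrArg (fun t => θ.app (Adeq.pt c.pt) t) e2).trans (map_zero _))
    obtain ⟨k, f, hf⟩ :=
      Groth.Agent.Lib.Helper92.FiltTensor.alg_tensor_inj A D c hc (M : Type (u + 1)) j z hz0
    refine ⟨k, f, ?_⟩
    have e3 := Groth.Agent.Lib.Helper92.LinAdeq.nat_apply θ (D.map f) y'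
    have e4 : θ.app (Adeq.pt (D.obj k)) (F.map (Adeq.ptHom (D.map f)) y') =
        θ.app (Adeq.pt (D.obj k)) 0 :=
      e3.trans ((congrArg ((D.map f).hom.toLinearMap.rTensor M) hz.symm).trans
        (hf.trans (map_zero _).symm))
    exact hθinj (Adeq.pt (D.obj k)) e4

end Groth.Agent.S8739
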