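import Groth.Statements.S8740
import Groth.Agent.Lib.Helper92.FlatKer
import Mathlib
-- import your own Groth.Agent.* helpers here

set_option autoImplicit false
universe u
open CategoryTheory Limits
open Adeq

namespace Groth.Agent.S8740

section helpers
open TensorProduct Groth.Agent.Lib.Helper92.FlatKer

theorem pointwise_exact_gen {C₀ : Type*} [Category C₀] {R : C₀ᵒᵖ ⥤ RingCat.{u}}
    (S : ShortComplex (PresheafOfModules.{u+1} R)) (hS : S.Exact) (X : C₀ᵒᵖ) (y : S.X₂.obj X)
    (hy : S.g.app X y = 0) : ∃ x : S.X₁.obj X, S.f.app X x = y := by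
  have h1 : (S.map (PresheafOfModules.evaluation.{u+1} R X)).Exact := hS.map _
  rw [ShortComplex.moduleCat_exact_iff] at h1
  exact h1 y hy

end helpers

open TensorProduct Groth.Agent.Lib.Helper92.FlatKer

/-- For an adequate functor `F` on `A`-algebras and a flat map of `A`-algebras `f : B → B'`, the
canonical map `B' ⊗_B F(B) → F(B')` is an isomorphism. -/
theorem result (A : Type u) [CommRing A] (F : Adeq.MVF A) (hF : Adeq.adequate A F)
    {B B' : Adeq.Alg A} (f : B ⟶ B') (hf : f.hom.toRingHom.Flat) : IsIso (F.bc f) := by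
  obtain ⟨M, N, g, ⟨e⟩⟩ := hF
  let ug := (Adeq.underline A).map g
  let θn : F ⟶ (Adeq.underline A).obj M := e.hom ≫ kernel.ι ug
  have hθmono : Mono θn := inferInstance
  have hθzero : θn ≫ ug = 0 := by
    simp only [θn, Category.assoc, kernel.condition, comp_zero]
  have hexact : ∀ (X : (Adeq.Alg A)ᵒᵖᵒᵖ) (y : ((Adeq.underline A).obj M).obj X),
      ug.app X y = 0 → ∃ x : F.obj X, θn.app X x = y := by
    intro X y hy
    have hS : (ShortComplex.mk (kernel.ι ug) ug (kernel.condition ug)).Exact :=
      ShortComplex.exact_of_f_is_kernel _ (kernelIsKernel ug)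
    obtain ⟨k, hk⟩ := pointwise_exact_gen _ hS X y hy
    refine ⟨e.inv.app X k, ?_⟩
    have h1 : e.inv ≫ θn = kernel.ι ug := by simp [θn]
    have hk' : (kernel.ι ug).app X k = y := hk
    have h2 : θn.app X (e.inv.app X k) = (kernel.ι ug).app X k :=
      congrArg (fun φ => (φ.app X) k) h1
    exact h2.trans hk'
  have hzero : ∀ (X : (Adeq.Alg A)ᵒᵖᵒᵖ) (x : F.obj X), ug.app X (θn.app X x) = 0 := by
    intro X x
    have h0 : θn.app X ≫ ug.app X = 0 := by
      rw [← PresheafOfModules.comp_app, hθzero]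
      rfl
    have := congrArg (fun φ => φ.hom x) h0
    simpa using this
  have hinj : ∀ (X : (Adeq.Alg A)ᵒᵖᵒᵖ), Function.Injective (θn.app X) :=
    fun X => PresheafOfModules.injective_of_mono θn X
  -- instances
  let algBB' : Algebra (B : Type u) (B' : Type u) := f.hom.toRingHom.toAlgebra
  have htower : IsScalarTower A (B : Type u) (B' : Type u) :=
    IsScalarTower.of_algebraMap_eq (fun a => (f.hom.commutes a).symm)
  have hflat : Module.Flat (B : Type u) (B' : Type u) := hf
  let modB : Module (B : Type u) (F.obj (Adeq.pt B')) := Module.compHom _ f.hom.toRingHom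
  have htower2 : IsScalarTower (B : Type u) (B' : Type u) (F.obj (Adeq.pt B')) :=
    ⟨fun b b' y => by
      change (f.hom b * b') • y = f.hom b • (b' • y)
      exact mul_smul _ _ _⟩
  let θ : F.obj (Adeq.pt B) →ₗ[(B : Type u)] (B : Type u) ⊗[A] M := (θn.app (Adeq.pt B)).hom
  let θ' : F.obj (Adeq.pt B') →ₗ[(B' : Type u)] (B' : Type u) ⊗[A] M := (θn.app (Adeq.pt B')).hom
  have hex : Function.Exact θ (g.hom.baseChange (B : Type u)) := by
    intro y
    constructor
    · intro hy
      obtain ⟨x, hx⟩ := hexact (Adeq.pt B) y hy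
      exact ⟨x, hx⟩
    · rintro ⟨x, rfl⟩
      exact hzero (Adeq.pt B) x
  have hex' : Function.Exact θ' (g.hom.baseChange (B' : Type u)) := by
    intro y
    constructor
    · intro hy
      obtain ⟨x, hx⟩ := hexact (Adeq.pt B') y hy
      exact ⟨x, hx⟩
    · rintro ⟨x, rfl⟩
      exact hzero (Adeq.pt B') x
  let Ff : F.obj (Adeq.pt B) →ₗ[(B : Type u)] F.obj (Adeq.pt B') :=
    { toFun := fun x => F.map (Adeq.ptHom f) x
      map_add' := fun x y => map_add (F.map (Adeq.ptHom f)).hom x y
      map_smul' := fun r x => PresheafOfModules.map_smul F (Adeq.ptHom f) r x }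
  have hcomp : ∀ x, θ' (Ff x) = (f.hom.toLinearMap).rTensor M (θ x) :=
    fun x => PresheafOfModules.naturality_apply θn (Adeq.ptHom f) x
  have hbij := bijective_liftBaseChange g.hom θ (hinj _) hex θ' (hinj _) hex' Ff f.hom.toLinearMap
    (fun b => rfl) hcomp
  have hfun : ∀ z : (B' : Type u) ⊗[(B : Type u)] (F.obj (Adeq.pt B)),
      (F.bc f) z = LinearMap.liftBaseChange (B' : Type u) Ff z := by
    intro z
    induction z using TensorProduct.induction_on with
    | zero => rw [map_zero]; exact map_zero (F.bc f).hom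
    | tmul b' x => rfl
    | add x y hx hy => rw [map_add, ← hx, ← hy]; exact map_add (F.bc f).hom x y
  rw [ConcreteCategory.isIso_iff_bijective]
  exact ⟨fun a b hab => hbij.1 ((hfun a).symm.trans (hab.trans (hfun b))),
    fun y => by obtain ⟨z, hz⟩ := hbij.2 y; exact ⟨z, (hfun z).trans hz⟩⟩

end Groth.Agent.S8740
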