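import Groth.Statements.S8746
import Mathlib
-- import your own Groth.Agent.* helpers here

set_option autoImplicit false
universe u
open CategoryTheory Limits
open Adeq

namespace Groth.Agent.S8746

section helpers
open Polynomial TensorProduct

variable {B : Type u} [CommRing B]

noncomputable def gpoly (b : B) : B[X] := X ^ 2 - C b * X - 1

lemma gpoly_eq (b : B) : gpoly b = X ^ 2 - (C b * X + 1) := by unfold gpoly; ring

lemma gpoly_aux_deg (b : B) : (C b * X + 1 : B[X]).degree < ((2 : ℕ) : WithBot ℕ) := by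
  refine lt_of_le_of_lt (degree_add_le _ _) (max_lt ?_ ?_)
  · exact lt_of_le_of_lt (degree_C_mul_X_le b) (by exact_mod_cast (by norm_num : (1 : ℕ) < 2))
  · exact lt_of_le_of_lt degree_one_le (by exact_mod_cast (by norm_num : (0 : ℕ) < 2))

lemma gpoly_monic (b : B) : (gpoly b).Monic := by
  rw [gpoly_eq]
  exact monic_X_pow_sub (gpoly_aux_deg b)

lemma gpoly_degree [Nontrivial B] (b : B) : (gpoly b).degree = ((2 : ℕ) : WithBot ℕ) := by
  rw [gpoly_eq, degree_sub_eq_left_of_degree_lt, degree_X_pow]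
  rw [degree_X_pow]
  exact gpoly_aux_deg b

lemma exists_units (b : B) : ∃ u₁ u₂ : (AdjoinRoot (gpoly b))ˣ,
    algebraMap B (AdjoinRoot (gpoly b)) b = (u₁ : AdjoinRoot (gpoly b)) + u₂ := by
  have hroot : (AdjoinRoot.root (gpoly b)) ^ 2
      - algebraMap B (AdjoinRoot (gpoly b)) b * AdjoinRoot.root (gpoly b) - 1 = 0 := by
    have h := AdjoinRoot.mk_self (f := gpoly b)
    conv at h => lhs; arg 2; unfold gpoly
    simpa [AdjoinRoot.algebraMap_eq] using h
  have h1 : AdjoinRoot.root (gpoly b) *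
      (AdjoinRoot.root (gpoly b) - algebraMap B (AdjoinRoot (gpoly b)) b) = 1 := by
    linear_combination hroot
  have h2 : (algebraMap B (AdjoinRoot (gpoly b)) b - AdjoinRoot.root (gpoly b)) *
      (-AdjoinRoot.root (gpoly b)) = 1 := by
    linear_combination hroot
  refine ⟨Units.mkOfMulEqOne _ _ h1, Units.mkOfMulEqOne _ _ h2, ?_⟩
  rw [Units.val_mkOfMulEqOne, Units.val_mkOfMulEqOne]
  ring

lemma exists_retraction [Nontrivial B] (b : B) :
    ∃ ρ : AdjoinRoot (gpoly b) →ₗ[B] B, ρ 1 = 1 := by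
  have hg := gpoly_monic b
  refine ⟨(Polynomial.lcoeff B 0) ∘ₗ (AdjoinRoot.modByMonicHom hg), ?_⟩
  have h1 : (1 : AdjoinRoot (gpoly b)) = AdjoinRoot.mk (gpoly b) 1 := (map_one _).symm
  rw [LinearMap.comp_apply, h1, AdjoinRoot.modByMonicHom_mk]
  have hdeg : (1 : B[X]).degree < (gpoly b).degree := by
    rw [gpoly_degree b, degree_one]
    exact_mod_cast (by norm_num : (0 : ℕ) < 2)
  rw [(Polynomial.modByMonic_eq_self_iff hg).mpr hdeg]
  simp

lemma rho_smul {R S : Type*} [CommRing R] [CommRing S] [Algebra R S] (ρ : S →ₗ[R] R) (r : R) (s : S) :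
    ρ (algebraMap R S r * s) = r • ρ s := by rw [← Algebra.smul_def, map_smul]

lemma tmul_eq_zero_of_retraction {R : Type*} [CommRing R] {S M : Type*} [AddCommGroup S] [Module R S]
    [AddCommGroup M] [Module R M] (s : S) (ρ : S →ₗ[R] R) (hρ : ρ s = 1) (y : M)
    (h : s ⊗ₜ[R] y = 0) : y = 0 := by
  have h' := congrArg ((TensorProduct.lid R M).toLinearMap ∘ₗ LinearMap.rTensor M ρ) h
  simpa [hρ] using h'

end helpers

/-- Let `F`, `G` be module-valued functors on `A`-algebras and `φ` a transformation of the underlying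
set-valued functors which is additive and satisfies `φ(uξ) = uφ(ξ)` for units `u`. If `B' ⊗_B G(B) →
G(B')` is an isomorphism for every flat `B → B'`, then `φ` is `B`-linear for every `B`, i.e. a
morphism of module-valued functors. -/
theorem result (A : Type u) [CommRing A] (F G : Adeq.MVF A)
    (φ : ∀ B : Adeq.Alg A, F.obj (Adeq.pt B) → G.obj (Adeq.pt B))
    (hnat : ∀ ⦃B B' : Adeq.Alg A⦄ (f : B ⟶ B') (x : F.obj (Adeq.pt B)),
      φ B' (F.map (Adeq.ptHom f) x) = G.map (Adeq.ptHom f) (φ B x))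
    (hadd : ∀ (B : Adeq.Alg A) (x y : F.obj (Adeq.pt B)), φ B (x + y) = φ B x + φ B y)
    (hunit : ∀ (B : Adeq.Alg A) (v : (B : Type u)ˣ) (x : F.obj (Adeq.pt B)), φ B ((v : B) • x) = (v : B) • φ B x)
    (hG : ∀ ⦃B B' : Adeq.Alg A⦄ (f : B ⟶ B'), f.hom.toRingHom.Flat → IsIso (G.bc f))
    (B : Adeq.Alg A) (b : B) (x : F.obj (Adeq.pt B)) : φ B (b • x) = b • φ B x := by
  classical
  rcases subsingleton_or_nontrivial (B : Type u) with hB | hB
  · have : Subsingleton (G.obj (Adeq.pt B)) := Module.subsingleton (B : Type u) _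
    exact Subsingleton.elim _ _
  have hg := gpoly_monic (b : (B : Type u))
  have hfree : Module.Free (B : Type u) (AdjoinRoot (gpoly (b : (B : Type u)))) := hg.free_adjoinRoot
  obtain ⟨u₁, u₂, hu⟩ := exists_units (b : (B : Type u))
  obtain ⟨ρ, hρ⟩ := exists_retraction (b : (B : Type u))
  let B' : Adeq.Alg A := Adeq.algOf A (AdjoinRoot (gpoly (b : (B : Type u))))
  let f : B ⟶ B' := CommAlgCat.ofHom
    (IsScalarTower.toAlgHom A (B : Type u) (AdjoinRoot (gpoly (b : (B : Type u)))))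
  have hflat : f.hom.toRingHom.Flat := by
    change (algebraMap (B : Type u) (AdjoinRoot (gpoly (b : (B : Type u))))).Flat
    exact RingHom.flat_algebraMap_iff.mpr inferInstance
  have hiso : IsIso (G.bc f) := hG f hflat
  let ρ' : ((ModuleCat.restrictScalars f.hom.toRingHom).obj
      (ModuleCat.of (AdjoinRoot (gpoly (b : (B : Type u)))) (AdjoinRoot (gpoly (b : (B : Type u)))))) →ₗ[(B : Type u)]
        (B : Type u) :=
    { toFun := fun s => ρ s
      map_add' := fun s t => map_add ρ s t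
      map_smul' := fun r s => rho_smul ρ r s }
  have hinj : ∀ y : G.obj (Adeq.pt B), G.map (Adeq.ptHom f) y = 0 → y = 0 := by
    intro y hy
    have h := ModuleCat.extendRestrictScalarsAdj_homEquiv_apply.{u+1,u,u} (f := f.hom.toRingHom) (G.bc f) y
    have h2 : (ModuleCat.extendRestrictScalarsAdj.{u+1,u,u} f.hom.toRingHom).homEquiv _ _ (G.bc f)
        = G.map (Adeq.ptHom f) := by
      unfold Adeq.MVF.bc
      exact Equiv.apply_symm_apply _ _
    rw [h2] at h
    have h3 := h.symm.trans hy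
    have h4 := (ConcreteCategory.bijective_of_isIso (G.bc f)).injective
      (h3.trans (map_zero (G.bc f).hom).symm)
    exact tmul_eq_zero_of_retraction _ ρ' hρ y h4
  -- main computation
  obtain ⟨ξ, hξ⟩ : ∃ ξ : F.obj (Adeq.pt B'), ξ = F.map (Adeq.ptHom f) x := ⟨_, rfl⟩
  obtain ⟨η, hη⟩ : ∃ η : G.obj (Adeq.pt B'), η = G.map (Adeq.ptHom f) (φ B x) := ⟨_, rfl⟩
  have hξη : φ B' ξ = η := by rw [hξ, hη]; exact hnat f x
  have key : φ B' ((algebraMap (B : Type u) (AdjoinRoot (gpoly (b : (B : Type u)))) b : (B' : Type u)) • ξ)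
      = (algebraMap (B : Type u) (AdjoinRoot (gpoly (b : (B : Type u)))) b : (B' : Type u)) • φ B' ξ := by
    rw [hu, add_smul, hadd, add_smul]
    rw [hunit B' u₁ ξ, hunit B' u₂ ξ]
  have hF : F.map (Adeq.ptHom f) (b • x)
      = (algebraMap (B : Type u) (AdjoinRoot (gpoly (b : (B : Type u)))) b : (B' : Type u)) • ξ := by
    rw [hξ]
    exact PresheafOfModules.map_smul F (Adeq.ptHom f) b x
  have hGm : G.map (Adeq.ptHom f) (b • φ B x)
      = (algebraMap (B : Type u) (AdjoinRoot (gpoly (b : (B : Type u)))) b : (B' : Type u)) • η := by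
    rw [hη]
    exact PresheafOfModules.map_smul G (Adeq.ptHom f) b (φ B x)
  have hfin : G.map (Adeq.ptHom f) (φ B (b • x) - b • φ B x) = 0 := by
    have e1 : G.map (Adeq.ptHom f) (φ B (b • x)) = G.map (Adeq.ptHom f) (b • φ B x) := by
      rw [← hnat f (b • x), hF, key, hξη, hGm]
    rw [map_sub, e1]
    exact sub_self _
  exact sub_eq_zero.mp (hinj _ hfin)

end Groth.Agent.S8746
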