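import Groth.Statements.S8753
import Mathlib
import Groth.Agent.S8744
import Groth.Agent.S8752
import Groth.Agent.Lib.Helper92.MVFFree
-- import your own Groth.Agent.* helpers here

set_option autoImplicit false
universe u
open CategoryTheory Limits
open Adeq

namespace Groth.Agent.S8753

theorem ab5 (A : Type u) [CommRing A] : AB5OfSize.{u + 1, u + 1} (Adeq.MVF A) := by
  constructor
  intro J _ _
  exact HasExactColimitsOfShape.domain_of_functor J (PresheafOfModules.toPresheaf (Adeq.ringOf A))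

theorem sep (A : Type u) [CommRing A] : ObjectProperty.IsSeparating
    (ObjectProperty.ofObj (fun D : Adeq.Alg A => Groth.Agent.Lib.Helper92.MVFFree.freeObj D)) := by
  intro M N f₁ f₂ h
  ext X m
  obtain ⟨D, rfl⟩ : ∃ D : Adeq.Alg A, X = Adeq.pt D := ⟨X.unop.unop, rfl⟩
  have h1 := h _ ⟨D⟩ (Groth.Agent.Lib.Helper92.MVFFree.desc M m)
  have h4 : f₁.app (Adeq.pt D) ((Groth.Agent.Lib.Helper92.MVFFree.desc M m).app (Adeq.pt D)
      (Groth.Agent.Lib.Helper92.MVFFree.gen D)) =
      f₂.app (Adeq.pt D) ((Groth.Agent.Lib.Helper92.MVFFree.desc M m).app (Adeq.pt D)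
        (Groth.Agent.Lib.Helper92.MVFFree.gen D)) :=
    congrArg (fun φ => (φ.app (Adeq.pt D)) (Groth.Agent.Lib.Helper92.MVFFree.gen D)) h1
  rw [Groth.Agent.Lib.Helper92.MVFFree.desc_gen M m] at h4
  exact h4

theorem gab (A : Type u) [CommRing A] : IsGrothendieckAbelian.{u + 1} (Adeq.MVF A) where
  locallySmall := inferInstance
  hasFilteredColimitsOfSize := inferInstance
  ab5OfSize := ab5 A
  hasSeparator := ⟨⟨∐ (fun D : Adeq.Alg A => Groth.Agent.Lib.Helper92.MVFFree.freeObj D),
    (isSeparator_sigma _).mpr (sep A)⟩⟩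

theorem iota_preservesMono (A : Type u) [CommRing A] :
    (Adeq.adequate A).ι.PreservesMonomorphisms := by
  constructor
  intro X Y f hf
  have hK : Adeq.adequate A (kernel ((Adeq.adequate A).ι.map f)) :=
    Groth.Agent.S8744.result A _ X.property Y.property
  obtain ⟨K', hK'⟩ : ∃ K' : (Adeq.adequate A).FullSubcategory,
      K' = ⟨kernel ((Adeq.adequate A).ι.map f), hK⟩ := ⟨_, rfl⟩
  subst hK'
  obtain ⟨k, hk⟩ : ∃ k : (⟨kernel ((Adeq.adequate A).ι.map f), hK⟩ :
      (Adeq.adequate A).FullSubcategory) ⟶ X,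
      (Adeq.adequate A).ι.map k = kernel.ι ((Adeq.adequate A).ι.map f) :=
    ⟨(Adeq.adequate A).ι.preimage (kernel.ι ((Adeq.adequate A).ι.map f)),
      Functor.map_preimage _ _⟩
  obtain ⟨k₀, hk₀⟩ : ∃ k₀ : (⟨kernel ((Adeq.adequate A).ι.map f), hK⟩ :
      (Adeq.adequate A).FullSubcategory) ⟶ X,
      (Adeq.adequate A).ι.map k₀ = (0 : kernel ((Adeq.adequate A).ι.map f) ⟶ X.obj) :=
    ⟨(Adeq.adequate A).ι.preimage (0 : kernel ((Adeq.adequate A).ι.map f) ⟶ X.obj),
      Functor.map_preimage _ _⟩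
  have hkk : k ≫ f = k₀ ≫ f := by
    apply (Adeq.adequate A).ι.map_injective
    rw [Functor.map_comp, Functor.map_comp, hk, hk₀, kernel.condition, zero_comp]
  have hkeq : k = k₀ := (cancel_mono f).mp hkk
  have hι0 : kernel.ι ((Adeq.adequate A).ι.map f) = 0 := by
    rw [← hk, hkeq, hk₀]
  apply Preadditive.mono_of_cancel_zero
  intro P g hg
  rw [← kernel.lift_ι ((Adeq.adequate A).ι.map f) g hg, hι0, comp_zero]

/-- The category of adequate functors on `A`-algebras has enough injectives. -/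
theorem result (A : Type u) [CommRing A] : EnoughInjectives (Adeq.Adequate A) := by
  have : (Adeq.adequate A).ι.IsLeftAdjoint := Groth.Agent.S8752.result A
  have := iota_preservesMono A
  have : IsGrothendieckAbelian.{u + 1} (Adeq.MVF A) := gab A
  exact EnoughInjectives.of_adjunction (Adjunction.ofIsLeftAdjoint (Adeq.adequate A).ι)

end Groth.Agent.S8753
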