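import Groth.Statements.S8754
import Mathlib

set_option autoImplicit false
universe u
open CategoryTheory Limits
open Adeq

namespace Groth.Agent.S8754

section General
variable {C : Type (u+1)} [Category.{u} C] (R : Cᵒᵖ ⥤ RingCat.{u})

/-- transition maps of the free presheaf on the representable presheaf -/
noncomputable def tr (X : C) {Y Z : Cᵒᵖ} (f : Y ⟶ Z) :
    (ULift.{u+1} (Y.unop ⟶ X) →₀ R.obj Y) →+ (ULift.{u+1} (Z.unop ⟶ X) →₀ R.obj Z) :=
  (Finsupp.mapDomain.addMonoidHom (fun g => ULift.up (f.unop ≫ g.down))).comp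
    (Finsupp.mapRange.addMonoidHom (R.map f).hom.toAddMonoidHom)

lemma tr_single (X : C) {Y Z : Cᵒᵖ} (f : Y ⟶ Z) (g : ULift.{u+1} (Y.unop ⟶ X)) (r : R.obj Y) :
    tr R X f (Finsupp.single g r) = Finsupp.single (ULift.up (f.unop ≫ g.down)) (R.map f r) := by
  simp [tr]

/-- underlying abelian presheaf -/
noncomputable def Ppre (X : C) : Cᵒᵖ ⥤ Ab.{u+1} where
  obj Y := AddCommGrpCat.of (ULift.{u+1} (Y.unop ⟶ X) →₀ R.obj Y)
  map f := AddCommGrpCat.ofHom (tr R X f)
  map_id Y := by
    ext : 1
    refine Finsupp.addHom_ext fun g r => ?_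
    simp [tr_single]
  map_comp f g := by
    ext : 1
    refine Finsupp.addHom_ext fun h r => ?_
    simp [tr_single]

noncomputable instance (X : C) (Y : Cᵒᵖ) : Module (R.obj Y) ((Ppre R X).obj Y) :=
  inferInstanceAs (Module (R.obj Y) (ULift.{u+1} (Y.unop ⟶ X) →₀ R.obj Y))

lemma tr_smul (X : C) {Y Z : Cᵒᵖ} (f : Y ⟶ Z) (r : R.obj Y)
    (m : ULift.{u+1} (Y.unop ⟶ X) →₀ R.obj Y) :
    tr R X f (r • m) = (R.map f r) • tr R X f m := by
  induction m using Finsupp.induction_linear with
  | zero => simp
  | add a b ha hb => simp [smul_add, ha, hb]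
  | single g s =>
    rw [Finsupp.smul_single, tr_single, tr_single, Finsupp.smul_single, smul_eq_mul, smul_eq_mul,
      map_mul]

/-- The free presheaf of modules on the representable presheaf of `X`. -/
noncomputable def P (X : C) : PresheafOfModules.{u+1} R :=
  PresheafOfModules.ofPresheaf (Ppre R X) (fun _ _ f r m => tr_smul R X f r m)

variable {R}

/-- the linear map `P_X(Y) → M(Y)` attached to a section `m ∈ M(X)` -/
noncomputable def evLin (M : PresheafOfModules.{u+1} R) (X : C) (m : M.obj (Opposite.op X))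
    (Y : Cᵒᵖ) : (ULift.{u+1} (Y.unop ⟶ X) →₀ R.obj Y) →ₗ[R.obj Y] M.obj Y :=
  Finsupp.linearCombination (R.obj Y)
    (fun h => (M.map (h.down.op : Opposite.op X ⟶ Y) m : M.obj Y))

lemma evLin_single (M : PresheafOfModules.{u+1} R) (X : C) (m : M.obj (Opposite.op X))
    (Y : Cᵒᵖ) (h : ULift.{u+1} (Y.unop ⟶ X)) (r : R.obj Y) :
    evLin M X m Y (Finsupp.single h r) = r • (M.map (h.down.op : Opposite.op X ⟶ Y) m : M.obj Y) := by
  exact Finsupp.linearCombination_single _ _ _

/-- the morphism `P_X ⟶ M` attached to a section `m ∈ M(X)` -/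
noncomputable def evHom (M : PresheafOfModules.{u+1} R) (X : C) (m : M.obj (Opposite.op X)) :
    P R X ⟶ M :=
  PresheafOfModules.homMk (M₁ := P R X) (M₂ := M)
    { app := fun Y => AddCommGrpCat.ofHom (evLin M X m Y).toAddMonoidHom
      naturality := fun Y Z f => by
        ext : 1
        refine Finsupp.addHom_ext fun h r => ?_
        change evLin M X m Z (tr R X f (Finsupp.single h r)) =
          M.map f (evLin M X m Y (Finsupp.single h r))
        rw [tr_single]
        refine (evLin_single M X m Z _ _).trans ?_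
        refine Eq.trans ?_ (congrArg (fun z => M.map f z) (evLin_single M X m Y h r)).symm
        refine Eq.trans ?_ (M.map_smul f r _).symm
        exact congrArg (fun z : M.obj Z => R.map f r • z)
          (M.map_comp_apply (h.down.op : Opposite.op X ⟶ Y) f m) }
    (fun Y r x => (evLin M X m Y).map_smul r x)

lemma evHom_app_one (M : PresheafOfModules.{u+1} R) (X : C) (m : M.obj (Opposite.op X)) :
    (evHom M X m).app (Opposite.op X)
      (Finsupp.single (ULift.up (𝟙 X)) 1 : ULift.{u+1} (X ⟶ X) →₀ R.obj (Opposite.op X)) = m := by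
  change evLin M X m (Opposite.op X) (Finsupp.single (ULift.up (𝟙 X)) 1) = m
  refine (evLin_single M X m (Opposite.op X) _ _).trans ?_
  refine (one_smul _ _).trans ?_
  change M.map (𝟙 (Opposite.op X)) m = m
  rw [M.map_id]
  rfl

variable (R)

lemma isSeparating_P : ObjectProperty.IsSeparating (ObjectProperty.ofObj (P R)) := by
  intro M N f₁ f₂ h
  ext ⟨X⟩ m
  have := h (P R X) ⟨X⟩ (evHom M X m)
  have h2 : f₁.app (Opposite.op X) ((evHom M X m).app (Opposite.op X)
      (Finsupp.single (ULift.up (𝟙 X)) 1 : ULift.{u+1} (X ⟶ X) →₀ R.obj (Opposite.op X))) =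
      f₂.app (Opposite.op X) ((evHom M X m).app (Opposite.op X)
      (Finsupp.single (ULift.up (𝟙 X)) 1 : ULift.{u+1} (X ⟶ X) →₀ R.obj (Opposite.op X))) :=
    congrArg (fun φ => φ.app (Opposite.op X)
      (Finsupp.single (ULift.up (𝟙 X)) 1 : ULift.{u+1} (X ⟶ X) →₀ R.obj (Opposite.op X))) this
  rw [evHom_app_one] at h2
  exact h2

theorem enoughInjectives_presheafOfModules : EnoughInjectives (PresheafOfModules.{u+1} R) := by
  have hsep : HasSeparator (PresheafOfModules.{u+1} R) :=
    ⟨_, (isSeparating_P R).isSeparator_coproduct⟩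
  have hrefl : (PresheafOfModules.toPresheaf R).ReflectsIsomorphisms := inferInstance
  have hab5 : AB5OfSize.{u+1, u+1} (PresheafOfModules.{u+1} R) :=
    ⟨fun J _ _ => HasExactColimitsOfShape.domain_of_functor J (PresheafOfModules.toPresheaf R)⟩
  have : IsGrothendieckAbelian.{u+1} (PresheafOfModules.{u+1} R) := {}
  infer_instance

end General


/-- The category of module-valued functors on `A`-algebras has enough injectives (it is a category of
presheaves of modules). -/
theorem result (A : Type u) [CommRing A] : EnoughInjectives (Adeq.MVF A) := by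
  exact enoughInjectives_presheafOfModules (Adeq.ringOf A)

end Groth.Agent.S8754
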