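import Groth.Statements.S8760
import Mathlib
import Groth.Agent.Lib.Helper92.Adeq2Sheafify
-- import your own Groth.Agent.* helpers here

set_option autoImplicit false
universe u
open CategoryTheory Limits AlgebraicGeometry
open Adeq

namespace Groth.Agent.S8760

/-- Let `P` be a presheaf of `O`-modules on the big fppf site of `S`. If for every affine scheme `Spec
R` over `S` the module-valued functor `B ↦ P(Spec B)` on `R`-algebras is adequate, then the
sheafification of `P` is an adequate `O`-module. -/
theorem result (S : Scheme.{u})
    (P : PresheafOfModules.{u + 1} (BigSite.ORing Scheme.fppfPrecoverage S).obj)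
    (h : ∀ (R : CommRingCat.{u}) (a : Spec R ⟶ S), Adeq.adequate R ((Adeq.toMVFPre Scheme.fppfPrecoverage a).obj P)) :
    Adeq.adequateMod Scheme.fppfPrecoverage S
      ((PresheafOfModules.sheafification (𝟙 (BigSite.ORing Scheme.fppfPrecoverage S).obj)).obj P) := by
  refine Groth.Agent.Lib.Helper92.Adeq2Sheafify.sheafify_adequate P _
    (CategoryTheory.toSheafify (QuotSh.J Scheme.fppfPrecoverage S) P.presheaf) ?_ ?_ ?_ h
  · intro X r x y hy
    subst hy
    exact ((PresheafOfModules.toSheafify (𝟙 (BigSite.ORing Scheme.fppfPrecoverage S).obj)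
      (CategoryTheory.toSheafify (QuotSh.J Scheme.fppfPrecoverage S) P.presheaf)).app
        X).hom.map_smul r x
  · intro U x hx
    refine ⟨Presheaf.equalizerSieve (F := P.presheaf) x 0, ?_, fun V f hf => ?_⟩
    · refine Presheaf.equalizerSieve_mem _
        (CategoryTheory.toSheafify (QuotSh.J Scheme.fppfPrecoverage S) P.presheaf) x 0 ?_
      exact hx.trans (map_zero _).symm
    · exact hf.trans (map_zero _)
  · intro U y
    have hS : Presheaf.IsLocallySurjective (QuotSh.J Scheme.fppfPrecoverage S)
        (CategoryTheory.toSheafify (QuotSh.J Scheme.fppfPrecoverage S) P.presheaf) :=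
      inferInstance
    exact ⟨Presheaf.imageSieve
      (CategoryTheory.toSheafify (QuotSh.J Scheme.fppfPrecoverage S) P.presheaf) y,
      hS.imageSieve_mem y, fun V f hf => hf⟩

end Groth.Agent.S8760
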