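import Groth.Statements.S8762
import Mathlib
import Groth.Agent.Lib.Helper92.Adeq2Coker
import Groth.Agent.S8760
-- import your own Groth.Agent.* helpers here

set_option autoImplicit false
universe u
open CategoryTheory Limits AlgebraicGeometry
open Adeq

namespace Groth.Agent.S8762

/-- The cokernel, in the category of all `O`-modules on the big fppf site of `S`, of a morphism between
adequate `O`-modules is adequate. -/
theorem result (S : Scheme.{u}) {M N : BigSite.Mod Scheme.fppfPrecoverage S} (φ : M ⟶ N)
    (hM : Adeq.adequateMod Scheme.fppfPrecoverage S M) (hN : Adeq.adequateMod Scheme.fppfPrecoverage S N) :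
    Adeq.adequateMod Scheme.fppfPrecoverage S (cokernel φ) := by
  have hP := Groth.Agent.Lib.Helper92.Adeq2Coker.pre_cokernel_adequate S φ hM hN
  have h1 := Groth.Agent.S8760.result S _ hP
  obtain ⟨e⟩ := Groth.Agent.Lib.Helper92.Adeq2Coker.nonempty_iso_cokernel_adj
    (PresheafOfModules.sheafificationAdjunction
      (𝟙 (BigSite.ORing Scheme.fppfPrecoverage S).obj)) φ
  exact (Adeq.adequateMod Scheme.fppfPrecoverage S).prop_of_iso e h1

end Groth.Agent.S8762
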