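import Groth.Statements.S8780
import Groth.Agent.Lib.Helper92.MVFFree
import Mathlib
-- import your own Groth.Agent.* helpers here

set_option autoImplicit false
universe u
open CategoryTheory Limits
open AdeqTF

namespace Groth.Agent.S8780

open Groth.Agent.Lib.Helper92.MVFFree

/-- Take `I` injective in the category of module-valued functors on `A`-algebras. For every `A`-algebra
`B` and every short exact sequence `0 → N₁ → N → N₂ → 0` of `B`-modules, the induced map of tangent
modules `TI(B, N) → TI(B, N₂)` is surjective (`TI(B, N)` is the kernel of `I(B[N]) → I(B)`, `B[N]`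
the trivial square-zero extension). (The published statement asserts that `TI(B, N₁) → TI(B, N) →
TI(B, N₂) → 0` is exact; exactness at the middle term is false: for `A = B = ℚ`, the split sequence
`0 → ℚ → ℚ² → ℚ → 0` and the injective functor `D ↦ Map(Hom(D, ℚ[ε]/(ε²)), E)` with `E` an injective
hull of `ℚ[ε]/(ε²)`, the indicator function of the first coordinate form lies in the kernel of
`TI(B, ℚ²) → TI(B, ℚ)` and not in the image of `TI(B, ℚ) → TI(B, ℚ²)`. This row keeps the
surjectivity, which the published argument does establish.) -/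
theorem result (A : Type u) [CommRing A] (I : Adeq.MVF A) [Injective I]
    (B : Adeq.Alg A) (S : ShortComplex (ModuleCat.{u} B)) (hS : S.ShortExact) :
    Function.Surjective (AdeqTF.tangentMap B I S.g) := by
  intro t₂
  have hsurj : Function.Surjective S.g.hom := (ModuleCat.epi_iff_surjective _).mp hS.epi_g
  have hq : ∀ (B' : Adeq.Alg A) (φ₁ φ₂ : AdeqTF.ext B S.X₃ ⟶ B'),
      AdeqTF.map B S.g ≫ φ₁ = AdeqTF.map B S.g ≫ φ₂ → φ₁ = φ₂ := by
    intro B' φ₁ φ₂ h
    apply CommAlgCat.hom_ext
    refine AlgHom.ext fun y => ?_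
    obtain ⟨n, hn⟩ := hsurj (TrivSqZeroExt.snd y)
    have hx : TrivSqZeroExt.map S.g.hom
        (TrivSqZeroExt.inl (TrivSqZeroExt.fst y) + TrivSqZeroExt.inr n :
          TrivSqZeroExt (B : Type u) S.X₂) = y := by
      apply TrivSqZeroExt.ext
      · simp [TrivSqZeroExt.fst_map]
      · simp [TrivSqZeroExt.snd_map, hn]
    have h' := congrArg (fun ψ => ψ.hom
      (TrivSqZeroExt.inl (TrivSqZeroExt.fst y) + TrivSqZeroExt.inr n :
          TrivSqZeroExt (B : Type u) S.X₂)) h
    rw [← hx]
    exact h'
  obtain ⟨m, hm⟩ := surjective_of_injective I (AdeqTF.map B S.g) hq t₂.1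
  have hmem : I.map (Adeq.ptHom (AdeqTF.fst B S.X₂)) m = 0 := by
    have e : Adeq.ptHom (AdeqTF.map B S.g) ≫ Adeq.ptHom (AdeqTF.fst B S.X₃) =
        Adeq.ptHom (AdeqTF.fst B S.X₂) :=
      congrArg Adeq.ptHom (AdeqTF.map_fst B S.g)
    rw [← I.congr_map_apply e, I.map_comp_apply, hm]
    exact t₂.2
  exact ⟨⟨m, hmem⟩, Subtype.ext hm⟩

end Groth.Agent.S8780
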