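import Groth.Statements.S8781
import Groth.Agent.Lib.Helper92.AdeqTFCol
import Mathlib
-- import your own Groth.Agent.* helpers here

set_option autoImplicit false
universe u
open CategoryTheory Limits
open AdeqTF

namespace Groth.Agent.S8781

open Groth.Agent.Lib.Helper92.AdeqTFCol

/-- Say a module-valued functor `F` on `A`-algebras has right exact tangent functors if for every
`A`-algebra `B` and every short exact sequence `0 → N₁ → N → N₂ → 0` of `B`-modules the sequence
`TF(B, N₁) → TF(B, N) → TF(B, N₂) → 0` is exact. If `0 → F → G → H → 0` is a short exact sequence of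
module-valued functors and `F`, `G` have right exact tangent functors, so does `H`. -/
theorem result (A : Type u) [CommRing A] (C : ShortComplex (Adeq.MVF A))
    (hC : C.ShortExact)
    (h₁ : (∀ (B : Adeq.Alg A) (S : ShortComplex (ModuleCat.{u} B)), S.ShortExact →
        Function.Surjective (AdeqTF.tangentMap B C.X₁ S.g) ∧
          (AdeqTF.tangentMap B C.X₁ S.g).ker = (AdeqTF.tangentMap B C.X₁ S.f).range))
    (h₂ : (∀ (B : Adeq.Alg A) (S : ShortComplex (ModuleCat.{u} B)), S.ShortExact →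
        Function.Surjective (AdeqTF.tangentMap B C.X₂ S.g) ∧
          (AdeqTF.tangentMap B C.X₂ S.g).ker = (AdeqTF.tangentMap B C.X₂ S.f).range)) :
    (∀ (B : Adeq.Alg A) (S : ShortComplex (ModuleCat.{u} B)), S.ShortExact →
        Function.Surjective (AdeqTF.tangentMap B C.X₃ S.g) ∧
          (AdeqTF.tangentMap B C.X₃ S.g).ker = (AdeqTF.tangentMap B C.X₃ S.f).range) := by
  intro B S hS
  have hcomp : ∀ (Fn : Adeq.MVF A) (y : AdeqTF.tangent B S.X₁ Fn),
      AdeqTF.tangentMap B Fn S.g (AdeqTF.tangentMap B Fn S.f y) = 0 := by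
    intro Fn y
    rw [← Groth.Agent.Lib.Helper44.tangentMap_comp, S.zero, Groth.Agent.Lib.Helper44.tangentMap_zero]
  refine ⟨?_, ?_⟩
  · intro y₂
    obtain ⟨g₂, hg₂⟩ := colMap_g_surjective B C hC S.X₃ y₂
    obtain ⟨g, hg⟩ := (h₂ B S hS).1 g₂
    refine ⟨colMap B C.g S.X₂ g, ?_⟩
    rw [← colMap_tangentMap, hg, hg₂]
  · ext y
    rw [AddMonoidHom.mem_ker, AddMonoidHom.mem_range]
    constructor
    · intro hy
      obtain ⟨g, hg⟩ := colMap_g_surjective B C hC S.X₂ y
      have hπ : colMap B C.g S.X₃ (AdeqTF.tangentMap B C.X₂ S.g g) = 0 := by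
        rw [colMap_tangentMap, hg, hy]
      obtain ⟨f₂, hf₂⟩ := colMap_exact B C hC S.X₃ _ hπ
      obtain ⟨f, hf⟩ := (h₁ B S hS).1 f₂
      have hker : g - colMap B C.f S.X₂ f ∈ (AdeqTF.tangentMap B C.X₂ S.g).ker := by
        rw [AddMonoidHom.mem_ker, map_sub, ← colMap_tangentMap, hf, hf₂, sub_self]
      rw [(h₂ B S hS).2, AddMonoidHom.mem_range] at hker
      obtain ⟨g₁, hg₁⟩ := hker
      refine ⟨colMap B C.g S.X₁ g₁, ?_⟩
      rw [← colMap_tangentMap, hg₁, map_sub, colMap_comp_zero, sub_zero, hg]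
    · rintro ⟨y₁, rfl⟩
      exact hcomp _ y₁

end Groth.Agent.S8781
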