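import Groth.Statements.S8782
import Groth.Agent.Lib.Helper92.AdeqTFCol
import Mathlib
-- import your own Groth.Agent.* helpers here

set_option autoImplicit false
universe u
open CategoryTheory Limits
open AdeqTF

namespace Groth.Agent.S8782

open Groth.Agent.Lib.Helper92.AdeqTFCol

/-- If `0 → F → G → H → 0` is a short exact sequence of module-valued functors on `A`-algebras and `F`,
`H` have right exact tangent functors (for every `A`-algebra `B` and short exact `0 → N₁ → N → N₂ →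
0` of `B`-modules, `T(B, N₁) → T(B, N) → T(B, N₂) → 0` is exact), so does `G`. -/
theorem result (A : Type u) [CommRing A] (C : ShortComplex (Adeq.MVF A))
    (hC : C.ShortExact)
    (h₁ : (∀ (B : Adeq.Alg A) (S : ShortComplex (ModuleCat.{u} B)), S.ShortExact →
        Function.Surjective (AdeqTF.tangentMap B C.X₁ S.g) ∧
          (AdeqTF.tangentMap B C.X₁ S.g).ker = (AdeqTF.tangentMap B C.X₁ S.f).range))
    (h₃ : (∀ (B : Adeq.Alg A) (S : ShortComplex (ModuleCat.{u} B)), S.ShortExact →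
        Function.Surjective (AdeqTF.tangentMap B C.X₃ S.g) ∧
          (AdeqTF.tangentMap B C.X₃ S.g).ker = (AdeqTF.tangentMap B C.X₃ S.f).range)) :
    (∀ (B : Adeq.Alg A) (S : ShortComplex (ModuleCat.{u} B)), S.ShortExact →
        Function.Surjective (AdeqTF.tangentMap B C.X₂ S.g) ∧
          (AdeqTF.tangentMap B C.X₂ S.g).ker = (AdeqTF.tangentMap B C.X₂ S.f).range) := by
  intro B S hS
  have hcomp : ∀ (Fn : Adeq.MVF A) (y : AdeqTF.tangent B S.X₁ Fn),
      AdeqTF.tangentMap B Fn S.g (AdeqTF.tangentMap B Fn S.f y) = 0 := by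
    intro Fn y
    rw [← Groth.Agent.Lib.Helper44.tangentMap_comp, S.zero, Groth.Agent.Lib.Helper44.tangentMap_zero]
  refine ⟨?_, ?_⟩
  · intro g₂
    obtain ⟨h, hh⟩ := (h₃ B S hS).1 (colMap B C.g S.X₃ g₂)
    obtain ⟨g, hg⟩ := colMap_g_surjective B C hC S.X₂ h
    have hπ : colMap B C.g S.X₃ (g₂ - AdeqTF.tangentMap B C.X₂ S.g g) = 0 := by
      rw [map_sub, colMap_tangentMap, hg, hh, sub_self]
    obtain ⟨f₂, hf₂⟩ := colMap_exact B C hC S.X₃ _ hπ
    obtain ⟨f, hf⟩ := (h₁ B S hS).1 f₂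
    refine ⟨g + colMap B C.f S.X₂ f, ?_⟩
    rw [map_add, ← colMap_tangentMap, hf, hf₂]
    abel
  · ext g
    rw [AddMonoidHom.mem_ker, AddMonoidHom.mem_range]
    constructor
    · intro hg
      have hπg : colMap B C.g S.X₂ g ∈ (AdeqTF.tangentMap B C.X₃ S.g).ker := by
        rw [AddMonoidHom.mem_ker, ← colMap_tangentMap, hg, map_zero]
      rw [(h₃ B S hS).2, AddMonoidHom.mem_range] at hπg
      obtain ⟨y₁, hy₁⟩ := hπg
      obtain ⟨g₁, hg₁⟩ := colMap_g_surjective B C hC S.X₁ y₁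
      have hπ : colMap B C.g S.X₂ (g - AdeqTF.tangentMap B C.X₂ S.f g₁) = 0 := by
        rw [map_sub, colMap_tangentMap, hg₁, hy₁, sub_self]
      obtain ⟨f, hf⟩ := colMap_exact B C hC S.X₂ _ hπ
      have hιf : colMap B C.f S.X₃ (AdeqTF.tangentMap B C.X₁ S.g f) = colMap B C.f S.X₃ 0 := by
        rw [colMap_tangentMap, hf, map_sub, hg, hcomp, sub_zero, map_zero]
      have hf0 : f ∈ (AdeqTF.tangentMap B C.X₁ S.g).ker := by
        rw [AddMonoidHom.mem_ker]
        exact colMap_f_injective B C hC S.X₃ hιf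
      rw [(h₁ B S hS).2, AddMonoidHom.mem_range] at hf0
      obtain ⟨f₁, hf₁⟩ := hf0
      refine ⟨g₁ + colMap B C.f S.X₁ f₁, ?_⟩
      rw [map_add, ← colMap_tangentMap, hf₁, hf]
      abel
    · rintro ⟨y₁, rfl⟩
      exact hcomp _ y₁

end Groth.Agent.S8782
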