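import Groth.Statements.S8783
import Groth.Agent.Lib.Helper44.AdeqTF

set_option autoImplicit false
universe u
open CategoryTheory Limits
open AdeqTF

namespace Groth.Agent.S8783

/-- Let `F` be a module-valued functor on `A`-algebras with right exact tangent functors (for every
`A`-algebra `B` and short exact `0 → N₁ → N → N₂ → 0` of `B`-modules, `TF(B, N₁) → TF(B, N) → TF(B,
N₂) → 0` is exact). Then `TF(B, N₁ ⊕ N₂) = TF(B, N₁) ⊕ TF(B, N₂)`: the map from the product induced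
by the two inclusions is bijective. -/
theorem result (A : Type u) [CommRing A] (F : Adeq.MVF A)
    (hF : (∀ (B : Adeq.Alg A) (S : ShortComplex (ModuleCat.{u} B)), S.ShortExact →
        Function.Surjective (AdeqTF.tangentMap B F S.g) ∧
          (AdeqTF.tangentMap B F S.g).ker = (AdeqTF.tangentMap B F S.f).range))
    (B : Adeq.Alg A) (N₁ N₂ : ModuleCat.{u} B) :
    Function.Bijective ((AdeqTF.tangentMap B F (biprod.inl : N₁ ⟶ N₁ ⊞ N₂)).coprod
      (AdeqTF.tangentMap B F (biprod.inr : N₂ ⟶ N₁ ⊞ N₂))) := by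
  open Groth.Agent.Lib.Helper44 in
  have hT0 : ∀ (N N' : ModuleCat.{u} B) (x : AdeqTF.tangent B N F),
      AdeqTF.tangentMap B F (0 : N ⟶ N') x = 0 := tangentMap_zero B F
  have hfst_inl : ∀ x : AdeqTF.tangent B N₁ F,
      AdeqTF.tangentMap B F (biprod.fst : N₁ ⊞ N₂ ⟶ N₁)
        (AdeqTF.tangentMap B F (biprod.inl : N₁ ⟶ N₁ ⊞ N₂) x) = x := by
    intro x
    rw [← tangentMap_comp, biprod.inl_fst, tangentMap_id]
  have hfst_inr : ∀ x : AdeqTF.tangent B N₂ F,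
      AdeqTF.tangentMap B F (biprod.fst : N₁ ⊞ N₂ ⟶ N₁)
        (AdeqTF.tangentMap B F (biprod.inr : N₂ ⟶ N₁ ⊞ N₂) x) = 0 := by
    intro x
    rw [← tangentMap_comp, biprod.inr_fst, hT0]
  have hsnd_inl : ∀ x : AdeqTF.tangent B N₁ F,
      AdeqTF.tangentMap B F (biprod.snd : N₁ ⊞ N₂ ⟶ N₂)
        (AdeqTF.tangentMap B F (biprod.inl : N₁ ⟶ N₁ ⊞ N₂) x) = 0 := by
    intro x
    rw [← tangentMap_comp, biprod.inl_snd, hT0]
  have hsnd_inr : ∀ x : AdeqTF.tangent B N₂ F,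
      AdeqTF.tangentMap B F (biprod.snd : N₁ ⊞ N₂ ⟶ N₂)
        (AdeqTF.tangentMap B F (biprod.inr : N₂ ⟶ N₁ ⊞ N₂) x) = x := by
    intro x
    rw [← tangentMap_comp, biprod.inr_snd, tangentMap_id]
  constructor
  · -- injectivity
    rw [injective_iff_map_eq_zero]
    rintro ⟨x₁, x₂⟩ hx
    rw [AddMonoidHom.coprod_apply] at hx
    have h1 := congrArg (AdeqTF.tangentMap B F (biprod.fst : N₁ ⊞ N₂ ⟶ N₁)) hx
    have h2 := congrArg (AdeqTF.tangentMap B F (biprod.snd : N₁ ⊞ N₂ ⟶ N₂)) hx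
    rw [map_add, hfst_inl, hfst_inr, add_zero, map_zero] at h1
    rw [map_add, hsnd_inl, hsnd_inr, zero_add, map_zero] at h2
    exact Prod.ext h1 h2
  · -- surjectivity
    intro y
    have hS : (ShortComplex.mk (biprod.inl : N₁ ⟶ N₁ ⊞ N₂) (biprod.snd : N₁ ⊞ N₂ ⟶ N₂)
        (by simp)).ShortExact := (ShortComplex.Splitting.ofHasBinaryBiproduct N₁ N₂).shortExact
    obtain ⟨-, hker⟩ := hF B _ hS
    set x₂ := AdeqTF.tangentMap B F (biprod.snd : N₁ ⊞ N₂ ⟶ N₂) y with hx₂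
    have hmem : y - AdeqTF.tangentMap B F (biprod.inr : N₂ ⟶ N₁ ⊞ N₂) x₂ ∈
        (AdeqTF.tangentMap B F (biprod.snd : N₁ ⊞ N₂ ⟶ N₂)).ker := by
      rw [AddMonoidHom.mem_ker, map_sub, hsnd_inr, hx₂, sub_self]
    have hmem' : y - AdeqTF.tangentMap B F (biprod.inr : N₂ ⟶ N₁ ⊞ N₂) x₂ ∈
        (AdeqTF.tangentMap B F (biprod.inl : N₁ ⟶ N₁ ⊞ N₂)).range := by
      have := hker
      dsimp only at this
      rw [← this]
      exact hmem
    obtain ⟨x₁, hx₁⟩ := hmem'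
    refine ⟨(x₁, x₂), ?_⟩
    rw [AddMonoidHom.coprod_apply]
    change AdeqTF.tangentMap B F biprod.inl x₁ + AdeqTF.tangentMap B F biprod.inr x₂ = y
    rw [hx₁]
    abel

end Groth.Agent.S8783
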