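import Groth.Statements.S8801
import Groth.Agent.Lib.Helper90.PairHzNoeth
import Groth.Agent.Lib.Helper90.PairHzComp
import Groth.Agent.Lib.Helper90.PairHzHfp
import Groth.Agent.Lib.Helper9.AdicComplEquiv
-- import your own Groth.Agent.* helpers here

set_option autoImplicit false
universe u
open AdicRing

namespace Groth.Agent.S8801

open Groth.Agent.Lib.Helper90 in

/-- Let A be a Noetherian ring and I an ideal. Let C be an A-algebra of finite type and Cʰ a
henselization of the pair (C, IC), viewed as an A-algebra through C, and let J be an ideal of Cʰ.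
Then there is an A-algebra B of finite type whose IB-adic completion is isomorphic as an A-algebra
to the I(Cʰ/J)-adic completion of Cʰ/J (existence of an isomorphism only; the published statement
names no particular map). -/
theorem result (A : Type u) [CommRing A] [IsNoetherianRing A] (I : Ideal A) (C : Type u) [CommRing C] [Algebra A C] [Algebra.FiniteType A C] (Ch : Type u) [CommRing Ch] [Algebra C Ch] [Algebra A Ch] [IsScalarTower A C Ch] (hCh : Hens2.IsPairHenselization C (I.map (algebraMap A C)) Ch) (J : Ideal Ch) : ∃ (B : Type u) (_ : CommRing B) (_ : Algebra A B), Algebra.FiniteType A B ∧ Nonempty (AdicCompletion (I.map (algebraMap A B)) B ≃ₐ[A] AdicCompletion (I.map (algebraMap A (Ch ⧸ J))) (Ch ⧸ J)) := by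
  classical
  have hCN : IsNoetherianRing C := Algebra.FiniteType.isNoetherianRing A C
  have hChN : IsNoetherianRing Ch := PairHz.isNoetherianRing_of_isPairHenselization _ hCh
  obtain ⟨s, hs⟩ : J.FG := (isNoetherianRing_iff_ideal_fg Ch).mp hChN J
  obtain ⟨C', _, _, hC', g, hg⟩ := PairHz.exists_good_range_of_isPairHenselization _ hCh s
  let _ : Algebra C' Ch := g.toRingHom.toAlgebra
  have hgalg : ∀ c : C', algebraMap C' Ch c = g c := fun c => rfl
  have : IsScalarTower C C' Ch := IsScalarTower.of_algebraMap_eq (fun x => (g.commutes x).symm)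
  have h3 := PairHz.isPairHenselization_over_good _ hCh hC'
  choose! pre hpre using hg
  obtain ⟨K, hKdef⟩ : ∃ K : Ideal C', K = Ideal.span (pre '' (s : Set Ch)) := ⟨_, rfl⟩
  have hKJ : K.map (algebraMap C' Ch) = J := by
    rw [hKdef, Ideal.map_span, ← hs]
    congr 1
    ext z
    constructor
    · rintro ⟨_, ⟨w, hw, rfl⟩, rfl⟩
      rw [hgalg, hpre w hw]
      exact hw
    · intro hz
      exact ⟨pre z, ⟨z, hz, rfl⟩, by rw [hgalg, hpre z hz]⟩
  subst hKJ
  have h5 := PairHz.isPairHenselization_quotient _ h3 K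
  let _ : Algebra A C' := ((algebraMap C C').comp (algebraMap A C)).toAlgebra
  have : IsScalarTower A C C' := IsScalarTower.of_algebraMap_eq (fun _ => rfl)
  have : IsScalarTower A C' Ch := IsScalarTower.of_algebraMap_eq (fun a => by
    change algebraMap A Ch a = algebraMap C' Ch (algebraMap C C' (algebraMap A C a))
    rw [← IsScalarTower.algebraMap_apply C C' Ch, ← IsScalarTower.algebraMap_apply A C Ch])
  have : Algebra.Etale C C' := hC'.1
  have : Algebra.FiniteType A C' := Algebra.FiniteType.trans (S := C) inferInstance inferInstance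
  refine ⟨C' ⧸ K, inferInstance, inferInstance, inferInstance, ?_⟩
  let Φ : (C' ⧸ K) →ₐ[A] (Ch ⧸ K.map (algebraMap C' Ch)) :=
    Ideal.quotientMapₐ (K.map (algebraMap C' Ch)) (IsScalarTower.toAlgHom A C' Ch)
      Ideal.le_comap_map
  have hΦ : ∀ x, Φ x = algebraMap (C' ⧸ K) (Ch ⧸ K.map (algebraMap C' Ch)) x := by
    intro x
    obtain ⟨c, rfl⟩ := Ideal.Quotient.mk_surjective x
    rfl
  have hid : ((I.map (algebraMap A C)).map (algebraMap C C')).map (Ideal.Quotient.mk K) =
      I.map (algebraMap A (C' ⧸ K)) := by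
    rw [Ideal.map_map, Ideal.map_map]
    rfl
  rw [hid] at h5
  have hpowmap : ∀ n : ℕ, ((I.map (algebraMap A (C' ⧸ K))) ^ n).map
      (algebraMap (C' ⧸ K) (Ch ⧸ K.map (algebraMap C' Ch))) =
      (I.map (algebraMap A (Ch ⧸ K.map (algebraMap C' Ch)))) ^ n := by
    intro n
    rw [Ideal.map_pow, Ideal.map_map]
    congr 2
    refine RingHom.ext fun a => ?_
    rw [RingHom.comp_apply, ← hΦ, AlgHom.commutes]
  refine Groth.Agent.Lib.Helper9.AdicComplEquiv.exists_algEquiv _ _ Φ ?_ ?_ ?_
  · intro x hx
    rw [Ideal.mem_comap, hΦ]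
    have := hpowmap 1
    rw [pow_one, pow_one] at this
    rw [← this]
    exact Ideal.mem_map_of_mem _ hx
  · intro n b hb
    have hq := PairHz.quotBij_pow_of_isPairHenselization _ h5 n
    apply hq.inj b
    rw [hpowmap, ← hΦ]
    exact hb
  · intro n z
    have hq := PairHz.quotBij_pow_of_isPairHenselization _ h5 n
    obtain ⟨b, hb⟩ := hq.surj z
    refine ⟨b, ?_⟩
    rw [hpowmap, ← hΦ] at hb
    exact hb

end Groth.Agent.S8801
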