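import Groth.Statements.S8803
import Groth.Agent.Lib.Helper44.ARSysBasic
import Groth.Agent.Lib.Helper41.LCArtinian
-- import your own Groth.Agent.* helpers here

set_option autoImplicit false
universe u
open CategoryTheory
open LocCoh

namespace Groth.Agent.S8803

/-- Let (A, m) be a Noetherian local ring and (M_n) an inverse system of finite A-modules. Then for
every i the inverse system H^i_m(M_n) of local cohomology modules satisfies the Mittag-Leffler
condition. -/
theorem result (A : Type u) [CommRing A] [IsNoetherianRing A] [IsLocalRing A] (Msys : ℕᵒᵖ ⥤ ModuleCat.{u} A) (hfin : ∀ n : ℕᵒᵖ, Module.Finite A (Msys.obj n)) (i : ℕ) : ARSys.IsML (Msys ⋙ localCohomology (IsLocalRing.maximalIdeal A) i) := by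
  intro n
  set X := Msys ⋙ localCohomology (IsLocalRing.maximalIdeal A) i with hX
  have hfin := hfin (Opposite.op n)
  have hArt : IsArtinian A (X.obj (Opposite.op n)) :=
    Groth.Agent.Lib.Helper41.LC.isArtinian_maximalIdeal i (Msys.obj (Opposite.op n))
  have hwf : WellFoundedLT (CategoryTheory.Subobject (X.obj (Opposite.op n))) :=
    (ModuleCat.subobjectModule (X.obj (Opposite.op n))).toOrderEmbedding.wellFoundedLT
  let a : ℕ →o (CategoryTheory.Subobject (X.obj (Opposite.op n)))ᵒᵈ :=
    ⟨fun s => OrderDual.toDual (CategoryTheory.Limits.imageSubobject (ARSys.shiftMap X s n)), by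
      intro s s' hss'
      exact Groth.Agent.Lib.Helper44.image_tr_le X (Nat.le_add_right n s)
        (Nat.add_le_add_left hss' n)⟩
  obtain ⟨r, hr⟩ := (wellFoundedGT_iff_monotone_chain_condition.mp inferInstance) a
  exact ⟨r, fun s hs => (congrArg OrderDual.ofDual (hr s hs)).symm⟩

end Groth.Agent.S8803
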