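import Groth.Statements.S8806
import Groth.Agent.Lib.Helper26.JacC

set_option autoImplicit false
universe u
open CategoryTheory
attribute [local instance] HasDerivedCategory.standard
open LCI

namespace Groth.Agent.S8806

/-- Let A be a ring, m ≤ n, f_1, …, f_m ∈ A[x_1, …, x_n], B = A[x_1, …, x_n]/(f_1, …, f_m), and g ∈ B
the image of the determinant of the m × m matrix of partial derivatives ∂f_j/∂x_i with i, j ≤ m (the
first m variables). Then: (1) for every B-module N, g annihilates Ext^1_B(NL_{B/A}, N), i.e. every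
morphism NL_{B/A} → N[1] in D(B) is killed by g; (2) if n = m then multiplication by g on NL_{B/A}
is the zero endomorphism in D(B). -/
theorem result (A : Type u) [CommRing A] (n m : ℕ) (hmn : m ≤ n) (f : Fin m → MvPolynomial (Fin n) A) : (∀ (N : Type u) [AddCommGroup N] [Module (MvPolynomial (Fin n) A ⧸ Ideal.span (Set.range f)) N] (φ : LCI.NL A (MvPolynomial (Fin n) A ⧸ Ideal.span (Set.range f)) ⟶ (Dual.inD (MvPolynomial (Fin n) A ⧸ Ideal.span (Set.range f)) N)⟦(1 : ℤ)⟧), (Ideal.Quotient.mk (Ideal.span (Set.range f)) (Matrix.det (Matrix.of (fun i j : Fin m => MvPolynomial.pderiv (Fin.castLE hmn i) (f j))))) • φ = 0) ∧ (n = m → (Ideal.Quotient.mk (Ideal.span (Set.range f)) (Matrix.det (Matrix.of (fun i j : Fin m => MvPolynomial.pderiv (Fin.castLE hmn i) (f j))))) • 𝟙 (LCI.NL A (MvPolynomial (Fin n) A ⧸ Ideal.span (Set.range f))) = 0) := by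
  have haev : ∀ p : MvPolynomial (Fin n) A,
      MvPolynomial.aeval (Algebra.Presentation.naive (v := f)).val p =
        Ideal.Quotient.mk (Ideal.span (Set.range f)) p := by
    intro p
    rw [← Algebra.Generators.algebraMap_apply]
    rfl
  have hdet : (Groth.Agent.Lib.Helper26.JacB.M (Algebra.Presentation.naive (v := f)) hmn).det =
      Ideal.Quotient.mk (Ideal.span (Set.range f))
        (Matrix.det (Matrix.of (fun i j : Fin m => MvPolynomial.pderiv (Fin.castLE hmn i) (f j)))) := by
    rw [RingHom.map_det]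
    congr 1
    ext i k
    unfold Groth.Agent.Lib.Helper26.JacB.M
    rw [Matrix.of_apply, haev]
    rfl
  refine ⟨?_, ?_⟩
  · intro N _ _ φ
    have : ((Dual.inD (MvPolynomial (Fin n) A ⧸ Ideal.span (Set.range f)) N)⟦(1 : ℤ)⟧).IsLE (-1) :=
      DerivedCategory.TStructure.t.isLE_shift _ 0 1 (-1) (by decide)
    rw [← hdet]
    exact Groth.Agent.Lib.Helper26.JacC.part1 (Algebra.Presentation.naive (v := f)) hmn _ φ
  · intro hnm
    rw [← hdet]
    exact Groth.Agent.Lib.Helper26.JacC.part2 (Algebra.Presentation.naive (v := f)) hmn hnm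

end Groth.Agent.S8806
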