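import Groth.Statements.S8812
import Mathlib
-- import your own Groth.Agent.* helpers here

set_option autoImplicit false
universe u
open CategoryTheory AlgebraicGeometry
open Algz

namespace Groth.Agent.S8812

section
variable {Y : Type*} [TopologicalSpace Y]

lemma one_le_codimPt_aux (w v : Y) (h : w ⤳ v) (hne : ¬ v ⤳ w) : 1 ≤ Algz.codimPt w v h := by
  unfold Algz.codimPt
  rw [Order.one_le_iff_ne_zero, Ne, Order.height_eq_zero]
  intro hmin
  have hle : (⟨Specialization.toEquiv v, Set.mem_Ici.2 le_rfl⟩ :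
      Set.Ici (Specialization.toEquiv v)) ≤
      ⟨Specialization.toEquiv w, Specialization.toEquiv_le_toEquiv.mpr h⟩ :=
    Subtype.mk_le_mk.2 (Specialization.toEquiv_le_toEquiv.mpr h)
  exact hne (Specialization.toEquiv_le_toEquiv.mp (Subtype.mk_le_mk.1 (hmin hle)))

lemma codimPt_eq_zero_aux (w v : Y) (h : w ⤳ v) (hvw : v ⤳ w) : Algz.codimPt w v h = 0 := by
  unfold Algz.codimPt
  rw [Order.height_eq_zero]
  rintro ⟨b, hb⟩ _
  refine Subtype.mk_le_mk.2 ?_
  exact le_trans (Specialization.toEquiv_le_toEquiv.mpr hvw) (Set.mem_Ici.1 hb)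

lemma codimPt_congr {w w' v v' : Y} (hw : w = w') (hv : v = v') (h : w ⤳ v) (h' : w' ⤳ v') :
    Algz.codimPt w v h = Algz.codimPt w' v' h' := by
  subst hw; subst hv; rfl

lemma codimPt_mono {w v v' : Y} (h : w ⤳ v) (hv : v ⤳ v') :
    Algz.codimPt w v h ≤ Algz.codimPt w v' (h.trans hv) := by
  unfold Algz.codimPt
  let f : Set.Ici (Specialization.toEquiv v) → Set.Ici (Specialization.toEquiv v') :=
    fun x => ⟨x.1, le_trans (Specialization.toEquiv_le_toEquiv.mpr hv) x.2⟩
  have hf : StrictMono f := fun a b hab => hab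
  exact Order.height_le_height_apply_of_strictMono f hf _

lemma codimPt_mono' {w w' v v' : Y} (hw : w = w') (h : w ⤳ v) (hv : v ⤳ v') (h' : w' ⤳ v') :
    Algz.codimPt w v h ≤ Algz.codimPt w' v' h' := by
  subst hw
  exact codimPt_mono h hv

lemma specializes_of_codimPt_eq_zero {w v : Y} (h : w ⤳ v) (h0 : Algz.codimPt w v h = 0) : v ⤳ w := by
  by_contra hne
  have := one_le_codimPt_aux w v h hne
  rw [h0] at this
  exact absurd this (by simp)

end

lemma enat_aux (C B b' : ℕ∞) (hb : 1 ≤ b') : 1 + (C - (B + b')) ≤ max 1 (C - B) := by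
  have h1 : C - (B + b') ≤ (C - B) - 1 := by
    rw [← tsub_add_eq_tsub_tsub]
    exact tsub_le_tsub_left (add_le_add le_rfl hb) C
  rcases eq_or_ne (C - B) 0 with h0 | h0
  · rw [h0] at h1 ⊢
    have h2 : C - (B + b') = 0 := by simpa using h1
    rw [h2]; simp
  · have h2 : 1 ≤ C - B := Order.one_le_iff_ne_zero.2 h0
    calc 1 + (C - (B + b')) ≤ 1 + ((C - B) - 1) := add_le_add le_rfl h1
      _ = C - B := add_tsub_cancel_of_le h2
      _ ≤ max 1 (C - B) := le_max_right _ _

lemma sup_mono' {k : ℕ} (c c' : Fin (k + 1) → ℕ∞) (b b' : Fin k → ℕ∞)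
    (hc : ∀ j, c' j ≤ c j) (hb : ∀ j, b j ≤ b' j) :
    (Finset.univ.sup fun i : Fin (k + 1) =>
      (∑ j ∈ Finset.univ.filter (fun j : Fin (k + 1) => i ≤ j), c' j) -
        ∑ j ∈ Finset.univ.filter (fun j : Fin k => i.val ≤ j.val), b' j) ≤
    (Finset.univ.sup fun i : Fin (k + 1) =>
      (∑ j ∈ Finset.univ.filter (fun j : Fin (k + 1) => i ≤ j), c j) -
        ∑ j ∈ Finset.univ.filter (fun j : Fin k => i.val ≤ j.val), b j) := by
  refine Finset.sup_mono_fun fun i _ => ?_
  exact tsub_le_tsub (Finset.sum_le_sum fun j _ => hc j) (Finset.sum_le_sum fun j _ => hb j)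

lemma sup_append {k : ℕ} (c : Fin (k + 1) → ℕ∞) (b : Fin k → ℕ∞) (c' : Fin (k + 1 + 1) → ℕ∞)
    (b' : Fin (k + 1) → ℕ∞)
    (hc : ∀ j : Fin (k + 1), c' j.castSucc = c j) (hcl : c' (Fin.last (k + 1)) = 0)
    (hb : ∀ j : Fin k, b' j.castSucc = b j) (hbl : 1 ≤ b' (Fin.last k))
    (hck : 1 ≤ c (Fin.last k)) :
    ((k + 1 : ℕ) : ℕ∞) + (Finset.univ.sup fun i : Fin (k + 1 + 1) =>
      (∑ j ∈ Finset.univ.filter (fun j : Fin (k + 1 + 1) => i ≤ j), c' j) -
        ∑ j ∈ Finset.univ.filter (fun j : Fin (k + 1) => i.val ≤ j.val), b' j) ≤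
    (k : ℕ∞) + (Finset.univ.sup fun i : Fin (k + 1) =>
      (∑ j ∈ Finset.univ.filter (fun j : Fin (k + 1) => i ≤ j), c j) -
        ∑ j ∈ Finset.univ.filter (fun j : Fin k => i.val ≤ j.val), b j) := by
  set T : ℕ∞ := (Finset.univ.sup fun i : Fin (k + 1) =>
      (∑ j ∈ Finset.univ.filter (fun j : Fin (k + 1) => i ≤ j), c j) -
        ∑ j ∈ Finset.univ.filter (fun j : Fin k => i.val ≤ j.val), b j) with hT
  have hterm : ∀ i : Fin (k + 1), (∑ j ∈ Finset.univ.filter (fun j : Fin (k + 1) => i ≤ j), c j) -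
        ∑ j ∈ Finset.univ.filter (fun j : Fin k => i.val ≤ j.val), b j ≤ T := fun i =>
    Finset.le_sup (f := fun i : Fin (k + 1) =>
      (∑ j ∈ Finset.univ.filter (fun j : Fin (k + 1) => i ≤ j), c j) -
        ∑ j ∈ Finset.univ.filter (fun j : Fin k => i.val ≤ j.val), b j) (Finset.mem_univ i)
  have hT1 : 1 ≤ T := by
    refine le_trans ?_ (hterm (Fin.last k))
    have hB : ∑ j ∈ Finset.univ.filter (fun j : Fin k => (Fin.last k).val ≤ j.val), b j = 0 := by
      refine Finset.sum_eq_zero fun j hj => ?_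
      have h1 := (Finset.mem_filter.1 hj).2
      rw [Fin.val_last] at h1
      exact absurd j.isLt (not_lt.2 h1)
    rw [hB, tsub_zero]
    refine le_trans hck ?_
    exact Finset.single_le_sum_of_canonicallyOrdered
      (Finset.mem_filter.2 ⟨Finset.mem_univ _, le_rfl⟩)
  have hsup : (Finset.univ.sup fun i : Fin (k + 1 + 1) =>
      (∑ j ∈ Finset.univ.filter (fun j : Fin (k + 1 + 1) => i ≤ j), c' j) -
        ∑ j ∈ Finset.univ.filter (fun j : Fin (k + 1) => i.val ≤ j.val), b' j) ≤ T - 1 := by
    refine Finset.sup_le fun i _ => ?_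
    refine ENat.le_sub_of_add_le_left ENat.one_ne_top ?_
    induction i using Fin.lastCases with
    | last =>
      have hC : ∑ j ∈ Finset.univ.filter (fun j : Fin (k + 1 + 1) => Fin.last (k + 1) ≤ j), c' j = 0 := by
        refine Finset.sum_eq_zero fun j hj => ?_
        have h1 := (Finset.mem_filter.1 hj).2
        rw [Fin.last_le_iff] at h1
        rw [h1, hcl]
      rw [hC, zero_tsub, add_zero]
      exact hT1
    | cast i0 =>
      have hC : ∑ j ∈ Finset.univ.filter (fun j : Fin (k + 1 + 1) => i0.castSucc ≤ j), c' j =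
          ∑ j ∈ Finset.univ.filter (fun j : Fin (k + 1) => i0 ≤ j), c j := by
        rw [Finset.sum_filter, Fin.sum_univ_castSucc, hcl, ite_self, add_zero, Finset.sum_filter]
        refine Finset.sum_congr rfl fun j _ => ?_
        rw [hc]
        simp only [Fin.castSucc_le_castSucc_iff]
      have hB : ∑ j ∈ Finset.univ.filter (fun j : Fin (k + 1) => i0.castSucc.val ≤ j.val), b' j =
          (∑ j ∈ Finset.univ.filter (fun j : Fin k => i0.val ≤ j.val), b j) + b' (Fin.last k) := by
        rw [Finset.sum_filter, Fin.sum_univ_castSucc, Finset.sum_filter]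
        congr 1
        · refine Finset.sum_congr rfl fun j _ => ?_
          rw [hb, Fin.val_castSucc, Fin.val_castSucc]
        · rw [if_pos]
          rw [Fin.val_castSucc, Fin.val_last]
          exact Nat.le_of_lt_succ i0.isLt
      rw [hC, hB]
      exact le_trans (enat_aux _ _ _ hbl) (max_le hT1 (hterm i0))
  calc ((k + 1 : ℕ) : ℕ∞) + _ ≤ ((k + 1 : ℕ) : ℕ∞) + (T - 1) := add_le_add le_rfl hsup
    _ = (k : ℕ∞) + (1 + (T - 1)) := by rw [Nat.cast_add, Nat.cast_one, add_assoc]
    _ = (k : ℕ∞) + T := by rw [add_tsub_cancel_of_le hT1]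


/-- Let Y be a Noetherian scheme and Z ⊆ Y a closed subset. If y specializes to y' then δ_Z(y') ≤
δ_Z(y); equivalently each set {y | δ_Z(y) ≤ k} is stable under specialization. -/
theorem result (Y : Scheme.{u}) [IsNoetherian Y] (Z : Set Y) (hZ : IsClosed Z) (y y' : Y) (h : y ⤳ y') : Algz.deltaZ Z y' ≤ Algz.deltaZ Z y := by
  classical
  by_cases hyy : y' ⤳ y
  · have hEq : y = y' := (h.antisymm hyy).eq
    subst hEq
    exact le_rfl
  unfold Algz.deltaZ
  refine le_iInf₂ fun k S => ?_
  have hlast := S.last_eq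
  by_cases hck0 : S.c (Fin.last k) = 0
  · -- Case I: replace the last pair
    have hvk : S.v (Fin.last k) ⤳ y := by
      have := specializes_of_codimPt_eq_zero (S.spec (Fin.last k)) hck0
      rwa [hlast] at this
    let v' : Fin (k + 1) → Y := Function.update S.v (Fin.last k) y'
    let w' : Fin (k + 1) → Y := Function.update S.w (Fin.last k) y'
    have hv_last : v' (Fin.last k) = y' := Function.update_self _ _ _
    have hw_last : w' (Fin.last k) = y' := Function.update_self _ _ _
    have hv_ne : ∀ i, i ≠ Fin.last k → v' i = S.v i := fun i hi => Function.update_of_ne hi _ _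
    have hw_ne : ∀ i, i ≠ Fin.last k → w' i = S.w i := fun i hi => Function.update_of_ne hi _ _
    have hvv : ∀ i, S.v i ⤳ v' i := by
      intro i
      by_cases hi : i = Fin.last k
      · rw [hi, hv_last]; exact hvk.trans h
      · rw [hv_ne i hi]
    let S' : Algz.DSystem Z y' k :=
      { v := v'
        w := w'
        spec := fun i => by
          by_cases hi : i = Fin.last k
          · rw [hi, hv_last, hw_last]
          · rw [hv_ne i hi, hw_ne i hi]; exact S.spec i
        spec_succ := fun j => by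
          rw [hw_ne _ (Fin.castSucc_lt_last j).ne]
          exact (S.spec_succ j).trans (hvv _)
        start_mem := (hvv 0).mem_closed hZ S.start_mem
        last_eq := hw_last }
    have hc : ∀ i, S'.c i ≤ S.c i := by
      intro i
      by_cases hi : i = Fin.last k
      · have : S'.c i = 0 := by
          refine codimPt_eq_zero_aux (S'.w i) (S'.v i) (S'.spec i) ?_
          show v' i ⤳ w' i
          rw [hi, hv_last, hw_last]
        rw [this]; exact zero_le
      · exact le_of_eq (codimPt_congr (hw_ne i hi) (hv_ne i hi) _ _)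
    have hb : ∀ j, S.b j ≤ S'.b j := by
      intro j
      exact codimPt_mono' (hw_ne _ (Fin.castSucc_lt_last j).ne).symm (S.spec_succ j) (hvv _) _
    have hdelta : S'.delta ≤ S.delta := by
      show (k : ℕ∞) + _ ≤ (k : ℕ∞) + _
      exact add_le_add le_rfl (sup_mono' S.c S'.c S.b S'.b hc hb)
    exact (iInf₂_le k S').trans hdelta
  · -- Case II: append the closure of y'
    let v' : Fin (k + 1 + 1) → Y := fun i => if hi : i.val < k + 1 then S.v ⟨i.val, hi⟩ else y'
    let w' : Fin (k + 1 + 1) → Y := fun i => if hi : i.val < k + 1 then S.w ⟨i.val, hi⟩ else y'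
    have hv_cast : ∀ j : Fin (k + 1), v' j.castSucc = S.v j := fun j => by
      simp only [v', Fin.val_castSucc, j.isLt, dif_pos, Fin.eta]
    have hw_cast : ∀ j : Fin (k + 1), w' j.castSucc = S.w j := fun j => by
      simp only [w', Fin.val_castSucc, j.isLt, dif_pos, Fin.eta]
    have hv_last : v' (Fin.last (k + 1)) = y' := by
      simp only [v', Fin.val_last, lt_self_iff_false, dif_neg, not_false_eq_true]
    have hw_last : w' (Fin.last (k + 1)) = y' := by
      simp only [w', Fin.val_last, lt_self_iff_false, dif_neg, not_false_eq_true]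
    let S' : Algz.DSystem Z y' (k + 1) :=
      { v := v'
        w := w'
        spec := fun i => by
          induction i using Fin.lastCases with
          | last => rw [hv_last, hw_last]
          | cast j => rw [hv_cast, hw_cast]; exact S.spec j
        spec_succ := fun i => by
          rw [hw_cast]
          induction i using Fin.lastCases with
          | last => rw [Fin.succ_last, hv_last, hlast]; exact h
          | cast j => rw [Fin.succ_castSucc, hv_cast]; exact S.spec_succ j
        start_mem := by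
          have : v' 0 = S.v 0 := hv_cast 0
          rw [this]; exact S.start_mem
        last_eq := hw_last }
    have hc : ∀ j : Fin (k + 1), S'.c j.castSucc = S.c j := fun j =>
      codimPt_congr (hw_cast j) (hv_cast j) _ _
    have hcl : S'.c (Fin.last (k + 1)) = 0 := by
      refine codimPt_eq_zero_aux (S'.w _) (S'.v _) (S'.spec _) ?_
      show v' (Fin.last (k + 1)) ⤳ w' (Fin.last (k + 1))
      rw [hv_last, hw_last]
    have hb : ∀ j : Fin k, S'.b j.castSucc = S.b j := fun j =>
      codimPt_congr (hw_cast j.castSucc) (hv_cast j.succ) _ _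
    have hbl : 1 ≤ S'.b (Fin.last k) := by
      refine one_le_codimPt_aux (S'.w _) (S'.v _) (S'.spec_succ _) ?_
      show ¬ v' (Fin.last k).succ ⤳ w' (Fin.last k).castSucc
      rw [Fin.succ_last, hv_last, hw_cast, hlast]
      exact hyy
    have hck : 1 ≤ S.c (Fin.last k) := Order.one_le_iff_ne_zero.2 hck0
    have hdelta : S'.delta ≤ S.delta := by
      show ((k + 1 : ℕ) : ℕ∞) + _ ≤ (k : ℕ∞) + _
      exact sup_append S.c S.b S'.c S'.b hc hcl hb hbl hck
    exact (iInf₂_le (k + 1) S').trans hdelta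

end Groth.Agent.S8812
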