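import Groth.Statements.S8816
import Groth.Agent.Lib.Helper44.AlgzBasic

set_option autoImplicit false
universe u
open CategoryTheory AlgebraicGeometry
open Algz

namespace Groth.Agent.S8816

/-- Let Y be a Noetherian scheme and Z ⊆ Y closed. Given points y_0, …, y_k and y'_0, …, y'_{k-1} of Y
with y_0 ∈ Z such that each y'_i specializes to y_{i+1} with y'_i ≠ y_{i+1}, and each y'_i ⤳ y_i is
an immediate specialization (y'_i ≠ y_i and no point strictly between), one has δ_Z(y_k) ≤ k. (The
published statement also allows y'_i = y_{i+1}. In that generality the bound needs catenarity: for a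
Noetherian local domain of dimension 3 having a saturated chain of primes (0) ⊂ 𝔭 ⊂ 𝔪 of length 2,
with Z the closed point and the pattern y_0 = 𝔪, y'_0 = y_1 = 𝔭, y'_1 = y_2 = (0), one has k = 2 but
δ_Z((0)) = 3. The published proof handles nontrivial specializations y'_i ⤳ y_{i+1}, for which the
closures of the y_i and y'_i form a system of value k, and reduces to that case by shortening the
chain, which does not preserve immediacy; this row states the case the proof establishes.) -/
theorem result (Y : Scheme.{u}) [IsNoetherian Y] (Z : Set Y) (hZ : IsClosed Z) (k : ℕ) (y : Fin (k + 1) → Y) (y' : Fin k → Y) (h0 : y 0 ∈ Z) (hdown : ∀ i : Fin k, y' i ⤳ y i.castSucc ∧ y' i ≠ y i.castSucc ∧ ∀ z : Y, y' i ⤳ z → z ⤳ y i.castSucc → z = y' i ∨ z = y i.castSucc) (hup : ∀ i : Fin k, y' i ⤳ y i.succ ∧ y' i ≠ y i.succ) : Algz.deltaZ Z (y (Fin.last k)) ≤ k := by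
  open Groth.Agent.Lib.Helper44.AlgzBasic in
  classical
  let w : Fin (k + 1) → Y := Fin.snoc (α := fun _ => ↥Y) y' (y (Fin.last k))
  have hwc : ∀ j : Fin k, w j.castSucc = y' j :=
    fun j => Fin.snoc_castSucc (α := fun _ => ↥Y) _ _ _
  have hwl : w (Fin.last k) = y (Fin.last k) := Fin.snoc_last (α := fun _ => ↥Y) _ _
  have hspec : ∀ i, w i ⤳ y i := by
    intro i
    refine Fin.lastCases ?_ (fun j => ?_) i
    · rw [hwl]
    · rw [hwc]
      exact (hdown j).1
  have hspec_succ : ∀ i : Fin k, w i.castSucc ⤳ y i.succ := by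
    intro i
    rw [hwc]
    exact (hup i).1
  let S : Algz.DSystem Z (y (Fin.last k)) k := ⟨y, w, hspec, hspec_succ, h0, hwl⟩
  refine (deltaZ_le S).trans ?_
  have hc : ∀ j : Fin k, S.c j.castSucc ≤ 1 := by
    intro j
    have h1 : S.c j.castSucc = Algz.codimPt (y' j) (y j.castSucc) (hdown j).1 :=
      codimPt_congr _ _ (hwc j) rfl
    rw [h1]
    exact codimPt_le_one _ (hdown j).2.2
  have hcl : S.c (Fin.last k) = 0 :=
    (codimPt_congr _ (specializes_rfl : y (Fin.last k) ⤳ y (Fin.last k)) hwl rfl).trans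
      (codimPt_self _ _)
  have hb : ∀ j : Fin k, 1 ≤ S.b j := by
    intro j
    have h1 : S.b j = Algz.codimPt (y' j) (y j.succ) (hup j).1 :=
      codimPt_congr _ _ (hwc j) rfl
    rw [h1]
    exact one_le_codimPt _ (hup j).2
  rw [delta_eq]
  have hsup : (Finset.univ.sup fun i : Fin (k + 1) => Ts S.c i.val - Ts S.b i.val) ≤ 0 := by
    refine Finset.sup_le fun i _ => ?_
    rw [tsub_eq_zero_of_le]
    rw [Ts_succ, hcl]
    have h2 : (if i.val ≤ k then (0 : ℕ∞) else 0) = 0 := by split_ifs <;> rfl
    rw [h2, add_zero]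
    exact le_trans (Ts_mono hc _) (Ts_mono (f := fun _ => 1) hb _)
  calc (k : ℕ∞) + (Finset.univ.sup fun i : Fin (k + 1) => Ts S.c i.val - Ts S.b i.val)
      ≤ (k : ℕ∞) + 0 := add_le_add le_rfl hsup
    _ = k := add_zero _

end Groth.Agent.S8816
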