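import Groth.Statements.S8819
import Mathlib

set_option autoImplicit false
universe u
open scoped BigOperators
open LocCoh

namespace Groth.Agent.S8819

open MvPolynomial

section
variable {A : Type u} [CommRing A] {r : ℕ} (I : Ideal A) (c : ℕ) (φ : Fin r → (↥(I ^ c) →ₗ[A] A))

open Classical in
/-- extension of `φ j` by zero -/
noncomputable def ext (j : Fin r) (g : A) : A := if hg : g ∈ I ^ c then φ j ⟨g, hg⟩ else 0

theorem ext_of_mem (j : Fin r) {g : A} (hg : g ∈ I ^ c) : ext I c φ j g = φ j ⟨g, hg⟩ :=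
  dif_pos hg

theorem ext_add (j : Fin r) {g h : A} (hg : g ∈ I ^ c) (hh : h ∈ I ^ c) :
    ext I c φ j (g + h) = ext I c φ j g + ext I c φ j h := by
  rw [ext_of_mem I c φ j (add_mem hg hh), ext_of_mem I c φ j hg, ext_of_mem I c φ j hh, ← map_add]
  rfl

theorem ext_mul (j : Fin r) (a : A) {g : A} (hg : g ∈ I ^ c) :
    ext I c φ j (a * g) = a * ext I c φ j g := by
  rw [ext_of_mem I c φ j (Ideal.mul_mem_left _ a hg), ext_of_mem I c φ j hg]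
  have h0 : (⟨a * g, Ideal.mul_mem_left _ a hg⟩ : ↥(I ^ c)) = a • ⟨g, hg⟩ := rfl
  rw [h0, map_smul, smul_eq_mul]

theorem ext_mem (j : Fin r) (m : ℕ) {g : A} (hg : g ∈ I ^ (m + c)) :
    g ∈ I ^ c ∧ ext I c φ j g ∈ I ^ m := by
  rw [pow_add] at hg
  refine Submodule.mul_induction_on hg ?_ ?_
  · intro y hy z hz
    refine ⟨Ideal.mul_mem_left _ _ hz, ?_⟩
    rw [ext_mul I c φ j y hz]
    exact Ideal.mul_mem_right _ _ hy
  · rintro x y ⟨hx, hx'⟩ ⟨hy, hy'⟩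
    refine ⟨add_mem hx hy, ?_⟩
    rw [ext_add I c φ j hx hy]
    exact add_mem hx' hy'

theorem mem_of_mem_succ (n : ℕ) {g : A} (hg : g ∈ I ^ ((n + 1) * c)) : g ∈ I ^ (n * c + c) := by
  rwa [Nat.succ_mul] at hg

/-- the graded map -/
noncomputable def Phi : ℕ → A → MvPolynomial (Fin r) A
  | 0, a => C a
  | n + 1, g => ∑ j, X j * Phi n (ext I c φ j g)

theorem Phi_add (n : ℕ) : ∀ g ∈ I ^ (n * c), ∀ h ∈ I ^ (n * c),
    Phi I c φ n (g + h) = Phi I c φ n g + Phi I c φ n h := by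
  induction n with
  | zero => intro g _ h _; simp [Phi]
  | succ n ih =>
    intro g hg h hh
    have hg' : ∀ j, g ∈ I ^ c ∧ ext I c φ j g ∈ I ^ (n * c) := fun j =>
      ext_mem I c φ j (n * c) (by rwa [Nat.succ_mul] at hg)
    have hh' : ∀ j, h ∈ I ^ c ∧ ext I c φ j h ∈ I ^ (n * c) := fun j =>
      ext_mem I c φ j (n * c) (by rwa [Nat.succ_mul] at hh)
    simp only [Phi]
    rw [← Finset.sum_add_distrib]
    refine Finset.sum_congr rfl fun j _ => ?_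
    rw [ext_add I c φ j (hg' j).1 (hh' j).1, ih _ (hg' j).2 _ (hh' j).2, mul_add]

theorem Phi_smul (n : ℕ) : ∀ (a : A), ∀ g ∈ I ^ (n * c),
    Phi I c φ n (a * g) = a • Phi I c φ n g := by
  induction n with
  | zero => intro a g _; simp [Phi, smul_eq_C_mul]
  | succ n ih =>
    intro a g hg
    have hg' : ∀ j, g ∈ I ^ c ∧ ext I c φ j g ∈ I ^ (n * c) := fun j =>
      ext_mem I c φ j (n * c) (by rwa [Nat.succ_mul] at hg)
    simp only [Phi]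
    rw [Finset.smul_sum]
    refine Finset.sum_congr rfl fun j _ => ?_
    rw [ext_mul I c φ j a (hg' j).1, ih a _ (hg' j).2, mul_smul_comm]

theorem Phi_homog (n : ℕ) : ∀ g : A, (Phi I c φ n g).IsHomogeneous n := by
  induction n with
  | zero => intro g; simpa [Phi] using isHomogeneous_C _ g
  | succ n ih =>
    intro g
    simp only [Phi]
    apply IsHomogeneous.sum
    intro j _
    rw [add_comm]
    exact (isHomogeneous_X A j).mul (ih _)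

theorem Phi_mul (n m : ℕ) : ∀ g ∈ I ^ (n * c), ∀ h ∈ I ^ (m * c),
    Phi I c φ (n + m) (g * h) = Phi I c φ n g * Phi I c φ m h := by
  induction n with
  | zero =>
    intro g _ h hh
    rw [Nat.zero_add, Phi_smul I c φ m g h hh]
    simp [Phi, smul_eq_C_mul]
  | succ n ih =>
    intro g hg h hh
    have hg' : ∀ j, g ∈ I ^ c ∧ ext I c φ j g ∈ I ^ (n * c) := fun j =>
      ext_mem I c φ j (n * c) (by rwa [Nat.succ_mul] at hg)
    have e : n + 1 + m = (n + m) + 1 := by omega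
    rw [e]
    simp only [Phi]
    rw [Finset.sum_mul]
    refine Finset.sum_congr rfl fun j _ => ?_
    rw [mul_comm g h, ext_mul I c φ j h (hg' j).1, mul_comm h, ih _ (hg' j).2 _ hh, mul_assoc]

theorem Phi_one (g : A) (hg : g ∈ I ^ c) :
    Phi I c φ 1 g = ∑ j, C (φ j ⟨g, hg⟩) * X j := by
  simp only [Phi]
  refine Finset.sum_congr rfl fun j _ => ?_
  rw [ext_of_mem I c φ j hg, mul_comm]

theorem Phi_aeval (f : Fin r → A) (hφ : ∀ x : ↥(I ^ c), (x : A) = ∑ j, f j * φ j x) (n : ℕ) :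
    ∀ g ∈ I ^ (n * c), aeval f (Phi I c φ n g) = g := by
  induction n with
  | zero => intro g _; simp [Phi]
  | succ n ih =>
    intro g hg
    have hg' : ∀ j, g ∈ I ^ c ∧ ext I c φ j g ∈ I ^ (n * c) := fun j =>
      ext_mem I c φ j (n * c) (by rwa [Nat.succ_mul] at hg)
    simp only [Phi, map_sum, map_mul, aeval_X]
    have hgc : g ∈ I ^ c := Ideal.pow_le_pow_right (by rw [Nat.succ_mul]; omega) hg
    have h1 : ∀ j, aeval f (Phi I c φ n (ext I c φ j g)) = φ j ⟨g, hgc⟩ := by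
      intro j
      rw [ih _ (hg' j).2, ext_of_mem I c φ j hgc]
    simp only [h1]
    exact (hφ ⟨g, hgc⟩).symm


theorem Phi_unique (Ψ : ℕ → A → MvPolynomial (Fin r) A)
    (hadd : ∀ n : ℕ, ∀ g ∈ I ^ (n * c), ∀ h ∈ I ^ (n * c), Ψ n (g + h) = Ψ n g + Ψ n h)
    (hmul : ∀ n m : ℕ, ∀ g ∈ I ^ (n * c), ∀ h ∈ I ^ (m * c), Ψ (n + m) (g * h) = Ψ n g * Ψ m h)
    (hzero : ∀ a : A, Ψ 0 a = MvPolynomial.C a)
    (hone : ∀ (g : A) (hg : g ∈ I ^ c), Ψ 1 g = ∑ j, MvPolynomial.C (φ j ⟨g, hg⟩) * MvPolynomial.X j)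
    (n : ℕ) : ∀ g ∈ I ^ (n * c), Ψ n g = Phi I c φ n g := by
  induction n with
  | zero => intro g _; rw [hzero]; rfl
  | succ n ih =>
    intro g hg
    have hg2 : g ∈ I ^ (n * c) * I ^ c := by rwa [Nat.succ_mul, pow_add] at hg
    have key : g ∈ I ^ ((n + 1) * c) ∧ Ψ (n + 1) g = Phi I c φ (n + 1) g := by
      refine Submodule.mul_induction_on hg2 ?_ ?_
      · intro y hy z hz
        have hz1 : z ∈ I ^ (1 * c) := by rwa [one_mul]
        refine ⟨?_, ?_⟩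
        · rw [Nat.succ_mul, pow_add]
          exact Ideal.mul_mem_mul hy hz
        · rw [hmul n 1 y hy z hz1, Phi_mul I c φ n 1 y hy z hz1, ih y hy, hone z hz,
            Phi_one I c φ z hz]
      · rintro x y ⟨hx, hx'⟩ ⟨hy, hy'⟩
        refine ⟨add_mem hx hy, ?_⟩
        rw [hadd _ x hx y hy, Phi_add I c φ _ x hx y hy, hx', hy']
    exact key.2

end

/-- Let A be a Noetherian ring, f_1, …, f_r ∈ A and I = (f_1, …, f_r) with cd(A, I) = 1; let c ≥ 1 and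
let φ_j : I^c → A be A-linear maps with x = Σ_j f_j φ_j(x) for all x ∈ I^c. Under these assumptions,
exactly one homomorphism of graded A-algebras, from ⊕_{n ≥ 0} I^{nc} into the polynomial ring A[T_1,
…, T_r], exists that sends each g ∈ I^c to Σ_j φ_j(g) T_j; call it Φ. Here Φ is encoded by functions
Φ_n : A → A[T_1, …, T_r] whose values on I^{nc} are A-linear, homogeneous of degree n,
multiplicative (Φ_{n+m}(gh) = Φ_n(g)Φ_m(h)), with Φ_0 the structure map and Φ_1 as prescribed;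
uniqueness is asserted for the values on the I^{nc}. Moreover substituting T_j ↦ f_j in Φ_n(g) gives
back g for every g ∈ I^{nc}. -/
theorem result (A : Type u) [CommRing A] [IsNoetherianRing A] (r : ℕ) (f : Fin r → A) (I : Ideal A) (hI : I = Ideal.span (Set.range f)) (h1 : LocCoh.CdLE A I 1) (h0 : ¬ LocCoh.CdLE A I 0) (c : ℕ) (hc : 1 ≤ c) (φ : Fin r → (↥(I ^ c) →ₗ[A] A)) (hφ : ∀ x : ↥(I ^ c), (x : A) = ∑ j, f j * φ j x) : ∃ Φ : ℕ → A → MvPolynomial (Fin r) A, (((∀ n : ℕ, ∀ g ∈ I ^ (n * c), ∀ h ∈ I ^ (n * c), Φ n (g + h) = Φ n g + Φ n h) ∧ (∀ (n : ℕ) (a : A), ∀ g ∈ I ^ (n * c), Φ n (a * g) = a • Φ n g) ∧ (∀ n : ℕ, ∀ g ∈ I ^ (n * c), (Φ n g).IsHomogeneous n) ∧ (∀ n m : ℕ, ∀ g ∈ I ^ (n * c), ∀ h ∈ I ^ (m * c), Φ (n + m) (g * h) = Φ n g * Φ m h) ∧ (∀ a : A, Φ 0 a = MvPolynomial.C a) ∧ (∀ (g : A) (hg : g ∈ I ^ c), Φ 1 g = ∑ j, MvPolynomial.C (φ j ⟨g, hg⟩) * MvPolynomial.X j)) ∧ ∀ n :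 ℕ, ∀ g ∈ I ^ (n * c), MvPolynomial.aeval f (Φ n g) = g) ∧ ∀ Ψ : ℕ → A → MvPolynomial (Fin r) A, ((∀ n : ℕ, ∀ g ∈ I ^ (n * c), ∀ h ∈ I ^ (n * c), Ψ n (g + h) = Ψ n g + Ψ n h) ∧ (∀ (n : ℕ) (a : A), ∀ g ∈ I ^ (n * c), Ψ n (a * g) = a • Ψ n g) ∧ (∀ n : ℕ, ∀ g ∈ I ^ (n * c), (Ψ n g).IsHomogeneous n) ∧ (∀ n m : ℕ, ∀ g ∈ I ^ (n * c), ∀ h ∈ I ^ (m * c), Ψ (n + m) (g * h) = Ψ n g * Ψ m h) ∧ (∀ a : A, Ψ 0 a = MvPolynomial.C a) ∧ (∀ (g : A) (hg : g ∈ I ^ c), Ψ 1 g = ∑ j, MvPolynomial.C (φ j ⟨g, hg⟩) * MvPolynomial.X j)) → ∀ n : ℕ, ∀ g ∈ I ^ (n * c), Ψ n g = Φ n g := by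
  refine ⟨Phi I c φ, ⟨⟨Phi_add I c φ, Phi_smul I c φ, fun n g _ => Phi_homog I c φ n g,
    Phi_mul I c φ, fun a => rfl, Phi_one I c φ⟩, Phi_aeval I c φ f hφ⟩, ?_⟩
  rintro Ψ ⟨hadd, -, -, hmul, hzero, hone⟩
  exact Phi_unique I c φ Ψ hadd hmul hzero hone

end Groth.Agent.S8819
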