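import Groth.Statements.S8821
import Mathlib
import Groth.Prelude.Def_KLin
import Groth.Prelude.Def_ega3

set_option autoImplicit false
universe u
open CategoryTheory AlgebraicGeometry
open Formal2

namespace Groth.Agent.S8821
open CategoryTheory CategoryTheory.Limits AlgebraicGeometry CategoryTheory.Abelian
set_option linter.style.haveILetI false

section
open Pseudoelement
attribute [local instance] Pseudoelement.objectToSort Pseudoelement.homToFun

theorem abstract_ses {C : Type*} [Category C] [Abelian C] {F Q1 Qn Qn1 : C}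
    (a b : F ⟶ F) [Mono b]
    (π1 : F ⟶ Q1) (πn : F ⟶ Qn) (πn1 : F ⟶ Qn1)
    [Epi π1] [Epi πn] [Epi πn1]
    (c : F ⟶ F) (hc : a ≫ b = c)
    (w1 : a ≫ π1 = 0) (wn : b ≫ πn = 0) (wn1 : c ≫ πn1 = 0)
    (hn : (ShortComplex.mk b πn wn).Exact)
    (hn1 : (ShortComplex.mk c πn1 wn1).Exact)
    (i : Q1 ⟶ Qn1) (hi : π1 ≫ i = b ≫ πn1)
    (t : Qn1 ⟶ Qn) (ht : πn1 ≫ t = πn) :
    Mono i ∧ ∃ w : i ≫ t = 0, (ShortComplex.mk i t w).ShortExact := by
  subst hc
  have w : i ≫ t = 0 := by
    rw [← cancel_epi π1, ← Category.assoc, hi, Category.assoc, ht, wn, comp_zero]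
  have hmono : Mono i := by
    apply mono_of_zero_of_map_zero
    intro q hq
    obtain ⟨x, rfl⟩ := pseudo_surjective_of_epi π1 q
    rw [← Pseudoelement.comp_apply, hi, Pseudoelement.comp_apply] at hq
    obtain ⟨y, hy⟩ := pseudo_exact_of_exact hn1 (b x) hq
    change (a ≫ b) y = b x at hy
    rw [Pseudoelement.comp_apply] at hy
    have hx : a y = x := pseudo_injective_of_mono b hy
    rw [← hx, ← Pseudoelement.comp_apply, w1, Pseudoelement.zero_apply]
  have hex : (ShortComplex.mk i t w).Exact := by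
    apply exact_of_pseudo_exact
    intro q hq
    change t q = 0 at hq
    obtain ⟨x, rfl⟩ := pseudo_surjective_of_epi πn1 q
    rw [← Pseudoelement.comp_apply, ht] at hq
    obtain ⟨y, hy⟩ := pseudo_exact_of_exact hn x hq
    change b y = x at hy
    refine ⟨π1 y, ?_⟩
    change i (π1 y) = πn1 x
    rw [← Pseudoelement.comp_apply, hi, Pseudoelement.comp_apply, hy]
  have hepi : Epi t := epi_of_epi_fac ht
  exact ⟨hmono, w, { exact := hex, mono_f := hmono, epi_g := hepi }⟩
end

section
variable {A : Type u} [CommRing A] {X : Scheme.{u}} [X.Over (Spec (CommRingCat.of A))]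

theorem smulMod_comm {M N : X.Modules} (g : M ⟶ N) (a : A) :
    g ≫ Formal.smulMod A N a = Formal.smulMod A M a ≫ g :=
  KLin.comp_smulModΓ g _

theorem smulMod_π (f : A) (k : ℕ) (F : X.Modules) :
    Formal.smulMod A F (f ^ k) ≫ Formal.modPowπ (Ideal.span ({f} : Set A)) k F = 0 := by
  have hmem : f ^ k ∈ Ideal.span ({f} : Set A) ^ k :=
    Ideal.pow_mem_pow (Ideal.mem_span_singleton_self f) k
  have h1 : Sigma.ι (fun _ : ↥(Ideal.span ({f} : Set A) ^ k) => F) ⟨f ^ k, hmem⟩ ≫
      Formal.smulFamily (Ideal.span ({f} : Set A) ^ k) F = Formal.smulMod A F (f ^ k) := by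
    simp [Formal.smulFamily]
  rw [← h1, Category.assoc]
  have h2 : Formal.smulFamily (Ideal.span ({f} : Set A) ^ k) F ≫
      Formal.modPowπ (Ideal.span ({f} : Set A)) k F = 0 := cokernel.condition _
  rw [h2, comp_zero]

theorem smulFamily_comp_eq_zero (f : A) (k : ℕ) (F : X.Modules) {Z : X.Modules} (g : F ⟶ Z)
    (hg : Formal.smulMod A F (f ^ k) ≫ g = 0) :
    Formal.smulFamily (Ideal.span ({f} : Set A) ^ k) F ≫ g = 0 := by
  apply Sigma.hom_ext
  intro a
  have h1 : Sigma.ι (fun _ : ↥(Ideal.span ({f} : Set A) ^ k) => F) a ≫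
      Formal.smulFamily (Ideal.span ({f} : Set A) ^ k) F = Formal.smulMod A F (a : A) := by
    simp [Formal.smulFamily]
  rw [← Category.assoc, h1, comp_zero]
  have ha : (a : A) ∈ Ideal.span ({f ^ k} : Set A) := by
    rw [← Ideal.span_singleton_pow]; exact a.2
  obtain ⟨b, hb⟩ := Ideal.mem_span_singleton'.mp ha
  rw [← hb, mul_comm, CohIII.smulMod_mul, Category.assoc, hg, comp_zero]

noncomputable def isColimitπ (f : A) (k : ℕ) (F : X.Modules) :
    IsColimit (CokernelCofork.ofπ (Formal.modPowπ (Ideal.span ({f} : Set A)) k F)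
      (smulMod_π f k F)) :=
  CokernelCofork.IsColimit.ofπ _ _
    (fun g hg => cokernel.desc _ g (smulFamily_comp_eq_zero f k F g hg))
    (fun g hg => cokernel.π_desc _ _ _)
    (fun g hg m hm => by
      apply Cofork.IsColimit.hom_ext (cokernelIsCokernel _)
      simp only [Cofork.π_ofπ, cokernel.π_desc]
      exact hm)

theorem exact_π (f : A) (k : ℕ) (F : X.Modules) :
    (ShortComplex.mk (Formal.smulMod A F (f ^ k))
      (Formal.modPowπ (Ideal.span ({f} : Set A)) k F) (smulMod_π f k F)).Exact :=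
  ShortComplex.exact_of_g_is_cokernel _ (isColimitπ f k F)

instance (I : Ideal A) (k : ℕ) (F : X.Modules) : Epi (Formal.modPowπ I k F) := by
  change Epi (cokernel.π (Formal.smulFamily (I ^ k) F))
  exact coequalizer.π_epi


theorem smulMod_one' (F : X.Modules) : Formal.smulMod A F (1 : A) = 𝟙 F := by
  unfold Formal.smulMod
  rw [map_one]
  exact KLin.smulModΓ_one F

theorem mono_pow (f : A) (F : X.Modules) (hF : Mono (Formal.smulMod A F f)) (k : ℕ) :
    Mono (Formal.smulMod A F (f ^ k)) := by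
  induction k with
  | zero => rw [pow_zero, smulMod_one']; infer_instance
  | succ k ih =>
    rw [pow_succ, CohIII.smulMod_mul]
    exact mono_comp _ _

theorem main (f : A) (F : X.Modules) (hF : Mono (Formal.smulMod A F f)) (n : ℕ) (hn : 1 ≤ n) :
    ∃ i : Formal.modPow (Ideal.span ({f} : Set A)) 1 F ⟶
        Formal.modPow (Ideal.span ({f} : Set A)) (n + 1) F,
      Mono i ∧ Formal2.modPowLE (Ideal.span ({f} : Set A)) (Nat.le_add_left 1 n) F ≫ i =
        Formal.smulMod A (Formal.modPow (Ideal.span ({f} : Set A)) (n + 1) F) (f ^ n) ∧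
      ∃ w : i ≫ Formal.modPowTrans (Ideal.span ({f} : Set A)) n F = 0,
        (ShortComplex.mk i (Formal.modPowTrans (Ideal.span ({f} : Set A)) n F) w).ShortExact := by
  have e : Formal.smulMod A F (f ^ 1) ≫ Formal.smulMod A F (f ^ n) =
      Formal.smulMod A F (f ^ (n + 1)) := by
    rw [← CohIII.smulMod_mul, ← pow_add]
  have h0 : Formal.smulMod A F (f ^ 1) ≫ Formal.smulMod A F (f ^ n) ≫
      Formal.modPowπ (Ideal.span ({f} : Set A)) (n + 1) F = 0 := by
    rw [← Category.assoc, e, smulMod_π]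
  let i : Formal.modPow (Ideal.span ({f} : Set A)) 1 F ⟶
      Formal.modPow (Ideal.span ({f} : Set A)) (n + 1) F :=
    cokernel.desc (Formal.smulFamily (Ideal.span ({f} : Set A) ^ 1) F)
      (Formal.smulMod A F (f ^ n) ≫ Formal.modPowπ (Ideal.span ({f} : Set A)) (n + 1) F)
      (smulFamily_comp_eq_zero f 1 F _ h0)
  have hi : Formal.modPowπ (Ideal.span ({f} : Set A)) 1 F ≫ i =
      Formal.smulMod A F (f ^ n) ≫ Formal.modPowπ (Ideal.span ({f} : Set A)) (n + 1) F :=
    cokernel.π_desc _ _ _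
  haveI := mono_pow f F hF n
  obtain ⟨hmono, w, hse⟩ := abstract_ses (Formal.smulMod A F (f ^ 1)) (Formal.smulMod A F (f ^ n))
    (Formal.modPowπ (Ideal.span ({f} : Set A)) 1 F)
    (Formal.modPowπ (Ideal.span ({f} : Set A)) n F)
    (Formal.modPowπ (Ideal.span ({f} : Set A)) (n + 1) F)
    (Formal.smulMod A F (f ^ (n + 1))) e
    (smulMod_π f 1 F) (smulMod_π f n F) (smulMod_π f (n + 1) F)
    (exact_π f n F) (exact_π f (n + 1) F) i hi
    (Formal.modPowTrans (Ideal.span ({f} : Set A)) n F) (Formal.modPowπ_trans _ n F)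
  refine ⟨i, hmono, ?_, w, hse⟩
  rw [← cancel_epi (Formal.modPowπ (Ideal.span ({f} : Set A)) (n + 1) F), ← Category.assoc,
    Formal2.modPowπ_modPowLE, hi, smulMod_comm]

end

end Groth.Agent.S8821

namespace Groth.Agent.S8821

/-- Implication (4) ⇒ (2), for an O_X-module over a base ring A and f ∈ A. Let X be a scheme over Spec
A, f ∈ A and F an O_X-module on which multiplication by f is a monomorphism. Then for every n ≥ 1
there is a monomorphism i : F/fF → F/f^{n+1}F through which multiplication by f^n on F/f^{n+1}F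
factors (projection to F/fF followed by i), and F/fF → F/f^{n+1}F → F/f^nF, with second map the
transition map, is a short exact sequence. (Stated for schemes; the published statement is for
ringed spaces.) -/
theorem result (A : Type u) [CommRing A] (X : Scheme.{u}) [X.Over (Spec (CommRingCat.of A))] (f : A) (F : X.Modules) (hF : Mono (Formal.smulMod A F f)) (n : ℕ) (hn : 1 ≤ n) : ∃ i : Formal.modPow (Ideal.span ({f} : Set A)) 1 F ⟶ Formal.modPow (Ideal.span ({f} : Set A)) (n + 1) F, Mono i ∧ Formal2.modPowLE (Ideal.span ({f} : Set A)) (Nat.le_add_left 1 n) F ≫ i = Formal.smulMod A (Formal.modPow (Ideal.span ({f} : Set A)) (n + 1) F) (f ^ n) ∧ ∃ w : i ≫ Formal.modPowTrans (Ideal.span ({f} : Set A)) n F = 0, (ShortComplex.mk i (Formal.modPowTrans (Ideal.span ({f} : Set A)) n F) w).ShortExact := by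

  exact Groth.Agent.S8821.main f F hF n hn

end Groth.Agent.S8821
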