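import Groth.Statements.S8835
import Mathlib
import Groth.Agent.S8804
import Groth.Agent.S0544

set_option autoImplicit false
universe u
open AdicRing

namespace Groth.Agent.S8835

/-- An injective integral ring homomorphism preserves Krull dimension. -/
theorem ringKrullDim_eq_of_isIntegral_of_injective {R S : Type*} [CommRing R] [CommRing S]
    (f : R →+* S) (hf : f.IsIntegral) (hinj : Function.Injective f) :
    ringKrullDim R = ringKrullDim S := by
  algebraize [f]
  apply le_antisymm
  · unfold ringKrullDim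
    refine iSup_le fun l => ?_
    have hker : (⊥ : Ideal S).comap (algebraMap R S) ≤ l.head.asIdeal := by
      have hinj' : Function.Injective (algebraMap R S) := hinj
      rw [← RingHom.ker_eq_comap_bot, (RingHom.injective_iff_ker_eq_bot _).mp hinj']
      exact bot_le
    obtain ⟨P, -, hP, hPl⟩ := Ideal.exists_ideal_over_prime_of_isIntegral l.head.asIdeal ⊥ hker
    have : P.LiesOver l.head.asIdeal := ⟨hPl.symm⟩
    obtain ⟨L, hL, -, -⟩ := Ideal.exists_ltSeries_of_hasGoingUp l P
    rw [← hL]
    exact Order.LTSeries.length_le_krullDim L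
  · unfold ringKrullDim
    refine Order.krullDim_le_of_strictMono (PrimeSpectrum.comap (algebraMap R S)) ?_
    intro P Q hPQ
    have := Ideal.IsIntegral.comap_lt_comap (R := R) (I := P.asIdeal) (J := Q.asIdeal) hPQ
    exact this

/-- Key finiteness: if `q` is a rig-closed prime of `B` then `B ⧸ q` is a finite `A`-module. -/
theorem finite_quotient (A : Type u) [CommRing A] [IsNoetherianRing A] (I : Ideal A)
    [IsAdicComplete I A] (B : Type u) [CommRing B] [Algebra A B] [IsNoetherianRing B]
    [IsAdicComplete (I.map (algebraMap A B)) B]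
    (hft : Algebra.FiniteType A (B ⧸ (I.map (algebraMap A B)))) (q : Ideal B) [q.IsPrime]
    (hnle : ¬ (I.map (algebraMap A B)) ≤ q) (hdim : ringKrullDim (B ⧸ q) = 1)
    (hJ : IsJacobsonRing (A ⧸ I)) : Module.Finite A (B ⧸ q) := by
  have hjac : I.map (algebraMap A B) ≤ Ideal.jacobson ⊥ := IsAdicComplete.le_jacobson_bot _
  have hHausB : IsHausdorff (I.map (algebraMap A B)) (B ⧸ q) :=
    IsHausdorff.of_le_jacobson _ _ hjac
  have hHaus : IsHausdorff I (B ⧸ q) :=
    (IsHausdorff.map_algebraMap_iff (S := B)).mp hHausB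
  apply Groth.Agent.S0544.result A I (B ⧸ q)
  -- the ideal `I_D` of `D = B ⧸ q`
  set ID : Ideal (B ⧸ q) := (I.map (algebraMap A B)).map (Ideal.Quotient.mk q) with hID
  have hsurj : Function.Surjective (Ideal.Quotient.mk ID) := Ideal.Quotient.mk_surjective
  have hIDne : ID ≠ ⊥ := by
    rw [hID, Ne, Ideal.map_eq_bot_iff_le_ker, Ideal.mk_ker]
    exact hnle
  -- `C = D ⧸ ID` is Artinian
  have h1 : Ring.KrullDimLE 1 (B ⧸ q) := by
    rw [Ring.krullDimLE_iff, hdim]; rfl
  have hdim0 : Ring.KrullDimLE 0 ((B ⧸ q) ⧸ ID) := by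
    refine Ring.KrullDimLE.mk₀ (fun P' hP' => ?_)
    have hQ : (P'.comap (Ideal.Quotient.mk ID)).IsPrime := Ideal.comap_isPrime _ _
    have hKQ : ID ≤ P'.comap (Ideal.Quotient.mk ID) := by
      intro x hx
      rw [Ideal.mem_comap, Ideal.Quotient.eq_zero_iff_mem.mpr hx]
      exact Ideal.zero_mem _
    have hQ0 : P'.comap (Ideal.Quotient.mk ID) ≠ ⊥ := by
      intro h0
      apply hIDne
      rw [eq_bot_iff, ← h0]
      exact hKQ
    have hQmax := Ring.krullDimLE_one_iff_of_noZeroDivisors.mp h1 _ hQ0 hQ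
    have hmap : (P'.comap (Ideal.Quotient.mk ID)).map (Ideal.Quotient.mk ID) = P' :=
      Ideal.map_comap_of_surjective _ hsurj P'
    rcases Ideal.map_eq_top_or_isMaximal_of_surjective _ hsurj hQmax with h | h
    · rw [hmap] at h
      exact absurd h hP'.ne_top
    · rwa [hmap] at h
  have hart : IsArtinianRing ((B ⧸ q) ⧸ ID) := IsNoetherianRing.isArtinianRing_of_krullDimLE_zero
  -- `C` is an algebra of finite type over `A ⧸ I`
  have h0 : ∀ a ∈ I, algebraMap A ((B ⧸ q) ⧸ ID) a = 0 := by
    intro a ha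
    change Ideal.Quotient.mk ID (Ideal.Quotient.mk q (algebraMap A B a)) = 0
    rw [Ideal.Quotient.eq_zero_iff_mem]
    exact Ideal.mem_map_of_mem _ (Ideal.mem_map_of_mem _ ha)
  let _ : Algebra (A ⧸ I) ((B ⧸ q) ⧸ ID) :=
    (Ideal.Quotient.lift I (algebraMap A ((B ⧸ q) ⧸ ID)) h0).toAlgebra
  have : IsScalarTower A (A ⧸ I) ((B ⧸ q) ⧸ ID) := IsScalarTower.of_algebraMap_eq (fun a => rfl)
  let ψ : (B ⧸ (I.map (algebraMap A B))) →ₐ[A] ((B ⧸ q) ⧸ ID) :=
    Ideal.Quotient.liftₐ (I.map (algebraMap A B))
      ((Ideal.Quotient.mkₐ A ID).comp (Ideal.Quotient.mkₐ A q)) (by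
        intro b hb
        change Ideal.Quotient.mk ID (Ideal.Quotient.mk q b) = 0
        rw [Ideal.Quotient.eq_zero_iff_mem]
        exact Ideal.mem_map_of_mem _ hb)
  have hψ : Function.Surjective ψ := by
    intro c
    obtain ⟨d, rfl⟩ := hsurj c
    obtain ⟨b, rfl⟩ := Ideal.Quotient.mk_surjective d
    exact ⟨Ideal.Quotient.mk _ b, rfl⟩
  have hftC : Algebra.FiniteType A ((B ⧸ q) ⧸ ID) := Algebra.FiniteType.of_surjective ψ hψ
  have hftC' : Algebra.FiniteType (A ⧸ I) ((B ⧸ q) ⧸ ID) :=
    Algebra.FiniteType.of_restrictScalars_finiteType A (A ⧸ I) _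
  have hfinC : Module.Finite (A ⧸ I) ((B ⧸ q) ⧸ ID) := Module.finite_of_isArtinianRing _ _
  have hfinC' : Module.Finite A ((B ⧸ q) ⧸ ID) := Module.Finite.trans (A ⧸ I) _
  -- transfer
  have hN : (I • ⊤ : Submodule A (B ⧸ q)) = ID.restrictScalars A := by
    rw [Ideal.smul_top_eq_map, hID, Ideal.map_map]
    rfl
  exact Module.Finite.equiv ((Submodule.quotEquivOfEq _ _ hN).trans
    (Submodule.Quotient.restrictScalarsEquiv A ID)).symm

/-- Let A be a Noetherian ring complete for the adic topology of an ideal I, and B a Noetherian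
A-algebra complete for the IB-adic topology with B/IB of finite type over A (an adic morphism,
topologically of finite type, of adic Noetherian topological rings). Let q be a prime of B which is
rig-closed (IB ⊄ q and q maximal among the primes not containing IB). If A/I is a Jacobson ring,
then the inverse image p of q in A is rig-closed: I ⊄ p and p is maximal among the primes of A not
containing I. -/
theorem result (A : Type u) [CommRing A] [IsNoetherianRing A] (I : Ideal A) [IsAdicComplete I A] (B : Type u) [CommRing B] [Algebra A B] [IsNoetherianRing B] [IsAdicComplete (I.map (algebraMap A B)) B] (hft : Algebra.FiniteType A (B ⧸ (I.map (algebraMap A B)))) (q : PrimeSpectrum B) (hq : (¬ (I.map (algebraMap A B)) ≤ q.asIdeal ∧ ∀ y : PrimeSpectrum B, q ≤ y → ¬ (I.map (algebraMap A B)) ≤ y.asIdeal → y = q)) (hJ : IsJacobsonRing (A ⧸ I)) : (¬ I ≤ (PrimeSpectrum.comap (algebraMap A B) q).asIdeal ∧ ∀ y : PrimeSpectrum A, (PrimeSpectrum.comap (algebraMap A B) q) ≤ y → ¬ I ≤ y.asIdeal → y = (PrimeSpectrum.comap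 (algebraMap A B) q)) := by
  have tfaeB := Groth.Agent.S8804.result B (I.map (algebraMap A B)) q
  have tfaeA := Groth.Agent.S8804.result A I (PrimeSpectrum.comap (algebraMap A B) q)
  obtain ⟨hdim, hnle⟩ := (tfaeB.out 0 1).mp hq
  have hfin : Module.Finite A (B ⧸ q.asIdeal) :=
    finite_quotient A I B hft q.asIdeal hnle hdim hJ
  apply (tfaeA.out 1 0).mp
  have hpq : (PrimeSpectrum.comap (algebraMap A B) q).asIdeal = q.asIdeal.comap (algebraMap A B) :=
    rfl
  refine ⟨?_, ?_⟩
  · rw [← hdim, hpq]
    have hle : q.asIdeal.comap (algebraMap A B) ≤ q.asIdeal.comap (algebraMap A B) := le_rfl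
    apply ringKrullDim_eq_of_isIntegral_of_injective
      (Ideal.quotientMap q.asIdeal (algebraMap A B) hle)
    · -- integral
      have hint : (algebraMap A (B ⧸ q.asIdeal)).IsIntegral :=
        fun x => Algebra.IsIntegral.isIntegral (R := A) x
      have hcomp : algebraMap A (B ⧸ q.asIdeal) =
          (Ideal.quotientMap q.asIdeal (algebraMap A B) hle).comp
            (Ideal.Quotient.mk (q.asIdeal.comap (algebraMap A B))) := by
        ext a
        rfl
      rw [hcomp] at hint
      exact RingHom.IsIntegral.tower_top _ _ hint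
    · exact Ideal.quotientMap_injective
  · rw [hpq, ← Ideal.map_le_iff_le_comap]
    exact hnle

end Groth.Agent.S8835
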