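import Groth.Statements.S8840
import Mathlib
import Groth.Agent.S8804
import Groth.Agent.S8835
import Groth.Agent.S8837
import Groth.Agent.S8838
import Groth.Agent.S0544
import Groth.Agent.Lib.Helper83.RigDescent
import Groth.Agent.Lib.Helper83.FlatLocalDim

set_option autoImplicit false
universe u
open AdicRing

namespace Groth.Agent.S8840

open Groth.Agent.Lib.Helper83



theorem exists_ne_zero_forall_prime (D κ : Type u) [CommRing D] [IsDomain D] [IsNoetherianRing D]
    [Field κ] [Algebra D κ] [Algebra.FiniteType D κ]
    (hinj : Function.Injective (algebraMap D κ)) :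
    ∃ f : D, f ≠ 0 ∧ ∀ P : Ideal D, P.IsPrime → f ∉ P → P = ⊥ := by
  have hft : (algebraMap D κ).FiniteType := by
    rw [RingHom.finiteType_algebraMap]
    infer_instance
  have hfp : (algebraMap D κ).FinitePresentation := RingHom.FinitePresentation.of_finiteType.mp hft
  have hcons := PrimeSpectrum.isConstructible_range_comap hfp
  have hrange : Set.range (PrimeSpectrum.comap (algebraMap D κ)) = {(⊥ : PrimeSpectrum D)} := by
    ext x
    simp only [Set.mem_range, Set.mem_singleton_iff]
    constructor
    · rintro ⟨y, rfl⟩
      apply PrimeSpectrum.ext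
      change Ideal.comap (algebraMap D κ) y.asIdeal = ⊥
      have hy : y.asIdeal = ⊥ := by
        rcases Ideal.eq_bot_or_top y.asIdeal with h | h
        · exact h
        · exact absurd h y.2.ne_top
      rw [hy, ← RingHom.ker_eq_comap_bot]
      exact (RingHom.injective_iff_ker_eq_bot _).mp hinj
    · rintro rfl
      refine ⟨⟨⊥, Ideal.isPrime_bot⟩, ?_⟩
      apply PrimeSpectrum.ext
      change Ideal.comap (algebraMap D κ) ⊥ = ⊥
      rw [← RingHom.ker_eq_comap_bot]
      exact (RingHom.injective_iff_ker_eq_bot _).mp hinj
  rw [hrange] at hcons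
  have hgen : StableUnderGeneralization ({(⊥ : PrimeSpectrum D)} : Set (PrimeSpectrum D)) := by
    intro x y hxy hx
    rw [Set.mem_singleton_iff] at hx ⊢
    subst hx
    rw [← PrimeSpectrum.le_iff_specializes] at hxy
    exact le_antisymm hxy bot_le
  have hopen := PrimeSpectrum.isOpen_of_stableUnderGeneralization_of_isConstructible hgen hcons
  obtain ⟨v, ⟨f, rfl⟩, hfmem, hfsub⟩ :=
    PrimeSpectrum.isTopologicalBasis_basic_opens.exists_subset_of_mem_open
      (Set.mem_singleton (⊥ : PrimeSpectrum D)) hopen
  refine ⟨f, ?_, ?_⟩
  · intro h0
    subst h0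
    simp at hfmem
  · intro P hP hfP
    have : (⟨P, hP⟩ : PrimeSpectrum D) ∈ ({(⊥ : PrimeSpectrum D)} : Set (PrimeSpectrum D)) :=
      hfsub hfP
    rw [Set.mem_singleton_iff] at this
    exact congrArg PrimeSpectrum.asIdeal this


/-- From finiteness of `B ⧸ (I B + Q)` to finiteness of `(B ⧸ Q) ⧸ I (B ⧸ Q)`. -/
theorem finite_quot_smul' (A : Type u) [CommRing A] (I : Ideal A) (B : Type u) [CommRing B]
    [Algebra A B] (Q : Ideal B)
    [h : Module.Finite A (B ⧸ (I.map (algebraMap A B) ⊔ Q))] :
    Module.Finite A ((B ⧸ Q) ⧸ (I • ⊤ : Submodule A (B ⧸ Q))) := by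
  set K : Ideal B := I.map (algebraMap A B) ⊔ Q with hK
  let π : B →ₗ[A] ((B ⧸ Q) ⧸ (I • ⊤ : Submodule A (B ⧸ Q))) :=
    (Submodule.mkQ _) ∘ₗ (Ideal.Quotient.mkₐ A Q).toLinearMap
  have hπs : Function.Surjective π :=
    (Submodule.mkQ_surjective _).comp Ideal.Quotient.mk_surjective
  have hker : K.restrictScalars A ≤ LinearMap.ker π := by
    intro x hx
    rw [LinearMap.mem_ker]
    change Submodule.Quotient.mk (Ideal.Quotient.mk Q x) = 0
    rw [Submodule.Quotient.mk_eq_zero, Ideal.smul_top_eq_map, Submodule.restrictScalars_mem]
    have h1 : Ideal.Quotient.mk Q x ∈ K.map (Ideal.Quotient.mk Q) := Ideal.mem_map_of_mem _ hx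
    rw [hK, Ideal.map_sup, Ideal.map_quotient_self, sup_bot_eq, Ideal.map_map] at h1
    exact h1
  have h2 : Module.Finite A (B ⧸ K.restrictScalars A) :=
    Module.Finite.equiv (Submodule.Quotient.restrictScalarsEquiv A K).symm
  refine Module.Finite.of_surjective (Submodule.liftQ (K.restrictScalars A) π hker) ?_
  rw [← LinearMap.range_eq_top, Submodule.range_liftQ, LinearMap.range_eq_top]
  exact hπs

/-- An Artinian algebra all of whose residue fields are finite over `R` is finite over `R`. -/
theorem finite_of_forall_maximal (R C : Type*) [CommRing R] [CommRing C] [Algebra R C]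
    [IsArtinianRing C] (h : ∀ Q : Ideal C, Q.IsMaximal → Module.Finite R (C ⧸ Q)) :
    Module.Finite R C := by
  have h1 : Module.Finite R (C ⧸ Ring.jacobson C) := by
    have hQ (Q : MaximalSpectrum (C ⧸ Ring.jacobson C)) :
        Module.Finite R ((C ⧸ Ring.jacobson C) ⧸ Q.asIdeal) := by
      have hmax : (Q.asIdeal.comap (Ideal.Quotient.mk (Ring.jacobson C))).IsMaximal :=
        Ideal.comap_isMaximal_of_surjective _ Ideal.Quotient.mk_surjective
      have := h _ hmax
      let g : (C ⧸ Q.asIdeal.comap (Ideal.Quotient.mk (Ring.jacobson C))) →ₐ[R]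
          ((C ⧸ Ring.jacobson C) ⧸ Q.asIdeal) :=
        Ideal.quotientMapₐ Q.asIdeal (Ideal.Quotient.mkₐ R (Ring.jacobson C)) le_rfl
      refine Module.Finite.of_surjective g.toLinearMap ?_
      intro x
      obtain ⟨x, rfl⟩ := Ideal.Quotient.mk_surjective x
      obtain ⟨x, rfl⟩ := Ideal.Quotient.mk_surjective x
      exact ⟨Ideal.Quotient.mk _ x, rfl⟩
    exact .equiv ((IsArtinianRing.equivPi (C ⧸ Ring.jacobson C)).restrictScalars R).toLinearEquiv.symm
  exact IsSemiprimaryRing.finite_of_isArtinian R C C

/-- A residue field of a finite type algebra lying over a maximal ideal is finite. -/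
theorem finite_quotient_of_isMaximal_comap (R S : Type*) [CommRing R] [CommRing S] [Algebra R S]
    [Algebra.FiniteType R S] (Q : Ideal S) [Q.IsMaximal]
    (hP : (Q.comap (algebraMap R S)).IsMaximal) : Module.Finite R (S ⧸ Q) := by
  let _ := Ideal.Quotient.field (Q.comap (algebraMap R S))
  let _ := Ideal.Quotient.field Q
  have : Algebra.FiniteType R (S ⧸ Q) :=
    Algebra.FiniteType.of_surjective (Ideal.Quotient.mkₐ R Q) Ideal.Quotient.mk_surjective
  have : Algebra.FiniteType (R ⧸ Q.comap (algebraMap R S)) (S ⧸ Q) :=
    Algebra.FiniteType.of_restrictScalars_finiteType R _ _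
  have : Module.Finite (R ⧸ Q.comap (algebraMap R S)) (S ⧸ Q) :=
    finite_of_finite_type_of_isJacobsonRing _ _
  exact Module.Finite.trans (R ⧸ Q.comap (algebraMap R S)) (S ⧸ Q)

/-- Generalization of `S8835` without the Jacobson hypothesis: it suffices that the maximal
ideals over `q` contract to maximal ideals. -/
theorem rigClosed_comap_of_isMaximal_comap (A : Type u) [CommRing A] [IsNoetherianRing A]
    (I : Ideal A) [IsAdicComplete I A] (B : Type u) [CommRing B] [Algebra A B]
    [IsNoetherianRing B] (hjac : I.map (algebraMap A B) ≤ Ideal.jacobson ⊥)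
    (hft : Algebra.FiniteType A (B ⧸ (I.map (algebraMap A B)))) (q : Ideal B) [q.IsPrime]
    (hnle : ¬ (I.map (algebraMap A B)) ≤ q) (hdim : ringKrullDim (B ⧸ q) = 1)
    (hmax : ∀ Q : Ideal B, Q.IsMaximal → q ≤ Q → (Q.comap (algebraMap A B)).IsMaximal) :
    ¬ I ≤ q.comap (algebraMap A B) ∧ ∀ y : PrimeSpectrum A, q.comap (algebraMap A B) ≤ y.asIdeal →
      ¬ I ≤ y.asIdeal → y.asIdeal = q.comap (algebraMap A B) := by
  -- finiteness of `B ⧸ q`
  have hHausB : IsHausdorff (I.map (algebraMap A B)) (B ⧸ q) :=
    IsHausdorff.of_le_jacobson _ _ hjac
  have hHaus : IsHausdorff I (B ⧸ q) :=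
    (IsHausdorff.map_algebraMap_iff (S := B)).mp hHausB
  have hart : IsArtinianRing (B ⧸ (I.map (algebraMap A B) ⊔ q)) :=
    Groth.Agent.S8838.isArtinianRing_quot_sup B (I.map (algebraMap A B)) q hdim hnle
  have hftC : Algebra.FiniteType A (B ⧸ (I.map (algebraMap A B) ⊔ q)) :=
    Algebra.FiniteType.of_surjective
      (Ideal.Quotient.factorₐ A
        (le_sup_left : I.map (algebraMap A B) ≤ I.map (algebraMap A B) ⊔ q))
      (Ideal.Quotient.factor_surjective
        (le_sup_left : I.map (algebraMap A B) ≤ I.map (algebraMap A B) ⊔ q))
  have hfinC : Module.Finite A (B ⧸ (I.map (algebraMap A B) ⊔ q)) := by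
    apply finite_of_forall_maximal
    intro Q hQ
    apply finite_quotient_of_isMaximal_comap
    -- the contraction of `Q` to `A`
    have hQB : (Q.comap (Ideal.Quotient.mk (I.map (algebraMap A B) ⊔ q))).IsMaximal :=
      Ideal.comap_isMaximal_of_surjective _ Ideal.Quotient.mk_surjective
    have hle : q ≤ Q.comap (Ideal.Quotient.mk (I.map (algebraMap A B) ⊔ q)) := by
      intro x hx
      rw [Ideal.mem_comap, Ideal.Quotient.eq_zero_iff_mem.mpr (le_sup_right (a := I.map (algebraMap A B)) hx)]
      exact Q.zero_mem
    have := hmax _ hQB hle
    rw [Ideal.comap_comap] at this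
    exact this
  have hfin2 : Module.Finite A ((B ⧸ q) ⧸ (I • ⊤ : Submodule A (B ⧸ q))) :=
    finite_quot_smul' A I B q
  have hfin : Module.Finite A (B ⧸ q) := Groth.Agent.S0544.result A I (B ⧸ q) hfin2
  -- dimension
  have hle : q.comap (algebraMap A B) ≤ q.comap (algebraMap A B) := le_rfl
  have hdimA : ringKrullDim (A ⧸ q.comap (algebraMap A B)) = 1 := by
    rw [← hdim]
    apply Groth.Agent.S8835.ringKrullDim_eq_of_isIntegral_of_injective
      (Ideal.quotientMap q (algebraMap A B) hle)
    · have hint : (algebraMap A (B ⧸ q)).IsIntegral :=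
        fun x => Algebra.IsIntegral.isIntegral (R := A) x
      have hcomp : algebraMap A (B ⧸ q) =
          (Ideal.quotientMap q (algebraMap A B) hle).comp
            (Ideal.Quotient.mk (q.comap (algebraMap A B))) := by
        ext a; rfl
      rw [hcomp] at hint
      exact RingHom.IsIntegral.tower_top _ _ hint
    · exact Ideal.quotientMap_injective
  have hnleA : ¬ I ≤ q.comap (algebraMap A B) := by
    intro h
    exact hnle (Ideal.map_le_iff_le_comap.mpr h)
  have tfae := Groth.Agent.S8804.result A I ⟨q.comap (algebraMap A B), inferInstance⟩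
  have h1 : ¬ I ≤ q.comap (algebraMap A B) ∧ ∀ y : PrimeSpectrum A,
      (⟨q.comap (algebraMap A B), inferInstance⟩ : PrimeSpectrum A) ≤ y → ¬ I ≤ y.asIdeal →
        y = ⟨q.comap (algebraMap A B), inferInstance⟩ :=
    (tfae.out 1 0).mp (And.intro hdimA hnleA)
  refine ⟨h1.1, fun y hy hIy => ?_⟩
  have := h1.2 y hy hIy
  rw [this]

/-- choice of `f` -/
theorem exists_f (A B : Type u) [CommRing A] [IsNoetherianRing A] [CommRing B] [Algebra A B]
    (M : Ideal B) [hM : M.IsMaximal] [Algebra.FiniteType A (B ⧸ M)] :
    ∃ f : A, f ∉ M.comap (algebraMap A B) ∧ ∀ P : Ideal A, P.IsPrime →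
      M.comap (algebraMap A B) ≤ P → f ∉ P → P = M.comap (algebraMap A B) := by
  let _ := Ideal.Quotient.field M
  have : Algebra.FiniteType (A ⧸ M.comap (algebraMap A B)) (B ⧸ M) :=
    Algebra.FiniteType.of_restrictScalars_finiteType A _ _
  have hinj : Function.Injective (algebraMap (A ⧸ M.comap (algebraMap A B)) (B ⧸ M)) :=
    Ideal.algebraMap_quotient_injective
  obtain ⟨fbar, hf0, hfP⟩ := exists_ne_zero_forall_prime (A ⧸ M.comap (algebraMap A B)) (B ⧸ M) hinj
  obtain ⟨f, rfl⟩ := Ideal.Quotient.mk_surjective fbar
  refine ⟨f, fun hf => hf0 (Ideal.Quotient.eq_zero_iff_mem.mpr hf), ?_⟩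
  intro P hP hle hfP'
  have hprime : (P.map (Ideal.Quotient.mk (M.comap (algebraMap A B)))).IsPrime :=
    Ideal.map_isPrime_of_surjective Ideal.Quotient.mk_surjective (by rwa [Ideal.mk_ker])
  have hcm : (P.map (Ideal.Quotient.mk (M.comap (algebraMap A B)))).comap
      (Ideal.Quotient.mk (M.comap (algebraMap A B))) = P := by
    rw [Ideal.comap_map_of_surjective _ Ideal.Quotient.mk_surjective, ← RingHom.ker_eq_comap_bot,
      Ideal.mk_ker]
    exact sup_eq_left.2 hle
  have hnot : Ideal.Quotient.mk (M.comap (algebraMap A B)) f ∉
      P.map (Ideal.Quotient.mk (M.comap (algebraMap A B))) := by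
    intro h
    apply hfP'
    rw [← hcm]
    exact h
  have h0 := hfP _ hprime hnot
  rw [Ideal.map_eq_bot_iff_le_ker, Ideal.mk_ker] at h0
  exact le_antisymm h0 hle

/-- primes strictly above a prime with one-dimensional quotient are maximal -/
theorem isMaximal_of_lt (B : Type u) [CommRing B] (q Q : Ideal B) [q.IsPrime] [hQ : Q.IsPrime]
    (hdim : ringKrullDim (B ⧸ q) = 1) (hle : q ≤ Q) (hne : ¬ Q ≤ q) : Q.IsMaximal := by
  have h1 : Ring.KrullDimLE 1 (B ⧸ q) := by
    rw [Ring.krullDimLE_iff, hdim]; rfl
  have hP'prime : (Q.map (Ideal.Quotient.mk q)).IsPrime :=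
    Ideal.map_isPrime_of_surjective Ideal.Quotient.mk_surjective (by rwa [Ideal.mk_ker])
  have hP'ne : Q.map (Ideal.Quotient.mk q) ≠ ⊥ := by
    intro h0
    rw [Ideal.map_eq_bot_iff_le_ker, Ideal.mk_ker] at h0
    exact hne h0
  have hP'max : (Q.map (Ideal.Quotient.mk q)).IsMaximal :=
    Ideal.IsPrime.isMaximal_of_ne_bot hP'prime hP'ne
  have hcm : (Q.map (Ideal.Quotient.mk q)).comap (Ideal.Quotient.mk q) = Q := by
    rw [Ideal.comap_map_of_surjective _ Ideal.Quotient.mk_surjective, ← RingHom.ker_eq_comap_bot,
      Ideal.mk_ker]
    exact sup_eq_left.2 hle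
  rw [← hcm]
  exact Ideal.comap_isMaximal_of_surjective _ Ideal.Quotient.mk_surjective

/-- uniqueness of the maximal ideal over a rig-closed prime -/
theorem eq_of_isMaximal_of_le (B : Type u) [CommRing B] (q : Ideal B) (J : Ideal (B ⧸ q))
    (h : ∀ m : Ideal (B ⧸ q), m.IsMaximal → m = J)
    (M₁ M₂ : Ideal B) (h₁ : M₁.IsMaximal) (h₂ : M₂.IsMaximal) (hq₁ : q ≤ M₁) (hq₂ : q ≤ M₂) :
    M₁ = M₂ := by
  have hm₁ : (M₁.map (Ideal.Quotient.mk q)).IsMaximal :=
    Ideal.IsMaximal.map_of_surjective_of_ker_le Ideal.Quotient.mk_surjective
      (by rwa [Ideal.mk_ker])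
  have hm₂ : (M₂.map (Ideal.Quotient.mk q)).IsMaximal :=
    Ideal.IsMaximal.map_of_surjective_of_ker_le Ideal.Quotient.mk_surjective
      (by rwa [Ideal.mk_ker])
  have heq : M₁.map (Ideal.Quotient.mk q) = M₂.map (Ideal.Quotient.mk q) :=
    (h _ hm₁).trans (h _ hm₂).symm
  have hc : ∀ M : Ideal B, q ≤ M → (M.map (Ideal.Quotient.mk q)).comap (Ideal.Quotient.mk q) = M := by
    intro M hM
    rw [Ideal.comap_map_of_surjective _ Ideal.Quotient.mk_surjective, ← RingHom.ker_eq_comap_bot,
      Ideal.mk_ker]
    exact sup_eq_left.2 hM
  rw [← hc M₁ hq₁, ← hc M₂ hq₂, heq]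

/-- A prime of the completed localization `A_{f}` contracting to `𝔫` is maximal when `𝔫` is
maximal among the primes of `A` avoiding `f`. -/
theorem isMaximal_of_comap_eq (A : Type u) [CommRing A] [IsNoetherianRing A] (I : Ideal A) (f : A)
    (𝔫 : Ideal A) (hI𝔫 : I ≤ 𝔫)
    (hstar : ∀ P : Ideal A, P.IsPrime → 𝔫 ≤ P → f ∉ P → P = 𝔫)
    (P : Ideal (AdicCompletion (I.map (algebraMap A (Localization.Away f))) (Localization.Away f)))
    [hP : P.IsPrime]
    (hPc : P.comap (algebraMap A (AdicCompletion (I.map (algebraMap A (Localization.Away f)))
      (Localization.Away f))) = 𝔫) : P.IsMaximal := by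
  obtain ⟨P', hP'max, hPP'⟩ := Ideal.exists_le_maximal P hP.ne_top
  have hP'prime : P'.IsPrime := hP'max.isPrime
  have hfunit : IsUnit (algebraMap A (AdicCompletion (I.map (algebraMap A (Localization.Away f)))
      (Localization.Away f)) f) := by
    have h3 : algebraMap A (AdicCompletion (I.map (algebraMap A (Localization.Away f)))
          (Localization.Away f)) f = algebraMap (Localization.Away f) (AdicCompletion
          (I.map (algebraMap A (Localization.Away f))) (Localization.Away f))
          (algebraMap A (Localization.Away f) f) := rfl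
    rw [h3]
    exact (IsLocalization.Away.algebraMap_isUnit f).map _
  have hP'c : P'.comap (algebraMap A (AdicCompletion (I.map (algebraMap A (Localization.Away f)))
      (Localization.Away f))) = 𝔫 := by
    apply hstar _ (Ideal.IsPrime.comap _)
    · rw [← hPc]
      exact Ideal.comap_mono hPP'
    · intro hf
      exact hP'prime.ne_top (Ideal.eq_top_of_isUnit_mem _ hf hfunit)
  have hJ : ∀ Q : Ideal (AdicCompletion (I.map (algebraMap A (Localization.Away f)))
      (Localization.Away f)), Q.comap (algebraMap A _) = 𝔫 →
      (I.map (algebraMap A (Localization.Away f))).map (algebraMap (Localization.Away f) _) ≤ Q := by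
    intro Q hQ
    rw [Ideal.map_map, Ideal.map_le_iff_le_comap]
    exact hI𝔫.trans hQ.ge
  have hc : ∀ Q : Ideal (AdicCompletion (I.map (algebraMap A (Localization.Away f)))
      (Localization.Away f)), Q.comap (algebraMap A _) = 𝔫 →
      Q.comap (algebraMap (Localization.Away f) _) = 𝔫.map (algebraMap A (Localization.Away f)) := by
    intro Q hQ
    rw [← IsLocalization.map_comap (Submonoid.powers f) (Localization.Away f)
      (Q.comap (algebraMap (Localization.Away f) _))]
    congr 1
  have hle : P' ≤ P := RigDescent.le_of_comap_le _ P' P (hJ P' hP'c) (hJ P hPc)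
    (by rw [hc P' hP'c, hc P hPc])
  rw [le_antisymm hPP' hle]
  exact hP'max


/-- the ideal of definition of the completed localization -/
theorem map_map_away (B : Type u) [CommRing B] (K : Ideal B) (g : B) :
    (K.map (algebraMap B (Localization.Away g))).map (algebraMap (Localization.Away g)
      (AdicCompletion (K.map (algebraMap B (Localization.Away g))) (Localization.Away g))) =
    K.map (algebraMap B (AdicCompletion (K.map (algebraMap B (Localization.Away g)))
      (Localization.Away g))) := by
  rw [Ideal.map_map]
  rfl

/-- Let A be a Noetherian ring complete for the adic topology of an ideal I, and B a Noetherian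
A-algebra complete for the IB-adic topology with B/IB of finite type over A (an adic morphism,
topologically of finite type, of adic Noetherian topological rings). Let q be a prime of B which is
rig-closed (IB ⊄ q and q maximal among the primes not containing IB). Then there exists f ∈ A which
maps to a unit in B/q such that the following holds. Let A_{f} and B_{f} be the completed principal
localizations (the I-adic completions of A_f and B_f) and ψ : A_{f} → B_{f} the canonical map,
characterised here as any ring map compatible with A_f → B_f (there is exactly one). Then the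
inverse image p' under ψ of the ideal q' = q B_{f} is a rig-closed prime of A_{f}: p' is prime, I
A_{f} ⊄ p', and p' is maximal among the primes of A_{f} not containing I A_{f}. (That q B_{f} is
itself prime with quotient B/q holds because f is a unit modulo q; it is not restated.) -/
theorem result (A : Type u) [CommRing A] [IsNoetherianRing A] (I : Ideal A) [IsAdicComplete I A] (B : Type u) [CommRing B] [Algebra A B] [IsNoetherianRing B] [IsAdicComplete (I.map (algebraMap A B)) B] (hft : Algebra.FiniteType A (B ⧸ (I.map (algebraMap A B)))) (q : PrimeSpectrum B) (hq : (¬ (I.map (algebraMap A B)) ≤ q.asIdeal ∧ ∀ y : PrimeSpectrum B, q ≤ y → ¬ (I.map (algebraMap A B)) ≤ y.asIdeal → y = q)) : ∃ f : A, IsUnit (Ideal.Quotient.mk q.asIdeal (algebraMap A B f)) ∧ ∀ ψ : (AdicCompletion (I.map (algebraMap A (Localization.Away f))) (Localization.Away f)) →+* (AdicCompletion ((I.map (algebraMap A B)).map (algebraMap B (Localization.Away (algebraMap A B f)))) (Localization.Away (algebraMap A B f))), ψ.comp (algebraMap (Localization.Away f) (AdicCompletion (I.map (algebraMap A (Localization.Away f))) (Localization.Away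 f))) = (algebraMap (Localization.Away (algebraMap A B f)) (AdicCompletion ((I.map (algebraMap A B)).map (algebraMap B (Localization.Away (algebraMap A B f)))) (Localization.Away (algebraMap A B f)))).comp (Localization.awayMap (algebraMap A B) f) → (((q.asIdeal.map (algebraMap B (AdicCompletion ((I.map (algebraMap A B)).map (algebraMap B (Localization.Away (algebraMap A B f)))) (Localization.Away (algebraMap A B f))))).comap ψ).IsPrime ∧ ¬ (I.map (algebraMap A (AdicCompletion (I.map (algebraMap A (Localization.Away f))) (Localization.Away f)))) ≤ ((q.asIdeal.map (algebraMap B (AdicCompletion ((I.map (algebraMap A B)).map (algebraMap B (Localization.Away (algebraMap A B f)))) (Localization.Away (algebraMap A B f))))).comap ψ) ∧ ∀ y : PrimeSpectrum (AdicCompletion (I.map (algebraMap A (Localization.Away f))) (Localization.Away f)), ((q.asIdeal.map (algebraMap B (AdicCompletion ((I.map (algebraMap A B)).map (algebraMap B (Localization.Away (algebraMap A B f)))) (Localization.Away (algebraMap A B f))))).comap ψ) ≤ y.asIdeal → ¬ (I.map (algebraMap A (AdicCompletion (I.map (algebraMap A (Localization.Away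 f))) (Localization.Away f)))) ≤ y.asIdeal → y.asIdeal = ((q.asIdeal.map (algebraMap B (AdicCompletion ((I.map (algebraMap A B)).map (algebraMap B (Localization.Away (algebraMap A B f)))) (Localization.Away (algebraMap A B f))))).comap ψ)) := by
  classical
  have tB := Groth.Agent.S8804.result B (I.map (algebraMap A B)) q
  obtain ⟨hdim, hnle⟩ := (tB.out 0 1).mp hq
  have h3 := (tB.out 0 2).mp hq
  obtain ⟨M, hMmax, hqM⟩ := Ideal.exists_le_maximal q.asIdeal q.2.ne_top
  have hIM : (I.map (algebraMap A B)) ≤ M :=
    (IsAdicComplete.le_jacobson_bot _).trans (sInf_le ⟨bot_le, hMmax⟩)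
  have hftM : Algebra.FiniteType A (B ⧸ M) :=
    Algebra.FiniteType.of_surjective (Ideal.Quotient.factorₐ A hIM)
      (Ideal.Quotient.factor_surjective hIM)
  obtain ⟨f, hf𝔫, hstar⟩ := exists_f A B M
  have hI𝔫 : I ≤ M.comap (algebraMap A B) := Ideal.map_le_iff_le_comap.mp hIM
  have hunit : IsUnit (Ideal.Quotient.mk q.asIdeal (algebraMap A B f)) := by
    by_contra hnu
    obtain ⟨m, hm, hfm⟩ := exists_max_ideal_of_mem_nonunits (mem_nonunits_iff.mpr hnu)
    have hM' : (m.comap (Ideal.Quotient.mk q.asIdeal)).IsMaximal :=
      Ideal.comap_isMaximal_of_surjective _ Ideal.Quotient.mk_surjective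
    have hqM' : q.asIdeal ≤ m.comap (Ideal.Quotient.mk q.asIdeal) := by
      intro x hx
      rw [Ideal.mem_comap, Ideal.Quotient.eq_zero_iff_mem.mpr hx]
      exact m.zero_mem
    have hMM := eq_of_isMaximal_of_le B q.asIdeal _ h3.2.1 _ M hM' hMmax hqM' hqM
    apply hf𝔫
    rw [Ideal.mem_comap, ← hMM]
    exact hfm
  refine ⟨f, hunit, ?_⟩
  intro ψ hψ
  obtain ⟨hqhat, hbij⟩ := Groth.Agent.S8837.result B (I.map (algebraMap A B)) q.asIdeal (algebraMap A B f) hunit
  let _ : Algebra (AdicCompletion (I.map (algebraMap A (Localization.Away f))) (Localization.Away f)) (AdicCompletion ((I.map (algebraMap A B)).map (algebraMap B (Localization.Away (algebraMap A B f)))) (Localization.Away (algebraMap A B f))) := ψ.toAlgebra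
  -- compatibility
  have hcomp : ψ.comp (algebraMap A (AdicCompletion (I.map (algebraMap A (Localization.Away f))) (Localization.Away f))) = (algebraMap B (AdicCompletion ((I.map (algebraMap A B)).map (algebraMap B (Localization.Away (algebraMap A B f)))) (Localization.Away (algebraMap A B f)))).comp (algebraMap A B) := by
    refine RingHom.ext fun a => ?_
    have h1 := RingHom.congr_fun hψ (algebraMap A (Localization.Away f) a)
    simp only [RingHom.comp_apply] at h1 ⊢
    rw [AdicCompletion.algebraMap_apply, AdicCompletion.algebraMap_apply]
    have h2 : Localization.awayMap (algebraMap A B) f (algebraMap A (Localization.Away f) a) =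
        algebraMap B (Localization.Away (algebraMap A B f)) (algebraMap A B a) := by
      simp [Localization.awayMap, IsLocalization.Away.map]
    rw [h2] at h1
    exact h1
  have hN1 : IsNoetherianRing (AdicCompletion (I.map (algebraMap A (Localization.Away f))) (Localization.Away f)) := isNoetherianRing_adicCompletion _
  have hN2 : IsNoetherianRing (AdicCompletion ((I.map (algebraMap A B)).map (algebraMap B (Localization.Away (algebraMap A B f)))) (Localization.Away (algebraMap A B f))) := isNoetherianRing_adicCompletion _
  have hC1 : IsAdicComplete (I.map (algebraMap A (AdicCompletion (I.map (algebraMap A (Localization.Away f))) (Localization.Away f)))) (AdicCompletion (I.map (algebraMap A (Localization.Away f))) (Localization.Away f)) := by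
    have h1 := AdicCompletion.isAdicComplete_self (I.map (algebraMap A (Localization.Away f))) (Ideal.fg_of_isNoetherianRing _)
    rw [map_map_away A I f] at h1
    exact h1
  have hKmap : (I.map (algebraMap A (AdicCompletion (I.map (algebraMap A (Localization.Away f))) (Localization.Away f)))).map (algebraMap (AdicCompletion (I.map (algebraMap A (Localization.Away f))) (Localization.Away f)) (AdicCompletion ((I.map (algebraMap A B)).map (algebraMap B (Localization.Away (algebraMap A B f)))) (Localization.Away (algebraMap A B f)))) = (I.map (algebraMap A B)).map (algebraMap B (AdicCompletion ((I.map (algebraMap A B)).map (algebraMap B (Localization.Away (algebraMap A B f)))) (Localization.Away (algebraMap A B f)))) := by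
    calc (I.map (algebraMap A (AdicCompletion (I.map (algebraMap A (Localization.Away f))) (Localization.Away f)))).map ψ = I.map (ψ.comp (algebraMap A (AdicCompletion (I.map (algebraMap A (Localization.Away f))) (Localization.Away f)))) := Ideal.map_map _ _
      _ = I.map ((algebraMap B (AdicCompletion ((I.map (algebraMap A B)).map (algebraMap B (Localization.Away (algebraMap A B f)))) (Localization.Away (algebraMap A B f)))).comp (algebraMap A B)) := by rw [hcomp]
      _ = (I.map (algebraMap A B)).map (algebraMap B (AdicCompletion ((I.map (algebraMap A B)).map (algebraMap B (Localization.Away (algebraMap A B f)))) (Localization.Away (algebraMap A B f)))) := (Ideal.map_map _ _).symm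
  have hjac : (I.map (algebraMap A (AdicCompletion (I.map (algebraMap A (Localization.Away f))) (Localization.Away f)))).map (algebraMap (AdicCompletion (I.map (algebraMap A (Localization.Away f))) (Localization.Away f)) (AdicCompletion ((I.map (algebraMap A B)).map (algebraMap B (Localization.Away (algebraMap A B f)))) (Localization.Away (algebraMap A B f)))) ≤ Ideal.jacobson ⊥ := by
    rw [hKmap]
    have h1 := AdicCompletion.isAdicComplete_self ((I.map (algebraMap A B)).map (algebraMap B (Localization.Away (algebraMap A B f)))) (Ideal.fg_of_isNoetherianRing _)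
    have h2 := IsAdicComplete.le_jacobson_bot (((I.map (algebraMap A B)).map (algebraMap B (Localization.Away (algebraMap A B f)))).map (algebraMap (Localization.Away (algebraMap A B f)) (AdicCompletion ((I.map (algebraMap A B)).map (algebraMap B (Localization.Away (algebraMap A B f)))) (Localization.Away (algebraMap A B f)))))
    rw [map_map_away B (I.map (algebraMap A B)) (algebraMap A B f)] at h2
    exact h2
  have hnle' : ¬ (I.map (algebraMap A (AdicCompletion (I.map (algebraMap A (Localization.Away f))) (Localization.Away f)))).map (algebraMap (AdicCompletion (I.map (algebraMap A (Localization.Away f))) (Localization.Away f)) (AdicCompletion ((I.map (algebraMap A B)).map (algebraMap B (Localization.Away (algebraMap A B f)))) (Localization.Away (algebraMap A B f)))) ≤ (q.asIdeal.map (algebraMap B (AdicCompletion ((I.map (algebraMap A B)).map (algebraMap B (Localization.Away (algebraMap A B f)))) (Localization.Away (algebraMap A B f))))) := by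
    rw [hKmap]
    intro hle
    apply hnle
    intro b hb
    have h1 : algebraMap B (AdicCompletion ((I.map (algebraMap A B)).map (algebraMap B (Localization.Away (algebraMap A B f)))) (Localization.Away (algebraMap A B f))) b ∈ (q.asIdeal.map (algebraMap B (AdicCompletion ((I.map (algebraMap A B)).map (algebraMap B (Localization.Away (algebraMap A B f)))) (Localization.Away (algebraMap A B f))))) := hle (Ideal.mem_map_of_mem _ hb)
    have h2 : Ideal.quotientMap (q.asIdeal.map (algebraMap B (AdicCompletion ((I.map (algebraMap A B)).map (algebraMap B (Localization.Away (algebraMap A B f)))) (Localization.Away (algebraMap A B f))))) (algebraMap B (AdicCompletion ((I.map (algebraMap A B)).map (algebraMap B (Localization.Away (algebraMap A B f)))) (Localization.Away (algebraMap A B f)))) Ideal.le_comap_map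
        (Ideal.Quotient.mk q.asIdeal b) = 0 := by
      rw [Ideal.quotientMap_mk, Ideal.Quotient.eq_zero_iff_mem]
      exact h1
    have h3' := hbij.1 (h2.trans (map_zero _).symm)
    exact Ideal.Quotient.eq_zero_iff_mem.mp h3'
  have hdim' : ringKrullDim ((AdicCompletion ((I.map (algebraMap A B)).map (algebraMap B (Localization.Away (algebraMap A B f)))) (Localization.Away (algebraMap A B f))) ⧸ (q.asIdeal.map (algebraMap B (AdicCompletion ((I.map (algebraMap A B)).map (algebraMap B (Localization.Away (algebraMap A B f)))) (Localization.Away (algebraMap A B f)))))) = 1 := by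
    rw [← hdim]
    exact (ringKrullDim_eq_of_ringEquiv (RingEquiv.ofBijective _ hbij)).symm
  -- (Z1) finite type
  have hftX : Algebra.FiniteType (AdicCompletion (I.map (algebraMap A (Localization.Away f))) (Localization.Away f)) ((AdicCompletion ((I.map (algebraMap A B)).map (algebraMap B (Localization.Away (algebraMap A B f)))) (Localization.Away (algebraMap A B f))) ⧸ ((I.map (algebraMap A (AdicCompletion (I.map (algebraMap A (Localization.Away f))) (Localization.Away f)))).map (algebraMap (AdicCompletion (I.map (algebraMap A (Localization.Away f))) (Localization.Away f)) (AdicCompletion ((I.map (algebraMap A B)).map (algebraMap B (Localization.Away (algebraMap A B f)))) (Localization.Away (algebraMap A B f)))))) := by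
    have tw1 : IsScalarTower B (Localization.Away (algebraMap A B f)) (AdicCompletion ((I.map (algebraMap A B)).map (algebraMap B (Localization.Away (algebraMap A B f)))) (Localization.Away (algebraMap A B f))) := IsScalarTower.of_algebraMap_eq (fun a => rfl)
    have hftB : Algebra.FiniteType B ((AdicCompletion ((I.map (algebraMap A B)).map (algebraMap B (Localization.Away (algebraMap A B f)))) (Localization.Away (algebraMap A B f))) ⧸ ((I.map (algebraMap A (AdicCompletion (I.map (algebraMap A (Localization.Away f))) (Localization.Away f)))).map (algebraMap (AdicCompletion (I.map (algebraMap A (Localization.Away f))) (Localization.Away f)) (AdicCompletion ((I.map (algebraMap A B)).map (algebraMap B (Localization.Away (algebraMap A B f)))) (Localization.Away (algebraMap A B f)))))) := by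
      let φ : (Localization.Away (algebraMap A B f)) →ₐ[B] ((AdicCompletion ((I.map (algebraMap A B)).map (algebraMap B (Localization.Away (algebraMap A B f)))) (Localization.Away (algebraMap A B f))) ⧸ ((I.map (algebraMap A (AdicCompletion (I.map (algebraMap A (Localization.Away f))) (Localization.Away f)))).map (algebraMap (AdicCompletion (I.map (algebraMap A (Localization.Away f))) (Localization.Away f)) (AdicCompletion ((I.map (algebraMap A B)).map (algebraMap B (Localization.Away (algebraMap A B f)))) (Localization.Away (algebraMap A B f)))))) :=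
        (Ideal.Quotient.mkₐ B _).comp (IsScalarTower.toAlgHom B (Localization.Away (algebraMap A B f)) (AdicCompletion ((I.map (algebraMap A B)).map (algebraMap B (Localization.Away (algebraMap A B f)))) (Localization.Away (algebraMap A B f))))
      apply Algebra.FiniteType.of_surjective φ
      intro x
      obtain ⟨x, rfl⟩ := Ideal.Quotient.mk_surjective x
      obtain ⟨a, ha⟩ := FlatCompl.exists_sub_of_mem ((I.map (algebraMap A B)).map (algebraMap B (Localization.Away (algebraMap A B f)))) 1 x
      refine ⟨a, ?_⟩
      change Ideal.Quotient.mk _ (algebraMap _ _ a) = Ideal.Quotient.mk _ x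
      rw [eq_comm, Ideal.Quotient.eq, hKmap, ← map_map_away B (I.map (algebraMap A B)) (algebraMap A B f)]
      rw [pow_one, Ideal.smul_top_eq_map] at ha
      exact ha
    have h0 : ∀ b ∈ (I.map (algebraMap A B)), algebraMap B ((AdicCompletion ((I.map (algebraMap A B)).map (algebraMap B (Localization.Away (algebraMap A B f)))) (Localization.Away (algebraMap A B f))) ⧸ ((I.map (algebraMap A (AdicCompletion (I.map (algebraMap A (Localization.Away f))) (Localization.Away f)))).map (algebraMap (AdicCompletion (I.map (algebraMap A (Localization.Away f))) (Localization.Away f)) (AdicCompletion ((I.map (algebraMap A B)).map (algebraMap B (Localization.Away (algebraMap A B f)))) (Localization.Away (algebraMap A B f)))))) b = 0 := by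
      intro b hb
      change Ideal.Quotient.mk _ (algebraMap B (AdicCompletion ((I.map (algebraMap A B)).map (algebraMap B (Localization.Away (algebraMap A B f)))) (Localization.Away (algebraMap A B f))) b) = 0
      rw [Ideal.Quotient.eq_zero_iff_mem, hKmap]
      exact Ideal.mem_map_of_mem _ hb
    let _ : Algebra (B ⧸ (I.map (algebraMap A B))) ((AdicCompletion ((I.map (algebraMap A B)).map (algebraMap B (Localization.Away (algebraMap A B f)))) (Localization.Away (algebraMap A B f))) ⧸ ((I.map (algebraMap A (AdicCompletion (I.map (algebraMap A (Localization.Away f))) (Localization.Away f)))).map (algebraMap (AdicCompletion (I.map (algebraMap A (Localization.Away f))) (Localization.Away f)) (AdicCompletion ((I.map (algebraMap A B)).map (algebraMap B (Localization.Away (algebraMap A B f)))) (Localization.Away (algebraMap A B f)))))) :=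
      (Ideal.Quotient.lift (I.map (algebraMap A B)) (algebraMap B ((AdicCompletion ((I.map (algebraMap A B)).map (algebraMap B (Localization.Away (algebraMap A B f)))) (Localization.Away (algebraMap A B f))) ⧸ ((I.map (algebraMap A (AdicCompletion (I.map (algebraMap A (Localization.Away f))) (Localization.Away f)))).map (algebraMap (AdicCompletion (I.map (algebraMap A (Localization.Away f))) (Localization.Away f)) (AdicCompletion ((I.map (algebraMap A B)).map (algebraMap B (Localization.Away (algebraMap A B f)))) (Localization.Away (algebraMap A B f))))))) h0).toAlgebra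
    have tw2 : IsScalarTower B (B ⧸ (I.map (algebraMap A B))) ((AdicCompletion ((I.map (algebraMap A B)).map (algebraMap B (Localization.Away (algebraMap A B f)))) (Localization.Away (algebraMap A B f))) ⧸ ((I.map (algebraMap A (AdicCompletion (I.map (algebraMap A (Localization.Away f))) (Localization.Away f)))).map (algebraMap (AdicCompletion (I.map (algebraMap A (Localization.Away f))) (Localization.Away f)) (AdicCompletion ((I.map (algebraMap A B)).map (algebraMap B (Localization.Away (algebraMap A B f)))) (Localization.Away (algebraMap A B f)))))) := IsScalarTower.of_algebraMap_eq (fun a => rfl)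
    have hft2 : Algebra.FiniteType (B ⧸ (I.map (algebraMap A B))) ((AdicCompletion ((I.map (algebraMap A B)).map (algebraMap B (Localization.Away (algebraMap A B f)))) (Localization.Away (algebraMap A B f))) ⧸ ((I.map (algebraMap A (AdicCompletion (I.map (algebraMap A (Localization.Away f))) (Localization.Away f)))).map (algebraMap (AdicCompletion (I.map (algebraMap A (Localization.Away f))) (Localization.Away f)) (AdicCompletion ((I.map (algebraMap A B)).map (algebraMap B (Localization.Away (algebraMap A B f)))) (Localization.Away (algebraMap A B f)))))) :=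
      Algebra.FiniteType.of_restrictScalars_finiteType B (B ⧸ (I.map (algebraMap A B))) ((AdicCompletion ((I.map (algebraMap A B)).map (algebraMap B (Localization.Away (algebraMap A B f)))) (Localization.Away (algebraMap A B f))) ⧸ ((I.map (algebraMap A (AdicCompletion (I.map (algebraMap A (Localization.Away f))) (Localization.Away f)))).map (algebraMap (AdicCompletion (I.map (algebraMap A (Localization.Away f))) (Localization.Away f)) (AdicCompletion ((I.map (algebraMap A B)).map (algebraMap B (Localization.Away (algebraMap A B f)))) (Localization.Away (algebraMap A B f))))))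
    have tw3 : IsScalarTower A (B ⧸ (I.map (algebraMap A B))) ((AdicCompletion ((I.map (algebraMap A B)).map (algebraMap B (Localization.Away (algebraMap A B f)))) (Localization.Away (algebraMap A B f))) ⧸ ((I.map (algebraMap A (AdicCompletion (I.map (algebraMap A (Localization.Away f))) (Localization.Away f)))).map (algebraMap (AdicCompletion (I.map (algebraMap A (Localization.Away f))) (Localization.Away f)) (AdicCompletion ((I.map (algebraMap A B)).map (algebraMap B (Localization.Away (algebraMap A B f)))) (Localization.Away (algebraMap A B f)))))) := IsScalarTower.of_algebraMap_eq (fun a => by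
      change Ideal.Quotient.mk _ (algebraMap A (AdicCompletion ((I.map (algebraMap A B)).map (algebraMap B (Localization.Away (algebraMap A B f)))) (Localization.Away (algebraMap A B f))) a) =
        Ideal.Quotient.mk _ (algebraMap B (AdicCompletion ((I.map (algebraMap A B)).map (algebraMap B (Localization.Away (algebraMap A B f)))) (Localization.Away (algebraMap A B f))) (algebraMap A B a))
      rfl)
    have hft3 : Algebra.FiniteType A ((AdicCompletion ((I.map (algebraMap A B)).map (algebraMap B (Localization.Away (algebraMap A B f)))) (Localization.Away (algebraMap A B f))) ⧸ ((I.map (algebraMap A (AdicCompletion (I.map (algebraMap A (Localization.Away f))) (Localization.Away f)))).map (algebraMap (AdicCompletion (I.map (algebraMap A (Localization.Away f))) (Localization.Away f)) (AdicCompletion ((I.map (algebraMap A B)).map (algebraMap B (Localization.Away (algebraMap A B f)))) (Localization.Away (algebraMap A B f)))))) := Algebra.FiniteType.trans hft hft2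
    have tw4 : IsScalarTower A (AdicCompletion (I.map (algebraMap A (Localization.Away f))) (Localization.Away f)) ((AdicCompletion ((I.map (algebraMap A B)).map (algebraMap B (Localization.Away (algebraMap A B f)))) (Localization.Away (algebraMap A B f))) ⧸ ((I.map (algebraMap A (AdicCompletion (I.map (algebraMap A (Localization.Away f))) (Localization.Away f)))).map (algebraMap (AdicCompletion (I.map (algebraMap A (Localization.Away f))) (Localization.Away f)) (AdicCompletion ((I.map (algebraMap A B)).map (algebraMap B (Localization.Away (algebraMap A B f)))) (Localization.Away (algebraMap A B f)))))) := IsScalarTower.of_algebraMap_eq (fun a => by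
      change Ideal.Quotient.mk _ (algebraMap A (AdicCompletion ((I.map (algebraMap A B)).map (algebraMap B (Localization.Away (algebraMap A B f)))) (Localization.Away (algebraMap A B f))) a) =
        Ideal.Quotient.mk _ (ψ (algebraMap A (AdicCompletion (I.map (algebraMap A (Localization.Away f))) (Localization.Away f)) a))
      have := RingHom.congr_fun hcomp a
      simp only [RingHom.comp_apply] at this
      rw [this]
      rfl)
    exact Algebra.FiniteType.of_restrictScalars_finiteType A (AdicCompletion (I.map (algebraMap A (Localization.Away f))) (Localization.Away f)) ((AdicCompletion ((I.map (algebraMap A B)).map (algebraMap B (Localization.Away (algebraMap A B f)))) (Localization.Away (algebraMap A B f))) ⧸ ((I.map (algebraMap A (AdicCompletion (I.map (algebraMap A (Localization.Away f))) (Localization.Away f)))).map (algebraMap (AdicCompletion (I.map (algebraMap A (Localization.Away f))) (Localization.Away f)) (AdicCompletion ((I.map (algebraMap A B)).map (algebraMap B (Localization.Away (algebraMap A B f)))) (Localization.Away (algebraMap A B f))))))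
  -- (Z2) maximal ideals over `q̂` contract to maximal ideals
  have hmax : ∀ Q : Ideal (AdicCompletion ((I.map (algebraMap A B)).map (algebraMap B (Localization.Away (algebraMap A B f)))) (Localization.Away (algebraMap A B f))), Q.IsMaximal → (q.asIdeal.map (algebraMap B (AdicCompletion ((I.map (algebraMap A B)).map (algebraMap B (Localization.Away (algebraMap A B f)))) (Localization.Away (algebraMap A B f))))) ≤ Q →
      (Q.comap (algebraMap (AdicCompletion (I.map (algebraMap A (Localization.Away f))) (Localization.Away f)) (AdicCompletion ((I.map (algebraMap A B)).map (algebraMap B (Localization.Away (algebraMap A B f)))) (Localization.Away (algebraMap A B f))))).IsMaximal := by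
    intro Q hQ hqQ
    have hQprime : Q.IsPrime := hQ.isPrime
    have hKQ : (I.map (algebraMap A B)).map (algebraMap B (AdicCompletion ((I.map (algebraMap A B)).map (algebraMap B (Localization.Away (algebraMap A B f)))) (Localization.Away (algebraMap A B f)))) ≤ Q := by
      rw [← hKmap]
      exact hjac.trans (sInf_le ⟨bot_le, hQ⟩)
    have hQBprime : (Q.comap (algebraMap B (AdicCompletion ((I.map (algebraMap A B)).map (algebraMap B (Localization.Away (algebraMap A B f)))) (Localization.Away (algebraMap A B f))))).IsPrime := Ideal.IsPrime.comap _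
    have hqQB : q.asIdeal ≤ Q.comap (algebraMap B (AdicCompletion ((I.map (algebraMap A B)).map (algebraMap B (Localization.Away (algebraMap A B f)))) (Localization.Away (algebraMap A B f)))) :=
      Ideal.map_le_iff_le_comap.mp hqQ
    have hIQB : (I.map (algebraMap A B)) ≤ Q.comap (algebraMap B (AdicCompletion ((I.map (algebraMap A B)).map (algebraMap B (Localization.Away (algebraMap A B f)))) (Localization.Away (algebraMap A B f)))) := Ideal.map_le_iff_le_comap.mp hKQ
    have hQBmax : (Q.comap (algebraMap B (AdicCompletion ((I.map (algebraMap A B)).map (algebraMap B (Localization.Away (algebraMap A B f)))) (Localization.Away (algebraMap A B f))))).IsMaximal :=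
      isMaximal_of_lt B q.asIdeal _ hdim hqQB (fun h => hnle (hIQB.trans h))
    have hQBM : Q.comap (algebraMap B (AdicCompletion ((I.map (algebraMap A B)).map (algebraMap B (Localization.Away (algebraMap A B f)))) (Localization.Away (algebraMap A B f)))) = M :=
      eq_of_isMaximal_of_le B q.asIdeal _ h3.2.1 _ M hQBmax hMmax hqQB hqM
    have hc : (Q.comap (algebraMap (AdicCompletion (I.map (algebraMap A (Localization.Away f))) (Localization.Away f)) (AdicCompletion ((I.map (algebraMap A B)).map (algebraMap B (Localization.Away (algebraMap A B f)))) (Localization.Away (algebraMap A B f))))).comap (algebraMap A (AdicCompletion (I.map (algebraMap A (Localization.Away f))) (Localization.Away f))) =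
        M.comap (algebraMap A B) := by
      change (Q.comap ψ).comap (algebraMap A (AdicCompletion (I.map (algebraMap A (Localization.Away f))) (Localization.Away f))) = _
      rw [Ideal.comap_comap, hcomp, ← Ideal.comap_comap, hQBM]
    have : (Q.comap (algebraMap (AdicCompletion (I.map (algebraMap A (Localization.Away f))) (Localization.Away f)) (AdicCompletion ((I.map (algebraMap A B)).map (algebraMap B (Localization.Away (algebraMap A B f)))) (Localization.Away (algebraMap A B f))))).IsPrime := Ideal.IsPrime.comap _
    exact isMaximal_of_comap_eq A I f (M.comap (algebraMap A B)) hI𝔫 hstar _ hc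
  have key := rigClosed_comap_of_isMaximal_comap (AdicCompletion (I.map (algebraMap A (Localization.Away f))) (Localization.Away f)) (I.map (algebraMap A (AdicCompletion (I.map (algebraMap A (Localization.Away f))) (Localization.Away f)))) (AdicCompletion ((I.map (algebraMap A B)).map (algebraMap B (Localization.Away (algebraMap A B f)))) (Localization.Away (algebraMap A B f))) hjac hftX (q.asIdeal.map (algebraMap B (AdicCompletion ((I.map (algebraMap A B)).map (algebraMap B (Localization.Away (algebraMap A B f)))) (Localization.Away (algebraMap A B f))))) hnle' hdim' hmax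
  exact ⟨Ideal.IsPrime.comap ψ, key.1, key.2⟩

end Groth.Agent.S8840
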