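import Groth.Statements.S8829
import Mathlib
import Groth.Agent.S8840

set_option autoImplicit false
universe u
open AdicRing

namespace Groth.Agent.S8829

/-- finiteness of `B ⧸ q` when maximal ideals over `q` contract to maximal ideals. -/
theorem finite_quotient_of_isMaximal_comap' (A : Type u) [CommRing A] [IsNoetherianRing A]
    (I : Ideal A) [IsAdicComplete I A] (B : Type u) [CommRing B] [Algebra A B]
    [IsNoetherianRing B] (hjac : I.map (algebraMap A B) ≤ Ideal.jacobson ⊥)
    (hft : Algebra.FiniteType A (B ⧸ (I.map (algebraMap A B)))) (q : Ideal B) [q.IsPrime]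
    (hnle : ¬ (I.map (algebraMap A B)) ≤ q) (hdim : ringKrullDim (B ⧸ q) = 1)
    (hmax : ∀ Q : Ideal B, Q.IsMaximal → q ≤ Q → (Q.comap (algebraMap A B)).IsMaximal) :
    Module.Finite A (B ⧸ q) := by
  have hHausB : IsHausdorff (I.map (algebraMap A B)) (B ⧸ q) :=
    IsHausdorff.of_le_jacobson _ _ hjac
  have hHaus : IsHausdorff I (B ⧸ q) :=
    (IsHausdorff.map_algebraMap_iff (S := B)).mp hHausB
  have hart : IsArtinianRing (B ⧸ (I.map (algebraMap A B) ⊔ q)) :=
    Groth.Agent.S8838.isArtinianRing_quot_sup B (I.map (algebraMap A B)) q hdim hnle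
  have hftC : Algebra.FiniteType A (B ⧸ (I.map (algebraMap A B) ⊔ q)) :=
    Algebra.FiniteType.of_surjective
      (Ideal.Quotient.factorₐ A
        (le_sup_left : I.map (algebraMap A B) ≤ I.map (algebraMap A B) ⊔ q))
      (Ideal.Quotient.factor_surjective
        (le_sup_left : I.map (algebraMap A B) ≤ I.map (algebraMap A B) ⊔ q))
  have hfinC : Module.Finite A (B ⧸ (I.map (algebraMap A B) ⊔ q)) := by
    apply Groth.Agent.S8840.finite_of_forall_maximal
    intro Q hQ
    apply Groth.Agent.S8840.finite_quotient_of_isMaximal_comap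
    have hQB : (Q.comap (Ideal.Quotient.mk (I.map (algebraMap A B) ⊔ q))).IsMaximal :=
      Ideal.comap_isMaximal_of_surjective _ Ideal.Quotient.mk_surjective
    have hle : q ≤ Q.comap (Ideal.Quotient.mk (I.map (algebraMap A B) ⊔ q)) := by
      intro x hx
      rw [Ideal.mem_comap, Ideal.Quotient.eq_zero_iff_mem.mpr (le_sup_right (a := I.map (algebraMap A B)) hx)]
      exact Q.zero_mem
    have := hmax _ hQB hle
    rw [Ideal.comap_comap] at this
    exact this
  have hfin2 : Module.Finite A ((B ⧸ q) ⧸ (I • ⊤ : Submodule A (B ⧸ q))) :=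
    Groth.Agent.S8840.finite_quot_smul' A I B q
  exact Groth.Agent.S0544.result A I (B ⧸ q) hfin2

/-- In the case of adic Noetherian topological rings: let A be a Noetherian ring complete for the adic
topology of an ideal I, and B a Noetherian A-algebra complete for the IB-adic topology with B/IB of
finite type over A (so A → B is an adic morphism, topologically of finite type). Let q be a
rig-closed prime of B (IB ⊄ q and q maximal among the primes not containing IB) and p its inverse
image in A. Three conditions turn out to be equivalent: (1) whenever m is a maximal ideal of B with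
m ⊇ q, the quotient B/m is finite as an A-module (that is, residue fields of B/q are finite over A);
(2) p is rig-closed in A (I ⊄ p and p maximal among the primes not containing I); (3) B/q is a
finite A-module, i.e. A/p ⊆ B/q is a finite extension of rings. -/
theorem result (A : Type u) [CommRing A] [IsNoetherianRing A] (I : Ideal A) [IsAdicComplete I A] (B : Type u) [CommRing B] [Algebra A B] [IsNoetherianRing B] [IsAdicComplete (I.map (algebraMap A B)) B] (hft : Algebra.FiniteType A (B ⧸ (I.map (algebraMap A B)))) (q : PrimeSpectrum B) (hq : (¬ (I.map (algebraMap A B)) ≤ q.asIdeal ∧ ∀ y : PrimeSpectrum B, q ≤ y → ¬ (I.map (algebraMap A B)) ≤ y.asIdeal → y = q)) : List.TFAE [∀ m : Ideal B, m.IsMaximal → q.asIdeal ≤ m → Module.Finite A (B ⧸ m), (¬ I ≤ (PrimeSpectrum.comap (algebraMap A B) q).asIdeal ∧ ∀ y : PrimeSpectrum A, (PrimeSpectrum.comap (algebraMap A B) q) ≤ y → ¬ I ≤ y.asIdeal → y = (PrimeSpectrum.comap (algebraMap A B) q)), Module.Finite A (B ⧸ q.asIdeal)] := by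
  have hqp : q.asIdeal.IsPrime := q.isPrime
  have hjac : I.map (algebraMap A B) ≤ Ideal.jacobson ⊥ := IsAdicComplete.le_jacobson_bot _
  have tfaeB := Groth.Agent.S8804.result B (I.map (algebraMap A B)) q
  have h01B : ringKrullDim (B ⧸ q.asIdeal) = 1 ∧ ¬ I.map (algebraMap A B) ≤ q.asIdeal :=
    (tfaeB.out 0 1).mp hq
  have hdimB : ringKrullDim (B ⧸ q.asIdeal) = 1 := h01B.1
  have hnle : ¬ I.map (algebraMap A B) ≤ q.asIdeal := hq.1
  tfae_have 1 → 2 := by
    intro h1
    have hmax : ∀ Q : Ideal B, Q.IsMaximal → q.asIdeal ≤ Q →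
        (Q.comap (algebraMap A B)).IsMaximal := by
      intro Q hQ hqQ
      have hfin := h1 Q hQ hqQ
      let _ := Ideal.Quotient.field Q
      have hint : Algebra.IsIntegral (A ⧸ Q.comap (algebraMap A B)) (B ⧸ Q) := by
        have : Module.Finite (A ⧸ Q.comap (algebraMap A B)) (B ⧸ Q) :=
          Module.Finite.of_restrictScalars_finite A _ _
        infer_instance
      have hinj : Function.Injective (algebraMap (A ⧸ Q.comap (algebraMap A B)) (B ⧸ Q)) :=
        Ideal.algebraMap_quotient_injective
      have hfield : IsField (A ⧸ Q.comap (algebraMap A B)) :=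
        isField_of_isIntegral_of_isField hinj (Field.toIsField (B ⧸ Q))
      exact Ideal.Quotient.maximal_of_isField _ hfield
    have key := Groth.Agent.S8840.rigClosed_comap_of_isMaximal_comap A I B hjac hft q.asIdeal
      hnle hdimB hmax
    refine ⟨key.1, fun y hy hIy => ?_⟩
    exact PrimeSpectrum.ext (key.2 y hy hIy)
  tfae_have 2 → 3 := by
    intro h2
    have tfaeA := Groth.Agent.S8804.result A I (PrimeSpectrum.comap (algebraMap A B) q)
    have h01A : ringKrullDim (A ⧸ (PrimeSpectrum.comap (algebraMap A B) q).asIdeal) = 1 ∧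
        ¬ I ≤ (PrimeSpectrum.comap (algebraMap A B) q).asIdeal := (tfaeA.out 0 1).mp h2
    have hdimA : ringKrullDim (A ⧸ (q.asIdeal.comap (algebraMap A B))) = 1 := h01A.1
    have hnleA : ¬ I ≤ q.asIdeal.comap (algebraMap A B) := h2.1
    have hmax : ∀ Q : Ideal B, Q.IsMaximal → q.asIdeal ≤ Q →
        (Q.comap (algebraMap A B)).IsMaximal := by
      intro Q hQ hqQ
      have hIQ : I.map (algebraMap A B) ≤ Q := by
        refine hjac.trans ?_
        exact sInf_le ⟨bot_le, hQ⟩
      have hIP : I ≤ Q.comap (algebraMap A B) := Ideal.map_le_iff_le_comap.mp hIQ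
      have hQprime : (Q.comap (algebraMap A B)).IsPrime := Ideal.IsPrime.comap _
      have hpprime : (q.asIdeal.comap (algebraMap A B)).IsPrime := Ideal.IsPrime.comap _
      exact Groth.Agent.S8840.isMaximal_of_lt A (q.asIdeal.comap (algebraMap A B))
        (Q.comap (algebraMap A B)) hdimA (Ideal.comap_mono hqQ)
        (fun hle => hnleA (hIP.trans hle))
    exact finite_quotient_of_isMaximal_comap' A I B hjac hft q.asIdeal hnle hdimB hmax
  tfae_have 3 → 1 := by
    intro h3 m hm hqm
    exact Module.Finite.of_surjective (Ideal.Quotient.factorₐ A hqm).toLinearMap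
      (Ideal.Quotient.factor_surjective hqm)
  tfae_finish

end Groth.Agent.S8829
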