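import Groth.Statements.S8833
import Mathlib
import Groth.Agent.S8819

set_option autoImplicit false
universe u
open scoped BigOperators TensorProduct
open LocCoh

namespace Groth.Agent.S8833

open MvPolynomial TensorProduct

section torsion
variable {B : Type u} [CommRing B] [IsNoetherianRing B] {N : Type u} [AddCommGroup N] [Module B N]
  [Module.Finite B N]

/-- Artin–Rees + stabilization of torsion. -/
theorem exists_pow_inf_torsion (J : Ideal B) : ∃ s₀ : ℕ, ∀ z : N,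
    z ∈ (J ^ s₀ • ⊤ : Submodule B N) → (∃ k, ∀ b ∈ J ^ k, b • z = 0) → z = 0 := by
  let T : ℕ →o Submodule B N := ⟨fun k => Submodule.torsionBySet B N ((J ^ k : Ideal B) : Set B), by
    intro k l hkl z hz
    rw [Submodule.mem_torsionBySet_iff] at hz ⊢
    intro b
    exact hz ⟨b.1, Ideal.pow_le_pow_right hkl b.2⟩⟩
  obtain ⟨s, hs⟩ := monotone_stabilizes_iff_noetherian.mpr
    (inferInstance : IsNoetherian B N) T
  obtain ⟨k₀, hk₀⟩ := Ideal.exists_pow_inf_eq_pow_smul J (T s)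
  refine ⟨k₀ + s, fun z hz ⟨k, hk⟩ => ?_⟩
  have hzT : z ∈ T s := by
    have h1 : z ∈ T k := (Submodule.mem_torsionBySet_iff _ _).mpr (fun b => hk b.1 b.2)
    rcases le_total k s with h | h
    · exact T.monotone h h1
    · rw [hs k h]; exact h1
  have h2 : z ∈ (J ^ (k₀ + s) • ⊤ ⊓ T s : Submodule B N) := ⟨hz, hzT⟩
  rw [hk₀ (k₀ + s) (by omega), Nat.add_sub_cancel_left] at h2
  have h3 : (J ^ s • (J ^ k₀ • ⊤ ⊓ T s) : Submodule B N) ≤ ⊥ := by
    rw [Submodule.smul_le]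
    intro b hb y hy
    rw [Submodule.mem_bot]
    exact (Submodule.mem_torsionBySet_iff _ _).mp hy.2 ⟨b, hb⟩
  exact (Submodule.mem_bot B).mp (h3 h2)

end torsion

section coeff
variable {A : Type u} [CommRing A] {r : ℕ} (I : Ideal A) (c c' s₀ : ℕ) (hcc' : c ≤ c')
  (φ : Fin r → (↥(I ^ c) →ₗ[A] A))

/-- restriction of `φ` to `I ^ c'`. -/
noncomputable def res (j : Fin r) : ↥(I ^ c') →ₗ[A] A :=
  (φ j).comp (Submodule.inclusion (Ideal.pow_le_pow_right hcc'))

theorem res_apply (j : Fin r) (g : A) (hg : g ∈ I ^ c') :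
    res I c c' hcc' φ j ⟨g, hg⟩ = φ j ⟨g, Ideal.pow_le_pow_right hcc' hg⟩ := rfl

theorem ext_res_mem (hs : c + s₀ ≤ c') (j : Fin r) (m : ℕ) {g : A} (hg : g ∈ I ^ (m + c')) :
    Groth.Agent.S8819.ext I c' (res I c c' hcc' φ) j g ∈ I ^ (m + s₀) := by
  have hgc' : g ∈ I ^ c' := Ideal.pow_le_pow_right (by omega) hg
  have hgc : g ∈ I ^ ((m + s₀) + c) := Ideal.pow_le_pow_right (by omega) hg
  rw [Groth.Agent.S8819.ext_of_mem I c' _ j hgc', res_apply]
  have h := Groth.Agent.S8819.ext_mem I c φ j (m + s₀) hgc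
  rw [Groth.Agent.S8819.ext_of_mem I c φ j h.1] at h
  exact h.2

theorem coeff_Phi_mem (hs : c + s₀ ≤ c') (n : ℕ) : ∀ g ∈ I ^ (n * c' + s₀), ∀ e : Fin r →₀ ℕ,
    coeff e (Groth.Agent.S8819.Phi I c' (res I c c' hcc' φ) n g) ∈ I ^ s₀ := by
  induction n with
  | zero =>
    intro g hg e
    simp only [Groth.Agent.S8819.Phi, coeff_C]
    split_ifs
    · simpa using hg
    · exact Ideal.zero_mem _
  | succ n ih =>
    intro g hg e
    have hg' : g ∈ I ^ ((n * c' + s₀) + c') := by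
      have : (n + 1) * c' + s₀ = (n * c' + s₀) + c' := by rw [Nat.succ_mul]; omega
      rwa [this] at hg
    simp only [Groth.Agent.S8819.Phi, coeff_sum]
    refine Ideal.sum_mem _ fun j _ => ?_
    rw [coeff_X_mul']
    split_ifs
    · apply ih
      exact Ideal.pow_le_pow_right (by omega) (ext_res_mem I c c' s₀ hcc' φ hs j _ hg')
    · exact Ideal.zero_mem _

theorem coeff_Phi_succ_mem (hs : c + s₀ ≤ c') (n : ℕ) : ∀ g ∈ I ^ ((n + 1) * c'),
    ∀ e : Fin r →₀ ℕ,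
    coeff e (Groth.Agent.S8819.Phi I c' (res I c c' hcc' φ) (n + 1) g) ∈ I ^ s₀ := by
  intro g hg e
  have hg' : g ∈ I ^ (n * c' + c') := by rwa [Nat.succ_mul] at hg
  simp only [Groth.Agent.S8819.Phi, coeff_sum]
  refine Ideal.sum_mem _ fun j _ => ?_
  rw [coeff_X_mul']
  split_ifs
  · apply coeff_Phi_mem I c c' s₀ hcc' φ hs n
    exact ext_res_mem I c c' s₀ hcc' φ hs j _ hg'
  · exact Ideal.zero_mem _

end coeff

theorem smul_eq_zero_of_mem_map_pow {A B : Type u} [CommRing A] [CommRing B] [Algebra A B]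
    {N : Type u} [AddCommGroup N] [Module B N] (I : Ideal A) (k : ℕ) (z : N)
    (hz : ∀ h ∈ I ^ k, algebraMap A B h • z = 0) :
    ∀ b ∈ (I.map (algebraMap A B)) ^ k, b • z = 0 := by
  intro b hb
  rw [← Ideal.map_pow] at hb
  refine Submodule.span_induction ?_ ?_ ?_ ?_ hb
  · rintro _ ⟨a, ha, rfl⟩
    exact hz a ha
  · exact zero_smul _ _
  · intro x y _ _ hx hy
    rw [add_smul, hx, hy, add_zero]
  · intro c x _ hx
    rw [smul_eq_mul, mul_smul, hx, smul_zero]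


section main
variable {A : Type u} [CommRing A] {r : ℕ} (I : Ideal A) (c' : ℕ)
  (φ' : Fin r → (↥(I ^ c') →ₗ[A] A))
  (B : Type u) [CommRing B] [Algebra A B] (N : Type u) [AddCommGroup N] [Module B N] (n : ℕ)

/-- the generators. -/
def gen (p : ↥(I ^ (n * c')) × N) : N := algebraMap A B (p.1 : A) • p.2

noncomputable def μ : ((↥(I ^ (n * c')) × N) →₀ B) →ₗ[B] N :=
  Finsupp.linearCombination B (gen I c' B N n)

noncomputable def ν : ((↥(I ^ (n * c')) × N) →₀ B) →ₗ[B] (MvPolynomial (Fin r) B ⊗[B] N) :=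
  Finsupp.linearCombination B (fun p : ↥(I ^ (n * c')) × N =>
    MvPolynomial.map (algebraMap A B) (Groth.Agent.S8819.Phi I c' φ' n (p.1 : A)) ⊗ₜ[B] p.2)

noncomputable def ζ (e : Fin r →₀ ℕ) : ((↥(I ^ (n * c')) × N) →₀ B) →ₗ[B] N :=
  Finsupp.linearCombination B (fun p : ↥(I ^ (n * c')) × N =>
    algebraMap A B (coeff e (Groth.Agent.S8819.Phi I c' φ' n (p.1 : A))) • p.2)

theorem ν_coeff (t : (↥(I ^ (n * c')) × N) →₀ B) (e : Fin r →₀ ℕ) :
    (TensorProduct.equivFinsuppOfBasisLeft (basisMonomials (Fin r) B) (ν I c' φ' B N n t)) e =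
      ζ I c' φ' B N n e t := by
  have h : (Finsupp.lapply e) ∘ₗ
      (TensorProduct.equivFinsuppOfBasisLeft (N := N) (basisMonomials (Fin r) B)).toLinearMap ∘ₗ
        (ν I c' φ' B N n) = ζ I c' φ' B N n e := by
    apply Finsupp.lhom_ext
    intro p b
    simp only [LinearMap.coe_comp, LinearEquiv.coe_coe, Function.comp_apply, ν, ζ,
      Finsupp.linearCombination_single, map_smul, Finsupp.lapply_apply,
      TensorProduct.equivFinsuppOfBasisLeft_apply_tmul_apply]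
    congr 2
  exact LinearMap.congr_fun h t

theorem torsion_ζ (e : Fin r →₀ ℕ) (h : A) (hh : h ∈ I ^ (n * c'))
    (t : (↥(I ^ (n * c')) × N) →₀ B) :
    algebraMap A B h • ζ I c' φ' B N n e t =
      algebraMap A B (coeff e (Groth.Agent.S8819.Phi I c' φ' n h)) • μ I c' B N n t := by
  have key : (algebraMap A B h) • ζ I c' φ' B N n e =
      (algebraMap A B (coeff e (Groth.Agent.S8819.Phi I c' φ' n h))) • μ I c' B N n := by
    apply Finsupp.lhom_ext
    intro p b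
    obtain ⟨⟨g, hg⟩, x⟩ := p
    simp only [LinearMap.smul_apply, ζ, μ, gen, Finsupp.linearCombination_single]
    have e1 : h * coeff e (Groth.Agent.S8819.Phi I c' φ' n g) =
        coeff e (Groth.Agent.S8819.Phi I c' φ' n h) * g := by
      have h1 := Groth.Agent.S8819.Phi_smul I c' φ' n h g hg
      have h2 := Groth.Agent.S8819.Phi_smul I c' φ' n g h hh
      rw [mul_comm] at h2
      rw [h1] at h2
      have h3 := congrArg (coeff e) h2
      rw [coeff_smul, coeff_smul, smul_eq_mul, smul_eq_mul] at h3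
      rw [h3, mul_comm]
    have e2 : algebraMap A B h * algebraMap A B (coeff e (Groth.Agent.S8819.Phi I c' φ' n g)) =
        algebraMap A B (coeff e (Groth.Agent.S8819.Phi I c' φ' n h)) * algebraMap A B g := by
      rw [← map_mul, ← map_mul, e1]
    simp only [smul_smul]
    congr 1
    linear_combination b * e2
  exact LinearMap.congr_fun key t

theorem ζ_mem (e : Fin r →₀ ℕ) (s₀ : ℕ)
    (hcoef : ∀ g ∈ I ^ (n * c'), coeff e (Groth.Agent.S8819.Phi I c' φ' n g) ∈ I ^ s₀)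
    (t : (↥(I ^ (n * c')) × N) →₀ B) :
    ζ I c' φ' B N n e t ∈ ((I.map (algebraMap A B)) ^ s₀ • ⊤ : Submodule B N) := by
  rw [ζ, Finsupp.linearCombination_apply]
  refine Submodule.sum_mem _ fun p _ => Submodule.smul_mem _ _ ?_
  refine Submodule.smul_mem_smul ?_ Submodule.mem_top
  rw [← Ideal.map_pow]
  exact Ideal.mem_map_of_mem _ (hcoef _ p.1.2)


theorem ker_le (s₀ : ℕ)
    (hs₀ : ∀ z : N, z ∈ ((I.map (algebraMap A B)) ^ s₀ • ⊤ : Submodule B N) →
      (∃ k, ∀ b ∈ (I.map (algebraMap A B)) ^ k, b • z = 0) → z = 0)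
    (hcoef : n ≠ 0 → ∀ e : Fin r →₀ ℕ, ∀ g ∈ I ^ (n * c'),
      coeff e (Groth.Agent.S8819.Phi I c' φ' n g) ∈ I ^ s₀) :
    LinearMap.ker (μ I c' B N n) ≤ LinearMap.ker (ν I c' φ' B N n) := by
  intro t ht
  rw [LinearMap.mem_ker] at ht ⊢
  apply (TensorProduct.equivFinsuppOfBasisLeft (N := N) (basisMonomials (Fin r) B)).injective
  rw [map_zero]
  ext e
  rw [ν_coeff, Finsupp.zero_apply]
  by_cases hn : n = 0
  · have h1 : (1 : A) ∈ I ^ (n * c') := by
      simp [hn]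
    have := torsion_ζ I c' φ' B N n e 1 h1 t
    rw [ht, smul_zero, map_one, one_smul] at this
    exact this
  · apply hs₀ _ (ζ_mem I c' φ' B N n e s₀ (hcoef hn e) t)
    refine ⟨n * c', smul_eq_zero_of_mem_map_pow I (n * c') _ fun h hh => ?_⟩
    rw [torsion_ζ I c' φ' B N n e h hh t, ht, smul_zero]

theorem range_μ : LinearMap.range (μ I c' B N n) =
    Submodule.span B {y : N | ∃ g ∈ I ^ (n * c'), ∃ x : N, y = algebraMap A B g • x} := by
  rw [μ, Finsupp.range_linearCombination]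
  congr 1
  ext y
  constructor
  · rintro ⟨⟨⟨g, hg⟩, x⟩, rfl⟩
    exact ⟨g, hg, x, rfl⟩
  · rintro ⟨g, hg, x, rfl⟩
    exact ⟨⟨⟨g, hg⟩, x⟩, rfl⟩

theorem exists_Psi (hker : LinearMap.ker (μ I c' B N n) ≤ LinearMap.ker (ν I c' φ' B N n)) :
    ∃ Ψ : ↥(Submodule.span B {y : N | ∃ g ∈ I ^ (n * c'), ∃ x : N, y = algebraMap A B g • x})
      →ₗ[B] (MvPolynomial (Fin r) B ⊗[B] N),
      ∀ (t : (↥(I ^ (n * c')) × N) →₀ B)
        (h : μ I c' B N n t ∈ Submodule.span B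
          {y : N | ∃ g ∈ I ^ (n * c'), ∃ x : N, y = algebraMap A B g • x}),
        Ψ ⟨μ I c' B N n t, h⟩ = ν I c' φ' B N n t := by
  refine ⟨((LinearMap.ker (μ I c' B N n)).liftQ (ν I c' φ' B N n) hker) ∘ₗ
    ((μ I c' B N n).quotKerEquivRange.symm.toLinearMap) ∘ₗ
    (LinearEquiv.ofEq _ _ (range_μ I c' B N n).symm).toLinearMap, fun t h => ?_⟩
  simp only [LinearMap.coe_comp, LinearEquiv.coe_coe, Function.comp_apply]
  have h1 : (LinearEquiv.ofEq _ _ (range_μ I c' B N n).symm) ⟨μ I c' B N n t, h⟩ =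
      ⟨μ I c' B N n t, LinearMap.mem_range_self _ t⟩ := rfl
  rw [h1, LinearMap.quotKerEquivRange_symm_apply_image]
  rfl

end main

/-- Let A be a Noetherian ring, f_1, …, f_r ∈ A and I = (f_1, …, f_r) with cd(A, I) = 1; let c ≥ 1 and
φ_j : I^c → A be A-linear maps with x = Σ_j f_j φ_j(x) for all x ∈ I^c. Let B be a Noetherian
A-algebra and N a finite B-module. Then there is c' ≥ c with the following property. Write φ_j again
for the restrictions of the φ_j to I^{c'} and let Φ be a graded A-algebra homomorphism from ⊕_{n ≥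
0} I^{nc'} to A[T_1, …, T_r] with Φ(g) = Σ_j φ_j(g) T_j for g ∈ I^{c'} (there is exactly one; it is
encoded by functions Φ_n : A → A[T_1, …, T_r] whose values on I^{nc'} are additive, A-homogeneous,
homogeneous of degree n and multiplicative across degrees, with Φ_0 the structure map and Φ_1 as
prescribed). Then for every n there is a unique B-linear map Ψ_n from the submodule I^{nc'}N of N to
N[T_1, …, T_r] = B[T_1, …, T_r] ⊗_B N with Ψ_n(g x) = Φ_n(g) ⊗ x for g ∈ I^{nc'} and x ∈ N; that is,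
the Ψ_n form the unique graded B-module map from ⊕_n I^{nc'}N to N[T_1, …, T_r] with this property.
Moreover substituting T_j ↦ f_j after Ψ_n gives back the inclusion of I^{nc'}N into N. -/
theorem result (A : Type u) [CommRing A] [IsNoetherianRing A] (r : ℕ) (f : Fin r → A) (I : Ideal A) (hI : I = Ideal.span (Set.range f)) (h1 : LocCoh.CdLE A I 1) (h0 : ¬ LocCoh.CdLE A I 0) (c : ℕ) (hc : 1 ≤ c) (φ : Fin r → (↥(I ^ c) →ₗ[A] A)) (hφ : ∀ x : ↥(I ^ c), (x : A) = ∑ j, f j * φ j x) (B : Type u) [CommRing B] [Algebra A B] [IsNoetherianRing B] (N : Type u) [AddCommGroup N] [Module B N] [Module.Finite B N] : ∃ c' : ℕ, ∃ hcc' : c ≤ c', ∀ Φ : ℕ → A → MvPolynomial (Fin r) A, ((∀ n : ℕ, ∀ g ∈ I ^ (n * c'), ∀ h ∈ I ^ (n * c'), Φ n (g + h) = Φ n g + Φ n h) ∧ (∀ (n : ℕ) (a : A), ∀ g ∈ I ^ (n * c'), Φ n (a * g) = a • Φ n g) ∧ (∀ n : ℕ, ∀ g ∈ I ^ (n * c'), (Φ n g).IsHomogeneous n) ∧ (∀ n m : ℕ, ∀ g ∈ I ^ (n * c'), ∀ h ∈ I ^ (m * c'), Φ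 (n + m) (g * h) = Φ n g * Φ m h) ∧ (∀ a : A, Φ 0 a = MvPolynomial.C a) ∧ (∀ (g : A) (hg : g ∈ I ^ c'), Φ 1 g = ∑ j, MvPolynomial.C (φ j ⟨g, Ideal.pow_le_pow_right hcc' hg⟩) * MvPolynomial.X j)) → ∀ n : ℕ, ∃ Ψ : ↥(Submodule.span B {y : N | ∃ g ∈ I ^ (n * c'), ∃ x : N, y = algebraMap A B g • x}) →ₗ[B] (MvPolynomial (Fin r) B ⊗[B] N), (∀ (g : A) (hg : g ∈ I ^ (n * c')) (x : N), Ψ ⟨algebraMap A B g • x, Submodule.subset_span ⟨g, hg, x, rfl⟩⟩ = MvPolynomial.map (algebraMap A B) (Φ n g) ⊗ₜ[B] x) ∧ (∀ y : ↥(Submodule.span B {y : N | ∃ g ∈ I ^ (n * c'), ∃ x : N, y = algebraMap A B g • x}), TensorProduct.lift ((LinearMap.lsmul B N).comp (MvPolynomial.aeval (fun j ↦ algebraMap A B (f j))).toLinearMap) (Ψ y) = (y : N)) ∧ (∀ Ψ' : ↥(Submodule.span B {y : N | ∃ g ∈ I ^ (n * c'), ∃ x : N, y = algebraMap A B g • x}) →ₗ[B] (MvPolynomial (Fin r) B ⊗[B] N), (∀ (g : A) (hg : g ∈ I ^ (n * c')) (x : N), Ψ' ⟨algebraMap A B g • x, Submodule.subset_span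 ⟨g, hg, x, rfl⟩⟩ = MvPolynomial.map (algebraMap A B) (Φ n g) ⊗ₜ[B] x) → Ψ' = Ψ) := by
  obtain ⟨s₀, hs₀⟩ := exists_pow_inf_torsion (B := B) (N := N) (I.map (algebraMap A B))
  refine ⟨c + s₀, Nat.le_add_right c s₀, fun Φ hΦ n => ?_⟩
  obtain ⟨hadd, hsmul, hhom, hmul, hzero, hone⟩ := hΦ
  have hΦeq : ∀ n, ∀ g ∈ I ^ (n * (c + s₀)), Φ n g =
      Groth.Agent.S8819.Phi I (c + s₀) (res I c (c + s₀) (Nat.le_add_right c s₀) φ) n g :=
    Groth.Agent.S8819.Phi_unique I (c + s₀) (res I c (c + s₀) (Nat.le_add_right c s₀) φ) Φ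
      hadd hmul hzero hone
  have hφ'' : ∀ x : ↥(I ^ (c + s₀)), (x : A) =
      ∑ j, f j * (res I c (c + s₀) (Nat.le_add_right c s₀) φ) j x := fun x =>
    hφ ⟨x.1, Ideal.pow_le_pow_right (Nat.le_add_right c s₀) x.2⟩
  have haeval := Groth.Agent.S8819.Phi_aeval I (c + s₀)
    (res I c (c + s₀) (Nat.le_add_right c s₀) φ) f hφ''
  have hker := ker_le I (c + s₀) (res I c (c + s₀) (Nat.le_add_right c s₀) φ) B N n s₀ hs₀
    (fun hn e g hg => by
      obtain ⟨m, rfl⟩ := Nat.exists_eq_succ_of_ne_zero hn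
      exact coeff_Phi_succ_mem I c (c + s₀) s₀ (Nat.le_add_right c s₀) φ le_rfl m g hg e)
  obtain ⟨Ψ, hΨ⟩ := exists_Psi I (c + s₀) (res I c (c + s₀) (Nat.le_add_right c s₀) φ) B N n hker
  have hi : ∀ (g : A) (hg : g ∈ I ^ (n * (c + s₀))) (x : N),
      Ψ ⟨algebraMap A B g • x, Submodule.subset_span ⟨g, hg, x, rfl⟩⟩ =
        MvPolynomial.map (algebraMap A B) (Φ n g) ⊗ₜ[B] x := by
    intro g hg x
    have e : μ I (c + s₀) B N n (Finsupp.single (⟨g, hg⟩, x) 1) = algebraMap A B g • x := by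
      simp [μ, gen]
    have e2 : (⟨algebraMap A B g • x, Submodule.subset_span ⟨g, hg, x, rfl⟩⟩ :
        ↥(Submodule.span B {y : N | ∃ g ∈ I ^ (n * (c + s₀)), ∃ x : N, y = algebraMap A B g • x})) =
        ⟨μ I (c + s₀) B N n (Finsupp.single (⟨g, hg⟩, x) 1), by
          rw [e]; exact Submodule.subset_span ⟨g, hg, x, rfl⟩⟩ := Subtype.ext e.symm
    rw [e2, hΨ, hΦeq n g hg]
    simp [ν]
  refine ⟨Ψ, hi, ?_, ?_⟩
  · intro y
    have hL : (TensorProduct.lift ((LinearMap.lsmul B N).comp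
        (MvPolynomial.aeval (fun j ↦ algebraMap A B (f j))).toLinearMap)) ∘ₗ
        (ν I (c + s₀) (res I c (c + s₀) (Nat.le_add_right c s₀) φ) B N n) =
        μ I (c + s₀) B N n := by
      apply Finsupp.lhom_ext
      intro p b
      obtain ⟨⟨g, hg⟩, x⟩ := p
      simp only [LinearMap.coe_comp, Function.comp_apply, ν, μ, gen,
        Finsupp.linearCombination_single, map_smul, TensorProduct.lift.tmul,
        AlgHom.toLinearMap_apply, LinearMap.lsmul_apply]
      rw [MvPolynomial.aeval_map_algebraMap]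
      have h1 := MvPolynomial.aeval_algebraMap_apply (B := B) f
        (Groth.Agent.S8819.Phi I (c + s₀) (res I c (c + s₀) (Nat.le_add_right c s₀) φ) n g)
      rw [Function.comp_def] at h1
      rw [h1, haeval n g hg]
    obtain ⟨t, ht⟩ : ∃ t, μ I (c + s₀) B N n t = y.1 := by
      have h2 : (y : N) ∈ LinearMap.range (μ I (c + s₀) B N n) := by
        rw [range_μ]
        exact y.2
      exact h2
    have e3 : y = ⟨μ I (c + s₀) B N n t, by rw [ht]; exact y.2⟩ := Subtype.ext ht.symm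
    rw [e3, hΨ]
    exact LinearMap.congr_fun hL t
  · intro Ψ' hΨ'
    apply LinearMap.ext
    rintro ⟨y, hy⟩
    induction hy using Submodule.span_induction with
    | mem y hy =>
      obtain ⟨g, hg, x, rfl⟩ := hy
      rw [hΨ' g hg x, hi g hg x]
    | zero => exact (map_zero Ψ').trans (map_zero Ψ).symm
    | add y z hy hz ihy ihz =>
      have e4 : (⟨y + z, Submodule.add_mem _ hy hz⟩ :
          ↥(Submodule.span B {y : N | ∃ g ∈ I ^ (n * (c + s₀)), ∃ x : N, y = algebraMap A B g • x})) =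
          ⟨y, hy⟩ + ⟨z, hz⟩ := rfl
      rw [e4, map_add, map_add, ihy, ihz]
    | smul b y hy ih =>
      have e5 : (⟨b • y, Submodule.smul_mem _ b hy⟩ :
          ↥(Submodule.span B {y : N | ∃ g ∈ I ^ (n * (c + s₀)), ∃ x : N, y = algebraMap A B g • x})) =
          b • ⟨y, hy⟩ := rfl
      rw [e5, map_smul, map_smul, ih]

end Groth.Agent.S8833
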