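import Groth.Statements.S8834
import Mathlib.RingTheory.Finiteness.Ideal
import Mathlib.RingTheory.Adjoin.Polynomial.Basic
-- import your own Groth.Agent.* helpers here

set_option autoImplicit false
universe u
open AdicRing

namespace Groth.Agent.S8834

open scoped Pointwise

theorem key (A : Type u) [CommRing A] (B : Type u) [CommRing B] [Algebra A B]
    (K : Ideal B) (T : Set B) (hT : Ideal.span T = K) (Sub : Subalgebra A B) (hTS : T ⊆ Sub)
    (h1 : ∀ y : B, ∃ z ∈ Sub, y - z ∈ K) :
    ∀ (n : ℕ) (y : B), ∃ z ∈ Sub, y - z ∈ K ^ n := by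
  have hpow : ∀ (n : ℕ) (x : B), x ∈ (T ^ n : Set B) → x ∈ Sub := by
    intro n
    induction n with
    | zero =>
      intro x hx
      rw [pow_zero, Set.mem_one] at hx
      rw [hx]; exact one_mem _
    | succ n ih =>
      intro x hx
      rw [pow_succ, Set.mem_mul] at hx
      obtain ⟨a, ha, b, hb, rfl⟩ := hx
      exact mul_mem (ih a ha) (hTS hb)
  have hR : ∀ (n : ℕ) (x : B), x ∈ K ^ n → ∃ z ∈ Sub, z ∈ K ^ n ∧ x - z ∈ K ^ (n + 1) := by
    intro n x hx
    have hKn : K ^ n = Ideal.span (T ^ n : Set B) := by
      rw [← hT]; exact Submodule.span_pow (R := B) T n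
    rw [hKn] at hx
    induction hx using Submodule.span_induction with
    | mem x hx =>
      refine ⟨x, hpow n x hx, ?_, by simp⟩
      rw [hKn]; exact Ideal.subset_span hx
    | zero => exact ⟨0, zero_mem _, zero_mem _, by simp⟩
    | add x y _ _ ihx ihy =>
      obtain ⟨z1, hz1, hz1', hz1''⟩ := ihx
      obtain ⟨z2, hz2, hz2', hz2''⟩ := ihy
      refine ⟨z1 + z2, add_mem hz1 hz2, add_mem hz1' hz2', ?_⟩
      have : x + y - (z1 + z2) = (x - z1) + (y - z2) := by ring
      rw [this]; exact add_mem hz1'' hz2''
    | smul c x _ ih =>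
      obtain ⟨z, hz, hz', hz''⟩ := ih
      obtain ⟨zc, hzc, hkc⟩ := h1 c
      refine ⟨zc * z, mul_mem hzc hz, Ideal.mul_mem_left _ _ hz', ?_⟩
      have : c • x - zc * z = c * (x - z) + (c - zc) * z := by simp only [smul_eq_mul]; ring
      rw [this]
      refine add_mem (Ideal.mul_mem_left _ _ hz'') ?_
      rw [pow_succ']
      exact Ideal.mul_mem_mul hkc hz'
  intro n
  induction n with
  | zero => intro y; exact ⟨0, zero_mem _, by simp⟩
  | succ n ih =>
    intro y
    obtain ⟨z, hz, hyz⟩ := ih y
    obtain ⟨z', hz', _, h⟩ := hR n (y - z) hyz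
    refine ⟨z + z', add_mem hz hz', ?_⟩
    have : y - (z + z') = y - z - z' := by ring
    rw [this]; exact h


/-- Let A be a Noetherian ring complete for the adic topology of an ideal I and B a Noetherian ring
complete for the adic topology of an ideal J, with an algebra map A → B sending I into the radical
of J (a continuous homomorphism of adic Noetherian topological rings; the radicals of I and J are
the ideals of topologically nilpotent elements). Assume B/√J is of finite type over A, equivalently
over A/√I. Then B is topologically of finite type over A: there are b_1, …, b_s ∈ B such that the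
A-algebra map A[x_1, …, x_s] → B with x_i ↦ b_i has dense image for the J-adic topology, that is,
for every y ∈ B and every n there is a polynomial whose value at b differs from y by an element of
J^n. -/
theorem result (A : Type u) [CommRing A] [IsNoetherianRing A] (I : Ideal A) [IsAdicComplete I A] (B : Type u) [CommRing B] [Algebra A B] [IsNoetherianRing B] (J : Ideal B) [IsAdicComplete J B] (hIJ : I.map (algebraMap A B) ≤ J.radical) (hft : Algebra.FiniteType A (B ⧸ J.radical)) : ∃ s : ℕ, ∃ b : Fin s → B, ∀ (y : B) (n : ℕ), ∃ p : MvPolynomial (Fin s) A, y - MvPolynomial.aeval b p ∈ J ^ n := by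
  classical
  set K := J.radical with hK
  have hKfg : K.FG := IsNoetherian.noetherian K
  obtain ⟨m, hm⟩ := Ideal.exists_radical_pow_le_of_fg J hKfg
  obtain ⟨T, hT⟩ := hKfg
  obtain ⟨S, hS⟩ := hft.out
  -- lift generators
  have hsurj : Function.Surjective (Ideal.Quotient.mk K) := Ideal.Quotient.mk_surjective
  choose lift hlift using hsurj
  let G : Finset B := S.image lift ∪ T
  let Sub : Subalgebra A B := Algebra.adjoin A (G : Set B)
  have hTS : (T : Set B) ⊆ Sub := by
    intro t ht
    exact Algebra.subset_adjoin (by simp [G, Finset.mem_coe.mp ht])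
  have h1 : ∀ y : B, ∃ z ∈ Sub, y - z ∈ K := by
    have hmap : Sub.map (Ideal.Quotient.mkₐ A K) = ⊤ := by
      rw [eq_top_iff, ← hS]
      apply Algebra.adjoin_le
      intro x hx
      refine ⟨lift x, Algebra.subset_adjoin ?_, hlift x⟩
      simp only [G, Finset.coe_union, Finset.coe_image, Set.mem_union, Set.mem_image, Finset.mem_coe]
      exact Or.inl ⟨x, hx, rfl⟩
    intro y
    have : Ideal.Quotient.mk K y ∈ Sub.map (Ideal.Quotient.mkₐ A K) := by rw [hmap]; trivial
    obtain ⟨z, hz, hzy⟩ := this
    refine ⟨z, hz, ?_⟩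
    rw [← Ideal.Quotient.eq]
    exact hzy.symm
  have hkey := key A B K (T : Set B) hT Sub hTS h1
  refine ⟨G.card, fun i => (G.equivFin.symm i : B), ?_⟩
  intro y n
  obtain ⟨z, hz, hyz⟩ := hkey (m * n) y
  have hrange : Set.range (fun i => (G.equivFin.symm i : B)) = (G : Set B) := by
    ext x
    constructor
    · rintro ⟨i, rfl⟩; exact (G.equivFin.symm i).2
    · intro hx; exact ⟨G.equivFin ⟨x, hx⟩, by simp⟩
  have hz' : z ∈ (MvPolynomial.aeval (R := A) (fun i => (G.equivFin.symm i : B))).range := by
    rw [← Algebra.adjoin_range_eq_range_aeval, hrange]; exact hz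
  obtain ⟨p, hp⟩ := hz'
  refine ⟨p, ?_⟩
  change (MvPolynomial.aeval fun i => (G.equivFin.symm i : B)) p = z at hp
  rw [hp]
  have : K ^ (m * n) ≤ J ^ n := by
    rw [pow_mul]; exact Ideal.pow_right_mono hm n
  exact this hyz

end Groth.Agent.S8834
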