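import Groth.Statements.S8836
import Mathlib
import Groth.Agent.S8804

set_option autoImplicit false
universe u
open AdicRing

namespace Groth.Agent.S8836

/-- Let A be a Noetherian ring complete for the adic topology of an ideal I, and B a Noetherian
A-algebra complete for the IB-adic topology, flat over A, with B/IB of finite type over A (a flat
adic morphism, topologically of finite type, of adic Noetherian topological rings). Let p be a prime
of A which is rig-closed (I ⊄ p and p maximal among the primes not containing I). The following are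
equivalent: (1) the maximal ideal of the local ring A/p lies in the image of Spec(B/√(IB)) →
Spec(A/√I), stated as: some prime Q of B containing IB lies over a maximal ideal of A containing p;
(2) there is a rig-closed prime q of B (IB ⊄ q, q maximal among the primes not containing IB) whose
inverse image in A is p. (The published statement adds that, when these hold, A/p ⊆ B/q is a finite
extension of rings and the residue field of the local ring B/q is finite over A/√I; this is not
restated here.) -/
theorem result (A : Type u) [CommRing A] [IsNoetherianRing A] (I : Ideal A) [IsAdicComplete I A] (B : Type u) [CommRing B] [Algebra A B] [IsNoetherianRing B] [IsAdicComplete (I.map (algebraMap A B)) B] (hft : Algebra.FiniteType A (B ⧸ (I.map (algebraMap A B)))) [Module.Flat A B] (p : PrimeSpectrum A) (hp : (¬ I ≤ p.asIdeal ∧ ∀ y : PrimeSpectrum A, p ≤ y → ¬ I ≤ y.asIdeal → y = p)) : (∃ Q : PrimeSpectrum B, (I.map (algebraMap A B)) ≤ Q.asIdeal ∧ p.asIdeal ≤ (PrimeSpectrum.comap (algebraMap A B) Q).asIdeal ∧ (PrimeSpectrum.comap (algebraMap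 A B) Q).asIdeal.IsMaximal) ↔ (∃ q : PrimeSpectrum B, (¬ (I.map (algebraMap A B)) ≤ q.asIdeal ∧ ∀ y : PrimeSpectrum B, q ≤ y → ¬ (I.map (algebraMap A B)) ≤ y.asIdeal → y = q) ∧ PrimeSpectrum.comap (algebraMap A B) q = p) := by
  constructor
  · rintro ⟨Q, hIQ, hpQ, hmax⟩
    have hpprime : p.asIdeal.IsPrime := p.isPrime
    have hQprime : Q.asIdeal.IsPrime := Q.isPrime
    have hunder : (Q.asIdeal.under A).IsPrime := Ideal.comap_isPrime _ _
    have hlies : Q.asIdeal.LiesOver (Q.asIdeal.under A) := ⟨rfl⟩
    have hpQ' : p.asIdeal ≤ Q.asIdeal.under A := hpQ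
    obtain ⟨q', hq'Q, hq'prime, hq'over⟩ :=
      Ideal.exists_ideal_le_liesOver_of_le (p := p.asIdeal) (q := Q.asIdeal.under A)
        Q.asIdeal hpQ'
    have hq'I : ¬ I.map (algebraMap A B) ≤ q' := by
      intro h
      apply hp.1
      rw [hq'over.over]
      exact Ideal.map_le_iff_le_comap.mp h
    let S : Set (Ideal B) := {q | q.IsPrime ∧ q' ≤ q ∧ ¬ I.map (algebraMap A B) ≤ q}
    have hne : S.Nonempty := ⟨q', hq'prime, le_rfl, hq'I⟩
    obtain ⟨q, hqS, hqmax⟩ := wellFounded_gt.has_min S hne
    obtain ⟨hqprime, hq'q, hqI⟩ := hqS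
    refine ⟨⟨q, hqprime⟩, ⟨hqI, ?_⟩, ?_⟩
    · intro y hqy hyI
      have hyS : y.asIdeal ∈ S := ⟨y.isPrime, hq'q.trans hqy, hyI⟩
      have hnlt := hqmax y.asIdeal hyS
      have hqy' : q ≤ y.asIdeal := hqy
      have : y.asIdeal = q := by
        by_contra hne'
        exact hnlt (lt_of_le_of_ne hqy' (Ne.symm hne'))
      exact PrimeSpectrum.ext this
    · apply hp.2
      · change p.asIdeal ≤ q.comap (algebraMap A B)
        rw [hq'over.over]
        exact Ideal.comap_mono hq'q
      · intro h
        apply hqI
        exact Ideal.map_le_iff_le_comap.mpr h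
  · rintro ⟨q, hq, rfl⟩
    obtain ⟨M, hM, hqM⟩ := Ideal.exists_le_maximal q.asIdeal q.isPrime.ne_top
    have hMprime : M.IsPrime := hM.isPrime
    have hIM : I.map (algebraMap A B) ≤ M := by
      refine (IsAdicComplete.le_jacobson_bot (I.map (algebraMap A B))).trans ?_
      have h1 : Ideal.jacobson (⊥ : Ideal B) ≤ Ideal.jacobson M := Ideal.jacobson_mono bot_le
      rwa [Ideal.jacobson_eq_self_of_isMaximal (I := M)] at h1
    refine ⟨⟨M, hMprime⟩, hIM, Ideal.comap_mono hqM, ?_⟩
    have tfaeA := Groth.Agent.S8804.result A I (PrimeSpectrum.comap (algebraMap A B) q)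
    obtain ⟨hdim, hnle⟩ := (tfaeA.out 0 1).mp hp
    set pp : Ideal A := (PrimeSpectrum.comap (algebraMap A B) q).asIdeal with hpp
    have hppprime : pp.IsPrime := (PrimeSpectrum.comap (algebraMap A B) q).isPrime
    change (M.comap (algebraMap A B)).IsMaximal
    set P : Ideal A := M.comap (algebraMap A B) with hP
    have hPprime : P.IsPrime := Ideal.comap_isPrime _ _
    have hppP : pp ≤ P := Ideal.comap_mono hqM
    have hIP : I ≤ P := Ideal.map_le_iff_le_comap.mp hIM
    have hsurj : Function.Surjective (Ideal.Quotient.mk pp) := Ideal.Quotient.mk_surjective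
    have h1 : Ring.KrullDimLE 1 (A ⧸ pp) := by
      rw [Ring.krullDimLE_iff, hdim]; rfl
    have hmapprime : (P.map (Ideal.Quotient.mk pp)).IsPrime :=
      Ideal.map_isPrime_of_surjective hsurj (by rw [Ideal.mk_ker]; exact hppP)
    have hmapne : P.map (Ideal.Quotient.mk pp) ≠ ⊥ := by
      rw [Ne, Ideal.map_eq_bot_iff_le_ker, Ideal.mk_ker]
      intro h
      exact hnle (hIP.trans h)
    have hmapmax := Ring.krullDimLE_one_iff_of_noZeroDivisors.mp h1 _ hmapne hmapprime
    have hcomap : (P.map (Ideal.Quotient.mk pp)).comap (Ideal.Quotient.mk pp) = P := by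
      rw [Ideal.comap_map_of_surjective _ hsurj, ← RingHom.ker_eq_comap_bot, Ideal.mk_ker]
      exact sup_eq_left.mpr hppP
    rw [← hcomap]
    exact Ideal.comap_isMaximal_of_surjective _ hsurj

end Groth.Agent.S8836
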