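import Groth.Statements.S8839
import Mathlib
import Groth.Agent.S8829
import Groth.Agent.Lib.Helper15.ComplQuot
import Groth.Agent.Lib.Helper83.FlatCompl
import Groth.Agent.Lib.Helper83.FlatLocalDim

set_option autoImplicit false
universe u
open AdicRing

namespace Groth.Agent.S8839

/-- a flat local homomorphism with `𝔪_R S = 𝔪_S` and trivial residue field extension induces
isomorphisms modulo all powers of the maximal ideals. -/
theorem local_iso_mod_pow {R S : Type*} [CommRing R] [CommRing S] [IsLocalRing R] [IsLocalRing S]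
    (φ : R →+* S) [IsLocalHom φ] (hflat : φ.Flat)
    (hmax : (IsLocalRing.maximalIdeal R).map φ = IsLocalRing.maximalIdeal S)
    (hres : ∀ s : S, ∃ r : R, s - φ r ∈ IsLocalRing.maximalIdeal S) (m : ℕ) :
    (∀ x : R, φ x ∈ IsLocalRing.maximalIdeal S ^ m → x ∈ IsLocalRing.maximalIdeal R ^ m) ∧
    (∀ y : S, ∃ x : R, y - φ x ∈ IsLocalRing.maximalIdeal S ^ m) := by
  constructor
  · intro x hx
    let _ : Algebra R S := φ.toAlgebra
    have hfl : Module.Flat R S := hflat
    have : IsLocalHom (algebraMap R S) := ‹IsLocalHom φ›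
    have hff : Module.FaithfullyFlat R S := Module.FaithfullyFlat.of_flat_of_isLocalHom
    have h1 : ((IsLocalRing.maximalIdeal R ^ m).map (algebraMap R S)).comap (algebraMap R S) =
        IsLocalRing.maximalIdeal R ^ m := Ideal.comap_map_eq_self_of_faithfullyFlat _
    rw [← h1, Ideal.mem_comap, Ideal.map_pow]
    change φ x ∈ (Ideal.map φ (IsLocalRing.maximalIdeal R)) ^ m
    rw [hmax]
    exact hx
  · induction m with
    | zero =>
      intro y
      exact ⟨0, by simp⟩
    | succ m ih =>
      intro y
      obtain ⟨x, hx⟩ := ih y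
      rw [← hmax, ← Ideal.map_pow] at hx
      -- elements of `𝔪_R^m S` are `φ`-combinations
      have key : ∀ z ∈ (IsLocalRing.maximalIdeal R ^ m).map φ,
          ∃ x' : R, z - φ x' ∈ IsLocalRing.maximalIdeal S ^ (m + 1) := by
        intro z hz
        refine Submodule.span_induction (p := fun z _ => ∃ x' : R, z - φ x' ∈
          IsLocalRing.maximalIdeal S ^ (m + 1)) ?_ ?_ ?_ ?_ hz
        · rintro _ ⟨a, ha, rfl⟩
          exact ⟨a, by simp⟩
        · exact ⟨0, by simp⟩
        · rintro z₁ z₂ _ _ ⟨x₁, h₁⟩ ⟨x₂, h₂⟩
          refine ⟨x₁ + x₂, ?_⟩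
          have : z₁ + z₂ - φ (x₁ + x₂) = (z₁ - φ x₁) + (z₂ - φ x₂) := by
            rw [map_add]; ring
          rw [this]
          exact Ideal.add_mem _ h₁ h₂
        · rintro s z hz' ⟨x₁, h₁⟩
          obtain ⟨r, hr⟩ := hres s
          -- `s • z = (s - φ r) z + φ r z`
          have hzm : z ∈ IsLocalRing.maximalIdeal S ^ m := by
            have : (IsLocalRing.maximalIdeal R ^ m).map φ = IsLocalRing.maximalIdeal S ^ m := by
              rw [Ideal.map_pow, hmax]
            rw [← this]
            exact hz'
          refine ⟨r * x₁, ?_⟩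
          have : s • z - φ (r * x₁) = (s - φ r) * z + φ r * (z - φ x₁) := by
            rw [map_mul, smul_eq_mul]; ring
          rw [this]
          refine Ideal.add_mem _ ?_ (Ideal.mul_mem_left _ _ h₁)
          rw [pow_succ']
          exact Ideal.mul_mem_mul hr hzm
      obtain ⟨x', hx'⟩ := key _ hx
      refine ⟨x + x', ?_⟩
      have : y - φ (x + x') = (y - φ x) - φ x' := by rw [map_add]; ring
      rw [this]
      exact hx'

/-- from a flat algebra `P → P'` with `q = q' P'` and `P → P'/q` surjective to the local rings. -/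
theorem local_data {P P' : Type*} [CommRing P] [CommRing P'] [Algebra P P'] [Module.Flat P P']
    (q : Ideal P') [q.IsPrime]
    (hq : q = (q.comap (algebraMap P P')).map (algebraMap P P'))
    (hsurj : ∀ y : P', ∃ g : P, y - algebraMap P P' g ∈ q) :
    (Localization.localRingHom (q.comap (algebraMap P P')) q (algebraMap P P') rfl).Flat ∧
    (IsLocalRing.maximalIdeal (Localization.AtPrime (q.comap (algebraMap P P')))).map
      (Localization.localRingHom (q.comap (algebraMap P P')) q (algebraMap P P') rfl) =
      IsLocalRing.maximalIdeal (Localization.AtPrime q) ∧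
    (∀ s : Localization.AtPrime q, ∃ r : Localization.AtPrime (q.comap (algebraMap P P')),
      s - Localization.localRingHom (q.comap (algebraMap P P')) q (algebraMap P P') rfl r ∈
        IsLocalRing.maximalIdeal (Localization.AtPrime q)) := by
  have hcomp : (Localization.localRingHom (q.comap (algebraMap P P')) q (algebraMap P P') rfl).comp
      (algebraMap P (Localization.AtPrime (q.comap (algebraMap P P')))) =
      (algebraMap P' (Localization.AtPrime q)).comp (algebraMap P P') := by
    refine RingHom.ext fun a => ?_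
    simp [Localization.localRingHom_to_map]
  refine ⟨?_, ?_, ?_⟩
  · exact RingHom.Flat.localRingHom (RingHom.flat_algebraMap_iff.mpr inferInstance) q _ rfl
  · rw [← Localization.AtPrime.map_eq_maximalIdeal, ← Localization.AtPrime.map_eq_maximalIdeal,
      Ideal.map_map, hcomp, ← Ideal.map_map, ← hq]
  · intro s
    obtain ⟨⟨y, t⟩, hs⟩ := IsLocalization.surj q.primeCompl s
    obtain ⟨g, hg⟩ := hsurj y
    obtain ⟨h, hh⟩ := hsurj t
    have hhq : h ∈ (q.comap (algebraMap P P')).primeCompl := by
      intro hmem
      have h1 : algebraMap P P' h ∈ q := hmem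
      have h2 : (t : P') ∈ q := by
        have := Ideal.add_mem _ hh h1
        simpa using this
      exact t.2 h2
    refine ⟨IsLocalization.mk' _ g ⟨h, hhq⟩, ?_⟩
    set φ := Localization.localRingHom (q.comap (algebraMap P P')) q (algebraMap P P') rfl with hφ
    set r := IsLocalization.mk' (Localization.AtPrime (q.comap (algebraMap P P'))) g ⟨h, hhq⟩ with hr
    -- `φ r * alg (of h) = alg (of g)`
    have h3 : φ r * algebraMap P' (Localization.AtPrime q) (algebraMap P P' h) =
        algebraMap P' (Localization.AtPrime q) (algebraMap P P' g) := by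
      have e1 : r * algebraMap P _ h = algebraMap P _ g := IsLocalization.mk'_spec _ g ⟨h, hhq⟩
      have e2 := congrArg φ e1
      rw [map_mul] at e2
      have e3 := RingHom.congr_fun hcomp h
      have e4 := RingHom.congr_fun hcomp g
      simp only [RingHom.comp_apply] at e3 e4
      rw [e3, e4] at e2
      exact e2
    have hs' : s * algebraMap P' (Localization.AtPrime q) (t : P') =
        algebraMap P' (Localization.AtPrime q) y := hs
    -- the unit
    have hu : IsUnit (algebraMap P' (Localization.AtPrime q) ((t : P') * algebraMap P P' h)) := by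
      apply IsLocalization.map_units (M := q.primeCompl) (Localization.AtPrime q) ⟨_, ?_⟩
      refine q.primeCompl.mul_mem t.2 ?_
      intro hmem
      exact hhq hmem
    have hmem : algebraMap P' (Localization.AtPrime q) ((t : P') * algebraMap P P' h) *
        (s - φ r) ∈ IsLocalRing.maximalIdeal (Localization.AtPrime q) := by
      have e : algebraMap P' (Localization.AtPrime q) ((t : P') * algebraMap P P' h) *
          (s - φ r) = algebraMap P' (Localization.AtPrime q)
            ((y - algebraMap P P' g) * algebraMap P P' h -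
              algebraMap P P' g * ((t : P') - algebraMap P P' h)) := by
        simp only [map_mul, map_sub]
        rw [← hs', ← h3]
        ring
      rw [e, ← Localization.AtPrime.map_eq_maximalIdeal]
      apply Ideal.mem_map_of_mem
      exact Ideal.sub_mem _ (Ideal.mul_mem_right _ _ hg) (Ideal.mul_mem_left _ _ hh)
    have := Ideal.mul_mem_left _ (↑hu.unit⁻¹ : Localization.AtPrime q) hmem
    rwa [← mul_assoc, IsUnit.val_inv_mul, one_mul] at this

/-- a finite module over a precomplete ring is precomplete. -/
theorem isPrecomplete_of_finite {R : Type*} [CommRing R] (I : Ideal R) [IsPrecomplete I R]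
    (M : Type*) [AddCommGroup M] [Module R M] [Module.Finite R M] : IsPrecomplete I M := by
  rw [← AdicCompletion.of_surjective_iff]
  intro y
  obtain ⟨t, rfl⟩ := AdicCompletion.ofTensorProduct_surjective_of_finite I M y
  induction t using TensorProduct.induction_on with
  | zero => exact ⟨0, by simp⟩
  | tmul r m =>
    obtain ⟨a, rfl⟩ := AdicCompletion.of_surjective I R r
    refine ⟨a • m, ?_⟩
    rw [AdicCompletion.ofTensorProduct_tmul]
    apply AdicCompletion.ext
    intro n
    simp
    rfl
  | add t₁ t₂ h₁ h₂ =>
    obtain ⟨a, ha⟩ := h₁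
    obtain ⟨b, hb⟩ := h₂
    exact ⟨a + b, by rw [map_add, ha, hb, map_add]⟩

/-- the special fibre of the completion of a finite type algebra is of finite type. -/
theorem finiteType_quot_adicCompletion (A R : Type u) [CommRing A] [CommRing R] [Algebra A R]
    [IsNoetherianRing R] [Algebra.FiniteType A R] (I : Ideal A) :
    Algebra.FiniteType A ((AdicCompletion (I.map (algebraMap A R)) R) ⧸ I.map (algebraMap A (AdicCompletion (I.map (algebraMap A R)) R))) := by
  have hKmap : I.map (algebraMap A (AdicCompletion (I.map (algebraMap A R)) R)) = (I.map (algebraMap A R)).map (algebraMap R (AdicCompletion (I.map (algebraMap A R)) R)) :=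
    ((congrArg (fun φ => I.map φ) (IsScalarTower.algebraMap_eq A R (AdicCompletion (I.map (algebraMap A R)) R))).trans
      (Ideal.map_map _ _).symm)
  let φ : R →ₐ[A] ((AdicCompletion (I.map (algebraMap A R)) R) ⧸ I.map (algebraMap A (AdicCompletion (I.map (algebraMap A R)) R))) :=
    (Ideal.Quotient.mkₐ A _).comp (IsScalarTower.toAlgHom A R (AdicCompletion (I.map (algebraMap A R)) R))
  apply Algebra.FiniteType.of_surjective φ
  intro y
  obtain ⟨y, rfl⟩ := Ideal.Quotient.mk_surjective y
  obtain ⟨a, ha⟩ := Groth.Agent.Lib.Helper83.FlatCompl.exists_sub_of_mem (I.map (algebraMap A R)) 1 y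
  refine ⟨a, ?_⟩
  change Ideal.Quotient.mk _ (algebraMap _ _ a) = Ideal.Quotient.mk _ y
  rw [eq_comm, Ideal.Quotient.eq, hKmap]
  rw [pow_one, Ideal.smul_top_eq_map] at ha
  exact ha

/-- **Core**: if `R̂ ⧸ q` is finite over the complete base `A`, then `q = (q ∩ R) R̂` and
`R → R̂ ⧸ q` is surjective. -/
theorem core (A : Type u) [CommRing A] [IsNoetherianRing A] (I : Ideal A) [IsAdicComplete I A]
    (R : Type u) [CommRing R] [Algebra A R] [IsNoetherianRing R]
    (q : Ideal (AdicCompletion (I.map (algebraMap A R)) R)) [q.IsPrime] (hfin : Module.Finite A ((AdicCompletion (I.map (algebraMap A R)) R) ⧸ q)) :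
    q = (q.comap (algebraMap R (AdicCompletion (I.map (algebraMap A R)) R))).map (algebraMap R (AdicCompletion (I.map (algebraMap A R)) R)) ∧ ∀ y : (AdicCompletion (I.map (algebraMap A R)) R), ∃ g : R, y - algebraMap R (AdicCompletion (I.map (algebraMap A R)) R) g ∈ q := by
  -- `D = R ⧸ q'` is finite over `A`
  let ι : (R ⧸ (q.comap (algebraMap R (AdicCompletion (I.map (algebraMap A R)) R)))) →ₐ[A] ((AdicCompletion (I.map (algebraMap A R)) R) ⧸ q) :=
    Ideal.quotientMapₐ q (IsScalarTower.toAlgHom A R (AdicCompletion (I.map (algebraMap A R)) R)) (fun x hx => hx)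
  have hι : Function.Injective ι := by
    rw [injective_iff_map_eq_zero]
    intro x hx
    obtain ⟨g, rfl⟩ := Ideal.Quotient.mk_surjective x
    have h1 : Ideal.Quotient.mk q (algebraMap R (AdicCompletion (I.map (algebraMap A R)) R) g) = 0 := hx
    rw [Ideal.Quotient.eq_zero_iff_mem] at h1 ⊢
    exact h1
  have hfinD : Module.Finite A (R ⧸ (q.comap (algebraMap R (AdicCompletion (I.map (algebraMap A R)) R)))) := Module.Finite.of_injective ι.toLinearMap hι
  have hprecD : IsPrecomplete I (R ⧸ (q.comap (algebraMap R (AdicCompletion (I.map (algebraMap A R)) R)))) := isPrecomplete_of_finite I _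
  have hprecD' : IsPrecomplete ((I.map (algebraMap A R)).map (Ideal.Quotient.mk (q.comap (algebraMap R (AdicCompletion (I.map (algebraMap A R)) R))))) (R ⧸ (q.comap (algebraMap R (AdicCompletion (I.map (algebraMap A R)) R)))) := by
    have e : (I.map (algebraMap A R)).map (Ideal.Quotient.mk (q.comap (algebraMap R (AdicCompletion (I.map (algebraMap A R)) R)))) = I.map (algebraMap A (R ⧸ (q.comap (algebraMap R (AdicCompletion (I.map (algebraMap A R)) R))))) :=
      Ideal.map_map _ _
    rw [e]
    exact (IsPrecomplete.map_algebraMap_iff (S := R ⧸ (q.comap (algebraMap R (AdicCompletion (I.map (algebraMap A R)) R))))).mpr hprecD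
  -- approximation modulo `q' R̂`
  have happrox : ∀ y : (AdicCompletion (I.map (algebraMap A R)) R), ∃ g : R, y - algebraMap R (AdicCompletion (I.map (algebraMap A R)) R) g ∈ (q.comap (algebraMap R (AdicCompletion (I.map (algebraMap A R)) R))).map (algebraMap R (AdicCompletion (I.map (algebraMap A R)) R)) := by
    intro y
    obtain ⟨d, hd⟩ := AdicCompletion.of_surjective ((I.map (algebraMap A R)).map (Ideal.Quotient.mk (q.comap (algebraMap R (AdicCompletion (I.map (algebraMap A R)) R))))) (R ⧸ (q.comap (algebraMap R (AdicCompletion (I.map (algebraMap A R)) R))))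
      (Groth.Agent.Lib.Helper15.ComplQuot.Φ (I.map (algebraMap A R)) (q.comap (algebraMap R (AdicCompletion (I.map (algebraMap A R)) R))) y)
    obtain ⟨g, rfl⟩ := Ideal.Quotient.mk_surjective d
    refine ⟨g, ?_⟩
    rw [← Groth.Agent.Lib.Helper15.ComplQuot.ker_Φ, RingHom.mem_ker, map_sub, sub_eq_zero, ← hd]
    have : algebraMap R (AdicCompletion (I.map (algebraMap A R)) R) g = AdicCompletion.of (I.map (algebraMap A R)) R g := by
      rw [AdicCompletion.algebraMap_apply, Algebra.algebraMap_self, RingHom.id_apply]
    rw [this, Groth.Agent.Lib.Helper15.ComplQuot.Φ_of]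
  have hle : (q.comap (algebraMap R (AdicCompletion (I.map (algebraMap A R)) R))).map (algebraMap R (AdicCompletion (I.map (algebraMap A R)) R)) ≤ q := Ideal.map_comap_le
  refine ⟨le_antisymm ?_ hle, fun y => ?_⟩
  · intro y hy
    obtain ⟨g, hg⟩ := happrox y
    have h1 : algebraMap R (AdicCompletion (I.map (algebraMap A R)) R) g ∈ q := by
      have := Ideal.sub_mem _ hy (hle hg)
      simpa using this
    have h2 : algebraMap R (AdicCompletion (I.map (algebraMap A R)) R) g ∈ (q.comap (algebraMap R (AdicCompletion (I.map (algebraMap A R)) R))).map (algebraMap R (AdicCompletion (I.map (algebraMap A R)) R)) := Ideal.mem_map_of_mem _ h1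
    have := Ideal.add_mem _ hg h2
    simpa using this
  · obtain ⟨g, hg⟩ := happrox y
    exact ⟨g, hle hg⟩

/-- Let A be a Noetherian ring complete for the adic topology of an ideal I, n a natural number, and
A{x_1, …, x_n} the restricted power series ring, i.e. the I-adic completion of the polynomial ring
A[x_1, …, x_n]. Let q be a prime ideal of A{x_1, …, x_n}, q' its inverse image in A[x_1, …, x_n] and
p its inverse image in A. Assume q is rig-closed (the extension of I is not contained in q and q is
maximal among such primes) and p is rig-closed in A (I ⊄ p, p maximal among the primes not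
containing I). Then the local homomorphism A[x_1, …, x_n]_{q'} → A{x_1, …, x_n}_q induces an
isomorphism on completions with respect to the maximal ideals; stated as: for every m ≥ 1 the
induced map on quotients by the m-th powers of the maximal ideals is injective and surjective. -/
theorem result (A : Type u) [CommRing A] [IsNoetherianRing A] (I : Ideal A) [IsAdicComplete I A] (n : ℕ) (q : PrimeSpectrum (AdicCompletion (I.map (algebraMap A (MvPolynomial (Fin n) A))) (MvPolynomial (Fin n) A))) (hq : (¬ (I.map (algebraMap A (AdicCompletion (I.map (algebraMap A (MvPolynomial (Fin n) A))) (MvPolynomial (Fin n) A)))) ≤ q.asIdeal ∧ ∀ y : PrimeSpectrum (AdicCompletion (I.map (algebraMap A (MvPolynomial (Fin n) A))) (MvPolynomial (Fin n) A)), q ≤ y → ¬ (I.map (algebraMap A (AdicCompletion (I.map (algebraMap A (MvPolynomial (Fin n) A))) (MvPolynomial (Fin n) A)))) ≤ y.asIdeal → y = q)) (hp : (¬ I ≤ (PrimeSpectrum.comap (algebraMap A (AdicCompletion (I.map (algebraMap A (MvPolynomial (Fin n) A))) (MvPolynomial (Fin n) A))) q).asIdeal ∧ ∀ y : PrimeSpectrum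 A, (PrimeSpectrum.comap (algebraMap A (AdicCompletion (I.map (algebraMap A (MvPolynomial (Fin n) A))) (MvPolynomial (Fin n) A))) q) ≤ y → ¬ I ≤ y.asIdeal → y = (PrimeSpectrum.comap (algebraMap A (AdicCompletion (I.map (algebraMap A (MvPolynomial (Fin n) A))) (MvPolynomial (Fin n) A))) q))) (m : ℕ) (hm : 1 ≤ m) : (∀ x : (Localization.AtPrime (PrimeSpectrum.comap (algebraMap (MvPolynomial (Fin n) A) (AdicCompletion (I.map (algebraMap A (MvPolynomial (Fin n) A))) (MvPolynomial (Fin n) A))) q).asIdeal), (Localization.localRingHom (PrimeSpectrum.comap (algebraMap (MvPolynomial (Fin n) A) (AdicCompletion (I.map (algebraMap A (MvPolynomial (Fin n) A))) (MvPolynomial (Fin n) A))) q).asIdeal q.asIdeal (algebraMap (MvPolynomial (Fin n) A) (AdicCompletion (I.map (algebraMap A (MvPolynomial (Fin n) A))) (MvPolynomial (Fin n) A))) rfl) x ∈ (IsLocalRing.maximalIdeal (Localization.AtPrime q.asIdeal)) ^ m → x ∈ (IsLocalRing.maximalIdeal (Localization.AtPrime (PrimeSpectrum.comap (algebraMap (MvPolynomial (Fin n) A) (AdicCompletion (I.map (algebraMap A (MvPolynomial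 (Fin n) A))) (MvPolynomial (Fin n) A))) q).asIdeal)) ^ m) ∧ (∀ y : (Localization.AtPrime q.asIdeal), ∃ x : (Localization.AtPrime (PrimeSpectrum.comap (algebraMap (MvPolynomial (Fin n) A) (AdicCompletion (I.map (algebraMap A (MvPolynomial (Fin n) A))) (MvPolynomial (Fin n) A))) q).asIdeal), y - (Localization.localRingHom (PrimeSpectrum.comap (algebraMap (MvPolynomial (Fin n) A) (AdicCompletion (I.map (algebraMap A (MvPolynomial (Fin n) A))) (MvPolynomial (Fin n) A))) q).asIdeal q.asIdeal (algebraMap (MvPolynomial (Fin n) A) (AdicCompletion (I.map (algebraMap A (MvPolynomial (Fin n) A))) (MvPolynomial (Fin n) A))) rfl) x ∈ (IsLocalRing.maximalIdeal (Localization.AtPrime q.asIdeal)) ^ m) := by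
  have hqp : q.asIdeal.IsPrime := q.isPrime
  have hNP : IsNoetherianRing (AdicCompletion (I.map (algebraMap A (MvPolynomial (Fin n) A))) (MvPolynomial (Fin n) A)) :=
    Groth.Agent.Lib.Helper83.isNoetherianRing_adicCompletion _
  have hIeq : (I.map (algebraMap A (MvPolynomial (Fin n) A))).map (algebraMap (MvPolynomial (Fin n) A) (AdicCompletion (I.map (algebraMap A (MvPolynomial (Fin n) A))) (MvPolynomial (Fin n) A))) = I.map (algebraMap A (AdicCompletion (I.map (algebraMap A (MvPolynomial (Fin n) A))) (MvPolynomial (Fin n) A))) :=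
    (Ideal.map_map _ _).trans
      (congrArg (fun φ => I.map φ) (IsScalarTower.algebraMap_eq A (MvPolynomial (Fin n) A) (AdicCompletion (I.map (algebraMap A (MvPolynomial (Fin n) A))) (MvPolynomial (Fin n) A))).symm)
  have hc : IsAdicComplete (I.map (algebraMap A (AdicCompletion (I.map (algebraMap A (MvPolynomial (Fin n) A))) (MvPolynomial (Fin n) A)))) (AdicCompletion (I.map (algebraMap A (MvPolynomial (Fin n) A))) (MvPolynomial (Fin n) A)) := by
    have h0 := AdicCompletion.isAdicComplete_self (I.map (algebraMap A (MvPolynomial (Fin n) A))) (Ideal.fg_of_isNoetherianRing _)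
    rw [hIeq] at h0
    exact h0
  have hft : Algebra.FiniteType A ((AdicCompletion (I.map (algebraMap A (MvPolynomial (Fin n) A))) (MvPolynomial (Fin n) A)) ⧸ I.map (algebraMap A (AdicCompletion (I.map (algebraMap A (MvPolynomial (Fin n) A))) (MvPolynomial (Fin n) A)))) :=
    finiteType_quot_adicCompletion A (MvPolynomial (Fin n) A) I
  have tfae := Groth.Agent.S8829.result A I (AdicCompletion (I.map (algebraMap A (MvPolynomial (Fin n) A))) (MvPolynomial (Fin n) A)) hft q hq
  have hfin : Module.Finite A ((AdicCompletion (I.map (algebraMap A (MvPolynomial (Fin n) A))) (MvPolynomial (Fin n) A)) ⧸ q.asIdeal) := (tfae.out 1 2).mp hp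
  obtain ⟨hqeq, hsurj⟩ := core A I (MvPolynomial (Fin n) A) q.asIdeal hfin
  obtain ⟨hflat, hmax, hres⟩ := local_data q.asIdeal hqeq hsurj
  exact local_iso_mod_pow _ hflat hmax hres m

end Groth.Agent.S8839
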