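import Groth.Statements.S8841
import Mathlib
import Groth.Agent.Lib.Helper83.FlatExt
import Groth.Agent.Lib.Helper83.FlatCompl
import Groth.Agent.S8804
import Groth.Agent.S8835
import Groth.Agent.S8837

set_option autoImplicit false
universe u
open AdicRing

namespace Groth.Agent.S8841

open Groth.Agent.Lib.Helper83

/-- flatness passes to local rings of the target -/
theorem flat_comp_localRingHom {A B B' : Type u} [CommRing A] [CommRing B] [CommRing B']
    (φ : A →+* B) (β : B →+* B') (hβ : β.Flat) (q' : Ideal B') [q'.IsPrime] (q : Ideal B)
    [q.IsPrime] (hq : q = q'.comap β)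
    (h : ((algebraMap B (Localization.AtPrime q)).comp φ).Flat) :
    ((algebraMap B' (Localization.AtPrime q')).comp (β.comp φ)).Flat := by
  have heq : (algebraMap B' (Localization.AtPrime q')).comp (β.comp φ) =
      (Localization.localRingHom q q' β hq).comp ((algebraMap B (Localization.AtPrime q)).comp φ) := by
    ext a
    simp [Localization.localRingHom_to_map]
  rw [heq]
  exact RingHom.Flat.comp h (hβ.localRingHom q' q hq)

theorem flat_comp_of_flat {A A' B' : Type u} [CommRing A] [CommRing A'] [CommRing B']
    [IsNoetherianRing A'] [IsNoetherianRing B'] (α : A →+* A') (ψ : A' →+* B') (q' : Ideal B')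
    [q'.IsPrime] (p : Ideal A) (hp : q'.comap ψ = p.map α)
    (hflat : ((algebraMap B' (Localization.AtPrime q')).comp (ψ.comp α)).Flat) :
    ((algebraMap B' (Localization.AtPrime q')).comp ψ).Flat := by
  let p' : Ideal A' := q'.comap ψ
  have : p'.IsPrime := Ideal.IsPrime.comap ψ
  let _ : Algebra A (Localization.AtPrime p') := ((algebraMap A' (Localization.AtPrime p')).comp α).toAlgebra
  let _ : Algebra A (Localization.AtPrime q') :=
    ((algebraMap B' (Localization.AtPrime q')).comp (ψ.comp α)).toAlgebra
  let _ : Algebra (Localization.AtPrime p') (Localization.AtPrime q') :=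
    (Localization.localRingHom p' q' ψ rfl).toAlgebra
  let _ : Algebra A' (Localization.AtPrime q') :=
    ((algebraMap B' (Localization.AtPrime q')).comp ψ).toAlgebra
  have t1 : IsScalarTower A (Localization.AtPrime p') (Localization.AtPrime q') :=
    IsScalarTower.of_algebraMap_eq fun a =>
      (Localization.localRingHom_to_map p' q' ψ rfl (α a)).symm
  have t2 : IsScalarTower A' (Localization.AtPrime p') (Localization.AtPrime q') :=
    IsScalarTower.of_algebraMap_eq fun a =>
      (Localization.localRingHom_to_map p' q' ψ rfl a).symm
  have : IsLocalHom (algebraMap (Localization.AtPrime p') (Localization.AtPrime q')) :=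
    Localization.isLocalHom_localRingHom p' q' ψ rfl
  have hA : Module.Flat A (Localization.AtPrime q') := hflat
  have hJ : p.map (algebraMap A (Localization.AtPrime p')) =
      IsLocalRing.maximalIdeal (Localization.AtPrime p') := by
    change p.map ((algebraMap A' (Localization.AtPrime p')).comp α) = _
    rw [← Ideal.map_map, ← hp]
    exact Localization.AtPrime.map_eq_maximalIdeal
  have h1 : Module.Flat (Localization.AtPrime p') (Localization.AtPrime q') :=
    FlatExt.flat_of_flat_of_map_eq_maximalIdeal p hJ
  have h2 : Module.Flat A' (Localization.AtPrime p') :=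
    IsLocalization.flat (Localization.AtPrime p') p'.primeCompl
  exact Module.Flat.trans A' (Localization.AtPrime p') (Localization.AtPrime q')


theorem comap_eq_map_of_surjective {A A' : Type*} [CommRing A] [CommRing A'] [Algebra A A']
    (p : Ideal A) (P : Ideal A')
    (hsurj : Function.Surjective (Ideal.quotientMap (p.map (algebraMap A A')) (algebraMap A A')
      Ideal.le_comap_map))
    (hP : P.comap (algebraMap A A') = p) : P = p.map (algebraMap A A') := by
  have hle : p.map (algebraMap A A') ≤ P := Ideal.map_le_iff_le_comap.mpr hP.ge
  refine le_antisymm ?_ hle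
  intro x hx
  obtain ⟨abar, ha⟩ := hsurj (Ideal.Quotient.mk _ x)
  obtain ⟨a, rfl⟩ := Ideal.Quotient.mk_surjective abar
  rw [Ideal.quotientMap_mk, Ideal.Quotient.eq] at ha
  have h1 : algebraMap A A' a ∈ P := by
    have := P.sub_mem hx (hle ((Ideal.neg_mem_iff _).mpr ha))
    simpa using this
  have h2 : a ∈ p := by
    rw [← hP]
    exact h1
  have h3 : x = algebraMap A A' a - (algebraMap A A' a - x) := by ring
  rw [h3]
  exact Ideal.sub_mem _ (Ideal.mem_map_of_mem _ h2) ha

theorem isUnit_mk_of_rigClosed (A : Type u) [CommRing A] [IsNoetherianRing A] (I : Ideal A)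
    [IsAdicComplete I A] (p : PrimeSpectrum A)
    (hp : ¬ I ≤ p.asIdeal ∧ ∀ y : PrimeSpectrum A, p ≤ y → ¬ I ≤ y.asIdeal → y = p)
    {C : Type*} [CommRing C] (χ : A →+* C) (hχ : I.map χ ≤ Ideal.jacobson ⊥)
    (Q : Ideal C) (hQ : Q ≠ ⊤) (hpQ : p.asIdeal ≤ Q.comap χ) (f : A) (hf : IsUnit (χ f)) :
    IsUnit (Ideal.Quotient.mk p.asIdeal f) := by
  by_contra hnu
  obtain ⟨m, hm, hfm⟩ := exists_max_ideal_of_mem_nonunits (mem_nonunits_iff.mpr hnu)
  have h3 := ((Groth.Agent.S8804.result A I p).out 0 2).mp hp
  have hmr := h3.2.1 m hm
  rw [hmr] at hfm
  obtain ⟨n, hn⟩ := hfm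
  rw [← map_pow] at hn
  obtain ⟨b, hb, hbn⟩ := (Ideal.mem_map_iff_of_surjective _ Ideal.Quotient.mk_surjective).mp hn
  have h4 : b - f ^ n ∈ p.asIdeal := by
    rw [← Ideal.Quotient.eq]
    exact hbn
  have h5 : χ b - χ f ^ n ∈ Q := by
    have := hpQ h4
    simpa using this
  have hb' : χ b ∈ Ideal.jacobson (⊥ : Ideal C) := hχ (Ideal.mem_map_of_mem _ hb)
  have hu : IsUnit (χ f ^ n) := hf.pow n
  obtain ⟨u, hu'⟩ := hu
  have h6 : IsUnit (χ b * (-(↑u⁻¹ : C)) + 1) := (Ideal.mem_jacobson_bot.mp hb') _
  have h7 : IsUnit (χ b - χ f ^ n) := by
    have h8 : χ b - χ f ^ n = -(↑u : C) * (χ b * (-(↑u⁻¹ : C)) + 1) := by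
      rw [← hu']
      have : (↑u : C) * ↑u⁻¹ = 1 := u.mul_inv
      linear_combination (-(χ b)) * this
    rw [h8]
    exact (u.isUnit.neg).mul h6
  exact hQ (Ideal.eq_top_of_isUnit_mem _ h5 h7)


theorem isJacobsonRing_quot (A : Type u) [CommRing A] (I : Ideal A) (B : Type u) [CommRing B]
    [Algebra A B] (hft : Algebra.FiniteType A (B ⧸ (I.map (algebraMap A B))))
    (hJ : IsJacobsonRing (A ⧸ I)) : IsJacobsonRing (B ⧸ (I.map (algebraMap A B))) := by
  have h0 : ∀ a ∈ I, algebraMap A (B ⧸ (I.map (algebraMap A B))) a = 0 := by
    intro a ha
    change Ideal.Quotient.mk _ (algebraMap A B a) = 0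
    rw [Ideal.Quotient.eq_zero_iff_mem]
    exact Ideal.mem_map_of_mem _ ha
  let _ : Algebra (A ⧸ I) (B ⧸ (I.map (algebraMap A B))) :=
    (Ideal.Quotient.lift I (algebraMap A (B ⧸ (I.map (algebraMap A B)))) h0).toAlgebra
  have : IsScalarTower A (A ⧸ I) (B ⧸ (I.map (algebraMap A B))) :=
    IsScalarTower.of_algebraMap_eq (fun a => rfl)
  have : Algebra.FiniteType (A ⧸ I) (B ⧸ (I.map (algebraMap A B))) :=
    Algebra.FiniteType.of_restrictScalars_finiteType A (A ⧸ I) _
  exact isJacobsonRing_of_finiteType (A := A ⧸ I)

/-- the completed principal localization `B_{g}` -/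
theorem rigClosed_comap_completedLocalization (B : Type u) [CommRing B] [IsNoetherianRing B]
    (K : Ideal B) [IsAdicComplete K B] (hJ : IsJacobsonRing (B ⧸ K)) (g : B)
    (q' : PrimeSpectrum (AdicCompletion (K.map (algebraMap B (Localization.Away g)))
      (Localization.Away g)))
    (hq' : ¬ ((K.map (algebraMap B (Localization.Away g))).map
        (algebraMap (Localization.Away g) (AdicCompletion (K.map (algebraMap B (Localization.Away g)))
          (Localization.Away g)))) ≤ q'.asIdeal ∧
      ∀ y : PrimeSpectrum (AdicCompletion (K.map (algebraMap B (Localization.Away g)))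
          (Localization.Away g)), q' ≤ y →
        ¬ ((K.map (algebraMap B (Localization.Away g))).map
          (algebraMap (Localization.Away g) (AdicCompletion (K.map (algebraMap B (Localization.Away g)))
            (Localization.Away g)))) ≤ y.asIdeal → y = q') :
    ¬ K ≤ (PrimeSpectrum.comap (algebraMap B (AdicCompletion (K.map (algebraMap B (Localization.Away g)))
        (Localization.Away g))) q').asIdeal ∧
      ∀ y : PrimeSpectrum B, (PrimeSpectrum.comap (algebraMap B (AdicCompletion
        (K.map (algebraMap B (Localization.Away g))) (Localization.Away g))) q') ≤ y →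
        ¬ K ≤ y.asIdeal → y = (PrimeSpectrum.comap (algebraMap B (AdicCompletion
        (K.map (algebraMap B (Localization.Away g))) (Localization.Away g))) q') := by
  have hmm : (K.map (algebraMap B (Localization.Away g))).map
      (algebraMap (Localization.Away g) (AdicCompletion (K.map (algebraMap B (Localization.Away g)))
        (Localization.Away g))) = K.map (algebraMap B (AdicCompletion
        (K.map (algebraMap B (Localization.Away g))) (Localization.Away g))) := by
    rw [Ideal.map_map]
    rfl
  have hN : IsNoetherianRing (AdicCompletion (K.map (algebraMap B (Localization.Away g)))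
      (Localization.Away g)) := isNoetherianRing_adicCompletion _
  have hC : IsAdicComplete (K.map (algebraMap B (AdicCompletion
        (K.map (algebraMap B (Localization.Away g))) (Localization.Away g))))
      (AdicCompletion (K.map (algebraMap B (Localization.Away g))) (Localization.Away g)) := by
    rw [← hmm]
    exact AdicCompletion.isAdicComplete_self _ (Ideal.fg_of_isNoetherianRing _)
  have hft : Algebra.FiniteType B ((AdicCompletion (K.map (algebraMap B (Localization.Away g)))
      (Localization.Away g)) ⧸ K.map (algebraMap B (AdicCompletion
        (K.map (algebraMap B (Localization.Away g))) (Localization.Away g)))) := by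
    have : IsScalarTower B (Localization.Away g) (AdicCompletion
        (K.map (algebraMap B (Localization.Away g))) (Localization.Away g)) :=
      IsScalarTower.of_algebraMap_eq (fun a => rfl)
    let φ : Localization.Away g →ₐ[B] ((AdicCompletion (K.map (algebraMap B (Localization.Away g)))
      (Localization.Away g)) ⧸ K.map (algebraMap B (AdicCompletion
        (K.map (algebraMap B (Localization.Away g))) (Localization.Away g)))) :=
      (Ideal.Quotient.mkₐ B _).comp (IsScalarTower.toAlgHom B (Localization.Away g) _)
    apply Algebra.FiniteType.of_surjective φ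
    intro x
    obtain ⟨x, rfl⟩ := Ideal.Quotient.mk_surjective x
    obtain ⟨a, ha⟩ := FlatCompl.exists_sub_of_mem (K.map (algebraMap B (Localization.Away g))) 1 x
    refine ⟨a, ?_⟩
    change Ideal.Quotient.mk _ (algebraMap _ _ a) = Ideal.Quotient.mk _ x
    rw [eq_comm, Ideal.Quotient.eq, ← hmm]
    rw [pow_one, Ideal.smul_top_eq_map] at ha
    exact ha
  rw [hmm] at hq'
  exact Groth.Agent.S8835.result B K _ hft q' hq' hJ


/-- Let A be a Noetherian ring complete for the adic topology of an ideal I, and B a Noetherian
A-algebra complete for the IB-adic topology with B/IB of finite type over A (an adic morphism,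
topologically of finite type, of adic Noetherian topological rings), and assume A/I is a Jacobson
ring. Suppose A → B is naively rig-flat: whenever q is a rig-closed prime of B (IB ⊄ q and q maximal
among the primes not containing IB), the localization B_q is an A-flat ring. Then A → B is rig-flat:
for every f ∈ A, letting A_{f} and B_{f} be the completed principal localizations (the I-adic
completions of A_f and B_f) and ψ : A_{f} → B_{f} the canonical map, characterised here as any ring
map compatible with A_f → B_f (there is exactly one), the local ring (B_{f})_{q'} is flat over A_{f}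
via ψ for every rig-closed prime q' of B_{f} (I B_{f} ⊄ q' and q' maximal among the primes not
containing I B_{f}). (That A_{f} → B_{f} is again adic and topologically of finite type is not
restated.) -/
theorem result (A : Type u) [CommRing A] [IsNoetherianRing A] (I : Ideal A) [IsAdicComplete I A] (B : Type u) [CommRing B] [Algebra A B] [IsNoetherianRing B] [IsAdicComplete (I.map (algebraMap A B)) B] (hft : Algebra.FiniteType A (B ⧸ (I.map (algebraMap A B)))) (hJ : IsJacobsonRing (A ⧸ I)) (hnaive : ∀ q : PrimeSpectrum B, (¬ (I.map (algebraMap A B)) ≤ q.asIdeal ∧ ∀ y : PrimeSpectrum B, q ≤ y → ¬ (I.map (algebraMap A B)) ≤ y.asIdeal → y = q) → (algebraMap A (Localization.AtPrime q.asIdeal)).Flat) (f : A) (ψ : (AdicCompletion (I.map (algebraMap A (Localization.Away f))) (Localization.Away f)) →+* (AdicCompletion ((I.map (algebraMap A B)).map (algebraMap B (Localization.Away (algebraMap A B f)))) (Localization.Away (algebraMap A B f)))) (hψ : ψ.comp (algebraMap (Localization.Away f) (AdicCompletion (I.map (algebraMap A (Localization.Away f))) (Localization.Away f))) = (algebraMap (Localization.Away (algebraMap A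 B f)) (AdicCompletion ((I.map (algebraMap A B)).map (algebraMap B (Localization.Away (algebraMap A B f)))) (Localization.Away (algebraMap A B f)))).comp (Localization.awayMap (algebraMap A B) f)) (q' : PrimeSpectrum (AdicCompletion ((I.map (algebraMap A B)).map (algebraMap B (Localization.Away (algebraMap A B f)))) (Localization.Away (algebraMap A B f)))) (hq' : (¬ ((((I.map (algebraMap A B))).map (algebraMap B (Localization.Away (algebraMap A B f)))).map (algebraMap (Localization.Away (algebraMap A B f)) (AdicCompletion ((I.map (algebraMap A B)).map (algebraMap B (Localization.Away (algebraMap A B f)))) (Localization.Away (algebraMap A B f))))) ≤ q'.asIdeal ∧ ∀ y : PrimeSpectrum (AdicCompletion ((I.map (algebraMap A B)).map (algebraMap B (Localization.Away (algebraMap A B f)))) (Localization.Away (algebraMap A B f))), q' ≤ y → ¬ ((((I.map (algebraMap A B))).map (algebraMap B (Localization.Away (algebraMap A B f)))).map (algebraMap (Localization.Away (algebraMap A B f)) (AdicCompletion ((I.map (algebraMap A B)).map (algebraMap B (Localization.Away (algebraMap A B f)))) (Localization.Away (algebraMap A B f)))))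 ≤ y.asIdeal → y = q')) : ((algebraMap (AdicCompletion ((I.map (algebraMap A B)).map (algebraMap B (Localization.Away (algebraMap A B f)))) (Localization.Away (algebraMap A B f))) (Localization.AtPrime q'.asIdeal)).comp ψ).Flat := by
  classical
  -- Step 1: the contractions `q ⊆ B` and `p ⊆ A` are rig-closed
  have hJB : IsJacobsonRing (B ⧸ I.map (algebraMap A B)) := isJacobsonRing_quot A I B hft hJ
  have hq := rigClosed_comap_completedLocalization B (I.map (algebraMap A B)) hJB
    (algebraMap A B f) q' hq'
  have hp := Groth.Agent.S8835.result A I B hft _ hq hJ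
  -- Step 2: compatibility of the maps from `A`
  have hcomp : ψ.comp (algebraMap A (AdicCompletion (I.map (algebraMap A (Localization.Away f)))
      (Localization.Away f))) =
      (algebraMap B (AdicCompletion ((I.map (algebraMap A B)).map (algebraMap B
        (Localization.Away (algebraMap A B f)))) (Localization.Away (algebraMap A B f)))).comp
        (algebraMap A B) := by
    refine RingHom.ext fun a => ?_
    have h1 := RingHom.congr_fun hψ (algebraMap A (Localization.Away f) a)
    simp only [RingHom.comp_apply] at h1 ⊢
    rw [AdicCompletion.algebraMap_apply, AdicCompletion.algebraMap_apply]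
    have h2 : Localization.awayMap (algebraMap A B) f (algebraMap A (Localization.Away f) a) =
        algebraMap B (Localization.Away (algebraMap A B f)) (algebraMap A B a) := by
      simp [Localization.awayMap, IsLocalization.Away.map]
    rw [h2] at h1
    exact h1
  -- Step 3: `f` is a unit modulo `p`
  have hcomap : (q'.asIdeal.comap ψ).comap (algebraMap A (AdicCompletion
      (I.map (algebraMap A (Localization.Away f))) (Localization.Away f))) =
      (PrimeSpectrum.comap (algebraMap A B) (PrimeSpectrum.comap (algebraMap B (AdicCompletion
        ((I.map (algebraMap A B)).map (algebraMap B (Localization.Away (algebraMap A B f))))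
        (Localization.Away (algebraMap A B f)))) q')).asIdeal := by
    rw [Ideal.comap_comap, hcomp, ← Ideal.comap_comap]
    rfl
  have hunit : IsUnit (Ideal.Quotient.mk (PrimeSpectrum.comap (algebraMap A B)
      (PrimeSpectrum.comap (algebraMap B (AdicCompletion
        ((I.map (algebraMap A B)).map (algebraMap B (Localization.Away (algebraMap A B f))))
        (Localization.Away (algebraMap A B f)))) q')).asIdeal f) := by
    apply isUnit_mk_of_rigClosed A I _ hp (algebraMap A (AdicCompletion
      (I.map (algebraMap A (Localization.Away f))) (Localization.Away f))) ?_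
      (q'.asIdeal.comap ψ) (Ideal.IsPrime.comap ψ).ne_top hcomap.ge f ?_
    · have h1 := AdicCompletion.isAdicComplete_self (I.map (algebraMap A (Localization.Away f)))
        (Ideal.fg_of_isNoetherianRing _)
      have h2 := IsAdicComplete.le_jacobson_bot ((I.map (algebraMap A (Localization.Away f))).map
        (algebraMap (Localization.Away f) (AdicCompletion
          (I.map (algebraMap A (Localization.Away f))) (Localization.Away f))))
      rw [Ideal.map_map] at h2
      exact h2
    · have h3 : algebraMap A (AdicCompletion (I.map (algebraMap A (Localization.Away f)))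
          (Localization.Away f)) f = algebraMap (Localization.Away f) (AdicCompletion
          (I.map (algebraMap A (Localization.Away f))) (Localization.Away f))
          (algebraMap A (Localization.Away f) f) := rfl
      rw [h3]
      exact (IsLocalization.Away.algebraMap_isUnit f).map _
  -- Step 4: `p' = p A_{f}`
  obtain ⟨-, hbij⟩ := Groth.Agent.S8837.result A I (PrimeSpectrum.comap (algebraMap A B)
      (PrimeSpectrum.comap (algebraMap B (AdicCompletion
        ((I.map (algebraMap A B)).map (algebraMap B (Localization.Away (algebraMap A B f))))
        (Localization.Away (algebraMap A B f)))) q')).asIdeal f hunit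
  have hp' := comap_eq_map_of_surjective _ (q'.asIdeal.comap ψ) hbij.2 hcomap
  -- Step 5: flatness over `A`
  have hβ : (algebraMap B (AdicCompletion ((I.map (algebraMap A B)).map (algebraMap B
        (Localization.Away (algebraMap A B f)))) (Localization.Away (algebraMap A B f)))).Flat := by
    rw [RingHom.flat_algebraMap_iff]
    have : IsScalarTower B (Localization.Away (algebraMap A B f)) (AdicCompletion
        ((I.map (algebraMap A B)).map (algebraMap B (Localization.Away (algebraMap A B f))))
        (Localization.Away (algebraMap A B f))) :=
      IsScalarTower.of_algebraMap_eq (fun a => rfl)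
    have : Module.Flat B (Localization.Away (algebraMap A B f)) :=
      IsLocalization.flat _ (Submonoid.powers (algebraMap A B f))
    exact Module.Flat.trans B (Localization.Away (algebraMap A B f)) _
  have hnv : ((algebraMap B (Localization.AtPrime (PrimeSpectrum.comap (algebraMap B (AdicCompletion
        ((I.map (algebraMap A B)).map (algebraMap B (Localization.Away (algebraMap A B f))))
        (Localization.Away (algebraMap A B f)))) q').asIdeal)).comp (algebraMap A B)).Flat := by
    rw [← IsScalarTower.algebraMap_eq]
    exact hnaive _ hq
  have hflatA := flat_comp_localRingHom (algebraMap A B) _ hβ q'.asIdeal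
    (PrimeSpectrum.comap (algebraMap B (AdicCompletion
        ((I.map (algebraMap A B)).map (algebraMap B (Localization.Away (algebraMap A B f))))
        (Localization.Away (algebraMap A B f)))) q').asIdeal rfl hnv
  rw [← hcomp] at hflatA
  have : IsNoetherianRing (AdicCompletion (I.map (algebraMap A (Localization.Away f)))
      (Localization.Away f)) := isNoetherianRing_adicCompletion _
  have : IsNoetherianRing (AdicCompletion ((I.map (algebraMap A B)).map (algebraMap B
        (Localization.Away (algebraMap A B f)))) (Localization.Away (algebraMap A B f))) :=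
    isNoetherianRing_adicCompletion _
  exact flat_comp_of_flat _ ψ q'.asIdeal _ hp' hflatA

end Groth.Agent.S8841
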