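import Groth.Statements.S8843
import Mathlib
import Groth.Agent.Lib.Helper83.RigFlat
import Groth.Agent.Lib.Helper83.FlatLocalDim

set_option autoImplicit false
universe u
open AdicRing

namespace Groth.Agent.S8843

open Groth.Agent.Lib.Helper83

/-- the hypothesis on `B → C` at `g`, with the target localization and ideal generalized. -/
def HypBC (B C : Type u) [CommRing B] [CommRing C] [Algebra B C] (KB : Ideal B) (g : B) (x : C)
    (K : Ideal C) : Prop :=
  ∀ θ : Localization.Away g →+* Localization.Away x,
    θ.comp (algebraMap B (Localization.Away g)) =
      (algebraMap C (Localization.Away x)).comp (algebraMap B C) →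
  ∀ ψg : (AdicCompletion (KB.map (algebraMap B (Localization.Away g))) (Localization.Away g)) →+*
      (AdicCompletion (K.map (algebraMap C (Localization.Away x))) (Localization.Away x)),
    ψg.comp (algebraMap (Localization.Away g)
        (AdicCompletion (KB.map (algebraMap B (Localization.Away g))) (Localization.Away g))) =
      (algebraMap (Localization.Away x)
        (AdicCompletion (K.map (algebraMap C (Localization.Away x))) (Localization.Away x))).comp θ →
  ∀ qg : PrimeSpectrum (AdicCompletion (K.map (algebraMap C (Localization.Away x)))
      (Localization.Away x)),
    (¬ ((K.map (algebraMap C (Localization.Away x))).map (algebraMap (Localization.Away x)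
        (AdicCompletion (K.map (algebraMap C (Localization.Away x))) (Localization.Away x))))
        ≤ qg.asIdeal ∧
      ∀ y : PrimeSpectrum (AdicCompletion (K.map (algebraMap C (Localization.Away x)))
        (Localization.Away x)), qg ≤ y →
        ¬ ((K.map (algebraMap C (Localization.Away x))).map (algebraMap (Localization.Away x)
          (AdicCompletion (K.map (algebraMap C (Localization.Away x))) (Localization.Away x))))
          ≤ y.asIdeal → y = qg) →
    ((algebraMap (AdicCompletion (K.map (algebraMap C (Localization.Away x)))
      (Localization.Away x)) (Localization.AtPrime qg.asIdeal)).comp ψg).Flat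

theorem core (A : Type u) [CommRing A] (I : Ideal A)
    (B : Type u) [CommRing B] [Algebra A B] [IsNoetherianRing B]
    (C : Type u) [CommRing C] [Algebra A C] [Algebra B C] [IsScalarTower A B C]
    (e : A) (x : C) (K : Ideal C) (hI : I.FG)
    (hK : (I.map (algebraMap A B)).map (algebraMap B C) = K)
    (hxu : IsUnit (algebraMap C (Localization.Away x) (algebraMap A C e)))
    (hAB : ∀ ψf : (AdicCompletion (I.map (algebraMap A (Localization.Away e))) (Localization.Away e)) →+* (AdicCompletion ((I.map (algebraMap A B)).map (algebraMap B (Localization.Away (algebraMap A B e)))) (Localization.Away (algebraMap A B e))), ψf.comp (algebraMap (Localization.Away e) (AdicCompletion (I.map (algebraMap A (Localization.Away e))) (Localization.Away e))) = (algebraMap (Localization.Away (algebraMap A B e)) (AdicCompletion ((I.map (algebraMap A B)).map (algebraMap B (Localization.Away (algebraMap A B e)))) (Localization.Away (algebraMap A B e)))).comp (Localization.awayMap (algebraMap A B) e) → ∀ qf : PrimeSpectrum (AdicCompletion ((I.map (algebraMap A B)).map (algebraMap B (Localization.Away (algebraMap A B e)))) (Localization.Away (algebraMap A B e))), (¬ (((I.map (algebraMap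 A B)).map (algebraMap B (Localization.Away (algebraMap A B e)))).map (algebraMap (Localization.Away (algebraMap A B e)) (AdicCompletion ((I.map (algebraMap A B)).map (algebraMap B (Localization.Away (algebraMap A B e)))) (Localization.Away (algebraMap A B e))))) ≤ qf.asIdeal ∧ ∀ y : PrimeSpectrum (AdicCompletion ((I.map (algebraMap A B)).map (algebraMap B (Localization.Away (algebraMap A B e)))) (Localization.Away (algebraMap A B e))), qf ≤ y → ¬ (((I.map (algebraMap A B)).map (algebraMap B (Localization.Away (algebraMap A B e)))).map (algebraMap (Localization.Away (algebraMap A B e)) (AdicCompletion ((I.map (algebraMap A B)).map (algebraMap B (Localization.Away (algebraMap A B e)))) (Localization.Away (algebraMap A B e))))) ≤ y.asIdeal → y = qf) → ((algebraMap (AdicCompletion ((I.map (algebraMap A B)).map (algebraMap B (Localization.Away (algebraMap A B e)))) (Localization.Away (algebraMap A B e))) (Localization.AtPrime qf.asIdeal)).comp ψf).Flat)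
    (hBC : HypBC B C (I.map (algebraMap A B)) (algebraMap A B e) x K)
    (θe : Localization.Away e →+* Localization.Away x)
    (hθe : θe.comp (algebraMap A (Localization.Away e)) =
      (algebraMap C (Localization.Away x)).comp (algebraMap A C))
    (ψe : (AdicCompletion (I.map (algebraMap A (Localization.Away e))) (Localization.Away e)) →+*
      (AdicCompletion (K.map (algebraMap C (Localization.Away x))) (Localization.Away x)))
    (hψe : ψe.comp (algebraMap (Localization.Away e) (AdicCompletion (I.map (algebraMap A (Localization.Away e))) (Localization.Away e))) = (algebraMap (Localization.Away x) (AdicCompletion (K.map (algebraMap C (Localization.Away x))) (Localization.Away x))).comp θe)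
    (qe : PrimeSpectrum (AdicCompletion (K.map (algebraMap C (Localization.Away x)))
      (Localization.Away x)))
    (hqe : ¬ ((K.map (algebraMap C (Localization.Away x))).map (algebraMap (Localization.Away x)
        (AdicCompletion (K.map (algebraMap C (Localization.Away x))) (Localization.Away x))))
        ≤ qe.asIdeal ∧
      ∀ y : PrimeSpectrum (AdicCompletion (K.map (algebraMap C (Localization.Away x)))
        (Localization.Away x)), qe ≤ y →
        ¬ ((K.map (algebraMap C (Localization.Away x))).map (algebraMap (Localization.Away x)
          (AdicCompletion (K.map (algebraMap C (Localization.Away x))) (Localization.Away x))))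
          ≤ y.asIdeal → y = qe) :
    ((algebraMap (AdicCompletion (K.map (algebraMap C (Localization.Away x)))
      (Localization.Away x)) (Localization.AtPrime qe.asIdeal)).comp ψe).Flat := by
  -- the maps of localizations
  have hθ1 : (Localization.awayMap (algebraMap A B) e).comp (algebraMap A (Localization.Away e)) =
      (algebraMap B (Localization.Away (algebraMap A B e))).comp (algebraMap A B) := by
    refine RingHom.ext fun a => ?_
    simp [Localization.awayMap, IsLocalization.Away.map]
  have hu2 : IsUnit (((algebraMap C (Localization.Away x)).comp (algebraMap B C))
      (algebraMap A B e)) := by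
    rw [RingHom.comp_apply, ← IsScalarTower.algebraMap_apply A B C]
    exact hxu
  let θ2 : Localization.Away (algebraMap A B e) →+* Localization.Away x :=
    IsLocalization.Away.lift (algebraMap A B e) hu2
  have hθ2 : θ2.comp (algebraMap B (Localization.Away (algebraMap A B e))) =
      (algebraMap C (Localization.Away x)).comp (algebraMap B C) :=
    IsLocalization.Away.lift_comp _ hu2
  have hθe' : θe = θ2.comp (Localization.awayMap (algebraMap A B) e) := by
    apply IsLocalization.ringHom_ext (Submonoid.powers e)
    rw [hθe, RingHom.comp_assoc, hθ1, ← RingHom.comp_assoc, hθ2, RingHom.comp_assoc,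
      IsScalarTower.algebraMap_eq A B C]
  -- the ideals
  have hJ1 : (I.map (algebraMap A (Localization.Away e))).map
      (Localization.awayMap (algebraMap A B) e) =
      (I.map (algebraMap A B)).map (algebraMap B (Localization.Away (algebraMap A B e))) := by
    rw [Ideal.map_map, hθ1, ← Ideal.map_map]
  have hJ2 : ((I.map (algebraMap A B)).map
      (algebraMap B (Localization.Away (algebraMap A B e)))).map θ2 =
      K.map (algebraMap C (Localization.Away x)) := by
    rw [Ideal.map_map, hθ2, ← Ideal.map_map, hK]
  -- the maps of completions
  let ψ1 := ComplMap.complMap (I.map (algebraMap A (Localization.Away e)))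
    ((I.map (algebraMap A B)).map (algebraMap B (Localization.Away (algebraMap A B e))))
    (Localization.awayMap (algebraMap A B) e) hJ1.le
  let ψ2 := ComplMap.complMap
    ((I.map (algebraMap A B)).map (algebraMap B (Localization.Away (algebraMap A B e))))
    (K.map (algebraMap C (Localization.Away x))) θ2 hJ2.le
  have hψ1 : ψ1.comp (algebraMap (Localization.Away e) (AdicCompletion (I.map (algebraMap A (Localization.Away e))) (Localization.Away e))) = (algebraMap (Localization.Away (algebraMap A B e)) (AdicCompletion ((I.map (algebraMap A B)).map (algebraMap B (Localization.Away (algebraMap A B e)))) (Localization.Away (algebraMap A B e)))).comp (Localization.awayMap (algebraMap A B) e) :=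
    RingHom.ext fun a => ComplMap.complMap_of _ _ _ hJ1.le a
  have hψ2 : ψ2.comp (algebraMap (Localization.Away (algebraMap A B e)) (AdicCompletion ((I.map (algebraMap A B)).map (algebraMap B (Localization.Away (algebraMap A B e)))) (Localization.Away (algebraMap A B e)))) = (algebraMap (Localization.Away x) (AdicCompletion (K.map (algebraMap C (Localization.Away x))) (Localization.Away x))).comp θ2 :=
    RingHom.ext fun a => ComplMap.complMap_of _ _ _ hJ2.le a
  have hJe : (I.map (algebraMap A (Localization.Away e))).map θe ≤
      K.map (algebraMap C (Localization.Away x)) := by
    rw [hθe', ← Ideal.map_map, hJ1, hJ2]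
  have hcomp : ψe = ψ2.comp ψ1 := by
    apply ComplMap.ringHom_ext_of_of (I.map (algebraMap A (Localization.Away e)))
      (K.map (algebraMap C (Localization.Away x))) θe (hI.map _) hJe
    · exact fun a => RingHom.congr_fun hψe a
    · intro a
      rw [RingHom.comp_apply]
      have h1 := RingHom.congr_fun hψ1 a
      simp only [RingHom.comp_apply] at h1
      have h1' : ψ1 (AdicCompletion.of _ _ a) = AdicCompletion.of _ _
          (Localization.awayMap (algebraMap A B) e a) := h1
      rw [h1']
      have h2 := RingHom.congr_fun hψ2 (Localization.awayMap (algebraMap A B) e a)
      simp only [RingHom.comp_apply] at h2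
      rw [hθe']
      exact h2
  -- the contraction to `B_{g}`
  have hN : IsNoetherianRing (AdicCompletion ((I.map (algebraMap A B)).map (algebraMap B (Localization.Away (algebraMap A B e)))) (Localization.Away (algebraMap A B e))) :=
    isNoetherianRing_adicCompletion _
  have hqB : ¬ (((I.map (algebraMap A B)).map (algebraMap B (Localization.Away (algebraMap A B e)))).map (algebraMap (Localization.Away (algebraMap A B e)) (AdicCompletion ((I.map (algebraMap A B)).map (algebraMap B (Localization.Away (algebraMap A B e)))) (Localization.Away (algebraMap A B e))))) ≤ qe.asIdeal.comap ψ2 := by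
    intro hle
    apply hqe.1
    rw [← Ideal.map_le_iff_le_comap, Ideal.map_map, hψ2, ← Ideal.map_map, hJ2] at hle
    exact hle
  have hflat1 := RigFlat.flat_at_prime_of_rigClosed _ ψ1 (hAB ψ1 hψ1) (qe.asIdeal.comap ψ2) hqB
  have hflat2 := hBC θ2 hθ2 ψ2 hψ2 qe hqe
  have hloc := RigFlat.flat_localRingHom_of_flat_comp ψ2 qe.asIdeal (qe.asIdeal.comap ψ2) rfl hflat2
  have heq : (algebraMap (AdicCompletion (K.map (algebraMap C (Localization.Away x)))
      (Localization.Away x)) (Localization.AtPrime qe.asIdeal)).comp ψe =
      (Localization.localRingHom (qe.asIdeal.comap ψ2) qe.asIdeal ψ2 rfl).comp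
        ((algebraMap _ (Localization.AtPrime (qe.asIdeal.comap ψ2))).comp ψ1) := by
    rw [hcomp]
    refine RingHom.ext fun a => ?_
    simp [Localization.localRingHom_to_map]
  rw [heq]
  exact RingHom.Flat.comp hflat1 hloc


/-- Let A be a Noetherian ring complete for the adic topology of an ideal I, B a Noetherian A-algebra
complete for the IB-adic topology with B/IB of finite type over A, and C a Noetherian B-algebra,
compatibly an A-algebra, complete for the IC-adic topology with C/IC of finite type over B (so A → B
→ C are adic morphisms of adic Noetherian topological rings, topologically of finite type). Assume A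
→ B and B → C are rig-flat, in the following form: for every f ∈ A and the canonical map ψ : A_{f} →
B_{f} of completed principal localizations (the I-adic completions of A_f → B_f; ψ is characterised
as any ring map compatible with A_f → B_f, and there is exactly one), the local ring (B_{f})_q is
flat over A_{f} via ψ for every rig-closed prime q of B_{f} (I B_{f} ⊄ q and q maximal among the
primes not containing I B_{f}); and likewise for B → C with g ∈ B and rig-closed primes of C_{g}.
Then A → C is rig-flat in the same form: for every f ∈ A, every ring map A_{f} → C_{f} compatible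
with A_f → C_f, and every rig-closed prime q of C_{f}, the local ring (C_{f})_q is flat over A_{f}.
(That A → C is again adic and topologically of finite type is not restated.) -/
theorem result (A : Type u) [CommRing A] [IsNoetherianRing A] (I : Ideal A) [IsAdicComplete I A] (B : Type u) [CommRing B] [Algebra A B] [IsNoetherianRing B] [IsAdicComplete (I.map (algebraMap A B)) B] (hftB : Algebra.FiniteType A (B ⧸ (I.map (algebraMap A B)))) (C : Type u) [CommRing C] [Algebra A C] [Algebra B C] [IsScalarTower A B C] [IsNoetherianRing C] [IsAdicComplete (I.map (algebraMap A C)) C] (hftC : Algebra.FiniteType B (C ⧸ (I.map (algebraMap A C)))) (hAB : (∀ f : A, ∀ ψf : (AdicCompletion (I.map (algebraMap A (Localization.Away f))) (Localization.Away f)) →+* (AdicCompletion ((I.map (algebraMap A B)).map (algebraMap B (Localization.Away (algebraMap A B f)))) (Localization.Away (algebraMap A B f))), ψf.comp (algebraMap (Localization.Away f) (AdicCompletion (I.map (algebraMap A (Localization.Away f))) (Localization.Away f))) = (algebraMap (Localization.Away (algebraMap A B f)) (AdicCompletion ((I.map (algebraMap A B)).map (algebraMap B (Localization.Away (algebraMap A B f)))) (Localization.Away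 (algebraMap A B f)))).comp (Localization.awayMap (algebraMap A B) f) → ∀ qf : PrimeSpectrum (AdicCompletion ((I.map (algebraMap A B)).map (algebraMap B (Localization.Away (algebraMap A B f)))) (Localization.Away (algebraMap A B f))), (¬ (((I.map (algebraMap A B)).map (algebraMap B (Localization.Away (algebraMap A B f)))).map (algebraMap (Localization.Away (algebraMap A B f)) (AdicCompletion ((I.map (algebraMap A B)).map (algebraMap B (Localization.Away (algebraMap A B f)))) (Localization.Away (algebraMap A B f))))) ≤ qf.asIdeal ∧ ∀ y : PrimeSpectrum (AdicCompletion ((I.map (algebraMap A B)).map (algebraMap B (Localization.Away (algebraMap A B f)))) (Localization.Away (algebraMap A B f))), qf ≤ y → ¬ (((I.map (algebraMap A B)).map (algebraMap B (Localization.Away (algebraMap A B f)))).map (algebraMap (Localization.Away (algebraMap A B f)) (AdicCompletion ((I.map (algebraMap A B)).map (algebraMap B (Localization.Away (algebraMap A B f)))) (Localization.Away (algebraMap A B f))))) ≤ y.asIdeal → y = qf) → ((algebraMap (AdicCompletion ((I.map (algebraMap A B)).map (algebraMap B (Localization.Away (algebraMap A B f)))) (Localization.Away (algebraMap A B f))) (Localization.AtPrime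 qf.asIdeal)).comp ψf).Flat)) (hBC : (∀ g : B, ∀ ψg : (AdicCompletion ((I.map (algebraMap A B)).map (algebraMap B (Localization.Away g))) (Localization.Away g)) →+* (AdicCompletion (((I.map (algebraMap A B)).map (algebraMap B C)).map (algebraMap C (Localization.Away (algebraMap B C g)))) (Localization.Away (algebraMap B C g))), ψg.comp (algebraMap (Localization.Away g) (AdicCompletion ((I.map (algebraMap A B)).map (algebraMap B (Localization.Away g))) (Localization.Away g))) = (algebraMap (Localization.Away (algebraMap B C g)) (AdicCompletion (((I.map (algebraMap A B)).map (algebraMap B C)).map (algebraMap C (Localization.Away (algebraMap B C g)))) (Localization.Away (algebraMap B C g)))).comp (Localization.awayMap (algebraMap B C) g) → ∀ qg : PrimeSpectrum (AdicCompletion (((I.map (algebraMap A B)).map (algebraMap B C)).map (algebraMap C (Localization.Away (algebraMap B C g)))) (Localization.Away (algebraMap B C g))), (¬ ((((I.map (algebraMap A B)).map (algebraMap B C)).map (algebraMap C (Localization.Away (algebraMap B C g)))).map (algebraMap (Localization.Away (algebraMap B C g)) (AdicCompletion (((I.map (algebraMap A B)).map (algebraMap B C)).map (algebraMap C (Localization.Away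 (algebraMap B C g)))) (Localization.Away (algebraMap B C g))))) ≤ qg.asIdeal ∧ ∀ y : PrimeSpectrum (AdicCompletion (((I.map (algebraMap A B)).map (algebraMap B C)).map (algebraMap C (Localization.Away (algebraMap B C g)))) (Localization.Away (algebraMap B C g))), qg ≤ y → ¬ ((((I.map (algebraMap A B)).map (algebraMap B C)).map (algebraMap C (Localization.Away (algebraMap B C g)))).map (algebraMap (Localization.Away (algebraMap B C g)) (AdicCompletion (((I.map (algebraMap A B)).map (algebraMap B C)).map (algebraMap C (Localization.Away (algebraMap B C g)))) (Localization.Away (algebraMap B C g))))) ≤ y.asIdeal → y = qg) → ((algebraMap (AdicCompletion (((I.map (algebraMap A B)).map (algebraMap B C)).map (algebraMap C (Localization.Away (algebraMap B C g)))) (Localization.Away (algebraMap B C g))) (Localization.AtPrime qg.asIdeal)).comp ψg).Flat)) : (∀ e : A, ∀ ψe : (AdicCompletion (I.map (algebraMap A (Localization.Away e))) (Localization.Away e)) →+* (AdicCompletion ((I.map (algebraMap A C)).map (algebraMap C (Localization.Away (algebraMap A C e)))) (Localization.Away (algebraMap A C e))), ψe.comp (algebraMap (Localization.Away e) (AdicCompletion (I.map (algebraMap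 A (Localization.Away e))) (Localization.Away e))) = (algebraMap (Localization.Away (algebraMap A C e)) (AdicCompletion ((I.map (algebraMap A C)).map (algebraMap C (Localization.Away (algebraMap A C e)))) (Localization.Away (algebraMap A C e)))).comp (Localization.awayMap (algebraMap A C) e) → ∀ qe : PrimeSpectrum (AdicCompletion ((I.map (algebraMap A C)).map (algebraMap C (Localization.Away (algebraMap A C e)))) (Localization.Away (algebraMap A C e))), (¬ (((I.map (algebraMap A C)).map (algebraMap C (Localization.Away (algebraMap A C e)))).map (algebraMap (Localization.Away (algebraMap A C e)) (AdicCompletion ((I.map (algebraMap A C)).map (algebraMap C (Localization.Away (algebraMap A C e)))) (Localization.Away (algebraMap A C e))))) ≤ qe.asIdeal ∧ ∀ y : PrimeSpectrum (AdicCompletion ((I.map (algebraMap A C)).map (algebraMap C (Localization.Away (algebraMap A C e)))) (Localization.Away (algebraMap A C e))), qe ≤ y → ¬ (((I.map (algebraMap A C)).map (algebraMap C (Localization.Away (algebraMap A C e)))).map (algebraMap (Localization.Away (algebraMap A C e)) (AdicCompletion ((I.map (algebraMap A C)).map (algebraMap C (Localization.Away (algebraMap A C e)))) (Localization.Away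 (algebraMap A C e))))) ≤ y.asIdeal → y = qe) → ((algebraMap (AdicCompletion ((I.map (algebraMap A C)).map (algebraMap C (Localization.Away (algebraMap A C e)))) (Localization.Away (algebraMap A C e))) (Localization.AtPrime qe.asIdeal)).comp ψe).Flat) := by
  intro e ψe hψe qe hqe
  have h1 : HypBC B C (I.map (algebraMap A B)) (algebraMap A B e)
      (algebraMap B C (algebraMap A B e)) ((I.map (algebraMap A B)).map (algebraMap B C)) := by
    intro θ hθ ψg hψg qg hqg
    have hθ' : θ = Localization.awayMap (algebraMap B C) (algebraMap A B e) := by
      apply IsLocalization.ringHom_ext (Submonoid.powers (algebraMap A B e))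
      rw [hθ]
      refine RingHom.ext fun a => ?_
      simp [Localization.awayMap, IsLocalization.Away.map]
    subst hθ'
    exact hBC (algebraMap A B e) ψg hψg qg hqg
  have hx : algebraMap B C (algebraMap A B e) = algebraMap A C e :=
    (IsScalarTower.algebraMap_apply A B C e).symm
  have hK : (I.map (algebraMap A B)).map (algebraMap B C) = I.map (algebraMap A C) := by
    rw [Ideal.map_map, ← IsScalarTower.algebraMap_eq]
  rw [hx, hK] at h1
  have hθe : (Localization.awayMap (algebraMap A C) e).comp (algebraMap A (Localization.Away e)) =
      (algebraMap C (Localization.Away (algebraMap A C e))).comp (algebraMap A C) := by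
    refine RingHom.ext fun a => ?_
    simp [Localization.awayMap, IsLocalization.Away.map]
  exact core A I B C e (algebraMap A C e) (I.map (algebraMap A C)) (Ideal.fg_of_isNoetherianRing I)
    hK (IsLocalization.Away.algebraMap_isUnit (algebraMap A C e)) (hAB e) h1
    (Localization.awayMap (algebraMap A C) e) hθe ψe hψe qe hqe

end Groth.Agent.S8843
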