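import Groth.Statements.S8844
import Mathlib
import Groth.Agent.Lib.Helper83.RigFlat
import Groth.Agent.Lib.Helper83.RigDescent
import Groth.Agent.Lib.Helper83.FlatCompl
import Groth.Agent.Lib.Helper83.FlatLocalDim

set_option autoImplicit false
universe u
open AdicRing

namespace Groth.Agent.S8844

open Groth.Agent.Lib.Helper83

theorem core {RA RB RA' RB' : Type u} [CommRing RA] [CommRing RB] [CommRing RA'] [CommRing RB']
    [IsNoetherianRing RA] [IsNoetherianRing RB] [IsNoetherianRing RA'] [IsNoetherianRing RB']
    (JA : Ideal RA) (JB : Ideal RB) (JA' : Ideal RA') (JB' : Ideal RB')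
    (θf : RA →+* RB) (θA : RA →+* RA') (θ' : RA' →+* RB') (θB : RB →+* RB')
    (hsq : θB.comp θf = θ'.comp θA)
    (hJf : JA.map θf ≤ JB) (hJA : JA.map θA ≤ JA') (hJ' : JA'.map θ' ≤ JB')
    (hJB : JB.map θB = JB')
    (hθA : θA.Flat) (hθB : θB.Flat)
    (hsurj : ∀ P : Ideal RB, P.IsPrime → ∃ P' : Ideal RB', P'.IsPrime ∧ P'.comap θB = P)
    (H : ∀ ψ' : AdicCompletion JA' RA' →+* AdicCompletion JB' RB',
      ψ'.comp (algebraMap RA' (AdicCompletion JA' RA')) =
        (algebraMap RB' (AdicCompletion JB' RB')).comp θ' →
      ∀ q' : PrimeSpectrum (AdicCompletion JB' RB'),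
        (¬ JB'.map (algebraMap RB' (AdicCompletion JB' RB')) ≤ q'.asIdeal ∧
          ∀ y : PrimeSpectrum (AdicCompletion JB' RB'), q' ≤ y →
            ¬ JB'.map (algebraMap RB' (AdicCompletion JB' RB')) ≤ y.asIdeal → y = q') →
        ((algebraMap (AdicCompletion JB' RB') (Localization.AtPrime q'.asIdeal)).comp ψ').Flat)
    (ψf : AdicCompletion JA RA →+* AdicCompletion JB RB)
    (hψf : ψf.comp (algebraMap RA (AdicCompletion JA RA)) =
      (algebraMap RB (AdicCompletion JB RB)).comp θf)
    (qf : Ideal (AdicCompletion JB RB)) [qf.IsPrime]
    (hqf : ¬ JB.map (algebraMap RB (AdicCompletion JB RB)) ≤ qf) :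
    ((algebraMap (AdicCompletion JB RB) (Localization.AtPrime qf)).comp ψf).Flat := by
  let α := ComplMap.complMap JA JA' θA hJA
  let ψ' := ComplMap.complMap JA' JB' θ' hJ'
  let β := ComplMap.complMap JB JB' θB hJB.le
  have hα : ∀ a, α (AdicCompletion.of JA RA a) = AdicCompletion.of JA' RA' (θA a) :=
    ComplMap.complMap_of _ _ _ hJA
  have hψ' : ∀ a, ψ' (AdicCompletion.of JA' RA' a) = AdicCompletion.of JB' RB' (θ' a) :=
    ComplMap.complMap_of _ _ _ hJ'
  have hβ : ∀ a, β (AdicCompletion.of JB RB a) = AdicCompletion.of JB' RB' (θB a) :=
    ComplMap.complMap_of _ _ _ hJB.le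
  have hψf' : ∀ a, ψf (AdicCompletion.of JA RA a) = AdicCompletion.of JB RB (θf a) :=
    fun a => RingHom.congr_fun hψf a
  have hle : JA.map (θB.comp θf) ≤ JB' := by
    rw [← Ideal.map_map, ← hJB]
    exact Ideal.map_mono hJf
  have hsq' : β.comp ψf = ψ'.comp α := by
    apply ComplMap.ringHom_ext_of_of JA JB' (θB.comp θf) (Ideal.fg_of_isNoetherianRing _) hle
    · intro a
      rw [RingHom.comp_apply, hψf', hβ, RingHom.comp_apply]
    · intro a
      rw [RingHom.comp_apply, hα, hψ', hsq, RingHom.comp_apply]
  have αflat : α.Flat := FlatCompl.flat_of_map_adicCompletion JA JA' θA hJA hθA α hα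
  have βflat : β.Flat := FlatCompl.flat_of_map_adicCompletion JB JB' θB hJB.le hθB β hβ
  have hβc : β.comp (algebraMap RB (AdicCompletion JB RB)) =
      (algebraMap RB' (AdicCompletion JB' RB')).comp θB := RingHom.ext hβ
  have hψ'c : ψ'.comp (algebraMap RA' (AdicCompletion JA' RA')) =
      (algebraMap RB' (AdicCompletion JB' RB')).comp θ' := RingHom.ext hψ'
  have hKjac : JB.map (algebraMap RB (AdicCompletion JB RB)) ≤ Ideal.jacobson ⊥ := by
    have := AdicCompletion.isAdicComplete_self JB (Ideal.fg_of_isNoetherianRing _)
    exact IsAdicComplete.le_jacobson_bot _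
  have lift : ∀ P : Ideal (AdicCompletion JB RB), P.IsPrime →
      JB.map (algebraMap RB (AdicCompletion JB RB)) ≤ P →
      ∃ P' : Ideal (AdicCompletion JB' RB'), P'.IsPrime ∧ P'.comap β = P := by
    intro P hP hKP
    exact RigDescent.exists_comap_complMap_eq JB JB' θB hJB hsurj β hβc P hKP
  obtain ⟨q', hq'prime, hq'comap⟩ := RigDescent.exists_comap_eq_of_flat β βflat _ hKjac lift qf
  have hq'K : ¬ JB'.map (algebraMap RB' (AdicCompletion JB' RB')) ≤ q' := by
    intro hle'
    apply hqf
    rw [← hq'comap, ← Ideal.map_le_iff_le_comap, Ideal.map_map, hβc, ← Ideal.map_map, hJB]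
    exact hle'
  have : IsNoetherianRing (AdicCompletion JB' RB') := isNoetherianRing_adicCompletion _
  have hflat' := RigFlat.flat_at_prime_of_rigClosed _ ψ' (H ψ' hψ'c) q' hq'K
  have htot : ((algebraMap (AdicCompletion JB' RB') (Localization.AtPrime q')).comp
      (ψ'.comp α)).Flat := by
    rw [← RingHom.comp_assoc]
    exact RingHom.Flat.comp αflat hflat'
  rw [← hsq'] at htot
  have heq : (algebraMap (AdicCompletion JB' RB') (Localization.AtPrime q')).comp (β.comp ψf) =
      (Localization.localRingHom qf q' β hq'comap.symm).comp
        ((algebraMap (AdicCompletion JB RB) (Localization.AtPrime qf)).comp ψf) := by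
    refine RingHom.ext fun a => ?_
    simp [Localization.localRingHom_to_map]
  rw [heq] at htot
  have hloc : (Localization.localRingHom qf q' β hq'comap.symm).Flat :=
    βflat.localRingHom q' qf hq'comap.symm
  have : IsLocalHom (Localization.localRingHom qf q' β hq'comap.symm) :=
    Localization.isLocalHom_localRingHom qf q' β hq'comap.symm
  exact RigDescent.flat_of_comp_flat_local _ _ hloc htot


/-- Consider a commutative square of adic Noetherian topological rings with all maps adic and
topologically of finite type: A a Noetherian ring complete for the adic topology of an ideal I; B,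
A' and B' Noetherian algebras complete for the IB-, IA'- and IB'-adic topologies, B' an algebra over
B and over A' compatibly with A, with B/IB and A'/IA' of finite type over A and B'/IB' of finite
type over B and over A'. Assume A → A' is flat and B → B' is faithfully flat. If A' → B' is rig-flat
— for every f' ∈ A', every ring map A'_{f'} → B'_{f'} of completed principal localizations
compatible with the map of ordinary localizations A'[1/f'] → B'[1/f'] (there is exactly one), and
every rig-closed prime q of B'_{f'} (I B'_{f'} ⊄ q and q maximal among the primes not containing I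
B'_{f'}), the local ring (B'_{f'})_q is flat over A'_{f'} — then A → B is rig-flat in the same form:
for every f ∈ A, every ring map A_{f} → B_{f} of completed principal localizations compatible with
the map of ordinary localizations A[1/f] → B[1/f], and every rig-closed prime q of B_{f}, the local
ring (B_{f})_q is flat over A_{f}. -/
theorem result (A : Type u) [CommRing A] [IsNoetherianRing A] (I : Ideal A) [IsAdicComplete I A] (B : Type u) [CommRing B] [Algebra A B] [IsNoetherianRing B] [IsAdicComplete (I.map (algebraMap A B)) B] (hftB : Algebra.FiniteType A (B ⧸ (I.map (algebraMap A B)))) (A' : Type u) [CommRing A'] [Algebra A A'] [IsNoetherianRing A'] [IsAdicComplete (I.map (algebraMap A A')) A'] (hftA' : Algebra.FiniteType A (A' ⧸ (I.map (algebraMap A A')))) (B' : Type u) [CommRing B'] [Algebra A B'] [Algebra B B'] [Algebra A' B'] [IsScalarTower A B B'] [IsScalarTower A A' B'] [IsNoetherianRing B'] [IsAdicComplete (I.map (algebraMap A B')) B'] (hftB'B : Algebra.FiniteType B (B' ⧸ (I.map (algebraMap A B')))) (hftB'A' : Algebra.FiniteType A' (B' ⧸ (I.map (algebraMap A B')))) [Module.Flat A A'] [Module.FaithfullyFlat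 B B'] (hA'B' : (∀ f' : A', ∀ ψf' : (AdicCompletion ((I.map (algebraMap A A')).map (algebraMap A' (Localization.Away f'))) (Localization.Away f')) →+* (AdicCompletion (((I.map (algebraMap A A')).map (algebraMap A' B')).map (algebraMap B' (Localization.Away (algebraMap A' B' f')))) (Localization.Away (algebraMap A' B' f'))), ψf'.comp (algebraMap (Localization.Away f') (AdicCompletion ((I.map (algebraMap A A')).map (algebraMap A' (Localization.Away f'))) (Localization.Away f'))) = (algebraMap (Localization.Away (algebraMap A' B' f')) (AdicCompletion (((I.map (algebraMap A A')).map (algebraMap A' B')).map (algebraMap B' (Localization.Away (algebraMap A' B' f')))) (Localization.Away (algebraMap A' B' f')))).comp (Localization.awayMap (algebraMap A' B') f') → ∀ qf' : PrimeSpectrum (AdicCompletion (((I.map (algebraMap A A')).map (algebraMap A' B')).map (algebraMap B' (Localization.Away (algebraMap A' B' f')))) (Localization.Away (algebraMap A' B' f'))), (¬ ((((I.map (algebraMap A A')).map (algebraMap A' B')).map (algebraMap B' (Localization.Away (algebraMap A' B' f')))).map (algebraMap (Localization.Away (algebraMap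 A' B' f')) (AdicCompletion (((I.map (algebraMap A A')).map (algebraMap A' B')).map (algebraMap B' (Localization.Away (algebraMap A' B' f')))) (Localization.Away (algebraMap A' B' f'))))) ≤ qf'.asIdeal ∧ ∀ y : PrimeSpectrum (AdicCompletion (((I.map (algebraMap A A')).map (algebraMap A' B')).map (algebraMap B' (Localization.Away (algebraMap A' B' f')))) (Localization.Away (algebraMap A' B' f'))), qf' ≤ y → ¬ ((((I.map (algebraMap A A')).map (algebraMap A' B')).map (algebraMap B' (Localization.Away (algebraMap A' B' f')))).map (algebraMap (Localization.Away (algebraMap A' B' f')) (AdicCompletion (((I.map (algebraMap A A')).map (algebraMap A' B')).map (algebraMap B' (Localization.Away (algebraMap A' B' f')))) (Localization.Away (algebraMap A' B' f'))))) ≤ y.asIdeal → y = qf') → ((algebraMap (AdicCompletion (((I.map (algebraMap A A')).map (algebraMap A' B')).map (algebraMap B' (Localization.Away (algebraMap A' B' f')))) (Localization.Away (algebraMap A' B' f'))) (Localization.AtPrime qf'.asIdeal)).comp ψf').Flat)) : (∀ f : A, ∀ ψf : (AdicCompletion (I.map (algebraMap A (Localization.Away f))) (Localization.Away f))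 →+* (AdicCompletion ((I.map (algebraMap A B)).map (algebraMap B (Localization.Away (algebraMap A B f)))) (Localization.Away (algebraMap A B f))), ψf.comp (algebraMap (Localization.Away f) (AdicCompletion (I.map (algebraMap A (Localization.Away f))) (Localization.Away f))) = (algebraMap (Localization.Away (algebraMap A B f)) (AdicCompletion ((I.map (algebraMap A B)).map (algebraMap B (Localization.Away (algebraMap A B f)))) (Localization.Away (algebraMap A B f)))).comp (Localization.awayMap (algebraMap A B) f) → ∀ qf : PrimeSpectrum (AdicCompletion ((I.map (algebraMap A B)).map (algebraMap B (Localization.Away (algebraMap A B f)))) (Localization.Away (algebraMap A B f))), (¬ (((I.map (algebraMap A B)).map (algebraMap B (Localization.Away (algebraMap A B f)))).map (algebraMap (Localization.Away (algebraMap A B f)) (AdicCompletion ((I.map (algebraMap A B)).map (algebraMap B (Localization.Away (algebraMap A B f)))) (Localization.Away (algebraMap A B f))))) ≤ qf.asIdeal ∧ ∀ y : PrimeSpectrum (AdicCompletion ((I.map (algebraMap A B)).map (algebraMap B (Localization.Away (algebraMap A B f)))) (Localization.Away (algebraMap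 A B f))), qf ≤ y → ¬ (((I.map (algebraMap A B)).map (algebraMap B (Localization.Away (algebraMap A B f)))).map (algebraMap (Localization.Away (algebraMap A B f)) (AdicCompletion ((I.map (algebraMap A B)).map (algebraMap B (Localization.Away (algebraMap A B f)))) (Localization.Away (algebraMap A B f))))) ≤ y.asIdeal → y = qf) → ((algebraMap (AdicCompletion ((I.map (algebraMap A B)).map (algebraMap B (Localization.Away (algebraMap A B f)))) (Localization.Away (algebraMap A B f))) (Localization.AtPrime qf.asIdeal)).comp ψf).Flat) := by
  intro f ψf hψf qf hqf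
  have hawayA : ∀ a, Localization.awayMap (algebraMap A A') f (algebraMap A (Localization.Away f) a) =
      algebraMap A' (Localization.Away (algebraMap A A' f)) (algebraMap A A' a) := by
    intro a
    simp [Localization.awayMap, IsLocalization.Away.map]
  have hθA : (Localization.awayMap (algebraMap A A') f).comp (algebraMap A (Localization.Away f)) =
      (algebraMap A' (Localization.Away (algebraMap A A' f))).comp (algebraMap A A') :=
    RingHom.ext hawayA
  have hθf : (Localization.awayMap (algebraMap A B) f).comp (algebraMap A (Localization.Away f)) =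
      (algebraMap B (Localization.Away (algebraMap A B f))).comp (algebraMap A B) := by
    refine RingHom.ext fun a => ?_
    simp [Localization.awayMap, IsLocalization.Away.map]
  have hθ' : (Localization.awayMap (algebraMap A' B') (algebraMap A A' f)).comp
      (algebraMap A' (Localization.Away (algebraMap A A' f))) =
      (algebraMap B' (Localization.Away (algebraMap A' B' (algebraMap A A' f)))).comp
        (algebraMap A' B') := by
    refine RingHom.ext fun a => ?_
    simp [Localization.awayMap, IsLocalization.Away.map]
  have hx : algebraMap A' B' (algebraMap A A' f) = algebraMap B B' (algebraMap A B f) := by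
    rw [← IsScalarTower.algebraMap_apply A A' B', ← IsScalarTower.algebraMap_apply A B B']
  have hu : IsUnit (((algebraMap B' (Localization.Away (algebraMap A' B' (algebraMap A A' f)))).comp
      (algebraMap B B')) (algebraMap A B f)) := by
    rw [RingHom.comp_apply, ← hx]
    exact IsLocalization.Away.algebraMap_isUnit _
  have hθB : (IsLocalization.Away.lift (algebraMap A B f) hu).comp
      (algebraMap B (Localization.Away (algebraMap A B f))) =
      (algebraMap B' (Localization.Away (algebraMap A' B' (algebraMap A A' f)))).comp
        (algebraMap B B') := IsLocalization.Away.lift_comp _ hu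
  have hsq : (IsLocalization.Away.lift (algebraMap A B f) hu).comp
      (Localization.awayMap (algebraMap A B) f) =
      (Localization.awayMap (algebraMap A' B') (algebraMap A A' f)).comp
        (Localization.awayMap (algebraMap A A') f) := by
    apply IsLocalization.ringHom_ext (Submonoid.powers f)
    refine RingHom.ext fun a => ?_
    have e1 := RingHom.congr_fun hθf a
    have e2 := RingHom.congr_fun hθB (algebraMap A B a)
    have e3 := RingHom.congr_fun hθA a
    have e4 := RingHom.congr_fun hθ' (algebraMap A A' a)
    simp only [RingHom.comp_apply] at e1 e2 e3 e4 ⊢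
    rw [e1, e2, e3, e4, ← IsScalarTower.algebraMap_apply A B B' a,
      ← IsScalarTower.algebraMap_apply A A' B' a]
  have hJf : (I.map (algebraMap A (Localization.Away f))).map
      (Localization.awayMap (algebraMap A B) f) ≤
      (I.map (algebraMap A B)).map (algebraMap B (Localization.Away (algebraMap A B f))) := by
    rw [Ideal.map_map, hθf, ← Ideal.map_map]
  have hJA : (I.map (algebraMap A (Localization.Away f))).map
      (Localization.awayMap (algebraMap A A') f) ≤
      (I.map (algebraMap A A')).map (algebraMap A' (Localization.Away (algebraMap A A' f))) := by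
    rw [Ideal.map_map, hθA, ← Ideal.map_map]
  have hJ' : ((I.map (algebraMap A A')).map
      (algebraMap A' (Localization.Away (algebraMap A A' f)))).map
      (Localization.awayMap (algebraMap A' B') (algebraMap A A' f)) ≤
      ((I.map (algebraMap A A')).map (algebraMap A' B')).map
        (algebraMap B' (Localization.Away (algebraMap A' B' (algebraMap A A' f)))) := by
    rw [Ideal.map_map, hθ', ← Ideal.map_map]
  have hJB : ((I.map (algebraMap A B)).map
      (algebraMap B (Localization.Away (algebraMap A B f)))).map
      (IsLocalization.Away.lift (algebraMap A B f) hu) =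
      ((I.map (algebraMap A A')).map (algebraMap A' B')).map
        (algebraMap B' (Localization.Away (algebraMap A' B' (algebraMap A A' f)))) := by
    rw [Ideal.map_map, hθB, ← Ideal.map_map]
    congr 1
    rw [Ideal.map_map, Ideal.map_map, ← IsScalarTower.algebraMap_eq, ← IsScalarTower.algebraMap_eq]
  have hflatA : (Localization.awayMap (algebraMap A A') f).Flat :=
    RigDescent.flat_away f (algebraMap A A' f) _ hθA
  have hflatB : (IsLocalization.Away.lift (algebraMap A B f) hu).Flat :=
    RigDescent.flat_away (algebraMap A B f) (algebraMap A' B' (algebraMap A A' f)) _ hθB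
  have hsurj : ∀ P : Ideal (Localization.Away (algebraMap A B f)), P.IsPrime →
      ∃ P' : Ideal (Localization.Away (algebraMap A' B' (algebraMap A A' f))),
        P'.IsPrime ∧ P'.comap (IsLocalization.Away.lift (algebraMap A B f) hu) = P := by
    intro P hP
    exact RigDescent.exists_comap_eq_away (algebraMap A B f) (algebraMap A' B' (algebraMap A A' f))
      hx _ hθB P
  exact core (I.map (algebraMap A (Localization.Away f)))
    ((I.map (algebraMap A B)).map (algebraMap B (Localization.Away (algebraMap A B f))))
    ((I.map (algebraMap A A')).map (algebraMap A' (Localization.Away (algebraMap A A' f))))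
    (((I.map (algebraMap A A')).map (algebraMap A' B')).map
        (algebraMap B' (Localization.Away (algebraMap A' B' (algebraMap A A' f)))))
    (Localization.awayMap (algebraMap A B) f) (Localization.awayMap (algebraMap A A') f)
    (Localization.awayMap (algebraMap A' B') (algebraMap A A' f))
    (IsLocalization.Away.lift (algebraMap A B f) hu) hsq hJf hJA hJ' hJB hflatA hflatB hsurj
    (hA'B' (algebraMap A A' f)) ψf hψf qf.asIdeal hqf.1

end Groth.Agent.S8844
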