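import Groth.Statements.S8845
import Mathlib
import Groth.Agent.S8840
import Groth.Agent.Lib.Helper83.RigEtale

set_option autoImplicit false
universe u
open AdicRing

namespace Groth.Agent.S8845

open Groth.Agent.Lib.Helper83 Groth.Agent.Lib.Helper83.RigEtale

/-- **Core**: etale base change of rig-flatness, abstract form. -/
theorem core (A : Type u) [CommRing A] [IsNoetherianRing A] (I : Ideal A) [IsAdicComplete I A]
    (B : Type u) [CommRing B] [Algebra A B] [IsNoetherianRing B]
    (hAB : (∀ f : A, ∀ ψf : (AdicCompletion (I.map (algebraMap A (Localization.Away f))) (Localization.Away f)) →+* (AdicCompletion ((I.map (algebraMap A B)).map (algebraMap B (Localization.Away (algebraMap A B f)))) (Localization.Away (algebraMap A B f))), ψf.comp (algebraMap (Localization.Away f) (AdicCompletion (I.map (algebraMap A (Localization.Away f))) (Localization.Away f))) = (algebraMap (Localization.Away (algebraMap A B f)) (AdicCompletion ((I.map (algebraMap A B)).map (algebraMap B (Localization.Away (algebraMap A B f)))) (Localization.Away (algebraMap A B f)))).comp (Localization.awayMap (algebraMap A B) f) → ∀ qf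 : PrimeSpectrum (AdicCompletion ((I.map (algebraMap A B)).map (algebraMap B (Localization.Away (algebraMap A B f)))) (Localization.Away (algebraMap A B f))), (¬ (((I.map (algebraMap A B)).map (algebraMap B (Localization.Away (algebraMap A B f)))).map (algebraMap (Localization.Away (algebraMap A B f)) (AdicCompletion ((I.map (algebraMap A B)).map (algebraMap B (Localization.Away (algebraMap A B f)))) (Localization.Away (algebraMap A B f))))) ≤ qf.asIdeal ∧ ∀ y : PrimeSpectrum (AdicCompletion ((I.map (algebraMap A B)).map (algebraMap B (Localization.Away (algebraMap A B f)))) (Localization.Away (algebraMap A B f))), qf ≤ y → ¬ (((I.map (algebraMap A B)).map (algebraMap B (Localization.Away (algebraMap A B f)))).map (algebraMap (Localization.Away (algebraMap A B f)) (AdicCompletion ((I.map (algebraMap A B)).map (algebraMap B (Localization.Away (algebraMap A B f)))) (Localization.Away (algebraMap A B f))))) ≤ y.asIdeal → y = qf) → ((algebraMap (AdicCompletion ((I.map (algebraMap A B)).map (algebraMap B (Localization.Away (algebraMap A B f)))) (Localization.Away (algebraMap A B f))) (Localization.AtPrime qf.asIdeal)).comp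 ψf).Flat))
    (A₁ : Type u) [CommRing A₁] [Algebra A A₁] [IsNoetherianRing A₁]
    [Module.Flat A A₁] [Algebra.Etale (A ⧸ I) (A₁ ⧸ I.map (algebraMap A A₁))]
    (B₁ : Type u) [CommRing B₁] [Algebra A B₁] [Algebra B B₁] [IsScalarTower A B B₁]
    [IsNoetherianRing B₁] (K₁ : Ideal B₁) (hK₁ : K₁ = I.map (algebraMap A B₁))
    [IsAdicComplete K₁ B₁]
    (hftB₁ : Algebra.FiniteType A (B₁ ⧸ I.map (algebraMap A B₁)))
    [Module.Flat B B₁]
    (ψ₁ : A₁ →+* B₁) (hψ₁ : ψ₁.comp (algebraMap A A₁) = algebraMap A B₁)
    (q₁ : PrimeSpectrum B₁)
    (hq₁ : ¬ K₁ ≤ q₁.asIdeal ∧ ∀ y : PrimeSpectrum B₁, q₁ ≤ y → ¬ K₁ ≤ y.asIdeal → y = q₁) :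
    ((algebraMap B₁ (Localization.AtPrime q₁.asIdeal)).comp ψ₁).Flat := by
  subst hK₁
  obtain ⟨f, hunit, H⟩ := Groth.Agent.S8840.result A I B₁ hftB₁ q₁ hq₁
  -- maps of localizations
  have hθf := awayMap_comp A B f
  have hθA := awayMap_comp A A₁ f
  have hθAB := awayMap_comp A B₁ f
  have huB : IsUnit (((algebraMap B₁ (Localization.Away (algebraMap A B₁ f))).comp (algebraMap B B₁)) (algebraMap A B f)) := by
    rw [RingHom.comp_apply, ← IsScalarTower.algebraMap_apply A B B₁]
    exact IsLocalization.Away.algebraMap_isUnit _
  obtain ⟨θB, hθB⟩ : ∃ θB : (Localization.Away (algebraMap A B f)) →+* (Localization.Away (algebraMap A B₁ f)), θB.comp (algebraMap B (Localization.Away (algebraMap A B f))) =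
      (algebraMap B₁ (Localization.Away (algebraMap A B₁ f))).comp (algebraMap B B₁) :=
    ⟨IsLocalization.Away.lift (algebraMap A B f) huB, IsLocalization.Away.lift_comp _ huB⟩
  have hu₂ : IsUnit (((algebraMap B₁ (Localization.Away (algebraMap A B₁ f))).comp ψ₁) (algebraMap A A₁ f)) := by
    rw [RingHom.comp_apply]
    have h0 : ψ₁ (algebraMap A A₁ f) = algebraMap A B₁ f := RingHom.congr_fun hψ₁ f
    rw [h0]
    exact IsLocalization.Away.algebraMap_isUnit _
  obtain ⟨θ₂, hθ₂⟩ : ∃ θ₂ : (Localization.Away (algebraMap A A₁ f)) →+* (Localization.Away (algebraMap A B₁ f)), θ₂.comp (algebraMap A₁ (Localization.Away (algebraMap A A₁ f))) =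
      (algebraMap B₁ (Localization.Away (algebraMap A B₁ f))).comp ψ₁ :=
    ⟨IsLocalization.Away.lift (algebraMap A A₁ f) hu₂, IsLocalization.Away.lift_comp _ hu₂⟩
  have hθAB_B : (Localization.awayMap (algebraMap A B₁) f) = θB.comp (Localization.awayMap (algebraMap A B) f) := by
    apply IsLocalization.ringHom_ext (Submonoid.powers f)
    rw [hθAB, RingHom.comp_assoc, hθf, ← RingHom.comp_assoc, hθB, RingHom.comp_assoc,
      IsScalarTower.algebraMap_eq A B B₁]
  have hθAB_2 : (Localization.awayMap (algebraMap A B₁) f) = θ₂.comp (Localization.awayMap (algebraMap A A₁) f) := by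
    apply IsLocalization.ringHom_ext (Submonoid.powers f)
    rw [hθAB, RingHom.comp_assoc, hθA, ← RingHom.comp_assoc, hθ₂, RingHom.comp_assoc, hψ₁]
  -- ideals
  have hJf : (I.map (algebraMap A (Localization.Away f))).map (Localization.awayMap (algebraMap A B) f) = ((I.map (algebraMap A B)).map (algebraMap B (Localization.Away (algebraMap A B f)))) := by
    rw [Ideal.map_map, hθf, ← Ideal.map_map]
  have hJA : (I.map (algebraMap A (Localization.Away f))).map (Localization.awayMap (algebraMap A A₁) f) = ((I.map (algebraMap A A₁)).map (algebraMap A₁ (Localization.Away (algebraMap A A₁ f)))) := by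
    rw [Ideal.map_map, hθA, ← Ideal.map_map]
  have hJAB : (I.map (algebraMap A (Localization.Away f))).map (Localization.awayMap (algebraMap A B₁) f) = ((I.map (algebraMap A B₁)).map (algebraMap B₁ (Localization.Away (algebraMap A B₁ f)))) := by
    rw [Ideal.map_map, hθAB, ← Ideal.map_map]
  have hJB : ((I.map (algebraMap A B)).map (algebraMap B (Localization.Away (algebraMap A B f)))).map θB = ((I.map (algebraMap A B₁)).map (algebraMap B₁ (Localization.Away (algebraMap A B₁ f)))) := by
    rw [Ideal.map_map, hθB, ← Ideal.map_map, Ideal.map_map (algebraMap A B) (algebraMap B B₁),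
      ← IsScalarTower.algebraMap_eq]
  have hJ₂ : ((I.map (algebraMap A A₁)).map (algebraMap A₁ (Localization.Away (algebraMap A A₁ f)))).map θ₂ = ((I.map (algebraMap A B₁)).map (algebraMap B₁ (Localization.Away (algebraMap A B₁ f)))) := by
    rw [Ideal.map_map, hθ₂, ← Ideal.map_map, Ideal.map_map (algebraMap A A₁) ψ₁, hψ₁]
  -- maps of completions
  obtain ⟨ψf, hψf⟩ := exists_complMap (I.map (algebraMap A (Localization.Away f))) ((I.map (algebraMap A B)).map (algebraMap B (Localization.Away (algebraMap A B f)))) (Localization.awayMap (algebraMap A B) f) hJf.le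
  obtain ⟨ψA, hψA⟩ := exists_complMap (I.map (algebraMap A (Localization.Away f))) ((I.map (algebraMap A A₁)).map (algebraMap A₁ (Localization.Away (algebraMap A A₁ f)))) (Localization.awayMap (algebraMap A A₁) f) hJA.le
  obtain ⟨ψAB, hψAB⟩ := exists_complMap (I.map (algebraMap A (Localization.Away f))) ((I.map (algebraMap A B₁)).map (algebraMap B₁ (Localization.Away (algebraMap A B₁ f)))) (Localization.awayMap (algebraMap A B₁) f) hJAB.le
  obtain ⟨ψB, hψB⟩ := exists_complMap ((I.map (algebraMap A B)).map (algebraMap B (Localization.Away (algebraMap A B f)))) ((I.map (algebraMap A B₁)).map (algebraMap B₁ (Localization.Away (algebraMap A B₁ f)))) θB hJB.le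
  obtain ⟨ψ₂, hψ₂⟩ := exists_complMap ((I.map (algebraMap A A₁)).map (algebraMap A₁ (Localization.Away (algebraMap A A₁ f)))) ((I.map (algebraMap A B₁)).map (algebraMap B₁ (Localization.Away (algebraMap A B₁ f)))) θ₂ hJ₂.le
  have hcompB : ψAB = ψB.comp ψf :=
    complMap_comp_unique (I.map (algebraMap A (Localization.Away f))) ((I.map (algebraMap A B)).map (algebraMap B (Localization.Away (algebraMap A B f)))) ((I.map (algebraMap A B₁)).map (algebraMap B₁ (Localization.Away (algebraMap A B₁ f)))) (Localization.awayMap (algebraMap A B) f) θB (Localization.awayMap (algebraMap A B₁) f) hθAB_B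
      (Ideal.fg_of_isNoetherianRing _) hJAB.le ψf hψf ψB hψB ψAB hψAB
  have hcomp2 : ψAB = ψ₂.comp ψA :=
    complMap_comp_unique (I.map (algebraMap A (Localization.Away f))) ((I.map (algebraMap A A₁)).map (algebraMap A₁ (Localization.Away (algebraMap A A₁ f)))) ((I.map (algebraMap A B₁)).map (algebraMap B₁ (Localization.Away (algebraMap A B₁ f)))) (Localization.awayMap (algebraMap A A₁) f) θ₂ (Localization.awayMap (algebraMap A B₁) f) hθAB_2
      (Ideal.fg_of_isNoetherianRing _) hJAB.le ψA hψA ψ₂ hψ₂ ψAB hψAB
  -- flatness
  have hψAflat : ψA.Flat := flat_complMap (I.map (algebraMap A (Localization.Away f))) ((I.map (algebraMap A A₁)).map (algebraMap A₁ (Localization.Away (algebraMap A A₁ f)))) (Localization.awayMap (algebraMap A A₁) f) hJA.le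
    (RigDescent.flat_away (B := A) (B' := A₁) f (algebraMap A A₁ f) (Localization.awayMap (algebraMap A A₁) f) hθA) ψA hψA
  have hψBflat : ψB.Flat := flat_complMap ((I.map (algebraMap A B)).map (algebraMap B (Localization.Away (algebraMap A B f)))) ((I.map (algebraMap A B₁)).map (algebraMap B₁ (Localization.Away (algebraMap A B₁ f)))) θB hJB.le
    (RigDescent.flat_away (B := B) (B' := B₁) (algebraMap A B f) (algebraMap A B₁ f) θB hθB) ψB hψB
  -- descent along `B₁ → (B₁)_{x}`
  refine flat_of_flat_complAway A₁ B₁ ψ₁ (I.map (algebraMap A A₁)) (algebraMap A A₁ f)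
    (I.map (algebraMap A B₁)) (algebraMap A B₁ f) q₁.asIdeal hunit θ₂ hθ₂ ψ₂ hψ₂ ?_
  intro hq₂
  obtain ⟨hP, hnI, hmax⟩ := H ψAB hψAB
  -- ideals of definition
  have hKf := map_map_complMap A B I f (algebraMap A B f) (Localization.awayMap (algebraMap A B) f) hθf ψf hψf
  have hKA := map_map_complMap A A₁ I f (algebraMap A A₁ f) (Localization.awayMap (algebraMap A A₁) f) hθA ψA hψA
  -- instances
  have hNAt : IsNoetherianRing (AdicCompletion (I.map (algebraMap A (Localization.Away f))) (Localization.Away f)) := isNoetherianRing_adicCompletion _
  have hNA1t : IsNoetherianRing (AdicCompletion ((I.map (algebraMap A A₁)).map (algebraMap A₁ (Localization.Away (algebraMap A A₁ f)))) (Localization.Away (algebraMap A A₁ f))) := isNoetherianRing_adicCompletion _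
  have hNB1t : IsNoetherianRing (AdicCompletion ((I.map (algebraMap A B₁)).map (algebraMap B₁ (Localization.Away (algebraMap A B₁ f)))) (Localization.Away (algebraMap A B₁ f))) := isNoetherianRing_adicCompletion _
  have hNBt : IsNoetherianRing (AdicCompletion ((I.map (algebraMap A B)).map (algebraMap B (Localization.Away (algebraMap A B f)))) (Localization.Away (algebraMap A B f))) := isNoetherianRing_adicCompletion _
  have hcA : IsAdicComplete (I.map (algebraMap A (AdicCompletion (I.map (algebraMap A (Localization.Away f))) (Localization.Away f)))) (AdicCompletion (I.map (algebraMap A (Localization.Away f))) (Localization.Away f)) := by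
    have h0 := AdicCompletion.isAdicComplete_self (I.map (algebraMap A (Localization.Away f))) (Ideal.fg_of_isNoetherianRing _)
    rw [map_map_away A I f] at h0
    exact h0
  letI algA : Algebra (AdicCompletion (I.map (algebraMap A (Localization.Away f))) (Localization.Away f)) (AdicCompletion ((I.map (algebraMap A A₁)).map (algebraMap A₁ (Localization.Away (algebraMap A A₁ f)))) (Localization.Away (algebraMap A A₁ f))) := ψA.toAlgebra
  have hcA1 : IsAdicComplete ((I.map (algebraMap A (AdicCompletion (I.map (algebraMap A (Localization.Away f))) (Localization.Away f)))).map (algebraMap (AdicCompletion (I.map (algebraMap A (Localization.Away f))) (Localization.Away f)) (AdicCompletion ((I.map (algebraMap A A₁)).map (algebraMap A₁ (Localization.Away (algebraMap A A₁ f)))) (Localization.Away (algebraMap A A₁ f))))) (AdicCompletion ((I.map (algebraMap A A₁)).map (algebraMap A₁ (Localization.Away (algebraMap A A₁ f)))) (Localization.Away (algebraMap A A₁ f))) := by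
    have h0 := AdicCompletion.isAdicComplete_self ((I.map (algebraMap A A₁)).map (algebraMap A₁ (Localization.Away (algebraMap A A₁ f)))) (Ideal.fg_of_isNoetherianRing _)
    rw [← hKA] at h0
    exact h0
  have hflatA : Module.Flat (AdicCompletion (I.map (algebraMap A (Localization.Away f))) (Localization.Away f)) (AdicCompletion ((I.map (algebraMap A A₁)).map (algebraMap A₁ (Localization.Away (algebraMap A A₁ f)))) (Localization.Away (algebraMap A A₁ f))) := hψAflat
  have hψA_A : ψA.comp (algebraMap A (AdicCompletion (I.map (algebraMap A (Localization.Away f))) (Localization.Away f))) =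
      (algebraMap A₁ (AdicCompletion ((I.map (algebraMap A A₁)).map (algebraMap A₁ (Localization.Away (algebraMap A A₁ f)))) (Localization.Away (algebraMap A A₁ f)))).comp (algebraMap A A₁) := by
    refine RingHom.ext fun a => ?_
    have h1 := RingHom.congr_fun hψA (algebraMap A (Localization.Away f) a)
    have h2 := RingHom.congr_fun hθA a
    simp only [RingHom.comp_apply] at h1 h2 ⊢
    rw [IsScalarTower.algebraMap_apply A (Localization.Away f) (AdicCompletion (I.map (algebraMap A (Localization.Away f))) (Localization.Away f)), h1, h2,
      ← IsScalarTower.algebraMap_apply A₁ (Localization.Away (algebraMap A A₁ f)) (AdicCompletion ((I.map (algebraMap A A₁)).map (algebraMap A₁ (Localization.Away (algebraMap A A₁ f)))) (Localization.Away (algebraMap A A₁ f)))]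
  have hEt : Algebra.Etale ((AdicCompletion (I.map (algebraMap A (Localization.Away f))) (Localization.Away f)) ⧸ (I.map (algebraMap A (AdicCompletion (I.map (algebraMap A (Localization.Away f))) (Localization.Away f))))) ((AdicCompletion ((I.map (algebraMap A A₁)).map (algebraMap A₁ (Localization.Away (algebraMap A A₁ f)))) (Localization.Away (algebraMap A A₁ f))) ⧸ (I.map (algebraMap A (AdicCompletion (I.map (algebraMap A (Localization.Away f))) (Localization.Away f)))).map (algebraMap (AdicCompletion (I.map (algebraMap A (Localization.Away f))) (Localization.Away f)) (AdicCompletion ((I.map (algebraMap A A₁)).map (algebraMap A₁ (Localization.Away (algebraMap A A₁ f)))) (Localization.Away (algebraMap A A₁ f))))) :=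
    RingHom.etale_algebraMap.mp (etale_quotientMap_complMap A I A₁ f ψA hψA_A)
  have hftE : Algebra.FiniteType (AdicCompletion (I.map (algebraMap A (Localization.Away f))) (Localization.Away f)) ((AdicCompletion ((I.map (algebraMap A A₁)).map (algebraMap A₁ (Localization.Away (algebraMap A A₁ f)))) (Localization.Away (algebraMap A A₁ f))) ⧸ (I.map (algebraMap A (AdicCompletion (I.map (algebraMap A (Localization.Away f))) (Localization.Away f)))).map (algebraMap (AdicCompletion (I.map (algebraMap A (Localization.Away f))) (Localization.Away f)) (AdicCompletion ((I.map (algebraMap A A₁)).map (algebraMap A₁ (Localization.Away (algebraMap A A₁ f)))) (Localization.Away (algebraMap A A₁ f))))) :=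
    finiteType_of_etale_quot (AdicCompletion (I.map (algebraMap A (Localization.Away f))) (Localization.Away f)) (I.map (algebraMap A (AdicCompletion (I.map (algebraMap A (Localization.Away f))) (Localization.Away f)))) (AdicCompletion ((I.map (algebraMap A A₁)).map (algebraMap A₁ (Localization.Away (algebraMap A A₁ f)))) (Localization.Away (algebraMap A A₁ f)))
  have hcc : (q₁.asIdeal.map (algebraMap B₁ (AdicCompletion ((I.map (algebraMap A B₁)).map (algebraMap B₁ (Localization.Away (algebraMap A B₁ f)))) (Localization.Away (algebraMap A B₁ f))))).comap ψAB = ((q₁.asIdeal.map (algebraMap B₁ (AdicCompletion ((I.map (algebraMap A B₁)).map (algebraMap B₁ (Localization.Away (algebraMap A B₁ f)))) (Localization.Away (algebraMap A B₁ f))))).comap ψ₂).comap (algebraMap (AdicCompletion (I.map (algebraMap A (Localization.Away f))) (Localization.Away f)) (AdicCompletion ((I.map (algebraMap A A₁)).map (algebraMap A₁ (Localization.Away (algebraMap A A₁ f)))) (Localization.Away (algebraMap A A₁ f)))) := by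
    rw [hcomp2]
    rfl
  have hnot : ¬ (I.map (algebraMap A (AdicCompletion (I.map (algebraMap A (Localization.Away f))) (Localization.Away f)))).map (algebraMap (AdicCompletion (I.map (algebraMap A (Localization.Away f))) (Localization.Away f)) (AdicCompletion ((I.map (algebraMap A A₁)).map (algebraMap A₁ (Localization.Away (algebraMap A A₁ f)))) (Localization.Away (algebraMap A A₁ f)))) ≤ (q₁.asIdeal.map (algebraMap B₁ (AdicCompletion ((I.map (algebraMap A B₁)).map (algebraMap B₁ (Localization.Away (algebraMap A B₁ f)))) (Localization.Away (algebraMap A B₁ f))))).comap ψ₂ := by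
    intro hle
    apply hnI
    rw [hcc, ← Ideal.map_le_iff_le_comap]
    exact hle
  have hrig₀ : ¬ (I.map (algebraMap A (AdicCompletion (I.map (algebraMap A (Localization.Away f))) (Localization.Away f)))) ≤ ((q₁.asIdeal.map (algebraMap B₁ (AdicCompletion ((I.map (algebraMap A B₁)).map (algebraMap B₁ (Localization.Away (algebraMap A B₁ f)))) (Localization.Away (algebraMap A B₁ f))))).comap ψ₂).comap (algebraMap (AdicCompletion (I.map (algebraMap A (Localization.Away f))) (Localization.Away f)) (AdicCompletion ((I.map (algebraMap A A₁)).map (algebraMap A₁ (Localization.Away (algebraMap A A₁ f)))) (Localization.Away (algebraMap A A₁ f)))) ∧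
      ∀ y : PrimeSpectrum (AdicCompletion (I.map (algebraMap A (Localization.Away f))) (Localization.Away f)), ((q₁.asIdeal.map (algebraMap B₁ (AdicCompletion ((I.map (algebraMap A B₁)).map (algebraMap B₁ (Localization.Away (algebraMap A B₁ f)))) (Localization.Away (algebraMap A B₁ f))))).comap ψ₂).comap (algebraMap (AdicCompletion (I.map (algebraMap A (Localization.Away f))) (Localization.Away f)) (AdicCompletion ((I.map (algebraMap A A₁)).map (algebraMap A₁ (Localization.Away (algebraMap A A₁ f)))) (Localization.Away (algebraMap A A₁ f)))) ≤ y.asIdeal →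
        ¬ (I.map (algebraMap A (AdicCompletion (I.map (algebraMap A (Localization.Away f))) (Localization.Away f)))) ≤ y.asIdeal → y.asIdeal = ((q₁.asIdeal.map (algebraMap B₁ (AdicCompletion ((I.map (algebraMap A B₁)).map (algebraMap B₁ (Localization.Away (algebraMap A B₁ f)))) (Localization.Away (algebraMap A B₁ f))))).comap ψ₂).comap (algebraMap (AdicCompletion (I.map (algebraMap A (Localization.Away f))) (Localization.Away f)) (AdicCompletion ((I.map (algebraMap A A₁)).map (algebraMap A₁ (Localization.Away (algebraMap A A₁ f)))) (Localization.Away (algebraMap A A₁ f)))) := by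
    rw [← hcc]
    exact ⟨hnI, hmax⟩
  have hqB : ¬ ((I.map (algebraMap A B)).map (algebraMap B (Localization.Away (algebraMap A B f)))).map (algebraMap (Localization.Away (algebraMap A B f)) (AdicCompletion ((I.map (algebraMap A B)).map (algebraMap B (Localization.Away (algebraMap A B f)))) (Localization.Away (algebraMap A B f)))) ≤ (q₁.asIdeal.map (algebraMap B₁ (AdicCompletion ((I.map (algebraMap A B₁)).map (algebraMap B₁ (Localization.Away (algebraMap A B₁ f)))) (Localization.Away (algebraMap A B₁ f))))).comap ψB := by
    intro hle
    apply hnI
    rw [hcompB, ← Ideal.comap_comap, ← Ideal.map_le_iff_le_comap, hKf]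
    exact hle
  have hflat1 := RigFlat.flat_at_prime_of_rigClosed _ ψf (hAB f ψf hψf) ((q₁.asIdeal.map (algebraMap B₁ (AdicCompletion ((I.map (algebraMap A B₁)).map (algebraMap B₁ (Localization.Away (algebraMap A B₁ f)))) (Localization.Away (algebraMap A B₁ f))))).comap ψB) hqB
  have hloc := hψBflat.localRingHom (q₁.asIdeal.map (algebraMap B₁ (AdicCompletion ((I.map (algebraMap A B₁)).map (algebraMap B₁ (Localization.Away (algebraMap A B₁ f)))) (Localization.Away (algebraMap A B₁ f))))) ((q₁.asIdeal.map (algebraMap B₁ (AdicCompletion ((I.map (algebraMap A B₁)).map (algebraMap B₁ (Localization.Away (algebraMap A B₁ f)))) (Localization.Away (algebraMap A B₁ f))))).comap ψB) rfl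
  have hflat₀ : ((algebraMap (AdicCompletion ((I.map (algebraMap A B₁)).map (algebraMap B₁ (Localization.Away (algebraMap A B₁ f)))) (Localization.Away (algebraMap A B₁ f))) (Localization.AtPrime (q₁.asIdeal.map (algebraMap B₁ (AdicCompletion ((I.map (algebraMap A B₁)).map (algebraMap B₁ (Localization.Away (algebraMap A B₁ f)))) (Localization.Away (algebraMap A B₁ f))))))).comp
      (ψ₂.comp (algebraMap (AdicCompletion (I.map (algebraMap A (Localization.Away f))) (Localization.Away f)) (AdicCompletion ((I.map (algebraMap A A₁)).map (algebraMap A₁ (Localization.Away (algebraMap A A₁ f)))) (Localization.Away (algebraMap A A₁ f)))))).Flat := by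
    have h0 : ψ₂.comp (algebraMap (AdicCompletion (I.map (algebraMap A (Localization.Away f))) (Localization.Away f)) (AdicCompletion ((I.map (algebraMap A A₁)).map (algebraMap A₁ (Localization.Away (algebraMap A A₁ f)))) (Localization.Away (algebraMap A A₁ f)))) = ψB.comp ψf := hcomp2.symm.trans hcompB
    have heq : (algebraMap (AdicCompletion ((I.map (algebraMap A B₁)).map (algebraMap B₁ (Localization.Away (algebraMap A B₁ f)))) (Localization.Away (algebraMap A B₁ f))) (Localization.AtPrime (q₁.asIdeal.map (algebraMap B₁ (AdicCompletion ((I.map (algebraMap A B₁)).map (algebraMap B₁ (Localization.Away (algebraMap A B₁ f)))) (Localization.Away (algebraMap A B₁ f))))))).comp (ψB.comp ψf) =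
        (Localization.localRingHom ((q₁.asIdeal.map (algebraMap B₁ (AdicCompletion ((I.map (algebraMap A B₁)).map (algebraMap B₁ (Localization.Away (algebraMap A B₁ f)))) (Localization.Away (algebraMap A B₁ f))))).comap ψB) (q₁.asIdeal.map (algebraMap B₁ (AdicCompletion ((I.map (algebraMap A B₁)).map (algebraMap B₁ (Localization.Away (algebraMap A B₁ f)))) (Localization.Away (algebraMap A B₁ f))))) ψB rfl).comp
          ((algebraMap (AdicCompletion ((I.map (algebraMap A B)).map (algebraMap B (Localization.Away (algebraMap A B f)))) (Localization.Away (algebraMap A B f))) (Localization.AtPrime ((q₁.asIdeal.map (algebraMap B₁ (AdicCompletion ((I.map (algebraMap A B₁)).map (algebraMap B₁ (Localization.Away (algebraMap A B₁ f)))) (Localization.Away (algebraMap A B₁ f))))).comap ψB))).comp ψf) := by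
      refine RingHom.ext fun a => ?_
      simp [Localization.localRingHom_to_map]
    rw [h0, heq]
    exact RingHom.Flat.comp hflat1 hloc
  exact flat_of_etale_special_fibre (AdicCompletion (I.map (algebraMap A (Localization.Away f))) (Localization.Away f)) (I.map (algebraMap A (AdicCompletion (I.map (algebraMap A (Localization.Away f))) (Localization.Away f)))) (AdicCompletion ((I.map (algebraMap A A₁)).map (algebraMap A₁ (Localization.Away (algebraMap A A₁ f)))) (Localization.Away (algebraMap A A₁ f))) hftE (AdicCompletion ((I.map (algebraMap A B₁)).map (algebraMap B₁ (Localization.Away (algebraMap A B₁ f)))) (Localization.Away (algebraMap A B₁ f))) ψ₂ (q₁.asIdeal.map (algebraMap B₁ (AdicCompletion ((I.map (algebraMap A B₁)).map (algebraMap B₁ (Localization.Away (algebraMap A B₁ f)))) (Localization.Away (algebraMap A B₁ f))))) hnot hrig₀ hflat₀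

/-- Consider a commutative square of adic Noetherian topological rings with all maps adic and
topologically of finite type: A a Noetherian ring complete for the adic topology of an ideal I (the
ideal of definition used below); B, A' and B' Noetherian algebras complete for the IB-, IA'- and
IB'-adic topologies, B' an algebra over B and over A' compatibly with A, with B/IB and A'/IA' of
finite type over A and B'/IB' of finite type over B and over A'. Assume A → A' and B → B' are flat
and A/I → A'/IA' is étale. If A → B is rig-flat — for every f ∈ A, every ring map ψ : A_{f} → B_{f}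
of completed principal localizations compatible with the map of ordinary localizations A[1/f] →
B[1/f] (there is exactly one), and every rig-closed prime q of B_{f} (I B_{f} ⊄ q and q maximal
among the primes not containing I B_{f}), the local ring (B_{f})_q is flat over A_{f} via ψ — then
A' → B' is rig-flat in the same form: for every f' ∈ A', every ring map A'_{f'} → B'_{f'} of
completed principal localizations compatible with the map of ordinary localizations A'[1/f'] →
B'[1/f'], and every rig-closed prime q' of B'_{f'}, the local ring (B'_{f'})_{q'} is flat over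
A'_{f'}. -/
theorem result (A : Type u) [CommRing A] [IsNoetherianRing A] (I : Ideal A) [IsAdicComplete I A] (B : Type u) [CommRing B] [Algebra A B] [IsNoetherianRing B] [IsAdicComplete (I.map (algebraMap A B)) B] (hftB : Algebra.FiniteType A (B ⧸ (I.map (algebraMap A B)))) (A' : Type u) [CommRing A'] [Algebra A A'] [IsNoetherianRing A'] [IsAdicComplete (I.map (algebraMap A A')) A'] (hftA' : Algebra.FiniteType A (A' ⧸ (I.map (algebraMap A A')))) (B' : Type u) [CommRing B'] [Algebra A B'] [Algebra B B'] [Algebra A' B'] [IsScalarTower A B B'] [IsScalarTower A A' B'] [IsNoetherianRing B'] [IsAdicComplete (I.map (algebraMap A B')) B'] (hftB'B : Algebra.FiniteType B (B' ⧸ (I.map (algebraMap A B')))) (hftB'A' : Algebra.FiniteType A' (B' ⧸ (I.map (algebraMap A B')))) [Module.Flat A A'] [Module.Flat B B'] [Algebra.Etale (A ⧸ I) (A' ⧸ (I.map (algebraMap A A')))] (hAB : (∀ f : A, ∀ ψf : (AdicCompletion (I.map (algebraMap A (Localization.Away f))) (Localization.Away f)) →+* (AdicCompletion ((I.map (algebraMap A B)).map (algebraMap B (Localization.Away (algebraMap A B f)))) (Localization.Away (algebraMap A B f))),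 ψf.comp (algebraMap (Localization.Away f) (AdicCompletion (I.map (algebraMap A (Localization.Away f))) (Localization.Away f))) = (algebraMap (Localization.Away (algebraMap A B f)) (AdicCompletion ((I.map (algebraMap A B)).map (algebraMap B (Localization.Away (algebraMap A B f)))) (Localization.Away (algebraMap A B f)))).comp (Localization.awayMap (algebraMap A B) f) → ∀ qf : PrimeSpectrum (AdicCompletion ((I.map (algebraMap A B)).map (algebraMap B (Localization.Away (algebraMap A B f)))) (Localization.Away (algebraMap A B f))), (¬ (((I.map (algebraMap A B)).map (algebraMap B (Localization.Away (algebraMap A B f)))).map (algebraMap (Localization.Away (algebraMap A B f)) (AdicCompletion ((I.map (algebraMap A B)).map (algebraMap B (Localization.Away (algebraMap A B f)))) (Localization.Away (algebraMap A B f))))) ≤ qf.asIdeal ∧ ∀ y : PrimeSpectrum (AdicCompletion ((I.map (algebraMap A B)).map (algebraMap B (Localization.Away (algebraMap A B f)))) (Localization.Away (algebraMap A B f))), qf ≤ y → ¬ (((I.map (algebraMap A B)).map (algebraMap B (Localization.Away (algebraMap A B f)))).map (algebraMap (Localization.Away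 (algebraMap A B f)) (AdicCompletion ((I.map (algebraMap A B)).map (algebraMap B (Localization.Away (algebraMap A B f)))) (Localization.Away (algebraMap A B f))))) ≤ y.asIdeal → y = qf) → ((algebraMap (AdicCompletion ((I.map (algebraMap A B)).map (algebraMap B (Localization.Away (algebraMap A B f)))) (Localization.Away (algebraMap A B f))) (Localization.AtPrime qf.asIdeal)).comp ψf).Flat)) : (∀ f' : A', ∀ ψf' : (AdicCompletion ((I.map (algebraMap A A')).map (algebraMap A' (Localization.Away f'))) (Localization.Away f')) →+* (AdicCompletion (((I.map (algebraMap A A')).map (algebraMap A' B')).map (algebraMap B' (Localization.Away (algebraMap A' B' f')))) (Localization.Away (algebraMap A' B' f'))), ψf'.comp (algebraMap (Localization.Away f') (AdicCompletion ((I.map (algebraMap A A')).map (algebraMap A' (Localization.Away f'))) (Localization.Away f'))) = (algebraMap (Localization.Away (algebraMap A' B' f')) (AdicCompletion (((I.map (algebraMap A A')).map (algebraMap A' B')).map (algebraMap B' (Localization.Away (algebraMap A' B' f')))) (Localization.Away (algebraMap A' B' f')))).comp (Localization.awayMap (algebraMap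 A' B') f') → ∀ qf' : PrimeSpectrum (AdicCompletion (((I.map (algebraMap A A')).map (algebraMap A' B')).map (algebraMap B' (Localization.Away (algebraMap A' B' f')))) (Localization.Away (algebraMap A' B' f'))), (¬ ((((I.map (algebraMap A A')).map (algebraMap A' B')).map (algebraMap B' (Localization.Away (algebraMap A' B' f')))).map (algebraMap (Localization.Away (algebraMap A' B' f')) (AdicCompletion (((I.map (algebraMap A A')).map (algebraMap A' B')).map (algebraMap B' (Localization.Away (algebraMap A' B' f')))) (Localization.Away (algebraMap A' B' f'))))) ≤ qf'.asIdeal ∧ ∀ y : PrimeSpectrum (AdicCompletion (((I.map (algebraMap A A')).map (algebraMap A' B')).map (algebraMap B' (Localization.Away (algebraMap A' B' f')))) (Localization.Away (algebraMap A' B' f'))), qf' ≤ y → ¬ ((((I.map (algebraMap A A')).map (algebraMap A' B')).map (algebraMap B' (Localization.Away (algebraMap A' B' f')))).map (algebraMap (Localization.Away (algebraMap A' B' f')) (AdicCompletion (((I.map (algebraMap A A')).map (algebraMap A' B')).map (algebraMap B' (Localization.Away (algebraMap A' B' f')))) (Localization.Away (algebraMap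 A' B' f'))))) ≤ y.asIdeal → y = qf') → ((algebraMap (AdicCompletion (((I.map (algebraMap A A')).map (algebraMap A' B')).map (algebraMap B' (Localization.Away (algebraMap A' B' f')))) (Localization.Away (algebraMap A' B' f'))) (Localization.AtPrime qf'.asIdeal)).comp ψf').Flat) := by
  intro f' ψf' hψf' qf' hqf'
  have hNA : IsNoetherianRing (AdicCompletion ((I.map (algebraMap A A')).map (algebraMap A' (Localization.Away f'))) (Localization.Away f')) := isNoetherianRing_adicCompletion _
  have hNB : IsNoetherianRing (AdicCompletion (((I.map (algebraMap A A')).map (algebraMap A' B')).map (algebraMap B' (Localization.Away (algebraMap A' B' f')))) (Localization.Away (algebraMap A' B' f'))) := isNoetherianRing_adicCompletion _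
  have hflA : Module.Flat A (AdicCompletion ((I.map (algebraMap A A')).map (algebraMap A' (Localization.Away f'))) (Localization.Away f')) := flat_complAway_of_flat A A' f' _
  have hflB : Module.Flat B (AdicCompletion (((I.map (algebraMap A A')).map (algebraMap A' B')).map (algebraMap B' (Localization.Away (algebraMap A' B' f')))) (Localization.Away (algebraMap A' B' f'))) := flat_complAway_of_flat B B' (algebraMap A' B' f') _
  have hEt : Algebra.Etale (A ⧸ I) ((AdicCompletion ((I.map (algebraMap A A')).map (algebraMap A' (Localization.Away f'))) (Localization.Away f')) ⧸ I.map (algebraMap A (AdicCompletion ((I.map (algebraMap A A')).map (algebraMap A' (Localization.Away f'))) (Localization.Away f')))) :=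
    etale_quot_complAway A I A' f'
  have hJ : (I.map (algebraMap A A')).map (algebraMap A' B') = I.map (algebraMap A B') :=
    (Ideal.map_map _ _).trans
      (congrArg (fun φ => I.map φ) (IsScalarTower.algebraMap_eq A A' B').symm)
  have hcB : IsAdicComplete ((((I.map (algebraMap A A')).map (algebraMap A' B')).map (algebraMap B' (Localization.Away (algebraMap A' B' f')))).map (algebraMap (Localization.Away (algebraMap A' B' f')) (AdicCompletion (((I.map (algebraMap A A')).map (algebraMap A' B')).map (algebraMap B' (Localization.Away (algebraMap A' B' f')))) (Localization.Away (algebraMap A' B' f'))))) (AdicCompletion (((I.map (algebraMap A A')).map (algebraMap A' B')).map (algebraMap B' (Localization.Away (algebraMap A' B' f')))) (Localization.Away (algebraMap A' B' f'))) :=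
    AdicCompletion.isAdicComplete_self _ (Ideal.fg_of_isNoetherianRing _)
  have hcompAB : algebraMap A (AdicCompletion (((I.map (algebraMap A A')).map (algebraMap A' B')).map (algebraMap B' (Localization.Away (algebraMap A' B' f')))) (Localization.Away (algebraMap A' B' f'))) =
      ((algebraMap B' (AdicCompletion (((I.map (algebraMap A A')).map (algebraMap A' B')).map (algebraMap B' (Localization.Away (algebraMap A' B' f')))) (Localization.Away (algebraMap A' B' f')))).comp (algebraMap A' B')).comp (algebraMap A A') := by
    refine RingHom.ext fun a => ?_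
    rw [RingHom.comp_apply, RingHom.comp_apply, ← IsScalarTower.algebraMap_apply A A' B',
      ← IsScalarTower.algebraMap_apply A B' (AdicCompletion (((I.map (algebraMap A A')).map (algebraMap A' B')).map (algebraMap B' (Localization.Away (algebraMap A' B' f')))) (Localization.Away (algebraMap A' B' f')))]
  have hK₁ : (((I.map (algebraMap A A')).map (algebraMap A' B')).map (algebraMap B' (Localization.Away (algebraMap A' B' f')))).map (algebraMap (Localization.Away (algebraMap A' B' f')) (AdicCompletion (((I.map (algebraMap A A')).map (algebraMap A' B')).map (algebraMap B' (Localization.Away (algebraMap A' B' f')))) (Localization.Away (algebraMap A' B' f')))) = I.map (algebraMap A (AdicCompletion (((I.map (algebraMap A A')).map (algebraMap A' B')).map (algebraMap B' (Localization.Away (algebraMap A' B' f')))) (Localization.Away (algebraMap A' B' f')))) :=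
    (map_map_away B' _ _).trans ((Ideal.map_map _ _).trans ((Ideal.map_map _ _).trans
      (congrArg (fun φ => I.map φ) hcompAB.symm)))
  have hft' : Algebra.FiniteType A (B' ⧸ I.map (algebraMap A B')) :=
    finiteType_quot_trans A A' B' I hftA' hftB'A'
  have hftB₁ : Algebra.FiniteType A ((AdicCompletion (((I.map (algebraMap A A')).map (algebraMap A' B')).map (algebraMap B' (Localization.Away (algebraMap A' B' f')))) (Localization.Away (algebraMap A' B' f'))) ⧸ I.map (algebraMap A (AdicCompletion (((I.map (algebraMap A A')).map (algebraMap A' B')).map (algebraMap B' (Localization.Away (algebraMap A' B' f')))) (Localization.Away (algebraMap A' B' f'))))) :=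
    finiteType_quot_complAway A I B' hft' _ hJ (algebraMap A' B' f')
  have hψ₁ : ψf'.comp (algebraMap A (AdicCompletion ((I.map (algebraMap A A')).map (algebraMap A' (Localization.Away f'))) (Localization.Away f'))) = algebraMap A (AdicCompletion (((I.map (algebraMap A A')).map (algebraMap A' B')).map (algebraMap B' (Localization.Away (algebraMap A' B' f')))) (Localization.Away (algebraMap A' B' f'))) := by
    refine RingHom.ext fun a => ?_
    have h1 := RingHom.congr_fun hψf' (algebraMap A (Localization.Away f') a)
    have h2 : Localization.awayMap (algebraMap A' B') f' (algebraMap A (Localization.Away f') a) =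
        algebraMap A (Localization.Away (algebraMap A' B' f')) a := by
      rw [IsScalarTower.algebraMap_apply A A' (Localization.Away f')]
      have h3 := RingHom.congr_fun (awayMap_comp A' B' f') (algebraMap A A' a)
      simp only [RingHom.comp_apply] at h3
      rw [h3, ← IsScalarTower.algebraMap_apply A A' B', ← IsScalarTower.algebraMap_apply A B' (Localization.Away (algebraMap A' B' f'))]
    simp only [RingHom.comp_apply] at h1
    rw [RingHom.comp_apply, IsScalarTower.algebraMap_apply A (Localization.Away f') (AdicCompletion ((I.map (algebraMap A A')).map (algebraMap A' (Localization.Away f'))) (Localization.Away f')), h1, h2,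
      ← IsScalarTower.algebraMap_apply A (Localization.Away (algebraMap A' B' f')) (AdicCompletion (((I.map (algebraMap A A')).map (algebraMap A' B')).map (algebraMap B' (Localization.Away (algebraMap A' B' f')))) (Localization.Away (algebraMap A' B' f')))]
  exact core A I B hAB (AdicCompletion ((I.map (algebraMap A A')).map (algebraMap A' (Localization.Away f'))) (Localization.Away f')) (AdicCompletion (((I.map (algebraMap A A')).map (algebraMap A' B')).map (algebraMap B' (Localization.Away (algebraMap A' B' f')))) (Localization.Away (algebraMap A' B' f'))) _ hK₁ hftB₁ ψf' hψ₁ qf' hqf'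

end Groth.Agent.S8845
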