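import Groth.Statements.S8848
import Groth.Agent.Lib.Helper35.RegSliceScheme
import Groth.Agent.Lib.BlowUp.Helper18_FlatSub
import Groth.Agent.Lib.Helper20.IdealComap

set_option autoImplicit false
universe u
open CategoryTheory CategoryTheory.Limits AlgebraicGeometry TopologicalSpace
open SDiv

namespace Groth.Agent.S8848

section Helpers
set_option linter.style.haveILetI false
set_option maxHeartbeats 400000
open Groth.Agent.Lib.Helper35

/-- an ideal sheaf is the unit ideal on affine opens disjoint from its support -/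
theorem ideal_eq_top_of_le_compl {X : Scheme.{u}} (I : X.IdealSheafData) {W : X.Opens}
    (hW : IsAffineOpen W) (hWI : ∀ y ∈ W, y ∉ I.support) : I.ideal ⟨W, hW⟩ = ⊤ := by
  by_contra h
  obtain ⟨m, hm, hle⟩ := Ideal.exists_le_maximal _ h
  obtain ⟨p, hp⟩ : ∃ p : PrimeSpectrum Γ(X, W), p.asIdeal = m := ⟨⟨m, hm.isPrime⟩, rfl⟩
  have hxW : hW.fromSpec p ∈ W := by
    have h1 : hW.fromSpec p ∈ Set.range hW.fromSpec := ⟨p, rfl⟩
    rw [hW.range_fromSpec] at h1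
    exact h1
  have hsupp : hW.fromSpec p ∈ I.support := by
    rw [Scheme.IdealSheafData.mem_support_iff_of_mem (U := ⟨W, hW⟩) hxW, Scheme.mem_zeroLocus_iff]
    intro f hf hxf
    have h2 : p ∈ hW.fromSpec ⁻¹ᵁ X.basicOpen f := hxf
    rw [hW.fromSpec_preimage_basicOpen f] at h2
    have h3 : f ∉ p.asIdeal := h2
    rw [hp] at h3
    exact h3 (hle hf)
  exact hWI _ hxW hsupp

/-- local data at a point of the form `fiberι x'`. -/
theorem local_data {X S : Scheme.{u}} (φ : X ⟶ S) [Flat φ] [LocallyOfFinitePresentation φ]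
    (𝓘 : X.IdealSheafData) (s : S) (x' : φ.fiber s)
    (hZ : ∃ U : X.affineOpens, (φ.fiberι s) x' ∈ U.1 ∧ ∃ f : Γ(X, U.1), 𝓘.ideal U = Ideal.span {f})
    (hfib : BlowUp.IsEffCartierIdeal (𝓘.comap (φ.fiberι s))) :
    ∃ (V : S.affineOpens) (W : X.affineOpens) (_ : (φ.fiberι s) x' ∈ W.1)
      (e : W.1 ≤ φ ⁻¹ᵁ V.1) (t : Γ(X, W.1)),
      t ∈ nonZeroDivisors Γ(X, W.1) ∧ 𝓘.ideal W = Ideal.span {t} ∧
      (letI := (φ.appLE V.1 W.1 e).hom.toAlgebra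
       Module.Flat Γ(S, V.1) (Γ(X, W.1) ⧸ 𝓘.ideal W)) := by
  obtain ⟨U₀, hxU₀, g₀, hI₀⟩ := hZ
  obtain ⟨V, hV, hxV, -⟩ :=
    Opens.isBasis_iff_nbhd.1 S.isBasis_affineOpens (Opens.mem_top (φ ((φ.fiberι s) x')))
  obtain ⟨U₁, hU₁, hxU₁, hU₁le⟩ := Opens.isBasis_iff_nbhd.1 X.isBasis_affineOpens
    (show (φ.fiberι s) x' ∈ U₀.1 ⊓ φ ⁻¹ᵁ V from ⟨hxU₀, hxV⟩)
  have hU₁U₀ : U₁ ≤ U₀.1 := hU₁le.trans inf_le_left
  have hU₁V : U₁ ≤ φ ⁻¹ᵁ V := hU₁le.trans inf_le_right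
  obtain ⟨g, hg⟩ : ∃ g : Γ(X, U₁), g = X.presheaf.map (homOfLE hU₁U₀).op g₀ := ⟨_, rfl⟩
  have hI₁ : 𝓘.ideal ⟨U₁, hU₁⟩ = Ideal.span {g} := by
    have h1 := 𝓘.map_ideal (U := ⟨U₁, hU₁⟩) (V := U₀) hU₁U₀
    rw [← h1, hI₀, Ideal.map_span, Set.image_singleton, hg]
    rfl
  -- the fibre
  have hx'1 : x' ∈ (φ.fiberι s) ⁻¹ᵁ U₁ := hxU₁
  obtain ⟨U'', hx'U'', hle, f'', hf''nzd, hf''⟩ :=
    Groth.Agent.Lib.BlowUp.exists_le_of_isEffCartierIdeal hfib x' _ hx'1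
  have hcomap := Groth.Agent.Lib.Helper20.ideal_comap (φ.fiberι s) 𝓘 U'' ⟨U₁, hU₁⟩ hle
  rw [hf'', hI₁, Ideal.map_span, Set.image_singleton] at hcomap
  have hγ : ((φ.fiberι s).appLE U₁ U''.1 hle).hom g ∈ nonZeroDivisors Γ(φ.fiber s, U''.1) := by
    have h1 : f'' ∈ Ideal.span {((φ.fiberι s).appLE U₁ U''.1 hle).hom g} := by
      rw [← hcomap]; exact Ideal.mem_span_singleton_self _
    obtain ⟨b, hb⟩ := Ideal.mem_span_singleton'.1 h1
    rw [mem_nonZeroDivisors_iff_right]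
    intro y hy
    apply (mem_nonZeroDivisors_iff_right.1 hf''nzd) y
    rw [← hb, ← mul_assoc, mul_comm y b, mul_assoc, hy, mul_zero]
  have hreg := RegSliceScheme.hreg_of_fibre φ s x' U₁ hxU₁ g U''.1 U''.2 hx'U'' hle hγ
  have hflat : (φ.stalkMap ((φ.fiberι s) x')).hom.Flat := Flat.stalkMap φ _
  obtain ⟨w, hxw, hnzd, hfl⟩ := RegSliceScheme.exists_basicOpen_slice φ _ hflat V hV U₁ hU₁ hU₁V
    hxU₁ g hreg
  have hIw : 𝓘.ideal ⟨X.basicOpen w, hU₁.basicOpen w⟩ =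
      Ideal.span {X.presheaf.map (homOfLE (X.basicOpen_le w)).op g} := by
    have h1 := 𝓘.map_ideal (U := ⟨X.basicOpen w, hU₁.basicOpen w⟩) (V := ⟨U₁, hU₁⟩)
      (X.basicOpen_le w)
    rw [← h1, hI₁, Ideal.map_span, Set.image_singleton]
    rfl
  refine ⟨⟨V, hV⟩, ⟨X.basicOpen w, hU₁.basicOpen w⟩, hxw, (X.basicOpen_le w).trans hU₁V,
    X.presheaf.map (homOfLE (X.basicOpen_le w)).op g, hnzd, hIw, ?_⟩
  rw [hIw]
  exact hfl

/-- local data at a point of the support. -/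
theorem local_data' {X S : Scheme.{u}} (φ : X ⟶ S) [Flat φ] [LocallyOfFinitePresentation φ]
    (𝓘 : X.IdealSheafData) (hZ : Curv2.IsLocPrincipal 𝓘)
    (hfib : ∀ s : ↥S, BlowUp.IsEffCartierIdeal (𝓘.comap (φ.fiberι s))) (x : X)
    (hx : x ∈ 𝓘.support) :
    ∃ (V : S.affineOpens) (W : X.affineOpens) (_ : x ∈ W.1)
      (e : W.1 ≤ φ ⁻¹ᵁ V.1) (t : Γ(X, W.1)),
      t ∈ nonZeroDivisors Γ(X, W.1) ∧ 𝓘.ideal W = Ideal.span {t} ∧
      (letI := (φ.appLE V.1 W.1 e).hom.toAlgebra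
       Module.Flat Γ(S, V.1) (Γ(X, W.1) ⧸ 𝓘.ideal W)) := by
  have e : (φ.fiberι (φ x)) (φ.asFiber x) = x := φ.fiberι_asFiber x
  have h1 := local_data φ 𝓘 (φ x) (φ.asFiber x) (by rw [e]; exact hZ x hx) (hfib (φ x))
  rw [e] at h1
  exact h1

theorem aux {X S : Scheme.{u}} (φ : X ⟶ S) [Flat φ] [LocallyOfFinitePresentation φ]
    (𝓘 : X.IdealSheafData) (hZ : Curv2.IsLocPrincipal 𝓘)
    (hfib : ∀ s : ↥S, BlowUp.IsEffCartierIdeal (𝓘.comap (φ.fiberι s))) :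
    BlowUp.IsEffCartierIdeal 𝓘 ∧ Flat (𝓘.subschemeι ≫ φ) := by
  constructor
  · intro x
    by_cases hx : x ∈ 𝓘.support
    · obtain ⟨V, W, hxW, e, t, ht, hIt, -⟩ := local_data' φ 𝓘 hZ hfib x hx
      exact ⟨W, hxW, t, ht, hIt⟩
    · have hxc : x ∈ (𝓘.support : Set X)ᶜ := hx
      obtain ⟨W, hW, hxW, hWle⟩ := Opens.isBasis_iff_nbhd.1 X.isBasis_affineOpens
        (show x ∈ (⟨(𝓘.support : Set X)ᶜ, 𝓘.support.isClosed.isOpen_compl⟩ : X.Opens) from hxc)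
      refine ⟨⟨W, hW⟩, hxW, 1, one_mem _, ?_⟩
      rw [ideal_eq_top_of_le_compl 𝓘 hW (fun y hy => hWle hy), Ideal.span_singleton_one]
  · apply Groth.Agent.Lib.BlowUp.flat_subschemeι_comp_of_forall_exists
    intro x hx
    obtain ⟨V, W, hxW, e, t, ht, hIt, hfl⟩ := local_data' φ 𝓘 hZ hfib x hx
    exact ⟨V, W, hxW, e, hfl⟩

end Helpers

/-- Let φ : X ⟶ S be flat and locally of finite presentation and let 𝓘 be a quasi-coherent ideal sheaf
on X which is locally principal (generated by one section on some affine open neighbourhood of each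
point of its support). If for every point s of S the inverse image ideal of 𝓘 on the
scheme-theoretic fibre X_s is the ideal sheaf of an effective Cartier divisor of X_s, then 𝓘 is the
ideal sheaf of an effective Cartier divisor of X and its closed subscheme is flat over S (a relative
effective Cartier divisor). -/
theorem result {X S : Scheme.{u}} (φ : X ⟶ S) [Flat φ] [LocallyOfFinitePresentation φ]
    (𝓘 : X.IdealSheafData) (hZ : Curv2.IsLocPrincipal 𝓘)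
    (hfib : ∀ s : ↥S, BlowUp.IsEffCartierIdeal (𝓘.comap (φ.fiberι s))) :
    BlowUp.IsEffCartierIdeal 𝓘 ∧ Flat (𝓘.subschemeι ≫ φ) := by
  exact aux φ 𝓘 hZ hfib

end Groth.Agent.S8848
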