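import Groth.Statements.S8847
import Groth.Agent.S8848
import Groth.Agent.Lib.Helper35.FlatQuotNak

set_option autoImplicit false
universe u
open CategoryTheory CategoryTheory.Limits AlgebraicGeometry TopologicalSpace
open SDiv

namespace Groth.Agent.S8847

section Helpers
set_option linter.style.haveILetI false
set_option maxHeartbeats 400000
open Groth.Agent.Lib.Helper35

/-- the ideal of a closed subscheme locally of finite presentation over the base is finitely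
generated on affine charts. -/
theorem ideal_fg {X S : Scheme.{u}} (φ : X ⟶ S) [LocallyOfFinitePresentation φ]
    (𝓘 : X.IdealSheafData) [LocallyOfFinitePresentation (𝓘.subschemeι ≫ φ)]
    (V : S.Opens) (hV : IsAffineOpen V) (U : X.affineOpens) (e : U.1 ≤ φ ⁻¹ᵁ V) :
    (𝓘.ideal U).FG := by
  have hW : IsAffineOpen (𝓘.subschemeι ⁻¹ᵁ U.1) := U.2.preimage 𝓘.subschemeι
  have h1 := (𝓘.subschemeι ≫ φ).finitePresentation_appLE hV hW (fun _ hz => e hz)
  rw [Groth.Agent.Lib.BlowUp.subschemeι_comp_appLE, CommRingCat.hom_comp] at h1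
  have h2 : (𝓘.subschemeι.app U.1).hom.FinitePresentation :=
    RingHom.FinitePresentation.of_comp_finiteType _ h1
      (RingHom.FiniteType.of_finitePresentation (φ.finitePresentation_appLE hV U.2 e))
  algebraize [(𝓘.subschemeι.app U.1).hom]
  have h3 := Algebra.FinitePresentation.ker_fG_of_surjective
    (Algebra.ofId Γ(X, U.1) Γ(𝓘.subscheme, 𝓘.subschemeι ⁻¹ᵁ U.1))
    (𝓘.subschemeι_app_surjective U)
  rw [← 𝓘.ker_subschemeι_app U]
  exact h3

/-- local principality at a point of the form `fiberι x'`. -/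
theorem locPrincipal_at {X S : Scheme.{u}} (φ : X ⟶ S) [Flat φ] [LocallyOfFinitePresentation φ]
    (𝓘 : X.IdealSheafData) [Flat (𝓘.subschemeι ≫ φ)]
    [LocallyOfFinitePresentation (𝓘.subschemeι ≫ φ)]
    (s : S) (x' : φ.fiber s) (hfib : BlowUp.IsEffCartierIdeal (𝓘.comap (φ.fiberι s))) :
    ∃ U : X.affineOpens, (φ.fiberι s) x' ∈ U.1 ∧
      ∃ f : Γ(X, U.1), 𝓘.ideal U = Ideal.span {f} := by
  classical
  obtain ⟨V, hV, hxV, -⟩ :=
    Opens.isBasis_iff_nbhd.1 S.isBasis_affineOpens (Opens.mem_top (φ ((φ.fiberι s) x')))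
  obtain ⟨U₁, hU₁, hxU₁, hU₁V⟩ := Opens.isBasis_iff_nbhd.1 X.isBasis_affineOpens
    (show (φ.fiberι s) x' ∈ φ ⁻¹ᵁ V from hxV)
  have hIfg := ideal_fg φ 𝓘 V hV ⟨U₁, hU₁⟩ hU₁V
  -- the fibre chart
  have hx'1 : x' ∈ (φ.fiberι s) ⁻¹ᵁ U₁ := hxU₁
  obtain ⟨U'', hx'U'', hle, f'', -, hf''⟩ :=
    Groth.Agent.Lib.BlowUp.exists_le_of_isEffCartierIdeal hfib x' _ hx'1
  have hcomap := Groth.Agent.Lib.Helper20.ideal_comap (φ.fiberι s) 𝓘 U'' ⟨U₁, hU₁⟩ hle
  rw [hf''] at hcomap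
  -- algebra structures
  letI algAB : Algebra Γ(S, V) Γ(X, U₁) := (φ.appLE V U₁ hU₁V).hom.toAlgebra
  let p := (hV.primeIdealOf ⟨φ ((φ.fiberι s) x'), hU₁V hxU₁⟩).asIdeal
  let q := (hU₁.primeIdealOf ⟨(φ.fiberι s) x', hxU₁⟩).asIdeal
  haveI : q.LiesOver p :=
    ⟨congr($(IsAffineOpen.comap_primeIdealOf_appLE V hV U₁ hU₁ hU₁V hxU₁).1).symm⟩
  letI := S.presheaf.algebra_section_stalk ⟨φ ((φ.fiberι s) x'), hU₁V hxU₁⟩
  haveI := hV.isLocalization_stalk ⟨φ ((φ.fiberι s) x'), hU₁V hxU₁⟩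
  letI := X.presheaf.algebra_section_stalk ⟨(φ.fiberι s) x', hxU₁⟩
  haveI := hU₁.isLocalization_stalk ⟨(φ.fiberι s) x', hxU₁⟩
  letI := (φ.fiber s).presheaf.algebra_section_stalk ⟨x', hx'U''⟩
  letI algΛO : Algebra (S.presheaf.stalk (φ ((φ.fiberι s) x')))
      (X.presheaf.stalk ((φ.fiberι s) x')) := (φ.stalkMap ((φ.fiberι s) x')).hom.toAlgebra
  haveI : IsLocalHom (algebraMap (S.presheaf.stalk (φ ((φ.fiberι s) x')))
      (X.presheaf.stalk ((φ.fiberι s) x'))) :=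
    inferInstanceAs (IsLocalHom (φ.stalkMap ((φ.fiberι s) x')).hom)
  letI algAO : Algebra Γ(S, V) (X.presheaf.stalk ((φ.fiberι s) x')) :=
    ((algebraMap Γ(X, U₁) (X.presheaf.stalk ((φ.fiberι s) x'))).comp
      (algebraMap Γ(S, V) Γ(X, U₁))).toAlgebra
  haveI : IsScalarTower Γ(S, V) Γ(X, U₁) (X.presheaf.stalk ((φ.fiberι s) x')) :=
    IsScalarTower.of_algebraMap_eq (fun _ => rfl)
  have hσ : (φ.stalkMap ((φ.fiberι s) x')).hom.comp
      (algebraMap Γ(S, V) (S.presheaf.stalk (φ ((φ.fiberι s) x')))) =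
      (algebraMap Γ(X, U₁) (X.presheaf.stalk ((φ.fiberι s) x'))).comp
        (algebraMap Γ(S, V) Γ(X, U₁)) := by
    ext a
    simp only [RingHom.algebraMap_toAlgebra, Scheme.Hom.germ_stalkMap_apply, Scheme.Hom.appLE,
      homOfLE_leOfHom, CommRingCat.hom_comp, RingHom.coe_comp, Function.comp_apply,
      X.presheaf.germ_res_apply]
  haveI : IsScalarTower Γ(S, V) (S.presheaf.stalk (φ ((φ.fiberι s) x')))
      (X.presheaf.stalk ((φ.fiberι s) x')) :=
    IsScalarTower.of_algebraMap_eq (fun a => (congr($hσ a)).symm)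
  -- the stalk ideal and flatness of its quotient
  let J : Ideal (X.presheaf.stalk ((φ.fiberι s) x')) :=
    (𝓘.ideal ⟨U₁, hU₁⟩).map (algebraMap Γ(X, U₁) (X.presheaf.stalk ((φ.fiberι s) x')))
  have hJ : J = (𝓘.ideal ⟨U₁, hU₁⟩).map
      (algebraMap Γ(X, U₁) (X.presheaf.stalk ((φ.fiberι s) x'))) := rfl
  have hJfg : J.FG := hIfg.map _
  have F1 : Module.Flat Γ(S, V) (Γ(X, U₁) ⧸ 𝓘.ideal ⟨U₁, hU₁⟩) :=
    Groth.Agent.Lib.BlowUp.flat_quotient_of_flat_subschemeι_comp φ 𝓘 inferInstance ⟨V, hV⟩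
      ⟨U₁, hU₁⟩ hU₁V
  obtain ⟨ℓ, hℓ⟩ := FlatQuotNak.exists_isLocalizedModule_quot
    (B' := X.presheaf.stalk ((φ.fiberι s) x')) q.primeCompl (𝓘.ideal ⟨U₁, hU₁⟩)
  haveI F2 : Module.Flat Γ(S, V) (X.presheaf.stalk ((φ.fiberι s) x') ⧸ J) :=
    Groth.Agent.Lib.Helper54.FlatOpenA.flat_of_isLocalizedModule Γ(X, U₁) q.primeCompl ℓ
  haveI F3 : Module.Flat (S.presheaf.stalk (φ ((φ.fiberι s) x')))
      (X.presheaf.stalk ((φ.fiberι s) x') ⧸ J) :=
    (Module.flat_iff_of_isLocalization (S.presheaf.stalk (φ ((φ.fiberι s) x'))) p.primeCompl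
      (X.presheaf.stalk ((φ.fiberι s) x') ⧸ J)).mpr F2
  -- the map to the fibre local ring
  have hsurj := FiberStalk.stalkMap_fiberι_surjective φ s x'
  have hker := FiberStalk.ker_stalkMap_fiberι φ s x'
  have hψ : ((φ.fiberι s).stalkMap x').hom.comp
      (algebraMap Γ(X, U₁) (X.presheaf.stalk ((φ.fiberι s) x'))) =
      (algebraMap Γ(φ.fiber s, U''.1) ((φ.fiber s).presheaf.stalk x')).comp
        ((φ.fiberι s).appLE U₁ U''.1 hle).hom := by
    ext b
    simp only [RingHom.algebraMap_toAlgebra, Scheme.Hom.germ_stalkMap_apply, Scheme.Hom.appLE,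
      homOfLE_leOfHom, CommRingCat.hom_comp, RingHom.coe_comp, Function.comp_apply,
      (φ.fiber s).presheaf.germ_res_apply]
  have hψJ : J.map ((φ.fiberι s).stalkMap x').hom =
      Ideal.span {algebraMap Γ(φ.fiber s, U''.1) ((φ.fiber s).presheaf.stalk x') f''} := by
    rw [hJ, Ideal.map_map, hψ, ← Ideal.map_map, ← hcomap, Ideal.map_span, Set.image_singleton]
  -- choose a generator
  have h1 : algebraMap Γ(φ.fiber s, U''.1) ((φ.fiber s).presheaf.stalk x') f'' ∈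
      J.map ((φ.fiberι s).stalkMap x').hom := by
    rw [hψJ]; exact Ideal.mem_span_singleton_self _
  obtain ⟨y, hyJ, hy⟩ := (Ideal.mem_map_iff_of_surjective _ hsurj).1 h1
  obtain ⟨⟨⟨g, hg⟩, t⟩, hgt⟩ := (IsLocalization.mem_map_algebraMap_iff q.primeCompl
    (X.presheaf.stalk ((φ.fiberι s) x'))).1 hyJ
  simp only at hgt
  have hunit : IsUnit (algebraMap Γ(X, U₁) (X.presheaf.stalk ((φ.fiberι s) x')) t.1) :=
    IsLocalization.map_units _ t
  obtain ⟨v, hv⟩ := hunit.exists_right_inv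
  have hyv : y = algebraMap Γ(X, U₁) (X.presheaf.stalk ((φ.fiberι s) x')) g * v := by
    rw [← hgt, mul_assoc, hv, mul_one]
  have hgJ : algebraMap Γ(X, U₁) (X.presheaf.stalk ((φ.fiberι s) x')) g ∈ J :=
    Ideal.mem_map_of_mem _ hg
  have hle' : J ≤ Ideal.span {algebraMap Γ(X, U₁) (X.presheaf.stalk ((φ.fiberι s) x')) g} ⊔
      (IsLocalRing.maximalIdeal (S.presheaf.stalk (φ ((φ.fiberι s) x')))).map
        (algebraMap (S.presheaf.stalk (φ ((φ.fiberι s) x')))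
          (X.presheaf.stalk ((φ.fiberι s) x'))) := by
    intro j hj
    have h2 : ((φ.fiberι s).stalkMap x').hom j ∈ J.map ((φ.fiberι s).stalkMap x').hom :=
      Ideal.mem_map_of_mem _ hj
    rw [hψJ] at h2
    obtain ⟨c, hc⟩ := Ideal.mem_span_singleton'.1 h2
    obtain ⟨c₀, rfl⟩ := hsurj c
    rw [← hy, hyv, ← map_mul] at hc
    have h3 : j - c₀ * (algebraMap Γ(X, U₁) (X.presheaf.stalk ((φ.fiberι s) x')) g * v) ∈
        RingHom.ker ((φ.fiberι s).stalkMap x').hom := by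
      rw [RingHom.mem_ker, map_sub, hc, sub_self]
    rw [hker] at h3
    have h4 : j = algebraMap Γ(X, U₁) (X.presheaf.stalk ((φ.fiberι s) x')) g * (c₀ * v) +
        (j - c₀ * (algebraMap Γ(X, U₁) (X.presheaf.stalk ((φ.fiberι s) x')) g * v)) := by
      ring
    rw [h4]
    exact Submodule.add_mem_sup (Ideal.mul_mem_right _ _ (Ideal.mem_span_singleton_self _)) h3
  have hJeq := FlatQuotNak.eq_span_of_le_sup J hJfg _ hgJ hle'
  -- spreading out
  obtain ⟨s₀, hs₀⟩ := hIfg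
  have hkill : ∀ i ∈ s₀, ∃ t ∈ q.primeCompl, t * i ∈ Ideal.span {g} := by
    intro i hi
    apply FlatQuotNak.exists_mul_mem_span_of_map_mem
      (B' := X.presheaf.stalk ((φ.fiberι s) x')) q.primeCompl g i
    rw [← hJeq]
    exact Ideal.mem_map_of_mem _ (hs₀ ▸ Ideal.subset_span hi)
  choose! τ hτ1 hτ2 using hkill
  obtain ⟨T, hT⟩ : ∃ T : Γ(X, U₁), T = ∏ i ∈ s₀, τ i := ⟨_, rfl⟩
  have hTq : T ∈ q.primeCompl := by
    rw [hT]
    exact Submonoid.prod_mem q.primeCompl (fun i hi => hτ1 i hi)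
  have hTi : ∀ i ∈ s₀, T * i ∈ Ideal.span {g} := by
    intro i hi
    obtain ⟨c, hc⟩ := Finset.dvd_prod_of_mem τ hi
    rw [hT, hc, mul_comm (τ i) c, mul_assoc]
    exact Ideal.mul_mem_left _ _ (hτ2 i hi)
  have hxT : (φ.fiberι s) x' ∈ X.basicOpen T :=
    RegSliceScheme.mem_basicOpen_of_not_mem_primeIdealOf hU₁ _ hxU₁ T hTq
  refine ⟨⟨X.basicOpen T, hU₁.basicOpen T⟩, hxT,
    X.presheaf.map (homOfLE (X.basicOpen_le T)).op g, ?_⟩
  have hmap := 𝓘.map_ideal (U := ⟨X.basicOpen T, hU₁.basicOpen T⟩) (V := ⟨U₁, hU₁⟩)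
    (X.basicOpen_le T)
  rw [← hmap]
  refine le_antisymm ?_ ?_
  · rw [← hs₀, Ideal.map_span, Ideal.span_le]
    rintro _ ⟨i, hi, rfl⟩
    have h5 := Ideal.mem_map_of_mem (X.presheaf.map (homOfLE (X.basicOpen_le T)).op).hom
      (hTi i hi)
    rw [Ideal.map_span, Set.image_singleton, map_mul] at h5
    have hu : IsUnit ((X.presheaf.map (homOfLE (X.basicOpen_le T)).op).hom T) :=
      RingedSpace.isUnit_res_basicOpen _ T
    exact (Ideal.unit_mul_mem_iff_mem _ hu).1 h5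
  · rw [Ideal.span_le, Set.singleton_subset_iff]
    exact Ideal.mem_map_of_mem _ hg

theorem aux {X S : Scheme.{u}} (φ : X ⟶ S) [Flat φ] [LocallyOfFinitePresentation φ]
    (𝓘 : X.IdealSheafData) [Flat (𝓘.subschemeι ≫ φ)]
    [LocallyOfFinitePresentation (𝓘.subschemeι ≫ φ)]
    (hfib : ∀ s : ↥S, BlowUp.IsEffCartierIdeal (𝓘.comap (φ.fiberι s))) :
    BlowUp.IsEffCartierIdeal 𝓘 := by
  have hZ : Curv2.IsLocPrincipal 𝓘 := by
    intro x _
    have e : (φ.fiberι (φ x)) (φ.asFiber x) = x := φ.fiberι_asFiber x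
    have h1 := locPrincipal_at φ 𝓘 (φ x) (φ.asFiber x) (hfib (φ x))
    rw [e] at h1
    exact h1
  exact (Groth.Agent.S8848.result φ 𝓘 hZ hfib).1

end Helpers

/-- Let φ : X ⟶ S be flat and locally of finite presentation and let 𝓘 be a quasi-coherent ideal sheaf
on X whose closed subscheme Z is flat and locally of finite presentation over S. If for every point
s of S the inverse image ideal of 𝓘 on the scheme-theoretic fibre X_s is the ideal sheaf of an
effective Cartier divisor of X_s, then 𝓘 is the ideal sheaf of an effective Cartier divisor of X;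
together with the flatness of Z over S this says Z is a relative effective Cartier divisor. -/
theorem result {X S : Scheme.{u}} (φ : X ⟶ S) [Flat φ] [LocallyOfFinitePresentation φ]
    (𝓘 : X.IdealSheafData) [Flat (𝓘.subschemeι ≫ φ)] [LocallyOfFinitePresentation (𝓘.subschemeι ≫ φ)]
    (hfib : ∀ s : ↥S, BlowUp.IsEffCartierIdeal (𝓘.comap (φ.fiberι s))) :
    BlowUp.IsEffCartierIdeal 𝓘 := by
  exact aux φ 𝓘 hfib

end Groth.Agent.S8847
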