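import Groth.Statements.S8849
import Groth.Agent.Lib.BlowUp.Helper18_FlatSub
import Groth.Agent.Lib.BlowUp.Helper18_FlatNak

set_option autoImplicit false
universe u
open CategoryTheory CategoryTheory.Limits AlgebraicGeometry TopologicalSpace
open SDiv

namespace Groth.Agent.S8849

/-- Let f : X ⟶ S be a morphism of schemes and 𝓘 the ideal sheaf of an effective Cartier divisor D ⊆ X
with D flat over S (a relative effective Cartier divisor). If f is flat at every point of X not in
D, then f is flat. -/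
theorem result {X S : Scheme.{u}} (f : X ⟶ S) (𝓘 : X.IdealSheafData)
    (hD : BlowUp.IsEffCartierIdeal 𝓘 ∧ Flat (𝓘.subschemeι ≫ f))
    (hflat : ∀ x : ↥X, x ∉ 𝓘.support → (f.stalkMap x).hom.Flat) : Flat f := by
  apply Flat.of_stalkMap
  intro x
  by_cases hx : x ∈ 𝓘.support
  swap
  · exact hflat x hx
  obtain ⟨U, hU, hfxU, -⟩ :=
    Opens.isBasis_iff_nbhd.1 S.isBasis_affineOpens (Opens.mem_top (f x))
  obtain ⟨V', hxV, hVU, t, ht, hIt⟩ :=
    Groth.Agent.Lib.BlowUp.exists_le_of_isEffCartierIdeal hD.1 x (f ⁻¹ᵁ U) hfxU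
  obtain ⟨V, hV⟩ := V'
  have F1 := Groth.Agent.Lib.BlowUp.flat_quotient_of_flat_subschemeι_comp f 𝓘 hD.2 ⟨U, hU⟩ ⟨V, hV⟩
    hVU
  -- the basic open `W = D(t)` misses the support
  have hWV : X.basicOpen t ≤ V := X.basicOpen_le t
  have hW : IsAffineOpen (X.basicOpen t) := hV.basicOpen t
  have hWU : X.basicOpen t ≤ f ⁻¹ᵁ U := hWV.trans hVU
  have hWsupp : ∀ y ∈ X.basicOpen t, y ∉ 𝓘.support := by
    intro y hy hys
    have h1 : y ∈ X.zeroLocus (U := V) (𝓘.ideal ⟨V, hV⟩) :=
      (Scheme.IdealSheafData.mem_support_iff_of_mem (U := ⟨V, hV⟩) (hWV hy)).mp hys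
    rw [Scheme.mem_zeroLocus_iff] at h1
    refine h1 t ?_ hy
    rw [hIt]
    exact Ideal.mem_span_singleton_self t
  -- flatness of `A → Γ(X, W)`
  have hflW : (f.appLE U (X.basicOpen t) hWU).hom.Flat := by
    have hfl1 : Flat ((X.basicOpen t).ι ≫ f) := by
      apply Flat.of_stalkMap
      intro y
      rw [Scheme.Hom.stalkMap_comp]
      refine (?_ : (CommRingCat.Hom.hom (f.stalkMap ((X.basicOpen t).ι y) ≫
        (X.basicOpen t).ι.stalkMap y)).Flat)
      rw [CommRingCat.hom_comp]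
      refine RingHom.Flat.comp (hflat _ (hWsupp _ y.2)) ?_
      exact RingHom.Flat.of_bijective
        (ConcreteCategory.bijective_of_isIso ((X.basicOpen t).ι.stalkMap y))
    have : IsAffine (X.basicOpen t) := hW
    have hle0 : (⊤ : (X.basicOpen t).toScheme.Opens) ≤
        (X.basicOpen t).ι ⁻¹ᵁ (X.basicOpen t) := by
      rw [Scheme.Opens.ι_preimage_self]
    have hle1 : (⊤ : (X.basicOpen t).toScheme.Opens) ≤ ((X.basicOpen t).ι ≫ f) ⁻¹ᵁ U :=
      hle0.trans (fun y hy => hWU hy)
    have h2 := Flat.flat_appLE ((X.basicOpen t).ι ≫ f) hU (isAffineOpen_top (X.basicOpen t)) hle1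
    have h3 : ((X.basicOpen t).ι ≫ f).appLE U ⊤ hle1 =
        f.appLE U (X.basicOpen t) hWU ≫ (X.basicOpen t).ι.appLE (X.basicOpen t) ⊤ hle0 :=
      (Scheme.Hom.appLE_comp_appLE _ _ _ _ _ _ _).symm
    rw [h3, CommRingCat.hom_comp] at h2
    have hbij : Function.Bijective
        ((X.basicOpen t).ι.appLE (X.basicOpen t) ⊤ hle0).hom := by
      have : (X.basicOpen t).ι.appLE (X.basicOpen t) ⊤ hle0 = (X.basicOpen t).topIso.inv := by
        rw [Scheme.Opens.ι_appLE]
        rfl
      rw [this]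
      exact ConcreteCategory.bijective_of_isIso _
    exact (RingHom.Flat.comp_iff_of_bijective_left hbij).1 h2
  algebraize [(f.appLE U V hVU).hom]
  let p := (hU.primeIdealOf ⟨f x, hVU hxV⟩).asIdeal
  let q := (hV.primeIdealOf ⟨x, hxV⟩).asIdeal
  have : q.LiesOver p :=
    ⟨congr($(IsAffineOpen.comap_primeIdealOf_appLE U hU V hV hVU hxV).1).symm⟩
  let := Localization.AtPrime.algebraOfLiesOver p q
  suffices hfl : Module.Flat Γ(S, U) (Localization.AtPrime q) by
    have h1 : Module.Flat (Localization.AtPrime p) (Localization.AtPrime q) :=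
      (Module.flat_iff_of_isLocalization (Localization.AtPrime p) p.primeCompl
        (Localization.AtPrime q)).mpr hfl
    rw [← RingHom.flat_algebraMap_iff] at h1
    exact (RingHom.Flat.respectsIso.arrow_mk_iso_iff
        (IsAffineOpen.arrowStalkMapIso f U hU V hV hVU hxV)).mpr h1
  rw [hIt] at F1
  have hB : Module.Flat Γ(S, U) Γ(X, V) := by
    let _ : Algebra Γ(S, U) Γ(X, X.basicOpen t) := (f.appLE U (X.basicOpen t) hWU).hom.toAlgebra
    have : IsScalarTower Γ(S, U) Γ(X, V) Γ(X, X.basicOpen t) := by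
      apply IsScalarTower.of_algebraMap_eq'
      change (f.appLE U (X.basicOpen t) hWU).hom =
        (X.presheaf.map (homOfLE hWV).op).hom.comp (f.appLE U V hVU).hom
      rw [← CommRingCat.hom_comp, Scheme.Hom.appLE_map]
    have : IsLocalization.Away t Γ(X, X.basicOpen t) := hV.isLocalization_basicOpen t
    exact Groth.Agent.Lib.BlowUp.flat_of_flat_quotient_of_flat_away (Bt := Γ(X, X.basicOpen t)) t ht
      F1 hflW
  infer_instance

end Groth.Agent.S8849
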