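import Groth.Statements.S8852
import Mathlib
-- import your own Groth.Agent.* helpers here

set_option autoImplicit false
universe u
open CategoryTheory CategoryTheory.Limits AlgebraicGeometry TopologicalSpace
open SDiv

namespace Groth.Agent.S8852
open CategoryTheory AlgebraicGeometry Limits TopologicalSpace Topology Opposite


lemma exists_sum_rep {A : Type u} [CommRing A] (a b : Ideal A) (z : A) (hz : z ∈ a * b) :
    ∃ (n : ℕ) (x y : Fin n → A), (∀ i, x i ∈ a ∧ y i ∈ b) ∧ z = ∑ i, x i * y i := by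
  induction hz using Submodule.mul_induction_on' with
  | mem_mul_mem m hm n hn =>
    exact ⟨1, fun _ => m, fun _ => n, fun _ => ⟨hm, hn⟩, by simp⟩
  | add x hx y hy ihx ihy =>
    obtain ⟨n₁, x₁, y₁, h₁, e₁⟩ := ihx
    obtain ⟨n₂, x₂, y₂, h₂, e₂⟩ := ihy
    refine ⟨n₁ + n₂, Fin.append x₁ x₂, Fin.append y₁ y₂, ?_, ?_⟩
    · intro i
      refine Fin.addCases (fun j => ?_) (fun j => ?_) i
      · simpa using h₁ j
      · simpa using h₂ j
    · rw [Fin.sum_univ_add, e₁, e₂]
      simp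

lemma alg_core {A : Type u} [CommRing A] (a b : Ideal A) (f : A) (hf : f ∈ nonZeroDivisors A)
    (hab : a * b = Ideal.span {f}) :
    ∃ (n : ℕ) (c x y : Fin n → A), ∑ i, c i = 1 ∧ ∀ i, x i ∈ a ∧ y i ∈ b ∧ x i * y i = c i * f := by
  have hfm : f ∈ a * b := by rw [hab]; exact Ideal.mem_span_singleton_self f
  obtain ⟨n, x, y, hxy, hsum⟩ := exists_sum_rep a b f hfm
  have hc : ∀ i, ∃ c, c * f = x i * y i := by
    intro i
    have : x i * y i ∈ Ideal.span {f} := by
      rw [← hab]; exact Ideal.mul_mem_mul (hxy i).1 (hxy i).2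
    exact Ideal.mem_span_singleton'.mp this
  choose c hc using hc
  refine ⟨n, c, x, y, ?_, fun i => ⟨(hxy i).1, (hxy i).2, (hc i).symm⟩⟩
  have : (∑ i, c i - 1) * f = 0 := by
    rw [sub_mul, Finset.sum_mul, one_mul]
    simp only [hc]
    rw [← hsum, sub_self]
  have := (mul_right_mem_nonZeroDivisors_eq_zero_iff hf).mp this
  exact sub_eq_zero.mp this

lemma alg_local {A A' : Type u} [CommRing A] [CommRing A'] [Algebra A A'] (a b : Ideal A) (f : A)
    (hf : f ∈ nonZeroDivisors A) (hab : a * b = Ideal.span {f}) (c x y : A)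
    (hx : x ∈ a) (hy : y ∈ b) (hxy : x * y = c * f) [IsLocalization.Away c A'] :
    a.map (algebraMap A A') = Ideal.span {algebraMap A A' x} ∧
      algebraMap A A' x ∈ nonZeroDivisors A' := by
  have hcu : IsUnit (algebraMap A A' c) := IsLocalization.Away.algebraMap_isUnit c
  constructor
  · apply le_antisymm
    · rw [Ideal.map_le_iff_le_comap]
      intro x' hx'
      -- c x' = x d
      have : x' * y ∈ Ideal.span {f} := by rw [← hab]; exact Ideal.mul_mem_mul hx' hy
      obtain ⟨d, hd⟩ := Ideal.mem_span_singleton'.mp this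
      have hkey : c * x' = x * d := by
        have h0 : (c * x' - x * d) * f = 0 := by
          have e1 : c * x' * f = x * y * x' := by rw [hxy]; ring
          have e2 : x * d * f = x * (x' * y) := by rw [← hd]; ring
          rw [sub_mul, e1, e2]; ring
        exact sub_eq_zero.mp ((mul_right_mem_nonZeroDivisors_eq_zero_iff hf).mp h0)
      rw [Ideal.mem_comap, Ideal.mem_span_singleton']
      obtain ⟨u, hu⟩ := hcu
      refine ⟨algebraMap A A' d * ↑u⁻¹, ?_⟩
      have h1 : algebraMap A A' c * algebraMap A A' x' = algebraMap A A' x * algebraMap A A' d := by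
        rw [← map_mul, ← map_mul, hkey]
      calc algebraMap A A' d * ↑u⁻¹ * algebraMap A A' x
          = ↑u⁻¹ * (algebraMap A A' x * algebraMap A A' d) := by ring
        _ = ↑u⁻¹ * (↑u * algebraMap A A' x') := by rw [← h1, hu]
        _ = algebraMap A A' x' := by rw [← mul_assoc, Units.inv_mul, one_mul]
    · rw [Ideal.span_le, Set.singleton_subset_iff]
      exact Ideal.mem_map_of_mem _ hx
  · have h1 : algebraMap A A' f ∈ nonZeroDivisors A' :=
      IsLocalization.map_nonZeroDivisors_le (Submonoid.powers c) A' ⟨f, hf, rfl⟩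
    have h2 : algebraMap A A' x * algebraMap A A' y ∈ nonZeroDivisors A' := by
      rw [← map_mul, hxy, map_mul]
      exact mul_mem hcu.mem_nonZeroDivisors h1
    exact (mul_mem_nonZeroDivisors.mp h2).1

theorem left {X : Scheme.{u}} (𝓘 𝓙 : X.IdealSheafData)
    (h : BlowUp.IsEffCartierIdeal (𝓘 * 𝓙)) : BlowUp.IsEffCartierIdeal 𝓘 := by
  intro p
  obtain ⟨U, hpU, f, hf, hIJ⟩ := h p
  have hab : 𝓘.ideal U * 𝓙.ideal U = Ideal.span {f} := hIJ
  obtain ⟨n, c, x, y, hsum, hxy⟩ := alg_core _ _ f hf hab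
  -- find i with p ∈ basicOpen (c i)
  obtain ⟨i, hi⟩ : ∃ i, p ∈ X.basicOpen (c i) := by
    have hspan : Ideal.span (Set.range c) = ⊤ := by
      rw [Ideal.eq_top_iff_one, ← hsum]
      exact Ideal.sum_mem _ fun i _ => Ideal.subset_span ⟨i, rfl⟩
    have hU : IsAffineOpen (U : X.Opens) := U.2
    have := (IsAffineOpen.iSup_basicOpen_eq_self_iff hU (s := Set.range c)).mpr hspan
    have hp : p ∈ (⨆ g : Set.range c, X.basicOpen g.1 : X.Opens) := by rw [this]; exact hpU
    obtain ⟨⟨_, i, rfl⟩, hi⟩ := Opens.mem_iSup.mp hp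
    exact ⟨i, hi⟩
  refine ⟨X.affineBasicOpen (c i), hi, ?_⟩
  letI : Algebra Γ(X, U.1) Γ(X, X.basicOpen (c i)) :=
    (X.presheaf.map (homOfLE (X.basicOpen_le (c i))).op).hom.toAlgebra
  have hU : IsAffineOpen (U : X.Opens) := U.2
  haveI : IsLocalization.Away (c i) Γ(X, X.basicOpen (c i)) := IsAffineOpen.isLocalization_basicOpen hU (c i)
  obtain ⟨h1, h2⟩ := alg_local (A' := Γ(X, X.basicOpen (c i))) _ _ f hf hab (c i) (x i) (y i)
    (hxy i).1 (hxy i).2.1 (hxy i).2.2
  refine ⟨algebraMap Γ(X, U.1) Γ(X, X.basicOpen (c i)) (x i), h2, ?_⟩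
  rw [← 𝓘.map_ideal_basicOpen U (c i)]
  exact h1


/-- Let 𝓘, 𝓙 be quasi-coherent ideal sheaves on a scheme X (closed subschemes Z, Y). If the product 𝓘𝓙
is the ideal sheaf of an effective Cartier divisor D, then 𝓘 and 𝓙 are ideal sheaves of effective
Cartier divisors (and D is their sum, D having ideal 𝓘𝓙 by assumption). -/
theorem result {X : Scheme.{u}} (𝓘 𝓙 : X.IdealSheafData)
    (h : BlowUp.IsEffCartierIdeal (𝓘 * 𝓙)) : BlowUp.IsEffCartierIdeal 𝓘 ∧ BlowUp.IsEffCartierIdeal 𝓙 := by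
  exact ⟨left 𝓘 𝓙 h, left 𝓙 𝓘 (by rwa [mul_comm])⟩

end Groth.Agent.S8852
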