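import Groth.Statements.S8853
import Mathlib
-- import your own Groth.Agent.* helpers here

set_option autoImplicit false
universe u
open CategoryTheory CategoryTheory.Limits AlgebraicGeometry TopologicalSpace
open SDiv

namespace Groth.Agent.S8853
open CategoryTheory AlgebraicGeometry Limits TopologicalSpace Topology Opposite



/-- Let Z be a locally principal closed subscheme of a scheme S, with ideal sheaf 𝓘 generated by a
single section on some affine open neighbourhood of each point of its support, and let U be the open
complement of Z. Then the inclusion U ⟶ S is an affine morphism. -/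
theorem result {S : Scheme.{u}} (𝓘 : S.IdealSheafData) (h : Curv2.IsLocPrincipal 𝓘) :
    IsAffineHom (Scheme.Opens.ι 𝓘.support.compl) := by
  apply isAffineHom_of_forall_exists_isAffineOpen
  intro x
  have aux : ∀ U : S.Opens, IsAffineOpen (𝓘.support.compl ⊓ U) →
      IsAffineOpen ((Scheme.Opens.ι 𝓘.support.compl) ⁻¹ᵁ U) := by
    intro U hU
    rw [← (Scheme.Opens.ι 𝓘.support.compl).isAffineOpen_iff_of_isOpenImmersion]
    have : (Scheme.Opens.ι 𝓘.support.compl) ''ᵁ ((Scheme.Opens.ι 𝓘.support.compl) ⁻¹ᵁ U) =
        𝓘.support.compl ⊓ U := by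
      simp [Scheme.Hom.image_preimage_eq_opensRange_inf]
    rwa [this]
  by_cases hx : x ∈ 𝓘.support
  · obtain ⟨U, hxU, f, hf⟩ := h x hx
    refine ⟨U, hxU, U.2, aux _ ?_⟩
    have : 𝓘.support.compl ⊓ (U : S.Opens) = S.basicOpen f := by
      ext y
      constructor
      · rintro ⟨hyW, hyU⟩
        by_contra hy
        apply hyW
        change y ∈ 𝓘.support
        rw [Scheme.IdealSheafData.mem_support_iff_of_mem hyU, hf, Scheme.zeroLocus_span,
          Scheme.zeroLocus_singleton]
        exact hy
      · intro hy
        have hyU := S.basicOpen_le f hy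
        refine ⟨?_, hyU⟩
        intro hys
        change y ∈ 𝓘.support at hys
        rw [Scheme.IdealSheafData.mem_support_iff_of_mem hyU, hf, Scheme.zeroLocus_span,
          Scheme.zeroLocus_singleton] at hys
        exact hys hy
    rw [this]; exact U.2.basicOpen f
  · obtain ⟨U, hU, hxU, hUW⟩ := exists_isAffineOpen_mem_and_subset (X := S) (x := x)
      (U := 𝓘.support.compl) hx
    refine ⟨U, hxU, hU, aux _ ?_⟩
    have : 𝓘.support.compl ⊓ U = U := inf_eq_right.mpr hUW
    rwa [this]

end Groth.Agent.S8853
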