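import Groth.Statements.S8854
import Mathlib.RingTheory.Ideal.UFD
import Mathlib.RingTheory.UniqueFactorizationDomain.GCDMonoid
import Mathlib.RingTheory.Ideal.Colon
import Mathlib.Algebra.GCDMonoid.Finset
-- import your own Groth.Agent.* helpers here

set_option autoImplicit false
universe u
open SDiv

namespace Groth.Agent.S8854

/-- Let R be a Noetherian unique factorisation domain and I ⊆ R an ideal such that every associated
prime of R/I is minimal over I (R/I has no embedded primes) and every prime minimal over I has
height 1. Then I is principal: it is generated by one element. -/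
theorem result (R : Type u) [CommRing R] [IsDomain R] [IsNoetherianRing R]
    [UniqueFactorizationMonoid R] (I : Ideal R)
    (h1 : ∀ p : Ideal R, p ∈ associatedPrimes R (R ⧸ I) → p ∈ I.minimalPrimes)
    (h2 : ∀ p : Ideal R, p ∈ I.minimalPrimes → p.height = 1) :
    ∃ f : R, I = Ideal.span {f} := by
  classical
  by_cases hI0 : I = ⊥
  · exact ⟨0, by simp [hI0]⟩
  letI : StrongNormalizationMonoid R := UniqueFactorizationMonoid.strongNormalizationMonoid
  letI : NormalizedGCDMonoid R := UniqueFactorizationMonoid.toNormalizedGCDMonoid R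
  obtain ⟨S, hS⟩ := (IsNoetherian.noetherian I : I.FG)
  set d := S.gcd id with hd_def
  have hd : ∀ s ∈ S, d ∣ s := fun s hs => Finset.gcd_dvd (f := id) hs
  have hd0 : d ≠ 0 := by
    intro h0
    apply hI0
    rw [← hS, Ideal.span_eq_bot]
    intro s hs
    have := hd s hs
    rw [h0] at this
    exact zero_dvd_iff.mp this
  have hId : I ≤ Ideal.span {d} := by
    rw [← hS, Ideal.span_le]
    intro s hs
    exact Ideal.mem_span_singleton.mpr (hd s hs)
  set I' : Ideal R := I.colon {d} with hI'
  have hmem : ∀ x, x ∈ I' ↔ x * d ∈ I := fun x => by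
    rw [hI', Submodule.mem_colon_singleton, smul_eq_mul]
  suffices htop : I' = ⊤ by
    refine ⟨d, le_antisymm hId ?_⟩
    rw [Ideal.span_singleton_le_iff_mem]
    have : (1 : R) ∈ I' := by rw [htop]; trivial
    simpa using (hmem 1).mp this
  by_contra hne
  haveI : Nontrivial (R ⧸ I') := Ideal.Quotient.nontrivial_iff.mpr hne
  obtain ⟨p, hp⟩ := associatedPrimes.nonempty R (R ⧸ I')
  -- the injective map R/I' → R/I
  have hle : I' ≤ Submodule.comap (LinearMap.mulLeft R d) I := by
    intro x hx
    rw [Submodule.mem_comap, LinearMap.mulLeft_apply, mul_comm]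
    exact (hmem x).mp hx
  let φ : (R ⧸ I') →ₗ[R] (R ⧸ I) := Submodule.mapQ I' I (LinearMap.mulLeft R d) hle
  have hφ : Function.Injective φ := by
    rw [injective_iff_map_eq_zero]
    intro x hx
    obtain ⟨x, rfl⟩ := Ideal.Quotient.mk_surjective x
    have h1' : φ (Ideal.Quotient.mk I' x) = Ideal.Quotient.mk I (d * x) := rfl
    rw [h1', Ideal.Quotient.eq_zero_iff_mem] at hx
    rw [Ideal.Quotient.eq_zero_iff_mem, hmem, mul_comm]
    exact hx
  have hpI : p ∈ associatedPrimes R (R ⧸ I) := associatedPrimes.subset_of_injective hφ hp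
  have hpmin := h1 p hpI
  have hph := h2 p hpmin
  haveI : p.IsPrime := hpmin.1.1
  have hpp : p.IsPrincipal := UniqueFactorizationMonoid.isPrincipal_of_height_eq_one hph
  have hpn : p ≠ ⊥ := Ideal.ne_bot_of_height_eq_one hph
  have hprime : Prime (Submodule.IsPrincipal.generator p) :=
    Submodule.IsPrincipal.prime_generator_of_isPrime p hpn
  set π := Submodule.IsPrincipal.generator p with hπ
  have hI'p : I' ≤ p := by
    have h := IsAssociatedPrime.annihilator_le hp
    rwa [Submodule.annihilator_top, Ideal.annihilator_quotient] at h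
  have hdvd : d * π ∣ d := by
    apply Finset.dvd_gcd
    intro s hs
    obtain ⟨s', hs'⟩ := hd s hs
    have hsI : s ∈ I := by rw [← hS]; exact Ideal.subset_span hs
    have hs'I : s' ∈ I' := by
      rw [hmem, mul_comm, ← hs']; exact hsI
    have := hI'p hs'I
    rw [← Submodule.IsPrincipal.span_singleton_generator p, Ideal.mem_span_singleton] at this
    simp only [id]
    rw [hs']
    exact mul_dvd_mul_left d this
  have : π ∣ 1 := by
    have h' : d * π ∣ d * 1 := by simpa using hdvd
    exact (mul_dvd_mul_iff_left hd0).mp h'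
  exact hprime.not_isUnit (isUnit_of_dvd_one this)

end Groth.Agent.S8854
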