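import Groth.Statements.S8855
import Mathlib
import Groth.Agent.Lib.Helper91.ImmStalk
import Groth.Agent.Lib.Helper91.ImmRestrict
import Groth.Agent.Lib.Helper91.RegImmLocal
import Groth.Agent.Lib.Helper91.RegImmCompose
import Groth.Agent.Lib.Helper83.RegQuot

set_option autoImplicit false
universe u
open CategoryTheory CategoryTheory.Limits AlgebraicGeometry TopologicalSpace
open SDiv

namespace Groth.Agent.S8855

/-- Let i : Z ⟶ X be an immersion of schemes with Z and X regular (locally Noetherian, all local rings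
regular local rings). Then i is a regular immersion. -/
theorem result {Z X : Scheme.{u}} (i : Z ⟶ X) [IsImmersion i]
    [IsLocallyNoetherian X] [IsLocallyNoetherian Z]
    (hX : ∀ x : ↥X, IsRegularLocalRing ↑(X.presheaf.stalk x)) (hZ : ∀ z : ↥Z, IsRegularLocalRing ↑(Z.presheaf.stalk z)) :
    RegImm.IsRegularImmersion RegImm.Kind.regular i := by
  classical
  refine ⟨inferInstance, fun z => ?_⟩
  haveI : QuasiCompact i := Groth.Agent.Lib.Helper91.ImmRestrict.quasiCompact_of_isLocallyNoetherian i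
  haveI := hX (i z)
  haveI := hZ z
  have hsurj : Function.Surjective (i.stalkMap z).hom := i.stalkMap_surjective z
  haveI : IsRegularLocalRing (X.presheaf.stalk (i z) ⧸ RingHom.ker (i.stalkMap z).hom) :=
    IsRegularLocalRing.of_ringEquiv (RingHom.quotientKerEquivOfSurjective hsurj).symm
  obtain ⟨rs, hreg, hrs⟩ :=
    Groth.Agent.Lib.Helper83.RegQuot.exists_isRegular_of_isRegularLocalRing_quotient
      (RingHom.ker (i.stalkMap z).hom)
  obtain ⟨W', hxW', b', hb'⟩ := Groth.Agent.Lib.Helper91.RegImmLocal.exists_sections (i z) rs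
  obtain ⟨W, hW, hx, hWle⟩ := exists_isAffineOpen_mem_and_subset (x := i z)
    (U := W'.1 ⊓ i.coborderRange)
    ⟨hxW', Groth.Agent.Lib.Helper91.ImmRestrict.mem_coborderRange i z⟩
  have hW1 : W ≤ W'.1 := hWle.trans inf_le_left
  have hW2 : W ≤ i.coborderRange := hWle.trans inf_le_right
  let b : List Γ(X, W) := b'.map (X.presheaf.map (homOfLE hW1).op).hom
  have hb : b.map (X.presheaf.germ W (i z) hx).hom = rs := by
    rw [← hb', List.map_map]
    apply List.map_congr_left
    intro a _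
    exact X.presheaf.germ_res_apply (homOfLE hW1) (i z) hx a
  haveI hclW : IsClosedImmersion (i ∣_ W) :=
    Groth.Agent.Lib.Helper91.ImmRestrict.isClosedImmersion_restrict i W hW2
  haveI : IsNoetherianRing Γ(X, W) := IsLocallyNoetherian.component_noetherian ⟨W, hW⟩
  letI alg : Algebra Γ(X, W) (X.presheaf.stalk (i z)) :=
    TopCat.Presheaf.algebra_section_stalk X.presheaf ⟨i z, hx⟩
  haveI loc : IsLocalization.AtPrime (X.presheaf.stalk (i z))
      (hW.primeIdealOf ⟨i z, hx⟩).asIdeal := hW.isLocalization_stalk ⟨_, hx⟩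
  have hb2 : b.map (algebraMap Γ(X, W) (X.presheaf.stalk (i z))) = rs := hb
  have hkerW := Groth.Agent.Lib.Helper91.ImmStalk.ker_stalkMap_of_restrict i ⟨W, hW⟩ z hx
  have hI : (i.ker.ideal ⟨W, hW⟩).map (algebraMap Γ(X, W) (X.presheaf.stalk (i z))) =
      Ideal.ofList (b.map (algebraMap Γ(X, W) (X.presheaf.stalk (i z)))) := by
    rw [hb2, hrs, Scheme.Hom.ker_apply]
    exact hkerW.symm
  obtain ⟨g, hgp, hg⟩ := Groth.Agent.Lib.Helper91.RegSpread.exists_away Γ(X, W)
    (hW.primeIdealOf ⟨i z, hx⟩).asIdeal (X.presheaf.stalk (i z)) (i.ker.ideal ⟨W, hW⟩) b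
    (hb2.symm ▸ hreg.1) hI
  letI algV : Algebra Γ(X, W) Γ(X, X.basicOpen g) :=
    (X.presheaf.map (homOfLE (X.basicOpen_le g)).op).hom.toAlgebra
  haveI locV : IsLocalization.Away g Γ(X, X.basicOpen g) := hW.isLocalization_basicOpen g
  obtain ⟨hwr, hIV⟩ := hg Γ(X, X.basicOpen g)
  have hxV : i z ∈ X.basicOpen g :=
    (Groth.Agent.Lib.Helper91.MaxPoint.mem_basicOpen_iff_notMem_primeIdealOf hW g (i z) hx).mpr hgp
  have hVaff : IsAffineOpen (X.basicOpen g) := hW.basicOpen g
  have hideal : RingHom.ker (i.app (X.basicOpen g)).hom =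
      Ideal.ofList (b.map (algebraMap Γ(X, W) Γ(X, X.basicOpen g))) := by
    rw [← hIV]
    have := i.ker.map_ideal_basicOpen ⟨W, hW⟩ g
    rw [← Scheme.Hom.ker_apply i ⟨X.basicOpen g, hVaff⟩]
    exact this.symm
  haveI hclV : IsClosedImmersion (i ∣_ X.basicOpen g) :=
    Groth.Agent.Lib.Helper91.ImmRestrict.isClosedImmersion_restrict i _
      ((X.basicOpen_le g).trans hW2)
  refine ⟨⟨X.basicOpen g, hVaff⟩, hxV, hclV, b.map (algebraMap Γ(X, W) Γ(X, X.basicOpen g)),
    ⟨hwr, ?_⟩, hideal⟩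
  intro htop
  rw [smul_eq_mul, Ideal.mul_top] at htop
  have h2 : RingHom.ker (i.app (X.basicOpen g)).hom = ⊤ := hideal.trans htop.symm
  have hkerV := Groth.Agent.Lib.Helper91.ImmStalk.ker_stalkMap_of_restrict i
    ⟨X.basicOpen g, hVaff⟩ z hxV
  rw [h2, Ideal.map_top] at hkerV
  have h1 : (1 : X.presheaf.stalk (i z)) ∈ RingHom.ker (i.stalkMap z).hom := by
    rw [hkerV]; trivial
  rw [RingHom.mem_ker, map_one] at h1
  exact one_ne_zero h1

end Groth.Agent.S8855
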