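import Groth.Statements.S8861
import Groth.Agent.Lib.Helper20.IdealComap
import Groth.Agent.Lib.QCoh.Helper18_Generic

set_option autoImplicit false
universe u
open CategoryTheory CategoryTheory.Limits AlgebraicGeometry TopologicalSpace
open SDiv

namespace Groth.Agent.S8861

/-- Let f : X ⟶ Y be a morphism of schemes and 𝓘 the ideal sheaf of an effective Cartier divisor D ⊆ Y.
If f x ∉ D for every weakly associated point x of X (weakly associated point of the structure
sheaf), then the inverse image ideal sheaf of 𝓘 on X is the ideal of an effective Cartier divisor,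
i.e. the pullback of D by f is defined. -/
theorem result {X Y : Scheme.{u}} (f : X ⟶ Y) (𝓘 : Y.IdealSheafData)
    (hD : BlowUp.IsEffCartierIdeal 𝓘)
    (h : ∀ x : ↥X, Curv2.IsWeakAssPoint (Coh.structureModule X) x → f x ∉ 𝓘.support) :
    BlowUp.IsEffCartierIdeal (𝓘.comap f) := by
  intro x
  obtain ⟨V, hxV, t, ht, hI⟩ := hD (f x)
  have hxV' : x ∈ f ⁻¹ᵁ V.1 := hxV
  obtain ⟨W, hW0, hxW, hWV⟩ := Opens.isBasis_iff_nbhd.1 (X.isBasis_affineOpens) hxV'
  have hW : IsAffineOpen W := hW0
  refine ⟨⟨W, hW⟩, hxW, (f.appLE V.1 W hWV).hom t, ?_, ?_⟩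
  · rw [mem_nonZeroDivisors_iff_right]
    intro g hg
    by_contra hgne
    obtain ⟨y, hyW, hyw, hyg⟩ :=
      Groth.Agent.Lib.QCoh.exists_isWeakAssPoint_structureModule_of_ne_zero hW g hgne
    apply hyg
    have hyV : f y ∈ V.1 := hWV hyW
    have hns := h y hyw
    rw [Scheme.IdealSheafData.mem_support_iff_of_mem (U := V) hyV, Scheme.mem_zeroLocus_iff] at hns
    push Not at hns
    obtain ⟨r, hr, hyr⟩ := hns
    rw [hI] at hr
    obtain ⟨c, rfl⟩ := Ideal.mem_span_singleton'.1 hr
    rw [Scheme.basicOpen_mul] at hyr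
    have hyt : f y ∈ Y.basicOpen t := hyr.2
    rw [Scheme.mem_basicOpen _ _ _ hyV] at hyt
    have hunit : IsUnit (X.presheaf.germ W y hyW ((f.appLE V.1 W hWV).hom t)) := by
      have h1 : X.presheaf.germ W y hyW ((f.appLE V.1 W hWV).hom t) =
          f.stalkMap y (Y.presheaf.germ V.1 (f y) hyV t) := by
        rw [Scheme.Hom.germ_stalkMap_apply, Scheme.Hom.appLE]
        simp only [CommRingCat.comp_apply]
        rw [TopCat.Presheaf.germ_res_apply]
      rw [h1]
      exact hyt.map _
    have h2 : X.presheaf.germ W y hyW g *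
        X.presheaf.germ W y hyW ((f.appLE V.1 W hWV).hom t) = 0 := by
      rw [← map_mul, hg, map_zero]
    exact (hunit.mul_left_eq_zero).1 h2
  · rw [Groth.Agent.Lib.Helper20.ideal_comap f 𝓘 ⟨W, hW⟩ V hWV, hI, Ideal.map_span,
      Set.image_singleton]

end Groth.Agent.S8861
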