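import Groth.Statements.S8864
import Mathlib
import Groth.Agent.Lib.Helper48.SchDense
import Groth.Agent.Lib.Helper48.MeroGlue
import Groth.Agent.S5085
import Groth.Agent.S12513
-- import your own Groth.Agent.* helpers here

set_option autoImplicit false
universe u
open CategoryTheory CategoryTheory.Limits AlgebraicGeometry TopologicalSpace
open SDiv

namespace Groth.Agent.S8864


section Aux

open Groth.Agent.Lib.Helper48.SchDense Groth.Agent.Lib.Helper48.MeroGlue Opposite

theorem exists_fraction (X : Scheme.{u}) [IsLocallyNoetherian X] (U : X.affineOpens)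
    (s : Γ(Mero.kmod X, U.1)) :
    ∃ (a t : Γ(X, U.1)), t ∈ nonZeroDivisors Γ(X, U.1) ∧
      s * Mero.toK X U.1 t = Mero.toK X U.1 a := by
  have hreg : Mero.regSub X U.1 = nonZeroDivisors Γ(X, U.1) := Groth.Agent.S12513.result X U.1 U.2
  have hlocal : ∀ x : U.1, ∃ (W : X.Opens) (_ : x.1 ∈ W) (hWU : W ≤ U.1) (a : Γ(X, W))
      (b : Mero.regSub X W), ∀ (z : X) (hz : z ∈ W), s.1 ⟨z, hWU hz⟩ =
        LocalizedModule.mk (X.presheaf.germ W z hz a) (Mero.regGerm ⟨z, hz⟩ b) := by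
    intro x
    obtain ⟨W, mW, i, a, b, hw⟩ := s.2 x
    exact ⟨W, mW, i.le, a, b, fun z hz => hw ⟨z, hz⟩⟩
  choose Wc hxWc hWcU ac bc hwc using hlocal
  obtain ⟨D, hD⟩ : ∃ D : X.Opens, D = ⨆ x : U.1, X.basicOpen (bc x).1 := ⟨_, rfl⟩
  have hinj : Function.Injective
      (X.presheaf.map (homOfLE (inf_le_left : U.1 ⊓ D ≤ U.1)).op) := by
    rw [injective_iff_map_eq_zero]
    intro e he
    have hloc : ∀ (x : X) (hx : x ∈ U.1),
        X.presheaf.germ U.1 x hx e = X.presheaf.germ U.1 x hx 0 := by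
      intro x hx
      rw [map_zero]
      have hle : X.basicOpen (bc ⟨x, hx⟩).1 ≤ U.1 ⊓ D := by
        intro z hz
        refine ⟨hWcU _ (X.basicOpen_le _ hz), ?_⟩
        rw [hD]
        exact Opens.mem_iSup.mpr ⟨⟨x, hx⟩, hz⟩
      have h0 : X.presheaf.map (homOfLE (hWcU ⟨x, hx⟩)).op e = 0 := by
        apply eq_zero_of_res_basicOpen_regular (Wc ⟨x, hx⟩) (bc ⟨x, hx⟩).1 (bc ⟨x, hx⟩).2
        rw [res_res (homOfLE (hWcU ⟨x, hx⟩)) (homOfLE (X.basicOpen_le _))
          (homOfLE (hle.trans inf_le_left)) e,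
          ← res_res (homOfLE (inf_le_left : U.1 ⊓ D ≤ U.1)) (homOfLE hle)
          (homOfLE (hle.trans inf_le_left)) e, he, map_zero]
      rw [← TopCat.Presheaf.germ_res_apply X.presheaf (homOfLE (hWcU ⟨x, hx⟩)) x
        (hxWc ⟨x, hx⟩) e, h0, map_zero]
    exact TopCat.Presheaf.section_ext X.sheaf U.1 e 0 hloc
  haveI : IsNoetherianRing Γ(X, U.1) := IsLocallyNoetherian.component_noetherian U
  obtain ⟨t, ht, htD⟩ := exists_regular_basicOpen_le U.1 U.2 (Or.inl inferInstance) D hinj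
  have htreg : t ∈ Mero.regSub X U.1 := by rw [hreg]; exact ht
  -- values of `s` on `D(t)` lie in the local rings
  have hrange : ∀ z : (X.basicOpen t : X.Opens),
      ((Mero.kmod X).presheaf.map (homOfLE (X.basicOpen_le t)).op s).1 z ∈
        (algebraMap (X.presheaf.stalk z.1) (Mero.KStalk X z.1)).range := by
    intro z
    have hzD : z.1 ∈ ⨆ x : U.1, X.basicOpen (bc x).1 := by
      rw [← hD]; exact htD z.2
    obtain ⟨x, hzx⟩ := Opens.mem_iSup.mp hzD
    have hzW : z.1 ∈ Wc x := X.basicOpen_le _ hzx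
    have hu : IsUnit (X.presheaf.germ (Wc x) z.1 hzW (bc x).1) :=
      (X.mem_basicOpen (bc x).1 z.1 hzW).mp hzx
    have e1 : ((Mero.kmod X).presheaf.map (homOfLE (X.basicOpen_le t)).op s).1 z =
        LocalizedModule.mk (X.presheaf.germ (Wc x) z.1 hzW (ac x))
          (Mero.regGerm ⟨z.1, hzW⟩ (bc x)) := hwc x z.1 hzW
    rw [e1, mk_mem_range_iff]
    obtain ⟨v, hv⟩ := hu
    refine ⟨↑v⁻¹ * X.presheaf.germ (Wc x) z.1 hzW (ac x), ?_⟩
    show _ = X.presheaf.germ (Wc x) z.1 hzW (bc x).1 * _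
    rw [← hv, ← mul_assoc, Units.mul_inv, one_mul]
  obtain ⟨g, hg⟩ := exists_toK_eq (X.basicOpen t) _ hrange
  haveI := U.2.isLocalization_basicOpen t
  obtain ⟨⟨a, ⟨_, n, rfl⟩⟩, hsurj⟩ := IsLocalization.surj (Submonoid.powers t) g
  have hsurj' : g * X.presheaf.map (homOfLE (X.basicOpen_le t)).op (t ^ n) =
      X.presheaf.map (homOfLE (X.basicOpen_le t)).op a := hsurj
  -- `D(t)` is schematically dense in `U`
  have hV : ∀ W : X.Opens, W ≤ U.1 → Function.Injective
      ⇑(X.presheaf.map (homOfLE (inf_le_left : W ⊓ X.basicOpen t ≤ W)).op) := by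
    intro W hWU
    rw [injective_iff_map_eq_zero]
    intro e he
    apply eq_zero_of_res_basicOpen_regular W (X.presheaf.map (homOfLE hWU).op t)
      (Mero.regSub_res _ htreg) e
    have hsub : X.basicOpen (X.presheaf.map (homOfLE hWU).op t) ≤ W ⊓ X.basicOpen t := by
      rw [Scheme.basicOpen_res]
    rw [← res_res (homOfLE (inf_le_left : W ⊓ X.basicOpen t ≤ W)) (homOfLE hsub)
      (homOfLE (X.basicOpen_le _)) e, he, map_zero]
  have key : (Mero.kmod X).presheaf.map (homOfLE (X.basicOpen_le t)).op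
        (s * Mero.toK X U.1 (t ^ n)) =
      (Mero.kmod X).presheaf.map (homOfLE (X.basicOpen_le t)).op (Mero.toK X U.1 a) := by
    apply Subtype.ext
    funext z
    have hz : s.1 ⟨z.1, X.basicOpen_le t z.2⟩ =
        LocalizedModule.mk (X.presheaf.germ (X.basicOpen t) z.1 z.2 g) 1 :=
      (congrArg (fun w : Γ(Mero.kmod X, X.basicOpen t) => w.1 z) hg).symm
    have hgerm := congrArg (X.presheaf.germ (X.basicOpen t) z.1 z.2) hsurj'
    rw [map_mul, TopCat.Presheaf.germ_res_apply, TopCat.Presheaf.germ_res_apply] at hgerm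
    show s.1 ⟨z.1, X.basicOpen_le t z.2⟩ *
        LocalizedModule.mk (X.presheaf.germ U.1 z.1 (X.basicOpen_le t z.2) (t ^ n)) 1 =
      LocalizedModule.mk (X.presheaf.germ U.1 z.1 (X.basicOpen_le t z.2) a) 1
    rw [hz]
    exact LocalizedModule.mk_mul_mk.trans (Mero.mk_congr hgerm (by rw [one_mul]))
  have hfin : s * Mero.toK X U.1 (t ^ n) = Mero.toK X U.1 a :=
    Groth.Agent.S5085.result X U.1 (X.basicOpen t) (X.basicOpen_le t) hV key
  exact ⟨a, t ^ n, pow_mem ht n, hfin⟩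

end Aux

/-- Let X be a locally Noetherian scheme and U an affine open of X. Then K_X(U), viewed as an
O_X(U)-algebra through the canonical map r ↦ r/1, is the total ring of fractions of O_X(U): it is a
localization of O_X(U) at the monoid of nonzerodivisors. -/
theorem result (X : Scheme.{u}) [IsLocallyNoetherian X] (U : X.affineOpens) :
    @IsLocalization Γ(X, U.1) _ (nonZeroDivisors Γ(X, U.1)) Γ(Mero.kmod X, U.1) _ (Mero.toK X U.1).toAlgebra := by
  letI : Algebra Γ(X, U.1) Γ(Mero.kmod X, U.1) := (Mero.toK X U.1).toAlgebra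
  have hreg : Mero.regSub X U.1 = nonZeroDivisors Γ(X, U.1) := Groth.Agent.S12513.result X U.1 U.2
  refine (isLocalization_iff _ _).mpr ⟨?_, ?_, ?_⟩
  · intro b
    have hb : b.1 ∈ Mero.regSub X U.1 := by rw [hreg]; exact b.2
    show IsUnit (Mero.toK X U.1 b.1)
    exact Groth.Agent.Lib.Helper48.MeroGlue.isUnit_toK_of_regSub U.1 b.1 hb
  · intro s
    obtain ⟨a, t, ht, hst⟩ := exists_fraction X U s
    exact ⟨(a, ⟨t, ht⟩), hst⟩
  · intro x y hxy
    have hxy' : Mero.toK X U.1 x = Mero.toK X U.1 y := hxy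
    exact ⟨1, by rw [Groth.Agent.Lib.Helper48.MeroGlue.toK_injective U.1 hxy']⟩

end Groth.Agent.S8864
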