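import Groth.Statements.S8865
import Mathlib
-- import your own Groth.Agent.* helpers here

set_option autoImplicit false
universe u
open CategoryTheory CategoryTheory.Limits AlgebraicGeometry TopologicalSpace
open SDiv

namespace Groth.Agent.S8865


section Aux

open Opposite

variable {X : Scheme.{u}}

theorem local_kill (h : Γ(X, ⊤)) (f : Γ(Mero.kmod X, ⊤))
    (hf : (Mero.kmod X).presheaf.map (homOfLE (le_top : X.basicOpen h ≤ ⊤)).op f = 0) (x : X) :
    ∃ (W : X.Opens) (_ : x ∈ W) (n : ℕ), ∀ (y : X) (_ : y ∈ W) (m : ℕ), n ≤ m →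
      (Mero.toK X ⊤ h ^ m * f).1 ⟨y, trivial⟩ = 0 := by
  obtain ⟨W₁, mW₁, i, a, b, w⟩ := f.2 ⟨x, trivial⟩
  have hfW : ∀ (y : X) (hy : y ∈ W₁), f.1 ⟨y, trivial⟩ =
      LocalizedModule.mk (X.presheaf.germ W₁ y hy a) (Mero.regGerm ⟨y, hy⟩ b) :=
    fun y hy => w ⟨y, hy⟩
  obtain ⟨W, hWaff, mW, hWsub⟩ := exists_isAffineOpen_mem_and_subset (x := x) (U := W₁) mW₁
  have hWW₁ : W ≤ W₁ := fun y hy => hWsub hy
  obtain ⟨a₀, ha₀⟩ : ∃ a₀ : Γ(X, W), a₀ = X.presheaf.map (homOfLE hWW₁).op a := ⟨_, rfl⟩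
  obtain ⟨h₀, hh₀⟩ : ∃ h₀ : Γ(X, W), h₀ = X.presheaf.map (homOfLE (le_top : W ≤ ⊤)).op h :=
    ⟨_, rfl⟩
  have hsub : X.basicOpen h₀ ≤ X.basicOpen h := by
    rw [hh₀, Scheme.basicOpen_res]; exact inf_le_right
  have hzero : X.presheaf.map (homOfLE (X.basicOpen_le h₀)).op a₀ = 0 := by
    have hloc : ∀ (y : X) (hy : y ∈ X.basicOpen h₀),
        X.presheaf.germ _ y hy (X.presheaf.map (homOfLE (X.basicOpen_le h₀)).op a₀) =
        X.presheaf.germ _ y hy 0 := by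
      intro y hy
      have hyW : y ∈ W := X.basicOpen_le h₀ hy
      have hyh : y ∈ X.basicOpen h := hsub hy
      rw [TopCat.Presheaf.germ_res_apply, map_zero, ha₀, TopCat.Presheaf.germ_res_apply]
      have h1 : (LocalizedModule.mk (X.presheaf.germ W₁ y (hWW₁ hyW) a)
          (Mero.regGerm ⟨y, hWW₁ hyW⟩ b) : Mero.KStalk X y) =
          LocalizedModule.mk 0 (Mero.regGerm ⟨y, hWW₁ hyW⟩ b) := by
        rw [LocalizedModule.zero_mk, ← hfW y (hWW₁ hyW)]
        exact congrArg (fun s : Γ(Mero.kmod X, X.basicOpen h) => s.1 ⟨y, hyh⟩) hf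
      obtain ⟨u, hu⟩ := LocalizedModule.mk_eq.mp h1
      simp only [Submonoid.smul_def, smul_eq_mul, mul_zero] at hu
      have hnz : (u : X.presheaf.stalk y) *
          (Mero.regGerm ⟨y, hWW₁ hyW⟩ b : X.presheaf.stalk y) ∈
          nonZeroDivisors (X.presheaf.stalk y) :=
        Mero.regStalk_le_nonZeroDivisors y (mul_mem u.2 (Mero.regGerm ⟨y, hWW₁ hyW⟩ b).2)
      rw [← mul_assoc] at hu
      exact (mem_nonZeroDivisors_iff_left.mp hnz) _ hu
    exact TopCat.Presheaf.section_ext X.sheaf _ _ _ hloc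
  haveI := hWaff.isLocalization_basicOpen h₀
  have h0 : algebraMap Γ(X, W) Γ(X, X.basicOpen h₀) a₀ = 0 := hzero
  obtain ⟨⟨_, n, rfl⟩, hn⟩ := (IsLocalization.map_eq_zero_iff (Submonoid.powers h₀)
    Γ(X, X.basicOpen h₀) a₀).mp h0
  have hn' : h₀ ^ n * a₀ = 0 := hn
  refine ⟨W, mW, n, fun y hyW m hnm => ?_⟩
  have hg := congrArg (X.presheaf.germ W y hyW) hn'
  rw [map_mul, map_pow, map_zero, hh₀, ha₀, TopCat.Presheaf.germ_res_apply,
    TopCat.Presheaf.germ_res_apply] at hg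
  have hg' : (X.presheaf.germ ⊤ y trivial h) ^ n * X.presheaf.germ W₁ y (hWW₁ hyW) a = 0 := hg
  have hHA : (X.presheaf.germ ⊤ y trivial h) ^ m * X.presheaf.germ W₁ y (hWW₁ hyW) a = 0 := by
    obtain ⟨k, rfl⟩ := Nat.exists_eq_add_of_le hnm
    rw [pow_add, mul_comm (_ ^ n) (_ ^ k), mul_assoc, hg', mul_zero]
  show (Mero.evalK X ⊤ ⟨y, trivial⟩) (Mero.toK X ⊤ h ^ m * f) = 0
  rw [map_mul, map_pow]
  show (LocalizedModule.mk (X.presheaf.germ ⊤ y trivial h) 1 : Mero.KStalk X y) ^ m *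
    f.1 ⟨y, trivial⟩ = 0
  rw [hfW y (hWW₁ hyW)]
  have e1 : (LocalizedModule.mk (X.presheaf.germ ⊤ y trivial h) 1 : Mero.KStalk X y) ^ m =
      LocalizedModule.mk ((X.presheaf.germ ⊤ y trivial h) ^ m) 1 :=
    (map_pow (algebraMap (X.presheaf.stalk y) (Mero.KStalk X y)) _ m).symm
  rw [e1]
  exact LocalizedModule.mk_mul_mk.trans ((Mero.mk_congr hHA rfl).trans (LocalizedModule.zero_mk _))

end Aux

/-- Let X be a quasi-compact scheme, h a global section of O_X and f a global section of the sheaf of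
meromorphic functions K_X whose restriction to the open X_h where h is invertible vanishes. Then h^n
f = 0 in K_X(X) for some natural number n. -/
theorem result (X : Scheme.{u}) [CompactSpace ↥X] (h : Γ(X, ⊤))
    (f : Γ(Mero.kmod X, ⊤)) (hf : (Mero.kmod X).presheaf.map (homOfLE (le_top : X.basicOpen h ≤ ⊤)).op f = 0) :
    ∃ n : ℕ, Mero.toK X ⊤ h ^ n * f = 0 := by
  choose W hxW n hn using local_kill h f hf
  obtain ⟨t, ht⟩ := isCompact_univ.elim_finite_subcover (fun x => (W x : Set X))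
    (fun x => (W x).isOpen) (fun x _ => Set.mem_iUnion.mpr ⟨x, hxW x⟩)
  refine ⟨t.sup n, ?_⟩
  apply Subtype.ext
  funext y
  obtain ⟨x, hxt, hyx⟩ := Set.mem_iUnion₂.mp (ht (Set.mem_univ y.1))
  exact hn x y.1 hyx (t.sup n) (Finset.le_sup hxt)

end Groth.Agent.S8865
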