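import Groth.Statements.S8868
-- import your own Groth.Agent.* helpers here
import Groth.Agent.Lib.QCoh.Helper18_Ass

set_option autoImplicit false
universe u
open CategoryTheory CategoryTheory.Limits AlgebraicGeometry TopologicalSpace
open SDiv

namespace Groth.Agent.S8868

/-- Let X be a scheme and F a quasi-coherent O_X-module. Then F is zero if and only if F has no weakly
associated point. -/
theorem result (X : Scheme.{u}) (F : X.Modules) (hF : Coh.IsQCoh F) :
    IsZero F ↔ ∀ x : ↥X, ¬ Curv2.IsWeakAssPoint F x := by
  have : F.IsQuasicoherent := hF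
  constructor
  · intro hz x hx
    have := Groth.Agent.Lib.QCoh.stalk_subsingleton_of_isZero hz x
    exact not_isAssociatedPrime_of_subsingleton
      ((Groth.Agent.Lib.QCoh.isAssPoint_iff_isWeakAssPoint F x).2 hx)
  · intro h
    by_contra hz
    obtain ⟨y, hy⟩ := Groth.Agent.Lib.QCoh.exists_isWeakAssPoint_of_not_isZero F hz
    exact h y hy

end Groth.Agent.S8868
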