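import Groth.Statements.S8870
-- import your own Groth.Agent.* helpers here
import Groth.Agent.Lib.QCoh.Helper18_StalkLinear
import Groth.Agent.Lib.QCoh.Helper18_Ass

set_option autoImplicit false
universe u
open CategoryTheory CategoryTheory.Limits AlgebraicGeometry TopologicalSpace
open SDiv
open Groth.Agent.Lib.QCoh Groth.Agent.Lib.Helper18

namespace Groth.Agent.S8870

/-- Let X be a scheme and 0 → F₁ → F₂ → F₃ → 0 a short exact sequence of quasi-coherent O_X-modules.
Then WeakAss(F₂) ⊆ WeakAss(F₁) ∪ WeakAss(F₃) and WeakAss(F₁) ⊆ WeakAss(F₂). -/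
theorem result (X : Scheme.{u}) (S : ShortComplex X.Modules) (hS : S.ShortExact)
    (h₁ : Coh.IsQCoh S.X₁) (h₂ : Coh.IsQCoh S.X₂) (h₃ : Coh.IsQCoh S.X₃) :
    (∀ x : ↥X, Curv2.IsWeakAssPoint S.X₂ x → Curv2.IsWeakAssPoint S.X₁ x ∨ Curv2.IsWeakAssPoint S.X₃ x) ∧
      (∀ x : ↥X, Curv2.IsWeakAssPoint S.X₁ x → Curv2.IsWeakAssPoint S.X₂ x) := by
  constructor
  · rintro x ⟨m₂, hm₂⟩
    obtain ⟨hinj, -, hex⟩ := stalk_exact_of_shortExact S hS x
    by_cases h0 : stalkMap S.g x m₂ = 0
    · left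
      obtain ⟨m₁, rfl⟩ := hex m₂ h0
      refine ⟨m₁, ?_⟩
      rw [← hm₂]
      congr 1
      ext r
      change r • m₁ = 0 ↔ r • (stalkMap S.f x m₁) = 0
      rw [← stalkMap_smul]
      constructor
      · intro h
        rw [h, map_zero]
      · intro h
        apply hinj
        rw [h, map_zero]
    · right
      refine ⟨stalkMap S.g x m₂, le_antisymm ?_ ?_⟩
      · exact (IsLocalRing.maximalIdeal.isMaximal _).isPrime.radical_le_iff.2
          (IsLocalRing.le_maximalIdeal (WeakAss.ann_ne_top h0))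
      · rw [← hm₂]
        apply Ideal.radical_mono
        intro r hr
        change r • m₂ = 0 at hr
        change r • (stalkMap S.g x m₂) = 0
        rw [← stalkMap_smul, hr, map_zero]
  · rintro x ⟨m₁, hm₁⟩
    obtain ⟨hinj, -, -⟩ := stalk_exact_of_shortExact S hS x
    refine ⟨stalkMap S.f x m₁, ?_⟩
    rw [← hm₁]
    congr 1
    ext r
    change r • (stalkMap S.f x m₁) = 0 ↔ r • m₁ = 0
    rw [← stalkMap_smul]
    constructor
    · intro h
      apply hinj
      rw [h, map_zero]
    · intro h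
      rw [h, map_zero]

end Groth.Agent.S8870
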