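import Groth.Statements.S8871
import Groth.Agent.Lib.QCoh.Helper18_SerreSk

set_option autoImplicit false
universe u
open CategoryTheory CategoryTheory.Limits AlgebraicGeometry TopologicalSpace
open SDiv

namespace Groth.Agent.S8871

/-- Let X be a locally Noetherian scheme and F a coherent O_X-module. Then F has no embedded associated
points (every associated point of F is maximal among the associated points of F under
specialization) if and only if F has property (S_1): for every point x, depth F_x ≥ min(1, dim Supp
F_x), where dim Supp F_x is the Krull dimension of the support of the O_{X,x}-module F_x (for F_x =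
0 the depth is infinite and the support empty, so the condition holds). -/
theorem result (X : Scheme.{u}) [IsLocallyNoetherian X] (F : X.Modules) (hF : Coh.IsCoh F) :
    (∀ x : ↥X, Curv2.IsAssPoint F x → ∀ y : ↥X, Curv2.IsAssPoint F y → y ⤳ x → y = x) ↔
      ∀ x : ↥X, min (1 : WithBot ℕ∞) (Module.supportDim ↑(X.presheaf.stalk x) ↑(F.presheaf.stalk x)) ≤
        ((LocCoh.depth (X.presheaf.stalk x) (F.presheaf.stalk x) : ℕ∞) : WithBot ℕ∞) := by
  have : F.IsQuasicoherent := hF.1
  have : F.IsFiniteType := hF.2
  rw [Groth.Agent.Lib.QCoh.SerreSk.noEmbedded_iff F]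
  have h1 := Groth.Agent.Lib.QCoh.SerreSk.forall_stalk_Sk_iff F 1
  rw [Nat.cast_one] at h1
  rw [h1]
  refine forall_congr' fun V => ?_
  have : IsNoetherianRing Γ(X, V.1) := IsLocallyNoetherian.component_noetherian V
  have : Module.Finite Γ(X, V.1) Γ(F, V.1) :=
    Groth.Agent.Lib.QCoh.finite_Γ_of_isAffineOpen V.2 F
  exact Groth.Agent.Lib.Helper49.Serre.hasSk_one_iff Γ(F, V.1)

end Groth.Agent.S8871
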