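import Groth.Statements.S8886
import Mathlib

set_option autoImplicit false
universe u
open CategoryTheory CategoryTheory.Limits AlgebraicGeometry TopologicalSpace
open SDiv

namespace Groth.Agent.S8886

/-- Let f : X ⟶ Y be a flat morphism of schemes with Y integral. If the scheme-theoretic fibre of f over
the generic point of Y is integral, then X is integral. -/
theorem result {X Y : Scheme.{u}} (f : X ⟶ Y) [Flat f] [IsIntegral Y]
    (h : IsIntegral (f.fiber (genericPoint ↥Y))) : IsIntegral X := by
  set η := genericPoint ↥Y with hη
  have hdom : IsDominant (Y.fromSpecResidueField η) := by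
    rw [isDominant_iff, denseRange_iff_closure_range, Scheme.range_fromSpecResidueField,
      (genericPoint_spec Y).def]
  have h1 : IsSchemeTheoreticallyDominant (Y.fromSpecResidueField η) :=
    IsSchemeTheoreticallyDominant.of_isDominant _
  have h2 : IsSchemeTheoreticallyDominant (f.fiberι η) :=
    inferInstanceAs <| IsSchemeTheoreticallyDominant (pullback.fst f (Y.fromSpecResidueField η))
  have hqc : QuasiCompact (f.fiberι η) :=
    inferInstanceAs <| QuasiCompact (pullback.fst f (Y.fromSpecResidueField η))
  have hred : IsReduced X := IsSchemeTheoreticallyDominant.isReduced (f.fiberι η)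
  have hdom2 : IsDominant (f.fiberι η) := inferInstance
  have hirr : IrreducibleSpace X := by
    rw [irreducibleSpace_def]
    have hd := hdom2.denseRange
    rw [denseRange_iff_closure_range] at hd
    rw [Set.top_eq_univ, ← hd, ← Set.image_univ]
    exact ((irreducibleSpace_def _).mp inferInstance |>.image _
      (f.fiberι η).continuous.continuousOn).closure
  exact isIntegral_of_irreducibleSpace_of_isReduced X

end Groth.Agent.S8886
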