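import Groth.Statements.S8889
import Groth.Agent.Lib.QCoh.Helper18_Ass
import Groth.Agent.Lib.QCoh.Helper50_AffineDict

set_option autoImplicit false
universe u
open CategoryTheory CategoryTheory.Limits AlgebraicGeometry TopologicalSpace
open SDiv

namespace Groth.Agent.S8889

/-- Let X be a scheme and φ : F ⟶ G a morphism of quasi-coherent O_X-modules. Assume that for every
point x of X either the stalk map F_x → G_x is injective or x is not a weakly associated point of F.
Then φ is injective. -/
theorem result (X : Scheme.{u}) {F G : X.Modules} (φ : F ⟶ G) (hF : Coh.IsQCoh F)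
    (hG : Coh.IsQCoh G)
    (h : ∀ x : ↥X, Function.Injective ((TopCat.Presheaf.stalkFunctor AddCommGrpCat.{u} x).map (Scheme.Modules.Hom.mapPresheaf φ)) ∨ ¬ Curv2.IsWeakAssPoint F x) :
    Mono φ := by
  have : F.IsQuasicoherent := hF
  rw [Groth.Agent.Lib.QCoh.mono_iff_forall_affine_injective]
  intro U
  rw [injective_iff_map_eq_zero]
  intro m hm
  by_contra hne
  obtain ⟨y, hy, hyass, hgerm⟩ :=
    Groth.Agent.Lib.QCoh.exists_isWeakAssPoint_of_section_ne_zero F U.2 m hne
  rcases h y with hinj | hnot
  · apply hgerm
    apply hinj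
    have h1 := TopCat.Presheaf.stalkFunctor_map_germ_apply (U : X.Opens) y hy
      (Scheme.Modules.Hom.mapPresheaf φ) m
    refine h1.trans ?_
    have h2 : G.presheaf.germ (U : X.Opens) y hy (φ.app (U : X.Opens) m) = 0 := by
      rw [hm, map_zero]
    exact h2.trans (map_zero _).symm
  · exact hnot hyass

end Groth.Agent.S8889
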