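import Groth.Statements.S8891
import Groth.Agent.S8890

set_option autoImplicit false
universe u
open CategoryTheory CategoryTheory.Limits AlgebraicGeometry TopologicalSpace
open SDiv

namespace Groth.Agent.S8891

/-- Let X be an integral locally Noetherian scheme and φ : F ⟶ G a morphism of quasi-coherent
O_X-modules with F coherent and G torsion free. Assume that for every point x either the stalk map
F_x → G_x is an isomorphism, or depth(F_x) ≥ 2 and x is not the generic point of X. Then φ is an
isomorphism. (The published statement allows the second alternative at the generic point as well;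
since the zero module has infinite depth, F = 0 and G = O_X then satisfy every hypothesis while 0 →
O_X is not an isomorphism. The general criterion this is a special case of requires x not to be
associated to G, which for torsion-free G ≠ 0 fails exactly at the generic point; so the generic
point is excluded from the second alternative here.) -/
theorem result (X : Scheme.{u}) [IsIntegral X] [IsLocallyNoetherian X] {F G : X.Modules}
    (φ : F ⟶ G) (hF : Coh.IsCoh F) (hG : Coh.IsQCoh G)
    (htf : ∀ x : ↥X, NoZeroSMulDivisors ↑(X.presheaf.stalk x) ↑(G.presheaf.stalk x))
    (h : ∀ x : ↥X, Function.Bijective ((TopCat.Presheaf.stalkFunctor AddCommGrpCat.{u} x).map (Scheme.Modules.Hom.mapPresheaf φ)) ∨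
      ((2 : ℕ∞) ≤ LocCoh.depth (X.presheaf.stalk x) (F.presheaf.stalk x) ∧ x ≠ genericPoint ↥X)) :
    IsIso φ := by
  apply Groth.Agent.S8890.result X φ hF hG
  intro x
  rcases h x with hb | ⟨hd, hgen⟩
  · exact Or.inl hb
  · refine Or.inr ⟨hd, ?_⟩
    intro hass
    apply hgen
    obtain ⟨hprime, g, hg⟩ := isAssociatedPrime_iff.1 hass
    have hg0 : g ≠ 0 := by
      rintro rfl
      apply hprime.ne_top
      rw [hg, Ideal.eq_top_iff_one, Submodule.mem_colon_singleton, smul_zero]
      exact Submodule.zero_mem _
    have hbot : IsLocalRing.maximalIdeal (X.presheaf.stalk x) = ⊥ := by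
      rw [eq_bot_iff]
      intro r hr
      rw [hg, Submodule.mem_colon_singleton, Submodule.mem_bot] at hr
      have := htf x
      rcases smul_eq_zero.1 hr with h0 | h0
      · exact h0
      · exact absurd h0 hg0
    -- all primes of the stalk are the closed point
    have hη : genericPoint X ⤳ x := genericPoint_specializes x
    have hmem : genericPoint X ∈ Set.range (X.fromSpecStalk x) := by
      rw [Scheme.range_fromSpecStalk]
      exact hη
    obtain ⟨q, hq⟩ := hmem
    have hqc : q = IsLocalRing.closedPoint (X.presheaf.stalk x) := by
      apply PrimeSpectrum.ext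
      change q.asIdeal = IsLocalRing.maximalIdeal (X.presheaf.stalk x)
      rw [hbot, eq_bot_iff]
      have := IsLocalRing.le_maximalIdeal q.isPrime.ne_top
      rwa [hbot] at this
    rw [hqc, Scheme.fromSpecStalk_closedPoint] at hq
    exact hq

end Groth.Agent.S8891
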