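import Groth.Statements.S8893
import Mathlib
import Groth.Agent.Lib.Helper91.QRegFlat2
import Groth.Agent.Lib.Helper91.ImmStalk

set_option autoImplicit false
universe u
open CategoryTheory CategoryTheory.Limits AlgebraicGeometry TopologicalSpace
open SDiv

namespace Groth.Agent.S8893

/-- Let f : X ⟶ S be a morphism of schemes and i : Z ⟶ X a relative quasi-regular immersion (a
quasi-regular immersion with Z flat over S). If z is a point of Z such that O_{X, i z} is
Noetherian, then f is flat at i z. -/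
theorem result {Z X S : Scheme.{u}} (f : X ⟶ S) (i : Z ⟶ X)
    (hi : RegImm.IsRelRegularImmersion RegImm.Kind.quasi f i) (z : ↥Z) [IsNoetherianRing ↑(X.presheaf.stalk (i z))] :
    (f.stalkMap (i z)).hom.Flat := by
  obtain ⟨⟨himm, hreg⟩, hflat⟩ := hi
  obtain ⟨U, hzU, hcl, rs, hq, hker⟩ := hreg z
  haveI := hcl
  haveI := himm
  have h1 := Groth.Agent.Lib.Helper91.ImmStalk.ker_stalkMap_of_restrict i U z hzU
  letI ax : Algebra Γ(X, U.1) (X.presheaf.stalk (i z)) :=
    TopCat.Presheaf.algebra_section_stalk X.presheaf ⟨i z, hzU⟩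
  haveI lx : IsLocalization.AtPrime (X.presheaf.stalk (i z))
      (U.2.primeIdealOf ⟨i z, hzU⟩).asIdeal := U.2.isLocalization_stalk ⟨_, hzU⟩
  have hq' := Groth.Agent.Lib.Helper91.QRegFlat.isQuasiRegular_of_isLocalization
    (B := X.presheaf.stalk (i z)) (U.2.primeIdealOf ⟨i z, hzU⟩).asIdeal.primeCompl rs.get hq
  have hker' : RingHom.ker (i.stalkMap z).hom = Ideal.span (Set.range fun j =>
      algebraMap Γ(X, U.1) (X.presheaf.stalk (i z)) (rs.get j)) := by
    rw [h1, hker, Ideal.ofList, Ideal.map_span]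
    congr 1
    ext y
    simp only [Set.mem_image, Set.mem_setOf_eq, Set.mem_range]
    constructor
    · rintro ⟨a, ha, rfl⟩
      obtain ⟨j, rfl⟩ := List.mem_iff_get.mp ha
      exact ⟨j, rfl⟩
    · rintro ⟨j, rfl⟩
      exact ⟨rs.get j, List.get_mem _ _, rfl⟩
  have hcomp : ((i.stalkMap z).hom.comp (f.stalkMap (i z)).hom).Flat := by
    have := AlgebraicGeometry.Flat.stalkMap (i ≫ f) z
    rw [Scheme.Hom.stalkMap_comp] at this
    exact this
  exact Groth.Agent.Lib.Helper91.QRegFlat.flat_of_quasiRegular_quot _ _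
    (i.stalkMap_surjective z) hcomp _ hq' hker'

end Groth.Agent.S8893
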