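import Groth.Statements.S8909
import Mathlib
import Groth.Agent.Lib.Helper91.PrimeDecomp2
import Groth.Agent.Lib.Helper91.EqLocus

set_option autoImplicit false
universe u
open CategoryTheory CategoryTheory.Limits AlgebraicGeometry TopologicalSpace
open SDiv

namespace Groth.Agent.S8909

/-- Let X be a Noetherian scheme and Z ⊆ X a closed subscheme with ideal sheaf 𝓩. Suppose given a family
of integral effective Cartier divisors D_i ⊆ X (ideal sheaves 𝓓_i, i ∈ I) and a closed subset Z' ⊆ X
whose irreducible components all have codimension at least 2 in X (the local ring of X at each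
maximal point of Z' has dimension ≥ 2), such that Z ⊆ Z' ∪ ⋃ D_i set-theoretically. Then there are
integers a_i ≥ 0, almost all zero, such that the effective Cartier divisor D = Σ a_i D_i (with ideal
sheaf the product of the 𝓓_i^{a_i}) is contained in Z as a closed subscheme and the inclusion D → Z
is an isomorphism outside codimension 2: for some open U ⊆ X the ideal sheaves of D and Z agree on U
and every irreducible component of Z ∖ U has codimension ≥ 2 in X. The published statement also
asserts that such D_i and Z' exist when Z is nowhere dense in X and either every local ring of X at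
a point of Z is factorial or X is regular; this row does not. -/
theorem result (X : Scheme.{u}) [IsNoetherian X] (𝓩 : X.IdealSheafData)
    {I : Type u} (𝓓 : I → X.IdealSheafData) (hD : ∀ i, BlowUp.IsEffCartierIdeal (𝓓 i)) (hDint : ∀ i, IsIntegral (𝓓 i).subscheme)
    (Z' : Set ↥X) (hZ' : IsClosed Z')
    (hcodim : ∀ z ∈ Z', (∀ y ∈ Z', y ⤳ z → y = z) → (2 : WithBot ℕ∞) ≤ ringKrullDim ↑(X.presheaf.stalk z))
    (hcover : (𝓩.support : Set ↥X) ⊆ Z' ∪ ⋃ i, ((𝓓 i).support : Set ↥X)) :
    ∃ a : I →₀ ℕ, 𝓩 ≤ a.prod (fun i n => 𝓓 i ^ n) ∧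
      ∃ U : X.Opens, (a.prod (fun i n => 𝓓 i ^ n)).comap U.ι = 𝓩.comap U.ι ∧
        ∀ z ∈ (𝓩.support : Set ↥X) \ (U : Set ↥X), (∀ y ∈ (𝓩.support : Set ↥X) \ (U : Set ↥X), y ⤳ z → y = z) →
          (2 : WithBot ℕ∞) ≤ ringKrullDim ↑(X.presheaf.stalk z) := by
  classical
  haveI : ∀ i, IsIntegral (𝓓 i).subscheme := hDint
  have hA : ∀ y ∈ Z', Order.coheight y ≠ 0 := by
    intro y hy h0
    have hmax : ∀ y' ∈ Z', y' ⤳ y → y' = y := by
      intro y' _ hsp
      by_contra hne
      have h1 := Groth.Agent.Lib.Helper91.CodimOne.coheight_add_one_le_of_specializes_ne hsp hne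
      rw [h0] at h1
      simp at h1
    have h2 := (Groth.Agent.Lib.Helper91.StalkIdeal.two_le_ringKrullDim_iff y).mp
      (hcodim y hy hmax)
    rw [h0] at h2
    exact absurd h2 (by decide)
  have hB : ∀ y ∈ Z', Order.coheight y ≠ 1 := by
    intro y hy h1
    have hmax : ∀ y' ∈ Z', y' ⤳ y → y' = y := by
      intro y' hy' hsp
      by_contra hne
      have h2 := Groth.Agent.Lib.Helper91.CodimOne.coheight_add_one_le_of_specializes_ne hsp hne
      rw [h1] at h2
      apply hA y' hy'
      have h3 : Order.coheight y' + 1 ≤ 0 + 1 := by simpa using h2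
      have h4 := (ENat.add_le_add_iff_right ENat.one_ne_top).mp h3
      exact le_antisymm h4 zero_le
    have h2 := (Groth.Agent.Lib.Helper91.StalkIdeal.two_le_ringKrullDim_iff y).mp
      (hcodim y hy hmax)
    rw [h1] at h2
    exact absurd h2 (by decide)
  have hle1 : ∀ y : X, ¬ (2 : ℕ∞) ≤ Order.coheight y → Order.coheight y ≤ 1 := by
    intro y hnot
    have hlt : Order.coheight y < 1 + 1 := by
      rw [not_le] at hnot
      have h2 : (2 : ℕ∞) = 1 + 1 := by norm_num
      rw [← h2]
      exact hnot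
    exact (ENat.lt_add_one_iff ENat.one_ne_top).mp hlt
  have hZ'2 : ∀ y ∈ Z', 2 ≤ Order.coheight y := by
    intro y hy
    by_contra hnot
    have h1 := hle1 y hnot
    apply hB y hy
    apply le_antisymm h1
    rw [Order.one_le_iff_pos, pos_iff_ne_zero]
    exact hA y hy
  have hcov : ∀ z ∈ 𝓩.support, 2 ≤ Order.coheight z ∨ ∃ i, z ∈ (𝓓 i).support := by
    intro z hz
    rcases hcover hz with h | h
    · left
      exact hZ'2 z h
    · right
      obtain ⟨i, hi⟩ := Set.mem_iUnion.mp h
      exact ⟨i, hi⟩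
  obtain ⟨J, n, hle, heq⟩ := Groth.Agent.Lib.Helper91.PrimeDecomp.exists_exponents hD hcov
  have hprod : (∑ i ∈ J, Finsupp.single i (n i)).prod (fun i n => 𝓓 i ^ n) =
      ∏ i ∈ J, 𝓓 i ^ n i := by
    rw [← Finsupp.prod_finset_sum_index]
    · apply Finset.prod_congr rfl
      intro i _
      rw [Finsupp.prod_single_index]
      exact pow_zero _
    · intro i
      exact pow_zero _
    · intro i a b
      exact pow_add _ _ _
  refine ⟨∑ i ∈ J, Finsupp.single i (n i), ?_, ?_⟩
  · rw [hprod]
    exact hle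
  · rw [hprod]
    refine ⟨⟨{x : X | Groth.Agent.Lib.Helper91.StalkIdeal.stalkIdeal 𝓩 x =
        Groth.Agent.Lib.Helper91.StalkIdeal.stalkIdeal (∏ i ∈ J, 𝓓 i ^ n i) x},
      Groth.Agent.Lib.Helper91.StalkIdeal.isOpen_eqLocus hle⟩, ?_, ?_⟩
    · apply Groth.Agent.Lib.Helper91.StalkIdeal.comap_ι_eq_of_forall
      intro x hx
      exact hx.symm
    · rintro z ⟨_, hzU⟩ _
      rw [Groth.Agent.Lib.Helper91.StalkIdeal.two_le_ringKrullDim_iff]
      by_contra hnot
      exact hzU (heq z (hle1 z hnot))

end Groth.Agent.S8909
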