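import Groth.Statements.S8913
import Groth.Agent.Lib.Helper56.FittStrictAdm

set_option autoImplicit false
universe u
open CategoryTheory CategoryTheory.Limits AlgebraicGeometry TopologicalSpace
open SDiv

namespace Groth.Agent.S8913

open Groth.Agent.Lib.Helper56.FittStrictAdm Groth.Agent.Lib.Helper56.FittStrictFree
  Groth.Agent.Lib.QCoh Groth.Agent.Lib.QCoh.FittSheaf74 in
/-- Let X be a scheme, F a finitely presented O_X-module and U ⊆ X an open subscheme which is
scheme-theoretically dense and over which F is locally free of constant finite rank r. Then: (1)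
Fit_r(F) is of finite type with support disjoint from U, so a blowing up b : X' ⟶ X of X in Fit_r(F)
is U-admissible; (2) the strict transform G of F along such b is locally free of rank r; (3) the
kernel of the surjection b^*F ⟶ G is finitely presented and restricts to zero over b⁻¹U. This row
does not assert that b^*F and the kernel are perfect of tor dimension at most one. -/
theorem result (X : Scheme.{u}) (F : X.Modules) (hF : CohB1.IsFP F)
    (U : X.Opens) (hU : CInt.IsSchematicallyDense U) (r : ℕ) (hfree : FlatMod.IsFinLocFreeOfRank r (F.restrict U.ι)) :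
    BlowUp.IsAdmissibleFor U (Fitt.sheafIdeal F r) ∧
      ∀ (X' : Scheme.{u}) (b : X' ⟶ X), BlowUp.IsBlowUp b (Fitt.sheafIdeal F r) →
        ∀ (G : X'.Modules) (π : (Scheme.Modules.pullback b).obj F ⟶ G), BlowUp.IsStrictTransform b (Fitt.sheafIdeal F r) F G π →
          FlatMod.IsFinLocFreeOfRank r G ∧ CohB1.IsFP (kernel π) ∧ IsZero ((kernel π).restrict (b ⁻¹ᵁ U).ι) := by
  have : F.IsFinitePresentation := hF
  have hdisj := disjoint_support F r U hfree
  refine ⟨⟨isFiniteTypeIdeal_sheafIdeal F r, hdisj⟩, ?_⟩
  intro X' b hb G π hG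
  have hJ0 : ∀ j < r, Fitt.sheafIdeal F j = ⊥ := fun j hj =>
    eq_bot_of_schematicallyDense _ U hU (fun x hx => by
      obtain ⟨A, hxA, hA⟩ := exists_affine_fitt_eq_bot F r U hfree x hx
      exact ⟨A, hxA, hA j hj⟩)
  have hPft : ((Scheme.Modules.pullback b).obj F).IsFiniteType := isFiniteType_pullback b F
  have hcomap := comap_sheafIdeal b F
  have hepi : Epi π := hG.1
  have hE : BlowUp.IsEffCartierIdeal (Fitt.sheafIdeal ((Scheme.Modules.pullback b).obj F) r) :=
    hcomap r ▸ hb.1
  have hker : ∀ (V : X'.affineOpens) (m : Γ((Scheme.Modules.pullback b).obj F, V.1)),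
      π.app V.1 m = 0 ↔ BlowUp.KilledByPowerNear
        (Fitt.sheafIdeal ((Scheme.Modules.pullback b).obj F) r)
        ((Scheme.Modules.pullback b).obj F) V m := by
    intro V m
    rw [← hcomap r]
    exact hG.2 V m
  have hJ : ∀ j < r, Fitt.sheafIdeal ((Scheme.Modules.pullback b).obj F) j = ⊥ := fun j hj => by
    rw [← hcomap j, hJ0 j hj, Scheme.IdealSheafData.comap_bot]
  obtain ⟨hGq, hGfree⟩ := isFinLocFreeOfRank_strict_of_fitt ((Scheme.Modules.pullback b).obj F) G r
    hE π hker hJ
  refine ⟨hGfree, ?_, ?_⟩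
  · refine isFinitePresentation_kernel ((Scheme.Modules.pullback b).obj F) G
      (isFinLocFree_of_isFinLocFreeOfRank hGfree) π (fun x => ?_)
    obtain ⟨V, hV, A, hA, -, hxA, e⟩ := exists_affine_nhds_le_preimage b x
    refine ⟨⟨A, hA⟩, hxA, ?_⟩
    letI := (b.appLE V A e).hom.toAlgebra
    have : Module.FinitePresentation Γ(X, V) Γ(F, V) := finitePresentation_Γ_of_isAffineOpen hV F
    exact Module.FinitePresentation.of_equiv
      (Groth.Agent.Lib.Helper61.QCohPullback.sectionsPullbackEquiv b F hA hV e).symm
  · refine isZero_kernel_restrict (Fitt.sheafIdeal ((Scheme.Modules.pullback b).obj F) r) hE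
      ((Scheme.Modules.pullback b).obj F) G π (fun V m hm => (hker V m).1 hm) (b ⁻¹ᵁ U) ?_
    rw [← hcomap r, Scheme.IdealSheafData.support_comap, Set.disjoint_left]
    intro x hx hxU
    exact Set.disjoint_left.1 hdisj hx hxU

end Groth.Agent.S8913
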