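import Groth.Statements.S8917
import Groth.Agent.Lib.QCoh.Helper50_OmegaBC
import Groth.Agent.Lib.QCoh.Helper74_FittComap

set_option autoImplicit false
universe u
open CategoryTheory CategoryTheory.Limits AlgebraicGeometry TopologicalSpace
open SDiv

namespace Groth.Agent.S8917

/-- Let f : X ⟶ S be locally of finite type and quasi-separated and let g : S' ⟶ S be a morphism, X' = X
×_S S' with projections g' : X' ⟶ X and f' : X' ⟶ S'. Then for every i the inverse image ideal sheaf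
under g' of the i-th Fitting ideal of Ω_{X/S} is the i-th Fitting ideal of Ω_{X'/S'}: the Fitting
subschemes of Ω are compatible with base change. The published statement does not assume f
quasi-separated; this row does, because the module Ω_{X/S} used here is defined for quasi-separated
f. -/
theorem result {X S S' : Scheme.{u}} (f : X ⟶ S) [LocallyOfFiniteType f] [QuasiSeparated f] (g : S' ⟶ S)
    (i : ℕ) :
    (Fitt.sheafIdeal (Omega.sheaf f) i).comap (pullback.fst f g) = Fitt.sheafIdeal (Omega.sheaf (pullback.snd f g)) i := by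
  have hft : (Omega.sheaf f).IsFiniteType := Groth.Agent.Lib.QCoh.OmegaFT.isFiniteType_omega f
  have hft' : (Omega.sheaf (pullback.snd f g)).IsFiniteType :=
    Groth.Agent.Lib.QCoh.OmegaFT.isFiniteType_omega (pullback.snd f g)
  rw [Groth.Agent.Lib.QCoh.FittSheaf74.comap_sheafIdeal (pullback.fst f g) (Omega.sheaf f) i]
  have hq : ((Scheme.Modules.pullback (pullback.fst f g)).obj (Omega.sheaf f)).IsQuasicoherent :=
    Groth.Agent.Lib.QCoh.isQuasicoherent_pullback _ _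
  have hft2 := Groth.Agent.Lib.QCoh.FittSheaf74.isFiniteType_pullback (pullback.fst f g)
    (Omega.sheaf f)
  let ι := {p : X.affineOpens × S.affineOpens × S'.affineOpens //
    (p.1 : X.Opens) ≤ f ⁻¹ᵁ (p.2.1 : S.Opens) ∧ (p.2.2 : S'.Opens) ≤ g ⁻¹ᵁ (p.2.1 : S.Opens)}
  apply Scheme.IdealSheafData.ext_of_iSup_eq_top
    (fun j : ι => (⟨Groth.Agent.Lib.QCoh.OmegaBC.chart f g j.1.1.1 j.1.2.2.1,
      Groth.Agent.Lib.QCoh.OmegaBC.isAffineOpen_chart f g j.1.1.2 j.1.2.1.2 j.1.2.2.2 j.2.1 j.2.2⟩ :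
      (pullback f g).affineOpens))
  · rw [eq_top_iff]
    intro x _
    obtain ⟨_, ⟨V, hV, rfl⟩, hxV, -⟩ :=
      S.isBasis_affineOpens.exists_subset_of_mem_open
        (Set.mem_univ (f (pullback.fst f g x))) isOpen_univ
    obtain ⟨_, ⟨U, hU, rfl⟩, hxU, hUV⟩ :=
      X.isBasis_affineOpens.exists_subset_of_mem_open
        (show pullback.fst f g x ∈ ((f ⁻¹ᵁ V : X.Opens) : Set X) from hxV) (f ⁻¹ᵁ V).isOpen
    have hx' : pullback.snd f g x ∈ ((g ⁻¹ᵁ V : S'.Opens) : Set S') := by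
      change g (pullback.snd f g x) ∈ V
      rw [← Scheme.Hom.comp_apply, ← pullback.condition, Scheme.Hom.comp_apply]
      exact hxV
    obtain ⟨_, ⟨V', hV', rfl⟩, hxV', hV'V⟩ :=
      S'.isBasis_affineOpens.exists_subset_of_mem_open hx' (g ⁻¹ᵁ V).isOpen
    exact TopologicalSpace.Opens.mem_iSup.2
      ⟨⟨(⟨U, hU⟩, ⟨V, hV⟩, ⟨V', hV'⟩), hUV, hV'V⟩, ⟨hxU, hxV'⟩⟩
  · rintro ⟨⟨⟨U, hU⟩, ⟨V, hV⟩, ⟨V', hV'⟩⟩, hUV, hV'V⟩
    rw [Groth.Agent.Lib.QCoh.FittSheaf74.sheafIdeal_ideal,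
      Groth.Agent.Lib.QCoh.FittSheaf74.sheafIdeal_ideal]
    obtain ⟨e⟩ := Groth.Agent.Lib.QCoh.OmegaBC.nonempty_linearEquiv_chart f g hU hV hV' hUV hV'V
    exact Groth.Agent.Lib.Helper45.Fitting.fitt_congr e i

end Groth.Agent.S8917
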