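import Groth.Statements.S8916
import Groth.Agent.S16253
import Groth.Agent.S8917
import Groth.Agent.S2757
import Groth.Agent.S0558
import Groth.Agent.S5019
import Groth.Agent.Lib.Helper21.SmFibLocus
import Groth.Agent.Lib.Helper21.FlatFibreDimField
import Groth.Agent.Lib.Helper62.SmoothStalk
import Groth.Agent.Lib.Helper73.SmoothFibreDim2
import Groth.Agent.Lib.Helper73.FibreDimGen
import Groth.Agent.Lib.Helper73.ClosedImm

set_option autoImplicit false
universe u
open CategoryTheory CategoryTheory.Limits AlgebraicGeometry TopologicalSpace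
open SDiv


section S8916helpers
set_option linter.style.haveILetI false
open CategoryTheory.Limits TopologicalSpace Opposite
namespace Groth.Agent.S8916

open Groth.Agent.Lib.QCoh Groth.Agent.Lib.Helper21.FieldDim Groth.Agent.Lib.Helper73
  Groth.Agent.Lib.Helper73.SchemeDim Groth.Agent.Lib.Helper73.SmoothFibreDim

/-- a surjection from a domain onto a ring of the same finite Krull dimension is injective. -/
theorem injective_of_surjective_of_dim_eq {R R' : Type*} [CommRing R] [IsDomain R] [CommRing R']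
    (φ : R →+* R') (hφ : Function.Surjective φ) (r : ℕ) (h1 : ringKrullDim R = r)
    (h2 : ringKrullDim R' = r) : Function.Injective φ := by
  rw [injective_iff_map_eq_zero]
  intro a ha
  by_contra hne
  have hnz : a ∈ nonZeroDivisors R := mem_nonZeroDivisors_of_ne_zero hne
  have h3 := ringKrullDim_quotient_succ_le_of_nonZeroDivisor hnz
  have h4 : ringKrullDim R' ≤ ringKrullDim (R ⧸ Ideal.span {a}) :=
    ringKrullDim_le_of_surjective (Ideal.Quotient.lift _ φ (by
      intro b hb
      obtain ⟨c, rfl⟩ := Ideal.mem_span_singleton'.mp hb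
      rw [map_mul, ha, mul_zero])) (Ideal.Quotient.lift_surjective_of_surjective _ _ hφ)
  rw [h1] at h3
  rw [h2] at h4
  have h5 : ((r : ℕ) : WithBot ℕ∞) + 1 ≤ r := le_trans (add_le_add_left h4 1) h3
  have h6 : ((r + 1 : ℕ) : WithBot ℕ∞) ≤ (r : ℕ) := by exact_mod_cast h5
  have h7 : r + 1 ≤ r := by exact_mod_cast h6
  omega

theorem eq_sub_of_add_eq {a : WithBot ℕ∞} {t d : ℕ}
    (h : a + (t : WithBot ℕ∞) = (d : WithBot ℕ∞)) : a = ((d - t : ℕ) : WithBot ℕ∞) := by
  induction a using WithBot.recBotCoe with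
  | bot => simp at h
  | coe e =>
    induction e using ENat.recTopCoe with
    | top =>
      exfalso
      have h' : ((⊤ : ℕ∞) : WithBot ℕ∞) + ((t : ℕ∞) : WithBot ℕ∞) = ((d : ℕ∞) : WithBot ℕ∞) := h
      rw [← WithBot.coe_add, WithBot.coe_inj, top_add] at h'
      exact ENat.top_ne_coe d h'
    | coe n =>
      have h' : (((n : ℕ∞)) : WithBot ℕ∞) + ((t : ℕ∞) : WithBot ℕ∞) = ((d : ℕ∞) : WithBot ℕ∞) := h
      rw [← WithBot.coe_add, WithBot.coe_inj] at h'
      have h'' : n + t = d := by exact_mod_cast h'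
      have : n = d - t := by omega
      rw [this]
      rfl

section Field

variable {k : Type u} [Field k] {Z : Scheme.{u}} (q : Z ⟶ Spec (CommRingCat.of k))

theorem smoothLocus_congr {U Y : Scheme.{u}} (h₁ h₂ : U ⟶ Y) (e : h₁ = h₂)
    [LocallyOfFinitePresentation h₁] [LocallyOfFinitePresentation h₂] :
    h₁.smoothLocus = h₂.smoothLocus := by
  subst e; rfl

theorem mem_smoothLocus_of_notMem_support [LocallyOfFinitePresentation q] [QuasiSeparated q] (d : ℕ)
    (hdim : ∀ T ∈ irreducibleComponents (Z : Type u), topologicalKrullDim ↥T = d) (z : Z)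
    (hz : z ∉ (Fitt.sheafIdeal (Omega.sheaf q) d).support) : z ∈ q.smoothLocus := by
  obtain ⟨U, U', i, g, hzU, hi, hg, hcomp⟩ := Groth.Agent.S16253.forward q d z hz
  haveI := hi
  haveI := hg
  haveI : Smooth g := SmoothOfRelativeDimension.smooth d g
  haveI : Subsingleton ↥(Spec (CommRingCat.of k)) :=
    inferInstanceAs (Subsingleton (PrimeSpectrum k))
  obtain ⟨zU, hzUdef⟩ : ∃ zU : ↥(U : Scheme.{u}), zU = ⟨z, hzU⟩ := ⟨_, rfl⟩
  have hlZ : FlatMor.localDim Z z = (d : WithBot ℕ∞) := localDim_eq_of_equidim q d hdim z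
  have hlU : FlatMor.localDim U zU = (d : WithBot ℕ∞) := by
    rw [Groth.Agent.Lib.Helper62.DimLoc.localDim_eq_of_isOpenEmbedding U.ι U.ι.isOpenEmbedding zU,
      hzUdef]
    exact hlZ
  have hlU' : FlatMor.localDim U' (i zU) = (d : WithBot ℕ∞) := by
    rw [← fibreDimAt_eq_localDim_of_subsingleton g (i zU)]
    exact fibreDimAt_eq_of_smoothOfRelativeDimension d g (i zU)
  have h1 := localDim_eq_stalk_add_td (U.ι ≫ q) zU
  have h2 := localDim_eq_stalk_add_td g (i zU)
  have htd : td (U.ι ≫ q) zU = td g (i zU) := by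
    apply td_eq_of_trdegAt_eq
    rw [← trdegAt_eq_td g (i zU)]
    unfold trdegAt
    rw [← trdeg_residueFieldMap_comp i g zU]
    exact trdeg_residueFieldMap_congr hcomp.symm zU
  rw [hlU, htd] at h1
  rw [hlU'] at h2
  have h1' := eq_sub_of_add_eq h1.symm
  have h2' := eq_sub_of_add_eq h2.symm
  haveI : IsRegularLocalRing (U'.presheaf.stalk (i zU)) :=
    Groth.Agent.Lib.Helper62.SmoothStalk.isRegularLocalRing_stalk g (i zU)
  haveI : IsDomain (U'.presheaf.stalk (i zU)) := Groth.Agent.S0558.result _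
  have hinj : Function.Injective (i.stalkMap zU).hom :=
    injective_of_surjective_of_dim_eq _ (i.stalkMap_surjective zU) _ h2' h1'
  haveI : IsIso (i.stalkMap zU) :=
    (ConcreteCategory.isIso_iff_bijective _).mpr ⟨hinj, i.stalkMap_surjective zU⟩
  have hg' : i zU ∈ g.smoothLocus := by rw [g.smoothLocus_eq_top]; trivial
  rw [Scheme.Hom.mem_smoothLocus] at hg'
  have h3 : zU ∈ (i ≫ g).smoothLocus := by
    rw [Scheme.Hom.mem_smoothLocus, Scheme.Hom.stalkMap_comp]
    exact (RingHom.FormallySmooth.respectsIso.cancel_right_isIso (g.stalkMap (i zU))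
      (i.stalkMap zU)).mpr hg'
  rw [smoothLocus_congr _ _ hcomp, ← Scheme.Hom.preimage_smoothLocus_eq] at h3
  have h4 : U.ι zU ∈ q.smoothLocus := h3
  rwa [hzUdef] at h4

theorem notMem_support_of_mem_smoothLocus [LocallyOfFinitePresentation q] [QuasiSeparated q] (d : ℕ)
    (hdim : ∀ T ∈ irreducibleComponents (Z : Type u), topologicalKrullDim ↥T = d) (z : Z)
    (hz : z ∈ q.smoothLocus) : z ∉ (Fitt.sheafIdeal (Omega.sheaf q) d).support := by
  haveI : Subsingleton ↥(Spec (CommRingCat.of k)) :=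
    inferInstanceAs (Subsingleton (PrimeSpectrum k))
  obtain ⟨U, hzU, hU⟩ := Groth.Agent.S2757.exists_smooth_nhd_of_stalkMap q z hz
  haveI := hU
  obtain ⟨W₀, hW₀, V, hV, hzV, e, hstd⟩ := Smooth.exists_isStandardSmooth (U.ι ≫ q) ⟨z, hzU⟩
  have hV₂ : IsAffineOpen (U.ι ''ᵁ V) := hV.image_of_isOpenImmersion U.ι
  have hzV₂ : z ∈ U.ι ''ᵁ V := ⟨⟨z, hzU⟩, hzV, rfl⟩
  have e₂ : U.ι ''ᵁ V ≤ q ⁻¹ᵁ W₀ := by
    rintro _ ⟨y, hy, rfl⟩
    exact e hy
  have hstd₂ : RingHom.IsStandardSmooth (q.appLE W₀ (U.ι ''ᵁ V) e₂).hom := by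
    rw [← OmegaFT.comp_ι_appLE q U W₀ V e]
    exact hstd
  letI : Algebra Γ(Spec (CommRingCat.of k), W₀) Γ(Z, U.ι ''ᵁ V) :=
    (q.appLE W₀ (U.ι ''ᵁ V) e₂).hom.toAlgebra
  have hstd' : Algebra.IsStandardSmooth Γ(Spec (CommRingCat.of k), W₀) Γ(Z, U.ι ''ᵁ V) := hstd₂
  obtain ⟨ι, σ, _, _, ⟨P⟩⟩ := hstd'.out
  have hrel : SmoothOfRelDimAt P.dimension q z :=
    ⟨W₀, hW₀, U.ι ''ᵁ V, hV₂, hzV₂, e₂, ⟨ι, σ, inferInstance, inferInstance, P, rfl⟩⟩
  have hfd := fibreDimAt_eq_of_smoothOfRelDimAt P.dimension q z hrel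
  rw [fibreDimAt_eq_localDim_of_subsingleton q z, localDim_eq_of_equidim q d hdim z] at hfd
  have hPd : d = P.dimension := by exact_mod_cast hfd
  have hstd_d : RingHom.IsStandardSmoothOfRelativeDimension d (q.appLE W₀ (U.ι ''ᵁ V) e₂).hom :=
    ⟨ι, σ, inferInstance, inferInstance, P, hPd.symm⟩
  haveI := Groth.Agent.S5019.smoothOfRelDim_chart q d hW₀ hV₂ e₂ hstd_d
  exact Groth.Agent.S16253.backward q d z (U.ι ''ᵁ V) _ (𝟙 _) ((U.ι ''ᵁ V).ι ≫ q) hzV₂
    (Category.id_comp _)

end Field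

theorem main {X S : Scheme.{u}} (f : X ⟶ S) [Flat f] [LocallyOfFinitePresentation f] [QuasiSeparated f]
    (d : ℕ) (hdim : ∀ s : ↥S, ∀ T ∈ irreducibleComponents ↥(f.fiber s), topologicalKrullDim ↥T = d)
    (x : ↥X) :
    x ∈ (Fitt.sheafIdeal (Omega.sheaf f) d).support ↔
      ¬ ∃ U : X.Opens, x ∈ U ∧ Smooth (U.ι ≫ f) := by
  haveI : LocallyOfFinitePresentation (f.fiberToSpecResidueField (f x)) :=
    inferInstanceAs (LocallyOfFinitePresentation (pullback.snd f _))
  haveI : QuasiSeparated (f.fiberToSpecResidueField (f x)) :=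
    inferInstanceAs (QuasiSeparated (pullback.snd f _))
  have hA : x ∈ (Fitt.sheafIdeal (Omega.sheaf f) d).support ↔
      f.asFiber x ∈ (Fitt.sheafIdeal (Omega.sheaf (f.fiberToSpecResidueField (f x))) d).support := by
    have h := Groth.Agent.S8917.result f (S.fromSpecResidueField (f x)) d
    change _ ↔ f.asFiber x ∈
      (Fitt.sheafIdeal (Omega.sheaf (pullback.snd f (S.fromSpecResidueField (f x)))) d).support
    rw [← h, Scheme.IdealSheafData.support_comap]
    change _ ↔ (f.fiberι (f x)) (f.asFiber x) ∈ (Fitt.sheafIdeal (Omega.sheaf f) d).support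
    rw [f.fiberι_asFiber x]
  have hB : (∃ U : X.Opens, x ∈ U ∧ Smooth (U.ι ≫ f)) ↔
      f.asFiber x ∈ (f.fiberToSpecResidueField (f x)).smoothLocus := by
    have h1 : (∃ U : X.Opens, x ∈ U ∧ Smooth (U.ι ≫ f)) ↔ x ∈ f.smoothLocus := by
      constructor
      · rintro ⟨U, hxU, hU⟩
        haveI := hU
        exact (Groth.Agent.S2757.stalkMap_of_smooth_nhd f x U hxU).2
      · intro h
        exact Groth.Agent.S2757.exists_smooth_nhd_of_stalkMap f x h
    rw [h1]
    have h2 := Groth.Agent.Lib.Helper21.SmFibLocus.smFib_eq_of_flat f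
    change x ∈ (f.smoothLocus : Set X) ↔ _
    rw [← h2]
    rfl
  rw [hA, hB]
  constructor
  · intro h1 h2
    exact notMem_support_of_mem_smoothLocus (k := S.residueField (f x))
      (f.fiberToSpecResidueField (f x)) d (hdim (f x)) _ h2 h1
  · intro h1
    by_contra h2
    exact h1 (mem_smoothLocus_of_notMem_support (k := S.residueField (f x))
      (f.fiberToSpecResidueField (f x)) d (hdim (f x)) _ h2)

end Groth.Agent.S8916
end S8916helpers

namespace Groth.Agent.S8916

/-- Let f : X ⟶ S be flat, locally of finite presentation and quasi-separated, and d ≥ 0 such that all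
irreducible components of each nonempty fibre of f have dimension d. Then the closed subset of X
defined by the Fitting ideal Fit_d(Ω_{X/S}) is exactly the set of points at which f is not smooth,
i.e. which have no open neighbourhood on which f is smooth. The published statement does not assume
f quasi-separated; this row does, because the module Ω_{X/S} used here is defined for
quasi-separated f. -/
theorem result {X S : Scheme.{u}} (f : X ⟶ S) [Flat f] [LocallyOfFinitePresentation f] [QuasiSeparated f]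
    (d : ℕ) (hdim : ∀ s : ↥S, ∀ T ∈ irreducibleComponents ↥(f.fiber s), topologicalKrullDim ↥T = d) (x : ↥X) :
    x ∈ (Fitt.sheafIdeal (Omega.sheaf f) d).support ↔ ¬ ∃ U : X.Opens, x ∈ U ∧ Smooth (U.ι ≫ f) := by
  exact main f d hdim x

end Groth.Agent.S8916
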