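import Groth.Statements.S8924
-- import your own Groth.Agent.* helpers here

set_option autoImplicit false
universe u v
open InjHull

namespace Groth.Agent.S8924

/-- For a submodule M of an R-module N, the inclusion of M into N is an essential injection if and only
if every nonzero element x of N has a multiple f • x which is a nonzero element of M. -/
theorem result (R : Type u) [CommRing R] (N : Type v) [AddCommGroup N] [Module R N] (M : Submodule R N) : InjHull.IsEssentialInj M.subtype ↔ ∀ x : N, x ≠ 0 → ∃ f : R, f • x ∈ M ∧ f • x ≠ 0 := by
  constructor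
  · intro h x hx
    have hne : Submodule.span R {x} ≠ ⊥ := by
      intro h0
      apply hx
      have : x ∈ Submodule.span R {x} := Submodule.mem_span_singleton_self x
      rw [h0] at this
      exact (Submodule.mem_bot R).mp this
    have := h.essential _ hne
    rw [Submodule.ne_bot_iff] at this
    obtain ⟨z, hz, hz0⟩ := this
    rw [Submodule.mem_inf, Submodule.range_subtype] at hz
    obtain ⟨f, rfl⟩ := Submodule.mem_span_singleton.mp hz.1
    exact ⟨f, hz.2, hz0⟩
  · intro h
    refine ⟨M.injective_subtype, ?_⟩
    intro N' hN'
    rw [Submodule.ne_bot_iff] at hN' ⊢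
    obtain ⟨x, hx, hx0⟩ := hN'
    obtain ⟨f, hf, hf0⟩ := h x hx0
    refine ⟨f • x, ?_, hf0⟩
    rw [Submodule.mem_inf, Submodule.range_subtype]
    exact ⟨N'.smul_mem f hx, hf⟩

end Groth.Agent.S8924
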