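import Groth.Statements.S8926
-- import your own Groth.Agent.* helpers here

set_option autoImplicit false
universe u
open InjHull

namespace Groth.Agent.S8926

open TensorProduct in
theorem linear_of_isEpi (R S : Type u) [CommRing R] [CommRing S] [Algebra R S] [Algebra.IsEpi R S]
    {Y E : Type u} [AddCommGroup Y] [Module S Y] [Module R Y] [IsScalarTower R S Y]
    [AddCommGroup E] [Module S E] [Module R E] [IsScalarTower R S E]
    (h : Y →ₗ[R] E) (s : S) (y : Y) : h (s • y) = s • h y := by
  let β : S →ₗ[R] S →ₗ[R] E :=
    LinearMap.mk₂ R (fun a b => a • h (b • y))
      (fun a a' b => by simp [add_smul])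
      (fun r a b => by simp [smul_assoc])
      (fun a b b' => by simp [add_smul, smul_add])
      (fun r a b => by
        simp only [smul_assoc, map_smul]
        exact smul_comm a r (h (b • y)))
  have key := congrArg (TensorProduct.lift β)
    ((Algebra.isEpi_iff_forall_one_tmul_eq R S).mp inferInstance s)
  simpa [β] using key


/-- Suppose R → S is an epimorphism of rings and E is an S-module whose underlying R-module (via
restriction of scalars) is injective; then E is injective as an S-module as well. -/
theorem result (R S : Type u) [CommRing R] [CommRing S] [Algebra R S] [Algebra.IsEpi R S] (E : Type u) [AddCommGroup E] [Module S E] [Module R E] [IsScalarTower R S E] [Module.Injective R E] : Module.Injective S E := by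
  constructor
  intro X Y _ _ _ _ f hf g
  letI : Module R X := Module.compHom X (algebraMap R S)
  letI : Module R Y := Module.compHom Y (algebraMap R S)
  haveI : IsScalarTower R S X := ⟨fun r s x => by
    change (r • s) • x = algebraMap R S r • (s • x)
    rw [Algebra.smul_def, mul_smul]⟩
  haveI : IsScalarTower R S Y := ⟨fun r s x => by
    change (r • s) • x = algebraMap R S r • (s • x)
    rw [Algebra.smul_def, mul_smul]⟩
  obtain ⟨h, hh⟩ := Module.Injective.out (R := R) (Q := E) (f.restrictScalars R) hf
    (g.restrictScalars R)
  refine ⟨{ toFun := h, map_add' := h.map_add, map_smul' := ?_ }, ?_⟩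
  · intro s y
    exact linear_of_isEpi R S h s y
  · intro x
    exact hh x

end Groth.Agent.S8926
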