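import Groth.Statements.S8928
import Mathlib.RingTheory.Flat.Localization
import Mathlib.RingTheory.Flat.Stability
import Mathlib.RingTheory.Localization.BaseChange
import Mathlib.RingTheory.Localization.LocalizationLocalization

set_option autoImplicit false
universe u
open scoped TensorProduct
open Disc

namespace Groth.Agent.S8928

theorem flat_atPrime (A B : Type u) [CommRing A] [CommRing B] [Algebra A B]
    (h2 : Module.Flat (FractionRing A) (FractionRing A ⊗[A] B))
    (q : Ideal B) [q.IsPrime]
    (hq : Algebra.algebraMapSubmonoid B (nonZeroDivisors A) ≤ q.primeCompl) :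
    Module.Flat A (Localization.AtPrime q) := by
  let K := FractionRing A
  let M := K ⊗[A] B
  let Bq := Localization.AtPrime q
  letI : Algebra B M := Algebra.TensorProduct.rightAlgebra
  haveI : IsLocalization (Algebra.algebraMapSubmonoid B (nonZeroDivisors A)) M :=
    IsLocalization.tensorRight (R := A) (S := B) K (nonZeroDivisors A)
  have hunit : ∀ y : Algebra.algebraMapSubmonoid B (nonZeroDivisors A),
      IsUnit (algebraMap B Bq y) := fun y =>
    IsLocalization.map_units Bq (⟨y.1, hq y.2⟩ : q.primeCompl)
  let ψ : M →+* Bq := IsLocalization.lift (M := Algebra.algebraMapSubmonoid B (nonZeroDivisors A))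
    (g := algebraMap B Bq) hunit
  letI : Algebra M Bq := ψ.toAlgebra
  haveI : IsScalarTower B M Bq := IsScalarTower.of_algebraMap_eq
    (fun x => (IsLocalization.lift_eq hunit x).symm)
  haveI : IsLocalization (q.primeCompl.map (algebraMap B M)) Bq :=
    IsLocalization.isLocalization_of_submonoid_le M Bq
      (Algebra.algebraMapSubmonoid B (nonZeroDivisors A)) q.primeCompl hq
  haveI : Module.Flat M Bq := IsLocalization.flat Bq (q.primeCompl.map (algebraMap B M))
  letI : Module K Bq := Module.compHom Bq (algebraMap K M)
  haveI : IsScalarTower K M Bq := ⟨fun k m x => by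
    change (k • m) • x = (algebraMap K M k) • (m • x)
    rw [Algebra.smul_def k m]
    exact mul_smul (algebraMap K M k) m x⟩
  haveI : Module.Flat K M := h2
  haveI : Module.Flat K Bq := Module.Flat.trans K M Bq
  haveI : IsScalarTower A K Bq := ⟨fun a k x => by
    change (algebraMap K M (a • k)) • x = a • ((algebraMap K M k) • x)
    have e1 : algebraMap K M (a • k) = algebraMap B M (algebraMap A B a) * algebraMap K M k := by
      rw [Algebra.TensorProduct.algebraMap_apply]
      change (a • k) ⊗ₜ[A] (1 : B) = ((1 : K) ⊗ₜ[A] (algebraMap A B a)) * (k ⊗ₜ[A] (1 : B))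
      rw [Algebra.TensorProduct.tmul_mul_tmul, one_mul, mul_one, TensorProduct.smul_tmul,
        Algebra.smul_def, mul_one]
    rw [e1]
    refine (mul_smul (algebraMap B M (algebraMap A B a)) (algebraMap K M k) x).trans ?_
    rw [IsScalarTower.algebraMap_smul, IsScalarTower.algebraMap_smul]⟩
  exact Module.Flat.trans A K Bq


/-- Let A → B be a map of Noetherian rings such that nonzerodivisors of A map to nonzerodivisors of B
and Q(A) ⊗_A B is flat over the total ring of fractions Q(A). Then B_q is flat over A for every
associated prime q of B and for every prime q of B lying over an associated prime of A. -/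
theorem result (A B : Type u) [CommRing A] [CommRing B] [IsNoetherianRing A] [IsNoetherianRing B] [Algebra A B] (h1 : nonZeroDivisors A ≤ (nonZeroDivisors B).comap (algebraMap A B)) (h2 : Module.Flat (FractionRing A) (FractionRing A ⊗[A] B)) : (∀ (q : Ideal B) [q.IsPrime], IsAssociatedPrime q B → Module.Flat A (Localization.AtPrime q)) ∧ (∀ (q : Ideal B) [q.IsPrime], IsAssociatedPrime (q.comap (algebraMap A B)) A → Module.Flat A (Localization.AtPrime q)) := by
  constructor
  · intro q _ hq
    apply flat_atPrime A B h2 q
    rintro _ ⟨a, ha, rfl⟩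
    intro hmem
    -- algebraMap a ∈ q, q associated => zero divisor
    have hzd : algebraMap A B a ∈ ((nonZeroDivisors B : Set B))ᶜ := by
      rw [← biUnion_associatedPrimes_eq_compl_nonZeroDivisors B]
      simp only [Set.mem_iUnion]
      exact ⟨q, hq, hmem⟩
    exact hzd (h1 ha)
  · intro q _ hq
    apply flat_atPrime A B h2 q
    rintro _ ⟨a, ha, rfl⟩
    intro hmem
    have hzd : a ∈ ((nonZeroDivisors A : Set A))ᶜ := by
      rw [← biUnion_associatedPrimes_eq_compl_nonZeroDivisors A]
      simp only [Set.mem_iUnion]
      exact ⟨q.comap (algebraMap A B), hq, hmem⟩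
    exact hzd ha

end Groth.Agent.S8928
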