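import Groth.Statements.S8929
import Mathlib.RingTheory.Flat.Localization
import Mathlib.RingTheory.Flat.Stability
import Mathlib.RingTheory.Localization.BaseChange
import Mathlib.RingTheory.Localization.LocalizationLocalization
import Mathlib.RingTheory.Localization.Ideal
import Mathlib.RingTheory.Ideal.AssociatedPrime.Finiteness

set_option autoImplicit false
universe u
open scoped TensorProduct
open Disc

namespace Groth.Agent.S8929

attribute [local instance] Algebra.TensorProduct.rightAlgebra

theorem mem_ass_union_iff (A : Type u) [CommRing A] [IsNoetherianRing A] (a : A) :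
    (∃ p ∈ associatedPrimes A A, a ∈ p) ↔ a ∉ nonZeroDivisors A := by
  have := biUnion_associatedPrimes_eq_compl_nonZeroDivisors A
  have h2 : a ∈ (⋃ p ∈ associatedPrimes A A, (p : Set A)) ↔ a ∈ ((nonZeroDivisors A : Set A))ᶜ := by
    rw [this]
  simp only [Set.mem_iUnion, SetLike.mem_coe, exists_prop] at h2
  exact h2

/-- a maximal ideal of `Q(A) ⊗ B` contracts to a prime of `B` lying over an associated prime of `A`. -/
theorem lies_over_ass (A B : Type u) [CommRing A] [CommRing B] [IsNoetherianRing A]
    [Algebra A B] [Algebra.HasGoingUp A B]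
    (P : Ideal (FractionRing A ⊗[A] B)) [hPmax : P.IsMaximal] :
    IsAssociatedPrime ((P.comap (algebraMap B (FractionRing A ⊗[A] B))).comap (algebraMap A B)) A := by
  classical
  let K := FractionRing A
  let M := K ⊗[A] B
  let S' := Algebra.algebraMapSubmonoid B (nonZeroDivisors A)
  haveI : IsLocalization S' M := IsLocalization.tensorRight (R := A) (S := B) K (nonZeroDivisors A)
  haveI hPprime : P.IsPrime := hPmax.isPrime
  let q : Ideal B := P.comap (algebraMap B M)
  haveI hq : q.IsPrime := Ideal.comap_isPrime _ _
  have hdisj : Disjoint (S' : Set B) (q : Set B) :=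
    ((IsLocalization.isPrime_iff_isPrime_disjoint S' M P).mp hPprime).2
  let p₀ : Ideal A := q.comap (algebraMap A B)
  -- p₀ is contained in the union of associated primes
  have hsub : (p₀ : Set A) ⊆ ⋃ p ∈ ((associatedPrimes.finite A A).toFinset : Set (Ideal A)), (p : Set A) := by
    intro a ha
    have hnz : a ∉ nonZeroDivisors A := by
      intro hnz
      have h1 : algebraMap A B a ∈ (S' : Set B) := ⟨a, hnz, rfl⟩
      have h2 : algebraMap A B a ∈ (q : Set B) := ha
      exact Set.disjoint_left.mp hdisj h1 h2
    obtain ⟨p, hp, hap⟩ := (mem_ass_union_iff A a).mpr hnz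
    simp only [Set.mem_iUnion, SetLike.mem_coe, exists_prop]
    exact ⟨p, by simpa using hp, hap⟩
  obtain ⟨p, hp, hle⟩ := (Ideal.subset_union_prime (f := fun p : Ideal A => p) ⊥ ⊥ (by
    intro i hi _ _
    have : i ∈ associatedPrimes A A := by simpa using hi
    exact this.isPrime)).mp hsub
  have hpass : p ∈ associatedPrimes A A := by simpa using hp
  haveI : p.IsPrime := hpass.isPrime
  haveI : q.LiesOver p₀ := ⟨rfl⟩
  obtain ⟨Q, hqQ, hQprime, hQover⟩ := Ideal.exists_ideal_ge_liesOver_of_le (p := p₀) (q := p) q hle
  have hQp : Q.comap (algebraMap A B) = p := (hQover.over).symm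
  have hdisjQ : Disjoint (S' : Set B) (Q : Set B) := by
    rw [Set.disjoint_left]
    rintro _ ⟨a, ha, rfl⟩ hmem
    have hap : a ∈ p := by rw [← hQp]; exact hmem
    exact ((mem_ass_union_iff A a).mp ⟨p, hpass, hap⟩) ha
  have hP'prime : (Q.map (algebraMap B M)).IsPrime :=
    IsLocalization.isPrime_of_isPrime_disjoint S' M Q hQprime hdisjQ
  have hcomap : (Q.map (algebraMap B M)).comap (algebraMap B M) = Q :=
    IsLocalization.under_map_of_isPrime_disjoint S' M hQprime hdisjQ
  have hPle : P ≤ Q.map (algebraMap B M) := by
    have : P = q.map (algebraMap B M) := (IsLocalization.map_under S' M P).symm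
    rw [this]
    exact Ideal.map_mono hqQ
  have hPeq : P = Q.map (algebraMap B M) := hPmax.eq_of_le hP'prime.ne_top hPle
  have hqQ' : q = Q := by
    change P.comap (algebraMap B M) = Q
    rw [hPeq, hcomap]
  change IsAssociatedPrime (q.comap (algebraMap A B)) A
  rw [hqQ', hQp]
  exact hpass


/-- Let A → B be a map of Noetherian rings with the going-up property. If B_q is flat over A for every
associated prime q of B and for every prime q of B lying over an associated prime of A, then Q(A)
⊗_A B is flat over the total ring of fractions Q(A). -/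
theorem result (A B : Type u) [CommRing A] [CommRing B] [IsNoetherianRing A] [IsNoetherianRing B] [Algebra A B] [Algebra.HasGoingUp A B] (h3 : ∀ (q : Ideal B) [q.IsPrime], IsAssociatedPrime q B → Module.Flat A (Localization.AtPrime q)) (h4 : ∀ (q : Ideal B) [q.IsPrime], IsAssociatedPrime (q.comap (algebraMap A B)) A → Module.Flat A (Localization.AtPrime q)) : Module.Flat (FractionRing A) (FractionRing A ⊗[A] B) := by
  classical
  let K := FractionRing A
  let M := K ⊗[A] B
  let S' := Algebra.algebraMapSubmonoid B (nonZeroDivisors A)
  haveI : IsLocalization S' M := IsLocalization.tensorRight (R := A) (S := B) K (nonZeroDivisors A)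
  have hAB : ∀ a : A, algebraMap A M a = algebraMap B M (algebraMap A B a) := by
    intro a
    rw [Algebra.TensorProduct.algebraMap_apply]
    change (algebraMap A K a) ⊗ₜ[A] (1 : B) = (1 : K) ⊗ₜ[A] (algebraMap A B a)
    rw [Algebra.algebraMap_eq_smul_one, TensorProduct.smul_tmul, Algebra.algebraMap_eq_smul_one]
  haveI : IsScalarTower A B M := IsScalarTower.of_algebraMap_eq hAB
  -- reduce to flatness over A
  rw [Module.flat_iff_of_isLocalization (R := A) (S := K) (nonZeroDivisors A) M]
  -- localize at maximal ideals of the ring M
  refine Module.flat_of_isLocalized_maximal (R := A) M M (fun P _ => Localization.AtPrime P)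
    (fun P _ => Algebra.linearMap M (Localization.AtPrime P)) ?_
  intro P hP
  haveI : P.IsPrime := hP.isPrime
  let q : Ideal B := P.comap (algebraMap B M)
  haveI hq : q.IsPrime := Ideal.comap_isPrime _ _
  have hass := lies_over_ass A B P
  haveI hflat : Module.Flat A (Localization.AtPrime q) := h4 q hass
  let T := Localization.AtPrime P
  haveI : IsLocalization.AtPrime T q :=
    IsLocalization.isLocalization_isLocalization_atPrime_isLocalization S' T P
  let e : Localization.AtPrime q ≃ₐ[B] T := IsLocalization.algEquiv q.primeCompl _ _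
  exact Module.Flat.of_linearEquiv (e.restrictScalars A).toLinearEquiv.symm

end Groth.Agent.S8929
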