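import Groth.Statements.S8930
import Mathlib

set_option autoImplicit false
universe u
open AlgebraicGeometry
open Disc

namespace Groth.Agent.S8930
open AlgebraicGeometry CategoryTheory
set_option linter.style.haveILetI false

theorem key {B' B : Type u} [CommRing B'] [CommRing B] (φ : B' →+* B)
    [h : IsOpenImmersion (Spec.map (CommRingCat.ofHom φ))] (b' : B')
    (hb' : (PrimeSpectrum.basicOpen b' : (Spec (CommRingCat.of B')).Opens) ≤
      (Spec.map (CommRingCat.ofHom φ)).opensRange)
    (b : B) : ∃ (N : ℕ) (y : B'), φ b' ^ N * b = φ y := by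
  set X := Spec (CommRingCat.of B') with hX
  set X' := Spec (CommRingCat.of B) with hX'
  set j : X' ⟶ X := Spec.map (CommRingCat.ofHom φ) with hj
  set r : Γ(X, ⊤) := (Scheme.ΓSpecIso (CommRingCat.of B')).inv b' with hr
  have hV : X.basicOpen r ≤ j.opensRange := by
    rw [hr, basicOpen_eq_of_affine]; exact hb'
  have hiso := j.isIso_app (X.basicOpen r) hV
  have hbij := ConcreteCategory.bijective_of_isIso (j.app (X.basicOpen r))
  set r' : Γ(X', ⊤) := j.appTop r with hr'
  have hpre : j ⁻¹ᵁ X.basicOpen r = X'.basicOpen r' := Scheme.preimage_basicOpen j r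
  set β : Γ(X', ⊤) := (Scheme.ΓSpecIso (CommRingCat.of B)).inv b with hβ
  obtain ⟨σ, hσ⟩ := hbij.2 (X'.presheaf.map (homOfLE (le_top : j ⁻¹ᵁ X.basicOpen r ≤ ⊤)).op β)
  haveI := (isAffineOpen_top X).isLocalization_basicOpen r
  obtain ⟨n, a, hna⟩ := IsLocalization.Away.surj r σ
  -- apply j.app V
  have h1 := congrArg (j.app (X.basicOpen r)).hom hna
  rw [map_mul, map_pow] at h1
  have hnat : ∀ z : Γ(X, ⊤), (j.app (X.basicOpen r)).hom (algebraMap Γ(X, ⊤) Γ(X, X.basicOpen r) z) =
      X'.presheaf.map (homOfLE (le_top : j ⁻¹ᵁ X.basicOpen r ≤ ⊤)).op (j.appTop z) := by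
    intro z
    have := j.naturality (homOfLE (X.basicOpen_le r)).op
    exact ConcreteCategory.congr_hom this z
  rw [hnat, hnat] at h1
  change (j.app (X.basicOpen r)) σ * _ = _ at h1
  rw [hσ, ← map_pow, ← map_mul, ← sub_eq_zero, ← map_sub] at h1
  -- restrict to basicOpen r'
  have h2 : X'.presheaf.map (homOfLE (X'.basicOpen_le r')).op (β * r' ^ n - j.appTop a) = 0 := by
    have e : (homOfLE (X'.basicOpen_le r')).op =
        (homOfLE (le_top : j ⁻¹ᵁ X.basicOpen r ≤ ⊤)).op ≫ (eqToHom hpre.symm).op := rfl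
    rw [e, Functor.map_comp, CommRingCat.comp_apply, h1, map_zero]
  obtain ⟨k, hk⟩ := exists_pow_mul_eq_zero_of_res_basicOpen_eq_zero_of_isAffineOpen X'
    (isAffineOpen_top X') (β * r' ^ n - j.appTop a) r' h2
  have h3 := congrArg (Scheme.ΓSpecIso (CommRingCat.of B)).hom.hom hk
  have hnatΓ : ∀ z : Γ(X, ⊤), (Scheme.ΓSpecIso (CommRingCat.of B)).hom (j.appTop z) =
      φ ((Scheme.ΓSpecIso (CommRingCat.of B')).hom z) := by
    intro z
    have := Scheme.ΓSpecIso_naturality (CommRingCat.ofHom φ)
    exact ConcreteCategory.congr_hom this z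
  have hr'b : (Scheme.ΓSpecIso (CommRingCat.of B)).hom r' = φ b' := by
    rw [hr', hnatΓ, hr]
    simp
  have hβb : (Scheme.ΓSpecIso (CommRingCat.of B)).hom β = b := by
    rw [hβ]; simp
  rw [map_zero, map_mul, map_pow, map_sub, map_mul, map_pow] at h3
  change (Scheme.ΓSpecIso (CommRingCat.of B)).hom r' ^ k *
    ((Scheme.ΓSpecIso (CommRingCat.of B)).hom β * (Scheme.ΓSpecIso (CommRingCat.of B)).hom r' ^ n -
      (Scheme.ΓSpecIso (CommRingCat.of B)).hom (j.appTop a)) = 0 at h3
  rw [hr'b, hβb, hnatΓ] at h3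
  refine ⟨k + n, b' ^ k * (Scheme.ΓSpecIso (CommRingCat.of B')).hom a, ?_⟩
  rw [map_mul, map_pow, pow_add]
  linear_combination h3


/-- if `C ⊆ B` contains the image of `B'`, `Spec B → Spec B'` is an open immersion whose image
contains `D(b')`, then `B_t` (`t` the image of `b'`) is the localization of `C` at the image of `b'`. -/
theorem away_of_key {B' B C : Type u} [CommRing B'] [CommRing B] [CommRing C]
    (χ : B' →+* C) (ψ : C →+* B) (hψ : Function.Injective ψ)
    [h : IsOpenImmersion (Spec.map (CommRingCat.ofHom (ψ.comp χ)))] (b' : B')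
    (hb' : (PrimeSpectrum.basicOpen b' : (Spec (CommRingCat.of B')).Opens) ≤
      (Spec.map (CommRingCat.ofHom (ψ.comp χ))).opensRange) :
    letI : Algebra C (Localization.Away (ψ (χ b'))) :=
      ((algebraMap B (Localization.Away (ψ (χ b')))).comp ψ).toAlgebra
    IsLocalization.Away (χ b') (Localization.Away (ψ (χ b'))) := by
  letI : Algebra C (Localization.Away (ψ (χ b'))) :=
    ((algebraMap B (Localization.Away (ψ (χ b')))).comp ψ).toAlgebra
  have halg : ∀ c : C, algebraMap C (Localization.Away (ψ (χ b'))) c =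
      algebraMap B (Localization.Away (ψ (χ b'))) (ψ c) := fun c => rfl
  have hunit : IsUnit (algebraMap B (Localization.Away (ψ (χ b'))) (ψ (χ b'))) :=
    IsLocalization.Away.algebraMap_isUnit _
  refine ⟨?_, ?_, ?_⟩
  · rintro ⟨_, n, rfl⟩
    change IsUnit (algebraMap C (Localization.Away (ψ (χ b'))) (χ b' ^ n))
    rw [halg, map_pow, map_pow]
    exact hunit.pow n
  · intro z
    obtain ⟨n, b₀, hnb⟩ := IsLocalization.Away.surj (ψ (χ b')) z
    obtain ⟨N, y, hNy⟩ := key (ψ.comp χ) b' hb' b₀
    refine ⟨(χ y, ⟨χ b' ^ (n + N), n + N, rfl⟩), ?_⟩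
    change z * algebraMap C (Localization.Away (ψ (χ b'))) (χ b' ^ (n + N)) =
      algebraMap C (Localization.Away (ψ (χ b'))) (χ y)
    rw [halg, halg, map_pow, map_pow, pow_add, ← mul_assoc, hnb]
    have : ψ (χ y) = ψ (χ b') ^ N * b₀ := hNy.symm
    rw [this, map_mul, map_pow, mul_comm]
  · intro x y hxy
    rw [halg, halg] at hxy
    obtain ⟨⟨_, k, rfl⟩, hk⟩ := (IsLocalization.eq_iff_exists (Submonoid.powers (ψ (χ b')))
      (Localization.Away (ψ (χ b')))).mp hxy
    refine ⟨⟨χ b' ^ k, k, rfl⟩, ?_⟩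
    apply hψ
    change ψ (χ b' ^ k * x) = ψ (χ b' ^ k * y)
    rw [map_mul, map_mul, map_pow]
    exact hk


theorem main (A B B' B'' : Type u) [CommRing A] [CommRing B] [CommRing B'] [CommRing B''] [Algebra A B] [Algebra A B'] [Algebra A B''] [Algebra B' B] [Algebra B'' B] [IsScalarTower A B' B] [IsScalarTower A B'' B] [Module.Finite A B'] [Module.Finite A B''] (h' : IsOpenImmersion (Spec.map (CommRingCat.ofHom (algebraMap B' B)))) : ∃ C : Subalgebra A B, Module.Finite A C ∧ Set.range (algebraMap B' B) ⊆ (C : Set B) ∧ Set.range (algebraMap B'' B) ⊆ (C : Set B) ∧ IsOpenImmersion (Spec.map (CommRingCat.ofHom C.val.toRingHom)) := by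

  classical
  let f' : B' →ₐ[A] B := IsScalarTower.toAlgHom A B' B
  let f'' : B'' →ₐ[A] B := IsScalarTower.toAlgHom A B'' B
  let C : Subalgebra A B := f'.range ⊔ f''.range
  haveI : Module.Finite A f'.range := Module.Finite.of_surjective f'.rangeRestrict.toLinearMap
    f'.rangeRestrict_surjective
  haveI : Module.Finite A f''.range := Module.Finite.of_surjective f''.rangeRestrict.toLinearMap
    f''.rangeRestrict_surjective
  have hC' : ∀ x : B', algebraMap B' B x ∈ C := fun x =>
    (le_sup_left : f'.range ≤ C) ⟨x, rfl⟩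
  refine ⟨C, Subalgebra.finite_sup _ _, ?_, ?_, ?_⟩
  · rintro _ ⟨x, rfl⟩
    exact hC' x
  · rintro _ ⟨x, rfl⟩
    exact (le_sup_right : f''.range ≤ C) ⟨x, rfl⟩
  · let ψ : C →+* B := C.val.toRingHom
    let χ : B' →+* C := (f'.codRestrict C hC').toRingHom
    have hψ : Function.Injective ψ := Subtype.val_injective
    have hcomp : ψ.comp χ = algebraMap B' B := rfl
    haveI hOI : IsOpenImmersion (Spec.map (CommRingCat.ofHom (ψ.comp χ))) := by
      rw [hcomp]; exact h'
    have hFG : Spec.map (CommRingCat.ofHom ψ) ≫ Spec.map (CommRingCat.ofHom χ) =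
        Spec.map (CommRingCat.ofHom (ψ.comp χ)) := by
      rw [← Spec.map_comp]; rfl
    apply IsOpenImmersion.of_forall_source_exists
    · have h1 : Function.Injective (Spec.map (CommRingCat.ofHom ψ) ≫ Spec.map (CommRingCat.ofHom χ)) := by
        rw [hFG]; exact Scheme.Hom.injective _
      intro x y hxy
      apply h1
      simp only [Scheme.Hom.comp_apply, hxy]
    · intro x
      have hx : (Spec.map (CommRingCat.ofHom (ψ.comp χ))) x ∈
          (Spec.map (CommRingCat.ofHom (ψ.comp χ))).opensRange := ⟨x, rfl⟩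
      obtain ⟨_, ⟨b', rfl⟩, hxb', hle⟩ :=
        (TopologicalSpace.Opens.isBasis_iff_nbhd.mp PrimeSpectrum.isBasis_basic_opens) hx
      letI : Algebra C (Localization.Away (ψ (χ b'))) :=
        ((algebraMap B (Localization.Away (ψ (χ b')))).comp ψ).toAlgebra
      haveI := away_of_key χ ψ hψ b' hle
      refine ⟨Spec (CommRingCat.of (Localization.Away (ψ (χ b')))),
        Spec.map (CommRingCat.ofHom (algebraMap B (Localization.Away (ψ (χ b'))))),
        IsOpenImmersion.of_isLocalization (ψ (χ b')), ?_, ?_⟩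
      · have e := Scheme.Hom.opensRange_localizationAway (R := CommRingCat.of B) (ψ (χ b'))
        rw [show Scheme.Hom.opensRange (Spec.map (CommRingCat.ofHom
          (algebraMap B (Localization.Away (ψ (χ b')))))) = PrimeSpectrum.basicOpen (ψ (χ b')) from e]
        exact hxb'
      · rw [← Spec.map_comp]
        exact IsOpenImmersion.of_isLocalization (χ b')

end Groth.Agent.S8930

namespace Groth.Agent.S8930

/-- Given two factorizations A → B' → B and A → B'' → B of a ring map with A → B' and A → B'' finite and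
Spec(B) → Spec(B'), Spec(B) → Spec(B'') open immersions, there is an A-subalgebra C of B which is
finite over A, contains the images of B' and B'', and is such that Spec(B) → Spec(C) is an open
immersion. (Such an A → B is quasi-finite; that hypothesis of the published statement is implied by
the factorizations and is not repeated.) -/
theorem result (A B B' B'' : Type u) [CommRing A] [CommRing B] [CommRing B'] [CommRing B''] [Algebra A B] [Algebra A B'] [Algebra A B''] [Algebra B' B] [Algebra B'' B] [IsScalarTower A B' B] [IsScalarTower A B'' B] [Module.Finite A B'] [Module.Finite A B''] (h' : IsOpenImmersion (Spec.map (CommRingCat.ofHom (algebraMap B' B)))) (h'' : IsOpenImmersion (Spec.map (CommRingCat.ofHom (algebraMap B'' B)))) : ∃ C : Subalgebra A B, Module.Finite A C ∧ Set.range (algebraMap B' B) ⊆ (C : Set B) ∧ Set.range (algebraMap B'' B) ⊆ (C : Set B) ∧ IsOpenImmersion (Spec.map (CommRingCat.ofHom C.val.toRingHom)) := by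

  exact Groth.Agent.S8930.main A B B' B'' h'

end Groth.Agent.S8930
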