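import Groth.Statements.S8931
import Groth.Agent.Lib.Helper45.FittingKaehler
-- import your own Groth.Agent.* helpers here

set_option autoImplicit false
universe u
open Disc

namespace Groth.Agent.S8931

open Groth.Agent.Lib.Helper45 Groth.Agent.Lib.Helper45.Fitting

lemma aeval_naive_val {A : Type u} [CommRing A] {n : ℕ} (f : Fin n → MvPolynomial (Fin n) A)
    (p : MvPolynomial (Fin n) A) :
    MvPolynomial.aeval (Algebra.Presentation.naive (v := f)).val p =
      Ideal.Quotient.mk (Ideal.span (Set.range f)) p := by
  induction p using MvPolynomial.induction_on with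
  | C a => simp; rfl
  | add p q hp hq => rw [map_add, map_add, hp, hq]
  | mul_X p i hp =>
    rw [map_mul, map_mul, hp, MvPolynomial.aeval_X]
    rfl


/-- For a ring A, n ≥ 1 and f_1, …, f_n in A[x_1, …, x_n], with B = A[x_1, …, x_n]/(f_1, …, f_n), the
zeroth Fitting ideal of Ω_{B/A} (the Kähler different of B over A) is generated by the image in B of
the Jacobian determinant det(∂f_i/∂x_j). -/
theorem result (A : Type u) [CommRing A] (n : ℕ) (hn : 1 ≤ n) (f : Fin n → MvPolynomial (Fin n) A) : Fitt.ideal (MvPolynomial (Fin n) A ⧸ Ideal.span (Set.range f)) (KaehlerDifferential A (MvPolynomial (Fin n) A ⧸ Ideal.span (Set.range f))) 0 = Ideal.span {Ideal.Quotient.mk (Ideal.span (Set.range f)) (Matrix.det (Matrix.of fun i j : Fin n => MvPolynomial.pderiv j (f i)))} := by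
  let P : Algebra.Presentation A (MvPolynomial (Fin n) A ⧸ Ideal.span (Set.range f)) (Fin n) (Fin n) :=
    Algebra.Presentation.naive (v := f)
  rw [fitt_kaehler_eq_Min P 0, Nat.sub_zero]
  let Rows : Matrix (Fin n) (Fin n) (MvPolynomial (Fin n) A ⧸ Ideal.span (Set.range f)) :=
    Matrix.of fun i j => Ideal.Quotient.mk (Ideal.span (Set.range f)) (MvPolynomial.pderiv j (f i))
  have h1 : jacRow P = fun i => Rows i := by
    funext i j
    simp only [jacRow, Rows, Matrix.of_apply]
    exact aeval_naive_val f _
  rw [h1, Min_range_rows]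
  congr 2
  simp only [Rows]
  rw [RingHom.map_det]
  rfl

end Groth.Agent.S8931
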