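import Groth.Statements.S8933
import Groth.Agent.Lib.Helper34.RGammaI

set_option autoImplicit false
universe u
open CategoryTheory CategoryTheory.Limits
attribute [local instance] HasDerivedCategory.standard
open LocCoh

namespace Groth.Agent.S8933

/-- For a ring A, a finitely generated ideal I and a complex K of A-modules such that multiplication by
some f ∈ I is bijective on every term of K, the object RΓ_I(K) of D(A) is zero; here RΓ_I is the
right derived functor of the I-power torsion functor, assumed to exist. -/
theorem result (A : Type u) [CommRing A] (I : Ideal A) (hI : I.FG) [DRing.HasRgammaI I] (K : CochainComplex (ModuleCat.{u} A) ℤ) (f : A) (hf : f ∈ I) (hK : ∀ n : ℤ, Function.Bijective (fun x : K.X n => f • x)) : IsZero ((DRing.RgammaI I).obj (DerivedCategory.Q.obj K)) := by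
  open Groth.Agent.Lib.Helper34.RGammaI Groth.Agent.Lib.Helper99.KInj in
  obtain ⟨J, i, hJ, hi, -, -⟩ := exists_kInjective_resolution K
  obtain ⟨e⟩ := nonempty_iso_of_resolution I i
  refine IsZero.of_iso (isZero_Q_obj_of_acyclic _ (fun n => ?_)) e
  apply isZero_homology_gammaCx_of_isIso I f hf J
  -- multiplication by `f` is an isomorphism of `K`, hence a quasi-isomorphism of `J`
  have hK' : IsIso (f • 𝟙 K) := by
    have : ∀ n, IsIso ((f • 𝟙 K).f n) := by
      intro n
      rw [ConcreteCategory.isIso_iff_bijective]
      exact hK n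
    exact HomologicalComplex.Hom.isIso_of_components _
  have hcomm : i ≫ (f • 𝟙 J) = (f • 𝟙 K) ≫ i := by
    rw [Linear.comp_smul, Linear.smul_comp, Category.comp_id, Category.id_comp]
  have hq : QuasiIso (i ≫ (f • 𝟙 J)) := by
    rw [hcomm]
    infer_instance
  have hq' : QuasiIso (f • 𝟙 J) := quasiIso_of_comp_left i (f • 𝟙 J)
  exact isIso_quotient_map_of_quasiIso (f • 𝟙 J)

end Groth.Agent.S8933
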