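import Groth.Statements.S8936
-- import your own Groth.Agent.* helpers here

set_option autoImplicit false
universe u v
open InjHull

namespace Groth.Agent.S8936

/-- For a directed system (E_i) of R-modules over a nonempty directed preorder and a compatible family
of essential injections M → E_i, the induced map from M to the direct limit of the E_i is an
essential injection. -/
theorem result (R : Type u) [CommRing R] (ι : Type v) [Preorder ι] [IsDirectedOrder ι] [DecidableEq ι] (i₀ : ι) (E : ι → Type v) [∀ i, AddCommGroup (E i)] [∀ i, Module R (E i)] (f : ∀ i j, i ≤ j → E i →ₗ[R] E j) [DirectedSystem E fun i j h => f i j h] (M : Type v) [AddCommGroup M] [Module R M] (g : ∀ i, M →ₗ[R] E i) (hg : ∀ i j (h : i ≤ j), f i j h ∘ₗ g i = g j) (he : ∀ i, InjHull.IsEssentialInj (g i)) : InjHull.IsEssentialInj (Module.DirectLimit.of R ι E f i₀ ∘ₗ g i₀) := by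
  classical
  have : Nonempty ι := ⟨i₀⟩
  -- all the maps M → E i → lim agree
  have hF : ∀ (i : ι) (m : M), Module.DirectLimit.of R ι E f i (g i m) =
      Module.DirectLimit.of R ι E f i₀ (g i₀ m) := by
    intro i m
    obtain ⟨k, hik, hi₀k⟩ := exists_ge_ge i i₀
    rw [← Module.DirectLimit.of_f (hij := hik), ← Module.DirectLimit.of_f (i := i₀) (hij := hi₀k)]
    have h1 : f i k hik (g i m) = g k m := by
      have := hg i k hik
      exact congrArg (fun φ => φ m) this
    have h2 : f i₀ k hi₀k (g i₀ m) = g k m := by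
      have := hg i₀ k hi₀k
      exact congrArg (fun φ => φ m) this
    rw [h1, h2]
  have hinj : Function.Injective (Module.DirectLimit.of R ι E f i₀ ∘ₗ g i₀) := by
    rw [← LinearMap.ker_eq_bot, LinearMap.ker_eq_bot']
    intro m hm
    simp only [LinearMap.coe_comp, Function.comp_apply] at hm
    obtain ⟨j, hij, hj⟩ := Module.DirectLimit.of.zero_exact hm
    have h2 : f i₀ j hij (g i₀ m) = g j m := by
      have := hg i₀ j hij
      exact congrArg (fun φ => φ m) this
    rw [h2] at hj
    exact (LinearMap.ker_eq_bot'.mp (LinearMap.ker_eq_bot.mpr (he j).injective)) m hj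
  refine ⟨hinj, ?_⟩
  intro N hN
  obtain ⟨x, hxN, hx0⟩ := (Submodule.ne_bot_iff N).mp hN
  obtain ⟨j, y, hy⟩ := Module.DirectLimit.exists_of x
  have hy0 : y ≠ 0 := by
    rintro rfl
    rw [map_zero] at hy
    exact hx0 hy.symm
  have hspan : Submodule.span R ({y} : Set (E j)) ≠ ⊥ := by
    rw [Submodule.ne_bot_iff]
    exact ⟨y, Submodule.mem_span_singleton_self y, hy0⟩
  obtain ⟨z, hz, hz0⟩ := (Submodule.ne_bot_iff _).mp ((he j).essential _ hspan)
  obtain ⟨hz1, hz2⟩ := Submodule.mem_inf.mp hz
  obtain ⟨r, hr⟩ := Submodule.mem_span_singleton.mp hz1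
  obtain ⟨m, hm⟩ := hz2
  rw [Submodule.ne_bot_iff]
  refine ⟨(Module.DirectLimit.of R ι E f i₀ ∘ₗ g i₀) m, Submodule.mem_inf.mpr ⟨?_, ⟨m, rfl⟩⟩, ?_⟩
  · simp only [LinearMap.coe_comp, Function.comp_apply]
    rw [← hF j m, hm, ← hr, map_smul, hy]
    exact N.smul_mem r hxN
  · intro h0
    have hm0 : m = 0 := hinj (h0.trans (map_zero _).symm)
    rw [hm0, map_zero] at hm
    exact hz0 hm.symm

end Groth.Agent.S8936
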