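import Groth.Statements.S8949
import Mathlib
import Groth.Agent.Lib.Helper33.GorFibreProj
import Groth.Agent.Lib.Helper33.GorComp
import Groth.Agent.S0342

set_option autoImplicit false
universe u
open scoped TensorProduct
open Goren

namespace Groth.Agent.S8949

open Groth.Agent.Lib.Helper33.GorFibreProj Groth.Agent.Lib.Helper33.GorComp
  Groth.Agent.Lib.Helper33.GorTransfer

theorem isRegularRing_fiber (B C : Type u) [CommRing B] [CommRing C] [Algebra B C]
    (hBC : CAlg.IsRegularHom B C) (p : Ideal B) [p.IsPrime] : IsRegularRing (p.Fiber C) := by
  have h := (hBC.2 p).2 p.ResidueField (Module.Finite.self _)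
  exact IsRegularRing.of_ringEquiv (R := TensorProduct p.ResidueField p.ResidueField (p.Fiber C))
    (Algebra.TensorProduct.lid p.ResidueField (p.Fiber C)).toRingEquiv

theorem map_maximalIdeal_localRingHom {R S : Type u} [CommRing R] [CommRing S] [Algebra R S]
    (p : Ideal R) [p.IsPrime] (r : Ideal S) [r.IsPrime] (hr : p = r.comap (algebraMap R S)) :
    (IsLocalRing.maximalIdeal (Localization.AtPrime p)).map
      (Localization.localRingHom p r (algebraMap R S) hr) =
    (p.map (algebraMap R S)).map (algebraMap S (Localization.AtPrime r)) := by
  rw [← Localization.AtPrime.map_eq_maximalIdeal, Ideal.map_map, Ideal.map_map]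
  congr 1
  ext x
  simp [Localization.localRingHom_to_map]

/-- Gorenstein fibres are preserved by composing with a regular map. For flat maps A → B → C of
Noetherian rings, if the fibres of A → B are Gorenstein rings and B → C is regular, then the fibres
of A → C are Gorenstein rings. -/
theorem result (A B C : Type u) [CommRing A] [CommRing B] [CommRing C] [IsNoetherianRing A] [IsNoetherianRing B] [IsNoetherianRing C] [Algebra A B] [Algebra B C] [Algebra A C] [IsScalarTower A B C] [Module.Flat A B] [Module.Flat B C] (hAB : ∀ (q : Ideal A) [q.IsPrime], LocCoh.IsGorensteinRing (q.Fiber B)) (hBC : CAlg.IsRegularHom B C) : ∀ (q : Ideal A) [q.IsPrime], LocCoh.IsGorensteinRing (q.Fiber C) := by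
  intro q _
  haveI : IsNoetherianRing (q.Fiber C) := isNoetherianRing_fiber A C q
  refine { isGorensteinLocalRing_localization := ?_ }
  intro P _
  -- the primes
  set r : Ideal C := P.comap (Algebra.TensorProduct.includeRight : C →ₐ[A] q.Fiber C) with hr
  set p : Ideal B := r.comap (algebraMap B C) with hp
  have hq : p.comap (algebraMap A B) = q := by
    have h1 : q = P.comap (algebraMap A (q.Fiber C)) := Ideal.over_def P q
    refine Eq.trans ?_ h1.symm
    ext a
    rw [Ideal.mem_comap, Ideal.mem_comap, Ideal.mem_comap, Ideal.mem_comap]
    have h2 : (Algebra.TensorProduct.includeRight : C →ₐ[A] q.Fiber C)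
        (algebraMap B C (algebraMap A B a)) = algebraMap A (q.Fiber C) a := by
      rw [← IsScalarTower.algebraMap_apply A B C]
      exact (Algebra.TensorProduct.includeRight : C →ₐ[A] q.Fiber C).commutes a
    rw [h2]
  -- the three projections
  obtain ⟨πh, hπh, hkerh⟩ := exists_proj_of_fiber A C q P
  obtain ⟨Qf, hQf, πf, hπf, hkerf⟩ := exists_proj B C p r rfl
  obtain ⟨Qg, hQg, πg, hπg, hkerg⟩ := exists_proj A B q p hq
  haveI : IsNoetherianRing (q.Fiber B) := (hAB q).1
  haveI : IsNoetherianRing (p.Fiber C) := (hBC.2 p).1
  haveI : IsRegularRing (p.Fiber C) := isRegularRing_fiber B C hBC p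
  haveI : IsNoetherianRing (Localization.AtPrime Qf) := IsLocalization.isNoetherianRing Qf.primeCompl _ inferInstance
  haveI : IsNoetherianRing (Localization.AtPrime Qg) := IsLocalization.isNoetherianRing Qg.primeCompl _ inferInstance
  haveI : IsNoetherianRing (Localization.AtPrime P) := IsLocalization.isNoetherianRing P.primeCompl _ inferInstance
  have hF : LocCoh.IsGorensteinLocalRing (Localization.AtPrime Qf) := Groth.Agent.S0342.result _
  have hG : LocCoh.IsGorensteinLocalRing (Localization.AtPrime Qg) :=
    (hAB q).isGorensteinLocalRing_localization Qg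
  have hflat : (Localization.localRingHom p r (algebraMap B C) rfl).Flat := by
    letI : Algebra (Localization.AtPrime p) (Localization.AtPrime r) :=
      (Localization.localRingHom p r (algebraMap B C) rfl).toAlgebra
    haveI : IsScalarTower B (Localization.AtPrime p) (Localization.AtPrime r) :=
      IsScalarTower.of_algebraMap_eq (fun c => by
        rw [IsScalarTower.algebraMap_apply B C (Localization.AtPrime r)]
        exact (Localization.localRingHom_to_map _ _ (algebraMap B C) rfl c).symm)
    haveI : Module.Flat C (Localization.AtPrime r) := IsLocalization.flat _ r.primeCompl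
    haveI : Module.Flat B (Localization.AtPrime r) := Module.Flat.trans B C _
    show Module.Flat (Localization.AtPrime p) (Localization.AtPrime r)
    exact (Module.flat_iff_of_isLocalization (Localization.AtPrime p) p.primeCompl _).2 inferInstance
  refine (gorenstein_fibres_comp
    (Localization.localRingHom q p (algebraMap A B) hq.symm)
    (Localization.localRingHom p r (algebraMap B C) rfl) hflat
    πg hπg ?_ πh hπh ?_ πf hπf ?_).2 ⟨hG, hF⟩
  · rw [hkerg, map_maximalIdeal_localRingHom]
  · rw [hkerh, ← Ideal.map_map, map_maximalIdeal_localRingHom, Ideal.map_map, Ideal.map_map,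
      Ideal.map_map]
    congr 1
    ext x
    simp [Localization.localRingHom_to_map, ← IsScalarTower.algebraMap_apply A B C]
    rfl
  · rw [hkerf, map_maximalIdeal_localRingHom]

end Groth.Agent.S8949
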