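import Groth.Statements.S8950
import Mathlib
import Groth.Agent.Lib.Helper65.CIAscent9

set_option autoImplicit false
universe u
open scoped TensorProduct
open CInt

namespace Groth.Agent.S8950

open Groth.Agent.Lib.Helper65.CIAscent

/-- Base change of the local complete intersection property along finitely generated field extensions.
Suppose R is a Noetherian k-algebra, k a field, with every local ring of R a complete intersection,
and suppose K is finitely generated as a field over k; then the tensor product K ⊗_k R is again a
Noetherian ring, and every localization of it at a prime is a complete intersection. -/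
theorem result (k K R : Type u) [Field k] [Field K] [Algebra k K] (hK : ∃ s : Finset K, IntermediateField.adjoin k (s : Set K) = ⊤) [CommRing R] [Algebra k R] [IsNoetherianRing R] (hR : ∀ (p : Ideal R) [p.IsPrime], Pi1.IsCompleteIntersection (Localization.AtPrime p)) : IsNoetherianRing (K ⊗[k] R) ∧ ∀ (P : Ideal (K ⊗[k] R)) [P.IsPrime], Pi1.IsCompleteIntersection (Localization.AtPrime P) := by
  haveI : Algebra.EssFiniteType k K := IntermediateField.fg_top_iff.1 hK
  constructor
  · haveI : Algebra.EssFiniteType R (R ⊗[k] K) := inferInstance
    haveI : IsNoetherianRing (R ⊗[k] K) := Algebra.EssFiniteType.isNoetherianRing R _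
    exact isNoetherianRing_of_ringEquiv (R ⊗[k] K) (Algebra.TensorProduct.comm k R K).toRingEquiv
  · intro P _
    have hinj : Function.Injective (algebraMap (Algebra.EssFiniteType.subalgebra k K) K) :=
      Subtype.val_injective
    obtain ⟨e⟩ := nonempty_atPrime_equiv k R (Algebra.EssFiniteType.subalgebra k K) K
      (Algebra.EssFiniteType.submonoid k K) hinj P
    refine Groth.Agent.S2842.isCompleteIntersection_of_ringEquiv e ?_
    exact isCompleteIntersection_atPrime_tensor k R (Algebra.EssFiniteType.subalgebra k K) hR _
      (comap_jmap_comap_includeRight k R (Algebra.EssFiniteType.subalgebra k K) K hinj P)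

end Groth.Agent.S8950
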