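import Groth.Statements.S8951
import Mathlib
import Groth.Agent.Lib.Helper65.CINum2

set_option autoImplicit false
universe u
open scoped TensorProduct
open CInt

namespace Groth.Agent.S8951

open IsLocalRing Groth.Agent.Lib.Helper65.CINum

/-- flatness passes to quotients -/
theorem flat_quotient (R S : Type u) [CommRing R] [CommRing S] [Algebra R S] [Module.Flat R S]
    (I : Ideal R) : Module.Flat (R ⧸ I) (S ⧸ I.map (algebraMap R S)) := by
  have e : (S ⧸ I.map (algebraMap R S)) ≃ₗ[R] ((R ⧸ I) ⊗[R] S) :=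
    ((Algebra.TensorProduct.quotIdealMapEquivTensorQuot S I).toLinearEquiv.restrictScalars R).trans
      (TensorProduct.comm R S (R ⧸ I))
  exact Module.Flat.of_linearEquiv (e.extendScalarsOfSurjective Ideal.Quotient.mk_surjective)

/-- abstract core: a quotient version of the ascent theorem -/
theorem core (R₀ S₀ : Type u) [CommRing R₀] [CommRing S₀] [IsLocalRing R₀] [IsLocalRing S₀]
    [IsNoetherianRing R₀] [IsNoetherianRing S₀] [Algebra R₀ S₀] [IsLocalHom (algebraMap R₀ S₀)]
    [Module.Flat R₀ S₀] (I : Ideal R₀) (hI : I ≤ maximalIdeal R₀)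
    [IsLocalRing (R₀ ⧸ I)] [IsLocalRing (S₀ ⧸ I.map (algebraMap R₀ S₀))]
    (hCI : Pi1.IsCompleteIntersection (R₀ ⧸ I))
    (hreg : IsRegularLocalRing (S₀ ⧸ (maximalIdeal R₀).map (algebraMap R₀ S₀))) :
    Pi1.IsCompleteIntersection (S₀ ⧸ I.map (algebraMap R₀ S₀)) := by
  haveI := flat_quotient R₀ S₀ I
  obtain ⟨J, hJ⟩ : ∃ J : Ideal S₀, J = (maximalIdeal R₀).map (algebraMap R₀ S₀) := ⟨_, rfl⟩
  have hJm : J ≤ maximalIdeal S₀ := by
    rw [hJ]; exact Groth.Agent.Lib.Helper29.FlatRegular.map_maximalIdeal_le R₀ S₀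
  have hIJ : I.map (algebraMap R₀ S₀) ≤ J := by rw [hJ]; exact Ideal.map_mono hI
  have hmax : (maximalIdeal (R₀ ⧸ I)).map
      (algebraMap (R₀ ⧸ I) (S₀ ⧸ I.map (algebraMap R₀ S₀))) =
      J.map (Ideal.Quotient.mk (I.map (algebraMap R₀ S₀))) := by
    rw [← Groth.Agent.S2941.map_maximalIdeal (Ideal.Quotient.mk I) Ideal.Quotient.mk_surjective,
      hJ, Ideal.map_map, Ideal.map_map]
    rfl
  haveI : IsLocalHom (algebraMap (R₀ ⧸ I) (S₀ ⧸ I.map (algebraMap R₀ S₀))) := by
    apply ((IsLocalRing.local_hom_TFAE _).out 0 2).mpr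
    rw [hmax, ← Groth.Agent.S2941.map_maximalIdeal
      (Ideal.Quotient.mk (I.map (algebraMap R₀ S₀))) Ideal.Quotient.mk_surjective]
    exact Ideal.map_mono hJm
  have hreg' : IsRegularLocalRing (S₀ ⧸ J) := by
    have key : ∀ (J' : Ideal S₀) (_ : J' = (maximalIdeal R₀).map (algebraMap R₀ S₀)),
        IsRegularLocalRing (S₀ ⧸ J') := by
      intro J' hJ'; subst hJ'; exact hreg
    exact key J hJ
  have e : (S₀ ⧸ J) ≃+* ((S₀ ⧸ I.map (algebraMap R₀ S₀)) ⧸
      (maximalIdeal (R₀ ⧸ I)).map (algebraMap (R₀ ⧸ I) (S₀ ⧸ I.map (algebraMap R₀ S₀)))) :=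
    ((Ideal.quotEquivOfEq (sup_eq_right.2 hIJ).symm).trans
      (DoubleQuot.quotQuotEquivQuotSup (I.map (algebraMap R₀ S₀)) J).symm).trans
      (Ideal.quotEquivOfEq hmax.symm)
  have hreg'' := IsRegularLocalRing.of_ringEquiv e
  haveI : IsLocalRing ((S₀ ⧸ I.map (algebraMap R₀ S₀)) ⧸
      (maximalIdeal (R₀ ⧸ I)).map (algebraMap (R₀ ⧸ I) (S₀ ⧸ I.map (algebraMap R₀ S₀)))) :=
    hreg''.toIsLocalRing
  exact isCompleteIntersection_of_flat_of_regular_fibre (R₀ ⧸ I) (S₀ ⧸ I.map (algebraMap R₀ S₀))
    hCI hreg''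

section Fibre

variable (A C : Type u) [CommRing A] [CommRing C] [Algebra A C]

/-- the local ring `C_r / q C_r` is a complete intersection -/
def QCI (q : Ideal A) (r : Ideal C) [r.IsPrime] : Prop :=
  ∃ h : IsLocalRing (Localization.AtPrime r ⧸
      (q.map (algebraMap A C)).map (algebraMap C (Localization.AtPrime r))),
    @Pi1.IsCompleteIntersection _ _ h

/-- the local ring `C_r / q C_r` is regular -/
def QReg (q : Ideal A) (r : Ideal C) [r.IsPrime] : Prop :=
  IsRegularLocalRing (Localization.AtPrime r ⧸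
      (q.map (algebraMap A C)).map (algebraMap C (Localization.AtPrime r)))

variable {A C}

theorem QCI_congr (q : Ideal A) (r r' : Ideal C) [r.IsPrime] [r'.IsPrime] (h : r = r')
    (hr : QCI A C q r) : QCI A C q r' := by
  subst h; exact hr

theorem QReg_congr (q : Ideal A) (r r' : Ideal C) [r.IsPrime] [r'.IsPrime] (h : r = r')
    (hr : QReg A C q r) : QReg A C q r' := by
  subst h; exact hr

theorem QCI_iff (q : Ideal A) [q.IsPrime] (P : Ideal (q.Fiber C)) [P.IsPrime] :
    Pi1.IsCompleteIntersection (Localization.AtPrime P) ↔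
      QCI A C q (P.comap (Algebra.TensorProduct.includeRight : C →ₐ[A] q.Fiber C)) := by
  have e := (Ideal.Fiber.algEquivAux₂ q P).toRingEquiv
  constructor
  · intro h
    exact ⟨e.isLocalRing, @Groth.Agent.S2842.isCompleteIntersection_of_ringEquiv _ _ _ _ _
      e.isLocalRing e h⟩
  · rintro ⟨hloc, h⟩
    exact @Groth.Agent.S2842.isCompleteIntersection_of_ringEquiv _ _ _ _ hloc _ e.symm h

theorem QReg_of (q : Ideal A) [q.IsPrime] (P : Ideal (q.Fiber C)) [P.IsPrime]
    (h : IsRegularLocalRing (Localization.AtPrime P)) :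
    QReg A C q (P.comap (Algebra.TensorProduct.includeRight : C →ₐ[A] q.Fiber C)) := by
  have e := (Ideal.Fiber.algEquivAux₂ q P).toRingEquiv
  exact IsRegularLocalRing.of_ringEquiv (R := Localization.AtPrime P) e

theorem exists_fibre_prime (q : Ideal A) [q.IsPrime] (r : Ideal C) [r.IsPrime]
    (hrq : q = r.comap (algebraMap A C)) :
    ∃ (P : Ideal (q.Fiber C)) (_ : P.IsPrime),
      P.comap (Algebra.TensorProduct.includeRight : C →ₐ[A] q.Fiber C) = r := by
  haveI : r.LiesOver q := ⟨hrq⟩
  obtain ⟨x, hx⟩ : ∃ x : q.primesOver C, (x : Ideal C) = r :=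
    ⟨⟨r, ⟨inferInstance, inferInstance⟩⟩, rfl⟩
  obtain ⟨qq, hqq⟩ : ∃ qq : PrimeSpectrum (q.Fiber C),
    qq = PrimeSpectrum.primesOverOrderIsoFiber A C q x := ⟨_, rfl⟩
  refine ⟨qq.asIdeal, qq.isPrime, ?_⟩
  have h1 := (PrimeSpectrum.primesOverOrderIsoFiber A C q).symm_apply_apply x
  rw [← hqq] at h1
  have h2 := congrArg Subtype.val h1
  rw [PrimeSpectrum.coe_primesOverOrderIsoFiber_symm_apply] at h2
  rw [← hx]
  exact h2

end Fibre

section Main

theorem QCI_ascent (A B C : Type u) [CommRing A] [CommRing B] [CommRing C] [IsNoetherianRing B]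
    [IsNoetherianRing C] [Algebra A B] [Algebra B C] [Algebra A C] [IsScalarTower A B C]
    [Module.Flat B C] (q : Ideal A) (r : Ideal C) [r.IsPrime] (p : Ideal B) [p.IsPrime]
    (hp : p = r.comap (algebraMap B C)) (hq : q.map (algebraMap A B) ≤ p)
    (h1 : QCI A B q p) (h2 : QReg B C p r) : QCI A C q r := by
  obtain ⟨Φ, hΦ⟩ : ∃ Φ : Localization.AtPrime p →+* Localization.AtPrime r,
      Φ = Localization.localRingHom p r (algebraMap B C) hp := ⟨_, rfl⟩
  have hΦflat : Φ.Flat := by
    rw [hΦ]
    exact RingHom.Flat.localRingHom (f := algebraMap B C)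
      (RingHom.flat_algebraMap_iff.2 inferInstance) _ _ _
  haveI : IsLocalHom Φ := by rw [hΦ]; infer_instance
  letI : Algebra (Localization.AtPrime p) (Localization.AtPrime r) := Φ.toAlgebra
  haveI : Module.Flat (Localization.AtPrime p) (Localization.AtPrime r) := hΦflat
  haveI : IsLocalHom (algebraMap (Localization.AtPrime p) (Localization.AtPrime r)) :=
    ‹IsLocalHom Φ›
  have hΦmap : ∀ b : B, Φ (algebraMap B (Localization.AtPrime p) b) =
      algebraMap C (Localization.AtPrime r) (algebraMap B C b) := by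
    intro b; rw [hΦ]; exact Localization.localRingHom_to_map _ _ _ hp b
  have hIm : (q.map (algebraMap A B)).map (algebraMap B (Localization.AtPrime p)) ≤
      maximalIdeal (Localization.AtPrime p) := by
    rw [← Localization.AtPrime.map_eq_maximalIdeal]; exact Ideal.map_mono hq
  have hImap : ((q.map (algebraMap A B)).map (algebraMap B (Localization.AtPrime p))).map
      (algebraMap (Localization.AtPrime p) (Localization.AtPrime r)) =
      (q.map (algebraMap A C)).map (algebraMap C (Localization.AtPrime r)) := by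
    rw [Ideal.map_map, Ideal.map_map, Ideal.map_map]
    congr 1
    ext a
    simp only [RingHom.comp_apply]
    show Φ _ = _
    rw [hΦmap, ← IsScalarTower.algebraMap_apply A B C]
  have hmmap : (maximalIdeal (Localization.AtPrime p)).map
      (algebraMap (Localization.AtPrime p) (Localization.AtPrime r)) =
      (p.map (algebraMap B C)).map (algebraMap C (Localization.AtPrime r)) := by
    rw [← Localization.AtPrime.map_eq_maximalIdeal, Ideal.map_map, Ideal.map_map]
    congr 1
    ext b
    exact hΦmap b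
  obtain ⟨hloc1, hCI⟩ := h1
  haveI := hloc1
  haveI : IsLocalRing (Localization.AtPrime r ⧸
      ((q.map (algebraMap A B)).map (algebraMap B (Localization.AtPrime p))).map
      (algebraMap (Localization.AtPrime p) (Localization.AtPrime r))) :=
    isLocalRing_quotient _ _ ((Ideal.map_mono hIm).trans
      (Groth.Agent.Lib.Helper29.FlatRegular.map_maximalIdeal_le _ _))
  have h2' : IsRegularLocalRing (Localization.AtPrime r ⧸
      (maximalIdeal (Localization.AtPrime p)).map
      (algebraMap (Localization.AtPrime p) (Localization.AtPrime r))) := by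
    unfold QReg at h2
    exact IsRegularLocalRing.of_ringEquiv (R := Localization.AtPrime r ⧸
      (p.map (algebraMap B C)).map (algebraMap C (Localization.AtPrime r)))
      (Ideal.quotEquivOfEq hmmap.symm)
  have h3 := core (Localization.AtPrime p) (Localization.AtPrime r) _ hIm hCI h2'
  have hloc' : IsLocalRing (Localization.AtPrime r ⧸
      (q.map (algebraMap A C)).map (algebraMap C (Localization.AtPrime r))) := by
    rw [← hImap]; infer_instance
  exact ⟨hloc', ci_quot_congr hImap h3⟩

end Main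

/-- Complete intersection fibres are preserved by composing with a regular map. For flat maps A → B → C
of Noetherian rings, if all local rings of the fibres of A → B are complete intersections and B → C
is regular, then all local rings of the fibres of A → C are complete intersections. -/
theorem result (A B C : Type u) [CommRing A] [CommRing B] [CommRing C] [IsNoetherianRing A] [IsNoetherianRing B] [IsNoetherianRing C] [Algebra A B] [Algebra B C] [Algebra A C] [IsScalarTower A B C] [Module.Flat A B] [Module.Flat B C] (hAB : ∀ (q : Ideal A) [q.IsPrime] (P : Ideal (q.Fiber B)) [P.IsPrime], Pi1.IsCompleteIntersection (Localization.AtPrime P)) (hBC : CAlg.IsRegularHom B C) : ∀ (q : Ideal A) [q.IsPrime] (P : Ideal (q.Fiber C)) [P.IsPrime], Pi1.IsCompleteIntersection (Localization.AtPrime P) := by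
  intro q _ P _
  rw [QCI_iff]
  obtain ⟨r, hr⟩ : ∃ r : Ideal C,
    r = P.comap (Algebra.TensorProduct.includeRight : C →ₐ[A] q.Fiber C) := ⟨_, rfl⟩
  haveI : r.IsPrime := by rw [hr]; infer_instance
  refine QCI_congr q r _ hr ?_
  have hrq : q = r.comap (algebraMap A C) := by
    have h1 : q = P.under A := Ideal.LiesOver.over
    refine h1.trans ?_
    rw [hr, Ideal.under_def]
    ext x
    simp only [Ideal.mem_comap]
    rw [AlgHom.commutes]
  obtain ⟨p, hp⟩ : ∃ p : Ideal B, p = r.comap (algebraMap B C) := ⟨_, rfl⟩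
  haveI : p.IsPrime := by rw [hp]; infer_instance
  have hpq : q = p.comap (algebraMap A B) := by
    rw [hp, Ideal.comap_comap, ← IsScalarTower.algebraMap_eq, ← hrq]
  have hqp : q.map (algebraMap A B) ≤ p := by rw [Ideal.map_le_iff_le_comap, ← hpq]
  apply QCI_ascent A B C q r p hp hqp
  · obtain ⟨PB, hPB, hPBp⟩ := exists_fibre_prime q p hpq
    exact QCI_congr q _ p hPBp ((QCI_iff q PB).1 (hAB q PB))
  · obtain ⟨PC, hPC, hPCr⟩ := exists_fibre_prime p r hp
    refine QReg_congr p _ r hPCr (QReg_of p PC ?_)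
    obtain ⟨hN, hG⟩ := hBC.2 p
    have h1 := hG p.ResidueField (Module.Finite.self _)
    have e := (Algebra.TensorProduct.lid p.ResidueField (p.Fiber C)).toRingEquiv
    haveI : IsRegularRing (p.Fiber C) :=
      IsRegularRing.of_ringEquiv (R := p.ResidueField ⊗[p.ResidueField] p.Fiber C) e
    exact IsRegularRing.isRegularLocalRing_localization PC

end Groth.Agent.S8951
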