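import Groth.Statements.S8954
import Groth.Agent.Lib.Helper8.HDCount
import Groth.Agent.Lib.Helper8.HD2
import Groth.Agent.Lib.Helper8.Pack
import Groth.Agent.Lib.Helper8.SyntLCI
import Groth.Agent.Lib.Helper33.GorFibreLCI
import Groth.Agent.Lib.Helper9.LCIFinPres
import Groth.Agent.Lib.Helper35.RelGCI
import Groth.Agent.Lib.Helper62.GCIField7

set_option autoImplicit false
universe u
open Synt

namespace Groth.Agent.S8954

/-- a finite algebra over a local ring is semilocal -/
theorem finite_maxSpec (A B : Type u) [CommRing A] [IsLocalRing A] [CommRing B] [Algebra A B]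
    [Module.Finite A B] : Finite (MaximalSpectrum B) := by
  have hfin := Algebra.QuasiFinite.finite_primesOver (R := A) (S := B) (IsLocalRing.maximalIdeal A)
  haveI : Finite ((IsLocalRing.maximalIdeal A).primesOver B) := hfin.to_subtype
  have hover : ∀ m : MaximalSpectrum B, m.asIdeal.LiesOver (IsLocalRing.maximalIdeal A) := by
    intro m
    haveI := m.isMaximal
    have h1 : (m.asIdeal.comap (algebraMap A B)).IsMaximal :=
      Ideal.isMaximal_comap_of_isIntegral_of_isMaximal m.asIdeal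
    exact ⟨(IsLocalRing.eq_maximalIdeal h1).symm⟩
  refine Finite.of_injective
    (fun m : MaximalSpectrum B =>
      (⟨m.asIdeal, m.isMaximal.isPrime, hover m⟩ : (IsLocalRing.maximalIdeal A).primesOver B)) ?_
  intro m m' h
  have : m.asIdeal = m'.asIdeal := congrArg Subtype.val h
  exact MaximalSpectrum.ext this

/-- local generation of the kernel by `n` elements at a maximal ideal -/
theorem local_gens {A : Type u} [CommRing A] (n : ℕ) (I : Ideal (MvPolynomial (Fin n) A))
    (hK : LCI.IsKoszulRegularIdeal I) (hfg : I.FG) [Module.Flat A (MvPolynomial (Fin n) A ⧸ I)]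
    [Module.Finite A (MvPolynomial (Fin n) A ⧸ I)]
    (𝔮 : Ideal (MvPolynomial (Fin n) A)) (h𝔮 : 𝔮.IsMaximal) (hI𝔮 : I ≤ 𝔮) :
    ∃ F : Fin n → MvPolynomial (Fin n) A, (∀ i, F i ∈ I) ∧
      I ≤ Ideal.span (Set.range F) ⊔ 𝔮 • I := by
  classical
  haveI : 𝔮.IsPrime := h𝔮.isPrime
  haveI : (𝔮.under A).IsPrime := Ideal.comap_isPrime _ _
  have hfib := Groth.Agent.Lib.Helper33.GorFibreLCI.isKoszulRegularIdeal_baseChange (A := A)
    (𝔮.under A).ResidueField I hK
  obtain ⟨f, hfI, hreg, hspan⟩ :=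
    Groth.Agent.Lib.Helper8.HD.exists_list_fibre n I (𝔮.under A) 𝔮 hI𝔮 hfib
  have hfin : Module.Finite (𝔮.under A).ResidueField
      (TensorProduct A (𝔮.under A).ResidueField (MvPolynomial (Fin n) A ⧸ I)) := inferInstance
  have hlen := Groth.Agent.Lib.Helper8.HD.length_eq_of_finite_fibre n I (𝔮.under A) 𝔮 hI𝔮 hfin
    f hfI hreg hspan
  obtain ⟨g₀, hg₀, -, hIg, -⟩ := Groth.Agent.Lib.Helper8.HD.local_main_of_list n I hfg
    (𝔮.under A) 𝔮 hI𝔮 f hfI hreg hspan
  refine ⟨fun i => f.get (Fin.cast hlen.symm i), fun i => hfI _ (List.get_mem _ _), ?_⟩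
  have hspanL : Ideal.ofList f =
      Ideal.span (Set.range fun i : Fin n => f.get (Fin.cast hlen.symm i)) := by
    unfold Ideal.ofList
    congr 1
    ext x
    simp only [Set.mem_ofPred_eq, Set.mem_range]
    constructor
    · intro hx
      obtain ⟨i, rfl⟩ := List.mem_iff_get.1 hx
      exact ⟨Fin.cast hlen i, by simp⟩
    · rintro ⟨i, rfl⟩
      exact List.get_mem _ _
  rw [← hspanL]
  intro x hx
  have h1 : algebraMap _ (Localization.Away g₀) x ∈
      (Ideal.ofList f).map (algebraMap _ (Localization.Away g₀)) := by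
    rw [Ideal.map_ofList, ← hIg]
    exact Ideal.mem_map_of_mem _ hx
  obtain ⟨m, hm, hmx⟩ := (IsLocalization.algebraMap_mem_map_algebraMap_iff
    (Submonoid.powers g₀) (Localization.Away g₀) _ x).1 h1
  have hm𝔮 : m ∉ 𝔮 := by
    obtain ⟨k, rfl⟩ := (Submonoid.mem_powers_iff _ _).1 hm
    exact fun h => hg₀ (Ideal.IsPrime.mem_of_pow_mem inferInstance k h)
  obtain ⟨y, i, hi, hyi⟩ := h𝔮.exists_inv hm𝔮
  have hx' : x = y * (m * x) + i * x := by
    calc x = (y * m + i) * x := by rw [hyi, one_mul]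
      _ = _ := by ring
  rw [hx']
  refine Submodule.add_mem_sup (Ideal.mul_mem_left _ _ hmx) ?_
  rw [smul_eq_mul]
  exact Ideal.mul_mem_mul hi hx

/-- Chinese remainder combination of local generators -/
theorem combine {R : Type*} [CommRing R] {ι : Type*} [Finite ι] (𝔮 : ι → Ideal R)
    (hco : Pairwise (Function.onFun IsCoprime 𝔮)) (I : Ideal R) (n : ℕ)
    (F : ι → Fin n → R) (hF : ∀ j i, F j i ∈ I)
    (h : ∀ j, I ≤ Ideal.span (Set.range (F j)) ⊔ 𝔮 j • I) :
    ∃ f : Fin n → R, (∀ i, f i ∈ I) ∧ ∀ j, I ≤ Ideal.span (Set.range f) ⊔ 𝔮 j • I := by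
  classical
  haveI : Fintype ι := Fintype.ofFinite ι
  choose e he using fun j : ι =>
    Ideal.exists_forall_sub_mem_ideal hco (fun l => if l = j then (1 : R) else 0)
  refine ⟨fun i => ∑ j, e j * F j i,
    fun i => sum_mem fun j _ => Ideal.mul_mem_left _ _ (hF j i), ?_⟩
  intro j
  have key : ∀ i, F j i - ∑ l, e l * F l i ∈ 𝔮 j • I := by
    intro i
    have hsum : ∑ l, e l * F l i = e j * F j i + ∑ l ∈ Finset.univ.erase j, e l * F l i :=
      (Finset.add_sum_erase _ _ (Finset.mem_univ j)).symm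
    have hre : F j i - ∑ l, e l * F l i =
        (-(e j - 1)) * F j i - ∑ l ∈ Finset.univ.erase j, e l * F l i := by
      rw [hsum]; ring
    rw [hre, smul_eq_mul]
    refine sub_mem (Ideal.mul_mem_mul (neg_mem ?_) (hF j i))
      (sum_mem fun l hl => Ideal.mul_mem_mul ?_ (hF l i))
    · have := he j j
      simpa using this
    · have := he l j
      have hne : j ≠ l := (Finset.ne_of_mem_erase hl).symm
      simpa [hne] using this
  refine (h j).trans (sup_le ?_ le_sup_right)
  rw [Ideal.span_le]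
  rintro _ ⟨i, rfl⟩
  have : F j i = (∑ l, e l * F l i) + (F j i - ∑ l, e l * F l i) := by ring
  rw [SetLike.mem_coe, this]
  exact Submodule.add_mem_sup (Ideal.subset_span ⟨i, rfl⟩) (key i)

/-- Nakayama globalization -/
theorem exists_unit_mod {R : Type*} [CommRing R] (I J : Ideal R) (hfg : I.FG)
    (h : ∀ 𝔮 : Ideal R, 𝔮.IsMaximal → I ≤ 𝔮 → I ≤ J ⊔ 𝔮 • I) :
    ∃ r, r - 1 ∈ I ∧ ∀ x ∈ I, r * x ∈ J := by
  set 𝔞 : Ideal R := Submodule.colon (J : Submodule R R) (I : Set R) with h𝔞
  have htop : 𝔞 ⊔ I = ⊤ := by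
    by_contra hne
    obtain ⟨𝔮, h𝔮, hle⟩ := Ideal.exists_le_maximal _ hne
    obtain ⟨r, hr1, hr⟩ := Submodule.exists_sub_one_mem_and_smul_le_of_fg_of_le_sup (I := 𝔮)
      (N := J) (N' := I) (P := I) hfg le_rfl (h 𝔮 h𝔮 (le_sup_right.trans hle))
    have hr𝔞 : r ∈ 𝔞 := by
      rw [h𝔞, Submodule.mem_colon]
      intro s hs
      exact hr (Submodule.smul_mem_pointwise_smul s r I hs)
    have hr𝔮 : r ∈ 𝔮 := hle (Ideal.mem_sup_left hr𝔞)
    have h1 : (1 : R) ∈ 𝔮 := by
      have := sub_mem hr𝔮 hr1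
      simpa using this
    exact h𝔮.ne_top ((Ideal.eq_top_iff_one _).2 h1)
  have h1 : (1 : R) ∈ 𝔞 ⊔ I := by rw [htop]; exact Submodule.mem_top
  obtain ⟨a, ha, i, hi, hai⟩ := Submodule.mem_sup.1 h1
  refine ⟨a, ?_, ?_⟩
  · have : a - 1 = -i := by rw [← hai]; ring
    rw [this]; exact neg_mem hi
  · intro x hx
    have := (Submodule.mem_colon.1 ha) x hx
    simpa [smul_eq_mul] using this

theorem forward (A B : Type u) [CommRing A] [IsLocalRing A] [CommRing B] [Algebra A B]
    [Module.Finite A B] (hS : Synt.IsSyntomic A B) :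
    ∃ (n : ℕ) (F : Fin n → MvPolynomial (Fin n) A), Nonempty (B ≃ₐ[A] Synt.RelGCIRing A n n F) := by
  classical
  obtain ⟨hflat, hlci⟩ := (Groth.Agent.Lib.Helper8.SyntLCI.isSyntomic_iff A B).1 hS
  obtain ⟨hft, n, φ, hφ, hK⟩ := hlci
  obtain ⟨I, hI⟩ : ∃ I : Ideal (MvPolynomial (Fin n) A), I = RingHom.ker φ.toRingHom := ⟨_, rfl⟩
  rw [← hI] at hK
  have hfg : I.FG := Groth.Agent.Lib.Helper9.LCIFinPres.fg_of_isKoszulRegularIdeal I hK
  let e : (MvPolynomial (Fin n) A ⧸ I) ≃ₐ[A] B :=
    (Ideal.quotientEquivAlgOfEq A hI).trans (Ideal.quotientKerAlgEquivOfSurjective hφ)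
  haveI : Module.Flat A (MvPolynomial (Fin n) A ⧸ I) :=
    Module.Flat.of_linearEquiv e.toLinearEquiv
  haveI : Module.Finite A (MvPolynomial (Fin n) A ⧸ I) :=
    Module.Finite.equiv e.symm.toLinearEquiv
  haveI : Finite (MaximalSpectrum (MvPolynomial (Fin n) A ⧸ I)) := finite_maxSpec A _
  have hπ : Function.Surjective (Ideal.Quotient.mk I) := Ideal.Quotient.mk_surjective
  let 𝔮 : MaximalSpectrum (MvPolynomial (Fin n) A ⧸ I) → Ideal (MvPolynomial (Fin n) A) :=
    fun j => j.asIdeal.comap (Ideal.Quotient.mk I)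
  have h𝔮max : ∀ j, (𝔮 j).IsMaximal := fun j => by
    haveI := j.isMaximal
    exact Ideal.comap_isMaximal_of_surjective (Ideal.Quotient.mk I) hπ
  have hI𝔮 : ∀ j, I ≤ 𝔮 j := fun j x hx => by
    show Ideal.Quotient.mk I x ∈ j.asIdeal
    rw [Ideal.Quotient.eq_zero_iff_mem.2 hx]
    exact Ideal.zero_mem _
  have hco : Pairwise (Function.onFun IsCoprime 𝔮) := by
    intro j l hjl
    haveI := h𝔮max j
    haveI := h𝔮max l
    refine Ideal.isCoprime_of_isMaximal (fun h => hjl ?_)
    exact MaximalSpectrum.ext (Ideal.comap_injective_of_surjective (Ideal.Quotient.mk I) hπ h)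
  choose F hFI hF using fun j => local_gens n I hK hfg (𝔮 j) (h𝔮max j) (hI𝔮 j)
  obtain ⟨f, hfI, hf⟩ := combine 𝔮 hco I n F hFI hF
  obtain ⟨r, hr1, hr⟩ := exists_unit_mod I (Ideal.span (Set.range f)) hfg (by
    intro 𝔭 h𝔭 hI𝔭
    have hcm : (𝔭.map (Ideal.Quotient.mk I)).comap (Ideal.Quotient.mk I) = 𝔭 := by
      rw [Ideal.comap_map_of_surjective' (Ideal.Quotient.mk I) hπ, Ideal.mk_ker,
        sup_eq_left.2 hI𝔭]
    have hmax : (𝔭.map (Ideal.Quotient.mk I)).IsMaximal := by
      rcases Ideal.map_eq_top_or_isMaximal_of_surjective (Ideal.Quotient.mk I) hπ h𝔭 with h | h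
      · exfalso
        rw [h, Ideal.comap_top] at hcm
        exact h𝔭.ne_top hcm.symm
      · exact h
    have h2 : I ≤ Ideal.span (Set.range f) ⊔
        ((𝔭.map (Ideal.Quotient.mk I)).comap (Ideal.Quotient.mk I)) • I :=
      hf ⟨𝔭.map (Ideal.Quotient.mk I), hmax⟩
    rwa [hcm] at h2)
  have hIloc : I.map (algebraMap _ (Localization.Away r)) =
      Ideal.ofList ((List.ofFn f).map (algebraMap _ (Localization.Away r))) := by
    have hof : Ideal.ofList (List.ofFn f) = Ideal.span (Set.range f) := by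
      unfold Ideal.ofList
      congr 1
      ext x
      simp [List.mem_ofFn]
    rw [← Ideal.map_ofList, hof]
    refine le_antisymm ?_ (Ideal.map_mono (Ideal.span_le.2 ?_))
    · rw [Ideal.map_le_iff_le_comap]
      intro x hx
      rw [Ideal.mem_comap]
      exact (IsLocalization.algebraMap_mem_map_algebraMap_iff (Submonoid.powers r)
        (Localization.Away r) _ x).2 ⟨r, Submonoid.mem_powers r, hr x hx⟩
    · rintro _ ⟨i, rfl⟩
      exact hfI i
  obtain ⟨L, hL, ⟨ε⟩⟩ := Groth.Agent.Lib.Helper8.Pack.pack n I r (List.ofFn f) hIloc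
  have hLn : L.length = n + 1 := by rw [hL, List.length_ofFn]
  have hmk1 : Ideal.Quotient.mk I r = 1 := by
    have : Ideal.Quotient.mk I (r - 1) = 0 := Ideal.Quotient.eq_zero_iff_mem.2 hr1
    rw [map_sub, map_one, sub_eq_zero] at this
    exact this
  let e0 : (MvPolynomial (Fin n) A ⧸ I) ≃ₐ[MvPolynomial (Fin n) A ⧸ I]
      Localization.Away (Ideal.Quotient.mk I r) :=
    IsLocalization.atUnits _ (Submonoid.powers (Ideal.Quotient.mk I r)) (by
      intro x hx
      obtain ⟨k, rfl⟩ := (Submonoid.mem_powers_iff _ _).1 hx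
      rw [IsUnit.mem_submonoid_iff, hmk1, one_pow]
      exact isUnit_one)
  have hspanL : Ideal.ofList L =
      Ideal.span (Set.range fun i : Fin (n + 1) => L.get (Fin.cast hLn.symm i)) := by
    unfold Ideal.ofList
    congr 1
    ext x
    simp only [Set.mem_ofPred_eq, Set.mem_range]
    constructor
    · intro hx
      obtain ⟨i, rfl⟩ := List.mem_iff_get.1 hx
      exact ⟨Fin.cast hLn i, by simp⟩
    · rintro ⟨i, rfl⟩
      exact List.get_mem _ _
  refine ⟨n + 1, fun i => L.get (Fin.cast hLn.symm i), ⟨?_⟩⟩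
  exact ((e.symm.trans (e0.restrictScalars A)).trans ε).trans
    (Ideal.quotientEquivAlgOfEq A hspanL)

theorem backward (A B : Type u) [CommRing A] [CommRing B] [Algebra A B] [Module.Finite A B]
    (n : ℕ) (F : Fin n → MvPolynomial (Fin n) A) (e : B ≃ₐ[A] Synt.RelGCIRing A n n F) :
    Synt.IsSyntomic A B := by
  haveI : Module.Finite A (Synt.RelGCIRing A n n F) := Module.Finite.equiv e.toLinearEquiv
  have hrel : Synt.IsRelGCI A n n F := by
    intro p hnt
    refine ⟨le_rfl, ?_⟩
    haveI : Module.Finite p.asIdeal.ResidueField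
        (p.asIdeal.Fiber (Synt.RelGCIRing A n n F)) := inferInstance
    haveI : IsArtinianRing (p.asIdeal.Fiber (Synt.RelGCIRing A n n F)) :=
      IsArtinianRing.of_finite p.asIdeal.ResidueField (p.asIdeal.Fiber (Synt.RelGCIRing A n n F))
    haveI : Ring.KrullDimLE 0 (p.asIdeal.Fiber (Synt.RelGCIRing A n n F)) :=
      IsArtinianRing.instKrullDimLEOfNatNat (p.asIdeal.Fiber (Synt.RelGCIRing A n n F))
    rw [Nat.sub_self, Nat.cast_zero]
    exact ringKrullDimZero_iff_ringKrullDim_eq_zero.1 inferInstance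
  exact Groth.Agent.Lib.Helper62.GCIField.isSyntomic_of_algEquiv e.symm
    (Groth.Agent.Lib.Helper35.RelGCI.isSyntomic A n n F hrel)

/-- The equivalence of being finite syntomic with having a square presentation, stated over a local
base. For a local ring A and a finite A-algebra B, the map A → B is syntomic if and only if B ≅
A[x_1, …, x_n]/(f_1, …, f_n) as A-algebras for some n and f_1, …, f_n ∈ A[x_1, …, x_n]. (The
published statement is for a finite morphism of schemes and asserts such a presentation over some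
affine open neighbourhood of each point of the base; over a local base that neighbourhood is the
whole spectrum.) -/
theorem result (A B : Type u) [CommRing A] [IsLocalRing A] [CommRing B] [Algebra A B] [Module.Finite A B] : Synt.IsSyntomic A B ↔ ∃ (n : ℕ) (F : Fin n → MvPolynomial (Fin n) A), Nonempty (B ≃ₐ[A] Synt.RelGCIRing A n n F) := by
  constructor
  · exact forward A B
  · rintro ⟨n, F, ⟨e⟩⟩
    exact backward A B n F e

end Groth.Agent.S8954
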