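import Groth.Statements.S8958
import Mathlib
-- import your own Groth.Agent.* helpers here

set_option autoImplicit false
universe u
open TensorProduct
open QFDual

namespace Groth.Agent.S8958

section PRE

section step1
variable {R : Type u} [CommRing R] {V : Type u} [AddCommGroup V] [Module R V]
  {W : Type u} [AddCommGroup W] [Module R W]
  {S : Type u} [CommRing S] [Algebra R S] [Module S W] [IsScalarTower R S W]
  {j : V →ₗ[R] W} (ibc : IsBaseChange S j)

/-- conjugation equivalence -/
noncomputable def EE : (S ⊗[R] V →ₗ[S] S ⊗[R] R) ≃ₗ[S] (W →ₗ[S] S) :=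
  LinearEquiv.arrowCongr ibc.equiv (AlgebraTensorModule.rid R S S)

lemma toDual_eq (φ : V →ₗ[R] R) :
    ibc.toDual φ = EE ibc (LinearMap.baseChangeHom R S V R φ) := by
  apply ibc.algHom_ext
  intro v
  rw [IsBaseChange.toDual_comp_apply, EE, LinearEquiv.arrowCongr_apply,
    IsBaseChange.equiv_symm_apply]
  simp [Algebra.algebraMap_eq_smul_one]

lemma toDual_isBaseChange [Module.Flat R S] [Module.FinitePresentation R V] :
    IsBaseChange S (ibc.toDual) := by
  have h1 := Module.FinitePresentation.isBaseChange_map R V R S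
  have h2 := IsBaseChange.comp h1 (IsBaseChange.ofEquiv (EE ibc))
  convert h2 using 1
  ext φ : 1
  exact toDual_eq ibc φ

end step1


section step2
variable {A B' A₁ B'₁ : Type u} [CommRing A] [CommRing B'] [CommRing A₁] [CommRing B'₁]
  [Algebra A B'] [Algebra A A₁] [Algebra B' B'₁] [Algebra A₁ B'₁] [Algebra A B'₁]
  [IsScalarTower A A₁ B'₁] [IsScalarTower A B' B'₁]

/-- `A`-module structure on `Ω` -/
noncomputable instance modA : Module A (Disc.Omega A B') := Module.compHom _ (algebraMap A B')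

lemma smulA_def (a : A) (ω : Disc.Omega A B') : a • ω = algebraMap A B' a • ω := rfl

instance towerA : IsScalarTower A B' (Disc.Omega A B') :=
  ⟨fun a b ω => by rw [smulA_def, Algebra.smul_def, mul_smul]⟩

/-- forgetting the wrapper -/
noncomputable def toLin : Disc.Omega A B' ≃ₗ[A] (B' →ₗ[A] A) where
  toFun ω := ω.toLinearMap
  invFun φ := ⟨φ⟩
  left_inv ω := rfl
  right_inv φ := rfl
  map_add' ω ω' := rfl
  map_smul' a ω := by
    ext x
    rw [smulA_def, Disc.Omega.smul_toLinearMap_apply, ← Algebra.smul_def, map_smul]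
    rfl

/-- the comparison map `B'₁ ⊗ Ω → Ω₁` -/
noncomputable def Φ (h : Algebra.IsPushout A A₁ B' B'₁) :
    B'₁ ⊗[B'] Disc.Omega A B' →ₗ[B'₁] Disc.Omega A₁ B'₁ :=
  (TensorProduct.lid B'₁ (Disc.Omega A₁ B'₁)).toLinearMap ∘ₗ (omegaBC (B₁ := B'₁) h)

lemma Φ_tmul (h : Algebra.IsPushout A A₁ B' B'₁) (b : B'₁) (ω : Disc.Omega A B') :
    Φ h (b ⊗ₜ ω) = b • bcFin h ω := by
  simp [Φ]

lemma Φ_comp (h : Algebra.IsPushout A A₁ B' B'₁) [Module.Flat A A₁]
    [Module.FinitePresentation A B'] (x : A₁ ⊗[A] (B' →ₗ[A] A)) :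
    (Φ h ((Algebra.IsPushout.cancelBaseChange A A₁ B' B'₁ (Disc.Omega A B')).symm
      ((LinearEquiv.lTensor A₁ (toLin (A := A) (B' := B')).symm) x))).toLinearMap =
    (toDual_isBaseChange h.out).equiv x := by
  induction x using TensorProduct.induction_on with
  | zero => simp
  | add x y hx hy => simp only [map_add, Disc.Omega.add_toLinearMap, hx, hy]
  | tmul a₁ φ =>
    rw [LinearEquiv.lTensor_tmul, Algebra.IsPushout.cancelBaseChange_symm_tmul, Φ_tmul,
      IsBaseChange.equiv_tmul]
    ext x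
    rw [Disc.Omega.smul_toLinearMap_apply, ← Algebra.smul_def, map_smul]
    rfl

lemma Φ_bij (h : Algebra.IsPushout A A₁ B' B'₁) [Module.Flat A A₁]
    [Module.FinitePresentation A B'] : Function.Bijective (Φ h) := by
  let c := (LinearEquiv.lTensor A₁ (toLin (A := A) (B' := B')).symm).toEquiv.trans
    (Algebra.IsPushout.cancelBaseChange A A₁ B' B'₁ (Disc.Omega A B')).symm.toEquiv
  have hc : ∀ x, (Φ h (c x)).toLinearMap = (toDual_isBaseChange h.out).equiv x :=
    fun x => Φ_comp h x
  constructor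
  · intro y y' hyy
    obtain ⟨x, rfl⟩ := c.surjective y
    obtain ⟨x', rfl⟩ := c.surjective y'
    have := congrArg Disc.Omega.toLinearMap hyy
    rw [hc, hc] at this
    rw [(toDual_isBaseChange h.out).equiv.injective this]
  · intro ω₁
    obtain ⟨x, hx⟩ := (toDual_isBaseChange h.out).equiv.surjective ω₁.toLinearMap
    refine ⟨c x, ?_⟩
    apply Disc.Omega.ext
    rw [hc, hx]

end step2


section step3
variable {A B' A₁ B'₁ B₁ : Type u} [CommRing A] [CommRing B'] [CommRing A₁] [CommRing B'₁]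
  [CommRing B₁]
  [Algebra A B'] [Algebra A A₁] [Algebra B' B'₁] [Algebra A₁ B'₁] [Algebra A B'₁]
  [IsScalarTower A A₁ B'₁] [IsScalarTower A B' B'₁]
  [Algebra B'₁ B₁] [Algebra B' B₁] [IsScalarTower B' B'₁ B₁]

lemma omegaBC_comp (h : Algebra.IsPushout A A₁ B' B'₁) [Module.Flat A A₁]
    [Module.FinitePresentation A B'] (y : B₁ ⊗[B'₁] (B'₁ ⊗[B'] Disc.Omega A B')) :
    omegaBC (B₁ := B₁) h
      (AlgebraTensorModule.cancelBaseChange B' B'₁ B₁ B₁ (Disc.Omega A B') y) =
    LinearEquiv.lTensor B₁ (LinearEquiv.ofBijective (Φ h) (Φ_bij h)) y := by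
  induction y using TensorProduct.induction_on with
  | zero => simp
  | add x y hx hy => simp only [map_add, hx, hy]
  | tmul b₁ z =>
    induction z using TensorProduct.induction_on with
    | zero => simp
    | add x y hx hy => simp only [tmul_add, map_add, hx, hy]
    | tmul b ω =>
      rw [AlgebraTensorModule.cancelBaseChange_tmul, omegaBC_tmul, LinearEquiv.lTensor_tmul,
        LinearEquiv.ofBijective_apply, Φ_tmul, tmul_smul, smul_tmul']

theorem main (h : Algebra.IsPushout A A₁ B' B'₁) [Module.Flat A A₁]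
    [Module.FinitePresentation A B'] : Function.Bijective (omegaBC (B₁ := B₁) h) := by
  let C := AlgebraTensorModule.cancelBaseChange B' B'₁ B₁ B₁ (Disc.Omega A B')
  let T := LinearEquiv.lTensor B₁ (LinearEquiv.ofBijective (Φ h) (Φ_bij h))
  have hCT : ∀ y, omegaBC (B₁ := B₁) h (C y) = T y := fun y => omegaBC_comp h y
  constructor
  · intro x x' hxx
    obtain ⟨y, rfl⟩ := C.surjective x
    obtain ⟨y', rfl⟩ := C.surjective x'
    rw [hCT, hCT] at hxx
    rw [T.injective hxx]
  · intro z
    obtain ⟨y, hy⟩ := T.surjective z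
    exact ⟨C y, by rw [hCT, hy]⟩

end step3

end PRE

/-- Flat base change of the relative dualizing module. Let A be a Noetherian ring, A → B' a finite ring
map, A → A₁ a flat ring map with A₁ Noetherian, and B'₁ a ring making A → A₁, B' → B'₁ a cocartesian
square (so B'₁ = B' ⊗_A A₁). For every B'₁-algebra B₁ the base-change map B₁ ⊗_{B'} Hom_A(B', A) →
B₁ ⊗_{B'₁} Hom_{A₁}(B'₁, A₁), sending b₁ ⊗ φ to b₁ ⊗ φ₁ where φ₁(b' a₁) = φ(b') a₁, is bijective.
(The published statement is the case in which A → B' → B, with Spec B → Spec B' an open immersion,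
computes the relative dualizing module ω_{B/A} of a quasi-finite map A → B and B₁ = B ⊗_A A₁, where
the map reads ω_{B/A} ⊗_B B₁ → ω_{B₁/A₁}; the version for an arbitrary B'₁-algebra B₁ is what the
printed argument gives, and with A₁ = A_f, B₁ = B it also yields ω_{B/A} = ω_{B/A_f} when A → B
factors through A_f.) -/
theorem result (A B' A₁ B'₁ B₁ : Type u) [CommRing A] [CommRing B'] [CommRing A₁] [CommRing B'₁] [CommRing B₁] [IsNoetherianRing A] [IsNoetherianRing A₁] [Algebra A B'] [Module.Finite A B'] [Algebra A A₁] [Module.Flat A A₁] [Algebra B' B'₁] [Algebra A₁ B'₁] [Algebra A B'₁] [IsScalarTower A A₁ B'₁] [IsScalarTower A B' B'₁] (h : Algebra.IsPushout A A₁ B' B'₁) [Algebra B'₁ B₁] [Algebra B' B₁] [IsScalarTower B' B'₁ B₁] : Function.Bijective (QFDual.omegaBC (B₁ := B₁) h) := by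
  haveI : Module.FinitePresentation A B' := Module.finitePresentation_of_finite A B'
  exact main h

end Groth.Agent.S8958
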