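import Groth.Statements.S8966
import Mathlib
import Groth.Agent.S1276
-- import your own Groth.Agent.* helpers here

set_option autoImplicit false
universe u
open QFDual

namespace Groth.Agent.S8966

open TensorProduct

section
variable {A B : Type*} [CommRing A] [CommRing B] [Algebra A B]

/-- `toLinearMap` as an additive hom. -/
def toLinAddHom : Disc.Omega A B →+ (B →ₗ[A] A) where
  toFun := Disc.Omega.toLinearMap
  map_zero' := rfl
  map_add' := fun _ _ => rfl

lemma omega_expand {ι : Type*} [Fintype ι] (b : Module.Basis ι A B) (φ : Disc.Omega A B) :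
    φ = ∑ i, algebraMap A B (φ.toLinearMap (b i)) • (⟨b.coord i⟩ : Disc.Omega A B) := by
  apply Disc.Omega.ext
  apply LinearMap.ext
  intro x
  have h1 : (∑ i, algebraMap A B (φ.toLinearMap (b i)) • (⟨b.coord i⟩ : Disc.Omega A B)).toLinearMap
      = ∑ i, (algebraMap A B (φ.toLinearMap (b i)) • (⟨b.coord i⟩ : Disc.Omega A B)).toLinearMap :=
    map_sum (toLinAddHom (A := A) (B := B)) _ _
  rw [h1, LinearMap.sum_apply]
  have h2 : ∀ i, (algebraMap A B (φ.toLinearMap (b i)) • (⟨b.coord i⟩ : Disc.Omega A B)).toLinearMap x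
      = b.repr x i * φ.toLinearMap (b i) := by
    intro i
    rw [Disc.Omega.smul_toLinearMap_apply, ← Algebra.smul_def]
    show b.coord i (φ.toLinearMap (b i) • x) = _
    rw [map_smul, Module.Basis.coord_apply, smul_eq_mul, mul_comm]
  simp only [h2]
  conv_lhs => rw [← b.sum_repr x]
  rw [map_sum]
  refine Finset.sum_congr rfl fun i _ => ?_
  rw [map_smul, smul_eq_mul]

end


/-- First assertion, affine finite free case. Let A and A' be Noetherian rings, B an A-algebra which is
finite free as an A-module, A → A' a ring map and B' a ring making A → A', B → B' cocartesian (B' =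
B ⊗_A A', again finite free over A'). Write 𝔇 ⊆ B and 𝔇' ⊆ B' for the differents: the ideals of
elements b with b · Hom_A(B, A) ⊆ B · Trace_{B/A}, respectively b' · Hom_{A'}(B', A') ⊆ B' ·
Trace_{B'/A'}. Then 𝔇B' ⊆ 𝔇' and these two ideals of B' have the same radical. (The published
statement is for the different of a flat quasi-finite morphism of Noetherian schemes under base
change, phrased with the closed subschemes the differents cut out; this row is the affine finite
free case, where the relative dualizing module is Hom_A(B, A) and the trace element is the trace.) -/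
theorem result (A B A' B' : Type u) [CommRing A] [CommRing B] [CommRing A'] [CommRing B'] [IsNoetherianRing A] [IsNoetherianRing A'] [Algebra A B] [Module.Finite A B] [Module.Free A B] [Algebra A A'] [Algebra B B'] [Algebra A' B'] [Algebra A B'] [IsScalarTower A A' B'] [IsScalarTower A B B'] (hB : Algebra.IsPushout A A' B B') [Module.Finite A' B'] [Module.Free A' B'] : Ideal.map (algebraMap B B') (QFDual.different B (Disc.Omega.trace A B)) ≤ QFDual.different B' (Disc.Omega.trace A' B') ∧ (Ideal.map (algebraMap B B') (QFDual.different B (Disc.Omega.trace A B))).radical = (QFDual.different B' (Disc.Omega.trace A' B')).radical := by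
  classical
  let ι := Module.Free.ChooseBasisIndex A B
  let b : Module.Basis ι A B := Module.Free.chooseBasis A B
  let b' : Module.Basis ι A' B' := hB.out.basis b
  have hb' : ∀ i, b' i = algebraMap B B' (b i) := fun i => hB.out.basis_apply b i
  let β : ι → Disc.Omega A B := fun i => ⟨b.coord i⟩
  let β' : ι → Disc.Omega A' B' := fun i => ⟨b'.coord i⟩
  let τ : Disc.Omega A B := Disc.Omega.trace A B
  let τ' : Disc.Omega A' B' := Disc.Omega.trace A' B'
  -- Fact 1
  have hβ : ∀ i, QFDual.bcFin hB (β i) = β' i := by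
    intro i
    apply Disc.Omega.ext
    show hB.out.toDual (b.coord i) = b'.coord i
    refine hB.out.algHom_ext _ _ fun v => ?_
    rw [IsBaseChange.toDual_comp_apply, Module.Basis.coord_apply, Module.Basis.coord_apply]
    exact (hB.out.basis_repr_comp_apply b v i).symm
  -- Fact T
  have hT : QFDual.bcFin hB τ = τ' := by
    apply Disc.Omega.ext
    show hB.out.toDual (Algebra.trace A B) = Algebra.trace A' B'
    refine hB.out.algHom_ext _ _ fun v => ?_
    rw [IsBaseChange.toDual_comp_apply, Algebra.trace_eq_matrix_trace b,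
      Algebra.trace_eq_matrix_trace b', Matrix.trace, Matrix.trace, map_sum]
    refine Finset.sum_congr rfl fun i _ => ?_
    rw [Matrix.diag_apply, Matrix.diag_apply, Algebra.leftMulMatrix_eq_repr_mul,
      Algebra.leftMulMatrix_eq_repr_mul, hb' i]
    show _ = b'.repr (algebraMap B B' v * algebraMap B B' (b i)) i
    rw [← map_mul]
    exact (hB.out.basis_repr_comp_apply b (v * b i) i).symm
  -- Claim 1
  have hclaim1 : Ideal.map (algebraMap B B') (QFDual.different B (Disc.Omega.trace A B)) ≤
      QFDual.different B' (Disc.Omega.trace A' B') := by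
    rw [Ideal.map_le_iff_le_comap]
    intro x hx
    rw [Ideal.mem_comap, QFDual.mem_different_iff]
    intro φ'
    rw [QFDual.mem_different_iff] at hx
    choose c hc using fun i => hx (β i)
    refine ⟨∑ i, algebraMap A' B' (φ'.toLinearMap (b' i)) * algebraMap B B' (c i), ?_⟩
    have hφ' := omega_expand b' φ'
    rw [Finset.sum_smul]
    conv_rhs => rw [hφ', Finset.smul_sum]
    refine Finset.sum_congr rfl fun i _ => ?_
    rw [mul_smul, smul_comm (algebraMap B B' x)]
    congr 1
    have e1 : QFDual.bcFin hB (c i • τ) = algebraMap B B' (c i) • QFDual.bcFin hB τ :=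
      map_smulₛₗ _ _ _
    have e2 : QFDual.bcFin hB (x • β i) = algebraMap B B' x • QFDual.bcFin hB (β i) :=
      map_smulₛₗ _ _ _
    rw [hT] at e1
    rw [hβ i] at e2
    rw [← e1, ← e2, hc i]
  -- the comparison map G
  let G : B' ⊗[B] Disc.Omega A B →ₗ[B'] Disc.Omega A' B' :=
    (TensorProduct.lid B' (Disc.Omega A' B')).toLinearMap ∘ₗ (QFDual.omegaBC (B₁ := B') hB)
  have hG : ∀ (c' : B') (φ : Disc.Omega A B), G (c' ⊗ₜ φ) = c' • QFDual.bcFin hB φ := fun c' φ => by
    show TensorProduct.lid B' _ (QFDual.omegaBC (B₁ := B') hB (c' ⊗ₜ φ)) = _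
    rw [QFDual.omegaBC_tmul, TensorProduct.lid_tmul]
  let r : Disc.Omega A' B' → B' ⊗[B] Disc.Omega A B := fun φ' =>
    ∑ i, algebraMap A' B' (φ'.toLinearMap (b' i)) • ((1 : B') ⊗ₜ[B] β i)
  have hr_add : ∀ x y, r (x + y) = r x + r y := by
    intro x y
    simp only [r, Disc.Omega.add_toLinearMap, LinearMap.add_apply, map_add, add_smul,
      Finset.sum_add_distrib]
  have hr_zero : r 0 = 0 := by
    simp only [r, Disc.Omega.zero_toLinearMap, LinearMap.zero_apply, map_zero, zero_smul,
      Finset.sum_const_zero]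
  have hr_smul : ∀ (a' : A') (φ' : Disc.Omega A' B'),
      r (algebraMap A' B' a' • φ') = algebraMap A' B' a' • r φ' := by
    intro a' φ'
    simp only [r, Finset.smul_sum]
    refine Finset.sum_congr rfl fun i _ => ?_
    rw [Disc.Omega.smul_toLinearMap_apply, ← Algebra.smul_def, map_smul, smul_eq_mul, map_mul,
      mul_smul]
  have hrG1 : ∀ ψ : Disc.Omega A B, r (QFDual.bcFin hB ψ) = (1 : B') ⊗ₜ[B] ψ := by
    intro ψ
    have h1 : ∀ i, algebraMap A' B' ((QFDual.bcFin hB ψ).toLinearMap (b' i)) • ((1 : B') ⊗ₜ[B] β i)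
        = (1 : B') ⊗ₜ[B] (algebraMap A B (ψ.toLinearMap (b i)) • β i) := by
      intro i
      rw [hb' i, QFDual.bcFin_apply_algebraMap, ← IsScalarTower.algebraMap_apply,
        IsScalarTower.algebraMap_apply A B B', TensorProduct.smul_tmul', smul_eq_mul, mul_one,
        ← TensorProduct.smul_tmul, Algebra.smul_def, mul_one]
    show ∑ i, algebraMap A' B' ((QFDual.bcFin hB ψ).toLinearMap (b' i)) • ((1 : B') ⊗ₜ[B] β i) = _
    simp only [h1]
    rw [← TensorProduct.tmul_sum, ← omega_expand b ψ]
  have hrG : ∀ x, r (G x) = x := by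
    intro x
    induction x using TensorProduct.induction_on with
    | zero => rw [map_zero, hr_zero]
    | add x y hx hy => rw [map_add, hr_add, hx, hy]
    | tmul c' φ =>
      revert φ
      refine IsBaseChange.inductionOn hB.out c'
        (fun c' => ∀ φ : Disc.Omega A B, r (G (c' ⊗ₜ φ)) = c' ⊗ₜ φ) ?_ ?_ ?_ ?_
      · intro φ; rw [TensorProduct.zero_tmul, map_zero, hr_zero]
      · intro c φ
        have h1 : ((IsScalarTower.toAlgHom A B B').toLinearMap c) ⊗ₜ[B] φ =
            (1 : B') ⊗ₜ[B] (c • φ) := by
          rw [← TensorProduct.smul_tmul, Algebra.smul_def, mul_one]; rfl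
        rw [h1, hG, one_smul, hrG1]
      · intro a' n hn φ
        have h1 : (a' • n) ⊗ₜ[B] φ = algebraMap A' B' a' • (n ⊗ₜ[B] φ) := by
          rw [TensorProduct.smul_tmul', smul_eq_mul, Algebra.smul_def]
        rw [h1, map_smul, hr_smul, hn]
      · intro n1 n2 h1 h2 φ
        rw [TensorProduct.add_tmul, map_add, hr_add, h1, h2]
  have hGinj : Function.Injective G := Function.LeftInverse.injective hrG
  have hfin : Module.Finite B (Disc.Omega A B) := by
    refine ⟨⟨Finset.univ.image β, ?_⟩⟩
    rw [eq_top_iff]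
    intro φ _
    rw [omega_expand b φ]
    exact Submodule.sum_mem _ fun i _ => Submodule.smul_mem _ _
      (Submodule.subset_span (by simp [β]))
  -- Claim 2
  have hcore : ∀ (F : Type u) [Field F] [Algebra B' F] [Algebra B F] [IsScalarTower B B' F]
      (b0 : B'), b0 ∈ QFDual.different B' (Disc.Omega.trace A' B') → algebraMap B' F b0 ≠ 0 →
      QFDual.different B (Disc.Omega.trace A B) ≤ RingHom.ker (algebraMap B F) → False := by
    intro F _ _ _ _ b0 hb0 h5 hD
    let Q := Disc.Omega A B ⧸ (Submodule.span B {τ})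
    have : Module.Finite B (Disc.Omega A B) := hfin
    have hsupp : (⟨RingHom.ker (algebraMap B F), RingHom.ker_isPrime _⟩ : PrimeSpectrum B) ∈
        Module.support B Q := by
      rw [Module.mem_support_iff_of_finite]
      intro x hx
      apply hD
      rw [QFDual.mem_different_iff]
      intro m
      have h1 := Module.mem_annihilator.1 hx (Submodule.Quotient.mk m)
      rw [← Submodule.Quotient.mk_smul, Submodule.Quotient.mk_eq_zero,
        Submodule.mem_span_singleton] at h1
      exact h1
    have hnt : Nontrivial (F ⊗[B] Q) :=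
      Groth.Agent.S1276.nontrivial_tensor_of_mem_support _ rfl hsupp
    let Θ : B' ⊗[B] Disc.Omega A B →ₗ[B] F ⊗[B] Q :=
      TensorProduct.map (IsScalarTower.toAlgHom B B' F).toLinearMap (Submodule.mkQ _)
    have hΘ : ∀ (c' : B') (x : B' ⊗[B] Disc.Omega A B),
        Θ (c' • x) = algebraMap B' F c' • Θ x := by
      intro c' x
      induction x using TensorProduct.induction_on with
      | zero => simp
      | add x y hx hy => rw [smul_add, map_add, hx, hy, map_add, smul_add]
      | tmul d φ =>
        rw [TensorProduct.smul_tmul', smul_eq_mul]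
        show (algebraMap B' F (c' * d)) ⊗ₜ[B] _ = algebraMap B' F c' • ((algebraMap B' F d) ⊗ₜ[B] _)
        rw [map_mul, TensorProduct.smul_tmul', smul_eq_mul]
    have hzero : ∀ φ : Disc.Omega A B, (1 : F) ⊗ₜ[B] (Submodule.Quotient.mk φ : Q) = 0 := by
      intro φ
      obtain ⟨c', hc'⟩ := (QFDual.mem_different_iff _ _ _).1 hb0 (QFDual.bcFin hB φ)
      have h1 : G (c' • ((1 : B') ⊗ₜ[B] τ)) = G (b0 • ((1 : B') ⊗ₜ[B] φ)) := by
        rw [map_smul, map_smul, hG, hG, one_smul, one_smul, hT]
        exact hc'
      have h2 := hGinj h1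
      have h3 := congrArg Θ h2
      rw [hΘ, hΘ] at h3
      have h4 : Θ ((1 : B') ⊗ₜ[B] τ) = 0 := by
        show (algebraMap B' F 1) ⊗ₜ[B] (Submodule.Quotient.mk τ : Q) = 0
        rw [(Submodule.Quotient.mk_eq_zero _).2 (Submodule.mem_span_singleton_self τ),
          TensorProduct.tmul_zero]
      rw [h4, smul_zero] at h3
      have h6 := (smul_eq_zero.1 h3.symm).resolve_left h5
      have h7 : Θ ((1 : B') ⊗ₜ[B] φ) = (1 : F) ⊗ₜ[B] (Submodule.Quotient.mk φ : Q) := by
        show (algebraMap B' F 1) ⊗ₜ[B] _ = _
        rw [map_one]; rfl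
      rw [← h7]; exact h6
    have hall : ∀ z : F ⊗[B] Q, z = 0 := by
      intro z
      induction z using TensorProduct.induction_on with
      | zero => rfl
      | add x y hx hy => rw [hx, hy, add_zero]
      | tmul f m =>
        obtain ⟨φ, rfl⟩ := Submodule.Quotient.mk_surjective _ m
        have h1 : f ⊗ₜ[B] (Submodule.Quotient.mk φ : Q) =
            f • ((1 : F) ⊗ₜ[B] (Submodule.Quotient.mk φ : Q)) := by
          rw [TensorProduct.smul_tmul', smul_eq_mul, mul_one]
        rw [h1, hzero, smul_zero]
    obtain ⟨x, y, hxy⟩ := hnt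
    exact hxy ((hall x).trans (hall y).symm)
  have hclaim2 : ∀ q' : Ideal B', q'.IsPrime →
      Ideal.map (algebraMap B B') (QFDual.different B (Disc.Omega.trace A B)) ≤ q' →
      QFDual.different B' (Disc.Omega.trace A' B') ≤ q' := by
    intro q' hq' hle b0 hb0
    by_contra hbq
    refine hcore q'.ResidueField b0 hb0 ?_ ?_
    · rw [Ne, Ideal.algebraMap_residueField_eq_zero]; exact hbq
    · intro x hx
      rw [RingHom.mem_ker, IsScalarTower.algebraMap_apply B B' q'.ResidueField,
        Ideal.algebraMap_residueField_eq_zero]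
      exact hle (Ideal.mem_map_of_mem _ hx)
  refine ⟨hclaim1, ?_⟩
  apply le_antisymm (Ideal.radical_mono hclaim1)
  rw [Ideal.radical_le_radical_iff, Ideal.radical_eq_sInf]
  exact le_sInf fun J hJ => hclaim2 J hJ.2 hJ.1

end Groth.Agent.S8966
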