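import Groth.Statements.S8968
import Mathlib
import Groth.Agent.S8966
-- import your own Groth.Agent.* helpers here

set_option autoImplicit false
universe u
open QFDual

namespace Groth.Agent.S8968

open TensorProduct
open Groth.Agent.S8966 (omega_expand)

lemma core (A B A' B' : Type u) [CommRing A] [CommRing B] [CommRing A'] [CommRing B']
    [Algebra A B] [Module.Finite A B] [Module.Free A B] [Algebra A A'] [Algebra B B']
    [Algebra A' B'] [Algebra A B'] [IsScalarTower A A' B'] [IsScalarTower A B B']
    (hB : Algebra.IsPushout A A' B B') [Module.Finite A' B'] [Module.Free A' B'] :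
    ∃ G : B' ⊗[B] Disc.Omega A B →ₗ[B'] Disc.Omega A' B',
      (∀ (c' : B') (φ : Disc.Omega A B), G (c' ⊗ₜ φ) = c' • QFDual.bcFin hB φ) ∧
      Function.Injective G ∧
      QFDual.bcFin hB (Disc.Omega.trace A B) = Disc.Omega.trace A' B' ∧
      Ideal.map (algebraMap B B') (QFDual.different B (Disc.Omega.trace A B)) ≤
        QFDual.different B' (Disc.Omega.trace A' B') := by
  classical
  let ι := Module.Free.ChooseBasisIndex A B
  let b : Module.Basis ι A B := Module.Free.chooseBasis A B
  let b' : Module.Basis ι A' B' := hB.out.basis b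
  have hb' : ∀ i, b' i = algebraMap B B' (b i) := fun i => hB.out.basis_apply b i
  let β : ι → Disc.Omega A B := fun i => ⟨b.coord i⟩
  let β' : ι → Disc.Omega A' B' := fun i => ⟨b'.coord i⟩
  let τ : Disc.Omega A B := Disc.Omega.trace A B
  let τ' : Disc.Omega A' B' := Disc.Omega.trace A' B'
  -- Fact 1
  have hβ : ∀ i, QFDual.bcFin hB (β i) = β' i := by
    intro i
    apply Disc.Omega.ext
    show hB.out.toDual (b.coord i) = b'.coord i
    refine hB.out.algHom_ext _ _ fun v => ?_
    rw [IsBaseChange.toDual_comp_apply, Module.Basis.coord_apply, Module.Basis.coord_apply]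
    exact (hB.out.basis_repr_comp_apply b v i).symm
  -- Fact T
  have hT : QFDual.bcFin hB τ = τ' := by
    apply Disc.Omega.ext
    show hB.out.toDual (Algebra.trace A B) = Algebra.trace A' B'
    refine hB.out.algHom_ext _ _ fun v => ?_
    rw [IsBaseChange.toDual_comp_apply, Algebra.trace_eq_matrix_trace b,
      Algebra.trace_eq_matrix_trace b', Matrix.trace, Matrix.trace, map_sum]
    refine Finset.sum_congr rfl fun i _ => ?_
    rw [Matrix.diag_apply, Matrix.diag_apply, Algebra.leftMulMatrix_eq_repr_mul,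
      Algebra.leftMulMatrix_eq_repr_mul, hb' i]
    show _ = b'.repr (algebraMap B B' v * algebraMap B B' (b i)) i
    rw [← map_mul]
    exact (hB.out.basis_repr_comp_apply b (v * b i) i).symm
  -- Claim 1
  have hclaim1 : Ideal.map (algebraMap B B') (QFDual.different B (Disc.Omega.trace A B)) ≤
      QFDual.different B' (Disc.Omega.trace A' B') := by
    rw [Ideal.map_le_iff_le_comap]
    intro x hx
    rw [Ideal.mem_comap, QFDual.mem_different_iff]
    intro φ'
    rw [QFDual.mem_different_iff] at hx
    choose c hc using fun i => hx (β i)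
    refine ⟨∑ i, algebraMap A' B' (φ'.toLinearMap (b' i)) * algebraMap B B' (c i), ?_⟩
    have hφ' := omega_expand b' φ'
    rw [Finset.sum_smul]
    conv_rhs => rw [hφ', Finset.smul_sum]
    refine Finset.sum_congr rfl fun i _ => ?_
    rw [mul_smul, smul_comm (algebraMap B B' x)]
    congr 1
    have e1 : QFDual.bcFin hB (c i • τ) = algebraMap B B' (c i) • QFDual.bcFin hB τ :=
      map_smulₛₗ _ _ _
    have e2 : QFDual.bcFin hB (x • β i) = algebraMap B B' x • QFDual.bcFin hB (β i) :=
      map_smulₛₗ _ _ _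
    rw [hT] at e1
    rw [hβ i] at e2
    rw [← e1, ← e2, hc i]
  -- the comparison map G
  let G : B' ⊗[B] Disc.Omega A B →ₗ[B'] Disc.Omega A' B' :=
    (TensorProduct.lid B' (Disc.Omega A' B')).toLinearMap ∘ₗ (QFDual.omegaBC (B₁ := B') hB)
  have hG : ∀ (c' : B') (φ : Disc.Omega A B), G (c' ⊗ₜ φ) = c' • QFDual.bcFin hB φ := fun c' φ => by
    show TensorProduct.lid B' _ (QFDual.omegaBC (B₁ := B') hB (c' ⊗ₜ φ)) = _
    rw [QFDual.omegaBC_tmul, TensorProduct.lid_tmul]
  let r : Disc.Omega A' B' → B' ⊗[B] Disc.Omega A B := fun φ' =>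
    ∑ i, algebraMap A' B' (φ'.toLinearMap (b' i)) • ((1 : B') ⊗ₜ[B] β i)
  have hr_add : ∀ x y, r (x + y) = r x + r y := by
    intro x y
    simp only [r, Disc.Omega.add_toLinearMap, LinearMap.add_apply, map_add, add_smul,
      Finset.sum_add_distrib]
  have hr_zero : r 0 = 0 := by
    simp only [r, Disc.Omega.zero_toLinearMap, LinearMap.zero_apply, map_zero, zero_smul,
      Finset.sum_const_zero]
  have hr_smul : ∀ (a' : A') (φ' : Disc.Omega A' B'),
      r (algebraMap A' B' a' • φ') = algebraMap A' B' a' • r φ' := by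
    intro a' φ'
    simp only [r, Finset.smul_sum]
    refine Finset.sum_congr rfl fun i _ => ?_
    rw [Disc.Omega.smul_toLinearMap_apply, ← Algebra.smul_def, map_smul, smul_eq_mul, map_mul,
      mul_smul]
  have hrG1 : ∀ ψ : Disc.Omega A B, r (QFDual.bcFin hB ψ) = (1 : B') ⊗ₜ[B] ψ := by
    intro ψ
    have h1 : ∀ i, algebraMap A' B' ((QFDual.bcFin hB ψ).toLinearMap (b' i)) • ((1 : B') ⊗ₜ[B] β i)
        = (1 : B') ⊗ₜ[B] (algebraMap A B (ψ.toLinearMap (b i)) • β i) := by
      intro i
      rw [hb' i, QFDual.bcFin_apply_algebraMap, ← IsScalarTower.algebraMap_apply,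
        IsScalarTower.algebraMap_apply A B B', TensorProduct.smul_tmul', smul_eq_mul, mul_one,
        ← TensorProduct.smul_tmul, Algebra.smul_def, mul_one]
    show ∑ i, algebraMap A' B' ((QFDual.bcFin hB ψ).toLinearMap (b' i)) • ((1 : B') ⊗ₜ[B] β i) = _
    simp only [h1]
    rw [← TensorProduct.tmul_sum, ← omega_expand b ψ]
  have hrG : ∀ x, r (G x) = x := by
    intro x
    induction x using TensorProduct.induction_on with
    | zero => rw [map_zero, hr_zero]
    | add x y hx hy => rw [map_add, hr_add, hx, hy]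
    | tmul c' φ =>
      revert φ
      refine IsBaseChange.inductionOn hB.out c'
        (fun c' => ∀ φ : Disc.Omega A B, r (G (c' ⊗ₜ φ)) = c' ⊗ₜ φ) ?_ ?_ ?_ ?_
      · intro φ; rw [TensorProduct.zero_tmul, map_zero, hr_zero]
      · intro c φ
        have h1 : ((IsScalarTower.toAlgHom A B B').toLinearMap c) ⊗ₜ[B] φ =
            (1 : B') ⊗ₜ[B] (c • φ) := by
          rw [← TensorProduct.smul_tmul, Algebra.smul_def, mul_one]; rfl
        rw [h1, hG, one_smul, hrG1]
      · intro a' n hn φ
        have h1 : (a' • n) ⊗ₜ[B] φ = algebraMap A' B' a' • (n ⊗ₜ[B] φ) := by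
          rw [TensorProduct.smul_tmul', smul_eq_mul, Algebra.smul_def]
        rw [h1, map_smul, hr_smul, hn]
      · intro n1 n2 h1 h2 φ
        rw [TensorProduct.add_tmul, map_add, hr_add, h1, h2]
  have hGinj : Function.Injective G := Function.LeftInverse.injective hrG
  exact ⟨G, hG, hGinj, hT, hclaim1⟩


/-- Invertible dualizing module, affine finite free case. Let A and A' be Noetherian rings, B an
A-algebra which is finite free as an A-module, A → A' a ring map and B' a ring making A → A', B → B'
cocartesian (B' = B ⊗_A A', again finite free over A'). Write 𝔇 ⊆ B and 𝔇' ⊆ B' for the differents: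
the ideals of elements b with b · Hom_A(B, A) ⊆ B · Trace_{B/A}, respectively b' · Hom_{A'}(B', A')
⊆ B' · Trace_{B'/A'}. If ω_{B/A} = Hom_A(B, A), with B acting through the argument, is an invertible
B-module, then 𝔇B' = 𝔇'. (The published statement is for the different of a flat quasi-finite
morphism of Noetherian schemes under base change, phrased with the closed subschemes the differents
cut out; this row is the affine finite free case, where the relative dualizing module is Hom_A(B, A)
and the trace element is the trace.) -/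
theorem result (A B A' B' : Type u) [CommRing A] [CommRing B] [CommRing A'] [CommRing B'] [IsNoetherianRing A] [IsNoetherianRing A'] [Algebra A B] [Module.Finite A B] [Module.Free A B] [Algebra A A'] [Algebra B B'] [Algebra A' B'] [Algebra A B'] [IsScalarTower A A' B'] [IsScalarTower A B B'] (hB : Algebra.IsPushout A A' B B') [Module.Finite A' B'] [Module.Free A' B'] [Module.Invertible B (Disc.Omega A B)] : Ideal.map (algebraMap B B') (QFDual.different B (Disc.Omega.trace A B)) = QFDual.different B' (Disc.Omega.trace A' B') := by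
  classical
  obtain ⟨G, hG, hGinj, hT, hclaim1⟩ := core A B A' B' hB
  apply le_antisymm hclaim1
  intro b0 hb0
  let τ : Disc.Omega A B := Disc.Omega.trace A B
  obtain ⟨z, hz⟩ := (Module.Invertible.bijective (R := B) (M := Disc.Omega A B)).2 (1 : B)
  obtain ⟨S, hS⟩ := z.exists_finset
  have hone : ∑ i ∈ S, i.1 i.2 = (1 : B) := by
    rw [← hz, hS, map_sum]
    refine Finset.sum_congr rfl fun i _ => ?_
    rw [contractLeft_apply]
  have hswap : ∀ (l : Module.Dual B (Disc.Omega A B)) (x y : Disc.Omega A B),
      l x • y = l y • x := by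
    intro l x y
    let f : Disc.Omega A B ⊗[B] Disc.Omega A B →ₗ[B] Disc.Omega A B :=
      TensorProduct.lift ((LinearMap.lsmul B (Disc.Omega A B)).comp l)
    have h1 := congrArg f (Module.Invertible.tmul_comm (R := B) (m₁ := x) (m₂ := y))
    simpa [f] using h1
  have hmem : ∀ l : Module.Dual B (Disc.Omega A B),
      l τ ∈ QFDual.different B (Disc.Omega.trace A B) := by
    intro l
    rw [QFDual.mem_different_iff]
    intro m
    exact ⟨l m, hswap l m τ⟩
  have hkey : ∀ i ∈ S, ∃ c' : B',
      algebraMap B B' (i.1 i.2) * b0 = c' * algebraMap B B' (i.1 τ) := by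
    intro i _
    obtain ⟨c', hc'⟩ := (QFDual.mem_different_iff _ _ _).1 hb0 (QFDual.bcFin hB i.2)
    have h1 : G (c' • ((1 : B') ⊗ₜ[B] τ)) = G (b0 • ((1 : B') ⊗ₜ[B] i.2)) := by
      rw [map_smul, map_smul, hG, hG, one_smul, one_smul, hT]
      exact hc'
    have h2 := hGinj h1
    let Λ : B' ⊗[B] Disc.Omega A B →ₗ[B'] B' :=
      LinearMap.liftBaseChange B' ((Algebra.linearMap B B').comp i.1)
    have h3 := congrArg Λ h2
    rw [map_smul, map_smul] at h3
    have hΛ : ∀ φ : Disc.Omega A B, Λ ((1 : B') ⊗ₜ[B] φ) = algebraMap B B' (i.1 φ) := by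
      intro φ
      simp [Λ]
    rw [hΛ, hΛ, smul_eq_mul, smul_eq_mul] at h3
    exact ⟨c', by rw [mul_comm, ← h3]⟩
  choose! c hc using hkey
  have hb0' : b0 = ∑ i ∈ S, c i * algebraMap B B' (i.1 τ) := by
    calc b0 = algebraMap B B' (∑ i ∈ S, i.1 i.2) * b0 := by rw [hone, map_one, one_mul]
      _ = ∑ i ∈ S, algebraMap B B' (i.1 i.2) * b0 := by rw [map_sum, Finset.sum_mul]
      _ = ∑ i ∈ S, c i * algebraMap B B' (i.1 τ) := Finset.sum_congr rfl fun i hi => hc i hi
  rw [hb0']
  exact Ideal.sum_mem _ fun i _ => Ideal.mul_mem_left _ _ (Ideal.mem_map_of_mem _ (hmem i.1))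

end Groth.Agent.S8968
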