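import Groth.Statements.S8967
import Mathlib
import Groth.Agent.S8968
-- import your own Groth.Agent.* helpers here

set_option autoImplicit false
universe u
open QFDual

namespace Groth.Agent.S8967

open TensorProduct

/-- Colon ideals commute with flat base change (finitely many generators). -/
lemma colon_le_of_flat {R S : Type*} [CommRing R] [CommRing S] [Algebra R S] [Module.Flat R S]
    {M : Type*} [AddCommGroup M] [Module R M] (N : Submodule R M) {ι : Type*} [Fintype ι]
    (m : ι → M) (y : S)
    (hy : ∀ i, y • ((1 : S) ⊗ₜ[R] m i) ∈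
      LinearMap.range (TensorProduct.AlgebraTensorModule.lTensor S S N.subtype)) :
    y ∈ Ideal.map (algebraMap R S) (⨅ i, N.colon {m i}) := by
  classical
  let f : R →ₗ[R] (ι → M ⧸ N) :=
    { toFun := fun x i => x • (Submodule.Quotient.mk (m i) : M ⧸ N)
      map_add' := fun x y => by ext i; simp [add_smul]
      map_smul' := fun c x => by ext i; simp [mul_smul] }
  have hker : ∀ a : R, a ∈ LinearMap.ker f → a ∈ ⨅ i, N.colon {m i} := by
    intro a ha
    rw [Submodule.mem_iInf]
    intro i
    rw [Submodule.mem_colon_singleton]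
    have h1 := congrFun (LinearMap.mem_ker.1 ha) i
    have h2 : a • (Submodule.Quotient.mk (m i) : M ⧸ N) = 0 := h1
    rwa [← Submodule.Quotient.mk_smul, Submodule.Quotient.mk_eq_zero] at h2
  have hq : ∀ i, y ⊗ₜ[R] (Submodule.Quotient.mk (m i) : M ⧸ N) = (0 : S ⊗[R] (M ⧸ N)) := by
    intro i
    have hcomp0 : ∀ w : S ⊗[R] N, (TensorProduct.AlgebraTensorModule.lTensor S S N.mkQ)
        ((TensorProduct.AlgebraTensorModule.lTensor S S N.subtype) w) = 0 := by
      intro w
      induction w using TensorProduct.induction_on with
      | zero => simp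
      | tmul s n =>
        rw [TensorProduct.AlgebraTensorModule.lTensor_tmul,
          TensorProduct.AlgebraTensorModule.lTensor_tmul,
          Submodule.subtype_apply, Submodule.mkQ_apply, (Submodule.Quotient.mk_eq_zero N).2 n.2,
          TensorProduct.tmul_zero]
      | add a b ha hb => rw [map_add, map_add, ha, hb, add_zero]
    obtain ⟨w, hw⟩ := hy i
    have h1 : (TensorProduct.AlgebraTensorModule.lTensor S S N.mkQ)
        (y • ((1 : S) ⊗ₜ[R] m i)) = y ⊗ₜ[R] (Submodule.Quotient.mk (m i) : M ⧸ N) := by
      rw [map_smul, TensorProduct.AlgebraTensorModule.lTensor_tmul, TensorProduct.smul_tmul',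
        smul_eq_mul, mul_one]
      rfl
    rw [← h1, ← hw]
    exact hcomp0 w
  have hz : (y ⊗ₜ[R] (1 : R) : S ⊗[R] R) ∈
      LinearMap.ker (TensorProduct.AlgebraTensorModule.lTensor S S f) := by
    rw [LinearMap.mem_ker, TensorProduct.AlgebraTensorModule.lTensor_tmul]
    have h1 : f 1 = ∑ i, Pi.single i (Submodule.Quotient.mk (m i) : M ⧸ N) := by
      ext j
      simp [f, Finset.sum_apply, Pi.single_apply]
    rw [h1, TensorProduct.tmul_sum]
    refine Finset.sum_eq_zero fun i _ => ?_
    have h2 : (Pi.single i (Submodule.Quotient.mk (m i) : M ⧸ N) : ι → M ⧸ N) =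
        LinearMap.single R (fun _ : ι => M ⧸ N) i (Submodule.Quotient.mk (m i)) := rfl
    rw [h2, ← TensorProduct.AlgebraTensorModule.lTensor_tmul (A := S), hq i, map_zero]
  rw [Module.Flat.ker_lTensor_eq] at hz
  obtain ⟨w, hw⟩ := hz
  have key : ∀ w : S ⊗[R] LinearMap.ker f, TensorProduct.rid R S
      (TensorProduct.AlgebraTensorModule.lTensor S S (LinearMap.ker f).subtype w) ∈
        Ideal.map (algebraMap R S) (⨅ i, N.colon {m i}) := by
    intro w
    induction w using TensorProduct.induction_on with
    | zero => simp
    | tmul t a =>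
      rw [TensorProduct.AlgebraTensorModule.lTensor_tmul, Submodule.subtype_apply,
        TensorProduct.rid_tmul, Algebra.smul_def]
      exact Ideal.mul_mem_right _ _ (Ideal.mem_map_of_mem _ (hker a.1 a.2))
    | add x y hx hy => rw [map_add, map_add]; exact add_mem hx hy
  have h3 := key w
  rw [hw, TensorProduct.rid_tmul, one_smul] at h3
  exact h3


/-- Flat base change, affine finite free case. Let A and A' be Noetherian rings, B an A-algebra which is
finite free as an A-module, A → A' a ring map and B' a ring making A → A', B → B' cocartesian (B' =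
B ⊗_A A', again finite free over A'). Write 𝔇 ⊆ B and 𝔇' ⊆ B' for the differents: the ideals of
elements b with b · Hom_A(B, A) ⊆ B · Trace_{B/A}, respectively b' · Hom_{A'}(B', A') ⊆ B' ·
Trace_{B'/A'}. If A → A' is flat, then 𝔇B' = 𝔇'. (The published statement is for the different of a
flat quasi-finite morphism of Noetherian schemes under base change, phrased with the closed
subschemes the differents cut out; this row is the affine finite free case, where the relative
dualizing module is Hom_A(B, A) and the trace element is the trace.) -/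
theorem result (A B A' B' : Type u) [CommRing A] [CommRing B] [CommRing A'] [CommRing B'] [IsNoetherianRing A] [IsNoetherianRing A'] [Algebra A B] [Module.Finite A B] [Module.Free A B] [Algebra A A'] [Algebra B B'] [Algebra A' B'] [Algebra A B'] [IsScalarTower A A' B'] [IsScalarTower A B B'] (hB : Algebra.IsPushout A A' B B') [Module.Finite A' B'] [Module.Free A' B'] [Module.Flat A A'] : Ideal.map (algebraMap B B') (QFDual.different B (Disc.Omega.trace A B)) = QFDual.different B' (Disc.Omega.trace A' B') := by
  classical
  obtain ⟨G, hG, hGinj, hT, hclaim1⟩ := Groth.Agent.S8968.core A B A' B' hB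
  apply le_antisymm hclaim1
  intro b0 hb0
  have hpo : Algebra.IsPushout A B A' B' := Algebra.IsPushout.symm hB
  have hBflat : Module.Flat B B' :=
    Module.Flat.isBaseChange (R := A) (S := B) (M := A') B' hpo.out
  let ι := Module.Free.ChooseBasisIndex A B
  let b : Module.Basis ι A B := Module.Free.chooseBasis A B
  let β : ι → Disc.Omega A B := fun i => ⟨b.coord i⟩
  let τ : Disc.Omega A B := Disc.Omega.trace A B
  have h1 : b0 ∈ Ideal.map (algebraMap B B') (⨅ i, (Submodule.span B {τ}).colon {β i}) := by
    refine colon_le_of_flat (Submodule.span B {τ}) β b0 fun i => ?_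
    obtain ⟨c', hc'⟩ := (QFDual.mem_different_iff _ _ _).1 hb0 (QFDual.bcFin hB (β i))
    have h2 : G (c' • ((1 : B') ⊗ₜ[B] τ)) = G (b0 • ((1 : B') ⊗ₜ[B] β i)) := by
      rw [map_smul, map_smul, hG, hG, one_smul, one_smul, hT]
      exact hc'
    rw [← hGinj h2]
    refine ⟨c' ⊗ₜ[B] ⟨τ, Submodule.mem_span_singleton_self τ⟩, ?_⟩
    rw [TensorProduct.AlgebraTensorModule.lTensor_tmul, Submodule.subtype_apply,
      TensorProduct.smul_tmul', smul_eq_mul, mul_one]
  refine Ideal.map_mono ?_ h1
  intro x hx
  rw [Submodule.mem_iInf] at hx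
  rw [QFDual.mem_different_iff]
  intro φ
  -- x • φ ∈ B τ since φ is a B-combination of the β i
  have hφ : x • φ ∈ Submodule.span B {τ} := by
    rw [Groth.Agent.S8966.omega_expand b φ, Finset.smul_sum]
    refine Submodule.sum_mem _ fun i _ => ?_
    rw [smul_comm]
    exact Submodule.smul_mem _ _ (Submodule.mem_colon_singleton.1 (hx i))
  exact Submodule.mem_span_singleton.1 hφ

end Groth.Agent.S8967
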