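import Groth.Statements.S8970
import Groth.Agent.Lib.Helper12.CoextCohomology

set_option autoImplicit false
universe u
open CategoryTheory
attribute [local instance] HasDerivedCategory.standard
open Dual

namespace Groth.Agent.S8970

/-- For a Noetherian ring A with a dualizing complex ω, δ(p) denotes the integer such that the
localization at p of Hom(A/p, ω[i]) is nonzero exactly for i = −δ(p); this δ is the dimension
function of ω. Suppose A is a Noetherian ring equipped with a dualizing complex ω, fix a surjective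
ring homomorphism A → B, and take R : D(A) → D(B) to be the right adjoint of restriction of scalars;
then ω_B = R(ω) = RHom_A(B, ω) is a dualizing complex for B. Then δ_{ω_B} is the restriction of δ_ω
to Spec B: for every prime q of B, with p its preimage in A, and every integer i, the localization
at q of the B-module of maps B/q → ω_B[i] in D(B) is nonzero if and only if the localization at p of
the A-module of maps A/p → ω[i] in D(A) is nonzero. -/
theorem result (A B : Type u) [CommRing A] [CommRing B] [IsNoetherianRing A] [IsNoetherianRing B] [Algebra A B] (hs : Function.Surjective (algebraMap A B)) (R : Dual.D A ⥤ Dual.D B) (adj : DRing.restrictD (algebraMap A B) ⊣ R) (ω : Dual.D A) (hω : Dual.IsDualizing A ω) (q : PrimeSpectrum B) (i : ℤ) : Nontrivial (LocalizedModule q.asIdeal.primeCompl (Dual.inD B (B ⧸ q.asIdeal) ⟶ (R.obj ω)⟦i⟧)) ↔ Nontrivial (LocalizedModule (q.asIdeal.comap (algebraMap A B)).primeCompl (Dual.inD A (A ⧸ q.asIdeal.comap (algebraMap A B)) ⟶ ω⟦i⟧)) := by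
  classical
  have _ := hω
  let N : ModuleCat.{u} B := ModuleCat.of B (B ⧸ q.asIdeal)
  let e0 := Groth.Agent.Lib.Helper12.CoextCx.extAdjEquiv R adj ω N i
  let eM : (Groth.Agent.Lib.Helper12.resSc (algebraMap A B)).obj N ≅
      ModuleCat.of A (A ⧸ q.asIdeal.comap (algebraMap A B)) :=
    ((Groth.Agent.Lib.Helper12.PolyDual.resScEquiv (A := A) (B := B) (B ⧸ q.asIdeal)) ≪≫ₗ
      (Groth.Agent.Lib.Helper12.CoextCx.quotientComapEquiv hs q.asIdeal).symm).toModuleIso
  let e1 : (Dual.inD A ((Groth.Agent.Lib.Helper12.resSc (algebraMap A B)).obj N) ⟶ ω⟦i⟧) ≃ₗ[A]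
      (Dual.inD A (A ⧸ q.asIdeal.comap (algebraMap A B)) ⟶ ω⟦i⟧) :=
    Linear.homCongr A (Groth.Agent.Lib.Helper12.inDMapIso eM) (Iso.refl _)
  letI := Groth.Agent.Lib.Helper12.FinAdj.homModA' (A := A) (B := B)
  exact Groth.Agent.Lib.Helper12.CoextCx.nontrivial_localizedModule_iff_of_linearEquiv hs
    q.asIdeal _ _ (e0 ≪≫ₗ e1)

end Groth.Agent.S8970
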