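import Groth.Statements.S8971
import Mathlib

set_option autoImplicit false
universe u
open TensorProduct
open QFDual

namespace Groth.Agent.S8971

section helpers
open AlgebraicGeometry CategoryTheory

lemma localRingHom_bijective_of_isOpenImmersion (B' B : Type u) [CommRing B'] [CommRing B]
    [Algebra B' B]
    (h : IsOpenImmersion (Spec.map (CommRingCat.ofHom (algebraMap B' B))))
    (q : Ideal B) [q.IsPrime] :
    Function.Bijective (Localization.localRingHom (q.comap (algebraMap B' B)) q
      (algebraMap B' B) rfl) := by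
  let p : PrimeSpectrum B := ⟨q, inferInstance⟩
  have hiso : IsIso ((Spec.map (CommRingCat.ofHom (algebraMap B' B))).stalkMap p) :=
    (IsOpenImmersion.iff_isIso_stalkMap.mp h).2 p
  have key := (MorphismProperty.isomorphisms CommRingCat).arrow_mk_iso_iff
    (Scheme.arrowStalkMapSpecIso (CommRingCat.ofHom (algebraMap B' B)) p)
  have h2 : IsIso (CommRingCat.ofHom (Localization.localRingHom (q.comap (algebraMap B' B)) q
      (algebraMap B' B) rfl)) := key.mp hiso
  exact ConcreteCategory.bijective_of_isIso (CommRingCat.ofHom (Localization.localRingHom (q.comap (algebraMap B' B)) q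
      (algebraMap B' B) rfl))

lemma isLocalization_atPrime_of_isOpenImmersion (B' B : Type u) [CommRing B'] [CommRing B]
    [Algebra B' B]
    (h : IsOpenImmersion (Spec.map (CommRingCat.ofHom (algebraMap B' B))))
    (q : Ideal B) [q.IsPrime] :
    IsLocalization.AtPrime (Localization.AtPrime q) (q.comap (algebraMap B' B)) := by
  have hbij := localRingHom_bijective_of_isOpenImmersion B' B h q
  let e : Localization.AtPrime (q.comap (algebraMap B' B)) ≃ₐ[B'] Localization.AtPrime q :=
    AlgEquiv.ofBijective
      { toRingHom := Localization.localRingHom (q.comap (algebraMap B' B)) q (algebraMap B' B) rfl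
        commutes' := fun x => by
          simp [Localization.localRingHom_to_map, IsScalarTower.algebraMap_apply B' B (Localization.AtPrime q)] }
      hbij
  exact IsLocalization.isLocalization_of_algEquiv (q.comap (algebraMap B' B)).primeCompl e


lemma mem_ass_tensor_iff (B' B : Type u) [CommRing B'] [CommRing B] [Algebra B' B]
    [IsNoetherianRing B'] [IsNoetherianRing B]
    (M : Type*) [AddCommGroup M] [Module B' M]
    (q : Ideal B) [q.IsPrime]
    (hloc : IsLocalization.AtPrime (Localization.AtPrime q) (q.comap (algebraMap B' B))) :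
    q ∈ associatedPrimes B (B ⊗[B'] M) ↔ q.comap (algebraMap B' B) ∈ associatedPrimes B' M := by
  set Bq := Localization.AtPrime q with hBq
  set m := IsLocalRing.maximalIdeal Bq with hm
  have hm1 : m.comap (algebraMap B Bq) = q := Localization.AtPrime.comap_maximalIdeal (I := q)
  have hm2 : m.comap (algebraMap B' Bq) = q.comap (algebraMap B' B) := by
    rw [IsScalarTower.algebraMap_eq B' B Bq, ← Ideal.comap_comap, hm1]
  have e1 := Module.associatedPrimes.preimage_comap_associatedPrimes_eq_associatedPrimes_of_isLocalizedModule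
    q.primeCompl Bq (AlgebraTensorModule.rTensor B' M (Algebra.linearMap B Bq))
  have e2 := Module.associatedPrimes.preimage_comap_associatedPrimes_eq_associatedPrimes_of_isLocalizedModule
    (q.comap (algebraMap B' B)).primeCompl Bq (TensorProduct.mk B' Bq M 1)
  have h1 : m ∈ associatedPrimes Bq (Bq ⊗[B'] M) ↔ q ∈ associatedPrimes B (B ⊗[B'] M) := by
    rw [← e1, Set.mem_preimage, hm1]
  have h2 : m ∈ associatedPrimes Bq (Bq ⊗[B'] M) ↔
      q.comap (algebraMap B' B) ∈ associatedPrimes B' M := by
    rw [← e2, Set.mem_preimage, hm2]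
  rw [← h1, h2]


lemma exists_dual_ne_zero (D L : Type*) [CommRing D] [IsDomain D] [IsNoetherianRing D]
    [CommRing L] [IsDomain L] [Algebra D L] [FaithfulSMul D L] [Module.Finite D L] :
    ∃ ψ : L →ₗ[D] D, ψ 1 ≠ 0 := by
  set S := nonZeroDivisors D with hS
  set K := FractionRing D with hK
  set f := LocalizedModule.mkLinearMap S L with hf
  have hf1 : f 1 ≠ 0 := by
    intro h
    obtain ⟨s, hs⟩ := (IsLocalizedModule.eq_zero_iff S f).mp h
    have hs' : algebraMap D L (s : D) = 0 := by
      rw [Algebra.algebraMap_eq_smul_one]; exact hs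
    have : (s : D) = 0 := (FaithfulSMul.algebraMap_injective D L) (by rw [hs', map_zero])
    exact nonZeroDivisors.coe_ne_zero s this
  obtain ⟨φ, hφ⟩ : ∃ φ : Module.Dual K (LocalizedModule S L), φ (f 1) ≠ 0 := by
    by_contra hcon
    push_neg at hcon
    exact hf1 ((Module.forall_dual_apply_eq_zero_iff K (f 1)).mp hcon)
  set g : L →ₗ[D] K := (φ.restrictScalars D) ∘ₗ f with hg
  haveI : Module.FinitePresentation D L := Module.finitePresentation_of_finite D L
  obtain ⟨h, s, hs⟩ := Module.FinitePresentation.exists_lift_of_isLocalizedModule S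
    (Algebra.linearMap D K) g
  refine ⟨h, fun h0 => ?_⟩
  have := LinearMap.congr_fun hs 1
  simp only [LinearMap.coe_comp, Function.comp_apply, h0, map_zero, LinearMap.smul_apply] at this
  have h3 : (s : D) • g 1 = 0 := this.symm
  rw [smul_eq_zero] at h3
  rcases h3 with h3 | h3
  · exact nonZeroDivisors.coe_ne_zero s h3
  · exact hφ h3


section partA
variable {A B' : Type u} [CommRing A] [CommRing B'] [Algebra A B'] [IsNoetherianRing A]
  [Module.Finite A B']

/-- `Ass_{B'}(Hom_A(B',A)) ⊆ {q' | q' ∩ A ∈ Ass A}`. -/
lemma comap_mem_of_mem (q' : Ideal B') (h : q' ∈ associatedPrimes B' (Disc.Omega A B')) :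
    q'.comap (algebraMap A B') ∈ associatedPrimes A A := by
  haveI : IsNoetherianRing B' := IsNoetherianRing.of_finite A B'
  obtain ⟨hq, φ, hφ⟩ := (isAssociatedPrime_iff (I := q') (M := Disc.Omega A B')).mp h
  -- N = range φ
  set N : Submodule A A := LinearMap.range φ.toLinearMap with hN
  have hann : Module.annihilator A N = q'.comap (algebraMap A B') := by
    ext a
    rw [Module.mem_annihilator, Ideal.mem_comap, hφ, Submodule.mem_colon_singleton,
      Submodule.mem_bot]
    constructor
    · intro h
      apply Disc.Omega.ext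
      apply LinearMap.ext
      intro b
      have := h ⟨φ.toLinearMap b, ⟨b, rfl⟩⟩
      have h2 : a • φ.toLinearMap b = 0 := congrArg Subtype.val this
      rw [Disc.Omega.smul_toLinearMap_apply, ← Algebra.smul_def, map_smul]
      exact h2
    · intro h ⟨n, b, hb⟩
      apply Subtype.ext
      show a • n = 0
      rw [← hb, ← map_smul, Algebra.smul_def]
      have := congrArg (fun ψ => ψ.toLinearMap b) h
      simpa using this
  have hprime : (q'.comap (algebraMap A B')).IsPrime := Ideal.comap_isPrime _ _
  have hmin : q'.comap (algebraMap A B') ∈ (Module.annihilator A N).minimalPrimes := by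
    rw [hann, Ideal.minimalPrimes_eq_subsingleton_self]
    rfl
  have h1 := Module.associatedPrimes.minimalPrimes_annihilator_subset_associatedPrimes A N hmin
  exact associatedPrimes.subset_of_injective (f := N.subtype) N.injective_subtype h1

end partA
section partA'

variable {A B' : Type u} [CommRing A] [CommRing B'] [Algebra A B'] [IsNoetherianRing A]
  [Module.Finite A B']

lemma mem_of_comap_mem (q' : Ideal B') [hq' : q'.IsPrime]
    (h : q'.comap (algebraMap A B') ∈ associatedPrimes A A) :
    q' ∈ associatedPrimes B' (Disc.Omega A B') := by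
  haveI : IsNoetherianRing B' := IsNoetherianRing.of_finite A B'
  set p : Ideal A := q'.under A with hp
  change p ∈ associatedPrimes A A at h
  obtain ⟨hpp, x, hx⟩ := (isAssociatedPrime_iff (I := p) (M := A)).mp h
  haveI : p.IsPrime := hpp
  -- multiplication by x
  let μ : (A ⧸ p) →ₗ[A] A := Submodule.liftQ p (LinearMap.toSpanSingleton A A x) (by
    intro a ha
    rw [hx, Submodule.mem_colon_singleton] at ha
    simpa using ha)
  have hμ : Function.Injective μ := by
    rw [← LinearMap.ker_eq_bot, LinearMap.ker_eq_bot']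
    intro d hd
    obtain ⟨a, rfl⟩ := Ideal.Quotient.mk_surjective d
    have : a • x = 0 := hd
    have ha : a ∈ p := by rw [hx, Submodule.mem_colon_singleton]; exact this
    exact Ideal.Quotient.eq_zero_iff_mem.mpr ha
  haveI : Module.Finite A (B' ⧸ q') := Module.Finite.of_surjective (Ideal.Quotient.mkₐ A q').toLinearMap
    (Ideal.Quotient.mkₐ_surjective A q')
  haveI : Module.Finite (A ⧸ p) (B' ⧸ q') := Module.Finite.of_restrictScalars_finite A (A ⧸ p) (B' ⧸ q')
  obtain ⟨ψ₀, hψ₀⟩ := exists_dual_ne_zero (A ⧸ p) (B' ⧸ q')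
  let ψ : B' →ₗ[A] A := μ ∘ₗ (ψ₀.restrictScalars A) ∘ₗ (Ideal.Quotient.mkₐ A q').toLinearMap
  have hψ : ∀ b, ψ b = μ (ψ₀ (Ideal.Quotient.mk q' b)) := fun b => rfl
  rw [show associatedPrimes B' (Disc.Omega A B') = {I | IsAssociatedPrime I (Disc.Omega A B')} from rfl,
    Set.mem_setOf_eq, isAssociatedPrime_iff]
  refine ⟨hq', ⟨ψ⟩, ?_⟩
  ext b
  rw [Submodule.mem_colon_singleton, Submodule.mem_bot]
  constructor
  · intro hb
    apply Disc.Omega.ext
    apply LinearMap.ext
    intro y
    rw [Disc.Omega.smul_toLinearMap_apply]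
    show ψ (b * y) = 0
    rw [hψ, Ideal.Quotient.eq_zero_iff_mem.mpr (q'.mul_mem_right y hb), map_zero, map_zero]
  · intro hb
    by_contra hbq
    have hb0 : Ideal.Quotient.mk q' b ≠ 0 := fun h0 => hbq (Ideal.Quotient.eq_zero_iff_mem.mp h0)
    have key : ∀ l : B' ⧸ q', ψ₀ (Ideal.Quotient.mk q' b * l) = 0 := by
      intro l
      obtain ⟨y, rfl⟩ := Ideal.Quotient.mk_surjective l
      apply hμ
      rw [map_zero, ← map_mul, ← hψ]
      have := congrArg (fun ψ' => ψ'.toLinearMap y) hb
      simpa using this
    have hint : IsIntegral (A ⧸ p) (Ideal.Quotient.mk q' b) := Algebra.IsIntegral.isIntegral _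
    have hne := Ideal.comap_ne_bot_of_integral_mem (R := A ⧸ p) hb0
      (Ideal.mem_span_singleton_self (Ideal.Quotient.mk q' b)) hint
    obtain ⟨d, hd, hd0⟩ := (Submodule.ne_bot_iff _).mp hne
    rw [Ideal.mem_comap, Ideal.mem_span_singleton'] at hd
    obtain ⟨l, hl⟩ := hd
    have h1 := key l
    rw [mul_comm, hl, Algebra.algebraMap_eq_smul_one, map_smul, smul_eq_zero] at h1
    rcases h1 with h1 | h1
    · exact hd0 h1
    · exact hψ₀ h1


end partA'
end helpers


/-- Let A → B be a quasi-finite homomorphism of Noetherian rings, presented by writing it as a composite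
A → B' → B, where the map A → B' is finite and the induced morphism Spec B → Spec B' is an open
immersion, so that ω_{B/A} = B ⊗_{B'} Hom_A(B', A) (B' acting on Hom_A(B', A) through the argument).
Then Ass_B(ω_{B/A}) is the set of primes of B whose preimage in A is an associated prime of A. -/
theorem result (A B' B : Type u) [CommRing A] [CommRing B'] [CommRing B] [IsNoetherianRing A] [IsNoetherianRing B] [Algebra A B'] [Algebra B' B] [Algebra A B] [IsScalarTower A B' B] (hf : QFDual.IsQFFactor A B' B) : associatedPrimes B (QFDual.omega A B' B) = {q : Ideal B | q.IsPrime ∧ q.comap (algebraMap A B) ∈ associatedPrimes A A} := by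
  haveI := hf.finite
  haveI : IsNoetherianRing B' := IsNoetherianRing.of_finite A B'
  ext q
  simp only [Set.mem_setOf_eq]
  constructor
  · intro hq
    have hqp : q.IsPrime := hq.isPrime
    haveI := hqp
    refine ⟨hqp, ?_⟩
    have hloc := isLocalization_atPrime_of_isOpenImmersion B' B hf.isOpenImmersion q
    have h1 := (mem_ass_tensor_iff B' B (Disc.Omega A B') q hloc).mp hq
    have h2 := comap_mem_of_mem _ h1
    rwa [Ideal.comap_comap, ← IsScalarTower.algebraMap_eq] at h2
  · rintro ⟨hqp, hq⟩
    haveI := hqp
    have hloc := isLocalization_atPrime_of_isOpenImmersion B' B hf.isOpenImmersion q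
    apply (mem_ass_tensor_iff B' B (Disc.Omega A B') q hloc).mpr
    apply mem_of_comap_mem
    rwa [Ideal.comap_comap, ← IsScalarTower.algebraMap_eq]

end Groth.Agent.S8971
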