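import Groth.Statements.S8972
import Mathlib

set_option autoImplicit false
open Synt

namespace Groth.Agent.S8972

open MvPolynomial Synt

section Aux

variable (n d : ℕ)

/-- The zero exponent vector. -/
def E0 : UnivIdx n d := ⟨fun _ => 0, by simp⟩

lemma E0_exponent : (E0 n d).exponent = 0 := by
  ext i
  simp [UnivIdx.exponent, E0]

/-- The coefficient variables other than the constant coefficients. -/
abbrev Sg := {p : Fin n × UnivIdx n d // p.2 ≠ E0 n d}

abbrev A' := MvPolynomial (Sg n d) ℤ

abbrev P := MvPolynomial (Fin n) (A' n d)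

abbrev S := MvPolynomial (Fin n) (UnivBase n d)

/-- The non-constant part of the `i`-th universal polynomial, in `P`. -/
noncomputable def tail (i : Fin n) : P n d :=
  ∑ E : UnivIdx n d, if h : E = E0 n d then 0 else monomial E.exponent (X ⟨(i, E), h⟩)

noncomputable def φ : UnivBase n d →+* P n d :=
  eval₂Hom (Int.castRingHom (P n d))
    (fun p => if h : p.2 = E0 n d then - tail n d p.1 else C (X ⟨p, h⟩))

noncomputable def ψ : S n d →+* P n d := eval₂Hom (φ n d) X

noncomputable def θ0 : A' n d →+* S n d :=
  eval₂Hom (Int.castRingHom (S n d)) (fun p' => C (X p'.1))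

noncomputable def θ' : P n d →+* S n d := eval₂Hom (θ0 n d) X

lemma monomial_one_eq {σ R : Type*} [CommSemiring R] (e : σ →₀ ℕ) :
    (monomial e (1 : R)) = e.prod fun i k => (X i : MvPolynomial σ R) ^ k := by
  rw [monomial_eq, map_one, one_mul]

lemma ψ_monomial (e : Fin n →₀ ℕ) (r : UnivBase n d) :
    ψ n d (monomial e r) = φ n d r * monomial e 1 := by
  rw [ψ, coe_eval₂Hom, eval₂_monomial, monomial_one_eq]

lemma θ'_monomial (e : Fin n →₀ ℕ) (r : A' n d) :
    θ' n d (monomial e r) = θ0 n d r * monomial e 1 := by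
  rw [θ', coe_eval₂Hom, eval₂_monomial, monomial_one_eq]

lemma φ_X (p : Fin n × UnivIdx n d) :
    φ n d (X p) = if h : p.2 = E0 n d then - tail n d p.1 else C (X ⟨p, h⟩) := by
  rw [φ, coe_eval₂Hom, eval₂_X]

lemma ψ_univPoly (i : Fin n) : ψ n d (univPoly n d i) = 0 := by
  rw [univPoly, map_sum]
  have h1 : ∀ E : UnivIdx n d, ψ n d (monomial E.exponent (X (i, E)))
      = (if E = E0 n d then - tail n d i else 0)
        + (if h : E = E0 n d then 0 else monomial E.exponent (X ⟨(i, E), h⟩)) := by
    intro E
    rw [ψ_monomial, φ_X]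
    by_cases h : E = E0 n d
    · rw [dif_pos h, if_pos h, dif_pos h, add_zero, h, E0_exponent]
      show - tail n d i * monomial 0 1 = _
      rw [← C_apply, map_one, mul_one]
    · rw [dif_neg h, if_neg h, dif_neg h, zero_add, C_mul_monomial, mul_one]
  rw [Finset.sum_congr rfl (fun E _ => h1 E), Finset.sum_add_distrib, Finset.sum_ite_eq']
  rw [if_pos (Finset.mem_univ _)]
  exact neg_add_cancel _

lemma univIdeal_le_ker : univIdeal n d ≤ RingHom.ker (ψ n d) := by
  rw [univIdeal, Ideal.span_le]
  rintro _ ⟨i, rfl⟩
  exact ψ_univPoly n d i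

lemma θ0_X (p' : Sg n d) : θ0 n d (X p') = C (X p'.1) := by
  rw [θ0, coe_eval₂Hom, eval₂_X]

lemma ψ_θ' (q : P n d) : ψ n d (θ' n d q) = q := by
  have h : (ψ n d).comp (θ' n d) = RingHom.id _ := by
    apply MvPolynomial.ringHom_ext
    · intro r
      have h2 : ((ψ n d).comp (θ0 n d)) = (C : A' n d →+* P n d) := by
        apply MvPolynomial.ringHom_ext
        · intro z
          simp
        · intro p'
          rw [RingHom.comp_apply, θ0_X]
          show ψ n d (C (X p'.1)) = C (X p')
          rw [ψ, coe_eval₂Hom, eval₂_C, φ_X, dif_neg p'.2]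
      have h3 : θ' n d (C r) = θ0 n d r := by rw [θ', coe_eval₂Hom, eval₂_C]
      rw [RingHom.comp_apply, h3, RingHom.id_apply]
      exact RingHom.congr_fun h2 r
    · intro j
      rw [RingHom.comp_apply, RingHom.id_apply, θ', coe_eval₂Hom, eval₂_X, ψ, coe_eval₂Hom,
        eval₂_X]
  exact RingHom.congr_fun h q

lemma θ'_tail (i : Fin n) :
    θ' n d (tail n d i) = univPoly n d i - C (X (i, E0 n d)) := by
  rw [tail, map_sum, univPoly]
  have h1 : ∀ E : UnivIdx n d,
      θ' n d (if h : E = E0 n d then 0 else monomial E.exponent (X ⟨(i, E), h⟩))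
      = monomial E.exponent (X (i, E)) - (if E = E0 n d then C (X (i, E0 n d)) else 0) := by
    intro E
    by_cases h : E = E0 n d
    · rw [dif_pos h, if_pos h, map_zero, h, E0_exponent, ← C_apply, sub_self]
    · rw [dif_neg h, if_neg h, sub_zero, θ'_monomial, θ0_X, C_mul_monomial, mul_one]
  rw [Finset.sum_congr rfl (fun E _ => h1 E), Finset.sum_sub_distrib, Finset.sum_ite_eq']
  rw [if_pos (Finset.mem_univ _)]

lemma mk_univPoly (i : Fin n) : UnivAlg.mk n d (univPoly n d i) = 0 := by
  show Ideal.Quotient.mk (univIdeal n d) (univPoly n d i) = 0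
  rw [Ideal.Quotient.eq_zero_iff_mem]
  exact Ideal.subset_span ⟨i, rfl⟩

lemma mk_θ'_ψ (s : S n d) : UnivAlg.mk n d (θ' n d (ψ n d s)) = UnivAlg.mk n d s := by
  have h : ((UnivAlg.mk n d).toRingHom.comp (θ' n d)).comp (ψ n d) = (UnivAlg.mk n d).toRingHom := by
    apply MvPolynomial.ringHom_ext
    · intro r
      have h2 : (((UnivAlg.mk n d).toRingHom.comp (θ' n d)).comp (φ n d))
          = (UnivAlg.mk n d).toRingHom.comp (C : UnivBase n d →+* S n d) := by
        apply MvPolynomial.ringHom_ext
        · intro z
          simp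
        · intro p
          rw [RingHom.comp_apply, RingHom.comp_apply, RingHom.comp_apply, φ_X]
          by_cases h : p.2 = E0 n d
          · rw [dif_pos h, map_neg, map_neg, θ'_tail, map_sub]
            have hp : p = (p.1, E0 n d) := Prod.ext rfl h
            show -(UnivAlg.mk n d (univPoly n d p.1) - UnivAlg.mk n d (C (X (p.1, E0 n d))))
              = UnivAlg.mk n d (C (X p))
            rw [mk_univPoly, zero_sub, neg_neg, ← hp]
          · rw [dif_neg h]
            show UnivAlg.mk n d (θ' n d (C (X ⟨p, h⟩))) = UnivAlg.mk n d (C (X p))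
            rw [θ', coe_eval₂Hom, eval₂_C, θ0_X]
      have h3 : ψ n d (C r) = φ n d r := by rw [ψ, coe_eval₂Hom, eval₂_C]
      rw [RingHom.comp_apply, h3]
      exact RingHom.congr_fun h2 r
    · intro j
      rw [RingHom.comp_apply, RingHom.comp_apply, ψ, coe_eval₂Hom, eval₂_X, θ', coe_eval₂Hom,
        eval₂_X]
  exact RingHom.congr_fun h s

/-- The universal algebra is a polynomial ring over `ℤ`. -/
noncomputable def equiv : P n d ≃+* UnivAlg n d :=
  RingEquiv.ofBijective ((UnivAlg.mk n d).toRingHom.comp (θ' n d)) (by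
    constructor
    · rw [injective_iff_map_eq_zero]
      intro q hq
      have h1 : θ' n d q ∈ univIdeal n d := by
        rw [← Ideal.Quotient.eq_zero_iff_mem]
        exact hq
      have h2 := univIdeal_le_ker n d h1
      rw [RingHom.mem_ker, ψ_θ'] at h2
      exact h2
    · intro b
      obtain ⟨s, rfl⟩ : ∃ s, UnivAlg.mk n d s = b := Ideal.Quotient.mk_surjective b
      exact ⟨ψ n d s, mk_θ'_ψ n d s⟩)

end Aux

/-- Let n, d ≥ 1 and let B = A[x_1, …, x_n]/(f_1, …, f_n) be the universal algebra over A = ℤ[a_{i,E}],
f_i = Σ_E a_{i,E} x^E summed over exponent vectors E with |E| ≤ d. Then B is an integral domain and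
every localization of B at a prime ideal is a regular local ring. (The published statement says that
X_{n,d} = Spec A and the quasi-finite locus Y_{n,d} ⊆ Spec B are regular and irreducible; for A, a
polynomial ring over ℤ, this is standard, and for the open Y_{n,d} it follows from the assertion
about all of Spec B made here, which is what the printed argument shows. The published statement
also asserts that Y_{n,d} → X_{n,d} is locally quasi-finite and syntomic, an instance of the general
characterisation of quasi-finite syntomic maps; that clause is not part of this row.) -/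
theorem result (n d : ℕ) (hn : 1 ≤ n) (hd : 1 ≤ d) : IsDomain (Synt.UnivAlg n d) ∧ ∀ q : PrimeSpectrum (Synt.UnivAlg n d), IsRegularLocalRing (Localization.AtPrime q.asIdeal) := by
  have e := equiv n d
  have : IsRegularRing (UnivAlg n d) := IsRegularRing.of_ringEquiv e
  refine ⟨MulEquiv.isDomain (P n d) e.symm.toMulEquiv, fun q => ?_⟩
  exact IsRegularRing.isRegularLocalRing_localization q.asIdeal

end Groth.Agent.S8972
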