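import Groth.Statements.S8973
import Groth.Agent.Lib.Helper45.JacEtale
-- import your own Groth.Agent.* helpers here

set_option autoImplicit false
open Synt

namespace Groth.Agent.S8973

open Groth.Agent.Lib.Helper45.JacEtale

/-- the index of the exponent vector `e_i` -/
def unitIdx (n d : ℕ) (hd : 1 ≤ d) (i : Fin n) : Synt.UnivIdx n d :=
  ⟨fun j => if j = i then ⟨1, by omega⟩ else ⟨0, by omega⟩, by
    classical
    rw [Finset.sum_eq_single i]
    · simpa using hd
    · intro j _ hj; simp [hj]
    · intro h; exact absurd (Finset.mem_univ _) h⟩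

lemma unitIdx_exponent (n d : ℕ) (hd : 1 ≤ d) (i : Fin n) :
    (unitIdx n d hd i).exponent = Finsupp.single i 1 := by
  classical
  ext j
  by_cases h : j = i
  · subst h; simp [Synt.UnivIdx.exponent, unitIdx]
  · simp [Synt.UnivIdx.exponent, unitIdx, h, Finsupp.single_apply, Ne.symm h]

/-- the specialization of coefficients `a_{i,E} ↦ δ_{E,e_i}` -/
noncomputable def φ₀ (n d : ℕ) (hd : 1 ≤ d) : Synt.UnivBase n d →+* ℤ :=
  open Classical in
  MvPolynomial.eval₂Hom (Int.castRingHom ℤ) (fun p : Fin n × Synt.UnivIdx n d => if p.2 = unitIdx n d hd p.1 then 1 else 0)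

noncomputable def ψ₀ (n d : ℕ) (hd : 1 ≤ d) : MvPolynomial (Fin n) (Synt.UnivBase n d) →+* ℤ :=
  MvPolynomial.eval₂Hom (φ₀ n d hd) (fun _ => 0)

lemma ψ₀_monomial (n d : ℕ) (hd : 1 ≤ d) (s : Fin n →₀ ℕ) (a : Synt.UnivBase n d) :
    ψ₀ n d hd (MvPolynomial.monomial s a) = if s = 0 then φ₀ n d hd a else 0 := by
  classical
  rw [ψ₀, MvPolynomial.coe_eval₂Hom, MvPolynomial.eval₂_monomial]
  split_ifs with h
  · subst h; simp
  · obtain ⟨j, hj⟩ : ∃ j, s j ≠ 0 := by
      by_contra hcon
      push Not at hcon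
      exact h (Finsupp.ext hcon)
    rw [Finsupp.prod, Finset.prod_eq_zero (i := j) (by simpa using hj) (by simp [hj]), mul_zero]

lemma ψ₀_univPoly (n d : ℕ) (hd : 1 ≤ d) (i : Fin n) : ψ₀ n d hd (Synt.univPoly n d i) = 0 := by
  classical
  rw [Synt.univPoly, map_sum]
  apply Finset.sum_eq_zero
  intro E _
  rw [ψ₀_monomial]
  split_ifs with h
  · simp only [φ₀, MvPolynomial.coe_eval₂Hom, MvPolynomial.eval₂_X]
    rw [if_neg]
    intro hE
    rw [hE, unitIdx_exponent] at h
    have := DFunLike.congr_fun h i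
    simp at this
  · rfl

lemma ψ₀_pderiv (n d : ℕ) (hd : 1 ≤ d) (i j : Fin n) :
    ψ₀ n d hd (MvPolynomial.pderiv j (Synt.univPoly n d i)) = if i = j then 1 else 0 := by
  classical
  rw [Synt.univPoly, map_sum, map_sum]
  rw [Finset.sum_eq_single (unitIdx n d hd i)]
  · rw [MvPolynomial.pderiv_monomial, ψ₀_monomial, unitIdx_exponent]
    by_cases hij : i = j
    · subst hij
      simp [φ₀]
    · rw [if_neg hij]
      simp [Finsupp.single_apply, hij]
  · intro E _ hE
    rw [MvPolynomial.pderiv_monomial, ψ₀_monomial]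
    split_ifs with h
    · simp [φ₀, hE]
    · rfl
  · intro h; exact absurd (Finset.mem_univ _) h


/-- Let n, d ≥ 1 and let B = A[x_1, …, x_n]/(f_1, …, f_n) be the universal algebra over A = ℤ[a_{i,E}],
f_i = Σ_E a_{i,E} x^E summed over exponent vectors E with |E| ≤ d. Then there is a prime q of B at
which B is quasi-finite over A and étale over A (that is, B_q is quasi-finite and formally étale
over A). (The published statement asserts a dense open V of the quasi-finite locus Y_{n,d} ⊆ Spec B
that is étale over Spec A; as Spec B is irreducible and the étale locus is open, that amounts to the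
existence of one such point, which is what is stated here and what the printed argument exhibits.) -/
theorem result (n d : ℕ) (hn : 1 ≤ n) (hd : 1 ≤ d) : ∃ q : PrimeSpectrum (Synt.UnivAlg n d), Algebra.QuasiFiniteAt (Synt.UnivBase n d) q.asIdeal ∧ Algebra.IsEtaleAt (Synt.UnivBase n d) q.asIdeal := by
  classical
  have hker : ∀ a ∈ Synt.univIdeal n d, ψ₀ n d hd a = 0 := by
    intro a ha
    have : Synt.univIdeal n d ≤ RingHom.ker (ψ₀ n d hd) := by
      rw [Synt.univIdeal, Ideal.span_le]
      rintro _ ⟨i, rfl⟩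
      exact ψ₀_univPoly n d hd i
    exact this ha
  let ψ : (MvPolynomial (Fin n) (Synt.UnivBase n d) ⧸ Ideal.span (Set.range (Synt.univPoly n d))) →+* ℤ :=
    Ideal.Quotient.lift _ (ψ₀ n d hd) hker
  have hψ : ψ (pre (Synt.univPoly n d)).jacobian ≠ 0 := by
    rw [pre_jacobian]
    change ψ₀ n d hd _ ≠ 0
    rw [RingHom.map_det]
    have : (ψ₀ n d hd).mapMatrix (Matrix.of fun i j : Fin n => MvPolynomial.pderiv j (Synt.univPoly n d i)) = 1 := by
      ext i j
      simp [ψ₀_pderiv, Matrix.one_apply]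
    rw [this, Matrix.det_one]
    exact one_ne_zero
  exact exists_point (Synt.univPoly n d) ψ hψ

end Groth.Agent.S8973
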