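import Groth.Statements.S8974
import Mathlib
-- import your own Groth.Agent.* helpers here

set_option autoImplicit false
universe u
open Synt

namespace Groth.Agent.S8974

/-- Let R be a ring, n, d ≥ 1 and g_1, …, g_n ∈ R[y_1, …, y_n] of total degree at most d. Then there is
a ring map φ : A = ℤ[a_{i,E}] → R (E running over exponent vectors with |E| ≤ d) such that applying
φ to the coefficients of the universal polynomial f_i = Σ_E a_{i,E} x^E gives g_i for each i. (The
published statement is for a locally quasi-finite syntomic morphism of schemes and asserts, locally,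
a cartesian square with the universal family; this row is its affine core: the coefficient map.) -/
theorem result (R : Type u) [CommRing R] (n d : ℕ) (hn : 1 ≤ n) (hd : 1 ≤ d) (g : Fin n → MvPolynomial (Fin n) R) (hg : ∀ i, (g i).totalDegree ≤ d) : ∃ φ : Synt.UnivBase n d →+* R, ∀ i, MvPolynomial.map φ (Synt.univPoly n d i) = g i := by
  classical
  let φ : Synt.UnivBase n d →+* R :=
    (MvPolynomial.eval₂Hom (Int.castRingHom R) (fun p : Fin n × Synt.UnivIdx n d => MvPolynomial.coeff p.2.exponent (g p.1)))
  refine ⟨φ, fun i => ?_⟩
  have hφ : ∀ E : Synt.UnivIdx n d, φ (MvPolynomial.X (i, E)) = MvPolynomial.coeff E.exponent (g i) := by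
    intro E
    simp [φ]
  have hinj : ∀ E E' : Synt.UnivIdx n d, E.exponent = E'.exponent → E = E' := by
    intro E E' h
    apply Subtype.ext
    funext j
    apply Fin.ext
    have := DFunLike.congr_fun h j
    simpa [Synt.UnivIdx.exponent] using this
  ext m
  rw [Synt.univPoly, map_sum, MvPolynomial.coeff_sum]
  simp only [MvPolynomial.map_monomial, MvPolynomial.coeff_monomial, hφ]
  by_cases hm : ∑ j, m j ≤ d
  · -- build E from m
    have hmj : ∀ j, m j < d + 1 := by
      intro j
      have : m j ≤ ∑ j, m j := Finset.single_le_sum (f := fun j => m j) (fun _ _ => Nat.zero_le _) (Finset.mem_univ j)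
      omega
    let E : Synt.UnivIdx n d := ⟨fun j => ⟨m j, hmj j⟩, by simpa using hm⟩
    have hE : E.exponent = m := by
      ext j
      simp [Synt.UnivIdx.exponent, E]
    rw [Finset.sum_eq_single E]
    · simp [hE]
    · intro E' _ hne
      rw [if_neg]
      intro h
      exact hne (hinj _ _ (h.trans hE.symm))
    · intro h; exact absurd (Finset.mem_univ _) h
  · rw [Finset.sum_eq_zero]
    · symm
      apply MvPolynomial.coeff_eq_zero_of_totalDegree_lt
      have : (∑ j ∈ m.support, m j) = ∑ j, m j := by
        apply Finset.sum_subset (Finset.subset_univ _)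
        intro j _ hj
        simpa using hj
      rw [this]
      have := hg i
      omega
    · intro E _
      rw [if_neg]
      intro h
      apply hm
      rw [← h]
      simpa [Synt.UnivIdx.exponent] using E.2

end Groth.Agent.S8974
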