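import Groth.Statements.S8975
import Mathlib
-- import your own Groth.Agent.* helpers here

set_option autoImplicit false
universe u
open TensorProduct
open QFDual

namespace Groth.Agent.S8975

section
variable {A B' B C' C : Type u} [CommRing A] [CommRing B'] [CommRing B] [CommRing C'] [CommRing C]
  [Algebra A B'] [Algebra B' B] [Algebra A B] [IsScalarTower A B' B] [Algebra A C'] [Algebra C' C]
  [Algebra A C] [IsScalarTower A C' C]

/-- restriction of a functional to the first factor -/
noncomputable def resL (φ : Disc.Omega A (B' × C')) : Disc.Omega A B' :=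
  Disc.Omega.mk (φ.toLinearMap ∘ₗ LinearMap.inl A B' C')

noncomputable def resR (φ : Disc.Omega A (B' × C')) : Disc.Omega A C' :=
  Disc.Omega.mk (φ.toLinearMap ∘ₗ LinearMap.inr A B' C')

noncomputable def extL (ψ : Disc.Omega A B') : Disc.Omega A (B' × C') :=
  Disc.Omega.mk (ψ.toLinearMap ∘ₗ LinearMap.fst A B' C')

noncomputable def extR (ψ : Disc.Omega A C') : Disc.Omega A (B' × C') :=
  Disc.Omega.mk (ψ.toLinearMap ∘ₗ LinearMap.snd A B' C')

lemma resL_add (φ ψ : Disc.Omega A (B' × C')) : resL (φ + ψ) = resL φ + resL ψ := by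
  apply Disc.Omega.ext; ext x; simp [resL]

lemma resR_add (φ ψ : Disc.Omega A (B' × C')) : resR (φ + ψ) = resR φ + resR ψ := by
  apply Disc.Omega.ext; ext x; simp [resR]

lemma extL_add (φ ψ : Disc.Omega A B') : extL (C' := C') (φ + ψ) = extL φ + extL ψ := by
  apply Disc.Omega.ext; ext x <;> simp [extL]

lemma extR_add (φ ψ : Disc.Omega A C') : extR (B' := B') (φ + ψ) = extR φ + extR ψ := by
  apply Disc.Omega.ext; ext x <;> simp [extR]

lemma resL_smul (r : B' × C') (φ : Disc.Omega A (B' × C')) : resL (r • φ) = r.1 • resL φ := by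
  apply Disc.Omega.ext; ext x
  simp only [resL, Disc.Omega.smul_toLinearMap_apply, LinearMap.coe_comp, Function.comp_apply, LinearMap.coe_inl]
  congr 1; ext <;> simp

lemma resR_smul (r : B' × C') (φ : Disc.Omega A (B' × C')) : resR (r • φ) = r.2 • resR φ := by
  apply Disc.Omega.ext; ext x
  simp only [resR, Disc.Omega.smul_toLinearMap_apply, LinearMap.coe_comp, Function.comp_apply, LinearMap.coe_inr]
  congr 1; ext <;> simp

lemma extL_smul (r : B') (ψ : Disc.Omega A B') : extL (C' := C') (r • ψ) = ((r, 0) : B' × C') • extL ψ := by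
  apply Disc.Omega.ext; ext x <;> simp [extL]

lemma extR_smul (r : C') (ψ : Disc.Omega A C') : extR (B' := B') (r • ψ) = ((0, r) : B' × C') • extR ψ := by
  apply Disc.Omega.ext; ext x <;> simp [extR]

lemma resL_extL (ψ : Disc.Omega A B') : resL (extL (C' := C') ψ) = ψ := by
  apply Disc.Omega.ext; ext x; simp [resL, extL]

lemma resR_extR (ψ : Disc.Omega A C') : resR (extR (B' := B') ψ) = ψ := by
  apply Disc.Omega.ext; ext x; simp [resR, extR]

lemma resR_extL (ψ : Disc.Omega A B') : resR (extL (C' := C') ψ) = 0 := by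
  apply Disc.Omega.ext; ext x; simp [resR, extL]

lemma resL_extR (ψ : Disc.Omega A C') : resL (extR (B' := B') ψ) = 0 := by
  apply Disc.Omega.ext; ext x; simp [resL, extR]

lemma extL_resL (φ : Disc.Omega A (B' × C')) : extL (resL φ) = ((1, 0) : B' × C') • φ := by
  apply Disc.Omega.ext; ext x <;> simp [resL, extL]

lemma extR_resR (φ : Disc.Omega A (B' × C')) : extR (resR φ) = ((0, 1) : B' × C') • φ := by
  apply Disc.Omega.ext; ext x <;> simp [resR, extR]

end

/-- The relative dualizing module of a product. Suppose A, B, C are Noetherian rings and the ring maps A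
→ B, A → C are quasi-finite, presented by factorizations A → B' → B and A → C' → C with A → B', A →
C' finite and Spec B → Spec B', Spec C → Spec C' open immersions, and let B × C carry the product
algebra structure over B' × C' (so that A → B' × C' → B × C is a factorization of the same kind).
Then ω_{(B × C)/A} = (B × C) ⊗_{B' × C'} Hom_A(B' × C', A) is identified with ω_{B/A} × ω_{C/A}:
there is an A-linear isomorphism sending (b, c) ⊗ φ to (b ⊗ φ∘ι_{B'}, c ⊗ φ∘ι_{C'}), where ι_{B'},
ι_{C'} are the inclusions of the factors; this formula determines the isomorphism and makes it (B ×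
C)-linear. -/
theorem result (A B' B C' C : Type u) [CommRing A] [CommRing B'] [CommRing B] [CommRing C'] [CommRing C] [IsNoetherianRing A] [IsNoetherianRing B] [IsNoetherianRing C] [Algebra A B'] [Algebra B' B] [Algebra A B] [IsScalarTower A B' B] [Algebra A C'] [Algebra C' C] [Algebra A C] [IsScalarTower A C' C] (hB : QFDual.IsQFFactor A B' B) (hC : QFDual.IsQFFactor A C' C) [Algebra (B' × C') (B × C)] [IsScalarTower A (B' × C') (B × C)] (halg : algebraMap (B' × C') (B × C) = (algebraMap B' B).prodMap (algebraMap C' C)) : ∃ e : QFDual.omega A (B' × C') (B × C) ≃ₗ[A] QFDual.omega A B' B × QFDual.omega A C' C, ∀ (b : B) (c : C) (φ : Disc.Omega A (B' × C')), e ((b, c) ⊗ₜ[B' × C'] φ) = (b ⊗ₜ[B'] Disc.Omega.mk (φ.toLinearMap ∘ₗ LinearMap.inl A B' C'), c ⊗ₜ[C'] Disc.Omega.mk (φ.toLinearMap ∘ₗ LinearMap.inr A B' C')) := by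
  classical
  have hsmul1 : ∀ (r : B' × C') (s : B × C), (r • s).1 = r.1 • s.1 := by
    intro r s
    rw [Algebra.smul_def, halg, Algebra.smul_def]; rfl
  have hsmul2 : ∀ (r : B' × C') (s : B × C), (r • s).2 = r.2 • s.2 := by
    intro r s
    rw [Algebra.smul_def, halg, Algebra.smul_def]; rfl
  -- forward map
  let F : (B × C) →+ Disc.Omega A (B' × C') →+ (QFDual.omega A B' B × QFDual.omega A C' C) :=
    AddMonoidHom.mk' (fun s => AddMonoidHom.mk' (fun φ => (s.1 ⊗ₜ[B'] resL φ, s.2 ⊗ₜ[C'] resR φ))
      (by intro φ ψ; simp [resL_add, resR_add, TensorProduct.tmul_add]))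
      (by intro s t; ext φ <;> simp [TensorProduct.add_tmul])
  have hF : ∀ (r : B' × C') (s : B × C) (φ : Disc.Omega A (B' × C')), F (r • s) φ = F s (r • φ) := by
    intro r s φ
    simp only [F, AddMonoidHom.mk'_apply, hsmul1, hsmul2, resL_smul, resR_smul, TensorProduct.smul_tmul]
  let f := TensorProduct.liftAddHom F hF
  have hf : ∀ s φ, f (s ⊗ₜ φ) = (s.1 ⊗ₜ[B'] resL φ, s.2 ⊗ₜ[C'] resR φ) := fun s φ => rfl
  -- backward maps
  let G1 : B →+ Disc.Omega A B' →+ QFDual.omega A (B' × C') (B × C) :=
    AddMonoidHom.mk' (fun b => AddMonoidHom.mk' (fun ψ => ((b, 0) : B × C) ⊗ₜ[B' × C'] extL ψ)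
      (by intro φ ψ; simp [extL_add, TensorProduct.tmul_add]))
      (by intro s t; ext φ; simp [← TensorProduct.add_tmul])
  have hG1 : ∀ (r : B') (b : B) (ψ : Disc.Omega A B'), G1 (r • b) ψ = G1 b (r • ψ) := by
    intro r b ψ
    simp only [G1, AddMonoidHom.mk'_apply, extL_smul]
    rw [← TensorProduct.smul_tmul]
    congr 1
    ext
    · rw [hsmul1]
    · rw [hsmul2]; simp
  let g1 := TensorProduct.liftAddHom G1 hG1
  let G2 : C →+ Disc.Omega A C' →+ QFDual.omega A (B' × C') (B × C) :=
    AddMonoidHom.mk' (fun c => AddMonoidHom.mk' (fun ψ => ((0, c) : B × C) ⊗ₜ[B' × C'] extR ψ)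
      (by intro φ ψ; simp [extR_add, TensorProduct.tmul_add]))
      (by intro s t; ext φ; simp [← TensorProduct.add_tmul])
  have hG2 : ∀ (r : C') (c : C) (ψ : Disc.Omega A C'), G2 (r • c) ψ = G2 c (r • ψ) := by
    intro r c ψ
    simp only [G2, AddMonoidHom.mk'_apply, extR_smul]
    rw [← TensorProduct.smul_tmul]
    congr 1
    ext
    · rw [hsmul1]; simp
    · rw [hsmul2]
  let g2 := TensorProduct.liftAddHom G2 hG2
  let g : (QFDual.omega A B' B × QFDual.omega A C' C) →+ QFDual.omega A (B' × C') (B × C) :=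
    AddMonoidHom.coprod g1 g2
  have hg1 : ∀ b ψ, g1 (b ⊗ₜ ψ) = ((b, 0) : B × C) ⊗ₜ[B' × C'] extL ψ := fun b ψ => rfl
  have hg2 : ∀ c ψ, g2 (c ⊗ₜ ψ) = ((0, c) : B × C) ⊗ₜ[B' × C'] extR ψ := fun b ψ => rfl
  have hgf : ∀ x, g (f x) = x := by
    intro x
    induction x using TensorProduct.induction_on with
    | zero => simp
    | add x y hx hy => rw [map_add, map_add, hx, hy]
    | tmul s φ =>
      rw [hf]
      simp only [g, AddMonoidHom.coprod_apply, hg1, hg2, extL_resL, extR_resR]
      rw [← TensorProduct.smul_tmul, ← TensorProduct.smul_tmul, ← TensorProduct.add_tmul]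
      congr 1
      ext
      · simp [hsmul1]
      · simp [hsmul2]
  have hfg : ∀ y, f (g y) = y := by
    rintro ⟨y1, y2⟩
    have h1 : f (g1 y1) = (y1, 0) := by
      induction y1 using TensorProduct.induction_on with
      | zero => simp; rfl
      | add x y hx hy => rw [map_add, map_add, hx, hy]; simp
      | tmul b ψ => rw [hg1, hf]; simp [resL_extL, resR_extL]
    have h2 : f (g2 y2) = (0, y2) := by
      induction y2 using TensorProduct.induction_on with
      | zero => simp; rfl
      | add x y hx hy => rw [map_add, map_add, hx, hy]; simp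
      | tmul b ψ => rw [hg2, hf]; simp [resL_extR, resR_extR]
    simp only [g, AddMonoidHom.coprod_apply, map_add, h1, h2]
    simp
  have hfs : ∀ (a : A) x, f (a • x) = a • f x := by
    intro a x
    induction x using TensorProduct.induction_on with
    | zero => simp
    | add x y hx hy => rw [smul_add, map_add, hx, hy, map_add, smul_add]
    | tmul s φ =>
      rw [TensorProduct.smul_tmul', hf, hf]
      ext <;> simp [TensorProduct.smul_tmul']
  refine ⟨{ toFun := f, map_add' := map_add f, map_smul' := hfs, invFun := g, left_inv := hgf, right_inv := hfg }, ?_⟩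
  intro b c φ
  rfl

end Groth.Agent.S8975
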