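import Groth.Statements.S8979
import Groth.Agent.Lib.Helper38.HTopV

set_option autoImplicit false
universe u
open HTop

namespace Groth.Agent.S8979

open CategoryTheory CategoryTheory.Limits AlgebraicGeometry in
/-- A surjective proper morphism of finite presentation, as a one-member family, is an h covering of its
target. -/
theorem result {X Y : Scheme.{u}} (f : Y ⟶ X) [IsProper f] [Surjective f] [LocallyOfFinitePresentation f] : HTop.IsHCover (PreZeroHypercover.singleton.{0} f) := by
  refine ⟨fun _ => ‹LocallyOfFinitePresentation f›, ?_⟩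
  apply Groth.Agent.Lib.Helper38.HTopV.isVCover_singleton_of_hasValLift f
  apply Groth.Agent.Lib.Helper38.HTopV.hasValLift_of_exists_specializes
  intro V _ _ g
  refine ⟨PUnit.unit, ?_⟩
  show ∃ (w' w : ↑(pullback g f)), w' ⤳ w ∧ pullback.fst g f w' = (⊥ : PrimeSpectrum V) ∧
    pullback.fst g f w = IsLocalRing.closedPoint V
  obtain ⟨p', hp'⟩ := (pullback.fst g f).surjective (⊥ : PrimeSpectrum V)
  have hspec : SpecializingMap (pullback.fst g f) := (pullback.fst g f).isClosedMap.specializingMap
  have hsp : pullback.fst g f p' ⤳ IsLocalRing.closedPoint V := by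
    rw [hp']
    exact IsLocalRing.specializes_closedPoint _
  obtain ⟨p, hp1, hp2⟩ := hspec hsp
  exact ⟨p', p, hp1, hp', hp2⟩


end Groth.Agent.S8979
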