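import Groth.Statements.S8980
import Groth.Agent.Lib.Helper38.HTopSheaf

set_option autoImplicit false
universe u
open HTop

namespace Groth.Agent.S8980

open CategoryTheory CategoryTheory.Limits AlgebraicGeometry in
/-- A family of morphisms T_i → T, indexed by a type in the universe of T and all locally of finite
presentation, is an h covering if and only if the one-member family given by the induced morphism
from the coproduct of the T_i to T is an h covering. (The published statement also lists, as a
further equivalent condition, that some h covering refines the family; that equivalence is immediate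
from the definitions and is not restated here.) -/
theorem result {T : Scheme.{u}} (E : PreZeroHypercover.{u} T) (hE : ∀ i, LocallyOfFinitePresentation (E.f i)) : HTop.IsHCover E ↔ HTop.IsHCover (PreZeroHypercover.singleton.{0} (Sigma.desc E.f)) := by
  constructor
  · intro h
    refine ⟨fun _ => IsZariskiLocalAtSource.sigmaDesc hE, ?_⟩
    refine Groth.Agent.Lib.Helper38.HTopV.isVCover_of_hom (E := E) ?_ h.2
    exact
      { s₀ := fun _ => PUnit.unit
        h₀ := fun i => Sigma.ι E.X i
        w₀ := fun i => Sigma.ι_desc _ _ }
  · intro h
    refine ⟨hE, ?_⟩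
    let 𝒰 : Scheme.Cover Scheme.fpqcPrecoverage (∐ E.X) :=
      ⟨(sigmaOpenCover E.X).toPreZeroHypercover,
        Scheme.zariskiPrecoverage_le_fpqcPrecoverage _ (sigmaOpenCover E.X).mem₀⟩
    have h𝒰 : HTop.IsVCover (sigmaOpenCover E.X).toPreZeroHypercover :=
      Groth.Agent.Lib.Helper38.HTopV.isVCover_of_fpqc 𝒰
    have hb := Groth.Agent.Lib.Helper38.HTopV.isVCover_bind
      (PreZeroHypercover.singleton.{0} (Sigma.desc E.f)) h.2
      (fun _ => (sigmaOpenCover E.X).toPreZeroHypercover) (fun _ => h𝒰)
    refine Groth.Agent.Lib.Helper38.HTopV.isVCover_of_hom ?_ hb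
    exact
      { s₀ := fun i => i.2
        h₀ := fun i => 𝟙 _
        w₀ := fun i => by
          show 𝟙 _ ≫ E.f i.2 = Sigma.ι E.X i.2 ≫ Sigma.desc E.f
          simp }


end Groth.Agent.S8980
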