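import Groth.Statements.S8991
import Groth.Agent.Lib.Helper38.HTopSheaf

set_option autoImplicit false
universe u
open HTop

namespace Groth.Agent.S8991

open CategoryTheory CategoryTheory.Limits AlgebraicGeometry Opposite in
/-- A ph sheaf on schemes over S takes the same sections on an S-scheme and on any thickening of it. -/
theorem result (S : Scheme.{u}) (F : HTop.ShPh S) {X X' : Over S} (f : X ⟶ X') (hf : MoreMor.IsThickening f.left) : Function.Bijective (F.obj.map f.op) := by
  obtain ⟨hci, hsurj⟩ := hf
  have hF : Presieve.IsSheaf (HTop.Jph S) F.obj := (isSheaf_iff_isSheaf_of_type _ _).mp F.property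
  have hmem : Sieve.ofArrows (fun _ : PUnit.{1} => X) (fun _ => f) ∈ HTop.Jph S X' := by
    rw [GrothendieckTopology.mem_over_iff, Sieve.overEquiv_ofArrows]
    apply Precoverage.generate_mem_toGrothendieck
    rw [Presieve.ofArrows_pUnit]
    have key : (PreZeroHypercover.singleton.{0} f.left).presieve₀ ∈ HTop.phPrecoverage X'.left :=
      (HTop.presieve₀_mem_phPrecoverage_iff _).mpr
        (Groth.Agent.Lib.Helper38.HTopV.isPhCover_singleton_of_isProper_surjective f.left)
    rwa [PreZeroHypercover.presieve₀_singleton] at key
  have hsh : Presieve.IsSheafFor F.obj (Presieve.singleton f) := by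
    have := hF _ hmem
    rw [Sieve.ofArrows, ← Presieve.isSheafFor_iff_generate, Presieve.ofArrows_pUnit] at this
    exact this
  have : Mono f.left := inferInstance
  have : Mono f := Over.mono_of_mono_left f
  exact Groth.Agent.Lib.Helper38.HTopV.bijective_map_of_mono_of_isSheafFor f hsh


end Groth.Agent.S8991
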