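import Groth.Statements.S8992
import Mathlib
-- import your own Groth.Agent.* helpers here

set_option autoImplicit false
universe u
open HTop

namespace Groth.Agent.S8992

/-- An algebra over the prime field with p elements is absolutely weakly normal if and only if its p-th
power map is bijective (the algebra is perfect). -/
theorem result (p : ℕ) [Fact p.Prime] (A : Type u) [CommRing A] [Algebra (ZMod p) A] : HTop.IsAWNRing A ↔ PerfectRing A p := by
  have hp : p.Prime := Fact.out
  have hp0 : (p : A) = 0 := by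
    have : (algebraMap (ZMod p) A) (p : ZMod p) = (p : A) := map_natCast _ _
    rw [← this, ZMod.natCast_self, map_zero]
  obtain ⟨i, j, hij⟩ : ∃ i j : ℕ, p = 2 * i + 3 * j := by
    obtain ⟨k, hk | hk⟩ := Nat.even_or_odd' p
    · exact ⟨k, 0, by omega⟩
    · have : 1 ≤ k := by
        have := hp.two_le
        by_contra h
        have : k = 0 := by omega
        subst this
        simp at hk
        exact hp.ne_one hk
      exact ⟨k - 1, 1, by omega⟩
  constructor
  · rintro ⟨-, h⟩
    refine ⟨⟨?_, ?_⟩⟩
    · intro a b hab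
      simp only at hab
      have h0 : (p : A) ^ p * (a ^ p) = (0 : A) ^ p := by
        rw [hp0, zero_pow hp.ne_zero, zero_mul]
      obtain ⟨c, -, hc⟩ := h p hp (a ^ p) 0 h0
      have ha := hc a ⟨rfl, by rw [hp0, zero_mul]⟩
      have hb := hc b ⟨hab, by rw [hp0, zero_mul]⟩
      rw [ha, hb]
    · intro x
      have h0 : (p : A) ^ p * x = (0 : A) ^ p := by
        rw [hp0, zero_pow hp.ne_zero, zero_mul]
      obtain ⟨c, ⟨hc, -⟩, -⟩ := h p hp x 0 h0
      exact ⟨c, hc.symm⟩
  · rintro ⟨hinj, hsurj⟩
    have hinj' : ∀ a b : A, a ^ p = b ^ p → a = b := fun a b h => hinj h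
    refine ⟨?_, ?_⟩
    · intro x y hxy
      obtain ⟨a, ha⟩ := hsurj (x ^ i * y ^ j)
      simp only at ha
      have h2 : x = a ^ 2 := by
        apply hinj'
        rw [← pow_mul, mul_comm, pow_mul, ha, mul_pow, ← pow_mul, ← pow_mul, mul_comm j 2, pow_mul y 2 j,
          ← hxy, ← pow_mul, ← pow_add, hij]
        congr 1; omega
      have h3 : y = a ^ 3 := by
        apply hinj'
        rw [← pow_mul, mul_comm, pow_mul, ha, mul_pow, ← pow_mul, ← pow_mul, mul_comm i 3, pow_mul x 3 i,
          hxy, ← pow_mul, ← pow_add, hij]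
        congr 1; omega
      refine ⟨a, ⟨h2, h3⟩, ?_⟩
      rintro b ⟨hb2, hb3⟩
      apply hinj'
      rw [hij, pow_add, pow_mul, pow_mul, pow_add, pow_mul a, pow_mul a, ← hb2, ← hb3, ← h2, ← h3]
    · intro l hl x y hxy
      by_cases hlp : l = p
      · subst hlp
        rw [hp0, zero_pow hp.ne_zero, zero_mul] at hxy
        have hy : y = 0 := by
          apply hinj'
          rw [← hxy, zero_pow hp.ne_zero]
        obtain ⟨a, ha⟩ := hsurj x
        simp only at ha
        refine ⟨a, ⟨ha.symm, by rw [hp0, zero_mul, hy]⟩, ?_⟩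
        rintro b ⟨hb, -⟩
        apply hinj'
        rw [ha, ← hb]
      · have hu : IsUnit (l : A) := by
          have h1 : IsUnit ((l : ZMod p)) := by
            rw [ZMod.isUnit_iff_coprime]
            exact (Nat.coprime_primes hl hp).mpr hlp
          have := h1.map (algebraMap (ZMod p) A)
          rwa [map_natCast] at this
        obtain ⟨u, hu⟩ := hu
        refine ⟨↑u⁻¹ * y, ⟨?_, ?_⟩, ?_⟩
        · rw [mul_pow, ← hxy, ← hu, ← mul_assoc, ← mul_pow]
          simp
        · rw [← hu, ← mul_assoc]; simp
        · rintro b ⟨-, hb⟩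
          rw [hb, ← hu, ← mul_assoc]; simp

end Groth.Agent.S8992
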