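import Groth.Statements.S9001
import Groth.Agent.Lib.Helper26.HensML5

set_option autoImplicit false
universe u
open FlatMor

namespace Groth.Agent.S9001

open IsLocalRing TensorProduct in
/-- Over a henselian local ring R with maximal ideal m, for an R-algebra S and an S-module N which is
countably generated and Mittag-Leffler as an R-module, every associated prime q of the S-module N
⊗_R M (M any R-module) satisfies q + mS ≠ S. (Associated primes are taken here in the sense of
primes equal to the radical of the annihilator of some element, a larger set than the annihilators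
of elements used in the published statement; the published argument goes through once the chosen
element of q is replaced by a suitable power of it, so the row states this slightly stronger form.) -/
theorem result {R S : Type u} [CommRing R] [HenselianLocalRing R] [CommRing S] [Algebra R S] (N : Type u) [AddCommGroup N] [Module S N] [Module R N] [IsScalarTower R S N] (hcg : CAlg.IsCountablyGenerated R N) (hML : CAlg.IsMittagLeffler R N) (M : Type u) [AddCommGroup M] [Module R M] (q : Ideal S) [q.IsPrime] (hq : q ∈ associatedPrimes S (N ⊗[R] M)) : q ⊔ (maximalIdeal R).map (algebraMap R S) ≠ ⊤ := by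
  intro htop
  obtain ⟨hqp, z, hqz⟩ := hq
  have h1 : (1 : S) ∈ q ⊔ (maximalIdeal R).map (algebraMap R S) := by rw [htop]; trivial
  obtain ⟨g, hg, t, ht, hgt⟩ := Submodule.mem_sup.1 h1
  rw [hqz] at hg
  obtain ⟨n, hn⟩ := hg
  rw [Submodule.mem_colon_singleton, Submodule.mem_bot] at hn
  have hgn : g ^ n - 1 ∈ (maximalIdeal R).map (algebraMap R S) := by
    rw [← Ideal.Quotient.eq, map_pow, map_one]
    have h2 : Ideal.Quotient.mk ((maximalIdeal R).map (algebraMap R S)) g = 1 := by
      rw [← map_one (Ideal.Quotient.mk ((maximalIdeal R).map (algebraMap R S))),
        Ideal.Quotient.eq]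
      have h3 : g - 1 = -t := by rw [← hgt]; ring
      rw [h3]
      exact neg_mem ht
    rw [h2, one_pow]
  have hz0 : z = 0 :=
    Groth.Agent.Lib.Helper26.HensML.eq_zero_of_smul_eq_zero N hcg hML M (g ^ n) hgn z hn
  apply hqp.ne_top
  rw [hqz, hz0, Ideal.eq_top_iff_one, Ideal.mem_radical_iff]
  refine ⟨1, ?_⟩
  rw [pow_one, Submodule.mem_colon_singleton, smul_zero]
  exact Submodule.zero_mem _

end Groth.Agent.S9001
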