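import Groth.Statements.S9007
import Mathlib
-- import your own Groth.Agent.* helpers here

set_option autoImplicit false
universe u
open FlatMor

namespace Groth.Agent.S9007
open CategoryTheory AlgebraicGeometry Limits TopologicalSpace Topology Opposite


lemma core {X Y Y' : Scheme.{u}} (j : X ⟶ Y) [IsOpenImmersion j] (j' : X ⟶ Y') [IsOpenImmersion j']
    (f : Y' ⟶ Y) [IsSeparated f] (hfj : j' ≫ f = j) (hd : Dense (Set.range j'.base)) :
    f ⁻¹ᵁ j.opensRange = j'.opensRange := by
  set W : Y'.Opens := f ⁻¹ᵁ j.opensRange with hW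
  have hjW : Set.range j' ⊆ Set.range W.ι := by
    rw [Scheme.Opens.range_ι]
    rintro _ ⟨x, rfl⟩
    refine ⟨x, ?_⟩
    rw [← Scheme.Hom.comp_apply, hfj]
  let s : X ⟶ W := IsOpenImmersion.lift W.ι j' hjW
  have hs : s ≫ W.ι = j' := IsOpenImmersion.lift_fac _ _ _
  let g : (W : Scheme.{u}) ⟶ X := (f ∣_ j.opensRange) ≫ j.isoOpensRange.inv
  have hsg : s ≫ g = 𝟙 X := by
    rw [← cancel_mono j]
    simp only [g, Category.assoc, Category.id_comp]
    have h1 : j.isoOpensRange.inv ≫ j = j.opensRange.ι := by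
      rw [Iso.inv_comp_eq]; simp
    rw [h1, morphismRestrict_ι, ← Category.assoc, hs, hfj]
  haveI : IsSeparated g := inferInstance
  haveI : IsClosedImmersion (s ≫ g) := by rw [hsg]; infer_instance
  haveI : IsClosedImmersion s := IsClosedImmersion.of_comp s g
  have hcl : IsClosed (Set.range s) := s.isClosedEmbedding.isClosed_range
  apply le_antisymm
  · intro y' hy'
    -- y' ∈ W
    obtain ⟨C, hC, hCs⟩ := isClosed_induced_iff.mp hcl
    have hCsub : Set.range j' ⊆ C := by
      rintro _ ⟨x, rfl⟩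
      have : s x ∈ Subtype.val ⁻¹' C := (Set.ext_iff.mp hCs (s x)).mpr ⟨x, rfl⟩
      have h2 : (s x).1 = j' x := by rw [← hs]; rfl
      rw [← h2]; exact this
    have hCuniv : C = Set.univ := by
      rw [← Set.univ_subset_iff, ← hd.closure_eq]
      exact hC.closure_subset_iff.mpr hCsub
    have : (⟨y', hy'⟩ : W) ∈ Set.range s := by
      refine (Set.ext_iff.mp hCs ⟨y', hy'⟩).mp ?_
      change y' ∈ C
      rw [hCuniv]; trivial
    obtain ⟨x, hx⟩ := this
    refine ⟨x, ?_⟩
    have h2 : (s x).1 = j' x := by rw [← hs]; rfl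
    rw [← h2, hx]
  · rintro _ ⟨x, rfl⟩
    change f (j' x) ∈ j.opensRange
    refine ⟨x, ?_⟩
    rw [← Scheme.Hom.comp_apply, hfj]


open CategoryTheory CategoryTheory.Limits AlgebraicGeometry in
/-- For a morphism f of compactifications of X over a quasi-compact quasi-separated S whose source
contains X as a dense open, the preimage under f of the image of X in the target is the image of X
in the source. -/
theorem result {X S : Scheme.{u}} [CompactSpace S] [QuasiSeparatedSpace S] (p : X ⟶ S) [IsSeparated p] [QuasiCompact p] [LocallyOfFiniteType p] {Y Y' : Scheme.{u}} (j : X ⟶ Y) (q : Y ⟶ S) [IsOpenImmersion j] [IsProper q] (h : j ≫ q = p) (j' : X ⟶ Y') (q' : Y' ⟶ S) [IsOpenImmersion j'] [IsProper q'] (h' : j' ≫ q' = p) (f : Y' ⟶ Y) (hf : f ≫ q = q') (hfj : j' ≫ f = j) (hd : Dense (Set.range j'.base)) : f ⁻¹ᵁ j.opensRange = j'.opensRange := by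
  haveI : IsSeparated (f ≫ q) := by rw [hf]; infer_instance
  haveI : IsSeparated f := IsSeparated.of_comp f q
  exact core j j' f hfj hd

end Groth.Agent.S9007
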