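import Groth.Statements.S9008
import Mathlib
-- import your own Groth.Agent.* helpers here

set_option autoImplicit false
universe u
open FlatMor

namespace Groth.Agent.S9008

/-- For Spec B → Spec A affine of finite type: a finite B-module is universally pure along the fibre
over a prime p of A exactly when every base change of it along a ring map A → A' is pure along the
fibre over every prime of A' above p. -/
theorem result {A B : Type u} [CommRing A] [CommRing B] [Algebra A B] [Algebra.FiniteType A B] (N : Type u) [AddCommGroup N] [Module B N] [Module.Finite B N] (p : Ideal A) [p.IsPrime] : FlatCA.IsUnivPureAlong A B N p ↔ ∀ (A' B' N' : Type u) [CommRing A'] [CommRing B'] [Algebra A A'] [Algebra B B'] [Algebra A' B'] [Algebra A B'] [IsScalarTower A B B'] [IsScalarTower A A' B'] [Algebra.IsPushout A B A' B'] [AddCommGroup N'] [Module B' N'] [Module B N'] [IsScalarTower B B' N'] (g : N →ₗ[B] N'), IsBaseChange B' g → ∀ (p' : Ideal A') [p'.IsPrime], p'.LiesOver p → FlatCA.IsPureAlong A' B' N' p' := by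
  constructor
  · intro hU A' B' N' _ _ _ _ _ _ _ _ hpo1 _ _ _ _ g hg p' _ hp'
    intro A'' B'' N'' _ _ _ _ _ _ _ _ _ _ _ _ _ _ f t' t _ _ P _ hEt hImp
    obtain ⟨hpo, hbc, hle, hlo, hPlo, hass, hcl⟩ := hImp
    letI : Algebra A A'' := ((algebraMap A' A'').comp (algebraMap A A')).toAlgebra
    letI : Algebra B B'' := ((algebraMap B' B'').comp (algebraMap B B')).toAlgebra
    letI : Algebra A B'' := ((algebraMap A' B'').comp (algebraMap A A')).toAlgebra
    haveI : IsScalarTower A A' A'' := IsScalarTower.of_algebraMap_eq' rfl
    haveI : IsScalarTower B B' B'' := IsScalarTower.of_algebraMap_eq' rfl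
    haveI : IsScalarTower A A' B'' := IsScalarTower.of_algebraMap_eq' rfl
    haveI : IsScalarTower A A'' B'' := IsScalarTower.of_algebraMap_eq (fun x => by
      change algebraMap A' B'' (algebraMap A A' x) = algebraMap A'' B'' (algebraMap A' A'' (algebraMap A A' x))
      rw [← IsScalarTower.algebraMap_apply A' A'' B''])
    haveI : IsScalarTower A B' B'' := IsScalarTower.of_algebraMap_eq (fun x => by
      change algebraMap A' B'' (algebraMap A A' x) = algebraMap B' B'' (algebraMap A B' x)
      rw [IsScalarTower.algebraMap_apply A A' B', ← IsScalarTower.algebraMap_apply A' B' B''])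
    haveI : IsScalarTower A B B'' := IsScalarTower.of_algebraMap_eq (fun x => by
      change algebraMap A' B'' (algebraMap A A' x) = algebraMap B' B'' (algebraMap B B' (algebraMap A B x))
      rw [← IsScalarTower.algebraMap_apply A B B', IsScalarTower.algebraMap_apply A A' B',
        ← IsScalarTower.algebraMap_apply A' B' B''])
    letI : Module B N'' := Module.compHom N'' (algebraMap B B'')
    haveI : IsScalarTower B B'' N'' := ⟨fun b x n => by
      change (b • x) • n = (algebraMap B B'' b) • (x • n)
      rw [Algebra.smul_def, mul_smul]⟩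
    haveI : IsScalarTower B B' N'' := ⟨fun b x n => by
      change (b • x) • n = (algebraMap B B'' b) • (x • n)
      rw [Algebra.smul_def, mul_smul, ← algebraMap_smul B'' (algebraMap B B' b) (x • n)]
      rfl⟩
    refine hU A'' B'' N'' ((f.restrictScalars B).comp g) t' t P ⟨?_, ?_, hle, ?_, hPlo, hass, hcl⟩
    · have h1 : Algebra.IsPushout A A' B B' := Algebra.IsPushout.symm hpo1
      have h2 : Algebra.IsPushout A' A'' B' B'' := Algebra.IsPushout.symm hpo
      have h3 : Algebra.IsPushout A A'' B B'' := (Algebra.IsPushout.comp_iff A A' B B' (T := A'') (T' := B'')).mpr h2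
      exact Algebra.IsPushout.symm h3
    · exact IsBaseChange.comp hg hbc
    · exact Ideal.LiesOver.trans t p' p
  · intro h A' B' N' _ _ _ _ _ _ _ _ _ _ _ _ _ _ f t' t _ _ P _ hImp
    obtain ⟨hpo, hbc, hle, hlo, hPlo, hass, hcl⟩ := hImp
    have key := h A' B' N' f hbc t hlo
    refine key A' B' N' LinearMap.id t' t P ?_ ⟨?_, ?_, hle, ?_, hPlo, hass, hcl⟩
    · refine ⟨inferInstance, ⟨⟨rfl⟩, ?_⟩⟩
      have e : Algebra.ofId A' A' = AlgHom.id A' A' := rfl
      have h2 := Ideal.ResidueField.mapₐ_id (R := A') (A := A') t
      have h3 : Function.Bijective (Ideal.ResidueField.mapₐ t t (AlgHom.id A' A') rfl) := by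
        rw [h2]; exact Function.bijective_id
      exact h3
    · infer_instance
    · exact IsBaseChange.of_equiv (TensorProduct.lid B' N') (fun x => by simp)
    · exact ⟨rfl⟩

end Groth.Agent.S9008
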