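import Groth.Statements.S9011
import Groth.Agent.Lib.Helper54.PureFree
import Groth.Agent.Lib.Helper54.EssLoc3
import Groth.Agent.S0582

set_option autoImplicit false
universe u
open FlatMor

namespace Groth.Agent.S9011

open Groth.Agent.Lib.Helper54 TensorProduct in
/-- Multiplication by an element acting injectively on the closed fibre of a module which is
projective over the local base is universally injective. -/
theorem smul_univInj {R S : Type u} [CommRing R] [IsLocalRing R] [CommRing S] [Algebra R S]
    (N : Type u) [AddCommGroup N] [Module S N] [Module R N] [IsScalarTower R S N]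
    [Module.Projective R N] (s : S) (hs : s ∈ FlatCA.nzdFiber R S N) :
    FlatCA.UnivInj R ((LinearMap.lsmul S N s).restrictScalars R) := by
  have : Module.Free R N := Groth.Agent.S0582.result R N
  have hreg := EssLoc3.regular_of_mem_nzd (IsLocalRing.maximalIdeal R) S N s hs
  intro Q _ _
  refine PureFree.lTensor_injective_of_field ((LinearMap.lsmul S N s).restrictScalars R)
    (IsLocalRing.maximalIdeal R).ResidueField
    (Ideal.algebraMap_residueField_surjective (IsLocalRing.maximalIdeal R)) ?_ Q
  intro z hz
  apply hreg z
  rw [← hz]
  clear hz
  induction z with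
  | zero => simp
  | add x y hx hy => rw [smul_add, hx, hy, map_add]
  | tmul n k => rfl

open IsLocalRing in
/-- For a local ring R with maximal ideal m, an R-algebra S with S/mS Noetherian and an S-module N with
N/mN finite over S/mS which is projective as an R-module, every element of S that is a
nonzerodivisor on N/mN acts R-universally injectively on N, and the map from N to its localization
at all such elements is R-universally injective. -/
theorem result {R S : Type u} [CommRing R] [IsLocalRing R] [CommRing S] [Algebra R S] (N : Type u) [AddCommGroup N] [Module S N] [Module R N] [IsScalarTower R S N] [IsNoetherianRing ((maximalIdeal R).Fiber S)] [Module.Finite ((maximalIdeal R).Fiber S) (FlatCA.fiberMod (maximalIdeal R) S N)] [Module.Projective R N] : (∀ s ∈ FlatCA.nzdFiber R S N, FlatCA.UnivInj R ((LinearMap.lsmul S N s).restrictScalars R)) ∧ FlatCA.UnivInj R ((LocalizedModule.mkLinearMap (FlatCA.nzdFiber R S N) N).restrictScalars R) := by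
  refine ⟨fun s hs => smul_univInj N s hs, ?_⟩
  intro Q _ _
  rw [injective_iff_map_eq_zero]
  intro x hx
  set T := FlatCA.nzdFiber R S N with hT
  let ℓ := LocalizedModule.mkLinearMap T N
  -- pass to `N ⊗ Q`, where `S` acts
  have h1 : (TensorProduct.AlgebraTensorModule.rTensor R Q ℓ) (TensorProduct.comm R Q N x) = 0 := by
    have h2 : ∀ x : TensorProduct R Q N,
        (TensorProduct.AlgebraTensorModule.rTensor R Q ℓ) (TensorProduct.comm R Q N x) =
          TensorProduct.comm R Q _ ((ℓ.restrictScalars R).lTensor Q x) := by
      intro x
      induction x with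
      | zero => simp
      | add x y hx hy => rw [map_add, map_add, map_add, map_add, hx, hy]
      | tmul c n => rfl
    rw [h2, hx, map_zero]
  obtain ⟨t, ht⟩ :=
    (IsLocalizedModule.eq_zero_iff T (TensorProduct.AlgebraTensorModule.rTensor R Q ℓ)).1 h1
  have h3 : ∀ x : TensorProduct R Q N,
      TensorProduct.comm R Q N (((LinearMap.lsmul S N (t : S)).restrictScalars R).lTensor Q x) =
        t • TensorProduct.comm R Q N x := by
    intro x
    induction x with
    | zero => simp
    | add x y hx hy => rw [map_add, map_add, map_add, smul_add, hx, hy]
    | tmul c n => rfl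
  have h4 : ((LinearMap.lsmul S N (t : S)).restrictScalars R).lTensor Q x = 0 := by
    apply (LinearEquiv.map_eq_zero_iff (TensorProduct.comm R Q N)).1
    rw [h3]
    exact ht
  exact (injective_iff_map_eq_zero _).1 (smul_univInj N (t : S) t.2 Q) x h4

end Groth.Agent.S9011
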