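import Groth.Statements.S9033
import Mathlib
-- import your own Groth.Agent.* helpers here

set_option autoImplicit false
universe u
open Cpct

namespace Groth.Agent.S9033

section PRE
open CategoryTheory CategoryTheory.Limits AlgebraicGeometry Opposite
set_option backward.isDefEq.respectTransparency false
set_option backward.isDefEq.respectTransparency.types false

variable {S : Scheme.{u}}

theorem restr_comp {A B C : Pair S} (f : A ⟶ B) (g : B ⟶ C) :
    restr (f ≫ g) = restr f ≫ restr g :=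
  congrArg (fun k => k.left) (openOver.map_comp f g)

theorem restr_comp_assoc {A B C : Pair S} (f : A ⟶ B) (g : B ⟶ C) {Z : Scheme.{u}}
    (h : (C.U : Scheme.{u}) ⟶ Z) :
    restr (f ≫ g) ≫ h = restr f ≫ restr g ≫ h := by
  rw [restr_comp, Category.assoc]

theorem restr_id (A : Pair S) : restr (𝟙 A) = 𝟙 _ :=
  congrArg (fun k => k.left) (openOver.map_id A)

theorem restr_ι {A B : Pair S} (f : A ⟶ B) :
    restr f ≫ B.U.ι = A.U.ι ≫ (Pair.Hom.bar f).left :=
  Scheme.Hom.resLE_comp_ι _ _

instance : (isoOpen S).IsMultiplicative where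
  id_mem A := by
    show IsIso (restr (𝟙 A))
    rw [restr_id]
    infer_instance
  comp_mem f g hf hg := by
    show IsIso (restr (f ≫ g))
    rw [restr_comp]
    haveI : IsIso (restr f) := hf
    haveI : IsIso (restr g) := hg
    infer_instance

/-- criterion: `restr t` is an iso. -/
theorem isIso_restr {A B : Pair S} (t : A ⟶ B)
    (a : (B.U : Scheme.{u}) ⟶ A.bar.left) (ha1 : a ≫ (Pair.Hom.bar t).left = B.U.ι)
    (hrange : ∀ x, a.base x ∈ A.U) (ha2 : restr t ≫ a = A.U.ι) :
    IsIso (restr t) := by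
  have hr : Set.range a.base ⊆ Set.range A.U.ι.base := by
    rintro _ ⟨x, rfl⟩
    rw [Scheme.Opens.range_ι]
    exact hrange x
  let b : (B.U : Scheme.{u}) ⟶ (A.U : Scheme.{u}) := IsOpenImmersion.lift A.U.ι a hr
  have hb : b ≫ A.U.ι = a := IsOpenImmersion.lift_fac _ _ _
  refine ⟨b, ?_, ?_⟩
  · rw [← cancel_mono A.U.ι, Category.assoc, hb, ha2, Category.id_comp]
  · rw [← cancel_mono B.U.ι, Category.assoc, restr_ι, reassoc_of% hb, ha1, Category.id_comp]

theorem ext_part (X Y Y' : Pair S) (f₁ f₂ : X ⟶ Y) (s : Y ⟶ Y') (hs : isoOpen S s)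
    (h : f₁ ≫ s = f₂ ≫ s) : ∃ (X' : Pair S) (t : X' ⟶ X) (_ : isoOpen S t), t ≫ f₁ = t ≫ f₂ := by
  haveI : IsIso (restr s) := hs
  haveI : IsProper Y.bar.hom := Y.isProper
  haveI : IsProper X.bar.hom := X.isProper
  have hres : restr f₁ = restr f₂ := by
    rw [← cancel_mono (restr s), ← restr_comp, ← restr_comp, h]
  have hι : X.U.ι ≫ (Pair.Hom.bar f₁).left = X.U.ι ≫ (Pair.Hom.bar f₂).left := by
    rw [← restr_ι, ← restr_ι, hres]
  let E : Over S := equalizer (Pair.Hom.bar f₁) (Pair.Hom.bar f₂)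
  let e : E ⟶ X.bar := equalizer.ι (Pair.Hom.bar f₁) (Pair.Hom.bar f₂)
  haveI : IsClosedImmersion e.left := isClosedImmersion_equalizer_ι_left _ _
  have hE : E.hom = e.left ≫ X.bar.hom := (Over.w e).symm
  let X' : Pair S :=
    { bar := E
      U := e.left ⁻¹ᵁ X.U
      isProper := by rw [hE]; infer_instance
      isCompact := QuasiCompact.isCompact_preimage (f := e.left) _ X.U.isOpen X.isCompact }
  let t : X' ⟶ X := ⟨e, fun x hx => hx⟩
  let c : Over.mk (X.U.ι ≫ X.bar.hom) ⟶ E :=
    equalizer.lift (Over.homMk X.U.ι rfl : Over.mk (X.U.ι ≫ X.bar.hom) ⟶ X.bar) (by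
      ext1
      simpa using hι)
  have hc : c.left ≫ e.left = X.U.ι := by
    exact congrArg (fun k => k.left) (equalizer.lift_ι
      (Over.homMk X.U.ι rfl : Over.mk (X.U.ι ≫ X.bar.hom) ⟶ X.bar) (by
      ext1
      simpa using hι))
  refine ⟨X', t, ?_, ?_⟩
  · refine isIso_restr t c.left hc ?_ ?_
    · intro x
      show e.left.base (c.left.base x) ∈ X.U
      rw [← Scheme.Hom.comp_apply, hc]
      exact x.2
    · rw [← cancel_mono e.left, Category.assoc, hc]
      exact restr_ι t
  · apply Pair.Hom.ext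
    exact equalizer.condition _ _

theorem frac_part [QuasiSeparatedSpace S] (X Y Y' : Pair S) (f : X ⟶ Y') (s : Y ⟶ Y')
    (hs : isoOpen S s) :
    ∃ (X' : Pair S) (t : X' ⟶ X) (_ : isoOpen S t) (g : X' ⟶ Y), t ≫ f = g ≫ s := by
  haveI : IsIso (restr s) := hs
  haveI : IsProper Y.bar.hom := Y.isProper
  haveI : IsProper X.bar.hom := X.isProper
  haveI : IsProper Y'.bar.hom := Y'.isProper
  haveI : IsProper (Pair.Hom.bar s).left := by
    haveI : IsProper ((Pair.Hom.bar s).left ≫ Y'.bar.hom) := by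
      rw [Over.w]; infer_instance
    exact IsProper.of_comp (Pair.Hom.bar s).left Y'.bar.hom
  haveI : IsProper (Pair.Hom.bar f).left := by
    haveI : IsProper ((Pair.Hom.bar f).left ≫ Y'.bar.hom) := by
      rw [Over.w]; infer_instance
    exact IsProper.of_comp (Pair.Hom.bar f).left Y'.bar.hom
  let pr₁ := pullback.fst (Pair.Hom.bar f).left (Pair.Hom.bar s).left
  let pr₂ := pullback.snd (Pair.Hom.bar f).left (Pair.Hom.bar s).left
  haveI : IsProper pr₁ := inferInstance
  haveI : IsProper pr₂ := inferInstance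
  have hcond : pr₁ ≫ (Pair.Hom.bar f).left = pr₂ ≫ (Pair.Hom.bar s).left := pullback.condition
  haveI : QuasiSeparatedSpace ↥(pullback (Pair.Hom.bar f).left (Pair.Hom.bar s).left) :=
    quasiSeparatedSpace_of_quasiSeparated (pr₁ ≫ X.bar.hom)
  have hw : pr₂ ≫ Y.bar.hom = pr₁ ≫ X.bar.hom := by
    rw [← Over.w (Pair.Hom.bar s), ← Over.w (Pair.Hom.bar f), reassoc_of% hcond]
  have hcpt : IsCompact ((pr₁ ⁻¹ᵁ X.U ⊓ pr₂ ⁻¹ᵁ Y.U :
      (pullback (Pair.Hom.bar f).left (Pair.Hom.bar s).left).Opens) :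
      Set ↥(pullback (Pair.Hom.bar f).left (Pair.Hom.bar s).left)) := by
    refine QuasiSeparatedSpace.inter_isCompact _ _ (pr₁ ⁻¹ᵁ X.U).isOpen ?_ (pr₂ ⁻¹ᵁ Y.U).isOpen ?_
    · exact QuasiCompact.isCompact_preimage (f := pr₁) _ X.U.isOpen X.isCompact
    · exact QuasiCompact.isCompact_preimage (f := pr₂) _ Y.U.isOpen Y.isCompact
  let X' : Pair S :=
    { bar := Over.mk (pr₁ ≫ X.bar.hom)
      U := pr₁ ⁻¹ᵁ X.U ⊓ pr₂ ⁻¹ᵁ Y.U
      isProper := by show IsProper (pr₁ ≫ X.bar.hom); infer_instance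
      isCompact := hcpt }
  let t : X' ⟶ X := ⟨Over.homMk pr₁ rfl, fun x hx => hx.1⟩
  let g : X' ⟶ Y := ⟨Over.homMk pr₂ hw, fun x hx => hx.2⟩
  have htg : t ≫ f = g ≫ s := by
    apply Pair.Hom.ext
    ext1
    exact hcond
  have hcomm : X.U.ι ≫ (Pair.Hom.bar f).left =
      (restr f ≫ inv (restr s) ≫ Y.U.ι) ≫ (Pair.Hom.bar s).left := by
    rw [Category.assoc, Category.assoc, ← restr_ι s, IsIso.inv_hom_id_assoc, restr_ι]
  let a : (X.U : Scheme.{u}) ⟶ pullback (Pair.Hom.bar f).left (Pair.Hom.bar s).left :=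
    pullback.lift X.U.ι (restr f ≫ inv (restr s) ≫ Y.U.ι) hcomm
  have ha1 : a ≫ pr₁ = X.U.ι := pullback.lift_fst _ _ _
  have ha2 : a ≫ pr₂ = restr f ≫ inv (restr s) ≫ Y.U.ι := pullback.lift_snd _ _ _
  have hres : restr t ≫ restr f ≫ inv (restr s) = restr g := by
    rw [← restr_comp_assoc, htg, restr_comp, Category.assoc, IsIso.hom_inv_id, Category.comp_id]
  refine ⟨X', t, ?_, g, htg⟩
  refine isIso_restr t a ha1 ?_ ?_
  · intro x
    constructor
    · show pr₁.base (a.base x) ∈ X.U
      rw [← Scheme.Hom.comp_apply, ha1]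
      exact x.2
    · show pr₂.base (a.base x) ∈ Y.U
      rw [← Scheme.Hom.comp_apply, ha2, Scheme.Hom.comp_apply, Scheme.Hom.comp_apply]
      exact (((inv (restr s)).base ((restr f).base x))).2
  · apply pullback.hom_ext
    · rw [Category.assoc]
      erw [ha1]
      exact restr_ι t
    · rw [Category.assoc]
      erw [ha2]
      rw [reassoc_of% hres]
      exact restr_ι g

theorem main (S : Scheme.{u}) [CompactSpace S] [QuasiSeparatedSpace S] :
    (Cpct.isoOpen S).HasRightCalculusOfFractions where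
  exists_rightFraction X Y φ := by
    obtain ⟨X', t, ht, g, h⟩ := frac_part X Y φ.Y' φ.f φ.s φ.hs
    exact ⟨⟨t, ht, g⟩, h⟩
  ext X Y Y' f₁ f₂ s hs h := ext_part X Y Y' f₁ f₂ s hs h

end PRE

open CategoryTheory CategoryTheory.Limits AlgebraicGeometry Opposite in
/-- Let S be a quasi-compact and quasi-separated scheme. In the category of compactifications over S —
objects the pairs (X, X̄) with X̄ proper over S and X a quasi-compact open of X̄, morphisms the
morphisms X̄' → X̄ over S mapping X' into X — the collection of morphisms (u, ū) : (X', X̄') → (X,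
X̄) with u : X' → X an isomorphism is a right multiplicative system: it contains the identities and
is closed under composition; for f : (Y, Ȳ) → (X, X̄) and (u, ū) : (X', X̄') → (X, X̄) in the
collection there are (v, v̄) : (Y', Ȳ') → (Y, Ȳ) in the collection and g : (Y', Ȳ') → (X', X̄') with
f ∘ (v, v̄) = (u, ū) ∘ g; and if two morphisms (X, X̄) → (Y, Ȳ) become equal after composing with
some (Y, Ȳ) → (Y', Ȳ') of the collection, they become equal after precomposing with some (X', X̄') →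
(X, X̄) of the collection. -/
theorem result (S : Scheme.{u}) [CompactSpace S] [QuasiSeparatedSpace S] :
    (Cpct.isoOpen S).HasRightCalculusOfFractions := by
  exact main S

end Groth.Agent.S9033
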