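import Groth.Statements.S9034
import Mathlib
import Groth.Agent.S9033
-- import your own Groth.Agent.* helpers here

set_option autoImplicit false
universe u
open Cpct

namespace Groth.Agent.S9034

section PRE
open CategoryTheory CategoryTheory.Limits AlgebraicGeometry Opposite
set_option backward.isDefEq.respectTransparency false
set_option backward.isDefEq.respectTransparency.types false

universe v₁ v₂ u₁ u₂

section CT
variable {C : Type u₁} [Category.{v₁} C] {D : Type u₂} [Category.{v₂} D]
  (W : MorphismProperty C) [W.HasRightCalculusOfFractions] (L : C ⥤ D)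
  (hi : W.IsInvertedBy L) [L.EssSurj]
  (hfull : ∀ (A B : C) (φ : L.obj A ⟶ L.obj B),
    ∃ (A' : C) (t : A' ⟶ A) (_ : W t) (g : A' ⟶ B), L.map t ≫ φ = L.map g)
  (hfaith : ∀ (A B : C) (f₁ f₂ : A ⟶ B), L.map f₁ = L.map f₂ →
    ∃ (A' : C) (t : A' ⟶ A) (_ : W t), t ≫ f₁ = t ≫ f₂)

include hfaith in
theorem lift_faithful : (Localization.lift L hi W.Q).Faithful := by
  let F := Localization.lift L hi W.Q
  let e : W.Q ⋙ F ≅ L := Localization.fac L hi W.Q
  have key : ∀ ⦃A B : C⦄ (f g : A ⟶ B), F.map (W.Q.map f) = F.map (W.Q.map g) →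
      W.Q.map f = W.Q.map g := by
    intro A B f g h
    have h1 : L.map f = L.map g := by
      have n1 := e.hom.naturality f
      have n2 := e.hom.naturality g
      simp only [Functor.comp_map] at n1 n2
      rw [← cancel_epi (e.hom.app A), ← n1, ← n2, h]
    obtain ⟨A', t, ht, htt⟩ := hfaith A B f g h1
    haveI : IsIso (W.Q.map t) := Localization.inverts W.Q W t ht
    rw [← cancel_epi (W.Q.map t), ← Functor.map_comp, ← Functor.map_comp, htt]
  haveI : F.op.Faithful := by
    refine Functor.faithful_of_comp_of_hasLeftCalculusOfFractions W.Q.op W.op F.op ?_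
    intro X₁ X₂ f g h
    have := key f.unop g.unop (by
      have := congrArg Quiver.Hom.unop h
      simpa using this)
    simpa using congrArg Quiver.Hom.op this
  constructor
  intro X Y a b hab
  have : F.op.map a.op = F.op.map b.op := congrArg Quiver.Hom.op hab
  exact Quiver.Hom.op_inj (F.op.map_injective this)

include hfull in
theorem lift_full : (Localization.lift L hi W.Q).Full := by
  let F := Localization.lift L hi W.Q
  let e : W.Q ⋙ F ≅ L := Localization.fac L hi W.Q
  haveI := Localization.essSurj W.Q W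
  constructor
  intro X Y φ
  let a : W.Q.obj (W.Q.objPreimage X) ≅ X := W.Q.objObjPreimageIso X
  let b : W.Q.obj (W.Q.objPreimage Y) ≅ Y := W.Q.objObjPreimageIso Y
  set A := W.Q.objPreimage X
  set B := W.Q.objPreimage Y
  let φ'' : L.obj A ⟶ L.obj B :=
    e.inv.app A ≫ F.map a.hom ≫ φ ≫ F.map b.inv ≫ e.hom.app B
  obtain ⟨A', t, ht, g, htg⟩ := hfull A B φ''
  haveI : IsIso (W.Q.map t) := Localization.inverts W.Q W t ht
  haveI : IsIso (L.map t) := hi t ht
  refine ⟨a.inv ≫ inv (W.Q.map t) ≫ W.Q.map g ≫ b.hom, ?_⟩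
  have n1 : F.map (W.Q.map t) = e.hom.app A' ≫ L.map t ≫ e.inv.app A := by
    have := e.hom.naturality t
    simp only [Functor.comp_map] at this
    rw [← reassoc_of% this, Iso.hom_inv_id_app]
    exact (Category.comp_id _).symm
  have n2 : F.map (W.Q.map g) = e.hom.app A' ≫ L.map g ≫ e.inv.app B := by
    have := e.hom.naturality g
    simp only [Functor.comp_map] at this
    rw [← reassoc_of% this, Iso.hom_inv_id_app]
    exact (Category.comp_id _).symm
  have h3 : F.map (inv (W.Q.map t)) ≫ F.map (W.Q.map g) =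
      F.map a.hom ≫ φ ≫ F.map b.inv := by
    rw [Functor.map_inv, IsIso.inv_comp_eq, n1, n2, ← htg]
    simp [φ'']
  simp only [Functor.map_comp]
  rw [reassoc_of% h3]
  simp [← Functor.map_comp]

theorem lift_essSurj : (Localization.lift L hi W.Q).EssSurj := by
  let F := Localization.lift L hi W.Q
  let e : W.Q ⋙ F ≅ L := Localization.fac L hi W.Q
  constructor
  intro d
  exact ⟨W.Q.obj (L.objPreimage d), ⟨e.app _ ≪≫ L.objObjPreimageIso d⟩⟩

include hi hfull hfaith in
theorem isLocalization_of : L.IsLocalization W := by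
  let F := Localization.lift L hi W.Q
  haveI := lift_full W L hi hfull
  haveI := lift_faithful W L hi hfaith
  haveI := lift_essSurj W L hi
  haveI : F.IsEquivalence := { }
  exact Functor.IsLocalization.of_equivalence_target W.Q W L F.asEquivalence
    (Localization.fac L hi W.Q)

end CT

section geom
open Groth.Agent.S9033

/-- Key fact: if a quasi-compact `γ` factors as a closed immersion `γ'` followed by an open
immersion `j`, then the scheme-theoretic image of `γ` pulls back along `j` to `γ'`. -/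
theorem isPullback_image {U V P : Scheme.{u}} (γ : U ⟶ P) (γ' : U ⟶ V) (j : V ⟶ P)
    [IsOpenImmersion j] [IsClosedImmersion γ'] [QuasiCompact γ] (h : γ' ≫ j = γ) :
    IsPullback γ' γ.toImage j γ.imageι := by
  have H : IsPullback γ' (𝟙 U) j γ := by
    refine IsPullback.of_isLimit' ⟨by rw [Category.id_comp, h]⟩ ?_
    refine PullbackCone.IsLimit.mk _ (fun s => s.snd) ?_ ?_ ?_
    · intro s
      rw [← cancel_mono j, Category.assoc, h, s.condition]
    · intro s
      exact Category.comp_id _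
    · intro s m _ hm
      rw [← hm, Category.comp_id]
  refine isPullback_of_isClosedImmersion γ' γ.imageι γ.toImage j
    (by rw [h, Scheme.Hom.toImage_imageι]) ?_
  rw [Scheme.IdealSheafData.ker_subschemeι]
  ext W : 2
  rw [Scheme.IdealSheafData.ideal_comap_of_isOpenImmersion,
    ← Scheme.ker_ideal_of_isPullback_of_isOpenImmersion γ γ' (𝟙 U) j H W]

variable {S : Scheme.{u}}

theorem full_core [QuasiSeparatedSpace S] (A B : Pair S) (ψ : (A.U : Scheme.{u}) ⟶ (B.U : Scheme.{u}))
    (hψ : ψ ≫ B.U.ι ≫ B.bar.hom = A.U.ι ≫ A.bar.hom) :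
    ∃ (A' : Pair S) (t : A' ⟶ A) (_ : isoOpen S t) (g : A' ⟶ B), restr t ≫ ψ = restr g := by
  haveI : IsProper A.bar.hom := A.isProper
  haveI : IsProper B.bar.hom := B.isProper
  let P := pullback A.bar.hom B.bar.hom
  let p₁ : P ⟶ A.bar.left := pullback.fst A.bar.hom B.bar.hom
  let p₂ : P ⟶ B.bar.left := pullback.snd A.bar.hom B.bar.hom
  haveI : IsProper p₁ := inferInstance
  have hcond : p₁ ≫ A.bar.hom = p₂ ≫ B.bar.hom := pullback.condition
  haveI : QuasiSeparatedSpace ↥P := quasiSeparatedSpace_of_quasiSeparated (p₁ ≫ A.bar.hom)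
  haveI : CompactSpace ↥(A.U : Scheme.{u}) := isCompact_iff_compactSpace.mp A.isCompact
  let γ : (A.U : Scheme.{u}) ⟶ P := pullback.lift A.U.ι (ψ ≫ B.U.ι) (by
    rw [Category.assoc]; exact hψ.symm)
  have hγ1 : γ ≫ p₁ = A.U.ι := pullback.lift_fst _ _ _
  have hγ2 : γ ≫ p₂ = ψ ≫ B.U.ι := pullback.lift_snd _ _ _
  haveI : QuasiCompact γ := quasiCompact_of_compactSpace γ
  let V : P.Opens := p₁ ⁻¹ᵁ A.U
  have hrV : Set.range γ.base ⊆ Set.range V.ι.base := by
    rintro _ ⟨x, rfl⟩
    rw [Scheme.Opens.range_ι]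
    show p₁.base (γ.base x) ∈ A.U
    rw [← Scheme.Hom.comp_apply, hγ1]
    exact x.2
  let γ' : (A.U : Scheme.{u}) ⟶ (V : Scheme.{u}) := IsOpenImmersion.lift V.ι γ hrV
  have hγ' : γ' ≫ V.ι = γ := IsOpenImmersion.lift_fac _ _ _
  let q : (V : Scheme.{u}) ⟶ (A.U : Scheme.{u}) := p₁ ∣_ A.U
  have hq : q ≫ A.U.ι = V.ι ≫ p₁ := morphismRestrict_ι _ _
  have hγq : γ' ≫ q = 𝟙 _ := by
    rw [← cancel_mono A.U.ι, Category.assoc, hq, reassoc_of% hγ', hγ1, Category.id_comp]
  haveI : IsClosedImmersion γ' := by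
    haveI : IsClosedImmersion (γ' ≫ q) := by rw [hγq]; infer_instance
    exact IsClosedImmersion.of_comp γ' q
  have hpb : IsPullback γ' γ.toImage V.ι γ.imageι := isPullback_image γ γ' V.ι hγ'
  let i := γ.imageι
  let τ := γ.toImage
  have hτi : τ ≫ i = γ := Scheme.Hom.toImage_imageι γ
  haveI : IsClosedImmersion i := inferInstance
  haveI : IsProper (i ≫ p₁) := inferInstance
  let A' : Pair S :=
    { bar := Over.mk (i ≫ p₁ ≫ A.bar.hom)
      U := (i ≫ p₁) ⁻¹ᵁ A.U
      isProper := by show IsProper (i ≫ p₁ ≫ A.bar.hom); infer_instance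
      isCompact := QuasiCompact.isCompact_preimage (f := i ≫ p₁) _ A.U.isOpen A.isCompact }
  let t : A' ⟶ A := ⟨Over.homMk (i ≫ p₁) (by simp [A']), fun x hx => hx⟩
  have hrt : restr t ≫ A.U.ι = A'.U.ι ≫ i ≫ p₁ := restr_ι t
  -- the key factorisation
  have hrk : Set.range (A'.U.ι ≫ i).base ⊆ Set.range V.ι.base := by
    rintro _ ⟨z, rfl⟩
    rw [Scheme.Opens.range_ι]
    exact z.2
  let k : (A'.U : Scheme.{u}) ⟶ (V : Scheme.{u}) := IsOpenImmersion.lift V.ι (A'.U.ι ≫ i) hrk
  have hk : k ≫ V.ι = A'.U.ι ≫ i := IsOpenImmersion.lift_fac _ _ _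
  let ℓ : (A'.U : Scheme.{u}) ⟶ (A.U : Scheme.{u}) := hpb.lift k A'.U.ι hk
  have hℓ1 : ℓ ≫ γ' = k := hpb.lift_fst _ _ _
  have hℓ2 : ℓ ≫ τ = A'.U.ι := hpb.lift_snd _ _ _
  have hℓ : ℓ = restr t := by
    rw [← cancel_mono A.U.ι, hrt, ← hγ1, ← hγ', ← Category.assoc, ← Category.assoc, hℓ1, hk,
      Category.assoc]
  have ha2 : restr t ≫ τ = A'.U.ι := by rw [← hℓ, hℓ2]
  have hw : (i ≫ p₂) ≫ B.bar.hom = i ≫ p₁ ≫ A.bar.hom := by
    rw [Category.assoc, ← hcond]
  let g : A' ⟶ B := ⟨Over.homMk (i ≫ p₂) hw, by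
    intro z hz
    have e1 : A'.U.ι ≫ i ≫ p₂ = restr t ≫ ψ ≫ B.U.ι := by
      rw [← ha2, Category.assoc, reassoc_of% hτi, hγ2]
    have e2 := congrArg (fun m => m.base ⟨z, hz⟩) e1
    simp only [Scheme.Hom.comp_apply] at e2
    show p₂.base (i.base z) ∈ B.U
    have e3 : A'.U.ι.base ⟨z, hz⟩ = z := rfl
    rw [e3] at e2
    have e4 : B.U.ι.base (ψ.base ((restr t).base ⟨z, hz⟩)) ∈ B.U :=
      (ψ.base ((restr t).base ⟨z, hz⟩)).2
    exact e2 ▸ e4⟩
  have hrg : restr g ≫ B.U.ι = A'.U.ι ≫ i ≫ p₂ := restr_ι g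
  refine ⟨A', t, ?_, g, ?_⟩
  · refine isIso_restr t τ ?_ ?_ ha2
    · show τ ≫ i ≫ p₁ = A.U.ι
      rw [reassoc_of% hτi, hγ1]
    · intro x
      show (i ≫ p₁).base (τ.base x) ∈ A.U
      rw [← Scheme.Hom.comp_apply, reassoc_of% hτi, hγ1]
      exact x.2
  · rw [← cancel_mono B.U.ι, hrg, ← ha2, Category.assoc, Category.assoc, reassoc_of% hτi, hγ2]

theorem faith_core (X Y : Pair S) (f₁ f₂ : X ⟶ Y) (hres : restr f₁ = restr f₂) :
    ∃ (X' : Pair S) (t : X' ⟶ X) (_ : isoOpen S t), t ≫ f₁ = t ≫ f₂ := by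
  haveI : IsProper Y.bar.hom := Y.isProper
  haveI : IsProper X.bar.hom := X.isProper
  have hι : X.U.ι ≫ (Pair.Hom.bar f₁).left = X.U.ι ≫ (Pair.Hom.bar f₂).left := by
    rw [← restr_ι, ← restr_ι, hres]
  let E : Over S := equalizer (Pair.Hom.bar f₁) (Pair.Hom.bar f₂)
  let e : E ⟶ X.bar := equalizer.ι (Pair.Hom.bar f₁) (Pair.Hom.bar f₂)
  haveI : IsClosedImmersion e.left := isClosedImmersion_equalizer_ι_left _ _
  have hE : E.hom = e.left ≫ X.bar.hom := (Over.w e).symm
  let X' : Pair S :=
    { bar := E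
      U := e.left ⁻¹ᵁ X.U
      isProper := by rw [hE]; infer_instance
      isCompact := QuasiCompact.isCompact_preimage (f := e.left) _ X.U.isOpen X.isCompact }
  let t : X' ⟶ X := ⟨e, fun x hx => hx⟩
  let c : Over.mk (X.U.ι ≫ X.bar.hom) ⟶ E :=
    equalizer.lift (Over.homMk X.U.ι rfl : Over.mk (X.U.ι ≫ X.bar.hom) ⟶ X.bar) (by
      ext1
      simpa using hι)
  have hc : c.left ≫ e.left = X.U.ι := by
    exact congrArg (fun k => k.left) (equalizer.lift_ι
      (Over.homMk X.U.ι rfl : Over.mk (X.U.ι ≫ X.bar.hom) ⟶ X.bar) (by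
      ext1
      simpa using hι))
  refine ⟨X', t, ?_, ?_⟩
  · refine isIso_restr t c.left hc ?_ ?_
    · intro x
      show e.left.base (c.left.base x) ∈ X.U
      rw [← Scheme.Hom.comp_apply, hc]
      exact x.2
    · rw [← cancel_mono e.left, Category.assoc, hc]
      exact restr_ι t
  · apply Pair.Hom.ext
    exact equalizer.condition _ _

theorem main (S : Scheme.{u}) [CompactSpace S] [QuasiSeparatedSpace S] :
    (Cpct.openFunctor S).IsLocalization (Cpct.isoOpen S) := by
  haveI : (isoOpen S).HasRightCalculusOfFractions := Groth.Agent.S9033.result S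
  have hi : (isoOpen S).IsInvertedBy (openFunctor S) := by
    intro A B f hf
    haveI : IsIso (restr f) := hf
    rw [← ObjectProperty.isIso_hom_iff]
    show IsIso (openOver.map f)
    haveI : IsIso ((Over.forget S).map (openOver.map f)) := by
      show IsIso (restr f)
      infer_instance
    exact isIso_of_reflects_iso _ (Over.forget S)
  haveI : (openFunctor S).EssSurj := by
    constructor
    intro X
    obtain ⟨A, ⟨e⟩⟩ := X.property
    exact ⟨A, ⟨ObjectProperty.isoMk _ e⟩⟩
  refine isLocalization_of (isoOpen S) (openFunctor S) hi ?_ ?_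
  · intro A B φ
    obtain ⟨A', t, ht, g, h⟩ := full_core A B φ.hom.left (Over.w φ.hom)
    refine ⟨A', t, ht, g, ?_⟩
    apply ObjectProperty.hom_ext
    apply Over.OverMorphism.ext
    exact h
  · intro A B f₁ f₂ h
    refine faith_core A B f₁ f₂ ?_
    exact congrArg (fun k => k.hom.left) h

end geom

end PRE

open CategoryTheory CategoryTheory.Limits AlgebraicGeometry Opposite in
/-- Fix a scheme S which is quasi-separated and quasi-compact. Sending a pair (X, X̄) to X gives a
functor from the category of compactifications over S (pairs of a scheme X̄ proper over S and a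
quasi-compact open X ⊆ X̄, with morphisms the S-morphisms X̄' → X̄ sending X' into X) to the
category of compactifyable schemes over S (the full subcategory of schemes over S that are the open
part of such a pair), and this functor is a localization functor for the class of morphisms whose
open part X' → X is an isomorphism: it inverts that class and the induced functor from the localized
category is an equivalence. -/
theorem result (S : Scheme.{u}) [CompactSpace S] [QuasiSeparatedSpace S] :
    (Cpct.openFunctor S).IsLocalization (Cpct.isoOpen S) := by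
  exact main S

end Groth.Agent.S9034
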