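import Groth.Statements.S9036
import Groth.Agent.Lib.Helper6.QcFinite
import Groth.Agent.Lib.Helper6.CompactRetract

set_option autoImplicit false
universe u
open CategoryTheory CategoryTheory.Limits Opposite
open ModSite

namespace Groth.Agent.S9036

/-- Let (C, O) be a ringed site in which every object has a covering by quasi-compact objects (an object
U is called quasi-compact here when the sheaf h_U^# is a quasi-compact object of the topos, which is
equivalent to the site-level definition). Then every compact object of D(O) is a retract in D(O) of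
the image of a bounded complex whose terms are finite direct sums of modules of the form j_{U!} O_U
with U quasi-compact. The derived category of O-modules, direct sums in it and finite biproducts of
O-modules (automatic) are instance hypotheses. -/
theorem result
    {C : Type u} [SmallCategory C] {J : GrothendieckTopology C} (O : Sheaf J CommRingCat.{u})
    [HasFiniteBiproducts (ModSite.Mod O)]
    [HasDerivedCategory.{u} (ModSite.Mod O)] [HasCoproducts.{u} (DerivedCategory (ModSite.Mod O))]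
    (hC : ∀ V : C, ∃ R ∈ J V, ∀ ⦃W : C⦄ (g : W ⟶ V), R g →
      ∃ (U : C) (a : W ⟶ U) (b : U ⟶ V), CohCx.IsQcObject ((presheafToSheaf J (Type u)).obj (yoneda.obj U)) ∧ a ≫ b = g)
    (K : DerivedCategory (ModSite.Mod O)) (hK : CohDer.IsCompactObject K) :
    ∃ (L : CochainComplex (ModSite.Mod O) ℤ) (a b : ℤ),
      (∀ i : ℤ, i < a ∨ b < i → IsZero (L.X i)) ∧
      (∀ i : ℤ, ∃ (n : ℕ) (U : Fin n → C),
        (∀ j, CohCx.IsQcObject ((presheafToSheaf J (Type u)).obj (yoneda.obj (U j)))) ∧
        Nonempty (L.X i ≅ ⨁ fun j => ModSite.freeOn O (U j))) ∧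
      Nonempty (Retract K (DerivedCategory.Q.obj L)) := by
  classical
  let G : Set C := {U | CohCx.IsQcObject ((presheafToSheaf J (Type u)).obj (yoneda.obj U))}
  have hG : ∀ X : C, ∃ (ι : Type u) (Y : ι → C) (f : ∀ i, Y i ⟶ X),
      Sieve.ofArrows Y f ∈ J X ∧ ∀ i, Y i ∈ G := by
    intro X
    obtain ⟨R, hR, h⟩ := hC X
    choose U a b hqc hab using h
    refine ⟨Σ W : C, {g : W ⟶ X // R g}, fun i => U i.2.1 i.2.2, fun i => b i.2.1 i.2.2, ?_,
      fun i => hqc i.2.1 i.2.2⟩
    refine J.superset_covering (fun W g hg => ?_) hR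
    have h1 := (Sieve.ofArrows (fun i : Σ W : C, {g : W ⟶ X // R g} => U i.2.1 i.2.2)
      (fun i => b i.2.1 i.2.2)).downward_closed
      (Sieve.ofArrows_mk _ _ (⟨W, g, hg⟩ : Σ W : C, {g : W ⟶ X // R g})) (a g hg)
    rw [hab g hg] at h1
    exact h1
  let S : Set (ModSite.Mod O) := {M | ∃ U : C, U ∈ G ∧ M = ModSite.freeOn O U}
  have h1 : ∀ X : ModSite.Mod O, ∃ (ι : Type u) (E : ι → ModSite.Mod O) (π : ∐ E ⟶ X),
      (∀ i, E i ∈ S) ∧ Epi π := by
    intro X
    obtain ⟨ι, U, π, hU, hπ⟩ :=
      Groth.Agent.Lib.Helper6.QcFinite.exists_epi_of_generating O G hG X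
    exact ⟨ι, fun i => ModSite.freeOn O (U i), π, fun i => ⟨U i, hU i, rfl⟩, hπ⟩
  have h2 : ∀ E ∈ S, ∀ ι : Type u,
      PreservesColimitsOfShape (Discrete ι) (preadditiveCoyoneda.obj (op E)) := by
    rintro _ ⟨U, hU, rfl⟩ ι
    exact Groth.Agent.Lib.Helper6.QcFinite.preservesColimitsOfShape_coyoneda_freeOn O hU ι
  obtain ⟨L, a, b, hz, hfin, hr⟩ :=
    Groth.Agent.Lib.Helper6.CompactRetract.main S h1 h2 K hK
  refine ⟨L, a, b, hz, fun i => ?_, hr⟩
  obtain ⟨n, E, hE, ⟨e⟩⟩ := hfin i
  choose U hU hEU using hE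
  have hfun : E = fun j => ModSite.freeOn O (U j) := funext hEU
  subst hfun
  exact ⟨n, U, hU, ⟨e⟩⟩

end Groth.Agent.S9036
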