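import Groth.Statements.S9038
-- import your own Groth.Agent.* helpers here

set_option autoImplicit false
universe u
open Topology
open CohTop

namespace Groth.Agent.S9038

/-- In the category of Hausdorff locally quasi-compact spaces, call a family of continuous maps f_i :
X_i → X a qc covering when every point of X has a neighbourhood of the form ⋃_{i ∈ t} f_i(E_i) with
t a finite set of indices and E_i ⊆ X_i quasi-compact. If (f_i : X_i → X) is a qc covering and for
each i the family (g_{ij} : X_{ij} → X_i)_j is a qc covering, then the family of composites X_{ij} →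
X, indexed by the pairs (i, j), is a qc covering. -/
theorem result
    {B : Type u} [TopologicalSpace B] [T2Space B] [LocallyCompactSpace B]
    {ι : Type u} {X : ι → Type u} [∀ i, TopologicalSpace (X i)] [∀ i, T2Space (X i)]
    [∀ i, LocallyCompactSpace (X i)]
    (f : ∀ i, X i → B) (hf : ∀ i, Continuous (f i))
    (hcov : ∀ x : B, ∃ (t : Finset ι) (E : ∀ i, Set (X i)),
      (∀ i ∈ t, IsCompact (E i)) ∧ (⋃ i ∈ t, f i '' E i) ∈ 𝓝 x)
    {κ : ι → Type u} {Y : ∀ i, κ i → Type u} [∀ i j, TopologicalSpace (Y i j)] [∀ i j, T2Space (Y i j)]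
    [∀ i j, LocallyCompactSpace (Y i j)]
    (g : ∀ i j, Y i j → X i) (hg : ∀ i j, Continuous (g i j))
    (hcov' : ∀ (i : ι) (x : X i), ∃ (t : Finset (κ i)) (E : ∀ j, Set (Y i j)),
      (∀ j ∈ t, IsCompact (E j)) ∧ (⋃ j ∈ t, g i j '' E j) ∈ 𝓝 x) :
    ∀ x : B, ∃ (t : Finset (Σ i, κ i)) (E : ∀ p : (Σ i, κ i), Set (Y p.1 p.2)),
      (∀ p ∈ t, IsCompact (E p)) ∧ (⋃ p ∈ t, f p.1 '' (g p.1 p.2 '' E p)) ∈ 𝓝 x := by
  classical
  -- Step 1: every compact subset of `X i` is covered by finitely many images of compacts.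
  have step1 : ∀ (i : ι) (s : Set (X i)), IsCompact s →
      ∃ (t' : Finset (κ i)) (E' : ∀ j, Set (Y i j)),
        (∀ j, IsCompact (E' j)) ∧ s ⊆ ⋃ j ∈ t', g i j '' E' j := by
    intro i s hs
    refine hs.induction_on (p := fun s => ∃ (t' : Finset (κ i)) (E' : ∀ j, Set (Y i j)),
        (∀ j, IsCompact (E' j)) ∧ s ⊆ ⋃ j ∈ t', g i j '' E' j) ?_ ?_ ?_ ?_
    · exact ⟨∅, fun _ => ∅, fun _ => isCompact_empty, Set.empty_subset _⟩
    · rintro s₁ s₂ h12 ⟨t', E', hE', hsub⟩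
      exact ⟨t', E', hE', h12.trans hsub⟩
    · rintro s₁ s₂ ⟨t₁, E₁, hE₁, hsub₁⟩ ⟨t₂, E₂, hE₂, hsub₂⟩
      refine ⟨t₁ ∪ t₂, fun j => E₁ j ∪ E₂ j, fun j => (hE₁ j).union (hE₂ j), ?_⟩
      apply Set.union_subset
      · refine hsub₁.trans ?_
        intro z hz
        simp only [Set.mem_iUnion, Set.mem_image] at hz ⊢
        obtain ⟨j, hj, w, hw, rfl⟩ := hz
        exact ⟨j, Finset.mem_union_left _ hj, w, Or.inl hw, rfl⟩
      · refine hsub₂.trans ?_
        intro z hz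
        simp only [Set.mem_iUnion, Set.mem_image] at hz ⊢
        obtain ⟨j, hj, w, hw, rfl⟩ := hz
        exact ⟨j, Finset.mem_union_right _ hj, w, Or.inr hw, rfl⟩
    · intro z _
      obtain ⟨tz, Ez, hEz, hN⟩ := hcov' i z
      refine ⟨⋃ j ∈ tz, g i j '' Ez j, mem_nhdsWithin_of_mem_nhds hN,
        tz, fun j => if j ∈ tz then Ez j else ∅, ?_, ?_⟩
      · intro j
        by_cases hj : j ∈ tz
        · simpa [hj] using hEz j hj
        · simp [hj]
      · intro w hw
        simp only [Set.mem_iUnion, Set.mem_image] at hw ⊢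
        obtain ⟨j, hj, v, hv, rfl⟩ := hw
        exact ⟨j, hj, v, by simpa [hj] using hv, rfl⟩
  intro x
  obtain ⟨t, E, hE, hN⟩ := hcov x
  have h1 : ∀ i ∈ t, ∃ (t' : Finset (κ i)) (E' : ∀ j, Set (Y i j)),
        (∀ j, IsCompact (E' j)) ∧ E i ⊆ ⋃ j ∈ t', g i j '' E' j :=
    fun i hi => step1 i (E i) (hE i hi)
  choose! t' E' hE' hsub using h1
  refine ⟨t.sigma t', fun p => E' p.1 p.2, ?_, ?_⟩
  · intro p hp
    rw [Finset.mem_sigma] at hp
    exact hE' p.1 hp.1 p.2
  · refine Filter.mem_of_superset hN ?_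
    intro z hz
    simp only [Set.mem_iUnion, Set.mem_image] at hz ⊢
    obtain ⟨i, hi, w, hw, rfl⟩ := hz
    have := hsub i hi hw
    simp only [Set.mem_iUnion, Set.mem_image] at this
    obtain ⟨j, hj, v, hv, rfl⟩ := this
    exact ⟨⟨i, j⟩, Finset.mem_sigma.mpr ⟨hi, hj⟩, g i j v, ⟨v, hv, rfl⟩, rfl⟩

end Groth.Agent.S9038
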