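import Groth.Statements.S9040
-- import your own Groth.Agent.* helpers here

set_option autoImplicit false
universe u
open Topology
open CohTop

namespace Groth.Agent.S9040

/-- Let X be a Hausdorff locally quasi-compact space, Y a Hausdorff space and f : X → Y a proper
surjective continuous map. Then {f : X → Y} is a qc covering: every point of Y has a neighbourhood
f(E) with E ⊆ X quasi-compact. (The published statement also assumes Y locally quasi-compact, in
which case the claim is immediate from properness; the published proof does not use that assumption,
and the row is stated without it, so that it shows in particular that Y is locally quasi-compact.) -/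
theorem result
    {X Y : Type u} [TopologicalSpace X] [T2Space X] [LocallyCompactSpace X] [TopologicalSpace Y] [T2Space Y]
    (f : X → Y) (hf : IsProperMap f) (hsurj : Function.Surjective f) (y : Y) :
    ∃ E : Set X, IsCompact E ∧ f '' E ∈ 𝓝 y := by
  have hK : IsCompact (f ⁻¹' {y}) := hf.isCompact_preimage isCompact_singleton
  obtain ⟨K', hK', hsub⟩ := exists_compact_superset hK
  refine ⟨K', hK', ?_⟩
  have H : ∀ x₀ ∈ f ⁻¹' {y}, ∀ᶠ x in 𝓝 x₀, x ∈ K' := by
    intro x₀ hx₀
    exact mem_interior_iff_mem_nhds.mp (hsub hx₀)
  have := hf.isClosedMap.eventually_nhds_fiber y H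
  filter_upwards [this] with z hz
  obtain ⟨x, rfl⟩ := hsurj z
  exact ⟨x, hz x rfl, rfl⟩

end Groth.Agent.S9040
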