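import Groth.Statements.S9045
import Mathlib

set_option autoImplicit false
universe u
open CategoryTheory CategoryTheory.Limits Opposite
open ModSite

set_option linter.style.haveILetI false

namespace Groth.Agent.S9045

section types

variable {C : Type u} [SmallCategory C] {J : GrothendieckTopology C}
  {D : Type u} [SmallCategory D] {K : GrothendieckTopology D}

/-- restriction of sections along F -/
def resSections (F : D ⥤ C) (P : Cᵒᵖ ⥤ Type u) (s : P.sections) : (F.op ⋙ P).sections :=
  ⟨fun Y => s.1 (F.op.obj Y), fun φ => s.2 (F.op.map φ)⟩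

theorem bijective_resSections (F : D ⥤ C) [F.IsContinuous K J]
    [PreservesFiniteLimits (F.sheafPullback (Type u) K J)] (P : Sheaf J (Type u)) :
    Function.Bijective (resSections F P.obj) := by
  let oneC : Sheaf J (Type u) := Sheaf.terminal J Types.isTerminalPUnit
  let oneD : Sheaf K (Type u) := Sheaf.terminal K Types.isTerminalPUnit
  have hC : IsTerminal oneC := Sheaf.isTerminalTerminal J _
  have hD : IsTerminal oneD := Sheaf.isTerminalTerminal K _
  let adj := F.sheafAdjunctionContinuous (Type u) K J
  let pb := F.sheafPullback (Type u) K J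
  let pf := F.sheafPushforwardContinuous (Type u) K J
  have hT : IsTerminal (pb.obj oneD) := hD.isTerminalObj pb oneD
  -- u : oneD ⟶ pf.obj oneC
  let uu : oneD ⟶ pf.obj oneC := ⟨{ app := fun _ => 𝟙 _ }⟩
  let g : pb.obj oneD ⟶ oneC := (adj.homEquiv _ _).symm uu
  have hg : IsIso g := by
    refine ⟨hT.from _, hT.hom_ext _ _, hC.hom_ext _ _⟩
  -- the chain of bijections
  let e1 : P.obj.sections ≃ (oneC ⟶ P) :=
    (P.obj.sectionsEquivHom PUnit).trans
      ⟨fun t => ⟨t⟩, fun t => t.hom, fun _ => rfl, fun _ => rfl⟩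
  let e2 : (F.op ⋙ P.obj).sections ≃ (oneD ⟶ pf.obj P) :=
    ((F.op ⋙ P.obj).sectionsEquivHom PUnit).trans
      ⟨fun t => ⟨t⟩, fun t => t.hom, fun _ => rfl, fun _ => rfl⟩
  let ρ : (oneC ⟶ P) → (oneD ⟶ pf.obj P) := fun t => adj.homEquiv _ _ (g ≫ t)
  have hρ : Function.Bijective ρ := by
    refine (adj.homEquiv _ _).bijective.comp ?_
    exact ⟨fun a b h => (cancel_epi g).1 h, fun t => ⟨inv g ≫ t, by simp⟩⟩
  have hcomm : ∀ s, e2 (resSections F P.obj s) = ρ (e1 s) := by
    intro s
    change _ = adj.homEquiv _ _ (g ≫ e1 s)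
    rw [Adjunction.homEquiv_naturality_right, Equiv.apply_symm_apply]
    rfl
  have : resSections F P.obj = e2.symm ∘ ρ ∘ e1 := by
    funext s
    simp only [Function.comp_apply, ← hcomm, Equiv.symm_apply_apply]
  rw [this]
  exact e2.symm.bijective.comp (hρ.comp e1.bijective)

end types


open ModSite

variable {C : Type u} [SmallCategory C] {J : GrothendieckTopology C} {O_C : Sheaf J CommRingCat.{u}}
    {D : Type u} [SmallCategory D] {K : GrothendieckTopology D} {O_D : Sheaf K CommRingCat.{u}}

theorem bijective_pushforwardSections' (f : ModSite.RMor O_C O_D) (M : ModSite.Mod O_C) :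
    Function.Bijective (SheafOfModules.pushforwardSections f.sharpR (M := M)) := by
  let P : Sheaf J (Type u) :=
    (sheafCompose J (forget AddCommGrpCat)).obj ((SheafOfModules.toSheaf _).obj M)
  exact bijective_resSections (K := K) f.fn P

instance isIso_pullbackObjUnitToUnit (f : ModSite.RMor O_C O_D) :
    IsIso (SheafOfModules.pullbackObjUnitToUnit f.sharpR) := by
  rw [isIso_iff_coyoneda_map_bijective]
  intro M
  rw [← ((SheafOfModules.pullbackPushforwardAdjunction.{u} f.sharpR).homEquiv _ _).bijective.of_comp_iff',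
    ← (SheafOfModules.unitHomEquiv _).bijective.of_comp_iff']
  convert! (bijective_pushforwardSections' f M).comp (SheafOfModules.unitHomEquiv _).bijective
  ext g : 1
  dsimp
  rw [SheafOfModules.pushforwardSections_unitHomEquiv, EmbeddingLike.apply_eq_iff_eq,
    Adjunction.homEquiv_naturality_right,
    SheafOfModules.pullbackPushforwardAdjunction_homEquiv_pullbackObjUnitToUnit]


/-- pullback of free is free -/
noncomputable def pullFreeIso (f : ModSite.RMor O_C O_D) (I : Type u) :
    f.pull.obj (SheafOfModules.free I) ≅ SheafOfModules.free I :=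
  (asIso (sigmaComparison f.pull (fun _ : I => SheafOfModules.unit (ringSh O_D)))).symm ≪≫
    Sigma.mapIso (fun _ ↦ asIso (SheafOfModules.pullbackObjUnitToUnit f.sharpR))

theorem isFinFreeSummand_pull (f : ModSite.RMor O_C O_D) (M : ModSite.Mod O_D)
    (h : DCoh.IsFinFreeSummandMod (ModSite.ringSh O_D) M) :
    DCoh.IsFinFreeSummandMod (ModSite.ringSh O_C) (f.pull.obj M) := by
  obtain ⟨n, ι, π, hιπ⟩ := h
  refine ⟨n, f.pull.map ι ≫ (pullFreeIso f _).hom, (pullFreeIso f _).inv ≫ f.pull.map π, ?_⟩
  rw [Category.assoc, Iso.hom_inv_id_assoc, ← Functor.map_comp, hιπ, CategoryTheory.Functor.map_id]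

theorem main (f : ModSite.RMor O_C O_D) (E : CochainComplex (ModSite.Mod O_D) ℤ)
    (hE : DCoh.IsStrictlyPerfectMod (ModSite.ringSh O_D) E) :
    DCoh.IsStrictlyPerfectMod (ModSite.ringSh O_C)
      ((f.pull.mapHomologicalComplex (ComplexShape.up ℤ)).obj E) := by
  obtain ⟨⟨a, b, hab⟩, hfree⟩ := hE
  refine ⟨⟨a, b, fun i hi => ?_⟩, fun i => ?_⟩
  · exact Functor.map_isZero f.pull (hab i hi)
  · exact isFinFreeSummand_pull f (E.X i) (hfree i)


end Groth.Agent.S9045

namespace Groth.Agent.S9045

/-- Let f be a morphism of ringed sites from (C, O_C) to (D, O_D) and E a strictly perfect complex of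
O_D-modules (bounded, with each term a direct summand of a finite free module). Then f^* E, the
module pullback applied termwise, is a strictly perfect complex of O_C-modules. Stated for morphisms
of ringed sites; the published statement is for morphisms of ringed topoi. -/
theorem result
    {C : Type u} [SmallCategory C] {J : GrothendieckTopology C} {O_C : Sheaf J CommRingCat.{u}}
    {D : Type u} [SmallCategory D] {K : GrothendieckTopology D} {O_D : Sheaf K CommRingCat.{u}}
    (f : ModSite.RMor O_C O_D) (E : CochainComplex (ModSite.Mod O_D) ℤ)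
    (hE : DCoh.IsStrictlyPerfectMod (ModSite.ringSh O_D) E) :
    DCoh.IsStrictlyPerfectMod (ModSite.ringSh O_C) ((f.pull.mapHomologicalComplex (ComplexShape.up ℤ)).obj E) := by

  exact Groth.Agent.S9045.main f E hE

end Groth.Agent.S9045
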