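import Groth.Statements.S9054
import Groth.Agent.Lib.Helper94.TotFunctor
import Groth.Agent.Lib.Helper94.JShriekNat
import Groth.Agent.Lib.Helper94.JShriekExt
import Groth.Agent.Lib.Helper94.KFlatSite

set_option autoImplicit false
universe u
open CategoryTheory CategoryTheory.Limits Opposite
attribute [local instance] HasDerivedCategory.standard
open ModSite

namespace Groth.Agent.S9054

open Groth.Agent.Lib.Helper94 Groth.Agent.Lib.Helper94.JShriek

lemma exactAt_map_iff {A B : Type*} [Category A] [Category B] [Abelian A] [Abelian B]
    (G : A ⥤ B) [G.Additive] [G.PreservesHomology] [G.Faithful]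
    (K : CochainComplex A ℤ) (i : ℤ) :
    (((G.mapHomologicalComplex (ComplexShape.up ℤ)).obj K).ExactAt i) ↔ K.ExactAt i :=
  ShortComplex.exact_map_iff_of_faithful (K.sc i) G

/-- On a ringed site (C, O), if U is an object of C and K is a K-flat complex of O-modules, then the
restriction K|_U to the localised ringed site (C/U, O_U) is a K-flat complex of O_U-modules. -/
theorem result
    {C : Type u} [SmallCategory C] {J : GrothendieckTopology C} (O : Sheaf J CommRingCat.{u})
    (U : C) (K : CochainComplex (ModSite.Mod O) ℤ) (hK : ModSite.IsKFlat K) :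
    ModSite.IsKFlat (((ModSite.restr O U).mapHomologicalComplex (ComplexShape.up ℤ)).obj K) := by
  intro F hF i
  haveI := preservesFiniteLimits_extZero (O := O) (U := U)
  haveI : ∀ (J : Type), PreservesColimitsOfShape (Discrete J) (extZero O U) := fun J =>
    (preservesColimitsOfSize_shrink.{0, u, 0, u} (extZero O U)).preservesColimitsOfShape
  let jF := ((extZero O U).mapHomologicalComplex (ComplexShape.up ℤ)).obj F
  let KU := ((restr O U).mapHomologicalComplex (ComplexShape.up ℤ)).obj K
  have e := TotFunctor.totIso (tensorBi (O.over U)) (tensorBi O) (extZero O U) F KU jF K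
    (fun p q => (extZeroTensRIso O U (K.X q)).app (F.X p))
    (fun p q => (extZeroTensRIso O U (K.X q)).hom.naturality (F.d p (p + 1)))
    (fun p q => extZeroTensRIso_naturality O U (F.X p) (K.d q (q + 1)))
  have hjF : ∀ i : ℤ, IsZero (jF.homology i) := fun i => by
    rw [← HomologicalComplex.exactAt_iff_isZero_homology]
    exact (exactAt_map_iff (extZero O U) F i).2
      ((HomologicalComplex.exactAt_iff_isZero_homology _ _).2 (hF i))
  have h1 := hK jF hjF i
  rw [← HomologicalComplex.exactAt_iff_isZero_homology] at h1 ⊢
  have h2 := HomologicalComplex.ExactAt.of_iso h1 e.symm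
  exact (exactAt_map_iff (extZero O U) _ i).1 h2

end Groth.Agent.S9054
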