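import Groth.Statements.S9089
-- import your own Groth.Agent.* helpers here

set_option autoImplicit false
universe u
open CategoryTheory Opposite
open ModSite

namespace Groth.Agent.S9089

section aux
variable {C : Type u} [SmallCategory C] (J : GrothendieckTopology C)

/-- Locality: a property of arrows that holds locally on a covering sieve holds on a covering sieve. -/
lemma local_cover {U : C} (P : ∀ ⦃V : C⦄, (V ⟶ U) → Prop) (S₀ : Sieve U) (hS₀ : S₀ ∈ J U)
    (h : ∀ ⦃V : C⦄ (g : V ⟶ U), S₀ g → ∃ R ∈ J V, ∀ ⦃W : C⦄ (k : W ⟶ V), R k → P (k ≫ g)) :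
    ∃ S ∈ J U, ∀ ⦃V : C⦄ (g : V ⟶ U), S g → P g := by
  classical
  choose R hRJ hRP using h
  refine ⟨Sieve.bind S₀ (fun V g hg => R g hg), J.bind_covering hS₀ (fun V g hg => hRJ g hg), ?_⟩
  rintro V g ⟨Y, k, f, hf, hk, rfl⟩
  exact hRP f hf k hk

end aux

/-- Part (1): ⇔ (2), for a ringed site (C, O) with C small and O a sheaf of commutative rings: the
following are equivalent. (1) For every object U and every section f of O over U there is a covering
sieve on U on each of whose arrows either f or 1 - f restricts to a unit. (2) For every object U,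
every n ≥ 1 and all sections f₁, …, fₙ of O over U generating the unit ideal of O(U), there is a
covering sieve on U on each of whose arrows some fᵢ restricts to a unit. -/
theorem result {C : Type u} [SmallCategory C] (J : GrothendieckTopology C)
    (O : Sheaf J CommRingCat.{u}) :
    (∀ (U : C) (f : O.obj.obj (op U)), ∃ S ∈ J U, ∀ ⦃V : C⦄ (g : V ⟶ U), S g →
        IsUnit ((O.obj.map g.op).hom f) ∨ IsUnit ((O.obj.map g.op).hom (1 - f))) ↔
    (∀ (U : C) (n : ℕ) (f : Fin n → O.obj.obj (op U)), 1 ≤ n → Ideal.span (Set.range f) = ⊤ →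
        ∃ S ∈ J U, ∀ ⦃V : C⦄ (g : V ⟶ U), S g → ∃ i, IsUnit ((O.obj.map g.op).hom (f i))) := by
  constructor
  · intro h1 U n f hn
    induction n, hn using Nat.le_induction generalizing U with
    | base =>
      intro hspan
      have hu : IsUnit (f 0) := by
        rw [← Ideal.span_singleton_eq_top]
        convert hspan
        ext x
        simp only [Set.mem_singleton_iff, Set.mem_range]
        constructor
        · rintro rfl; exact ⟨0, rfl⟩
        · rintro ⟨i, rfl⟩; congr 1; exact Subsingleton.elim _ _
      exact ⟨⊤, J.top_mem U, fun V g _ => ⟨0, hu.map (O.obj.map g.op).hom⟩⟩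
    | succ n hn ih =>
      intro hspan
      have h1mem : (1 : O.obj.obj (op U)) ∈ Ideal.span (Set.range f) := by
        rw [hspan]; trivial
      obtain ⟨a, ha⟩ := (Ideal.mem_span_range_iff_exists_fun).1 h1mem
      rw [Fin.sum_univ_castSucc] at ha
      set gl := a (Fin.last n) * f (Fin.last n) with hgl
      obtain ⟨S₀, hS₀, hS₀P⟩ := h1 U gl
      refine local_cover J (fun V g => ∃ i, IsUnit ((O.obj.map g.op).hom (f i))) S₀ hS₀ ?_
      intro V g hg
      rcases hS₀P g hg with hu | hu
      · -- `f (last)` restricts to a unit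
        refine ⟨⊤, J.top_mem V, fun W k _ => ⟨Fin.last n, ?_⟩⟩
        have hu' : IsUnit ((O.obj.map g.op).hom (f (Fin.last n))) := by
          rw [hgl, map_mul] at hu
          exact isUnit_of_mul_isUnit_right hu
        have := hu'.map (O.obj.map k.op).hom
        simpa [← CommRingCat.comp_apply, ← Functor.map_comp, ← op_comp] using this
      · -- the others generate the unit ideal on `V`
        have hsum : (1 - gl) = ∑ i : Fin n, a i.castSucc * f i.castSucc := by
          rw [← ha]; ring
        have hspan' : Ideal.span (Set.range fun i : Fin n => (O.obj.map g.op).hom (f i.castSucc)) = ⊤ := by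
          refine Ideal.eq_top_of_isUnit_mem _ ?_ hu
          rw [hsum, map_sum]
          refine Submodule.sum_mem _ (fun i _ => ?_)
          rw [map_mul]
          exact Ideal.mul_mem_left _ _ (Ideal.subset_span ⟨i, rfl⟩)
        obtain ⟨R, hR, hRP⟩ := ih V (fun i : Fin n => (O.obj.map g.op).hom (f i.castSucc)) hspan'
        refine ⟨R, hR, fun W k hk => ?_⟩
        obtain ⟨i, hi⟩ := hRP k hk
        refine ⟨i.castSucc, ?_⟩
        simpa [← CommRingCat.comp_apply, ← Functor.map_comp, ← op_comp] using hi
  · intro h2 U f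
    have hspan : Ideal.span (Set.range (![f, 1 - f] : Fin 2 → O.obj.obj (op U))) = ⊤ := by
      rw [Ideal.eq_top_iff_one]
      have h0 : f ∈ Ideal.span (Set.range (![f, 1 - f] : Fin 2 → O.obj.obj (op U))) :=
        Ideal.subset_span ⟨0, rfl⟩
      have h1 : (1 - f) ∈ Ideal.span (Set.range (![f, 1 - f] : Fin 2 → O.obj.obj (op U))) :=
        Ideal.subset_span ⟨1, rfl⟩
      have h := Ideal.add_mem _ h0 h1
      have e : f + (1 - f) = 1 := by ring
      rwa [e] at h
    obtain ⟨S, hS, hSP⟩ := h2 U 2 ![f, 1 - f] (by norm_num) hspan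
    refine ⟨S, hS, fun V g hg => ?_⟩
    obtain ⟨i, hi⟩ := hSP g hg
    fin_cases i
    · left; simpa using hi
    · right; simpa using hi

end Groth.Agent.S9089
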