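import Groth.Statements.S9090
import Mathlib
-- import your own Groth.Agent.* helpers here

set_option autoImplicit false
universe u
open CategoryTheory Opposite
open ModSite

namespace Groth.Agent.S9090

/-- Part (1): ⇒ (2), for a ringed site (C, O) with C small and O a sheaf of commutative rings: if for
every object U and every section f of O over U there is a covering sieve on U on each of whose
arrows either f or 1 - f restricts to a unit, then at every point p of the site the stalk O_p is the
zero ring or is local. -/
theorem result {C : Type u} [SmallCategory C] {J : GrothendieckTopology C}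
    (O : Sheaf J CommRingCat.{u})
    (h : ∀ (U : C) (f : O.obj.obj (op U)), ∃ S ∈ J U, ∀ ⦃V : C⦄ (g : V ⟶ U), S g →
        IsUnit ((O.obj.map g.op).hom f) ∨ IsUnit ((O.obj.map g.op).hom (1 - f)))
    (p : GrothendieckTopology.Point.{u} J) :
    Subsingleton (ModSite.stalkRing p O) ∨ IsLocalRing (ModSite.stalkRing p O) := by
  by_cases hsub : Subsingleton (ModSite.stalkRing p O)
  · exact Or.inl hsub
  right
  have : Nontrivial (ModSite.stalkRing p O) := not_subsingleton_iff_nontrivial.mp hsub
  refine IsLocalRing.of_isUnit_or_isUnit_one_sub_self ?_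
  intro a
  obtain ⟨X, x, f, rfl⟩ := p.toPresheafFiber_jointly_surjective (P := O.obj) a
  obtain ⟨S, hS, hSf⟩ := h X f
  obtain ⟨V, g, hg, y, rfl⟩ := p.jointly_surjective S hS x
  let φ : O.obj.obj (op X) →+* ModSite.stalkRing p O :=
    (p.toPresheafFiber X (p.fiber.map g y) O.obj).hom
  let ψ : O.obj.obj (op V) →+* ModSite.stalkRing p O := (p.toPresheafFiber V y O.obj).hom
  have hw : ∀ r : O.obj.obj (op X), φ r = ψ ((O.obj.map g.op).hom r) := by
    intro r
    exact (p.toPresheafFiber_w_apply g y O.obj r).symm
  change IsUnit (φ f) ∨ IsUnit (1 - φ f)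
  rcases hSf g hg with hu | hu
  · left
    rw [hw]
    exact hu.map ψ
  · right
    have : (1 : ModSite.stalkRing p O) - φ f = φ (1 - f) := by
      rw [map_sub, map_one]
    rw [this, hw]
    exact hu.map ψ

end Groth.Agent.S9090
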