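import Groth.Statements.S9091
import Mathlib
-- import your own Groth.Agent.* helpers here

set_option autoImplicit false
universe u
open CategoryTheory Opposite
open ModSite

namespace Groth.Agent.S9091

open CategoryTheory Opposite Limits

/-- If the germ of `r` at a neighbourhood `(U, x)` of a point is a unit in the stalk, then `r`
restricts to a unit on a smaller neighbourhood. -/
theorem exists_isUnit_res {C : Type u} [SmallCategory C] {J : GrothendieckTopology C}
    (O : Sheaf J CommRingCat.{u}) (p : GrothendieckTopology.Point.{u} J) (U : C)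
    (x : p.fiber.obj U) (r : O.obj.obj (op U))
    (hr : IsUnit ((p.toPresheafFiber U x O.obj).hom r)) :
    ∃ (V : C) (g : V ⟶ U) (y : p.fiber.obj V), p.fiber.map g y = x ∧
      IsUnit ((O.obj.map g.op).hom r) := by
  obtain ⟨b, hb⟩ := hr.exists_right_inv
  obtain ⟨V', y', b₀, rfl⟩ := p.toPresheafFiber_jointly_surjective (P := O.obj) b
  let W := IsCofiltered.min (Functor.elementsMk p.fiber U x) (Functor.elementsMk p.fiber V' y')
  let gU := IsCofiltered.minToLeft (Functor.elementsMk p.fiber U x)
    (Functor.elementsMk p.fiber V' y')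
  let gV := IsCofiltered.minToRight (Functor.elementsMk p.fiber U x)
    (Functor.elementsMk p.fiber V' y')
  have hU : (p.toPresheafFiber U x O.obj).hom r =
      (p.toPresheafFiber W.1 W.2 O.obj).hom ((O.obj.map gU.1.op).hom r) :=
    ((congrArg (fun t => (p.toPresheafFiber U t O.obj).hom r) gU.2).symm).trans
      (p.toPresheafFiber_w_apply gU.1 W.2 O.obj r).symm
  have hV : (p.toPresheafFiber V' y' O.obj).hom b₀ =
      (p.toPresheafFiber W.1 W.2 O.obj).hom ((O.obj.map gV.1.op).hom b₀) :=
    ((congrArg (fun t => (p.toPresheafFiber V' t O.obj).hom b₀) gV.2).symm).trans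
      (p.toPresheafFiber_w_apply gV.1 W.2 O.obj b₀).symm
  have h1 : (p.toPresheafFiber W.1 W.2 O.obj).hom
      ((O.obj.map gU.1.op).hom r * (O.obj.map gV.1.op).hom b₀) =
      (p.toPresheafFiber W.1 W.2 O.obj).hom 1 := by
    rw [map_mul, map_one, ← hU, ← hV]
    exact hb
  obtain ⟨Y, k, z, hz, hk⟩ := (p.toPresheafFiber_eq_iff' (P := O.obj) W.1 W.2 _ _).mp h1
  refine ⟨Y, k ≫ gU.1, z, ?_, ?_⟩
  · rw [Functor.map_comp_apply, hz]
    exact gU.2
  · have hk' : (O.obj.map k.op).hom ((O.obj.map gU.1.op).hom r) *
        (O.obj.map k.op).hom ((O.obj.map gV.1.op).hom b₀) = 1 := by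
      have := hk
      rw [map_mul, map_one] at this
      exact this
    have : (O.obj.map (k ≫ gU.1).op).hom r = (O.obj.map k.op).hom ((O.obj.map gU.1.op).hom r) := by
      rw [op_comp, Functor.map_comp]
      rfl
    rw [this]
    exact IsUnit.of_mul_eq_one _ hk'

/-- Part (2): ⇒ (1) when the site has enough points, for a ringed site (C, O) with C small and O a sheaf
of commutative rings: if at every point p of the site the stalk O_p is the zero ring or is local,
then for every object U and every section f of O over U there is a covering sieve on U on each of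
whose arrows either f or 1 - f restricts to a unit. -/
theorem result {C : Type u} [SmallCategory C] {J : GrothendieckTopology C}
    (O : Sheaf J CommRingCat.{u}) [GrothendieckTopology.HasEnoughPoints.{u} J]
    (h : ∀ p : GrothendieckTopology.Point.{u} J, Subsingleton (ModSite.stalkRing p O) ∨ IsLocalRing (ModSite.stalkRing p O))
    (U : C) (f : O.obj.obj (op U)) :
    ∃ S ∈ J U, ∀ ⦃V : C⦄ (g : V ⟶ U), S g →
        IsUnit ((O.obj.map g.op).hom f) ∨ IsUnit ((O.obj.map g.op).hom (1 - f)) := by
  obtain ⟨P, hPsmall, hP⟩ := GrothendieckTopology.HasEnoughPoints.exists_objectProperty.{u} J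
  let ι : Type u := {q : Σ V : C, (V ⟶ U) //
    IsUnit ((O.obj.map q.2.op).hom f) ∨ IsUnit ((O.obj.map q.2.op).hom (1 - f))}
  let Y : ι → C := fun q => q.1.1
  let a : ∀ q : ι, Y q ⟶ U := fun q => q.1.2
  refine ⟨Sieve.ofArrows Y a, ?_, ?_⟩
  · rw [hP.jointly_reflect_ofArrows_mem_of_small]
    intro Φ x
    have hΦ := h Φ.obj
    have hunit : IsUnit ((Φ.obj.toPresheafFiber U x O.obj).hom f) ∨
        IsUnit ((Φ.obj.toPresheafFiber U x O.obj).hom (1 - f)) := by
      rcases hΦ with hs | hl
      · left
        exact @isUnit_of_subsingleton (ModSite.stalkRing Φ.obj O) _ hs _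
      · have := @IsLocalRing.isUnit_or_isUnit_one_sub_self (ModSite.stalkRing Φ.obj O) _ hl
          ((Φ.obj.toPresheafFiber U x O.obj).hom f)
        rcases this with h1 | h2
        · exact Or.inl h1
        · right
          rw [map_sub, map_one]
          exact h2
    rcases hunit with hu | hu
    · obtain ⟨V, g, y, hy, hg⟩ := exists_isUnit_res O Φ.obj U x f hu
      exact ⟨⟨⟨V, g⟩, Or.inl hg⟩, y, hy⟩
    · obtain ⟨V, g, y, hy, hg⟩ := exists_isUnit_res O Φ.obj U x (1 - f) hu
      exact ⟨⟨⟨V, g⟩, Or.inr hg⟩, y, hy⟩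
  · intro V g hg
    rw [Sieve.mem_ofArrows_iff] at hg
    obtain ⟨q, b, rfl⟩ := hg
    have hres : ∀ r : O.obj.obj (op U), (O.obj.map (b ≫ a q).op).hom r =
        (O.obj.map b.op).hom ((O.obj.map (a q).op).hom r) := by
      intro r
      rw [op_comp, Functor.map_comp]
      rfl
    rw [hres, hres]
    rcases q.2 with hq | hq
    · exact Or.inl (hq.map _)
    · exact Or.inr (hq.map _)

end Groth.Agent.S9091
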