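import Groth.Statements.S9097


set_option autoImplicit false
universe u
open CategoryTheory Opposite
open CohSite

namespace Groth.Agent.S9097

open CategoryTheory.Limits in
/-- sections of constant sheaves send surjective group homs to surjective maps -/
theorem const_sections_surjective {C : Type u} [SmallCategory C] (J : GrothendieckTopology C)
    {B D : AddCommGrpCat.{u}} (g : B ⟶ D) (hg : Function.Surjective g.hom) (U : C) :
    Function.Surjective (((constantSheaf J AddCommGrpCat.{u}).map g).hom.app (op U)).hom := by
  -- a set-theoretic section
  let σ : (forget AddCommGrpCat.{u}).obj D ⟶ (forget AddCommGrpCat.{u}).obj B :=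
    ↾(fun c => (hg c).choose)
  have hσ : σ ≫ (forget AddCommGrpCat.{u}).map g = 𝟙 _ := by
    ext c
    exact (hg c).choose_spec
  have hσ' : (constantSheaf J (Type u)).map σ ≫
      (constantSheaf J (Type u)).map ((forget AddCommGrpCat.{u}).map g) = 𝟙 _ := by
    rw [← CategoryTheory.Functor.map_comp, hσ, CategoryTheory.Functor.map_id]
  have hsurj : Function.Surjective
      (((constantSheaf J (Type u)).map ((forget AddCommGrpCat.{u}).map g)).hom.app (op U)) := by
    intro c
    refine ⟨((constantSheaf J (Type u)).map σ).hom.app (op U) c, ?_⟩
    have := congrArg (fun f => f.hom.app (op U) c) hσ'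
    exact this
  let α := constantCommuteCompose J (forget AddCommGrpCat.{u})
  have hnat := α.hom.naturality g
  have hnatU : ∀ b, (α.hom.app D).hom.app (op U)
      ((((constantSheaf J AddCommGrpCat.{u}).map g).hom.app (op U)).hom b) =
      ((constantSheaf J (Type u)).map ((forget AddCommGrpCat.{u}).map g)).hom.app (op U)
        ((α.hom.app B).hom.app (op U) b) := by
    intro b
    exact congrArg (fun f => f.hom.app (op U) b) hnat
  intro c
  obtain ⟨b', hb'⟩ := hsurj ((α.hom.app D).hom.app (op U) c)
  have hbijB : Function.Bijective ((α.hom.app B).hom.app (op U)) := by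
    rw [← isIso_iff_bijective]
    have : IsIso ((sheafSections J (Type u)).obj (op U) |>.map (α.hom.app B)) := inferInstance
    exact this
  have hbijD : Function.Bijective ((α.hom.app D).hom.app (op U)) := by
    rw [← isIso_iff_bijective]
    have : IsIso ((sheafSections J (Type u)).obj (op U) |>.map (α.hom.app D)) := inferInstance
    exact this
  obtain ⟨b, rfl⟩ := hbijB.2 b'
  refine ⟨b, hbijD.1 ?_⟩
  rw [hnatU, hb']

/-- If 0 → A → B → C → 0 is short exact in the category of abelian groups then, for every object U, the
sequence 0 → A̲(U) → B̲(U) → C̲(U) → 0 of sections of the constant abelian sheaves is short exact;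
in other words the sequence of constant sheaves is exact even as a sequence of abelian presheaves.
The instance binder on the sections-of-constant-sheaf functor (it preserves zero morphisms) always
holds and is only needed to form the complex. -/
theorem result {C : Type u} [SmallCategory C] (J : GrothendieckTopology C)
    (S : ShortComplex AddCommGrpCat.{u}) (hS : S.ShortExact) (U : C)
    [(constantSheaf J AddCommGrpCat.{u} ⋙ (sheafSections J AddCommGrpCat.{u}).obj (op U)).PreservesZeroMorphisms] :
    (S.map (constantSheaf J AddCommGrpCat.{u} ⋙ (sheafSections J AddCommGrpCat.{u}).obj (op U))).ShortExact := by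
  have h1 : Limits.PreservesFiniteLimits (constantSheaf J AddCommGrpCat.{u}) := by
    unfold constantSheaf
    infer_instance
  have h2 : Limits.PreservesFiniteLimits ((sheafSections J AddCommGrpCat.{u}).obj (op U)) := by
    have : Limits.PreservesFiniteLimits
        (sheafToPresheaf J AddCommGrpCat.{u} ⋙ (evaluation _ _).obj (op U)) := inferInstance
    exact Limits.preservesFiniteLimits_of_natIso
      (sheafSectionsNatIsoEvaluation (J := J) (A := AddCommGrpCat.{u}) (X := U)).symm
  have h3 : Limits.PreservesFiniteLimits
      (constantSheaf J AddCommGrpCat.{u} ⋙ (sheafSections J AddCommGrpCat.{u}).obj (op U)) :=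
    inferInstance
  have hadd : (constantSheaf J AddCommGrpCat.{u} ⋙
      (sheafSections J AddCommGrpCat.{u}).obj (op U)).Additive :=
    Functor.additive_of_preserves_binary_products _
  obtain ⟨hex, hmono⟩ := (Functor.preservesFiniteLimits_iff_forall_exact_map_and_mono _).mp h3 S hS
  have hepi : Epi ((S.map (constantSheaf J AddCommGrpCat.{u} ⋙
      (sheafSections J AddCommGrpCat.{u}).obj (op U))).g) := by
    have hg : Function.Surjective S.g.hom := (AddCommGrpCat.epi_iff_surjective _).mp hS.epi_g
    exact (AddCommGrpCat.epi_iff_surjective _).mpr (const_sections_surjective J S.g hg U)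
  exact ShortComplex.ShortExact.mk' hex hmono hepi

end Groth.Agent.S9097
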