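import Groth.Statements.S9106
import Groth.Agent.Lib.Helper47.PseudoFil2
-- import your own Groth.Agent.* helpers here

set_option autoImplicit false
universe u
open CategoryTheory CategoryTheory.Limits
open CohSite

namespace Groth.Agent.S9106

/-- An additive functor between abelian categories which preserves finite colimits and
monomorphisms is exact. -/
theorem preservesFiniteLimits_of_preservesMonomorphisms {C D : Type*} [Category C] [Category D]
    [Abelian C] [Abelian D] (F : C ⥤ D) [F.Additive] [PreservesFiniteColimits F]
    [F.PreservesMonomorphisms] : PreservesFiniteLimits F := by
  have h0 : ∀ (S : ShortComplex C), S.ShortExact → (S.map F).Exact ∧ Epi (F.map S.g) :=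
    (Functor.preservesFiniteColimits_iff_forall_exact_map_and_epi F).1 inferInstance
  have h : ∀ (S : ShortComplex C), S.ShortExact → (S.map F).Exact ∧ Mono (F.map S.f) :=
    fun S hS =>
      ⟨(h0 S hS).1, by
        have := hS.mono_f
        infer_instance⟩
  exact ((Functor.preservesFiniteLimits_tfae F).out 0 3).1 h


/-- Let u : C ⥤ D be a functor between small sites which is cocontinuous and continuous, and assume that
C has fibre products and equalizers and that u commutes with them. Let g be the morphism of topoi
attached to u. Then g_! on abelian sheaves, i.e. the left adjoint of restriction along u (left Kan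
extension along u followed by sheafification), is exact: being a left adjoint it is right exact, and
it moreover preserves finite limits. -/
theorem result {C D : Type u} [SmallCategory C] [SmallCategory D]
    (J : GrothendieckTopology C) (K : GrothendieckTopology D) (u : C ⥤ D)
    [u.IsCocontinuous J K] [u.IsContinuous J K] [HasPullbacks C] [HasEqualizers C]
    [PreservesLimitsOfShape WalkingCospan u] [PreservesLimitsOfShape WalkingParallelPair u] :
    PreservesFiniteLimits (u.sheafPullback AddCommGrpCat.{u} J K) := by
  have hlan := Groth.Agent.Lib.Helper47.PseudoFil.lan_op_preservesMonomorphisms u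
  have h1 : (Functor.sheafPullbackConstruction.sheafPullback u AddCommGrpCat.{u} J
      K).PreservesMonomorphisms := by
    dsimp only [Functor.sheafPullbackConstruction.sheafPullback]
    have h0 : (u.op.lan ⋙ presheafToSheaf K AddCommGrpCat.{u}).PreservesMonomorphisms := by
      infer_instance
    infer_instance
  have h2 : (u.sheafPullback AddCommGrpCat.{u} J K).PreservesMonomorphisms :=
    Functor.PreservesMonomorphisms.of_iso
      (Functor.sheafPullbackConstruction.sheafPullbackIso u AddCommGrpCat.{u} J K).symm
  have h3 : (u.sheafPullback AddCommGrpCat.{u} J K).Additive :=
    (u.sheafAdjunctionContinuous AddCommGrpCat.{u} J K).left_adjoint_additive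
  have h4 : PreservesFiniteColimits (u.sheafPullback AddCommGrpCat.{u} J K) := by
    have := (u.sheafAdjunctionContinuous AddCommGrpCat.{u} J K).leftAdjoint_preservesColimits
    infer_instance
  exact preservesFiniteLimits_of_preservesMonomorphisms _

end Groth.Agent.S9106
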