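import Groth.Statements.S9108
import Mathlib.CategoryTheory.Adjunction.Triple

set_option autoImplicit false
universe u
open CategoryTheory
open CohSite

namespace Groth.Agent.S9108

/-- Let u : C ⥤ D be a functor between small sites which is cocontinuous, continuous (restriction along
u preserves sheaves, and u sends covering families to covering families) and fully faithful; let g
be the morphism of topoi attached to u, so that g⁻¹ is restriction along u, g_* its right adjoint
and g_! its left adjoint on abelian sheaves. Then for every abelian sheaf F on C the canonical maps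
F → g⁻¹g_!F (unit) and g⁻¹g_*F → F (counit) are isomorphisms. -/
theorem result {C D : Type u} [SmallCategory C] [SmallCategory D]
    (J : GrothendieckTopology C) (K : GrothendieckTopology D) (u : C ⥤ D)
    [u.IsCocontinuous J K] [u.IsContinuous J K] (hu : CoverPreserving J K u) [u.Full] [u.Faithful]
    (F : Sheaf J AddCommGrpCat.{u}) :
    IsIso ((u.sheafAdjunctionContinuous AddCommGrpCat.{u} J K).unit.app F) ∧
      IsIso ((u.sheafAdjunctionCocontinuous AddCommGrpCat.{u} J K).counit.app F) := by
  let t : Adjunction.Triple (u.sheafPullback AddCommGrpCat.{u} J K)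
      (u.sheafPushforwardContinuous AddCommGrpCat.{u} J K)
      (u.sheafPushforwardCocontinuous AddCommGrpCat.{u} J K) :=
    ⟨u.sheafAdjunctionContinuous AddCommGrpCat.{u} J K,
      u.sheafAdjunctionCocontinuous AddCommGrpCat.{u} J K⟩
  have h2 : IsIso t.adj₂.counit := by
    apply (config := {allowSynthFailures := true}) NatIso.isIso_of_isIso_app
    intro G
    have : IsIso ((sheafToPresheaf J AddCommGrpCat.{u}).map (t.adj₂.counit.app G)) := by
      change IsIso ((u.sheafAdjunctionCocontinuous AddCommGrpCat.{u} J K).counit.app G).hom
      rw [Functor.sheafAdjunctionCocontinuous_counit_app_hom]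
      have : u.op.Full := inferInstance
      have : u.op.Faithful := inferInstance
      have : ∀ (F : Cᵒᵖ ⥤ AddCommGrpCat.{u}), u.op.HasPointwiseRightKanExtension F := inferInstance
      have : ∀ (F : Cᵒᵖ ⥤ AddCommGrpCat.{u}), u.op.HasRightKanExtension F := inferInstance
      have key : IsIso ((u.op.ranAdjunction AddCommGrpCat.{u}).counit.app G.obj) := inferInstance
      exact key
    exact isIso_of_reflects_iso _ (sheafToPresheaf J AddCommGrpCat.{u})
  have h1 : IsIso t.adj₁.unit := t.isIso_unit_iff_isIso_counit.2 h2
  exact ⟨inferInstanceAs (IsIso (t.adj₁.unit.app F)), inferInstanceAs (IsIso (t.adj₂.counit.app F))⟩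

end Groth.Agent.S9108
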