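import Groth.Statements.S9109
import Mathlib.Algebra.Homology.ShortComplex.ExactFunctor

set_option autoImplicit false
universe u
open CategoryTheory CategoryTheory.Limits
open CohSite

namespace Groth.Agent.S9109

open CategoryTheory.Limits in
theorem epi_pi_map {α : Type u} {M N : AddCommGrpCat.{u}} (g : M ⟶ N) [Epi g] :
    Epi (Limits.Pi.map (fun (_ : α) => g)) := by
  have h1 : Epi (Discrete.natTrans (F := Discrete.functor fun (_ : α) => M)
      (G := Discrete.functor fun (_ : α) => N) fun _ => g) := by
    apply (config := {allowSynthFailures := true}) NatTrans.epi_of_epi_app
    intro X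
    dsimp
    infer_instance
  have h2 : (lim : (Discrete α ⥤ AddCommGrpCat.{u}) ⥤ AddCommGrpCat.{u}).PreservesEpimorphisms :=
    inferInstance
  exact h2.preserves _

/-- Part (1): on a small site (C, J) with a point p: the skyscraper functor p_* from abelian groups to
abelian sheaves on C (right adjoint to the stalk functor at p; its value on A is the sheaf U ↦ ∏_{x
∈ p⁻¹U} A) is exact. As a right adjoint it preserves limits; the statement here is that it also
preserves finite colimits. -/
theorem result {C : Type u} [SmallCategory C] {J : GrothendieckTopology C}
    (p : GrothendieckTopology.Point.{u} J) :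
    PreservesFiniteColimits (p.skyscraperSheafFunctor (A := AddCommGrpCat.{u})) := by
  set F := p.skyscraperSheafFunctor (A := AddCommGrpCat.{u}) with hF
  have : PreservesFiniteLimits F := inferInstance
  have := Limits.preservesBinaryBiproducts_of_preservesBinaryProducts F
  have : F.Additive := Functor.additive_of_preservesBinaryBiproducts _
  refine (Functor.preservesFiniteColimits_iff_forall_exact_map_and_epi F).2 fun S hS => ⟨?_, ?_⟩
  · exact ((Functor.preservesFiniteLimits_iff_forall_exact_map_and_mono F).1 inferInstance S hS).1
  · have := hS.epi_g
    apply (sheafToPresheaf J AddCommGrpCat.{u}).epi_of_epi_map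
    apply (config := {allowSynthFailures := true}) NatTrans.epi_of_epi_app
    intro X
    exact epi_pi_map S.g

end Groth.Agent.S9109
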