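import Groth.Statements.S9111
import Groth.Agent.Lib.Helper94.SnakeMono
import Mathlib.RingTheory.Flat.CategoryTheory
import Mathlib.Algebra.Homology.ShortComplex.ExactFunctor
import Mathlib.Algebra.Category.ModuleCat.Presheaf.EpiMono
import Mathlib.Algebra.Category.ModuleCat.Presheaf.Free
import Mathlib.Algebra.Category.ModuleCat.Presheaf.Abelian

set_option autoImplicit false
universe u
open CategoryTheory CategoryTheory.Limits
open ModSite

namespace Groth.Agent.S9111

open CategoryTheory.Limits MonoidalCategory

section

variable {C : Type u} [SmallCategory C] (O : Cᵒᵖ ⥤ CommRingCat.{u})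

/-- presheaves of modules over `O` -/
abbrev PM : Type (u + 1) := PresheafOfModules.{u} (O ⋙ forget₂ CommRingCat.{u} RingCat.{u})

theorem preservesFiniteLimits_tensorRight_of_flat (P : PM O)
    (hP : ∀ X : Cᵒᵖ, Module.Flat (O.obj X) (P.obj X)) :
    PreservesFiniteLimits (tensorRight P) := by
  refine ⟨fun K _ _ => ⟨fun {D} => ⟨fun {c} hc => ⟨?_⟩⟩⟩⟩
  refine PresheafOfModules.evaluationJointlyReflectsLimits _ _ (fun X => ?_)
  haveI : Module.Flat (O.obj X) (P.obj X) := hP X
  exact isLimitOfPreserves
    (MonoidalCategory.tensorRight (show ModuleCat (O.obj X) from P.obj X))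
    (isLimitOfPreserves (PresheafOfModules.evaluation _ X) hc)

theorem exists_flat_epi (G : PM O) : ∃ (P : PM O) (π : P ⟶ G),
    PreservesFiniteLimits (tensorRight P) ∧ Epi π := by
  let P : PM O := PresheafOfModules.freeObj (G.presheaf ⋙ forget _)
  let ε : P ⟶ G := PresheafOfModules.freeObjDesc (𝟙 _)
  have hε : Epi ε := PresheafOfModules.epi_of_surjective (fun X m =>
    ⟨ModuleCat.freeMk m, (ModuleCat.freeDesc_apply _ _).trans rfl⟩)
  refine ⟨P, ε, preservesFiniteLimits_tensorRight_of_flat O P ?_, hε⟩
  intro X
  change Module.Flat (O.obj X) ((G.presheaf ⋙ forget _).obj X →₀ O.obj X)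
  infer_instance

instance (G : PM O) : PreservesFiniteColimits (tensorRight G) :=
  PreservesColimitsOfSize.preservesFiniteColimits _

instance (G : PM O) : PreservesFiniteColimits (tensorLeft G) :=
  PreservesColimitsOfSize.preservesFiniteColimits _

theorem zeroR (G : PM O) : (tensorRight G).PreservesZeroMorphisms :=
  haveI : PreservesColimit (Functor.empty.{0} (PM O)) (tensorRight G) := inferInstance
  Functor.preservesZeroMorphisms_of_preserves_initial_object

theorem zeroL (G : PM O) : (tensorLeft G).PreservesZeroMorphisms :=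
  haveI : PreservesColimit (Functor.empty.{0} (PM O)) (tensorLeft G) := inferInstance
  Functor.preservesZeroMorphisms_of_preserves_initial_object

theorem addR (G : PM O) : (tensorRight G).Additive :=
  haveI := zeroR O G
  haveI := preservesBinaryBiproducts_of_preservesBinaryCoproducts (tensorRight G)
  Functor.additive_of_preservesBinaryBiproducts _

theorem addL (G : PM O) : (tensorLeft G).Additive :=
  haveI := zeroL O G
  haveI := preservesBinaryBiproducts_of_preservesBinaryCoproducts (tensorLeft G)
  Functor.additive_of_preservesBinaryBiproducts _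

theorem mono_whiskerRight (S : ShortComplex (PM O)) (hS : S.ShortExact)
    (hF : PreservesFiniteLimits (tensorRight S.X₃)) (G : PM O) : Mono (S.f ▷ G) := by
  obtain ⟨P, π, hP, hπ⟩ := exists_flat_epi O G
  let T : ShortComplex (PM O) := ShortComplex.mk (kernel.ι π) π (kernel.condition π)
  have hT : T.ShortExact :=
    { exact := ShortComplex.exact_of_f_is_kernel _ (kernelIsKernel π)
      mono_f := inferInstanceAs (Mono (kernel.ι π))
      epi_g := hπ }
  have := hS.mono_f
  have := hT.mono_f
  have m1 : Mono (T.f ▷ S.X₃) := inferInstanceAs (Mono ((tensorRight S.X₃).map T.f))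
  have : Mono (S.X₃ ◁ T.f) := by
    have e : S.X₃ ◁ T.f = (β_ _ _).hom ≫ (T.f ▷ S.X₃) ≫ (β_ _ _).hom := by
      rw [BraidedCategory.braiding_naturality_left, ← Category.assoc,
        SymmetricCategory.symmetry, Category.id_comp]
    rw [e]; infer_instance
  have : Mono (S.f ▷ P) := inferInstanceAs (Mono ((tensorRight P).map S.f))
  have := addR O
  have := addL O
  have := zeroR O
  have := zeroL O
  have hL := fun X : PM O => (Functor.preservesFiniteColimits_iff_forall_exact_map_and_epi
    (tensorLeft X)).1 inferInstance T hT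
  have hR := fun Y : PM O => (Functor.preservesFiniteColimits_iff_forall_exact_map_and_epi
    (tensorRight Y)).1 inferInstance S hS
  have : Epi (S.X₁ ◁ T.g) := (hL S.X₁).2
  exact Groth.Agent.Lib.Helper94.SnakeMono.mono_of_grid
    (S.f ▷ T.X₁) (S.g ▷ T.X₁) (S.f ▷ P) (S.g ▷ P) (S.f ▷ G)
    (S.X₁ ◁ T.f) (S.X₂ ◁ T.f) (S.X₃ ◁ T.f) (S.X₁ ◁ T.g) (S.X₂ ◁ T.g)
    (whisker_exchange S.f T.f).symm (whisker_exchange S.g T.f).symm (whisker_exchange S.f T.g).symm
    (by rw [← comp_whiskerRight, S.zero]; exact (tensorRight P).map_zero _ _)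
    (by rw [← whiskerLeft_comp, T.zero]; exact (tensorLeft S.X₁).map_zero _ _)
    (by rw [← comp_whiskerRight, S.zero]; exact (tensorRight T.X₁).map_zero _ _)
    (by rw [← whiskerLeft_comp, T.zero]; exact (tensorLeft S.X₂).map_zero _ _)
    (hR T.X₁).1 (hL S.X₂).1

end

/-- Let C be a small category and O a presheaf of commutative rings on C. If 0 → F'' → F' → F → 0 is a
short exact sequence of presheaves of O-modules whose right-hand term F is flat (the sectionwise
tensor product functor - ⊗_{p,O} F is exact), then for every presheaf of O-modules G the tensored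
sequence 0 → F'' ⊗_{p,O} G → F' ⊗_{p,O} G → F ⊗_{p,O} G → 0 is short exact. The instance binder (the
functor - ⊗_{p,O} G preserves zero morphisms) always holds and is only needed to form the complex. -/
theorem result {C : Type u} [SmallCategory C] (O : Cᵒᵖ ⥤ CommRingCat.{u})
    (S : ShortComplex (PresheafOfModules.{u} (O ⋙ forget₂ CommRingCat.{u} RingCat.{u}))) (hS : S.ShortExact)
    (hF : PreservesFiniteLimits (MonoidalCategory.tensorRight S.X₃) ∧ PreservesFiniteColimits (MonoidalCategory.tensorRight S.X₃))
    (G : PresheafOfModules.{u} (O ⋙ forget₂ CommRingCat.{u} RingCat.{u})) [(MonoidalCategory.tensorRight G).PreservesZeroMorphisms] :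
    (S.map (MonoidalCategory.tensorRight G)).ShortExact := by
  have := addR O G
  have h := (Functor.preservesFiniteColimits_iff_forall_exact_map_and_epi
    (MonoidalCategory.tensorRight G)).1 inferInstance S hS
  exact
    { exact := h.1
      mono_f := mono_whiskerRight O S hS hF.1 G
      epi_g := h.2 }

end Groth.Agent.S9111
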