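import Groth.Statements.S9113
import Groth.Agent.Lib.Helper94.StalkExtZero
import Groth.Agent.Lib.Helper94.JShriek

set_option autoImplicit false
universe u
open CategoryTheory
open ModSite

namespace Groth.Agent.S9113

open CategoryTheory.Limits in
/-- On a small ringed site (C, O) with O commutative: let U be an object, G an O_U-module on the
localised site C/U and p a point of the site. The points of C/U lying over p correspond to the
elements x of the fibre of p at U, and the stalk of the extension by zero j_{U!}G at p is isomorphic
to the direct sum over these points of the stalks of G. Stated for the underlying abelian groups,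
existence of an isomorphism only. -/
theorem result {C : Type u} [SmallCategory C] {J : GrothendieckTopology C}
    (O : Sheaf J CommRingCat.{u}) (U : C) (G : ModSite.Mod (O.over U))
    (p : GrothendieckTopology.Point.{u} J) :
    Nonempty (ModSite.stalkAb p ((ModSite.extZero O U).obj G) ≅ ∐ fun x : p.fiber.obj U => ModSite.stalkAb (p.over x) G) := by
  -- replace Mathlib's extension by zero by the concrete one
  let e1 : ModSite.stalkAb p ((ModSite.extZero O U).obj G) ≅
      ModSite.stalkAb p ((Groth.Agent.Lib.Helper94.JShriek.jS O U).obj G) :=
    (p.sheafFiber (A := AddCommGrpCat.{u})).mapIso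
      ((SheafOfModules.toSheaf (ModSite.ringSh O)).mapIso
        ((Groth.Agent.Lib.Helper94.JShriek.extZeroIso O U).app G))
  -- the stalk of a sheafification is the fibre of the presheaf
  let P : PresheafOfModules.{u} (O.obj ⋙ forget₂ CommRingCat.{u} RingCat.{u}) :=
    (Groth.Agent.Lib.Helper94.JShriek.jP O U).obj
      ((SheafOfModules.forget (ModSite.ringSh (O.over U))).obj G)
  let e2 : ModSite.stalkAb p ((Groth.Agent.Lib.Helper94.JShriek.jS O U).obj G) ≅
      p.presheafFiber.obj P.presheaf :=
    (p.presheafToSheafCompSheafFiberIso (A := AddCommGrpCat.{u})).app P.presheaf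
  let e3 := Groth.Agent.Lib.Helper94.StalkExtZero.stalkIso
    (R := O.obj ⋙ forget₂ CommRingCat.{u} RingCat.{u}) (U := U)
    ((SheafOfModules.forget (ModSite.ringSh (O.over U))).obj G) p
  exact ⟨e1 ≪≫ e2 ≪≫ e3⟩

end Groth.Agent.S9113
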