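import Groth.Statements.S9121
import Mathlib.CategoryTheory.Sites.EpiMono
import Mathlib.CategoryTheory.Sites.Abelian
import Mathlib.Algebra.Homology.ShortComplex.ExactFunctor
import Mathlib.Algebra.Category.Grp.Abelian
import Mathlib.Algebra.Category.Grp.FilteredColimits
import Mathlib.CategoryTheory.Sites.LocallySurjective
-- import your own Groth.Agent.* helpers here

set_option autoImplicit false
universe u
open CategoryTheory CategoryTheory.Limits
open CohSite

namespace Groth.Agent.S9121

/-- Part (1): for the morphism of topoi f : Sh(C) → Sh(D) attached to a continuous functor u : D ⥤ C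
between small sites whose induced pullback of sheaves of sets is exact (f_* is restriction along u):
if f_* transforms epimorphisms of sheaves of sets into epimorphisms, then f_* on abelian sheaves is
exact; being a right adjoint it preserves finite limits, and the statement is that it also preserves
finite colimits. -/
theorem result {C D : Type u} [SmallCategory C] [SmallCategory D]
    (J : GrothendieckTopology C) (K : GrothendieckTopology D) (u : D ⥤ C) [u.IsContinuous K J]
    [PreservesFiniteLimits (u.sheafPullback (Type u) K J)]
    [(u.sheafPushforwardContinuous (Type u) K J).PreservesEpimorphisms] :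
    PreservesFiniteColimits (u.sheafPushforwardContinuous AddCommGrpCat.{u} K J) := by
  classical
  have hEpi : (u.sheafPushforwardContinuous AddCommGrpCat.{u} K J).PreservesEpimorphisms := by
    constructor
    intro F G φ hφ
    rw [← Sheaf.isLocallySurjective_iff_epi'] at hφ ⊢
    -- pass to sheaves of sets
    have h1 : Sheaf.IsLocallySurjective ((sheafCompose J (forget AddCommGrpCat.{u})).map φ) :=
      inferInstance
    have h2 : Epi ((sheafCompose J (forget AddCommGrpCat.{u})).map φ) := inferInstance
    have h3 : Epi ((u.sheafPushforwardContinuous (Type u) K J).map
      ((sheafCompose J (forget AddCommGrpCat.{u})).map φ)) := inferInstance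
    rw [← Sheaf.isLocallySurjective_iff_epi] at h3
    exact (Presheaf.isLocallySurjective_iff_whisker_forget K _).2 h3
  have : (u.sheafPushforwardContinuous AddCommGrpCat.{u} K J).IsRightAdjoint :=
    (u.sheafAdjunctionContinuous AddCommGrpCat.{u} K J).isRightAdjoint
  have : (u.sheafPushforwardContinuous AddCommGrpCat.{u} K J).Additive := {}
  rw [Functor.preservesFiniteColimits_iff_forall_exact_map_and_epi]
  intro S hS
  have hL : PreservesFiniteLimits (u.sheafPushforwardContinuous AddCommGrpCat.{u} K J) :=
    inferInstance
  exact ⟨((Functor.preservesFiniteLimits_iff_forall_exact_map_and_mono _).1 hL S hS).1,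
    have := hS.epi_g; inferInstance⟩

end Groth.Agent.S9121
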