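import Groth.Statements.S9128
import Groth.Agent.Lib.Helper34.CatenaryDim
import Mathlib.RingTheory.KrullDimension.NonZeroDivisors
import Mathlib.RingTheory.Ideal.KrullsHeightTheorem
-- import your own Groth.Agent.* helpers here

set_option autoImplicit false
universe u
open CAlg

namespace Groth.Agent.S9128

/-- A Noetherian local ring A is catenary if and only if the assignment sending a prime p to the Krull
dimension of A/p is a dimension function on Spec A, i.e. it decreases strictly along strict
inclusions of primes and drops by exactly one along inclusions with no prime strictly in between. -/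
theorem result (A : Type u) [CommRing A] [IsNoetherianRing A]
    [IsLocalRing A] :
    CAlg.IsCatenary A ↔
      ∀ p q : PrimeSpectrum A, p < q →
        ringKrullDim (A ⧸ q.asIdeal) < ringKrullDim (A ⧸ p.asIdeal) ∧
          (p ⋖ q → ringKrullDim (A ⧸ p.asIdeal) = ringKrullDim (A ⧸ q.asIdeal) + 1) := by
  have hdim : ∀ p : PrimeSpectrum A,
      ringKrullDim (A ⧸ p.asIdeal) = ((Order.coheight p : ℕ∞) : WithBot ℕ∞) := by
    intro p
    rw [ringKrullDim_quotient, Order.coheight_eq_krullDim_Ici]
    have hset : PrimeSpectrum.zeroLocus (R := A) (p.asIdeal : Set A) = Set.Ici p := by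
      ext q
      rw [PrimeSpectrum.mem_zeroLocus, Set.mem_Ici]
      rfl
    exact Order.krullDim_eq_of_orderIso (OrderIso.setCongr _ _ hset)
  have hfin : ∀ x : PrimeSpectrum A, Order.coheight x < ⊤ := fun x => Order.coheight_lt_top x
  rw [Groth.Agent.Lib.Helper34.isCatenary_iff,
    Groth.Agent.Lib.Helper34.posetCatenary_iff_coheight hfin]
  constructor
  · intro h p q hpq
    obtain ⟨h1, h2⟩ := h p q hpq
    rw [hdim, hdim]
    refine ⟨by exact_mod_cast h1, fun hcov => ?_⟩
    rw [h2 hcov]
    rfl
  · intro h p q hpq
    obtain ⟨h1, h2⟩ := h p q hpq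
    rw [hdim, hdim] at h1 h2
    refine ⟨by exact_mod_cast h1, fun hcov => ?_⟩
    have := h2 hcov
    exact_mod_cast this

end Groth.Agent.S9128
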