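import Groth.Statements.S9129
import Groth.Agent.Lib.Helper29.FlatLocal2

set_option autoImplicit false
universe u
open CAlg

namespace Groth.Agent.S9129

/-- Suppose R → S is a flat local homomorphism between Noetherian local rings, with R Cohen–Macaulay.
Assume either that S is finite over R or that the Krull dimension of S is at most that of R. Then
the two rings have equal dimension and S is itself Cohen–Macaulay. -/
theorem result (R S : Type u) [CommRing R] [CommRing S]
    [LocCoh.IsCohenMacaulayLocalRing R] [IsNoetherianRing S] [IsLocalRing S] [Algebra R S]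
    [IsLocalHom (algebraMap R S)] [Module.Flat R S]
    (h : Module.Finite R S ∨ ringKrullDim S ≤ ringKrullDim R) :
    LocCoh.IsCohenMacaulayLocalRing S ∧ ringKrullDim R = ringKrullDim S := by
  have hR : IsNoetherianRing R := inferInstance
  have hRl : IsLocalRing R := inferInstance
  have hCM : Module.supportDim R R = ((LocCoh.depth R R : ℕ∞) : WithBot ℕ∞) :=
    LocCoh.IsCohenMacaulayLocalRing.supportDim_eq_depth
  have hntF : Nontrivial (S ⧸ ((IsLocalRing.maximalIdeal R).map (algebraMap R S) •
      (⊤ : Submodule S S))) := Groth.Agent.Lib.Helper29.FlatLocal.nontrivial_fibMod R S S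
  have e : (TensorProduct R S R) ≃ₗ[S] S := TensorProduct.AlgebraTensorModule.rid R S S
  have hdim := Groth.Agent.Lib.Helper29.FlatLocal.supportDim_tensor_eq R S S R
  have hdepth := Groth.Agent.Lib.Helper29.FlatLocal.depth_tensor R S R S
  rw [Module.supportDim_eq_of_equiv e] at hdim
  rw [Groth.Agent.Lib.Helper29.CMLib.depth_congr e] at hdepth
  have hFfl : IsFiniteLength S (S ⧸ ((IsLocalRing.maximalIdeal R).map (algebraMap R S) •
      (⊤ : Submodule S S))) := by
    rcases h with h | h
    · have hfinF : Module.Finite R (S ⧸ ((IsLocalRing.maximalIdeal R).map (algebraMap R S) •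
          (⊤ : Submodule S S))) := inferInstance
      have htors : Module.IsTorsionBySet R (S ⧸ ((IsLocalRing.maximalIdeal R).map (algebraMap R S) •
          (⊤ : Submodule S S))) (IsLocalRing.maximalIdeal R : Set R) := by
        intro x a
        obtain ⟨s, rfl⟩ := Submodule.Quotient.mk_surjective _ x
        rw [← Submodule.Quotient.mk_smul, Submodule.Quotient.mk_eq_zero]
        have hsm : (a : R) • s = algebraMap R S (a : R) • s := by
          rw [Algebra.smul_def, smul_eq_mul]
        rw [hsm]
        exact Submodule.smul_mem_smul (Ideal.mem_map_of_mem (algebraMap R S) a.2) (Submodule.mem_top (R := S) (x := s))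
      let _ : Module (R ⧸ IsLocalRing.maximalIdeal R) (S ⧸ ((IsLocalRing.maximalIdeal R).map
          (algebraMap R S) • (⊤ : Submodule S S))) := htors.module
      have : IsScalarTower R (R ⧸ IsLocalRing.maximalIdeal R) (S ⧸ ((IsLocalRing.maximalIdeal R).map
          (algebraMap R S) • (⊤ : Submodule S S))) := htors.isScalarTower
      have : Module.Finite (R ⧸ IsLocalRing.maximalIdeal R) (S ⧸ ((IsLocalRing.maximalIdeal R).map
          (algebraMap R S) • (⊤ : Submodule S S))) := Module.Finite.of_restrictScalars_finite R _ _
      have hart : IsArtinianRing (R ⧸ IsLocalRing.maximalIdeal R) :=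
        inferInstanceAs (IsArtinianRing (IsLocalRing.ResidueField R))
      have h1 : IsArtinian (R ⧸ IsLocalRing.maximalIdeal R) (S ⧸ ((IsLocalRing.maximalIdeal R).map
          (algebraMap R S) • (⊤ : Submodule S S))) := inferInstance
      have h2 : IsArtinian R (S ⧸ ((IsLocalRing.maximalIdeal R).map
          (algebraMap R S) • (⊤ : Submodule S S))) :=
        isArtinian_of_surjective_algebraMap (R := R ⧸ IsLocalRing.maximalIdeal R)
          Ideal.Quotient.mk_surjective
      have h3 : IsArtinian S (S ⧸ ((IsLocalRing.maximalIdeal R).map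
          (algebraMap R S) • (⊤ : Submodule S S))) := isArtinian_of_tower R h2
      rw [isFiniteLength_iff_isNoetherian_isArtinian]
      exact ⟨inferInstance, h3⟩
    · apply Groth.Agent.Lib.Helper29.DimTheory.isFiniteLength_of_supportDim_le_zero
      obtain ⟨a, ha⟩ := Groth.Agent.Lib.Helper29.DimTheory.exists_nat_supportDim R R
      obtain ⟨b, hb⟩ := Groth.Agent.Lib.Helper29.DimTheory.exists_nat_supportDim S
        (S ⧸ ((IsLocalRing.maximalIdeal R).map (algebraMap R S) • (⊤ : Submodule S S)))
      rw [← Module.supportDim_self_eq_ringKrullDim, ← Module.supportDim_self_eq_ringKrullDim,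
        hdim, ha, hb] at h
      rw [hb]
      have h' : a + b ≤ a := by exact_mod_cast h
      have : b = 0 := by omega
      subst this
      simp
  have hd0 := Groth.Agent.Lib.Helper29.FlatLocal.depth_eq_zero_of_isFiniteLength S _ hFfl
  have hdim0 : Module.supportDim S (S ⧸ ((IsLocalRing.maximalIdeal R).map (algebraMap R S) •
      (⊤ : Submodule S S))) = 0 := by
    obtain ⟨b, hb⟩ := Groth.Agent.Lib.Helper29.DimTheory.exists_nat_supportDim S
        (S ⧸ ((IsLocalRing.maximalIdeal R).map (algebraMap R S) • (⊤ : Submodule S S)))
    have hle := Groth.Agent.Lib.Helper29.DimTheory.supportDim_le_zero_of_isFiniteLength _ hFfl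
    rw [hb] at hle ⊢
    have h' : b ≤ 0 := by exact_mod_cast hle
    have : b = 0 := by omega
    subst this
    simp
  rw [hdim0, add_zero] at hdim
  rw [hd0, add_zero] at hdepth
  refine ⟨{ supportDim_eq_depth := ?_ }, ?_⟩
  · rw [hdim, hdepth, hCM]
  · rw [← Module.supportDim_self_eq_ringKrullDim, ← Module.supportDim_self_eq_ringKrullDim, hdim]

end Groth.Agent.S9129
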