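import Groth.Statements.S9130
import Groth.Agent.Lib.Helper73.DimFormula
import Mathlib.RingTheory.Ideal.MinimalPrime.Noetherian

set_option autoImplicit false
set_option linter.style.haveILetI false
universe u
open CAlg

namespace Groth.Agent.S9130

/-- Let A ⊆ B be domains with B of finite type over A and A Noetherian, and assume every element of B is
algebraic over A. For a height-one prime p of A, only finitely many primes of B lie over p and each
of them has height one. (The published statement assumes that Frac(B) is finite over Frac(A); this
row assumes B algebraic over A, which is equivalent for a finite type extension of domains.) -/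
theorem result (A B : Type u) [CommRing A] [IsDomain A]
    [IsNoetherianRing A] [CommRing B] [IsDomain B] [Algebra A B] [FaithfulSMul A B]
    [Algebra.FiniteType A B] [Algebra.IsAlgebraic A B] (p : Ideal A) [p.IsPrime]
    (hp : p.height = 1) :
    (p.primesOver B).Finite ∧ ∀ q ∈ p.primesOver B, q.height = 1 := by
  classical
  haveI : IsNoetherianRing B := Algebra.FiniteType.isNoetherianRing A B
  have hinj : Function.Injective (algebraMap A B) := FaithfulSMul.algebraMap_injective A B
  have hpne : p ≠ ⊥ := by
    rintro rfl
    rw [Ideal.height_bot] at hp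
    exact zero_ne_one hp
  -- each prime over `p` has height one
  have hone : ∀ q ∈ p.primesOver B, q.height = 1 := by
    rintro q ⟨hq, hqp⟩
    haveI := hq
    haveI := hqp
    have h := Groth.Agent.Lib.Helper73.DimFormula.height_add_trdeg_le A B p q
    have h0 : Algebra.trdeg A B = 0 := trdeg_eq_zero
    rw [h0, add_zero, hp] at h
    have h1 : (q.height : Cardinal.{u}) ≤ 1 := le_trans (self_le_add_right _ _) (by simpa using h)
    have h2 : q.height ≤ 1 := by exact_mod_cast h1
    apply le_antisymm h2
    rw [Order.one_le_iff_ne_zero, Ne, Ideal.height_eq_zero_iff_eq_bot]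
    rintro rfl
    apply hpne
    have hover : p = (⊥ : Ideal B).under A := hqp.over
    rw [hover, eq_bot_iff]
    intro a ha
    have : algebraMap A B a = 0 := by simpa [Ideal.under] using ha
    rw [Ideal.mem_bot]
    exact hinj (by rw [this, map_zero])
  refine ⟨?_, hone⟩
  -- they are minimal primes of `pB`
  have hsub : p.primesOver B ⊆ (p.map (algebraMap A B)).minimalPrimes := by
    rintro q hq
    obtain ⟨hqprime, hqp⟩ := hq
    haveI := hqprime
    have hle : p.map (algebraMap A B) ≤ q := by
      rw [Ideal.map_le_iff_le_comap]
      exact le_of_eq hqp.over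
    refine ⟨⟨hqprime, hle⟩, ?_⟩
    rintro q' ⟨hq'prime, hq'le⟩ hq'q
    by_contra hnle
    have hlt : q' < q := lt_of_le_of_ne hq'q (fun h => hnle (h ▸ le_rfl))
    haveI := hq'prime
    have hht : q'.height < q.height := Ideal.height_strict_mono_of_isPrime hlt
    rw [hone q ⟨hqprime, hqp⟩, Order.lt_one_iff, Ideal.height_eq_zero_iff_eq_bot] at hht
    subst hht
    apply hpne
    rw [eq_bot_iff]
    intro a ha
    have : algebraMap A B a ∈ (⊥ : Ideal B) := hq'le (Ideal.mem_map_of_mem _ ha)
    rw [Ideal.mem_bot] at this ⊢
    exact hinj (by rw [this, map_zero])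
  exact (Ideal.finite_minimalPrimes_of_isNoetherianRing B _).subset hsub

end Groth.Agent.S9130
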