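import Groth.Statements.S9131
import Groth.Agent.Lib.Helper65.ComplSection

set_option autoImplicit false
universe u

namespace Groth.Agent.S9131

open Groth.Agent.Lib.Helper65.ComplSplit

theorem result (R : Type u) [CommRing R] (I : Ideal R)
    (K P M : Type u) [AddCommGroup K] [Module R K] [AddCommGroup P] [Module R P]
    [AddCommGroup M] [Module R M] (f : K →ₗ[R] P) (g : P →ₗ[R] M)
    (hf : Function.Injective f) (hg : Function.Surjective g) (hfg : Function.Exact f g)
    [Module.Flat R M] [Module.Projective (R ⧸ I) (M ⧸ (I • ⊤ : Submodule R M))] :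
    Function.Injective (AdicCompletion.map I f) ∧
      Function.Exact (AdicCompletion.map I f) (AdicCompletion.map I g) ∧
      ∃ s : AdicCompletion I M →ₗ[AdicCompletion I R] AdicCompletion I P,
        AdicCompletion.map I g ∘ₗ s = LinearMap.id :=
  ⟨map_injective_of_flat I f g hf hg hfg, map_exact_of_flat I f g hf hg hfg,
    exists_section R I P M g hg⟩

end Groth.Agent.S9131
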