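import Groth.Statements.S9133
import Groth.Agent.Lib.Helper39.KrullAkizuki
-- import your own Groth.Agent.* helpers here

set_option autoImplicit false
universe u
open CAlg

namespace Groth.Agent.S9133

section Helpers

open Groth.Agent.Lib.Helper39

theorem main9133 (R S K L : Type u)
    [CommRing R] [IsDomain R] [IsNoetherianRing R] [IsLocalRing R] (hdim : ringKrullDim R = 1)
    [CommRing S] [IsDomain S] [Algebra R S] [Field K] [Field L] [Algebra R K] [IsFractionRing R K]
    [Algebra S L] [IsFractionRing S L] [Algebra K L] [Algebra R L] [IsScalarTower R K L]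
    [IsScalarTower R S L] [FiniteDimensional K L] :
    (∀ n ∈ (IsLocalRing.maximalIdeal R).primesOver S, n.IsMaximal) ∧
      ((IsLocalRing.maximalIdeal R).primesOver S).Finite ∧
      ∀ n ∈ (IsLocalRing.maximalIdeal R).primesOver S, Module.Finite R (S ⧸ n) := by
  have := KA.krullDimLE_one_of_eq hdim
  have hSL : Function.Injective (algebraMap S L) := IsFractionRing.injective S L
  have hRS : Function.Injective (algebraMap R S) := by
    have h1 : Function.Injective (algebraMap R L) := by
      rw [IsScalarTower.algebraMap_eq R K L]
      exact (algebraMap K L).injective.comp (IsFractionRing.injective R K)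
    rw [IsScalarTower.algebraMap_eq R S L] at h1
    exact Function.Injective.of_comp h1
  have hm0 : IsLocalRing.maximalIdeal R ≠ ⊥ := by
    intro h
    have hf : IsField R := IsLocalRing.isField_iff_maximalIdeal_eq.mpr h
    have := ringKrullDim_eq_zero_of_isField hf
    rw [hdim] at this
    exact one_ne_zero this
  have hne : ∀ n ∈ (IsLocalRing.maximalIdeal R).primesOver S, n ≠ ⊥ := by
    rintro n ⟨_, hn⟩ rfl
    apply hm0
    rw [hn.over, Ideal.under_def, Ideal.comap_bot_of_injective _ hRS]
  have hS1 := KA.krullDimLE_one_of_between R K hSL
  obtain ⟨x, hxm, hx0⟩ := Submodule.exists_mem_ne_zero_of_ne_bot hm0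
  have hI0 : (Ideal.span {algebraMap R S x} : Ideal S) ≠ ⊥ := by
    rw [Ne, Ideal.span_singleton_eq_bot, map_eq_zero_iff _ hRS]; exact hx0
  refine ⟨?_, ?_, ?_⟩
  · intro n hn
    exact Ring.krullDimLE_one_iff_of_noZeroDivisors.mp hS1 n (hne n hn) hn.1
  · refine (KA.finite_primes_ge R K hSL _ hI0).subset ?_
    rintro n ⟨hn1, hn2⟩
    refine ⟨hn1, ?_⟩
    rw [Ideal.span_singleton_le_iff_mem]
    have : x ∈ n.under R := by rw [← hn2.over]; exact hxm
    exact this
  · intro n hn
    exact KA.finite_quotient_ideal R K hSL n (hne n hn)

end Helpers

/-- Let R → S be a homomorphism of domains compatible with field maps K → L of their fraction fields (so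
R → S is injective), where R is Noetherian local of dimension one and L is finite over K. Then each
prime n of S whose contraction to R is the maximal ideal of R is a maximal ideal of S, only finitely
many such n exist, and each quotient S/n is a finite R-module (its residue field is a finite
extension of that of R). -/
theorem result (R S K L : Type u)
    [CommRing R] [IsDomain R] [IsNoetherianRing R] [IsLocalRing R] (hdim : ringKrullDim R = 1)
    [CommRing S] [IsDomain S] [Algebra R S] [Field K] [Field L] [Algebra R K] [IsFractionRing R K]
    [Algebra S L] [IsFractionRing S L] [Algebra K L] [Algebra R L] [IsScalarTower R K L]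
    [IsScalarTower R S L] [FiniteDimensional K L] :
    (∀ n ∈ (IsLocalRing.maximalIdeal R).primesOver S, n.IsMaximal) ∧
      ((IsLocalRing.maximalIdeal R).primesOver S).Finite ∧
      ∀ n ∈ (IsLocalRing.maximalIdeal R).primesOver S, Module.Finite R (S ⧸ n) := by
  exact main9133 R S K L hdim

end Groth.Agent.S9133
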