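import Groth.Statements.S9135
import Mathlib

set_option autoImplicit false
universe u

namespace Groth.Agent.S9135

open TensorProduct

/-- Key lemma: over a minimal prime, elements dying in the fibre are killed (up to powers) by
something outside `p`. -/
theorem exists_mul_pow_eq_zero {R S : Type*} [CommRing R] [CommRing S] [Algebra R S]
    (p : Ideal R) [p.IsPrime] (hp : p ∈ minimalPrimes R) (w : S)
    (hw : (1 : p.ResidueField) ⊗ₜ[R] w = 0) : ∃ c ∉ p, ∃ n : ℕ, c • w ^ n = 0 := by
  by_contra hcon
  push Not at hcon
  have hker : RingHom.ker (algebraMap R (Localization.Away w)) ≤ p := by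
    intro c hc
    by_contra hcp
    rw [RingHom.mem_ker, IsScalarTower.algebraMap_apply R S (Localization.Away w),
      IsLocalization.map_eq_zero_iff (Submonoid.powers w)] at hc
    obtain ⟨⟨_, n, rfl⟩, hn⟩ := hc
    apply hcon c hcp n
    rw [Algebra.smul_def, mul_comm]
    exact hn
  have hmin : p ∈ ((⊥ : Ideal (Localization.Away w)).comap (algebraMap R (Localization.Away w))).minimalPrimes := by
    refine ⟨⟨inferInstance, ?_⟩, ?_⟩
    · exact hker
    · rintro q ⟨hq, _⟩ hqp
      exact hp.2 ⟨hq, bot_le⟩ hqp
  obtain ⟨q', hq', -, hq'p⟩ := Ideal.exists_comap_eq_of_mem_minimalPrimes _ p hmin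
  let q : Ideal S := q'.comap (algebraMap S (Localization.Away w))
  have hqprime : q.IsPrime := Ideal.comap_isPrime _ _
  have hqp : q.LiesOver p := ⟨by
    rw [← hq'p, Ideal.under, Ideal.comap_comap, ← IsScalarTower.algebraMap_eq]⟩
  have hwq : w ∉ q := by
    intro h
    apply hq'.ne_top
    exact Ideal.eq_top_of_isUnit_mem _ (Ideal.mem_comap.mp h)
      (IsLocalization.Away.algebraMap_isUnit w)
  let Q := PrimeSpectrum.primesOverOrderIsoFiber R S p ⟨q, hqprime, hqp⟩
  have hQ : q = Q.1.comap Algebra.TensorProduct.includeRight := by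
    have := PrimeSpectrum.coe_primesOverOrderIsoFiber_symm_apply (R := R) (S := S) (p := p) Q
    rw [← this]
    simp [Q]
  apply hwq
  rw [hQ, Ideal.mem_comap]
  show (1 : p.ResidueField) ⊗ₜ[R] w ∈ Q.asIdeal
  rw [hw]
  exact zero_mem _

end Groth.Agent.S9135

namespace Groth.Agent.S9135

open TensorProduct

theorem exists_isIntegral_smul_of_fiber {R S : Type*} [CommRing R] [CommRing S] [Algebra R S]
    (p : Ideal R) [p.IsPrime] (hp : p ∈ minimalPrimes R) (y : S)
    (hy : IsIntegral R ((1 : p.ResidueField) ⊗ₜ[R] y)) : ∃ c ∉ p, IsIntegral R (c • y) := by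
  obtain ⟨P, hP, h0⟩ := hy
  have h1 : (1 : p.ResidueField) ⊗ₜ[R] (Polynomial.aeval y P) = 0 := by
    have := Polynomial.aeval_algHom_apply
      (Algebra.TensorProduct.includeRight : S →ₐ[R] p.ResidueField ⊗[R] S) y P
    rw [Algebra.TensorProduct.includeRight_apply, Algebra.TensorProduct.includeRight_apply] at this
    rw [← this]
    exact h0
  obtain ⟨c, hc, n, hn⟩ := exists_mul_pow_eq_zero p hp _ h1
  refine ⟨c, hc, ?_⟩
  have h2 := isIntegral_leadingCoeff_smul (R := R) (Polynomial.C c * P ^ n) y (by
    rw [map_mul, map_pow, Polynomial.aeval_C, ← Algebra.smul_def]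
    exact hn)
  rwa [Polynomial.leadingCoeff_mul_monic (hP.pow n), Polynomial.leadingCoeff_C] at h2

theorem finite_fiber {R S : Type*} [CommRing R] [CommRing S] [Algebra R S]
    [Algebra.FiniteType R S] (p : Ideal R) [p.IsPrime] (hfin : (p.primesOver S).Finite) :
    Module.Finite p.ResidueField (p.Fiber S) := by
  haveI : Finite (PrimeSpectrum (p.Fiber S)) := by
    haveI := hfin.to_subtype
    exact Finite.of_equiv _ (PrimeSpectrum.primesOverOrderIsoFiber R S p).toEquiv
  haveI : Algebra.QuasiFinite p.ResidueField (p.Fiber S) := by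
    rw [Algebra.QuasiFinite.iff_finite_comap_preimage_singleton]
    intro P
    exact Set.toFinite _
  exact Module.Finite.of_quasiFinite

theorem exists_isIntegral_smul {R S : Type*} [CommRing R] [CommRing S] [Algebra R S]
    [Algebra.FiniteType R S] (p : Ideal R) [p.IsPrime] (hp : p ∈ minimalPrimes R)
    (hfin : (p.primesOver S).Finite) (x : S) : ∃ c ∉ p, IsIntegral R (c • x) := by
  haveI := finite_fiber p hfin
  have h1 : IsIntegral p.ResidueField ((1 : p.ResidueField) ⊗ₜ[R] x) :=
    Algebra.IsIntegral.isIntegral _
  have h2 : IsIntegral (Localization.AtPrime p) ((1 : p.ResidueField) ⊗ₜ[R] x) := by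
    haveI : Algebra.IsIntegral (Localization.AtPrime p) p.ResidueField :=
      Algebra.isIntegral_of_surjective IsLocalRing.residue_surjective
    exact isIntegral_trans _ h1
  obtain ⟨⟨m, hm⟩, h3⟩ := IsIntegral.exists_multiple_integral_of_isLocalization p.primeCompl _ h2
  obtain ⟨c, hc, h4⟩ := exists_isIntegral_smul_of_fiber p hp (m • x) (by
    rw [TensorProduct.tmul_smul]; exact h3)
  refine ⟨c * m, ?_, ?_⟩
  · exact fun h => (Ideal.IsPrime.mem_or_mem ‹p.IsPrime› h).elim hc hm
  · rwa [mul_smul]

end Groth.Agent.S9135

namespace Groth.Agent.S9135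

/-- If `g • x` is integral over `R` for all `x` in a generating set, then `R_g → S_g` is finite. -/
theorem finite_awayMap {R S : Type u} [CommRing R] [CommRing S] [Algebra R S]
    (s : Finset S) (hs : Algebra.adjoin R (s : Set S) = ⊤) (g : R)
    (hg : ∀ x ∈ s, IsIntegral R (g • x)) :
    (Localization.awayMap (algebraMap R S) g).Finite := by
  have hft : (Localization.awayMap (algebraMap R S) g).FiniteType := by
    refine RingHom.finiteType_localizationPreserves.away (algebraMap R S) g _ _ ?_
    show (algebraMap R S).FiniteType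
    rw [RingHom.finiteType_algebraMap]
    exact ⟨⟨s, hs⟩⟩
  refine RingHom.IsIntegral.to_finite ?_ hft
  set f := Localization.awayMap (algebraMap R S) g with hf
  have hfcomp : ∀ r : R, f (algebraMap R _ r) = algebraMap S _ (algebraMap R S r) := by
    intro r
    simp [hf, Localization.awayMap, IsLocalization.Away.map]
  -- images of elements of S are integral
  have key : ∀ a : S, f.IsIntegralElem (algebraMap S (Localization.Away (algebraMap R S g)) a) := by
    intro a
    have ha : a ∈ Algebra.adjoin R (s : Set S) := hs ▸ Algebra.mem_top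
    induction ha using Algebra.adjoin_induction with
    | mem x hx =>
      obtain ⟨P, hP, h0⟩ := hg x hx
      have h1 : f.IsIntegralElem (algebraMap S (Localization.Away (algebraMap R S g)) (g • x)) := by
        refine ⟨P.map (algebraMap R (Localization.Away g)), hP.map _, ?_⟩
        rw [Polynomial.eval₂_map]
        have : f.comp (algebraMap R (Localization.Away g)) =
            (algebraMap S (Localization.Away (algebraMap R S g))).comp (algebraMap R S) :=
          RingHom.ext hfcomp
        rw [this, ← Polynomial.hom_eval₂, h0, map_zero]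
      have h2 : algebraMap S (Localization.Away (algebraMap R S g)) x =
          f ((IsLocalization.Away.invSelf g : Localization.Away g)) *
            algebraMap S (Localization.Away (algebraMap R S g)) (g • x) := by
        rw [Algebra.smul_def, map_mul, ← hfcomp, ← mul_assoc, ← map_mul, mul_comm _ (algebraMap R _ g),
          IsLocalization.Away.mul_invSelf, map_one, one_mul]
      rw [h2]
      exact RingHom.IsIntegralElem.mul f f.isIntegralElem_map h1
    | algebraMap r =>
      rw [← hfcomp]
      exact f.isIntegralElem_map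
    | add x y _ _ hx hy =>
      rw [map_add]
      exact RingHom.IsIntegralElem.add f hx hy
    | mul x y _ _ hx hy =>
      rw [map_mul]
      exact RingHom.IsIntegralElem.mul f hx hy
  intro t
  obtain ⟨⟨a, ⟨_, n, rfl⟩⟩, ht⟩ := IsLocalization.surj (Submonoid.powers (algebraMap R S g)) t
  have h3 : t = algebraMap S (Localization.Away (algebraMap R S g)) a *
      f ((IsLocalization.Away.invSelf g : Localization.Away g)) ^ n := by
    simp only at ht
    rw [← ht, map_pow, ← hfcomp, mul_assoc, ← mul_pow, ← map_mul,
      IsLocalization.Away.mul_invSelf, map_one, one_pow, mul_one]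
  rw [h3]
  exact RingHom.IsIntegralElem.mul f (key a) (by
    rw [← map_pow]; exact f.isIntegralElem_map)

end Groth.Agent.S9135

namespace Groth.Agent.S9135

theorem result (R S : Type u) [CommRing R] [CommRing S]
    [Algebra R S] [Algebra.FiniteType R S] (p : Ideal R) (hp : p ∈ minimalPrimes R)
    (hfin : (p.primesOver S).Finite) :
    ∃ g : R, g ∉ p ∧ (Localization.awayMap (algebraMap R S) g).Finite := by
  classical
  haveI : p.IsPrime := hp.1.1
  obtain ⟨s, hs⟩ := (Algebra.FiniteType.out : (⊤ : Subalgebra R S).FG)
  choose c hc hci using fun x : S => exists_isIntegral_smul p hp hfin x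
  refine ⟨∏ x ∈ s, c x, ?_, finite_awayMap s hs _ ?_⟩
  · intro h
    obtain ⟨x, -, hx⟩ := (Ideal.IsPrime.prod_mem_iff).mp h
    exact hc x hx
  · intro x hx
    rw [← Finset.mul_prod_erase s c hx, mul_comm, mul_smul]
    exact (hci x).smul _

end Groth.Agent.S9135
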