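import Groth.Statements.S9137
import Mathlib

set_option autoImplicit false
universe u

namespace Groth.Agent.S9137

open IsLocalRing

/-- A local ring which is a localization of `A` is the localization of `A` at the
contraction of its maximal ideal. -/
theorem atPrime_of_isLocalization {A S : Type*} [CommRing A] [CommRing S] [Algebra A S]
    [IsLocalRing S] (M : Submonoid A) [IsLocalization M S] :
    IsLocalization.AtPrime S ((maximalIdeal S).comap (algebraMap A S)) := by
  have : IsLocalization.AtPrime S (maximalIdeal S) := by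
    apply IsLocalization.self
    intro x hx
    by_contra h
    exact hx ((mem_maximalIdeal x).mpr h)
  exact IsLocalization.isLocalization_isLocalization_atPrime_isLocalization M S (maximalIdeal S)

/-- a local noetherian ring of dimension zero whose residue field is finite over `R` is finite. -/
theorem finite_of_dim_zero {R A K : Type*} [CommRing R] [CommRing A] [Algebra R A]
    [IsLocalRing A] [IsNoetherianRing A] [Ring.KrullDimLE 0 A] [Field K] [Algebra R K]
    [Module.Finite R K] (f : A →ₐ[R] K) (hf : Function.Surjective f) : Module.Finite R A := by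
  refine Module.finite_of_surjective_of_ker_le_nilradical f hf ?_ ?_
  · rw [Ring.KrullDimLE.nilradical_eq_maximalIdeal]
    apply IsLocalRing.le_maximalIdeal
    exact RingHom.ker_ne_top _
  · exact IsNoetherian.noetherian _

theorem quasiFinite_of_finite (R S : Type*) [CommRing R] [CommRing S] [Algebra R S]
    [Module.Finite R S] : Algebra.QuasiFinite R S := inferInstance

theorem weakly (R S : Type u) [CommRing R] [CommRing S]
    [IsLocalRing R] [IsLocalRing S] [Algebra R S] [IsLocalHom (algebraMap R S)]
    [Algebra.EssFiniteType R S]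
    (hres : Module.Finite (IsLocalRing.ResidueField R) (IsLocalRing.ResidueField S))
    (hdim : ringKrullDim (S ⧸ (IsLocalRing.maximalIdeal R).map (algebraMap R S)) = 0) :
    Module.Finite R (S ⧸ (IsLocalRing.maximalIdeal R).map (algebraMap R S)) := by
  have hle : (maximalIdeal R).map (algebraMap R S) ≤ maximalIdeal S :=
    ((local_hom_TFAE (algebraMap R S)).out 0 2).mp ‹IsLocalHom (algebraMap R S)›
  have : Nontrivial (S ⧸ (IsLocalRing.maximalIdeal R).map (algebraMap R S)) :=
    Ideal.Quotient.nontrivial_iff.mpr (fun h => (maximalIdeal.isMaximal S).ne_top (top_le_iff.mp (h ▸ hle)))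
  have : IsLocalRing (S ⧸ (IsLocalRing.maximalIdeal R).map (algebraMap R S)) :=
    IsLocalRing.of_surjective' _ Ideal.Quotient.mk_surjective
  have : IsNoetherianRing (S ⧸ (IsLocalRing.maximalIdeal R).map (algebraMap R S)) :=
    have : IsNoetherianRing (R ⧸ maximalIdeal R) :=
      inferInstanceAs (IsNoetherianRing (ResidueField R))
    Algebra.EssFiniteType.isNoetherianRing (R ⧸ maximalIdeal R) _
  have : Ring.KrullDimLE 0 (S ⧸ (IsLocalRing.maximalIdeal R).map (algebraMap R S)) :=
    Ring.krullDimLE_iff.mpr hdim.le
  have : Module.Finite R (ResidueField R) :=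
    Module.Finite.of_surjective (Algebra.linearMap R (ResidueField R)) residue_surjective
  have : Module.Finite R (ResidueField S) := Module.Finite.trans (ResidueField R) _
  refine finite_of_dim_zero (K := ResidueField S)
    (Ideal.Quotient.liftₐ _ (IsScalarTower.toAlgHom R S (ResidueField S)) ?_) ?_
  · intro x hx
    have := hle hx
    simpa using this
  · apply Ideal.Quotient.lift_surjective_of_surjective
    exact residue_surjective

end Groth.Agent.S9137

namespace Groth.Agent.S9137
open IsLocalRing

theorem result (R S : Type u) [CommRing R] [CommRing S]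
    [IsLocalRing R] [IsLocalRing S] [Algebra R S] [IsLocalHom (algebraMap R S)]
    [Algebra.EssFiniteType R S]
    (hres : Module.Finite (IsLocalRing.ResidueField R) (IsLocalRing.ResidueField S))
    (hdim : ringKrullDim (S ⧸ (IsLocalRing.maximalIdeal R).map (algebraMap R S)) = 0) :
    ∃ (S' : Type u) (_ : CommRing S') (_ : Algebra R S') (_ : Algebra S' S) (_ : IsScalarTower R S' S)
      (q : Ideal S') (_ : q.IsPrime), Module.Finite R S' ∧ IsLocalization.AtPrime S q := by
  classical
  have hfin := weakly R S hres hdim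
  let S₀ := Algebra.EssFiniteType.subalgebra R S
  let M := Algebra.EssFiniteType.submonoid R S
  haveI : IsLocalization M S := Algebra.EssFiniteType.isLocalization R S
  let q₀ : Ideal S₀ := (maximalIdeal S).comap (algebraMap S₀ S)
  haveI : q₀.IsPrime := Ideal.comap_isPrime _ _
  haveI hloc : IsLocalization.AtPrime S q₀ := atPrime_of_isLocalization M
  have hunder : q₀.under R = maximalIdeal R := by
    ext x
    simp only [Ideal.under, Ideal.mem_comap, q₀]
    rw [← IsScalarTower.algebraMap_apply R S₀ S]
    exact ((local_hom_TFAE (algebraMap R S)).out 0 4).mp ‹IsLocalHom (algebraMap R S)› ▸ Iff.rfl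
  -- weakly quasi-finite
  haveI : Algebra.WeaklyQuasiFiniteAt R q₀ := by
    rw [Algebra.weaklyQuasiFiniteAt_iff, hunder]
    let e : Localization.AtPrime q₀ ≃ₐ[S₀] S := IsLocalization.algEquiv q₀.primeCompl _ _
    let e' : (Localization.AtPrime q₀ ⧸ (maximalIdeal R).map (algebraMap R (Localization.AtPrime q₀)))
        ≃ₐ[R] (S ⧸ (maximalIdeal R).map (algebraMap R S)) :=
      Ideal.quotientEquivAlg _ _ (e.restrictScalars R) (by
        rw [Ideal.map_map]
        congr 1
        ext x
        exact ((e.restrictScalars R).commutes x).symm)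
    have : Module.Finite R (Localization.AtPrime q₀ ⧸ (maximalIdeal R).map (algebraMap R (Localization.AtPrime q₀))) :=
      Module.Finite.equiv e'.symm.toLinearEquiv
    exact quasiFinite_of_finite _ _
  obtain ⟨S', hS', r, hrq, hbij⟩ :=
    Algebra.QuasiFiniteAt.exists_fg_and_exists_notMem_and_awayMap_bijective (R := R) q₀
  have hsurj := hbij.2
  rw [Localization.awayMap_surjective_iff] at hsurj
  letI : Algebra S' S := ((algebraMap S₀ S).comp (algebraMap S' S₀)).toAlgebra
  haveI : IsScalarTower S' S₀ S := IsScalarTower.of_algebraMap_eq' rfl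
  have hst : IsScalarTower R S' S := IsScalarTower.of_algebraMap_eq (fun x => rfl)
  let q : Ideal S' := q₀.comap (algebraMap S' S₀)
  have hmem : ∀ x : S', x ∈ q ↔ algebraMap S₀ S (algebraMap S' S₀ x) ∈ maximalIdeal S := fun x => Iff.rfl
  refine ⟨S', inferInstance, inferInstance, inferInstance, hst, q, inferInstance,
    ⟨(Submodule.fg_top _).mpr hS'⟩, ?_⟩
  rw [IsLocalization.AtPrime, isLocalization_iff]
  refine ⟨?_, ?_, ?_⟩
  · rintro ⟨y, hy⟩
    have : ¬ (algebraMap S₀ S (algebraMap S' S₀ y) ∈ maximalIdeal S) := fun h => hy ((hmem y).mpr h)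
    rw [mem_maximalIdeal, mem_nonunits_iff, not_not] at this
    exact this
  · intro z
    obtain ⟨⟨a, m⟩, ha⟩ := IsLocalization.surj q₀.primeCompl z
    obtain ⟨a', k, hk⟩ := hsurj a
    obtain ⟨m', l, hl⟩ := hsurj m.1
    have hrq' : r ∉ q := hrq
    have hm'q : m' ∉ q := by
      intro h
      have h2 : S'.val.toRingHom m' ∈ q₀ := h
      rw [hl] at h2
      rcases Ideal.IsPrime.mem_or_mem ‹q₀.IsPrime› h2 with h3 | h3
      · exact hrq (Ideal.IsPrime.mem_of_pow_mem ‹q₀.IsPrime› _ h3)
      · exact m.2 h3
    refine ⟨(a' * r ^ l, ⟨m' * r ^ k, ?_⟩), ?_⟩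
    · intro h
      rcases Ideal.IsPrime.mem_or_mem (inferInstance : q.IsPrime) h with h3 | h3
      · exact hm'q h3
      · exact hrq' (Ideal.IsPrime.mem_of_pow_mem (inferInstance : q.IsPrime) _ h3)
    · show z * algebraMap S₀ S (algebraMap S' S₀ (m' * r ^ k)) = algebraMap S₀ S (algebraMap S' S₀ (a' * r ^ l))
      have e1 : algebraMap S' S₀ (m' * r ^ k) = (r.1 ^ l * m.1) * r.1 ^ k := by
        rw [map_mul, map_pow]
        congr 1
      have e2 : algebraMap S' S₀ (a' * r ^ l) = (r.1 ^ k * a) * r.1 ^ l := by
        rw [map_mul, map_pow]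
        congr 1
      rw [e1, e2]
      simp only [map_mul, map_pow]
      rw [← ha]
      ring
  · intro x y hxy
    have hxy' : algebraMap S₀ S (algebraMap S' S₀ x) = algebraMap S₀ S (algebraMap S' S₀ y) := hxy
    obtain ⟨c, hc⟩ := IsLocalization.exists_of_eq (M := q₀.primeCompl) hxy'
    obtain ⟨c', l, hl⟩ := hsurj c.1
    refine ⟨⟨c', ?_⟩, ?_⟩
    · intro h
      have h2 : S'.val.toRingHom c' ∈ q₀ := h
      rw [hl] at h2
      rcases Ideal.IsPrime.mem_or_mem ‹q₀.IsPrime› h2 with h3 | h3
      · exact hrq (Ideal.IsPrime.mem_of_pow_mem ‹q₀.IsPrime› _ h3)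
      · exact c.2 h3
    · apply Subtype.val_injective
      show (c' * x).1 = (c' * y).1
      have e1 : ∀ t : S', (c' * t).1 = r.1 ^ l * (c.1 * t.1) := by
        intro t
        have : (c' * t).1 = S'.val.toRingHom c' * t.1 := rfl
        rw [this, hl, mul_assoc]
        rfl
      rw [e1, e1]
      congr 1

end Groth.Agent.S9137
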