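import Groth.Statements.S9139
import Mathlib.RingTheory.Noetherian.Nilpotent
import Mathlib.RingTheory.Ideal.Maps
-- import your own Groth.Agent.* helpers here

set_option autoImplicit false
universe u
open CAlg

namespace Groth.Agent.S9139

/-- Let I be a locally nilpotent ideal of a ring R (every element of I is nilpotent) and S → S' a map of
R-algebras with S' of finite type over R. If S → S'/IS' is surjective then so is S → S'. -/
theorem result (R S S' : Type u) [CommRing R] [CommRing S]
    [CommRing S'] [Algebra R S] [Algebra R S'] [Algebra.FiniteType R S'] (I : Ideal R)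
    (hI : ∀ x ∈ I, IsNilpotent x) (f : S →ₐ[R] S')
    (hf : Function.Surjective ((Ideal.Quotient.mk (I.map (algebraMap R S'))).comp f.toRingHom)) :
    Function.Surjective f := by
  classical
  -- Step A: each element of `I S'` lies in `J S'` for a finitely generated `J ≤ I`.
  have stepA : ∀ ν ∈ I.map (algebraMap R S'), ∃ J : Ideal R, J.FG ∧ J ≤ I ∧
      ν ∈ J.map (algebraMap R S') := by
    intro ν hν
    refine Submodule.span_induction
      (p := fun ν _ => ∃ J : Ideal R, J.FG ∧ J ≤ I ∧ ν ∈ J.map (algebraMap R S')) ?_ ?_ ?_ ?_ hν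
    · rintro _ ⟨a, ha, rfl⟩
      exact ⟨Ideal.span {a}, ⟨{a}, by simp⟩, (Ideal.span_singleton_le_iff_mem _).mpr ha,
        Ideal.mem_map_of_mem _ (Ideal.mem_span_singleton_self a)⟩
    · exact ⟨⊥, Submodule.fg_bot, bot_le, Ideal.zero_mem _⟩
    · rintro x y _ _ ⟨J₁, h₁, h₁', hx⟩ ⟨J₂, h₂, h₂', hy⟩
      exact ⟨J₁ ⊔ J₂, Submodule.FG.sup h₁ h₂, sup_le h₁' h₂',
        Ideal.add_mem _ (Ideal.map_mono le_sup_left hx) (Ideal.map_mono le_sup_right hy)⟩
    · rintro c x _ ⟨J, h, h', hx⟩
      exact ⟨J, h, h', Ideal.mul_mem_left _ c hx⟩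
  -- every element is congruent to an element of the image modulo `I S'`
  have hcong : ∀ x : S', ∃ t : S, x - f t ∈ I.map (algebraMap R S') := by
    intro x
    obtain ⟨t, ht⟩ := hf (Ideal.Quotient.mk _ x)
    refine ⟨t, ?_⟩
    have : Ideal.Quotient.mk (I.map (algebraMap R S')) x =
        Ideal.Quotient.mk (I.map (algebraMap R S')) (f t) := ht.symm
    exact Ideal.Quotient.eq.mp this
  -- Step B/C: a finite generating set and a uniform finitely generated `J`.
  obtain ⟨s, hs⟩ := (Algebra.FiniteType.out : (⊤ : Subalgebra R S').FG)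
  have stepC : ∀ s' : Finset S', ∃ J : Ideal R, J.FG ∧ J ≤ I ∧
      ∀ x ∈ s', ∃ t : S, x - f t ∈ J.map (algebraMap R S') := by
    intro s'
    induction s' using Finset.induction_on with
    | empty => exact ⟨⊥, Submodule.fg_bot, bot_le, by simp⟩
    | insert a s' _ ih =>
      obtain ⟨J₁, h₁, h₁', hJ₁⟩ := ih
      obtain ⟨t, ht⟩ := hcong a
      obtain ⟨J₂, h₂, h₂', hJ₂⟩ := stepA _ ht
      refine ⟨J₁ ⊔ J₂, Submodule.FG.sup h₁ h₂, sup_le h₁' h₂', ?_⟩
      intro x hx
      rcases Finset.mem_insert.mp hx with rfl | hx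
      · exact ⟨t, Ideal.map_mono le_sup_right hJ₂⟩
      · obtain ⟨t', ht'⟩ := hJ₁ x hx
        exact ⟨t', Ideal.map_mono le_sup_left ht'⟩
  obtain ⟨J, hJfg, hJI, hJ⟩ := stepC s
  -- `J` is nilpotent
  have hJnil : IsNilpotent J :=
    hJfg.isNilpotent_iff_le_nilradical.mpr fun x hx => hI x (hJI hx)
  obtain ⟨n, hn⟩ := hJnil
  -- Step D: `S' = N + J S'` where `N` is the image of `f`
  set N : Submodule R S' := LinearMap.range f.toLinearMap with hN
  have hNmem : ∀ y, y ∈ N ↔ ∃ t, f t = y := fun y => Iff.rfl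
  have stepD : ∀ y : S', y ∈ N ⊔ (J.map (algebraMap R S')).restrictScalars R := by
    intro y
    have hy : y ∈ Algebra.adjoin R (s : Set S') := by rw [hs]; exact Algebra.mem_top
    refine Algebra.adjoin_induction
      (p := fun y _ => y ∈ N ⊔ (J.map (algebraMap R S')).restrictScalars R) ?_ ?_ ?_ ?_ hy
    · intro x hx
      obtain ⟨t, ht⟩ := hJ x hx
      have : x = f t + (x - f t) := by ring
      rw [this]
      exact Submodule.add_mem_sup ((hNmem _).mpr ⟨t, rfl⟩) ht
    · intro r
      refine Submodule.mem_sup_left ((hNmem _).mpr ⟨algebraMap R S r, ?_⟩)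
      exact f.commutes r
    · intro x y _ _ hx hy
      exact Submodule.add_mem _ hx hy
    · intro x y _ _ hx hy
      obtain ⟨a, ha, b, hb, rfl⟩ := Submodule.mem_sup.mp hx
      obtain ⟨c, hc, d, hd, rfl⟩ := Submodule.mem_sup.mp hy
      obtain ⟨ta, rfl⟩ := (hNmem _).mp ha
      obtain ⟨tc, rfl⟩ := (hNmem _).mp hc
      have hb' : b ∈ J.map (algebraMap R S') := hb
      have hd' : d ∈ J.map (algebraMap R S') := hd
      have : (f ta + b) * (f tc + d) = f (ta * tc) + (f ta * d + b * (f tc + d)) := by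
        rw [map_mul]; ring
      rw [this]
      refine Submodule.add_mem_sup ((hNmem _).mpr ⟨_, rfl⟩) ?_
      show f ta * d + b * (f tc + d) ∈ J.map (algebraMap R S')
      exact Ideal.add_mem _ (Ideal.mul_mem_left _ _ hd') (Ideal.mul_mem_right _ _ hb')
  have htop : N ⊔ J • (⊤ : Submodule R S') = ⊤ := by
    rw [eq_top_iff]
    intro y _
    rw [Ideal.smul_top_eq_map]
    exact stepD y
  -- Step E: iterate
  have stepE : ∀ k : ℕ, N ⊔ (J ^ k) • (⊤ : Submodule R S') = ⊤ := by
    intro k
    induction k with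
    | zero => rw [pow_zero, Ideal.one_eq_top, Submodule.top_smul, sup_top_eq]
    | succ k ih =>
      have key : (J ^ k) • (⊤ : Submodule R S') ≤ N ⊔ (J ^ (k + 1)) • (⊤ : Submodule R S') := by
        calc (J ^ k) • (⊤ : Submodule R S')
            = (J ^ k) • (N ⊔ J • (⊤ : Submodule R S')) := by rw [htop]
          _ = (J ^ k) • N ⊔ (J ^ k) • (J • (⊤ : Submodule R S')) := Submodule.smul_sup _ _ _
          _ ≤ N ⊔ (J ^ (k + 1)) • (⊤ : Submodule R S') := by
            refine sup_le_sup Submodule.smul_le_right ?_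
            rw [← Submodule.mul_smul, pow_succ]
      rw [eq_top_iff]
      calc (⊤ : Submodule R S') = N ⊔ (J ^ k) • (⊤ : Submodule R S') := ih.symm
        _ ≤ N ⊔ (J ^ (k + 1)) • (⊤ : Submodule R S') := sup_le le_sup_left key
  have hfinal : N = ⊤ := by
    have := stepE n
    rw [hn] at this
    simpa using this
  intro y
  have : y ∈ N := by rw [hfinal]; exact Submodule.mem_top
  exact (hNmem y).mp this

end Groth.Agent.S9139
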