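import Groth.Statements.S9140
import Groth.Agent.S9139
import Mathlib.RingTheory.Nakayama
import Mathlib.RingTheory.Jacobson.Ideal
import Mathlib.LinearAlgebra.TensorProduct.RightExactness
-- import your own Groth.Agent.* helpers here

set_option autoImplicit false
universe u
open CAlg

namespace Groth.Agent.S9140

/-- Let I be a locally nilpotent ideal of a ring R and S → S' a map of R-algebras with S of finite type
over R and S' of finite presentation and flat over R. If the induced map S/IS → S'/IS' is bijective
(stated as: S → S'/IS' is surjective with kernel IS), then S → S' is bijective. -/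
theorem result (R S S' : Type u)
    [CommRing R] [CommRing S] [CommRing S'] [Algebra R S] [Algebra R S'] [Algebra.FiniteType R S]
    [Algebra.FinitePresentation R S'] [Module.Flat R S'] (I : Ideal R) (hI : ∀ x ∈ I, IsNilpotent x)
    (f : S →ₐ[R] S')
    (hsurj : Function.Surjective ((Ideal.Quotient.mk (I.map (algebraMap R S'))).comp f.toRingHom))
    (hker : ∀ s : S, f s ∈ I.map (algebraMap R S') → s ∈ I.map (algebraMap R S)) :
    Function.Bijective f := by
  classical
  have hfs : Function.Surjective f := Groth.Agent.S9139.result R S S' I hI f hsurj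
  refine ⟨?_, hfs⟩
  -- the kernel
  set K : Ideal S := RingHom.ker f.toRingHom with hK
  have hKmem : ∀ x, x ∈ K ↔ f x = 0 := fun x => Iff.rfl
  -- Step 2: `K` is finitely generated
  have hKfg : K.FG := by
    obtain ⟨n, π, hπ⟩ := Algebra.FiniteType.iff_quotient_mvPolynomial''.mp
      (inferInstance : Algebra.FiniteType R S)
    have h1 := (Algebra.FinitePresentation.ker_fg_of_mvPolynomial (f.comp π) (hfs.comp hπ)).map
      π.toRingHom
    convert h1
    simp_rw [hK, RingHom.ker_eq_comap_bot, AlgHom.toRingHom_eq_coe, AlgHom.comp_toRingHom]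
    rw [← Ideal.comap_comap, Ideal.map_comap_of_surjective (π : MvPolynomial (Fin n) R →+* S) hπ]
  -- the multiplication maps `I ⊗ M → M`
  let μ : ∀ (M : Type u) [AddCommGroup M] [Module R M], TensorProduct R I M →ₗ[R] M :=
    fun M _ _ => (TensorProduct.lid R M).toLinearMap ∘ₗ (I.subtype.rTensor M)
  have hμ : ∀ (M : Type u) [AddCommGroup M] [Module R M] (a : I) (m : M),
      μ M (a ⊗ₜ[R] m) = (a : R) • m := by
    intro M _ _ a m
    simp [μ]
  let g : S →ₗ[R] S' := f.toLinearMap
  let ιK : K →ₗ[R] S := (K.restrictScalars R).subtype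
  have hexact : Function.Exact ιK g := by
    intro y
    constructor
    · intro hy
      exact ⟨⟨y, (hKmem y).mpr hy⟩, rfl⟩
    · rintro ⟨⟨z, hz⟩, rfl⟩
      exact (hKmem z).mp hz
  have hexactT : Function.Exact (ιK.lTensor I) (g.lTensor I) := lTensor_exact I hexact hfs
  have hμinj : Function.Injective (μ S') := by
    refine (TensorProduct.lid R S').injective.comp ?_
    exact Module.Flat.rTensor_preserves_injective_linearMap I.subtype Subtype.val_injective
  have hnat : ∀ z : TensorProduct R I S, μ S' (g.lTensor I z) = g (μ S z) := by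
    intro z
    induction z using TensorProduct.induction_on with
    | zero => simp
    | tmul a m => simp only [LinearMap.lTensor_tmul, hμ, map_smul]
    | add x y hx hy => simp only [map_add, hx, hy]
  have hmul : ∀ (c : S) (z : TensorProduct R I S),
      μ S ((LinearMap.mulLeft R c).lTensor I z) = c • μ S z := by
    intro c z
    induction z using TensorProduct.induction_on with
    | zero => simp
    | tmul a m =>
      simp only [LinearMap.lTensor_tmul, hμ, LinearMap.mulLeft_apply, smul_eq_mul]
      rw [mul_smul_comm]
    | add x y hx hy => simp only [map_add, hx, hy, smul_add]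
  -- elements of `I S` come from `I ⊗ S`
  have hrange : ∀ x ∈ I.map (algebraMap R S), ∃ z : TensorProduct R I S, μ S z = x := by
    intro x hx
    refine Submodule.span_induction
      (p := fun x _ => ∃ z : TensorProduct R I S, μ S z = x) ?_ ?_ ?_ ?_ hx
    · rintro _ ⟨a, ha, rfl⟩
      refine ⟨(⟨a, ha⟩ : I) ⊗ₜ[R] (1 : S), ?_⟩
      rw [hμ, Algebra.smul_def, mul_one]
    · exact ⟨0, map_zero _⟩
    · rintro x y _ _ ⟨z, rfl⟩ ⟨w, rfl⟩
      exact ⟨z + w, map_add _ _ _⟩
    · rintro c x _ ⟨z, rfl⟩
      exact ⟨(LinearMap.mulLeft R c).lTensor I z, hmul c z⟩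
  -- images of `I ⊗ K` land in `IS * K`
  have hIK : ∀ w : TensorProduct R I K, μ S (ιK.lTensor I w) ∈ I.map (algebraMap R S) * K := by
    intro w
    induction w using TensorProduct.induction_on with
    | zero => simp
    | tmul a k =>
      simp only [LinearMap.lTensor_tmul, hμ]
      rw [Algebra.smul_def]
      exact Ideal.mul_mem_mul (Ideal.mem_map_of_mem _ a.2) k.2
    | add x y hx hy =>
      simp only [map_add]
      exact Ideal.add_mem _ hx hy
  -- Step 3: `K ≤ IS * K`
  have hle : K ≤ I.map (algebraMap R S) • K := by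
    intro x hx
    have hx0 : f x = 0 := (hKmem x).mp hx
    have hxI : x ∈ I.map (algebraMap R S) := hker x (by rw [hx0]; exact Ideal.zero_mem _)
    obtain ⟨z, rfl⟩ := hrange x hxI
    have h0 : g.lTensor I z = 0 := by
      apply hμinj
      rw [hnat, map_zero]
      exact hx0
    obtain ⟨w, rfl⟩ := (hexactT z).mp h0
    rw [Ideal.smul_eq_mul]
    exact hIK w
  -- Step 4: Nakayama
  have hjac : I.map (algebraMap R S) ≤ Ideal.jacobson ⊥ := by
    refine le_trans ?_ (Ideal.radical_le_jacobson (I := (⊥ : Ideal S)))
    rw [Ideal.map_le_iff_le_comap]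
    intro a ha
    show algebraMap R S a ∈ Ideal.radical ⊥
    have : IsNilpotent (algebraMap R S a) := (hI a ha).map _
    exact mem_nilradical.mpr this
  have hbot : K = ⊥ :=
    Submodule.eq_bot_of_le_smul_of_le_jacobson_bot (I.map (algebraMap R S)) K hKfg hle hjac
  exact (RingHom.injective_iff_ker_eq_bot f.toRingHom).mpr hbot

end Groth.Agent.S9140
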