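import Groth.Statements.S9141
import Groth.Agent.Lib.Helper62.GCIField5

set_option autoImplicit false
set_option linter.style.haveILetI false
universe u
open Synt

namespace Groth.Agent.S9141

/-- For a finite type algebra S over a field k and g ∈ S, the localization S_g is a global (resp. local)
complete intersection over k whenever S is. -/
theorem result (k S : Type u) [Field k] [CommRing S] [Algebra k S]
    [Algebra.FiniteType k S] (g : S) :
    (Synt.IsGlobalCI k S → Synt.IsGlobalCI k (Localization.Away g)) ∧
      (Synt.IsLCIOver k S → Synt.IsLCIOver k (Localization.Away g)) := by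
  refine ⟨fun h => Groth.Agent.Lib.Helper62.GCIField.isGlobalCI_away h g, ?_⟩
  rintro ⟨hft, hloc⟩
  haveI : Algebra.FiniteType k (Localization.Away g) :=
    Algebra.FiniteType.trans (S := S) inferInstance
      (IsLocalization.finiteType_of_monoid_fg (Submonoid.powers g) _)
  refine ⟨inferInstance, ?_⟩
  intro p'
  obtain ⟨h, hh, hgci⟩ := hloc (PrimeSpectrum.comap (algebraMap S (Localization.Away g)) p')
  refine ⟨algebraMap S (Localization.Away g) h, hh, ?_⟩
  have h2 : Synt.IsGlobalCI k (Localization.Away (algebraMap S (Localization.Away h) g)) :=
    Groth.Agent.Lib.Helper62.GCIField.isGlobalCI_away hgci (algebraMap S (Localization.Away h) g)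
  haveI i1 : IsLocalization.Away (g * h)
      (Localization.Away (algebraMap S (Localization.Away g) h)) :=
    IsLocalization.Away.mul' (Localization.Away g) _ g h
  haveI i2 : IsLocalization.Away (g * h)
      (Localization.Away (algebraMap S (Localization.Away h) g)) :=
    IsLocalization.Away.mul (Localization.Away h) _ h g
  let e : Localization.Away (algebraMap S (Localization.Away h) g) ≃ₐ[S]
      Localization.Away (algebraMap S (Localization.Away g) h) :=
    IsLocalization.algEquiv (Submonoid.powers (g * h)) _ _
  exact Groth.Agent.Lib.Helper62.GCIField.isGlobalCI_of_algEquiv (e.restrictScalars k) h2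

end Groth.Agent.S9141
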