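import Groth.Statements.S9143
import Mathlib
import Groth.Agent.Lib.Helper65.CIPres6

set_option autoImplicit false
universe u
open Synt

namespace Groth.Agent.S9143

open IsLocalRing RingTheory.Sequence Groth.Agent.Lib.Helper65.CIPres

section

variable (k : Type u) [Field k]

theorem nonempty_algEquiv_of_eq {S : Type u} [CommRing S] [Algebra k S] (q q' : Ideal S)
    [q.IsPrime] [q'.IsPrime] (h : q = q') :
    Nonempty (Localization.AtPrime q ≃ₐ[k] Localization.AtPrime q') := by
  subst h
  exact ⟨AlgEquiv.refl⟩

variable (S : Type u) [CommRing S] [IsLocalRing S] [Algebra k S] [Algebra.EssFiniteType k S]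

/-- a local algebra essentially of finite type is a quotient of a regular local one -/
theorem exists_regular_surjection :
    ∃ (R : Type u) (_ : CommRing R) (_ : IsRegularLocalRing R) (_ : Algebra k R),
      Algebra.EssFiniteType k R ∧ ∃ π : R →ₐ[k] S, Function.Surjective π := by
  obtain ⟨A, _, _, a, _, hft, ⟨e⟩⟩ := exists_atPrime_equiv k S
  obtain ⟨n, ψ, hψ⟩ := Algebra.FiniteType.iff_quotient_mvPolynomial''.1 hft
  haveI : IsRegularRing (MvPolynomial (Fin n) k) := inferInstance
  exact ⟨Localization.AtPrime (a.comap ψ.toRingHom), inferInstance, inferInstance, inferInstance,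
    inferInstance, e.symm.toAlgHom.comp (localAlgHom k ψ a),
    e.symm.surjective.comp (localAlgHom_surjective k ψ hψ a)⟩

theorem part2 :
    Synt.IsCIOver k S ↔
      ∀ (R : Type u) [CommRing R] [IsRegularLocalRing R] [Algebra k R], Algebra.EssFiniteType k R →
        ∀ π : R →ₐ[k] S, Function.Surjective π →
          ∃ rs : List R, RingTheory.Sequence.IsRegular R rs ∧
            RingHom.ker π.toRingHom = Ideal.ofList rs := by
  constructor
  · intro h R _ _ _ hess π hπ
    haveI := hess
    haveI := isCM_of_isRegularLocalRing R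
    have h1 := isCI_ker_of_isCIOver k π hπ h
    obtain ⟨rs, hreg, hrs⟩ := (isCI_iff R _ (RingHom.ker_ne_top _)).1 h1
    exact ⟨rs, hreg, hrs.symm⟩
  · intro h
    obtain ⟨R, _, _, _, hess, π, hπ⟩ := exists_regular_surjection k S
    haveI := hess
    haveI := isCM_of_isRegularLocalRing R
    obtain ⟨rs, hreg, hrs⟩ := h R hess π hπ
    exact isCIOver_of_isCI_ker k π hπ
      ((isCI_iff R _ (RingHom.ker_ne_top _)).2 ⟨rs, hreg, hrs.symm⟩)

theorem part3 :
    Synt.IsCIOver k S ↔
      ∃ (R : Type u) (_ : CommRing R) (_ : IsRegularLocalRing R) (_ : Algebra k R),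
        Algebra.EssFiniteType k R ∧ ∃ π : R →ₐ[k] S, Function.Surjective π ∧
          ∃ rs : List R, RingHom.ker π.toRingHom = Ideal.ofList rs ∧
            ringKrullDim R = ringKrullDim S + (rs.length : WithBot ℕ∞) := by
  constructor
  · intro h
    obtain ⟨R, _, _, _, hess, π, hπ⟩ := exists_regular_surjection k S
    haveI := hess
    have h1 := isCI_ker_of_isCIOver k π hπ h
    refine ⟨R, inferInstance, inferInstance, inferInstance, hess, π, hπ, ?_⟩
    obtain ⟨rs, hrs, hlen⟩ := exists_list_of_fg (RingHom.ker π.toRingHom)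
      (Ideal.fg_of_isNoetherianRing _)
    refine ⟨rs, hrs.symm, ?_⟩
    have hkrull := ringKrullDim_le_ringKrullDim_quotient_add_spanFinrank (RingHom.ker π.toRingHom)
      (by
        rw [IsLocalRing.ringJacobson_eq_maximalIdeal]
        exact IsLocalRing.le_maximalIdeal (RingHom.ker_ne_top _))
    unfold IsCI at h1
    have hdim : ringKrullDim (R ⧸ RingHom.ker π.toRingHom) = ringKrullDim S :=
      ringKrullDim_eq_of_ringEquiv (RingHom.quotientKerEquivOfSurjective hπ)
    rw [hdim] at h1 hkrull
    rw [hlen]
    apply le_antisymm hkrull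
    rw [add_comm]
    exact h1
  · rintro ⟨R, _, _, _, hess, π, hπ, rs, hrs, hdim⟩
    haveI := hess
    apply isCIOver_of_isCI_ker k π hπ
    unfold IsCI
    have hdim' : ringKrullDim (R ⧸ RingHom.ker π.toRingHom) = ringKrullDim S :=
      ringKrullDim_eq_of_ringEquiv (RingHom.quotientKerEquivOfSurjective hπ)
    rw [hdim', hdim, add_comm]
    have hle : (RingHom.ker π.toRingHom).spanFinrank ≤ rs.length := by
      rw [hrs]; exact spanFinrank_ofList_le rs
    have hle' : ((RingHom.ker π.toRingHom).spanFinrank : WithBot ℕ∞) ≤ (rs.length : WithBot ℕ∞) :=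
      Nat.mono_cast hle
    exact add_le_add_right hle' _

theorem part4 :
    Synt.IsCIOver k S ↔
      ∃ (A : Type u) (_ : CommRing A) (_ : Algebra k A) (a : Ideal A) (_ : a.IsPrime),
        Algebra.FiniteType k A ∧ Synt.IsGlobalCI k A ∧
          Nonempty (S ≃ₐ[k] Localization.AtPrime a) := by
  constructor
  · intro h
    obtain ⟨A₀, _, _, a₀, _, hft, ⟨e₀⟩⟩ := exists_atPrime_equiv k S
    haveI := hft
    have h1 := IsCIOver.of_algEquiv k e₀ h
    obtain ⟨g, hga, hG⟩ := (isCIOver_atPrime_iff k A₀ a₀).1 h1
    have hdisj : Disjoint (Submonoid.powers g : Set A₀) (a₀ : Set A₀) := by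
      rw [Set.disjoint_left]
      rintro x ⟨m, rfl⟩ hx
      exact hga (Ideal.IsPrime.mem_of_pow_mem inferInstance m hx)
    haveI hp : (a₀.map (algebraMap A₀ (Localization.Away g))).IsPrime :=
      IsLocalization.isPrime_of_isPrime_disjoint (Submonoid.powers g) (Localization.Away g) a₀
        inferInstance hdisj
    have hpq : (a₀.map (algebraMap A₀ (Localization.Away g))).comap
        (algebraMap A₀ (Localization.Away g)) = a₀ :=
      IsLocalization.comap_map_of_isPrime_disjoint (Submonoid.powers g) (Localization.Away g)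
        inferInstance hdisj
    obtain ⟨e₁⟩ := nonempty_algEquiv_of_eq k _ _ hpq.symm
    refine ⟨Localization.Away g, inferInstance, inferInstance,
      a₀.map (algebraMap A₀ (Localization.Away g)), hp, ?_, hG, ⟨?_⟩⟩
    · exact Algebra.FiniteType.trans (S := A₀) inferInstance
        (IsLocalization.finiteType_of_monoid_fg (Submonoid.powers g) _)
    · exact (e₀.trans e₁).trans
        ((IsLocalization.localizationLocalizationAtPrimeIsoLocalization (Submonoid.powers g)
          (a₀.map (algebraMap A₀ (Localization.Away g)))).restrictScalars k)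
  · rintro ⟨A, _, _, a, _, hft, hG, ⟨e⟩⟩
    haveI := hft
    have h1 : Synt.IsCIOver k (Localization.AtPrime a) :=
      (isCIOver_atPrime_iff k A a).2 ⟨1, fun h1 => (Ideal.IsPrime.ne_top inferInstance)
        ((Ideal.eq_top_iff_one _).2 h1), isGlobalCI_self_away k hG 1⟩
    exact IsCIOver.of_algEquiv k e.symm h1

theorem part5 :
    Synt.IsCIOver k S ↔
      ∃ (A : Type u) (_ : CommRing A) (_ : Algebra k A) (a : Ideal A) (_ : a.IsPrime),
        Synt.IsLCIOver k A ∧ Nonempty (S ≃ₐ[k] Localization.AtPrime a) := by
  constructor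
  · intro h
    obtain ⟨A, iA, iAlg, a, ia, hft, hG, he⟩ := (part4 k S).1 h
    haveI := hft
    exact ⟨A, iA, iAlg, a, ia, isLCIOver_of_isGlobalCI k hG, he⟩
  · rintro ⟨A, _, _, a, ia, ⟨hft, hL⟩, ⟨e⟩⟩
    haveI := hft
    haveI := ia
    have h1 : Synt.IsCIOver k (Localization.AtPrime a) :=
      (isCIOver_atPrime_iff k A a).2 (hL ⟨a, ia⟩)
    exact IsCIOver.of_algEquiv k e.symm h1

end

/-- For a local k-algebra S which is essentially of finite type over a field k, being a complete
intersection over k is equivalent to each of: (2) whenever a regular local ring R, essentially of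
finite type over k, maps onto S by a surjective k-algebra map, the kernel is generated by a regular
sequence; (3) some regular local ring R, essentially of finite type over k, maps onto S by a
surjective k-algebra map whose kernel is generated by a list of dim R − dim S elements (stated as
dim R = dim S + the length of the list); (4) S is isomorphic over k to a localization at a prime of
a global complete intersection over k; (5) the same with a local complete intersection over k. -/
theorem result (k S : Type u) [Field k] [CommRing S]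
    [IsLocalRing S] [Algebra k S] [Algebra.EssFiniteType k S] :
    (Synt.IsCIOver k S ↔
        ∀ (R : Type u) [CommRing R] [IsRegularLocalRing R] [Algebra k R], Algebra.EssFiniteType k R →
          ∀ π : R →ₐ[k] S, Function.Surjective π →
            ∃ rs : List R, RingTheory.Sequence.IsRegular R rs ∧ RingHom.ker π.toRingHom = Ideal.ofList rs) ∧
      (Synt.IsCIOver k S ↔
        ∃ (R : Type u) (_ : CommRing R) (_ : IsRegularLocalRing R) (_ : Algebra k R),
          Algebra.EssFiniteType k R ∧ ∃ π : R →ₐ[k] S, Function.Surjective π ∧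
            ∃ rs : List R, RingHom.ker π.toRingHom = Ideal.ofList rs ∧
              ringKrullDim R = ringKrullDim S + (rs.length : WithBot ℕ∞)) ∧
      (Synt.IsCIOver k S ↔
        ∃ (A : Type u) (_ : CommRing A) (_ : Algebra k A) (a : Ideal A) (_ : a.IsPrime),
          Algebra.FiniteType k A ∧ Synt.IsGlobalCI k A ∧ Nonempty (S ≃ₐ[k] Localization.AtPrime a)) ∧
      (Synt.IsCIOver k S ↔
        ∃ (A : Type u) (_ : CommRing A) (_ : Algebra k A) (a : Ideal A) (_ : a.IsPrime),
          Synt.IsLCIOver k A ∧ Nonempty (S ≃ₐ[k] Localization.AtPrime a)) :=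
  ⟨part2 k S, part3 k S, part4 k S, part5 k S⟩

end Groth.Agent.S9143
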