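import Groth.Statements.S9148
import Groth.Agent.Lib.Helper48.RelGCIDescent

set_option autoImplicit false
universe u
open Synt

namespace Groth.Agent.S9148

open Groth.Agent.Lib.Helper48.RelGCIDescent in
attribute [local instance] MvPolynomial.algebraMvPolynomial in
/-- A relative global complete intersection over a ring R descends to a relative global complete
intersection over a finite type ℤ-subalgebra of R containing the coefficients. -/
theorem result (R : Type u) [CommRing R] (n c : ℕ)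
    (F : Fin c → MvPolynomial (Fin n) R) (h : Synt.IsRelGCI R n c F) :
    ∃ (R₀ : Subalgebra ℤ R) (F₀ : Fin c → MvPolynomial (Fin n) R₀), Algebra.FiniteType ℤ R₀ ∧
      (∀ i, MvPolynomial.map (algebraMap R₀ R) (F₀ i) = F i) ∧ Synt.IsRelGCI R₀ n c F₀ := by
  classical
  -- the coefficient subalgebra
  obtain ⟨s₀, hs₀⟩ : ∃ s₀ : Finset R, s₀ = Finset.univ.biUnion (fun i => (F i).coeffs) := ⟨_, rfl⟩
  obtain ⟨R₀, hR₀⟩ : ∃ R₀ : Subalgebra ℤ R, R₀ = Algebra.adjoin ℤ (s₀ : Set R) := ⟨_, rfl⟩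
  have hF : ∀ i, F i ∈ Set.range (MvPolynomial.map (algebraMap R₀ R)) := by
    intro i
    rw [MvPolynomial.mem_range_map_iff_coeffs_subset]
    intro t ht
    have : t ∈ (s₀ : Set R) := by
      rw [hs₀, Finset.mem_coe, Finset.mem_biUnion]
      exact ⟨i, Finset.mem_univ _, ht⟩
    exact ⟨⟨t, hR₀ ▸ Algebra.subset_adjoin this⟩, rfl⟩
  choose F₀ hF₀ using hF
  have hKR : (Ideal.span (Set.range F₀)).map
      (algebraMap (MvPolynomial (Fin n) R₀) (MvPolynomial (Fin n) R)) =
      Ideal.span (Set.range F) := by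
    rw [Ideal.map_span, ← Set.range_comp]
    have : (⇑(algebraMap (MvPolynomial (Fin n) R₀) (MvPolynomial (Fin n) R)) ∘ F₀) = F :=
      funext hF₀
    rw [this]
  have hPt : PtOK R n c ((Ideal.span (Set.range F₀)).map
      (algebraMap (MvPolynomial (Fin n) R₀) (MvPolynomial (Fin n) R))) := by
    rw [hKR]
    exact ptOK_of_fibOK R n c _ h
  obtain ⟨s, hs⟩ := exists_finset_descent R₀ R n c (Ideal.span (Set.range F₀)) hPt
  obtain ⟨R₁, hR₁⟩ : ∃ R₁ : Subalgebra ℤ R,
      R₁ = Algebra.adjoin ℤ ((s₀ ∪ s : Finset R) : Set R) := ⟨_, rfl⟩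
  have h01 : R₀ ≤ R₁ := by
    rw [hR₀, hR₁]
    exact Algebra.adjoin_mono (Finset.coe_subset.mpr Finset.subset_union_left)
  letI : Algebra R₀ R₁ := (Subalgebra.inclusion h01).toRingHom.toAlgebra
  haveI : IsScalarTower R₀ R₁ R := IsScalarTower.of_algebraMap_eq (fun x => rfl)
  have hB := hs R₁ Subtype.val_injective (fun t ht => ⟨⟨t, hR₁ ▸ Algebra.subset_adjoin
    (Finset.coe_subset.mpr Finset.subset_union_right ht)⟩, rfl⟩)
  have hK1 : (Ideal.span (Set.range F₀)).map
      (algebraMap (MvPolynomial (Fin n) R₀) (MvPolynomial (Fin n) R₁)) =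
      Ideal.span (Set.range (fun i => MvPolynomial.map (algebraMap R₀ R₁) (F₀ i))) := by
    rw [Ideal.map_span, ← Set.range_comp]
    rfl
  rw [hK1] at hB
  refine ⟨R₁, fun i => MvPolynomial.map (algebraMap R₀ R₁) (F₀ i), ?_, fun i => ?_, ?_⟩
  · rw [hR₁]
    exact (Subalgebra.fg_iff_finiteType _).mp (Subalgebra.fg_adjoin_finset _)
  · have hcomp : (algebraMap R₁ R).comp (algebraMap R₀ R₁) = algebraMap R₀ R :=
      RingHom.ext fun x => rfl
    rw [MvPolynomial.map_map, hcomp]
    exact hF₀ i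
  · exact fibOK_of_ptOK R₁ n c _ ⟨_, rfl⟩ hB

end Groth.Agent.S9148
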