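import Groth.Statements.S9149
import Groth.Agent.Lib.Helper62.GCIField6

set_option autoImplicit false
set_option linter.style.haveILetI false
universe u
open Synt

namespace Groth.Agent.S9149


open Polynomial Groth.Agent.Lib.Helper62.GCIField in
/-- the inductive construction of a splitting algebra. -/
theorem exists_splitting (n : ℕ) : ∀ (A : Type u) [CommRing A] (P : A[X]), P.Monic →
    P.natDegree = n →
    ∃ (A' : Type u) (_ : CommRing A') (_ : Algebra A A'),
      HasPres A A' 0 ∧ Module.Finite A A' ∧ Module.Free A A' ∧ (Nontrivial A → Nontrivial A') ∧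
        ∃ s : Multiset A', P.map (algebraMap A A') = (s.map fun b => X - C b).prod := by
  induction n with
  | zero =>
    intro A _ P hP hdeg
    refine ⟨A, inferInstance, Algebra.id A, hasPres_self A, inferInstance, inferInstance, id, 0, ?_⟩
    have : P = 1 := hP.natDegree_eq_zero.mp hdeg
    simp [this]
  | succ n ih =>
    intro A _ P hP hdeg
    haveI hAnt : Nontrivial A := by
      by_contra h
      rw [not_nontrivial_iff_subsingleton] at h
      have : P.natDegree = 0 := by rw [Subsingleton.elim P 0]; simp
      omega
    haveI : Module.Free A (AdjoinRoot P) := hP.free_adjoinRoot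
    haveI : Module.Finite A (AdjoinRoot P) := hP.finite_adjoinRoot
    haveI : Nontrivial (AdjoinRoot P) :=
      Module.nontrivial_of_finrank_pos (R := A)
        (by rw [(AdjoinRoot.powerBasis' hP).finrank, AdjoinRoot.powerBasis'_dim]; omega)
    have hroot : (P.map (AdjoinRoot.of P)).IsRoot (AdjoinRoot.root P) := by
      rw [IsRoot, eval_map, AdjoinRoot.eval₂_root]
    obtain ⟨Q, hQ⟩ := dvd_iff_isRoot.mpr hroot
    have hPmap : (P.map (AdjoinRoot.of P)).Monic := hP.map _
    have hQmonic : Q.Monic := (monic_X_sub_C _).of_mul_monic_left (hQ ▸ hPmap)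
    have hQdeg : Q.natDegree = n := by
      have h1 := congrArg natDegree hQ
      rw [hP.natDegree_map, (monic_X_sub_C _).natDegree_mul hQmonic, natDegree_X_sub_C, hdeg] at h1
      omega
    obtain ⟨A', instA', algA', hpres, hfin, hfree, hnt, s, hs⟩ := ih (AdjoinRoot P) Q hQmonic hQdeg
    letI : Algebra A A' := ((algebraMap (AdjoinRoot P) A').comp (AdjoinRoot.of P)).toAlgebra
    haveI : IsScalarTower A (AdjoinRoot P) A' := IsScalarTower.of_algebraMap_eq fun x => rfl
    refine ⟨A', instA', inferInstance, ?_, ?_, ?_, fun _ => hnt inferInstance, ?_⟩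
    · have := (hasPres_adjoinRoot A P).comp hpres
      simpa using this
    · exact Module.Finite.trans (AdjoinRoot P) A'
    · exact Module.Free.trans (R := A) (S := AdjoinRoot P) (M := A')
    · refine ⟨algebraMap (AdjoinRoot P) A' (AdjoinRoot.root P) ::ₘ s, ?_⟩
      have h1 : P.map (algebraMap A A') =
          (P.map (AdjoinRoot.of P)).map (algebraMap (AdjoinRoot P) A') := by
        rw [Polynomial.map_map]
        rfl
      rw [h1, hQ, Polynomial.map_mul, hs, Multiset.map_cons, Multiset.prod_cons]
      simp

open Polynomial in
/-- A monic polynomial over a ring A splits into linear factors over some A-algebra A' that is syntomic,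
finite free and faithfully flat over A. -/
theorem result (A : Type u) [CommRing A] (P : A[X]) (hP : P.Monic) :
    ∃ (A' : Type u) (_ : CommRing A') (_ : Algebra A A'),
      Synt.IsSyntomic A A' ∧ Module.Finite A A' ∧ Module.Free A A' ∧ Module.FaithfullyFlat A A' ∧
        ∃ s : Multiset A', P.map (algebraMap A A') = (s.map fun b => X - C b).prod := by
  obtain ⟨A', instA', algA', hpres, hfin, hfree, hnt, s, hs⟩ :=
    exists_splitting P.natDegree A P hP rfl
  refine ⟨A', instA', algA', ?_, hfin, hfree, ?_, s, hs⟩
  · exact Groth.Agent.Lib.Helper62.GCIField.isSyntomic_of_finite_of_hasPres_zero A A' hpres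
  · by_cases hA : Subsingleton A
    · refine ⟨fun m hm => ?_⟩
      exact absurd (Subsingleton.elim m ⊤) hm.ne_top
    · rw [not_subsingleton_iff_nontrivial] at hA
      haveI := hnt hA
      infer_instance

end Groth.Agent.S9149
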