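import Groth.Statements.S9150
import Groth.Agent.Lib.Helper35.SyntLift
import Groth.Agent.Lib.Helper62.GCIField7

set_option autoImplicit false
universe u
open Synt

namespace Groth.Agent.S9150

section Helpers

open Groth.Agent.Lib.Helper35.SyntLift

theorem local_step (R : Type u) [CommRing R] (I : Ideal R) (Sb : Type u) [CommRing Sb]
    [Algebra R Sb] [Algebra (R ⧸ I) Sb] [IsScalarTower R (R ⧸ I) Sb]
    (h : Synt.IsSyntomic (R ⧸ I) Sb) (q : Ideal Sb) [q.IsPrime] :
    ∃ g : Sb, g ∉ q ∧ ∃ (n c : ℕ) (F : Fin c → MvPolynomial (Fin n) R), Synt.IsRelGCI R n c F ∧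
        Nonempty (Localization.Away g ≃ₐ[R]
          (Synt.RelGCIRing R n c F ⧸ I.map (algebraMap R (Synt.RelGCIRing R n c F)))) := by
  haveI hpp : (q.comap (algebraMap (R ⧸ I) Sb)).IsPrime := Ideal.comap_isPrime _ _
  haveI : q.LiesOver (q.comap (algebraMap (R ⧸ I) Sb)) := ⟨rfl⟩
  obtain ⟨Q, hQp, hQ⟩ := Groth.Agent.Lib.Helper35.RelGCI.exists_fibre_prime
    (q.comap (algebraMap (R ⧸ I) Sb)) q rfl
  haveI := hQp
  have h1 : ∃ g : Sb, g ∉ q ∧ Synt.IsSyntomic (R ⧸ I) (Localization.Away g) := by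
    refine ⟨1, fun h1 => (inferInstance : q.IsPrime).ne_top ((Ideal.eq_top_iff_one _).2 h1), ?_⟩
    exact Groth.Agent.Lib.Helper62.GCIField.isSyntomic_of_algEquiv
      ((IsLocalization.atOne Sb (Localization.Away (1 : Sb))).restrictScalars (R ⧸ I)) h
  obtain ⟨g, hg, n, c, Fb, hGCI, ⟨e⟩⟩ :=
    ((Groth.Agent.S9169.result (R ⧸ I) Sb (q.comap (algebraMap (R ⧸ I) Sb)) q Q hQ).1).1 h1
  choose F hF using fun i => MvPolynomial.map_surjective (Ideal.Quotient.mk I)
    Ideal.Quotient.mk_surjective (Fb i)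
  obtain rfl : Fb = fun i => MvPolynomial.map (Ideal.Quotient.mk I) (F i) :=
    funext (fun i => (hF i).symm)
  obtain ⟨h, hh1, hGCI', ⟨ε⟩⟩ := Groth.Agent.S9172.result R n c F I hGCI
  obtain ⟨e2⟩ := nonempty_quotEquiv R I n c F
  obtain ⟨e3⟩ := nonempty_quot_away I (Ideal.Quotient.mk (Ideal.span (Set.range F)) h) hh1
  obtain ⟨e4⟩ := nonempty_quot_congr I ε
  exact ⟨g, hg, n + 1, c + 1, _, hGCI', ⟨(e.restrictScalars R).trans (e2.trans (e3.trans e4))⟩⟩

end Helpers

/-- Let I be an ideal of a ring R and S̄ an R-algebra killed by I which is syntomic over R/I. Then S̄ is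
covered by finitely many basic opens S̄_g each isomorphic, as an R-algebra, to S/IS for some
relative global complete intersection S over R. -/
theorem result (R : Type u) [CommRing R] (I : Ideal R) (Sb : Type u) [CommRing Sb]
    [Algebra R Sb] [Algebra (R ⧸ I) Sb] [IsScalarTower R (R ⧸ I) Sb] (h : Synt.IsSyntomic (R ⧸ I) Sb) :
    ∃ s : Finset Sb, Ideal.span (s : Set Sb) = ⊤ ∧ ∀ g ∈ s,
      ∃ (n c : ℕ) (F : Fin c → MvPolynomial (Fin n) R), Synt.IsRelGCI R n c F ∧
        Nonempty (Localization.Away g ≃ₐ[R]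
          (Synt.RelGCIRing R n c F ⧸ I.map (algebraMap R (Synt.RelGCIRing R n c F)))) := by
  classical
  set G : Set Sb := {g | ∃ (n c : ℕ) (F : Fin c → MvPolynomial (Fin n) R), Synt.IsRelGCI R n c F ∧
        Nonempty (Localization.Away g ≃ₐ[R]
          (Synt.RelGCIRing R n c F ⧸ I.map (algebraMap R (Synt.RelGCIRing R n c F))))} with hG
  have htop : Ideal.span G = ⊤ := by
    by_contra hne
    obtain ⟨m, hm, hle⟩ := Ideal.exists_le_maximal _ hne
    haveI := hm.isPrime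
    obtain ⟨g, hg, hP⟩ := local_step R I Sb h m
    exact hg (hle (Ideal.subset_span hP))
  obtain ⟨s, hsG, hs⟩ := (Ideal.span_eq_top_iff_finite G).1 htop
  exact ⟨s, hs, fun g hg => hsG hg⟩

end Groth.Agent.S9150
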