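import Groth.Statements.S9151
import Groth.Agent.Lib.Helper8.LocCot
import Groth.Agent.Lib.Helper8.SyntLCI
import Groth.Agent.Lib.Helper8.NLPerfect

set_option autoImplicit false
universe u
open Synt

namespace Groth.Agent.S9151

/-- Let S = R[x_1, …, x_n]/I with I finitely generated and let g ∈ S be such that S_g is syntomic over
R. Then the localization (I/I²)_g of the conormal module is a finite projective S_g-module. -/
theorem result (R : Type u) [CommRing R] (n : ℕ)
    (I : Ideal (MvPolynomial (Fin n) R)) (hI : I.FG) (g : MvPolynomial (Fin n) R ⧸ I)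
    (hg : Synt.IsSyntomic R (Localization.Away g)) :
    Module.Finite (Localization.Away g) (LocalizedModule (Submonoid.powers g) I.Cotangent) ∧
      Module.Projective (Localization.Away g) (LocalizedModule (Submonoid.powers g) I.Cotangent) := by
  obtain ⟨G, rfl⟩ := Ideal.Quotient.mk_surjective g
  have hlci : LCI.IsLCI R (Localization.Away (Ideal.Quotient.mk I G)) :=
    ((Groth.Agent.Lib.Helper8.SyntLCI.isSyntomic_iff _ _).1 hg).2
  have hK := Groth.Agent.Lib.Helper8.LCILocal.claim
    (fun A B _ _ _ n m α hα β hβ h => Groth.Agent.S9269.result A B n m α hα β hβ h)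
    (Ideal.Quotient.mkₐ R I) (Ideal.Quotient.mkₐ_surjective R I) G hlci
  have hker : RingHom.ker (Ideal.Quotient.mkₐ R I).toRingHom = I := Ideal.mk_ker
  rw [hker] at hK
  have hq := Groth.Agent.Lib.Helper8.NLPerfect.isLocallyQuasiRegular_of_isKoszulRegularIdeal _ hK
  have : Module.Projective (Localization.Away G ⧸
      I.map (algebraMap (MvPolynomial (Fin n) R) (Localization.Away G)))
      (I.map (algebraMap (MvPolynomial (Fin n) R) (Localization.Away G))).Cotangent :=
    Groth.Agent.Lib.Helper9.QRegLocalA.projective_of_locallyQuasiRegular _ hq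
  refine ⟨?_, Groth.Agent.Lib.Helper8.LocCot.projective_localizedModule_cotangent I G⟩
  have : Module.Finite (MvPolynomial (Fin n) R) I := Module.Finite.of_fg hI
  have : Module.Finite (MvPolynomial (Fin n) R) I.Cotangent :=
    Module.Finite.of_surjective I.toCotangent I.toCotangent_surjective
  have : Module.Finite (MvPolynomial (Fin n) R ⧸ I) I.Cotangent :=
    Module.Finite.of_restrictScalars_finite (MvPolynomial (Fin n) R) (MvPolynomial (Fin n) R ⧸ I) _
  exact Module.Finite.of_isLocalizedModule (Submonoid.powers (Ideal.Quotient.mk I G))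
    (LocalizedModule.mkLinearMap (Submonoid.powers (Ideal.Quotient.mk I G)) I.Cotangent)

end Groth.Agent.S9151
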