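import Groth.Statements.S9155
import Groth.Agent.Lib.Helper14.DiffEtaleExist
import Mathlib.RingTheory.Localization.BaseChange

set_option autoImplicit false
universe u
open Diff16

namespace Groth.Agent.S9155

/-- A differential operator of order at most k between modules over B (relative to A → B) has exactly
one extension to the localized modules over S⁻¹B that is again a differential operator of order at
most k (relative to A → S⁻¹B), compatible with the localization maps. -/
theorem result (A B : Type u) [CommRing A] [CommRing B] [Algebra A B]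
    (S : Submonoid B) (M N : Type u) [AddCommGroup M] [Module B M] [Module A M] [IsScalarTower A B M]
    [AddCommGroup N] [Module B N] [Module A N] [IsScalarTower A B N] (k : ℕ) (D : M →ₗ[A] N)
    (hD : Diff16.IsDiffOpLE A B M N k D) :
    ∃! E : LocalizedModule S M →ₗ[A] LocalizedModule S N,
      Diff16.IsDiffOpLE A (Localization S) (LocalizedModule S M) (LocalizedModule S N) k E ∧
        E ∘ₗ (LocalizedModule.mkLinearMap S M).restrictScalars A =
          (LocalizedModule.mkLinearMap S N).restrictScalars A ∘ₗ D := by
  classical
  let eM := (LocalizedModule.isBaseChange S M).equiv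
  let eN := (LocalizedModule.isBaseChange S N).equiv
  have heM : ∀ m : M, eM.symm (LocalizedModule.mkLinearMap S M m) = 1 ⊗ₜ m :=
    fun m => (LocalizedModule.isBaseChange S M).equiv_symm_apply m
  have heN : ∀ n : N, eN (1 ⊗ₜ n) = LocalizedModule.mkLinearMap S N n := fun n => by
    rw [IsBaseChange.equiv_tmul, one_smul]
  have heM' : ∀ m : M, eM (1 ⊗ₜ m) = LocalizedModule.mkLinearMap S M m := fun m => by
    rw [IsBaseChange.equiv_tmul, one_smul]
  have heN' : ∀ n : N, eN.symm (LocalizedModule.mkLinearMap S N n) = 1 ⊗ₜ n :=
    fun n => (LocalizedModule.isBaseChange S N).equiv_symm_apply n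
  obtain ⟨D', hD', hval⟩ :=
    Groth.Agent.Lib.Helper14.DiffEtaleExist.exists_extension (S' := Localization S) k D hD
  have h0M : Diff16.IsDiffOpLE A (Localization S) _ _ 0
      (eM.symm.toLinearMap.restrictScalars A) := fun b x => by simp
  have h0N : Diff16.IsDiffOpLE A (Localization S) _ _ 0
      (eN.toLinearMap.restrictScalars A) := fun b x => by simp
  have h0M' : Diff16.IsDiffOpLE A (Localization S) _ _ 0
      (eM.toLinearMap.restrictScalars A) := fun b x => by simp
  have h0N' : Diff16.IsDiffOpLE A (Localization S) _ _ 0
      (eN.symm.toLinearMap.restrictScalars A) := fun b x => by simp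
  refine ⟨eN.toLinearMap.restrictScalars A ∘ₗ D' ∘ₗ eM.symm.toLinearMap.restrictScalars A,
    ⟨?_, ?_⟩, ?_⟩
  · have h1 := Groth.Agent.Lib.Helper14.IsDiffOpLE_comp h0M hD'
    have h2 := Groth.Agent.Lib.Helper14.IsDiffOpLE_comp h1 h0N
    simpa using h2
  · ext m
    simp only [LinearMap.comp_apply, LinearMap.coe_restrictScalars, LinearEquiv.coe_coe]
    rw [heM, hval, heN]
  · rintro E' ⟨hE', hE'val⟩
    have hE'val' : ∀ m, E' (LocalizedModule.mkLinearMap S M m)
        = LocalizedModule.mkLinearMap S N (D m) := fun m => LinearMap.congr_fun hE'val m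
    have h1 := Groth.Agent.Lib.Helper14.IsDiffOpLE_comp h0M' hE'
    have h2 := Groth.Agent.Lib.Helper14.IsDiffOpLE_comp h1 h0N'
    have h3 : Diff16.IsDiffOpLE A (Localization S) _ _ k
        (eN.symm.toLinearMap.restrictScalars A ∘ₗ E' ∘ₗ eM.toLinearMap.restrictScalars A) := by
      simpa using h2
    have key := Groth.Agent.Lib.Helper14.DiffEtale.eq_of_agree (S := B) k _ D' h3 hD' (by
      intro m
      simp only [LinearMap.comp_apply, LinearMap.coe_restrictScalars, LinearEquiv.coe_coe]
      rw [heM', hE'val', heN', hval])
    ext x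
    have := LinearMap.congr_fun key (eM.symm x)
    simp only [LinearMap.comp_apply, LinearMap.coe_restrictScalars, LinearEquiv.coe_coe,
      LinearEquiv.apply_symm_apply] at this ⊢
    rw [← this, LinearEquiv.apply_symm_apply]

end Groth.Agent.S9155
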