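import Groth.Statements.S9157
import Mathlib

set_option autoImplicit false
universe u
open CAlg

namespace Groth.Agent.S9157

theorem mk_eq_zero_iff' {R : Type*} [CommRing R] {S : Submonoid R} {M : Type*} [AddCommGroup M]
    [Module R M] (m : M) (s : S) :
    LocalizedModule.mk m s = 0 ↔ ∃ u : S, u • m = 0 := by
  rw [← LocalizedModule.zero_mk (1 : S), LocalizedModule.mk_eq]
  constructor
  · rintro ⟨u, hu⟩
    refine ⟨u, ?_⟩
    simpa using hu
  · rintro ⟨u, hu⟩
    refine ⟨u, ?_⟩
    simpa using hu

theorem mk_eq_smul_mk_one {R : Type*} [CommRing R] {S : Submonoid R} {M : Type*} [AddCommGroup M]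
    [Module R M] (m : M) (s : S) :
    LocalizedModule.mk m s = (Localization.mk (1 : R) s) • LocalizedModule.mk m (1 : S) := by
  rw [LocalizedModule.mk_smul_mk, one_smul, mul_one]

/-- If the localization S⁻¹M of an R-module M is finitely presented over S⁻¹R, then some finitely
presented R-module M' maps to M inducing an isomorphism S⁻¹M' → S⁻¹M. -/
theorem result (R : Type u) [CommRing R] (S : Submonoid R)
    (M : Type u) [AddCommGroup M] [Module R M]
    [Module.FinitePresentation (Localization S) (LocalizedModule S M)] :
    ∃ (M' : Type u) (_ : AddCommGroup M') (_ : Module R M') (φ : M' →ₗ[R] M),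
      Module.FinitePresentation R M' ∧ Function.Bijective (LocalizedModule.map S φ) := by
  classical
  -- generators of the localized module
  obtain ⟨T, hT⟩ := (Module.Finite.fg_top : (⊤ : Submodule (Localization S) (LocalizedModule S M)).FG)
  have hrep : ∀ y : LocalizedModule S M, ∃ (m : M) (t : S), y = LocalizedModule.mk m t := by
    intro y
    induction y using LocalizedModule.induction_on with
    | h m t => exact ⟨m, t, rfl⟩
  choose m t hmt using hrep
  let ι : Type u := ↥T
  let v : ι → M := fun i => m i.1
  let f : (ι → R) →ₗ[R] M := Fintype.linearCombination R v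
  have hfsingle : ∀ i : ι, f (Pi.single i 1) = v i := by
    intro i
    simp only [f, Fintype.linearCombination_apply]
    rw [Finset.sum_eq_single i]
    · simp
    · intro j _ hj
      simp [Pi.single_apply, hj]
    · intro h; exact absurd (Finset.mem_univ i) h
  let F := LocalizedModule.map S f
  have hFsurj : Function.Surjective F := by
    rw [← LinearMap.range_eq_top, eq_top_iff, ← hT, Submodule.span_le]
    intro y hy
    have h1 : F (LocalizedModule.mk (Pi.single (⟨y, hy⟩ : ι) (1 : R)) (t y)) = y := by
      rw [LocalizedModule.map_mk, hfsingle]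
      exact (hmt y).symm
    exact ⟨_, h1⟩
  -- kernel is finitely generated
  obtain ⟨T', hT'⟩ := Module.FinitePresentation.fg_ker F hFsurj
  have hrep' : ∀ z : LocalizedModule S (ι → R), ∃ (k : ι → R) (t' : S),
      z = LocalizedModule.mk k t' := by
    intro z
    induction z using LocalizedModule.induction_on with
    | h k t' => exact ⟨k, t', rfl⟩
  choose k t' hkt using hrep'
  have hu : ∀ z ∈ T', ∃ u : S, u • f (k z) = 0 := by
    intro z hz
    have hz' : z ∈ LinearMap.ker F := hT' ▸ Submodule.subset_span hz
    rw [LinearMap.mem_ker, hkt z, LocalizedModule.map_mk] at hz'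
    exact (mk_eq_zero_iff' _ _).mp hz'
  choose! u hu using hu
  let w : ↥T' → (ι → R) := fun z => u z.1 • k z.1
  let N : Submodule R (ι → R) := Submodule.span R (Set.range w)
  have hN : N ≤ LinearMap.ker f := by
    rw [Submodule.span_le]
    rintro _ ⟨z, rfl⟩
    change f (u z.1 • k z.1) = 0
    rw [Submonoid.smul_def, map_smul]
    exact hu z.1 z.2
  let φ : ((ι → R) ⧸ N) →ₗ[R] M := N.liftQ f hN
  have hfp : Module.FinitePresentation R ((ι → R) ⧸ N) := by
    refine Module.finitePresentation_of_surjective N.mkQ N.mkQ_surjective ?_
    rw [Submodule.ker_mkQ]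
    exact Submodule.fg_span (Set.finite_range _)
  refine ⟨(ι → R) ⧸ N, inferInstance, inferInstance, φ, hfp, ?_, ?_⟩
  · -- injective
    rw [injective_iff_map_eq_zero]
    intro y hy
    induction y using LocalizedModule.induction_on with
    | h q s =>
      obtain ⟨a, rfl⟩ := N.mkQ_surjective q
      rw [LocalizedModule.map_mk] at hy
      have ha : LocalizedModule.mk a s ∈ LinearMap.ker F := by
        rw [LinearMap.mem_ker, LocalizedModule.map_mk]
        exact hy
      let G := LocalizedModule.map S N.mkQ
      have hle : LinearMap.ker F ≤ LinearMap.ker G := by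
        rw [← hT', Submodule.span_le]
        intro z hz
        rw [SetLike.mem_coe, LinearMap.mem_ker]
        change G z = 0
        rw [hkt z, LocalizedModule.map_mk, mk_eq_zero_iff']
        refine ⟨u z, ?_⟩
        rw [Submonoid.smul_def, ← map_smul]
        exact (Submodule.Quotient.mk_eq_zero N).mpr
          (Submodule.subset_span ⟨⟨z, hz⟩, rfl⟩)
      have := hle ha
      rw [LinearMap.mem_ker, LocalizedModule.map_mk] at this
      exact this
  · -- surjective
    intro y
    obtain ⟨x, rfl⟩ := hFsurj y
    induction x using LocalizedModule.induction_on with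
    | h a s =>
      refine ⟨LocalizedModule.mk (N.mkQ a) s, ?_⟩
      rw [LocalizedModule.map_mk, LocalizedModule.map_mk]
      rfl

end Groth.Agent.S9157
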