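import Groth.Statements.S9158
import Groth.Agent.Lib.Helper8.GenFreeR3

set_option autoImplicit false
universe u
open CAlg

namespace Groth.Agent.S9158

/-- Generic freeness over a reduced ring: let R → S be of finite type with R reduced and M a finite
S-module. There is a dense open subset U of Spec R such that each point of U lies in a basic open
D(f) ⊆ U with M_f and S_f free over R_f, S_f of finite presentation over R_f, and M_f of finite
presentation over S_f. -/
theorem result (R S : Type u) [CommRing R] [IsReduced R] [CommRing S]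
    [Algebra R S] [Algebra.FiniteType R S] (M : Type u) [AddCommGroup M] [Module S M] [Module R M]
    [IsScalarTower R S M] [Module.Finite S M] :
    ∃ U : Set (PrimeSpectrum R), IsOpen U ∧ Dense U ∧ ∀ u ∈ U, ∃ f : R, f ∉ u.asIdeal ∧
      (PrimeSpectrum.basicOpen f : Set (PrimeSpectrum R)) ⊆ U ∧
      Module.Free (Localization.Away f) (LocalizedModule (Submonoid.powers f) M) ∧
      Module.Free (Localization.Away f) (LocalizedModule (Submonoid.powers f) S) ∧
      (Localization.awayMap (algebraMap R S) f).FinitePresentation ∧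
      Module.FinitePresentation (Localization.Away (algebraMap R S f))
        (LocalizedModule (Submonoid.powers (algebraMap R S f)) M) := by
  classical
  let U : Set (PrimeSpectrum R) :=
    ⋃ f ∈ {f : R | Groth.Agent.Lib.Helper8.GenFree.GoodAt R S M f},
      (PrimeSpectrum.basicOpen f : Set (PrimeSpectrum R))
  refine ⟨U, ?_, ?_, ?_⟩
  · exact isOpen_biUnion fun f _ => (PrimeSpectrum.basicOpen f).isOpen
  · rw [dense_iff_inter_open]
    intro V hV ⟨x, hx⟩
    obtain ⟨_, ⟨g, rfl⟩, hxg, hgV⟩ :=
      PrimeSpectrum.isTopologicalBasis_basic_opens.exists_subset_of_mem_open hx hV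
    have hg : ¬ IsNilpotent g := by
      intro hn
      have : PrimeSpectrum.basicOpen g = ⊥ := (PrimeSpectrum.basicOpen_eq_bot_iff g).mpr hn
      have hx' : x ∈ PrimeSpectrum.basicOpen g := hxg
      rw [this] at hx'
      exact hx'
    obtain ⟨f, hgf, hfn, hgood⟩ := Groth.Agent.Lib.Helper8.GenFree.exists_goodAt R S M g hg
    have hne : PrimeSpectrum.basicOpen f ≠ ⊥ := fun h0 =>
      hfn ((PrimeSpectrum.basicOpen_eq_bot_iff f).mp h0)
    obtain ⟨y, hy⟩ : ∃ y, y ∈ PrimeSpectrum.basicOpen f := by
      by_contra hcon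
      push Not at hcon
      apply hne
      ext z
      simp only [SetLike.mem_coe]
      exact ⟨fun hz => absurd hz (hcon z), fun hz => absurd hz (by simp)⟩
    refine ⟨y, hgV ?_, ?_⟩
    · obtain ⟨c, rfl⟩ := hgf
      have hy' : y ∈ PrimeSpectrum.basicOpen g ⊓ PrimeSpectrum.basicOpen c := by
        rw [← PrimeSpectrum.basicOpen_mul]
        exact hy
      exact hy'.1
    · exact Set.mem_biUnion (show f ∈ {f : R | _} from hgood) hy
  · intro u hu
    obtain ⟨f, hf, huf⟩ := Set.mem_iUnion₂.mp hu
    exact ⟨f, huf, Set.subset_biUnion_of_mem (u := fun f => (PrimeSpectrum.basicOpen f :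
      Set (PrimeSpectrum R))) hf, hf.1, hf.2.1, hf.2.2.1, hf.2.2.2⟩

end Groth.Agent.S9158
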