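import Groth.Statements.S9163
-- import your own Groth.Agent.* helpers here

set_option autoImplicit false
universe u
open CAlg

namespace Groth.Agent.S9163

/-- If S is integral over R, then any finitely many elements of R and of S lie in a pair R₀ ⊆ R, S₀ ⊆ S
with R₀ a finite type ℤ-subalgebra, S₀ an R₀-subalgebra of S, and S₀ finite as an R₀-module; so R →
S is the directed colimit of finite maps between finite type ℤ-algebras. -/
theorem result (R S : Type u) [CommRing R] [CommRing S] [Algebra R S]
    [Algebra.IsIntegral R S] (E : Finset R) (F : Finset S) :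
    ∃ (R₀ : Subalgebra ℤ R) (S₀ : Subalgebra R₀ S), Algebra.FiniteType ℤ R₀ ∧ (E : Set R) ⊆ R₀ ∧
      (F : Set S) ⊆ S₀ ∧ Module.Finite R₀ S₀ := by
  classical
  have hint : ∀ s : S, ∃ p : Polynomial R, p.Monic ∧ Polynomial.eval₂ (algebraMap R S) s p = 0 :=
    fun s => Algebra.IsIntegral.isIntegral (R := R) s
  choose P hPm hP0 using hint
  let T : Finset R := E ∪ F.biUnion (fun s => (P s).coeffs)
  let R₀ : Subalgebra ℤ R := Algebra.adjoin ℤ (T : Set R)
  have hTR₀ : (T : Set R) ⊆ R₀ := Algebra.subset_adjoin
  refine ⟨R₀, Algebra.adjoin R₀ (F : Set S), ?_, ?_, Algebra.subset_adjoin, ?_⟩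
  · exact (Subalgebra.fg_iff_finiteType R₀).mp (Subalgebra.fg_adjoin_finset T)
  · intro x hx
    exact hTR₀ (by simp [T, Finset.mem_coe.mp hx])
  · refine Algebra.finite_adjoin_of_finite_of_isIntegral F.finite_toSet ?_
    intro s hs
    rcases subsingleton_or_nontrivial R with hR | hR
    · -- degenerate case: everything is zero
      haveI : Subsingleton S := (algebraMap R S).codomain_trivial
      exact ⟨1, Polynomial.monic_one, Subsingleton.elim _ _⟩
    have hlift : P s ∈ Polynomial.lifts (algebraMap R₀ R) := by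
      rw [Polynomial.lifts_iff_coeffs_subset_range]
      intro c hc
      have hcT : c ∈ T := by
        simp only [T, Finset.mem_union, Finset.mem_biUnion]
        exact Or.inr ⟨s, Finset.mem_coe.mp hs, Finset.mem_coe.mp hc⟩
      exact ⟨⟨c, hTR₀ hcT⟩, rfl⟩
    obtain ⟨q, hq, -, hqm⟩ := Polynomial.lifts_and_degree_eq_and_monic hlift (hPm s)
    refine ⟨q, hqm, ?_⟩
    have := hP0 s
    rw [← hq, Polynomial.eval₂_map] at this
    rwa [IsScalarTower.algebraMap_eq R₀ R S]

end Groth.Agent.S9163
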