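import Groth.Statements.S9165
import Mathlib
import Groth.Agent.S9374
import Groth.Agent.Lib.Helper67.FibLoc
import Groth.Agent.Lib.Helper49.CMFormal
import Groth.Agent.Lib.Helper33.CMComp
import Groth.Agent.Lib.Helper73.FibreDimRetro
import Groth.Agent.Lib.Helper73.FibreDimRing
import Groth.Agent.Lib.Helper73.DimField
import Groth.Agent.Lib.Helper62.DimLoc8
import Groth.Agent.Lib.Helper62.DimLoc3

set_option autoImplicit false
set_option linter.style.haveILetI false
universe u
open CAlg

namespace Groth.Agent.S9165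

open CategoryTheory CategoryTheory.Limits AlgebraicGeometry TensorProduct

section Bridge

variable (R S : Type u) [CommRing R] [CommRing S] [Algebra R S]

/-- the morphism of spectra -/
noncomputable abbrev sp : Spec (CommRingCat.of S) ⟶ Spec (CommRingCat.of R) :=
  Spec.map (CommRingCat.ofHom (algebraMap R S))

theorem flat_sp [Module.Flat R S] : Flat (sp R S) := by
  rw [HasRingHomProperty.Spec_iff (P := @Flat)]
  exact RingHom.flat_algebraMap_iff.2 inferInstance

theorem lfp_sp [Algebra.FinitePresentation R S] : LocallyOfFinitePresentation (sp R S) := by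
  rw [HasRingHomProperty.Spec_iff (P := @LocallyOfFinitePresentation)]
  exact RingHom.finitePresentation_algebraMap.2 inferInstance

/-- ring-level Cohen–Macaulay fibres give a Cohen–Macaulay morphism of spectra -/
theorem isCMAt_Spec [Module.Flat R S]
    (hCM : ∀ p : PrimeSpectrum R, LocCoh.IsCohenMacaulayRing (p.asIdeal.Fiber S))
    (x : ↥(Spec (CommRingCat.of S))) : MoreMor.IsCMAt (sp R S) x := by
  haveI := flat_sp R S
  refine ⟨Flat.stalkMap (sp R S) x, ?_⟩
  let ι : (sp R S).fiber ((sp R S) x) ≅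
      Spec (CommRingCat.of ((PrimeSpectrum.asIdeal (R := R) ((sp R S) x)).Fiber S)) :=
    Arrow.leftFunc.mapIso (Spec.fiberToSpecResidueFieldIso R S ((sp R S) x))
  let z : ↥(Spec (CommRingCat.of ((PrimeSpectrum.asIdeal (R := R) ((sp R S) x)).Fiber S))) :=
    ι.hom ((sp R S).asFiber x)
  haveI := z.isPrime
  have hloc : LocCoh.IsCohenMacaulayLocalRing (Localization.AtPrime z.asIdeal) :=
    (hCM ((sp R S) x)).isCohenMacaulayLocalRing_localization z.asIdeal
  let e1 : Localization.AtPrime z.asIdeal ≃+*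
      ((Spec (CommRingCat.of ((PrimeSpectrum.asIdeal (R := R) ((sp R S) x)).Fiber S))).presheaf.stalk z) :=
    (StructureSheaf.stalkIso _ z).toRingEquiv
  let e2 : ((Spec (CommRingCat.of
      ((PrimeSpectrum.asIdeal (R := R) ((sp R S) x)).Fiber S))).presheaf.stalk z) ≃+*
      (((sp R S).fiber ((sp R S) x)).presheaf.stalk ((sp R S).asFiber x)) :=
    (asIso (ι.hom.stalkMap ((sp R S).asFiber x))).commRingCatIsoToRingEquiv
  exact (Groth.Agent.Lib.Helper33.CMComp.cm_ringEquiv_iff (e1.trans e2)).1 hloc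

/-- the fibre dimension function on the prime spectrum -/
noncomputable def fd (q : PrimeSpectrum S) : WithBot ℕ∞ :=
  FlatMor.fibreDimAt (sp R S) (show ↥(Spec (CommRingCat.of S)) from q)

theorem fd_nat [Algebra.FiniteType R S] (q : PrimeSpectrum S) :
    ∃ n : ℕ, fd R S q = (n : WithBot ℕ∞) := by
  unfold fd
  rw [Groth.Agent.Lib.Helper73.FibreDimRing.fibreDimAt_Spec_eq R S q,
    Groth.Agent.Lib.Helper62.DimLoc.localDim_eq_compDim (q.asIdeal.under R).ResidueField
      ((q.asIdeal.under R).Fiber S)]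
  haveI : IsNoetherianRing ((PrimeSpectrum.comap (algebraMap R S) q).asIdeal.Fiber S) :=
    Algebra.FiniteType.isNoetherianRing
      (PrimeSpectrum.comap (algebraMap R S) q).asIdeal.ResidueField _
  obtain ⟨P, hP, -, hdim⟩ := Groth.Agent.Lib.Helper62.DimLoc.exists_minimalPrimes_eq_compDim
    (PrimeSpectrum.preimageHomeomorphFiber R S (PrimeSpectrum.comap (algebraMap R S) q)
      ⟨q, rfl⟩).asIdeal
  haveI : P.IsPrime := hP.1.1
  obtain ⟨n, -, hn, -, -⟩ := Groth.Agent.Lib.Helper73.DimFormula.exists_trdeg_eq_ringKrullDim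
    (PrimeSpectrum.comap (algebraMap R S) q).asIdeal.ResidueField
    ((PrimeSpectrum.comap (algebraMap R S) q).asIdeal.Fiber S ⧸ P)
  exact ⟨n, hdim.symm.trans hn⟩

/-- fibre dimension at the generic point of a component of a fibre -/
theorem fd_eq_dim_of_minimal [Algebra.FiniteType R S] (p : Ideal R) [p.IsPrime]
    (q : PrimeSpectrum S) (P : Ideal (p.Fiber S)) [hP : P.IsPrime]
    (hmin : P ∈ minimalPrimes (p.Fiber S))
    (hq : P.comap ((Algebra.TensorProduct.includeRight : S →ₐ[R] p.Fiber S).toRingHom) =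
      q.asIdeal) :
    fd R S q = ringKrullDim (p.Fiber S ⧸ P) := by
  have hp : q.asIdeal.under R = p := by
    rw [← hq]
    exact Groth.Agent.Lib.Helper67.FibLoc.comap_includeRight_under p P
  subst hp
  have h1 : fd R S q =
      FlatMor.localDim (PrimeSpectrum ((q.asIdeal.under R).Fiber S)) ⟨P, hP⟩ :=
    Groth.Agent.Lib.Helper67.FibLoc.fibreDimAt_eq_of_comap R S q ⟨P, hP⟩ hq
  rw [h1, Groth.Agent.Lib.Helper62.DimLoc.localDim_eq_ringKrullDim_add
    (q.asIdeal.under R).ResidueField ((q.asIdeal.under R).Fiber S) P]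
  have h0 : ringKrullDim (Localization.AtPrime P) = 0 := by
    rw [IsLocalization.AtPrime.ringKrullDim_eq_height P (Localization.AtPrime P),
      Ideal.height_eq_zero_iff.2 hmin]
    rfl
  rw [h0, zero_add]

end Bridge

section Pi

/-- a factor of a Cohen–Macaulay finite product is Cohen–Macaulay -/
theorem isCM_pi_factor {ι : Type} [Fintype ι] [DecidableEq ι] (F : ι → Type u)
    [∀ i, CommRing (F i)] (h : LocCoh.IsCohenMacaulayRing (∀ i, F i)) (d : ι) :
    LocCoh.IsCohenMacaulayRing (F d) := by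
  letI : Algebra (∀ i, F i) (F d) := (Pi.evalRingHom F d).toAlgebra
  haveI : IsLocalization.Away (Pi.single d 1 : ∀ i, F i) (F d) := by
    apply IsLocalization.away_of_isIdempotentElem_of_mul
    · change (Pi.single d 1 : ∀ i, F i) * Pi.single d 1 = Pi.single d 1
      rw [← Pi.single_mul, mul_one]
    · intro x y
      change x d = y d ↔ _
      constructor
      · intro hxy
        funext i
        by_cases hi : i = d
        · subst hi
          simp [hxy]
        · simp [Pi.single_eq_of_ne hi]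
      · intro hxy
        have := congr_fun hxy d
        simpa using this
    · intro z
      exact ⟨Pi.single d z, by change (Pi.single d z : ∀ i, F i) d = z; simp⟩
  exact Groth.Agent.Lib.Helper49.CMFormal.isCM_of_isLocalization
    (Submonoid.powers (Pi.single d 1 : ∀ i, F i)) (F d) h

variable (R S : Type u) [CommRing R] [CommRing S] [Algebra R S]

theorem isCM_fibre_factor {N : ℕ} (T : Fin (N + 1) → Type u) [∀ d, CommRing (T d)]
    [∀ d, Algebra R (T d)] (E : S ≃ₐ[R] ((d : Fin (N + 1)) → T d)) (p : PrimeSpectrum R)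
    (h : LocCoh.IsCohenMacaulayRing (p.asIdeal.Fiber S)) (d : Fin (N + 1)) :
    LocCoh.IsCohenMacaulayRing (p.asIdeal.Fiber (T d)) := by
  classical
  have e1 : p.asIdeal.Fiber S ≃+* ((d : Fin (N + 1)) → p.asIdeal.Fiber (T d)) :=
    ((Algebra.TensorProduct.congr
      (AlgEquiv.refl : p.asIdeal.ResidueField ≃ₐ[R] p.asIdeal.ResidueField) E).trans
      (Algebra.TensorProduct.piRight R R p.asIdeal.ResidueField T)).toRingEquiv
  exact isCM_pi_factor (fun d => p.asIdeal.Fiber (T d))
    (Groth.Agent.Lib.Helper49.CMFormal.isCM_of_ringEquiv' e1 h) d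

theorem flat_quot [Module.Flat R S] (e : S) (he : IsIdempotentElem e) :
    Module.Flat R (S ⧸ Ideal.span {1 - e}) := by
  haveI := IsLocalization.Away.quotient_of_isIdempotentElem he
  haveI : Module.Flat S (S ⧸ Ideal.span {1 - e}) :=
    IsLocalization.flat _ (Submonoid.powers e)
  exact Module.Flat.trans R S _

theorem fp_quot [Algebra.FinitePresentation R S] (e : S) :
    Algebra.FinitePresentation R (S ⧸ Ideal.span {1 - e}) :=
  Algebra.FinitePresentation.quotient (Submodule.fg_span_singleton _)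

theorem dim_of_minimal [Algebra.FiniteType R S] (e : S) (he : IsIdempotentElem e) (d : ℕ)
    (hD : ∀ q : PrimeSpectrum S, e ∉ q.asIdeal → fd R S q = (d : WithBot ℕ∞))
    (p : PrimeSpectrum R) (P : Ideal (p.asIdeal.Fiber (S ⧸ Ideal.span {1 - e})))
    (hP : P ∈ minimalPrimes (p.asIdeal.Fiber (S ⧸ Ideal.span {1 - e}))) :
    ringKrullDim (p.asIdeal.Fiber (S ⧸ Ideal.span {1 - e}) ⧸ P) = (d : WithBot ℕ∞) := by
  haveI : P.IsPrime := hP.1.1
  obtain ⟨q', hq'⟩ : ∃ q' : PrimeSpectrum (S ⧸ Ideal.span {1 - e}), q'.asIdeal =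
      P.comap ((Algebra.TensorProduct.includeRight :
        (S ⧸ Ideal.span {1 - e}) →ₐ[R] p.asIdeal.Fiber (S ⧸ Ideal.span {1 - e})).toRingHom) :=
    ⟨⟨_, Ideal.comap_isPrime _ _⟩, rfl⟩
  rw [← fd_eq_dim_of_minimal R (S ⧸ Ideal.span {1 - e}) p.asIdeal q' P hP hq'.symm]
  haveI := IsLocalization.Away.quotient_of_isIdempotentElem he
  haveI : IsOpenImmersion (sp S (S ⧸ Ideal.span {1 - e})) := IsOpenImmersion.of_isLocalization e
  have hcomp : sp R (S ⧸ Ideal.span {1 - e}) = sp S (S ⧸ Ideal.span {1 - e}) ≫ sp R S := by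
    rw [← Spec.map_comp, ← CommRingCat.ofHom_comp, ← IsScalarTower.algebraMap_eq]
  have h2 : fd R (S ⧸ Ideal.span {1 - e}) q' =
      fd R S (PrimeSpectrum.comap (algebraMap S (S ⧸ Ideal.span {1 - e})) q') := by
    unfold fd
    rw [hcomp]
    exact Groth.Agent.Lib.Helper73.FibreDimRetro.fibreDimAt_comp_openImmersion
      (sp S (S ⧸ Ideal.span {1 - e})) (sp R S) _
  rw [h2]
  apply hD
  intro hmem
  have h1 : algebraMap S (S ⧸ Ideal.span {1 - e}) e = 1 := by
    rw [← sub_eq_zero, ← map_one (algebraMap S (S ⧸ Ideal.span {1 - e})), ← map_sub]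
    change Ideal.Quotient.mk _ (e - 1) = 0
    rw [Ideal.Quotient.eq_zero_iff_mem]
    have : e - 1 = -(1 - e) := by ring
    rw [this]
    exact neg_mem (Ideal.subset_span rfl)
  have h3 : algebraMap S (S ⧸ Ideal.span {1 - e}) e ∈ q'.asIdeal := hmem
  rw [h1] at h3
  exact q'.isPrime.ne_top ((Ideal.eq_top_iff_one _).2 h3)

end Pi

/-- natural number attached to a value -/
noncomputable def natOf (v : WithBot ℕ∞) : ℕ := (WithBot.unbotD 0 v).toNat

theorem natOf_cast (n : ℕ) : natOf (n : WithBot ℕ∞) = n := by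
  simp [natOf]

/-- A flat, finitely presented ring map R → S whose fibre rings κ(p) ⊗ S are Cohen–Macaulay decomposes S
as a finite product of R-algebras S_d (d = 0, …, N), each again flat, finitely presented with
Cohen–Macaulay fibres, and with every irreducible component of every fibre of S_d of dimension d. -/
theorem result (R S : Type u) [CommRing R]
    [CommRing S] [Algebra R S] [Module.Flat R S] [Algebra.FinitePresentation R S]
    (hCM : ∀ p : PrimeSpectrum R, LocCoh.IsCohenMacaulayRing (p.asIdeal.Fiber S)) :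
    ∃ (N : ℕ) (T : Fin (N + 1) → Type u) (_ : ∀ d, CommRing (T d)) (_ : ∀ d, Algebra R (T d)),
      Nonempty (S ≃ₐ[R] ((d : Fin (N + 1)) → T d)) ∧
        ∀ d : Fin (N + 1), Module.Flat R (T d) ∧ Algebra.FinitePresentation R (T d) ∧
          (∀ p : PrimeSpectrum R, LocCoh.IsCohenMacaulayRing (p.asIdeal.Fiber (T d))) ∧
          ∀ (p : PrimeSpectrum R), ∀ P ∈ minimalPrimes (p.asIdeal.Fiber (T d)),
            ringKrullDim (p.asIdeal.Fiber (T d) ⧸ P) = ((d : ℕ) : WithBot ℕ∞) := by
  classical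
  haveI := flat_sp R S
  haveI := lfp_sp R S
  have hD : IsLocallyConstant (fd R S) :=
    Groth.Agent.S9374.result (sp R S) (fun x => isCMAt_Spec R S hCM x)
  have hfin : (Set.range (fd R S)).Finite := hD.range_finite
  obtain ⟨N, hN⟩ : ∃ N : ℕ, ∀ q, natOf (fd R S q) ≤ N :=
    ⟨hfin.toFinset.sup natOf, fun q =>
      Finset.le_sup (f := natOf) (hfin.mem_toFinset.2 ⟨q, rfl⟩)⟩
  have hex : ∀ d : Fin (N + 1), ∃ e : S, IsIdempotentElem e ∧
      {q | fd R S q = ((d : ℕ) : WithBot ℕ∞)} =
        (PrimeSpectrum.basicOpen e : Set (PrimeSpectrum S)) :=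
    fun d => PrimeSpectrum.exists_idempotent_basicOpen_eq_of_isClopen (hD.isClopen_fiber _)
  choose e he_idem he_Z using hex
  have hmemZ : ∀ (d : Fin (N + 1)) (q : PrimeSpectrum S),
      e d ∉ q.asIdeal ↔ fd R S q = ((d : ℕ) : WithBot ℕ∞) := by
    intro d q
    have : q ∈ {q | fd R S q = ((d : ℕ) : WithBot ℕ∞)} ↔
        q ∈ (PrimeSpectrum.basicOpen (e d) : Set (PrimeSpectrum S)) := by
      rw [he_Z d]
    rw [SetLike.mem_coe, PrimeSpectrum.mem_basicOpen] at this
    exact this.symm
  have hcover : ∀ q : PrimeSpectrum S, ∃ d : Fin (N + 1), e d ∉ q.asIdeal := by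
    intro q
    obtain ⟨n, hn⟩ := fd_nat R S q
    have hle : n ≤ N := by
      have := hN q
      rwa [hn, natOf_cast] at this
    exact ⟨⟨n, Nat.lt_succ_of_le hle⟩, (hmemZ _ q).2 hn⟩
  have hortho : Pairwise (fun i j => e i * e j = 0) := by
    intro i j hij
    apply IsIdempotentElem.eq_zero_of_isNilpotent ((he_idem i).mul (he_idem j))
    rw [nilpotent_iff_mem_prime]
    intro J hJ
    by_contra hmem
    have hi : e i ∉ J := fun h => hmem (J.mul_mem_right _ h)
    have hj : e j ∉ J := fun h => hmem (J.mul_mem_left _ h)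
    have h1 := (hmemZ i ⟨J, hJ⟩).1 hi
    have h2 := (hmemZ j ⟨J, hJ⟩).1 hj
    rw [h1] at h2
    have : (i : ℕ) = (j : ℕ) := by exact_mod_cast h2
    exact hij (Fin.ext this)
  have hOI : OrthogonalIdempotents e := ⟨he_idem, hortho⟩
  have hsum : ∑ i, e i = 1 := by
    have hidem : IsIdempotentElem (1 - ∑ i, e i) :=
      (hOI.isIdempotentElem_sum (s := Finset.univ)).one_sub
    have hnil : IsNilpotent (1 - ∑ i, e i) := by
      rw [nilpotent_iff_mem_prime]
      intro J hJ
      obtain ⟨d, hd⟩ := hcover ⟨J, hJ⟩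
      have h0 : e d * (1 - ∑ i, e i) = 0 := by
        rw [mul_sub, mul_one, hOI.mul_sum_of_mem (Finset.mem_univ d), sub_self]
      have : e d * (1 - ∑ i, e i) ∈ J := by rw [h0]; exact J.zero_mem
      exact (hJ.mem_or_mem this).resolve_left hd
    have := hidem.eq_zero_of_isNilpotent hnil
    exact (sub_eq_zero.1 this).symm
  have hCOI : CompleteOrthogonalIdempotents e := ⟨hOI, hsum⟩
  have hbij := hCOI.bijective_pi
  let E : S ≃ₐ[R] ((d : Fin (N + 1)) → S ⧸ Ideal.span {1 - e d}) :=
    AlgEquiv.ofBijective (Pi.algHom R (fun d => S ⧸ Ideal.span {1 - e d})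
      (fun d => Ideal.Quotient.mkₐ R (Ideal.span {1 - e d}))) hbij
  refine ⟨N, fun d => S ⧸ Ideal.span {1 - e d}, fun d => inferInstance, fun d => inferInstance,
    ⟨E⟩, ?_⟩
  intro d
  refine ⟨flat_quot R S (e d) (he_idem d), fp_quot R S (e d), ?_, ?_⟩
  · intro p
    exact isCM_fibre_factor R S (fun d => S ⧸ Ideal.span {1 - e d}) E p (hCM p) d
  · intro p P hP
    exact dim_of_minimal R S (e d) (he_idem d) (d : ℕ) (fun q hq => (hmemZ d q).1 hq) p P hP

end Groth.Agent.S9165
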