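import Groth.Statements.S9166
import Mathlib

set_option autoImplicit false
universe u
open CAlg

namespace Groth.Agent.S9166

open TensorProduct in
theorem mem_smul_ker_of_flat {R N P : Type*} [CommRing R] [AddCommGroup N] [Module R N]
    [AddCommGroup P] [Module R P] [Module.Flat R P] (f : N →ₗ[R] P) (hf : Function.Surjective f)
    (I : Ideal R) (x : N) (hx : f x = 0) (hxI : x ∈ I • (⊤ : Submodule R N)) :
    x ∈ I • LinearMap.ker f := by
  have hinj := LinearMap.lTensor_injective_of_exact_of_flat f hf (LinearMap.ker f).subtype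
    (Submodule.subtype_injective _) (LinearMap.exact_subtype_ker_map f) (R ⧸ I)
  have h1 : (LinearMap.ker f).subtype.lTensor (R ⧸ I) ((1 : R ⧸ I) ⊗ₜ ⟨x, hx⟩) = 0 := by
    rw [LinearMap.lTensor_tmul, Submodule.subtype_apply]
    have : (1 : R ⧸ I) ⊗ₜ[R] x =
        (TensorProduct.quotTensorEquivQuotSMul N I).symm (Submodule.Quotient.mk x) := rfl
    rw [this, (Submodule.Quotient.mk_eq_zero _).mpr hxI, map_zero]
  have h2 : (1 : R ⧸ I) ⊗ₜ[R] (⟨x, hx⟩ : LinearMap.ker f) = 0 := hinj (by rw [h1, map_zero])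
  have h3 := congrArg (TensorProduct.quotTensorEquivQuotSMul (LinearMap.ker f) I) h2
  rw [TensorProduct.quotTensorEquivQuotSMul_mk_one_tmul, map_zero,
    Submodule.Quotient.mk_eq_zero] at h3
  have := Submodule.mem_map_of_mem (f := (LinearMap.ker f).subtype) h3
  rwa [Submodule.map_smul'', Submodule.map_subtype_top] at this

theorem result (R S S' : Type u) [CommRing R] [CommRing S]
    [CommRing S'] [Algebra R S] [Algebra R S'] [Algebra.FiniteType R S] [Algebra.FinitePresentation R S']
    (I : Ideal R) (f : S →ₐ[R] S') (hf : Function.Surjective f) (q : Ideal S) [q.IsPrime]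
    (hq : I.map (algebraMap R S) ≤ q)
    (hker : ∀ j : S, f j = 0 →
      algebraMap S (Localization.AtPrime q) j ∈ I.map (algebraMap R (Localization.AtPrime q)))
    (hflat : letI : Module S S' := f.toRingHom.toModule
      Module.Flat R (LocalizedModule q.primeCompl S')) :
    ∃ g : S, g ∉ q ∧ Function.Bijective (Localization.awayMap f.toRingHom g) := by
  classical
  letI : Module S S' := f.toRingHom.toModule
  have hsmul : ∀ (a : S) (x : S'), a • x = f a * x := fun a x => rfl
  obtain ⟨J, hJ⟩ : ∃ J : Ideal S, J = RingHom.ker f.toRingHom := ⟨_, rfl⟩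
  have memJ : ∀ j, j ∈ J ↔ f j = 0 := by
    intro j; rw [hJ]; exact RingHom.mem_ker
  have hJfg : J.FG := by
    letI : Algebra S S' := f.toRingHom.toAlgebra
    have : IsScalarTower R S S' := IsScalarTower.of_algebraMap_eq (fun x => (f.commutes x).symm)
    have : Algebra.FinitePresentation S S' :=
      Algebra.FinitePresentation.of_restrict_scalars_finitePresentation R _ _
    have := Algebra.FinitePresentation.ker_fG_of_surjective (Algebra.ofId S S') hf
    exact hJ ▸ this
  -- the map π
  obtain ⟨m0, hm0⟩ : ∃ m0 : LocalizedModule q.primeCompl S', m0 = LocalizedModule.mk 1 1 := ⟨_, rfl⟩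
  obtain ⟨πq, hπq⟩ : ∃ πq : Localization.AtPrime q →ₗ[Localization.AtPrime q]
    LocalizedModule q.primeCompl S', πq = LinearMap.toSpanSingleton _ _ m0 := ⟨_, rfl⟩
  have hπmk : ∀ (a : S) (u : q.primeCompl), πq (Localization.mk a u) = LocalizedModule.mk (f a) u := by
    intro a u
    rw [hπq, LinearMap.toSpanSingleton_apply, hm0, LocalizedModule.mk_smul_mk, hsmul, mul_one, mul_one]
  have hπsurj : Function.Surjective πq := by
    intro m
    induction m using LocalizedModule.induction_on with
    | _ s' t =>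
      obtain ⟨a, rfl⟩ := hf s'
      exact ⟨Localization.mk a t, hπmk a t⟩
  obtain ⟨Jq, hJq⟩ : ∃ Jq : Ideal (Localization.AtPrime q), Jq = LinearMap.ker πq := ⟨_, rfl⟩
  have hJqeq : Jq = J.map (algebraMap S (Localization.AtPrime q)) := by
    apply le_antisymm
    · intro x hx
      rw [hJq, LinearMap.mem_ker] at hx
      obtain ⟨a, v, rfl⟩ := IsLocalization.exists_mk'_eq q.primeCompl x
      rw [← Localization.mk_eq_mk', hπmk, ← LocalizedModule.zero_mk v, LocalizedModule.mk_eq] at hx
      obtain ⟨t, ht⟩ := hx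
      rw [smul_zero, smul_zero] at ht
      rw [IsLocalization.mk'_mem_map_algebraMap_iff]
      refine ⟨t * v, (t * v).2, ?_⟩
      rw [memJ]
      have h1 : (t : S) • (v : S) • f a = 0 := ht
      rw [hsmul, hsmul, ← mul_assoc, ← map_mul, ← map_mul] at h1
      exact h1
    · rw [Ideal.map_le_iff_le_comap]
      intro j hj
      rw [Ideal.mem_comap, hJq, LinearMap.mem_ker, ← Localization.mk_one_eq_algebraMap, hπmk,
        (memJ j).mp hj, LocalizedModule.zero_mk]
  have hJqfg : Jq.FG := hJqeq ▸ hJfg.map _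
  have hJqI : Jq ≤ I.map (algebraMap R (Localization.AtPrime q)) := by
    rw [hJqeq, Ideal.map_le_iff_le_comap]
    intro j hj
    exact hker j ((memJ j).mp hj)
  have hIjac : I.map (algebraMap R (Localization.AtPrime q)) ≤ (⊥ : Ideal (Localization.AtPrime q)).jacobson := by
    rw [IsLocalRing.jacobson_eq_maximalIdeal ⊥ bot_ne_top, Ideal.map_le_iff_le_comap]
    intro r hr
    rw [Ideal.mem_comap, IsScalarTower.algebraMap_apply R S (Localization.AtPrime q),
      IsLocalization.AtPrime.to_map_mem_maximal_iff (Localization.AtPrime q) q]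
    exact hq (Ideal.mem_map_of_mem _ hr)
  have hNak : Jq ≤ I.map (algebraMap R (Localization.AtPrime q)) • Jq := by
    intro x hx
    have hxI : x ∈ I • (⊤ : Submodule R (Localization.AtPrime q)) := by
      rw [Ideal.smul_top_eq_map]; exact hJqI hx
    have hπx : (πq.restrictScalars R) x = 0 := by
      rw [hJq, LinearMap.mem_ker] at hx; exact hx
    have := mem_smul_ker_of_flat (πq.restrictScalars R) hπsurj I x hπx hxI
    refine Submodule.smul_induction_on (p := fun y => y ∈ I.map (algebraMap R (Localization.AtPrime q)) • Jq) this ?_ ?_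
    · intro r hr n hn
      rw [Algebra.smul_def, smul_eq_mul]
      refine Ideal.mul_mem_mul (Ideal.mem_map_of_mem _ hr) ?_
      rw [hJq]; exact hn
    · intro y z hy hz; exact Submodule.add_mem _ hy hz
  have hJq0 : Jq = ⊥ := Submodule.eq_bot_of_le_smul_of_le_jacobson_bot _ Jq hJqfg hNak hIjac
  -- each j ∈ J killed
  have hkill : ∀ j ∈ J, ∃ t : S, t ∉ q ∧ t * j = 0 := by
    intro j hj
    have : algebraMap S (Localization.AtPrime q) j = 0 := by
      have : algebraMap S (Localization.AtPrime q) j ∈ Jq := by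
        rw [hJqeq]; exact Ideal.mem_map_of_mem _ hj
      rwa [hJq0, Ideal.mem_bot] at this
    obtain ⟨t, ht⟩ := (IsLocalization.map_eq_zero_iff q.primeCompl (Localization.AtPrime q) j).mp this
    exact ⟨t, t.2, ht⟩
  obtain ⟨G, hG⟩ := hJfg
  have hGJ : ∀ j ∈ G, j ∈ J := fun j hj => hG ▸ Ideal.subset_span hj
  choose! t ht1 ht2 using hkill
  refine ⟨∏ j ∈ G, t j, ?_, ?_, ?_⟩
  · intro hmem
    obtain ⟨j, hj, hjq⟩ := (Ideal.IsPrime.prod_mem_iff).mp hmem
    exact ht1 j (hGJ j hj) hjq
  · rw [Localization.awayMap_injective_iff]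
    intro a ha
    refine ⟨1, ?_⟩
    rw [pow_one]
    have haJ : a ∈ J := (memJ a).mpr ha
    rw [← hG] at haJ
    refine Submodule.span_induction (p := fun y _ => (∏ j ∈ G, t j) * y = 0) ?_ ?_ ?_ ?_ haJ
    · intro y hy
      rw [← Finset.mul_prod_erase G t hy, mul_comm (t y), mul_assoc, ht2 y (hGJ y hy), mul_zero]
    · exact mul_zero _
    · intro y z _ _ hy hz; rw [mul_add, hy, hz, add_zero]
    · intro c y _ hy; rw [smul_eq_mul, mul_left_comm, hy, mul_zero]
  · rw [Localization.awayMap_surjective_iff]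
    intro a
    obtain ⟨b, hb⟩ := hf a
    exact ⟨b, 0, by simpa using hb⟩

end Groth.Agent.S9166
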