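import Groth.Statements.S9167
import Mathlib

set_option autoImplicit false
universe u
open CAlg

namespace Groth.Agent.S9167

theorem isBaseChange_quot {R : Type u} [CommRing R] {R' : Type u} [CommRing R'] [Algebra R R']
    {n q : ℕ} (rr : Fin q → (Fin n → R)) (K : Submodule R' (Fin n → R'))
    (hK : K = Submodule.span R' (Set.range fun j => (fun i => algebraMap R R' (rr j i)))) :
    ∃ f : ((Fin n → R) ⧸ Submodule.span R (Set.range rr)) →ₗ[R] ((Fin n → R') ⧸ K),
      IsBaseChange R' f := by
  classical
  let Φ : (Fin n → R) →ₗ[R] (Fin n → R') := (Algebra.linearMap R R').compLeft (Fin n)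
  have hΦ : ∀ v i, Φ v i = algebraMap R R' (v i) := fun v i => rfl
  have hΦsingle : ∀ i, Φ (Pi.single i 1) = Pi.single i 1 := by
    intro i
    funext l
    rw [hΦ]
    by_cases h : l = i
    · subst h; simp
    · simp [Pi.single_eq_of_ne h]
  have hle : Submodule.span R (Set.range rr) ≤
      LinearMap.ker ((K.mkQ.restrictScalars R) ∘ₗ Φ) := by
    rw [Submodule.span_le]
    rintro _ ⟨j, rfl⟩
    rw [SetLike.mem_coe, LinearMap.mem_ker, LinearMap.comp_apply, LinearMap.restrictScalars_apply,
      Submodule.mkQ_apply, Submodule.Quotient.mk_eq_zero, hK]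
    exact Submodule.subset_span ⟨j, rfl⟩
  let f := (Submodule.span R (Set.range rr)).liftQ ((K.mkQ.restrictScalars R) ∘ₗ Φ) hle
  have hf : ∀ v, f (Submodule.Quotient.mk v) = Submodule.Quotient.mk (Φ v) := fun v => rfl
  refine ⟨f, IsBaseChange.of_lift_unique f ?_⟩
  intro Q _ _ _ _ g
  let _ : AddCommGroup Q := Module.addCommMonoidToAddCommGroup R'
  let G : (Fin n → R') →ₗ[R'] Q :=
    Fintype.linearCombination R' (fun i => g (Submodule.Quotient.mk (Pi.single i 1)))
  have hGK : K ≤ LinearMap.ker G := by
    rw [hK, Submodule.span_le]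
    rintro _ ⟨j, rfl⟩
    rw [SetLike.mem_coe, LinearMap.mem_ker, Fintype.linearCombination_apply]
    simp only [algebraMap_smul]
    simp_rw [← map_smul]
    rw [← map_sum]
    have : ∑ i, rr j i • (Submodule.Quotient.mk (Pi.single i 1) :
        (Fin n → R) ⧸ Submodule.span R (Set.range rr)) = 0 := by
      have h2 : ∑ i, rr j i • (Pi.single i 1 : Fin n → R) = rr j := by
        funext l
        simp [Finset.sum_apply, Pi.single_apply]
      have h3 := congrArg (Submodule.mkQ (Submodule.span R (Set.range rr))) h2
      rw [map_sum] at h3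
      simp only [map_smul, Submodule.mkQ_apply] at h3
      rw [h3, Submodule.Quotient.mk_eq_zero]
      exact Submodule.subset_span ⟨j, rfl⟩
    rw [this, map_zero]
  refine ⟨K.liftQ G hGK, ?_, ?_⟩
  · apply Submodule.linearMap_qext
    apply LinearMap.pi_ext'
    intro i
    apply LinearMap.ext_ring
    simp only [LinearMap.comp_apply, LinearMap.restrictScalars_apply, Submodule.mkQ_apply,
      LinearMap.coe_single, hf, hΦsingle, Submodule.liftQ_apply, G,
      Fintype.linearCombination_apply_single, one_smul]
  · intro g'' hg''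
    apply Submodule.linearMap_qext
    apply LinearMap.pi_ext'
    intro i
    apply LinearMap.ext_ring
    have := LinearMap.congr_fun hg'' (Submodule.Quotient.mk (Pi.single i 1))
    simp only [LinearMap.comp_apply, LinearMap.restrictScalars_apply, hf, hΦsingle] at this
    simp only [LinearMap.comp_apply, Submodule.mkQ_apply, LinearMap.coe_single,
      Submodule.liftQ_apply, G, Fintype.linearCombination_apply_single, one_smul]
    exact this

/-- With R' = S⁻¹(R/I), every finitely presented R'-module is of the form S⁻¹(M/IM) for some finitely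
presented R-module M. -/
theorem result (R : Type u) [CommRing R] (I : Ideal R)
    (S : Submonoid R) (M' : Type u) [AddCommGroup M']
    [Module (Localization (S.map (Ideal.Quotient.mk I))) M']
    [Module.FinitePresentation (Localization (S.map (Ideal.Quotient.mk I))) M'] :
    ∃ (M : Type u) (_ : AddCommGroup M) (_ : Module R M), Module.FinitePresentation R M ∧
      Nonempty (LocalizedModule (S.map (Ideal.Quotient.mk I)) (M ⧸ (I • ⊤ : Submodule R M))
        ≃ₗ[Localization (S.map (Ideal.Quotient.mk I))] M') := by
  classical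
  obtain ⟨n, K, e, hKfg⟩ :=
    Module.FinitePresentation.exists_fin (Localization (S.map (Ideal.Quotient.mk I))) M'
  obtain ⟨q, kk, hkk⟩ := Submodule.fg_iff_exists_fin_generating_family.mp hKfg
  obtain ⟨b, hb⟩ := IsLocalization.exist_integer_multiples_of_finite
    (S.map (Ideal.Quotient.mk I)) (fun ji : Fin q × Fin n => kk ji.1 ji.2)
  choose rbar hrbar using hb
  have hsurj := Ideal.Quotient.mk_surjective (I := I)
  choose rr0 hrr0 using fun ji => hsurj (rbar ji)
  let rr : Fin q → Fin n → R := fun j i => rr0 (j, i)
  have hrr : ∀ j i, algebraMap R (Localization (S.map (Ideal.Quotient.mk I))) (rr j i) =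
      algebraMap (R ⧸ I) (Localization (S.map (Ideal.Quotient.mk I))) b * kk j i := by
    intro j i
    rw [IsScalarTower.algebraMap_apply R (R ⧸ I) (Localization (S.map (Ideal.Quotient.mk I))),
      Ideal.Quotient.algebraMap_eq, hrr0, hrbar, Algebra.smul_def]
  have hunit : IsUnit (algebraMap (R ⧸ I) (Localization (S.map (Ideal.Quotient.mk I))) b) :=
    IsLocalization.map_units _ b
  have hK : K = Submodule.span (Localization (S.map (Ideal.Quotient.mk I)))
      (Set.range fun j => (fun i =>
        algebraMap R (Localization (S.map (Ideal.Quotient.mk I))) (rr j i))) := by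
    rw [← hkk]
    apply le_antisymm
    · rw [Submodule.span_le]
      rintro _ ⟨j, rfl⟩
      have : kk j = ((hunit.unit⁻¹ : (Localization (S.map (Ideal.Quotient.mk I)))ˣ) :
          Localization (S.map (Ideal.Quotient.mk I))) •
            (fun i => algebraMap R (Localization (S.map (Ideal.Quotient.mk I))) (rr j i)) := by
        funext i
        simp only [Pi.smul_apply, smul_eq_mul, hrr]
        rw [← mul_assoc, IsUnit.val_inv_mul, one_mul]
      rw [this]
      exact Submodule.smul_mem _ _ (Submodule.subset_span ⟨j, rfl⟩)
    · rw [Submodule.span_le]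
      rintro _ ⟨j, rfl⟩
      have : (fun i => algebraMap R (Localization (S.map (Ideal.Quotient.mk I))) (rr j i)) =
          (algebraMap (R ⧸ I) (Localization (S.map (Ideal.Quotient.mk I))) b) • kk j := by
        funext i
        simp only [Pi.smul_apply, smul_eq_mul, hrr]
      show (fun i => algebraMap R (Localization (S.map (Ideal.Quotient.mk I))) (rr j i)) ∈ _
      rw [this]
      exact Submodule.smul_mem _ _ (Submodule.subset_span ⟨j, rfl⟩)
  obtain ⟨f, hf⟩ := isBaseChange_quot rr K hK
  refine ⟨(Fin n → R) ⧸ Submodule.span R (Set.range rr), inferInstance, inferInstance, ?_, ?_⟩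
  · exact Module.finitePresentation_of_surjective (Submodule.mkQ _) (Submodule.mkQ_surjective _)
      (by rw [Submodule.ker_mkQ]; exact Submodule.fg_span (Set.finite_range rr))
  · have h1 : IsBaseChange (R ⧸ I) ((I • ⊤ : Submodule R
        ((Fin n → R) ⧸ Submodule.span R (Set.range rr))).mkQ) := by
      refine IsBaseChange.of_equiv ((TensorProduct.quotTensorEquivQuotSMul
        ((Fin n → R) ⧸ Submodule.span R (Set.range rr)) I).extendScalarsOfSurjective
          Ideal.Quotient.mk_surjective) ?_
      intro x
      simp
    have h2 := LocalizedModule.isBaseChange (S.map (Ideal.Quotient.mk I))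
      (((Fin n → R) ⧸ Submodule.span R (Set.range rr)) ⧸ (I • ⊤ : Submodule R
        ((Fin n → R) ⧸ Submodule.span R (Set.range rr))))
    have h3 := h1.comp h2
    exact ⟨h3.equiv.symm ≪≫ₗ hf.equiv ≪≫ₗ e.symm⟩

end Groth.Agent.S9167
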