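import Groth.Statements.S9168
import Mathlib

set_option autoImplicit false
universe u
open CAlg

namespace Groth.Agent.S9168

section
variable {T : Type u} [CommRing T]

/-- the "localization inside `T`" of a subring at the elements that are units of `T` -/
def loc (T₁ : Subring T) : Subring T where
  carrier := {x | ∃ a ∈ T₁, ∃ b ∈ T₁, IsUnit b ∧ x * b = a}
  mul_mem' := by
    rintro x y ⟨a, ha, b, hb, ub, hab⟩ ⟨c, hc, d, hd, ud, hcd⟩
    exact ⟨a * c, mul_mem ha hc, b * d, mul_mem hb hd, ub.mul ud, by rw [← hab, ← hcd]; ring⟩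
  one_mem' := ⟨1, one_mem _, 1, one_mem _, isUnit_one, by simp⟩
  add_mem' := by
    rintro x y ⟨a, ha, b, hb, ub, hab⟩ ⟨c, hc, d, hd, ud, hcd⟩
    exact ⟨a * d + c * b, add_mem (mul_mem ha hd) (mul_mem hc hb), b * d, mul_mem hb hd,
      ub.mul ud, by rw [← hab, ← hcd]; ring⟩
  zero_mem' := ⟨0, zero_mem _, 1, one_mem _, isUnit_one, by simp⟩
  neg_mem' := by
    rintro x ⟨a, ha, b, hb, ub, hab⟩
    exact ⟨-a, neg_mem ha, b, hb, ub, by rw [← hab]; ring⟩

lemma mem_loc (T₁ : Subring T) (x : T) :
    x ∈ loc T₁ ↔ ∃ a ∈ T₁, ∃ b ∈ T₁, IsUnit b ∧ x * b = a := Iff.rfl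

lemma le_loc (T₁ : Subring T) : T₁ ≤ loc T₁ :=
  fun x hx => ⟨x, hx, 1, one_mem _, isUnit_one, by simp⟩

lemma isUnit_loc (T₁ : Subring T) (x : loc T₁) (hx : IsUnit (x : T)) : IsUnit x := by
  obtain ⟨a, ha, b, hb, ub, hab⟩ := x.2
  have ua : IsUnit a := hab ▸ hx.mul ub
  obtain ⟨y, hy⟩ := hx.exists_right_inv
  have hya : y * a = b := by
    rw [← hab]
    calc y * (x * b) = (x * y) * b := by ring
      _ = b := by rw [hy, one_mul]
  exact isUnit_iff_exists_inv.mpr ⟨⟨y, ⟨b, hb, a, ha, ua, hya⟩⟩, Subtype.ext hy⟩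

instance isLocalHom_loc (T₁ : Subring T) : IsLocalHom (loc T₁).subtype :=
  ⟨fun x hx => isUnit_loc T₁ x hx⟩

instance isLocalRing_loc [IsLocalRing T] (T₁ : Subring T) : IsLocalRing (loc T₁) :=
  RingHom.domain_isLocalRing (loc T₁).subtype

variable {A : Type*} [CommRing A] (g : A →+* T) (F : Finset T)

/-- the subring generated by the image of `g` and `F` -/
def gen : Subring T := Subring.closure (Set.range g ∪ (F : Set T))

lemma g_mem (a : A) : g a ∈ loc (gen g F) :=
  le_loc _ (Subring.subset_closure (Or.inl ⟨a, rfl⟩))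

lemma F_sub : (F : Set T) ⊆ loc (gen g F) :=
  fun x hx => le_loc _ (Subring.subset_closure (Or.inr hx))

/-- `g` corestricted -/
def g₀ : A →+* loc (gen g F) := g.codRestrict _ (g_mem g F)

lemma essFT : (g₀ g F).EssFiniteType := by
  classical
  letI : Algebra A (loc (gen g F)) := (g₀ g F).toAlgebra
  show Algebra.EssFiniteType A (loc (gen g F))
  rw [Algebra.essFiniteType_iff]
  let σ : Finset (loc (gen g F)) := F.attach.image (fun x => ⟨x.1, F_sub g F x.2⟩)
  refine ⟨σ, ?_⟩
  have key : ∀ y (hy : y ∈ gen g F), (⟨y, le_loc _ hy⟩ : loc (gen g F)) ∈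
      Algebra.adjoin A (σ : Set (loc (gen g F))) := by
    intro y hy
    induction hy using Subring.closure_induction with
    | mem y hy =>
      rcases hy with ⟨a, rfl⟩ | hy
      · exact (Algebra.adjoin A _).algebraMap_mem a
      · apply Algebra.subset_adjoin
        simp only [σ, Finset.coe_image, Set.mem_image, Finset.mem_coe, Finset.mem_attach, true_and,
          Subtype.exists]
        exact ⟨y, hy, rfl⟩
    | zero => exact zero_mem _
    | one => exact one_mem _
    | add x y hx hy h1 h2 => exact add_mem h1 h2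
    | neg x hx h1 => exact neg_mem h1
    | mul x y hx hy h1 h2 => exact mul_mem h1 h2
  intro x
  obtain ⟨a, ha, b, hb, ub, hab⟩ := x.2
  refine ⟨⟨b, le_loc _ hb⟩, key b hb, isUnit_loc _ _ ub, ?_⟩
  have : x * ⟨b, le_loc _ hb⟩ = ⟨a, le_loc _ ha⟩ := Subtype.ext hab
  rw [this]
  exact key a ha

end

/-- For a local homomorphism of local rings R → S and finite subsets E ⊆ R, F ⊆ S there are local
subrings R₀ ⊆ R and S₀ ⊆ S containing E and F, with R → S mapping R₀ into S₀, such that the
inclusions and the induced map R₀ → S₀ are local homomorphisms, R₀ is essentially of finite type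
over ℤ and S₀ is essentially of finite type over R₀. (So R → S is the directed colimit of such R₀ →
S₀.) -/
theorem result (R S : Type u) [CommRing R] [CommRing S] [IsLocalRing R]
    [IsLocalRing S] [Algebra R S] [IsLocalHom (algebraMap R S)] (E : Finset R) (F : Finset S) :
    ∃ (R₀ : Subring R) (S₀ : Subring S) (h : ∀ x ∈ R₀, algebraMap R S x ∈ S₀),
      (E : Set R) ⊆ R₀ ∧ (F : Set S) ⊆ S₀ ∧ ∃ (_ : IsLocalRing R₀) (_ : IsLocalRing S₀),
        IsLocalHom R₀.subtype ∧ IsLocalHom S₀.subtype ∧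
          IsLocalHom ((algebraMap R S).restrict R₀ S₀ h) ∧
          (algebraMap ℤ R₀).EssFiniteType ∧ ((algebraMap R S).restrict R₀ S₀ h).EssFiniteType := by
  let R₀ : Subring R := loc (gen (Int.castRingHom R) E)
  let gS : R₀ →+* S := (algebraMap R S).comp R₀.subtype
  let S₀ : Subring S := loc (gen gS F)
  have h : ∀ x ∈ R₀, algebraMap R S x ∈ S₀ := fun x hx => g_mem gS F ⟨x, hx⟩
  refine ⟨R₀, S₀, h, F_sub _ E, F_sub gS F, inferInstance, inferInstance, inferInstance,
    inferInstance, ?_, ?_, ?_⟩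
  · constructor
    intro x hx
    have h1 : IsUnit (algebraMap R S (x : R)) := by
      have := hx.map S₀.subtype
      simpa using this
    have h2 : IsUnit (x : R) := isUnit_of_map_unit (algebraMap R S) _ h1
    exact isUnit_loc _ x h2
  · have := essFT (Int.castRingHom R) E
    convert this
    exact Subsingleton.elim _ _
  · have := essFT gS F
    convert this
    ext x
    rfl

end Groth.Agent.S9168
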