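import Groth.Statements.S9171
import Mathlib
import Groth.Agent.Lib.Helper65.CIPres4
import Groth.Agent.Lib.Helper65.CIPres5

set_option autoImplicit false
universe u
open Synt

namespace Groth.Agent.S9171

open IsLocalRing RingTheory.Sequence Groth.Agent.Lib.Helper28.CMAux
  Groth.Agent.Lib.Helper65.CIPres

section

variable (k : Type u) [Field k] (n : ℕ) (I : Ideal (MvPolynomial (Fin n) k))
  (q : Ideal (MvPolynomial (Fin n) k ⧸ I)) [q.IsPrime]

local notation "Pn" => MvPolynomial (Fin n) k
local notation "q'" => Ideal.comap (Ideal.Quotient.mk I) q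
local notation "Lq" => Localization.AtPrime (Ideal.comap (Ideal.Quotient.mk I) q)

/-- (1) ⇔ the complete intersection inequality at `q'` -/
theorem exists_away_iff_isCI :
    (∃ g : Pn ⧸ I, g ∉ q ∧ Synt.IsGlobalCI k (Localization.Away g)) ↔
      IsCI Lq (I.map (algebraMap Pn Lq)) := by
  constructor
  · rintro ⟨g, hgq, hg⟩
    have hdisj : Disjoint (Submonoid.powers g : Set (Pn ⧸ I)) (q : Set (Pn ⧸ I)) := by
      rw [Set.disjoint_left]
      rintro x ⟨m, rfl⟩ hx
      exact hgq (Ideal.IsPrime.mem_of_pow_mem inferInstance m hx)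
    haveI hp : (q.map (algebraMap (Pn ⧸ I) (Localization.Away g))).IsPrime :=
      IsLocalization.isPrime_of_isPrime_disjoint (Submonoid.powers g) (Localization.Away g) q
        inferInstance hdisj
    have hpq : (q.map (algebraMap (Pn ⧸ I) (Localization.Away g))).comap
        (algebraMap (Pn ⧸ I) (Localization.Away g)) = q :=
      IsLocalization.comap_map_of_isPrime_disjoint (Submonoid.powers g) (Localization.Away g)
        inferInstance hdisj
    have h1 := isCI_of_isGlobalCI_localization k (Submonoid.powers g) (Ideal.Quotient.mkₐ k I)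
      (Ideal.Quotient.mkₐ_surjective k I) hg (q.map (algebraMap (Pn ⧸ I) (Localization.Away g)))
    have hker : RingHom.ker (Ideal.Quotient.mkₐ k I).toRingHom = I := Ideal.mk_ker
    rw [hker] at h1
    exact isCI_congr (Ideal.Quotient.mk I) I _ q hpq h1
  · exact exists_isGlobalCI_away k n I q

theorem map_ne_top : I.map (algebraMap Pn Lq) ≠ ⊤ :=
  map_ne_top_of_le (q') I (le_comap_mk I q)

/-- the complete intersection inequality ⇔ generated by `c` elements -/
theorem isCI_iff_exists_finset (c : ℕ) (hc : (c : ℕ∞) + q.height = (q').height) :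
    IsCI Lq (I.map (algebraMap Pn Lq)) ↔
      ∃ s : Finset Lq, s.card = c ∧ Ideal.span (s : Set Lq) = I.map (algebraMap Pn Lq) := by
  haveI : IsNoetherianRing Pn := inferInstance
  have hfg : (I.map (algebraMap Pn Lq)).FG := (I.map _).fg_of_isNoetherianRing
  obtain ⟨e, he⟩ : ∃ e : ℕ, q.height = e := by
    have : q.height ≠ ⊤ := Ideal.height_ne_top (Ideal.IsPrime.ne_top inferInstance)
    exact ⟨_, (ENat.coe_toNat this).symm⟩
  obtain ⟨a, ha⟩ : ∃ a : ℕ, (q').height = a := by
    have : (q').height ≠ ⊤ := Ideal.height_ne_top (Ideal.IsPrime.ne_top inferInstance)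
    exact ⟨_, (ENat.coe_toNat this).symm⟩
  rw [he, ha] at hc
  have hc' : c + e = a := by exact_mod_cast hc
  have hkrull := ringKrullDim_le_ringKrullDim_quotient_add_spanFinrank (I.map (algebraMap Pn Lq))
    (by
      rw [IsLocalRing.ringJacobson_eq_maximalIdeal]
      exact IsLocalRing.le_maximalIdeal (map_ne_top k n I q))
  unfold IsCI
  rw [dim_QP_eq_height, IsLocalization.AtPrime.ringKrullDim_eq_height (q') Lq, he, ha] at hkrull ⊢
  have hk' : a ≤ e + (I.map (algebraMap Pn Lq)).spanFinrank := by exact_mod_cast hkrull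
  constructor
  · intro h
    have h' : (I.map (algebraMap Pn Lq)).spanFinrank + e ≤ a := by exact_mod_cast h
    obtain ⟨s, hcard, hspan⟩ := Submodule.FG.exists_span_finset_card_eq_spanFinrank hfg
    exact ⟨s, by omega, hspan⟩
  · rintro ⟨s, hcard, hspan⟩
    have hle : (I.map (algebraMap Pn Lq)).spanFinrank ≤ c := by
      rw [← hspan, ← hcard]
      have := Submodule.spanFinrank_span_le_ncard_of_finite (R := Lq) (Finset.finite_toSet s)
      rwa [Set.ncard_coe_finset] at this
    have : (I.map (algebraMap Pn Lq)).spanFinrank + e ≤ a := by omega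
    exact_mod_cast this

/-- the complete intersection inequality ⇔ generated by a regular sequence -/
theorem isCI_iff_exists_regular :
    IsCI Lq (I.map (algebraMap Pn Lq)) ↔
      ∃ rs : List Lq, IsRegular Lq rs ∧ Ideal.ofList rs = I.map (algebraMap Pn Lq) := by
  haveI : IsRegularRing Pn := inferInstance
  haveI : IsRegularLocalRing Lq := inferInstance
  haveI : LocCoh.IsCohenMacaulayLocalRing Lq := isCM_of_isRegularLocalRing Lq
  exact isCI_iff Lq _ (map_ne_top k n I q)

end

/-- Let S = k[x_1, …, x_n]/I over a field k, q a prime of S, q' the corresponding prime of the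
polynomial ring and c the integer with c + ht(q) = ht(q'). Equivalent: (1) S_g is a global complete
intersection over k for some g ∉ q; (2) the extension of I to the local ring k[x]_{q'} is generated
by c elements; (5) that extension is generated by a regular sequence. Stated as (1) ↔ (2) and (1) ↔
(5). -/
theorem result (k : Type u) [Field k] (n : ℕ)
    (I : Ideal (MvPolynomial (Fin n) k)) (q : Ideal (MvPolynomial (Fin n) k ⧸ I)) [q.IsPrime] (c : ℕ)
    (hc : (c : ℕ∞) + q.height = (q.comap (Ideal.Quotient.mk I)).height) :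
    ((∃ g : MvPolynomial (Fin n) k ⧸ I, g ∉ q ∧ Synt.IsGlobalCI k (Localization.Away g)) ↔
        ∃ s : Finset (Localization.AtPrime (q.comap (Ideal.Quotient.mk I))), s.card = c ∧
          Ideal.span (s : Set _) =
            I.map (algebraMap _ (Localization.AtPrime (q.comap (Ideal.Quotient.mk I))))) ∧
      ((∃ g : MvPolynomial (Fin n) k ⧸ I, g ∉ q ∧ Synt.IsGlobalCI k (Localization.Away g)) ↔
        ∃ rs : List (Localization.AtPrime (q.comap (Ideal.Quotient.mk I))),
          RingTheory.Sequence.IsRegular (Localization.AtPrime (q.comap (Ideal.Quotient.mk I))) rs ∧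
          Ideal.ofList rs =
            I.map (algebraMap _ (Localization.AtPrime (q.comap (Ideal.Quotient.mk I))))) :=
  ⟨(exists_away_iff_isCI k n I q).trans (isCI_iff_exists_finset k n I q c hc),
    (exists_away_iff_isCI k n I q).trans (isCI_iff_exists_regular k n I q)⟩

end Groth.Agent.S9171
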