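import Groth.Statements.S9174
-- import your own Groth.Agent.* helpers here
import Mathlib
import Groth.Agent.Lib.Helper67.FibLoc
import Groth.Agent.Lib.Helper33.CMComp
import Groth.Agent.Lib.Helper73.FibreDimGen
import Groth.Agent.S9159

set_option autoImplicit false
universe u
open CAlg

namespace Groth.Agent.S9174

open TensorProduct CategoryTheory AlgebraicGeometry
open Groth.Agent.Lib.Helper67.FibLoc

theorem key (R S : Type u) [CommRing R] [CommRing S] [Algebra R S] [Algebra.FiniteType R S]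
    (d : ℕ)
    (hCM : ∀ p : PrimeSpectrum R, LocCoh.IsCohenMacaulayRing (p.asIdeal.Fiber S))
    (heq : ∀ p : PrimeSpectrum R, ∀ P ∈ minimalPrimes (p.asIdeal.Fiber S),
      ringKrullDim (p.asIdeal.Fiber S ⧸ P) = (d : WithBot ℕ∞))
    (I : Ideal S) (q' : PrimeSpectrum (S ⧸ I)) (q : Ideal S) [q.IsPrime]
    (hq : q'.asIdeal.comap (Ideal.Quotient.mk I) = q) :
    LocCoh.IsCohenMacaulayLocalRing (EGA4.FibLocRing R S q) ∧
    ∃ δ : ℕ, ringKrullDim (EGA4.FibLocRing R S q) + δ = d ∧
      ringKrullDim (EGA4.FibLocRing R S q ⧸ I.map (algebraMap S (EGA4.FibLocRing R S q))) + δ =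
        FlatMor.fibreDimAt (Spec.map (CommRingCat.ofHom (algebraMap R (S ⧸ I))))
          (show ↥(Spec (CommRingCat.of (S ⧸ I))) from q') := by
  set p : Ideal R := q'.asIdeal.under R with hp
  haveI : p.IsPrime := Ideal.IsPrime.under R q'.asIdeal
  -- the point of the fibre of `S/I`
  set h := PrimeSpectrum.preimageHomeomorphFiber R (S ⧸ I)
    (PrimeSpectrum.comap (algebraMap R (S ⧸ I)) q') with hh
  set Q' : PrimeSpectrum (p.Fiber (S ⧸ I)) := h ⟨q', rfl⟩ with hQ'def
  have hQ' : Q'.asIdeal.comap (Algebra.TensorProduct.includeRight.toRingHom) = q'.asIdeal := by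
    have hq0 : (h.symm (h ⟨q', rfl⟩)) = ⟨q', rfl⟩ := h.symm_apply_apply _
    exact congrArg (fun x => x.1.asIdeal) hq0
  haveI := Q'.2
  let ψ : p.Fiber S →ₐ[p.ResidueField] p.Fiber (S ⧸ I) :=
    Algebra.TensorProduct.map (AlgHom.id _ _) (Ideal.Quotient.mkₐ R I)
  have hψ : Function.Surjective ψ :=
    Algebra.TensorProduct.map_surjective _ _ Function.surjective_id
      (Ideal.Quotient.mkₐ_surjective R I)
  set Q : Ideal (p.Fiber S) := Q'.asIdeal.comap ψ.toRingHom with hQdef
  haveI : Q.IsPrime := Ideal.comap_isPrime _ _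
  have hQ : Q.comap (Algebra.TensorProduct.includeRight : S →ₐ[R] p.Fiber S) = q := by
    rw [← hq, ← hQ']
    ext s
    simp only [Ideal.mem_comap, hQdef]
    have : ψ.toRingHom ((Algebra.TensorProduct.includeRight : S →ₐ[R] p.Fiber S) s) =
        (Algebra.TensorProduct.includeRight : (S ⧸ I) →ₐ[R] p.Fiber (S ⧸ I)).toRingHom
          (Ideal.Quotient.mk I s) := by
      simp [ψ]
    rw [this]
  obtain ⟨e1⟩ := nonempty_ringEquiv p Q q hQ
  obtain ⟨e2⟩ := nonempty_ringEquiv p Q'.asIdeal q'.asIdeal hQ'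
  obtain ⟨e3⟩ := nonempty_ringEquiv_quotient (R := R) I q'.asIdeal q hq
  haveI : Algebra.FiniteType p.ResidueField (p.Fiber S) := inferInstance
  haveI : Algebra.FiniteType p.ResidueField (p.Fiber (S ⧸ I)) := inferInstance
  have hd1 := localDim_eq_of_equidim p.ResidueField (p.Fiber S) d (heq ⟨p, inferInstance⟩) Q
  have hd2 := Groth.Agent.Lib.Helper62.DimLoc.localDim_eq_ringKrullDim_add p.ResidueField
    (p.Fiber (S ⧸ I)) Q'.asIdeal
  have hd3 := ringKrullDim_quotient_comap_of_surjective ψ.toRingHom hψ Q'.asIdeal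
  have hd4 := fibreDimAt_eq_of_comap R (S ⧸ I) q' Q' hQ'
  haveI hcm1 : LocCoh.IsCohenMacaulayLocalRing (Localization.AtPrime Q) :=
    (hCM ⟨p, inferInstance⟩).isCohenMacaulayLocalRing_localization Q
  refine ⟨(Groth.Agent.Lib.Helper33.CMComp.cm_ringEquiv_iff e1).mp hcm1, ?_⟩
  -- δ = dim F/Q
  have hδ : ∃ δ : ℕ, ringKrullDim (p.Fiber S ⧸ Q) = δ := by
    obtain ⟨n, -, hn2, -, -⟩ :=
      Groth.Agent.Lib.Helper73.DimFormula.exists_trdeg_eq_ringKrullDim p.ResidueField (p.Fiber S ⧸ Q)
    exact ⟨n, hn2⟩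
  obtain ⟨δ, hδ⟩ := hδ
  refine ⟨δ, ?_, ?_⟩
  · rw [← ringKrullDim_eq_of_ringEquiv e1, ← hδ]
    exact hd1
  · rw [ringKrullDim_eq_of_ringEquiv e3, ← ringKrullDim_eq_of_ringEquiv e2, hd4, ← hδ, hd3]
    exact hd2.symm

theorem mk_mem_maximalIdeal {A : Type*} [CommRing A] [IsLocalRing A] (J : Ideal A)
    [IsLocalRing (A ⧸ J)] {y : A} (hy : y ∈ IsLocalRing.maximalIdeal A) :
    Ideal.Quotient.mk J y ∈ IsLocalRing.maximalIdeal (A ⧸ J) := by
  have hmax : ((IsLocalRing.maximalIdeal (A ⧸ J)).comap (Ideal.Quotient.mk J)).IsMaximal :=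
    Ideal.comap_isMaximal_of_surjective _ Ideal.Quotient.mk_surjective
  have := IsLocalRing.eq_maximalIdeal hmax
  rw [← this] at hy
  exact hy

/-- Let R → S be of finite type with every fibre ring κ(p) ⊗ S Cohen–Macaulay and equidimensional of
dimension d, and let f_1, …, f_i ∈ S. The primes q ⊇ (f_1, …, f_i) at which the f_j form a regular
sequence in the fibre local ring S_q/pS_q (p = q ∩ R) form an open subset of V(f_1, …, f_i): there
is an open U of Spec S whose trace on V(f_1, …, f_i) is exactly this set. -/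
theorem result (R S : Type u) [CommRing R] [CommRing S]
    [Algebra R S] [Algebra.FiniteType R S] (d : ℕ)
    (hCM : ∀ p : PrimeSpectrum R, LocCoh.IsCohenMacaulayRing (p.asIdeal.Fiber S))
    (heq : ∀ p : PrimeSpectrum R, ∀ P ∈ minimalPrimes (p.asIdeal.Fiber S),
      ringKrullDim (p.asIdeal.Fiber S ⧸ P) = (d : WithBot ℕ∞))
    (f : List S) :
    ∃ U : Set (PrimeSpectrum S), IsOpen U ∧ ∀ q : PrimeSpectrum S, Ideal.ofList f ≤ q.asIdeal →
      (q ∈ U ↔ RingTheory.Sequence.IsRegular (EGA4.FibLocRing R S q.asIdeal)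
        (f.map (algebraMap S (EGA4.FibLocRing R S q.asIdeal)))) := by
  classical
  set I := Ideal.ofList f with hI
  set i := f.length with hi
  set φ := Spec.map (CommRingCat.ofHom (algebraMap R (S ⧸ I))) with hφ
  haveI : LocallyOfFiniteType φ := by
    rw [hφ, HasRingHomProperty.Spec_iff (P := @LocallyOfFiniteType)]
    exact RingHom.finiteType_algebraMap.mpr inferInstance
  set U' : Set (PrimeSpectrum (S ⧸ I)) :=
    if i ≤ d then {q' | FlatMor.fibreDimAt φ (show ↥(Spec (CommRingCat.of (S ⧸ I))) from q') ≤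
      ((d - i : ℕ) : WithBot ℕ∞)} else ∅ with hU'
  have hU'open : IsOpen U' := by
    rw [hU']
    split_ifs
    · exact Groth.Agent.Lib.Helper73.SchemeDim.isOpen_setOf_fibreDimAt_le φ (d - i)
    · exact isOpen_empty
  have hemb := PrimeSpectrum.isClosedEmbedding_comap_of_surjective (S ⧸ I)
    (Ideal.Quotient.mk I) Ideal.Quotient.mk_surjective
  refine ⟨(PrimeSpectrum.comap (Ideal.Quotient.mk I) '' U'ᶜ)ᶜ,
    (hemb.isClosedMap _ hU'open.isClosed_compl).isOpen_compl, ?_⟩
  intro q hIq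
  haveI := q.2
  -- the point of `Spec S/I`
  have hker : RingHom.ker (Ideal.Quotient.mk I) ≤ q.asIdeal := by rwa [Ideal.mk_ker]
  haveI hq'prime : (q.asIdeal.map (Ideal.Quotient.mk I)).IsPrime :=
    Ideal.map_isPrime_of_surjective Ideal.Quotient.mk_surjective hker
  set q' : PrimeSpectrum (S ⧸ I) := ⟨q.asIdeal.map (Ideal.Quotient.mk I), hq'prime⟩ with hq'
  have hqq' : q'.asIdeal.comap (Ideal.Quotient.mk I) = q.asIdeal := by
    rw [hq']
    change (q.asIdeal.map (Ideal.Quotient.mk I)).comap (Ideal.Quotient.mk I) = q.asIdeal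
    rw [Ideal.comap_map_of_surjective _ Ideal.Quotient.mk_surjective, ← RingHom.ker_eq_comap_bot,
      sup_eq_left.mpr hker]
  have hcomap : PrimeSpectrum.comap (Ideal.Quotient.mk I) q' = q := PrimeSpectrum.ext hqq'
  have hmem : q ∈ (PrimeSpectrum.comap (Ideal.Quotient.mk I) '' U'ᶜ)ᶜ ↔ q' ∈ U' := by
    constructor
    · intro h
      by_contra hn
      exact h ⟨q', hn, hcomap⟩
    · rintro h ⟨q'', hq'', hq''q⟩
      have : q'' = q' := hemb.injective (hq''q.trans hcomap.symm)
      exact hq'' (this ▸ h)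
  rw [hmem]
  obtain ⟨hB, δ, h1, h2⟩ := key R S d hCM heq I q' q.asIdeal hqq'
  set B := EGA4.FibLocRing R S q.asIdeal with hBdef
  haveI := hB
  set xs := f.map (algebraMap S B) with hxs
  have hofList : Ideal.ofList xs = I.map (algebraMap S B) := by
    rw [hxs, hI, Ideal.map_ofList]
  have hxsmem : ∀ x ∈ xs, x ∈ IsLocalRing.maximalIdeal B := by
    intro x hx
    rw [hxs, List.mem_map] at hx
    obtain ⟨s, hs, rfl⟩ := hx
    have hsq : s ∈ q.asIdeal := hIq (Ideal.subset_span hs)
    have h3 : algebraMap S (Localization.AtPrime q.asIdeal) s ∈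
        IsLocalRing.maximalIdeal (Localization.AtPrime q.asIdeal) :=
      (IsLocalization.AtPrime.to_map_mem_maximal_iff _ q.asIdeal s).mpr hsq
    exact mk_mem_maximalIdeal _ h3
  obtain ⟨hreg, hle⟩ := isRegular_iff_of_isCM B xs hxsmem
  rw [hofList] at hreg hle
  have hlen : xs.length = i := by rw [hxs, List.length_map]
  rw [hlen] at hreg hle
  rw [hreg]
  obtain ⟨a, ha⟩ := S9159.exists_nat_ringKrullDim B
  rw [ha] at h1 hle ⊢
  have hcb : ringKrullDim (B ⧸ I.map (algebraMap S B)) ≠ ⊥ := by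
    intro hbot
    rw [hbot, WithBot.bot_add] at hle
    exact absurd hle (by simp)
  have hct : ringKrullDim (B ⧸ I.map (algebraMap S B)) ≠ ⊤ := by
    intro htop
    have := ringKrullDim_quotient_le (I.map (algebraMap S B))
    rw [htop, ha] at this
    exact absurd (top_le_iff.mp this) (by
      intro h
      have : ((a : ℕ∞) : WithBot ℕ∞) = ((⊤ : ℕ∞) : WithBot ℕ∞) := h
      exact ENat.coe_ne_top a (WithBot.coe_injective this))
  obtain ⟨c, hc⟩ := S9159.exists_nat_of_ne hcb hct
  rw [hc] at h2 hle ⊢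
  have h1' : a + δ = d := by exact_mod_cast h1
  have hle' : a ≤ c + i := by exact_mod_cast hle
  rw [hU']
  split_ifs with hid
  · simp only [Set.mem_setOf_eq]
    rw [← h2]
    constructor
    · intro h
      have : c + δ ≤ d - i := by exact_mod_cast h
      have : c + i = a := by omega
      exact_mod_cast this
    · intro h
      have : c + i = a := by exact_mod_cast h
      have : c + δ ≤ d - i := by omega
      exact_mod_cast this
  · simp only [Set.mem_empty_iff_false, false_iff]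
    intro h
    have : c + i = a := by exact_mod_cast h
    omega

end Groth.Agent.S9174
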