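import Groth.Statements.S9175
-- import your own Groth.Agent.* helpers here
import Mathlib
import Groth.Agent.Lib.Helper62.DimLoc2
import Groth.Agent.Lib.Helper35.NoetherFibre

set_option autoImplicit false
universe u
open CAlg

namespace Groth.Agent.S9175

open CAlg
open TensorProduct

/-- if the base change to `κ(p)` of `T → S` is integral (and `T → S` is of finite type), then
`S` is quasi-finite over `T` at each prime `q` over `p`. -/
theorem quasiFiniteAt_of_isIntegral_baseChange
    {R T S : Type u} [CommRing R] [CommRing T] [CommRing S] [Algebra R T] [Algebra T S]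
    [Algebra R S] [IsScalarTower R T S] [Algebra.FiniteType T S]
    (p : Ideal R) [p.IsPrime] (q : Ideal S) [q.IsPrime] [q.LiesOver p]
    (H : (Algebra.TensorProduct.map (AlgHom.id R p.ResidueField)
      (IsScalarTower.toAlgHom R T S)).toRingHom.IsIntegral) :
    Algebra.QuasiFiniteAt T q := by
  set P : Ideal T := q.under T with hP
  haveI : P.IsPrime := Ideal.IsPrime.under T q
  haveI : q.LiesOver P := ⟨rfl⟩
  have hpP : p = P.comap (Algebra.ofId R T).toRingHom := by
    rw [hP, Ideal.under, Ideal.comap_comap]
    have : (algebraMap T S).comp (Algebra.ofId R T).toRingHom = algebraMap R S := by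
      ext x
      simp [← IsScalarTower.algebraMap_apply]
    rw [this]
    exact Ideal.LiesOver.over
  let i₁ : p.ResidueField →ₐ[R] P.ResidueField :=
    Ideal.ResidueField.mapₐ p P (Algebra.ofId R T) hpP
  let ψ : p.ResidueField ⊗[R] S →ₐ[R] P.ResidueField ⊗[T] S :=
    Algebra.TensorProduct.lift
      ((Algebra.TensorProduct.includeLeft (S := R) (R := T) (A := P.ResidueField) (B := S)).comp i₁)
      ((Algebra.TensorProduct.includeRight (R := T) (A := P.ResidueField) (B := S)).restrictScalars R)
      (fun _ _ => Commute.all _ _)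
  let φ' : p.ResidueField ⊗[R] T →ₐ[R] P.ResidueField :=
    Algebra.TensorProduct.lift i₁ (IsScalarTower.toAlgHom R T P.ResidueField)
      (fun _ _ => Commute.all _ _)
  let Θ := (Algebra.TensorProduct.map (AlgHom.id R p.ResidueField) (IsScalarTower.toAlgHom R T S))
  have hcomm : (algebraMap P.ResidueField (P.ResidueField ⊗[T] S)).comp φ'.toRingHom =
      ψ.toRingHom.comp Θ.toRingHom := by
    refine RingHom.ext fun x => ?_
    induction x using TensorProduct.induction_on with
    | zero => simp
    | tmul c t =>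
      simp only [RingHom.comp_apply, AlgHom.toRingHom_eq_coe, RingHom.coe_coe, φ', ψ, Θ,
        Algebra.TensorProduct.lift_tmul, Algebra.TensorProduct.map_tmul, AlgHom.id_apply,
        IsScalarTower.coe_toAlgHom', AlgHom.comp_apply, Algebra.TensorProduct.includeLeft_apply,
        AlgHom.restrictScalars_apply, Algebra.TensorProduct.includeRight_apply,
        Algebra.TensorProduct.algebraMap_apply, Algebra.algebraMap_self, RingHom.id_apply,
        Algebra.TensorProduct.tmul_mul_tmul, mul_one, one_mul]
      rw [Algebra.algebraMap_eq_smul_one (A := S) t, ← TensorProduct.smul_tmul, Algebra.smul_def,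
        mul_comm]
    | add x y hx hy => simp only [map_add, hx, hy]
  have h1 : ∀ s : S, IsIntegral P.ResidueField ((1 : P.ResidueField) ⊗ₜ[T] s) := by
    intro s
    letI := Θ.toRingHom.toAlgebra
    have h0 : IsIntegral (p.ResidueField ⊗[R] T) ((1 : p.ResidueField) ⊗ₜ[R] s) := H _
    have h2 := IsIntegral.map_of_comp_eq φ'.toRingHom ψ.toRingHom hcomm h0
    simpa [ψ] using h2
  have hint : Algebra.IsIntegral P.ResidueField (P.ResidueField ⊗[T] S) := by
    refine ⟨fun x => ?_⟩
    induction x using TensorProduct.induction_on with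
    | zero => exact isIntegral_zero
    | tmul c s =>
      have : c ⊗ₜ[T] s = c • ((1 : P.ResidueField) ⊗ₜ[T] s) := by
        rw [TensorProduct.smul_tmul', smul_eq_mul, mul_one]
      rw [this]
      exact (h1 s).smul c
    | add x y hx hy => exact hx.add hy
  haveI : Module.Finite P.ResidueField (P.Fiber S) := Algebra.IsIntegral.finite
  let Q' : Ideal (P.Fiber S) := (PrimeSpectrum.primesOverOrderIsoFiber T S P ⟨q, ‹_›, ‹_›⟩).asIdeal
  have hQ' : Q'.comap Algebra.TensorProduct.includeRight.toRingHom = q :=
    congr($((PrimeSpectrum.primesOverOrderIsoFiber T S P).symm_apply_apply ⟨q, ‹_›, ‹_›⟩).1)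
  exact Algebra.QuasiFiniteAt.of_quasiFiniteAt_residueField P q Q' hQ'



theorem exists_quasiFinite_away {T S : Type*} [CommRing T] [CommRing S] [Algebra T S]
    [Algebra.FiniteType T S] (q : Ideal S) [q.IsPrime] [Algebra.QuasiFiniteAt T q] :
    ∃ r : S, r ∉ q ∧ Algebra.QuasiFinite T (Localization.Away r) := by
  obtain ⟨S', hS', r, hrp, H⟩ :=
    Algebra.QuasiFiniteAt.exists_fg_and_exists_notMem_and_awayMap_bijective (R := T) q
  have : Module.Finite T S' := ⟨(Submodule.fg_top _).mpr hS'⟩
  have : Algebra.QuasiFinite T (Localization.Away r) := .trans _ S' _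
  exact ⟨r.1, hrp, .of_surjective_algHom (Localization.awayMapₐ S'.val r) H.2⟩



/-- double localization: `(S_{g₀})_r` is `S_{g₀ a}` for some `a` with `r` associated to `a/1`. -/
theorem exists_away_algEquiv {S : Type*} [CommRing S] (g₀ : S) (r : Localization.Away g₀) :
    ∃ a : S, Associated r (algebraMap S (Localization.Away g₀) a) ∧
      Nonempty (Localization.Away (g₀ * a) ≃ₐ[S] Localization.Away r) := by
  obtain ⟨n, a, hn⟩ := IsLocalization.Away.surj g₀ r
  have hu : IsUnit (algebraMap S (Localization.Away g₀) g₀ ^ n) :=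
    (IsLocalization.Away.algebraMap_isUnit g₀).pow n
  have hassoc : Associated r (algebraMap S (Localization.Away g₀) a) :=
    ⟨hu.unit, by rw [IsUnit.unit_spec, hn]⟩
  refine ⟨a, hassoc, ?_⟩
  haveI : IsLocalization.Away (algebraMap S (Localization.Away g₀) a) (Localization.Away r) :=
    IsLocalization.Away.of_associated hassoc
  haveI : IsLocalization.Away (g₀ * a) (Localization.Away r) :=
    IsLocalization.Away.mul' (Localization.Away g₀) (Localization.Away r) g₀ a
  exact ⟨IsLocalization.algEquiv (Submonoid.powers (g₀ * a)) _ _⟩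

/-- every element of `κ(p)` is a fraction of elements of `R`. -/
theorem hfrac {R : Type*} [CommRing R] (p : Ideal R) [p.IsPrime] (c : p.ResidueField) :
    ∃ a s : R, algebraMap R p.ResidueField s ≠ 0 ∧
      c * algebraMap R p.ResidueField s = algebraMap R p.ResidueField a := by
  obtain ⟨z, rfl⟩ := IsLocalRing.residue_surjective c
  obtain ⟨⟨a, s⟩, hz⟩ := IsLocalization.surj p.primeCompl z
  refine ⟨a, s.1, ?_, ?_⟩
  · rw [Ne, Ideal.algebraMap_residueField_eq_zero]
    exact s.2
  · rw [IsScalarTower.algebraMap_apply R (Localization.AtPrime p) p.ResidueField,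
      IsScalarTower.algebraMap_apply R (Localization.AtPrime p) p.ResidueField,
      IsLocalRing.ResidueField.algebraMap_eq, ← map_mul]
    exact congrArg _ hz



/-- shrinking `Spec S` around `q` so that the fibre has dimension `n`. -/
theorem exists_away_dim (R S : Type u) [CommRing R] [CommRing S]
    [Algebra R S] (p : Ideal R) [p.IsPrime] (q : Ideal S) [q.IsPrime]
    (Q : PrimeSpectrum (p.Fiber S))
    (hQ : Q.asIdeal.comap (Algebra.TensorProduct.includeRight.toRingHom) = q) (n : ℕ)
    (hdim : FlatMor.localDim (PrimeSpectrum (p.Fiber S)) Q = (n : WithBot ℕ∞)) :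
    ∃ g₀ : S, g₀ ∉ q ∧
      ringKrullDim (p.ResidueField ⊗[R] Localization.Away g₀) = (n : WithBot ℕ∞) := by
  rw [Groth.Agent.Lib.Helper62.DimLoc.localDim_eq_iInf_away] at hdim
  haveI : Nonempty {g : p.Fiber S // g ∉ Q.asIdeal} := ⟨⟨1, Q.2.one_notMem⟩⟩
  obtain ⟨⟨g', hg'⟩, hgdim⟩ := ciInf_mem
    (fun g : {g : p.Fiber S // g ∉ Q.asIdeal} => ringKrullDim (Localization.Away g.1))
  simp only at hgdim
  rw [hdim] at hgdim
  obtain ⟨r, hr, g₀, e⟩ := Ideal.Fiber.exists_smul_eq_one_tmul p g'
  have hunit : IsUnit (algebraMap R (p.Fiber S) r) := by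
    rw [Algebra.TensorProduct.algebraMap_apply]
    have h0 : IsUnit (algebraMap R p.ResidueField r) := by
      rw [isUnit_iff_ne_zero, Ne, Ideal.algebraMap_residueField_eq_zero]
      exact hr
    exact h0.map (Algebra.TensorProduct.includeLeft (R := R) (S := R) (A := p.ResidueField)
      (B := S))
  have hassoc : Associated g' ((1 : p.ResidueField) ⊗ₜ[R] g₀) :=
    ⟨hunit.unit, by rw [IsUnit.unit_spec, mul_comm, ← Algebra.smul_def, e]⟩
  refine ⟨g₀, ?_, ?_⟩
  · intro h
    rw [← hQ, Ideal.mem_comap] at h
    have h1 : (1 : p.ResidueField) ⊗ₜ[R] g₀ ∈ Q.asIdeal := h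
    rw [← e, Algebra.smul_def] at h1
    rcases Q.2.mem_or_mem h1 with h2 | h2
    · exact Q.2.ne_top (Ideal.eq_top_of_isUnit_mem _ h2 hunit)
    · exact hg' h2
  · haveI : IsLocalization.Away ((1 : p.ResidueField) ⊗ₜ[R] g₀) (Localization.Away g') :=
      IsLocalization.Away.of_associated hassoc
    let e1 : Localization.Away ((1 : p.ResidueField) ⊗ₜ[R] g₀) ≃ₐ[p.Fiber S] Localization.Away g' :=
      IsLocalization.algEquiv (Submonoid.powers ((1 : p.ResidueField) ⊗ₜ[R] g₀)) _ _
    let e2 := IsLocalization.Away.tensorProductEquivTMulRight R p.ResidueField g₀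
      (Localization.Away g₀)
    rw [ringKrullDim_eq_of_ringEquiv (e2.toRingEquiv.trans e1.toRingEquiv), hgdim]

/-- Let R → S be of finite type, q a prime of S over p, and Q the prime of the fibre ring κ(p) ⊗ S
pulling back to q. If Spec(κ(p) ⊗ S) has local dimension n at Q (the relative dimension of S over R
at q is n), then some S_g with g ∉ q admits an R-algebra map from the polynomial ring R[t_1, …, t_n]
which is of finite type and quasi-finite. -/
theorem result (R S : Type u) [CommRing R] [CommRing S]
    [Algebra R S] [Algebra.FiniteType R S] (p : Ideal R) [p.IsPrime] (q : Ideal S) [q.IsPrime] [q.LiesOver p]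
    (Q : PrimeSpectrum (p.Fiber S))
    (hQ : Q.asIdeal.comap (Algebra.TensorProduct.includeRight.toRingHom) = q) (n : ℕ)
    (hdim : FlatMor.localDim (PrimeSpectrum (p.Fiber S)) Q = (n : WithBot ℕ∞)) :
    ∃ g : S, g ∉ q ∧ ∃ φ : MvPolynomial (Fin n) R →ₐ[R] Localization.Away g,
      φ.toRingHom.FiniteType ∧ φ.toRingHom.QuasiFinite := by
  obtain ⟨g₀, hg₀q, hdim'⟩ := exists_away_dim R S p q Q hQ n hdim
  haveI : Algebra.FiniteType R (Localization.Away g₀) :=
    Algebra.FiniteType.trans (inferInstance : Algebra.FiniteType R S)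
      (IsLocalization.finiteType_of_monoid_fg (Submonoid.powers g₀) (Localization.Away g₀))
  obtain ⟨b, hb⟩ := Groth.Agent.Lib.Helper35.NoetherFibre.exists_finite_aeval (A := R)
    (κ := p.ResidueField) (B := Localization.Away g₀) (hfrac p) n hdim'
  let φ₀ : MvPolynomial (Fin n) R →ₐ[R] Localization.Away g₀ :=
    MvPolynomial.aeval (fun i => b ⟨i⟩)
  letI : Algebra (MvPolynomial (Fin n) R) (Localization.Away g₀) := φ₀.toRingHom.toAlgebra
  haveI : IsScalarTower R (MvPolynomial (Fin n) R) (Localization.Away g₀) :=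
    IsScalarTower.of_algebraMap_eq (fun r => (φ₀.commutes r).symm)
  haveI : Algebra.FiniteType (MvPolynomial (Fin n) R) (Localization.Away g₀) :=
    Algebra.FiniteType.of_restrictScalars_finiteType R _ _
  -- the prime of the localization
  have hdisj : Disjoint (Submonoid.powers g₀ : Set S) (q : Set S) := by
    rw [Set.disjoint_left]
    rintro x ⟨k, rfl⟩ hx
    exact hg₀q (Ideal.IsPrime.mem_of_pow_mem inferInstance k hx)
  let q' : Ideal (Localization.Away g₀) := q.map (algebraMap S (Localization.Away g₀))
  haveI hq'prime : q'.IsPrime :=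
    IsLocalization.isPrime_of_isPrime_disjoint (Submonoid.powers g₀) _ q inferInstance hdisj
  have hq'comap : q'.comap (algebraMap S (Localization.Away g₀)) = q :=
    IsLocalization.under_map_of_isPrime_disjoint (Submonoid.powers g₀) _ inferInstance hdisj
  haveI : q'.LiesOver p := by
    constructor
    rw [Ideal.under, IsScalarTower.algebraMap_eq R S (Localization.Away g₀), ← Ideal.comap_comap,
      hq'comap]
    exact Ideal.LiesOver.over
  have H : (Algebra.TensorProduct.map (AlgHom.id R p.ResidueField)
      (IsScalarTower.toAlgHom R (MvPolynomial (Fin n) R) (Localization.Away g₀))).toRingHom.IsIntegral := by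
    let σ : MvPolynomial (ULift.{u} (Fin n)) p.ResidueField →ₐ[p.ResidueField]
        p.ResidueField ⊗[R] MvPolynomial (Fin n) R :=
      MvPolynomial.aeval (fun i => (1 : p.ResidueField) ⊗ₜ[R] MvPolynomial.X i.down)
    apply RingHom.IsIntegral.tower_top σ.toRingHom
    have hcomp : (Algebra.TensorProduct.map (AlgHom.id R p.ResidueField)
        (IsScalarTower.toAlgHom R (MvPolynomial (Fin n) R) (Localization.Away g₀))).toRingHom.comp
        σ.toRingHom = (MvPolynomial.aeval (fun i => (1 : p.ResidueField) ⊗ₜ[R] b i) :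
        MvPolynomial (ULift.{u} (Fin n)) p.ResidueField →ₐ[p.ResidueField]
          p.ResidueField ⊗[R] Localization.Away g₀).toRingHom := by
      apply MvPolynomial.ringHom_ext
      · intro c
        simp [σ, Algebra.TensorProduct.algebraMap_apply]
      · intro i
        simp [σ, RingHom.algebraMap_toAlgebra, φ₀]
    rw [hcomp]
    exact RingHom.Finite.to_isIntegral hb
  haveI := quasiFiniteAt_of_isIntegral_baseChange p q' H
  obtain ⟨r, hr, hqf⟩ := exists_quasiFinite_away (T := MvPolynomial (Fin n) R) q'
  obtain ⟨a, hassoc, ⟨e⟩⟩ := exists_away_algEquiv g₀ r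
  refine ⟨g₀ * a, ?_, ?_⟩
  · intro h
    rcases Ideal.IsPrime.mem_or_mem inferInstance h with h | h
    · exact hg₀q h
    · obtain ⟨u, hu⟩ := hassoc
      have h1 : algebraMap S (Localization.Away g₀) a ∈ q' := Ideal.mem_map_of_mem _ h
      rw [← hu] at h1
      rcases hq'prime.mem_or_mem h1 with h2 | h2
      · exact hr h2
      · exact hq'prime.ne_top (Ideal.eq_top_of_isUnit_mem _ h2 u.isUnit)
  · let φ : MvPolynomial (Fin n) R →ₐ[R] Localization.Away (g₀ * a) :=
      ((e.symm.restrictScalars R : Localization.Away r ≃ₐ[R] Localization.Away (g₀ * a)) :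
        Localization.Away r →ₐ[R] Localization.Away (g₀ * a)).comp
        (IsScalarTower.toAlgHom R (MvPolynomial (Fin n) R) (Localization.Away r))
    refine ⟨φ, ?_, ?_⟩
    · apply RingHom.FiniteType.of_comp_finiteType (f := algebraMap R (MvPolynomial (Fin n) R))
      rw [AlgHom.toRingHom_eq_coe, AlgHom.comp_algebraMap, RingHom.finiteType_algebraMap]
      exact Algebra.FiniteType.trans (inferInstance : Algebra.FiniteType R S)
        (IsLocalization.finiteType_of_monoid_fg (Submonoid.powers (g₀ * a)) _)
    · have h1 : (algebraMap (MvPolynomial (Fin n) R) (Localization.Away r)).QuasiFinite :=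
        RingHom.quasiFinite_algebraMap.mpr hqf
      have h2 : (e.symm.toRingEquiv.toRingHom).QuasiFinite :=
        RingHom.QuasiFinite.of_finite (RingEquiv.finite _)
      have h3 : φ.toRingHom = (e.symm.toRingEquiv.toRingHom).comp
          (algebraMap (MvPolynomial (Fin n) R) (Localization.Away r)) := by
        refine RingHom.ext fun x => ?_
        rfl
      rw [h3]
      exact RingHom.QuasiFinite.comp h2 h1

end Groth.Agent.S9175
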