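import Groth.Statements.S9177
import Mathlib

set_option autoImplicit false
universe u
open CAlg

namespace Groth.Agent.S9177

open TensorProduct

section
variable {ι : Type u} [DecidableEq ι] [Preorder ι] [Nonempty ι] [IsDirectedOrder ι] (G : ι → Type u) [∀ i, CommRing (G i)]
    (f : ∀ i j, i ≤ j → G i →+* G j) [DirectedSystem G (fun i j h => f i j h)]
    (A : Type u) [CommRing A] [∀ i, Algebra A (G i)]
    (hf : ∀ i j (h : i ≤ j), (f i j h).comp (algebraMap A (G i)) = algebraMap A (G j)) (l : ι)

/-- transition maps as `A`-linear maps -/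
def fl (i j : ι) (h : i ≤ j) : G i →ₗ[A] G j :=
  { (f i j h : G i →+ G j) with
    map_smul' := fun a x => by
      have := congrArg (fun φ => φ a) (hf i j h)
      simp only [RingHom.comp_apply] at this
      simp [Algebra.smul_def, this] }

@[simp] lemma fl_apply (i j : ι) (h : i ≤ j) (x : G i) : fl G f A hf i j h x = f i j h x := rfl

instance dsys : DirectedSystem G (fun i j h => fl G f A hf i j h) where
  map_self := fun i x => DirectedSystem.map_self' (f := fun i j h => f i j h) x
  map_map := fun _ _ _ hij hjk x => DirectedSystem.map_map' (f := fun i j h => f i j h) hij hjk x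

variable [instR : Algebra A (Ring.DirectLimit G (fun i j h => f i j h))]
  (halg : algebraMap A (Ring.DirectLimit G (fun i j h => f i j h)) =
    (Ring.DirectLimit.of G (fun i j h => f i j h) l).comp (algebraMap A (G l)))

include hf halg in
lemma of_algebraMap (i : ι) (a : A) :
    Ring.DirectLimit.of G (fun i j h => f i j h) i (algebraMap A (G i) a) =
      algebraMap A (Ring.DirectLimit G (fun i j h => f i j h)) a := by
  obtain ⟨k, hik, hlk⟩ := exists_ge_ge i l
  rw [halg, RingHom.comp_apply, ← Ring.DirectLimit.of_f hik, ← Ring.DirectLimit.of_f hlk]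
  have h1 := congrArg (fun φ => φ a) (hf i k hik)
  have h2 := congrArg (fun φ => φ a) (hf l k hlk)
  simp only [RingHom.comp_apply] at h1 h2
  rw [h1, h2]

/-- structure maps as `A`-linear maps -/
noncomputable def ofl (i : ι) : G i →ₗ[A] Ring.DirectLimit G (fun i j h => f i j h) :=
  { (Ring.DirectLimit.of G (fun i j h => f i j h) i : G i →+ _) with
    map_smul' := fun a x => by
      simp [Algebra.smul_def, of_algebraMap G f A hf l halg i a] }

@[simp] lemma ofl_apply (i : ι) (x : G i) :
    ofl G f A hf l halg i x = Ring.DirectLimit.of G (fun i j h => f i j h) i x := rfl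

lemma ofl_comp_fl (i j : ι) (h : i ≤ j) :
    (ofl G f A hf l halg j).comp (fl G f A hf i j h) = ofl G f A hf l halg i := by
  ext x; simp

/-- the bridge -/
noncomputable def Phi : Module.DirectLimit G (fun i j h => fl G f A hf i j h) →ₗ[A]
    Ring.DirectLimit G (fun i j h => f i j h) :=
  Module.DirectLimit.lift A ι G (fun i j h => fl G f A hf i j h) (ofl G f A hf l halg)
    (fun i j hij x => LinearMap.congr_fun (ofl_comp_fl G f A hf l halg i j hij) x)

lemma Phi_of (i : ι) (x : G i) :
    Phi G f A hf l halg (Module.DirectLimit.of A ι G _ i x) =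
      Ring.DirectLimit.of G (fun i j h => f i j h) i x := by
  rw [Phi]; exact Module.DirectLimit.lift_of _ _ x

lemma Phi_bij : Function.Bijective (Phi G f A hf l halg) := by
  constructor
  · rw [injective_iff_map_eq_zero]
    intro z hz
    obtain ⟨i, x, rfl⟩ := Module.DirectLimit.exists_of z
    rw [Phi_of] at hz
    obtain ⟨j, hij, hj⟩ := Ring.DirectLimit.of.zero_exact hz
    rw [← Module.DirectLimit.of_f (hij := hij)]
    simp [hj]
  · intro r
    obtain ⟨i, x, rfl⟩ := Ring.DirectLimit.exists_of r
    exact ⟨Module.DirectLimit.of A ι G _ i x, Phi_of G f A hf l halg i x⟩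

variable (C : Type u) [AddCommGroup C] [Module A C] {C' : Type u}

lemma key_zero (i : ι) (x : G i ⊗[A] C)
    (hx : (ofl G f A hf l halg i).rTensor C x = 0) :
    ∃ j, ∃ _ : i ≤ j, ∀ k (hik : i ≤ k), j ≤ k → (fl G f A hf i k hik).rTensor C x = 0 := by
  classical
  let e := LinearEquiv.ofBijective (Phi G f A hf l halg) (Phi_bij G f A hf l halg)
  have h1 : (ofl G f A hf l halg i) = e.toLinearMap.comp (Module.DirectLimit.of A ι G _ i) := by
    ext y; simp [e, Phi_of]
  rw [h1, LinearMap.rTensor_comp, LinearMap.comp_apply] at hx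
  have h2 : (Module.DirectLimit.of A ι G (fun i j h => fl G f A hf i j h) i).rTensor C x = 0 := by
    have : Function.Injective (e.toLinearMap.rTensor C) := (LinearEquiv.rTensor C e).injective
    exact this (by rw [hx, map_zero])
  have h3 := TensorProduct.directLimitLeft_rTensor_of (fun i j h => fl G f A hf i j h) C x
  rw [h2, map_zero] at h3
  obtain ⟨j, hij, hj⟩ := Module.DirectLimit.of.zero_exact h3.symm
  refine ⟨j, hij, fun k hik hjk => ?_⟩
  have : fl G f A hf i k hik = (fl G f A hf j k hjk).comp (fl G f A hf i j hij) := by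
    ext y; simp; exact (DirectedSystem.map_map' (f := fun i j h => f i j h) hij hjk y).symm
  rw [this, LinearMap.rTensor_comp, LinearMap.comp_apply, hj, map_zero]

lemma key_surj (y : Ring.DirectLimit G (fun i j h => f i j h) ⊗[A] C) :
    ∃ i, ∃ x : G i ⊗[A] C, (ofl G f A hf l halg i).rTensor C x = y := by
  induction y using TensorProduct.induction_on with
  | zero => exact ⟨l, 0, by simp⟩
  | tmul r c =>
    obtain ⟨i, g, rfl⟩ := Ring.DirectLimit.exists_of r
    exact ⟨i, g ⊗ₜ c, by simp⟩
  | add y1 y2 h1 h2 =>
    obtain ⟨i1, x1, rfl⟩ := h1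
    obtain ⟨i2, x2, rfl⟩ := h2
    obtain ⟨k, h1k, h2k⟩ := exists_ge_ge i1 i2
    refine ⟨k, (fl G f A hf i1 k h1k).rTensor C x1 + (fl G f A hf i2 k h2k).rTensor C x2, ?_⟩
    rw [map_add, ← LinearMap.comp_apply, ← LinearMap.comp_apply, ← LinearMap.rTensor_comp,
      ← LinearMap.rTensor_comp, ofl_comp_fl, ofl_comp_fl]


lemma natu (B : Type u) [CommRing B] [Algebra A B] [CommRing C'] [Algebra A C'] (u : B →ₐ[A] C') (i : ι)
    (x : G i ⊗[A] B) :
    (ofl G f A hf l halg i).rTensor C' (Algebra.TensorProduct.map (AlgHom.id A (G i)) u x) =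
      Algebra.TensorProduct.map (AlgHom.id A (Ring.DirectLimit G (fun i j h => f i j h))) u
        ((ofl G f A hf l halg i).rTensor B x) := by
  induction x using TensorProduct.induction_on with
  | zero => simp
  | tmul g b => simp
  | add x y hx hy => simp only [map_add, hx, hy]

lemma natu' (B : Type u) [CommRing B] [Algebra A B] [CommRing C'] [Algebra A C'] (u : B →ₐ[A] C') (i j : ι)
    (h : i ≤ j) (x : G i ⊗[A] B) :
    (fl G f A hf i j h).rTensor C' (Algebra.TensorProduct.map (AlgHom.id A (G i)) u x) =
      Algebra.TensorProduct.map (AlgHom.id A (G j)) u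
        ((fl G f A hf i j h).rTensor B x) := by
  induction x using TensorProduct.induction_on with
  | zero => simp
  | tmul g b => simp
  | add x y hx hy => simp only [map_add, hx, hy]

end

open TensorProduct in
/-- Let R = colim R_i be a directed colimit of A-algebras (compatible transition maps), B and C
A-algebras. (1) If B is of finite type over A, two A-algebra maps B → C whose base changes to R
coincide already have equal base changes to some R_i. (2) If C is of finite type over A and u : B →
C has surjective base change to R, then its base change to some R_i is surjective. (The A-algebra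
structure on R is through any stage R_l; it does not depend on l.) -/
theorem result {ι : Type u} [Preorder ι]
    [Nonempty ι] [IsDirectedOrder ι] (G : ι → Type u) [∀ i, CommRing (G i)]
    (f : ∀ i j, i ≤ j → G i →+* G j) [DirectedSystem G (fun i j h => f i j h)]
    (A : Type u) [CommRing A] [∀ i, Algebra A (G i)]
    (hf : ∀ i j (h : i ≤ j), (f i j h).comp (algebraMap A (G i)) = algebraMap A (G j)) (l : ι)
    (B C : Type u) [CommRing B] [CommRing C] [Algebra A B] [Algebra A C] :
    letI : Algebra A (Ring.DirectLimit G (fun i j h => f i j h)) :=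
      ((Ring.DirectLimit.of G (fun i j h => f i j h) l).comp (algebraMap A (G l))).toAlgebra
    (Algebra.FiniteType A B → ∀ u u' : B →ₐ[A] C,
        Algebra.TensorProduct.map (AlgHom.id A (Ring.DirectLimit G (fun i j h => f i j h))) u =
            Algebra.TensorProduct.map (AlgHom.id A (Ring.DirectLimit G (fun i j h => f i j h))) u' →
          ∃ i : ι, Algebra.TensorProduct.map (AlgHom.id A (G i)) u =
            Algebra.TensorProduct.map (AlgHom.id A (G i)) u') ∧
      (Algebra.FiniteType A C → ∀ u : B →ₐ[A] C,
        Function.Surjective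
            (Algebra.TensorProduct.map (AlgHom.id A (Ring.DirectLimit G (fun i j h => f i j h))) u) →
          ∃ i : ι, Function.Surjective (Algebra.TensorProduct.map (AlgHom.id A (G i)) u)) := by
  classical
  letI inst : Algebra A (Ring.DirectLimit G (fun i j h => f i j h)) :=
      ((Ring.DirectLimit.of G (fun i j h => f i j h) l).comp (algebraMap A (G l))).toAlgebra
  have halg : algebraMap A (Ring.DirectLimit G fun i j h => f i j h) =
      (Ring.DirectLimit.of G (fun i j h => f i j h) l).comp (algebraMap A (G l)) := rfl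
  constructor
  · intro hB u u' huu
    obtain ⟨s, hs⟩ := hB.out
    have key : ∀ b : B, ∃ j, ∃ _ : l ≤ j, ∀ k (hlk : l ≤ k), j ≤ k →
        (fl G f A hf l k hlk).rTensor C ((1 : G l) ⊗ₜ[A] u b - 1 ⊗ₜ[A] u' b) = 0 := by
      intro b
      apply key_zero G f A hf l halg
      have := congrArg (fun φ => φ (1 ⊗ₜ b)) huu
      simpa [map_sub, sub_eq_zero] using this
    choose j hlj hj using key
    obtain ⟨i, hi⟩ := Finset.exists_le (s.image j)
    obtain ⟨i', hii', hli'⟩ := exists_ge_ge i l
    refine ⟨i', ?_⟩
    apply Algebra.TensorProduct.ext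
    · ext g; simp
    · apply AlgHom.ext_of_adjoin_eq_top hs
      intro b hb
      have := hj b i' hli' (le_trans (hi _ (Finset.mem_image_of_mem j hb)) hii')
      simpa [map_sub, sub_eq_zero] using this
  · intro hC u hu
    obtain ⟨s, hs⟩ := hC.out
    have key : ∀ c : C, ∃ j, ∀ k, j ≤ k → ∃ x : G k ⊗[A] B,
        Algebra.TensorProduct.map (AlgHom.id A (G k)) u x = 1 ⊗ₜ c := by
      intro c
      obtain ⟨y, hy⟩ := hu (1 ⊗ₜ c)
      obtain ⟨i, x, rfl⟩ := key_surj G f A hf l halg B y
      have h0 : (ofl G f A hf l halg i).rTensor C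
          (Algebra.TensorProduct.map (AlgHom.id A (G i)) u x - 1 ⊗ₜ c) = 0 := by
        rw [map_sub, natu G f A hf l halg B u i x, hy]
        simp
      obtain ⟨j, hij, hj⟩ := key_zero G f A hf l halg C i _ h0
      refine ⟨j, fun k hjk => ⟨(fl G f A hf i k (hij.trans hjk)).rTensor B x, ?_⟩⟩
      have := hj k (hij.trans hjk) hjk
      rw [map_sub, natu' G f A hf B u i k (hij.trans hjk) x, sub_eq_zero] at this
      rw [this]; simp
    choose j hj using key
    obtain ⟨i, hi⟩ := Finset.exists_le (s.image j)
    refine ⟨i, ?_⟩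
    rw [← AlgHom.range_eq_top]
    have h1 : ∀ c : C, (1 : G i) ⊗ₜ[A] c ∈ (Algebra.TensorProduct.map (AlgHom.id A (G i)) u).range := by
      intro c
      have hc : c ∈ Algebra.adjoin A (s : Set C) := by rw [hs]; trivial
      induction hc using Algebra.adjoin_induction with
      | mem c hc =>
        obtain ⟨x, hx⟩ := hj c i (hi _ (Finset.mem_image_of_mem j hc))
        exact ⟨x, hx⟩
      | algebraMap a =>
        refine ⟨1 ⊗ₜ algebraMap A B a, by simp⟩
      | add c1 c2 _ _ h1 h2 =>
        rw [TensorProduct.tmul_add]; exact add_mem h1 h2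
      | mul c1 c2 _ _ h1 h2 =>
        have : (1 : G i) ⊗ₜ[A] (c1 * c2) = (1 ⊗ₜ c1) * (1 ⊗ₜ c2) := by simp
        rw [this]; exact mul_mem h1 h2
    rw [eq_top_iff]
    intro y _
    induction y using TensorProduct.induction_on with
    | zero => exact zero_mem _
    | tmul g c =>
      have : g ⊗ₜ[A] c = (g ⊗ₜ 1) * (1 ⊗ₜ c) := by simp
      rw [this]
      exact mul_mem ⟨g ⊗ₜ 1, by simp⟩ (h1 c)
    | add y1 y2 h1 h2 => exact add_mem (h1 trivial) (h2 trivial)

end Groth.Agent.S9177
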