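import Groth.Statements.S9178
import Mathlib.Algebra.Quotient
import Mathlib.LinearAlgebra.Quotient.Basic
import Mathlib.LinearAlgebra.TensorProduct.RightExactness
import Mathlib.Tactic.Ring
import Mathlib.Tactic.Abel
-- import your own Groth.Agent.* helpers here

set_option autoImplicit false
universe u
open CAlg

namespace Groth.Agent.S9178

/-- For ring maps A → B → C with A → C surjective, writing I = ker(A → C) and J = ker(B → C), the
sequence I/I² → J/J² → C ⊗_B Ω_{B/A} → 0 is exact. Stated: the image of I/I² in J/J² is exactly the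
kernel of J/J² → C ⊗_B Ω_{B/A} (surjectivity of the latter map is the standard conormal sequence for
the surjection B → C). -/
theorem result (A B C : Type u) [CommRing A] [CommRing B]
    [CommRing C] [Algebra A B] [Algebra B C] [Algebra A C] [IsScalarTower A B C]
    (hAC : Function.Surjective (algebraMap A C))
    (h : RingHom.ker (algebraMap A C) ≤ (RingHom.ker (algebraMap B C)).comap (Algebra.ofId A B)) :
    Function.Exact
      (Ideal.mapCotangent (RingHom.ker (algebraMap A C)) (RingHom.ker (algebraMap B C)) (Algebra.ofId A B) h)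
      (KaehlerDifferential.kerCotangentToTensor A B C) := by
  classical
  set I : Ideal A := RingHom.ker (algebraMap A C) with hI
  set J : Ideal B := RingHom.ker (algebraMap B C) with hJ
  set f := Ideal.mapCotangent I J (Algebra.ofId A B) h with hf
  have hBC : Function.Surjective (algebraMap B C) := by
    intro c
    obtain ⟨a, rfl⟩ := hAC c
    exact ⟨algebraMap A B a, (IsScalarTower.algebraMap_apply A B C a).symm⟩
  have hJmem : ∀ b : B, b ∈ J ↔ algebraMap B C b = 0 := fun b => RingHom.mem_ker
  have hImem : ∀ a : A, a ∈ I ↔ algebraMap A C a = 0 := fun a => RingHom.mem_ker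
  -- lifting elements of `B` to `A` modulo `J`
  have hlift : ∀ b : B, ∃ a : A, b - algebraMap A B a ∈ J := by
    intro b
    obtain ⟨a, ha⟩ := hAC (algebraMap B C b)
    refine ⟨a, ?_⟩
    rw [hJmem, map_sub, ← IsScalarTower.algebraMap_apply, ha, sub_self]
  choose σ hσ using hlift
  -- the `B`-span of the image of `f` is the image of `f`
  let W : Submodule B J.Cotangent := Submodule.span B (Set.range f)
  have hW : ∀ y ∈ W, y ∈ Set.range f := by
    intro y hy
    refine Submodule.span_induction (p := fun y _ => y ∈ Set.range f) ?_ ?_ ?_ ?_ hy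
    · intro y hy
      exact hy
    · exact ⟨0, map_zero f⟩
    · rintro _ _ _ _ ⟨x, rfl⟩ ⟨x', rfl⟩
      exact ⟨x + x', map_add f x x'⟩
    · rintro b _ _ ⟨x, rfl⟩
      refine ⟨σ b • x, ?_⟩
      rw [map_smul]
      have e1 : b • f x = (algebraMap A B (σ b)) • f x + (b - algebraMap A B (σ b)) • f x := by
        rw [← add_smul]
        congr 1
        ring
      rw [e1, Ideal.Cotangent.smul_eq_zero_of_mem (hσ b), add_zero, algebraMap_smul]
  -- the candidate derivation
  let δ₀ : B → J.Cotangent ⧸ W := fun b => W.mkQ (J.toCotangent ⟨b - algebraMap A B (σ b), hσ b⟩)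
  have hδ : ∀ (b : B) (a : A) (ha : b - algebraMap A B a ∈ J),
      δ₀ b = W.mkQ (J.toCotangent ⟨b - algebraMap A B a, ha⟩) := by
    intro b a ha
    have haI : a - σ b ∈ I := by
      rw [hImem, IsScalarTower.algebraMap_apply A B C, ← hJmem]
      have : algebraMap A B (a - σ b) = (b - algebraMap A B (σ b)) - (b - algebraMap A B a) := by
        rw [map_sub]; ring
      rw [this]
      exact J.sub_mem (hσ b) ha
    have hsub : J.toCotangent ⟨b - algebraMap A B (σ b), hσ b⟩ -
        J.toCotangent ⟨b - algebraMap A B a, ha⟩ = f (I.toCotangent ⟨a - σ b, haI⟩) := by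
      rw [hf, Ideal.mapCotangent_toCotangent, ← map_sub]
      congr 1
      apply Subtype.ext
      simp only [Algebra.ofId_apply, map_sub, AddSubgroupClass.coe_sub]
      ring
    show W.mkQ _ = W.mkQ _
    rw [← sub_eq_zero, ← map_sub, hsub, Submodule.mkQ_apply, Submodule.Quotient.mk_eq_zero]
    exact Submodule.subset_span ⟨_, rfl⟩
  have hkill : ∀ (j : B), j ∈ J → ∀ q : J.Cotangent ⧸ W, j • q = 0 := by
    intro j hj q
    obtain ⟨y, rfl⟩ := W.mkQ_surjective q
    rw [← map_smul, Ideal.Cotangent.smul_eq_zero_of_mem hj, map_zero]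
  let δ : Derivation A B (J.Cotangent ⧸ W) :=
    { toFun := δ₀
      map_add' := by
        intro b b'
        have hmem : (b + b') - algebraMap A B (σ b + σ b') ∈ J := by
          have : (b + b') - algebraMap A B (σ b + σ b') =
              (b - algebraMap A B (σ b)) + (b' - algebraMap A B (σ b')) := by
            rw [map_add]; ring
          rw [this]
          exact J.add_mem (hσ b) (hσ b')
        rw [hδ (b + b') (σ b + σ b') hmem]
        show _ = W.mkQ _ + W.mkQ _
        rw [← map_add, ← map_add]
        congr 2
        apply Subtype.ext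
        simp only [map_add, AddMemClass.coe_add]
        ring
      map_smul' := by
        intro a b
        have hmem : (a • b) - algebraMap A B (a * σ b) ∈ J := by
          have : (a • b) - algebraMap A B (a * σ b) = algebraMap A B a * (b - algebraMap A B (σ b)) := by
            rw [map_mul, Algebra.smul_def]; ring
          rw [this]
          exact J.mul_mem_left _ (hσ b)
        rw [hδ (a • b) (a * σ b) hmem]
        show _ = a • W.mkQ _
        rw [← algebraMap_smul B a (W.mkQ _), ← map_smul, ← map_smul]
        congr 2
        apply Subtype.ext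
        simp only [map_mul, SetLike.val_smul, smul_eq_mul, Algebra.smul_def]
        ring
      map_one_eq_zero' := by
        have hmem : (1 : B) - algebraMap A B 1 ∈ J := by
          rw [map_one, sub_self]; exact J.zero_mem
        show δ₀ 1 = 0
        rw [hδ 1 1 hmem]
        have : (⟨(1 : B) - algebraMap A B 1, hmem⟩ : J) = 0 := by
          apply Subtype.ext
          simp
        rw [this, map_zero, map_zero]
      leibniz' := by
        intro b b'
        have hmem : (b * b') - algebraMap A B (σ b * σ b') ∈ J := by
          have : (b * b') - algebraMap A B (σ b * σ b') =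
              b * (b' - algebraMap A B (σ b')) + algebraMap A B (σ b') * (b - algebraMap A B (σ b)) := by
            rw [map_mul]; ring
          rw [this]
          exact J.add_mem (J.mul_mem_left _ (hσ b')) (J.mul_mem_left _ (hσ b))
        show δ₀ (b * b') = b • δ₀ b' + b' • δ₀ b
        rw [hδ (b * b') (σ b * σ b') hmem]
        have e1 : b' • δ₀ b = (algebraMap A B (σ b')) • δ₀ b := by
          have : b' • δ₀ b = (algebraMap A B (σ b')) • δ₀ b + (b' - algebraMap A B (σ b')) • δ₀ b := by
            rw [← add_smul]; congr 1; ring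
          rw [this, hkill _ (hσ b'), add_zero]
        rw [e1]
        show _ = b • W.mkQ _ + (algebraMap A B (σ b')) • W.mkQ _
        rw [← map_smul, ← map_smul, ← map_smul, ← map_smul, ← map_add, ← map_add]
        congr 2
        apply Subtype.ext
        simp only [map_mul, AddMemClass.coe_add, SetLike.val_smul, smul_eq_mul]
        ring }
  have hδapp : ∀ b, δ b = δ₀ b := fun b => rfl
  -- the quotient `B ⧸ J` is `C`
  let φ : (B ⧸ J) →ₗ[B] C := Submodule.liftQ J (Algebra.linearMap B C)
    (fun x hx => by simpa [hJmem] using hx)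
  have hφ1 : φ 1 = 1 := by
    have : φ (Submodule.Quotient.mk (1 : B)) = Algebra.linearMap B C 1 :=
      Submodule.liftQ_apply J (Algebra.linearMap B C) 1
    rw [Algebra.linearMap_apply, map_one] at this
    exact this
  have hφbij : Function.Bijective φ := by
    constructor
    · rw [← LinearMap.ker_eq_bot]
      apply Submodule.ker_liftQ_eq_bot'
      ext x
      simp [hJmem]
    · intro c
      obtain ⟨b, rfl⟩ := hBC c
      exact ⟨Submodule.Quotient.mk b, Submodule.liftQ_apply J (Algebra.linearMap B C) b⟩
  let ε : C ≃ₗ[B] (B ⧸ J) := (LinearEquiv.ofBijective φ hφbij).symm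
  have hε1 : ε 1 = 1 := by
    rw [LinearEquiv.symm_apply_eq]
    exact hφ1.symm
  intro y
  constructor
  · intro hy
    obtain ⟨x, rfl⟩ := J.toCotangent_surjective y
    rw [KaehlerDifferential.kerCotangentToTensor_toCotangent] at hy
    -- `D x ∈ J • ⊤`
    have h1 : (1 : B ⧸ J) ⊗ₜ[B] (KaehlerDifferential.D A B x.1) = 0 := by
      have := congrArg (ε.toLinearMap.rTensor (Ω[B⁄A])) hy
      rw [LinearMap.rTensor_tmul, map_zero] at this
      rw [← hε1]
      exact this
    have h2 : KaehlerDifferential.D A B x.1 ∈ J • (⊤ : Submodule B (Ω[B⁄A])) := by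
      rw [← LinearMap.ker_tensorProductMk]
      exact h1
    have h3 : ∀ ω ∈ J • (⊤ : Submodule B (Ω[B⁄A])), δ.liftKaehlerDifferential ω = 0 := by
      intro ω hω
      refine Submodule.smul_induction_on hω ?_ ?_
      · intro j hj ω' _
        rw [map_smul]
        exact hkill j hj _
      · intro ω₁ ω₂ h₁ h₂
        rw [map_add, h₁, h₂, add_zero]
    have h4 := h3 _ h2
    rw [Derivation.liftKaehlerDifferential_comp_D, hδapp] at h4
    have hx0 : x.1 - algebraMap A B 0 ∈ J := by
      rw [map_zero, sub_zero]; exact x.2
    rw [hδ x.1 0 hx0] at h4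
    have : (⟨x.1 - algebraMap A B 0, hx0⟩ : J) = x := by
      apply Subtype.ext
      simp
    rw [this, Submodule.mkQ_apply, Submodule.Quotient.mk_eq_zero] at h4
    exact hW _ h4
  · rintro ⟨x, rfl⟩
    obtain ⟨a, rfl⟩ := I.toCotangent_surjective x
    rw [hf, Ideal.mapCotangent_toCotangent, KaehlerDifferential.kerCotangentToTensor_toCotangent]
    simp

end Groth.Agent.S9178
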