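import Groth.Statements.S9179
import Groth.Agent.Lib.Helper4.IndCriterion

set_option autoImplicit false
universe u
open CategoryTheory CategoryTheory.Limits
open CAlg

namespace Groth.Agent.S9179

section Aux

variable {R : Type u} [CommRing R] {P : Type u} [CommRing P] [Algebra R P]
  {A : Type u} [CommRing A] [Algebra R A] (π : P →ₐ[R] A)

/-- finitely generated subideals of the kernel -/
abbrev Idx : Type u := {J : Ideal P // J.FG ∧ J ≤ RingHom.ker (π : P →+* A)}

instance : Nonempty (Idx π) := ⟨⟨⊥, Submodule.fg_bot, bot_le⟩⟩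

instance : IsDirected (Idx π) (· ≤ ·) :=
  ⟨fun J J' => ⟨⟨J.1 ⊔ J'.1, Submodule.FG.sup J.2.1 J'.2.1, sup_le J.2.2 J'.2.2⟩,
    le_sup_left (a := J.1), le_sup_right (b := J'.1)⟩⟩

/-- the diagram of quotients -/
noncomputable def diag : Idx π ⥤ Under (CommRingCat.of R) where
  obj J := Under.mk (CommRingCat.ofHom (algebraMap R (P ⧸ J.1)))
  map {J J'} h := Under.homMk (CommRingCat.ofHom (Ideal.Quotient.factor (leOfHom h))) (by
    ext r
    rfl)
  map_id J := by
    apply Under.UnderMorphism.ext
    apply CommRingCat.hom_ext
    apply Ideal.Quotient.ringHom_ext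
    ext x
    rfl
  map_comp {J J' J''} h h' := by
    apply Under.UnderMorphism.ext
    apply CommRingCat.hom_ext
    apply Ideal.Quotient.ringHom_ext
    ext x
    rfl

/-- the cocone with point `A` -/
noncomputable def cocone : Cocone (diag π) where
  pt := Under.mk (CommRingCat.ofHom (algebraMap R A))
  ι :=
    { app := fun J => Under.homMk (CommRingCat.ofHom (Ideal.Quotient.lift J.1 (π : P →+* A)
        (fun x hx => by
          have := J.2.2 hx
          rwa [RingHom.mem_ker] at this))) (by
        ext r
        exact π.commutes r)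
      naturality := fun J J' h => by
        apply Under.UnderMorphism.ext
        apply CommRingCat.hom_ext
        apply Ideal.Quotient.ringHom_ext
        ext x
        rfl }

end Aux

/-- An R-algebra of finite type is the colimit of a filtered system of finitely presented R-algebras
whose transition maps are all surjective. -/
theorem result (R A : Type u) [CommRing R] [CommRing A]
    [Algebra R A] [Algebra.FiniteType R A] :
    ∃ (I : Type u) (_ : SmallCategory I) (_ : IsFiltered I) (D : I ⥤ Under (CommRingCat.of R))
      (c : Cocone D) (_ : IsColimit c),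
      (∀ i, (D.obj i).hom.hom.FinitePresentation) ∧
      (∀ (i j : I) (φ : i ⟶ j), Function.Surjective (D.map φ).right.hom) ∧
      Nonempty (c.pt ≅ Under.mk (CommRingCat.ofHom (algebraMap R A))) := by
  classical
  obtain ⟨n, π, hπ⟩ := Algebra.FiniteType.iff_quotient_mvPolynomial''.mp
    (inferInstance : Algebra.FiniteType R A)
  refine ⟨Idx π, inferInstance, inferInstance, diag π, cocone π, ?_, ?_, ?_, ⟨Iso.refl _⟩⟩
  · apply Groth.Agent.Lib.Helper4.isColimitOfSurjInj
    · intro (a : A)
      obtain ⟨x, rfl⟩ := hπ a
      exact ⟨⟨⊥, Submodule.fg_bot, bot_le⟩, Ideal.Quotient.mk _ x, rfl⟩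
    · intro J (y : MvPolynomial (Fin n) R ⧸ J.1) (y' : MvPolynomial (Fin n) R ⧸ J.1) hyy'
      obtain ⟨x, rfl⟩ := Ideal.Quotient.mk_surjective y
      obtain ⟨x', rfl⟩ := Ideal.Quotient.mk_surjective y'
      have h1 : π x = π x' := hyy'
      have h2 : x - x' ∈ RingHom.ker (π : MvPolynomial (Fin n) R →+* A) := by
        rw [RingHom.mem_ker, map_sub, sub_eq_zero]
        exact h1
      let J' : Idx π := ⟨J.1 ⊔ Ideal.span {x - x'},
        Submodule.FG.sup J.2.1 (Submodule.fg_span (Set.finite_singleton _)),
        sup_le J.2.2 (by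
          rw [Ideal.span_le]
          intro z hz
          rw [Set.mem_singleton_iff] at hz
          rw [hz]
          exact h2)⟩
      have hle : J ≤ J' := le_sup_left (a := J.1)
      refine ⟨J', homOfLE hle, ?_⟩
      change Ideal.Quotient.mk J'.1 x = Ideal.Quotient.mk J'.1 x'
      rw [Ideal.Quotient.eq]
      exact Ideal.mem_sup_right (Ideal.subset_span rfl)
  · intro J
    change (algebraMap R (MvPolynomial (Fin n) R ⧸ J.1)).FinitePresentation
    rw [RingHom.finitePresentation_algebraMap]
    exact Algebra.FinitePresentation.quotient J.2.1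
  · intro J J' h
    exact Ideal.Quotient.factor_surjective (leOfHom h)

end Groth.Agent.S9179
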