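import Groth.Statements.S9180
-- import your own Groth.Agent.* helpers here
import Mathlib
import Groth.Agent.Lib.Helper67.FieldExtDim
import Groth.Agent.Lib.Helper62.DimLoc8
import Groth.Agent.Lib.Helper73.DimField
import Groth.Agent.Lib.Helper29.RegHom
import Groth.Agent.S9159

set_option autoImplicit false
universe u
open CAlg

namespace Groth.Agent.S9180

open CAlg
open TensorProduct Groth.Agent.Lib.Helper67.FieldExtDim

/-- dimension formula for the fibre local ring of a flat map of Noetherian rings. -/
theorem fibLoc_dim_add {A B : Type u} [CommRing A] [CommRing B] [Algebra A B] [IsNoetherianRing A]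
    [IsNoetherianRing B] [Module.Flat A B]
    (p : Ideal A) [p.IsPrime] (Q : Ideal B) [Q.IsPrime] [Q.LiesOver p] :
    ringKrullDim (EGA4.FibLocRing A B Q) + ringKrullDim (Localization.AtPrime p) =
      ringKrullDim (Localization.AtPrime Q) := by
  letI := Localization.AtPrime.algebraOfLiesOver p Q
  haveI := S9159.isLocalHom_atPrime Q p
  have h := Groth.Agent.Lib.Helper29.RegHom.ringKrullDim_eq_add (Localization.AtPrime p)
    (Localization.AtPrime Q)
  have hI : (Q.comap (algebraMap A B)).map (algebraMap A (Localization.AtPrime Q)) =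
      (IsLocalRing.maximalIdeal (Localization.AtPrime p)).map
        (algebraMap (Localization.AtPrime p) (Localization.AtPrime Q)) := by
    rw [← Localization.AtPrime.map_eq_maximalIdeal, Ideal.map_map, ← IsScalarTower.algebraMap_eq,
      ← Ideal.under_def, ← Ideal.LiesOver.over (p := p) (P := Q)]
  rw [h, add_comm]
  congr 1
  exact ringKrullDim_eq_of_ringEquiv (Ideal.quotEquivOfEq hI)

/-- a prime minimal over `pB` lies over `p` (going-down) and has zero-dimensional fibre local
ring. -/
theorem exists_fibLoc_dim_zero {A B : Type u} [CommRing A] [CommRing B] [Algebra A B]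
    [IsNoetherianRing B] [Algebra.HasGoingDown A B]
    (p : Ideal A) [p.IsPrime] (Q : Ideal B) [Q.IsPrime] [Q.LiesOver p] :
    ∃ (q' : Ideal B) (_ : q'.IsPrime), q'.LiesOver p ∧
      ringKrullDim (EGA4.FibLocRing A B q') = 0 := by
  have hle : p.map (algebraMap A B) ≤ Q :=
    Ideal.map_le_iff_le_comap.mpr (le_of_eq (Ideal.LiesOver.over (p := p) (P := Q)))
  obtain ⟨q', hq'min, hq'Q⟩ := Ideal.exists_minimalPrimes_le hle
  haveI hq'prime : q'.IsPrime := hq'min.1.1
  have hpq' : p ≤ q'.under A := Ideal.map_le_iff_le_comap.mp hq'min.1.2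
  have hq'p : q'.under A = p := by
    by_contra hne
    haveI : (q'.under A).IsPrime := Ideal.IsPrime.under A q'
    haveI : q'.LiesOver (q'.under A) := ⟨rfl⟩
    obtain ⟨P, hPq', hPprime, hPover⟩ := Ideal.exists_ideal_lt_liesOver_of_lt (p := p)
      (q := q'.under A) q' (lt_of_le_of_ne hpq' (Ne.symm hne))
    have : p.map (algebraMap A B) ≤ P :=
      Ideal.map_le_iff_le_comap.mpr (le_of_eq hPover.over)
    exact absurd (hq'min.2 ⟨hPprime, this⟩ hPq'.le) (not_le_of_gt hPq')
  haveI : q'.LiesOver p := ⟨hq'p.symm⟩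
  refine ⟨q', inferInstance, inferInstance, ?_⟩
  have hI : (q'.comap (algebraMap A B)).map (algebraMap A (Localization.AtPrime q')) =
      (p.map (algebraMap A B)).map (algebraMap B (Localization.AtPrime q')) := by
    rw [Ideal.map_map, ← IsScalarTower.algebraMap_eq, ← Ideal.under_def, hq'p]
  have hmin : IsLocalRing.maximalIdeal (Localization.AtPrime q') ∈
      ((p.map (algebraMap A B)).map (algebraMap B (Localization.AtPrime q'))).minimalPrimes := by
    rwa [IsLocalization.minimalPrimes_map q'.primeCompl (Localization.AtPrime q') _,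
      Set.mem_preimage, Localization.AtPrime.under_maximalIdeal]
  haveI := IsLocalRing.quotient_artinian_of_mem_minimalPrimes_of_isLocalRing _ hmin
  rw [ringKrullDim_eq_of_ringEquiv (Ideal.quotEquivOfEq hI)]
  haveI : Nontrivial (Localization.AtPrime q' ⧸
      (p.map (algebraMap A B)).map (algebraMap B (Localization.AtPrime q'))) :=
    Ideal.Quotient.nontrivial_iff.mpr (fun h => (IsLocalRing.maximalIdeal.isMaximal _).ne_top
      (top_le_iff.mp (h ▸ hmin.1.2)))
  rw [← ringKrullDimZero_iff_ringKrullDim_eq_zero, ← isArtinianRing_iff_krullDimLE_zero]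
  infer_instance

/-- `dim S/q = trdeg_k κ(q)`. -/
theorem dim_quot (k S : Type u) [Field k] [CommRing S] [Algebra k S] [Algebra.FiniteType k S]
    (q : Ideal S) [q.IsPrime] (r : ℕ) (hr : Algebra.trdeg k q.ResidueField = r) :
    ringKrullDim (S ⧸ q) = (r : WithBot ℕ∞) := by
  obtain ⟨n, hn1, hn2, -, -⟩ :=
    Groth.Agent.Lib.Helper73.DimFormula.exists_trdeg_eq_ringKrullDim k (S ⧸ q)
  have h : Algebra.trdeg k q.ResidueField = Algebra.trdeg k (S ⧸ q) :=
    Groth.Agent.Lib.Helper73.DimFormula.trdeg_eq_of_isAlgebraic_top k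
  rw [hr, hn1] at h
  have : r = n := by exact_mod_cast h
  rw [hn2, this]

open TensorProduct in
/-- Let S be of finite type over a field k, K an extension field of k, S_K = S ⊗_k K, q a prime of S
whose residue field has transcendence degree r over k, and q_K a prime of S_K lying over q whose
residue field has transcendence degree r_K over K. Then the local ring at q_K of the fibre of S →
S_K over q has dimension dim (S_K)_{q_K} − dim S_q = r − r_K (stated additively), and there is a
prime of S_K over q for which this dimension is zero. -/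
theorem result (k S K : Type u) [Field k] [CommRing S] [Algebra k S]
    [Algebra.FiniteType k S] [Field K] [Algebra k K] (q : Ideal S) [q.IsPrime] (r : ℕ)
    (hr : Algebra.trdeg k q.ResidueField = r) (qK : Ideal (S ⊗[k] K)) [qK.IsPrime] [qK.LiesOver q]
    (rK : ℕ)
    (hrK : letI : Algebra K (S ⊗[k] K) := Algebra.TensorProduct.rightAlgebra
      Algebra.trdeg K qK.ResidueField = rK) :
    ringKrullDim (EGA4.FibLocRing S (S ⊗[k] K) qK) + ringKrullDim (Localization.AtPrime q) =
        ringKrullDim (Localization.AtPrime qK) ∧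
      ringKrullDim (EGA4.FibLocRing S (S ⊗[k] K) qK) + (rK : WithBot ℕ∞) = (r : WithBot ℕ∞) ∧
      ∃ (q' : Ideal (S ⊗[k] K)) (_ : q'.IsPrime), q'.LiesOver q ∧
        ringKrullDim (EGA4.FibLocRing S (S ⊗[k] K) q') = 0 := by
  letI : Algebra K (S ⊗[k] K) := Algebra.TensorProduct.rightAlgebra
  haveI := finiteType_tensor_right k S K
  haveI : IsNoetherianRing S := Algebra.FiniteType.isNoetherianRing k S
  haveI : IsNoetherianRing (S ⊗[k] K) := isNoetherianRing_tensor k S K
  have h1 := fibLoc_dim_add q qK
  have hE := localDim_tensor_field k S K q qK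
  rw [Groth.Agent.Lib.Helper62.DimLoc.localDim_eq_ringKrullDim_add K (S ⊗[k] K) qK,
    Groth.Agent.Lib.Helper62.DimLoc.localDim_eq_ringKrullDim_add k S q,
    dim_quot K (S ⊗[k] K) qK rK hrK, dim_quot k S q r hr] at hE
  refine ⟨h1, ?_, exists_fibLoc_dim_zero q qK⟩
  obtain ⟨a, ha⟩ := S9159.exists_nat_ringKrullDim (Localization.AtPrime q)
  obtain ⟨b, hb⟩ := S9159.exists_nat_ringKrullDim (Localization.AtPrime qK)
  rw [ha, hb] at hE
  rw [ha, hb] at h1
  generalize ringKrullDim (EGA4.FibLocRing S (S ⊗[k] K) qK) = x at h1 ⊢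
  induction x using WithBot.recBotCoe with
  | bot => simp at h1
  | coe y =>
    induction y using ENat.recTopCoe with
    | top =>
      exfalso
      have : ((⊤ : ℕ∞) : WithBot ℕ∞) + (a : WithBot ℕ∞) = ((⊤ : ℕ∞) : WithBot ℕ∞) := by
        rw [← WithBot.coe_natCast, ← WithBot.coe_add, top_add]
      rw [this] at h1
      have h2 : ((⊤ : ℕ∞) : WithBot ℕ∞) = ((b : ℕ∞) : WithBot ℕ∞) := by
        rw [h1, WithBot.coe_natCast]
      exact ENat.top_ne_coe b (WithBot.coe_injective h2)
    | coe c =>
      have h1' : c + a = b := by exact_mod_cast h1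
      have hE' : b + rK = a + r := by exact_mod_cast hE
      have : c + rK = r := by omega
      exact_mod_cast this

end Groth.Agent.S9180
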