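import Groth.Statements.S9181
-- import your own Groth.Agent.* helpers here
import Mathlib
import Groth.Agent.Lib.Helper35.NoetherFibre
import Groth.Agent.Lib.Helper86.StrongNoether3
import Groth.Agent.S9175
import Groth.Agent.Lib.Helper67.StrongNNFibre

set_option autoImplicit false
universe u
open CAlg

namespace Groth.Agent.S9181

open CAlg
open TensorProduct MvPolynomial Groth.Agent.Lib.Helper67.StrongNNFibre

/-- core: Noether normalization of the fibre adapted to the prime, lifted to `R`. -/
theorem core {R S' : Type u} [CommRing R] [CommRing S'] [Algebra R S']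
    (p : Ideal R) [p.IsPrime] (q' : Ideal S') [q'.IsPrime]
    (QA : Ideal (p.ResidueField ⊗[R] S')) [QA.IsPrime]
    (hQA : QA.comap (Algebra.TensorProduct.includeRight (R := R) (A := p.ResidueField)
      (B := S')).toRingHom = q')
    (n r : ℕ) (ψ₀ : MvPolynomial (Fin n) p.ResidueField →ₐ[p.ResidueField] p.ResidueField ⊗[R] S')
    (hψ₀ : ψ₀.toRingHom.Finite)
    (htr : Algebra.trdeg p.ResidueField QA.ResidueField = r) :
    ∃ b' : Fin n → S',
      (Algebra.TensorProduct.map (AlgHom.id R p.ResidueField)
        (aeval b' : MvPolynomial (Fin n) R →ₐ[R] S')).toRingHom.IsIntegral ∧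
      q'.comap (aeval b' : MvPolynomial (Fin n) R →ₐ[R] S').toRingHom =
        p.map (algebraMap R (MvPolynomial (Fin n) R)) ⊔
          Ideal.span (Set.range fun i : {i : Fin n // r ≤ (i : ℕ)} =>
            (X (i : Fin n) : MvPolynomial (Fin n) R)) := by
  set Q₀ : Ideal (MvPolynomial (Fin n) p.ResidueField) := QA.comap ψ₀.toRingHom with hQ₀
  haveI : Q₀.IsPrime := Ideal.comap_isPrime _ _
  have htr₀ : Algebra.trdeg p.ResidueField Q₀.ResidueField = r := by
    have htr' := htr
    rw [algebra_eq p QA] at htr'
    exact (trdeg_residueField_comap_of_isIntegral ψ₀ (RingHom.Finite.to_isIntegral hψ₀) QA Q₀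
      hQ₀).trans htr'
  obtain ⟨φs, hφs, hc⟩ :=
    Groth.Agent.Lib.Helper86.StrongNoether.strong_noether_normalization n r Q₀ htr₀
  obtain ⟨c, b', hc0, hψ'⟩ := exists_lift_rescale (S9175.hfrac p) (ψ₀.comp φs)
  have hfin : (aeval (fun i => (1 : p.ResidueField) ⊗ₜ[R] b' i) :
      MvPolynomial (Fin n) p.ResidueField →ₐ[p.ResidueField] p.ResidueField ⊗[R] S').Finite := by
    rw [hψ']
    exact AlgHom.Finite.comp (AlgHom.Finite.comp hψ₀ hφs)
      (Groth.Agent.Lib.Helper35.NoetherFibre.finite_rescale c hc0)
  have hQψ' : QA.comap (aeval (fun i => (1 : p.ResidueField) ⊗ₜ[R] b' i) :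
      MvPolynomial (Fin n) p.ResidueField →ₐ[p.ResidueField] p.ResidueField ⊗[R] S').toRingHom =
      Ideal.span (Set.range fun i : {i : Fin n // r ≤ (i : ℕ)} =>
        (X (i : Fin n) : MvPolynomial (Fin n) p.ResidueField)) := by
    rw [hψ']
    have h1 : QA.comap ((ψ₀.comp φs).comp (aeval (fun i => C (c i) * X i) :
        MvPolynomial (Fin n) p.ResidueField →ₐ[p.ResidueField] _)).toRingHom =
        ((QA.comap ψ₀.toRingHom).comap φs).comap (aeval (fun i => C (c i) * X i) :
        MvPolynomial (Fin n) p.ResidueField →ₐ[p.ResidueField] _) := by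
      ext x
      simp [Ideal.mem_comap]
    rw [h1, ← hQ₀, hc]
    exact comap_rescale_span r c hc0
  refine ⟨b', ?_, ?_⟩
  · let σ : MvPolynomial (Fin n) p.ResidueField →ₐ[p.ResidueField]
        p.ResidueField ⊗[R] MvPolynomial (Fin n) R :=
      aeval (fun i => (1 : p.ResidueField) ⊗ₜ[R] X i)
    apply RingHom.IsIntegral.tower_top σ.toRingHom
    have hcomp : (Algebra.TensorProduct.map (AlgHom.id R p.ResidueField)
        (aeval b' : MvPolynomial (Fin n) R →ₐ[R] S')).toRingHom.comp σ.toRingHom =
        (aeval (fun i => (1 : p.ResidueField) ⊗ₜ[R] b' i) :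
        MvPolynomial (Fin n) p.ResidueField →ₐ[p.ResidueField]
          p.ResidueField ⊗[R] S').toRingHom := by
      apply MvPolynomial.ringHom_ext
      · intro a
        simp [σ, Algebra.TensorProduct.algebraMap_apply]
      · intro i
        simp [σ]
    rw [hcomp]
    exact RingHom.Finite.to_isIntegral hfin
  · rw [← comap_map_span p n r, ← hQψ', ← hQA, Ideal.comap_comap, Ideal.comap_comap]
    congr 1
    apply MvPolynomial.ringHom_ext
    · intro a
      simp only [RingHom.comp_apply, AlgHom.toRingHom_eq_coe, RingHom.coe_coe, MvPolynomial.map_C,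
        Algebra.TensorProduct.includeRight_apply]
      rw [← MvPolynomial.algebraMap_eq, ← MvPolynomial.algebraMap_eq, AlgHom.commutes,
        AlgHom.commutes, Algebra.TensorProduct.algebraMap_apply, Algebra.algebraMap_eq_smul_one a,
        Algebra.algebraMap_eq_smul_one (A := p.ResidueField) a, Algebra.algebraMap_self,
        RingHom.id_apply, TensorProduct.smul_tmul]
    · intro i
      simp


/-- an algebra isomorphism identifies extended ideals. -/
theorem comap_algEquiv_map {S L L' : Type*} [CommRing S] [CommRing L] [CommRing L'] [Algebra S L]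
    [Algebra S L'] (e : L ≃ₐ[S] L') (I : Ideal S) :
    (I.map (algebraMap S L')).comap (e : L →+* L') = I.map (algebraMap S L) := by
  have h : (I.map (algebraMap S L)).map (e : L →+* L') = I.map (algebraMap S L') := by
    rw [Ideal.map_map]
    congr 1
    ext s
    exact e.commutes s
  rw [← h]
  exact Ideal.comap_map_of_bijective _ e.bijective

/-- Let R → S be of finite type, q a prime of S over p, Q the prime of κ(p) ⊗ S over q, with the fibre
of local dimension n at Q and κ(q) of transcendence degree r over κ(p). Then for some f ∉ p and g ∉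
q there is an R-algebra map φ : R_f[x_1, …, x_n] → S_g, of finite type and quasi-finite, such that
the inverse image of q S_g under φ is the ideal generated by p and the variables x_{r+1}, …, x_n. -/
theorem result (R S : Type u) [CommRing R] [CommRing S]
    [Algebra R S] [Algebra.FiniteType R S] (p : Ideal R) [p.IsPrime] (q : Ideal S) [q.IsPrime] [q.LiesOver p]
    [Algebra (Localization.AtPrime p) (Localization.AtPrime q)]
    [Localization.AtPrime.IsLiesOverAlgebra p q] (Q : PrimeSpectrum (p.Fiber S))
    (hQ : Q.asIdeal.comap (Algebra.TensorProduct.includeRight.toRingHom) = q) (n r : ℕ)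
    (hdim : FlatMor.localDim (PrimeSpectrum (p.Fiber S)) Q = (n : WithBot ℕ∞))
    (hr : Algebra.trdeg p.ResidueField q.ResidueField = r) :
    ∃ (f : R) (g : S), f ∉ p ∧ g ∉ q ∧
      ∃ φ : MvPolynomial (Fin n) (Localization.Away f) →ₐ[R] Localization.Away g,
        φ.toRingHom.FiniteType ∧ φ.toRingHom.QuasiFinite ∧
        (q.map (algebraMap S (Localization.Away g))).comap φ =
          p.map (algebraMap R (MvPolynomial (Fin n) (Localization.Away f))) ⊔
            Ideal.span (Set.range fun i : {i : Fin n // r ≤ (i : ℕ)} =>
              (MvPolynomial.X (i : Fin n) : MvPolynomial (Fin n) (Localization.Away f))) := by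
  obtain ⟨g₀, hg₀q, hdim'⟩ := S9175.exists_away_dim R S p q Q hQ n hdim
  haveI : Algebra.FiniteType R (Localization.Away g₀) :=
    Algebra.FiniteType.trans (inferInstance : Algebra.FiniteType R S)
      (IsLocalization.finiteType_of_monoid_fg (Submonoid.powers g₀) (Localization.Away g₀))
  obtain ⟨b, hb⟩ := Groth.Agent.Lib.Helper35.NoetherFibre.exists_finite_aeval (A := R)
    (κ := p.ResidueField) (B := Localization.Away g₀) (S9175.hfrac p) n hdim'
  -- the prime of the localization
  have hdisj : Disjoint (Submonoid.powers g₀ : Set S) (q : Set S) := by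
    rw [Set.disjoint_left]
    rintro x ⟨k, rfl⟩ hx
    exact hg₀q (Ideal.IsPrime.mem_of_pow_mem inferInstance k hx)
  let q' : Ideal (Localization.Away g₀) := q.map (algebraMap S (Localization.Away g₀))
  haveI hq'prime : q'.IsPrime :=
    IsLocalization.isPrime_of_isPrime_disjoint (Submonoid.powers g₀) _ q inferInstance hdisj
  have hq'comap : q'.comap (algebraMap S (Localization.Away g₀)) = q :=
    IsLocalization.under_map_of_isPrime_disjoint (Submonoid.powers g₀) _ inferInstance hdisj
  haveI : q'.LiesOver p := by
    constructor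
    rw [Ideal.under, IsScalarTower.algebraMap_eq R S (Localization.Away g₀), ← Ideal.comap_comap,
      hq'comap]
    exact Ideal.LiesOver.over
  let QA : Ideal (p.Fiber (Localization.Away g₀)) :=
    (PrimeSpectrum.primesOverOrderIsoFiber R (Localization.Away g₀) p ⟨q', ‹_›, ‹_›⟩).asIdeal
  have hQA : QA.comap Algebra.TensorProduct.includeRight.toRingHom = q' :=
    congr($((PrimeSpectrum.primesOverOrderIsoFiber R (Localization.Away g₀) p).symm_apply_apply
      ⟨q', ‹_›, ‹_›⟩).1)
  have htr : Algebra.trdeg p.ResidueField QA.ResidueField = r := by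
    rw [← hr]
    apply trdeg_residueField_fibre (RingHom.surjectiveOnStalks_of_isLocalization
      (M := Submonoid.powers g₀) (Localization.Away g₀)) p q QA
    rw [← Ideal.comap_comap, hQA, hq'comap]
  let ψ₀ : MvPolynomial (Fin n) p.ResidueField →ₐ[p.ResidueField]
      p.ResidueField ⊗[R] Localization.Away g₀ :=
    aeval (fun i => (1 : p.ResidueField) ⊗ₜ[R] b ⟨i⟩)
  have hψ₀ : ψ₀.toRingHom.Finite := by
    have : ψ₀ = (aeval (fun i => (1 : p.ResidueField) ⊗ₜ[R] b i) :
        MvPolynomial (ULift.{u} (Fin n)) p.ResidueField →ₐ[p.ResidueField] _).comp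
        (rename (ULift.up : Fin n → ULift.{u} (Fin n))) := by
      apply MvPolynomial.algHom_ext
      intro i
      simp [ψ₀]
    rw [this]
    refine AlgHom.Finite.comp hb ?_
    apply AlgHom.Finite.of_surjective
    exact (MvPolynomial.renameEquiv p.ResidueField
      (Equiv.ulift.symm : Fin n ≃ ULift.{u} (Fin n))).surjective
  obtain ⟨b', hint, hcomap⟩ := core p q' QA hQA n r ψ₀ hψ₀ htr
  let φ₀ : MvPolynomial (Fin n) R →ₐ[R] Localization.Away g₀ := aeval b'
  letI : Algebra (MvPolynomial (Fin n) R) (Localization.Away g₀) := φ₀.toRingHom.toAlgebra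
  haveI : IsScalarTower R (MvPolynomial (Fin n) R) (Localization.Away g₀) :=
    IsScalarTower.of_algebraMap_eq (fun r => (φ₀.commutes r).symm)
  haveI : Algebra.FiniteType (MvPolynomial (Fin n) R) (Localization.Away g₀) :=
    Algebra.FiniteType.of_restrictScalars_finiteType R _ _
  have H : (Algebra.TensorProduct.map (AlgHom.id R p.ResidueField)
      (IsScalarTower.toAlgHom R (MvPolynomial (Fin n) R)
        (Localization.Away g₀))).toRingHom.IsIntegral := by
    have : IsScalarTower.toAlgHom R (MvPolynomial (Fin n) R) (Localization.Away g₀) = φ₀ :=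
      AlgHom.ext fun x => rfl
    rw [this]
    exact hint
  haveI := S9175.quasiFiniteAt_of_isIntegral_baseChange p q' H
  obtain ⟨r₁, hr₁, hqf⟩ := S9175.exists_quasiFinite_away (T := MvPolynomial (Fin n) R) q'
  obtain ⟨a, hassoc, ⟨e⟩⟩ := S9175.exists_away_algEquiv g₀ r₁
  refine ⟨1, g₀ * a, Ideal.IsPrime.one_notMem inferInstance, ?_, ?_⟩
  · intro h
    rcases Ideal.IsPrime.mem_or_mem inferInstance h with h | h
    · exact hg₀q h
    · obtain ⟨u, hu⟩ := hassoc
      have h1 : algebraMap S (Localization.Away g₀) a ∈ q' := Ideal.mem_map_of_mem _ h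
      rw [← hu] at h1
      rcases hq'prime.mem_or_mem h1 with h2 | h2
      · exact hr₁ h2
      · exact hq'prime.ne_top (Ideal.eq_top_of_isUnit_mem _ h2 u.isUnit)
  · let ε : Localization.Away (1 : R) ≃ₐ[R] R :=
      (IsLocalization.atOne R (Localization.Away (1 : R))).symm
    let E : MvPolynomial (Fin n) (Localization.Away (1 : R)) ≃ₐ[R] MvPolynomial (Fin n) R :=
      MvPolynomial.mapAlgEquiv (Fin n) ε
    let φR : MvPolynomial (Fin n) R →ₐ[R] Localization.Away (g₀ * a) :=
      ((e.symm.restrictScalars R : Localization.Away r₁ ≃ₐ[R] Localization.Away (g₀ * a)) :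
        Localization.Away r₁ →ₐ[R] Localization.Away (g₀ * a)).comp
        (IsScalarTower.toAlgHom R (MvPolynomial (Fin n) R) (Localization.Away r₁))
    refine ⟨φR.comp (E : MvPolynomial (Fin n) (Localization.Away (1 : R)) →ₐ[R]
      MvPolynomial (Fin n) R), ?_, ?_, ?_⟩
    · apply RingHom.FiniteType.of_comp_finiteType
        (f := algebraMap R (MvPolynomial (Fin n) (Localization.Away (1 : R))))
      rw [AlgHom.toRingHom_eq_coe, AlgHom.comp_algebraMap, RingHom.finiteType_algebraMap]
      exact Algebra.FiniteType.trans (inferInstance : Algebra.FiniteType R S)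
        (IsLocalization.finiteType_of_monoid_fg (Submonoid.powers (g₀ * a)) _)
    · have h1 : (algebraMap (MvPolynomial (Fin n) R) (Localization.Away r₁)).QuasiFinite :=
        RingHom.quasiFinite_algebraMap.mpr hqf
      have h2 : (e.symm.toRingEquiv.toRingHom).QuasiFinite :=
        RingHom.QuasiFinite.of_finite (RingEquiv.finite _)
      have h3 : (E.toRingEquiv.toRingHom).QuasiFinite :=
        RingHom.QuasiFinite.of_finite (RingEquiv.finite _)
      have h4 : (φR.comp (E : MvPolynomial (Fin n) (Localization.Away (1 : R)) →ₐ[R]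
          MvPolynomial (Fin n) R)).toRingHom =
          ((e.symm.toRingEquiv.toRingHom).comp
          (algebraMap (MvPolynomial (Fin n) R) (Localization.Away r₁))).comp
            E.toRingEquiv.toRingHom := by
        refine RingHom.ext fun x => ?_
        rfl
      rw [h4]
      exact RingHom.QuasiFinite.comp (RingHom.QuasiFinite.comp h2 h1) h3
    · -- the ideal equation
      have hdisj' : Disjoint (Submonoid.powers r₁ : Set (Localization.Away g₀))
          (q' : Set (Localization.Away g₀)) := by
        rw [Set.disjoint_left]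
        rintro x ⟨k, rfl⟩ hx
        exact hr₁ (hq'prime.mem_of_pow_mem k hx)
      have hstep1 : (q.map (algebraMap S (Localization.Away (g₀ * a)))).comap φR.toRingHom =
          q'.comap φ₀.toRingHom := by
        have h1 := comap_algEquiv_map e.symm q
        have h2 : q.map (algebraMap S (Localization.Away r₁)) =
            q'.map (algebraMap (Localization.Away g₀) (Localization.Away r₁)) := by
          rw [Ideal.map_map, ← IsScalarTower.algebraMap_eq]
        have h3 : (q'.map (algebraMap (Localization.Away g₀) (Localization.Away r₁))).comap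
            (algebraMap (Localization.Away g₀) (Localization.Away r₁)) = q' :=
          IsLocalization.under_map_of_isPrime_disjoint (Submonoid.powers r₁) _ hq'prime hdisj'
        have h4 : φR.toRingHom = ((e.symm : Localization.Away r₁ →+* Localization.Away (g₀ * a)).comp
            (algebraMap (Localization.Away g₀) (Localization.Away r₁))).comp φ₀.toRingHom := by
          refine RingHom.ext fun x => ?_
          rfl
        rw [h4, ← Ideal.comap_comap, ← Ideal.comap_comap, h1, h2, h3]
      have hstep2 : (p.map (algebraMap R (MvPolynomial (Fin n) R)) ⊔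
          Ideal.span (Set.range fun i : {i : Fin n // r ≤ (i : ℕ)} =>
            (X (i : Fin n) : MvPolynomial (Fin n) R))).comap
            (E : MvPolynomial (Fin n) (Localization.Away (1 : R)) →+* MvPolynomial (Fin n) R) =
          p.map (algebraMap R (MvPolynomial (Fin n) (Localization.Away (1 : R)))) ⊔
            Ideal.span (Set.range fun i : {i : Fin n // r ≤ (i : ℕ)} =>
              (X (i : Fin n) : MvPolynomial (Fin n) (Localization.Away (1 : R)))) := by
        have hm : (p.map (algebraMap R (MvPolynomial (Fin n) (Localization.Away (1 : R)))) ⊔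
            Ideal.span (Set.range fun i : {i : Fin n // r ≤ (i : ℕ)} =>
              (X (i : Fin n) : MvPolynomial (Fin n) (Localization.Away (1 : R))))).map
            (E : MvPolynomial (Fin n) (Localization.Away (1 : R)) →+* MvPolynomial (Fin n) R) =
            p.map (algebraMap R (MvPolynomial (Fin n) R)) ⊔
          Ideal.span (Set.range fun i : {i : Fin n // r ≤ (i : ℕ)} =>
            (X (i : Fin n) : MvPolynomial (Fin n) R)) := by
          rw [Ideal.map_sup, Ideal.map_map, Ideal.map_span, ← Set.range_comp]
          congr 2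
          · refine RingHom.ext fun s => ?_
            exact E.commutes s
          · ext i
            simp [E]
        rw [← hm]
        exact Ideal.comap_map_of_bijective _ E.bijective
      have hfinal : (q.map (algebraMap S (Localization.Away (g₀ * a)))).comap
          (φR.comp (E : MvPolynomial (Fin n) (Localization.Away (1 : R)) →ₐ[R]
            MvPolynomial (Fin n) R)) =
          ((q.map (algebraMap S (Localization.Away (g₀ * a)))).comap φR.toRingHom).comap
            (E : MvPolynomial (Fin n) (Localization.Away (1 : R)) →+* MvPolynomial (Fin n) R) := by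
        ext x
        simp [Ideal.mem_comap]
      rw [hfinal, hstep1, hcomap, hstep2]

end Groth.Agent.S9181
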