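import Groth.Statements.S9182
import Mathlib
import Groth.Agent.S9161
-- import your own Groth.Agent.* helpers here

set_option autoImplicit false
universe u
open CAlg

namespace Groth.Agent.S9182

open TensorProduct

section abstract

variable {T : Type u} [CommRing T]
  {C₁ C₀ Q₁ Q₀ E₁ E₀ D₁ D₀ : Type u}
  [AddCommGroup C₁] [Module T C₁] [AddCommGroup C₀] [Module T C₀]
  [AddCommGroup Q₁] [Module T Q₁] [AddCommGroup Q₀] [Module T Q₀]
  [AddCommGroup E₁] [Module T E₁] [AddCommGroup E₀] [Module T E₀]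
  [AddCommGroup D₁] [Module T D₁] [AddCommGroup D₀] [Module T D₀]

/-- a degreewise split exact sequence of two-term complexes with contractible cokernel gives a
deformation retraction -/
theorem retract_data (dC : C₁ →ₗ[T] C₀) (dQ : Q₁ →ₗ[T] Q₀) (e : E₁ →ₗ[T] E₀) (ε : E₀ →ₗ[T] E₁)
    (hεe : ε ∘ₗ e = LinearMap.id) (heε : e ∘ₗ ε = LinearMap.id)
    (F₁ : C₁ →ₗ[T] Q₁) (F₀ : C₀ →ₗ[T] Q₀) (hF : dQ ∘ₗ F₁ = F₀ ∘ₗ dC)
    (π₁ : Q₁ →ₗ[T] E₁) (π₀ : Q₀ →ₗ[T] E₀) (hπ : e ∘ₗ π₁ = π₀ ∘ₗ dQ)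
    (ex₁ : Function.Exact F₁ π₁) (ex₀ : Function.Exact F₀ π₀)
    (ρ₁ : Q₁ →ₗ[T] C₁) (hρ₁ : ρ₁ ∘ₗ F₁ = LinearMap.id)
    (ρ₀ : Q₀ →ₗ[T] C₀) (hρ₀ : ρ₀ ∘ₗ F₀ = LinearMap.id)
    (σ₁ : E₁ →ₗ[T] Q₁) (hσ₁ : π₁ ∘ₗ σ₁ = LinearMap.id) :
    ∃ (G₁ : Q₁ →ₗ[T] C₁) (G₀ : Q₀ →ₗ[T] C₀) (k : Q₀ →ₗ[T] Q₁),
      dC ∘ₗ G₁ = G₀ ∘ₗ dQ ∧ G₁ ∘ₗ F₁ = LinearMap.id ∧ G₀ ∘ₗ F₀ = LinearMap.id ∧
      LinearMap.id - F₁ ∘ₗ G₁ = k ∘ₗ dQ ∧ LinearMap.id - F₀ ∘ₗ G₀ = dQ ∘ₗ k := by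
  -- pointwise versions
  have hεe' : ∀ x, ε (e x) = x := fun x => congrArg (fun f : E₁ →ₗ[T] E₁ => f x) hεe
  have heε' : ∀ x, e (ε x) = x := fun x => congrArg (fun f : E₀ →ₗ[T] E₀ => f x) heε
  have hF' : ∀ x, dQ (F₁ x) = F₀ (dC x) := fun x => congrArg (fun f : C₁ →ₗ[T] Q₀ => f x) hF
  have hπ' : ∀ x, e (π₁ x) = π₀ (dQ x) := fun x => congrArg (fun f : Q₁ →ₗ[T] E₀ => f x) hπ
  have hρ₁' : ∀ x, ρ₁ (F₁ x) = x := fun x => congrArg (fun f : C₁ →ₗ[T] C₁ => f x) hρ₁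
  have hρ₀' : ∀ x, ρ₀ (F₀ x) = x := fun x => congrArg (fun f : C₀ →ₗ[T] C₀ => f x) hρ₀
  have hσ₁' : ∀ x, π₁ (σ₁ x) = x := fun x => congrArg (fun f : E₁ →ₗ[T] E₁ => f x) hσ₁
  have hπF₁ : ∀ x, π₁ (F₁ x) = 0 := fun x => ex₁.apply_apply_eq_zero x
  have hπF₀ : ∀ x, π₀ (F₀ x) = 0 := fun x => ex₀.apply_apply_eq_zero x
  have inj₀ : Function.Injective F₀ := fun a b hab => by
    have := congrArg ρ₀ hab
    rwa [hρ₀', hρ₀'] at this
  -- σ₀
  let σ₀ : E₀ →ₗ[T] Q₀ := dQ ∘ₗ σ₁ ∘ₗ ε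
  have hσ₀' : ∀ x, π₀ (σ₀ x) = x := fun x => by
    change π₀ (dQ (σ₁ (ε x))) = x
    rw [← hπ', hσ₁', heε']
  let G₁ : Q₁ →ₗ[T] C₁ := ρ₁ ∘ₗ (LinearMap.id - σ₁ ∘ₗ π₁)
  let G₀ : Q₀ →ₗ[T] C₀ := ρ₀ ∘ₗ (LinearMap.id - σ₀ ∘ₗ π₀)
  let k : Q₀ →ₗ[T] Q₁ := σ₁ ∘ₗ ε ∘ₗ π₀
  have hFG₁ : ∀ y, F₁ (G₁ y) = y - σ₁ (π₁ y) := fun y => by
    have hy : π₁ (y - σ₁ (π₁ y)) = 0 := by rw [map_sub, hσ₁', sub_self]
    obtain ⟨c, hc⟩ := (ex₁ _).mp hy
    change F₁ (ρ₁ (y - σ₁ (π₁ y))) = _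
    rw [← hc, hρ₁']
  have hFG₀ : ∀ y, F₀ (G₀ y) = y - σ₀ (π₀ y) := fun y => by
    have hy : π₀ (y - σ₀ (π₀ y)) = 0 := by rw [map_sub, hσ₀', sub_self]
    obtain ⟨c, hc⟩ := (ex₀ _).mp hy
    change F₀ (ρ₀ (y - σ₀ (π₀ y))) = _
    rw [← hc, hρ₀']
  refine ⟨G₁, G₀, k, ?_, ?_, ?_, ?_, ?_⟩
  · ext y
    apply inj₀
    change F₀ (dC (G₁ y)) = F₀ (G₀ (dQ y))
    rw [← hF', hFG₁, hFG₀, map_sub]
    change _ = dQ y - dQ (σ₁ (ε (π₀ (dQ y))))
    rw [← hπ', hεe']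
  · ext x
    change ρ₁ (F₁ x - σ₁ (π₁ (F₁ x))) = x
    rw [hπF₁, map_zero, sub_zero, hρ₁']
  · ext x
    change ρ₀ (F₀ x - σ₀ (π₀ (F₀ x))) = x
    rw [hπF₀, map_zero, sub_zero, hρ₀']
  · ext y
    change y - F₁ (G₁ y) = σ₁ (ε (π₀ (dQ y)))
    rw [hFG₁, ← hπ', hεe']
    abel
  · ext y
    change y - F₀ (G₀ y) = dQ (σ₁ (ε (π₀ y)))
    rw [hFG₀]
    change y - (y - dQ (σ₁ (ε (π₀ y)))) = _
    abel

/-- composing a deformation retraction `C → Q` with a homotopy equivalence `Q ≃ D` and applying the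
two-term Schanuel lemma -/
theorem stable_iso (dC : C₁ →ₗ[T] C₀) (dQ : Q₁ →ₗ[T] Q₀) (dD : D₁ →ₗ[T] D₀)
    (F₁ : C₁ →ₗ[T] Q₁) (F₀ : C₀ →ₗ[T] Q₀) (hF : dQ ∘ₗ F₁ = F₀ ∘ₗ dC)
    (G₁ : Q₁ →ₗ[T] C₁) (G₀ : Q₀ →ₗ[T] C₀) (k : Q₀ →ₗ[T] Q₁)
    (hG : dC ∘ₗ G₁ = G₀ ∘ₗ dQ) (hGF₁ : G₁ ∘ₗ F₁ = LinearMap.id) (hGF₀ : G₀ ∘ₗ F₀ = LinearMap.id)
    (hk₁ : LinearMap.id - F₁ ∘ₗ G₁ = k ∘ₗ dQ) (hk₀ : LinearMap.id - F₀ ∘ₗ G₀ = dQ ∘ₗ k)
    (φ₁ : Q₁ →ₗ[T] D₁) (φ₀ : Q₀ →ₗ[T] D₀) (ψ₁ : D₁ →ₗ[T] Q₁) (ψ₀ : D₀ →ₗ[T] Q₀)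
    (hφ : dD ∘ₗ φ₁ = φ₀ ∘ₗ dQ) (hψ : dQ ∘ₗ ψ₁ = ψ₀ ∘ₗ dD)
    (h : Q₀ →ₗ[T] Q₁) (hh₁ : LinearMap.id - ψ₁ ∘ₗ φ₁ = h ∘ₗ dQ)
    (hh₀ : LinearMap.id - ψ₀ ∘ₗ φ₀ = dQ ∘ₗ h)
    (h' : D₀ →ₗ[T] D₁) (hh'₁ : LinearMap.id - φ₁ ∘ₗ ψ₁ = h' ∘ₗ dD)
    (hh'₀ : LinearMap.id - φ₀ ∘ₗ ψ₀ = dD ∘ₗ h') :
    Nonempty ((C₁ × D₀) ≃ₗ[T] (D₁ × C₀)) := by
  have hF' : ∀ x, dQ (F₁ x) = F₀ (dC x) := fun x => congrArg (fun f : C₁ →ₗ[T] Q₀ => f x) hF
  have hG' : ∀ x, dC (G₁ x) = G₀ (dQ x) := fun x => congrArg (fun f : Q₁ →ₗ[T] C₀ => f x) hG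
  have hGF₁' : ∀ x, G₁ (F₁ x) = x := fun x => congrArg (fun f : C₁ →ₗ[T] C₁ => f x) hGF₁
  have hGF₀' : ∀ x, G₀ (F₀ x) = x := fun x => congrArg (fun f : C₀ →ₗ[T] C₀ => f x) hGF₀
  have hk₁' : ∀ x, x - F₁ (G₁ x) = k (dQ x) := fun x => congrArg (fun f : Q₁ →ₗ[T] Q₁ => f x) hk₁
  have hk₀' : ∀ x, x - F₀ (G₀ x) = dQ (k x) := fun x => congrArg (fun f : Q₀ →ₗ[T] Q₀ => f x) hk₀
  have hφ' : ∀ x, dD (φ₁ x) = φ₀ (dQ x) := fun x => congrArg (fun f : Q₁ →ₗ[T] D₀ => f x) hφ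
  have hψ' : ∀ x, dQ (ψ₁ x) = ψ₀ (dD x) := fun x => congrArg (fun f : D₁ →ₗ[T] Q₀ => f x) hψ
  have hh₁' : ∀ x, x - ψ₁ (φ₁ x) = h (dQ x) := fun x => congrArg (fun f : Q₁ →ₗ[T] Q₁ => f x) hh₁
  have hh₀' : ∀ x, x - ψ₀ (φ₀ x) = dQ (h x) := fun x => congrArg (fun f : Q₀ →ₗ[T] Q₀ => f x) hh₀
  have hh'₁' : ∀ x, x - φ₁ (ψ₁ x) = h' (dD x) := fun x => congrArg (fun f : D₁ →ₗ[T] D₁ => f x) hh'₁
  have hh'₀' : ∀ x, x - φ₀ (ψ₀ x) = dD (h' x) := fun x => congrArg (fun f : D₀ →ₗ[T] D₀ => f x) hh'₀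
  refine Groth.Agent.S9161.result T C₁ C₀ D₁ D₀ dC dD (φ₁ ∘ₗ F₁) (φ₀ ∘ₗ F₀) (G₁ ∘ₗ ψ₁) (G₀ ∘ₗ ψ₀)
    ?_ ?_ (G₁ ∘ₗ h ∘ₗ F₀) ?_ ?_ (h' + φ₁ ∘ₗ k ∘ₗ ψ₀) ?_ ?_
  · ext x
    change dD (φ₁ (F₁ x)) = φ₀ (F₀ (dC x))
    rw [hφ', hF']
  · ext x
    change dC (G₁ (ψ₁ x)) = G₀ (ψ₀ (dD x))
    rw [hG', hψ']
  · ext x
    change x - G₁ (ψ₁ (φ₁ (F₁ x))) = G₁ (h (F₀ (dC x)))
    rw [← hF', ← hh₁', map_sub, hGF₁']
  · ext x
    change x - G₀ (ψ₀ (φ₀ (F₀ x))) = dC (G₁ (h (F₀ x)))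
    rw [hG', ← hh₀', map_sub, hGF₀']
  · ext x
    change x - φ₁ (F₁ (G₁ (ψ₁ x))) = h' (dD x) + φ₁ (k (ψ₀ (dD x)))
    rw [← hψ', ← hk₁', ← hh'₁', map_sub]
    abel
  · ext x
    change x - φ₀ (F₀ (G₀ (ψ₀ x))) = dD (h' x + φ₁ (k (ψ₀ x)))
    rw [map_add, hφ', ← hk₀', ← hh'₀', map_sub]
    abel

end abstract


section loc
variable {S : Type u} [CommRing S] (g : S) (T : Type u) [CommRing T] [Algebra S T]
  [IsLocalization.Away g T]

theorem locAway_cotangentComplex_bijective :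
    Function.Bijective (Algebra.Generators.localizationAway T g).toExtension.cotangentComplex := by
  constructor
  · exact Algebra.SubmersivePresentation.cotangentComplex_injective
      (Algebra.SubmersivePresentation.localizationAway T g)
  · have hex := (Algebra.Generators.localizationAway T g).toExtension.exact_cotangentComplex_toKaehler
    haveI : Algebra.FormallyUnramified S T := Algebra.FormallyUnramified.of_isLocalization (Submonoid.powers g)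
    haveI : Subsingleton (Ω[T⁄S]) := inferInstance
    intro y
    exact (hex y).mp (Subsingleton.elim _ _)

end loc


section inst
variable {R : Type u} [CommRing R]

theorem aeval_eq {A : Type u} [CommRing A] [Algebra R A] {k : ℕ}
    (α : MvPolynomial (Fin k) R →ₐ[R] A) :
    MvPolynomial.aeval (fun i => α (MvPolynomial.X i)) = α := by
  apply MvPolynomial.algHom_ext
  intro i
  simp

/-- generators with the same extension as `ofSurjective α` -/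
noncomputable def gensOf {A : Type u} [CommRing A] [Algebra R A] {k : ℕ}
    (α : MvPolynomial (Fin k) R →ₐ[R] A) (hα : Function.Surjective α) :
    Algebra.Generators R A (Fin k) where
  val i := α (MvPolynomial.X i)
  σ' x := (hα x).choose
  aeval_val_σ' x := by
    rw [aeval_eq α]
    exact (hα x).choose_spec
  algebra := α.toAlgebra
  algebraMap_eq := by
    rw [aeval_eq α]
    rfl

theorem gensOf_toExtension {A : Type u} [CommRing A] [Algebra R A] {k : ℕ}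
    (α : MvPolynomial (Fin k) R →ₐ[R] A) (hα : Function.Surjective α) :
    (gensOf α hα).toExtension = Algebra.Extension.ofSurjective α hα := rfl

end inst


section main
variable {R S T : Type u} [CommRing R] [CommRing S] [Algebra R S] [CommRing T] [Algebra R T]
  [Algebra S T] [IsScalarTower R S T] (g : S) [IsLocalization.Away g T]
  {ι κ : Type} (P : Algebra.Generators R S ι) (D : Algebra.Generators R T κ)

open Algebra Algebra.Extension Algebra.Generators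

include g in
theorem main_iso :
    Nonempty (((T ⊗[S] P.toExtension.Cotangent) × D.toExtension.CotangentSpace) ≃ₗ[T]
      (D.toExtension.Cotangent × (T ⊗[S] P.toExtension.CotangentSpace))) := by
  let W := Generators.localizationAway T g
  let Q := W.comp P
  -- the element x
  obtain ⟨x, hx⟩ := Generators.Cotangent.surjective_map_ofComp W P (cMulXSubOneCotangent T g)
  -- e and its inverse
  let eE : W.toExtension.Cotangent ≃ₗ[T] W.toExtension.CotangentSpace :=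
    LinearEquiv.ofBijective W.toExtension.cotangentComplex (locAway_cotangentComplex_bijective g T)
  obtain ⟨G₁, G₀, k, hG, hGF₁, hGF₀, hk₁, hk₀⟩ := retract_data
    (P.toExtension.cotangentComplex.baseChange T) Q.toExtension.cotangentComplex
    W.toExtension.cotangentComplex eE.symm.toLinearMap
    (LinearMap.ext fun y => eE.symm_apply_apply y) (LinearMap.ext fun y => eE.apply_symm_apply y)
    ((Extension.Cotangent.map (W.toComp P).toExtensionHom).liftBaseChange T)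
    ((Extension.CotangentSpace.map (W.toComp P).toExtensionHom).liftBaseChange T)
    (Generators.H1Cotangent.map_comp_cotangentComplex_baseChange W P).symm
    (Extension.Cotangent.map (W.ofComp P).toExtensionHom)
    (Extension.CotangentSpace.map (W.ofComp P).toExtensionHom)
    (Extension.CotangentSpace.map_comp_cotangentComplex (W.ofComp P).toExtensionHom).symm
    (Generators.Cotangent.exact W P) (Generators.CotangentSpace.exact W P)
    (LinearMap.fst T _ _ ∘ₗ (cotangentCompLocalizationAwayEquiv g P hx).toLinearMap)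
    (LinearMap.ext fun a => by
      simp only [LinearMap.coe_comp, Function.comp_apply, LinearEquiv.coe_coe, LinearMap.id_coe, id_eq,
        LinearMap.fst_apply]
      rw [← cotangentCompLocalizationAwayEquiv_symm_inl g P hx, LinearEquiv.apply_symm_apply])
    (LinearMap.snd T _ _ ∘ₗ (Generators.CotangentSpace.compEquiv W P).toLinearMap)
    (LinearMap.ext fun a => by
      simp only [LinearMap.coe_comp, Function.comp_apply, LinearEquiv.coe_coe, LinearMap.id_coe, id_eq,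
        LinearMap.snd_apply]
      rw [← Generators.CotangentSpace.compEquiv_symm_zero, LinearEquiv.apply_symm_apply])
    (cotangentCompAwaySec g P x) (map_comp_cotangentCompAwaySec g P hx)
  let f₁ : Q.toExtension.Hom D.toExtension := (Q.defaultHom D).toExtensionHom
  let f₂ : D.toExtension.Hom Q.toExtension := (D.defaultHom Q).toExtensionHom
  refine stable_iso (P.toExtension.cotangentComplex.baseChange T) Q.toExtension.cotangentComplex
    D.toExtension.cotangentComplex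
    ((Extension.Cotangent.map (W.toComp P).toExtensionHom).liftBaseChange T)
    ((Extension.CotangentSpace.map (W.toComp P).toExtensionHom).liftBaseChange T)
    (Generators.H1Cotangent.map_comp_cotangentComplex_baseChange W P).symm
    G₁ G₀ k hG hGF₁ hGF₀ hk₁ hk₀
    (Extension.Cotangent.map f₁) (Extension.CotangentSpace.map f₁)
    (Extension.Cotangent.map f₂) (Extension.CotangentSpace.map f₂) ?_ ?_
    ((Extension.Hom.id Q.toExtension).sub (f₂.comp f₁)) ?_ ?_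
    ((Extension.Hom.id D.toExtension).sub (f₁.comp f₂)) ?_ ?_
  · exact (Extension.CotangentSpace.map_comp_cotangentComplex f₁).symm
  · exact (Extension.CotangentSpace.map_comp_cotangentComplex f₂).symm
  · rw [← Extension.Cotangent.map_sub_map, Extension.Cotangent.map_id, Extension.Cotangent.map_comp]
    rfl
  · refine Eq.trans ?_ (Extension.CotangentSpace.map_sub_map _ _)
    rw [Extension.CotangentSpace.map_id, Extension.CotangentSpace.map_comp]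
    rfl
  · rw [← Extension.Cotangent.map_sub_map, Extension.Cotangent.map_id, Extension.Cotangent.map_comp]
    rfl
  · refine Eq.trans ?_ (Extension.CotangentSpace.map_sub_map _ _)
    rw [Extension.CotangentSpace.map_id, Extension.CotangentSpace.map_comp]
    rfl

end main


section final
variable (R S : Type u) [CommRing R] [CommRing S] [Algebra R S]
    (g : S) (n m : ℕ) (α : MvPolynomial (Fin n) R →ₐ[R] S) (hα : Function.Surjective α)
    (β : MvPolynomial (Fin m) R →ₐ[R] Localization.Away g) (hβ : Function.Surjective β)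

theorem final :
    Nonempty ((LocalizedModule (Submonoid.powers g) (Algebra.Extension.ofSurjective α hα).Cotangent ×
        (Fin m → Localization.Away g)) ≃ₗ[Localization.Away g]
      ((Algebra.Extension.ofSurjective β hβ).Cotangent × (Fin n → Localization.Away g))) := by
  let P := gensOf α hα
  let D := gensOf β hβ
  obtain ⟨e⟩ := main_iso (T := Localization.Away g) g P D
  let e₁ : (Localization.Away g) ⊗[S] P.toExtension.Cotangent ≃ₗ[Localization.Away g]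
      LocalizedModule (Submonoid.powers g) (Algebra.Extension.ofSurjective α hα).Cotangent :=
    (IsLocalizedModule.isBaseChange (Submonoid.powers g) (Localization.Away g)
      (LocalizedModule.mkLinearMap (Submonoid.powers g)
        (Algebra.Extension.ofSurjective α hα).Cotangent)).equiv
  let e₂ : D.toExtension.CotangentSpace ≃ₗ[Localization.Away g] (Fin m → Localization.Away g) :=
    D.cotangentSpaceBasis.equivFun
  let e₃ : (Localization.Away g) ⊗[S] P.toExtension.CotangentSpace ≃ₗ[Localization.Away g]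
      (Fin n → Localization.Away g) :=
    (P.cotangentSpaceBasis.baseChange (Localization.Away g)).equivFun
  exact ⟨(e₁.symm.prodCongr e₂.symm).trans (e.trans ((LinearEquiv.refl _ _).prodCongr e₃))⟩

end final


/-- For presentations α : R[x_1, …, x_n] → S and β : R[y_1, …, y_m] → S_g (g ∈ S) with kernels I and J,
the S_g-modules (I/I²)_g ⊕ S_g^m and J/J² ⊕ S_g^n are isomorphic. -/
theorem result (R S : Type u) [CommRing R] [CommRing S] [Algebra R S]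
    (g : S) (n m : ℕ) (α : MvPolynomial (Fin n) R →ₐ[R] S) (hα : Function.Surjective α)
    (β : MvPolynomial (Fin m) R →ₐ[R] Localization.Away g) (hβ : Function.Surjective β) :
    Nonempty ((LocalizedModule (Submonoid.powers g) (Algebra.Extension.ofSurjective α hα).Cotangent ×
        (Fin m → Localization.Away g)) ≃ₗ[Localization.Away g]
      ((Algebra.Extension.ofSurjective β hβ).Cotangent × (Fin n → Localization.Away g))) :=
  final R S g n m α hα β hβ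

end Groth.Agent.S9182
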