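import Groth.Statements.S9184
import Groth.Agent.Lib.Helper54.FibCx2

set_option maxHeartbeats 1000000
set_option linter.style.haveILetI false

set_option autoImplicit false
universe u
open CAlg

namespace Groth.Agent.S9184

theorem isOpen_assemble {X : Type*} [TopologicalSpace X] (e : ℕ) (P : ℕ → X → Prop)
    (I : X → Prop) (hP : ∀ i, i + 2 ≤ e → IsOpen {x | P i x}) (hI : 1 ≤ e → IsOpen {x | I x}) :
    IsOpen {x | (∀ i, i + 2 ≤ e → P i x) ∧ (1 ≤ e → I x)} := by
  have h1 : IsOpen {x : X | ∀ i, i + 2 ≤ e → P i x} := by
    have hset : {x : X | ∀ i, i + 2 ≤ e → P i x} =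
        ⋂ i ∈ Finset.range e, {x | i + 2 ≤ e → P i x} := by
      ext x
      rw [Set.mem_iInter₂]
      constructor
      · intro h i _ hi
        exact h i hi
      · intro h i hi
        exact h i (Finset.mem_range.2 (by omega)) hi
    rw [hset]
    refine isOpen_biInter_finset (fun i _ => ?_)
    by_cases hi : i + 2 ≤ e
    · have : {x : X | i + 2 ≤ e → P i x} = {x | P i x} := by
        ext x
        exact ⟨fun h => h hi, fun h _ => h⟩
      rw [this]
      exact hP i hi
    · have : {x : X | i + 2 ≤ e → P i x} = Set.univ := by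
        ext x
        exact ⟨fun _ => trivial, fun _ h => absurd h hi⟩
      rw [this]
      exact isOpen_univ
  have h2 : IsOpen {x : X | 1 ≤ e → I x} := by
    by_cases he : 1 ≤ e
    · have : {x : X | 1 ≤ e → I x} = {x | I x} := by
        ext x
        exact ⟨fun h => h he, fun h _ => h⟩
      rw [this]
      exact hI he
    · have : {x : X | 1 ≤ e → I x} = Set.univ := by
        ext x
        exact ⟨fun _ => trivial, fun _ h => absurd h he⟩
      rw [this]
      exact isOpen_univ
  exact h1.inter h2

/-- Let R be Noetherian, R → S flat of finite type whose fibre rings are Cohen–Macaulay and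
equidimensional of dimension d, and let 0 → S^{n_e} → ⋯ → S^{n_1} → S^{n_0} be a complex of finite
free S-modules, the map S^{n_{i+1}} → S^{n_i} being given by the matrix φ_i. Then the set of primes
q of S such that the complex is exact (exact at each S^{n_i} with 0 < i < e and injective at
S^{n_e}) after base change to the fibre local ring S_q/pS_q, p = q ∩ R, is open in Spec S. (The
published statement asks only that the fibres be Cohen–Macaulay of dimension d; this row assumes
them equidimensional of dimension d, the hypothesis the printed argument uses.) -/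
theorem result (R S : Type u) [CommRing R] [IsNoetherianRing R] [CommRing S]
    [Algebra R S] [Algebra.FiniteType R S] [Module.Flat R S] (d : ℕ)
    (hCM : ∀ p : PrimeSpectrum R, LocCoh.IsCohenMacaulayRing (p.asIdeal.Fiber S))
    (heq : ∀ p : PrimeSpectrum R, ∀ P ∈ minimalPrimes (p.asIdeal.Fiber S),
      ringKrullDim (p.asIdeal.Fiber S ⧸ P) = (d : WithBot ℕ∞))
    (e : ℕ) (n : ℕ → ℕ) (φ : (i : ℕ) → Matrix (Fin (n i)) (Fin (n (i + 1))) S)
    (hφ : ∀ i, i + 2 ≤ e → φ i * φ (i + 1) = 0) :
    IsOpen {q : PrimeSpectrum S |
      (∀ i, i + 2 ≤ e →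
        LinearMap.ker (Matrix.mulVecLin ((φ i).map (algebraMap S (EGA4.FibLocRing R S q.asIdeal)))) =
          LinearMap.range (Matrix.mulVecLin ((φ (i + 1)).map (algebraMap S (EGA4.FibLocRing R S q.asIdeal))))) ∧
      (1 ≤ e → Function.Injective
        (Matrix.mulVecLin ((φ (e - 1)).map (algebraMap S (EGA4.FibLocRing R S q.asIdeal)))))} := by
  classical
  refine isOpen_assemble (X := PrimeSpectrum S) e
    (fun (i : ℕ) (q : PrimeSpectrum S) => LinearMap.ker (Matrix.mulVecLin ((φ i).map
        (algebraMap S (EGA4.FibLocRing R S q.asIdeal)))) =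
      LinearMap.range (Matrix.mulVecLin ((φ (i + 1)).map
        (algebraMap S (EGA4.FibLocRing R S q.asIdeal)))))
    (fun (q : PrimeSpectrum S) => Function.Injective (Matrix.mulVecLin ((φ (e - 1)).map
        (algebraMap S (EGA4.FibLocRing R S q.asIdeal))))) ?_ ?_
  · intro i hi
    have hset : {q : PrimeSpectrum S | LinearMap.ker (Matrix.mulVecLin ((φ i).map
          (algebraMap S (EGA4.FibLocRing R S q.asIdeal)))) =
        LinearMap.range (Matrix.mulVecLin ((φ (i + 1)).map
          (algebraMap S (EGA4.FibLocRing R S q.asIdeal))))} =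
        {q : PrimeSpectrum S | LinearMap.ker (Matrix.mulVecLin ((φ i).map
          (algebraMap S (EGA4.FibLocRing R S q.asIdeal)))) ≤
        LinearMap.range (Matrix.mulVecLin ((φ (i + 1)).map
          (algebraMap S (EGA4.FibLocRing R S q.asIdeal))))} := by
      ext q
      constructor
      · intro h
        exact le_of_eq h
      · intro h
        refine le_antisymm h ?_
        rintro _ ⟨y, rfl⟩
        rw [LinearMap.mem_ker, Matrix.mulVecLin_apply, Matrix.mulVecLin_apply,
          Matrix.mulVec_mulVec, ← Matrix.map_mul, hφ i hi, Matrix.map_zero _ (map_zero _),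
          Matrix.zero_mulVec]
    rw [hset]
    exact Groth.Agent.Lib.Helper54.FibCx2.isOpen_step R S (φ i) (φ (i + 1)) (hφ i hi)
  · intro he
    have hset : {q : PrimeSpectrum S | Function.Injective (Matrix.mulVecLin ((φ (e - 1)).map
          (algebraMap S (EGA4.FibLocRing R S q.asIdeal))))} =
        {q : PrimeSpectrum S | LinearMap.ker (Matrix.mulVecLin ((φ (e - 1)).map
          (algebraMap S (EGA4.FibLocRing R S q.asIdeal)))) ≤
        LinearMap.range (Matrix.mulVecLin ((0 : Matrix (Fin (n (e - 1 + 1))) (Fin 0) S).map
          (algebraMap S (EGA4.FibLocRing R S q.asIdeal))))} := by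
      ext q
      constructor
      · intro h
        show LinearMap.ker _ ≤ _
        rw [LinearMap.ker_eq_bot.2 h]
        exact bot_le
      · intro h
        show Function.Injective _
        rw [← LinearMap.ker_eq_bot, eq_bot_iff]
        refine h.trans ?_
        rintro _ ⟨y, rfl⟩
        rw [Subsingleton.elim y 0, map_zero]
        exact Submodule.zero_mem _
    rw [hset]
    exact Groth.Agent.Lib.Helper54.FibCx2.isOpen_step R S (φ (e - 1))
      (0 : Matrix (Fin (n (e - 1 + 1))) (Fin 0) S) (Matrix.mul_zero _)

end Groth.Agent.S9184
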