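import Groth.Statements.S9185
import Mathlib.LinearAlgebra.TensorProduct.Tower
import Mathlib.Algebra.Quotient
import Mathlib.LinearAlgebra.Quotient.Basic
import Mathlib.RingTheory.TensorProduct.IsBaseChangePi
-- import your own Groth.Agent.* helpers here

set_option autoImplicit false
universe u
open Diff16

namespace Groth.Agent.S9185

section Aux

open TensorProduct

variable {R S : Type u} [CommRing R] [CommRing S] [Algebra R S]
variable {M : Type u} [AddCommGroup M] [Module S M] [Module R M] [IsScalarTower R S M]
variable {N : Type u} [AddCommGroup N] [Module S N] [Module R N] [IsScalarTower R S N]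
variable {N' : Type u} [AddCommGroup N'] [Module S N'] [Module R N'] [IsScalarTower R S N']

lemma commutator_comp (α : N →ₗ[S] N') (D : M →ₗ[R] N) (b : S) :
    Diff16.commutator R S M N' (α.restrictScalars R ∘ₗ D) b =
      α.restrictScalars R ∘ₗ Diff16.commutator R S M N D b := by
  ext m
  simp [Diff16.commutator]

/-- The obstruction submodule: the smallest `S`-submodule modulo which `D` becomes a differential
operator of order at most `n`. -/
noncomputable def obstr : ℕ → (M →ₗ[R] N) → Submodule S N
  | 0, D => Submodule.span S {x | ∃ (b : S) (m : M), x = D (b • m) - b • D m}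
  | n + 1, D => ⨆ b : S, obstr n (Diff16.commutator R S M N D b)

lemma isDiffOpLE_comp_iff (n : ℕ) (D : M →ₗ[R] N) (α : N →ₗ[S] N') :
    Diff16.IsDiffOpLE R S M N' n (α.restrictScalars R ∘ₗ D) ↔ obstr n D ≤ LinearMap.ker α := by
  induction n generalizing D with
  | zero =>
    show (∀ (b : S) (m : M), (α.restrictScalars R ∘ₗ D) (b • m) = b • (α.restrictScalars R ∘ₗ D) m) ↔
      Submodule.span S {x | ∃ (b : S) (m : M), x = D (b • m) - b • D m} ≤ LinearMap.ker α
    rw [Submodule.span_le]
    constructor
    · rintro h _ ⟨b, m, rfl⟩
      have := h b m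
      simp only [LinearMap.coe_comp, LinearMap.coe_restrictScalars, Function.comp_apply] at this
      simp [this]
    · intro h b m
      have := h ⟨b, m, rfl⟩
      simp only [SetLike.mem_coe, LinearMap.mem_ker, map_sub, map_smul, sub_eq_zero] at this
      simpa using this
  | succ n ih =>
    show (∀ b : S, Diff16.IsDiffOpLE R S M N' n
        (Diff16.commutator R S M N' (α.restrictScalars R ∘ₗ D) b)) ↔
      (⨆ b : S, obstr n (Diff16.commutator R S M N D b)) ≤ LinearMap.ker α
    rw [iSup_le_iff]
    constructor
    · intro h b
      rw [← ih, ← commutator_comp]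
      exact h b
    · intro h b
      rw [commutator_comp, ih]
      exact h b

end Aux

/-- For a ring map R → S, an S-module M and k ≥ 0 there is an S-module P together with a differential
operator D : M → P of order at most k (relative to R → S) such that every differential operator of
order at most k from M to an S-module N is α ∘ D for a unique S-linear map α : P → N; that is,
differential operators of order ≤ k out of M are represented by P. (Target modules N are taken in
the same universe.) -/
theorem result (R S : Type u) [CommRing R] [CommRing S] [Algebra R S] (M : Type u)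
    [AddCommGroup M] [Module S M] [Module R M] [IsScalarTower R S M] (k : ℕ) :
    ∃ (P : Type u) (_ : AddCommGroup P) (_ : Module S P) (_ : Module R P) (_ : IsScalarTower R S P)
      (D : M →ₗ[R] P), Diff16.IsDiffOpLE R S M P k D ∧
        ∀ (N : Type u) [AddCommGroup N] [Module S N] [Module R N] [IsScalarTower R S N] (D' : M →ₗ[R] N),
          Diff16.IsDiffOpLE R S M N k D' → ∃! α : P →ₗ[S] N, α.restrictScalars R ∘ₗ D = D' := by
  let D₀ : M →ₗ[R] TensorProduct R S M := TensorProduct.mk R S M 1
  let Zk : Submodule S (TensorProduct R S M) := obstr k D₀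
  refine ⟨(TensorProduct R S M ⧸ Zk), inferInstance, inferInstance, inferInstance, inferInstance,
    (Zk.mkQ.restrictScalars R) ∘ₗ D₀, ?_, ?_⟩
  · rw [isDiffOpLE_comp_iff, Submodule.ker_mkQ]
  · intro N _ _ _ _ D' hD'
    let α₀ : TensorProduct R S M →ₗ[S] N := LinearMap.liftBaseChange S D'
    have hα₀ : α₀.restrictScalars R ∘ₗ D₀ = D' := by
      ext m
      simp [α₀, D₀]
    have hle : Zk ≤ LinearMap.ker α₀ := by
      rw [← isDiffOpLE_comp_iff, hα₀]
      exact hD'
    refine ⟨Zk.liftQ α₀ hle, ?_, ?_⟩
    · ext m
      simp [α₀, D₀]
    · intro β hβ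
      apply Submodule.linearMap_qext
      rw [Submodule.liftQ_mkQ]
      apply TensorProduct.AlgebraTensorModule.ext
      intro b m
      have h1 : β (Zk.mkQ ((1 : S) ⊗ₜ[R] m)) = D' m := LinearMap.congr_fun hβ m
      have h2 : (b ⊗ₜ[R] m : TensorProduct R S M) = b • ((1 : S) ⊗ₜ[R] m) := by
        rw [TensorProduct.smul_tmul', smul_eq_mul, mul_one]
      simp only [LinearMap.coe_comp, Function.comp_apply]
      rw [h2, map_smul, map_smul, h1]
      simp [α₀]

end Groth.Agent.S9185
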