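import Groth.Statements.S9197
import Groth.Agent.Lib.Helper24.Lim8DescendFinite
import Groth.Agent.Lib.Helper24.Lim8DescendFlat
-- import your own Groth.Agent.* helpers here

set_option autoImplicit false
universe u
open CategoryTheory AlgebraicGeometry
open Lim

namespace Groth.Agent.S9197

section aux
open CategoryTheory CategoryTheory.Limits AlgebraicGeometry Groth.Agent.Lib.Helper24.Lim8

/-- finite locally free of degree `d` as a morphism property -/
def Pd (d : ℕ) : MorphismProperty Scheme.{u} := fun _ _ f => Mor2.IsFinLocFreeOfDeg d f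

instance (d : ℕ) : (Pd.{u} d).IsStableUnderBaseChange where
  of_isPullback {_ _ _ _ f g _ g'} sq h := by
    obtain ⟨⟨h1, h2, h3⟩, hd⟩ := h
    refine ⟨⟨MorphismProperty.of_isPullback sq h1, MorphismProperty.of_isPullback sq h2,
      MorphismProperty.of_isPullback sq h3⟩, fun y => ?_⟩
    have := h1; have := h2
    rw [Scheme.Hom.finrank_of_isPullback _ _ _ _ sq y]
    exact hd _

variable {I : Type u} [SmallCategory I] [IsCofiltered I]
    (D : I ⥤ Scheme.{u}) (c : Limits.Cone D) (hc : Limits.IsLimit c)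
    [∀ {i j : I} (f : i ⟶ j), IsAffineHom (D.map f)]

include hc in
lemma descends_rank (d : ℕ) (k : I) {X₁ Y₁ : Scheme.{u}} (f₁ : X₁ ⟶ Y₁) (g₁ : Y₁ ⟶ D.obj k)
    [CompactSpace Y₁] [IsFinite f₁] [Flat f₁] [LocallyOfFinitePresentation f₁] :
    Descends D c (Pd d) k f₁ g₁ := by
  intro hP
  obtain ⟨-, hd⟩ := hP
  let E₁ : Set Y₁ := {y | f₁.finrank y ≠ d}
  have hlc := Scheme.Hom.isLocallyConstant_finrank f₁
  have hopen : IsOpen E₁ := hlc {n | n ≠ d}
  have hclosed : IsClosed E₁ := by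
    rw [← isOpen_compl_iff]
    have : E₁ᶜ = f₁.finrank ⁻¹' {d} := by
      ext y
      simp [E₁]
    rw [this]
    exact hlc {d}
  have hgood : IsGood E₁ := IsGood.of_isCompact_isOpen hclosed.isCompact hopen
  have hemp : pullback.snd (c.π.app k) g₁ ⁻¹' E₁ = ∅ := by
    ext y
    simp only [Set.mem_preimage, Set.mem_empty_iff_false, iff_false, E₁, Set.mem_setOf_eq,
      not_not]
    rw [← Scheme.Hom.finrank_of_isPullback _ _ _ _ (isPullback_bcMap (c.π.app k) f₁ g₁) y]
    exact hd y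
  obtain ⟨j, φ, hj⟩ := exists_preimage_snd_eq_empty D c hc k g₁ E₁ hgood hemp
  refine ⟨j, φ, ⟨bcMap_of_isStableUnderBaseChange (P := @IsFinite) _ _ _ inferInstance,
    bcMap_of_isStableUnderBaseChange (P := @Flat) _ _ _ inferInstance,
    bcMap_of_isStableUnderBaseChange (P := @LocallyOfFinitePresentation) _ _ _ inferInstance⟩,
    fun y => ?_⟩
  rw [Scheme.Hom.finrank_of_isPullback _ _ _ _ (isPullback_bcMap (D.map φ) f₁ g₁) y]
  by_contra hne
  have : y ∈ pullback.snd (D.map φ) g₁ ⁻¹' E₁ := hne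
  rw [hj] at this
  exact this

include hc in
lemma descends_Pd (d : ℕ) (i₀ : I) {X₀ Y₀ : Scheme.{u}} (f₀ : X₀ ⟶ Y₀) (g₀ : Y₀ ⟶ D.obj i₀)
    [CompactSpace X₀] [QuasiSeparatedSpace X₀] [CompactSpace Y₀] [QuasiSeparatedSpace Y₀]
    [LocallyOfFinitePresentation f₀] :
    Descends D c (Pd d) i₀ f₀ g₀ := by
  intro hP
  have hP' := hP
  obtain ⟨⟨hfin, hflat, hlfp⟩, -⟩ := hP'
  obtain ⟨k, ψ, hk1, hk2⟩ := ((descends_isFinite D c hc i₀ f₀ g₀).inf
    (descends_flat D c hc i₀ f₀ g₀)) ⟨hfin, hflat⟩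
  refine Descends.of_rebase ψ ?_ hP
  haveI : IsFinite (bcMap (D.map ψ) f₀ g₀) := hk1
  haveI : Flat (bcMap (D.map ψ) f₀ g₀) := hk2
  haveI : LocallyOfFinitePresentation (bcMap (D.map ψ) f₀ g₀) :=
    bcMap_of_isStableUnderBaseChange (P := @LocallyOfFinitePresentation) _ _ _ inferInstance
  haveI : CompactSpace ↥(pullback (D.map ψ) g₀) := compactSpace_pbDiagram_obj D i₀ g₀ (Over.mk ψ)
  exact descends_rank D c hc d k _ _

end aux

/-- Let S = lim S_i be a cofiltered limit of schemes with affine transition morphisms, S_{i₀} a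
quasi-compact quasi-separated stage, f₀ : X₀ → Y₀ a morphism of quasi-compact quasi-separated
schemes over S_{i₀}, and f : X → Y its base change along S → S_{i₀} (base changes expressed by
pullback squares). Let d be a natural number. If f₀ is locally of finite presentation and f is
finite locally free of degree d (finite, flat, locally of finite presentation, with rank function
constant equal to d), then for some index i over i₀ the base change f_i : X_i → Y_i of f₀ along S_i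
→ S_{i₀} is finite locally free of degree d. -/
theorem result {I : Type u} [SmallCategory I] [IsCofiltered I]
    (D : I ⥤ Scheme.{u}) (c : Limits.Cone D) (hc : Limits.IsLimit c)
    [∀ (i j : I) (f : i ⟶ j), IsAffineHom (D.map f)] (i₀ : I) [CompactSpace (D.obj i₀)]
    [QuasiSeparatedSpace (D.obj i₀)] {X₀ Y₀ : Scheme.{u}} (f₀ : X₀ ⟶ Y₀) (g₀ : Y₀ ⟶ D.obj i₀)
    [CompactSpace X₀] [QuasiSeparatedSpace X₀] [CompactSpace Y₀] [QuasiSeparatedSpace Y₀]
    [LocallyOfFinitePresentation f₀] (d : ℕ)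
    {X Y : Scheme.{u}} (f : X ⟶ Y) (g : Y ⟶ c.pt) (qY : Y ⟶ Y₀) (qX : X ⟶ X₀)
    (hY : IsPullback qY g g₀ (c.π.app i₀)) (hX : IsPullback qX f f₀ qY) (hf : Mor2.IsFinLocFreeOfDeg d f) :
    ∃ (i : I) (φ : i ⟶ i₀) (Xi Yi : Scheme.{u}) (fi : Xi ⟶ Yi) (gi : Yi ⟶ D.obj i) (pY : Yi ⟶ Y₀)
      (pX : Xi ⟶ X₀), IsPullback pY gi g₀ (D.map φ) ∧ IsPullback pX fi f₀ pY ∧ Mor2.IsFinLocFreeOfDeg d fi := by
  haveI : ∀ {i j : I} (f : i ⟶ j), IsAffineHom (D.map f) := fun f => inferInstance
  exact (descends_Pd D c hc d i₀ f₀ g₀).template hY hX hf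

end Groth.Agent.S9197
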