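import Groth.Statements.S9198
import Groth.Agent.Lib.Helper24.Lim8DescendFlat
import Groth.Agent.Lib.Helper9.SyntDesc2
-- import your own Groth.Agent.* helpers here

set_option autoImplicit false
universe u
open CategoryTheory AlgebraicGeometry
open Lim

namespace Groth.Agent.S9198

section aux
open CategoryTheory CategoryTheory.Limits AlgebraicGeometry Groth.Agent.Lib.Helper24.Lim8
open Groth.Agent.Lib.Helper9

/-- syntomic as a morphism property -/
def Psyn : MorphismProperty Scheme.{u} := fun _ _ f => Synt.IsSyntomicMor f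

instance : Psyn.{u}.RespectsIso := by
  apply MorphismProperty.RespectsIso.mk
  · intro X Y Z e f h
    have hsq : IsPullback e.hom (e.hom ≫ f) f (𝟙 Z) := IsPullback.of_horiz_isIso ⟨by simp⟩
    exact SyntBC.isSyntomicMor_of_isPullback f (𝟙 Z) e.hom (e.hom ≫ f) hsq h
  · intro X Y Z e f h
    have hsq : IsPullback (𝟙 X) (f ≫ e.hom) f e.inv := IsPullback.of_horiz_isIso ⟨by simp⟩
    exact SyntBC.isSyntomicMor_of_isPullback f e.inv (𝟙 X) (f ≫ e.hom) hsq h

variable {I : Type u} [SmallCategory I] [IsCofiltered I]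
    (D : I ⥤ Scheme.{u}) (c : Limits.Cone D) (hc : Limits.IsLimit c)
    [∀ {i j : I} (f : i ⟶ j), IsAffineHom (D.map f)]

lemma isOpen_syntomicLocus {X₁ Y₁ : Scheme.{u}} (f₁ : X₁ ⟶ Y₁) :
    IsOpen {x : X₁ | Synt.IsSyntomicAt f₁ x} := by
  rw [isOpen_iff_forall_mem_open]
  intro x hx
  obtain ⟨U, V, e, hxU, hs⟩ := hx
  exact ⟨U.1, fun y hy => ⟨U, V, e, hy, hs⟩, U.1.isOpen, hxU⟩

include hc in
lemma descends_synt_of_flat (k : I) {X₁ Y₁ : Scheme.{u}} (f₁ : X₁ ⟶ Y₁) (g₁ : Y₁ ⟶ D.obj k)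
    [CompactSpace X₁] [Flat f₁] [LocallyOfFinitePresentation f₁] :
    Descends D c Psyn k f₁ g₁ := by
  intro hP
  have hgood : IsGood ({x : X₁ | Synt.IsSyntomicAt f₁ x}ᶜ) := by
    have := (IsGood.of_isCompact_isOpen (isCompact_univ (X := X₁)) isOpen_univ).inter_isClosed
      (isOpen_syntomicLocus f₁).isClosed_compl
    rwa [Set.univ_inter] at this
  obtain ⟨j, φ, hj⟩ := exists_preimage_snd_eq_empty D c hc k (f₁ ≫ g₁) _ hgood (by
    rw [Set.preimage_compl, Set.compl_empty_iff, Set.eq_univ_iff_forall]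
    intro x'
    exact SyntDesc2.isSyntomicAt_descent f₁ _ _ _ (isPullback_bcMap (c.π.app k) f₁ g₁) hP x')
  refine ⟨j, φ, fun x => ?_⟩
  rw [Set.preimage_compl, Set.compl_empty_iff, Set.eq_univ_iff_forall] at hj
  exact SyntDesc2.isSyntomicAt_of_isPullback f₁ _ _ _ (isPullback_bcMap (D.map φ) f₁ g₁) x (hj x)

include hc in
lemma descends_Psyn (i₀ : I) {X₀ Y₀ : Scheme.{u}} (f₀ : X₀ ⟶ Y₀) (g₀ : Y₀ ⟶ D.obj i₀)
    [CompactSpace X₀] [QuasiSeparatedSpace X₀] [CompactSpace Y₀] [QuasiSeparatedSpace Y₀]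
    [LocallyOfFinitePresentation f₀] :
    Descends D c Psyn i₀ f₀ g₀ := by
  intro hP
  have hflat : Flat (bcMap (c.π.app i₀) f₀ g₀) :=
    ((Groth.Agent.Lib.Helper48.SyntMor.isSyntomicMor_iff_flat_koszul _).1 hP).1
  obtain ⟨k, ψ, hk⟩ := descends_flat D c hc i₀ f₀ g₀ hflat
  refine Descends.of_rebase ψ ?_ hP
  haveI : Flat (bcMap (D.map ψ) f₀ g₀) := hk
  haveI : LocallyOfFinitePresentation (bcMap (D.map ψ) f₀ g₀) :=
    bcMap_of_isStableUnderBaseChange (P := @LocallyOfFinitePresentation) _ _ _ inferInstance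
  haveI : CompactSpace ↥(pullback (D.map ψ) (f₀ ≫ g₀)) :=
    compactSpace_pbDiagram_obj D i₀ (f₀ ≫ g₀) (Over.mk ψ)
  exact descends_synt_of_flat D c hc k _ _

end aux

/-- Let S = lim S_i be a cofiltered limit of schemes with affine transition morphisms, S_{i₀} a
quasi-compact quasi-separated stage, f₀ : X₀ → Y₀ a morphism of quasi-compact quasi-separated
schemes over S_{i₀}, and f : X → Y its base change along S → S_{i₀} (base changes expressed by
pullback squares). If f₀ is locally of finite presentation and f is syntomic (flat, locally of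
finite presentation, with local complete intersection fibres, tested on affine opens around each
point), then for some index i over i₀ the base change f_i : X_i → Y_i of f₀ along S_i → S_{i₀} is
syntomic. -/
theorem result {I : Type u} [SmallCategory I] [IsCofiltered I]
    (D : I ⥤ Scheme.{u}) (c : Limits.Cone D) (hc : Limits.IsLimit c)
    [∀ (i j : I) (f : i ⟶ j), IsAffineHom (D.map f)] (i₀ : I) [CompactSpace (D.obj i₀)]
    [QuasiSeparatedSpace (D.obj i₀)] {X₀ Y₀ : Scheme.{u}} (f₀ : X₀ ⟶ Y₀) (g₀ : Y₀ ⟶ D.obj i₀)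
    [CompactSpace X₀] [QuasiSeparatedSpace X₀] [CompactSpace Y₀] [QuasiSeparatedSpace Y₀]
    [LocallyOfFinitePresentation f₀]
    {X Y : Scheme.{u}} (f : X ⟶ Y) (g : Y ⟶ c.pt) (qY : Y ⟶ Y₀) (qX : X ⟶ X₀)
    (hY : IsPullback qY g g₀ (c.π.app i₀)) (hX : IsPullback qX f f₀ qY) (hf : Synt.IsSyntomicMor f) :
    ∃ (i : I) (φ : i ⟶ i₀) (Xi Yi : Scheme.{u}) (fi : Xi ⟶ Yi) (gi : Yi ⟶ D.obj i) (pY : Yi ⟶ Y₀)
      (pX : Xi ⟶ X₀), IsPullback pY gi g₀ (D.map φ) ∧ IsPullback pX fi f₀ pY ∧ Synt.IsSyntomicMor fi := by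
  haveI : ∀ {i j : I} (f : i ⟶ j), IsAffineHom (D.map f) := fun f => inferInstance
  exact (descends_Psyn D c hc i₀ f₀ g₀).template hY hX hf

end Groth.Agent.S9198
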