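import Groth.Statements.S9199
import Groth.Agent.Lib.Helper24.Lim8Sep
-- import your own Groth.Agent.* helpers here

set_option autoImplicit false
universe u
open CategoryTheory AlgebraicGeometry
open Lim

namespace Groth.Agent.S9199

/-- Let S be a scheme and X = lim X_i a cofiltered limit of S-schemes X_i (a diagram with a compatible
family of structure maps to S) with affine transition morphisms, every X_i quasi-compact and
quasi-separated; the structure map X → S is the composite X → X_{i₀} → S for any index i₀. Assume S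
is quasi-separated. If X → S is separated, then X_i → S is separated for all i beyond some index i₁. -/
theorem result {I : Type u} [SmallCategory I] [IsCofiltered I] (S : Scheme.{u}) [QuasiSeparatedSpace S]
    (D : I ⥤ Scheme.{u}) (t : D ⟶ (Functor.const I).obj S) (c : Limits.Cone D) (hc : Limits.IsLimit c)
    [∀ (i j : I) (a : i ⟶ j), IsAffineHom (D.map a)]
    [∀ i, CompactSpace (D.obj i)] [∀ i, QuasiSeparatedSpace (D.obj i)] (i₀ : I)
    [IsSeparated (c.π.app i₀ ≫ t.app i₀)] :
    ∃ i₁ : I, ∀ (i : I) (_ : i ⟶ i₁), IsSeparated (t.app i) := by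
  have hτ : ∀ {j k : I} (f : j ⟶ k), D.map f ≫ (t.app k : D.obj k ⟶ S) = (t.app j : D.obj j ⟶ S) := by
    intro j k f
    have := t.naturality f
    simpa using this
  have hs : ∀ i, c.π.app i ≫ (t.app i : D.obj i ⟶ S) = (c.π.app i₀ ≫ t.app i₀ : c.pt ⟶ S) := by
    intro i
    have e1 : c.π.app (IsCofiltered.min i i₀) ≫ D.map (IsCofiltered.minToLeft i i₀) = c.π.app i :=
      c.w _
    have e2 : c.π.app (IsCofiltered.min i i₀) ≫ D.map (IsCofiltered.minToRight i i₀) = c.π.app i₀ :=
      c.w _
    rw [← e1, ← e2, Category.assoc, Category.assoc, hτ, hτ]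
  have hsep : IsSeparated (c.π.app i₀ ≫ t.app i₀ : c.pt ⟶ S) := ‹_›
  exact @Groth.Agent.Lib.Helper24.Lim8.exists_isSeparated I _ D S (fun j ↦ (t.app j : D.obj j ⟶ S))
    (fun f ↦ hτ f) c (c.π.app i₀ ≫ t.app i₀ : c.pt ⟶ S) hs _ (fun {i j} f ↦ inferInstance) _ _ _ hc hsep

end Groth.Agent.S9199
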