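import Groth.Statements.S9201
import Groth.Agent.S0594
-- import your own Groth.Agent.* helpers here

set_option autoImplicit false
universe u
open CategoryTheory AlgebraicGeometry
open Lim

namespace Groth.Agent.S9201

/-- Let S be a quasi-separated scheme and X = lim X_i a cofiltered limit of S-schemes X_i (a diagram
with a compatible family of structure maps to S) whose transition morphisms are closed immersions,
every X_i quasi-compact, quasi-separated and locally of finite type over S; the structure map X → S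
is the composite X → X_{i₀} → S for any index i₀. If X → S is an immersion, then X_i → S is an
immersion for all i beyond some index i₁. -/
theorem result {I : Type u} [SmallCategory I] [IsCofiltered I] (S : Scheme.{u}) [QuasiSeparatedSpace S]
    (D : I ⥤ Scheme.{u}) (t : D ⟶ (Functor.const I).obj S) (c : Limits.Cone D) (hc : Limits.IsLimit c)
    [∀ (i j : I) (a : i ⟶ j), IsClosedImmersion (D.map a)]
    [∀ i, CompactSpace (D.obj i)] [∀ i, QuasiSeparatedSpace (D.obj i)]
    [∀ i, LocallyOfFiniteType (t.app i)] (i₀ : I)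
    [IsImmersion (c.π.app i₀ ≫ t.app i₀)] :
    ∃ i₁ : I, ∀ (i : I) (_ : i ⟶ i₁), IsImmersion (t.app i) := by
  classical
  have hnat : ∀ {i j : I} (f : i ⟶ j), (D.map f ≫ t.app j : D.obj i ⟶ S) = t.app i := by
    intro i j f
    have := t.naturality f
    simpa only [Functor.const_obj_obj, Functor.const_obj_map, Category.comp_id] using this
  have hst : ∀ i : I, (c.π.app i ≫ t.app i : c.pt ⟶ S) = c.π.app i₀ ≫ t.app i₀ := by
    intro i
    rw [← c.w (IsCofiltered.minToLeft i i₀), Category.assoc, hnat,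
      ← c.w (IsCofiltered.minToRight i i₀), Category.assoc, hnat]
  haveI haff : ∀ {i j : I} (a : i ⟶ j), IsAffineHom (D.map a) := fun a ↦ inferInstance
  obtain ⟨f, hf⟩ : ∃ f : c.pt ⟶ S, f = c.π.app i₀ ≫ t.app i₀ := ⟨_, rfl⟩
  haveI hfimm : IsImmersion f := hf ▸ inferInstance
  let U₀ : S.Opens := f.coborderRange
  have hrange : Set.range f ⊆ (U₀ : Set S) := subset_coborder
  -- a stage mapping into `U₀`
  have h1 : c.π.app i₀ ⁻¹ᵁ ((t.app i₀ : D.obj i₀ ⟶ S) ⁻¹ᵁ U₀) = ⊤ := by
    rw [← Scheme.Hom.comp_preimage, ← hf]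
    exact top_le_iff.mp fun x _ ↦ hrange ⟨x, rfl⟩
  obtain ⟨i₂, a₂, h2⟩ := exists_map_eq_top D c hc ((t.app i₀ : D.obj i₀ ⟶ S) ⁻¹ᵁ U₀) h1
  have hr2 : Set.range (t.app i₂ : D.obj i₂ ⟶ S) ⊆ (U₀ : Set S) := by
    rintro _ ⟨x, rfl⟩
    have hx : x ∈ (D.map a₂ ⁻¹ᵁ ((t.app i₀ : D.obj i₀ ⟶ S) ⁻¹ᵁ U₀)) := by rw [h2]; trivial
    have e : (t.app i₂ : D.obj i₂ ⟶ S) x = (t.app i₀ : D.obj i₀ ⟶ S) (D.map a₂ x) := by
      rw [← hnat a₂]; rfl
    rw [e]; exact hx
  -- a quasi-compact open in between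
  obtain ⟨U', hU'c, hU'le, hU'r⟩ : ∃ U' : S.Opens, IsCompact (U' : Set S) ∧ U' ≤ U₀ ∧
      Set.range (t.app i₂ : D.obj i₂ ⟶ S) ⊆ (U' : Set S) := by
    have hK : IsCompact (Set.range (t.app i₂ : D.obj i₂ ⟶ S)) :=
      isCompact_range (t.app i₂ : D.obj i₂ ⟶ S).continuous
    have key : ∀ x : S, x ∈ (U₀ : Set S) → ∃ W : S.Opens, IsAffineOpen W ∧ x ∈ W ∧ W ≤ U₀ := by
      intro x hx
      obtain ⟨_, ⟨W, hW, rfl⟩, hxW, hWU⟩ :=
        S.isBasis_affineOpens.exists_subset_of_mem_open hx U₀.2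
      exact ⟨W, hW, hxW, hWU⟩
    choose! W hW hxW hWU using key
    obtain ⟨T, hTs, hT⟩ := hK.elim_nhds_subcover (fun x ↦ (W x : Set S))
      (fun x hx ↦ (W x).2.mem_nhds (hxW x (hr2 hx)))
    refine ⟨⟨⋃ x ∈ T, (W x : Set S), isOpen_biUnion fun x _ ↦ (W x).2⟩, ?_, ?_, hT⟩
    · exact T.isCompact_biUnion fun x hx ↦ (hW x (hr2 (hTs x hx))).isCompact
    · intro y hy
      change y ∈ ⋃ x ∈ T, (W x : Set S) at hy
      simp only [Set.mem_iUnion, exists_prop] at hy
      obtain ⟨x, hx, hy⟩ := hy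
      exact hWU x (hr2 (hTs x hx)) hy
  haveI : CompactSpace (↑U' : Scheme.{u}) := isCompact_iff_compactSpace.mp hU'c
  haveI : QuasiSeparatedSpace (↑U' : Scheme.{u}) := quasiSeparatedSpace_of_quasiSeparated U'.ι
  -- the system over `i₂`, with base `U'`
  let D' : Over i₂ ⥤ Scheme.{u} := Over.forget i₂ ⋙ D
  let c' : Limits.Cone D' := c.whisker (Over.forget i₂)
  have hc' : Limits.IsLimit c' := (Functor.Initial.isLimitWhiskerEquiv (Over.forget i₂) c).symm hc
  have hrj : ∀ j : Over i₂, Set.range (t.app j.left : D.obj j.left ⟶ S) ⊆ Set.range U'.ι := by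
    intro j
    rw [Scheme.Opens.range_ι]
    rintro _ ⟨x, rfl⟩
    have e : (t.app j.left : D.obj j.left ⟶ S) x = (t.app i₂ : D.obj i₂ ⟶ S) (D.map j.hom x) := by
      rw [← hnat j.hom]; rfl
    rw [e]
    exact hU'r ⟨_, rfl⟩
  let t' : D' ⟶ (Functor.const (Over i₂)).obj (↑U' : Scheme.{u}) :=
    { app j := IsOpenImmersion.lift U'.ι (t.app j.left : D.obj j.left ⟶ S) (hrj j)
      naturality j k φ := by
        rw [← cancel_mono U'.ι]
        simp only [Functor.const_obj_obj, Functor.const_obj_map, Category.comp_id, Category.assoc,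
          IsOpenImmersion.lift_fac]
        exact hnat φ.left }
  have ht' : ∀ j : Over i₂, t'.app j ≫ U'.ι = (t.app j.left : D.obj j.left ⟶ S) := fun j ↦
    IsOpenImmersion.lift_fac _ _ _
  haveI : ∀ (i j : Over i₂) (φ : i ⟶ j), IsClosedImmersion (D'.map φ) := fun i j φ ↦ by
    change IsClosedImmersion (D.map φ.left); infer_instance
  haveI : ∀ i : Over i₂, CompactSpace (D'.obj i) := fun i ↦ by
    change CompactSpace (D.obj i.left); infer_instance
  haveI : ∀ i : Over i₂, QuasiSeparatedSpace (D'.obj i) := fun i ↦ by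
    change QuasiSeparatedSpace (D.obj i.left); infer_instance
  haveI : ∀ i : Over i₂, LocallyOfFiniteType (t'.app i) := fun i ↦ by
    haveI : LocallyOfFiniteType (t'.app i ≫ U'.ι) := by
      rw [ht']; exact ‹∀ i, LocallyOfFiniteType (t.app i)› i.left
    exact locallyOfFiniteType_of_comp (t'.app i) U'.ι
  let j₀ : Over i₂ := Over.mk (𝟙 i₂)
  haveI : IsClosedImmersion (c'.π.app j₀ ≫ t'.app j₀) := by
    have hg : (c'.π.app j₀ ≫ t'.app j₀) ≫ U'.ι = f := by
      rw [Category.assoc, ht', hf]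
      exact hst i₂
    haveI : IsImmersion ((c'.π.app j₀ ≫ t'.app j₀) ≫ U'.ι) := hg ▸ hfimm
    haveI : IsImmersion (c'.π.app j₀ ≫ t'.app j₀) := IsImmersion.of_comp _ U'.ι
    refine IsClosedImmersion.of_isPreimmersion _ ?_
    have hr : Set.range (c'.π.app j₀ ≫ t'.app j₀) = U'.ι ⁻¹' closure (Set.range f) := by
      ext x'
      constructor
      · rintro ⟨y, rfl⟩
        refine subset_closure ⟨y, ?_⟩
        rw [← hg]; rfl
      · intro hx'
        have h3 : U'.ι x' ∈ coborder (Set.range f) ∩ closure (Set.range f) :=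
          ⟨hU'le x'.2, hx'⟩
        rw [coborder_inter_closure] at h3
        obtain ⟨y, hy⟩ := h3
        refine ⟨y, U'.ι.isOpenEmbedding.injective ?_⟩
        rw [← hy, ← hg]; rfl
    rw [hr]
    exact isClosed_closure.preimage U'.ι.continuous
  obtain ⟨j, hj⟩ := Groth.Agent.S0594.result (↑U' : Scheme.{u}) D' t' c' hc' j₀
  refine ⟨j.left, fun i a ↦ ?_⟩
  have e : (t.app i : D.obj i ⟶ S) = D.map a ≫ t'.app j ≫ U'.ι :=
    (hnat a).symm.trans (congrArg (D.map a ≫ ·) (ht' j).symm)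
  haveI := hj
  have h3 : IsImmersion (t'.app j ≫ U'.ι) := inferInstance
  have h4 : IsImmersion (D.map a) := inferInstance
  change IsImmersion (t.app i : D.obj i ⟶ S)
  rw [e]
  exact MorphismProperty.comp_mem @IsImmersion (D.map a) (t'.app j ≫ U'.ι) h4 h3

end Groth.Agent.S9201
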