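import Groth.Statements.S9206
import Mathlib
-- import your own Groth.Agent.* helpers here

set_option autoImplicit false
universe u
open CategoryTheory AlgebraicGeometry
open Lim

namespace Groth.Agent.S9206
open CategoryTheory AlgebraicGeometry Limits TopologicalSpace Topology Opposite


lemma exists_frac {X : Scheme.{u}} [IsAffine X] (s : X) (a : X.residueField s) :
    ∃ x y : Γ(X, ⊤), X.Γevaluation s y ≠ 0 ∧ a * X.Γevaluation s y = X.Γevaluation s x := by
  obtain ⟨α, rfl⟩ := X.residue_surjective s a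
  letI := X.presheaf.algebra_section_stalk (U := ⊤) ⟨s, trivial⟩
  haveI := (isAffineOpen_top X).isLocalization_stalk ⟨s, trivial⟩
  obtain ⟨⟨x, y⟩, hxy⟩ := IsLocalization.surj
    ((isAffineOpen_top X).primeIdealOf ⟨s, trivial⟩).asIdeal.primeCompl α
  refine ⟨x, y.1, ?_, ?_⟩
  · have hu : IsUnit (algebraMap Γ(X, ⊤) (X.presheaf.stalk s) y.1) :=
      IsLocalization.map_units _ y
    have hu' := hu.map (X.residue s).hom
    exact hu'.ne_zero
  · have := congrArg (X.residue s).hom hxy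
    rw [map_mul] at this
    exact this

lemma affine_case {J : Type u} [SmallCategory J] [IsCofiltered J] (D : J ⥤ Scheme.{u})
    (c : Cone D) (hc : IsLimit c) [∀ j, IsAffine (D.obj j)] [IsAffine c.pt] (s : c.pt)
    (a : c.pt.residueField s) :
    ∃ (j : J) (b : (D.obj j).residueField ((c.π.app j).base s)),
      ((c.π.app j).residueFieldMap s).hom b = a := by
  obtain ⟨x, y, hy, hxy⟩ := exists_frac s a
  obtain ⟨j₁, x₁, hx₁⟩ := exists_appTop_π_eq_of_isAffine_of_isLimit D c hc x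
  obtain ⟨j₂, y₂, hy₂⟩ := exists_appTop_π_eq_of_isAffine_of_isLimit D c hc y
  let l := IsCofiltered.min j₁ j₂
  let g₁ : l ⟶ j₁ := IsCofiltered.minToLeft j₁ j₂
  let g₂ : l ⟶ j₂ := IsCofiltered.minToRight j₁ j₂
  have hx : (c.π.app l).appTop ((D.map g₁).appTop x₁) = x := by
    rw [← hx₁, ← c.w g₁, Scheme.Hom.comp_appTop]
    rfl
  have hy' : (c.π.app l).appTop ((D.map g₂).appTop y₂) = y := by
    rw [← hy₂, ← c.w g₂, Scheme.Hom.comp_appTop]
    rfl
  refine ⟨l, (D.obj l).Γevaluation _ ((D.map g₁).appTop x₁) /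
    (D.obj l).Γevaluation _ ((D.map g₂).appTop y₂), ?_⟩
  rw [map_div₀, Scheme.Γevaluation_naturality_apply, Scheme.Γevaluation_naturality_apply, hx, hy']
  show c.pt.Γevaluation s x / c.pt.Γevaluation s y = a
  rw [div_eq_iff hy]
  exact hxy.symm

lemma transfer {X X' Y Y' : Scheme.{u}} (ι : X' ⟶ X) (π : X ⟶ Y) (π' : X' ⟶ Y') (ιj : Y' ⟶ Y)
    [IsOpenImmersion ιj] (e : ι ≫ π = π' ≫ ιj) (s' : X') (b' : Y'.residueField (π' s')) :
    ∃ b : Y.residueField (π (ι s')),
      (ι.residueFieldMap s').hom ((π.residueFieldMap (ι s')).hom b) =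
        (π'.residueFieldMap s').hom b' := by
  have h1 := Scheme.Hom.residueFieldMap_congr e s'
  rw [Scheme.residueFieldMap_comp, Scheme.residueFieldMap_comp] at h1
  have hpt : (ι ≫ π) s' = (π' ≫ ιj) s' := by rw [e]
  refine ⟨(Y.residueFieldCongr hpt).inv.hom ((inv (ιj.residueFieldMap (π' s'))).hom b'), ?_⟩
  have h2 := congrArg (fun φ => φ.hom ((Y.residueFieldCongr hpt).inv.hom
    ((inv (ιj.residueFieldMap (π' s'))).hom b'))) h1
  have hc1 : ∀ (A B : CommRingCat.{u}) (e : A ≅ B) (w : B), e.hom.hom (e.inv.hom w) = w :=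
    fun A B e w => by rw [← CommRingCat.comp_apply, e.inv_hom_id]; rfl
  have hc2 : ∀ (A B : CommRingCat.{u}) (φ : A ⟶ B) [IsIso φ] (w : B),
      φ.hom ((inv φ).hom w) = w :=
    fun A B φ _ w => by rw [← CommRingCat.comp_apply, IsIso.inv_hom_id]; rfl
  exact h2.trans (congrArg (π'.residueFieldMap s').hom
    ((congrArg (ιj.residueFieldMap (π' s')).hom (hc1 _ _ (Y.residueFieldCongr hpt) _)).trans
      (hc2 _ _ (ιj.residueFieldMap (π' s')) b')))


/-- Let S = lim S_i be a cofiltered limit of schemes with affine transition morphisms and let s be a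
point of S with images s_i in S_i. Then the residue field κ(s) is the colimit of the residue fields
κ(s_i): every element of κ(s) is the image of an element of κ(s_i) for some i under the map of
residue fields induced by S → S_i (the maps κ(s_i) → κ(s) being injective, this says that the
canonical map from the colimit is an isomorphism). -/
theorem result {I : Type u} [SmallCategory I] [IsCofiltered I]
    (D : I ⥤ Scheme.{u}) (c : Limits.Cone D) (hc : Limits.IsLimit c)
    [∀ (i j : I) (f : i ⟶ j), IsAffineHom (D.map f)] (s : c.pt) (a : c.pt.residueField s) :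
    ∃ (i : I) (b : (D.obj i).residueField ((c.π.app i).base s)), ((c.π.app i).residueFieldMap s).hom b = a := by
  have i₀ : I := IsCofiltered.nonempty.some
  obtain ⟨V₀, hV₀, hsV₀, -⟩ := Opens.isBasis_iff_nbhd.mp (D.obj i₀).isBasis_affineOpens
    (Opens.mem_top ((c.π.app i₀).base s))
  haveI : ∀ {i j : I} (f : i ⟶ j), IsAffineHom (D.map f) := fun f => inferInstance
  haveI : ∀ j : Over i₀, IsAffine ((opensDiagram D i₀ V₀).obj j) :=
    fun j => hV₀.preimage (D.map j.hom)
  haveI : IsAffine (opensCone D c i₀ V₀).pt := by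
    haveI := isAffineHom_π_app D c hc i₀
    exact hV₀.preimage (c.π.app i₀)
  let s' : (opensCone D c i₀ V₀).pt := ⟨s, hsV₀⟩
  obtain ⟨j, b', hb'⟩ := affine_case (opensDiagram D i₀ V₀) (opensCone D c i₀ V₀)
    (isLimitOpensCone D c hc i₀ V₀) s' (((c.π.app i₀ ⁻¹ᵁ V₀).ι.residueFieldMap s').hom a)
  have e : (c.π.app i₀ ⁻¹ᵁ V₀).ι ≫ c.π.app j.left =
      (opensCone D c i₀ V₀).π.app j ≫ (D.map j.hom ⁻¹ᵁ V₀).ι :=
    (Scheme.Hom.resLE_comp_ι _ _).symm
  obtain ⟨b, hb⟩ := @transfer _ _ _ _ (c.π.app i₀ ⁻¹ᵁ V₀).ι (c.π.app j.left)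
    ((opensCone D c i₀ V₀).π.app j) (D.map j.hom ⁻¹ᵁ V₀).ι
    (Scheme.Opens.instIsOpenImmersionι _) e s' b'
  refine ⟨j.left, b, ?_⟩
  apply ((c.π.app i₀ ⁻¹ᵁ V₀).ι.residueFieldMap s').hom.injective
  exact hb.trans hb'

end Groth.Agent.S9206
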