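import Groth.Statements.S9210
import Groth.Agent.S4450
import Groth.Agent.Lib.Helper39.ClosureSpecializes
-- import your own Groth.Agent.* helpers here

set_option autoImplicit false
universe u
open CategoryTheory CategoryTheory.Limits AlgebraicGeometry
open Lim

namespace Groth.Agent.S9210

section Helpers

open CategoryTheory CategoryTheory.Limits AlgebraicGeometry
open Groth.Agent.Lib.Helper39.KA

theorem main9210 {X S U : Scheme.{u}} [IsLocallyNoetherian S] (f : X ⟶ S)
    [LocallyOfFiniteType f] (h : U ⟶ X) [LocallyOfFiniteType h] [QuasiCompact h] (hd : DenseRange h.base)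
    (H : ∀ (A : Type u) [CommRing A] [IsDomain A] [IsDiscreteValuationRing A]
      (u : Spec (CommRingCat.of (FractionRing A)) ⟶ U) (y : Spec (CommRingCat.of A) ⟶ S),
      u ≫ h ≫ f = Spec.map (CommRingCat.ofHom (algebraMap A (FractionRing A))) ≫ y →
        ∀ l₁ l₂ : Spec (CommRingCat.of A) ⟶ X, l₁ ≫ f = y → Spec.map (CommRingCat.ofHom (algebraMap A (FractionRing A))) ≫ l₁ = u ≫ h →
          l₂ ≫ f = y → Spec.map (CommRingCat.ofHom (algebraMap A (FractionRing A))) ≫ l₂ = u ≫ h → l₁ = l₂) :
    IsSeparated f := by
  have hX : IsLocallyNoetherian X := LocallyOfFiniteType.isLocallyNoetherian f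
  have hqs1 : QuasiSeparated (terminal.from X) :=
    (quasiSeparatedSpace_iff_quasiSeparated X).mp inferInstance
  have hqs2 : QuasiSeparated (f ≫ terminal.from S) := by
    rwa [terminalIsTerminal.hom_ext (f ≫ terminal.from S) (terminal.from X)]
  have hqs : QuasiSeparated f := QuasiSeparated.of_comp f (terminal.from S)
  have hqc : QuasiCompact (pullback.diagonal f) := QuasiSeparated.quasiCompact_diagonal
  have hlft : LocallyOfFiniteType (pullback.diagonal f) := by
    have : LocallyOfFiniteType (pullback.diagonal f ≫ pullback.fst f f) := by
      rw [pullback.diagonal_fst]; infer_instance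
    exact locallyOfFiniteType_of_comp (pullback.diagonal f) (pullback.fst f f)
  have hPnoeth : IsLocallyNoetherian (pullback f f) := inferInstance
  let g := h ≫ pullback.diagonal f
  have hgqc : QuasiCompact g := inferInstance
  have hglft : LocallyOfFiniteType g := inferInstance
  -- the range of the diagonal is closed
  have hclosed : IsClosed (Set.range (pullback.diagonal f).base) := by
    rw [← closure_subset_iff_isClosed]
    intro z' hz'
    -- `z'` is in the closure of the image of `U`
    have h1 : z' ∈ closure (Set.range g.base) := by
      have h2 : Set.range (pullback.diagonal f).base ⊆ closure (Set.range g.base) := by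
        rintro _ ⟨x, rfl⟩
        have hx : x ∈ closure (Set.range h.base) := hd x
        have := image_closure_subset_closure_image
          (pullback.diagonal f).base.hom.continuous ⟨x, hx, rfl⟩
        rw [← Set.range_comp] at this
        exact this
      exact closure_minimal h2 isClosed_closure hz'
    obtain ⟨u, hu⟩ := exists_specializes_of_mem_closure_range g z' h1
    by_cases hz : z' = g.base u
    · exact ⟨h.base u, hz.symm⟩
    obtain ⟨A, hh, hdvr, hcl, hgen⟩ := Groth.Agent.S4450.result g u z' hu hz
    let g₁ := hh ≫ pullback.fst f f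
    let g₂ := hh ≫ pullback.snd f f
    have hg12 : g₁ ≫ f = g₂ ≫ f := by
      simp only [g₁, g₂, Category.assoc, pullback.condition]
    have hgen1 : Spec.map (CommRingCat.ofHom A.subtype) ≫ g₁ = U.fromSpecResidueField u ≫ h := by
      simp only [g₁, g, ← Category.assoc, hgen]
      simp
    have hgen2 : Spec.map (CommRingCat.ofHom A.subtype) ≫ g₂ = U.fromSpecResidueField u ≫ h := by
      simp only [g₂, g, ← Category.assoc, hgen]
      simp
    let e : FractionRing A ≃ₐ[A] U.residueField u := FractionRing.algEquiv A (U.residueField u)
    have he : (algebraMap A (FractionRing A)) =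
        (e.symm : U.residueField u →+* FractionRing A).comp A.subtype := by
      ext a
      exact (e.symm.commutes a).symm
    have hfac : Spec.map (CommRingCat.ofHom (algebraMap A (FractionRing A))) =
        Spec.map (CommRingCat.ofHom (e.symm : U.residueField u →+* FractionRing A)) ≫
          Spec.map (CommRingCat.ofHom A.subtype) := by
      rw [← Spec.map_comp, ← CommRingCat.ofHom_comp, ← he]
    let uu : Spec (CommRingCat.of (FractionRing A)) ⟶ U :=
      Spec.map (CommRingCat.ofHom (e.symm : U.residueField u →+* FractionRing A)) ≫
        U.fromSpecResidueField u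
    have hl1 : Spec.map (CommRingCat.ofHom (algebraMap A (FractionRing A))) ≫ g₁ = uu ≫ h := by
      rw [hfac, Category.assoc, hgen1, Category.assoc]
    have hl2 : Spec.map (CommRingCat.ofHom (algebraMap A (FractionRing A))) ≫ g₂ = uu ≫ h := by
      rw [hfac, Category.assoc, hgen2, Category.assoc]
    have hy : uu ≫ h ≫ f =
        Spec.map (CommRingCat.ofHom (algebraMap A (FractionRing A))) ≫ (g₁ ≫ f) := by
      rw [← Category.assoc, ← hl1, Category.assoc]
    have hg : g₁ = g₂ := H A uu (g₁ ≫ f) hy g₁ g₂ rfl hl1 hg12.symm hl2
    have hh' : hh = g₁ ≫ pullback.diagonal f := by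
      apply pullback.hom_ext
      · simp [g₁]
      · simp only [Category.assoc, pullback.diagonal_snd, Category.comp_id]
        exact hg.symm
    refine ⟨g₁.base (IsLocalRing.closedPoint A), ?_⟩
    rw [← hcl, hh']
    rfl
  exact ⟨IsClosedImmersion.of_isPreimmersion _ hclosed⟩

end Helpers

/-- Let S be a locally Noetherian scheme, f : X → S a morphism locally of finite type and h : U → X a
morphism of finite type whose image is dense in X. Suppose that for every discrete valuation ring A
with fraction field K and every commutative square formed by a morphism Spec K → U → X and a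
morphism Spec A → S, there is at most one morphism Spec A → X making the resulting diagram commute.
Then f is separated. -/
theorem result {X S U : Scheme.{u}} [IsLocallyNoetherian S] (f : X ⟶ S)
    [LocallyOfFiniteType f] (h : U ⟶ X) [LocallyOfFiniteType h] [QuasiCompact h] (hd : DenseRange h.base)
    (H : ∀ (A : Type u) [CommRing A] [IsDomain A] [IsDiscreteValuationRing A]
      (u : Spec (CommRingCat.of (FractionRing A)) ⟶ U) (y : Spec (CommRingCat.of A) ⟶ S),
      u ≫ h ≫ f = Spec.map (CommRingCat.ofHom (algebraMap A (FractionRing A))) ≫ y →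
        ∀ l₁ l₂ : Spec (CommRingCat.of A) ⟶ X, l₁ ≫ f = y → Spec.map (CommRingCat.ofHom (algebraMap A (FractionRing A))) ≫ l₁ = u ≫ h →
          l₂ ≫ f = y → Spec.map (CommRingCat.ofHom (algebraMap A (FractionRing A))) ≫ l₂ = u ≫ h → l₁ = l₂) :
    IsSeparated f := by
  exact main9210 f h hd H

end Groth.Agent.S9210
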