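import Groth.Statements.S9211
import Groth.Agent.S4450
-- import your own Groth.Agent.* helpers here

set_option autoImplicit false
universe u
open CategoryTheory CategoryTheory.Limits AlgebraicGeometry
open Lim

namespace Groth.Agent.S9211

section Helpers

open CategoryTheory CategoryTheory.Limits AlgebraicGeometry

theorem main9211 {X S : Scheme.{u}} [IsLocallyNoetherian S] (f : X ⟶ S)
    [LocallyOfFiniteType f] :
    IsSeparated f ↔ ∀ (η : X), closure {η} ∈ irreducibleComponents (X : Type u) →
      ∀ (A : ValuationSubring (X.residueField η)), IsDiscreteValuationRing A →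
        ∀ l₁ l₂ : Spec (CommRingCat.of A) ⟶ X, l₁ ≫ f = l₂ ≫ f →
          Spec.map (CommRingCat.ofHom A.subtype) ≫ l₁ = X.fromSpecResidueField η →
          Spec.map (CommRingCat.ofHom A.subtype) ≫ l₂ = X.fromSpecResidueField η → l₁ = l₂ := by
  constructor
  · intro hsep η _ A _ l₁ l₂ h12 h1 h2
    have hu := IsSeparated.valuativeCriterion f
    have hc : CommSq (X.fromSpecResidueField η)
        (Spec.map (CommRingCat.ofHom (algebraMap A (X.residueField η)))) f (l₁ ≫ f) :=
      ⟨by rw [← h1]; rfl⟩
    let Sq : ValuativeCommSq f := ⟨A, X.residueField η, _, _, hc⟩
    have hsub : Subsingleton Sq.commSq.LiftStruct := hu Sq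
    let L₁ : Sq.commSq.LiftStruct := ⟨l₁, h1, rfl⟩
    let L₂ : Sq.commSq.LiftStruct := ⟨l₂, h2, h12.symm⟩
    exact congrArg CommSq.LiftStruct.l (Subsingleton.elim L₁ L₂)
  · intro H
    have hX : IsLocallyNoetherian X := LocallyOfFiniteType.isLocallyNoetherian f
    have hqs1 : QuasiSeparated (terminal.from X) :=
      (quasiSeparatedSpace_iff_quasiSeparated X).mp inferInstance
    have hqs2 : QuasiSeparated (f ≫ terminal.from S) := by
      rwa [terminalIsTerminal.hom_ext (f ≫ terminal.from S) (terminal.from X)]
    have hqs : QuasiSeparated f := QuasiSeparated.of_comp f (terminal.from S)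
    have hqc : QuasiCompact (pullback.diagonal f) := QuasiSeparated.quasiCompact_diagonal
    have hlft : LocallyOfFiniteType (pullback.diagonal f) := by
      have : LocallyOfFiniteType (pullback.diagonal f ≫ pullback.fst f f) := by
        rw [pullback.diagonal_fst]; infer_instance
      exact locallyOfFiniteType_of_comp (pullback.diagonal f) (pullback.fst f f)
    have hPnoeth : IsLocallyNoetherian (pullback f f) := inferInstance
    have hind : Topology.IsInducing (pullback.diagonal f).base :=
      (pullback.diagonal f).isEmbedding.isInducing
    have hspec : SpecializingMap (pullback.diagonal f).base := by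
      intro x z' hsp
      -- a generic point of an irreducible component through `x`
      obtain ⟨η, hη⟩ := QuasiSober.sober (isIrreducible_irreducibleComponent (x := x))
        isClosed_irreducibleComponent
      have hηcl : closure {η} = irreducibleComponent x := hη
      have hηx : η ⤳ x := by
        rw [specializes_iff_mem_closure, hηcl]
        exact mem_irreducibleComponent
      have hηcomp : closure {η} ∈ irreducibleComponents (X : Type u) := by
        rw [hηcl]; exact irreducibleComponent_mem_irreducibleComponents x
      have hsp' : (pullback.diagonal f).base η ⤳ z' :=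
        (hηx.map (pullback.diagonal f).base.hom.continuous).trans hsp
      by_cases hz : z' = (pullback.diagonal f).base η
      · -- then `x = η`
        refine ⟨x, specializes_rfl, ?_⟩
        have h1 : (pullback.diagonal f).base x ⤳ (pullback.diagonal f).base η := hz ▸ hsp
        have h2 : x ⤳ η := hind.specializes_iff.mp h1
        have h3 : x = η := (h2.antisymm hηx).eq
        rw [hz, h3]
      obtain ⟨A, h, hdvr, hcl, hgen⟩ :=
        Groth.Agent.S4450.result (pullback.diagonal f) η z' hsp' hz
      let g₁ := h ≫ pullback.fst f f
      let g₂ := h ≫ pullback.snd f f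
      have hg12 : g₁ ≫ f = g₂ ≫ f := by
        simp only [g₁, g₂, Category.assoc, pullback.condition]
      have hgen1 : Spec.map (CommRingCat.ofHom A.subtype) ≫ g₁ = X.fromSpecResidueField η := by
        simp only [g₁, ← Category.assoc, hgen]
        simp
      have hgen2 : Spec.map (CommRingCat.ofHom A.subtype) ≫ g₂ = X.fromSpecResidueField η := by
        simp only [g₂, ← Category.assoc, hgen]
        simp
      have hg : g₁ = g₂ := H η hηcomp A hdvr g₁ g₂ hg12 hgen1 hgen2
      have hh : h = g₁ ≫ pullback.diagonal f := by
        apply pullback.hom_ext
        · simp [g₁]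
        · simp only [Category.assoc, pullback.diagonal_snd, Category.comp_id]
          exact hg.symm
      have hz' : (pullback.diagonal f).base (g₁.base (IsLocalRing.closedPoint A)) = z' := by
        rw [← hcl, hh]
        rfl
      refine ⟨g₁.base (IsLocalRing.closedPoint A), ?_, hz'⟩
      apply hind.specializes_iff.mp
      rw [hz']
      exact hsp
    have hclosed : IsClosedMap (pullback.diagonal f).base :=
      (isClosedMap_iff_specializingMap (pullback.diagonal f)).mpr hspec
    exact ⟨IsClosedImmersion.of_isPreimmersion _ hclosed.isClosed_range⟩

end Helpers

/-- Let S be a locally Noetherian scheme and f : X → S a morphism locally of finite type. Then f is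
separated if and only if the following uniqueness holds: for every generic point η of an irreducible
component of X, every discrete valuation ring A contained in the residue field κ(η) with fraction
field κ(η) (a valuation subring of κ(η) which is a discrete valuation ring), and every pair of
morphisms Spec A → X with the same composite to S and both restricting on Spec κ(η) to the canonical
morphism Spec κ(η) → X, the two morphisms coincide. -/
theorem result {X S : Scheme.{u}} [IsLocallyNoetherian S] (f : X ⟶ S)
    [LocallyOfFiniteType f] :
    IsSeparated f ↔ ∀ (η : X), closure {η} ∈ irreducibleComponents (X : Type u) →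
      ∀ (A : ValuationSubring (X.residueField η)), IsDiscreteValuationRing A →
        ∀ l₁ l₂ : Spec (CommRingCat.of A) ⟶ X, l₁ ≫ f = l₂ ≫ f →
          Spec.map (CommRingCat.ofHom A.subtype) ≫ l₁ = X.fromSpecResidueField η →
          Spec.map (CommRingCat.ofHom A.subtype) ≫ l₂ = X.fromSpecResidueField η → l₁ = l₂ := by
  exact main9211 f

end Groth.Agent.S9211
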