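import Groth.Statements.S9212
import Groth.Agent.Lib.Helper25.ValCenterBC
import Groth.Agent.S9205
import Groth.Agent.S9211

set_option autoImplicit false
universe u
open CategoryTheory CategoryTheory.Limits AlgebraicGeometry
open Lim

namespace Groth.Agent.S9212

section Helpers

set_option linter.style.haveILetI false

open Groth.Agent.Lib.Helper25.ValCenter

/-- every point is a specialization of the generic point of an irreducible component -/
theorem exists_generic_specializes {X : Scheme.{u}} (x : X) :
    ∃ η : X, closure {η} ∈ irreducibleComponents (X : Type u) ∧ η ⤳ x := by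
  have hirr : IsIrreducible (irreducibleComponent x) := isIrreducible_irreducibleComponent
  have hcl : IsClosed (irreducibleComponent x) := isClosed_irreducibleComponent
  have hgen := hirr.isGenericPoint_genericPoint hcl
  refine ⟨hirr.genericPoint, ?_, ?_⟩
  · rw [hgen.def]
    exact irreducibleComponent_mem_irreducibleComponents x
  · rw [specializes_iff_mem_closure, hgen.def]
    exact mem_irreducibleComponent

theorem forward {X S : Scheme.{u}} (f : X ⟶ S) [IsProper f] (η : X)
    (A : ValuationSubring (X.residueField η)) (y : Spec (CommRingCat.of A) ⟶ S)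
    (hy : Spec.map (CommRingCat.ofHom A.subtype) ≫ y = X.fromSpecResidueField η ≫ f) :
    ∃! l : Spec (CommRingCat.of A) ⟶ X,
      l ≫ f = y ∧ Spec.map (CommRingCat.ofHom A.subtype) ≫ l = X.fromSpecResidueField η := by
  have hval : ValuativeCriterion f := by
    have h := IsProper.eq_valuativeCriterion
    have h2 : (ValuativeCriterion ⊓ @QuasiCompact ⊓ @QuasiSeparated ⊓ @LocallyOfFiniteType) f :=
      h ▸ (inferInstance : IsProper f)
    exact h2.1.1.1
  let Sq : ValuativeCommSq f := ⟨A, X.residueField η, X.fromSpecResidueField η, y, ⟨hy.symm⟩⟩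
  obtain ⟨hu⟩ := hval Sq
  refine ⟨hu.default.l, ⟨hu.default.fac_right, hu.default.fac_left⟩, ?_⟩
  rintro l' ⟨h1, h2⟩
  let L' : Sq.commSq.LiftStruct := ⟨l', h2, h1⟩
  have := hu.uniq L'
  exact congrArg CommSq.LiftStruct.l this

theorem backward {X S : Scheme.{u}} [IsLocallyNoetherian S] (f : X ⟶ S)
    [LocallyOfFiniteType f] [QuasiCompact f]
    (H : ∀ (η : X), closure {η} ∈ irreducibleComponents (X : Type u) →
      ∀ (A : ValuationSubring (X.residueField η)), IsDiscreteValuationRing A →
        ∀ y : Spec (CommRingCat.of A) ⟶ S,
          Spec.map (CommRingCat.ofHom A.subtype) ≫ y = X.fromSpecResidueField η ≫ f →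
          ∃! l : Spec (CommRingCat.of A) ⟶ X,
            l ≫ f = y ∧ Spec.map (CommRingCat.ofHom A.subtype) ≫ l = X.fromSpecResidueField η) :
    IsProper f := by
  have hsep : IsSeparated f := by
    rw [Groth.Agent.S9211.result f]
    intro η hη A hA l₁ l₂ h12 h1 h2
    obtain ⟨l, -, hl⟩ := H η hη A hA (l₁ ≫ f) (by rw [← Category.assoc, h1])
    rw [hl l₁ ⟨rfl, h1⟩, hl l₂ ⟨h12.symm, h2⟩]
  have hex : ∀ η : X, closure {η} ∈ irreducibleComponents (X : Type u) → DVRLiftAt (𝟙 X) f η := by
    intro η hη A hA y hy
    obtain ⟨l, ⟨hl1, hl2⟩, -⟩ := H η hη A hA y (by rw [hy, Category.id_comp])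
    exact ⟨l, hl1, by rw [hl2, Category.comp_id]⟩
  have huc : UniversallyClosed f := by
    rw [(Groth.Agent.S9205.result f).2]
    intro n
    let T : Scheme.{u} := 𝔸(ULift.{u} (Fin n); S)
    let p : T ⟶ S := 𝔸(ULift.{u} (Fin n); S) ↘ S
    have : IsLocallyNoetherian T := LocallyOfFiniteType.isLocallyNoetherian p
    have hpflat : Flat p := flat_affineSpace_over _ S
    have hgen : GeneralizingMap (pullback.fst f p) := Flat.generalizingMap _
    show IsClosedMap (pullback.snd f p)
    rw [isClosedMap_iff_specializingMap]
    intro x₁' t' hsp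
    obtain ⟨η, hη, hηx⟩ := exists_generic_specializes ((pullback.fst f p) x₁')
    obtain ⟨η', hη'x, rfl⟩ := hgen hηx
    have H' : DVRLiftAt (𝟙 (pullback f p)) (pullback.snd f p) η' :=
      DVRLiftAt.baseChange_id (IsPullback.of_hasPullback f p) η' (hex _ hη)
    exact exists_specializes_of_dvrLiftAt (pullback.snd f p) (𝟙 _) η' H' x₁' hη'x t' hsp
  exact { }

end Helpers

/-- Let S be a locally Noetherian scheme and f : X → S a morphism of finite type. Then f is proper if
and only if: for every generic point η of an irreducible component of X, every discrete valuation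
ring A contained in the residue field κ(η) with fraction field κ(η) (a valuation subring of κ(η)
which is a discrete valuation ring), and every morphism Spec A → S whose restriction to Spec κ(η) is
the canonical morphism Spec κ(η) → X followed by f, there is exactly one morphism Spec A → X over S
restricting to the canonical morphism on Spec κ(η). -/
theorem result {X S : Scheme.{u}} [IsLocallyNoetherian S] (f : X ⟶ S)
    [LocallyOfFiniteType f] [QuasiCompact f] :
    IsProper f ↔ ∀ (η : X), closure {η} ∈ irreducibleComponents (X : Type u) →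
      ∀ (A : ValuationSubring (X.residueField η)), IsDiscreteValuationRing A →
        ∀ y : Spec (CommRingCat.of A) ⟶ S,
          Spec.map (CommRingCat.ofHom A.subtype) ≫ y = X.fromSpecResidueField η ≫ f →
          ∃! l : Spec (CommRingCat.of A) ⟶ X,
            l ≫ f = y ∧ Spec.map (CommRingCat.ofHom A.subtype) ≫ l = X.fromSpecResidueField η := by
  constructor
  · intro hf η _ A _ y hy
    exact forward f η A y hy
  · exact backward f

end Groth.Agent.S9212
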