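import Groth.Statements.S9218
import Groth.Agent.Lib.Helper46.LimPullback
-- import your own Groth.Agent.* helpers here

set_option autoImplicit false
universe u
open CategoryTheory CategoryTheory.Limits AlgebraicGeometry
open Lim

namespace Groth.Agent.S9218

/-- Let S = lim S_i be a cofiltered limit of schemes with affine transition morphisms (the S_i are not
assumed quasi-compact or quasi-separated), i an index, and X_i → S_i, Y_i → S_i morphisms locally of
finite presentation with X_i, Y_i quasi-compact and quasi-separated; let X, Y be their base changes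
to S (pullback squares). Then every S-morphism f : X → Y comes from some stage: for some index j
over i there is an S_j-morphism f_j : X_i ×_{S_i} S_j → Y_i ×_{S_i} S_j whose base change to S is f,
in the sense that the canonical morphisms X → X_i ×_{S_i} S_j and Y → Y_i ×_{S_i} S_j intertwine f
and f_j. This is the fullness part of the equivalence between the colimit of the categories of
quasi-compact quasi-separated schemes locally of finite presentation over the S_i and the
corresponding category over S. -/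
theorem result {I : Type u} [SmallCategory I] [IsCofiltered I]
    (D : I ⥤ Scheme.{u}) (c : Limits.Cone D) (hc : Limits.IsLimit c)
    [∀ (i j : I) (f : i ⟶ j), IsAffineHom (D.map f)] (i : I)
    {Xi Yi : Scheme.{u}} (xi : Xi ⟶ D.obj i) (yi : Yi ⟶ D.obj i)
    [CompactSpace Xi] [QuasiSeparatedSpace Xi] [LocallyOfFinitePresentation xi]
    [CompactSpace Yi] [QuasiSeparatedSpace Yi] [LocallyOfFinitePresentation yi]
    {X Y : Scheme.{u}} (qX : X ⟶ Xi) (pX : X ⟶ c.pt) (hX : IsPullback qX pX xi (c.π.app i))
    (qY : Y ⟶ Yi) (pY : Y ⟶ c.pt) (hY : IsPullback qY pY yi (c.π.app i))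
    (f : X ⟶ Y) (hf : f ≫ pY = pX) :
    ∃ (j : I) (φ : j ⟶ i) (fj : pullback xi (D.map φ) ⟶ pullback yi (D.map φ))
      (sX : X ⟶ pullback xi (D.map φ)) (sY : Y ⟶ pullback yi (D.map φ)),
      fj ≫ pullback.snd yi (D.map φ) = pullback.snd xi (D.map φ) ∧
      sX ≫ pullback.fst xi (D.map φ) = qX ∧ sX ≫ pullback.snd xi (D.map φ) = pX ≫ c.π.app j ∧
      sY ≫ pullback.fst yi (D.map φ) = qY ∧ sY ≫ pullback.snd yi (D.map φ) = pY ≫ c.π.app j ∧
      sX ≫ fj = f ≫ sY := by
  have hlim := Groth.Agent.Lib.Helper46.pbConeIsLimit hX hc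
  have key : ∀ j : Over i, (Groth.Agent.Lib.Helper46.pbCone hX).π.app j ≫
      (pullback.fst xi (D.map j.hom) ≫ xi) = (f ≫ qY) ≫ yi := by
    intro j
    have e := Groth.Agent.Lib.Helper46.pbCone_π_fst hX j
    calc (Groth.Agent.Lib.Helper46.pbCone hX).π.app j ≫ (pullback.fst xi (D.map j.hom) ≫ xi)
        = ((Groth.Agent.Lib.Helper46.pbCone hX).π.app j ≫ pullback.fst xi (D.map j.hom)) ≫ xi :=
          (Category.assoc _ _ _).symm
      _ = qX ≫ xi := congrArg (· ≫ xi) e
      _ = pX ≫ c.π.app i := hX.w
      _ = (f ≫ pY) ≫ c.π.app i := by rw [hf]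
      _ = f ≫ (qY ≫ yi) := by rw [Category.assoc, hY.w]
      _ = (f ≫ qY) ≫ yi := (Category.assoc _ _ _).symm
  obtain ⟨k, g, hg1, hg2⟩ := Scheme.exists_π_app_comp_eq_of_locallyOfFinitePresentation
    (Groth.Agent.Lib.Helper46.pbDiagram D i xi) (Groth.Agent.Lib.Helper46.pbDiagramToBase D i xi) yi
    (Groth.Agent.Lib.Helper46.pbCone hX) hlim (f ≫ qY)
    (NatTrans.ext (funext fun j => key j))
  change pullback xi (D.map k.hom) ⟶ Yi at g
  have hg2' : g ≫ yi = pullback.fst xi (D.map k.hom) ≫ xi := hg2
  have hwX : qX ≫ xi = (pX ≫ c.π.app k.left) ≫ D.map k.hom := by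
    rw [hX.w, Category.assoc, c.w]
  have hwY : qY ≫ yi = (pY ≫ c.π.app k.left) ≫ D.map k.hom := by
    rw [hY.w, Category.assoc, c.w]
  have hg1' : pullback.lift qX (pX ≫ c.π.app k.left) hwX ≫ g = f ≫ qY := hg1
  refine ⟨k.left, k.hom,
    pullback.lift g (pullback.snd xi (D.map k.hom)) (hg2'.trans pullback.condition),
    pullback.lift qX (pX ≫ c.π.app k.left) hwX,
    pullback.lift qY (pY ≫ c.π.app k.left) hwY, ?_, ?_, ?_, ?_, ?_, ?_⟩
  · exact pullback.lift_snd _ _ _
  · exact pullback.lift_fst _ _ _
  · exact pullback.lift_snd _ _ _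
  · exact pullback.lift_fst _ _ _
  · exact pullback.lift_snd _ _ _
  · apply pullback.hom_ext
    · rw [Category.assoc, pullback.lift_fst, Category.assoc, pullback.lift_fst]
      exact hg1'
    · rw [Category.assoc, pullback.lift_snd, Category.assoc, pullback.lift_snd, pullback.lift_snd,
        reassoc_of% hf]

end Groth.Agent.S9218
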