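import Groth.Statements.S9219
import Groth.Agent.Lib.Helper46.LimPullback
-- import your own Groth.Agent.* helpers here

set_option autoImplicit false
universe u
open CategoryTheory CategoryTheory.Limits AlgebraicGeometry
open Lim

namespace Groth.Agent.S9219

/-- Let S = lim S_i be a cofiltered limit of schemes with affine transition morphisms (the S_i are not
assumed quasi-compact or quasi-separated), i an index, and X_i → S_i, Y_i → S_i morphisms locally of
finite presentation with X_i, Y_i quasi-compact and quasi-separated; let X be the base change of X_i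
to S (a pullback square). If two S_i-morphisms f_i, g_i : X_i → Y_i have the same base change to S
(equivalently, the same composite with X → X_i), then for some index j over i their base changes to
S_j agree, i.e. they have the same composite with X_i ×_{S_i} S_j → X_i. This is the faithfulness
part of the equivalence between the colimit of the categories of quasi-compact quasi-separated
schemes locally of finite presentation over the S_i and the corresponding category over S. -/
theorem result {I : Type u} [SmallCategory I] [IsCofiltered I]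
    (D : I ⥤ Scheme.{u}) (c : Limits.Cone D) (hc : Limits.IsLimit c)
    [∀ (i j : I) (f : i ⟶ j), IsAffineHom (D.map f)] (i : I)
    {Xi Yi : Scheme.{u}} (xi : Xi ⟶ D.obj i) (yi : Yi ⟶ D.obj i)
    [CompactSpace Xi] [QuasiSeparatedSpace Xi] [LocallyOfFinitePresentation xi]
    [CompactSpace Yi] [QuasiSeparatedSpace Yi] [LocallyOfFinitePresentation yi]
    {X : Scheme.{u}} (qX : X ⟶ Xi) (pX : X ⟶ c.pt) (hX : IsPullback qX pX xi (c.π.app i))
    (fi gi : Xi ⟶ Yi) (hfi : fi ≫ yi = xi) (hgi : gi ≫ yi = xi) (h : qX ≫ fi = qX ≫ gi) :
    ∃ (j : I) (φ : j ⟶ i), pullback.fst xi (D.map φ) ≫ fi = pullback.fst xi (D.map φ) ≫ gi := by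
  have hlim := Groth.Agent.Lib.Helper46.pbConeIsLimit hX hc
  obtain ⟨k, hik, hk⟩ := Scheme.exists_hom_comp_eq_comp_of_locallyOfFiniteType
    (Groth.Agent.Lib.Helper46.pbDiagram D i xi) (Groth.Agent.Lib.Helper46.pbDiagramToBase D i xi) yi
    (Groth.Agent.Lib.Helper46.pbCone hX) hlim (i := Over.mk (𝟙 i))
    (pullback.fst xi (D.map (𝟙 i)) ≫ fi) (pullback.fst xi (D.map (𝟙 i)) ≫ gi)
    (by simp [Groth.Agent.Lib.Helper46.pbDiagramToBase, hfi])
    (by simp [Groth.Agent.Lib.Helper46.pbDiagramToBase, hgi])
    (by
      have e := Groth.Agent.Lib.Helper46.pbCone_π_fst hX (Over.mk (𝟙 i))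
      simp only [Over.mk_hom] at e
      rw [reassoc_of% e, reassoc_of% e]
      exact h)
  refine ⟨k.left, k.hom, ?_⟩
  have e := Groth.Agent.Lib.Helper46.pbDiagram_map_fst D i xi hik
  simp only [Over.mk_hom] at e
  rw [reassoc_of% e, reassoc_of% e] at hk
  exact hk

end Groth.Agent.S9219
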