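import Groth.Statements.S9224
-- import your own Groth.Agent.* helpers here
import Mathlib

set_option autoImplicit false
universe u
open CategoryTheory CategoryTheory.Limits AlgebraicGeometry
open Lim

namespace Groth.Agent.S9224

open CategoryTheory CategoryTheory.Limits AlgebraicGeometry TopologicalSpace

open TensorProduct

theorem exists_lift_tensor {R A C : Type u} [CommRing R] [CommRing A] [CommRing C] [Algebra R A]
    [Algebra R C] [DecidableEq A] (h : C ⊗[R] A) :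
    ∃ s₀ : Finset A, ∀ s : Finset A, s₀ ⊆ s → ∃ h' : C ⊗[R] MvPolynomial s R,
      Algebra.TensorProduct.map (AlgHom.id R C)
        (MvPolynomial.aeval (R := R) (fun a : s => (a : A))) h' = h := by
  induction h using TensorProduct.induction_on with
  | zero => exact ⟨∅, fun s _ => ⟨0, map_zero _⟩⟩
  | tmul c a =>
    refine ⟨{a}, fun s hs => ⟨c ⊗ₜ MvPolynomial.X ⟨a, hs (Finset.mem_singleton_self a)⟩, ?_⟩⟩
    rw [Algebra.TensorProduct.map_tmul, MvPolynomial.aeval_X]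
    rfl
  | add x y hx hy =>
    obtain ⟨s₁, h₁⟩ := hx
    obtain ⟨s₂, h₂⟩ := hy
    refine ⟨s₁ ∪ s₂, fun s hs => ?_⟩
    obtain ⟨x', hx'⟩ := h₁ s (Finset.union_subset_left hs)
    obtain ⟨y', hy'⟩ := h₂ s (Finset.union_subset_right hs)
    exact ⟨x' + y', by rw [map_add, hx', hy']⟩

theorem exists_lift_family {R A : Type u} [CommRing R] [CommRing A] [Algebra R A] [DecidableEq A]
    {ι : Type u} [Finite ι] (C : ι → Type u) [∀ i, CommRing (C i)] [∀ i, Algebra R (C i)]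
    (H : ∀ i, Finset (C i ⊗[R] A)) :
    ∃ s : Finset A, ∀ i, ∀ h ∈ H i, ∃ h' : C i ⊗[R] MvPolynomial s R,
      Algebra.TensorProduct.map (AlgHom.id R (C i))
        (MvPolynomial.aeval (R := R) (fun a : s => (a : A))) h' = h := by
  classical
  haveI := Fintype.ofFinite ι
  choose s₀ hs₀ using fun (i : ι) (h : C i ⊗[R] A) => exists_lift_tensor (R := R) h
  refine ⟨Finset.univ.biUnion (fun i => (H i).biUnion (s₀ i)), fun i h hh => ?_⟩
  apply hs₀ i h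
  intro a ha
  rw [Finset.mem_biUnion]
  exact ⟨i, Finset.mem_univ i, Finset.mem_biUnion.2 ⟨h, hh, ha⟩⟩

/-- finitely many basic opens inside `W` covering the fibre over `p` -/
theorem exists_basicOpen_cover {R A C : Type u} [CommRing R] [CommRing A] [CommRing C] [Algebra R A]
    [Algebra R C] (p : PrimeSpectrum A) (W : Set (PrimeSpectrum (C ⊗[R] A))) (hW : IsOpen W)
    (hpW : ∀ y : PrimeSpectrum (C ⊗[R] A),
      y.comap (Algebra.TensorProduct.includeRight (R := R) (A := C) (B := A)).toRingHom = p → y ∈ W) :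
    ∃ H : Finset (C ⊗[R] A), (∀ h ∈ H, (PrimeSpectrum.basicOpen h : Set _) ⊆ W) ∧
      ∀ y : PrimeSpectrum (C ⊗[R] A),
        y.comap (Algebra.TensorProduct.includeRight (R := R) (A := C) (B := A)).toRingHom = p →
        ∃ h ∈ H, y ∈ PrimeSpectrum.basicOpen h := by
  classical
  letI : Algebra A (C ⊗[R] A) := Algebra.TensorProduct.rightAlgebra
  have halg : algebraMap A (C ⊗[R] A) =
      (Algebra.TensorProduct.includeRight (R := R) (A := C) (B := A)).toRingHom := rfl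
  let F : Set (PrimeSpectrum (C ⊗[R] A)) := PrimeSpectrum.comap (algebraMap A (C ⊗[R] A)) ⁻¹' {p}
  have hF : IsCompact F := by
    rw [isCompact_iff_compactSpace]
    exact (PrimeSpectrum.preimageHomeomorphFiber A (C ⊗[R] A) p).symm.compactSpace
  have hFW : ∀ y ∈ F, ∃ h : C ⊗[R] A, y ∈ PrimeSpectrum.basicOpen h ∧
      (PrimeSpectrum.basicOpen h : Set _) ⊆ W := by
    intro y hy
    have hyW : y ∈ W := hpW y (by rw [← halg]; exact hy)
    obtain ⟨_, ⟨h, rfl⟩, hyh, hhW⟩ :=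
      PrimeSpectrum.isTopologicalBasis_basic_opens.exists_subset_of_mem_open hyW hW
    exact ⟨h, hyh, hhW⟩
  choose! hh hh1 hh2 using hFW
  obtain ⟨t, htsub, ht, htF⟩ := hF.elim_finite_subcover_image (b := F)
    (c := fun y => (PrimeSpectrum.basicOpen (hh y) : Set _))
    (fun y _ => (PrimeSpectrum.basicOpen (hh y)).isOpen)
    (fun y hy => Set.mem_iUnion₂.2 ⟨y, hy, hh1 y hy⟩)
  refine ⟨ht.toFinset.image hh, ?_, ?_⟩
  · intro h hmem
    obtain ⟨y, hy, rfl⟩ := Finset.mem_image.1 hmem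
    exact hh2 y (htsub (ht.mem_toFinset.1 hy))
  · intro y hy
    have hyF : y ∈ F := by
      show PrimeSpectrum.comap (algebraMap A (C ⊗[R] A)) y = p
      rw [halg]; exact hy
    obtain ⟨y', hy't, hy'⟩ := Set.mem_iUnion₂.1 (htF hyF)
    exact ⟨hh y', Finset.mem_image.2 ⟨y', ht.mem_toFinset.2 hy't, rfl⟩, hy'⟩


theorem exists_of_isPullback {P X Y S : Scheme.{u}} {p₁ : P ⟶ X} {p₂ : P ⟶ Y} {f : X ⟶ S}
    {g : Y ⟶ S} (h : IsPullback p₁ p₂ f g) (x : X) (y : Y) (hxy : f x = g y) :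
    ∃ z : P, p₁ z = x ∧ p₂ z = y := by
  obtain ⟨z, hz1, hz2⟩ := Scheme.Pullback.exists_preimage_pullback x y hxy
  refine ⟨h.isoPullback.inv z, ?_, ?_⟩
  · rw [← Scheme.Hom.comp_apply, h.isoPullback_inv_fst, hz1]
  · rw [← Scheme.Hom.comp_apply, h.isoPullback_inv_snd, hz2]

set_option maxHeartbeats 1000000 in
theorem piece {X S T 𝒱 : Scheme.{u}} (f : X ⟶ S) (g : T ⟶ S) (j : 𝒱 ⟶ T)
    {R A C : Type u} [CommRing R] [CommRing A] [CommRing C] [Algebra R A] [Algebra R C]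
    (σ : Spec (.of R) ⟶ S) [Mono σ]
    (c : Spec (.of C) ⟶ X) [IsOpenImmersion c]
    (hc : c ≫ f = Spec.map (CommRingCat.ofHom (algebraMap R C)) ≫ σ)
    (eV : 𝒱 ≅ Spec (.of A))
    (hV : eV.inv ≫ j ≫ g = Spec.map (CommRingCat.ofHom (algebraMap R A)) ≫ σ)
    (p : Spec (.of A)) (W : Set ↥(pullback f (j ≫ g))) (hW : IsOpen W)
    (hpW : ∀ z : ↥(pullback f (j ≫ g)), eV.hom (pullback.snd f (j ≫ g) z) = p → z ∈ W) :
    ∃ H : Finset (C ⊗[R] A), ∀ (A' : Type u) [CommRing A'] [Algebra R A'] (φ : A' →ₐ[R] A)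
      (H' : C ⊗[R] A → C ⊗[R] A')
      (_ : ∀ h ∈ H, Algebra.TensorProduct.map (AlgHom.id R C) φ (H' h) = h)
      (b : Spec (.of A') ⟶ S) (_ : b = Spec.map (CommRingCat.ofHom (algebraMap R A')) ≫ σ)
      (a : 𝒱 ⟶ Spec (.of A')) (_ : a = eV.hom ≫ Spec.map (CommRingCat.ofHom φ.toRingHom))
      (m : pullback f (j ≫ g) ⟶ pullback f b)
      (_ : m ≫ pullback.fst f b = pullback.fst f (j ≫ g))
      (_ : m ≫ pullback.snd f b = pullback.snd f (j ≫ g) ≫ a),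
      ∃ W' : Set ↥(pullback f b), IsOpen W' ∧
        (∀ z' : ↥(pullback f b), pullback.fst f b z' ∈ Set.range c →
          pullback.snd f b z' = Spec.map (CommRingCat.ofHom φ.toRingHom) p → z' ∈ W') ∧
        ∀ z : ↥(pullback f (j ≫ g)), m z ∈ W' → z ∈ W := by
  obtain ⟨ρC, hρC⟩ : ∃ ρC : Spec (.of C) ⟶ Spec (.of R),
      ρC = Spec.map (CommRingCat.ofHom (algebraMap R C)) := ⟨_, rfl⟩
  obtain ⟨ρA, hρA⟩ : ∃ ρA : Spec (.of A) ⟶ Spec (.of R),
      ρA = Spec.map (CommRingCat.ofHom (algebraMap R A)) := ⟨_, rfl⟩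
  rw [← hρC] at hc
  rw [← hρA] at hV
  obtain ⟨ν, hν⟩ : ∃ ν : pullback ρC ρA ⟶ pullback f (j ≫ g),
      ν = pullback.map ρC ρA f (j ≫ g) c eV.inv σ hc.symm hV.symm := ⟨_, rfl⟩
  have hν1 : ν ≫ pullback.fst f (j ≫ g) = pullback.fst ρC ρA ≫ c := by
    rw [hν]; exact pullback.lift_fst _ _ _
  have hν2 : ν ≫ pullback.snd f (j ≫ g) = pullback.snd ρC ρA ≫ eV.inv := by
    rw [hν]; exact pullback.lift_snd _ _ _
  have hνrange : Set.range ν = pullback.fst f (j ≫ g) ⁻¹' Set.range c ∩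
      pullback.snd f (j ≫ g) ⁻¹' Set.range eV.inv := by
    rw [hν]; exact Scheme.Pullback.range_map _ _ _ _ _ _ _ _ _
  obtain ⟨e, he⟩ : ∃ e : pullback ρC ρA ≅ Spec (.of (C ⊗[R] A)),
      e = hρC ▸ hρA ▸ pullbackSpecIso R C A := ⟨_, rfl⟩
  have he1 : e.hom ≫ Spec.map (CommRingCat.ofHom
      (Algebra.TensorProduct.includeLeftRingHom (R := R) (A := C) (B := A))) =
      pullback.fst ρC ρA := by
    subst hρC hρA
    rw [he]; exact pullbackSpecIso_hom_fst R C A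
  have he2 : e.hom ≫ Spec.map (CommRingCat.ofHom
      (Algebra.TensorProduct.includeRight (R := R) (A := C) (B := A)).toRingHom) =
      pullback.snd ρC ρA := by
    subst hρC hρA
    rw [he]; exact pullbackSpecIso_hom_snd R C A
  -- the open subset of `Spec (C ⊗ A)`
  have hWo : IsOpen ((e.inv ≫ ν) ⁻¹' W) := hW.preimage (e.inv ≫ ν).continuous
  have hkey : (e.inv ≫ ν) ≫ pullback.snd f (j ≫ g) ≫ eV.hom = Spec.map (CommRingCat.ofHom
      (Algebra.TensorProduct.includeRight (R := R) (A := C) (B := A)).toRingHom) := by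
    rw [Category.assoc, ← Category.assoc ν, hν2, Category.assoc, eV.inv_hom_id, Category.comp_id,
      ← he2, Iso.inv_hom_id_assoc]
  have hpWo : ∀ y : ↥(Spec (.of (C ⊗[R] A))), Spec.map (CommRingCat.ofHom
      (Algebra.TensorProduct.includeRight (R := R) (A := C) (B := A)).toRingHom) y = p →
      y ∈ (e.inv ≫ ν) ⁻¹' W := by
    intro y hy
    apply hpW
    have := congr($hkey y)
    simp only [Scheme.Hom.comp_apply] at this
    rw [Scheme.Hom.comp_apply, this]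
    exact hy
  obtain ⟨H, hH1, hH2⟩ := exists_basicOpen_cover (R := R) (A := A) (C := C) p _ hWo
    (fun y hy => hpWo y hy)
  refine ⟨H, ?_⟩
  intro A' _ _ φ H' hH' b hb a ha m hm1 hm2
  obtain ⟨ρA', hρA'⟩ : ∃ ρA' : Spec (.of A') ⟶ Spec (.of R),
      ρA' = Spec.map (CommRingCat.ofHom (algebraMap R A')) := ⟨_, rfl⟩
  rw [← hρA'] at hb
  obtain ⟨Φ, hΦ⟩ : ∃ Φ : Spec (.of A) ⟶ Spec (.of A'),
      Φ = Spec.map (CommRingCat.ofHom φ.toRingHom) := ⟨_, rfl⟩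
  rw [← hΦ] at ha ⊢
  have hΦρ : Φ ≫ ρA' = ρA := by
    rw [hΦ, hρA', hρA, ← Spec.map_comp, ← CommRingCat.ofHom_comp]
    congr 2
    exact φ.comp_algebraMap
  obtain ⟨ν', hν'⟩ : ∃ ν' : pullback ρC ρA' ⟶ pullback f b,
      ν' = pullback.map ρC ρA' f b c (𝟙 _) σ hc.symm (by rw [hb, Category.id_comp]) := ⟨_, rfl⟩
  have hν'1 : ν' ≫ pullback.fst f b = pullback.fst ρC ρA' ≫ c := by
    rw [hν']; exact pullback.lift_fst _ _ _
  have hν'2 : ν' ≫ pullback.snd f b = pullback.snd ρC ρA' := by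
    rw [hν']; exact (pullback.lift_snd _ _ _).trans (Category.comp_id _)
  have hν'range : Set.range ν' = pullback.fst f b ⁻¹' Set.range c ∩
      pullback.snd f b ⁻¹' Set.range (𝟙 (Spec (.of A'))) := by
    rw [hν']; exact Scheme.Pullback.range_map _ _ _ _ _ _ _ _ _
  haveI : IsOpenImmersion ν' := by rw [hν']; infer_instance
  obtain ⟨μ, hμ⟩ : ∃ μ : pullback ρC ρA ⟶ pullback ρC ρA',
      μ = pullback.map ρC ρA ρC ρA' (𝟙 _) Φ (𝟙 _) (by simp) (by rw [Category.comp_id, hΦρ]) :=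
    ⟨_, rfl⟩
  have hμ1 : μ ≫ pullback.fst ρC ρA' = pullback.fst ρC ρA := by
    rw [hμ]; exact (pullback.lift_fst _ _ _).trans (Category.comp_id _)
  have hμ2 : μ ≫ pullback.snd ρC ρA' = pullback.snd ρC ρA ≫ Φ := by
    rw [hμ]; exact pullback.lift_snd _ _ _
  have hpb : IsPullback μ (pullback.snd ρC ρA) (pullback.snd ρC ρA') Φ := by
    refine IsPullback.of_right (h₁₂ := pullback.fst ρC ρA') (h₂₂ := ρA') (v₁₃ := ρC) ?_ hμ2
      (IsPullback.of_hasPullback ρC ρA')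
    rw [hμ1, hΦρ]
    exact IsPullback.of_hasPullback ρC ρA
  have hF1 : ν ≫ m = μ ≫ ν' := by
    apply pullback.hom_ext
    · rw [Category.assoc, hm1, hν1, Category.assoc, hν'1, ← Category.assoc, hμ1]
    · rw [Category.assoc, hm2, ← Category.assoc, hν2, Category.assoc, Category.assoc, hν'2, hμ2,
        ha, Iso.inv_hom_id_assoc]
  obtain ⟨e', he'⟩ : ∃ e' : pullback ρC ρA' ≅ Spec (.of (C ⊗[R] A')),
      e' = hρC ▸ hρA' ▸ pullbackSpecIso R C A' := ⟨_, rfl⟩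
  have he'1 : e'.inv ≫ pullback.fst ρC ρA' = Spec.map (CommRingCat.ofHom
      (Algebra.TensorProduct.includeLeftRingHom (R := R) (A := C) (B := A'))) := by
    subst hρC hρA'
    rw [he']; exact pullbackSpecIso_inv_fst R C A'
  have he'2 : e'.inv ≫ pullback.snd ρC ρA' = Spec.map (CommRingCat.ofHom
      (Algebra.TensorProduct.includeRight (R := R) (A := C) (B := A')).toRingHom) := by
    subst hρC hρA'
    rw [he']; exact pullbackSpecIso_inv_snd R C A'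
  obtain ⟨Ψ, hΨ⟩ : ∃ Ψ : Spec (.of (C ⊗[R] A)) ⟶ Spec (.of (C ⊗[R] A')),
      Ψ = Spec.map (CommRingCat.ofHom
        (Algebra.TensorProduct.map (AlgHom.id R C) φ).toRingHom) := ⟨_, rfl⟩
  have hF5 : e.hom ≫ Ψ = μ ≫ e'.hom := by
    rw [← cancel_mono e'.inv, Category.assoc, Category.assoc, e'.hom_inv_id, Category.comp_id]
    apply pullback.hom_ext
    · rw [Category.assoc, Category.assoc, he'1, hμ1, ← he1, hΨ, ← Spec.map_comp,
        ← CommRingCat.ofHom_comp]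
      congr 3
      ext x
      simp
    · rw [Category.assoc, Category.assoc, he'2, hμ2, ← he2, hΨ, ← Spec.map_comp,
        ← CommRingCat.ofHom_comp, Category.assoc, hΦ, ← Spec.map_comp, ← CommRingCat.ofHom_comp]
      congr 3
  -- basic opens correspond
  have hbasic : ∀ h ∈ H, ∀ ŷ : ↥(Spec (.of (C ⊗[R] A))),
      (H' h ∉ (Ψ ŷ).asIdeal) ↔ h ∉ ŷ.asIdeal := by
    intro h hh ŷ
    have h1 := hH' h hh
    rw [hΨ]
    show (H' h) ∉ (PrimeSpectrum.comap _ ŷ).asIdeal ↔ h ∉ ŷ.asIdeal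
    rw [PrimeSpectrum.comap_asIdeal, Ideal.mem_comap]
    conv_rhs => rw [← h1]
    exact Iff.rfl
  refine ⟨ν' '' (e'.hom ⁻¹' (⋃ h ∈ H, {x : ↥(Spec (.of (C ⊗[R] A'))) | H' h ∉ x.asIdeal})),
    ?_, ?_, ?_⟩
  · apply ν'.isOpenEmbedding.isOpenMap
    apply IsOpen.preimage e'.hom.continuous
    exact isOpen_biUnion (fun h _ => (PrimeSpectrum.basicOpen (H' h)).isOpen)
  · intro z' hz'1 hz'2
    have hz'r : z' ∈ Set.range ν' := by
      rw [hν'range]
      exact ⟨hz'1, ⟨pullback.snd f b z', rfl⟩⟩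
    obtain ⟨w', rfl⟩ := hz'r
    have hw' : pullback.snd ρC ρA' w' = Φ p := by
      rw [← hz'2, ← Scheme.Hom.comp_apply, hν'2]
    obtain ⟨y, hy1, hy2⟩ := exists_of_isPullback hpb w' p hw'
    have hŷ : PrimeSpectrum.comap
        (Algebra.TensorProduct.includeRight (R := R) (A := C) (B := A)).toRingHom (e.hom y) = p := by
      have := congr($he2 y)
      rw [Scheme.Hom.comp_apply] at this
      rw [← hy2, ← this]
      rfl
    obtain ⟨h, hh, hyh⟩ := hH2 _ hŷ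
    refine ⟨w', ?_, rfl⟩
    rw [Set.mem_preimage, ← hy1, ← Scheme.Hom.comp_apply, ← hF5, Scheme.Hom.comp_apply]
    exact Set.mem_iUnion₂.2 ⟨h, hh, (hbasic h hh _).2 hyh⟩
  · intro z hz
    obtain ⟨w', hw', hw'z⟩ := hz
    obtain ⟨h, hh, hw'h⟩ := Set.mem_iUnion₂.1 hw'
    have hzr : z ∈ Set.range ν := by
      rw [hνrange]
      refine ⟨?_, ?_⟩
      · show pullback.fst f (j ≫ g) z ∈ Set.range c
        rw [← hm1, Scheme.Hom.comp_apply, ← hw'z, ← Scheme.Hom.comp_apply, hν'1,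
          Scheme.Hom.comp_apply]
        exact ⟨_, rfl⟩
      · refine ⟨eV.hom (pullback.snd f (j ≫ g) z), ?_⟩
        rw [← Scheme.Hom.comp_apply, eV.hom_inv_id]
        rfl
    obtain ⟨y, rfl⟩ := hzr
    have hμy : μ y = w' := by
      apply ν'.isOpenEmbedding.injective
      rw [hw'z, ← Scheme.Hom.comp_apply, ← hF1, Scheme.Hom.comp_apply]
    have h2 : H' h ∉ (Ψ (e.hom y)).asIdeal := by
      rw [← Scheme.Hom.comp_apply, hF5, Scheme.Hom.comp_apply, hμy]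
      exact hw'h
    have h3 := hH1 h hh ((hbasic h hh _).1 h2)
    have h4 : (e.inv ≫ ν) (e.hom y) = ν y := by
      rw [← Scheme.Hom.comp_apply, Iso.hom_inv_id_assoc]
    rw [← h4]
    exact h3

set_option maxHeartbeats 1600000 in
theorem main {X S T : Scheme.{u}} (f : X ⟶ S) [QuasiCompact f] (g : T ⟶ S) (t : T)
    (Z : Set ↥(pullback f g)) (hZ : IsClosed Z) (hZt : ∀ z ∈ Z, (pullback.snd f g).base z ≠ t) :
    ∃ (V : T.Opens) (ht : t ∈ V) (T' : Scheme.{u}) (b : T' ⟶ S) (a : (V : Scheme.{u}) ⟶ T')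
      (n : pullback f (V.ι ≫ g) ⟶ pullback f g) (m : pullback f (V.ι ≫ g) ⟶ pullback f b)
      (Z' : Set ↥(pullback f b)),
      IsAffineOpen V ∧ IsAffine T' ∧ LocallyOfFinitePresentation b ∧ a ≫ b = V.ι ≫ g ∧
      n ≫ pullback.fst f g = pullback.fst f (V.ι ≫ g) ∧ n ≫ pullback.snd f g = pullback.snd f (V.ι ≫ g) ≫ V.ι ∧
      m ≫ pullback.fst f b = pullback.fst f (V.ι ≫ g) ∧ m ≫ pullback.snd f b = pullback.snd f (V.ι ≫ g) ≫ a ∧
      IsClosed Z' ∧ (∀ z' ∈ Z', (pullback.snd f b).base z' ≠ a.base ⟨t, ht⟩) ∧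
      ∀ z : ↥(pullback f (V.ι ≫ g)), n.base z ∈ Z → m.base z ∈ Z' := by
  classical
  obtain ⟨_, ⟨S₀, hS₀, rfl⟩, hgtS₀, -⟩ :=
    S.isBasis_affineOpens.exists_subset_of_mem_open (Set.mem_univ (g t)) isOpen_univ
  obtain ⟨S₀, rfl⟩ : ∃ S₀' : S.Opens, S₀' = S₀ := ⟨S₀, rfl⟩
  obtain ⟨_, ⟨V, hV, rfl⟩, htV, hVS'⟩ :=
    T.isBasis_affineOpens.exists_subset_of_mem_open (show t ∈ (g ⁻¹ᵁ S₀ : Set T) from hgtS₀)
      (g ⁻¹ᵁ S₀).isOpen
  obtain ⟨V, rfl⟩ : ∃ V' : T.Opens, V' = V := ⟨V, rfl⟩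
  have hVS : V ≤ g ⁻¹ᵁ S₀ := hVS'
  have hcomp : IsCompact (f ⁻¹ᵁ S₀ : Set X) := f.isCompact_preimage hS₀.isCompact
  obtain ⟨𝒰, h𝒰fin, h𝒰eq⟩ :=
    isCompact_and_isOpen_iff_finite_and_eq_biUnion_affineOpens.1 ⟨hcomp, (f ⁻¹ᵁ S₀).isOpen⟩
  haveI : Finite 𝒰 := h𝒰fin
  have hUS : ∀ i : 𝒰, (i.1 : X.Opens) ≤ f ⁻¹ᵁ S₀ := by
    intro i x hx
    have : x ∈ (f ⁻¹ᵁ S₀ : Set X) := by
      rw [h𝒰eq]
      exact Set.mem_iUnion₂.2 ⟨i.1, i.2, hx⟩
    exact this
  letI algA : Algebra Γ(S, S₀) Γ(T, V) := (g.appLE S₀ V hVS).hom.toAlgebra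
  letI algC : ∀ i : 𝒰, Algebra Γ(S, S₀) Γ(X, (i.1 : X.Opens)) :=
    fun i => (f.appLE S₀ i.1 (hUS i)).hom.toAlgebra
  obtain ⟨σ, hσ⟩ : ∃ σ : Spec (.of Γ(S, S₀)) ⟶ S, σ = hS₀.fromSpec := ⟨_, rfl⟩
  haveI : IsOpenImmersion σ := hσ ▸ inferInstance
  obtain ⟨c, hc⟩ : ∃ c : ∀ i : 𝒰, Spec (.of Γ(X, (i.1 : X.Opens))) ⟶ X,
      ∀ i, c i = i.1.2.fromSpec := ⟨fun i => i.1.2.fromSpec, fun _ => rfl⟩
  haveI : ∀ i, IsOpenImmersion (c i) := fun i => (hc i) ▸ inferInstance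
  have hcf : ∀ i : 𝒰, c i ≫ f =
      Spec.map (CommRingCat.ofHom (algebraMap Γ(S, S₀) Γ(X, (i.1 : X.Opens)))) ≫ σ := by
    intro i
    rw [hc, hσ]
    exact (hS₀.SpecMap_appLE_fromSpec f i.1.2 (hUS i)).symm
  obtain ⟨eV, heV⟩ : ∃ eV : (V : Scheme.{u}) ≅ Spec (.of Γ(T, V)), eV = hV.isoSpec := ⟨_, rfl⟩
  have hVg : eV.inv ≫ V.ι ≫ g =
      Spec.map (CommRingCat.ofHom (algebraMap Γ(S, S₀) Γ(T, V))) ≫ σ := by
    rw [heV, hσ, ← Category.assoc, hV.isoSpec_inv_ι]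
    exact (hS₀.SpecMap_appLE_fromSpec g hV hVS).symm
  obtain ⟨n, hn⟩ : ∃ n : pullback f (V.ι ≫ g) ⟶ pullback f g,
      n = pullback.map f (V.ι ≫ g) f g (𝟙 X) V.ι (𝟙 S) (by simp) (by simp) := ⟨_, rfl⟩
  have hn1 : n ≫ pullback.fst f g = pullback.fst f (V.ι ≫ g) := by
    rw [hn]; exact (pullback.lift_fst _ _ _).trans (Category.comp_id _)
  have hn2 : n ≫ pullback.snd f g = pullback.snd f (V.ι ≫ g) ≫ V.ι := by
    rw [hn]; exact pullback.lift_snd _ _ _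
  obtain ⟨p, hp⟩ : ∃ p : ↥(Spec (.of Γ(T, V))), p = eV.hom ⟨t, htV⟩ := ⟨_, rfl⟩
  have hWopen : IsOpen (n ⁻¹' Z)ᶜ := (hZ.preimage n.continuous).isOpen_compl
  have hpW : ∀ z : ↥(pullback f (V.ι ≫ g)), eV.hom (pullback.snd f (V.ι ≫ g) z) = p →
      z ∈ (n ⁻¹' Z)ᶜ := by
    intro z hz hzZ
    have h1 : pullback.snd f (V.ι ≫ g) z = ⟨t, htV⟩ :=
      eV.hom.isOpenEmbedding.injective (hz.trans hp)
    apply hZt (n z) hzZ
    have h2 := congr($hn2 z)
    rw [Scheme.Hom.comp_apply, Scheme.Hom.comp_apply, h1] at h2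
    exact h2
  choose H hH using fun i : 𝒰 => piece f g V.ι σ (c i) (hcf i) eV hVg p _ hWopen hpW
  obtain ⟨s, hs⟩ := exists_lift_family (R := Γ(S, S₀)) (A := Γ(T, V)) (ι := 𝒰)
    (fun i => Γ(X, (i.1 : X.Opens))) H
  obtain ⟨φ, hφ⟩ : ∃ φ : MvPolynomial s Γ(S, S₀) →ₐ[Γ(S, S₀)] Γ(T, V),
      φ = MvPolynomial.aeval (R := Γ(S, S₀)) (fun a : s => (a : Γ(T, V))) := ⟨_, rfl⟩
  rw [← hφ] at hs
  choose! H' hH' using hs
  obtain ⟨b, hb⟩ : ∃ b : Spec (.of (MvPolynomial s Γ(S, S₀))) ⟶ S,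
      b = Spec.map (CommRingCat.ofHom (algebraMap Γ(S, S₀) (MvPolynomial s Γ(S, S₀)))) ≫ σ :=
    ⟨_, rfl⟩
  obtain ⟨a, ha⟩ : ∃ a : (V : Scheme.{u}) ⟶ Spec (.of (MvPolynomial s Γ(S, S₀))),
      a = eV.hom ≫ Spec.map (CommRingCat.ofHom φ.toRingHom) := ⟨_, rfl⟩
  have hab : a ≫ b = V.ι ≫ g := by
    rw [ha, hb, Category.assoc, ← Category.assoc (Spec.map _), ← Spec.map_comp,
      ← CommRingCat.ofHom_comp]
    have h1 : φ.toRingHom.comp (algebraMap Γ(S, S₀) (MvPolynomial s Γ(S, S₀))) =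
        algebraMap Γ(S, S₀) Γ(T, V) := φ.comp_algebraMap
    rw [h1, ← hVg, Iso.hom_inv_id_assoc]
  obtain ⟨m, hm⟩ : ∃ m : pullback f (V.ι ≫ g) ⟶ pullback f b,
      m = pullback.map f (V.ι ≫ g) f b (𝟙 X) a (𝟙 S) (by simp)
        (by rw [Category.comp_id, hab]) := ⟨_, rfl⟩
  have hm1 : m ≫ pullback.fst f b = pullback.fst f (V.ι ≫ g) := by
    rw [hm]; exact (pullback.lift_fst _ _ _).trans (Category.comp_id _)
  have hm2 : m ≫ pullback.snd f b = pullback.snd f (V.ι ≫ g) ≫ a := by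
    rw [hm]; exact pullback.lift_snd _ _ _
  choose W' hW'open hW'1 hW'2 using fun i : 𝒰 =>
    hH i (MvPolynomial s Γ(S, S₀)) φ (H' i) (hH' i) b hb a ha m hm1 hm2
  refine ⟨V, htV, Spec (.of (MvPolynomial s Γ(S, S₀))), b, a, n, m, (⋃ i, W' i)ᶜ, hV,
    inferInstance, ?_, hab, hn1, hn2, hm1, hm2, (isOpen_iUnion hW'open).isClosed_compl, ?_, ?_⟩
  · rw [hb]
    haveI : LocallyOfFinitePresentation (Spec.map (CommRingCat.ofHom
        (algebraMap Γ(S, S₀) (MvPolynomial s Γ(S, S₀))))) := by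
      rw [HasRingHomProperty.Spec_iff (P := @LocallyOfFinitePresentation)]
      exact RingHom.finitePresentation_algebraMap.2 inferInstance
    infer_instance
  · intro z' hz' heq
    apply hz'
    have h1 : f (pullback.fst f b z') ∈ (S₀ : Set S) := by
      have hcond := congr($(pullback.condition (f := f) (g := b)) z')
      rw [Scheme.Hom.comp_apply, Scheme.Hom.comp_apply] at hcond
      have hb' := congr($hb (pullback.snd f b z'))
      rw [Scheme.Hom.comp_apply] at hb'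
      rw [hcond, hb', ← hS₀.range_fromSpec, ← hσ]
      exact ⟨_, rfl⟩
    have h2 : pullback.fst f b z' ∈ (f ⁻¹ᵁ S₀ : Set X) := h1
    rw [h𝒰eq] at h2
    obtain ⟨U, hU𝒰, hzU⟩ := Set.mem_iUnion₂.1 h2
    refine Set.mem_iUnion.2 ⟨⟨U, hU𝒰⟩, hW'1 ⟨U, hU𝒰⟩ z' ?_ ?_⟩
    · rw [hc, U.2.range_fromSpec]
      exact hzU
    · have h3 : (pullback.snd f b) z' = a ⟨t, htV⟩ := heq
      rw [h3, ha, Scheme.Hom.comp_apply, hp]
  · intro z hz hmz
    obtain ⟨i, hi⟩ := Set.mem_iUnion.1 hmz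
    exact hW'2 i z hi hz

/-- Let f : X → S be a quasi-compact morphism, g : T → S a morphism, t a point of T and Z a closed
subset of X_T = X ×_S T which does not meet the fibre of X_T → T over t. Then there exist an affine
open neighbourhood V of t in T, an affine scheme T' with a morphism b : T' → S locally of finite
presentation, a morphism a : V → T' whose composite with b is the restriction of g, and a closed
subset Z' of X_{T'} = X ×_S T' which does not meet the fibre over t' = a(t), such that the induced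
morphism X_V → X_{T'} maps every point of X_V lying over Z (under X_V → X_T) into Z'. The morphisms
X_V → X_T and X_V → X_{T'} are the canonical ones, characterised by their projections. -/
theorem result {X S T : Scheme.{u}} (f : X ⟶ S) [QuasiCompact f] (g : T ⟶ S) (t : T)
    (Z : Set ↥(pullback f g)) (hZ : IsClosed Z) (hZt : ∀ z ∈ Z, (pullback.snd f g).base z ≠ t) :
    ∃ (V : T.Opens) (ht : t ∈ V) (T' : Scheme.{u}) (b : T' ⟶ S) (a : (V : Scheme.{u}) ⟶ T')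
      (n : pullback f (V.ι ≫ g) ⟶ pullback f g) (m : pullback f (V.ι ≫ g) ⟶ pullback f b)
      (Z' : Set ↥(pullback f b)),
      IsAffineOpen V ∧ IsAffine T' ∧ LocallyOfFinitePresentation b ∧ a ≫ b = V.ι ≫ g ∧
      n ≫ pullback.fst f g = pullback.fst f (V.ι ≫ g) ∧ n ≫ pullback.snd f g = pullback.snd f (V.ι ≫ g) ≫ V.ι ∧
      m ≫ pullback.fst f b = pullback.fst f (V.ι ≫ g) ∧ m ≫ pullback.snd f b = pullback.snd f (V.ι ≫ g) ≫ a ∧
      IsClosed Z' ∧ (∀ z' ∈ Z', (pullback.snd f b).base z' ≠ a.base ⟨t, ht⟩) ∧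
      ∀ z : ↥(pullback f (V.ι ≫ g)), n.base z ∈ Z → m.base z ∈ Z' := by
  exact main f g t Z hZ hZt

end Groth.Agent.S9224
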