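import Groth.Statements.S9227
import Groth.Agent.Lib.Helper84.DerReg

set_option autoImplicit false
universe u
open CAlg

namespace Groth.Agent.S9227

theorem aux (R : Type u) [CommRing R] [Differential R]
    [IsRegularRing R] (f : R) (hD : IsUnit (Differential.deriv f)) (p : Polynomial ℤ) :
    IsRegularRing (Polynomial R ⧸
      Ideal.span ({Polynomial.map (Int.castRingHom R) p - Polynomial.C f} : Set (Polynomial R))) := by
  have hint : ∀ n : ℤ, (Differential.deriv : Derivation ℤ R R) (n : R) = 0 := by
    intro n
    have : (n : R) = n • (1 : R) := by simp
    rw [this, map_zsmul, Derivation.map_one_eq_zero, smul_zero]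
  have h0 : Differential.mapCoeffs (Polynomial.map (Int.castRingHom R) p) = 0 := by
    ext i
    rw [Differential.coeff_mapCoeffs, Polynomial.coeff_map, Polynomial.coeff_zero]
    exact hint _
  have h1 : Differential.mapCoeffs (Polynomial.map (Int.castRingHom R) p - Polynomial.C f)
      = - Polynomial.C (Differential.deriv f) := by
    rw [map_sub, h0, Differential.mapCoeffs_C, zero_sub]
  have hu : IsUnit (Differential.mapCoeffs
      (Polynomial.map (Int.castRingHom R) p - Polynomial.C f)) := by
    rw [h1]
    exact (Polynomial.isUnit_C.2 hD).neg
  exact Groth.Agent.Lib.Helper84.DerReg.isRegularRing_quotient_of_unit _ Differential.mapCoeffs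
    (hu.map _)

/-- Let R be a regular ring, f an element of R and D a derivation of R with D(f) a unit of R. Then for
every polynomial p with integer coefficients the ring R[z]/(p(z) - f) is regular; in particular
R[z]/(z^n - f) is regular for every n ≥ 1. -/
theorem result (R : Type u) [CommRing R]
    [IsRegularRing R] (f : R) (D : Derivation ℤ R R) (hD : IsUnit (D f)) (p : Polynomial ℤ) :
    IsRegularRing (Polynomial R ⧸
      Ideal.span ({Polynomial.map (Int.castRingHom R) p - Polynomial.C f} : Set (Polynomial R))) := by
  let _ : Differential R := ⟨D⟩
  exact aux R f hD p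

end Groth.Agent.S9227
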