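import Groth.Statements.S9229
import Groth.Agent.Lib.Helper49.UnibranchCpl
import Groth.Agent.S4754
import Groth.Agent.S2636
import Groth.Agent.Lib.Helper15.FormalCat
import Groth.Agent.Lib.Helper15.LocEquidim
-- import your own Groth.Agent.* helpers here

set_option autoImplicit false
universe u
open EGA4

namespace Groth.Agent.S9229

/-- A Noetherian local ring A whose formal fibres are geometrically normal and which is unibranch (a
normal local ring, say) is universally catenary. -/
theorem result (A : Type u) [CommRing A]
    [IsLocalRing A] [IsNoetherianRing A] (hA : EGA4.HasGeomNormalFormalFibres A)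
    (hu : CAlg2.IsUnibranch A) : CAlg.IsUniversallyCatenary A := by
  obtain ⟨hdom, hloc⟩ := hu
  haveI : IsDomain (A ⧸ nilradical A) := hdom
  have hA0 : EGA4.HasGeomNormalFormalFibres (A ⧸ nilradical A) :=
    Groth.Agent.S4754.result A hA (nilradical A)
  haveI hcd : IsDomain (EGA4.Cpl (A ⧸ nilradical A)) :=
    Groth.Agent.Lib.Helper49.UnibranchCpl.isDomain_cpl _ hA0 hloc
  have hfe : EGA4.IsFormallyEquidim (A ⧸ nilradical A) :=
    Groth.Agent.Lib.Helper15.LocEquidim.isEquidim_of_isDomain _
  apply Groth.Agent.S2636.result A
  intro p hp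
  have hle : nilradical A ≤ p := nilradical_le_prime p
  exact Groth.Agent.Lib.Helper15.FormalCat.isFormallyEquidim_of_surjective hfe
    (Ideal.Quotient.factor hle) (Ideal.Quotient.factor_surjective hle)
    (Groth.Agent.Lib.Helper15.LocEquidim.isEquidim_of_isDomain _)

end Groth.Agent.S9229
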