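import Groth.Statements.S9230
import Groth.Agent.Lib.Helper49.HenselFormal
import Groth.Agent.Lib.Helper15.HensFormalFibre
import Groth.Agent.S4754
import Groth.Agent.S2636
import Groth.Agent.Lib.Helper15.FormalCat
import Groth.Agent.Lib.Helper15.LocEquidim
import Groth.Agent.Lib.Helper86.OlivierE
import Groth.Agent.Lib.Helper37.Hz20
-- import your own Groth.Agent.* helpers here

set_option autoImplicit false
universe u
open EGA4

namespace Groth.Agent.S9230

/-- For a Noetherian local ring A whose formal fibres are geometrically normal, every henselization S of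
A is universally catenary. -/
theorem result (A S : Type u) [CommRing A]
    [IsLocalRing A] [IsNoetherianRing A] [CommRing S] [IsLocalRing S] [Algebra A S]
    [IsLocalHom (algebraMap A S)] [Hensel.IsHenselization A S]
    (hA : EGA4.HasGeomNormalFormalFibres A) : CAlg.IsUniversallyCatenary S := by
  haveI hhens : HenselianLocalRing S := Hensel.IsHenselization.henselian (R := A)
  haveI : IsNoetherianRing S :=
    (Groth.Agent.Lib.Helper37.Hz.isNoetherianRing_iff_of_isHenselization A S).mp inferInstance
  have hS : EGA4.HasGeomNormalFormalFibres S :=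
    Groth.Agent.Lib.Helper15.HensFormalFibre.hasGeomNormalFormalFibres_of_isHenselization A S hA
  apply Groth.Agent.S2636.result S
  intro q hq
  haveI : q.IsPrime := hq
  haveI : Nontrivial (S ⧸ q) := Ideal.Quotient.nontrivial_iff.mpr hq.ne_top
  haveI : HenselianLocalRing (S ⧸ q) :=
    Groth.Agent.Lib.Helper86.Olivier.henselianLocalRing_quotient q hq.ne_top
  have hq0 : EGA4.HasGeomNormalFormalFibres (S ⧸ q) := Groth.Agent.S4754.result S hS q
  haveI : IsDomain (EGA4.Cpl (S ⧸ q)) :=
    Groth.Agent.Lib.Helper49.HenselFormal.isDomain_cpl (S ⧸ q) hq0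
  exact Groth.Agent.Lib.Helper15.LocEquidim.isEquidim_of_isDomain _

end Groth.Agent.S9230
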