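import Groth.Statements.S9231
import Mathlib
import Groth.Agent.Lib.Helper83.FlatCompl

set_option autoImplicit false
universe u
open CAlg

namespace Groth.Agent.S9231

/-- For a local ring map A → B between Noetherian local rings, let ψ be the induced map from the
completion of A at its maximal ideal to that of B (here: a ring map of the completions whose
composite with A → A^ is the composite A → B → B^; since A is Noetherian such a map is unique, hence
is the canonical one). Then ψ is flat exactly when A → B is flat. -/
theorem result (A B : Type u) [CommRing A] [CommRing B] [IsLocalRing A]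
    [IsLocalRing B] [IsNoetherianRing A] [IsNoetherianRing B] [Algebra A B]
    [IsLocalHom (algebraMap A B)]
    (ψ : AdicCompletion (IsLocalRing.maximalIdeal A) A →+* AdicCompletion (IsLocalRing.maximalIdeal B) B)
    (hψ : ψ.comp (algebraMap A (AdicCompletion (IsLocalRing.maximalIdeal A) A)) =
      (algebraMap B (AdicCompletion (IsLocalRing.maximalIdeal B) B)).comp (algebraMap A B)) :
    ψ.Flat ↔ (algebraMap A B).Flat := by
  have hψ' : ∀ a, ψ (AdicCompletion.of _ A a) = AdicCompletion.of _ B (algebraMap A B a) :=
    fun a => RingHom.congr_fun hψ a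
  constructor
  · intro hflat
    let _ : Algebra (AdicCompletion (IsLocalRing.maximalIdeal A) A)
        (AdicCompletion (IsLocalRing.maximalIdeal B) B) := ψ.toAlgebra
    have hfl : Module.Flat (AdicCompletion (IsLocalRing.maximalIdeal A) A)
        (AdicCompletion (IsLocalRing.maximalIdeal B) B) := hflat
    have : IsScalarTower A (AdicCompletion (IsLocalRing.maximalIdeal A) A)
        (AdicCompletion (IsLocalRing.maximalIdeal B) B) :=
      IsScalarTower.of_algebraMap_eq (fun a => (hψ' a).symm)
    have : IsScalarTower A B (AdicCompletion (IsLocalRing.maximalIdeal B) B) :=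
      IsScalarTower.of_algebraMap_eq (fun a => rfl)
    have : Module.Flat A (AdicCompletion (IsLocalRing.maximalIdeal B) B) :=
      Module.Flat.trans A (AdicCompletion (IsLocalRing.maximalIdeal A) A) _
    have hne : IsLocalRing.maximalIdeal B ≠ ⊤ := Ideal.IsPrime.ne_top'
    have := Groth.Agent.Lib.Helper83.isLocalRing_adicCompletion (IsLocalRing.maximalIdeal B)
      (IsLocalRing.maximalIdeal B).fg_of_isNoetherianRing hne
    have : Module.FaithfullyFlat B (AdicCompletion (IsLocalRing.maximalIdeal B) B) :=
      Groth.Agent.Lib.Helper83.faithfullyFlat_of_map_maximalIdeal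
        (Groth.Agent.Lib.Helper83.maximalIdeal_adicCompletion_eq_map (IsLocalRing.maximalIdeal B)
          (IsLocalRing.maximalIdeal B).fg_of_isNoetherianRing hne)
    rw [RingHom.flat_algebraMap_iff]
    exact Groth.Agent.Lib.Helper2.flat_of_flat_of_faithfullyFlat
      (M := AdicCompletion (IsLocalRing.maximalIdeal B) B)
  · intro hflat
    exact Groth.Agent.Lib.Helper83.FlatCompl.flat_of_map_adicCompletion _ _ (algebraMap A B)
      (((IsLocalRing.local_hom_TFAE (algebraMap A B)).out 0 2).mp ‹IsLocalHom (algebraMap A B)›)
      hflat ψ hψ'

end Groth.Agent.S9231
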