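import Groth.Statements.S9232
import Mathlib
import Groth.Agent.Lib.Helper83.ComplMap

set_option autoImplicit false
universe u
open CAlg

namespace Groth.Agent.S9232

/-- Suppose A → B is a flat local ring map between Noetherian local rings, the maximal ideal of A
generates that of B, and the residue field map is bijective. Then the induced map between the
completions of A and B (a ring map of the completions compatible with A → B; it is unique since A is
Noetherian) is an isomorphism. -/
theorem result (A B : Type u) [CommRing A]
    [CommRing B] [IsLocalRing A] [IsLocalRing B] [IsNoetherianRing A] [IsNoetherianRing B]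
    [Algebra A B] [IsLocalHom (algebraMap A B)] [Module.Flat A B]
    (hm : Ideal.map (algebraMap A B) (IsLocalRing.maximalIdeal A) = IsLocalRing.maximalIdeal B)
    (hk : Function.Bijective (IsLocalRing.ResidueField.map (algebraMap A B)))
    (ψ : AdicCompletion (IsLocalRing.maximalIdeal A) A →+* AdicCompletion (IsLocalRing.maximalIdeal B) B)
    (hψ : ψ.comp (algebraMap A (AdicCompletion (IsLocalRing.maximalIdeal A) A)) =
      (algebraMap B (AdicCompletion (IsLocalRing.maximalIdeal B) B)).comp (algebraMap A B)) :
    Function.Bijective ψ := by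
  have hψ' : ∀ a, ψ (AdicCompletion.of (IsLocalRing.maximalIdeal A) A a) =
      AdicCompletion.of (IsLocalRing.maximalIdeal B) B (algebraMap A B a) := fun a =>
    congrArg (fun g => g a) hψ
  have fg : (IsLocalRing.maximalIdeal A).FG := (IsLocalRing.maximalIdeal A).fg_of_isNoetherianRing
  have ff : Module.FaithfullyFlat A B := Module.FaithfullyFlat.of_flat_of_isLocalHom
  refine Groth.Agent.Lib.Helper83.ComplMap.bijective (IsLocalRing.maximalIdeal A)
    (IsLocalRing.maximalIdeal B) (algebraMap A B) ψ hψ' fg hm ?_ ?_
  · intro b
    obtain ⟨r, hr⟩ := hk.2 (IsLocalRing.residue B b)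
    obtain ⟨a, rfl⟩ := IsLocalRing.residue_surjective r
    refine ⟨a, ?_⟩
    rw [IsLocalRing.ResidueField.map_residue] at hr
    rw [← IsLocalRing.residue_eq_zero_iff, map_sub, hr, sub_self]
  · intro n
    rw [injective_iff_map_eq_zero]
    intro x hx
    obtain ⟨a, rfl⟩ := Ideal.Quotient.mk_surjective x
    rw [Groth.Agent.Lib.Helper83.ComplMap.θ_mk, Ideal.Quotient.eq_zero_iff_mem, ← hm,
      ← Ideal.map_pow] at hx
    rw [Ideal.Quotient.eq_zero_iff_mem,
      ← Ideal.comap_map_eq_self_of_faithfullyFlat (B := B) (IsLocalRing.maximalIdeal A ^ n)]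
    exact hx

end Groth.Agent.S9232
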