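import Groth.Statements.S9239
import Groth.Agent.Lib.Helper37.Hz56

set_option autoImplicit false
universe u
open Brnch

namespace Groth.Agent.S9239

/-- For a Noetherian local ring A with completion A^ at its maximal ideal, A^ has at least as many
branches as A, and at least as many geometric branches as A. -/
theorem result (A : Type u) [CommRing A] [IsLocalRing A] [IsNoetherianRing A] :
    Brnch.numBranches A ≤ Brnch.numBranches (AdicCompletion (IsLocalRing.maximalIdeal A) A) ∧
      Brnch.numGeomBranches A ≤
        Brnch.numGeomBranches (AdicCompletion (IsLocalRing.maximalIdeal A) A) := by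
  classical
  haveI : HenselianLocalRing (AdicCompletion (IsLocalRing.maximalIdeal A) A) :=
    Groth.Agent.Lib.Helper37.Hz.Compare.henselianLocalRing_of_isAdicComplete _
  haveI hflat : Module.Flat A (AdicCompletion (IsLocalRing.maximalIdeal A) A) := inferInstance
  constructor
  · -- branches
    haveI hself : Hensel.IsHenselization (AdicCompletion (IsLocalRing.maximalIdeal A) A)
        (AdicCompletion (IsLocalRing.maximalIdeal A) A) :=
      Groth.Agent.Lib.Helper37.Hz.Compare.isHenselization_self _
    rw [← Groth.Agent.Lib.Helper37.Hz.Branches.card_minimalPrimes_eq_numBranches A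
        (Groth.Agent.Lib.Helper37.Hz.Hens A),
      ← Groth.Agent.Lib.Helper37.Hz.Branches.card_minimalPrimes_eq_numBranches
        (AdicCompletion (IsLocalRing.maximalIdeal A) A)
        (AdicCompletion (IsLocalRing.maximalIdeal A) A)]
    obtain ⟨g, hg, hgloc⟩ := Groth.Agent.Lib.Helper37.Hz.Compare.exists_map_of_isHenselization A
      (AdicCompletion (IsLocalRing.maximalIdeal A) A) (Groth.Agent.Lib.Helper37.Hz.Hens A)
      (AdicCompletion (IsLocalRing.maximalIdeal A) A)
    letI : Algebra (Groth.Agent.Lib.Helper37.Hz.Hens A)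
        (AdicCompletion (IsLocalRing.maximalIdeal A) A) := g.toAlgebra
    haveI : IsScalarTower A (Groth.Agent.Lib.Helper37.Hz.Hens A)
        (AdicCompletion (IsLocalRing.maximalIdeal A) A) :=
      IsScalarTower.of_algebraMap_eq' (by
        change _ = g.comp _
        rw [hg]
        rfl)
    haveI : Algebra.WeaklyEtale A (Groth.Agent.Lib.Helper37.Hz.Hens A) :=
      Groth.Agent.Lib.Helper37.Hz.weaklyEtale_of_isHenselization A _
    haveI : Module.Flat (Groth.Agent.Lib.Helper37.Hz.Hens A)
        (AdicCompletion (IsLocalRing.maximalIdeal A) A) :=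
      Groth.Agent.Lib.Helper37.Hz.Compare.flat_of_weaklyEtale A _ _
    haveI : IsLocalHom (algebraMap (Groth.Agent.Lib.Helper37.Hz.Hens A)
        (AdicCompletion (IsLocalRing.maximalIdeal A) A)) := hgloc
    haveI : Module.FaithfullyFlat (Groth.Agent.Lib.Helper37.Hz.Hens A)
        (AdicCompletion (IsLocalRing.maximalIdeal A) A) :=
      Module.FaithfullyFlat.of_flat_of_isLocalHom
    exact Groth.Agent.Lib.Helper37.Hz.Compare.card_minimalPrimes_le_of_faithfullyFlat _ _
  · -- geometric branches
    rw [← Groth.Agent.Lib.Helper37.Hz.Branches.card_minimalPrimes_eq_numGeomBranches A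
        (Groth.Agent.Lib.Helper37.Hz.SHens A),
      ← Groth.Agent.Lib.Helper37.Hz.Branches.card_minimalPrimes_eq_numGeomBranches
        (AdicCompletion (IsLocalRing.maximalIdeal A) A)
        (Groth.Agent.Lib.Helper37.Hz.SHens (AdicCompletion (IsLocalRing.maximalIdeal A) A))]
    haveI hS' : Hensel.IsStrictHenselization (AdicCompletion (IsLocalRing.maximalIdeal A) A)
        (Groth.Agent.Lib.Helper37.Hz.SHens (AdicCompletion (IsLocalRing.maximalIdeal A) A)) :=
      inferInstance
    haveI : HenselianLocalRing
        (Groth.Agent.Lib.Helper37.Hz.SHens (AdicCompletion (IsLocalRing.maximalIdeal A) A)) :=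
      hS'.henselian
    haveI : IsSepClosed (IsLocalRing.ResidueField
        (Groth.Agent.Lib.Helper37.Hz.SHens (AdicCompletion (IsLocalRing.maximalIdeal A) A))) :=
      hS'.isSepClosure.sep_closed
    obtain ⟨g, hg, hgloc⟩ :=
      Groth.Agent.Lib.Helper37.Hz.Compare.exists_map_of_isStrictHenselization A
        (AdicCompletion (IsLocalRing.maximalIdeal A) A) (Groth.Agent.Lib.Helper37.Hz.SHens A)
        (Groth.Agent.Lib.Helper37.Hz.SHens (AdicCompletion (IsLocalRing.maximalIdeal A) A))
    letI : Algebra A
        (Groth.Agent.Lib.Helper37.Hz.SHens (AdicCompletion (IsLocalRing.maximalIdeal A) A)) :=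
      ((algebraMap (AdicCompletion (IsLocalRing.maximalIdeal A) A)
        (Groth.Agent.Lib.Helper37.Hz.SHens (AdicCompletion (IsLocalRing.maximalIdeal A) A))).comp
        (algebraMap A (AdicCompletion (IsLocalRing.maximalIdeal A) A))).toAlgebra
    haveI : IsScalarTower A (AdicCompletion (IsLocalRing.maximalIdeal A) A)
        (Groth.Agent.Lib.Helper37.Hz.SHens (AdicCompletion (IsLocalRing.maximalIdeal A) A)) :=
      IsScalarTower.of_algebraMap_eq' rfl
    letI : Algebra (Groth.Agent.Lib.Helper37.Hz.SHens A)
        (Groth.Agent.Lib.Helper37.Hz.SHens (AdicCompletion (IsLocalRing.maximalIdeal A) A)) :=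
      g.toAlgebra
    haveI : IsScalarTower A (Groth.Agent.Lib.Helper37.Hz.SHens A)
        (Groth.Agent.Lib.Helper37.Hz.SHens (AdicCompletion (IsLocalRing.maximalIdeal A) A)) :=
      IsScalarTower.of_algebraMap_eq' (by
        change _ = g.comp _
        rw [hg]
        rfl)
    haveI : Module.FaithfullyFlat (AdicCompletion (IsLocalRing.maximalIdeal A) A)
        (Groth.Agent.Lib.Helper37.Hz.SHens (AdicCompletion (IsLocalRing.maximalIdeal A) A)) :=
      Groth.Agent.Lib.Helper37.Hz.faithfullyFlat_of_isStrictHenselization _ _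
    haveI : Module.Flat A
        (Groth.Agent.Lib.Helper37.Hz.SHens (AdicCompletion (IsLocalRing.maximalIdeal A) A)) :=
      Module.Flat.trans A (AdicCompletion (IsLocalRing.maximalIdeal A) A) _
    haveI : Algebra.WeaklyEtale A (Groth.Agent.Lib.Helper37.Hz.SHens A) :=
      Groth.Agent.Lib.Helper37.Hz.weaklyEtale_of_isStrictHenselization A _
    haveI : Module.Flat (Groth.Agent.Lib.Helper37.Hz.SHens A)
        (Groth.Agent.Lib.Helper37.Hz.SHens (AdicCompletion (IsLocalRing.maximalIdeal A) A)) :=
      Groth.Agent.Lib.Helper37.Hz.Compare.flat_of_weaklyEtale A _ _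
    haveI : IsLocalHom (algebraMap (Groth.Agent.Lib.Helper37.Hz.SHens A)
        (Groth.Agent.Lib.Helper37.Hz.SHens (AdicCompletion (IsLocalRing.maximalIdeal A) A))) :=
      hgloc
    haveI : Module.FaithfullyFlat (Groth.Agent.Lib.Helper37.Hz.SHens A)
        (Groth.Agent.Lib.Helper37.Hz.SHens (AdicCompletion (IsLocalRing.maximalIdeal A) A)) :=
      Module.FaithfullyFlat.of_flat_of_isLocalHom
    exact Groth.Agent.Lib.Helper37.Hz.Compare.card_minimalPrimes_le_of_faithfullyFlat _ _

end Groth.Agent.S9239
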