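import Groth.Statements.S9241
-- import your own Groth.Agent.* helpers here
import Groth.Agent.Lib.Helper15.DimOneBranch2
import Groth.Agent.Lib.Helper83.FlatLocalDim
import Groth.Agent.Lib.Helper83.FlatCompl
import Groth.Agent.Lib.Helper37.Hz31
import Groth.Agent.Lib.Helper37.Hz20
import Groth.Agent.Lib.Helper37.Hz13
import Groth.Agent.S9237
import Groth.Agent.S9238
set_option linter.style.haveILetI false

set_option autoImplicit false
universe u
open Brnch

namespace Groth.Agent.S9241

open IsLocalRing Groth.Agent.Lib.Helper37.Hz

/-- For a Noetherian local ring A of dimension 1, A and its completion A^ have the same number of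
branches and the same number of geometric branches. -/
theorem result (A : Type u) [CommRing A] [IsLocalRing A]
    [IsNoetherianRing A] (hA : ringKrullDim A = 1) :
    Brnch.numBranches (AdicCompletion (IsLocalRing.maximalIdeal A) A) = Brnch.numBranches A ∧
      Brnch.numGeomBranches (AdicCompletion (IsLocalRing.maximalIdeal A) A) =
        Brnch.numGeomBranches A := by
  classical
  have hne : maximalIdeal A ≠ ⊤ := Ideal.IsPrime.ne_top inferInstance
  have hfg : (maximalIdeal A).FG := IsNoetherian.noetherian _
  haveI : IsNoetherianRing (AdicCompletion (maximalIdeal A) A) :=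
    Groth.Agent.Lib.Helper83.isNoetherianRing_adicCompletion _
  have hmC : (maximalIdeal A).map (algebraMap A (AdicCompletion (maximalIdeal A) A)) =
      maximalIdeal (AdicCompletion (maximalIdeal A) A) :=
    Groth.Agent.Lib.Helper83.maximalIdeal_adicCompletion_eq_map (maximalIdeal A) hfg hne
  haveI : IsAdicComplete (maximalIdeal (AdicCompletion (maximalIdeal A) A))
      (AdicCompletion (maximalIdeal A) A) := by
    rw [← hmC]; exact AdicCompletion.isAdicComplete_self _ hfg
  haveI hhC : HenselianLocalRing (AdicCompletion (maximalIdeal A) A) :=
    Compare.henselianLocalRing_of_isAdicComplete _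
  have hdimC : ringKrullDim (AdicCompletion (maximalIdeal A) A) = 1 :=
    (Groth.Agent.Lib.Helper83.ringKrullDim_adicCompletion_eq _ hne).trans hA
  have hresC : ∀ c : AdicCompletion (maximalIdeal A) A, ∃ a : A,
      c - algebraMap A (AdicCompletion (maximalIdeal A) A) a ∈
        maximalIdeal (AdicCompletion (maximalIdeal A) A) := by
    intro c
    obtain ⟨a, ha⟩ := Groth.Agent.Lib.Helper83.FlatCompl.exists_sub_of_mem (maximalIdeal A) 1 c
    refine ⟨a, ?_⟩
    rw [pow_one, Ideal.smul_top_eq_map] at ha
    rw [← hmC]; exact ha
  refine ⟨?_, ?_⟩
  · -- branches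
    obtain ⟨H, _, _, _, _, hH⟩ := exists_isHenselization A
    haveI := hH
    haveI : Hensel.IsHenselization (AdicCompletion (maximalIdeal A) A)
        (AdicCompletion (maximalIdeal A) A) := Compare.isHenselization_self _
    rw [← Groth.Agent.S9237.result A H,
      ← Groth.Agent.S9237.result (AdicCompletion (maximalIdeal A) A)
        (AdicCompletion (maximalIdeal A) A)]
    haveI : HenselianLocalRing H := hH.henselian
    haveI : IsNoetherianRing H := (isNoetherianRing_iff_of_isHenselization A H).mp inferInstance
    have hdimH : ringKrullDim H = 1 := (ringKrullDim_of_isHenselization A H).trans hA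
    have hmH := map_maximalIdeal_of_isHenselization A H
    obtain ⟨g, hg, -⟩ := hH.universal (AdicCompletion (maximalIdeal A) A)
      (algebraMap A (AdicCompletion (maximalIdeal A) A)) inferInstance
    letI : Algebra H (AdicCompletion (maximalIdeal A) A) := g.toAlgebra
    haveI : IsScalarTower A H (AdicCompletion (maximalIdeal A) A) :=
      IsScalarTower.of_algebraMap_eq (fun a => (RingHom.congr_fun hg a).symm)
    haveI : Algebra.WeaklyEtale A H := weaklyEtale_of_isHenselization A H
    haveI : Module.Flat H (AdicCompletion (maximalIdeal A) A) :=
      Compare.flat_of_weaklyEtale A H (AdicCompletion (maximalIdeal A) A)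
    refine Groth.Agent.Lib.Helper15.DimOneBranch.card_minimalPrimes_eq H
      (AdicCompletion (maximalIdeal A) A) hdimH.le hdimC.le ?_ ?_
    · rw [← hmH, Ideal.map_map]
      have : (algebraMap H (AdicCompletion (maximalIdeal A) A)).comp (algebraMap A H) =
          algebraMap A (AdicCompletion (maximalIdeal A) A) := hg
      rw [this, hmC]
    · intro c
      obtain ⟨a, ha⟩ := hresC c
      refine ⟨algebraMap A H a, ?_⟩
      have : algebraMap H (AdicCompletion (maximalIdeal A) A) (algebraMap A H a) =
          algebraMap A (AdicCompletion (maximalIdeal A) A) a := RingHom.congr_fun hg a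
      rw [this]; exact ha
  · -- geometric branches
    obtain ⟨S, _, _, _, _, hS⟩ := exists_isStrictHenselization A
    obtain ⟨T, _, _, _, _, hT⟩ := exists_isStrictHenselization (AdicCompletion (maximalIdeal A) A)
    haveI := hS
    haveI := hT
    rw [← Groth.Agent.S9238.result A S,
      ← Groth.Agent.S9238.result (AdicCompletion (maximalIdeal A) A) T]
    haveI : HenselianLocalRing S := hS.henselian
    haveI : HenselianLocalRing T := hT.henselian
    haveI : IsNoetherianRing S :=
      (isNoetherianRing_iff_of_isStrictHenselization A S).mp inferInstance
    haveI : IsNoetherianRing T :=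
      (isNoetherianRing_iff_of_isStrictHenselization (AdicCompletion (maximalIdeal A) A) T).mp
        inferInstance
    have hdimS : ringKrullDim S = 1 := (ringKrullDim_of_isStrictHenselization A S).trans hA
    have hdimT : ringKrullDim T = 1 :=
      (ringKrullDim_of_isStrictHenselization (AdicCompletion (maximalIdeal A) A) T).trans hdimC
    have hmS := map_maximalIdeal_of_isStrictHenselization A S
    have hmT := map_maximalIdeal_of_isStrictHenselization (AdicCompletion (maximalIdeal A) A) T
    haveI hscS : IsSepClosure (ResidueField A) (ResidueField S) := hS.isSepClosure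
    haveI hscT : IsSepClosure (ResidueField (AdicCompletion (maximalIdeal A) A)) (ResidueField T) :=
      hT.isSepClosure
    haveI : IsSepClosed (ResidueField S) := IsSepClosure.sep_closed (ResidueField A)
    haveI : IsSepClosed (ResidueField T) :=
      IsSepClosure.sep_closed (ResidueField (AdicCompletion (maximalIdeal A) A))
    obtain ⟨g, hg, hgloc⟩ := Compare.exists_map_of_isStrictHenselization A
      (AdicCompletion (maximalIdeal A) A) S T
    haveI := hgloc
    letI : Algebra S T := g.toAlgebra
    letI : Algebra A T :=
      ((algebraMap (AdicCompletion (maximalIdeal A) A) T).comp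
        (algebraMap A (AdicCompletion (maximalIdeal A) A))).toAlgebra
    haveI : IsScalarTower A (AdicCompletion (maximalIdeal A) A) T :=
      IsScalarTower.of_algebraMap_eq (fun a => rfl)
    haveI : IsScalarTower A S T :=
      IsScalarTower.of_algebraMap_eq (fun a => (RingHom.congr_fun hg a).symm)
    haveI : Module.FaithfullyFlat (AdicCompletion (maximalIdeal A) A) T :=
      faithfullyFlat_of_isStrictHenselization (AdicCompletion (maximalIdeal A) A) T
    haveI : Module.Flat A T := Module.Flat.trans A (AdicCompletion (maximalIdeal A) A) T
    haveI : Algebra.WeaklyEtale A S := weaklyEtale_of_isStrictHenselization A S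
    haveI : Module.Flat S T := Compare.flat_of_weaklyEtale A S T
    refine Groth.Agent.Lib.Helper15.DimOneBranch.card_minimalPrimes_eq S T hdimS.le hdimT.le ?_ ?_
    · rw [← hmS, Ideal.map_map]
      have : (algebraMap S T).comp (algebraMap A S) =
          (algebraMap (AdicCompletion (maximalIdeal A) A) T).comp
            (algebraMap A (AdicCompletion (maximalIdeal A) A)) := hg
      rw [this, ← Ideal.map_map, hmC, hmT]
    · -- residue fields
      have hsurj : Function.Surjective (ResidueField.map g) := by
        refine Groth.Agent.Lib.Helper15.DimOneBranch.surjective_of_isSepClosed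
          (k₂ := ResidueField (AdicCompletion (maximalIdeal A) A))
          (ResidueField.map (algebraMap A (AdicCompletion (maximalIdeal A) A))) ?_
          (ResidueField.map (algebraMap A S)) (ResidueField.map g) ?_
        · intro x
          obtain ⟨c, rfl⟩ := IsLocalRing.residue_surjective x
          obtain ⟨a, ha⟩ := hresC c
          refine ⟨IsLocalRing.residue A a, ?_⟩
          rw [ResidueField.map_residue]
          symm
          rw [← sub_eq_zero, ← map_sub, IsLocalRing.residue_eq_zero_iff]
          exact ha
        · ext x
          obtain ⟨a, rfl⟩ := IsLocalRing.residue_surjective x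
          simp only [RingHom.comp_apply, ResidueField.map_residue,
            IsLocalRing.ResidueField.algebraMap_residue]
          exact congrArg (IsLocalRing.residue T) (RingHom.congr_fun hg a)
      intro c
      obtain ⟨s, hs⟩ := hsurj (IsLocalRing.residue T c)
      obtain ⟨s, rfl⟩ := IsLocalRing.residue_surjective s
      refine ⟨s, ?_⟩
      rw [ResidueField.map_residue] at hs
      rw [← IsLocalRing.residue_eq_zero_iff, map_sub, sub_eq_zero]
      exact hs.symm

end Groth.Agent.S9241
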