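import Groth.Statements.S9242
-- import your own Groth.Agent.* helpers here
import Groth.Agent.Lib.Helper15.FormalConn2
import Groth.Agent.Lib.Helper83.FlatLocalDim
import Groth.Agent.Lib.Helper83.FlatCompl
import Groth.Agent.Lib.Helper37.Hz31
import Groth.Agent.Lib.Helper37.Hz20
set_option linter.style.haveILetI false

set_option autoImplicit false
universe u
open Brnch

namespace Groth.Agent.S9242

open IsLocalRing Groth.Agent.Lib.Helper37.Hz

/-- Let A be a Noetherian local ring with henselization S and completion A^, let ψ : S → A^ be the ring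
map compatible with the structure maps from A, and let q be a minimal prime of A^ with dim(A^/q) =
1. Then q is the radical of the extension along ψ of some minimal prime of S. -/
theorem result (A S : Type u) [CommRing A]
    [IsLocalRing A] [IsNoetherianRing A] [CommRing S] [IsLocalRing S] [Algebra A S]
    [IsLocalHom (algebraMap A S)] [Hensel.IsHenselization A S]
    (ψ : S →+* AdicCompletion (IsLocalRing.maximalIdeal A) A)
    (hψ : ψ.comp (algebraMap A S) = algebraMap A (AdicCompletion (IsLocalRing.maximalIdeal A) A))
    (q : Ideal (AdicCompletion (IsLocalRing.maximalIdeal A) A))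
    (hq : q ∈ minimalPrimes (AdicCompletion (IsLocalRing.maximalIdeal A) A))
    (hdim : ringKrullDim (AdicCompletion (IsLocalRing.maximalIdeal A) A ⧸ q) = 1) :
    ∃ q' ∈ minimalPrimes S, (Ideal.map ψ q').radical = q := by
  classical
  have hne : maximalIdeal A ≠ ⊤ := Ideal.IsPrime.ne_top inferInstance
  have hfg : (maximalIdeal A).FG := IsNoetherian.noetherian _
  haveI : IsNoetherianRing (AdicCompletion (maximalIdeal A) A) :=
    Groth.Agent.Lib.Helper83.isNoetherianRing_adicCompletion _
  have hmC : (maximalIdeal A).map (algebraMap A (AdicCompletion (maximalIdeal A) A)) =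
      maximalIdeal (AdicCompletion (maximalIdeal A) A) :=
    Groth.Agent.Lib.Helper83.maximalIdeal_adicCompletion_eq_map (maximalIdeal A) hfg hne
  have hresC : ∀ c : AdicCompletion (maximalIdeal A) A, ∃ a : A,
      c - algebraMap A (AdicCompletion (maximalIdeal A) A) a ∈
        maximalIdeal (AdicCompletion (maximalIdeal A) A) := by
    intro c
    obtain ⟨a, ha⟩ := Groth.Agent.Lib.Helper83.FlatCompl.exists_sub_of_mem (maximalIdeal A) 1 c
    refine ⟨a, ?_⟩
    rw [pow_one, Ideal.smul_top_eq_map] at ha
    rw [← hmC]; exact ha
  have hS : Hensel.IsHenselization A S := inferInstance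
  haveI : HenselianLocalRing S := hS.henselian
  haveI : IsNoetherianRing S := (isNoetherianRing_iff_of_isHenselization A S).mp inferInstance
  have hmS := map_maximalIdeal_of_isHenselization A S
  letI : Algebra S (AdicCompletion (maximalIdeal A) A) := ψ.toAlgebra
  haveI : IsScalarTower A S (AdicCompletion (maximalIdeal A) A) :=
    IsScalarTower.of_algebraMap_eq (fun a => (RingHom.congr_fun hψ a).symm)
  haveI : Algebra.WeaklyEtale A S := weaklyEtale_of_isHenselization A S
  haveI : Module.Flat S (AdicCompletion (maximalIdeal A) A) :=
    Compare.flat_of_weaklyEtale A S (AdicCompletion (maximalIdeal A) A)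
  have hm : (maximalIdeal S).map (algebraMap S (AdicCompletion (maximalIdeal A) A)) =
      maximalIdeal (AdicCompletion (maximalIdeal A) A) := by
    rw [← hmS, Ideal.map_map]
    have : (algebraMap S (AdicCompletion (maximalIdeal A) A)).comp (algebraMap A S) =
        algebraMap A (AdicCompletion (maximalIdeal A) A) := hψ
    rw [this, hmC]
  have hres : ∀ c : AdicCompletion (maximalIdeal A) A, ∃ e : S,
      c - algebraMap S (AdicCompletion (maximalIdeal A) A) e ∈
        maximalIdeal (AdicCompletion (maximalIdeal A) A) := by
    intro c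
    obtain ⟨a, ha⟩ := hresC c
    refine ⟨algebraMap A S a, ?_⟩
    have : algebraMap S (AdicCompletion (maximalIdeal A) A) (algebraMap A S a) =
        algebraMap A (AdicCompletion (maximalIdeal A) A) a := RingHom.congr_fun hψ a
    rw [this]; exact ha
  haveI hqp : q.IsPrime := hq.1.1
  obtain ⟨hmin, hrad⟩ := Groth.Agent.Lib.Helper15.FormalConn.radical_map_comap_eq S
    (AdicCompletion (maximalIdeal A) A) hm hres q hq
    (fun P hP hlt => Groth.Agent.Lib.Helper15.FormalConn.eq_maximalIdeal_of_lt_of_dim_quotient q
      hdim.le P hP hlt)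
  exact ⟨q.comap ψ, hmin, hrad⟩

end Groth.Agent.S9242
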