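import Groth.Statements.S9243
import Groth.Agent.Lib.Helper37.Hz57
import Groth.Agent.Lib.Helper83.FlatLocalDim

set_option autoImplicit false
universe u
open Brnch

namespace Groth.Agent.S9243

/-- Let A be a Noetherian local ring with henselization S and completion A^, and ψ : S → A^ the ring map
compatible with the structure maps from A. Then A and A^ have the same number of branches if and
only if, for every minimal prime q of S, the radical of the extension of q along ψ is a prime ideal
of A^. -/
theorem result (A S : Type u) [CommRing A] [IsLocalRing A]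
    [IsNoetherianRing A] [CommRing S] [IsLocalRing S] [Algebra A S] [IsLocalHom (algebraMap A S)]
    [Hensel.IsHenselization A S] (ψ : S →+* AdicCompletion (IsLocalRing.maximalIdeal A) A)
    (hψ : ψ.comp (algebraMap A S) = algebraMap A (AdicCompletion (IsLocalRing.maximalIdeal A) A)) :
    Brnch.numBranches A = Brnch.numBranches (AdicCompletion (IsLocalRing.maximalIdeal A) A) ↔
      ∀ q ∈ minimalPrimes S, (Ideal.map ψ q).radical.IsPrime := by
  classical
  haveI : HenselianLocalRing (AdicCompletion (IsLocalRing.maximalIdeal A) A) :=
    Groth.Agent.Lib.Helper37.Hz.Compare.henselianLocalRing_of_isAdicComplete _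
  haveI hflat : Module.Flat A (AdicCompletion (IsLocalRing.maximalIdeal A) A) := inferInstance
  haveI hself : Hensel.IsHenselization (AdicCompletion (IsLocalRing.maximalIdeal A) A)
      (AdicCompletion (IsLocalRing.maximalIdeal A) A) :=
    Groth.Agent.Lib.Helper37.Hz.Compare.isHenselization_self _
  rw [← Groth.Agent.Lib.Helper37.Hz.Branches.card_minimalPrimes_eq_numBranches A S,
    ← Groth.Agent.Lib.Helper37.Hz.Branches.card_minimalPrimes_eq_numBranches
      (AdicCompletion (IsLocalRing.maximalIdeal A) A)
      (AdicCompletion (IsLocalRing.maximalIdeal A) A)]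
  letI : Algebra S (AdicCompletion (IsLocalRing.maximalIdeal A) A) := ψ.toAlgebra
  haveI : IsScalarTower A S (AdicCompletion (IsLocalRing.maximalIdeal A) A) :=
    IsScalarTower.of_algebraMap_eq' (by
      change _ = ψ.comp _
      rw [hψ])
  haveI : Algebra.WeaklyEtale A S :=
    Groth.Agent.Lib.Helper37.Hz.weaklyEtale_of_isHenselization A _
  haveI : Module.Flat S (AdicCompletion (IsLocalRing.maximalIdeal A) A) :=
    Groth.Agent.Lib.Helper37.Hz.Compare.flat_of_weaklyEtale A _ _
  haveI : IsLocalHom (algebraMap S (AdicCompletion (IsLocalRing.maximalIdeal A) A)) := by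
    refine Groth.Agent.Lib.Helper37.Hz.Compare.isLocalHom_of_comp_isLocalHom A S _ ψ ?_
    rw [hψ]
    infer_instance
  haveI : Module.FaithfullyFlat S (AdicCompletion (IsLocalRing.maximalIdeal A) A) :=
    Module.FaithfullyFlat.of_flat_of_isLocalHom
  haveI : IsNoetherianRing S :=
    (Groth.Agent.Lib.Helper37.Hz.isNoetherianRing_iff_of_isHenselization A S).mp inferInstance
  haveI : IsNoetherianRing (AdicCompletion (IsLocalRing.maximalIdeal A) A) :=
    Groth.Agent.Lib.Helper83.isNoetherianRing_adicCompletion _
  exact Groth.Agent.Lib.Helper37.Hz.Compare.card_minimalPrimes_eq_iff S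
    (AdicCompletion (IsLocalRing.maximalIdeal A) A) (minimalPrimes.finite_of_isNoetherianRing S)
    (minimalPrimes.finite_of_isNoetherianRing _)

end Groth.Agent.S9243
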