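import Groth.Statements.S9245
import Mathlib.RingTheory.Flat.Localization
import Mathlib.RingTheory.Flat.FaithfullyFlat.Basic
import Mathlib.RingTheory.LocalRing.ResidueField.Ideal
import Mathlib.RingTheory.Localization.Submodule
import Mathlib.RingTheory.Etale.Basic
import Mathlib.RingTheory.Smooth.Flat
-- import your own Groth.Agent.* helpers here

set_option autoImplicit false
universe u
open CAlg

namespace Groth.Agent.S9245

/-- For an étale ring map A → B and a prime q of B with contraction p in A, the localization A_p is a
Noetherian ring exactly when the localization B_q is. -/
theorem result (A B : Type u) [CommRing A] [CommRing B]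
    [Algebra A B] [Algebra.Etale A B] (q : Ideal B) [q.IsPrime] :
    IsNoetherianRing (Localization.AtPrime (Ideal.comap (algebraMap A B) q)) ↔
      IsNoetherianRing (Localization.AtPrime q) := by
  set p := Ideal.comap (algebraMap A B) q with hp
  have : q.LiesOver p := ⟨rfl⟩
  let := Localization.AtPrime.algebraOfLiesOver p q
  have : Algebra.EssFiniteType A (Localization.AtPrime q) := .comp _ B _
  have : Algebra.EssFiniteType (Localization.AtPrime p) (Localization.AtPrime q) :=
    .of_comp A _ _
  have : Module.Flat (Localization.AtPrime p) (Localization.AtPrime q) := inferInstance
  have : IsLocalHom (algebraMap (Localization.AtPrime p) (Localization.AtPrime q)) :=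
    inferInstance
  have : Module.FaithfullyFlat (Localization.AtPrime p) (Localization.AtPrime q) :=
    Module.FaithfullyFlat.of_flat_of_isLocalHom
  constructor
  · intro h
    exact Algebra.EssFiniteType.isNoetherianRing (Localization.AtPrime p) (Localization.AtPrime q)
  · intro h
    have h1 : IsNoetherian (Localization.AtPrime q)
        (TensorProduct (Localization.AtPrime p) (Localization.AtPrime q)
          (Localization.AtPrime p)) :=
      isNoetherian_of_linearEquiv
        (TensorProduct.AlgebraTensorModule.rid (Localization.AtPrime p) (Localization.AtPrime q)
          (Localization.AtPrime q)).symm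
    exact Submodule.IsNoetherian.of_isNoetherian_tensorProduct_of_faithfullyFlat h1

end Groth.Agent.S9245
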