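import Groth.Statements.S9246
import Mathlib
import Groth.Agent.Lib.Helper83.FlatLocalDim

set_option autoImplicit false
universe u
open CAlg

namespace Groth.Agent.S9246


/-- Faithfully flat descent of the Noetherian property. -/
theorem isNoetherianRing_of_faithfullyFlat (A B : Type*) [CommRing A] [CommRing B] [Algebra A B]
    [Module.FaithfullyFlat A B] [IsNoetherianRing B] : IsNoetherianRing A := by
  rw [IsNoetherianRing, isNoetherian_iff']
  have hB : WellFoundedGT (Ideal B) := (isNoetherian_iff' (R := B) (M := B)).mp inferInstance
  let e : Ideal A ↪o Ideal B := OrderEmbedding.ofMapLEIff (Ideal.map (algebraMap A B)) (by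
    intro I J
    refine ⟨fun h => ?_, fun h => Ideal.map_mono h⟩
    rw [← Ideal.comap_map_eq_self_of_faithfullyFlat (B := B) I,
      ← Ideal.comap_map_eq_self_of_faithfullyFlat (B := B) J]
    exact Ideal.comap_mono h)
  exact e.wellFoundedGT

/-- Let A → B be an étale ring map and q a prime of B lying over the prime p of A. Then A_p is a regular
local ring if and only if B_q is a regular local ring. -/
theorem result (A B : Type u) [CommRing A] [CommRing B]
    [Algebra A B] [Algebra.Etale A B] (q : Ideal B) [q.IsPrime] :
    IsRegularLocalRing (Localization.AtPrime (Ideal.comap (algebraMap A B) q)) ↔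
      IsRegularLocalRing (Localization.AtPrime q) := by
  have hLO : q.LiesOver (Ideal.comap (algebraMap A B) q) := ⟨rfl⟩
  let _ := Localization.AtPrime.algebraOfLiesOver (Ideal.comap (algebraMap A B) q) q
  have hunr : Algebra.IsUnramifiedAt A q := inferInstance
  have hmap := ((Algebra.isUnramifiedAt_iff_map_eq A (Ideal.comap (algebraMap A B) q) q).mp hunr).2
  have hmax : (IsLocalRing.maximalIdeal (Localization.AtPrime (Ideal.comap (algebraMap A B) q))).map
      (algebraMap (Localization.AtPrime (Ideal.comap (algebraMap A B) q)) (Localization.AtPrime q)) =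
      IsLocalRing.maximalIdeal (Localization.AtPrime q) := by
    rw [← Localization.AtPrime.map_eq_maximalIdeal, Ideal.map_map, ← IsScalarTower.algebraMap_eq,
      hmap]
  have hflat : Module.Flat (Localization.AtPrime (Ideal.comap (algebraMap A B) q))
      (Localization.AtPrime q) := inferInstance
  have hess : Algebra.EssFiniteType (Localization.AtPrime (Ideal.comap (algebraMap A B) q))
      (Localization.AtPrime q) := .of_comp A _ _
  constructor
  · intro h
    have : IsNoetherianRing (Localization.AtPrime q) :=
      Algebra.EssFiniteType.isNoetherianRing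
        (Localization.AtPrime (Ideal.comap (algebraMap A B) q)) (Localization.AtPrime q)
    exact (Groth.Agent.Lib.Helper83.isRegularLocalRing_iff_of_flat_of_map_maximalIdeal hmax).mp h
  · intro h
    have ff := Groth.Agent.Lib.Helper83.faithfullyFlat_of_map_maximalIdeal hmax
    have : IsNoetherianRing (Localization.AtPrime (Ideal.comap (algebraMap A B) q)) :=
      isNoetherianRing_of_faithfullyFlat _ (Localization.AtPrime q)
    exact (Groth.Agent.Lib.Helper83.isRegularLocalRing_iff_of_flat_of_map_maximalIdeal hmax).mpr h

end Groth.Agent.S9246
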