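import Groth.Statements.S9247
import Groth.Agent.Lib.Helper84.RegUFD4

set_option autoImplicit false
universe u
open CAlg

namespace Groth.Agent.S9247

/-- For a regular local ring R and an element f of R, the Picard group of R_f is trivial. -/
theorem result (R : Type u) [CommRing R]
    [IsRegularLocalRing R] (f : R) : Subsingleton (CommRing.Pic (Localization.Away f)) := by
  have hdom : IsDomain R := Groth.Agent.S0558.result R
  have hufd : UniqueFactorizationMonoid R :=
    Groth.Agent.Lib.Helper84.RegUFD.uniqueFactorizationMonoid_of_isRegularLocalRing R
  by_cases hf : f = 0
  · subst hf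
    have : Subsingleton (Localization.Away (0 : R)) :=
      IsLocalization.subsingleton (M := Submonoid.powers (0 : R)) ⟨1, by simp⟩
    rw [CommRing.Pic.subsingleton_iff]
    intro M _ _ _
    exact Module.Free.of_subsingleton' _ _
  · have hdomS : IsDomain (Localization.Away f) :=
      IsLocalization.Away.isDomain (Localization.Away f) hf
    have hufdS : UniqueFactorizationMonoid (Localization.Away f) :=
      UniqueFactorizationMonoid.of_isLocalization (Submonoid.powers f) (Localization.Away f)
    have : Nonempty (GCDMonoid (Localization.Away f)) :=
      ⟨(UniqueFactorizationMonoid.toGCDMonoid (Localization.Away f))⟩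
    infer_instance

end Groth.Agent.S9247
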