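import Groth.Statements.S9249
import Groth.Agent.S5810
import Groth.Agent.Lib.Helper83.FlatLocalDim

set_option autoImplicit false
universe u
open CAlg

namespace Groth.Agent.S9249

/-- A Noetherian local ring is Cohen-Macaulay if and only if its completion is. -/
theorem result (A : Type u) [CommRing A] [IsLocalRing A]
    [IsNoetherianRing A] :
    LocCoh.IsCohenMacaulayLocalRing A ↔
      LocCoh.IsCohenMacaulayLocalRing (AdicCompletion (IsLocalRing.maximalIdeal A) A) := by
  have hN : IsNoetherianRing (AdicCompletion (IsLocalRing.maximalIdeal A) A) :=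
    Groth.Agent.Lib.Helper83.isNoetherianRing_adicCompletion _
  have hdim : ringKrullDim (AdicCompletion (IsLocalRing.maximalIdeal A) A) = ringKrullDim A :=
    Groth.Agent.Lib.Helper83.ringKrullDim_adicCompletion_eq _
      (IsLocalRing.maximalIdeal.isMaximal A).ne_top
  have hdepth : @LocCoh.depth (AdicCompletion (IsLocalRing.maximalIdeal A) A) _ _
      (AdicCompletion (IsLocalRing.maximalIdeal A) A) _ Semiring.toModule = LocCoh.depth A A :=
    Groth.Agent.S5810.result A A
  constructor
  · intro h
    refine LocCoh.IsCohenMacaulayLocalRing.mk ?_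
    rw [Module.supportDim_self_eq_ringKrullDim, hdim, hdepth,
      ← Module.supportDim_self_eq_ringKrullDim]
    exact h.supportDim_eq_depth
  · intro h
    refine LocCoh.IsCohenMacaulayLocalRing.mk ?_
    have := h.supportDim_eq_depth
    rw [Module.supportDim_self_eq_ringKrullDim, hdim] at this
    rw [Module.supportDim_self_eq_ringKrullDim, this]
    congr 1

end Groth.Agent.S9249
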