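import Groth.Statements.S9256
import Mathlib
import Groth.Agent.S0558

set_option autoImplicit false
universe u
open CAlg

namespace Groth.Agent.S9256

open TensorProduct

/-- A regular ring is reduced. -/
theorem isReduced_of_isRegularRing (R : Type u) [CommRing R] [IsRegularRing R] : IsReduced R := by
  constructor
  intro x hx
  apply eq_zero_of_localization
  intro J hJ
  have : IsRegularLocalRing (Localization.AtPrime J) := inferInstance
  have : IsDomain (Localization.AtPrime J) := Groth.Agent.S0558.result _
  exact (hx.map (algebraMap R (Localization.AtPrime J))).eq_zero

/-- An Artinian reduced ring is regular. -/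
theorem isRegularRing_of_isArtinianRing_of_isReduced (R : Type u) [CommRing R] [IsArtinianRing R]
    [IsReduced R] : IsRegularRing R := by
  have : IsNoetherianRing R := inferInstance
  rw [isRegularRing_iff]
  intro p hp
  have hf : IsField (Localization.AtPrime p) :=
    IsArtinianRing.isField_of_isReduced_of_isLocalRing _
  have := hf.isDomain
  have := hf.isPrincipalIdealRing
  infer_instance

/-- The fibre of `K` over a finite extension `k'` of the residue field `κ` of the field `k`. -/
noncomputable def fiberEquiv (k K : Type u) [Field k] [Field K] [Algebra k K] (p : Ideal k)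
    [p.IsPrime] (k' : Type u) [Field k'] [Algebra p.ResidueField k'] [Algebra k k']
    [IsScalarTower k p.ResidueField k'] :
    TensorProduct p.ResidueField k' (p.Fiber K) ≃ₐ[p.ResidueField] k' ⊗[k] K :=
  Algebra.TensorProduct.cancelBaseChange k p.ResidueField p.ResidueField k' K

/-- For a field extension K of k, the ring map k → K is regular exactly when K is separable over k, that
is, geometrically reduced over k. -/
theorem result (k K : Type u) [Field k] [Field K]
    [Algebra k K] : CAlg.IsRegularHom k K ↔ Algebra.IsGeometricallyReduced k K := by
  constructor
  · rintro ⟨-, h⟩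
    obtain ⟨-, hgr⟩ := h ⊥
    rw [Algebra.isGeometricallyReduced_field_iff]
    have hK : IsReduced (K ⊗[k] AlgebraicClosure k) := by
      apply IsReduced.tensorProduct_of_flat_of_forall_fg
      intro B hB
      -- `B` is a finite intermediate field
      let E : IntermediateField k (AlgebraicClosure k) :=
        IntermediateField.adjoin k (B : Set (AlgebraicClosure k))
      have hE : E.toSubalgebra = B := by
        rw [IntermediateField.adjoin_toSubalgebra, Algebra.adjoin_eq]
      let e : B ≃ₐ[k] E := (Subalgebra.equivOfEq _ _ hE.symm).trans
        { toFun := fun x => ⟨x.1, x.2⟩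
          invFun := fun x => ⟨x.1, x.2⟩
          left_inv := fun _ => rfl
          right_inv := fun _ => rfl
          map_mul' := fun _ _ => rfl
          map_add' := fun _ _ => rfl
          commutes' := fun _ => rfl }
      have : Algebra.FiniteType k B := (Subalgebra.fg_iff_finiteType B).mp hB
      have : Algebra.IsIntegral k B :=
        Algebra.IsIntegral.of_injective B.val Subtype.val_injective
      have : Module.Finite k B := Algebra.IsIntegral.finite
      have hfinE : Module.Finite k E := Module.Finite.equiv e.toLinearEquiv
      -- make `E` an algebra over the residue field `κ`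
      let κ := (⊥ : Ideal k).ResidueField
      let ε : k ≃ₐ[k] κ := (⊥ : Ideal k).algEquivResidueFieldOfField
      let _ : Algebra κ E := ((algebraMap k E).comp (ε.symm : κ →+* k)).toAlgebra
      have : IsScalarTower k κ E := IsScalarTower.of_algebraMap_eq (fun x => by
        change algebraMap k E x = algebraMap k E (ε.symm (algebraMap k κ x))
        rw [← Ideal.algEquivResidueFieldOfField_apply, AlgEquiv.symm_apply_apply])
      have hfinκ : Module.Finite κ E := Module.Finite.of_restrictScalars_finite k κ E
      have hreg : IsRegularRing (TensorProduct κ E ((⊥ : Ideal k).Fiber K)) := hgr E hfinκ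
      have hred2 : IsReduced (E ⊗[k] K) := by
        have hred1 := isReduced_of_isRegularRing (TensorProduct κ E ((⊥ : Ideal k).Fiber K))
        exact isReduced_of_injective (fiberEquiv k K ⊥ E).symm (AlgEquiv.injective _)
      exact isReduced_of_injective
        ((Algebra.TensorProduct.congr (AlgEquiv.refl (R := k) (A₁ := K)) e).trans
          (Algebra.TensorProduct.comm k K E)) (AlgEquiv.injective _)
    exact isReduced_of_injective (Algebra.TensorProduct.comm k (AlgebraicClosure k) K)
      (AlgEquiv.injective _)
  · intro hgr
    refine ⟨inferInstance, fun p hp => ?_⟩
    have hfinκ : Module.Finite k p.ResidueField :=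
      Module.Finite.equiv p.algEquivResidueFieldOfField.toLinearEquiv
    constructor
    · have h1 : IsNoetherianRing (K ⊗[k] p.ResidueField) := IsNoetherianRing.of_finite K _
      exact isNoetherianRing_of_ringEquiv _
        (Algebra.TensorProduct.comm k K p.ResidueField).toRingEquiv
    · intro k' _ _ hfin
      let _ : Algebra k k' := ((algebraMap p.ResidueField k').comp
        (algebraMap k p.ResidueField)).toAlgebra
      have : IsScalarTower k p.ResidueField k' := IsScalarTower.of_algebraMap_eq (fun _ => rfl)
      have : Module.Finite k k' := Module.Finite.trans p.ResidueField k'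
      have : Algebra.IsAlgebraic k k' := Algebra.IsAlgebraic.of_finite k k'
      have hred : IsReduced (k' ⊗[k] K) := inferInstance
      have hart1 : IsArtinianRing (K ⊗[k] k') := IsArtinianRing.of_finite K _
      have hart : IsArtinianRing (k' ⊗[k] K) :=
        (Algebra.TensorProduct.comm k K k').surjective.isArtinianRing
      have hreg : IsRegularRing (k' ⊗[k] K) := isRegularRing_of_isArtinianRing_of_isReduced _
      exact IsRegularRing.of_ringEquiv (fiberEquiv k K p k').symm.toRingEquiv

end Groth.Agent.S9256
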