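import Groth.Statements.S9260
import Mathlib

set_option autoImplicit false
universe u
open CAlg


namespace Groth.Agent.S9260

open Polynomial

theorem exists_repr {A R : Type u} [CommRing A] [CommRing R] [Algebra A R] (J : Ideal A) (x : R)
    (hx : x ∈ Ideal.map (algebraMap A R) J) :
    ∃ (ι : Type) (_ : Fintype ι) (j : ι → A) (r : ι → R), (∀ k, j k ∈ J) ∧
      x = ∑ k, algebraMap A R (j k) * r k := by
  unfold Ideal.map at hx
  induction hx using Submodule.span_induction with
  | mem y hy =>
    obtain ⟨a, ha, rfl⟩ := hy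
    exact ⟨Unit, inferInstance, fun _ => a, fun _ => 1, fun _ => ha, by simp⟩
  | zero => exact ⟨Empty, inferInstance, Empty.elim, Empty.elim, fun k => k.elim, by simp⟩
  | add y z _ _ hy hz =>
    obtain ⟨ι₁, _, j₁, r₁, h₁, rfl⟩ := hy
    obtain ⟨ι₂, _, j₂, r₂, h₂, rfl⟩ := hz
    refine ⟨ι₁ ⊕ ι₂, inferInstance, Sum.elim j₁ j₂, Sum.elim r₁ r₂, ?_, ?_⟩
    · rintro (k | k)
      · exact h₁ k
      · exact h₂ k
    · rw [Fintype.sum_sum_type]
      simp
  | smul c y _ hy =>
    obtain ⟨ι₁, _, j₁, r₁, h₁, rfl⟩ := hy
    refine ⟨ι₁, inferInstance, j₁, fun k => c * r₁ k, h₁, ?_⟩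
    rw [smul_eq_mul, Finset.mul_sum]
    refine Finset.sum_congr rfl fun k _ => ?_
    ring

end Groth.Agent.S9260

namespace Groth.Agent.S9260

/-- Suppose a finite group G with n elements acts on a ring R by ring automorphisms, A → R is a ring map
compatible with the action whose image contains the invariants (so that A maps onto R^G), J is an
ideal of A, and x lies in JR. Then ∏_σ (T - σ(x)) is the image of a monic polynomial over A of
degree at most n whose coefficients below degree n all lie in J. (The published statement takes A =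
R^G and a polynomial of degree n; this row allows any such A mapping onto R^G and asks degree at
most n, which is the same when A is nonzero.) -/
theorem result (A R G : Type u) [CommRing A]
    [CommRing R] [Algebra A R] [Group G] [Fintype G] [MulSemiringAction G R] [SMulCommClass G A R]
    [Algebra.IsInvariant A R G] (J : Ideal A) (x : R) (hx : x ∈ Ideal.map (algebraMap A R) J) :
    ∃ P : Polynomial A, P.Monic ∧ P.natDegree ≤ Fintype.card G ∧
      (∀ i : ℕ, i < Fintype.card G → P.coeff i ∈ J) ∧
      Polynomial.map (algebraMap A R) P = ∏ σ : G, (Polynomial.X - Polynomial.C (σ • x)) := by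
  classical
  obtain ⟨ι, _, j, r, hjJ, rfl⟩ := Groth.Agent.S9260.exists_repr J x hx
  set n := Fintype.card G with hn
  -- generic linear forms
  let Xσ : G → MvPolynomial ι R := fun σ => ∑ k, MvPolynomial.X k * MvPolynomial.C (σ • r k)
  let Q : Polynomial (MvPolynomial ι R) := ∏ σ : G, (Polynomial.X - Polynomial.C (Xσ σ))
  -- invariance
  have hXσmap : ∀ τ σ : G, MvPolynomial.map (MulSemiringAction.toRingHom G R τ) (Xσ σ) =
      Xσ (τ * σ) := by
    intro τ σ
    simp only [Xσ, map_sum, map_mul, MvPolynomial.map_X, MvPolynomial.map_C,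
      MulSemiringAction.toRingHom_apply, mul_smul]
  have hQmap : ∀ τ : G, Polynomial.map (MvPolynomial.map (MulSemiringAction.toRingHom G R τ)) Q
      = Q := by
    intro τ
    simp only [Q, Polynomial.map_prod, Polynomial.map_sub, Polynomial.map_X, Polynomial.map_C,
      hXσmap]
    exact Fintype.prod_equiv (Equiv.mulLeft τ) _ _ (fun σ => rfl)
  have hinv : ∀ (i : ℕ) (α : ι →₀ ℕ) (τ : G),
      τ • MvPolynomial.coeff α (Q.coeff i) = MvPolynomial.coeff α (Q.coeff i) := by
    intro i α τ
    have h1 := congrArg (fun P => MvPolynomial.coeff α (Polynomial.coeff P i)) (hQmap τ)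
    simp only [Polynomial.coeff_map, MvPolynomial.coeff_map,
      MulSemiringAction.toRingHom_apply] at h1
    exact h1
  have hlift : ∀ (i : ℕ) (α : ι →₀ ℕ), ∃ a : A,
      algebraMap A R a = MvPolynomial.coeff α (Q.coeff i) := fun i α =>
    Algebra.IsInvariant.isInvariant (G := G) _ (hinv i α)
  choose ℓ hℓ using hlift
  -- evaluations
  have hev : Polynomial.map (MvPolynomial.eval (fun k => algebraMap A R (j k))) Q =
      ∏ σ : G, (Polynomial.X - Polynomial.C (σ • ∑ k, algebraMap A R (j k) * r k)) := by
    simp only [Q, Polynomial.map_prod, Polynomial.map_sub, Polynomial.map_X, Polynomial.map_C]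
    refine Finset.prod_congr rfl fun σ _ => ?_
    congr 2
    simp only [Xσ, map_sum, map_mul, MvPolynomial.eval_X, MvPolynomial.eval_C, Finset.smul_sum]
    refine Finset.sum_congr rfl fun k _ => ?_
    rw [← Algebra.smul_def, ← Algebra.smul_def, smul_comm σ (j k) (r k)]
  have hev0 : Polynomial.map (MvPolynomial.constantCoeff (σ := ι) (R := R)) Q = Polynomial.X ^ n := by
    simp only [Q, Polynomial.map_prod, Polynomial.map_sub, Polynomial.map_X, Polynomial.map_C]
    have : ∀ σ : G, MvPolynomial.constantCoeff (Xσ σ) = 0 := by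
      intro σ
      simp only [Xσ, map_sum, map_mul, MvPolynomial.constantCoeff_X, zero_mul,
        Finset.sum_const_zero]
    simp only [this, map_zero, sub_zero, Finset.prod_const, Finset.card_univ, hn]
  have hc0 : ∀ i, i < n → MvPolynomial.coeff 0 (Q.coeff i) = 0 := by
    intro i hi
    have h1 := congrArg (fun P => Polynomial.coeff P i) hev0
    simp only [Polynomial.coeff_map, Polynomial.coeff_X_pow, if_neg (ne_of_lt hi)] at h1
    rw [MvPolynomial.constantCoeff_eq] at h1
    exact h1
  -- the coefficients
  let Pc : ℕ → A := fun i => ∑ α ∈ (Q.coeff i).support, ℓ i α * ∏ k, (j k) ^ (α k)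
  have hPcmap : ∀ i, algebraMap A R (Pc i) =
      MvPolynomial.eval (fun k => algebraMap A R (j k)) (Q.coeff i) := by
    intro i
    rw [MvPolynomial.eval_eq']
    simp only [Pc, map_sum, map_mul, map_prod, map_pow, hℓ]
  have hPcJ : ∀ i, i < n → Pc i ∈ J := by
    intro i hi
    refine J.sum_mem fun α hα => J.mul_mem_left _ ?_
    have hα0 : α ≠ 0 := by
      rintro rfl
      rw [MvPolynomial.mem_support_iff] at hα
      exact hα (hc0 i hi)
    obtain ⟨k, hk⟩ : ∃ k, α k ≠ 0 := by
      by_contra hcon
      push Not at hcon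
      exact hα0 (Finsupp.ext hcon)
    exact Ideal.mem_of_dvd J (Finset.dvd_prod_of_mem _ (Finset.mem_univ k))
      (Ideal.pow_mem_of_mem J (hjJ k) _ (Nat.pos_of_ne_zero hk))
  have hdeg : (∑ i : Fin n, Polynomial.C (Pc i) * Polynomial.X ^ (i : ℕ)).degree < (n : WithBot ℕ) :=
    Polynomial.degree_sum_fin_lt (fun i : Fin n => Pc i)
  refine ⟨Polynomial.X ^ n + ∑ i : Fin n, Polynomial.C (Pc i) * Polynomial.X ^ (i : ℕ),
    Polynomial.monic_X_pow_add hdeg, ?_, ?_, ?_⟩
  · refine (Polynomial.natDegree_add_le _ _).trans (max_le (Polynomial.natDegree_X_pow_le n) ?_)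
    exact Polynomial.natDegree_le_of_degree_le hdeg.le
  · intro i hi
    have : (Polynomial.X ^ n + ∑ i : Fin n, Polynomial.C (Pc i) * Polynomial.X ^ (i : ℕ)).coeff i
        = Pc i := by
      rw [Polynomial.coeff_add, Polynomial.coeff_X_pow, if_neg (ne_of_lt hi), zero_add,
        Polynomial.finsetSum_coeff]
      simp only [Polynomial.coeff_C_mul, Polynomial.coeff_X_pow]
      rw [Finset.sum_eq_single (⟨i, hi⟩ : Fin n)]
      · simp
      · intro b _ hb
        have : i ≠ (b : ℕ) := fun h => hb (Fin.ext h.symm)
        rw [if_neg this, mul_zero]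
      · intro h; exact absurd (Finset.mem_univ _) h
    rw [this]
    exact hPcJ i hi
  · rw [← hev]
    rcases subsingleton_or_nontrivial R with hR | hR
    · exact Subsingleton.elim _ _
    have hmonic : (Polynomial.map (MvPolynomial.eval (fun k => algebraMap A R (j k))) Q).Monic := by
      rw [hev]
      exact Polynomial.monic_prod_X_sub_C _ _
    have hnat : (Polynomial.map (MvPolynomial.eval (fun k => algebraMap A R (j k))) Q).natDegree
        = n := by
      rw [hev, Polynomial.natDegree_finset_prod_X_sub_C_eq_card, Finset.card_univ]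
    rw [hmonic.as_sum, hnat, Finset.sum_range]
    simp only [Polynomial.map_add, Polynomial.map_pow, Polynomial.map_X, Polynomial.map_sum,
      Polynomial.map_mul, Polynomial.map_C, hPcmap, Polynomial.coeff_map]

end Groth.Agent.S9260
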