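import Groth.Statements.S9261
import Mathlib
-- import your own Groth.Agent.* helpers here

set_option autoImplicit false
universe u
open CAlg

namespace Groth.Agent.S9261

open TensorProduct

theorem main (S R A G : Type u) [CommRing S] [CommRing R] [Algebra S R]
    [FaithfulSMul S R] [Group G] [Finite G] [MulSemiringAction G R] [SMulCommClass G S R]
    [Algebra.IsInvariant S R G] [CommRing A] [Algebra S A] [Module.Flat S A] :
    Function.Injective (algebraMap A (TensorProduct S A R)) ∧
      ∀ x : TensorProduct S A R,
        (∀ σ : G, Algebra.TensorProduct.map (AlgHom.id S A) (MulSemiringAction.toAlgHom S R σ) x = x) →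
          x ∈ Set.range (algebraMap A (TensorProduct S A R)) := by
  classical
  have : Fintype G := Fintype.ofFinite G
  let ι : S →ₗ[S] R := Algebra.linearMap S R
  let d : R →ₗ[S] (G → R) :=
    LinearMap.pi (fun σ => (MulSemiringAction.toAlgHom S R σ).toLinearMap - LinearMap.id)
  have hι : Function.Injective ι := FaithfulSMul.algebraMap_injective S R
  have hex : Function.Exact ι d := by
    intro r
    constructor
    · intro hr
      have : ∀ σ : G, σ • r = r := by
        intro σ
        have := congrFun hr σ
        simp only [d, LinearMap.pi_apply, LinearMap.sub_apply, AlgHom.toLinearMap_apply,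
          MulSemiringAction.toAlgHom_apply, LinearMap.id_apply, Pi.zero_apply, sub_eq_zero] at this
        exact this
      obtain ⟨s, hs⟩ := Algebra.IsInvariant.isInvariant (A := S) (G := G) r this
      exact ⟨s, hs⟩
    · rintro ⟨s, rfl⟩
      ext σ
      simp only [d, ι, LinearMap.pi_apply, LinearMap.sub_apply, AlgHom.toLinearMap_apply,
        MulSemiringAction.toAlgHom_apply, LinearMap.id_apply, Pi.zero_apply, Algebra.linearMap_apply,
        smul_algebraMap, sub_self]
  have hex' := Module.Flat.lTensor_exact A hex
  have hinj' : Function.Injective (ι.lTensor A) := Module.Flat.lTensor_preserves_injective_linearMap ι hι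
  have hmap : ∀ a : A, algebraMap A (A ⊗[S] R) a = ι.lTensor A (a ⊗ₜ 1) := by
    intro a
    simp [ι, Algebra.TensorProduct.algebraMap_apply]
  have key : ∀ y : A ⊗[S] S, (TensorProduct.rid S A y) ⊗ₜ[S] (1 : S) = y := by
    intro y
    induction y using TensorProduct.induction_on with
    | zero => simp
    | tmul a s =>
      simp only [TensorProduct.rid_tmul]
      rw [TensorProduct.smul_tmul, smul_eq_mul, mul_one]
    | add y z hy hz =>
      simp only [map_add, TensorProduct.add_tmul, hy, hz]
  constructor
  · intro a b hab
    rw [hmap, hmap] at hab
    have h1 := hinj' hab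
    have h2 := congrArg (TensorProduct.rid S A) h1
    simpa using h2
  · intro x hx
    have hd : d.lTensor A x = 0 := by
      apply (TensorProduct.piRight S S A (fun _ : G => R)).injective
      rw [map_zero]
      ext σ
      have hσ : ∀ y : A ⊗[S] R, (TensorProduct.piRight S S A (fun _ : G => R)) (d.lTensor A y) σ =
          Algebra.TensorProduct.map (AlgHom.id S A) (MulSemiringAction.toAlgHom S R σ) y - y := by
        intro y
        induction y using TensorProduct.induction_on with
        | zero => simp
        | tmul a r =>
          simp [d, TensorProduct.tmul_sub]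
        | add y z hy hz =>
          simp only [map_add, Pi.add_apply, hy, hz]
          abel
      rw [hσ, hx σ, sub_self]
      rfl
    obtain ⟨y, rfl⟩ := (hex' x).1 hd
    refine ⟨TensorProduct.rid S A y, ?_⟩
    rw [hmap]
    congr 1
    exact key y



/-- Let G be a finite group acting on a ring R, S = R^G its ring of invariants (here: S → R injective
with image the invariants) and A a flat S-algebra. Then the map A → A ⊗_S R is injective with image
the invariants of G acting on A ⊗_S R through the second factor; that is, A → (A ⊗_S R)^G is an
isomorphism. -/
theorem result (S R A G : Type u) [CommRing S] [CommRing R] [Algebra S R]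
    [FaithfulSMul S R] [Group G] [Finite G] [MulSemiringAction G R] [SMulCommClass G S R]
    [Algebra.IsInvariant S R G] [CommRing A] [Algebra S A] [Module.Flat S A] :
    Function.Injective (algebraMap A (TensorProduct S A R)) ∧
      ∀ x : TensorProduct S A R,
        (∀ σ : G, Algebra.TensorProduct.map (AlgHom.id S A) (MulSemiringAction.toAlgHom S R σ) x = x) →
          x ∈ Set.range (algebraMap A (TensorProduct S A R)) := by
  exact main S R A G

end Groth.Agent.S9261
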