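import Groth.Statements.S9263
-- import your own Groth.Agent.* helpers here

set_option autoImplicit false
universe u
attribute [local instance] HasDerivedCategory.standard
open CategoryTheory
open DerCA

namespace Groth.Agent.S9263

open CategoryTheory.Limits CategoryTheory.Pretriangulated CochainComplex in
theorem cocone_triangleh_distinguished {C : Type*} [Category C] [Preadditive C] [HasZeroObject C]
    [HasBinaryBiproducts C] {K L : CochainComplex C ℤ} (φ : K ⟶ L) :
    (HomotopyCategory.quotient C (ComplexShape.up ℤ)).mapTriangle.obj (mappingCocone.triangle φ) ∈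
      distTriang (HomotopyCategory C (ComplexShape.up ℤ)) := by
  rw [rotate_distinguished_triangle]
  exact isomorphic_distinguished _ (HomotopyCategory.mappingCone_triangleh_distinguished φ) _
    ((HomotopyCategory.quotient C (ComplexShape.up ℤ)).mapTriangleRotateIso.app _ ≪≫
    (HomotopyCategory.quotient C (ComplexShape.up ℤ)).mapTriangle.mapIso
      (mappingCocone.rotateTriangleIso φ))

theorem bijective_mkLinearMap_of_isUnit {R : Type u} [CommRing R] (f : R) (hf : IsUnit f)
    (N : Type u) [AddCommGroup N] [Module R N] :
    Function.Bijective (LocalizedModule.mkLinearMap (Submonoid.powers f) N) := by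
  have hS : Submonoid.powers f ≤ IsUnit.submonoid R := by
    rintro x ⟨n, rfl⟩
    exact hf.pow n
  have : IsLocalization (Submonoid.powers f) R := IsLocalization.of_le_isUnit hS
  have : IsLocalizedModule (Submonoid.powers f) (LinearMap.id : N →ₗ[R] N) :=
    isLocalizedModule_id (Submonoid.powers f) N R
  let e := IsLocalizedModule.linearEquiv (Submonoid.powers f) (LinearMap.id : N →ₗ[R] N)
    (LocalizedModule.mkLinearMap (Submonoid.powers f) N)
  have : (LocalizedModule.mkLinearMap (Submonoid.powers f) N : N → _) = e := by
    funext x
    exact (IsLocalizedModule.linearEquiv_apply (Submonoid.powers f) (LinearMap.id : N →ₗ[R] N)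
      (LocalizedModule.mkLinearMap (Submonoid.powers f) N) x).symm
  rw [this]
  exact e.bijective

open CategoryTheory.Limits CategoryTheory.Pretriangulated CochainComplex in
theorem aux {R : Type u} [CommRing R] (M : ModuleCat.{u} R) (fs : List R)
    (hf : ∃ f ∈ fs, IsUnit f) :
    IsZero ((HomotopyCategory.quotient _ _).obj (DerCA.extCech M fs)) := by
  induction fs with
  | nil => obtain ⟨f, hf, -⟩ := hf; simp at hf
  | cons g gs ih =>
    set K := DerCA.extCech M gs with hK
    set φ := DerCA.locCxUnit (Submonoid.powers g) K with hφ
    have hT := cocone_triangleh_distinguished φ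
    change IsZero ((HomotopyCategory.quotient _ _).obj (mappingCocone φ))
    by_cases hg : IsUnit g
    · -- φ is an isomorphism
      have hiso : IsIso φ := by
        have : ∀ n, IsIso (φ.f n) := by
          intro n
          change IsIso (ModuleCat.ofHom (LocalizedModule.mkLinearMap (Submonoid.powers g) (K.X n)))
          rw [ConcreteCategory.isIso_iff_bijective]
          exact bijective_mkLinearMap_of_isUnit g hg (K.X n)
        exact HomologicalComplex.Hom.isIso_of_components φ
      refine Triangle.isZero₁_of_isIso₂ _ hT ?_
      change IsIso ((HomotopyCategory.quotient _ _).map φ)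
      infer_instance
    · have hgs : ∃ f ∈ gs, IsUnit f := by
        obtain ⟨f, hf, hu⟩ := hf
        rcases List.mem_cons.mp hf with rfl | h
        · exact absurd hu hg
        · exact ⟨f, h, hu⟩
      have h2 := ih hgs
      obtain ⟨h⟩ := (HomotopyCategory.isZero_quotient_obj_iff _).mp h2
      have h3 : IsZero ((HomotopyCategory.quotient _ _).obj
          ((DerCA.locCx (Submonoid.powers g)).obj K)) := by
        rw [HomotopyCategory.isZero_quotient_obj_iff]
        have h' := (DerCA.locFunctor (Submonoid.powers g)).mapHomotopy h
        refine ⟨(Homotopy.ofEq ?_).trans (h'.trans (Homotopy.ofEq ?_))⟩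
        · simp
        · simp
      exact Triangle.isZero₁_of_isZero₂₃ _ hT h2 h3

/-- Let R be a ring, f_1, ..., f_r elements of R such that some f_i is a unit, and M an R-module. Then
the extended alternating Cech complex of M with respect to f_1, ..., f_r is homotopy equivalent to
zero: its identity map is null-homotopic. -/
theorem result (R : Type u) [CommRing R] (fs : List R)
    (hf : ∃ f ∈ fs, IsUnit f) (M : ModuleCat.{u} R) :
    Nonempty (Homotopy (𝟙 (DerCA.extCech M fs)) 0) :=
  (HomotopyCategory.isZero_quotient_obj_iff _).mp (aux M fs hf)

end Groth.Agent.S9263
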