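import Groth.Statements.S9264
-- import your own Groth.Agent.* helpers here

set_option autoImplicit false
universe u
attribute [local instance] HasDerivedCategory.standard
open CategoryTheory
open DerCA

namespace Groth.Agent.S9264

theorem isZero_X {R : Type u} [CommRing R] (fs : List R) (M : ModuleCat.{u} R) :
    ∀ (q : ℤ), (q < 0 ∨ (fs.length : ℤ) < q) → Limits.IsZero ((DerCA.extCech M fs).X q) := by
  induction fs with
  | nil =>
    intro q hq
    apply HomologicalComplex.isZero_single_obj_X
    rcases hq with h | h
    · omega
    · simp at h; omega
  | cons f fs ih =>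
    intro q hq
    have e := DerCA.mappingCoconeXIso (DerCA.locCxUnit (Submonoid.powers f) (DerCA.extCech M fs)) q
    refine Limits.IsZero.of_iso ?_ e
    have h1 : Limits.IsZero ((DerCA.extCech M fs).X q) := by
      apply ih
      rcases hq with h | h
      · left; exact h
      · right; simp at h; omega
    have h2 : Limits.IsZero ((DerCA.extCech M fs).X (q - 1)) := by
      apply ih
      rcases hq with h | h
      · left; omega
      · right; simp at h; omega
    have h3 : Limits.IsZero (((DerCA.locCx (Submonoid.powers f)).obj (DerCA.extCech M fs)).X (q - 1)) :=
      (DerCA.locFunctor (Submonoid.powers f)).map_isZero h2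
    rw [Limits.IsZero.iff_id_eq_zero]
    apply Limits.biprod.hom_ext
    · exact h1.eq_of_tgt _ _
    · exact h3.eq_of_tgt _ _

/-- The cohomology of the extended alternating Cech complex of a module M with respect to f_1, ..., f_r
vanishes in degrees outside [0, r]. -/
theorem result (R : Type u) [CommRing R] (fs : List R)
    (M : ModuleCat.{u} R) (q : ℤ) (hq : q < 0 ∨ (fs.length : ℤ) < q) :
    Limits.IsZero (DerCA.extCechH fs M q) := by
  have hX := isZero_X fs M q hq
  exact ShortComplex.isZero_homology_of_isZero_X₂ _ hX

end Groth.Agent.S9264
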