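import Groth.Statements.S9273
import Mathlib
-- import your own Groth.Agent.* helpers here

set_option autoImplicit false
universe u
open CAlgX

namespace Groth.Agent.S9273

open TensorProduct

theorem main (A B A' : Type u) [CommRing A] [CommRing B]
    [CommRing A'] [Algebra A B] [Algebra A A'] (r : ℕ) (f : Fin r → B)
    (hflat : Module.Flat A (B ⧸ Ideal.span (Set.range f))) (hq : CAlgX.IsH1Regular f) :
    CAlgX.IsH1Regular (fun i => ((1 : A') ⊗ₜ[A] f i : TensorProduct A A' B)) := by
  classical
  intro a' ha'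
  set S' := Submodule.span (A' ⊗[A] B) {v : Fin r → A' ⊗[A] B | ∃ i j : Fin r,
    v = Pi.single i ((1 : A') ⊗ₜ[A] f j) - Pi.single j ((1 : A') ⊗ₜ[A] f i)} with hS'
  -- the maps
  let φ : (Fin r → B) →ₗ[A] B :=
    { toFun := fun b => ∑ i, b i * f i
      map_add' := by intro b c; simp [add_mul, Finset.sum_add_distrib]
      map_smul' := by intro c b; simp [Finset.smul_sum, smul_mul_assoc] }
  let J : Submodule A B := (Ideal.span (Set.range f)).restrictScalars A
  have hφJ : ∀ b, φ b ∈ J := by
    intro b
    change ∑ i, b i * f i ∈ Ideal.span (Set.range f)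
    exact Ideal.sum_mem _ fun i _ => Ideal.mul_mem_left _ _ (Ideal.subset_span ⟨i, rfl⟩)
  let φJ : (Fin r → B) →ₗ[A] J := φ.codRestrict J hφJ
  have hφJsurj : Function.Surjective φJ := by
    rintro ⟨x, hx⟩
    have hx' : x ∈ Ideal.span (Set.range f) := hx
    rw [Ideal.mem_span_range_iff_exists_fun] at hx'
    obtain ⟨c, hc⟩ := hx'
    exact ⟨c, Subtype.ext hc⟩
  let K : Submodule A (Fin r → B) := LinearMap.ker φ
  have hex : Function.Exact K.subtype φJ := by
    intro b
    constructor
    · intro hb
      have : φ b = 0 := congrArg Subtype.val hb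
      exact ⟨⟨b, this⟩, rfl⟩
    · rintro ⟨⟨b, hb⟩, rfl⟩
      exact Subtype.ext hb
  have hex' := lTensor_exact A' hex hφJsurj
  -- injectivity of A' ⊗ J → A' ⊗ B
  have hinj : Function.Injective (J.subtype.lTensor A') := by
    have hmk : Function.Exact J.subtype ((Ideal.Quotient.mkₐ A (Ideal.span (Set.range f))).toLinearMap) := by
      intro b
      constructor
      · intro hb
        exact ⟨⟨b, Ideal.Quotient.eq_zero_iff_mem.1 hb⟩, rfl⟩
      · rintro ⟨⟨b, hb⟩, rfl⟩
        exact Ideal.Quotient.eq_zero_iff_mem.2 hb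
    exact LinearMap.lTensor_injective_of_exact_of_flat
      ((Ideal.Quotient.mkₐ A (Ideal.span (Set.range f))).toLinearMap)
      (Ideal.Quotient.mkₐ_surjective A _) J.subtype Subtype.val_injective hmk A'
  let e := TensorProduct.piRight A A A' (fun _ : Fin r => B)
  -- ψ ∘ e = φ.lTensor
  have hψ : ∀ x : A' ⊗[A] (Fin r → B), ∑ i, e x i * ((1 : A') ⊗ₜ[A] f i) = φ.lTensor A' x := by
    intro x
    induction x using TensorProduct.induction_on with
    | zero => simp
    | tmul c b =>
      simp only [e, TensorProduct.piRight_apply, TensorProduct.piRightHom_tmul, LinearMap.lTensor_tmul,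
        Algebra.TensorProduct.tmul_mul_tmul, mul_one]
      change _ = c ⊗ₜ[A] (∑ i, b i * f i)
      rw [TensorProduct.tmul_sum]
    | add x y hx hy =>
      simp only [map_add, Pi.add_apply, add_mul, Finset.sum_add_distrib, hx, hy]
  -- the key membership
  have hE : ∀ (c : A') (κ : Fin r → B), κ ∈ Submodule.span B {v : Fin r → B | ∃ i j : Fin r,
      v = Pi.single i (f j) - Pi.single j (f i)} → (fun l => c ⊗ₜ[A] κ l : Fin r → A' ⊗[A] B) ∈ S' := by
    intro c κ h1
    induction h1 using Submodule.span_induction with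
    | mem v hv =>
      obtain ⟨i, j, rfl⟩ := hv
      have : (fun l => c ⊗ₜ[A] (Pi.single i (f j) - Pi.single j (f i) : Fin r → B) l) =
          (c ⊗ₜ[A] (1 : B)) • (Pi.single i ((1 : A') ⊗ₜ[A] f j) - Pi.single j ((1 : A') ⊗ₜ[A] f i)) := by
        funext l
        simp only [Pi.sub_apply, Pi.smul_apply, smul_eq_mul, Pi.single_apply, TensorProduct.tmul_sub, mul_sub]
        split_ifs <;> simp [Algebra.TensorProduct.tmul_mul_tmul]
      rw [this]
      exact Submodule.smul_mem _ _ (Submodule.subset_span ⟨i, j, rfl⟩)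
    | zero =>
      have : (fun l => c ⊗ₜ[A] (0 : Fin r → B) l) = 0 := by
        funext l; simp
      rw [this]; exact Submodule.zero_mem _
    | add v w _ _ hv hw =>
      have : (fun l => c ⊗ₜ[A] (v + w) l) = (fun l => c ⊗ₜ[A] v l) + (fun l => c ⊗ₜ[A] w l) := by
        funext l; simp [TensorProduct.tmul_add]
      rw [this]; exact Submodule.add_mem _ hv hw
    | smul b v _ hv =>
      have : (fun l => c ⊗ₜ[A] (b • v) l) = ((1 : A') ⊗ₜ[A] b) • (fun l => c ⊗ₜ[A] v l) := by
        funext l; simp [Algebra.TensorProduct.tmul_mul_tmul]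
      rw [this]; exact Submodule.smul_mem _ _ hv
  -- now conclude
  have hfinal : ∀ y : A' ⊗[A] K, e ((K.subtype.lTensor A') y) ∈ S' := by
    intro y
    induction y using TensorProduct.induction_on with
    | zero => simp
    | tmul c κ =>
      have : e ((K.subtype.lTensor A') (c ⊗ₜ[A] κ)) = fun l => c ⊗ₜ[A] (κ : Fin r → B) l := by
        funext l
        simp [e]
      rw [this]
      exact hE c κ (hq κ κ.2)
    | add y z hy hz =>
      rw [map_add, map_add]
      exact Submodule.add_mem _ hy hz
  obtain ⟨x, rfl⟩ := e.surjective a'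
  have h1 : φ.lTensor A' x = 0 := by rw [← hψ]; exact ha'
  have h2 : φJ.lTensor A' x = 0 := by
    apply hinj
    rw [map_zero, ← h1]
    rw [← LinearMap.comp_apply, ← LinearMap.lTensor_comp]
    rfl
  obtain ⟨y, rfl⟩ := (hex' x).1 h2
  exact hfinal y



/-- Let A → B and A → A' be ring maps and B' = A' ⊗_A B. If f_1, ..., f_r is an H_1-regular sequence in
B with B/(f_1, ..., f_r) flat over A, then the images of the f_i in B' form an H_1-regular sequence. -/
theorem result (A B A' : Type u) [CommRing A] [CommRing B]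
    [CommRing A'] [Algebra A B] [Algebra A A'] (r : ℕ) (f : Fin r → B)
    (hflat : Module.Flat A (B ⧸ Ideal.span (Set.range f))) (hq : CAlgX.IsH1Regular f) :
    CAlgX.IsH1Regular (fun i => ((1 : A') ⊗ₜ[A] f i : TensorProduct A A' B)) := by
  exact main A B A' r f hflat hq

end Groth.Agent.S9273
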