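import Groth.Statements.S9274
import Mathlib
import Groth.Agent.Lib.Helper96.FiniteFreeModel

set_option autoImplicit false
universe u
open CAlg

namespace Groth.Agent.S9274
open TensorProduct

/-- For a Noetherian ring R, being a G-ring is equivalent to the following: whenever S is an R-algebra
that is finite and free as an R-module, every formal fibre of every local ring of S is a regular
ring. -/
theorem result (R : Type u) [CommRing R] [IsNoetherianRing R] :
    CAlg.IsGRing R ↔
      ∀ (S : Type u) [CommRing S] [Algebra R S] [Module.Finite R S] [Module.Free R S]
        (q : Ideal S) [q.IsPrime] (p : Ideal (Localization.AtPrime q)) [p.IsPrime],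
        IsRegularRing (EGA4.formalFibre (Localization.AtPrime q) p) := by
  classical
  constructor
  · intro hG S _ _ _ _ q _ P _
    have h := hG.2 (q.comap (algebraMap R S))
    have hD := Groth.Agent.Lib.Helper96.isRegularHom_adicCompletion_of_finite_global R S q
      (q.comap (algebraMap R S)) rfl h
    haveI : IsRegularRing (P.ResidueField ⊗[P.ResidueField]
        (EGA4.formalFibre (Localization.AtPrime q) P)) :=
      (hD.2 P).2 P.ResidueField inferInstance
    exact IsRegularRing.of_ringEquiv (R := P.ResidueField ⊗[P.ResidueField]
        (EGA4.formalFibre (Localization.AtPrime q) P))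
      (Algebra.TensorProduct.lid P.ResidueField
        (EGA4.formalFibre (Localization.AtPrime q) P)).toRingEquiv
  · intro H
    refine ⟨inferInstance, fun p _ => ⟨inferInstance, fun Q _ => ⟨?_, ?_⟩⟩⟩
    · exact Groth.Agent.Lib.Helper96.isNoetherianRing_fiber (Localization.AtPrime p) _ Q
    · exact Groth.Agent.Lib.Helper96.isGeometricallyRegular_formalFibre_of_finite_free R H p Q

end Groth.Agent.S9274
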