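import Groth.Statements.S9275
import Mathlib.RingTheory.RingHom.Etale
import Mathlib.RingTheory.Localization.Away.Basic
-- import your own Groth.Agent.* helpers here

set_option autoImplicit false
universe u
open EtAlg

namespace Groth.Agent.S9275

theorem etale_double {A B : Type u} [CommRing A] [CommRing B] [Algebra A B] (g h : B)
    (hh : Algebra.Etale A (Localization.Away h)) :
    ((algebraMap (Localization.Away g)
        (Localization.Away (algebraMap B (Localization.Away g) h))).comp
      (algebraMap A (Localization.Away g))).Etale := by
  -- `C'` : localize first at `h`, then at `g`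
  let C' := Localization.Away (algebraMap B (Localization.Away h) g)
  let D := Localization.Away (algebraMap B (Localization.Away g) h)
  have hC' : IsLocalization.Away (g * h) C' := inferInstance
  have hD : IsLocalization.Away (g * h) D := inferInstance
  have hetC' : Algebra.Etale A C' := Algebra.Etale.comp A (Localization.Away h) C'
  let e : C' ≃ₐ[B] D := IsLocalization.algEquiv (Submonoid.powers (g * h)) C' D
  have key : (algebraMap (Localization.Away g) D).comp (algebraMap A (Localization.Away g)) =
      e.toRingEquiv.toRingHom.comp (algebraMap A C') := by
    ext a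
    simp only [RingHom.comp_apply]
    rw [IsScalarTower.algebraMap_apply A B (Localization.Away g),
      ← IsScalarTower.algebraMap_apply B (Localization.Away g) D,
      IsScalarTower.algebraMap_apply A (Localization.Away h) C',
      IsScalarTower.algebraMap_apply A B (Localization.Away h),
      ← IsScalarTower.algebraMap_apply B (Localization.Away h) C']
    exact (e.commutes (algebraMap A B a)).symm
  rw [key]
  exact RingHom.Etale.respectsIso.1 _ _ ((RingHom.etale_algebraMap (R := A) (S := C')).mpr hetC')

/-- Let A → B be a ring map and J an ideal of B such that A → B is étale at every prime of V(J), in the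
sense that every prime q ⊇ J has some h ∉ q with A → B_h étale. Then there is g ∈ B mapping to a
unit of B/J such that A → B_g is étale. -/
theorem result (A B : Type u) [CommRing A] [CommRing B]
    [Algebra A B] (J : Ideal B)
    (h : ∀ (q : Ideal B) [q.IsPrime], J ≤ q → ∃ h : B, h ∉ q ∧ Algebra.Etale A (Localization.Away h)) :
    ∃ g : B, IsUnit (Ideal.Quotient.mk J g) ∧ Algebra.Etale A (Localization.Away g) := by
  let T : Set B := {h | Algebra.Etale A (Localization.Away h)}
  have htop : J ⊔ Ideal.span T = ⊤ := by
    by_contra hne
    obtain ⟨q, hq, hle⟩ := Ideal.exists_le_maximal _ hne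
    have := hq.isPrime
    obtain ⟨h', hh'q, hh'⟩ := h q (le_sup_left.trans hle)
    exact hh'q (hle (Ideal.mem_sup_right (Ideal.subset_span hh')))
  have h1 : (1 : B) ∈ J ⊔ Ideal.span T := by rw [htop]; trivial
  obtain ⟨j, hj, g, hg, hjg⟩ := Submodule.mem_sup.mp h1
  refine ⟨g, ?_, ?_⟩
  · have : Ideal.Quotient.mk J g = 1 := by
      have h2 := congrArg (Ideal.Quotient.mk J) hjg
      rw [map_add, Ideal.Quotient.eq_zero_iff_mem.mpr hj, zero_add, map_one] at h2
      exact h2
    rw [this]; exact isUnit_one
  · rw [← RingHom.etale_algebraMap]
    apply RingHom.Etale.ofLocalizationSpanTarget (algebraMap A (Localization.Away g))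
      ((algebraMap B (Localization.Away g)) '' T)
    · rw [← Ideal.map_span, Ideal.eq_top_iff_one]
      have hu : IsUnit (algebraMap B (Localization.Away g) g) :=
        IsLocalization.Away.algebraMap_isUnit g
      have hmem : algebraMap B (Localization.Away g) g ∈
          Ideal.map (algebraMap B (Localization.Away g)) (Ideal.span T) :=
        Ideal.mem_map_of_mem _ hg
      exact (Ideal.eq_top_of_isUnit_mem _ hmem hu) ▸ Submodule.mem_top
    · rintro ⟨r, h', hh', rfl⟩
      exact etale_double g h' hh'

end Groth.Agent.S9275
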