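import Groth.Statements.S9279
-- import your own Groth.Agent.* helpers here
import Groth.Agent.Lib.Helper15.FormalConn3
import Groth.Agent.Lib.Helper83.FlatLocalDim
import Groth.Agent.Lib.Helper83.FlatCompl
import Groth.Agent.Lib.Helper37.Hz31
import Groth.Agent.Lib.Helper37.Hz20
set_option linter.style.haveILetI false

set_option autoImplicit false
universe u
open Brnch

namespace Groth.Agent.S9279

open IsLocalRing Groth.Agent.Lib.Helper37.Hz

/-- For a Noetherian local ring A with henselization S and completion A^ at its maximal ideal, the
spectrum of A^ with its closed point removed is preconnected exactly when the spectrum of S with its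
closed point removed is (the two sets are empty together, namely when A has dimension zero). Stated
as: the complement of the closed point in Spec A^ is preconnected iff the complement of the closed
point in Spec S is. -/
theorem result (A S : Type u) [CommRing A]
    [IsLocalRing A] [IsNoetherianRing A] [CommRing S] [IsLocalRing S] [Algebra A S]
    [IsLocalHom (algebraMap A S)] [Hensel.IsHenselization A S] :
    IsPreconnected
        ({IsLocalRing.closedPoint (AdicCompletion (IsLocalRing.maximalIdeal A) A)}ᶜ :
          Set (PrimeSpectrum (AdicCompletion (IsLocalRing.maximalIdeal A) A))) ↔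
      IsPreconnected ({IsLocalRing.closedPoint S}ᶜ : Set (PrimeSpectrum S)) := by
  classical
  have hne : maximalIdeal A ≠ ⊤ := Ideal.IsPrime.ne_top inferInstance
  have hfg : (maximalIdeal A).FG := IsNoetherian.noetherian _
  haveI : IsNoetherianRing (AdicCompletion (maximalIdeal A) A) :=
    Groth.Agent.Lib.Helper83.isNoetherianRing_adicCompletion _
  have hmC : (maximalIdeal A).map (algebraMap A (AdicCompletion (maximalIdeal A) A)) =
      maximalIdeal (AdicCompletion (maximalIdeal A) A) :=
    Groth.Agent.Lib.Helper83.maximalIdeal_adicCompletion_eq_map (maximalIdeal A) hfg hne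
  haveI : IsAdicComplete (maximalIdeal (AdicCompletion (maximalIdeal A) A))
      (AdicCompletion (maximalIdeal A) A) := by
    rw [← hmC]; exact AdicCompletion.isAdicComplete_self _ hfg
  haveI hhC : HenselianLocalRing (AdicCompletion (maximalIdeal A) A) :=
    Compare.henselianLocalRing_of_isAdicComplete _
  have hresC : ∀ c : AdicCompletion (maximalIdeal A) A, ∃ a : A,
      c - algebraMap A (AdicCompletion (maximalIdeal A) A) a ∈
        maximalIdeal (AdicCompletion (maximalIdeal A) A) := by
    intro c
    obtain ⟨a, ha⟩ := Groth.Agent.Lib.Helper83.FlatCompl.exists_sub_of_mem (maximalIdeal A) 1 c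
    refine ⟨a, ?_⟩
    rw [pow_one, Ideal.smul_top_eq_map] at ha
    rw [← hmC]; exact ha
  have hS : Hensel.IsHenselization A S := inferInstance
  haveI : HenselianLocalRing S := hS.henselian
  haveI : IsNoetherianRing S := (isNoetherianRing_iff_of_isHenselization A S).mp inferInstance
  have hmS := map_maximalIdeal_of_isHenselization A S
  obtain ⟨ψ, hψ, -⟩ := hS.universal (AdicCompletion (maximalIdeal A) A)
    (algebraMap A (AdicCompletion (maximalIdeal A) A)) inferInstance
  letI : Algebra S (AdicCompletion (maximalIdeal A) A) := ψ.toAlgebra
  haveI : IsScalarTower A S (AdicCompletion (maximalIdeal A) A) :=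
    IsScalarTower.of_algebraMap_eq (fun a => (RingHom.congr_fun hψ a).symm)
  haveI : Algebra.WeaklyEtale A S := weaklyEtale_of_isHenselization A S
  haveI : Module.Flat S (AdicCompletion (maximalIdeal A) A) :=
    Compare.flat_of_weaklyEtale A S (AdicCompletion (maximalIdeal A) A)
  have hm : (maximalIdeal S).map (algebraMap S (AdicCompletion (maximalIdeal A) A)) =
      maximalIdeal (AdicCompletion (maximalIdeal A) A) := by
    rw [← hmS, Ideal.map_map]
    have : (algebraMap S (AdicCompletion (maximalIdeal A) A)).comp (algebraMap A S) =
        algebraMap A (AdicCompletion (maximalIdeal A) A) := hψ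
    rw [this, hmC]
  have hres : ∀ c : AdicCompletion (maximalIdeal A) A, ∃ e : S,
      c - algebraMap S (AdicCompletion (maximalIdeal A) A) e ∈
        maximalIdeal (AdicCompletion (maximalIdeal A) A) := by
    intro c
    obtain ⟨a, ha⟩ := hresC c
    refine ⟨algebraMap A S a, ?_⟩
    have : algebraMap S (AdicCompletion (maximalIdeal A) A) (algebraMap A S a) =
        algebraMap A (AdicCompletion (maximalIdeal A) A) a := RingHom.congr_fun hψ a
    rw [this]; exact ha
  exact Groth.Agent.Lib.Helper15.FormalConn.isPreconnected_punctured_iff S
    (AdicCompletion (maximalIdeal A) A) hm hres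

end Groth.Agent.S9279
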