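import Groth.Statements.S9280
import Mathlib
import Groth.Agent.S2617
import Groth.Agent.S2619
import Groth.Agent.Lib.Helper11.IntegralDim

set_option autoImplicit false
universe u
open EGA4

namespace Groth.Agent.S9280

namespace J80

open Groth.Agent.S4700 Groth.Agent.S2617 Groth.Agent.S2619

set_option maxHeartbeats 800000 in
theorem main (R : Type u) [CommRing R] (hR : CAlg.IsNagata R)
    (hdim : ringKrullDim R = 1) : EGA4.IsJ2 R := by
  have hnoeth : IsNoetherianRing R := hR.1
  rw [JT.isJ2_iff]
  intro A' _ _ _ hfin
  have : IsNoetherianRing A' := IsNoetherianRing.of_finite R A'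
  let p : Ideal R := RingHom.ker (algebraMap R A')
  have hp : p.IsPrime := RingHom.ker_isPrime _
  let A₀ := R ⧸ p
  let _ : Algebra A₀ A' := (RingHom.kerLift (algebraMap R A')).toAlgebra
  have t1 : IsScalarTower R A₀ A' := IsScalarTower.of_algebraMap_eq (fun x => rfl)
  have hfin0 : Module.Finite A₀ A' := Module.Finite.of_restrictScalars_finite R A₀ A'
  have hinj : Function.Injective (algebraMap A₀ A') := RingHom.kerLift_injective _
  let K := FractionRing A₀
  let L := FractionRing A'
  have hBL : Function.Injective (algebraMap A' L) := IsFractionRing.injective A' L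
  have hinjAL : Function.Injective (algebraMap A₀ L) := by
    rw [IsScalarTower.algebraMap_eq A₀ A' L]
    exact hBL.comp hinj
  have : FaithfulSMul A₀ L := (faithfulSMul_iff_algebraMap_injective A₀ L).mpr hinjAL
  let _ : Algebra K L := FractionRing.liftAlgebra A₀ L
  have : IsScalarTower A₀ K L := inferInstance
  have : Algebra.EssFiniteType A' L := Algebra.EssFiniteType.of_isLocalization L (nonZeroDivisors A')
  have : Algebra.FiniteType A₀ A' := inferInstance
  have : Algebra.EssFiniteType A₀ L := Algebra.EssFiniteType.comp A₀ A' L
  have : Algebra.EssFiniteType K L := Algebra.EssFiniteType.of_comp A₀ K L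
  have halg0 : Algebra.IsAlgebraic A₀ A' := inferInstance
  have halg1 : Algebra.IsAlgebraic A₀ L := (IsFractionRing.isAlgebraic_iff' A₀ A' L).mp halg0
  have halg2 : Algebra.IsAlgebraic K L :=
    Algebra.IsAlgebraic.extendScalars (R := A₀) (IsFractionRing.injective A₀ K)
  have hfd : FiniteDimensional K L := Algebra.finite_of_essFiniteType_of_isAlgebraic
  have hN2 : Module.Finite A₀ (integralClosure A₀ L) := hR.2 p L hfd
  -- the normalization of A'
  let C₀ : Subalgebra A₀ L := integralClosure A₀ L
  let C : Subalgebra A' L := integralClosure A' L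
  have hint0 : Algebra.IsIntegral A₀ A' := inferInstance
  have hmem : ∀ x : L, x ∈ C₀ ↔ x ∈ C := by
    intro x
    constructor
    · intro hx
      exact IsIntegral.tower_top (R := A₀) hx
    · intro hx
      exact isIntegral_trans (R := A₀) x hx
  let f : C₀ →ₗ[A₀] C :=
    { toFun := fun x => ⟨x.1, (hmem _).mp x.2⟩
      map_add' := fun x y => rfl
      map_smul' := fun a x => by
        apply Subtype.ext
        change a • (x : L) = a • (x : L)
        rfl }
  have hf : Function.Surjective f := fun y => ⟨⟨y.1, (hmem _).mpr y.2⟩, rfl⟩
  have hfinC0 : Module.Finite A₀ C := Module.Finite.of_surjective f hf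
  have hfinC : Module.Finite A' C := Module.Finite.of_restrictScalars_finite A₀ A' C
  have : IsNoetherianRing C := IsNoetherianRing.of_finite A' C
  have hic : IsIntegrallyClosed C := integralClosure.isIntegrallyClosedOfFiniteExtension L
  -- dimension
  have hintR : Algebra.IsIntegral R A' := inferInstance
  have hintC : Algebra.IsIntegral A' C := inferInstance
  have hintRC : Algebra.IsIntegral R C := Algebra.IsIntegral.trans A'
  have hdimC : ringKrullDim C ≤ 1 := by
    rw [← hdim]
    exact Groth.Agent.Lib.Helper11.IntegralDim.ringKrullDim_le_of_isIntegral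
  have h1 : Ring.KrullDimLE 1 C := Ring.krullDimLE_iff.mpr (by exact_mod_cast hdimC)
  have hbotp : (⊥ : Ideal C).IsPrime := Ideal.isPrime_bot
  have h2 := Ring.krullDimLE_one_iff_of_isPrime_bot.mp h1
  have hDLE : Ring.DimensionLEOne C := ⟨fun {q} hq hqp => h2 q hq hqp⟩
  have hDR : IsDedekindRing C := { }
  have hDD : IsDedekindDomain C := { }
  have hinjC : Function.Injective (algebraMap A' C) := by
    intro x y h
    apply hBL
    exact congrArg Subtype.val h
  have : Algebra.FiniteType A' C := inferInstance
  refine Groth.Agent.S9255.GD.main A' C hinjC ⟨Set.univ, isOpen_univ, Set.univ_nonempty, ?_⟩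
  rw [J19.dedekind_regLocus]

end J80


/-- A Nagata ring of dimension 1 is J-2, that is, every finite type algebra over it has open regular
locus. -/
theorem result (R : Type u) [CommRing R] (hR : CAlg.IsNagata R)
    (hdim : ringKrullDim R = 1) : EGA4.IsJ2 R :=
  J80.main R hR hdim

end Groth.Agent.S9280
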