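import Groth.Statements.S9282
-- import your own Groth.Agent.* helpers here
import Mathlib.LinearAlgebra.Dual.Lemmas

set_option autoImplicit false
universe u
open CAlg

namespace Groth.Agent.S9282

open Algebra IsLocalRing MvPolynomial

/-- generic form: squares of kernels of polynomial presentations -/
theorem mem_ker_sq_of_map_mem_ker_sq {A B K : Type u} [CommRing A] [CommRing B] [CommRing K]
    [Algebra A B] [Algebra A K] [Algebra B K] [IsScalarTower A B K] (𝔫 : Ideal B)
    (h𝔫 : ∀ x ∈ 𝔫, algebraMap B K x = 0)
    (hfs : CAlgX.IsAdicFormallySmooth A B 𝔫)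
    (φ : MvPolynomial K A →+* MvPolynomial K B)
    (hφC : ∀ a, φ (C a) = C (algebraMap A B a)) (hφX : ∀ s, φ (X s) = X s)
    (g : MvPolynomial K A)
    (hg : φ g ∈ (RingHom.ker (aeval (R := B) (fun s : K => s))) ^ 2) :
    g ∈ (RingHom.ker (aeval (R := A) (fun s : K => s))) ^ 2 := by
  set πA : MvPolynomial K A →ₐ[A] K := aeval (fun s : K => s) with hπA
  set πB : MvPolynomial K B →ₐ[B] K := aeval (fun s : K => s) with hπB
  set IA := RingHom.ker πA with hIA
  set IB := RingHom.ker πB with hIB
  have hsurjA : Function.Surjective (πA : MvPolynomial K A →+* K) := fun s => ⟨X s, by simp [hπA]⟩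
  let E := MvPolynomial K A ⧸ IA ^ 2
  let V : Ideal E := IA.map (Ideal.Quotient.mk (IA ^ 2))
  have hV : V ^ 2 = ⊥ := by
    rw [← Ideal.map_pow, Ideal.map_eq_bot_iff_le_ker, Ideal.mk_ker]
  let ρ₀ : MvPolynomial K A →+* E ⧸ V := (Ideal.Quotient.mk V).comp (Ideal.Quotient.mk (IA ^ 2))
  have hker : RingHom.ker (πA : MvPolynomial K A →+* K) ≤ RingHom.ker ρ₀ := by
    intro g hg
    rw [RingHom.mem_ker, RingHom.comp_apply, Ideal.Quotient.eq_zero_iff_mem]
    exact Ideal.mem_map_of_mem _ hg
  let ψK : K →+* E ⧸ V :=
    RingHom.liftOfSurjective (πA : MvPolynomial K A →+* K) hsurjA ⟨ρ₀, hker⟩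
  have hψK : ∀ g, ψK (πA g) = ρ₀ g := fun g =>
    RingHom.liftOfRightInverse_comp_apply _ _ _ _ g
  let ψ : B →ₐ[A] E ⧸ V :=
    { ψK.comp (algebraMap B K) with
      commutes' := by
        intro a
        change ψK (algebraMap B K (algebraMap A B a)) = _
        rw [← IsScalarTower.algebraMap_apply A B K, ← πA.commutes a, hψK]
        rfl }
  have hψ : ∀ b, ψ b = ψK (algebraMap B K b) := fun b => rfl
  have hkill : ∀ x ∈ 𝔫 ^ 1, ψ x = 0 := by
    intro x hx
    rw [pow_one] at hx
    rw [hψ, h𝔫 x hx, map_zero]
  obtain ⟨χ, hχ⟩ := hfs E V hV ψ ⟨1, hkill⟩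
  have hχ' : ∀ b, Ideal.Quotient.mk V (χ b) = ψ b := fun b => congrArg (fun h => h b) hχ
  let θ : MvPolynomial K B →+* E :=
    MvPolynomial.eval₂Hom (χ : B →+* E) (fun s => Ideal.Quotient.mk (IA ^ 2) (X s))
  have hθφ : ∀ g : MvPolynomial K A, θ (φ g) = Ideal.Quotient.mk (IA ^ 2) g := by
    intro g
    have : θ.comp φ = Ideal.Quotient.mk (IA ^ 2) := by
      apply MvPolynomial.ringHom_ext
      · intro a
        rw [RingHom.comp_apply, hφC]
        simp only [θ, MvPolynomial.coe_eval₂Hom, MvPolynomial.eval₂_C]
        change χ (algebraMap A B a) = _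
        rw [χ.commutes]
        rfl
      · intro s
        rw [RingHom.comp_apply, hφX]
        simp only [θ, MvPolynomial.coe_eval₂Hom, MvPolynomial.eval₂_X]
    exact congrArg (fun h => h g) this
  have hθV : ∀ h ∈ IB, θ h ∈ V := by
    have : (Ideal.Quotient.mk V).comp θ = ψK.comp (πB : MvPolynomial K B →+* K) := by
      apply MvPolynomial.ringHom_ext
      · intro b
        simp only [θ, RingHom.comp_apply, MvPolynomial.coe_eval₂Hom, MvPolynomial.eval₂_C]
        change Ideal.Quotient.mk V (χ b) = ψK (πB (C b))
        rw [hχ', hψ]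
        congr 1
        simp [hπB]
      · intro s
        simp only [θ, RingHom.comp_apply, MvPolynomial.coe_eval₂Hom, MvPolynomial.eval₂_X]
        have h1 : πB (X s) = s := by simp [hπB]
        have h2 : πA (X s) = s := by simp [hπA]
        change _ = ψK (πB (X s))
        have h3 := hψK (X s)
        rw [h2] at h3
        rw [h1, h3]
        rfl
    intro h hh
    have h3 := congrArg (fun F => F h) this
    simp only [RingHom.comp_apply] at h3
    have h4 : πB h = 0 := hh
    change _ = ψK (πB h) at h3
    rw [h4, map_zero, Ideal.Quotient.eq_zero_iff_mem] at h3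
    exact h3
  have hθsq : ∀ h ∈ IB ^ 2, θ h = 0 := by
    have : (IB ^ 2).map θ ≤ ⊥ := by
      rw [Ideal.map_pow, ← hV]
      exact Ideal.pow_right_mono (Ideal.map_le_iff_le_comap.mpr hθV) 2
    intro h hh
    exact (Submodule.mem_bot _).mp (this (Ideal.mem_map_of_mem _ hh))
  have h5 := hθsq _ hg
  rw [hθφ, Ideal.Quotient.eq_zero_iff_mem] at h5
  exact h5



/-- Let A → B be a local ring map between Noetherian local rings that is formally smooth for the adic
topology of the maximal ideal of B, and write K for the residue field of B. In the Jacobi–Zariski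
sequence attached to A → B → K, the map from H_1(NL_{K/A}) to H_1(NL_{K/B}), which is m_B/m_B^2, is
injective; the remaining terms are exact in general, so that sequence starts with a zero. -/
theorem result (A B : Type u) [CommRing A]
    [CommRing B] [IsLocalRing A] [IsLocalRing B] [IsNoetherianRing A] [IsNoetherianRing B]
    [Algebra A B] [IsLocalHom (algebraMap A B)]
    (hfs : CAlgX.IsAdicFormallySmooth A B (IsLocalRing.maximalIdeal B)) :
    Function.Injective
      (Algebra.H1Cotangent.map A B (IsLocalRing.ResidueField B) (IsLocalRing.ResidueField B)) := by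
  rw [injective_iff_map_eq_zero]
  intro x hx
  apply Algebra.Extension.h1Cotangentι_ext
  obtain ⟨g₀, hg₀⟩ := Algebra.Extension.Cotangent.mk_surjective x.1
  have h1 : Algebra.Extension.Cotangent.map
      (Algebra.Generators.defaultHom (Algebra.Generators.self A (IsLocalRing.ResidueField B))
        (Algebra.Generators.self B (IsLocalRing.ResidueField B))).toExtensionHom x.1 = 0 :=
    congrArg Subtype.val hx
  rw [← hg₀, Algebra.Extension.Cotangent.map_mk, Algebra.Extension.Cotangent.mk_eq_zero_iff] at h1
  have h2 := mem_ker_sq_of_map_mem_ker_sq (A := A) (B := B) (K := IsLocalRing.ResidueField B)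
    (IsLocalRing.maximalIdeal B)
    (fun x hx => (IsLocalRing.residue_eq_zero_iff x).mpr hx) hfs
    ((Algebra.Generators.defaultHom (Algebra.Generators.self A (IsLocalRing.ResidueField B))
        (Algebra.Generators.self B (IsLocalRing.ResidueField B))).toExtensionHom.toRingHom)
    (fun a => by
      exact (Algebra.Generators.defaultHom (Algebra.Generators.self A (IsLocalRing.ResidueField B))
        (Algebra.Generators.self B (IsLocalRing.ResidueField B))).toExtensionHom.toRingHom_algebraMap a)
    (fun s => by
      simp [Algebra.Generators.Hom.toExtensionHom, Algebra.Generators.Hom.toAlgHom])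
    g₀.1 h1
  change x.1 = 0
  rw [← hg₀, Algebra.Extension.Cotangent.mk_eq_zero_iff]
  exact h2

end Groth.Agent.S9282
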