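import Groth.Statements.S9283
-- import your own Groth.Agent.* helpers here

set_option autoImplicit false
universe u
open CAlg

namespace Groth.Agent.S9283

theorem step {R : Type u} [CommRing R] (g : R) (y : R) (hy : y ≠ 0) (hg : ∃ n : ℕ, g ^ n * y = 0) :
    ∃ k : ℕ, g ^ k * y ≠ 0 ∧ g * (g ^ k * y) = 0 := by
  classical
  have hn := Nat.find_spec hg
  have hmin := fun m => Nat.find_min hg (m := m)
  set n := Nat.find hg with hndef
  have hn0 : n ≠ 0 := by
    intro h0
    rw [h0, pow_zero, one_mul] at hn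
    exact hy hn
  obtain ⟨k, hk⟩ := Nat.exists_eq_succ_of_ne_zero hn0
  refine ⟨k, ?_, ?_⟩
  · exact hmin k (by omega)
  · rw [← mul_assoc, ← pow_succ', ← Nat.succ_eq_add_one, ← hk]
    exact hn

theorem aux {R : Type u} [CommRing R] [IsLocalRing R] (x : R) (hx : x ≠ 0)
    (hx' : ∀ f ∈ IsLocalRing.maximalIdeal R, ∃ n : ℕ, f ^ n * x = 0) (s : Finset R) :
    (∀ f ∈ s, f ∈ IsLocalRing.maximalIdeal R) →
    ∃ y : R, y ≠ 0 ∧ (∃ c : R, y = c * x) ∧ ∀ f ∈ s, f * y = 0 := by
  classical
  induction s using Finset.induction_on with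
  | empty => intro _; exact ⟨x, hx, ⟨1, by simp⟩, by simp⟩
  | insert g s hgs ih =>
    intro hs
    obtain ⟨y, hy, ⟨c, hc⟩, hys⟩ := ih (fun f hf => hs f (Finset.mem_insert_of_mem hf))
    have hg : ∃ n : ℕ, g ^ n * y = 0 := by
      obtain ⟨n, hn⟩ := hx' g (hs g (Finset.mem_insert_self g s))
      refine ⟨n, ?_⟩
      rw [hc, mul_left_comm, hn, mul_zero]
    obtain ⟨k, hk1, hk2⟩ := step g y hy hg
    refine ⟨g ^ k * y, hk1, ⟨g ^ k * c, by rw [hc]; ring⟩, ?_⟩
    intro f hf
    rcases Finset.mem_insert.mp hf with rfl | hf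
    · exact hk2
    · rw [mul_left_comm, hys f hf, mul_zero]

/-- Let R be an auto-associated ring, that is, a local ring whose maximal ideal is weakly associated to
R: some nonzero x ∈ R is killed by a power of every element of the maximal ideal. Then every proper
finitely generated ideal of R has a nonzero annihilator. -/
theorem result (R : Type u) [CommRing R] [IsLocalRing R]
    (h : ∃ x : R, x ≠ 0 ∧ ∀ f ∈ IsLocalRing.maximalIdeal R, ∃ n : ℕ, f ^ n * x = 0)
    (I : Ideal R) (hI : I.FG) (hI' : I ≠ ⊤) : I.annihilator ≠ ⊥ := by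
  obtain ⟨x, hx, hx'⟩ := h
  obtain ⟨s, rfl⟩ := hI
  have hle : Ideal.span (s : Set R) ≤ IsLocalRing.maximalIdeal R := IsLocalRing.le_maximalIdeal hI'
  obtain ⟨y, hy, -, hys⟩ := aux x hx hx' s (fun f hf => hle (Ideal.subset_span hf))
  intro hbot
  apply hy
  have : y ∈ (Ideal.span (s : Set R)).annihilator := by
    rw [Submodule.mem_annihilator_span]
    rintro ⟨f, hf⟩
    simpa [mul_comm] using hys f hf
  rwa [hbot, Ideal.mem_bot] at this

end Groth.Agent.S9283
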