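import Groth.Statements.S9284
import Mathlib
import Groth.Agent.Lib.Helper47.PropP
-- import your own Groth.Agent.* helpers here

set_option autoImplicit false
universe u
open CAlgX

namespace Groth.Agent.S9284


open Groth.Agent.Lib.Helper47
variable {R : Type u} [CommRing R]

open TensorProduct

theorem rT_inj_of_retract {A B : Type u} [AddCommGroup A] [Module R A] [AddCommGroup B] [Module R B]
    (f : A →ₗ[R] B) (g : B →ₗ[R] A) (h : g.comp f = LinearMap.id)
    (Q : Type u) [AddCommGroup Q] [Module R Q] : Function.Injective (f.rTensor Q) := by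
  apply Function.LeftInverse.injective (g := g.rTensor Q)
  intro x
  rw [← LinearMap.comp_apply, ← LinearMap.rTensor_comp, h, LinearMap.rTensor_id, LinearMap.id_apply]

theorem fg_le_supported {κ : Type u} (P : Submodule R (κ →₀ R)) (hP : P.FG) :
    ∃ S : Finset κ, P ≤ Finsupp.supported R R (S : Set κ) := by
  classical
  obtain ⟨t, ht⟩ := hP
  refine ⟨t.biUnion (fun x => x.support), ?_⟩
  rw [← ht, Submodule.span_le]
  intro x hx
  rw [SetLike.mem_coe, Finsupp.mem_supported]
  intro i hi
  rw [Finset.mem_coe] at hi ⊢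
  rw [Finset.mem_biUnion]
  exact ⟨x, hx, hi⟩

theorem sup_fin {κ : Type u} (S : Finset κ) : Module.Finite R (Finsupp.supported R R (S : Set κ)) :=
  Module.Finite.equiv (Finsupp.supportedEquivFinsupp (S : Set κ)).symm

theorem sup_proj {κ : Type u} (S : Finset κ) :
    Module.Projective R (Finsupp.supported R R (S : Set κ)) :=
  Module.Projective.of_equiv (Finsupp.supportedEquivFinsupp (S : Set κ)).symm

/-- the core: a finite projective piece -/
theorem core (hP : ∀ I : Ideal R, I.FG → I ≠ ⊤ → I.annihilator ≠ ⊥)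
    {A B F₀ G₀ : Type u} [AddCommGroup A] [Module R A] [AddCommGroup B] [Module R B]
    [AddCommGroup F₀] [Module R F₀] [AddCommGroup G₀] [Module R G₀]
    [Module.Finite R F₀] [Module.Projective R F₀] [Module.Finite R G₀] [Module.Projective R G₀]
    (U : A →ₗ[R] B) (i : F₀ →ₗ[R] A) (j : G₀ →ₗ[R] B) (r' : B →ₗ[R] G₀)
    (hrj : r'.comp j = LinearMap.id) (U₀ : F₀ →ₗ[R] G₀) (hU₀ : Function.Injective U₀)
    (hjU : j.comp U₀ = U.comp i)
    (Q : Type u) [AddCommGroup Q] [Module R Q] (z₀ : F₀ ⊗[R] Q)
    (hz : U.rTensor Q (i.rTensor Q z₀) = 0) : z₀ = 0 := by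
  obtain ⟨W, hW⟩ := PropP.splits_proj hP U₀ hU₀
  have h1 : (j.rTensor Q) ((U₀.rTensor Q) z₀) = 0 := by
    rw [← LinearMap.comp_apply, ← LinearMap.rTensor_comp, hjU, LinearMap.rTensor_comp,
      LinearMap.comp_apply, hz]
  have h2 : (U₀.rTensor Q) z₀ = 0 := rT_inj_of_retract j r' hrj Q (h1.trans (map_zero _).symm)
  exact rT_inj_of_retract U₀ W hW Q (h2.trans (map_zero _).symm)

/-- every tensor comes from a finitely supported piece -/
theorem exists_piece {ι : Type u} (Q : Type u) [AddCommGroup Q] [Module R Q]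
    (z : (ι →₀ R) ⊗[R] Q) :
    ∃ (S : Finset ι) (z₀ : (Finsupp.supported R R (S : Set ι)) ⊗[R] Q),
      (Finsupp.supported R R (S : Set ι)).subtype.rTensor Q z₀ = z := by
  classical
  obtain ⟨T, hT⟩ := TensorProduct.exists_finset z
  refine ⟨T.biUnion (fun p => p.1.support), ?_⟩
  have hmem : ∀ p ∈ T, p.1 ∈ Finsupp.supported R R
      ((T.biUnion (fun p => p.1.support) : Finset ι) : Set ι) := by
    intro p hp
    rw [Finsupp.mem_supported]
    intro j hj
    rw [Finset.mem_coe] at hj ⊢
    rw [Finset.mem_biUnion]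
    exact ⟨p, hp, hj⟩
  refine ⟨∑ p ∈ T.attach, (⟨p.1.1, hmem p.1 p.2⟩ : Finsupp.supported R R
      ((T.biUnion (fun p => p.1.support) : Finset ι) : Set ι)) ⊗ₜ[R] p.1.2, ?_⟩
  rw [map_sum, hT, ← Finset.sum_attach T]
  refine Finset.sum_congr rfl ?_
  intro p _
  rw [LinearMap.rTensor_tmul]
  rfl

theorem free_case (hP : ∀ I : Ideal R, I.FG → I ≠ ⊤ → I.annihilator ≠ ⊥) {ι κ : Type u}
    (U : (ι →₀ R) →ₗ[R] (κ →₀ R)) (hU : Function.Injective U)
    (Q : Type u) [AddCommGroup Q] [Module R Q] : Function.Injective (U.rTensor Q) := by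
  classical
  rw [injective_iff_map_eq_zero]
  intro z hz
  obtain ⟨S, z₀, hz₀⟩ := exists_piece Q z
  have := sup_fin (R := R) S
  have := sup_proj (R := R) S
  have hV : Function.Injective (U.comp (Finsupp.supported R R (S : Set ι)).subtype) :=
    hU.comp (Submodule.injective_subtype _)
  obtain ⟨S', hS'⟩ := fg_le_supported
    (LinearMap.range (U.comp (Finsupp.supported R R (S : Set ι)).subtype)) (by
    rw [LinearMap.range_eq_map]; exact Module.Finite.fg_top.map _)
  have := sup_fin (R := R) S'
  have := sup_proj (R := R) S'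
  have h0 : z₀ = 0 := by
    refine core (F₀ := ↥(Finsupp.supported R R (S : Set ι)))
      (G₀ := ↥(Finsupp.supported R R (S' : Set κ))) hP U
      (Finsupp.supported R R (S : Set ι)).subtype
      (Finsupp.supported R R (S' : Set κ)).subtype (Finsupp.restrictDom R R (S' : Set κ))
      (Finsupp.restrictDom_comp_subtype _)
      (LinearMap.codRestrict (Finsupp.supported R R (S' : Set κ))
        (U.comp (Finsupp.supported R R (S : Set ι)).subtype)
        (fun x => hS' (LinearMap.mem_range_self _ x))) ?_ ?_ Q z₀ ?_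
    · intro x y hxy
      apply hV
      exact congrArg Subtype.val hxy
    · apply LinearMap.ext
      intro x
      rfl
    · rw [hz₀, hz]
  rw [← hz₀, h0, map_zero]


theorem free_case' (hP : ∀ I : Ideal R, I.FG → I ≠ ⊤ → I.annihilator ≠ ⊥) {F G : Type u}
    [AddCommGroup F] [Module R F] [Module.Free R F] [AddCommGroup G] [Module R G] [Module.Free R G]
    (U : F →ₗ[R] G) (hU : Function.Injective U)
    (Q : Type u) [AddCommGroup Q] [Module R Q] : Function.Injective (U.rTensor Q) := by
  let bF := Module.Free.chooseBasis R F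
  let bG := Module.Free.chooseBasis R G
  let U' : (Module.Free.ChooseBasisIndex R F →₀ R) →ₗ[R] (Module.Free.ChooseBasisIndex R G →₀ R) :=
    bG.repr.toLinearMap.comp (U.comp bF.repr.symm.toLinearMap)
  have hU' : Function.Injective U' :=
    bG.repr.injective.comp (hU.comp bF.repr.symm.injective)
  have h1 := free_case hP U' hU' Q
  have h2 : U'.rTensor Q = (bG.repr.toLinearMap.rTensor Q).comp
      ((U.rTensor Q).comp (bF.repr.symm.toLinearMap.rTensor Q)) := by
    rw [← LinearMap.rTensor_comp, ← LinearMap.rTensor_comp]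
  rw [h2] at h1
  have h3 : Function.Injective ((U.rTensor Q).comp (bF.repr.symm.toLinearMap.rTensor Q)) :=
    Function.Injective.of_comp h1
  have h4 : Function.Surjective (bF.repr.symm.toLinearMap.rTensor Q) :=
    LinearMap.rTensor_surjective Q bF.repr.symm.surjective
  intro x y hxy
  obtain ⟨x', rfl⟩ := h4 x
  obtain ⟨y', rfl⟩ := h4 y
  rw [h3 hxy]

theorem main (hP : (∀ I : Ideal R, I.FG → I ≠ ⊤ → I.annihilator ≠ ⊥))
    (N M : Type u) [AddCommGroup N] [Module R N] [Module.Projective R N] [AddCommGroup M]
    [Module R M] [Module.Projective R M] (u : N →ₗ[R] M) (hu : Function.Injective u)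
    (Q : Type u) [AddCommGroup Q] [Module R Q] : Function.Injective (u.rTensor Q) := by
  obtain ⟨s, hs⟩ := (Module.projective_def' (R := R) (P := N)).mp inferInstance
  obtain ⟨t, ht⟩ := (Module.projective_def' (R := R) (P := M)).mp inferInstance
  set p : (N →₀ R) →ₗ[R] N := Finsupp.linearCombination R id with hp
  set q : (M →₀ R) →ₗ[R] M := Finsupp.linearCombination R id with hq
  have hs' : ∀ n, p (s n) = n := fun n => LinearMap.congr_fun hs n
  have ht' : ∀ m, q (t m) = m := fun m => LinearMap.congr_fun ht m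
  let U : (N →₀ R) →ₗ[R] ((M →₀ R) × (N →₀ R)) :=
    LinearMap.prod (t.comp (u.comp p)) (LinearMap.id - s.comp p)
  have hU : Function.Injective U := by
    rw [injective_iff_map_eq_zero]
    intro x hx
    have h1 : t (u (p x)) = 0 := congrArg Prod.fst hx
    have h2 : x - s (p x) = 0 := congrArg Prod.snd hx
    have h3 : u (p x) = 0 := by
      have := congrArg q h1
      rwa [ht', map_zero] at this
    have h4 : p x = 0 := hu (by rw [h3, map_zero])
    rw [h4, map_zero, sub_zero] at h2
    exact h2
  have hUs : U.comp s = (LinearMap.inl R (M →₀ R) (N →₀ R)).comp (t.comp u) := by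
    apply LinearMap.ext
    intro n
    change (t (u (p (s n))), s n - s (p (s n))) = (t (u n), 0)
    rw [hs', sub_self]
  have h1 : Function.Injective (U.rTensor Q) := free_case' hP U hU Q
  have h2 : Function.Injective (s.rTensor Q) := rT_inj_of_retract s p hs Q
  have h3 : Function.Injective ((U.comp s).rTensor Q) := by
    rw [LinearMap.rTensor_comp]
    exact h1.comp h2
  rw [hUs, ← LinearMap.comp_assoc, LinearMap.rTensor_comp, LinearMap.coe_comp] at h3
  exact Function.Injective.of_comp h3




/-- Let R be a ring such that every proper finitely generated ideal of R has a nonzero annihilator, and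
let u : N → M be an R-linear map between projective R-modules. Then u stays injective after
tensoring with every R-module exactly when u is injective. -/
theorem result (R : Type u) [CommRing R]
    (hP : (∀ I : Ideal R, I.FG → I ≠ ⊤ → I.annihilator ≠ ⊥))
    (N M : Type u) [AddCommGroup N] [Module R N] [Module.Projective R N] [AddCommGroup M]
    [Module R M] [Module.Projective R M] (u : N →ₗ[R] M) :
    CAlgX.UniversallyInjective R u ↔ Function.Injective u := by
  constructor
  · intro h
    have h1 := h R
    intro x y hxy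
    have h2 : (u.rTensor R) (x ⊗ₜ[R] (1 : R)) = (u.rTensor R) (y ⊗ₜ[R] (1 : R)) := by
      rw [LinearMap.rTensor_tmul, LinearMap.rTensor_tmul, hxy]
    have h3 := congrArg (TensorProduct.rid R N) (h1 h2)
    simpa using h3
  · intro hu Q _ _
    exact main hP N M u hu Q

end Groth.Agent.S9284
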