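import Groth.Statements.S9289
import Mathlib
import Groth.Agent.Lib.Helper96.FiniteCompletion2

set_option autoImplicit false
universe u
open CAlg

namespace Groth.Agent.S9289

/-- Let R and R' be Noetherian rings with R' of finite type over R and quasi-finite at the prime p' of
R', lying over p. If R_p has geometrically regular formal fibres, so does R'_{p'}; stated as: if the
completion map of R_p is regular, so is that of R'_{p'}. -/
theorem result (R R' : Type u) [CommRing R]
    [CommRing R'] [IsNoetherianRing R] [IsNoetherianRing R'] [Algebra R R'] [Algebra.FiniteType R R']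
    (p' : Ideal R') [p'.IsPrime] [Algebra.QuasiFiniteAt R p']
    (h : CAlg.IsRegularHom (Localization.AtPrime (Ideal.comap (algebraMap R R') p'))
      (AdicCompletion (IsLocalRing.maximalIdeal (Localization.AtPrime (Ideal.comap (algebraMap R R') p')))
        (Localization.AtPrime (Ideal.comap (algebraMap R R') p')))) :
    CAlg.IsRegularHom (Localization.AtPrime p')
      (AdicCompletion (IsLocalRing.maximalIdeal (Localization.AtPrime p')) (Localization.AtPrime p')) := by
  classical
  obtain ⟨S', hfg, r, hr, hbij⟩ :=
    Algebra.QuasiFiniteAt.exists_fg_and_exists_notMem_and_awayMap_bijective (R := R) p'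
  haveI : Module.Finite R S' := ⟨(Submodule.fg_top _).mpr hfg⟩
  have hF := Groth.Agent.Lib.Helper96.isRegularHom_adicCompletion_of_finite_global R S'
    (p'.comap S'.val.toRingHom) (Ideal.comap (algebraMap R R') p') (by
      ext x
      simp only [Ideal.mem_comap]
      rfl) h
  have hb := Groth.Agent.Lib.Helper96.bijective_localRingHom_of_bijective_awayMap
    S'.val.toRingHom r p' hr hbij
  let e : Localization.AtPrime (p'.comap S'.val.toRingHom) ≃+* Localization.AtPrime p' :=
    RingEquiv.ofBijective _ hb
  exact Groth.Agent.Lib.Helper69.GRingLocal.regular_completion_of_ringEquiv e hF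

end Groth.Agent.S9289
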