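import Groth.Statements.S9290
import Mathlib
import Groth.Agent.Lib.Helper96.FiniteCompletion3

set_option autoImplicit false
universe u
open CAlg

namespace Groth.Agent.S9290

/-- Let R' be a Noetherian algebra of finite type over the Noetherian ring R, quasi-finite at the prime
p' over p, and let Q' ⊆ R'_{p'} and Q ⊆ R_p be primes with the same contraction to R (that is, a
prime q' ⊆ p' of R' lying over the prime q ⊆ p of R). If the formal fibre of R_p at Q is
geometrically regular over κ(Q), then the formal fibre of R'_{p'} at Q' is geometrically regular
over κ(Q'). -/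
theorem result (R R' : Type u) [CommRing R] [CommRing R']
    [IsNoetherianRing R] [IsNoetherianRing R'] [Algebra R R'] [Algebra.FiniteType R R']
    (p' : Ideal R') [p'.IsPrime] [Algebra.QuasiFiniteAt R p']
    (Q' : Ideal (Localization.AtPrime p')) [Q'.IsPrime]
    (Q : Ideal (Localization.AtPrime (Ideal.comap (algebraMap R R') p'))) [Q.IsPrime]
    (hQ : Ideal.comap (algebraMap R (Localization.AtPrime (Ideal.comap (algebraMap R R') p'))) Q =
      Ideal.comap (algebraMap R (Localization.AtPrime p')) Q')
    (h : CAlg.IsGeometricallyRegular Q.ResidueField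
      (EGA4.formalFibre (Localization.AtPrime (Ideal.comap (algebraMap R R') p')) Q)) :
    CAlg.IsGeometricallyRegular Q'.ResidueField (EGA4.formalFibre (Localization.AtPrime p') Q') := by
  classical
  obtain ⟨S', hfg, r, hr, hbij⟩ :=
    Algebra.QuasiFiniteAt.exists_fg_and_exists_notMem_and_awayMap_bijective (R := R) p'
  haveI : Module.Finite R S' := ⟨(Submodule.fg_top _).mpr hfg⟩
  have hb := Groth.Agent.Lib.Helper96.bijective_localRingHom_of_bijective_awayMap
    S'.val.toRingHom r p' hr hbij
  let e : Localization.AtPrime (p'.comap S'.val.toRingHom) ≃ₐ[S'] Localization.AtPrime p' :=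
    AlgEquiv.ofBijective
      { Localization.localRingHom (p'.comap S'.val.toRingHom) p' S'.val.toRingHom rfl with
        commutes' := fun s => by
          change Localization.localRingHom (p'.comap S'.val.toRingHom) p' S'.val.toRingHom rfl
            (algebraMap S' _ s) = _
          rw [Localization.localRingHom_to_map]
          rfl } hb
  haveI : IsLocalization.AtPrime (Localization.AtPrime p') (p'.comap S'.val.toRingHom) :=
    IsLocalization.isLocalization_of_algEquiv (p'.comap S'.val.toRingHom).primeCompl e
  refine Groth.Agent.Lib.Helper96.isGeometricallyRegular_formalFibre_of_finite R S'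
    (Ideal.comap (algebraMap R R') p') (p'.comap S'.val.toRingHom) ?_ (Localization.AtPrime p')
    Q' Q ?_ h
  · ext x
    simp only [Ideal.mem_comap]
    rfl
  · rw [hQ]
    ext x
    simp only [Ideal.mem_comap]
    rw [← IsScalarTower.algebraMap_apply R S' (Localization.AtPrime p')]

end Groth.Agent.S9290
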