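import Groth.Statements.S9292
import Groth.Agent.Lib.Helper90.EtaleNbhdIdem
-- import your own Groth.Agent.* helpers here

set_option autoImplicit false
universe u
open EtAlg

namespace Groth.Agent.S9292

/-- Let A be a ring, I an ideal, and e_1, ..., e_n a complete system of orthogonal idempotents of A/I
(equivalently a finite disjoint open covering of Spec(A/I)). Then one can find an A-algebra A' that
is étale over A, such that the induced map A/I → A'/IA' is bijective, together with a complete
system of orthogonal idempotents of A' lifting the e_j. -/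
theorem result (A : Type u) [CommRing A] (I : Ideal A)
    (n : ℕ) (e : Fin n → A ⧸ I) (he : CompleteOrthogonalIdempotents e) :
    ∃ (A' : Type u) (_ : CommRing A') (_ : Algebra A A'), Algebra.Etale A A' ∧
      Function.Bijective (Ideal.quotientMap (Ideal.map (algebraMap A A') I) (algebraMap A A')
        Ideal.le_comap_map) ∧
      ∃ e' : Fin n → A', CompleteOrthogonalIdempotents e' ∧
        ∀ j, Ideal.Quotient.mk (Ideal.map (algebraMap A A') I) (e' j) =
          Ideal.quotientMap (Ideal.map (algebraMap A A') I) (algebraMap A A') Ideal.le_comap_map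
            (e j) := by
  classical
  let φ : (Fin n → A) →ₐ[A] A ⧸ I := Groth.Agent.Lib.Helper90.EtaleNbhd.algHomOfCOI e he
  obtain ⟨A', _, _, hA', ι, hbij, hι⟩ :=
    Groth.Agent.Lib.Helper90.EtaleNbhd.exists_etale_nbhd_of_algHom_quotient I (Fin n → A) φ
  refine ⟨A', inferInstance, inferInstance, hA', hbij, fun j => ι (Pi.single j 1), ?_, ?_⟩
  · exact (CompleteOrthogonalIdempotents.single (fun _ : Fin n => A)).map ι.toRingHom
  · intro j
    have := hι (Pi.single j 1)
    rw [Groth.Agent.Lib.Helper90.EtaleNbhd.algHomOfCOI_single] at this
    exact this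

end Groth.Agent.S9292
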