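import Groth.Statements.S9293
import Mathlib
import Groth.Agent.Lib.Helper96.RegularHom

set_option autoImplicit false
universe u
open CAlg

namespace Groth.Agent.S9293

open TensorProduct

/-- If R → Λ is a regular ring map and R' is an R-algebra of finite type, then R' → R' ⊗_R Λ is again
regular. -/
theorem result (R Λ R' : Type u) [CommRing R] [CommRing Λ] [CommRing R']
    [Algebra R Λ] [Algebra R R'] [Algebra.FiniteType R R'] (h : CAlg.IsRegularHom R Λ) :
    CAlg.IsRegularHom R' (TensorProduct R R' Λ) := by
  obtain ⟨hflat, hfib⟩ := h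
  haveI := hflat
  refine ⟨inferInstance, fun p' _ => ?_⟩
  letI := Groth.Agent.Lib.Helper96.residueFieldComapAlgebra R R' p'
  haveI := Groth.Agent.Lib.Helper96.isScalarTower_residueFieldComap R R' p'
  obtain ⟨hN, hG⟩ := hfib (p'.comap (algebraMap R R'))
  haveI := hN
  let e := Groth.Agent.Lib.Helper96.fiberBaseChangeEquiv R Λ R' p'
  haveI : Algebra.EssFiniteType R p'.ResidueField := .comp R R' _
  haveI : Algebra.EssFiniteType (p'.comap (algebraMap R R')).ResidueField p'.ResidueField :=
    .of_comp R _ _
  haveI : IsNoetherianRing (((p'.comap (algebraMap R R')).Fiber Λ)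
      ⊗[(p'.comap (algebraMap R R')).ResidueField] p'.ResidueField) :=
    Algebra.EssFiniteType.isNoetherianRing ((p'.comap (algebraMap R R')).Fiber Λ)
      (((p'.comap (algebraMap R R')).Fiber Λ)
        ⊗[(p'.comap (algebraMap R R')).ResidueField] p'.ResidueField)
  haveI : IsNoetherianRing (p'.ResidueField ⊗[(p'.comap (algebraMap R R')).ResidueField]
      ((p'.comap (algebraMap R R')).Fiber Λ)) :=
    isNoetherianRing_of_ringEquiv _ (Algebra.TensorProduct.comm _ _ _).toRingEquiv
  haveI hN' : IsNoetherianRing (p'.Fiber (TensorProduct R R' Λ)) :=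
    isNoetherianRing_of_ringEquiv _ e.symm.toRingEquiv
  exact ⟨hN', Groth.Agent.Lib.Helper96.isGeometricallyRegular_of_algEquiv e.symm
    (Groth.Agent.Lib.Helper96.isGeometricallyRegular_baseChange
      (p'.comap (algebraMap R R')).ResidueField p'.ResidueField
      ((p'.comap (algebraMap R R')).Fiber Λ) hG)⟩

end Groth.Agent.S9293
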