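import Groth.Statements.S9301
import Groth.Agent.S9300
import Mathlib.RingTheory.QuasiFinite.Basic
-- import your own Groth.Agent.* helpers here

set_option autoImplicit false
universe u
open CAlg

namespace Groth.Agent.S9301

/-- Let A and B be domains and A → B a flat ring map which is the localization of a quasi-finite ring
map A → B₀ (of finite type with finite fibres). Then every nonzero ideal of B has nonzero preimage
in A. -/
theorem result (A B₀ B : Type u) [CommRing A] [IsDomain A]
    [CommRing B₀] [CommRing B] [IsDomain B] [Algebra A B₀] [Algebra.FiniteType A B₀]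
    [Algebra.QuasiFinite A B₀] (S : Submonoid B₀) [Algebra B₀ B] [IsLocalization S B] [Algebra A B]
    [IsScalarTower A B₀ B] [Module.Flat A B] (J : Ideal B) (hJ : J ≠ ⊥) :
    Ideal.comap (algebraMap A B) J ≠ ⊥ := by
  by_cases hinj : Function.Injective (algebraMap A B)
  · have hQF : Algebra.QuasiFinite A B := Algebra.QuasiFinite.of_isLocalization (S := B₀) S
    have hbot : Ideal.comap (algebraMap A B) (⊥ : Ideal B) = ⊥ := by
      rw [eq_bot_iff]
      intro a ha
      rw [Ideal.mem_comap, Ideal.mem_bot] at ha
      rw [Ideal.mem_bot]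
      exact hinj (by simpa using ha)
    refine Groth.Agent.S9300.result A B (algebraMap A B) ?_ J hJ
    refine ⟨⟨⊥, Ideal.isPrime_bot⟩, hbot, ?_⟩
    rintro ⟨P, hP⟩ hPbot
    have := Algebra.QuasiFinite.eq_of_le_of_under_eq (R := A) (⊥ : Ideal B) P bot_le
      (by rw [Ideal.under_def, Ideal.under_def, hbot]; exact hPbot.symm)
    exact PrimeSpectrum.ext this.symm
  · intro hcontra
    apply hinj
    rw [injective_iff_map_eq_zero]
    intro a ha
    have : a ∈ Ideal.comap (algebraMap A B) J := by
      rw [Ideal.mem_comap, ha]; exact J.zero_mem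
    rwa [hcontra, Ideal.mem_bot] at this

end Groth.Agent.S9301
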