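import Groth.Statements.S9302
import Mathlib
-- import your own Groth.Agent.* helpers here

set_option autoImplicit false
universe u
open CategoryTheory
open EtAlg

namespace Groth.Agent.S9302

open Limits

variable {J : Type u} [Preorder J] (F : J ⥤ CommRingCat.{u})

lemma lim_ext (x y : (limit F : CommRingCat.{u})) 
    (h : ∀ j, (limit.π F j).hom x = (limit.π F j).hom y) : x = y :=
  Concrete.limit_ext F x y h

lemma lim_exists (s : ∀ j, F.obj j) (hs : ∀ (i j : J) (φ : i ⟶ j), (F.map φ).hom (s i) = s j) :
    ∃ x : (limit F : CommRingCat.{u}), ∀ j, (limit.π F j).hom x = s j := by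
  let t := isLimitOfPreserves (forget CommRingCat.{u}) (limit.isLimit F)
  let sec : (F ⋙ forget CommRingCat.{u}).sections := ⟨s, fun {i j} φ => hs i j φ⟩
  refine ⟨(Types.isLimitEquivSections t).symm sec, fun j => ?_⟩
  exact Types.isLimitEquivSections_symm_apply t sec j

open Polynomial

/-- uniqueness of roots near a simple root -/
lemma root_unique {R : Type u} [CommRing R] (I : Ideal R) (hI : I ≤ Ideal.jacobson ⊥)
    (g : R[X]) (a a' : R) (ha : g.IsRoot a) (ha' : g.IsRoot a') (haa : a' - a ∈ I)
    (hu : IsUnit (Ideal.Quotient.mk I (g.derivative.eval a))) : a' = a := by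
  obtain ⟨c, hc⟩ := g.binomExpansion a (a' - a)
  rw [add_sub_cancel, ha'.eq_zero, ha.eq_zero, zero_add] at hc
  -- 0 = (g'(a) + c h) h
  have h1 : (g.derivative.eval a + c * (a' - a)) * (a' - a) = 0 := by
    rw [hc]; ring
  have := isLocalHom_of_le_jacobson_bot I hI
  have h2 : IsUnit (g.derivative.eval a + c * (a' - a)) := by
    apply isUnit_of_map_unit (Ideal.Quotient.mk I)
    have : Ideal.Quotient.mk I (g.derivative.eval a + c * (a' - a)) =
        Ideal.Quotient.mk I (g.derivative.eval a) := by
      rw [Ideal.Quotient.eq, add_sub_cancel_left]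
      exact I.mul_mem_left _ haa
    rw [this]
    exact hu
  have h3 : a' - a = 0 := by
    have := h2.mul_right_eq_zero.mp h1
    exact this
  exact sub_eq_zero.mp h3

variable {J : Type u} [Preorder J] (F : J ⥤ CommRingCat.{u})

lemma unit_lim (z : (limit F : CommRingCat.{u})) (h : ∀ j, IsUnit ((limit.π F j).hom z)) :
    IsUnit z := by
  choose v hv using fun j => (h j).exists_right_inv
  have hcompat : ∀ (i j : J) (φ : i ⟶ j), (F.map φ).hom (v i) = v j := by
    intro i j φ
    have h1 : (limit.π F j).hom z = (F.map φ).hom ((limit.π F i).hom z) := by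
      rw [← limit.w F φ]
      rfl
    have h2 : (limit.π F j).hom z * (F.map φ).hom (v i) = 1 := by
      rw [h1, ← map_mul, hv i, map_one]
    -- uniqueness of inverses
    calc (F.map φ).hom (v i) = (v j * (limit.π F j).hom z) * (F.map φ).hom (v i) := by
          rw [mul_comm (v j), hv j, one_mul]
      _ = v j := by rw [mul_assoc, h2, mul_one]
  obtain ⟨w, hw⟩ := lim_exists F v hcompat
  refine IsUnit.of_mul_eq_one w ?_
  apply lim_ext
  intro j
  rw [map_mul, hw, hv j, map_one]

open Polynomial

lemma unit_congr {R : Type u} [CommRing R] (I : Ideal R) (g : R[X]) (a b : R) (hab : a - b ∈ I)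
    (hu : IsUnit (Ideal.Quotient.mk I (g.eval b))) : IsUnit (Ideal.Quotient.mk I (g.eval a)) := by
  have : Ideal.Quotient.mk I (g.eval a) = Ideal.Quotient.mk I (g.eval b) := by
    rw [Ideal.Quotient.eq]
    obtain ⟨c, hc⟩ := Polynomial.sub_dvd_eval_sub a b g
    rw [hc]
    exact I.mul_mem_right _ hab
  rw [this]
  exact hu

theorem main (J : Type u) [Preorder J] (F : J ⥤ CommRingCat.{u})
    (I : ∀ j : J, Ideal (F.obj j))
    (hI : ∀ (i j : J) (φ : i ⟶ j), Ideal.map (F.map φ).hom (I i) ≤ I j)
    (h : ∀ j : J, HenselianRing (F.obj j) (I j)) :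
    HenselianRing ((Limits.limit F : CommRingCat.{u}) : Type u)
      (⨅ j : J, Ideal.comap (Limits.limit.π F j).hom (I j)) := by
  have memII : ∀ x : (limit F : CommRingCat.{u}),
      x ∈ (⨅ j : J, Ideal.comap (Limits.limit.π F j).hom (I j)) ↔
        ∀ j, (limit.π F j).hom x ∈ I j := by
    intro x
    simp [Ideal.mem_iInf, Ideal.mem_comap]
  constructor
  · intro x hx
    rw [Ideal.mem_jacobson_bot]
    intro y
    apply unit_lim
    intro j
    rw [map_add, map_mul, map_one]
    have := (h j).jac ((memII x).mp hx j)
    exact Ideal.mem_jacobson_bot.mp this _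
  · intro f hf a₀ hfa hfu
    have hU : ∀ j, IsUnit (Ideal.Quotient.mk (I j)
        ((f.map (limit.π F j).hom).derivative.eval ((limit.π F j).hom a₀))) := by
      intro j
      rw [isUnit_iff_exists_inv] at hfu ⊢
      obtain ⟨b, hb⟩ := hfu
      obtain ⟨b, rfl⟩ := Ideal.Quotient.mk_surjective b
      rw [← map_mul, ← map_one (Ideal.Quotient.mk _), Ideal.Quotient.eq] at hb
      refine ⟨Ideal.Quotient.mk _ ((limit.π F j).hom b), ?_⟩
      rw [← map_mul, ← map_one (Ideal.Quotient.mk (I j)), Ideal.Quotient.eq]
      have := (memII _).mp hb j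
      rw [Polynomial.derivative_map, Polynomial.eval_map_apply]
      simpa [map_sub, map_mul] using this
    have key : ∀ j, ∃ a : F.obj j, (f.map (limit.π F j).hom).IsRoot a ∧
        a - (limit.π F j).hom a₀ ∈ I j := by
      intro j
      apply (h j).is_henselian (f.map (limit.π F j).hom) (hf.map _) ((limit.π F j).hom a₀)
      · rw [Polynomial.eval_map_apply]
        exact (memII _).mp hfa j
      · exact hU j
    choose a ha using key
    have hcompat : ∀ (i j : J) (φ : i ⟶ j), (F.map φ).hom (a i) = a j := by
      intro i j φ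
      have hπ : ∀ x, (limit.π F j).hom x = (F.map φ).hom ((limit.π F i).hom x) := by
        intro x
        rw [← limit.w F φ]
        rfl
      have hfmap : f.map (limit.π F j).hom = (f.map (limit.π F i).hom).map (F.map φ).hom := by
        rw [Polynomial.map_map]
        congr 1
        ext x
        exact hπ x
      apply root_unique (I j) (h j).jac (f.map (limit.π F j).hom) (a j) ((F.map φ).hom (a i))
        (ha j).1
      · rw [hfmap, Polynomial.IsRoot.def, Polynomial.eval_map_apply, (ha i).1.eq_zero, map_zero]
      · have h1 : (F.map φ).hom (a i) - (limit.π F j).hom a₀ ∈ I j := by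
          rw [hπ, ← map_sub]
          exact hI i j φ (Ideal.mem_map_of_mem _ (ha i).2)
        have h2 := (I j).sub_mem h1 (ha j).2
        rwa [sub_sub_sub_cancel_right] at h2
      · exact unit_congr (I j) _ _ _ (ha j).2 (hU j)
    obtain ⟨aa, haa⟩ := lim_exists F a hcompat
    refine ⟨aa, ?_, ?_⟩
    · apply lim_ext
      intro j
      rw [map_zero, ← Polynomial.eval_map_apply, haa]
      exact (ha j).1
    · rw [memII]
      intro j
      rw [map_sub, haa]
      exact (ha j).2



/-- Henselian pairs are preserved under limits: for an inverse system (A_j, I_j) of henselian pairs over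
a preordered set J, the limit A = lim A_j with the ideal I = lim I_j (elements all of whose
projections lie in the I_j) is a henselian pair. -/
theorem result (J : Type u) [Preorder J] (F : J ⥤ CommRingCat.{u})
    (I : ∀ j : J, Ideal (F.obj j))
    (hI : ∀ (i j : J) (φ : i ⟶ j), Ideal.map (F.map φ).hom (I i) ≤ I j)
    (h : ∀ j : J, HenselianRing (F.obj j) (I j)) :
    HenselianRing ((Limits.limit F : CommRingCat.{u}) : Type u)
      (⨅ j : J, Ideal.comap (Limits.limit.π F j).hom (I j)) := by
  exact main J F I hI h

end Groth.Agent.S9302
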