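import Groth.Statements.S9308
import Groth.Agent.Lib.Helper49.DirLim
import Groth.Agent.S7770
import Groth.Agent.Lib.Helper49.SmoothReg
import Groth.Agent.Lib.Helper49.RegularHom
-- import your own Groth.Agent.* helpers here

set_option autoImplicit false
universe u
open CAlg

namespace Groth.Agent.S9308

/-- Let R be a ring and (A_i, φ_ii') a directed system of smooth R-algebras with colimit Λ (the index
type is taken in the universe of the rings). Suppose that for every prime p of R the ring Λ ⊗_R κ(p)
is Noetherian. Then R → Λ is a regular ring map. -/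
theorem result (R : Type u) [CommRing R] {ι : Type u} [Preorder ι]
    [IsDirectedOrder ι] [Nonempty ι] (G : ι → Type u) [∀ i, CommRing (G i)] [∀ i, Algebra R (G i)]
    (f : ∀ i j : ι, i ≤ j → (G i →ₐ[R] G j)) [DirectedSystem G (fun i j h => f i j h)]
    (hs : ∀ i, Algebra.Smooth R (G i))
    (hN : ∀ (p : Ideal R) [p.IsPrime], IsNoetherianRing (p.Fiber (DirectLimit G f))) :
    CAlg.IsRegularHom R (DirectLimit G f) := by
  classical
  have hflat : Module.Flat R (DirectLimit G f) :=
    Groth.Agent.Lib.Helper49.DirLim.flat_directLimit (R := R) (f := f)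
      (fun i => (inferInstance : Module.Flat R (G i)))
  refine ⟨hflat, fun p _ => ⟨hN p, fun L _ _ hfin => ?_⟩⟩
  haveI := hN p
  letI : Algebra R L := ((algebraMap p.ResidueField L).comp (algebraMap R p.ResidueField)).toAlgebra
  haveI : IsScalarTower R p.ResidueField L := IsScalarTower.of_algebraMap_eq' rfl
  have hNL : IsNoetherianRing (TensorProduct p.ResidueField L (p.Fiber (DirectLimit G f))) :=
    Groth.Agent.Lib.Helper49.NormalHom.isNoetherianRing_tensor_of_finite _ _ _
  let e1 := (Algebra.TensorProduct.cancelBaseChange R p.ResidueField L L (DirectLimit G f)).toRingEquiv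
  let e2 := Groth.Agent.Lib.Helper49.DirLim.tensorEquiv R G f L
  have hNT : IsNoetherianRing (Groth.Agent.Lib.Helper49.DirLim.TL R G f L) :=
    isNoetherianRing_of_ringEquiv _ (e1.trans e2.symm)
  have hreg : ∀ i, IsRegularRing (TensorProduct R L (G i)) := fun i => by
    haveI := hs i
    exact Groth.Agent.Lib.Helper49.SmoothReg.isRegularRing_of_smooth L _
  have hT : IsRegularRing (Groth.Agent.Lib.Helper49.DirLim.TL R G f L) :=
    Groth.Agent.S7770.result ι (fun i => TensorProduct R L (G i))
      (fun i j h => Groth.Agent.Lib.Helper49.DirLim.tf R G f L i j h) hreg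
  exact Groth.Agent.Lib.Helper49.RegularHom.isRegularRing_of_ringEquiv' (e2.trans e1.symm) hT

end Groth.Agent.S9308
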