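import Groth.Statements.S9310
import Groth.Agent.Lib.Helper76.PSJac

set_option autoImplicit false
universe u
open CAlg

namespace Groth.Agent.S9310

/-- Let K be a field, A = K[[x_1, ..., x_n]], and y_1, ..., y_n ∈ A a regular system of parameters (n
elements generating the maximal ideal). Then the substitution map K[[y_1, ..., y_n]] → A is an
isomorphism: f ↦ f(y_1, ..., y_n) is a bijection of K[[x_1, ..., x_n]] onto itself. -/
theorem result (K : Type u) [Field K] (n : ℕ)
    (y : Fin n → MvPowerSeries (Fin n) K)
    (hy : Ideal.span (Set.range y) = IsLocalRing.maximalIdeal (MvPowerSeries (Fin n) K)) :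
    Function.Bijective (MvPowerSeries.subst y : MvPowerSeries (Fin n) K → MvPowerSeries (Fin n) K) := by
  classical
  have hmem : ∀ g : MvPowerSeries (Fin n) K, g ∈ IsLocalRing.maximalIdeal (MvPowerSeries (Fin n) K) ↔
      MvPowerSeries.constantCoeff g = 0 := by
    intro g
    rw [IsLocalRing.mem_maximalIdeal, mem_nonunits_iff, MvPowerSeries.isUnit_iff_constantCoeff,
      isUnit_iff_ne_zero, not_not]
  have hy0 : ∀ i, MvPowerSeries.constantCoeff (y i) = 0 := by
    intro i
    rw [← hmem, ← hy]
    exact Ideal.subset_span ⟨i, rfl⟩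
  refine Groth.Agent.Lib.Helper76.PSInv.subst_bijective hy0 ?_
  have hX : ∀ j : Fin n, ∃ a : Fin n → MvPowerSeries (Fin n) K,
      ∑ i, a i * y i = MvPowerSeries.X j := by
    intro j
    have : (MvPowerSeries.X j : MvPowerSeries (Fin n) K) ∈ Ideal.span (Set.range y) := by
      rw [hy, hmem, MvPowerSeries.constantCoeff_X]
    exact Ideal.mem_span_range_iff_exists_fun.mp this
  choose a ha using hX
  refine Groth.Agent.Lib.Helper76.PSInv.isUnit_det_jac_of_relation (RingHom.id K)
    (Matrix.of fun j i => MvPowerSeries.constantCoeff (a j i)) ?_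
  intro j t
  have := Groth.Agent.Lib.Helper76.PSInv.sum_constantCoeff_mul_jac hy0 (a j) t
  rw [ha j, MvPowerSeries.coeff_index_single_X] at this
  simp only [RingHom.id_apply, Matrix.of_apply]
  rw [← this]
  by_cases h : j = t
  · simp [h]
  · rw [if_neg h, if_neg (fun h' => h h'.symm)]

end Groth.Agent.S9310
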