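import Groth.Statements.S9311
import Groth.Agent.Lib.Helper76.PSJac
import Mathlib.RingTheory.LocalRing.ResidueField.Basic

set_option autoImplicit false
universe u
open CAlg

namespace Groth.Agent.S9311

/-- Let Λ be a Cohen ring (a complete discrete valuation ring whose maximal ideal is generated by a
prime number p), B = Λ[[x_1, ..., x_n]], and y_1, ..., y_n ∈ B with zero constant terms such that p,
y_1, ..., y_n is a regular system of parameters of B (these n + 1 elements generate the maximal
ideal). Then the substitution map Λ[[y_1, ..., y_n]] → B is an isomorphism: f ↦ f(y_1, ..., y_n) is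
a bijection of Λ[[x_1, ..., x_n]] onto itself. (The published statement allows the y_i to have
constant terms in pΛ, the substitution being defined through the (p, x)-adic topology of B; this row
asks the constant terms to vanish, the case in which substitution is defined coefficientwise with no
topology on Λ.) -/
theorem result (Λ : Type u) [CommRing Λ] [IsDomain Λ]
    [IsDiscreteValuationRing Λ] [IsAdicComplete (IsLocalRing.maximalIdeal Λ) Λ] (p : ℕ) (hp : p.Prime)
    (hm : IsLocalRing.maximalIdeal Λ = Ideal.span {(p : Λ)}) (n : ℕ)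
    (y : Fin n → MvPowerSeries (Fin n) Λ) (hy0 : ∀ i, MvPowerSeries.constantCoeff (y i) = 0)
    (hy : Ideal.span (insert (p : MvPowerSeries (Fin n) Λ) (Set.range y)) =
      IsLocalRing.maximalIdeal (MvPowerSeries (Fin n) Λ)) :
    Function.Bijective (MvPowerSeries.subst y : MvPowerSeries (Fin n) Λ → MvPowerSeries (Fin n) Λ) := by
  classical
  refine Groth.Agent.Lib.Helper76.PSInv.subst_bijective hy0 ?_
  have hX : ∀ j : Fin n, ∃ (c : MvPowerSeries (Fin n) Λ) (a : Fin n → MvPowerSeries (Fin n) Λ),
      MvPowerSeries.X j = c * (p : MvPowerSeries (Fin n) Λ) + ∑ i, a i * y i := by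
    intro j
    have : (MvPowerSeries.X j : MvPowerSeries (Fin n) Λ) ∈
        Ideal.span (insert (p : MvPowerSeries (Fin n) Λ) (Set.range y)) := by
      rw [hy, IsLocalRing.mem_maximalIdeal, mem_nonunits_iff,
        MvPowerSeries.isUnit_iff_constantCoeff, MvPowerSeries.constantCoeff_X]
      exact not_isUnit_zero
    obtain ⟨c, z, hz, hX⟩ := Ideal.mem_span_insert.mp this
    obtain ⟨a, ha⟩ := Ideal.mem_span_range_iff_exists_fun.mp hz
    exact ⟨c, a, by rw [hX, ha]⟩
  choose c a ha using hX
  have hρp : IsLocalRing.residue Λ (p : Λ) = 0 := by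
    rw [IsLocalRing.residue_eq_zero_iff, hm]
    exact Ideal.mem_span_singleton_self _
  refine Groth.Agent.Lib.Helper76.PSInv.isUnit_det_jac_of_relation (IsLocalRing.residue Λ)
    (Matrix.of fun j i => MvPowerSeries.constantCoeff (a j i)) ?_
  intro j t
  have h1 := Groth.Agent.Lib.Helper76.PSInv.sum_constantCoeff_mul_jac hy0 (a j) t
  have h2 := congrArg (MvPowerSeries.coeff (Finsupp.single t 1)) (ha j)
  have hpC : (p : MvPowerSeries (Fin n) Λ) = MvPowerSeries.C (p : Λ) := by
    rw [map_natCast]
  rw [map_add, h1, hpC, MvPowerSeries.coeff_mul_C, MvPowerSeries.coeff_index_single_X] at h2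
  simp only [Matrix.of_apply]
  have h3 : (∑ i, MvPowerSeries.constantCoeff (a j i) *
      Groth.Agent.Lib.Helper76.PSInv.jac y i t) =
      (if t = j then 1 else 0) - MvPowerSeries.coeff (Finsupp.single t 1) (c j) * (p : Λ) := by
    rw [h2]; ring
  rw [h3, map_sub, map_mul, hρp, mul_zero, sub_zero]
  by_cases h : j = t
  · simp [h]
  · rw [if_neg h, if_neg (fun h' => h h'.symm), map_zero]

end Groth.Agent.S9311
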