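import Groth.Statements.S9312
import Mathlib
import Groth.Agent.S9260

set_option autoImplicit false
universe u
open CAlg


namespace Groth.Agent.S9312

open TensorProduct

section Action

variable (R G ι : Type u) [CommRing R] [Group G] [MulSemiringAction G R]

theorem smul_eq_map (σ : G) (p : MvPolynomial ι R) :
    σ • p = MvPolynomial.map (MulSemiringAction.toRingHom G R σ) p := by
  ext m
  rw [MvPolynomial.coeff_map, MvPolynomial.coeff_smul]
  rfl

/-- coefficientwise action on multivariate polynomials -/
@[reducible] noncomputable def mvAction : MulSemiringAction G (MvPolynomial ι R) :=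
  { (inferInstance : DistribMulAction G (MvPolynomial ι R)) with
    smul_one := fun σ => by rw [smul_eq_map, map_one]
    smul_mul := fun σ p q => by rw [smul_eq_map, smul_eq_map, smul_eq_map, map_mul] }

/-- algebra structure of `R[ι]` over `R^G[ι]` -/
@[reducible] noncomputable def mvAlgebra : Algebra (MvPolynomial ι (FixedPoints.subring R G)) (MvPolynomial ι R) :=
  (MvPolynomial.map (algebraMap (FixedPoints.subring R G) R)).toAlgebra

attribute [local instance] mvAction mvAlgebra

theorem algebraMap_mv (p : MvPolynomial ι (FixedPoints.subring R G)) :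
    algebraMap (MvPolynomial ι (FixedPoints.subring R G)) (MvPolynomial ι R) p =
      MvPolynomial.map (algebraMap (FixedPoints.subring R G) R) p := rfl

theorem smul_map_fixed (σ : G) (p : MvPolynomial ι (FixedPoints.subring R G)) :
    σ • MvPolynomial.map (algebraMap (FixedPoints.subring R G) R) p =
      MvPolynomial.map (algebraMap (FixedPoints.subring R G) R) p := by
  have h : (MulSemiringAction.toRingHom G R σ).comp (algebraMap (FixedPoints.subring R G) R) =
      algebraMap (FixedPoints.subring R G) R := RingHom.ext fun r => r.2 σ
  rw [smul_eq_map, MvPolynomial.map_map, h]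

theorem mvSMulComm : SMulCommClass G (MvPolynomial ι (FixedPoints.subring R G)) (MvPolynomial ι R) :=
  ⟨fun σ p q => by
    rw [Algebra.smul_def, Algebra.smul_def, smul_mul', algebraMap_mv, smul_map_fixed]⟩

theorem mvInvariant : Algebra.IsInvariant (MvPolynomial ι (FixedPoints.subring R G))
    (MvPolynomial ι R) G :=
  ⟨fun p hp => by
    have : p ∈ Set.range (MvPolynomial.map (algebraMap (FixedPoints.subring R G) R)) := by
      rw [MvPolynomial.mem_range_map_iff_coeffs_subset]
      intro c hc
      rw [Finset.mem_coe, MvPolynomial.mem_coeffs_iff] at hc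
      obtain ⟨m, -, rfl⟩ := hc
      refine ⟨⟨MvPolynomial.coeff m p, fun σ => ?_⟩, rfl⟩
      have := congrArg (MvPolynomial.coeff m) (hp σ)
      rwa [MvPolynomial.coeff_smul] at this
    exact this⟩

end Action

end Groth.Agent.S9312

namespace Groth.Agent.S9312

/-- Let a finite group G with n elements act on a ring R by ring automorphisms, with invariant ring R^G,
and let A be an algebra over R^G; G acts on A ⊗ R through the factor R. (1) For every G-invariant b
∈ A ⊗ R there is a monic polynomial over A whose image in (A ⊗ R)[T] is (T - b)^n. (2) For every a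
in the kernel of A → A ⊗ R, all coefficients of (T - a)^n below degree n vanish, that is (T - a)^n =
T^n in A[T]. -/
theorem result (R G A : Type u) [CommRing R] [Group G] [Fintype G]
    [MulSemiringAction G R] [CommRing A] [Algebra (FixedPoints.subring R G) A] :
    (∀ b : TensorProduct (FixedPoints.subring R G) A R,
      (∀ σ : G, Algebra.TensorProduct.map (AlgHom.id (FixedPoints.subring R G) A)
        (MulSemiringAction.toAlgHom (FixedPoints.subring R G) R σ) b = b) →
      ∃ P : Polynomial A, P.Monic ∧
        Polynomial.map (algebraMap A (TensorProduct (FixedPoints.subring R G) A R)) P =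
          (Polynomial.X - Polynomial.C b) ^ Fintype.card G) ∧
    (∀ a : A, algebraMap A (TensorProduct (FixedPoints.subring R G) A R) a = 0 →
      ∀ i : ℕ, i < Fintype.card G → ((Polynomial.X - Polynomial.C a) ^ Fintype.card G).coeff i = 0) := by
  classical
  letI := Groth.Agent.S9312.mvAction R G A
  letI := Groth.Agent.S9312.mvAlgebra R G A
  haveI := Groth.Agent.S9312.mvSMulComm R G A
  haveI := Groth.Agent.S9312.mvInvariant R G A
  let φ₀ : MvPolynomial A (FixedPoints.subring R G) →ₐ[FixedPoints.subring R G] A :=
    MvPolynomial.aeval id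
  have hφ₀ : Function.Surjective φ₀ := fun a => ⟨MvPolynomial.X a, by simp [φ₀]⟩
  let ι₀₁ : MvPolynomial A (FixedPoints.subring R G) →+* MvPolynomial A R :=
    MvPolynomial.map (algebraMap (FixedPoints.subring R G) R)
  have hι : Function.Injective ι₀₁ := MvPolynomial.map_injective _ Subtype.val_injective
  let π : MvPolynomial A R →+* TensorProduct (FixedPoints.subring R G) A R :=
    MvPolynomial.eval₂Hom (Algebra.TensorProduct.includeRight :
      R →ₐ[FixedPoints.subring R G] TensorProduct (FixedPoints.subring R G) A R).toRingHom
      (fun a => a ⊗ₜ 1)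
  have F1 : π.comp ι₀₁ =
      (algebraMap A (TensorProduct (FixedPoints.subring R G) A R)).comp φ₀.toRingHom := by
    apply MvPolynomial.ringHom_ext
    · intro r
      simp only [π, ι₀₁, φ₀, RingHom.comp_apply, MvPolynomial.map_C, MvPolynomial.coe_eval₂Hom,
        MvPolynomial.eval₂_C, AlgHom.toRingHom_eq_coe, RingHom.coe_coe,
        Algebra.TensorProduct.includeRight_apply, MvPolynomial.algHom_C,
        Algebra.TensorProduct.algebraMap_apply, Algebra.algebraMap_self, RingHom.id_apply]
      rw [Algebra.algebraMap_eq_smul_one, Algebra.algebraMap_eq_smul_one, TensorProduct.smul_tmul]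
    · intro a
      simp [π, ι₀₁, φ₀]
  have F2 : ∀ (σ : G) (p : MvPolynomial A R), π (σ • p) =
      Algebra.TensorProduct.map (AlgHom.id (FixedPoints.subring R G) A)
        (MulSemiringAction.toAlgHom (FixedPoints.subring R G) R σ) (π p) := by
    intro σ p
    rw [Groth.Agent.S9312.smul_eq_map]
    have : π.comp (MvPolynomial.map (MulSemiringAction.toRingHom G R σ)) =
        (Algebra.TensorProduct.map (AlgHom.id (FixedPoints.subring R G) A)
          (MulSemiringAction.toAlgHom (FixedPoints.subring R G) R σ)).toRingHom.comp π := by
      apply MvPolynomial.ringHom_ext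
      · intro r
        simp [π]
      · intro a
        simp [π]
    exact RingHom.congr_fun this p
  have F3 : Function.Surjective π := by
    intro t
    induction t using TensorProduct.induction_on with
    | zero => exact ⟨0, map_zero _⟩
    | tmul a r => exact ⟨MvPolynomial.X a * MvPolynomial.C r, by simp [π]⟩
    | add x y hx hy =>
      obtain ⟨p, rfl⟩ := hx
      obtain ⟨q, rfl⟩ := hy
      exact ⟨p + q, map_add _ _ _⟩
  refine ⟨fun b hb => ?_, fun a ha i hi => ?_⟩
  · obtain ⟨b', rfl⟩ := F3 b
    obtain ⟨Q₀, hmonic, -, -, hQ⟩ := Groth.Agent.S9260.result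
      (MvPolynomial A (FixedPoints.subring R G)) (MvPolynomial A R) G ⊤ b'
      (by rw [Ideal.map_top]; trivial)
    refine ⟨Q₀.map φ₀.toRingHom, hmonic.map _, ?_⟩
    rw [Polynomial.map_map, ← F1, ← Polynomial.map_map]
    change Polynomial.map π (Polynomial.map (algebraMap _ _) Q₀) = _
    rw [hQ, Polynomial.map_prod]
    simp only [Polynomial.map_sub, Polynomial.map_X, Polynomial.map_C, F2, hb, Finset.prod_const,
      Finset.card_univ]
  · have hmem : (MvPolynomial.X a : MvPolynomial A R) ∈ (RingHom.ker φ₀).map
        (algebraMap (MvPolynomial A (FixedPoints.subring R G)) (MvPolynomial A R)) := by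
      let e := MvPolynomial.algebraTensorAlgEquiv (σ := A) (FixedPoints.subring R G) R
      have hker := Algebra.TensorProduct.lTensor_ker (A := R) φ₀ hφ₀
      have h1 : (1 : R) ⊗ₜ[FixedPoints.subring R G]
          (MvPolynomial.X a : MvPolynomial A (FixedPoints.subring R G)) ∈
          RingHom.ker (Algebra.TensorProduct.map (AlgHom.id (FixedPoints.subring R G) R) φ₀) := by
        rw [RingHom.mem_ker, Algebra.TensorProduct.map_tmul]
        have h0 := congrArg (Algebra.TensorProduct.comm (FixedPoints.subring R G) A R) ha
        simpa [φ₀] using h0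
      rw [hker] at h1
      have h2 := Ideal.mem_map_of_mem (e : _ →+* MvPolynomial A R) h1
      have h3 : (e : _ →+* MvPolynomial A R) ((1 : R) ⊗ₜ[FixedPoints.subring R G]
          (MvPolynomial.X a : MvPolynomial A (FixedPoints.subring R G))) = MvPolynomial.X a := by
        simp [e]
      rw [h3] at h2
      have h5 : Ideal.map (e : _ →+* MvPolynomial A R) (Ideal.map
          (Algebra.TensorProduct.includeRight : MvPolynomial A (FixedPoints.subring R G)
            →ₐ[FixedPoints.subring R G] TensorProduct (FixedPoints.subring R G) R _)
          (RingHom.ker φ₀)) ≤ (RingHom.ker φ₀).map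
          (algebraMap (MvPolynomial A (FixedPoints.subring R G)) (MvPolynomial A R)) := by
        rw [Ideal.map_le_iff_le_comap, Ideal.map_le_iff_le_comap]
        intro p hp
        rw [Ideal.mem_comap, Ideal.mem_comap]
        have h4 : (e : _ →+* MvPolynomial A R) ((Algebra.TensorProduct.includeRight :
            MvPolynomial A (FixedPoints.subring R G) →ₐ[FixedPoints.subring R G]
              TensorProduct (FixedPoints.subring R G) R _) p) =
            algebraMap (MvPolynomial A (FixedPoints.subring R G)) (MvPolynomial A R) p := by
          simp [e, Groth.Agent.S9312.algebraMap_mv]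
        rw [h4]
        exact Ideal.mem_map_of_mem _ hp
      exact h5 h2
    obtain ⟨Q₀, hmonic, -, hcoef, hQ⟩ := Groth.Agent.S9260.result
      (MvPolynomial A (FixedPoints.subring R G)) (MvPolynomial A R) G (RingHom.ker φ₀)
      (MvPolynomial.X a) hmem
    have hQ' : Q₀ = (Polynomial.X - Polynomial.C (MvPolynomial.X a)) ^ Fintype.card G := by
      have hι' : Function.Injective
          (algebraMap (MvPolynomial A (FixedPoints.subring R G)) (MvPolynomial A R)) := hι
      apply Polynomial.map_injective _ hι'
      rw [hQ]
      simp only [Groth.Agent.S9312.smul_eq_map, MvPolynomial.map_X, Finset.prod_const,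
        Finset.card_univ, Polynomial.map_pow, Polynomial.map_sub, Polynomial.map_X,
        Polynomial.map_C, Groth.Agent.S9312.algebraMap_mv]
    have h5 := hcoef i hi
    rw [hQ', RingHom.mem_ker] at h5
    have h6 : ((Polynomial.X - Polynomial.C a) ^ Fintype.card G) = Polynomial.map φ₀.toRingHom
        ((Polynomial.X - Polynomial.C (MvPolynomial.X a)) ^ Fintype.card G) := by
      simp [φ₀]
    rw [h6, Polynomial.coeff_map]
    exact h5

end Groth.Agent.S9312
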