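import Groth.Statements.S9316
-- import your own Groth.Agent.* helpers here
import Groth.Agent.Lib.Helper31.SmallExt

set_option autoImplicit false
universe u
open CAlg

namespace Groth.Agent.S9316

open IsLocalRing in
/-- a local homomorphism into an Artinian local ring kills a power of the maximal ideal -/
theorem exists_pow_map_eq_zero {S T : Type*} [CommRing S] [CommRing T] [IsLocalRing S]
    [IsLocalRing T] [IsArtinianRing T] (f : S →+* T) [IsLocalHom f] :
    ∃ k : ℕ, ∀ x ∈ maximalIdeal S ^ k, f x = 0 := by
  obtain ⟨k, hk⟩ := (isArtinianRing_iff_isNilpotent_maximalIdeal T).mp inferInstance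
  refine ⟨k, fun x hx => ?_⟩
  have h1 : f x ∈ (maximalIdeal S ^ k).map f := Ideal.mem_map_of_mem _ hx
  rw [Ideal.map_pow] at h1
  have h2 := Ideal.pow_right_mono (IsLocalRing.map_maximalIdeal_le f) k h1
  rw [hk] at h2
  exact h2


open IsLocalRing in
/-- Let `R → S` be a local homomorphism of local rings with `S` Noetherian. Then `R → S` is formally
smooth for the adic topology of the maximal ideal of `S` if and only if lifts exist along small
extensions: for every Artinian local ring `A` with a local structure map `R → A`, every ideal `J` of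
`A` of square zero which has length one as an `A`-module, and every local `R`-algebra homomorphism
`ψ : S → A/J` inducing a bijection on residue fields, there is an `R`-algebra homomorphism `S → A`
lifting `ψ`. -/
theorem result {R S : Type u} [CommRing R] [CommRing S]
    [IsLocalRing R] [IsLocalRing S] [IsNoetherianRing S] [Algebra R S] [IsLocalHom (algebraMap R S)] :
    CAlgX.IsAdicFormallySmooth R S (maximalIdeal S) ↔
      ∀ (A : Type u) [CommRing A] [IsLocalRing A] [IsArtinianRing A] [Algebra R A]
        [IsLocalHom (algebraMap R A)] (J : Ideal A), J ^ 2 = ⊥ → Module.length A J = 1 →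
        ∀ [IsLocalRing (A ⧸ J)] (ψ : S →ₐ[R] A ⧸ J) [IsLocalHom ψ.toRingHom],
          Function.Bijective (ResidueField.map ψ.toRingHom) →
          ∃ χ : S →ₐ[R] A, (Ideal.Quotient.mkₐ R J).comp χ = ψ := by
  constructor
  · intro h A _ _ _ _ _ J hJ _ _ ψ _ _
    exact h A J hJ ψ (exists_pow_map_eq_zero ψ.toRingHom)
  · intro h
    exact Groth.Agent.Lib.Helper31.SmallExt.isAdicFormallySmooth_of_smallLift h

end Groth.Agent.S9316
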