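import Groth.Statements.S9317
import Mathlib
import Groth.Agent.Lib.Helper83.AdicExtend

set_option autoImplicit false
universe u
open CAlg

namespace Groth.Agent.S9317

/-- Let `R → S` be a ring map, let `𝔪 ⊆ R` and `𝔫 ⊆ S` be finitely generated ideals such that some power
of `𝔪` maps into `𝔫`, and let `R^`, `S^` be the `𝔪`-adic and `𝔫`-adic completions. Let `ψ : R^ → S^`
be a ring map whose composite with `R → R^` is the composite `R → S → S^` (there is exactly one such
map, the canonical one, since any such map is continuous for the adic topologies). Then `R → S` is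
formally smooth for the `𝔫`-adic topology if and only if `R^ → S^`, i.e. `S^` viewed as an
`R^`-algebra through `ψ`, is formally smooth for the adic topology of the extension of `𝔫` to `S^`. -/
theorem result {R S : Type u} [CommRing R] [CommRing S]
    [Algebra R S] (𝔪 : Ideal R) (𝔫 : Ideal S) (h𝔪 : 𝔪.FG) (h𝔫 : 𝔫.FG)
    (hc : ∃ c : ℕ, (𝔪 ^ c).map (algebraMap R S) ≤ 𝔫)
    (ψ : AdicCompletion 𝔪 R →+* AdicCompletion 𝔫 S)
    (hψ : ψ.comp (algebraMap R (AdicCompletion 𝔪 R)) =
      (algebraMap S (AdicCompletion 𝔫 S)).comp (algebraMap R S)) :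
    CAlgX.IsAdicFormallySmooth R S 𝔫 ↔
      letI : Algebra (AdicCompletion 𝔪 R) (AdicCompletion 𝔫 S) := ψ.toAlgebra
      CAlgX.IsAdicFormallySmooth (AdicCompletion 𝔪 R) (AdicCompletion 𝔫 S)
        (𝔫.map (algebraMap S (AdicCompletion 𝔫 S))) := by
  classical
  obtain ⟨c, hc⟩ := hc
  have hψ' : ∀ r, ψ (algebraMap R (AdicCompletion 𝔪 R) r) =
      algebraMap S (AdicCompletion 𝔫 S) (algebraMap R S r) := fun r => RingHom.congr_fun hψ r
  -- `ψ` is continuous
  have hpow : ∀ N : ℕ, ∀ y ∈ (𝔪.map (algebraMap R (AdicCompletion 𝔪 R))) ^ (c * N),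
      ψ y ∈ (𝔫.map (algebraMap S (AdicCompletion 𝔫 S))) ^ N := by
    intro N y hy
    have h1 : ((𝔪.map (algebraMap R (AdicCompletion 𝔪 R))) ^ (c * N)).map ψ ≤
        (𝔫.map (algebraMap S (AdicCompletion 𝔫 S))) ^ N := by
      rw [pow_mul, Ideal.map_pow, ← Ideal.map_pow (algebraMap R (AdicCompletion 𝔪 R)),
        Ideal.map_map, hψ, ← Ideal.map_map]
      exact Ideal.pow_right_mono (Ideal.map_mono hc) N
    exact h1 (Ideal.mem_map_of_mem ψ hy)
  have hpowS : ∀ N : ℕ, ∀ a ∈ 𝔪 ^ (c * N), algebraMap R S a ∈ 𝔫 ^ N := by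
    intro N a ha
    have h1 : (𝔪 ^ (c * N)).map (algebraMap R S) ≤ 𝔫 ^ N := by
      rw [pow_mul, Ideal.map_pow]
      exact Ideal.pow_right_mono hc N
    exact h1 (Ideal.mem_map_of_mem _ ha)
  letI algRhSh : Algebra (AdicCompletion 𝔪 R) (AdicCompletion 𝔫 S) := ψ.toAlgebra
  constructor
  · intro hS
    show CAlgX.IsAdicFormallySmooth (AdicCompletion 𝔪 R) (AdicCompletion 𝔫 S)
        (𝔫.map (algebraMap S (AdicCompletion 𝔫 S)))
    intro A _ _ J hJ ψ1 hk
    obtain ⟨k, hk⟩ := hk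
    letI algRA : Algebra R A :=
      ((algebraMap (AdicCompletion 𝔪 R) A).comp (algebraMap R (AdicCompletion 𝔪 R))).toAlgebra
    let ψ₀ : S →ₐ[R] A ⧸ J :=
      { toRingHom := ψ1.toRingHom.comp (algebraMap S (AdicCompletion 𝔫 S))
        commutes' := fun r => by
          change ψ1 (algebraMap S (AdicCompletion 𝔫 S) (algebraMap R S r)) = _
          rw [← hψ' r]
          exact ψ1.commutes (algebraMap R (AdicCompletion 𝔪 R) r) }
    have hψ₀ : ∀ s, ψ₀ s = ψ1 (algebraMap S (AdicCompletion 𝔫 S) s) := fun s => rfl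
    obtain ⟨χ, hχ⟩ := hS A J hJ ψ₀ ⟨k, fun x hx => by
      rw [hψ₀]
      apply hk
      rw [← Ideal.map_pow]
      exact Ideal.mem_map_of_mem _ hx⟩
    have hχ' : ∀ s, Ideal.Quotient.mk J (χ s) = ψ₀ s := fun s => AlgHom.congr_fun hχ s
    have hχJ : ∀ x ∈ 𝔫 ^ k, χ.toRingHom x ∈ J := by
      intro x hx
      rw [← Ideal.Quotient.eq_zero_iff_mem]
      change Ideal.Quotient.mk J (χ x) = 0
      rw [hχ', hψ₀]
      apply hk
      rw [← Ideal.map_pow]
      exact Ideal.mem_map_of_mem _ hx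
    have hχ0 := Groth.Agent.Lib.Helper83.AdicExtend.eq_zero_of_mem_pow_two_mul 𝔫 k
      χ.toRingHom J hJ hχJ
    let χh : AdicCompletion 𝔫 S →+* A :=
      Groth.Agent.Lib.Helper83.AdicExtend.extend 𝔫 (2 * k) χ.toRingHom hχ0
    have hχh_of : ∀ s, χh (algebraMap S (AdicCompletion 𝔫 S) s) = χ s := fun s =>
      Groth.Agent.Lib.Helper83.AdicExtend.extend_of 𝔫 (2 * k) χ.toRingHom hχ0 s
    have hχh_zero : ∀ x ∈ (𝔫.map (algebraMap S (AdicCompletion 𝔫 S))) ^ (2 * k), χh x = 0 :=
      fun x hx => Groth.Agent.Lib.Helper83.AdicExtend.extend_eq_zero 𝔫 (2 * k) χ.toRingHom hχ0 x hx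
    -- the structure map of `A` kills a power
    have hg2J : ∀ y ∈ (𝔪.map (algebraMap R (AdicCompletion 𝔪 R))) ^ (c * k),
        algebraMap (AdicCompletion 𝔪 R) A y ∈ J := by
      intro y hy
      rw [← Ideal.Quotient.eq_zero_iff_mem]
      have h1 : Ideal.Quotient.mk J (algebraMap (AdicCompletion 𝔪 R) A y) = ψ1 (ψ y) :=
        (ψ1.commutes y).symm
      rw [h1]
      exact hk _ (hpow k y hy)
    have hg2 := Groth.Agent.Lib.Helper83.AdicExtend.eq_zero_of_mem_pow_two_mul
      (𝔪.map (algebraMap R (AdicCompletion 𝔪 R))) (c * k)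
      (algebraMap (AdicCompletion 𝔪 R) A) J hJ hg2J
    have hcomm : χh.comp ψ = algebraMap (AdicCompletion 𝔪 R) A := by
      apply Groth.Agent.Lib.Helper83.AdicExtend.ringHom_ext_of_pow 𝔪 h𝔪 (2 * (c * k))
      · intro y hy
        change χh (ψ y) = 0
        apply hχh_zero
        apply hpow
        rw [show c * (2 * k) = 2 * (c * k) by ring]
        exact hy
      · exact hg2
      · intro r
        change χh (ψ (algebraMap R (AdicCompletion 𝔪 R) r)) = _
        rw [hψ' r, hχh_of]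
        exact χ.commutes r
    let χ1 : AdicCompletion 𝔫 S →ₐ[AdicCompletion 𝔪 R] A :=
      { toRingHom := χh
        commutes' := fun y => RingHom.congr_fun hcomm y }
    refine ⟨χ1, ?_⟩
    have hfin : (Ideal.Quotient.mk J).comp χh = ψ1.toRingHom := by
      apply Groth.Agent.Lib.Helper83.AdicExtend.ringHom_ext_of_pow 𝔫 h𝔫 (2 * k)
      · intro x hx
        change Ideal.Quotient.mk J (χh x) = 0
        rw [hχh_zero x hx, map_zero]
      · intro x hx
        apply hk
        exact Ideal.pow_le_pow_right (by omega) hx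
      · intro s
        change Ideal.Quotient.mk J (χh (algebraMap S (AdicCompletion 𝔫 S) s)) = _
        rw [hχh_of, hχ', hψ₀]
        rfl
    exact AlgHom.ext fun x => RingHom.congr_fun hfin x
  · intro hSh
    have hSh' : CAlgX.IsAdicFormallySmooth (AdicCompletion 𝔪 R) (AdicCompletion 𝔫 S)
        (𝔫.map (algebraMap S (AdicCompletion 𝔫 S))) := hSh
    intro A _ _ J hJ ψ₀ hk
    obtain ⟨k, hk⟩ := hk
    have hρJ : ∀ a ∈ 𝔪 ^ (c * k), algebraMap R A a ∈ J := by
      intro a ha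
      rw [← Ideal.Quotient.eq_zero_iff_mem]
      have h1 : Ideal.Quotient.mk J (algebraMap R A a) = ψ₀ (algebraMap R S a) :=
        (ψ₀.commutes a).symm
      rw [h1]
      exact hk _ (hpowS k a ha)
    have hρ0 := Groth.Agent.Lib.Helper83.AdicExtend.eq_zero_of_mem_pow_two_mul 𝔪 (c * k)
      (algebraMap R A) J hJ hρJ
    let ρh : AdicCompletion 𝔪 R →+* A :=
      Groth.Agent.Lib.Helper83.AdicExtend.extend 𝔪 (2 * (c * k)) (algebraMap R A) hρ0
    have hρh_of : ∀ r, ρh (algebraMap R (AdicCompletion 𝔪 R) r) = algebraMap R A r := fun r =>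
      Groth.Agent.Lib.Helper83.AdicExtend.extend_of 𝔪 (2 * (c * k)) (algebraMap R A) hρ0 r
    have hρh_zero : ∀ y ∈ (𝔪.map (algebraMap R (AdicCompletion 𝔪 R))) ^ (2 * (c * k)),
        ρh y = 0 := fun y hy =>
      Groth.Agent.Lib.Helper83.AdicExtend.extend_eq_zero 𝔪 (2 * (c * k)) (algebraMap R A) hρ0 y hy
    letI algRhA : Algebra (AdicCompletion 𝔪 R) A := ρh.toAlgebra
    let ψh : AdicCompletion 𝔫 S →+* A ⧸ J :=
      Groth.Agent.Lib.Helper83.AdicExtend.extend 𝔫 k ψ₀.toRingHom hk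
    have hψh_of : ∀ s, ψh (algebraMap S (AdicCompletion 𝔫 S) s) = ψ₀ s := fun s =>
      Groth.Agent.Lib.Helper83.AdicExtend.extend_of 𝔫 k ψ₀.toRingHom hk s
    have hψh_zero : ∀ x ∈ (𝔫.map (algebraMap S (AdicCompletion 𝔫 S))) ^ k, ψh x = 0 :=
      fun x hx => Groth.Agent.Lib.Helper83.AdicExtend.extend_eq_zero 𝔫 k ψ₀.toRingHom hk x hx
    have hcomm : ψh.comp ψ = (Ideal.Quotient.mk J).comp ρh := by
      apply Groth.Agent.Lib.Helper83.AdicExtend.ringHom_ext_of_pow 𝔪 h𝔪 (2 * (c * k))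
      · intro y hy
        change ψh (ψ y) = 0
        apply hψh_zero
        have h2 : ψ y ∈ (𝔫.map (algebraMap S (AdicCompletion 𝔫 S))) ^ (2 * k) := by
          apply hpow
          rw [show c * (2 * k) = 2 * (c * k) by ring]
          exact hy
        exact Ideal.pow_le_pow_right (by omega) h2
      · intro y hy
        change Ideal.Quotient.mk J (ρh y) = 0
        rw [hρh_zero y hy, map_zero]
      · intro r
        change ψh (ψ (algebraMap R (AdicCompletion 𝔪 R) r)) =
          Ideal.Quotient.mk J (ρh (algebraMap R (AdicCompletion 𝔪 R) r))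
        rw [hψ' r, hψh_of, hρh_of]
        exact ψ₀.commutes r
    let ψ1 : AdicCompletion 𝔫 S →ₐ[AdicCompletion 𝔪 R] A ⧸ J :=
      { toRingHom := ψh
        commutes' := fun y => RingHom.congr_fun hcomm y }
    obtain ⟨χ1, hχ1⟩ := hSh' A J hJ ψ1 ⟨k, fun x hx => hψh_zero x hx⟩
    have hχ1' : ∀ x, Ideal.Quotient.mk J (χ1 x) = ψh x := fun x => AlgHom.congr_fun hχ1 x
    let χ : S →ₐ[R] A :=
      { toRingHom := χ1.toRingHom.comp (algebraMap S (AdicCompletion 𝔫 S))
        commutes' := fun r => by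
          change χ1 (algebraMap S (AdicCompletion 𝔫 S) (algebraMap R S r)) = _
          rw [← hψ' r]
          have := χ1.commutes (algebraMap R (AdicCompletion 𝔪 R) r)
          change χ1 (ψ (algebraMap R (AdicCompletion 𝔪 R) r)) =
            ρh (algebraMap R (AdicCompletion 𝔪 R) r) at this
          rw [this, hρh_of] }
    refine ⟨χ, AlgHom.ext fun s => ?_⟩
    change Ideal.Quotient.mk J (χ1 (algebraMap S (AdicCompletion 𝔫 S) s)) = ψ₀ s
    rw [hχ1', hψh_of]

end Groth.Agent.S9317
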