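import Groth.Statements.S9322
import Mathlib
import Groth.Agent.Lib.Helper96.AdicSmoothPS
import Groth.Agent.Lib.Helper96.PerfectSmooth

set_option autoImplicit false
open CAlg

namespace Groth.Agent.S9322

/-- Let `p` be a prime, `L` a field of characteristic `p` (given as an algebra over `ℤ/p`) and `n ≥ 0`.
Then `𝔽_p → L[[x_1, …, x_n]]` is formally smooth for the adic topology of the maximal ideal of the
power series ring. (`L` is taken in the lowest universe, where `ℤ/p` lives.) -/
theorem result (p : ℕ) [Fact p.Prime] (L : Type) [Field L]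
    [Algebra (ZMod p) L] (n : ℕ) :
    CAlgX.IsAdicFormallySmooth (ZMod p) (MvPowerSeries (Fin n) L)
      (IsLocalRing.maximalIdeal (MvPowerSeries (Fin n) L)) := by
  haveI : CharP L p := charP_of_injective_algebraMap (algebraMap (ZMod p) L).injective p
  haveI : Algebra.FormallySmooth (ZMod p) L :=
    Groth.Agent.Lib.Helper96.formallySmooth_of_perfectRing_charP p
  refine Groth.Agent.Lib.Helper96.isAdicFormallySmooth_mvPowerSeries (⊥ : Ideal L) n _ ?_ ?_
    (Groth.Agent.Lib.Helper96.isAdicFormallySmooth_of_formallySmooth _)
  · intro l hl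
    rw [Ideal.mem_bot] at hl
    rw [hl, map_zero]
    exact Ideal.zero_mem _
  · intro i
    rw [IsLocalRing.mem_maximalIdeal, mem_nonunits_iff, MvPowerSeries.isUnit_iff_constantCoeff]
    simp

end Groth.Agent.S9322
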