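import Groth.Statements.S9323
import Mathlib
import Groth.Agent.Lib.Helper96.AdicSmoothPS
import Groth.Agent.S9455

set_option autoImplicit false
open CAlg

namespace Groth.Agent.S9323

open IsLocalRing

/-- A Cohen ring is formally smooth over `ℤ` for its adic topology: reduce modulo `p^m` and use
S9455 (`Λ/p^m` formally smooth over `ℤ/p^m`). -/
theorem isAdicFormallySmooth_int_cohenRing (Λ : Type) [CommRing Λ] [IsDomain Λ]
    [IsDiscreteValuationRing Λ] [IsAdicComplete (maximalIdeal Λ) Λ] (p : ℕ) (hp : p.Prime)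
    (hm : maximalIdeal Λ = Ideal.span {(p : Λ)}) :
    CAlgX.IsAdicFormallySmooth ℤ Λ (maximalIdeal Λ) := by
  intro A _ _ J hJ ψ ⟨k, hk⟩
  have hpm : (p : Λ) ∈ maximalIdeal Λ := by rw [hm]; exact Ideal.mem_span_singleton_self _
  have hpow : ∀ j, k ≤ j → ψ ((p : Λ) ^ j) = 0 := fun j hj =>
    hk _ (Ideal.pow_le_pow_right hj (Ideal.pow_mem_pow hpm j))
  have h1 : (p : A) ^ (k + 1) ∈ J := by
    rw [← Ideal.Quotient.eq_zero_iff_mem, map_pow, map_natCast]
    have := hpow (k + 1) (by omega)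
    rwa [map_pow, map_natCast] at this
  have hpA : ((p ^ (2 * (k + 1)) : ℕ) : A) = 0 := by
    have h2 : (p : A) ^ (2 * (k + 1)) ∈ J ^ 2 := by
      rw [mul_comm, pow_mul]
      exact Ideal.pow_mem_pow h1 2
    rw [hJ, Ideal.mem_bot] at h2
    rw [Nat.cast_pow]
    exact h2
  letI : Algebra (ZMod (p ^ (2 * (k + 1)))) A := (ZMod.castHom (ringChar.dvd hpA) A).toAlgebra
  have hΛm : ((p ^ (2 * (k + 1)) : ℕ) : Λ ⧸ Ideal.span {((p : Λ) ^ (2 * (k + 1)))}) = 0 := by
    rw [← map_natCast (Ideal.Quotient.mk (Ideal.span {((p : Λ) ^ (2 * (k + 1)))})),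
      Nat.cast_pow, Ideal.Quotient.eq_zero_iff_mem]
    exact Ideal.mem_span_singleton_self _
  letI : Algebra (ZMod (p ^ (2 * (k + 1)))) (Λ ⧸ Ideal.span {((p : Λ) ^ (2 * (k + 1)))}) :=
    (ZMod.castHom (ringChar.dvd hΛm) _).toAlgebra
  haveI : Algebra.FormallySmooth (ZMod (p ^ (2 * (k + 1))))
      (Λ ⧸ Ideal.span {((p : Λ) ^ (2 * (k + 1)))}) :=
    Groth.Agent.S9455.result Λ p hp hm (2 * (k + 1)) (by omega)
  have hkill : ∀ a ∈ Ideal.span {((p : Λ) ^ (2 * (k + 1)))}, (ψ : Λ →+* A ⧸ J) a = 0 := by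
    intro a ha
    rw [Ideal.mem_span_singleton'] at ha
    obtain ⟨c, rfl⟩ := ha
    rw [map_mul]
    have : (ψ : Λ →+* A ⧸ J) ((p : Λ) ^ (2 * (k + 1))) = 0 := hpow _ (by omega)
    rw [this, mul_zero]
  let ψ' : (Λ ⧸ Ideal.span {((p : Λ) ^ (2 * (k + 1)))}) →ₐ[ZMod (p ^ (2 * (k + 1)))] A ⧸ J :=
    { Ideal.Quotient.lift _ (ψ : Λ →+* A ⧸ J) hkill with
      commutes' := fun c => by
        simp only [RingHom.toMonoidHom_eq_coe, OneHom.toFun_eq_coe, MonoidHom.toOneHom_coe,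
          MonoidHom.coe_coe]
        exact RingHom.congr_fun (Subsingleton.elim
          ((Ideal.Quotient.lift _ (ψ : Λ →+* A ⧸ J) hkill).comp (algebraMap _ _))
          (algebraMap _ _)) c }
  obtain ⟨χ, hχ⟩ := Algebra.FormallySmooth.comp_surjective (ZMod (p ^ (2 * (k + 1))))
    (Λ ⧸ Ideal.span {((p : Λ) ^ (2 * (k + 1)))}) J hJ ψ'
  refine ⟨{ ((χ : (Λ ⧸ Ideal.span {((p : Λ) ^ (2 * (k + 1)))}) →+* A).comp
      (Ideal.Quotient.mk _)) with
    commutes' := fun r => by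
      simp only [RingHom.toMonoidHom_eq_coe, OneHom.toFun_eq_coe, MonoidHom.toOneHom_coe,
        MonoidHom.coe_coe]
      exact RingHom.congr_fun (Subsingleton.elim
        (((χ : (Λ ⧸ Ideal.span {((p : Λ) ^ (2 * (k + 1)))}) →+* A).comp
          (Ideal.Quotient.mk _)).comp (algebraMap ℤ Λ)) (algebraMap ℤ A)) r }, ?_⟩
  ext x
  have := congrArg (fun f : (Λ ⧸ Ideal.span {((p : Λ) ^ (2 * (k + 1)))}) →ₐ[_] A ⧸ J =>
    f (Ideal.Quotient.mk _ x)) hχ
  simpa [ψ'] using this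

/-- Let `Λ` be a Cohen ring (a complete discrete valuation ring whose maximal ideal is generated by a
prime number) and `n ≥ 0`. Then `ℤ → Λ[[x_1, …, x_n]]` is formally smooth for the adic topology of
the maximal ideal of the power series ring. (`Λ` is taken in the lowest universe, where `ℤ` lives.) -/
theorem result (Λ : Type) [CommRing Λ] [IsLocalRing Λ]
    (hΛ : CAlg.IsCohenRing Λ) (n : ℕ) :
    CAlgX.IsAdicFormallySmooth ℤ (MvPowerSeries (Fin n) Λ)
      (IsLocalRing.maximalIdeal (MvPowerSeries (Fin n) Λ)) := by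
  obtain ⟨hdom, hdvr, hcomp, p, hp, hm⟩ := hΛ
  have h := isAdicFormallySmooth_int_cohenRing Λ p hp hm
  refine Groth.Agent.Lib.Helper96.isAdicFormallySmooth_mvPowerSeries (maximalIdeal Λ) n _ ?_ ?_ h
  · intro l hl
    rw [IsLocalRing.mem_maximalIdeal, mem_nonunits_iff, MvPowerSeries.isUnit_iff_constantCoeff]
    have : MvPowerSeries.constantCoeff (algebraMap Λ (MvPowerSeries (Fin n) Λ) l) = l := by
      simp [MvPowerSeries.algebraMap_apply]
    rw [this]
    exact (IsLocalRing.mem_maximalIdeal _).mp hl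
  · intro i
    rw [IsLocalRing.mem_maximalIdeal, mem_nonunits_iff, MvPowerSeries.isUnit_iff_constantCoeff]
    simp

end Groth.Agent.S9323
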