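import Groth.Statements.S9324
import Groth.Agent.S0525
import Groth.Agent.S0526
-- import your own Groth.Agent.* helpers here

set_option autoImplicit false
universe u
open Hensel

namespace Groth.Agent.S9324

open TensorProduct in
/-- Let `(A, I) → (B, J)` be a map of pairs, i.e. `I B ⊆ J`, such that `J` and `I B` have the same
radical, and suppose `A → B` is integral. Let `A^h` be a henselization of the pair `(A, I)`, `B^h` a
henselization of the pair `(B, J)`, and `φ : A^h → B^h` an `A`-algebra homomorphism (there is
exactly one, by the universal property of `A^h`). Then the induced map `A^h ⊗_A B → B^h` is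
bijective: henselization commutes with integral base change. -/
theorem result {A B Ah Bh : Type u} [CommRing A]
    [CommRing B] [CommRing Ah] [CommRing Bh] [Algebra A B] (I : Ideal A) (J : Ideal B)
    (hIJ : I.map (algebraMap A B) ≤ J) (hrad : J.radical = (I.map (algebraMap A B)).radical)
    [Algebra.IsIntegral A B] [Algebra A Ah] (hA : Hens2.IsPairHenselization A I Ah)
    [Algebra B Bh] [Algebra A Bh] [IsScalarTower A B Bh] (hB : Hens2.IsPairHenselization B J Bh)
    (φ : Ah →ₐ[A] Bh) :
    Function.Bijective (Algebra.TensorProduct.productMap φ (IsScalarTower.toAlgHom A B Bh)) := by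
  classical
  -- the tensor product and its two structure maps
  let iL : Ah →ₐ[A] Ah ⊗[A] B := Algebra.TensorProduct.includeLeft
  let iR : B →ₐ[A] Ah ⊗[A] B := Algebra.TensorProduct.includeRight
  let ψ : Ah ⊗[A] B →ₐ[A] Bh :=
    Algebra.TensorProduct.productMap φ (IsScalarTower.toAlgHom A B Bh)
  -- `Ah` is henselian along `I Ah`, hence `T` is henselian along `I T`
  have hAh : HenselianRing Ah (I.map (algebraMap A Ah)) := hA.1
  have hT1 : HenselianRing (Ah ⊗[A] B)
      ((I.map (algebraMap A Ah)).map (algebraMap Ah (Ah ⊗[A] B))) :=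
    Groth.Agent.S0526.result Ah (I.map (algebraMap A Ah)) (Ah ⊗[A] B)
  have hmap1 : (I.map (algebraMap A Ah)).map (algebraMap Ah (Ah ⊗[A] B)) =
      (I.map (algebraMap A B)).map iR.toRingHom := by
    rw [Ideal.map_map, Ideal.map_map]
    congr 1
    refine RingHom.ext fun a => ?_
    simp only [RingHom.comp_apply]
    have h1 : algebraMap Ah (Ah ⊗[A] B) (algebraMap A Ah a) = iL (algebraMap A Ah a) := rfl
    rw [h1, AlgHom.commutes]
    exact (iR.commutes a).symm
  have hrad2 : ((I.map (algebraMap A B)).map iR.toRingHom).radical =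
      (J.map iR.toRingHom).radical := by
    apply le_antisymm
    · apply Ideal.radical_mono
      exact Ideal.map_mono hIJ
    · rw [Ideal.radical_le_radical_iff]
      refine (Ideal.map_mono (Ideal.le_radical)).trans ?_
      rw [hrad]
      exact Ideal.map_radical_le _
  have hT2 : HenselianRing (Ah ⊗[A] B) (J.map iR.toRingHom) := by
    rw [hmap1] at hT1
    exact (Groth.Agent.S0525.result _ _ _ hrad2).1 hT1
  -- the inverse map from the universal property of `Bh`
  obtain ⟨g, hg, -⟩ := hB.2 (Ah ⊗[A] B) (J.map iR.toRingHom) iR.toRingHom hT2 le_rfl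
  -- `ψ ∘ g = id`
  have hψg : ψ.toRingHom.comp g = RingHom.id Bh := by
    obtain ⟨g', -, huniq⟩ := hB.2 Bh (J.map (algebraMap B Bh)) (algebraMap B Bh) hB.1 le_rfl
    have e1 : ψ.toRingHom.comp g = g' := by
      apply huniq
      rw [RingHom.comp_assoc, hg]
      refine RingHom.ext fun b => ?_
      simp [ψ, iR]
    have e2 : RingHom.id Bh = g' := by
      apply huniq
      rw [RingHom.id_comp]
    rw [e1, e2]
  -- `g ∘ ψ = id`
  have hgφ : g.comp φ.toRingHom = iL.toRingHom := by
    have hle : I.map (algebraMap A (Ah ⊗[A] B)) ≤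
        (I.map (algebraMap A Ah)).map (algebraMap Ah (Ah ⊗[A] B)) := by
      rw [Ideal.map_map]
      apply le_of_eq
      congr 1
    obtain ⟨g', -, huniq⟩ := hA.2 (Ah ⊗[A] B) _ (algebraMap A (Ah ⊗[A] B)) hT1 hle
    have e1 : g.comp φ.toRingHom = g' := by
      apply huniq
      refine RingHom.ext fun a => ?_
      simp only [RingHom.comp_apply, AlgHom.toRingHom_eq_coe, RingHom.coe_coe, AlgHom.commutes]
      rw [IsScalarTower.algebraMap_apply A B Bh]
      have := RingHom.congr_fun hg (algebraMap A B a)
      simp only [RingHom.comp_apply] at this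
      rw [this]
      exact iR.commutes a
    have e2 : iL.toRingHom = g' := by
      apply huniq
      refine RingHom.ext fun a => ?_
      simp only [RingHom.comp_apply, AlgHom.toRingHom_eq_coe, RingHom.coe_coe, AlgHom.commutes]
    rw [e1, e2]
  have hgψ : ∀ t : Ah ⊗[A] B, g (ψ t) = t := by
    intro t
    induction t using TensorProduct.induction_on with
    | zero => simp
    | add x y hx hy => rw [map_add, map_add, hx, hy]
    | tmul x b =>
      have h1 : ψ (x ⊗ₜ[A] b) = φ x * algebraMap B Bh b := by
        simp [ψ]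
      rw [h1, map_mul]
      have h2 : g (φ x) = x ⊗ₜ[A] 1 := RingHom.congr_fun hgφ x
      have h3 : g (algebraMap B Bh b) = 1 ⊗ₜ[A] b := RingHom.congr_fun hg b
      rw [h2, h3]
      simp
  refine ⟨?_, ?_⟩
  · intro t₁ t₂ h
    have : ψ t₁ = ψ t₂ := h
    rw [← hgψ t₁, ← hgψ t₂, this]
  · intro y
    exact ⟨g y, RingHom.congr_fun hψg y⟩

end Groth.Agent.S9324
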