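import Groth.Statements.S9325
import Mathlib

set_option autoImplicit false
universe u
open CAlg


namespace Groth.Agent.S9325

theorem local_inter {A' B : Type u} [CommRing A'] [CommRing B]
    (π : A' →+* B) (hπ : Function.Surjective π) {c : ℕ} (f : Fin c → B)
    (hf : CAlgX.IsH1Regular f) (φ : Fin c → A') (hφ : ∀ i, π (φ i) = f i) :
    RingHom.ker π ⊓ Ideal.span (Set.range φ) ≤ RingHom.ker π * Ideal.span (Set.range φ) := by
  classical
  have key : ∀ b ∈ Submodule.span B
      {v : Fin c → B | ∃ i j : Fin c, v = Pi.single i (f j) - Pi.single j (f i)},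
      ∃ a₀ : Fin c → A', (∀ k, π (a₀ k) = b k) ∧
        ∑ k, a₀ k * φ k ∈ RingHom.ker π * Ideal.span (Set.range φ) := by
    intro b hb
    induction hb using Submodule.span_induction with
    | mem v hv =>
      obtain ⟨i, j, rfl⟩ := hv
      refine ⟨Pi.single i (φ j) - Pi.single j (φ i), fun k => ?_, ?_⟩
      · simp only [Pi.sub_apply, map_sub, Pi.single_apply]
        split_ifs <;> simp [hφ]
      · have : ∑ k, (Pi.single i (φ j) - Pi.single j (φ i) : Fin c → A') k * φ k = 0 := by
          simp only [Pi.sub_apply, Pi.single_apply, sub_mul, ite_mul, zero_mul,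
            Finset.sum_sub_distrib, Finset.sum_ite_eq', Finset.mem_univ, if_true]
          ring
        rw [this]
        exact Ideal.zero_mem _
    | zero => exact ⟨0, by simp, by simp⟩
    | add u v _ _ hu hv =>
      obtain ⟨a, ha1, ha2⟩ := hu
      obtain ⟨a', ha1', ha2'⟩ := hv
      refine ⟨a + a', fun k => by simp [ha1, ha1'], ?_⟩
      simp only [Pi.add_apply, add_mul, Finset.sum_add_distrib]
      exact Ideal.add_mem _ ha2 ha2'
    | smul r v _ hv =>
      obtain ⟨a, ha1, ha2⟩ := hv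
      obtain ⟨r', rfl⟩ := hπ r
      refine ⟨r' • a, fun k => by simp [ha1], ?_⟩
      simp only [Pi.smul_apply, smul_eq_mul, mul_assoc, ← Finset.mul_sum]
      exact Ideal.mul_mem_left _ _ ha2
  rintro x ⟨hx1, hx2⟩
  obtain ⟨a, rfl⟩ := (Ideal.mem_span_range_iff_exists_fun).1 hx2
  have hrel : ∑ i, π (a i) * f i = 0 := by
    have := RingHom.mem_ker.1 hx1
    rw [map_sum] at this
    simpa [map_mul, hφ] using this
  obtain ⟨a₀, h1, h2⟩ := key _ (hf (fun i => π (a i)) hrel)
  have : ∑ i, a i * φ i = ∑ i, a₀ i * φ i + ∑ i, (a i - a₀ i) * φ i := by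
    simp [sub_mul, Finset.sum_sub_distrib]
  rw [this]
  refine Ideal.add_mem _ h2 (Ideal.sum_mem _ fun i _ =>
    Ideal.mul_mem_mul ?_ (Ideal.subset_span ⟨i, rfl⟩))
  rw [RingHom.mem_ker, map_sub, h1, sub_self]

theorem local_inter_sq {A' B : Type u} [CommRing A'] [CommRing B]
    (π : A' →+* B) (hπ : Function.Surjective π) {c : ℕ} (f : Fin c → B)
    (hf : CAlgX.IsH1Regular f) (φ : Fin c → A') (hφ : ∀ i, π (φ i) = f i) :
    RingHom.ker π ⊓ (RingHom.ker π ⊔ Ideal.span (Set.range φ)) ^ 2 ≤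
      RingHom.ker π * (RingHom.ker π ⊔ Ideal.span (Set.range φ)) := by
  have hsq : (RingHom.ker π ⊔ Ideal.span (Set.range φ)) ^ 2 ≤
      RingHom.ker π * (RingHom.ker π ⊔ Ideal.span (Set.range φ)) ⊔ Ideal.span (Set.range φ) := by
    rw [pow_two, Ideal.sup_mul]
    exact sup_le_sup le_rfl Ideal.mul_le_left
  rintro x ⟨hx1, hx2⟩
  obtain ⟨y, hy, z, hz, rfl⟩ := Submodule.mem_sup.1 (hsq hx2)
  have hyK : y ∈ RingHom.ker π := Ideal.mul_le_left hy
  have hzK : z ∈ RingHom.ker π := by
    have := (RingHom.ker π).sub_mem hx1 hyK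
    simpa using this
  have := local_inter π hπ f hf φ hφ ⟨hzK, hz⟩
  exact Ideal.add_mem _ hy (Ideal.mul_mono_right le_sup_right this)

theorem ker_map_eq {A : Type u} [CommRing A] (I : Ideal A) (M : Submonoid A)
    (A' B : Type u) [CommRing A'] [Algebra A A'] [IsLocalization M A']
    [CommRing B] [Algebra (A ⧸ I) B] [IsLocalization (M.map (Ideal.Quotient.mk I)) B] :
    RingHom.ker (IsLocalization.map B (Ideal.Quotient.mk I) M.le_comap_map : A' →+* B) =
      I.map (algebraMap A A') := by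
  apply le_antisymm
  · intro z hz
    obtain ⟨a, s, rfl⟩ := IsLocalization.exists_mk'_eq M z
    rw [RingHom.mem_ker, IsLocalization.map_mk', IsLocalization.mk'_eq_zero_iff] at hz
    obtain ⟨⟨m', t, ht, rfl⟩, hm⟩ := hz
    rw [IsLocalization.mk'_mem_map_algebraMap_iff]
    refine ⟨t, ht, ?_⟩
    rw [← Ideal.Quotient.eq_zero_iff_mem, map_mul]
    exact hm
  · rw [Ideal.map_le_iff_le_comap]
    intro a ha
    rw [Ideal.mem_comap, RingHom.mem_ker, IsLocalization.map_eq,
      Ideal.Quotient.eq_zero_iff_mem.2 ha, map_zero]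

end Groth.Agent.S9325

namespace Groth.Agent.S9325

/-- Let `A` be a ring and `I ⊆ J` ideals of `A` such that the ideal `J/I` of `A/I` is `H_1`-regular: for
every prime `𝔮` of `A/I` containing `J/I` there is `g ∉ 𝔮` such that the extension of `J/I` to
`(A/I)_g` is generated by an `H_1`-regular sequence (a finite sequence all of whose linear relations
are combinations of the trivial ones). Then `I ∩ J² = I J`. -/
theorem result {A : Type u} [CommRing A] (I J : Ideal A)
    (hIJ : I ≤ J)
    (h : ∀ (𝔮 : Ideal (A ⧸ I)) [𝔮.IsPrime], J.map (Ideal.Quotient.mk I) ≤ 𝔮 →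
      ∃ g : A ⧸ I, g ∉ 𝔮 ∧ ∃ (c : ℕ) (f : Fin c → Localization.Away g),
        CAlgX.IsH1Regular f ∧
          Ideal.span (Set.range f) =
            (J.map (Ideal.Quotient.mk I)).map (algebraMap (A ⧸ I) (Localization.Away g))) :
    I ⊓ J ^ 2 = I * J := by
  classical
  apply le_antisymm
  swap
  · refine le_inf Ideal.mul_le_left ?_
    rw [pow_two]
    exact Ideal.mul_mono_left hIJ
  intro x hx
  -- colon ideal
  let 𝔞 : Ideal A := (I * J).colon (Ideal.span {x})
  have h𝔞 : ∀ a, a ∈ 𝔞 ↔ a * x ∈ I * J := by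
    intro a
    rw [Submodule.mem_colon_span_singleton, smul_eq_mul]
  by_contra hxIJ
  have hne : 𝔞 ≠ ⊤ := by
    intro htop
    have : (1 : A) ∈ 𝔞 := htop ▸ Submodule.mem_top
    rw [h𝔞, one_mul] at this
    exact hxIJ this
  obtain ⟨𝔪, h𝔪, hle⟩ := Ideal.exists_le_maximal 𝔞 hne
  have hx1 : x ∈ I := hx.1
  have hx2 : x ∈ J ^ 2 := hx.2
  have hxJ : x ∈ J := Ideal.pow_le_self two_ne_zero hx2
  have hJ𝔪 : J ≤ 𝔪 := by
    intro a ha
    apply hle
    rw [h𝔞, mul_comm a x]
    exact Ideal.mul_mem_mul hx1 ha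
  have hI𝔪 : I ≤ 𝔪 := hIJ.trans hJ𝔪
  have hker : RingHom.ker (Ideal.Quotient.mk I) ≤ 𝔪 := by rwa [Ideal.mk_ker]
  have h𝔮 : (𝔪.map (Ideal.Quotient.mk I)).IsPrime :=
    Ideal.map_isPrime_of_surjective Ideal.Quotient.mk_surjective hker
  obtain ⟨gbar, hgbar, c, f, hf, hspan⟩ := h (𝔪.map (Ideal.Quotient.mk I))
    (Ideal.map_mono hJ𝔪)
  obtain ⟨g, rfl⟩ := Ideal.Quotient.mk_surjective gbar
  have hg𝔪 : g ∉ 𝔪 := fun hg => hgbar (Ideal.mem_map_of_mem _ hg)
  -- the localizations
  let M : Submonoid A := Submonoid.powers g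
  have : IsLocalization (M.map (Ideal.Quotient.mk I))
      (Localization.Away (Ideal.Quotient.mk I g)) := by
    rw [Submonoid.map_powers]
    infer_instance
  let π : Localization.Away g →+* Localization.Away (Ideal.Quotient.mk I g) :=
    IsLocalization.map _ (Ideal.Quotient.mk I) M.le_comap_map
  have hπ : Function.Surjective π :=
    IsLocalization.map_surjective_of_surjective M (Localization.Away g) _
      Ideal.Quotient.mk_surjective
  have hkerπ : RingHom.ker π = I.map (algebraMap A (Localization.Away g)) :=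
    Groth.Agent.S9325.ker_map_eq I M _ _
  have hφ : ∀ i, ∃ a, π a = f i := fun i => hπ (f i)
  choose φ hφ using hφ
  have hL := Groth.Agent.S9325.local_inter_sq π hπ f hf φ hφ
  -- identify `J A'`
  have hJ' : J.map (algebraMap A (Localization.Away g)) =
      RingHom.ker π ⊔ Ideal.span (Set.range φ) := by
    have h1 : (J.map (algebraMap A (Localization.Away g))).map π = Ideal.span (Set.range f) := by
      rw [Ideal.map_map, IsLocalization.map_comp, ← Ideal.map_map, hspan]
    have h2 : (RingHom.ker π ⊔ Ideal.span (Set.range φ)).map π = Ideal.span (Set.range f) := by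
      rw [Ideal.map_sup, Ideal.map_span, ← Set.range_comp]
      have : (RingHom.ker π).map π = ⊥ := by
        rw [Ideal.map_eq_bot_iff_le_ker]
      rw [this, bot_sup_eq]
      congr 2
      ext i
      exact hφ i
    have h3 : RingHom.ker π ≤ J.map (algebraMap A (Localization.Away g)) := by
      rw [hkerπ]
      exact Ideal.map_mono hIJ
    calc J.map (algebraMap A (Localization.Away g))
        = Ideal.comap π ((J.map (algebraMap A (Localization.Away g))).map π) := by
          rw [Ideal.comap_map_of_surjective π hπ, ← RingHom.ker_eq_comap_bot]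
          exact (sup_eq_left.2 h3).symm
      _ = Ideal.comap π ((RingHom.ker π ⊔ Ideal.span (Set.range φ)).map π) := by rw [h1, h2]
      _ = RingHom.ker π ⊔ Ideal.span (Set.range φ) := by
          rw [Ideal.comap_map_of_surjective π hπ, ← RingHom.ker_eq_comap_bot]
          exact sup_eq_left.2 le_sup_left
  rw [← hJ', hkerπ, ← Ideal.map_pow, ← Ideal.map_mul] at hL
  have hxmem : algebraMap A (Localization.Away g) x ∈
      (I * J).map (algebraMap A (Localization.Away g)) :=
    hL ⟨Ideal.mem_map_of_mem _ hx1, Ideal.mem_map_of_mem _ hx2⟩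
  rw [IsLocalization.mem_map_algebraMap_iff M] at hxmem
  obtain ⟨⟨⟨y, hy⟩, ⟨s, hs⟩⟩, hys⟩ := hxmem
  simp only at hys
  rw [← map_mul, IsLocalization.eq_iff_exists M] at hys
  obtain ⟨⟨t, ht⟩, hts⟩ := hys
  simp only at hts
  have hmem : t * s ∈ 𝔞 := by
    rw [h𝔞]
    have : t * s * x = t * y := by rw [mul_assoc, mul_comm s x]; exact hts
    rw [this]
    exact Ideal.mul_mem_left _ _ hy
  have := hle hmem
  rcases h𝔪.isPrime.mem_or_mem this with h' | h'
  · obtain ⟨n, rfl⟩ := ht
    exact hg𝔪 (h𝔪.isPrime.mem_of_pow_mem _ h')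
  · obtain ⟨n, rfl⟩ := hs
    exact hg𝔪 (h𝔪.isPrime.mem_of_pow_mem _ h')

end Groth.Agent.S9325
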