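import Groth.Statements.S9326
import Mathlib
-- import your own Groth.Agent.* helpers here

set_option autoImplicit false
universe u
open CAlg

namespace Groth.Agent.S9326

section helpers
open Filter Topology

variable {N M : Type u} [AddCommGroup N]
    [AddCommGroup M] [UniformSpace N] [IsUniformAddGroup N] [TopologicalSpace M]
    [IsTopologicalAddGroup M] [T2Space M] [CompleteSpace N] [NonarchimedeanAddGroup N]
    [FirstCountableTopology N]

/-- key: nearly open implies image of open subgroup is closed under closure -/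
lemma closure_image_subset (u : N →+ M) (hu : Continuous u)
    (H : ∀ V : OpenAddSubgroup N, IsOpen (closure (u '' (V : Set N))))
    (V : OpenAddSubgroup N) : closure (u '' (V : Set N)) ⊆ u '' (V : Set N) := by
  classical
  -- decreasing basis
  obtain ⟨b, hb⟩ := (𝓝 (0 : N)).exists_antitone_basis
  have hV' : ∀ n, ∃ V' : OpenAddSubgroup N, (V' : Set N) ⊆ b n := fun n =>
    NonarchimedeanAddGroup.is_nonarchimedean (b n) (hb.1.mem_of_mem trivial)
  choose V' hV' using hV'
  obtain ⟨Vs, hVs0, hVsS⟩ : ∃ Vs : ℕ → OpenAddSubgroup N, Vs 0 = V ∧ ∀ n, Vs (n + 1) = Vs n ⊓ V' n :=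
    ⟨fun n => Nat.rec V (fun n W => W ⊓ V' n) n, rfl, fun n => rfl⟩
  have hVs_anti : ∀ n m, n ≤ m → Vs m ≤ Vs n := by
    intro n m hnm
    induction hnm with
    | refl => exact le_rfl
    | step _ ih => rw [hVsS]; exact inf_le_left.trans ih
  have hVs_basis : ∀ O ∈ 𝓝 (0 : N), ∃ n, (Vs n : Set N) ⊆ O := by
    intro O hO
    obtain ⟨n, -, hn⟩ := hb.1.mem_iff.1 hO
    refine ⟨n + 1, fun x hx => hn (hV' n ?_)⟩
    rw [hVsS] at hx
    exact hx.2
  -- W n := closure (u '' Vs n) as an additive subgroup
  obtain ⟨W, hW⟩ : ∃ W : ℕ → AddSubgroup M, ∀ n, (W n : Set M) = closure (u '' (Vs n : Set N)) := by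
    refine ⟨fun n => ((Vs n).toAddSubgroup.map u).topologicalClosure, fun n => ?_⟩
    rw [AddSubgroup.topologicalClosure_coe]
    rfl
  have hWopen : ∀ n, IsOpen (W n : Set M) := fun n => by rw [hW]; exact H _
  have hWclosed : ∀ n, IsClosed (W n : Set M) := fun n => by rw [hW]; exact isClosed_closure
  have hW_anti : ∀ n m, n ≤ m → W m ≤ W n := by
    intro n m hnm
    have : (W m : Set M) ⊆ W n := by
      rw [hW, hW]
      exact closure_mono (Set.image_mono (hVs_anti n m hnm))
    exact this
  -- the step
  have hstep : ∀ n, ∀ y : M, ∃ x : N, y ∈ W n → (x ∈ Vs n ∧ y - u x ∈ W (n + 1)) := by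
    intro n y
    by_cases hy : y ∈ W n
    · have hy' : y ∈ closure (u '' (Vs n : Set N)) := by rw [← hW]; exact hy
      have hnhds : {z : M | y - z ∈ W (n + 1)} ∈ 𝓝 y := by
        have hc : Continuous (fun z : M => y - z) := continuous_const.sub continuous_id
        have : (fun z : M => y - z) ⁻¹' (W (n + 1) : Set M) ∈ 𝓝 y := by
          apply hc.continuousAt.preimage_mem_nhds
          simp only [sub_self]
          exact (hWopen (n + 1)).mem_nhds (W (n + 1)).zero_mem
        exact this
      obtain ⟨z, hz1, ⟨x, hx, rfl⟩⟩ := mem_closure_iff_nhds.1 hy' _ hnhds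
      exact ⟨x, fun _ => ⟨hx, hz1⟩⟩
    · exact ⟨0, fun h => absurd h hy⟩
  choose f hf using hstep
  intro y hy
  have hy0 : y ∈ W 0 := by
    have : y ∈ (W 0 : Set M) := by rw [hW, hVs0]; exact hy
    exact this
  -- sequences
  obtain ⟨ys, hys0, hysS⟩ : ∃ ys : ℕ → M, ys 0 = y ∧ ∀ n, ys (n + 1) = ys n - u (f n (ys n)) :=
    ⟨fun n => Nat.rec y (fun n z => z - u (f n z)) n, rfl, fun n => rfl⟩
  have hysW : ∀ n, ys n ∈ W n := by
    intro n
    induction n with
    | zero => rw [hys0]; exact hy0
    | succ n ih => rw [hysS]; exact (hf n (ys n) ih).2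
  obtain ⟨xs, hxs⟩ : ∃ xs : ℕ → N, xs = fun n => f n (ys n) := ⟨_, rfl⟩
  have hxsV : ∀ n, xs n ∈ Vs n := fun n => by rw [hxs]; exact (hf n (ys n) (hysW n)).1
  have hys_sum : ∀ n, ys n = y - u (∑ k ∈ Finset.range n, xs k) := by
    intro n
    induction n with
    | zero => simp [hys0]
    | succ n ih =>
      have hx_n : f n (ys n) = xs n := by rw [hxs]
      rw [hysS, hx_n, Finset.sum_range_succ, map_add, ih]
      abel
  -- summability
  have htend : Tendsto xs cofinite (𝓝 0) := by
    rw [Nat.cofinite_eq_atTop]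
    refine tendsto_def.2 (fun O hO => ?_)
    obtain ⟨n, hn⟩ := hVs_basis O hO
    filter_upwards [eventually_ge_atTop n] with m hm
    exact hn (hVs_anti n m hm (hxsV m))
  have hsum : Summable xs := NonarchimedeanAddGroup.summable_of_tendsto_cofinite_zero htend
  obtain ⟨x, hx⟩ := hsum
  have hpart : Tendsto (fun n => ∑ k ∈ Finset.range n, xs k) atTop (𝓝 x) := hx.tendsto_sum_nat
  have hpartV : ∀ n, ∑ k ∈ Finset.range n, xs k ∈ Vs 0 := fun n =>
    (Vs 0).toAddSubgroup.sum_mem (fun k _ => hVs_anti 0 k (Nat.zero_le k) (hxsV k))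
  have hxV : x ∈ Vs 0 := by
    have hcl : IsClosed ((Vs 0 : OpenAddSubgroup N) : Set N) := (Vs 0).isClosed
    exact hcl.mem_of_tendsto hpart (Eventually.of_forall hpartV)
  -- u x = y
  have hlim : Tendsto (fun n => ys n) atTop (𝓝 (y - u x)) := by
    have : (fun n => ys n) = fun n => y - u (∑ k ∈ Finset.range n, xs k) := funext hys_sum
    rw [this]
    exact tendsto_const_nhds.sub ((hu.tendsto x).comp hpart)
  have hzW : ∀ n, y - u x ∈ W n := by
    intro n
    refine (hWclosed n).mem_of_tendsto hlim ?_
    filter_upwards [eventually_ge_atTop n] with m hm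
    exact hW_anti n m hm (hysW m)
  have hz0 : y - u x = 0 := by
    by_contra hne
    have hopen : ({y - u x}ᶜ : Set M) ∈ 𝓝 (0 : M) :=
      isOpen_compl_singleton.mem_nhds (by simpa using Ne.symm hne)
    obtain ⟨T, hT, hTcl, hTsub⟩ := exists_mem_nhds_isClosed_subset hopen
    have hpre : u ⁻¹' T ∈ 𝓝 (0 : N) := by
      apply hu.continuousAt.preimage_mem_nhds
      rw [map_zero]; exact hT
    obtain ⟨n, hn⟩ := hVs_basis _ hpre
    have hsub : (W n : Set M) ⊆ T := by
      rw [hW]
      apply closure_minimal _ hTcl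
      rintro _ ⟨v, hv, rfl⟩
      exact hn hv
    exact hTsub (hsub (hzW n)) rfl
  refine ⟨x, ?_, ?_⟩
  · rw [← hVs0]; exact hxV
  · exact (sub_eq_zero.1 hz0).symm

end helpers

open Filter Topology in
/-- Let `u : N → M` be a continuous homomorphism of topological abelian groups. Assume `M` is Hausdorff
and `N` is Hausdorff and complete, linearly topologized (every neighbourhood of zero contains an
open subgroup) and first countable (zero has a countable basis of neighbourhoods). Then exactly one
of two things holds: `u` is an open map; or there is an open subgroup of `N` whose image is nowhere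
dense in `M`. -/
theorem result {N M : Type u} [AddCommGroup N]
    [AddCommGroup M] [UniformSpace N] [IsUniformAddGroup N] [TopologicalSpace M]
    [IsTopologicalAddGroup M] [T2Space M] [T2Space N] [CompleteSpace N] [NonarchimedeanAddGroup N]
    [FirstCountableTopology N] (u : N →+ M) (hu : Continuous u) :
    Xor (IsOpenMap u) (∃ V : OpenAddSubgroup N, IsNowhereDense (u '' (V : Set N))) := by
  have hA : IsOpenMap u → ¬ ∃ V : OpenAddSubgroup N, IsNowhereDense (u '' (V : Set N)) := by
    rintro hopen ⟨V, hV⟩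
    have h1 : IsOpen (u '' (V : Set N)) := hopen _ V.isOpen
    have h2 : (0 : M) ∈ interior (closure (u '' (V : Set N))) := by
      apply interior_mono subset_closure
      rw [h1.interior_eq]
      exact ⟨0, V.zero_mem, map_zero u⟩
    rw [IsNowhereDense] at hV
    rw [hV] at h2
    exact h2
  by_cases hex : ∃ V : OpenAddSubgroup N, IsNowhereDense (u '' (V : Set N))
  · exact Or.inr ⟨hex, fun h => hA h hex⟩
  · refine Or.inl ⟨?_, hex⟩
    push Not at hex
    -- closures of images are open
    have H : ∀ V : OpenAddSubgroup N, IsOpen (closure (u '' (V : Set N))) := by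
      intro V
      have hne : (interior (closure (u '' (V : Set N)))).Nonempty := by
        rw [Set.nonempty_iff_ne_empty]
        exact hex V
      obtain ⟨g, hg⟩ := hne
      have hcoe : ((((V.toAddSubgroup.map u).topologicalClosure : AddSubgroup M)) : Set M) =
          closure (u '' (V : Set N)) := by
        rw [AddSubgroup.topologicalClosure_coe]; rfl
      rw [← hcoe]
      apply AddSubgroup.isOpen_of_mem_nhds _ (g := g)
      rw [hcoe]
      exact mem_interior_iff_mem_nhds.1 hg
    have himg : ∀ V : OpenAddSubgroup N, IsOpen (u '' (V : Set N)) := by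
      intro V
      have : u '' (V : Set N) = closure (u '' (V : Set N)) :=
        Set.Subset.antisymm subset_closure (closure_image_subset u hu H V)
      rw [this]; exact H V
    intro U hU
    rw [isOpen_iff_mem_nhds]
    rintro _ ⟨x, hx, rfl⟩
    have hnhds : (fun z => x + z) ⁻¹' U ∈ 𝓝 (0 : N) := by
      apply (continuous_const.add continuous_id).continuousAt.preimage_mem_nhds
      simpa using hU.mem_nhds hx
    obtain ⟨V, hV⟩ := NonarchimedeanAddGroup.is_nonarchimedean _ hnhds
    have hsub : (fun w => u x + w) '' (u '' (V : Set N)) ⊆ u '' U := by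
      rintro _ ⟨_, ⟨v, hv, rfl⟩, rfl⟩
      exact ⟨x + v, hV hv, map_add u x v⟩
    refine Filter.mem_of_superset ?_ hsub
    have hopen : IsOpen ((fun w => u x + w) '' (u '' (V : Set N))) :=
      (isOpenMap_add_left (u x)) _ (himg V)
    exact hopen.mem_nhds ⟨0, ⟨0, V.zero_mem, map_zero u⟩, add_zero _⟩

end Groth.Agent.S9326
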