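import Groth.Statements.S9329
import Groth.Agent.Lib.Helper10.TameKill
-- import your own Groth.Agent.* helpers here

set_option autoImplicit false
set_option linter.style.haveILetI false
universe u
open EtRam

namespace Groth.Agent.S9329

open Polynomial IsLocalRing in
/-- Let `K` be the fraction field of a discrete valuation ring `A`, let `π` be a uniformizer of `A`, and
let `L` be a finite separable extension of `K` which is tamely ramified with respect to `A`. Then
there is `e₀ ≥ 1` invertible in the residue field of `A` such that for each `d ≥ 1` that is also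
invertible in the residue field, setting `e = d e₀` and `A' = A[z]/(z^e - π)`, there is a finite
separable extension `L'` of `K` into which `L` embeds over `K`, carrying an `A'`-algebra structure
extending `A → K → L'`, such that `L'` is unramified with respect to `A'`. (The local-ring instance
on `A'`, which holds, is quantified as a hypothesis.) -/
theorem result
    {A K L : Type u} [CommRing A] [IsDomain A]
    [IsDiscreteValuationRing A] [Field K] [Algebra A K] [IsFractionRing A K] [Field L] [Algebra K L]
    [Algebra A L] [IsScalarTower A K L] [FiniteDimensional K L] [Algebra.IsSeparable K L]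
    (π : A) (hπ : maximalIdeal A = Ideal.span {π}) (h : EtRam.IsTamelyRamified A (algebraMap A L)) :
    ∃ e₀ : ℕ, 0 < e₀ ∧ (e₀ : ResidueField A) ≠ 0 ∧
      ∀ d : ℕ, 0 < d → (d : ResidueField A) ≠ 0 →
        ∃ (L' : Type u) (_ : Field L') (_ : Algebra K L')
          (_ : Algebra (AdjoinRoot (X ^ (d * e₀) - C π : A[X])) L') (_ : L →ₐ[K] L'),
          FiniteDimensional K L' ∧ Algebra.IsSeparable K L' ∧
          (algebraMap (AdjoinRoot (X ^ (d * e₀) - C π : A[X])) L').comp (AdjoinRoot.of (X ^ (d * e₀) - C π)) =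
            (algebraMap K L').comp (algebraMap A K) ∧
          ∀ [IsLocalRing (AdjoinRoot (X ^ (d * e₀) - C π : A[X]))],
            EtRam.IsUnramifiedExt (AdjoinRoot (X ^ (d * e₀) - C π : A[X]))
              (algebraMap (AdjoinRoot (X ^ (d * e₀) - C π : A[X])) L') := by
  classical
  have hπirr : Irreducible π := (IsDiscreteValuationRing.irreducible_iff_uniformizer π).mpr hπ
  have h' : EtRam.IsTamelyRamified A ((algebraMap K L).comp (algebraMap A K)) := by
    rw [← IsScalarTower.algebraMap_eq A K L]; exact h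
  have hALinj : Function.Injective (algebraMap A L) := by
    rw [IsScalarTower.algebraMap_eq A K L]
    exact (algebraMap K L).injective.comp (IsFractionRing.injective A K)
  set N := Module.finrank K L with hN
  set e₀ := ∏ k ∈ (Finset.Icc 1 N).filter (fun k : ℕ => ((k : ℕ) : ResidueField A) ≠ 0), k
    with he₀
  have he₀pos : 0 < e₀ := by
    apply Finset.prod_pos
    intro k hk
    exact (Finset.mem_Icc.mp (Finset.mem_filter.mp hk).1).1
  have he₀κ : ((e₀ : ℕ) : ResidueField A) ≠ 0 := by
    rw [he₀, Nat.cast_prod, Finset.prod_ne_zero_iff]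
    intro k hk
    exact (Finset.mem_filter.mp hk).2
  have he₀div : ∀ k : ℕ, 0 < k → k ≤ N → ((k : ℕ) : ResidueField A) ≠ 0 → k ∣ e₀ := by
    intro k hk0 hkN hkκ
    exact Finset.dvd_prod_of_mem _ (Finset.mem_filter.mpr ⟨Finset.mem_Icc.mpr ⟨hk0, hkN⟩, hkκ⟩)
  refine ⟨e₀, he₀pos, he₀κ, fun d hd hdκ => ?_⟩
  have hn : 1 ≤ d * e₀ := Nat.mul_pos hd he₀pos
  have hnκ : ((d * e₀ : ℕ) : ResidueField A) ≠ 0 := by
    rw [Nat.cast_mul]; exact mul_ne_zero hdκ he₀κ
  have hnL : ((d * e₀ : ℕ) : L) ≠ 0 := by
    intro h0
    apply hnκ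
    have h1 : algebraMap A L ((d * e₀ : ℕ) : A) = 0 := by rw [map_natCast]; exact h0
    have h2 : ((d * e₀ : ℕ) : A) = 0 := hALinj (by rw [h1, map_zero])
    have h3 := congrArg (residue A) h2
    rwa [map_natCast, map_zero] at h3
  -- an irreducible factor
  have hdeg : 0 < (X ^ (d * e₀) - C (algebraMap A L π) : L[X]).degree := by
    rw [degree_X_pow_sub_C (by omega)]
    exact_mod_cast hn
  obtain ⟨g, hgirr, hg⟩ := exists_irreducible_of_degree_pos hdeg
  haveI : Fact (Irreducible g) := ⟨hgirr⟩
  have hg0 : g ≠ 0 := hgirr.ne_zero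
  letI algA'L' : Algebra (AdjoinRoot (X ^ (d * e₀) - C π : A[X])) (AdjoinRoot g) :=
    (Groth.Agent.Lib.Helper10.KummerExt.liftHom A π (d * e₀) L g hg).toAlgebra
  haveI finLL' : FiniteDimensional L (AdjoinRoot g) := (AdjoinRoot.powerBasis hg0).finite
  haveI finKL' : FiniteDimensional K (AdjoinRoot g) := Module.Finite.trans L (AdjoinRoot g)
  haveI sepLL' : Algebra.IsSeparable L (AdjoinRoot g) :=
    Groth.Agent.Lib.Helper10.KummerExt.isSeparable_adjoinRoot A π hπirr (d * e₀) L g hg hALinj hnL
  haveI sepKL' : Algebra.IsSeparable K (AdjoinRoot g) := Algebra.IsSeparable.trans K L (AdjoinRoot g)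
  refine ⟨AdjoinRoot g, inferInstance, inferInstance, algA'L', IsScalarTower.toAlgHom K L (AdjoinRoot g),
    finKL', sepKL', ?_, ?_⟩
  · ext a
    show Groth.Agent.Lib.Helper10.KummerExt.liftHom A π (d * e₀) L g hg (AdjoinRoot.of _ a) = _
    rw [Groth.Agent.Lib.Helper10.KummerExt.liftHom_of, RingHom.comp_apply,
      IsScalarTower.algebraMap_apply K L (AdjoinRoot g), ← IsScalarTower.algebraMap_apply A K L]
  · intro instLoc
    haveI : IsLocalHom (algebraMap A A) := ⟨fun a ha => ha⟩
    have hF : Algebra.adjoin K (Set.range (algebraMap L L)) = ⊤ := by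
      rw [eq_top_iff]
      intro x _
      exact Algebra.subset_adjoin ⟨x, rfl⟩
    exact Groth.Agent.Lib.Helper10.TameKill.isUnramifiedExt_liftHom A A K K L L
      Function.injective_id hF h' π hπirr (d * e₀) hn
      (fun k hk0 hkN hkκ => Dvd.dvd.mul_left (he₀div k hk0 hkN hkκ) d) g hg

end Groth.Agent.S9329
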