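import Groth.Statements.S9328
import Groth.Agent.S9329
import Groth.Agent.Lib.Helper10.KummerExt2
import Groth.Agent.Lib.Helper10.RamTower
-- import your own Groth.Agent.* helpers here

set_option autoImplicit false
set_option linter.style.haveILetI false
universe u
open EtRam
open Groth.Agent.Lib.Helper10.RamTower Groth.Agent.Lib.Helper10.KummerDVR
  Groth.Agent.Lib.Helper10.KummerExt Groth.Agent.Lib.Helper10.KummerExt2

namespace Groth.Agent.S9328

open Polynomial IsLocalRing in
/-- Let `K` be the fraction field of a discrete valuation ring `A`, let `π` be a uniformizer of `A`, and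
let `L` be a finite separable extension of `K`. For `e ≥ 1` write `A' = A[z]/(z^e - π)`, a discrete
valuation ring whose fraction field is `K' = K[π^{1/e}]`. Then `L` is tamely ramified with respect
to `A` if and only if there exist `e ≥ 1` invertible in the residue field of `A` and a finite
separable extension `L'` of `K` into which `L` embeds over `K`, carrying an `A'`-algebra structure
extending `A → K → L'` (so `K' ⊆ L'`), such that `L'` is unramified with respect to `A'`. (The
local-ring instance on `A'`, which holds, is quantified as a hypothesis.) -/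
theorem result {A K L : Type u} [CommRing A] [IsDomain A]
    [IsDiscreteValuationRing A] [Field K] [Algebra A K] [IsFractionRing A K] [Field L] [Algebra K L]
    [Algebra A L] [IsScalarTower A K L] [FiniteDimensional K L] [Algebra.IsSeparable K L]
    (π : A) (hπ : maximalIdeal A = Ideal.span {π}) :
    EtRam.IsTamelyRamified A (algebraMap A L) ↔
      ∃ e : ℕ, 0 < e ∧ (e : ResidueField A) ≠ 0 ∧
        ∃ (L' : Type u) (_ : Field L') (_ : Algebra K L')
          (_ : Algebra (AdjoinRoot (X ^ e - C π : A[X])) L') (_ : L →ₐ[K] L'),
          FiniteDimensional K L' ∧ Algebra.IsSeparable K L' ∧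
          (algebraMap (AdjoinRoot (X ^ e - C π : A[X])) L').comp (AdjoinRoot.of (X ^ e - C π)) =
            (algebraMap K L').comp (algebraMap A K) ∧
          ∀ [IsLocalRing (AdjoinRoot (X ^ e - C π : A[X]))],
            EtRam.IsUnramifiedExt (AdjoinRoot (X ^ e - C π : A[X]))
              (algebraMap (AdjoinRoot (X ^ e - C π : A[X])) L') := by
  classical
  have hπirr : Irreducible π := (IsDiscreteValuationRing.irreducible_iff_uniformizer π).mpr hπ
  constructor
  · intro h
    obtain ⟨e₀, he₀pos, he₀κ, H⟩ := Groth.Agent.S9329.result (K := K) π hπ h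
    obtain ⟨L', fL', aKL', aA'L', ι, hfin, hsep, hcompat, hunr⟩ :=
      H 1 one_pos (by rw [Nat.cast_one]; exact one_ne_zero)
    exact ⟨1 * e₀, by omega, by rw [one_mul]; exact he₀κ, L', fL', aKL', aA'L', ι, hfin, hsep,
      hcompat, hunr⟩
  · rintro ⟨e, he, heκ, L', fL', aKL', aA'L', ι, hfin, hsep, hcompat, hunr⟩
    letI := fL'
    letI := aKL'
    letI := aA'L'
    haveI := hfin
    haveI := hsep
    have he1 : 1 ≤ e := he
    haveI domA' : IsDomain (AdjoinRoot (X ^ e - C π : A[X])) := isDomain A π hπirr e he1
    haveI locA' : IsLocalRing (AdjoinRoot (X ^ e - C π : A[X])) := isLocalRing A π hπirr e he1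
    haveI dvrA' : IsDiscreteValuationRing (AdjoinRoot (X ^ e - C π : A[X])) :=
      isDiscreteValuationRing A π hπirr e he1
    haveI locAA' : IsLocalHom (algebraMap A (AdjoinRoot (X ^ e - C π : A[X]))) :=
      isLocalHom_algebraMap A π hπirr e he1
    have hunr' := hunr
    rw [IsScalarTower.algebraMap_eq A K L]
    intro V hV
    intro instLoc
    letI algAV : Algebra A V :=
      (RingHom.codRestrict ((algebraMap K L).comp (algebraMap A K)) V hV.1).toAlgebra
    -- extend `V` to `L'`
    obtain ⟨W', hW'V⟩ := exists_comap_eq (ι : L →+* L') V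
    subst hW'V
    have hιK : ∀ k : K, (ι : L →+* L') (algebraMap K L k) = algebraMap K L' k := fun k =>
      ι.commutes k
    have hcompat' : ∀ a : A, algebraMap (AdjoinRoot (X ^ e - C π : A[X])) L'
        (AdjoinRoot.of _ a) = algebraMap K L' (algebraMap A K a) := fun a =>
      congrArg (fun f => f a) hcompat
    have hgL' : ∀ a : A, (ι : L →+* L') (((algebraMap K L).comp (algebraMap A K)) a) =
        ((algebraMap K L').comp (algebraMap A K)) a := fun a => hιK _
    have hW'A : EtRam.Dominates A ((algebraMap K L').comp (algebraMap A K)) W' :=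
      ⟨fun a => by rw [← hgL']; exact hV.1 a,
      fun a ha => by
        rw [← hgL', ← valuation_comap_lt_one_iff]; exact hV.2 a ha⟩
    have hπm : π ∈ IsLocalRing.maximalIdeal A := by
      rw [hπ]; exact Ideal.mem_span_singleton_self _
    have hW'A' : EtRam.Dominates (AdjoinRoot (X ^ e - C π : A[X]))
        (algebraMap (AdjoinRoot (X ^ e - C π : A[X])) L') W' := by
      apply dominates_of_hom A π hπirr e he1
      · intro a
        rw [hcompat']; exact hW'A.1 a
      · rw [hcompat']; exact hW'A.2 π hπm
    have hWV : EtRam.Dominates (W'.comap (ι : L →+* L'))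
        ((ι : L →+* L').comp (W'.comap (ι : L →+* L')).subtype) W' :=
      ⟨fun v => v.2, fun v hv => by
        rw [ValuationSubring.valuation_lt_one_iff] at hv
        exact (valuation_comap_lt_one_iff W' _ _).mp hv⟩
    letI algAW' : Algebra A W' :=
      (RingHom.codRestrict ((algebraMap K L').comp (algebraMap A K)) W' hW'A.1).toAlgebra
    letI algA'W' : Algebra (AdjoinRoot (X ^ e - C π : A[X])) W' :=
      (RingHom.codRestrict (algebraMap (AdjoinRoot (X ^ e - C π : A[X])) L') W' hW'A'.1).toAlgebra
    letI algVW' : Algebra (W'.comap (ι : L →+* L')) W' :=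
      (RingHom.codRestrict ((ι : L →+* L').comp (W'.comap (ι : L →+* L')).subtype) W'
        hWV.1).toAlgebra
    haveI : IsScalarTower A (W'.comap (ι : L →+* L')) W' :=
      IsScalarTower.of_algebraMap_eq (fun a => Subtype.ext (hgL' a).symm)
    haveI : IsScalarTower A (AdjoinRoot (X ^ e - C π : A[X])) W' :=
      IsScalarTower.of_algebraMap_eq (fun a => Subtype.ext (by
        show ((algebraMap K L').comp (algebraMap A K)) a =
          algebraMap (AdjoinRoot (X ^ e - C π : A[X])) L'
            (algebraMap A (AdjoinRoot (X ^ e - C π : A[X])) a)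
        rw [AdjoinRoot.algebraMap_eq, hcompat']; rfl))
    haveI locAW' : IsLocalHom (algebraMap A W') := isLocalHom_of_dominates A _ W' hW'A
    haveI locA'W' : IsLocalHom (algebraMap (AdjoinRoot (X ^ e - C π : A[X])) W') :=
      isLocalHom_of_dominates _ _ W' hW'A'
    haveI locVW' : IsLocalHom (algebraMap (W'.comap (ι : L →+* L')) W') :=
      isLocalHom_of_dominates _ _ W' hWV
    haveI dvrV : IsDiscreteValuationRing (W'.comap (ι : L →+* L')) :=
      isDiscreteValuationRing_of_dominates A K L _ hV
    haveI dvrW' : IsDiscreteValuationRing W' := isDiscreteValuationRing_of_dominates A K L' W' hW'A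
    have hinjL' : Function.Injective ((algebraMap K L').comp (algebraMap A K)) :=
      (algebraMap K L').injective.comp (IsFractionRing.injective A K)
    have hAW'inj : Function.Injective (algebraMap A W') := fun a b hab =>
      hinjL' (congrArg Subtype.val hab)
    have hVW'inj : Function.Injective (algebraMap (W'.comap (ι : L →+* L')) W') := fun a b hab =>
      Subtype.ext ((ι : L →+* L').injective (congrArg Subtype.val hab))
    have hA'W'inj : Function.Injective (algebraMap (AdjoinRoot (X ^ e - C π : A[X])) W') := by
      have h1 : Function.Injective ((algebraMap (AdjoinRoot (X ^ e - C π : A[X])) W').comp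
          (algebraMap A (AdjoinRoot (X ^ e - C π : A[X])))) := by
        rw [← IsScalarTower.algebraMap_eq A (AdjoinRoot (X ^ e - C π : A[X])) W']
        exact hAW'inj
      have hmonic : (X ^ e - C π : A[X]).Monic := monic_X_pow_sub_C π (by omega)
      haveI : Module.Finite A (AdjoinRoot (X ^ e - C π : A[X])) := hmonic.finite_adjoinRoot
      haveI : Algebra.IsIntegral A (AdjoinRoot (X ^ e - C π : A[X])) :=
        Algebra.IsIntegral.of_finite _ _
      rw [RingHom.injective_iff_ker_eq_bot]
      apply Ideal.eq_bot_of_comap_eq_bot (R := A)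
      rw [eq_bot_iff]
      intro a ha
      rw [Ideal.mem_comap, RingHom.mem_ker] at ha
      exact h1 (by rw [RingHom.comp_apply, ha, map_zero])
    have hmA : IsLocalRing.maximalIdeal A ≠ ⊥ := IsDiscreteValuationRing.not_a_field A
    obtain ⟨hw, hs⟩ := hunr' W' hW'A'
    have ht1 := ramificationIdx_tower (R := A) (S := W'.comap (ι : L →+* L')) (T := W')
      hAW'inj hVW'inj hmA
    have ht2 := ramificationIdx_tower (R := A) (S := AdjoinRoot (X ^ e - C π : A[X])) (T := W')
      hAW'inj hA'W'inj hmA
    rw [ramificationIdx_eq A π hπirr e he1] at ht2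
    have he1' : Ideal.ramificationIdx' (IsLocalRing.maximalIdeal (AdjoinRoot (X ^ e - C π : A[X])))
        (IsLocalRing.maximalIdeal W') = 1 := by
      obtain ⟨ϖ, hϖ⟩ := IsDiscreteValuationRing.exists_irreducible W'
      have hmW : IsLocalRing.maximalIdeal W' = Ideal.span {ϖ} := hϖ.maximalIdeal_eq
      have hw' : (IsLocalRing.maximalIdeal (AdjoinRoot (X ^ e - C π : A[X]))).map
          (algebraMap (AdjoinRoot (X ^ e - C π : A[X])) W') = IsLocalRing.maximalIdeal W' := hw
      apply Ideal.ramificationIdx'_spec
      · rw [pow_one]; exact hw'.le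
      · rw [hw', hmW, Ideal.span_singleton_pow, Ideal.span_singleton_le_span_singleton]
        intro h3
        have h4 : ϖ ^ 2 ∣ ϖ ^ 1 := by simpa using h3
        have := (pow_dvd_pow_iff hϖ.ne_zero hϖ.not_isUnit).mp h4
        omega
    rw [he1', mul_one] at ht2
    refine ⟨?_, ?_⟩
    · have hsA' := isSeparable_residueField A π hπirr e he1
      have hsAW' := isSeparable_trans (R := A) (S := AdjoinRoot (X ^ e - C π : A[X])) (T := W')
        hsA' hs
      exact isSeparable_bot (R := A) (S := W'.comap (ι : L →+* L')) (T := W') hsAW'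
    · intro p hp hchar hdvd
      apply heκ
      rw [CharP.cast_eq_zero_iff (IsLocalRing.ResidueField A) p, ← ht2, ht1]
      exact Dvd.dvd.mul_right hdvd _

end Groth.Agent.S9328
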