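import Groth.Statements.S9332
import Mathlib
import Groth.Agent.Lib.Helper21.FibrePoints
-- import your own Groth.Agent.* helpers here

set_option autoImplicit false
universe u
open QFin

namespace Groth.Agent.S9332

open AlgebraicGeometry CategoryTheory in
/-- Let f : X → S be locally of finite type and x ∈ X. Then x is closed in its fibre X_{f x} if and only
if κ(x) is a finite extension of κ(f x) (via the residue field map of f at x). -/
theorem result {X S : Scheme.{u}} (f : X ⟶ S) [LocallyOfFiniteType f] (x : X) :
    IsClosed ({f.asFiber x} : Set ↑(f.fiber (f.base x))) ↔ (f.residueFieldMap x).hom.Finite := by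
  constructor
  · intro h
    exact Groth.Agent.Lib.Helper21.finite_residueFieldMap_of_isClosed_asFiber f x h
  · intro h
    refine Groth.Agent.Lib.Helper21.isClosed_asFiber_of_isAlgebraic f x ?_
    let _ := (f.residueFieldMap x).hom.toAlgebra
    have : Module.Finite (S.residueField (f x)) (X.residueField x) := h
    exact Algebra.IsAlgebraic.of_finite _ _

end Groth.Agent.S9332
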