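import Groth.Statements.S9335
import Mathlib
import Groth.Agent.Lib.Helper81.QFinFib
-- import your own Groth.Agent.* helpers here

set_option autoImplicit false
universe u
open QFin

namespace Groth.Agent.S9335
open CategoryTheory AlgebraicGeometry Limits TopologicalSpace Topology Opposite Groth.Agent.Lib.Helper81.QFinFib


lemma finite_isolated {α : Type*} [TopologicalSpace α] [NoetherianSpace α] :
    {a : α | IsOpen ({a} : Set α)}.Finite := by
  set D := {a : α | IsOpen ({a} : Set α)}
  have hc : IsCompact D := NoetherianSpace.isCompact D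
  obtain ⟨t, ht⟩ := hc.elim_finite_subcover (fun a : D => ({a.1} : Set α)) (fun a => a.2)
    (fun a ha => Set.mem_iUnion.mpr ⟨⟨a, ha⟩, rfl⟩)
  refine (t.finite_toSet.image Subtype.val).subset ?_
  intro a ha
  obtain ⟨b, hb, hab⟩ := Set.mem_iUnion₂.mp (ht ha)
  exact ⟨b, hb, (Set.mem_singleton_iff.mp hab).symm⟩


open AlgebraicGeometry CategoryTheory in
/-- If f : X → S is of finite type and s ∈ S, then f is quasi-finite at only finitely many points of the
fibre over s. -/
theorem result {X S : Scheme.{u}} (f : X ⟶ S) [LocallyOfFiniteType f] [QuasiCompact f] (s : S) :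
    {x : ↑X | f.base x = s ∧ f.QuasiFiniteAt x}.Finite := by
  haveI : AlgebraicGeometry.IsNoetherian (f.fiber s) := { }
  haveI : NoetherianSpace (f.fiber s) := inferInstance
  have hfin := finite_isolated (α := f.fiber s)
  refine (hfin.image (f.fiberι s)).subset ?_
  rintro x ⟨rfl, hq⟩
  refine ⟨f.asFiber x, ?_, f.fiberι_asFiber x⟩
  exact Scheme.Hom.quasiFiniteAt_iff_isOpen_singleton_asFiber.mp hq

end Groth.Agent.S9335
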