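import Groth.Statements.S9336
import Mathlib
import Groth.Agent.Lib.Helper81.QFinFib
-- import your own Groth.Agent.* helpers here

set_option autoImplicit false
universe u
open QFin

namespace Groth.Agent.S9336
open CategoryTheory AlgebraicGeometry Limits TopologicalSpace Topology Opposite Groth.Agent.Lib.Helper81.QFinFib


lemma finite_left_of_comp {K L M : Type u} [Field K] [Field L] [Field M] (φ : K →+* L)
    (ψ : L →+* M) (h : (ψ.comp φ).Finite) : φ.Finite := by
  letI := φ.toAlgebra
  letI := ψ.toAlgebra
  letI := (ψ.comp φ).toAlgebra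
  haveI : IsScalarTower K L M := IsScalarTower.of_algebraMap_eq (fun _ => rfl)
  haveI : FiniteDimensional K M := h
  exact FiniteDimensional.left K L M

lemma key {X Y S : Scheme.{u}} (f : X ⟶ Y) (g : Y ⟶ S)
    [LocallyQuasiFinite (f ≫ g)] [LocallyOfFiniteType (f ≫ g)] [LocallyOfFiniteType g]
    (x : X) (z : g.fiber (g (f x))) (hz : g.fiberι _ z = f x) : IsClosed ({z} : Set (g.fiber (g (f x)))) := by
  have hz' : z = g.asFiber (f x) := by
    apply (g.fiberι _).isEmbedding.injective
    rw [hz, g.fiberι_asFiber]
  rw [hz', isClosed_asFiber_iff]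
  have h1 : (f ≫ g).QuasiFiniteAt x := Scheme.Hom.quasiFiniteAt _ x
  have h2 : IsClosed {(f ≫ g).asFiber x} := h1.isClopen_singleton_asFiber.1
  rw [isClosed_asFiber_iff, Scheme.residueFieldMap_comp] at h2
  exact finite_left_of_comp _ _ h2


open AlgebraicGeometry CategoryTheory in
/-- Let f : X → Y be surjective and g : Y → S locally of finite type. If g ∘ f is locally quasi-finite
(and locally of finite type), then g is locally quasi-finite. -/
theorem result {X Y S : Scheme.{u}} (f : X ⟶ Y) (g : Y ⟶ S) [Surjective f]
    [LocallyQuasiFinite (f ≫ g)] [LocallyOfFiniteType (f ≫ g)] [LocallyOfFiniteType g] :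
    LocallyQuasiFinite g := by
  rw [locallyQuasiFinite_iff_isDiscrete_preimage_singleton]
  intro s
  have hclosed : ∀ z : g.fiber s, IsClosed ({z} : Set (g.fiber s)) := by
    intro z
    obtain ⟨x, hx⟩ := f.surjective (g.fiberι s z)
    have hs : g (f x) = s := by
      rw [hx]
      have : g.fiberι s z ∈ Set.range (g.fiberι s) := ⟨z, rfl⟩
      rw [g.range_fiberι] at this
      exact this
    subst hs
    exact key f g x z hx.symm
  haveI : DiscreteTopology (g.fiber s) := by
    rw [discreteTopology_iff_isOpen_singleton]
    intro z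
    apply isOpen_singleton_of_isLocallyNoetherian _ _ (hclosed z)
    intro b hb
    have : z ∈ closure ({b} : Set (g.fiber s)) := specializes_iff_mem_closure.mp hb
    rw [(hclosed b).closure_eq] at this
    exact (Set.mem_singleton_iff.mp this).symm
  simpa [Scheme.Hom.range_fiberι] using
    (isDiscrete_univ_iff.mpr inferInstance).image (g.fiberι s).isEmbedding.toIsInducing

end Groth.Agent.S9336
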