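import Groth.Statements.S9337
import Mathlib
import Groth.Agent.Lib.Helper81.FtPts
-- import your own Groth.Agent.* helpers here

set_option autoImplicit false
universe u
open FtPts

namespace Groth.Agent.S9337
open CategoryTheory AlgebraicGeometry Limits TopologicalSpace Topology Opposite Groth.Agent.Lib.Helper81.FtPts


open AlgebraicGeometry CategoryTheory in
/-- Let k be a field and f : Spec k → S a morphism of schemes with image point u. Then f is locally of
finite type if and only if some affine open U ∋ u of S has u as a closed point and the residue field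
of Spec k (that is, k) is finite over κ(u). -/
theorem result (S : Scheme.{u}) (k : Type u) [Field k] (f : Spec (CommRingCat.of k) ⟶ S) :
    LocallyOfFiniteType f ↔
      ∃ U : S.Opens, IsAffineOpen U ∧ ∃ hu : f.base (IsLocalRing.closedPoint k) ∈ U,
        IsClosed ({⟨f.base (IsLocalRing.closedPoint k), hu⟩} : Set ↥U) ∧
          (f.residueFieldMap (IsLocalRing.closedPoint k)).hom.Finite := by
  set pt : Spec (CommRingCat.of k) := IsLocalRing.closedPoint k with hpt
  have hcomm := Scheme.Hom.SpecMap_residueFieldMap_fromSpecResidueField f pt
  constructor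
  · intro h
    haveI := h
    obtain ⟨U, hU, hu, hcl⟩ := exists_affine_closed_of_loft f
    refine ⟨U, hU, hu, hcl, ?_⟩
    have h1 : LocallyOfFiniteType ((Spec (CommRingCat.of k)).fromSpecResidueField pt ≫ f) :=
      inferInstance
    rw [← hcomm] at h1
    haveI := h1
    have h2 : LocallyOfFiniteType (Spec.map (f.residueFieldMap pt)) :=
      locallyOfFiniteType_of_comp _ (S.fromSpecResidueField (f pt))
    rw [HasRingHomProperty.Spec_iff (P := @LocallyOfFiniteType)] at h2
    letI := (f.residueFieldMap pt).hom.toAlgebra
    haveI : Algebra.FiniteType (S.residueField (f pt)) ((Spec (CommRingCat.of k)).residueField pt) := h2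
    exact finite_of_finite_type_of_isJacobsonRing _ _
  · rintro ⟨U, hU, hu, hcl, hfin⟩
    haveI : LocallyOfFiniteType (S.fromSpecResidueField (f pt)) := loft_of_closed _ U hu hcl
    haveI : LocallyOfFiniteType (Spec.map (f.residueFieldMap pt)) := by
      rw [HasRingHomProperty.Spec_iff (P := @LocallyOfFiniteType)]
      exact RingHom.FiniteType.of_finite hfin
    have h1 : LocallyOfFiniteType (Spec.map (f.residueFieldMap pt) ≫ S.fromSpecResidueField (f pt)) :=
      inferInstance
    rw [hcomm] at h1
    exact (MorphismProperty.cancel_left_of_respectsIso @LocallyOfFiniteType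
      ((Spec (CommRingCat.of k)).fromSpecResidueField pt) _).mp h1

end Groth.Agent.S9337
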