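import Groth.Statements.S9338
import Mathlib
import Groth.Agent.Lib.Helper81.FtPts
-- import your own Groth.Agent.* helpers here

set_option autoImplicit false
universe u
open FtPts

namespace Groth.Agent.S9338
open CategoryTheory AlgebraicGeometry Limits TopologicalSpace Topology Opposite Groth.Agent.Lib.Helper81.FtPts


lemma step_lemma {R A : Type*} [CommRing R] [CommRing A] [Algebra R A] (I : Ideal A)
    (G : Set A) (hG : I = Ideal.span G) (A' : Subalgebra R A) (hGA : G ⊆ A')
    (hA' : ∀ x : A, ∃ y ∈ A', x - y ∈ I) (n : ℕ) :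
    ∀ z ∈ I ^ n, ∃ y ∈ A', z - y ∈ I ^ (n + 1) := by
  induction n with
  | zero =>
    intro z _
    obtain ⟨y, hy, h⟩ := hA' z
    exact ⟨y, hy, by simpa using h⟩
  | succ n ih =>
    intro z hz
    rw [pow_succ] at hz
    induction hz using Submodule.mul_induction_on' with
    | mem_mul_mem m hm g' hg' =>
      have key : ∀ g' ∈ I, ∀ m ∈ I ^ n, ∃ y ∈ A', m * g' - y ∈ I ^ (n + 1 + 1) := by
        intro g' hg'
        rw [hG] at hg'
        induction hg' using Submodule.span_induction with
        | mem g hg =>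
          intro m hm
          obtain ⟨y0, hy0, he⟩ := ih m hm
          refine ⟨y0 * g, A'.mul_mem hy0 (hGA hg), ?_⟩
          have : m * g - y0 * g = (m - y0) * g := by ring
          rw [this, pow_succ (I) (n + 1)]
          exact Ideal.mul_mem_mul he (hG ▸ Ideal.subset_span hg)
        | zero =>
          intro m _
          exact ⟨0, A'.zero_mem, by simp⟩
        | add x y _ _ hx hy =>
          intro m hm
          obtain ⟨y1, hy1, h1⟩ := hx m hm
          obtain ⟨y2, hy2, h2⟩ := hy m hm
          refine ⟨y1 + y2, A'.add_mem hy1 hy2, ?_⟩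
          have : m * (x + y) - (y1 + y2) = (m * x - y1) + (m * y - y2) := by ring
          rw [this]
          exact Ideal.add_mem _ h1 h2
        | smul a x _ hx =>
          intro m hm
          obtain ⟨y1, hy1, h1⟩ := hx (m * a) (Ideal.mul_mem_right _ _ hm)
          refine ⟨y1, hy1, ?_⟩
          have : m * (a • x) - y1 = m * a * x - y1 := by rw [smul_eq_mul]; ring
          rw [this]
          exact h1
      exact key g' hg' m hm
    | add x _ y _ hx hy =>
      obtain ⟨y1, hy1, h1⟩ := hx
      obtain ⟨y2, hy2, h2⟩ := hy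
      refine ⟨y1 + y2, A'.add_mem hy1 hy2, ?_⟩
      have : x + y - (y1 + y2) = (x - y1) + (y - y2) := by ring
      rw [this]
      exact Ideal.add_mem _ h1 h2

lemma approx_lemma {R A : Type*} [CommRing R] [CommRing A] [Algebra R A] (I : Ideal A)
    (G : Set A) (hG : I = Ideal.span G) (A' : Subalgebra R A) (hGA : G ⊆ A')
    (hA' : ∀ x : A, ∃ y ∈ A', x - y ∈ I) (n : ℕ) :
    ∀ x : A, ∃ y ∈ A', x - y ∈ I ^ n := by
  induction n with
  | zero => intro x; exact ⟨0, A'.zero_mem, by simp⟩
  | succ n ih =>
    intro x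
    obtain ⟨y, hy, h⟩ := ih x
    obtain ⟨y', hy', h'⟩ := step_lemma I G hG A' hGA hA' n _ h
    refine ⟨y + y', A'.add_mem hy hy', ?_⟩
    have : x - (y + y') = x - y - y' := by ring
    rw [this]; exact h'

lemma finiteType_of_nilpotent {R A : Type*} [CommRing R] [CommRing A] (ψ : R →+* A) (I : Ideal A)
    (hfg : I.FG) (hnil : IsNilpotent I) (h : ((Ideal.Quotient.mk I).comp ψ).FiniteType) :
    ψ.FiniteType := by
  classical
  letI := ψ.toAlgebra
  obtain ⟨G, hG⟩ := hfg
  letI := ((Ideal.Quotient.mk I).comp ψ).toAlgebra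
  obtain ⟨s, hs⟩ := (show Algebra.FiniteType R (A ⧸ I) from h).out
  have hlift : ∀ x : A ⧸ I, ∃ a : A, Ideal.Quotient.mk I a = x := Ideal.Quotient.mk_surjective
  choose lift hlift using hlift
  let T : Finset A := s.image lift ∪ G
  let A' : Subalgebra R A := Algebra.adjoin R (T : Set A)
  have hGA : (G : Set A) ⊆ A' := fun g hg =>
    Algebra.subset_adjoin (by simp only [T, Finset.coe_union, Set.mem_union]; exact Or.inr hg)
  have hA'q : ∀ x : A ⧸ I, ∃ y ∈ A', Ideal.Quotient.mk I y = x := by
    intro x
    have hx : x ∈ Algebra.adjoin R (s : Set (A ⧸ I)) := by rw [hs]; trivial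
    induction hx using Algebra.adjoin_induction with
    | mem x hx =>
      refine ⟨lift x, Algebra.subset_adjoin ?_, hlift x⟩
      simp only [T, Finset.coe_union, Set.mem_union]
      exact Or.inl (by simpa using ⟨x, hx, rfl⟩)
    | algebraMap r => exact ⟨algebraMap R A r, A'.algebraMap_mem r, rfl⟩
    | add x y _ _ hx hy =>
      obtain ⟨a, ha, rfl⟩ := hx
      obtain ⟨b, hb, rfl⟩ := hy
      exact ⟨a + b, A'.add_mem ha hb, map_add _ _ _⟩
    | mul x y _ _ hx hy =>
      obtain ⟨a, ha, rfl⟩ := hx
      obtain ⟨b, hb, rfl⟩ := hy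
      exact ⟨a * b, A'.mul_mem ha hb, map_mul _ _ _⟩
  have hA' : ∀ x : A, ∃ y ∈ A', x - y ∈ I := by
    intro x
    obtain ⟨y, hy, h⟩ := hA'q (Ideal.Quotient.mk I x)
    exact ⟨y, hy, by rw [← Ideal.Quotient.eq]; exact h.symm⟩
  obtain ⟨N, hN⟩ := hnil
  have htop : A' = ⊤ := by
    rw [eq_top_iff]
    intro x _
    obtain ⟨y, hy, h⟩ := approx_lemma I (G : Set A) hG.symm A' hGA hA' N x
    rw [hN] at h
    have : x = y := sub_eq_zero.mp (by simpa using h)
    rw [this]; exact hy
  exact ⟨⟨T, htop⟩⟩


open AlgebraicGeometry CategoryTheory in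
/-- For an Artinian local ring A with residue field κ, a morphism f : Spec A → S is (locally) of finite
type exactly when the composite Spec κ → Spec A → S is. -/
theorem result (S : Scheme.{u}) (A : Type u) [CommRing A] [IsArtinianRing A] [IsLocalRing A]
    (f : Spec (CommRingCat.of A) ⟶ S) :
    LocallyOfFiniteType f ↔
      LocallyOfFiniteType (Spec.map (CommRingCat.ofHom (IsLocalRing.residue A)) ≫ f) := by
  constructor
  · intro h
    haveI : IsClosedImmersion (Spec.map (CommRingCat.ofHom (IsLocalRing.residue A))) :=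
      IsClosedImmersion.spec_of_surjective _ IsLocalRing.residue_surjective
    infer_instance
  · intro h
    -- Spec A is a single point
    have hsub : ∀ x : Spec (CommRingCat.of A), x = IsLocalRing.closedPoint A := by
      intro x
      apply PrimeSpectrum.ext
      haveI := x.isPrime
      haveI : x.asIdeal.IsMaximal := IsArtinianRing.isMaximal_of_isPrime x.asIdeal
      exact IsLocalRing.eq_maximalIdeal this
    set pt : Spec (CommRingCat.of A) := IsLocalRing.closedPoint A
    obtain ⟨U, hU, huU, -⟩ := exists_isAffineOpen_mem_and_subset (x := f pt) (U := ⊤) trivial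
    set j := hU.fromSpec with hj
    have hrange : Set.range f ⊆ Set.range j := by
      rintro _ ⟨x, rfl⟩
      rw [hsub x, hU.range_fromSpec]
      exact huU
    let f' := IsOpenImmersion.lift j f hrange
    have hf' : f' ≫ j = f := IsOpenImmersion.lift_fac j f hrange
    obtain ⟨ψ, hψ⟩ : ∃ ψ, Spec.map ψ = f' := ⟨Spec.preimage f', Spec.map_preimage f'⟩
    rw [← hf', ← Category.assoc] at h
    haveI := h
    have h2 : LocallyOfFiniteType (Spec.map (CommRingCat.ofHom (IsLocalRing.residue A)) ≫ f') :=
      locallyOfFiniteType_of_comp _ j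
    rw [← hψ, ← Spec.map_comp, HasRingHomProperty.Spec_iff (P := @LocallyOfFiniteType)] at h2
    have h3 : ψ.hom.FiniteType := by
      apply finiteType_of_nilpotent ψ.hom (IsLocalRing.maximalIdeal A)
        (IsNoetherian.noetherian _) _ h2
      rw [← IsLocalRing.jacobson_eq_maximalIdeal ⊥ bot_ne_top]
      exact IsArtinianRing.isNilpotent_jacobson_bot
    rw [← hf', ← hψ]
    haveI : LocallyOfFiniteType (Spec.map ψ) :=
      (HasRingHomProperty.Spec_iff (P := @LocallyOfFiniteType)).mpr h3
    infer_instance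

end Groth.Agent.S9338
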