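import Groth.Statements.S9340
import Mathlib
import Groth.Agent.Lib.Helper81.FtPts
-- import your own Groth.Agent.* helpers here

set_option autoImplicit false
universe u
open FtPts

namespace Groth.Agent.S9340
open CategoryTheory AlgebraicGeometry Limits TopologicalSpace Topology Opposite Groth.Agent.Lib.Helper81.FtPts


open AlgebraicGeometry CategoryTheory in
/-- A surjective morphism locally of finite type maps the set of finite type points of the source onto
the set of finite type points of the target. -/
theorem result {T S : Scheme.{u}} (f : T ⟶ S) [LocallyOfFiniteType f] [Surjective f] :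
    f.base '' {t : ↑T | LocallyOfFiniteType (T.fromSpecResidueField t)} =
      {s : ↑S | LocallyOfFiniteType (S.fromSpecResidueField s)} := by
  apply Set.Subset.antisymm
  · rintro _ ⟨t, ht, rfl⟩
    exact isFt_map f t ht
  · intro s hs
    obtain ⟨U, hU, hsU, hcl⟩ := (isFt_iff s).mp hs
    have hcl' := (isClosed_singleton_opens_iff _ _ _).mp hcl
    obtain ⟨t', rfl⟩ := f.surjective s
    obtain ⟨V, hV, ht'V, hVU⟩ := exists_isAffineOpen_mem_and_subset (x := t') (U := f ⁻¹ᵁ U) hsU
    have hC : IsClosed (f ⁻¹' closure {f t'}) := isClosed_closure.preimage f.continuous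
    obtain ⟨t, htC, htV, htcl⟩ := exists_closed_in_affine V hV _ hC t' (subset_closure rfl) ht'V
    refine ⟨t, (isFt_iff t).mpr ⟨V, hV, htV, htcl⟩, ?_⟩
    exact hcl' (f t) (hVU htV) (specializes_iff_mem_closure.mpr htC)

end Groth.Agent.S9340
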