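import Groth.Statements.S9343
import Mathlib
import Groth.Agent.S9347
-- import your own Groth.Agent.* helpers here

set_option autoImplicit false
universe u
open Dom

namespace Groth.Agent.S9343
open CategoryTheory AlgebraicGeometry Limits TopologicalSpace Topology



open AlgebraicGeometry CategoryTheory in
/-- The base change of a quasi-compact dominant morphism f : X → S along a morphism g : S' → S along
which generalizations lift is dominant. -/
theorem result {X S X' S' : Scheme.{u}} (f : X ⟶ S) [QuasiCompact f] [IsDominant f]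
    (g : S' ⟶ S) (g' : X' ⟶ X) (f' : X' ⟶ S') (hsq : IsPullback g' f' f g) (hg : GeneralizingMap g.base) :
    IsDominant f' := by
  refine ⟨?_⟩
  intro ξ'
  -- maximal point above g ξ'
  obtain ⟨η, hη⟩ := QuasiSober.sober (isIrreducible_irreducibleComponent (x := g.base ξ'))
    isClosed_irreducibleComponent
  have hηmax : closure {η} ∈ irreducibleComponents (↑S : Type u) := by
    rw [hη.def]; exact irreducibleComponent_mem_irreducibleComponents _
  have hspec : η ⤳ g.base ξ' := hη.specializes mem_irreducibleComponent
  -- η is in the image of f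
  have hηr : η ∈ Set.range f.base := by
    by_contra hnot
    obtain ⟨V, hηV, hV⟩ := Groth.Agent.S9347.result f η hηmax hnot
    obtain ⟨x, hxV⟩ := f.denseRange.exists_mem_open V.isOpen ⟨η, hηV⟩
    have : x ∈ f ⁻¹ᵁ V := hxV
    rw [hV] at this
    exact this
  obtain ⟨x, hx⟩ := hηr
  obtain ⟨ζ', hζ1, hζ2⟩ := hg hspec
  obtain ⟨x', hx'1, hx'2⟩ := Scheme.exists_preimage_of_isPullback hsq x ζ' (hx.trans hζ2.symm)
  have : ξ' ∈ closure {ζ'} := specializes_iff_mem_closure.mp hζ1
  refine closure_mono ?_ this
  rintro _ rfl
  exact ⟨x', hx'2⟩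

end Groth.Agent.S9343
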