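import Groth.Statements.S9344
import Mathlib
-- import your own Groth.Agent.* helpers here

set_option autoImplicit false
universe u
open Dom

namespace Groth.Agent.S9344

open AlgebraicGeometry CategoryTheory Limits in
/-- points of a fibre product (for an arbitrary pullback square). -/
theorem exists_preimage_of_isPullback {X S X' S' : Scheme.{u}} {f : X ⟶ S}
    {g : S' ⟶ S} {g' : X' ⟶ X} {f' : X' ⟶ S'} (hsq : IsPullback g' f' f g)
    (x : X) (s' : S') (h : f.base x = g.base s') :
    ∃ x' : X', g'.base x' = x ∧ f'.base x' = s' := by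
  obtain ⟨z, hz1, hz2⟩ := Scheme.Pullback.exists_preimage_pullback (f := f) (g := g) x s' h
  refine ⟨hsq.isoPullback.inv.base z, ?_, ?_⟩
  · rw [← Scheme.Hom.comp_apply, hsq.isoPullback_inv_fst]; exact hz1
  · rw [← Scheme.Hom.comp_apply, hsq.isoPullback_inv_snd]; exact hz2

open AlgebraicGeometry CategoryTheory Limits in
theorem range_of_isPullback {X S X' S' : Scheme.{u}} {f : X ⟶ S}
    {g : S' ⟶ S} {g' : X' ⟶ X} {f' : X' ⟶ S'} (hsq : IsPullback g' f' f g) :
    Set.range f'.base = g.base ⁻¹' Set.range f.base := by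
  ext s'
  constructor
  · rintro ⟨x', rfl⟩
    refine ⟨g'.base x', ?_⟩
    rw [← Scheme.Hom.comp_apply, ← Scheme.Hom.comp_apply, hsq.w]
  · rintro ⟨x, hx⟩
    obtain ⟨x', -, hx'⟩ := exists_preimage_of_isPullback hsq x s' hx
    exact ⟨x', hx'⟩


open AlgebraicGeometry CategoryTheory in
/-- The base change of a dominant morphism f : X → S along an open morphism g : S' → S is dominant. -/
theorem result {X S X' S' : Scheme.{u}} (f : X ⟶ S) [IsDominant f]
    (g : S' ⟶ S) (g' : X' ⟶ X) (f' : X' ⟶ S') (hsq : IsPullback g' f' f g) (hg : IsOpenMap g.base) :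
    IsDominant f' := by
  constructor
  rw [DenseRange, range_of_isPullback hsq]
  have h1 : Dense (Set.range f.base) := f.denseRange
  exact h1.preimage hg

end Groth.Agent.S9344
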