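import Groth.Statements.S9345
import Mathlib
-- import your own Groth.Agent.* helpers here

set_option autoImplicit false
universe u
open Dom

namespace Groth.Agent.S9345

/-- if `f` has dense range and `X` has finitely many irreducible components, every irreducible
component of `S` is the closure of the image of a generic point of `X`. -/
lemma key {X S : Type u} [TopologicalSpace X] [TopologicalSpace S] [QuasiSober X] [T0Space X]
    (f : X → S) (hf : Continuous f) (hX : (irreducibleComponents X).Finite) (hd : DenseRange f)
    (Z : Set S) (hZ : Z ∈ irreducibleComponents S) :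
    ∃ ξ ∈ genericPoints X, closure {f ξ} = Z := by
  have hG : (genericPoints X).Finite := genericPoints.finite hX
  have h1 : closure (f '' genericPoints X) = Set.univ := by
    have h2 : Set.range f ⊆ closure (f '' genericPoints X) := by
      rintro _ ⟨x, rfl⟩
      have hx : x ∈ closure (genericPoints X) := by
        rw [genericPoints.closure]; exact Set.mem_univ _
      exact image_closure_subset_closure_image hf ⟨x, hx, rfl⟩
    have h3 := closure_minimal h2 isClosed_closure
    rw [hd.closure_range] at h3
    exact Set.eq_univ_of_univ_subset h3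
  have h4 : closure (f '' genericPoints X) = ⋃ ξ ∈ genericPoints X, closure {f ξ} := by
    have : f '' genericPoints X = ⋃ ξ ∈ genericPoints X, {f ξ} := by
      ext y; simp [eq_comm]
    rw [this, hG.closure_biUnion]
  let t : Finset (Set S) := hG.toFinset.image (fun ξ => closure {f ξ})
  have h5 : Z ⊆ ⋃₀ (t : Set (Set S)) := by
    intro z _
    have hz : z ∈ closure (f '' genericPoints X) := by rw [h1]; exact Set.mem_univ _
    rw [h4] at hz
    simp only [Set.mem_iUnion, exists_prop] at hz
    obtain ⟨ξ, hξ, hzξ⟩ := hz
    exact ⟨closure {f ξ}, by simp only [t, Finset.coe_image, Set.Finite.coe_toFinset]; exact ⟨ξ, hξ, rfl⟩, hzξ⟩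
  obtain ⟨W, hW, hZW⟩ := isIrreducible_iff_sUnion_isClosed.mp hZ.1 t (by
    intro z hz
    simp only [t, Finset.mem_image, Set.Finite.mem_toFinset] at hz
    obtain ⟨ξ, _, rfl⟩ := hz
    exact isClosed_closure) h5
  simp only [t, Finset.mem_image, Set.Finite.mem_toFinset] at hW
  obtain ⟨ξ, hξ, rfl⟩ := hW
  refine ⟨ξ, hξ, ?_⟩
  have hirr : IsIrreducible (closure {f ξ}) := isIrreducible_singleton.closure
  exact Set.Subset.antisymm (hZ.2 hirr hZW) hZW

open AlgebraicGeometry CategoryTheory in
/-- For a morphism f : X → S whose source has only finitely many irreducible components, the image of f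
is dense exactly when it contains the generic point of each irreducible component of S, and then S
too has finitely many. -/
theorem result {X S : Scheme.{u}} (f : X ⟶ S)
    (hX : (irreducibleComponents (↑X : Type u)).Finite) :
    (IsDominant f ↔ ∀ s : ↑S, closure {s} ∈ irreducibleComponents (↑S : Type u) → s ∈ Set.range f.base) ∧
      (IsDominant f → (irreducibleComponents (↑S : Type u)).Finite) := by
  refine ⟨⟨fun hd s hs => ?_, fun h => ?_⟩, fun hd => ?_⟩
  · obtain ⟨ξ, _, hξ⟩ := key f.base f.continuous hX hd.denseRange _ hs
    have h1 : IsGenericPoint (f.base ξ) (closure {s}) := hξ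
    have h2 : IsGenericPoint s (closure {s}) := isGenericPoint_closure
    exact ⟨ξ, h1.eq h2⟩
  · refine ⟨?_⟩
    have h1 : genericPoints (↑S : Type u) ⊆ Set.range f.base := fun s hs => h s hs
    have h2 : closure (genericPoints (↑S : Type u)) ⊆ closure (Set.range f.base) := closure_mono h1
    rw [genericPoints.closure] at h2
    exact dense_iff_closure_eq.mpr (Set.eq_univ_of_univ_subset h2)
  · have hG : (genericPoints (↑X : Type u)).Finite := genericPoints.finite hX
    refine (hG.image (fun ξ => closure {f.base ξ})).subset ?_
    intro Z hZ
    obtain ⟨ξ, hξ, hξZ⟩ := key f.base f.continuous hX hd.denseRange Z hZ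
    exact ⟨ξ, hξ, hξZ⟩

end Groth.Agent.S9345
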