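import Groth.Statements.S9346
import Mathlib
-- import your own Groth.Agent.* helpers here

set_option autoImplicit false
universe u
open Dom

namespace Groth.Agent.S9346
open CategoryTheory AlgebraicGeometry Limits TopologicalSpace Topology Opposite


lemma gen_mem {X : Scheme.{u}} [AlgebraicGeometry.IsIntegral X] (U : X.Opens)
    (hne : (U : Set ↑X).Nonempty) : genericPoint ↑X ∈ U := by
  rw [← SetLike.mem_coe, (genericPoint_spec X).mem_open_set_iff U.isOpen]
  simpa using hne

lemma stalk_germ {X Y : Scheme.{u}} (f : X ⟶ Y) (x : X) (U : X.Opens) (V : Y.Opens)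
    (hUV : U ≤ f ⁻¹ᵁ V) (hx : x ∈ U) (g : Γ(Y, V)) :
    f.stalkMap x (Y.presheaf.germ V (f x) (hUV hx) g) =
      X.presheaf.germ U x hx (f.appLE V U hUV g) := by
  simp only [Scheme.Hom.germ_stalkMap_apply, Scheme.Hom.appLE, homOfLE_leOfHom,
    CommRingCat.hom_comp, RingHom.coe_comp, Function.comp_apply, X.presheaf.germ_res_apply]

lemma exists_affine_pair {X Y : Scheme.{u}} (f : X ⟶ Y) (x : X) :
    ∃ (U : X.Opens) (V : Y.Opens) (hUV : U ≤ f ⁻¹ᵁ V), IsAffineOpen U ∧ IsAffineOpen V ∧ x ∈ U := by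
  obtain ⟨V, hV, hfx, _⟩ := Opens.isBasis_iff_nbhd.mp Y.isBasis_affineOpens (Opens.mem_top <| f x)
  obtain ⟨U, hU, hx, hUV⟩ := Opens.isBasis_iff_nbhd.mp X.isBasis_affineOpens
    (show x ∈ f ⁻¹ᵁ V from hfx)
  exact ⟨U, V, hUV, hU, hV, hx⟩


open AlgebraicGeometry CategoryTheory in
/-- For a morphism f : X → Y between integral schemes, these six conditions coincide: (1) f is dominant;
(2) f sends the generic point of X to that of Y; (3) there exist affine opens U ⊆ X, V ⊆ Y with U
nonempty and U ⊆ f⁻¹V such that the induced ring map on sections is injective; (4) the same for all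
such pairs; (5) for some x ∈ X the map of local rings O_{Y,f x} → O_{X,x} is injective; (6) the same
for all x. -/
theorem result {X Y : Scheme.{u}} [AlgebraicGeometry.IsIntegral X] [AlgebraicGeometry.IsIntegral Y] (f : X ⟶ Y) :
    [IsDominant f,
      f.base (genericPoint ↑X) = genericPoint ↑Y,
      ∃ (U : X.Opens) (V : Y.Opens) (hUV : U ≤ f ⁻¹ᵁ V), IsAffineOpen U ∧ IsAffineOpen V ∧ (U : Set ↑X).Nonempty ∧
        Function.Injective (f.appLE V U hUV),
      ∀ (U : X.Opens) (V : Y.Opens) (hUV : U ≤ f ⁻¹ᵁ V), IsAffineOpen U → IsAffineOpen V → (U : Set ↑X).Nonempty →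
        Function.Injective (f.appLE V U hUV),
      ∃ x : ↑X, Function.Injective (f.stalkMap x),
      ∀ x : ↑X, Function.Injective (f.stalkMap x)].TFAE := by
  tfae_have 1 → 2 := by
    intro h
    have h1 := (genericPoint_spec X).image f.continuous
    rw [Set.image_univ, f.denseRange.closure_range] at h1
    exact h1.eq (genericPoint_spec Y)
  tfae_have 2 → 1 := by
    intro h
    rw [isDominant_iff]
    have h2 : closure {f (genericPoint ↑X)} = Set.univ := by
      rw [h]; exact (genericPoint_spec Y)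
    intro y
    have : closure {f (genericPoint ↑X)} ⊆ closure (Set.range f) :=
      closure_mono (by rintro _ rfl; exact ⟨_, rfl⟩)
    exact this (h2 ▸ Set.mem_univ y)
  tfae_have 2 → 4 := by
    intro h U V hUV hU hV hne
    rw [injective_iff_map_eq_zero]
    intro s hs
    by_contra hs0
    have h1 : Y.basicOpen s ≠ ⊥ := fun h0 => hs0 ((AlgebraicGeometry.basicOpen_eq_bot_iff s).mp h0)
    have h2 : genericPoint ↑Y ∈ Y.basicOpen s := by
      apply gen_mem
      exact (Opens.ne_bot_iff_nonempty _).mp h1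
    have h3 : genericPoint ↑X ∈ X.basicOpen (f.appLE V U hUV s) := by
      rw [Scheme.basicOpen_appLE]
      have h4 : f (genericPoint ↑X) ∈ Y.basicOpen s := h ▸ h2
      exact ⟨gen_mem U hne, h4⟩
    rw [hs, Scheme.basicOpen_zero] at h3
    exact h3
  tfae_have 4 → 3 := by
    intro h
    obtain ⟨U, V, hUV, hU, hV, hx⟩ := exists_affine_pair f (genericPoint ↑X)
    exact ⟨U, V, hUV, hU, hV, ⟨_, hx⟩, h U V hUV hU hV ⟨_, hx⟩⟩
  tfae_have 3 → 2 := by
    rintro ⟨U, V, hUV, hU, hV, hne, hinj⟩
    have hηU := gen_mem U hne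
    have hyV : f (genericPoint ↑X) ∈ V := hUV hηU
    have hgen : IsGenericPoint (f (genericPoint ↑X)) (⊤ : Set Y) := by
      rw [IsGenericPoint, Set.top_eq_univ, ← dense_iff_closure_eq, dense_iff_inter_open]
      intro W hW hWne
      obtain ⟨z, hzW, hzV⟩ := nonempty_preirreducible_inter hW V.isOpen hWne ⟨_, hyV⟩
      obtain ⟨s, hsW, hzs⟩ := hV.exists_basicOpen_le (V := ⟨W, hW⟩) ⟨z, hzW⟩ hzV
      have hs0 : s ≠ 0 := by
        rintro rfl
        rw [Scheme.basicOpen_zero] at hzs
        exact hzs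
      have h1 : f.appLE V U hUV s ≠ 0 := fun h0 => hs0 (hinj (h0.trans (map_zero _).symm))
      have h2 : X.basicOpen (f.appLE V U hUV s) ≠ ⊥ :=
        fun h0 => h1 ((AlgebraicGeometry.basicOpen_eq_bot_iff _).mp h0)
      have h3 : genericPoint ↑X ∈ X.basicOpen (f.appLE V U hUV s) := by
        apply gen_mem
        exact (Opens.ne_bot_iff_nonempty _).mp h2
      rw [Scheme.basicOpen_appLE] at h3
      exact ⟨f (genericPoint ↑X), hsW h3.2, rfl⟩
    exact hgen.eq (genericPoint_spec Y)
  tfae_have 4 → 6 := by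
    intro h x
    obtain ⟨U, V, hUV, hU, hV, hx⟩ := exists_affine_pair f x
    have hinj := h U V hUV hU hV ⟨_, hx⟩
    apply hV.stalkMap_injective f x (hUV hx)
    intro g hg
    have : X.presheaf.germ U x hx (f.appLE V U hUV g) = 0 := by
      rw [← hg, stalk_germ]
    have h2 := germ_injective_of_isIntegral X x hx (this.trans (map_zero _).symm)
    rw [hinj (h2.trans (map_zero _).symm), map_zero]
  tfae_have 6 → 5 := by
    intro h
    exact ⟨genericPoint ↑X, h _⟩
  tfae_have 5 → 3 := by
    rintro ⟨x, hx⟩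
    obtain ⟨U, V, hUV, hU, hV, hxU⟩ := exists_affine_pair f x
    refine ⟨U, V, hUV, hU, hV, ⟨_, hxU⟩, ?_⟩
    rw [injective_iff_map_eq_zero]
    intro g hg
    have h1 : f.stalkMap x (Y.presheaf.germ V (f x) (hUV hxU) g) = 0 := by
      rw [stalk_germ f x U V hUV hxU, hg, map_zero]
    have h2 := hx (h1.trans (map_zero _).symm)
    exact germ_injective_of_isIntegral Y (f x) (hUV hxU) (h2.trans (map_zero _).symm)
  tfae_finish

end Groth.Agent.S9346
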