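import Groth.Statements.S9348
import Mathlib
-- import your own Groth.Agent.* helpers here

set_option autoImplicit false
universe u
open Dom

namespace Groth.Agent.S9348

open AlgebraicGeometry CategoryTheory Limits in
/-- points of a fibre product (for an arbitrary pullback square). -/
theorem exists_preimage_of_isPullback {X S X' S' : Scheme.{u}} {f : X ⟶ S}
    {g : S' ⟶ S} {g' : X' ⟶ X} {f' : X' ⟶ S'} (hsq : IsPullback g' f' f g)
    (x : X) (s' : S') (h : f.base x = g.base s') :
    ∃ x' : X', g'.base x' = x ∧ f'.base x' = s' := by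
  obtain ⟨z, hz1, hz2⟩ := Scheme.Pullback.exists_preimage_pullback (f := f) (g := g) x s' h
  refine ⟨hsq.isoPullback.inv.base z, ?_, ?_⟩
  · rw [← Scheme.Hom.comp_apply, hsq.isoPullback_inv_fst]; exact hz1
  · rw [← Scheme.Hom.comp_apply, hsq.isoPullback_inv_snd]; exact hz2


open AlgebraicGeometry CategoryTheory in
/-- Let f : X → Y be a morphism and g : Y' → Y open and surjective. If the base change f' : X ×_Y Y' →
Y' of f is quasi-compact, then so is f. -/
theorem result {X Y X' Y' : Scheme.{u}} (f : X ⟶ Y) (g : Y' ⟶ Y) [Surjective g]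
    (hg : IsOpenMap g.base) (g' : X' ⟶ X) (f' : X' ⟶ Y') (hsq : IsPullback g' f' f g) [QuasiCompact f'] :
    QuasiCompact f := by
  rw [quasiCompact_iff_forall_isAffineOpen]
  intro U hU
  have hcov : ∀ y ∈ U, ∃ W' : Y'.Opens, IsAffineOpen W' ∧ W' ≤ g ⁻¹ᵁ U ∧
      y ∈ g.base '' (W' : Set Y') := by
    intro y hy
    obtain ⟨y', rfl⟩ := g.surjective y
    obtain ⟨W', hW', hy'W', hW'U⟩ :=
      (TopologicalSpace.Opens.isBasis_iff_nbhd.mp Y'.isBasis_affineOpens)
        (show y' ∈ g ⁻¹ᵁ U from hy)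
    exact ⟨W', hW', hW'U, ⟨y', hy'W', rfl⟩⟩
  choose! W' hW'aff hW'le hW'mem using hcov
  obtain ⟨t, ht⟩ := hU.isCompact.elim_finite_subcover
    (fun y : U => g.base '' ((W' y : Y'.Opens) : Set Y'))
    (fun y => hg _ (W' y).isOpen)
    (fun y hy => Set.mem_iUnion.mpr ⟨⟨y, hy⟩, hW'mem y hy⟩)
  have heq : ((f ⁻¹ᵁ U : X.Opens) : Set X) =
      ⋃ y ∈ t, g'.base '' ((f' ⁻¹ᵁ (W' y) : X'.Opens) : Set X') := by
    ext x
    simp only [Set.mem_iUnion, Set.mem_image]
    constructor
    · intro hx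
      have := ht hx
      simp only [Set.mem_iUnion, Set.mem_image] at this
      obtain ⟨y, hyt, w', hw', hgw'⟩ := this
      obtain ⟨x', hx'1, hx'2⟩ := exists_preimage_of_isPullback hsq x w' hgw'.symm
      refine ⟨y, hyt, x', ?_, hx'1⟩
      change f'.base x' ∈ W' y
      rw [hx'2]; exact hw'
    · rintro ⟨y, hyt, x', hx', rfl⟩
      change f.base (g'.base x') ∈ U
      have : f.base (g'.base x') = g.base (f'.base x') := by
        rw [← Scheme.Hom.comp_apply, ← Scheme.Hom.comp_apply, hsq.w]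
      rw [this]
      exact hW'le y y.2 hx'
  rw [heq]
  exact t.isCompact_biUnion (fun y _ =>
    (f'.isCompact_preimage (hW'aff y y.2).isCompact).image g'.continuous)

end Groth.Agent.S9348
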