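import Groth.Statements.S9351
import Mathlib
import Groth.Agent.Lib.Helper91.FlatClosed2

set_option autoImplicit false
universe u
open FlatMod

namespace Groth.Agent.S9351

open AlgebraicGeometry CategoryTheory in
/-- On a scheme X, taking supports is a bijection from the closed subschemes Z ⊆ X with Z → X flat
(indexed by their quasi-coherent ideal sheaves) onto the closed subsets of X stable under
generalization; and any morphism g : Y → X with image inside such a Z factors through Z. -/
theorem result (X : Scheme.{u}) :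
    Set.BijOn (fun I : X.IdealSheafData => I.support) {I : X.IdealSheafData | Flat I.subschemeι}
        {Z : TopologicalSpace.Closeds ↑X | StableUnderGeneralization (Z : Set ↑X)} ∧
      ∀ I : X.IdealSheafData, Flat I.subschemeι → ∀ (Y : Scheme.{u}) (g : Y ⟶ X),
        Set.range g.base ⊆ (I.support : Set ↑X) → ∃ g' : Y ⟶ I.subscheme, g' ≫ I.subschemeι = g := by
  refine ⟨⟨?_, ?_, ?_⟩, ?_⟩
  · intro I hI
    have hI' : Flat I.subschemeι := hI
    show StableUnderGeneralization ((I.support : TopologicalSpace.Closeds ↑X) : Set ↑X)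
    intro x y hyx hx
    have h0 := Lib.Helper91.FlatClosed.stalkIdeal_eq_bot_of_flat I hI' hx
    by_contra hy
    have h1 := (Lib.Helper91.StalkIdeal.stalkIdeal_eq_top_iff I y).mpr hy
    rw [← Lib.Helper91.StalkIdeal.map_stalkSpecializes I hyx, h0, Ideal.map_bot] at h1
    exact bot_ne_top h1
  · intro I hI J hJ hIJ
    have hI' : Flat I.subschemeι := hI
    have hJ' : Flat J.subschemeι := hJ
    have hsupp : I.support = J.support := hIJ
    apply Lib.Helper91.StalkIdeal.eq_of_forall_stalkIdeal_eq
    intro x
    by_cases hx : x ∈ I.support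
    · have hx' : x ∈ J.support := hsupp ▸ hx
      rw [Lib.Helper91.FlatClosed.stalkIdeal_eq_bot_of_flat I hI' hx,
        Lib.Helper91.FlatClosed.stalkIdeal_eq_bot_of_flat J hJ' hx']
    · have hx' : x ∉ J.support := hsupp ▸ hx
      rw [(Lib.Helper91.StalkIdeal.stalkIdeal_eq_top_iff I x).mpr hx,
        (Lib.Helper91.StalkIdeal.stalkIdeal_eq_top_iff J x).mpr hx']
  · intro Z hZ
    have hZ' : StableUnderGeneralization (Z : Set ↑X) := hZ
    refine ⟨Lib.Helper91.FlatClosed.idealSheafOf (Z : Set ↑X) Z.isClosed hZ',
      Lib.Helper91.FlatClosed.flat_subschemeι_idealSheafOf _ _ _, ?_⟩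
    apply SetLike.coe_injective
    exact Lib.Helper91.FlatClosed.support_idealSheafOf _ _ _
  · intro I hI Y g hg
    have hle : I.subschemeι.ker ≤ g.ker := by
      rw [Scheme.IdealSheafData.ker_subschemeι]
      unfold Scheme.Hom.ker
      rw [Scheme.IdealSheafData.le_ofIdeals_iff]
      intro U a ha
      rw [RingHom.mem_ker]
      apply TopCat.Presheaf.section_ext Y.sheaf
      intro y hy
      show Y.presheaf.germ (g ⁻¹ᵁ U.1) y hy ((g.app U.1).hom a) =
        Y.presheaf.germ (g ⁻¹ᵁ U.1) y hy 0
      rw [map_zero]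
      have hgy : g y ∈ I.support := hg ⟨y, rfl⟩
      have hyU : g y ∈ U.1 := hy
      have h0 := Lib.Helper91.FlatClosed.stalkIdeal_eq_bot_of_flat I hI hgy
      rw [Lib.Helper91.StalkIdeal.stalkIdeal_eq I U hyU] at h0
      have h1 : X.presheaf.germ U.1 (g y) hyU a = 0 := by
        have : X.presheaf.germ U.1 (g y) hyU a ∈
            (I.ideal U).map (X.presheaf.germ U.1 (g y) hyU).hom := Ideal.mem_map_of_mem _ ha
        rw [h0] at this
        exact this
      have h2 := Scheme.Hom.germ_stalkMap_apply g U.1 y hyU a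
      rw [h1, map_zero] at h2
      exact h2.symm
    exact ⟨IsClosedImmersion.lift I.subschemeι g hle, IsClosedImmersion.lift_fac _ _ _⟩

end Groth.Agent.S9351
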