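import Groth.Statements.S9356
import Groth.Agent.Lib.Helper73.FibreStalk
import Groth.Agent.Lib.Helper29.TopDimLocal
-- import your own Groth.Agent.* helpers here

set_option autoImplicit false
universe u
open FibDim

namespace Groth.Agent.S9356
open Groth.Agent.Lib.Helper73.SchemeDim

open AlgebraicGeometry CategoryTheory in
/-- Let f : X → S be locally of finite type and x ⤳ x' a nontrivial specialization of points of the
fibre X_s. Then dim_x(X_s) ≤ dim_{x'}(X_s) and dim O_{X_s,x} < dim O_{X_s,x'}. (The assertion on
transcendence degrees of residue fields is a separate statement.) -/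
theorem result {X S : Scheme.{u}} (f : X ⟶ S) [LocallyOfFiniteType f] (s : S)
    (x x' : ↑(f.fiber s)) (hsp : x ⤳ x') (hne : x ≠ x') :
    FlatMor.localDim ↑(f.fiber s) x ≤ FlatMor.localDim ↑(f.fiber s) x' ∧
      ringKrullDim ((f.fiber s).presheaf.stalk x) < ringKrullDim ((f.fiber s).presheaf.stalk x') := by
  constructor
  · unfold FlatMor.localDim
    apply le_iInf
    rintro ⟨U, hU⟩
    exact Groth.Agent.Lib.Helper29.localDim_le_dim_of_mem x U (hsp.mem_open U.isOpen hU)
  · have : IsLocallyNoetherian (f.fiber s) := isLocallyNoetherian_fiber f s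
    have hfin : Order.coheight x < ⊤ := by
      have h1 : ringKrullDim ((f.fiber s).presheaf.stalk x) < ⊤ := ringKrullDim_lt_top
      rw [AlgebraicGeometry.ringKrullDim_stalk_eq_coheight, ← WithBot.coe_top] at h1
      exact WithBot.coe_lt_coe.mp h1
    have hlt : x' < x := by
      rw [lt_iff_le_not_ge]
      exact ⟨hsp, fun h => hne (Specializes.antisymm hsp h).eq⟩
    have := Order.coheight_strictAnti hlt hfin
    rw [AlgebraicGeometry.ringKrullDim_stalk_eq_coheight,
      AlgebraicGeometry.ringKrullDim_stalk_eq_coheight]
    exact_mod_cast this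

end Groth.Agent.S9356
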