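import Groth.Statements.S9357
import Groth.Agent.Lib.Helper73.FlatRelDim3
-- import your own Groth.Agent.* helpers here

set_option autoImplicit false
universe u
open FibDim

namespace Groth.Agent.S9357
open CategoryTheory AlgebraicGeometry Groth.Agent.Lib.Helper73.SchemeDim Groth.Agent.Lib.Helper73.FieldDim Groth.Agent.Lib.Helper73.DimFormula Groth.Agent.Lib.Helper73.FlatRelDim

open AlgebraicGeometry CategoryTheory in
/-- Suppose both f : X → Y and g : Y → Z are morphisms locally of finite type. When the relative
dimension of f is at most d and that of g is at most e, the composite g ∘ f has relative dimension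
at most d + e. Moreover, when f is flat of relative dimension exactly d and g is of relative
dimension exactly e, the composite g ∘ f is of relative dimension exactly d + e (every nonempty
fibre equidimensional of that dimension). -/
theorem result {X Y Z : Scheme.{u}} (f : X ⟶ Y) (g : Y ⟶ Z) [LocallyOfFiniteType f] [LocallyOfFiniteType g] (d e : ℕ) :
    ((∀ x : ↑X, FlatMor.fibreDimAt f x ≤ d) → (∀ y : ↑Y, FlatMor.fibreDimAt g y ≤ e) →
        ∀ x : ↑X, FlatMor.fibreDimAt (f ≫ g) x ≤ (d + e : ℕ)) ∧
      (Cyc.HasRelDim f d → Cyc.HasRelDim g e → Flat f → Cyc.HasRelDim (f ≫ g) (d + e)) := by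
  constructor
  · intro hf hg x
    obtain ⟨ζ, n, hζx, hζf, hn, hF⟩ := exists_specializes_trdeg_eq_fibreDimAt (f ≫ g) x
    rw [hF]
    obtain ⟨n1, hn1⟩ := exists_trdeg_residueField_eq_nat' f ζ
    obtain ⟨n2, hn2⟩ := exists_trdeg_residueField_eq_nat' g (f.base ζ)
    have hadd := trdeg_residueFieldMap_comp_add f g ζ
    rw [hn, hn1, hn2] at hadd
    have hadd' : n2 + n1 = n := by exact_mod_cast hadd
    have h1 := (trdeg_le_fibreDimAt_of_fibre' f (specializes_refl ζ) rfl n1 hn1).trans (hf ζ)
    have h2 := (trdeg_le_fibreDimAt_of_fibre' g (specializes_refl (f.base ζ)) rfl n2 hn2).trans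
      (hg (f.base ζ))
    have h1' : n1 ≤ d := by exact_mod_cast h1
    have h2' : n2 ≤ e := by exact_mod_cast h2
    have : n ≤ d + e := by omega
    exact_mod_cast this
  · intro hf hg hflat
    rw [hasRelDim_iff] at hf hg ⊢
    intro ζ hζmax
    have h1 := hf ζ (fun z' hz' hfz' => hζmax z' hz' (by
      change g.base (f.base z') = g.base (f.base ζ)
      rw [hfz']))
    have h2 := hg (f.base ζ) (fun y' hy' hgy' => by
      obtain ⟨ζ', hζ'ζ, hfζ'⟩ := Flat.generalizingMap f hy'
      have := hζmax ζ' hζ'ζ (by
        change g.base (f.base ζ') = g.base (f.base ζ)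
        rw [hfζ', hgy'])
      rw [← hfζ', this])
    have hadd := trdeg_residueFieldMap_comp_add f g ζ
    rw [h1, h2] at hadd
    rw [← hadd]
    push_cast
    rw [add_comm]

end Groth.Agent.S9357
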