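import Groth.Statements.S9361
-- import your own Groth.Agent.* helpers here
import Mathlib.AlgebraicGeometry.Morphisms.Immersion

set_option autoImplicit false
universe u
open SchImage

namespace Groth.Agent.S9361

open AlgebraicGeometry CategoryTheory in
/-- Let f : X → Y be separated, V ⊆ Y a retrocompact open and s : V → X a section of f over V. If Y' ⊆ X
is the scheme-theoretic image of s, then Y' → Y is an isomorphism over V. -/
theorem result {X Y : Scheme.{u}} (f : X ⟶ Y) [IsSeparated f] (V : Y.Opens) [QuasiCompact V.ι]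
    (s : (↑V : Scheme.{u}) ⟶ X) (hs : s ≫ f = V.ι) :
    IsIso ((s.imageι ≫ f) ∣_ V) := by
  haveI hqc : QuasiCompact s := by
    haveI : QuasiCompact (s ≫ f) := by rw [hs]; infer_instance
    exact QuasiCompact.of_comp s f
  haveI himm : IsImmersion s := by
    haveI : IsImmersion (s ≫ f) := by rw [hs]; infer_instance
    exact IsImmersion.of_comp s f
  -- the lift of `s` to `f ⁻¹ V` is a closed immersion
  have hsub : Set.range s ⊆ Set.range (f ⁻¹ᵁ V).ι := by
    rintro _ ⟨v, rfl⟩
    rw [Scheme.Opens.range_ι]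
    show f (s v) ∈ V
    rw [← Scheme.Hom.comp_apply, hs]
    exact v.2
  let s' : (↑V : Scheme.{u}) ⟶ (f ⁻¹ᵁ V) := IsOpenImmersion.lift (f ⁻¹ᵁ V).ι s hsub
  have hs' : s' ≫ (f ⁻¹ᵁ V).ι = s := IsOpenImmersion.lift_fac _ _ _
  have hs'f : s' ≫ (f ∣_ V) = 𝟙 _ := by
    rw [← cancel_mono V.ι, Category.assoc, morphismRestrict_ι, ← Category.assoc, hs', hs,
      Category.id_comp]
  haveI : IsClosedImmersion s' := by
    haveI : IsClosedImmersion (s' ≫ (f ∣_ V)) := by rw [hs'f]; infer_instance
    exact IsClosedImmersion.of_comp s' (f ∣_ V)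
  have hclosed : IsClosed (Set.range s') := s'.isClosedEmbedding.isClosed_range
  have hkey : ∀ x : X, x ∈ closure (Set.range s) → f x ∈ V → x ∈ Set.range s := by
    intro x hx hxV
    have hx' : x ∈ Set.range (f ⁻¹ᵁ V).ι := by rw [Scheme.Opens.range_ι]; exact hxV
    obtain ⟨x', rfl⟩ := hx'
    have h1 : x' ∈ closure (Set.range s') := by
      rw [(f ⁻¹ᵁ V).ι.isOpenEmbedding.isInducing.closure_eq_preimage_closure_image]
      show (f ⁻¹ᵁ V).ι x' ∈ closure _
      rw [← Set.range_comp]
      have : ((f ⁻¹ᵁ V).ι : _ → X) ∘ s' = s := by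
        rw [← hs']; rfl
      rw [this]
      exact hx
    rw [hclosed.closure_eq] at h1
    obtain ⟨v, rfl⟩ := h1
    exact ⟨v, by rw [← hs']; rfl⟩
  -- the inverse
  set W := (s.imageι ≫ f) ⁻¹ᵁ V with hW
  have hsubW : Set.range s.toImage ⊆ Set.range W.ι := by
    rintro _ ⟨v, rfl⟩
    rw [Scheme.Opens.range_ι]
    show (s.imageι ≫ f) (s.toImage v) ∈ V
    rw [← Scheme.Hom.comp_apply, ← Category.assoc, s.toImage_imageι, hs]
    exact v.2
  let t : (↑V : Scheme.{u}) ⟶ W := IsOpenImmersion.lift W.ι s.toImage hsubW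
  have ht : t ≫ W.ι = s.toImage := IsOpenImmersion.lift_fac _ _ _
  have htg : t ≫ ((s.imageι ≫ f) ∣_ V) = 𝟙 _ := by
    rw [← cancel_mono V.ι, Category.assoc, morphismRestrict_ι, ← Category.assoc, ht,
      ← Category.assoc, s.toImage_imageι, hs, Category.id_comp]
  haveI : IsOpenImmersion t := by
    haveI : IsOpenImmersion (t ≫ W.ι) := by rw [ht]; infer_instance
    exact IsOpenImmersion.of_comp t W.ι
  have hsurj : Function.Surjective t := by
    intro w
    have h1 : s.imageι (W.ι w) ∈ closure (Set.range s) := by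
      rw [← Scheme.Hom.support_ker, ← Scheme.IdealSheafData.range_subschemeι]
      exact ⟨_, rfl⟩
    have h2 : f (s.imageι (W.ι w)) ∈ V := by
      have : W.ι w ∈ Set.range W.ι := ⟨w, rfl⟩
      rw [Scheme.Opens.range_ι] at this
      exact this
    obtain ⟨v, hv⟩ := hkey _ h1 h2
    refine ⟨v, ?_⟩
    apply W.ι.isOpenEmbedding.injective
    apply s.imageι.isClosedEmbedding.injective
    rw [← Scheme.Hom.comp_apply, ← Scheme.Hom.comp_apply, ← Category.assoc, ht, s.toImage_imageι]
    exact hv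
  haveI : Epi t.base := by
    rw [TopCat.epi_iff_surjective]
    exact hsurj
  haveI : IsIso t := IsOpenImmersion.isIso t
  have : (s.imageι ≫ f) ∣_ V = inv t := by
    rw [← cancel_epi t, htg, IsIso.hom_inv_id]
  rw [this]
  infer_instance


end Groth.Agent.S9361
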