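import Groth.Statements.S9362
import Groth.Agent.Lib.QCoh.Local
import Groth.Agent.Lib.QCoh.Helper24_Colimits
import Groth.Agent.S0484

set_option autoImplicit false
universe u
open QCohSub

namespace Groth.Agent.S9362

open AlgebraicGeometry CategoryTheory in
/-- Let F be a quasi-coherent O_X-module and G ⊆ F an O_X-submodule. There is a quasi-coherent submodule
G' ⊆ G such that Hom(H, G') → Hom(H, G) is bijective for every quasi-coherent O_X-module H; in
particular G' is the largest quasi-coherent submodule of F contained in G (it is unique up to unique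
isomorphism over G). -/
theorem result (X : Scheme.{u}) (F G : X.Modules) (hF : Coh.IsQCoh F) (j : G ⟶ F) [Mono j] :
    ∃ (G' : X.Modules) (k : G' ⟶ G), Coh.IsQCoh G' ∧ Mono k ∧
      ∀ H : X.Modules, Coh.IsQCoh H → Function.Bijective (fun φ : H ⟶ G' => φ ≫ k) := by
  open CategoryTheory.Limits Groth.Agent.Lib.QCoh in
  haveI : IsGrothendieckAbelian.{u} X.Modules :=
    Groth.Agent.S0484.result (Opens.grothendieckTopology X) X.ringCatSheaf
  haveI : WellPowered.{u} X.Modules := IsGrothendieckAbelian.wellPowered _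
  haveI hF' : F.IsQuasicoherent := hF
  -- image data of a map to `G`, computed inside `F`
  have key : ∀ (H : X.Modules) (ψ : H ⟶ G), ∃ (I : X.Modules) (e : H ⟶ I) (l : I ⟶ G),
      Epi e ∧ Mono l ∧ e ≫ l = ψ ∧ (H.IsQuasicoherent → I.IsQuasicoherent) := by
    intro H ψ
    let e := Abelian.factorThruImage (ψ ≫ j)
    let m := Abelian.image.ι (ψ ≫ j)
    have hem : e ≫ m = ψ ≫ j := Abelian.image.fac (ψ ≫ j)
    haveI : StrongEpi e := strongEpi_of_epi e
    have sq : CommSq ψ e j m := ⟨hem.symm⟩
    refine ⟨Abelian.image (ψ ≫ j), e, sq.lift, inferInstance, ?_, sq.fac_left, ?_⟩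
    · haveI : Mono (sq.lift ≫ j) := by rw [sq.fac_right]; infer_instance
      exact mono_of_mono sq.lift j
    · intro hH
      haveI := hH
      haveI : (cokernel (ψ ≫ j)).IsQuasicoherent := isQuasicoherent_cokernel (ψ ≫ j)
      exact isQuasicoherent_kernel (cokernel.π (ψ ≫ j))
  -- the family of all quasi-coherent subobjects of `G`
  let ι : Type u := {s : Shrink.{u} (Subobject G) //
    (((equivShrink (Subobject G)).symm s : Subobject G) : X.Modules).IsQuasicoherent}
  let obj : ι → X.Modules := fun i => (((equivShrink (Subobject G)).symm i.1 : Subobject G) : X.Modules)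
  let arr : ∀ i : ι, obj i ⟶ G := fun i => ((equivShrink (Subobject G)).symm i.1).arrow
  let π : (∐ obj) ⟶ G := Sigma.desc arr
  have hP : (∐ obj).IsQuasicoherent := isQuasicoherent_sigma obj (fun i => i.2)
  obtain ⟨G', e, k, he, hk, hek, hG'⟩ := key (∐ obj) π
  have A : ∀ S : Subobject G, (S : X.Modules).IsQuasicoherent →
      ∃ a : (S : X.Modules) ⟶ G', a ≫ k = S.arrow := by
    intro S hS
    obtain ⟨s, rfl⟩ := (equivShrink (Subobject G)).symm.surjective S
    refine ⟨Sigma.ι obj ⟨s, hS⟩ ≫ e, ?_⟩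
    rw [Category.assoc, hek]
    exact Sigma.ι_desc arr ⟨s, hS⟩
  refine ⟨G', k, hG' hP, hk, fun H hH => ⟨fun φ φ' h => (cancel_mono k).1 h, fun ψ => ?_⟩⟩
  obtain ⟨I, e', l, he', hl, hel, hI⟩ := key H ψ
  haveI := hl
  have hS : ((Subobject.mk l : Subobject G) : X.Modules).IsQuasicoherent :=
    isQuasicoherent_of_iso (Subobject.underlyingIso l).symm (hI hH)
  obtain ⟨a, ha⟩ := A (Subobject.mk l) hS
  refine ⟨e' ≫ (Subobject.underlyingIso l).inv ≫ a, ?_⟩
  change (e' ≫ (Subobject.underlyingIso l).inv ≫ a) ≫ k = ψ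
  rw [Category.assoc, Category.assoc, ha, Subobject.underlyingIso_arrow, hel]

end Groth.Agent.S9362
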