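import Groth.Statements.S9364
import Groth.Agent.Lib.Helper35.SyntStd

set_option autoImplicit false
universe u
open Synt

namespace Groth.Agent.S9364

section Helpers
open AlgebraicGeometry CategoryTheory

set_option maxHeartbeats 800000
set_option linter.style.haveILetI false

theorem isSyntomic_of_opens_eq {X S : Scheme.{u}} (f : X ⟶ S) (V : S.Opens) (U U' : X.Opens)
    (h : U = U') (e : U ≤ f ⁻¹ᵁ V) (e' : U' ≤ f ⁻¹ᵁ V)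
    (H : letI := (f.appLE V U e).hom.toAlgebra
      Synt.IsSyntomic Γ(S, V) Γ(X, U)) :
    letI := (f.appLE V U' e').hom.toAlgebra
    Synt.IsSyntomic Γ(S, V) Γ(X, U') := by
  subst h
  exact H

theorem isSyntomicMor_ι_comp {X S : Scheme.{u}} (f : X ⟶ S) (U₀ : X.affineOpens)
    (V₀ : S.affineOpens) (e₀ : U₀.1 ≤ f ⁻¹ᵁ V₀.1)
    (H : letI := (f.appLE V₀.1 U₀.1 e₀).hom.toAlgebra
      Synt.IsSyntomic Γ(S, V₀.1) Γ(X, U₀.1)) :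
    Synt.IsSyntomicMor (U₀.1.ι ≫ f) := by
  intro x'
  haveI : IsAffine ↑U₀.1 := U₀.2
  have htop : U₀.1.ι ''ᵁ (⊤ : U₀.1.toScheme.Opens) = U₀.1 := Scheme.Opens.ι_image_top _
  have e1 : (⊤ : U₀.1.toScheme.Opens) ≤ (U₀.1.ι ≫ f) ⁻¹ᵁ V₀.1 := by
    intro y _
    exact e₀ y.2
  have e2 : U₀.1.ι ''ᵁ (⊤ : U₀.1.toScheme.Opens) ≤ f ⁻¹ᵁ V₀.1 := by
    rw [htop]; exact e₀
  refine ⟨⟨⊤, isAffineOpen_top _⟩, V₀, e1, trivial, ?_⟩
  show @Synt.IsSyntomic Γ(S, V₀.1) _ Γ(↑U₀.1, ⊤) _ (((U₀.1.ι ≫ f).appLE V₀.1 ⊤ e1).hom.toAlgebra)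
  rw [Groth.Agent.Lib.Helper35.SyntStd.comp_ι_appLE f U₀.1 V₀.1 ⊤ e1 e2]
  exact isSyntomic_of_opens_eq f V₀.1 U₀.1 _ htop.symm e₀ e2 H


theorem forward {X S : Scheme.{u}} (f : X ⟶ S) (x : X) (V : S.affineOpens)
    (hV : f.base x ∈ V.1) (H : Synt.IsSyntomicAt f x) :
    ∃ (U : X.affineOpens) (e : U.1 ≤ f ⁻¹ᵁ V.1), x ∈ U.1 ∧
      Synt.IsStandardSyntomic (f.resLE V.1 U.1 e) := by
  obtain ⟨U₀, V₀, e₀, hxU₀, hsyn₀⟩ := H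
  haveI : IsAffine ↑U₀.1 := U₀.2
  set g : (U₀.1 : Scheme.{u}) ⟶ S := U₀.1.ι ≫ f with hg
  have hgsyn : Synt.IsSyntomicMor g := isSyntomicMor_ι_comp f U₀ V₀ e₀ hsyn₀
  let x' : (U₀.1 : Scheme.{u}) := ⟨x, hxU₀⟩
  have hx'V : x' ∈ g ⁻¹ᵁ V.1 := by
    show g.base x' ∈ V.1
    have : g.base x' = f.base x := by
      rw [hg, Scheme.Hom.comp_base]
      rfl
    rw [this]
    exact hV
  obtain ⟨_, ⟨W, hWaff, rfl⟩, hx'W, hWV⟩ :=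
    (Scheme.isBasis_affineOpens (U₀.1 : Scheme.{u})).exists_subset_of_mem_open hx'V (g ⁻¹ᵁ V.1).2
  have hWV' : W ≤ g ⁻¹ᵁ V.1 := hWV
  have hW : IsAffineOpen W := hWaff
  have hsynW := (Groth.Agent.S9363.result g).1 hgsyn ⟨W, hW⟩ V hWV'
  letI algW : Algebra Γ(S, V.1) Γ(↑U₀.1, W) := (g.appLE V.1 W hWV').hom.toAlgebra
  change Synt.IsSyntomic Γ(S, V.1) Γ(↑U₀.1, W) at hsynW
  set q : Ideal Γ(↑U₀.1, W) := (hW.primeIdealOf ⟨x', hx'W⟩).asIdeal with hq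
  haveI : q.IsPrime := (hW.primeIdealOf ⟨x', hx'W⟩).2
  set p : Ideal Γ(S, V.1) := q.comap (algebraMap Γ(S, V.1) Γ(↑U₀.1, W)) with hp
  haveI : p.IsPrime := Ideal.comap_isPrime _ _
  haveI : q.LiesOver p := ⟨rfl⟩
  obtain ⟨Q, hQprime, hQ⟩ := Groth.Agent.Lib.Helper35.RelGCI.exists_fibre_prime p q rfl
  haveI := hQprime
  have h1 : ∃ g₁ : Γ(↑U₀.1, W), g₁ ∉ q ∧ Synt.IsSyntomic Γ(S, V.1) (Localization.Away g₁) := by
    refine ⟨1, fun h => (Ideal.IsPrime.ne_top inferInstance) ((Ideal.eq_top_iff_one q).2 h), ?_⟩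
    exact Groth.Agent.Lib.Helper62.GCIField.isSyntomic_of_algEquiv
      ((IsLocalization.atOne Γ(↑U₀.1, W) (Localization.Away (1 : Γ(↑U₀.1, W)))).restrictScalars
        Γ(S, V.1)) hsynW
  obtain ⟨g₁, hg₁, n, c, F, hGCI, ⟨ε⟩⟩ :=
    ((Groth.Agent.S9169.result Γ(S, V.1) Γ(↑U₀.1, W) p q Q hQ).1).1 h1
  set D : (U₀.1 : Scheme.{u}).Opens := (U₀.1 : Scheme.{u}).basicOpen g₁ with hD
  have hDaff : IsAffineOpen D := hW.basicOpen g₁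
  have hDW : D ≤ W := (U₀.1 : Scheme.{u}).basicOpen_le g₁
  have hx'D : x' ∈ D := by
    have h2 : hW.fromSpec (hW.primeIdealOf ⟨x', hx'W⟩) = x' := hW.fromSpec_primeIdealOf ⟨x', hx'W⟩
    have h3 : hW.primeIdealOf ⟨x', hx'W⟩ ∈ hW.fromSpec ⁻¹ᵁ D := by
      rw [hD, hW.fromSpec_preimage_basicOpen]
      exact hg₁
    rw [← h2]
    exact h3
  have hUaff : IsAffineOpen (U₀.1.ι ''ᵁ D) := hDaff.image_of_isOpenImmersion U₀.1.ι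
  have hDV : D ≤ g ⁻¹ᵁ V.1 := hDW.trans hWV'
  have e : U₀.1.ι ''ᵁ D ≤ f ⁻¹ᵁ V.1 := by
    rintro _ ⟨y, hy, rfl⟩
    exact hDV hy
  refine ⟨⟨U₀.1.ι ''ᵁ D, hUaff⟩, e, ⟨x', hx'D, rfl⟩, ?_⟩
  haveI hloc : IsLocalization.Away g₁ Γ(↑U₀.1, D) := hW.isLocalization_basicOpen g₁
  let γ : Localization.Away g₁ ≃ₐ[Γ(↑U₀.1, W)] Γ(↑U₀.1, D) :=
    IsLocalization.algEquiv (Submonoid.powers g₁) (Localization.Away g₁) Γ(↑U₀.1, D)
  refine Groth.Agent.Lib.Helper35.SyntStd.isStandardSyntomic_resLE f ⟨U₀.1.ι ''ᵁ D, hUaff⟩ V e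
    n c F hGCI (ε.symm.toRingEquiv.trans γ.toRingEquiv) ?_
  intro a
  show γ (ε.symm (algebraMap Γ(S, V.1) (Synt.RelGCIRing Γ(S, V.1) n c F) a)) = _
  rw [ε.symm.commutes, IsScalarTower.algebraMap_apply Γ(S, V.1) Γ(↑U₀.1, W) (Localization.Away g₁),
    γ.commutes]
  rw [← Groth.Agent.Lib.Helper35.SyntStd.comp_ι_appLE f U₀.1 V.1 D hDV e]
  have h5 : g.appLE V.1 W hWV' ≫ (U₀.1 : Scheme.{u}).presheaf.map (homOfLE hDW).op =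
      g.appLE V.1 D hDV := Scheme.Hom.appLE_map _ _ _
  rw [← h5]
  rfl

end Helpers

open AlgebraicGeometry CategoryTheory in
/-- Let f : X → S, x ∈ X and V ⊆ S an affine open neighbourhood of f x. Then f is syntomic at x if and
only if some affine open U ∋ x with f(U) ⊆ V has f|_U : U → V standard syntomic. -/
theorem result {X S : Scheme.{u}} (f : X ⟶ S) (x : X) (V : S.affineOpens)
    (hV : f.base x ∈ V.1) :
    Synt.IsSyntomicAt f x ↔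
      ∃ (U : X.affineOpens) (e : U.1 ≤ f ⁻¹ᵁ V.1), x ∈ U.1 ∧ Synt.IsStandardSyntomic (f.resLE V.1 U.1 e) := by
  constructor
  · exact forward f x V hV
  · rintro ⟨U, e, hxU, h⟩
    exact ⟨U, V, e, hxU,
      Groth.Agent.Lib.Helper35.SyntStd.isSyntomic_of_isStandardSyntomic_resLE f U V e h⟩

end Groth.Agent.S9364
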