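import Groth.Statements.S9367
import Mathlib
import Groth.Agent.Lib.Helper48.SyntCMAt
import Groth.Agent.S9374
import Groth.Agent.S9862

set_option autoImplicit false
open CategoryTheory CategoryTheory.Limits AlgebraicGeometry Opposite
universe u

namespace Groth.Agent.S9367

open AlgebraicGeometry CategoryTheory in
/-- If f : X → S is syntomic, then x ↦ dim_x(X_{f x}) is locally constant on X. -/
theorem result {X S : Scheme.{u}} (f : X ⟶ S) (hf : Synt.IsSyntomicMor f) :
    IsLocallyConstant (fun x : ↑X => FlatMor.fibreDimAt f x) := by
  haveI : Flat f := Groth.Agent.S9862.flat_of_isSyntomicMor f hf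
  haveI : LocallyOfFinitePresentation f := Groth.Agent.S9862.lfp_of_isSyntomicMor f hf
  exact Groth.Agent.S9374.result f
    (fun x => Groth.Agent.Lib.Helper48.SyntMor.isCMAt_of_isSyntomicMor f hf x)

end Groth.Agent.S9367
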