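import Groth.Statements.S9376
import Groth.Agent.Lib.Helper20.SuppProper

set_option autoImplicit false
universe u
open QCohSub

namespace Groth.Agent.S9376

open AlgebraicGeometry CategoryTheory Opposite in
/-- For a closed immersion i : Z → X with ideal sheaf 𝓘 and a quasi-coherent O_X-module G, the unit G →
i_* i^* G is an isomorphism if and only if 𝓘 G = 0 (sections of 𝓘 over affine opens annihilate the
sections of G). Full faithfulness and exactness of i_* are not restated. -/
theorem result {Z X : Scheme.{u}} (i : Z ⟶ X) [IsClosedImmersion i]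
    (G : X.Modules) (hG : Coh.IsQCoh G) :
    IsIso ((Scheme.Modules.pullbackPushforwardAdjunction i).unit.app G) ↔
      ∀ (U : X.affineOpens) (a : Γ(X, U.1)), a ∈ i.ker.ideal U → ∀ s : Γ(G, U.1), a • s = 0 := by
  open Groth.Agent.Lib.Helper20.AnnIdeal in
  have : G.IsQuasicoherent := hG
  constructor
  · intro hiso U a ha s
    rw [Scheme.Hom.ker_apply] at ha
    let e : (Scheme.Modules.pushforward i).obj ((Scheme.Modules.pullback i).obj G) ≅ G :=
      (asIso ((Scheme.Modules.pullbackPushforwardAdjunction i).unit.app G)).symm
    have hsurj : Function.Surjective (e.hom.app U.1) := by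
      intro y
      refine ⟨e.inv.app U.1 y, ?_⟩
      have : (e.inv ≫ e.hom).app U.1 y = y := by rw [e.inv_hom_id]; rfl
      exact this
    obtain ⟨m', rfl⟩ := hsurj s
    rw [← Scheme.Modules.Hom.app_smul]
    have h0 : a • m' = 0 := by
      let m'' : Γ((Scheme.Modules.pullback i).obj G, i ⁻¹ᵁ U.1) := m'
      have h1 : a • m' = ((i.app U.1).hom a) • m'' := rfl
      rw [h1]
      have h2 : (i.app U.1).hom a = 0 := ha
      rw [h2, zero_smul]
      rfl
    rw [h0, map_zero]
  · intro h
    refine isIso_unit_of_killed i G ?_
    intro U a ha m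
    exact h U a (by rw [Scheme.Hom.ker_apply]; exact ha) m

end Groth.Agent.S9376
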