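import Groth.Statements.S9378
import Groth.Agent.Lib.Helper20.AnnIdeal
import Groth.Agent.Lib.Helper20.IdealComap
import Groth.Agent.Lib.QCoh.Helper18_PullbackAffine
import Groth.Agent.Lib.QCoh.Helper74_FittComap
import Groth.Agent.Lib.Helper93.SemiLocalDim
import Groth.Agent.Lib.QCoh.Helper50_Pullback

set_option autoImplicit false
universe u
open QCohSub

namespace Groth.Agent.S9378

open AlgebraicGeometry CategoryTheory Opposite in
/-- Let f : Y → X be flat and F a quasi-coherent O_X-module of finite type, where the ideal sheaf J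
(given by annihilators on affine opens) defines the scheme-theoretic support of F. Then the inverse
image ideal sheaf of J along f cuts out the scheme-theoretic support of f^*F. -/
theorem result {Y X : Scheme.{u}} (f : Y ⟶ X) [Flat f] (F : X.Modules)
    (hq : Coh.IsQCoh F) (hft : CohB1.IsFT F) (J : X.IdealSheafData)
    (hJ : ∀ U : X.affineOpens, J.ideal U = Module.annihilator Γ(X, U.1) Γ(F, U.1)) :
    ∀ V : Y.affineOpens, (J.comap f).ideal V =
      Module.annihilator Γ(Y, V.1) Γ((Scheme.Modules.pullback f).obj F, V.1) := by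
  have hFq : F.IsQuasicoherent := hq
  have hFt : F.IsFiniteType := hft
  have hGq : ((Scheme.Modules.pullback f).obj F).IsQuasicoherent :=
    Groth.Agent.Lib.QCoh.isQuasicoherent_pullback f F
  have hGt : ((Scheme.Modules.pullback f).obj F).IsFiniteType :=
    Groth.Agent.Lib.QCoh.FittSheaf74.isFiniteType_pullback f F
  suffices h : J.comap f =
      Groth.Agent.Lib.Helper20.AnnIdeal.annIdeal ((Scheme.Modules.pullback f).obj F) by
    intro V
    rw [h]
    rfl
  apply Scheme.IdealSheafData.ext_of_iSup_eq_top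
    (fun i : {p : Y.affineOpens × X.affineOpens // p.1.1 ≤ f ⁻¹ᵁ p.2.1} => i.1.1)
    (Groth.Agent.Lib.Helper20.iSup_affine_charts_eq_top f)
  rintro ⟨⟨U, V⟩, e⟩
  rw [Groth.Agent.Lib.Helper20.ideal_comap f J U V e, hJ V,
    Groth.Agent.Lib.Helper20.AnnIdeal.annIdeal_ideal]
  let _ : Algebra Γ(X, V.1) Γ(Y, U.1) := (f.appLE V.1 U.1 e).hom.toAlgebra
  have hflat : Module.Flat Γ(X, V.1) Γ(Y, U.1) :=
    Scheme.Hom.flat_appLE f V.2 U.2 e
  have hfin : Module.Finite Γ(X, V.1) Γ(F, V.1) :=
    Groth.Agent.Lib.QCoh.finite_Γ_of_isAffineOpen V.2 F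
  let E := Groth.Agent.Lib.QCoh.pullbackΓLinearEquiv f F V.2 U.2 e
  have h1 : Module.annihilator Γ(Y, U.1) Γ((Scheme.Modules.pullback f).obj F, U.1) =
      Module.annihilator Γ(Y, U.1) (TensorProduct Γ(X, V.1) Γ(Y, U.1) Γ(F, V.1)) :=
    E.annihilator_eq
  rw [h1]
  exact le_antisymm Groth.Agent.Lib.Helper93.SemiLocalDim.map_annihilator_le
    Groth.Agent.Lib.Helper93.SemiLocalDim.annihilator_baseChange_le

end Groth.Agent.S9378
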