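import Groth.Statements.S9385
-- import your own Groth.Agent.* helpers here
import Groth.Agent.S4372
import Groth.Agent.S9360
import Groth.Agent.S4667

set_option autoImplicit false
universe u
open SchDense

namespace Groth.Agent.S9385

open AlgebraicGeometry CategoryTheory


/-- the comparison to the scheme-theoretic image has trivial kernel (reduced source). -/
lemma ker_toImage_eq_bot_of_isReduced {X Y : Scheme.{u}} (f : X ⟶ Y) [IsReduced X] :
    f.toImage.ker = ⊥ := by
  have haff : ∀ U : Y.affineOpens, IsAffineOpen (f.imageι ⁻¹ᵁ U.1) := fun U =>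
    U.2.preimage f.imageι
  refine Scheme.IdealSheafData.ext_of_iSup_eq_top
    (fun U : Y.affineOpens ↦ (⟨f.imageι ⁻¹ᵁ U.1, haff U⟩ : f.image.affineOpens)) ?_ ?_
  · have h1 := Y.isBasis_affineOpens.isOpenCover
    change ⨆ U : Y.affineOpens, f.imageι ⁻¹ᵁ U.1 = ⊤
    rw [← Scheme.Hom.preimage_iSup]
    erw [h1]
    rfl
  · intro U
    rw [Groth.Agent.S14361.result]
    simp only [Scheme.IdealSheafData.ideal_bot, Pi.bot_apply]
    refine (RingHom.injective_iff_ker_eq_bot _).mp ?_
    simp only [f.toImage_app U, CommRingCat.hom_comp, CommRingCat.hom_ofHom, RingHom.coe_comp]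
    exact (RingHom.lift_injective_of_ker_le_ideal _ (Scheme.IdealSheafData.ideal_ofIdeals_le _ _)
      (le_of_eq (Groth.Agent.S14361.result X Y f U).symm)).comp
      (f.ker.subschemeObjIso U).commRingCatIsoToRingEquiv.injective

lemma ker_opensRange_ι {X Y : Scheme.{u}} (j : X ⟶ Y) [IsOpenImmersion j] (hj : j.ker = ⊥) :
    j.opensRange.ι.ker = ⊥ := by
  have h1 : j = j.isoOpensRange.hom ≫ j.opensRange.ι := by simp
  rw [h1, Scheme.Hom.ker_comp_of_isIso] at hj
  exact hj


open AlgebraicGeometry CategoryTheory in
/-- Let h : Z → X be an immersion, and suppose that either Z is reduced or h is quasi-compact. Write Z̄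
⊆ X for the scheme-theoretic image of h. Then Z → Z̄ is an open immersion identifying Z with a
scheme-theoretically dense (in the for-every-open sense) and topologically dense open subscheme of
Z̄. -/
theorem result {Z X : Scheme.{u}} (h : Z ⟶ X) [IsImmersion h]
    (hyp : QuasiCompact h ∨ IsReduced Z) :
    ∃ hI : IsOpenImmersion h.toImage,
      (∀ W : h.image.Opens, IsSchemeTheoreticallyDominant
          (h.image.homOfLE (inf_le_right : @Scheme.Hom.opensRange _ _ h.toImage hI ⊓ W ≤ W))) ∧
        DenseRange h.toImage.base := by
  rcases hyp with hqc | hred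
  · have hI : IsOpenImmersion h.toImage := inferInstance
    refine ⟨hI, fun W => ?_, ?_⟩
    · haveI := Groth.Agent.S4667.isSchemeTheoreticallyDominant_toImage h
      have hU : IsSchemeTheoreticallyDominant h.toImage.opensRange.ι :=
        ⟨ker_opensRange_ι h.toImage h.toImage.ker_eq_bot⟩
      have hUqc : QuasiCompact h.toImage.opensRange.ι := by
        have h1 : h.toImage.opensRange.ι = h.toImage.isoOpensRange.inv ≫ h.toImage := by simp
        rw [h1]
        infer_instance
      exact IsSchemeTheoreticallyDominant.of_isPullback
        (isPullback_opens_inf h.toImage.opensRange W)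
    · exact (inferInstance : IsDominant h.toImage).denseRange
  · have hpb := Groth.Agent.S4372.isPullback_toImage_liftCoborder' h
    have hI : IsOpenImmersion h.toImage :=
      MorphismProperty.of_isPullback (P := @IsOpenImmersion) hpb.flip inferInstance
    have hk := ker_toImage_eq_bot_of_isReduced h
    refine ⟨hI, ?_, ?_⟩
    · haveI : IsReduced h.image := Groth.Agent.S4372.isReduced_image h
      haveI : IsReduced (h.toImage.opensRange : Scheme.{u}) :=
        isReduced_of_isOpenImmersion h.toImage.opensRange.ι
      exact (Groth.Agent.S9360.result h.image h.toImage.opensRange).1.mp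
        ⟨ker_opensRange_ι h.toImage hk⟩
    · exact Groth.Agent.S9360.denseRange_of_ker_eq_bot h.toImage hk


end Groth.Agent.S9385
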