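import Groth.Statements.S9386
import Groth.Agent.Lib.QCoh.Helper50_DiffCompatSections
import Groth.Agent.Lib.QCoh.Helper50_KaehlerAlg2
import Groth.Agent.Lib.QCoh.Helper50_IsoAffineCover
import Groth.Agent.Lib.QCoh.Helper50_OmegaBC

set_option autoImplicit false
universe u
open OmegaSh

namespace Groth.Agent.S9386

open AlgebraicGeometry CategoryTheory in
/-- For a cartesian square X' = X ×_S S' with projection g' : X' → X, the canonical map g'^*Ω_{X/S} →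
Ω_{X'/S'} is an isomorphism (receptacle form: Ω_{X/S}, Ω_{X'/S'} are any modules carrying universal
derivations and the map is pinned by its values on pulled-back differentials). -/
theorem result {X S X' S' : Scheme.{u}} (f : X ⟶ S) (g : S' ⟶ S) (g' : X' ⟶ X) (f' : X' ⟶ S')
    (hsq : IsPullback g' f' f g) (Ω : X.Modules) (d : OmegaSh.Der f Ω) (hd : OmegaSh.IsUniversal d)
    (Ω' : X'.Modules) (d' : OmegaSh.Der f' Ω') (hd' : OmegaSh.IsUniversal d')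
    (c : (Scheme.Modules.pullback g').obj Ω ⟶ Ω') (hc : OmegaSh.IsDiffCompat g' d d' c) : IsIso c := by
  have hq : Ω.IsQuasicoherent :=
    Groth.Agent.Lib.QCoh.ReceptacleLocal.isQuasicoherent_of_isUniversal d hd
  have hq' : Ω'.IsQuasicoherent :=
    Groth.Agent.Lib.QCoh.ReceptacleLocal.isQuasicoherent_of_isUniversal d' hd'
  have hqp : ((Scheme.Modules.pullback g').obj Ω).IsQuasicoherent :=
    Groth.Agent.Lib.QCoh.isQuasicoherent_pullback g' Ω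
  let 𝒲 : Set X'.Opens := {W | ∃ (U : X.Opens) (V : S.Opens) (V' : S'.Opens),
    IsAffineOpen U ∧ IsAffineOpen V ∧ IsAffineOpen V' ∧ U ≤ f ⁻¹ᵁ V ∧ V' ≤ g ⁻¹ᵁ V ∧
      W = g' ⁻¹ᵁ U ⊓ f' ⁻¹ᵁ V'}
  have key : ∀ W ∈ 𝒲, IsAffineOpen W ∧ Function.Bijective (c.app W) := by
    rintro _ ⟨U, V, V', hU, hV, hV', hUV, hV'V, rfl⟩
    have hW : IsAffineOpen (g' ⁻¹ᵁ U ⊓ f' ⁻¹ᵁ V') := by
      have : IsAffine V := hV
      have : IsAffine V' := hV'
      have : IsAffine U := hU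
      exact .of_isIso (Scheme.Hom.isPullback_resLE hsq hV'V hUV rfl).isoPullback.hom
    have hpo : IsPushout (f.appLE V U hUV) (g.appLE V V' hV'V)
        (g'.appLE U (g' ⁻¹ᵁ U ⊓ f' ⁻¹ᵁ V') inf_le_left)
        (f'.appLE V' (g' ⁻¹ᵁ U ⊓ f' ⁻¹ᵁ V') inf_le_right) := by
      have h := isIso_pushoutSection_of_isAffineOpen hsq hV'V hUV
        (UY := g' ⁻¹ᵁ U ⊓ f' ⁻¹ᵁ V') rfl hV hV' hU
      exact (isIso_pushoutSection_iff hsq hV'V hUV rfl).1 h
    have fac : g.appLE V V' hV'V ≫ f'.appLE V' (g' ⁻¹ᵁ U ⊓ f' ⁻¹ᵁ V') inf_le_right =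
        f.appLE V U hUV ≫ g'.appLE U (g' ⁻¹ᵁ U ⊓ f' ⁻¹ᵁ V') inf_le_left := hpo.w.symm
    refine ⟨hW, ?_⟩
    exact Groth.Agent.Lib.QCoh.DiffCompatSections.bijective_app_of_bijective_algMap g' d d' c
      inf_le_left hUV inf_le_right fac hd hd' hc hU hW hV hV'
      (Groth.Agent.Lib.QCoh.KaehlerAlg.transp_bijective_of_isPushout fac hpo)
  refine Groth.Agent.Lib.QCoh.IsoAffineCover.isIso_of_bijective_affine_cover c 𝒲 ?_
    (fun W hW => (key W hW).1) (fun W hW => (key W hW).2)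
  intro x
  obtain ⟨V, hV, hxV⟩ := Groth.Agent.Lib.QCoh.ReceptacleLocal.exists_affine_nbhd (f (g' x))
  obtain ⟨_, ⟨U, hU : IsAffineOpen U, rfl⟩, hxU, hUV⟩ :=
    (X.isBasis_affineOpens).exists_subset_of_mem_open
      (show g' x ∈ ((f ⁻¹ᵁ V : X.Opens) : Set X) from hxV) (f ⁻¹ᵁ V).2
  have hx' : g (f' x) ∈ V := by
    have : g (f' x) = f (g' x) := by
      rw [← Scheme.Hom.comp_apply, ← Scheme.Hom.comp_apply, hsq.w]
    rw [this]; exact hxV
  obtain ⟨_, ⟨V', hV' : IsAffineOpen V', rfl⟩, hxV', hV'V⟩ :=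
    (S'.isBasis_affineOpens).exists_subset_of_mem_open
      (show f' x ∈ ((g ⁻¹ᵁ V : S'.Opens) : Set S') from hx') (g ⁻¹ᵁ V).2
  exact ⟨g' ⁻¹ᵁ U ⊓ f' ⁻¹ᵁ V', ⟨U, V, V', hU, hV, hV', hUV, hV'V, rfl⟩, ⟨hxU, hxV'⟩⟩

end Groth.Agent.S9386
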