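import Groth.Statements.S9391
import Mathlib
-- import your own Groth.Agent.* helpers here

set_option autoImplicit false
universe u
open CAlg

namespace Groth.Agent.S9391


theorem le_nonZeroDivisors {R : Type*} [CommRing R] [IsDomain R] (M : Submonoid R)
    (S : Type*) [CommRing S] [Nontrivial S] [Algebra R S] [IsLocalization M S] :
    M ≤ nonZeroDivisors R := by
  intro x hx
  rw [mem_nonZeroDivisors_iff_ne_zero]
  rintro rfl
  have := IsLocalization.map_units S (⟨0, hx⟩ : M)
  simp at this

/-- finiteness of integral closure passes to localizations (same overring). -/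
theorem finite_integralClosure_of_isLocalization {R : Type*} [CommRing R] (M : Submonoid R)
    (S : Type*) [CommRing S] [Algebra R S] [IsLocalization M S]
    (L : Type*) [CommRing L] [Algebra R L] [Algebra S L] [IsScalarTower R S L]
    (h : Module.Finite R (integralClosure R L)) : Module.Finite S (integralClosure S L) := by
  classical
  obtain ⟨T, hT⟩ := h.fg_top
  have hint : ∀ y : L, IsIntegral R y → IsIntegral S y := fun y hy => hy.tower_top
  let f : integralClosure R L →ₗ[R] integralClosure S L :=
    { toFun := fun y => ⟨y.1, hint y.1 y.2⟩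
      map_add' := fun a b => rfl
      map_smul' := fun r a => by
        apply Subtype.ext
        simp [Algebra.smul_def, IsScalarTower.algebraMap_apply R S L] }
  have hf : ∀ y, f y ∈ Submodule.span S (f '' (T : Set (integralClosure R L))) := by
    intro y
    have h1 : y ∈ Submodule.span R (T : Set (integralClosure R L)) := by rw [hT]; trivial
    have h2 : f y ∈ Submodule.map f (Submodule.span R (T : Set (integralClosure R L))) :=
      Submodule.mem_map_of_mem h1
    rw [Submodule.map_span] at h2
    exact Submodule.span_le_restrictScalars R S _ h2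
  refine ⟨⟨T.image f, ?_⟩⟩
  rw [Finset.coe_image, eq_top_iff]
  rintro ⟨x, hx⟩ -
  obtain ⟨m, hm⟩ := IsIntegral.exists_multiple_integral_of_isLocalization M x hx
  have h3 := hf ⟨m • x, hm⟩
  have h4 : (⟨x, hx⟩ : integralClosure S L) =
      IsLocalization.mk' S (1 : R) m • f ⟨m • x, hm⟩ := by
    apply Subtype.ext
    rw [Subalgebra.coe_smul]
    change x = IsLocalization.mk' S (1 : R) m • (m • x)
    rw [Algebra.smul_def (IsLocalization.mk' S (1 : R) m), Submonoid.smul_def, Algebra.smul_def, IsScalarTower.algebraMap_apply R S L, ← mul_assoc,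
      ← map_mul, IsLocalization.mk'_spec, map_one, map_one, one_mul]
  rw [h4]
  exact Submodule.smul_mem _ _ h3

/-- fraction field of a localization of a domain is a fraction field of the domain -/
theorem isFractionRing_of_isLocalization {R : Type*} [CommRing R] [IsDomain R] (M : Submonoid R)
    (S : Type*) [CommRing S] [IsDomain S] [Algebra R S] [IsLocalization M S]
    (K : Type*) [Field K] [Algebra S K] [IsFractionRing S K] [Algebra R K] [IsScalarTower R S K] :
    IsFractionRing R K := by
  have hM := le_nonZeroDivisors M S
  have hinj : Function.Injective (algebraMap R K) := by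
    rw [IsScalarTower.algebraMap_eq R S K]
    exact (IsFractionRing.injective S K).comp (IsLocalization.injective S hM)
  have : FaithfulSMul R K := (faithfulSMul_iff_algebraMap_injective R K).mpr hinj
  apply IsFractionRing.of_field
  intro z
  obtain ⟨s₁, s₂, hs₂, rfl⟩ := IsFractionRing.div_surjective (A := S) z
  obtain ⟨r₁, m₁, rfl⟩ := IsLocalization.exists_mk'_eq M s₁
  obtain ⟨r₂, m₂, rfl⟩ := IsLocalization.exists_mk'_eq M s₂
  refine ⟨r₁ * m₂, r₂ * m₁, ?_⟩
  have e1 : algebraMap S K (IsLocalization.mk' S r₁ m₁) * algebraMap R K m₁ = algebraMap R K r₁ := by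
    rw [IsScalarTower.algebraMap_apply R S K, ← map_mul, IsLocalization.mk'_spec,
      ← IsScalarTower.algebraMap_apply]
  have e2 : algebraMap S K (IsLocalization.mk' S r₂ m₂) * algebraMap R K m₂ = algebraMap R K r₂ := by
    rw [IsScalarTower.algebraMap_apply R S K, ← map_mul, IsLocalization.mk'_spec,
      ← IsScalarTower.algebraMap_apply]
  have hm1 : algebraMap R K m₁ ≠ 0 := by
    rw [Ne, map_eq_zero_iff _ hinj]
    exact nonZeroDivisors.ne_zero (hM m₁.2)
  have hm2 : algebraMap R K m₂ ≠ 0 := by
    rw [Ne, map_eq_zero_iff _ hinj]
    exact nonZeroDivisors.ne_zero (hM m₂.2)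
  have hs2 : algebraMap S K (IsLocalization.mk' S r₂ m₂) ≠ 0 := by
    rw [Ne, map_eq_zero_iff _ (IsFractionRing.injective S K)]
    exact nonZeroDivisors.ne_zero hs₂
  rw [map_mul, map_mul, ← e1, ← e2]
  field_simp

/-- A localization of an N-1 domain which is again a domain is N-1. -/
theorem result (R : Type u) [CommRing R] [IsDomain R] (M : Submonoid R)
    (S : Type u) [CommRing S] [IsDomain S] [Algebra R S] [IsLocalization M S]
    (h : CAlg.IsN1 R) : CAlg.IsN1 S := by
  unfold CAlg.IsN1 at h ⊢
  have : IsFractionRing R (FractionRing S) := isFractionRing_of_isLocalization M S (FractionRing S)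
  let e : FractionRing R ≃ₐ[R] FractionRing S := FractionRing.algEquiv R (FractionRing S)
  have h' : Module.Finite R (integralClosure R (FractionRing S)) :=
    Module.Finite.equiv (e.mapIntegralClosure).toLinearEquiv
  exact finite_integralClosure_of_isLocalization M S (FractionRing S) h'

end Groth.Agent.S9391
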