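import Groth.Statements.S9401
import Groth.Agent.S9407
import Groth.Agent.Lib.Helper88.FormalFibre2
-- import your own Groth.Agent.* helpers here

set_option autoImplicit false
universe u
open CAlg

namespace Groth.Agent.S9401

open TensorProduct in
/-- Noetherianity descends along faithfully flat ring maps. -/
theorem isNoetherianRing_of_faithfullyFlat (A B : Type*) [CommRing A] [CommRing B] [Algebra A B]
    [Module.FaithfullyFlat A B] [IsNoetherianRing B] : IsNoetherianRing A := by
  rw [isNoetherianRing_iff, isNoetherian_iff']
  have hmono : StrictMono (fun I : Ideal A => I.map (algebraMap A B)) := by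
    intro I J hIJ
    refine lt_of_le_of_ne (Ideal.map_mono hIJ.le) fun h => hIJ.ne ?_
    have h1 := Ideal.comap_map_eq_self_of_faithfullyFlat (B := B) I
    have h2 := Ideal.comap_map_eq_self_of_faithfullyFlat (B := B) J
    simp only at h
    rw [← h1, ← h2, h]
  have hwf : WellFoundedGT (Ideal B) := by
    have : IsNoetherian B B := inferInstance
    exact isNoetherian_iff'.mp this
  exact ⟨hmono.wellFoundedGT.wf⟩

open TensorProduct in
theorem isGeometricallyReduced_fiber_of_smooth (R : Type u) [CommRing R] (S : Type u)
    [CommRing S] [Algebra R S] [Algebra.Smooth R S] (p : Ideal R) [p.IsPrime] :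
    Algebra.IsGeometricallyReduced p.ResidueField (p.Fiber S) := by
  have h1 : Algebra.Smooth p.ResidueField (p.Fiber S) := by
    unfold Ideal.Fiber
    infer_instance
  refine ⟨fun q _ => ?_⟩
  have h2 : Algebra.Smooth (AlgebraicClosure q.ResidueField)
      (AlgebraicClosure q.ResidueField ⊗[p.ResidueField] p.Fiber S) := inferInstance
  exact Groth.Agent.S9407.result (AlgebraicClosure q.ResidueField)
    (AlgebraicClosure q.ResidueField ⊗[p.ResidueField] p.Fiber S)

/-- The Nagata property descends along smooth ring maps that are surjective on spectra. -/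
theorem result (R : Type u) [CommRing R] (S : Type u)
    [CommRing S] [Algebra R S] [Algebra.Smooth R S]
    (hs : Function.Surjective (PrimeSpectrum.comap (algebraMap R S))) (hS : CAlg.IsNagata S) :
    CAlg.IsNagata R := by
  have hfl : Module.Flat R S := inferInstance
  have hff : Module.FaithfullyFlat R S := Module.FaithfullyFlat.of_comap_surjective hs
  have hSn : IsNoetherianRing S := hS.1
  have hRn : IsNoetherianRing R := isNoetherianRing_of_faithfullyFlat R S
  exact Groth.Agent.Lib.Helper88.FormalFibre2.isNagata_of_faithfullyFlat_nagata R S hS
    fun p _ => isGeometricallyReduced_fiber_of_smooth R S p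

end Groth.Agent.S9401
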