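import Groth.Statements.S9402
-- import your own Groth.Agent.* helpers here

set_option autoImplicit false
universe u
open CAlg

namespace Groth.Agent.S9402

/-- In a `ℚ`-algebra, positive natural numbers are units. -/
theorem isUnit_natCast_succ (S : Type u) [CommRing S] [Algebra ℚ S] (n : ℕ) :
    IsUnit ((n + 1 : ℕ) : S) := by
  have h : IsUnit ((n + 1 : ℕ) : ℚ) := by
    rw [isUnit_iff_ne_zero]
    exact_mod_cast Nat.succ_ne_zero n
  have := h.map (algebraMap ℚ S)
  simpa using this

/-- Key step: if `D f = 1` and `f ^ (n + 1) = 0` then `f ^ n = 0`. -/
theorem pow_eq_zero_step {R : Type u} [CommRing R] {S : Type u} [CommRing S] [Algebra R S]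
    [Algebra ℚ S] (D : Derivation R S S) (f : S) (hD : D f = 1) (n : ℕ) (hn : f ^ (n + 1) = 0) :
    f ^ n = 0 := by
  have h : D (f ^ (n + 1)) = 0 := by rw [hn]; simp
  rw [Derivation.leibniz_pow, hD] at h
  simp only [Nat.add_sub_cancel, smul_eq_mul, mul_one, nsmul_eq_mul] at h
  exact (isUnit_natCast_succ S n).mul_right_eq_zero.mp h

/-- Let R → S be a ring map with S a nonzero algebra over the rationals and f ∈ S such that some
S-linear form on the module of differentials of S over R sends df to 1 (that is, df spans a free
direct summand of rank one). Then f is not nilpotent. (The published statement asks only that S·df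
be a direct summand of the module of differentials, which also holds for the rationals with a
square-zero element adjoined and for the zero ring, where f is nilpotent; this row asks for an
S-linear form on the differentials sending df to 1, as the published proof uses, and S nonzero.) -/
theorem result (R : Type u) [CommRing R] (S : Type u)
    [CommRing S] [Nontrivial S] [Algebra R S] [Algebra ℚ S] (f : S)
    (θ : Ω[S⁄R] →ₗ[S] S) (hθ : θ (KaehlerDifferential.D R S f) = 1) : ¬ IsNilpotent f := by
  rintro ⟨n, hn⟩
  let D : Derivation R S S := θ.compDer (KaehlerDifferential.D R S)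
  have hD : D f = 1 := hθ
  induction n with
  | zero => simp at hn
  | succ n ih => exact ih (pow_eq_zero_step D f hD n hn)

end Groth.Agent.S9402
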