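import Groth.Statements.S9403
import Mathlib.Tactic.LinearCombination
import Mathlib.Tactic.Ring
import Mathlib.RingTheory.Filtration

set_option autoImplicit false
universe u
open CAlg

namespace Groth.Agent.S9403

/-- In a `ℚ`-algebra, positive natural numbers are units. -/
theorem isUnit_natCast_succ (S : Type u) [CommRing S] [Algebra ℚ S] (n : ℕ) :
    IsUnit ((n + 1 : ℕ) : S) := by
  have h : IsUnit ((n + 1 : ℕ) : ℚ) := by
    rw [isUnit_iff_ne_zero]
    exact_mod_cast Nat.succ_ne_zero n
  have := h.map (algebraMap ℚ S)
  simpa using this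

/-- If `D f = 1` and `f * g = 0` then `g` is divisible by every power of `f`, with a cofactor
still killed after multiplying back. -/
theorem exists_pow_mul {R : Type u} [CommRing R] {S : Type u} [CommRing S] [Algebra R S]
    [Algebra ℚ S] (D : Derivation R S S) (f g : S) (hD : D f = 1) (hfg : f * g = 0) (n : ℕ) :
    ∃ h : S, g = f ^ n * h := by
  induction n with
  | zero => exact ⟨g, by simp⟩
  | succ n ih =>
    obtain ⟨h, hh⟩ := ih
    have h0 : f ^ (n + 1) * h = 0 := by
      rw [pow_succ', mul_assoc, ← hh, hfg]
    have h1 : D (f ^ (n + 1) * h) = 0 := by rw [h0]; simp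
    rw [Derivation.leibniz, Derivation.leibniz_pow, hD] at h1
    simp only [Nat.add_sub_cancel, smul_eq_mul, mul_one, nsmul_eq_mul] at h1
    -- h1 : f^(n+1) * D h + h * ((n+1) * f^n) = 0
    obtain ⟨u, hu⟩ := isUnit_natCast_succ S n
    refine ⟨-(↑u⁻¹ : S) * D h, ?_⟩
    have h2 : ((n + 1 : ℕ) : S) * g = -(f ^ (n + 1) * D h) := by
      rw [hh]
      linear_combination h1
    have h3 : g = (↑u⁻¹ : S) * (((n + 1 : ℕ) : S) * g) := by
      rw [← mul_assoc, ← hu, Units.inv_mul, one_mul]
    rw [h3, h2]
    ring

/-- Let R → S be a ring map with S a Noetherian local ring which is an algebra over the rationals, and f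
∈ S such that some S-linear form on the module of differentials of S over R sends df to 1 (df spans
a free direct summand of rank one). Then f is a nonzerodivisor of S. (The published statement asks
only that S·df be a direct summand of the module of differentials, which also holds for the
rationals with a square-zero element adjoined, where f is a zero divisor; this row asks for an
S-linear form on the differentials sending df to 1, as the published proof uses.) -/
theorem result (R : Type u) [CommRing R]
    (S : Type u) [CommRing S] [IsLocalRing S] [IsNoetherianRing S] [Algebra R S] [Algebra ℚ S]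
    (f : S) (θ : Ω[S⁄R] →ₗ[S] S) (hθ : θ (KaehlerDifferential.D R S f) = 1) : f ∈ nonZeroDivisors S := by
  let D : Derivation R S S := θ.compDer (KaehlerDifferential.D R S)
  have hD : D f = 1 := hθ
  by_cases hu : IsUnit f
  · exact hu.mem_nonZeroDivisors
  rw [mem_nonZeroDivisors_iff_right]
  intro g hg
  rw [mul_comm] at hg
  have hne : Ideal.span {f} ≠ ⊤ := by
    rw [Ne, Ideal.span_singleton_eq_top]
    exact hu
  have hbot := Ideal.iInf_pow_eq_bot_of_isLocalRing (Ideal.span {f}) hne
  have hmem : g ∈ ⨅ i : ℕ, Ideal.span {f} ^ i := by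
    rw [Ideal.mem_iInf]
    intro n
    obtain ⟨h, hh⟩ := exists_pow_mul D f g hD hg n
    rw [Ideal.span_singleton_pow, Ideal.mem_span_singleton]
    exact ⟨h, hh⟩
  rw [hbot] at hmem
  simpa using hmem

end Groth.Agent.S9403
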