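import Groth.Statements.S9404
import Mathlib

set_option autoImplicit false
universe u
open CAlg

namespace Groth.Agent.S9404

open IsLocalRing

/-- at most one maximal ideal from a power-congruence property -/
theorem local_of_pow {D P : Type*} [CommRing D] [CommRing P] [IsLocalRing P] [Nontrivial D]
    (ι : P →+* D) (N : Ideal D)
    (hN : ∀ M' : Ideal D, M'.IsMaximal → N ≤ M')
    (hι : ∀ β ∈ maximalIdeal P, ι β ∈ N)
    (hpow : ∀ x : D, ∃ k : ℕ, 0 < k ∧ ∃ β : P, x ^ k - ι β ∈ N) : IsLocalRing D := by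
  apply IsLocalRing.of_unique_max_ideal
  obtain ⟨M, hM⟩ := Ideal.exists_maximal D
  refine ⟨M, hM, ?_⟩
  have key : ∀ M' M'' : Ideal D, M'.IsMaximal → M''.IsMaximal → M' ≤ M'' := by
    intro M' M'' h' h'' x hx
    obtain ⟨k, hk0, β, hk⟩ := hpow x
    have h1 : ι β ∈ M' := by
      have : x ^ k ∈ M' := Ideal.pow_mem_of_mem _ hx k hk0
      have h2 := M'.sub_mem this (hN M' h' hk)
      rwa [sub_sub_cancel] at h2
    have hβ : β ∈ maximalIdeal P := by
      rw [mem_maximalIdeal, mem_nonunits_iff]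
      intro hu
      exact h'.ne_top (Ideal.eq_top_of_isUnit_mem _ h1 (hu.map ι))
    have h3 : x ^ k ∈ M'' := by
      have := M''.add_mem (hN M'' h'' hk) (hN M'' h'' (hι β hβ))
      rwa [sub_add_cancel] at this
    exact h''.isPrime.mem_of_pow_mem k h3
  intro M' h'
  exact (h'.eq_of_le hM.ne_top (key M' M h' hM))

theorem T_raise {R : Type*} [CommRing R] (W : Subring R) (q : ℕ) {z : R} {n : ℕ}
    (h : z ^ q ^ n ∈ W) (m : ℕ) : z ^ q ^ (n + m) ∈ W := by
  rw [pow_add, pow_mul]; exact W.pow_mem h _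

theorem T_mul {R : Type*} [CommRing R] (W : Subring R) (q : ℕ)
    {z₁ z₂ : R} (h₁ : ∃ n, z₁ ^ q ^ n ∈ W) (h₂ : ∃ n, z₂ ^ q ^ n ∈ W) :
    ∃ n, (z₁ * z₂) ^ q ^ n ∈ W := by
  obtain ⟨n₁, h₁⟩ := h₁
  obtain ⟨n₂, h₂⟩ := h₂
  refine ⟨n₁ + n₂, ?_⟩
  rw [mul_pow]
  exact W.mul_mem (T_raise W q h₁ n₂) (by rw [add_comm]; exact T_raise W q h₂ n₁)

theorem T_add {R : Type*} [CommRing R] (W : Subring R) (q : ℕ)
    (hq : q = 1 ∨ (q.Prime ∧ (q : R) = 0))
    {z₁ z₂ : R} (h₁ : ∃ n, z₁ ^ q ^ n ∈ W) (h₂ : ∃ n, z₂ ^ q ^ n ∈ W) :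
    ∃ n, (z₁ + z₂) ^ q ^ n ∈ W := by
  obtain ⟨n₁, h₁⟩ := h₁
  obtain ⟨n₂, h₂⟩ := h₂
  refine ⟨n₁ + n₂, ?_⟩
  have e₁ := T_raise W q h₁ n₂
  have e₂ : z₂ ^ q ^ (n₁ + n₂) ∈ W := by rw [add_comm]; exact T_raise W q h₂ n₁
  rcases hq with rfl | ⟨hp, h0⟩
  · simp only [one_pow, pow_one] at e₁ e₂ ⊢
    exact W.add_mem e₁ e₂
  · obtain ⟨r, hr⟩ := exists_add_pow_prime_pow_eq hp z₁ z₂ (n₁ + n₂)
    rw [hr, h0, zero_mul, zero_mul, zero_mul, add_zero]
    exact W.add_mem e₁ e₂

open TensorProduct in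
theorem pow_claim {A B C : Type u} [CommRing A] [CommRing B] [CommRing C] [Algebra A B] [Algebra A C]
    (N : Ideal (B ⊗[A] C)) (q : ℕ)
    (hq : q = 1 ∨ (q.Prime ∧ ((q : ℕ) : (B ⊗[A] C) ⧸ N) = 0))
    (W : Subring ((B ⊗[A] C) ⧸ N))
    (hB : ∀ b : B, ∃ n, (Ideal.Quotient.mk N (b ⊗ₜ[A] (1 : C))) ^ q ^ n ∈ W)
    (hC : ∀ c : C, ∃ n, (Ideal.Quotient.mk N ((1 : B) ⊗ₜ[A] c)) ^ q ^ n ∈ W)
    (x : B ⊗[A] C) : ∃ n, (Ideal.Quotient.mk N x) ^ q ^ n ∈ W := by
  induction x using TensorProduct.induction_on with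
  | zero => exact ⟨0, by simp⟩
  | tmul b c =>
    have : b ⊗ₜ[A] c = (b ⊗ₜ[A] (1 : C)) * ((1 : B) ⊗ₜ[A] c) := by
      rw [Algebra.TensorProduct.tmul_mul_tmul, mul_one, one_mul]
    rw [this, map_mul]
    exact T_mul W q (hB b) (hC c)
  | add x y hx hy =>
    rw [map_add]
    exact T_add W q hq hx hy

open TensorProduct in
theorem result (A : Type u) [CommRing A]
    [IsLocalRing A] (B : Type u) [CommRing B] [IsLocalRing B] [Algebra A B]
    [IsLocalHom (algebraMap A B)] (C : Type u) [CommRing C] [IsLocalRing C] [Algebra A C]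
    [IsLocalHom (algebraMap A C)] [Algebra.IsIntegral A C]
    (h : IsPurelyInseparable (IsLocalRing.ResidueField A) (IsLocalRing.ResidueField C) ∨
      IsPurelyInseparable (IsLocalRing.ResidueField A) (IsLocalRing.ResidueField B)) :
    IsLocalRing (B ⊗[A] C) ∧
      IsLocalHom (Algebra.TensorProduct.includeLeft : B →ₐ[A] B ⊗[A] C).toRingHom ∧
      IsLocalHom (Algebra.TensorProduct.includeRight : C →ₐ[A] B ⊗[A] C).toRingHom := by
  classical
  obtain ⟨N, hNdef⟩ : ∃ N : Ideal (B ⊗[A] C), N =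
      (maximalIdeal B).map (Algebra.TensorProduct.includeLeft : B →ₐ[A] B ⊗[A] C).toRingHom ⊔
      (maximalIdeal C).map (Algebra.TensorProduct.includeRight : C →ₐ[A] B ⊗[A] C).toRingHom :=
    ⟨_, rfl⟩
  have hNB : ∀ b ∈ maximalIdeal B, b ⊗ₜ[A] (1 : C) ∈ N := by
    intro b hb
    rw [hNdef]
    exact Ideal.mem_sup_left (Ideal.mem_map_of_mem _ hb)
  have hNC : ∀ c ∈ maximalIdeal C, (1 : B) ⊗ₜ[A] c ∈ N := by
    intro c hc
    rw [hNdef]
    exact Ideal.mem_sup_right (Ideal.mem_map_of_mem _ hc)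
  have hnt : Nontrivial (B ⊗[A] C) := by
    let ρ : B ⊗[A] C →ₐ[A] ResidueField B ⊗[ResidueField A] ResidueField C :=
      Algebra.TensorProduct.lift
        ((Algebra.TensorProduct.includeLeft : ResidueField B →ₐ[A]
          ResidueField B ⊗[ResidueField A] ResidueField C).comp
          (IsScalarTower.toAlgHom A B (ResidueField B)))
        (((Algebra.TensorProduct.includeRight : ResidueField C →ₐ[ResidueField A]
          ResidueField B ⊗[ResidueField A] ResidueField C).restrictScalars A).comp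
          (IsScalarTower.toAlgHom A C (ResidueField C))) (fun _ _ => Commute.all _ _)
    exact ρ.toRingHom.domain_nontrivial
  have hcomm : ∀ a : A, (1 : B) ⊗ₜ[A] (algebraMap A C a) = (algebraMap A B a) ⊗ₜ[A] (1 : C) := by
    intro a
    rw [Algebra.algebraMap_eq_smul_one, Algebra.algebraMap_eq_smul_one, TensorProduct.smul_tmul]
  have hNle : ∀ M' : Ideal (B ⊗[A] C), M'.IsMaximal → N ≤ M' := by
    intro M' hM'
    have h1 : (M'.comap (algebraMap B (B ⊗[A] C))).IsMaximal :=
      Ideal.isMaximal_comap_of_isIntegral_of_isMaximal M'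
    have h1' : M'.comap (algebraMap B (B ⊗[A] C)) = maximalIdeal B := IsLocalRing.eq_maximalIdeal h1
    have hP : (M'.comap (Algebra.TensorProduct.includeRight : C →ₐ[A] B ⊗[A] C).toRingHom).IsMaximal := by
      haveI : (M'.comap (Algebra.TensorProduct.includeRight : C →ₐ[A] B ⊗[A] C).toRingHom).IsPrime :=
        Ideal.comap_isPrime _ _
      apply Ideal.isMaximal_of_isIntegral_of_isMaximal_comap (R := A)
      have : Ideal.comap (algebraMap A C)
          (M'.comap (Algebra.TensorProduct.includeRight : C →ₐ[A] B ⊗[A] C).toRingHom) =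
          maximalIdeal A := by
        rw [Ideal.comap_comap]
        have : ((Algebra.TensorProduct.includeRight : C →ₐ[A] B ⊗[A] C).toRingHom.comp
            (algebraMap A C)) = (algebraMap B (B ⊗[A] C)).comp (algebraMap A B) := by
          ext a
          simp only [RingHom.comp_apply, AlgHom.toRingHom_eq_coe, RingHom.coe_coe,
            Algebra.TensorProduct.includeRight_apply, Algebra.TensorProduct.algebraMap_apply]
          exact hcomm a
        rw [this, ← Ideal.comap_comap, h1']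
        exact IsLocalRing.maximalIdeal_comap (algebraMap A B)
      rw [this]; exact maximalIdeal.isMaximal A
    have hP' := IsLocalRing.eq_maximalIdeal hP
    rw [hNdef]
    refine sup_le ?_ ?_ <;> rw [Ideal.map_le_iff_le_comap]
    · exact h1'.ge
    · exact hP'.ge
  obtain ⟨M, hM⟩ := Ideal.exists_maximal (B ⊗[A] C)
  have hNM := hNle M hM
  -- q
  obtain ⟨q, hqdef⟩ : ∃ q, q = ringExpChar (ResidueField A) := ⟨_, rfl⟩
  haveI : ExpChar (ResidueField A) q := hqdef ▸ inferInstance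
  have hqpos : 0 < q := expChar_pos (ResidueField A) q
  have hqN : q = 1 ∨ (q.Prime ∧ ((q : ℕ) : (B ⊗[A] C) ⧸ N) = 0) := by
    have hE : ExpChar (ResidueField A) q := inferInstance
    cases hE with
    | zero => left; rfl
    | prime hp =>
      right
      refine ⟨hp, ?_⟩
      have h0 : ((q : ℕ) : ResidueField A) = 0 := CharP.cast_eq_zero _ _
      have h1 : ((q : ℕ) : A) ∈ maximalIdeal A := by
        rw [← residue_eq_zero_iff, map_natCast]; exact h0
      have h2 : ((q : ℕ) : B) ∈ maximalIdeal B := by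
        have : algebraMap A B ((q : ℕ) : A) ∈ maximalIdeal B := by
          rw [mem_maximalIdeal, mem_nonunits_iff] at h1 ⊢
          intro hu
          exact h1 (isUnit_of_map_unit (algebraMap A B) _ hu)
        rwa [map_natCast] at this
      have h3 := hNB _ h2
      have h4 : (((q : ℕ) : B) ⊗ₜ[A] (1 : C)) = ((q : ℕ) : B ⊗[A] C) := by
        rw [← map_natCast (algebraMap B (B ⊗[A] C)), Algebra.TensorProduct.algebraMap_apply]
        rfl
      rw [h4] at h3
      rw [← map_natCast (Ideal.Quotient.mk N)]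
      exact Ideal.Quotient.eq_zero_iff_mem.mpr h3
  have hresC : ∀ (α : A), algebraMap (ResidueField A) (ResidueField C) (residue A α) =
      residue C (algebraMap A C α) := fun α => ResidueField.map_residue (algebraMap A C) α
  have hresB : ∀ (α : A), algebraMap (ResidueField A) (ResidueField B) (residue A α) =
      residue B (algebraMap A B α) := fun α => ResidueField.map_residue (algebraMap A B) α
  have hloc : IsLocalRing (B ⊗[A] C) := by
    rcases h with hC | hB
    · -- residue field of C purely inseparable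
      obtain ⟨W, hW⟩ : ∃ W : Subring ((B ⊗[A] C) ⧸ N), W = ((Ideal.Quotient.mk N).comp
        (Algebra.TensorProduct.includeLeft : B →ₐ[A] B ⊗[A] C).toRingHom).range := ⟨_, rfl⟩
      have hWmem : ∀ b : B, Ideal.Quotient.mk N (b ⊗ₜ[A] (1 : C)) ∈ W := by
        intro b; rw [hW]; exact ⟨b, rfl⟩
      have claim := pow_claim N q hqN W (fun b => ⟨0, by simpa using hWmem b⟩) (by
        intro c
        obtain ⟨n, a, ha⟩ := IsPurelyInseparable.pow_mem (ResidueField A) q (residue C c)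
        obtain ⟨α, rfl⟩ := residue_surjective a
        refine ⟨n, ?_⟩
        have hmem : c ^ q ^ n - algebraMap A C α ∈ maximalIdeal C := by
          rw [← residue_eq_zero_iff, map_sub, map_pow, ← ha, hresC, sub_self]
        have h5 := hNC _ hmem
        rw [TensorProduct.tmul_sub, hcomm] at h5
        have h6 : (Ideal.Quotient.mk N ((1 : B) ⊗ₜ[A] c)) ^ q ^ n =
            Ideal.Quotient.mk N ((algebraMap A B α) ⊗ₜ[A] (1 : C)) := by
          rw [← map_pow, Algebra.TensorProduct.tmul_pow, one_pow]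
          exact Ideal.Quotient.eq.mpr h5
        rw [h6]; exact hWmem _)
      refine local_of_pow (Algebra.TensorProduct.includeLeft : B →ₐ[A] B ⊗[A] C).toRingHom N hNle
        (fun β hβ => hNB β hβ) ?_
      intro x
      obtain ⟨n, hn⟩ := claim x
      rw [hW] at hn
      obtain ⟨β, hβ⟩ := hn
      refine ⟨q ^ n, pow_pos hqpos n, β, ?_⟩
      rw [← Ideal.Quotient.eq, map_pow]
      exact hβ.symm
    · obtain ⟨W, hW⟩ : ∃ W : Subring ((B ⊗[A] C) ⧸ N), W = ((Ideal.Quotient.mk N).comp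
        (Algebra.TensorProduct.includeRight : C →ₐ[A] B ⊗[A] C).toRingHom).range := ⟨_, rfl⟩
      have hWmem : ∀ c : C, Ideal.Quotient.mk N ((1 : B) ⊗ₜ[A] c) ∈ W := by
        intro c; rw [hW]; exact ⟨c, rfl⟩
      have claim := pow_claim N q hqN W (by
        intro b
        obtain ⟨n, a, ha⟩ := IsPurelyInseparable.pow_mem (ResidueField A) q (residue B b)
        obtain ⟨α, rfl⟩ := residue_surjective a
        refine ⟨n, ?_⟩
        have hmem : b ^ q ^ n - algebraMap A B α ∈ maximalIdeal B := by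
          rw [← residue_eq_zero_iff, map_sub, map_pow, ← ha, hresB, sub_self]
        have h5 := hNB _ hmem
        rw [TensorProduct.sub_tmul, ← hcomm] at h5
        have h6 : (Ideal.Quotient.mk N (b ⊗ₜ[A] (1 : C))) ^ q ^ n =
            Ideal.Quotient.mk N ((1 : B) ⊗ₜ[A] (algebraMap A C α)) := by
          rw [← map_pow, Algebra.TensorProduct.tmul_pow, one_pow]
          exact Ideal.Quotient.eq.mpr h5
        rw [h6]; exact hWmem _) (fun c => ⟨0, by simpa using hWmem c⟩)
      refine local_of_pow (Algebra.TensorProduct.includeRight : C →ₐ[A] B ⊗[A] C).toRingHom N hNle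
        (fun β hβ => hNC β hβ) ?_
      intro x
      obtain ⟨n, hn⟩ := claim x
      rw [hW] at hn
      obtain ⟨β, hβ⟩ := hn
      refine ⟨q ^ n, pow_pos hqpos n, β, ?_⟩
      rw [← Ideal.Quotient.eq, map_pow]
      exact hβ.symm
  refine ⟨hloc, ⟨?_⟩, ⟨?_⟩⟩
  · intro b hb
    by_contra hnu
    have : b ⊗ₜ[A] (1 : C) ∈ M := hNM (hNB b hnu)
    exact hM.ne_top (Ideal.eq_top_of_isUnit_mem _ this hb)
  · intro c hc
    by_contra hnu
    have : (1 : B) ⊗ₜ[A] c ∈ M := hNM (hNC c hnu)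
    exact hM.ne_top (Ideal.eq_top_of_isUnit_mem _ this hc)

end Groth.Agent.S9404
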