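import Groth.Statements.S9408
import Groth.Agent.Lib.Helper49.SmoothReg
-- import your own Groth.Agent.* helpers here

set_option autoImplicit false
universe u
open CAlg

namespace Groth.Agent.S9408

open TensorProduct

theorem isRegularRing_of_ringEquiv' {R R' : Type u} [CommRing R] [CommRing R'] (e : R ≃+* R')
    (h : IsRegularRing R) : IsRegularRing R' := IsRegularRing.of_ringEquiv e


/-- Over a field k, geometric regularity ascends along smooth maps of k-algebras: for A Noetherian and
geometrically regular over k and B smooth over A, B is geometrically regular over k. -/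
theorem result (k : Type u) [Field k] (A : Type u) [CommRing A]
    [Algebra k A] [IsNoetherianRing A] (B : Type u) [CommRing B] [Algebra k B] [Algebra A B]
    [IsScalarTower k A B] [Algebra.Smooth A B] (hA : CAlg.IsGeometricallyRegular k A) :
    CAlg.IsGeometricallyRegular k B := by
  intro k' _ _ hfin
  have hA' : IsRegularRing (A ⊗[k] k') :=
    isRegularRing_of_ringEquiv' (Algebra.TensorProduct.comm k k' A).toRingEquiv (hA k' hfin)
  have hT : IsRegularRing ((A ⊗[k] k') ⊗[A] B) :=
    Groth.Agent.Lib.Helper49.SmoothReg.isRegularRing_of_smooth (A ⊗[k] k') _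
  let e1 := Algebra.TensorProduct.comm A (A ⊗[k] k') B
  let e2 := Algebra.TensorProduct.cancelBaseChange k A B B k'
  let e3 := Algebra.TensorProduct.comm k B k'
  exact isRegularRing_of_ringEquiv'
    (e1.toRingEquiv.trans (e2.toRingEquiv.trans e3.toRingEquiv)) hT

end Groth.Agent.S9408
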