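import Groth.Statements.S9409
-- import your own Groth.Agent.* helpers here

set_option autoImplicit false
universe u
open CAlg

namespace Groth.Agent.S9409

open TensorProduct

theorem isRegularRing_of_ringEquiv' {R R' : Type u} [CommRing R] [CommRing R'] (e : R ≃+* R')
    (h : IsRegularRing R) : IsRegularRing R' := IsRegularRing.of_ringEquiv e

theorem exists_index (k : Type u) [Field k] {ι : Type u}
    (K : ι → Type u) [∀ i, Field (K i)] [∀ i, Algebra (K i) k]
    (hdir : ∀ i j, ∃ l, Set.range (algebraMap (K i) k) ⊆ Set.range (algebraMap (K l) k) ∧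
      Set.range (algebraMap (K j) k) ⊆ Set.range (algebraMap (K l) k))
    (hcov : ∀ x : k, ∃ i, x ∈ Set.range (algebraMap (K i) k)) (s : Finset k) :
    ∃ l, (s : Set k) ⊆ Set.range (algebraMap (K l) k) := by
  classical
  induction s using Finset.induction_on with
  | empty =>
    obtain ⟨i, _⟩ := hcov 0
    exact ⟨i, by simp⟩
  | insert a s ha ih =>
    obtain ⟨i, hi⟩ := ih
    obtain ⟨j, hj⟩ := hcov a
    obtain ⟨l, h1, h2⟩ := hdir i j
    refine ⟨l, ?_⟩
    rw [Finset.coe_insert, Set.insert_subset_iff]
    exact ⟨h2 hj, hi.trans h1⟩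

theorem key (k k' : Type u) [Field k] [Field k'] [Algebra k k'] [Module.Finite k k']
    (F : Type u) [Field F] [Algebra F k] (n : ℕ) (b : Module.Basis (Fin n) k k')
    (hmul : ∀ a c d, b.repr (b a * b c) d ∈ Set.range (algebraMap F k))
    (hone : ∀ d, b.repr 1 d ∈ Set.range (algebraMap F k))
    (A : Type u) [CommRing A] [Algebra k A] [Algebra F A] [IsScalarTower F k A] :
    ∃ (E : Type u) (_ : Field E) (_ : Algebra F E) (_ : Module.Finite F E),
      Nonempty (E ⊗[F] A ≃+* k' ⊗[k] A) := by
  letI : Algebra F k' := ((algebraMap k k').comp (algebraMap F k)).toAlgebra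
  haveI : IsScalarTower F k k' := IsScalarTower.of_algebraMap_eq (fun _ => rfl)
  let M : Submodule F k' := Submodule.span F (Set.range b)
  have hb : ∀ a, b a ∈ M := fun a => Submodule.subset_span ⟨a, rfl⟩
  have hcoef : ∀ (x : k'), (∀ d, b.repr x d ∈ Set.range (algebraMap F k)) → x ∈ M := by
    intro x hx
    rw [← b.sum_repr x]
    refine Submodule.sum_mem _ (fun d _ => ?_)
    obtain ⟨y, hy⟩ := hx d
    rw [← hy, algebraMap_smul]
    exact M.smul_mem y (hb d)
  have h1 : (1 : k') ∈ M := hcoef 1 hone
  have hmulM : ∀ x y, x ∈ M → y ∈ M → x * y ∈ M := by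
    intro x y hx hy
    have hMM : M * M ≤ M := by
      rw [Submodule.span_mul_span, Submodule.span_le]
      rintro _ ⟨_, ⟨a, rfl⟩, _, ⟨c, rfl⟩, rfl⟩
      exact hcoef _ (hmul a c)
    exact hMM (Submodule.mul_mem_mul hx hy)
  let E : Subalgebra F k' := M.toSubalgebra h1 hmulM
  have hfinM : Module.Finite F M := Module.Finite.span_of_finite F (Set.finite_range b)
  have hfin : Module.Finite F E :=
    Module.Finite.equiv ((LinearEquiv.ofEq _ _
      (Submodule.toSubalgebra_toSubmodule M h1 hmulM).symm).trans E.toSubmoduleEquiv)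
  have hfield : IsField E :=
    isField_of_isIntegral_of_isField' (R := F) (S := E) (Field.toIsField F)
  letI : Field E := hfield.toField
  -- the comparison map
  let φ : k ⊗[F] E →ₐ[k] k' :=
    Algebra.TensorProduct.lift (Algebra.ofId k k') E.val (fun x y => Commute.all _ _)
  have hφsurj : Function.Surjective φ := by
    have : LinearMap.range φ.toLinearMap = ⊤ := by
      rw [eq_top_iff, ← b.span_eq, Submodule.span_le]
      rintro _ ⟨a, rfl⟩
      refine ⟨(1 : k) ⊗ₜ[F] (⟨b a, hb a⟩ : E), ?_⟩
      simp [φ]
    exact LinearMap.range_eq_top.mp this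
  have hrank1 : Module.finrank k (k ⊗[F] E) = Module.finrank F E := Module.finrank_baseChange
  have hrank2 : Module.finrank F E ≤ n := by
    have h2 : Module.finrank F E = Module.finrank F M :=
      LinearEquiv.finrank_eq ((LinearEquiv.ofEq _ _
        (Submodule.toSubalgebra_toSubmodule M h1 hmulM).symm).trans E.toSubmoduleEquiv).symm
    rw [h2]
    have := finrank_range_le_card (R := F) (b := (b : Fin n → k'))
    rw [Fintype.card_fin] at this
    exact this
  have hrank3 : Module.finrank k k' = n := by
    rw [Module.finrank_eq_card_basis b, Fintype.card_fin]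
  have hrank4 : Module.finrank k k' ≤ Module.finrank k (k ⊗[F] E) :=
    LinearMap.finrank_le_finrank_of_surjective (f := φ.toLinearMap) hφsurj
  have hrank : Module.finrank k (k ⊗[F] E) = Module.finrank k k' := by omega
  have hφinj : Function.Injective φ :=
    (LinearMap.injective_iff_surjective_of_finrank_eq_finrank (f := φ.toLinearMap) hrank).mpr
      hφsurj
  let eφ : k ⊗[F] E ≃ₐ[k] k' := AlgEquiv.ofBijective φ ⟨hφinj, hφsurj⟩
  refine ⟨E, inferInstance, inferInstance, hfin, ⟨?_⟩⟩
  let e1 : k' ⊗[k] A ≃ₐ[k] (k ⊗[F] E) ⊗[k] A :=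
    Algebra.TensorProduct.congr eφ.symm AlgEquiv.refl
  let e2 := Algebra.TensorProduct.comm k (k ⊗[F] E) A
  let e3 := Algebra.TensorProduct.cancelBaseChange F k A A E
  let e4 := Algebra.TensorProduct.comm F A E
  exact (e1.toRingEquiv.trans (e2.toRingEquiv.trans (e3.toRingEquiv.trans e4.toRingEquiv))).symm


/-- Let k be a field written as a directed union of subfields k_i (given as fields mapping to k whose
images form a directed family covering k) and A a Noetherian k-algebra. Geometric regularity of A
over every one of the k_i implies that A is also geometrically regular as a k-algebra. -/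
theorem result (k : Type u) [Field k] {ι : Type u}
    (K : ι → Type u) [∀ i, Field (K i)] [∀ i, Algebra (K i) k]
    (hdir : ∀ i j, ∃ l, Set.range (algebraMap (K i) k) ⊆ Set.range (algebraMap (K l) k) ∧
      Set.range (algebraMap (K j) k) ⊆ Set.range (algebraMap (K l) k))
    (hcov : ∀ x : k, ∃ i, x ∈ Set.range (algebraMap (K i) k))
    (A : Type u) [CommRing A] [Algebra k A] [IsNoetherianRing A] [∀ i, Algebra (K i) A]
    [∀ i, IsScalarTower (K i) k A] (h : ∀ i, CAlg.IsGeometricallyRegular (K i) A) :
    CAlg.IsGeometricallyRegular k A := by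
  intro k' _ _ hfin
  classical
  let b := Module.finBasis k k'
  let s : Finset k :=
    (Finset.univ.image (fun x : Fin _ × Fin _ × Fin _ => b.repr (b x.1 * b x.2.1) x.2.2)) ∪
      (Finset.univ.image (fun d : Fin _ => b.repr 1 d))
  obtain ⟨l, hl⟩ := exists_index k K hdir hcov s
  have hmul : ∀ a c d, b.repr (b a * b c) d ∈ Set.range (algebraMap (K l) k) := by
    intro a c d
    apply hl
    simp only [s, Finset.coe_union, Finset.coe_image, Finset.coe_univ, Set.image_univ]
    exact Or.inl ⟨(a, c, d), rfl⟩
  have hone : ∀ d, b.repr 1 d ∈ Set.range (algebraMap (K l) k) := by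
    intro d
    apply hl
    simp only [s, Finset.coe_union, Finset.coe_image, Finset.coe_univ, Set.image_univ]
    exact Or.inr ⟨d, rfl⟩
  obtain ⟨E, _, _, hEfin, ⟨e⟩⟩ := key k k' (K l) _ b hmul hone A
  exact isRegularRing_of_ringEquiv' e (h l E hEfin)

end Groth.Agent.S9409
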