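import Groth.Statements.S9411
import Groth.Agent.Lib.Helper49.SepAlgNormal
-- import your own Groth.Agent.* helpers here

set_option autoImplicit false
universe u
open EGA4

namespace Groth.Agent.S9411

/-- Let k'/k be a separable algebraic field extension and A a k'-algebra. Geometric normality of A over
k' is equivalent to geometric normality of A over k. -/
theorem result (k : Type u) [Field k] (k' : Type u) [Field k']
    [Algebra k k'] [Algebra.IsSeparable k k'] (A : Type u) [CommRing A] [Algebra k' A]
    [Algebra k A] [IsScalarTower k k' A] :
    EGA4.IsGeomNormal k A ↔ EGA4.IsGeomNormal k' A := by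
  exact ⟨Groth.Agent.Lib.Helper49.SepAlgNormal.isGeomNormal_top k k' A,
    Groth.Agent.Lib.Helper49.SepAlgNormal.isGeomNormal_of_top k k' A⟩

end Groth.Agent.S9411
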