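import Groth.Statements.S9414
import Mathlib.RingTheory.Smooth.Kaehler
import Mathlib.RingTheory.Smooth.Basic
import Mathlib.RingTheory.Jacobson.Ring
import Mathlib.RingTheory.Unramified.Basic

set_option autoImplicit false
universe u
open CAlg

namespace Groth.Agent.S9414

open TensorProduct in
/-- For an algebraically closed field k, a finite type k-algebra S and a maximal ideal m of S with
residue field κ = S/m, the κ-vector spaces κ ⊗_S Ω_{S/k} and m/m² have the same dimension. -/
theorem result (k : Type u) [Field k]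
    [IsAlgClosed k] (S : Type u) [CommRing S] [Algebra k S] [Algebra.FiniteType k S]
    (m : Ideal S) [m.IsMaximal] :
    Module.finrank (S ⧸ m) ((S ⧸ m) ⊗[S] Ω[S⁄k]) = Module.finrank (S ⧸ m) m.Cotangent := by
  letI : Field (S ⧸ m) := Ideal.Quotient.field m
  have hf : Function.Surjective (algebraMap S (S ⧸ m)) := Ideal.Quotient.mk_surjective
  have hft : Algebra.FiniteType k (S ⧸ m) :=
    Algebra.FiniteType.of_surjective (Ideal.Quotient.mkₐ k m) (Ideal.Quotient.mkₐ_surjective k m)
  have hfin : Module.Finite k (S ⧸ m) := finite_of_finite_type_of_isJacobsonRing k (S ⧸ m)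
  have hbij : Function.Bijective (algebraMap k (S ⧸ m)) :=
    IsAlgClosed.algebraMap_bijective_of_isIntegral
  have hsm : Algebra.FormallySmooth k (S ⧸ m) :=
    .of_equiv (AlgEquiv.ofBijective (Algebra.ofId k (S ⧸ m)) hbij)
  have hun : Algebra.FormallyUnramified k (S ⧸ m) :=
    .of_surjective (Algebra.ofId k (S ⧸ m)) hbij.2
  -- injectivity of `kerCotangentToTensor`
  have hinj : Function.Injective (KaehlerDifferential.kerCotangentToTensor k S (S ⧸ m)) := by
    let F := (IsScalarTower.toAlgHom k S (S ⧸ m)).kerSquareLift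
    have hF : Function.Surjective F := by
      intro y
      obtain ⟨r, rfl⟩ := hf y
      exact ⟨Ideal.Quotient.mk _ r, rfl⟩
    have hnil : IsNilpotent (RingHom.ker F.toRingHom) := by
      refine ⟨2, ?_⟩
      rw [AlgHom.ker_kerSquareLift, Ideal.cotangentIdeal_square]
      rfl
    let g := Algebra.FormallySmooth.liftOfSurjective (AlgHom.id k (S ⧸ m)) F hF hnil
    have hg : F.comp g = AlgHom.id k _ :=
      Algebra.FormallySmooth.comp_liftOfSurjective _ F hF hnil
    obtain ⟨l, hl⟩ := (retractionKerCotangentToTensorEquivSection (R := k) hf).symm ⟨g, hg⟩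
    exact Function.HasLeftInverse.injective ⟨l, fun x => LinearMap.congr_fun hl x⟩
  -- surjectivity of `kerCotangentToTensor`
  have hsurj : Function.Surjective (KaehlerDifferential.kerCotangentToTensor k S (S ⧸ m)) := by
    intro y
    have hex := KaehlerDifferential.exact_kerCotangentToTensor_mapBaseChange k S (S ⧸ m) hf
    have hsub : Subsingleton Ω[(S ⧸ m)⁄k] := hun.subsingleton_kaehlerDifferential
    exact (hex y).mp (Subsingleton.elim _ _)
  have hker : m = RingHom.ker (algebraMap S (S ⧸ m)) := by
    rw [Ideal.Quotient.algebraMap_eq, Ideal.mk_ker]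
  let φ : m.Cotangent →ₗ[S] (S ⧸ m) ⊗[S] Ω[S⁄k] :=
    (KaehlerDifferential.kerCotangentToTensor k S (S ⧸ m)) ∘ₗ
      (Ideal.Cotangent.equivOfEq _ _ hker).toLinearMap
  have hφ : Function.Bijective φ :=
    ⟨hinj.comp (LinearEquiv.injective _), hsurj.comp (LinearEquiv.surjective _)⟩
  let ψ : m.Cotangent →ₗ[S ⧸ m] (S ⧸ m) ⊗[S] Ω[S⁄k] :=
    { toFun := φ
      map_add' := φ.map_add
      map_smul' := by
        intro c x
        obtain ⟨s, rfl⟩ := hf c
        simp only [algebraMap_smul, RingHom.id_apply]
        exact φ.map_smul s x }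
  exact (LinearEquiv.ofBijective ψ hφ).finrank_eq.symm

end Groth.Agent.S9414
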