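import Groth.Statements.S9416
import Mathlib

set_option autoImplicit false
universe u
open CAlg

namespace Groth.Agent.S9416

open Polynomial in
theorem key {R : Type u} [CommRing R] [IsDomain R] [IsIntegrallyClosed R] {K : Type u} [Field K]
    [Algebra R K] [IsFractionRing R K] (p : ℕ) [Fact p.Prime] [CharP K p] (D : Derivation ℤ K K)
    (hD : ∀ r : R, ∃ s : R, D (algebraMap R K r) = algebraMap R K s)
    {L : Type u} [Field L] [Algebra K L] [Algebra R L] [IsScalarTower R K L]
    (x : L) (a0 δ : R) (hx : x ^ p = algebraMap R L a0)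
    (hδ : D (algebraMap R K a0) = algebraMap R K δ) :
    ∀ i : ℕ, i < p → ∀ c : ℕ → K,
      IsIntegral R (∑ j ∈ Finset.range (i + 1), algebraMap K L (c j) * x ^ j) →
      ∀ j ≤ i, ∃ r : R, algebraMap R K r = algebraMap R K δ ^ i * c j := by
  have hp : p.Prime := Fact.out
  haveI hcharL : CharP L p := charP_of_injective_algebraMap (algebraMap K L).injective p
  have hxint : IsIntegral R x :=
    ⟨X ^ p - C a0, monic_X_pow_sub_C a0 hp.ne_zero, by simp [hx]⟩
  have hmemR : ∀ w : K, IsIntegral R (algebraMap K L w) → ∃ r : R, algebraMap R K r = w :=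
    fun w hw => IsIntegrallyClosed.isIntegral_iff.mp
      ((isIntegral_algebraMap_iff (algebraMap K L).injective).mp hw)
  set a : K := algebraMap R K a0 with ha_def
  have hxa : x ^ p = algebraMap K L a := by rw [hx, IsScalarTower.algebraMap_apply R K L]
  have hpow : ∀ (n : ℕ) (c : ℕ → K), (∑ j ∈ Finset.range n, algebraMap K L (c j) * x ^ j) ^ p =
      algebraMap K L (∑ j ∈ Finset.range n, c j ^ p * a ^ j) := by
    intro n c
    rw [sum_pow_char, map_sum]
    refine Finset.sum_congr rfl (fun j _ => ?_)
    rw [mul_pow, ← pow_mul, mul_comm j p, pow_mul, hxa, map_mul, map_pow, map_pow]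
  intro i
  induction i with
  | zero =>
    intro _ c hint j hj
    obtain rfl : j = 0 := by omega
    simp only [zero_add, Finset.range_one, Finset.sum_singleton, pow_zero, mul_one] at hint
    obtain ⟨r, hr⟩ := hmemR _ hint
    exact ⟨r, by rw [hr]; ring⟩
  | succ i ih =>
    intro hip c hint
    set w : K := ∑ j ∈ Finset.range (i + 1 + 1), c j ^ p * a ^ j with hw
    have hwint : IsIntegral R (algebraMap K L w) := by rw [← hpow]; exact hint.pow p
    obtain ⟨rw_, hrw⟩ := hmemR w hwint
    obtain ⟨s, hs⟩ := hD rw_
    have hDp : ∀ z : K, D (z ^ p) = 0 := by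
      intro z
      rw [Derivation.leibniz_pow, ← Nat.cast_smul_eq_nsmul K, CharP.cast_eq_zero K p, zero_smul]
    have hDw : D w =
        (∑ j ∈ Finset.range (i + 1), c (j + 1) ^ p * ((j + 1 : ℕ) : K) * a ^ j) * D a := by
      rw [hw, map_sum, Finset.sum_range_succ', Finset.sum_mul]
      have h0 : D (c 0 ^ p * a ^ 0) = 0 := by
        rw [pow_zero, mul_one, hDp]
      rw [h0, add_zero]
      refine Finset.sum_congr rfl (fun j _ => ?_)
      rw [Derivation.leibniz, hDp, smul_zero, add_zero, Derivation.leibniz_pow,
        Nat.add_sub_cancel, smul_eq_mul, ← Nat.cast_smul_eq_nsmul K, smul_eq_mul, smul_eq_mul]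
      ring
    set d : K := algebraMap R K δ with hd
    set c' : ℕ → K := fun j => ((j + 1 : ℕ) : K) * d * c (j + 1) with hc'
    have hcast : ∀ n : ℕ, ((n : ℕ) : K) ^ p = n := by
      intro n
      rw [← frobenius_def, map_natCast]
    have hzp : (∑ j ∈ Finset.range (i + 1), algebraMap K L (c' j) * x ^ j) ^ p =
        algebraMap R L (δ ^ (p - 1) * s) := by
      rw [hpow, IsScalarTower.algebraMap_apply R K L, map_mul, ← hs, hrw, hDw, hδ, map_pow]
      congr 1
      rw [Finset.sum_mul, Finset.mul_sum]
      refine Finset.sum_congr rfl (fun j _ => ?_)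
      simp only [hc']
      rw [mul_pow, mul_pow, hcast]
      have : d ^ p = d ^ (p - 1) * d := by
        rw [← pow_succ, Nat.sub_add_cancel hp.one_le]
      rw [this]
      ring
    have hzint : IsIntegral R (∑ j ∈ Finset.range (i + 1), algebraMap K L (c' j) * x ^ j) := by
      apply IsIntegral.of_pow hp.pos
      rw [hzp]
      exact isIntegral_algebraMap
    have ih' := ih (by omega) c' hzint
    have hsucc : ∀ j, j ≤ i → ∃ r : R, algebraMap R K r = d ^ (i + 1) * c (j + 1) := by
      intro j hj
      obtain ⟨r, hr⟩ := ih' j hj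
      have hcop : Nat.Coprime (j + 1) p := by
        rw [Nat.coprime_comm, Nat.Prime.coprime_iff_not_dvd hp]
        intro hdvd
        have := Nat.le_of_dvd (Nat.succ_pos j) hdvd
        omega
      obtain ⟨m, -, hm⟩ := Nat.exists_mul_mod_eq_one_of_coprime hcop hp.one_lt
      have hm' : (((j + 1) * m : ℕ) : K) = 1 := by
        have : ((j + 1) * m) ≡ 1 [MOD p] := by
          rw [Nat.ModEq, hm, Nat.mod_eq_of_lt hp.one_lt]
        rw [(CharP.natCast_eq_natCast K p).mpr this, Nat.cast_one]
      refine ⟨(m : R) * r, ?_⟩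
      rw [map_mul, map_natCast, hr]
      simp only [hc']
      calc (m : K) * (d ^ i * (((j + 1 : ℕ) : K) * d * c (j + 1)))
          = (((j + 1) * m : ℕ) : K) * (d ^ (i + 1) * c (j + 1)) := by
            rw [Nat.cast_mul]; ring
        _ = d ^ (i + 1) * c (j + 1) := by rw [hm', one_mul]
    choose! r hr using hsucc
    have hzero : ∃ r0 : R, algebraMap R K r0 = d ^ (i + 1) * c 0 := by
      apply hmemR
      have : algebraMap K L (d ^ (i + 1) * c 0) =
          algebraMap R L (δ ^ (i + 1)) *
            (∑ j ∈ Finset.range (i + 1 + 1), algebraMap K L (c j) * x ^ j) -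
          ∑ j ∈ Finset.range (i + 1), algebraMap R L (r j) * x ^ (j + 1) := by
        rw [Finset.sum_range_succ' _ (i + 1), mul_add, Finset.mul_sum]
        have : ∑ j ∈ Finset.range (i + 1), algebraMap R L (δ ^ (i + 1)) *
            (algebraMap K L (c (j + 1)) * x ^ (j + 1)) =
            ∑ j ∈ Finset.range (i + 1), algebraMap R L (r j) * x ^ (j + 1) := by
          refine Finset.sum_congr rfl (fun j hj => ?_)
          rw [IsScalarTower.algebraMap_apply R K L (r j),
            hr j (by rw [Finset.mem_range] at hj; omega),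
            IsScalarTower.algebraMap_apply R K L (δ ^ (i + 1)), map_pow, map_mul, map_pow]
          ring
        rw [this, add_sub_cancel_left, pow_zero, mul_one,
          IsScalarTower.algebraMap_apply R K L (δ ^ (i + 1)), map_pow, map_mul, map_pow]
      rw [this]
      exact (isIntegral_algebraMap.mul hint).sub
        (IsIntegral.sum _ (fun j _ => isIntegral_algebraMap.mul (hxint.pow _)))
    intro j hj
    rcases j with _ | j
    · exact hzero
    · exact ⟨r j, hr j (by omega)⟩

theorem finite_of_rep {R : Type u} [CommRing R] [IsDomain R] [IsNoetherianRing R]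
    [IsIntegrallyClosed R] {K : Type u} [Field K]
    [Algebra R K] [IsFractionRing R K] (p : ℕ) [Fact p.Prime] [CharP K p] (D : Derivation ℤ K K)
    (hD : ∀ r : R, ∃ s : R, D (algebraMap R K r) = algebraMap R K s)
    {L : Type u} [Field L] [Algebra K L] [Algebra R L] [IsScalarTower R K L]
    (x : L) (a0 δ : R) (hδ0 : δ ≠ 0) (hx : x ^ p = algebraMap R L a0)
    (hδ : D (algebraMap R K a0) = algebraMap R K δ)
    (hrep : ∀ y : L, ∃ c : ℕ → K, y = ∑ j ∈ Finset.range p, algebraMap K L (c j) * x ^ j) :
    Module.Finite R (integralClosure R L) := by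
  classical
  have hp : p.Prime := Fact.out
  have hd0 : algebraMap R K δ ≠ 0 := by
    rwa [Ne, FaithfulSMul.algebraMap_eq_zero_iff]
  set d : K := algebraMap R K δ with hd
  have hfg : (Subalgebra.toSubmodule (integralClosure R L)).FG := by
    refine Submodule.FG.of_le (T := Submodule.span R
      ((Finset.range p).image (fun j => algebraMap K L (d ^ (p - 1))⁻¹ * x ^ j) : Set L))
      ⟨_, rfl⟩ ?_
    intro y hy
    rw [Subalgebra.mem_toSubmodule, mem_integralClosure_iff] at hy
    obtain ⟨c, hc⟩ := hrep y
    have hpp : p = (p - 1) + 1 := (Nat.sub_add_cancel hp.one_le).symm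
    have hkey := key p D hD x a0 δ hx hδ (p - 1) (by omega) c (by rw [← hpp, ← hc]; exact hy)
    choose! r hr using hkey
    rw [hc]
    refine Submodule.sum_mem _ (fun j hj => ?_)
    have hj' : j ≤ p - 1 := by rw [Finset.mem_range] at hj; omega
    have : algebraMap K L (c j) * x ^ j = r j • (algebraMap K L (d ^ (p - 1))⁻¹ * x ^ j) := by
      rw [Algebra.smul_def, IsScalarTower.algebraMap_apply R K L, hr j hj', ← mul_assoc,
        ← map_mul]
      congr 2
      field_simp
      rw [hd]
    rw [this]
    refine Submodule.smul_mem _ _ (Submodule.subset_span ?_)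
    simp only [Finset.coe_image, Set.mem_image, Finset.mem_coe]
    exact ⟨j, hj, rfl⟩
  exact Module.Finite.of_fg hfg

/-- Suppose R is a normal Noetherian domain whose field of fractions K has prime characteristic p > 0, D
a derivation of K preserving R, and a ∈ K with D(a) ≠ 0. For a field L generated over K by an
element x with x^p = a, the integral closure of R in L is module-finite over R. -/
theorem result (R : Type u) [CommRing R]
    [IsDomain R] [IsNoetherianRing R] [IsIntegrallyClosed R] (K : Type u) [Field K] [Algebra R K]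
    [IsFractionRing R K] (p : ℕ) [Fact p.Prime] [CharP K p] (D : Derivation ℤ K K)
    (hD : ∀ r : R, ∃ s : R, D (algebraMap R K r) = algebraMap R K s) (a : K) (ha : D a ≠ 0)
    (L : Type u) [Field L] [Algebra K L] [Algebra R L] [IsScalarTower R K L] (x : L)
    (hx : x ^ p = algebraMap K L a) (hgen : IntermediateField.adjoin K {x} = ⊤) :
    Module.Finite R (integralClosure R L) := by
  classical
  have hp : p.Prime := Fact.out
  obtain ⟨b, f, hf, hbf⟩ := IsFractionRing.div_surjective (A := R) a
  have hf0 : f ≠ 0 := nonZeroDivisors.ne_zero hf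
  have hfK : algebraMap R K f ≠ 0 := by
    rwa [Ne, FaithfulSMul.algebraMap_eq_zero_iff]
  -- representation in powers of `x`
  have hxintK : IsIntegral K x :=
    ⟨Polynomial.X ^ p - Polynomial.C a, Polynomial.monic_X_pow_sub_C a hp.ne_zero, by simp [hx]⟩
  have hadj : Algebra.adjoin K {x} = ⊤ := by
    rw [← IntermediateField.adjoin_simple_toSubalgebra_of_isAlgebraic hxintK.isAlgebraic, hgen,
      IntermediateField.top_toSubalgebra]
  have hrep0 : ∀ y : L, ∃ c : ℕ → K, y = ∑ j ∈ Finset.range p, algebraMap K L (c j) * x ^ j := by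
    intro y
    have hy : y ∈ Algebra.adjoin K {x} := by rw [hadj]; trivial
    rw [Algebra.adjoin_singleton_eq_range_aeval] at hy
    obtain ⟨g, rfl⟩ := hy
    have hmonic : (Polynomial.X ^ p - Polynomial.C a).Monic :=
      Polynomial.monic_X_pow_sub_C a hp.ne_zero
    have hroot : Polynomial.aeval x (Polynomial.X ^ p - Polynomial.C a) = 0 := by simp [hx]
    have hdeg : (g %ₘ (Polynomial.X ^ p - Polynomial.C a)).natDegree < p := by
      have h1 := Polynomial.natDegree_modByMonic_lt g hmonic (by
        intro h
        have := congrArg Polynomial.natDegree h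
        rw [Polynomial.natDegree_X_pow_sub_C, Polynomial.natDegree_one] at this
        exact hp.ne_zero this)
      rwa [Polynomial.natDegree_X_pow_sub_C] at h1
    refine ⟨fun j => (g %ₘ (Polynomial.X ^ p - Polynomial.C a)).coeff j, ?_⟩
    change Polynomial.aeval x g = _
    rw [← Polynomial.aeval_modByMonic_eq_self_of_root hroot,
      Polynomial.aeval_eq_sum_range' hdeg]
    refine Finset.sum_congr rfl (fun j _ => ?_)
    rw [Algebra.smul_def]
  -- rescale
  set x' : L := algebraMap R L f * x with hx'
  set a0 : R := f ^ (p - 1) * b with ha0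
  have hfL : algebraMap R L f = algebraMap K L (algebraMap R K f) :=
    IsScalarTower.algebraMap_apply R K L f
  have ha0K : algebraMap R K a0 = algebraMap R K f ^ p * a := by
    rw [ha0, map_mul, map_pow, ← hbf]
    have : algebraMap R K f ^ p = algebraMap R K f ^ (p - 1) * algebraMap R K f := by
      rw [← pow_succ, Nat.sub_add_cancel hp.one_le]
    rw [this]
    field_simp
  have hx'p : x' ^ p = algebraMap R L a0 := by
    rw [hx', mul_pow, hx, IsScalarTower.algebraMap_apply R K L a0, ha0K, map_mul, map_pow, hfL]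
  obtain ⟨δ, hδ⟩ := hD a0
  have hDa0 : D (algebraMap R K a0) = algebraMap R K f ^ p * D a := by
    rw [ha0K, Derivation.leibniz, Derivation.leibniz_pow, ← Nat.cast_smul_eq_nsmul K,
      CharP.cast_eq_zero K p, zero_smul, smul_zero, add_zero, smul_eq_mul]
  have hδ0 : δ ≠ 0 := by
    rintro rfl
    rw [map_zero, hDa0] at hδ
    exact ha ((mul_eq_zero.mp hδ).resolve_left (pow_ne_zero p hfK))
  refine finite_of_rep p D hD x' a0 δ hδ0 hx'p hδ (fun y => ?_)
  obtain ⟨c, hc⟩ := hrep0 y
  refine ⟨fun j => c j / algebraMap R K f ^ j, ?_⟩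
  rw [hc]
  refine Finset.sum_congr rfl (fun j _ => ?_)
  rw [hx', mul_pow, hfL, ← map_pow, ← mul_assoc, ← map_mul]
  congr 2
  field_simp

end Groth.Agent.S9416
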