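import Groth.Statements.S9425
import Groth.Agent.S9424
import Groth.Agent.Lib.Helper25.ColimData

set_option autoImplicit false
universe u
open CAlg

namespace Groth.Agent.S9425

/-- A directed colimit of formally étale R-algebras is formally étale over R. The colimit is encoded by
compatible R-algebra maps S_i → S which are jointly surjective and whose kernels die further along
the system. -/
theorem result {ι : Type u} [Preorder ι] [IsDirected ι (· ≤ ·)] [Nonempty ι]
    (R : Type u) [CommRing R] (G : ι → Type u) [∀ i, CommRing (G i)] [∀ i, Algebra R (G i)]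
    (f : ∀ i j, i ≤ j → (G i →ₐ[R] G j)) (S : Type u) [CommRing S] [Algebra R S]
    (g : ∀ i, G i →ₐ[R] S) (hg : ∀ i j (h : i ≤ j), (g j).comp (f i j h) = g i)
    (hsurj : ∀ s : S, ∃ i, ∃ x : G i, g i x = s)
    (hker : ∀ i (x : G i), g i x = 0 → ∃ j, ∃ h : i ≤ j, f i j h x = 0)
    (h : ∀ i, Algebra.FormallyEtale R (G i)) : Algebra.FormallyEtale R S := by
  have hU : Algebra.FormallyUnramified R S :=
    Groth.Agent.S9424.result R G f S g hg hsurj hker (fun i => inferInstance)
  have hS : Algebra.FormallySmooth R S := by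
    refine Algebra.FormallySmooth.of_comp_surjective ?_
    intro B _ _ I hI φ
    have hbij := fun i => Algebra.FormallyEtale.comp_bijective R (G i) I hI
    choose L hL using fun i => (hbij i).2 (φ.comp (g i))
    have huniq : ∀ i (ψ : G i →ₐ[R] B),
        (Ideal.Quotient.mkₐ R I).comp ψ = φ.comp (g i) → ψ = L i :=
      fun i ψ hψ => (hbij i).1 (hψ.trans (hL i).symm)
    have hcompat : ∀ i j (h : i ≤ j), (L j).comp (f i j h) = L i := by
      intro i j h
      apply huniq
      rw [← AlgHom.comp_assoc, hL j, AlgHom.comp_assoc, hg]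
    obtain ⟨Φ, hΦ⟩ :=
      Groth.Agent.Lib.Helper25.exists_algHom_of_compatible f g hg hsurj hker L hcompat
    refine ⟨Φ, Groth.Agent.Lib.Helper25.algHom_ext_of_jointly_surjective g hsurj fun i => ?_⟩
    rw [AlgHom.comp_assoc, hΦ, hL]
  exact Algebra.FormallyEtale.of_formallyUnramified_and_formallySmooth

end Groth.Agent.S9425
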