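import Groth.Statements.S9428
import Mathlib.RingTheory.Ideal.Quotient.PowTransition
import Mathlib.RingTheory.Smooth.Basic
import Mathlib.RingTheory.Unramified.Basic

set_option autoImplicit false
universe u
open CAlg

namespace Groth.Agent.S9428

/-- If R → S is formally étale and J ⊆ S is an ideal with R → S/J surjective, I ⊆ R its kernel (the
preimage of J), then R/I^n → S/J^n is bijective for all n. (The published statement adds that the
associated graded rings are then isomorphic, which follows from these bijections.) -/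
theorem result (R : Type u) [CommRing R] (S : Type u)
    [CommRing S] [Algebra R S] [Algebra.FormallyEtale R S] (J : Ideal S)
    (hJ : Function.Surjective (algebraMap R (S ⧸ J))) (n : ℕ) :
    Function.Bijective (Ideal.quotientMap (J ^ n) (algebraMap R S)
      (le_of_le_of_eq (Ideal.le_comap_pow (algebraMap R S) n) rfl :
        (J.comap (algebraMap R S)) ^ n ≤ (J ^ n).comap (algebraMap R S))) := by
  rcases Nat.eq_zero_or_pos n with rfl | hn
  · have h1 : Subsingleton (R ⧸ (J.comap (algebraMap R S)) ^ 0) := by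
      rw [pow_zero, Ideal.one_eq_top]; exact Ideal.Quotient.subsingleton_iff.mpr rfl
    have h2 : Subsingleton (S ⧸ J ^ 0) := by
      rw [pow_zero, Ideal.one_eq_top]; exact Ideal.Quotient.subsingleton_iff.mpr rfl
    exact ⟨fun a b _ => Subsingleton.elim _ _, fun y => ⟨0, Subsingleton.elim _ _⟩⟩
  · have hn' : n ≠ 0 := hn.ne'
    set I : Ideal R := J.comap (algebraMap R S) with hI
    -- the natural map `R ⧸ I ^ n → S ⧸ J`
    let gR : R ⧸ I ^ n →ₐ[R] S ⧸ J := Ideal.Quotient.liftₐ (I ^ n) (Algebra.ofId R (S ⧸ J)) (by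
      intro a ha
      have haI : a ∈ I := Ideal.pow_le_self hn' ha
      have : algebraMap R S a ∈ J := haI
      change algebraMap R (S ⧸ J) a = 0
      rw [IsScalarTower.algebraMap_apply R S (S ⧸ J), Ideal.Quotient.algebraMap_eq,
        Ideal.Quotient.eq_zero_iff_mem]
      exact this)
    have hgR_mk : ∀ r : R, gR (Ideal.Quotient.mk (I ^ n) r) =
        Ideal.Quotient.mk J (algebraMap R S r) := by
      intro r
      change algebraMap R (S ⧸ J) r = _
      rw [IsScalarTower.algebraMap_apply R S (S ⧸ J), Ideal.Quotient.algebraMap_eq]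
    have hgR_surj : Function.Surjective gR := by
      intro y
      obtain ⟨r, rfl⟩ := hJ y
      exact ⟨Ideal.Quotient.mk _ r, rfl⟩
    have hgR_ker : RingHom.ker (gR : R ⧸ I ^ n →+* S ⧸ J) ≤
        I.map (Ideal.Quotient.mk (I ^ n)) := by
      intro t ht
      obtain ⟨r, rfl⟩ := Ideal.Quotient.mk_surjective t
      rw [RingHom.mem_ker] at ht
      have h1 : gR (Ideal.Quotient.mk (I ^ n) r) = 0 := ht
      rw [hgR_mk, Ideal.Quotient.eq_zero_iff_mem] at h1
      exact Ideal.mem_map_of_mem _ h1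
    have hgR_pow : (RingHom.ker (gR : R ⧸ I ^ n →+* S ⧸ J)) ^ n = ⊥ := by
      rw [← le_bot_iff]
      calc (RingHom.ker (gR : R ⧸ I ^ n →+* S ⧸ J)) ^ n
          ≤ (I.map (Ideal.Quotient.mk (I ^ n))) ^ n := Ideal.pow_right_mono hgR_ker n
        _ = (I ^ n).map (Ideal.Quotient.mk (I ^ n)) := (Ideal.map_pow _ _ _).symm
        _ = ⊥ := Ideal.map_quotient_self _
    have hgR_nil : IsNilpotent (RingHom.ker (gR : R ⧸ I ^ n →+* S ⧸ J)) := ⟨n, hgR_pow⟩
    let ψ₀ : S →ₐ[R] R ⧸ I ^ n :=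
      Algebra.FormallySmooth.liftOfSurjective (Ideal.Quotient.mkₐ R J) gR hgR_surj hgR_nil
    have hψ₀ : ∀ x, gR (ψ₀ x) = Ideal.Quotient.mk J x := fun x =>
      Algebra.FormallySmooth.liftOfSurjective_apply (Ideal.Quotient.mkₐ R J) gR hgR_surj hgR_nil x
    have hkill : ∀ x ∈ J ^ n, ψ₀ x = 0 := by
      intro x hx
      have h1 : J.map (ψ₀ : S →+* R ⧸ I ^ n) ≤ RingHom.ker (gR : R ⧸ I ^ n →+* S ⧸ J) := by
        rw [Ideal.map_le_iff_le_comap]
        intro y hy
        rw [Ideal.mem_comap, RingHom.mem_ker]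
        change gR (ψ₀ y) = 0
        rw [hψ₀, Ideal.Quotient.eq_zero_iff_mem]
        exact hy
      have h2 : (ψ₀ : S →+* R ⧸ I ^ n) x ∈ (J ^ n).map (ψ₀ : S →+* R ⧸ I ^ n) :=
        Ideal.mem_map_of_mem _ hx
      rw [Ideal.map_pow] at h2
      have h3 := Ideal.pow_right_mono h1 n h2
      rw [hgR_pow] at h3
      exact h3
    let ψ : S ⧸ J ^ n →ₐ[R] R ⧸ I ^ n := Ideal.Quotient.liftₐ (J ^ n) ψ₀ hkill
    have hψ_mk : ∀ x : S, ψ (Ideal.Quotient.mk (J ^ n) x) = ψ₀ x := fun x => rfl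
    set φ := Ideal.quotientMap (J ^ n) (algebraMap R S)
      (le_of_le_of_eq (Ideal.le_comap_pow (algebraMap R S) n) rfl :
        (J.comap (algebraMap R S)) ^ n ≤ (J ^ n).comap (algebraMap R S)) with hφ
    have hφ_mk : ∀ r : R, φ (Ideal.Quotient.mk (I ^ n) r) =
        Ideal.Quotient.mk (J ^ n) (algebraMap R S r) := fun r => Ideal.quotientMap_mk
    let φₐ : R ⧸ I ^ n →ₐ[R] S ⧸ J ^ n := AlgHom.mk φ (fun r => by
      change φ (Ideal.Quotient.mk (I ^ n) r) = _
      rw [hφ_mk]
      rfl)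
    have hφₐ : ∀ t, φₐ t = φ t := fun t => rfl
    -- the transition map `S ⧸ J ^ n → S ⧸ J`
    let f' : S ⧸ J ^ n →+* S ⧸ J := Ideal.Quotient.factor (Ideal.pow_le_self hn')
    have hf'_nil : IsNilpotent (RingHom.ker f') := by
      refine ⟨n, ?_⟩
      rw [Ideal.Quotient.factor_ker, ← Ideal.map_pow, Ideal.map_quotient_self]
      rfl
    have hf'φ : ∀ t, f' (φ t) = gR t := by
      intro t
      obtain ⟨r, rfl⟩ := Ideal.Quotient.mk_surjective t
      rw [hφ_mk, hgR_mk]
      rfl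
    have hαβ : φₐ.comp ψ₀ = Ideal.Quotient.mkₐ R (J ^ n) := by
      refine Algebra.FormallyUnramified.ext' f' hf'_nil _ _ fun x => ?_
      rw [AlgHom.comp_apply, hφₐ, hf'φ, hψ₀]
      rfl
    rw [Function.bijective_iff_has_inverse]
    refine ⟨ψ, fun a => ?_, fun b => ?_⟩
    · obtain ⟨r, rfl⟩ := Ideal.Quotient.mk_surjective a
      rw [hφ_mk, hψ_mk]
      exact ψ₀.commutes r
    · obtain ⟨x, rfl⟩ := Ideal.Quotient.mk_surjective b
      rw [hψ_mk]
      exact congrArg (fun χ => χ x) hαβ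

end Groth.Agent.S9428
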