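import Groth.Statements.S9431
import Groth.Agent.Lib.Helper25.SepSmooth
import Mathlib.RingTheory.Smooth.Locus
import Mathlib.FieldTheory.IntermediateField.Adjoin.Algebra

set_option autoImplicit false
universe u
open CAlg

namespace Groth.Agent.S9431

/-- For a separable (geometrically reduced) field extension K/k, every finite subset of K lies in a
k-subalgebra of K which is smooth over k; in particular K is a filtered colimit of smooth
k-algebras. -/
theorem result (k : Type u) [Field k]
    (K : Type u) [Field K] [Algebra k K] [Algebra.IsGeometricallyReduced k K] (E : Finset K) :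
    ∃ A : Subalgebra k K, (↑E : Set K) ⊆ (A : Set K) ∧ Algebra.Smooth k A := by
  classical
  open scoped IntermediateField.algebraAdjoinAdjoin in
  have hmain : ∃ f : Algebra.adjoin k (E : Set K), f ≠ 0 ∧
      Algebra.Smooth k (Localization.Away f) := by
    have hft : Algebra.FiniteType k (Algebra.adjoin k (E : Set K)) :=
      (Subalgebra.fg_iff_finiteType _).mp (Subalgebra.fg_adjoin_finset E)
    have hfp : Algebra.FinitePresentation k (Algebra.adjoin k (E : Set K)) :=
      Algebra.FinitePresentation.of_finiteType.mp hft
    have hess1 : Algebra.EssFiniteType (Algebra.adjoin k (E : Set K))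
        (IntermediateField.adjoin k (E : Set K)) :=
      Algebra.EssFiniteType.of_isLocalization _ (nonZeroDivisors (Algebra.adjoin k (E : Set K)))
    have hess : Algebra.EssFiniteType k (IntermediateField.adjoin k (E : Set K)) :=
      Algebra.EssFiniteType.comp k (Algebra.adjoin k (E : Set K)) _
    have hgr : Algebra.IsGeometricallyReduced k (IntermediateField.adjoin k (E : Set K)) :=
      Algebra.IsGeometricallyReduced.of_injective
        (IntermediateField.adjoin k (E : Set K)).val Subtype.val_injective
    have hsm : Algebra.FormallySmooth k (IntermediateField.adjoin k (E : Set K)) :=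
      Groth.Agent.Lib.Helper25.formallySmooth_of_isGeometricallyReduced k _
    have hloc : IsLocalization (⊥ : Ideal (Algebra.adjoin k (E : Set K))).primeCompl
        (IntermediateField.adjoin k (E : Set K)) := by
      rw [Ideal.primeCompl_bot]
      infer_instance
    have hat : Algebra.IsSmoothAt k (⊥ : Ideal (Algebra.adjoin k (E : Set K))) :=
      Algebra.FormallySmooth.of_equiv
        ((IsLocalization.algEquiv (⊥ : Ideal (Algebra.adjoin k (E : Set K))).primeCompl
          (IntermediateField.adjoin k (E : Set K))
          (Localization.AtPrime (⊥ : Ideal (Algebra.adjoin k (E : Set K))))).restrictScalars k)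
    obtain ⟨f, hf, hs⟩ := Algebra.IsSmoothAt.exists_notMem_smooth k
      (⊥ : Ideal (Algebra.adjoin k (E : Set K)))
    exact ⟨f, fun h => hf (by rw [h]; exact Ideal.zero_mem _), hs⟩
  obtain ⟨f, hf0, hs⟩ := hmain
  have hunit : ∀ y : Submonoid.powers f, IsUnit ((Algebra.adjoin k (E : Set K)).val y) := by
    rintro ⟨_, n, rfl⟩
    rw [map_pow]
    refine (IsUnit.mk0 _ ?_).pow n
    intro h
    exact hf0 (Subtype.ext h)
  let φ : Localization.Away f →ₐ[k] K :=
    IsLocalization.liftAlgHom (M := Submonoid.powers f) (S := Localization.Away f)
      (f := (Algebra.adjoin k (E : Set K)).val) hunit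
  have hφ : Function.Injective φ := by
    change Function.Injective (IsLocalization.lift (M := Submonoid.powers f) hunit)
    rw [IsLocalization.lift_injective_iff]
    intro x y
    rw [(IsLocalization.injective (Localization.Away f)
      (powers_le_nonZeroDivisors_of_noZeroDivisors hf0)).eq_iff]
    exact (Subtype.val_injective.eq_iff (a := x) (b := y)).symm
  refine ⟨φ.range, ?_, Algebra.Smooth.of_equiv (AlgEquiv.ofInjective φ hφ)⟩
  intro e he
  refine ⟨algebraMap (Algebra.adjoin k (E : Set K)) (Localization.Away f)
    ⟨e, Algebra.subset_adjoin he⟩, ?_⟩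
  change IsLocalization.lift (M := Submonoid.powers f) hunit _ = e
  rw [IsLocalization.lift_eq]
  rfl

end Groth.Agent.S9431
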