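import Groth.Statements.S9433
import Mathlib.RingTheory.Unramified.LocalStructure
import Mathlib.RingTheory.Etale.StandardEtale

set_option autoImplicit false
set_option linter.unusedSectionVars false
universe u
open CAlg

namespace Groth.Agent.S9433

open IsLocalRing Polynomial

/-- Newton iteration in a local ring. -/
theorem newton {R : Type*} [CommRing R] [IsLocalRing R] (f : Polynomial R) (a : R)
    (hu : IsUnit (f.derivative.eval a)) (ht : f.eval a ∈ maximalIdeal R) :
    ∀ n : ℕ, 1 ≤ n → ∃ b : R, f.eval b ∈ Ideal.span {(f.eval a) ^ n} ∧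
      b - a ∈ Ideal.span {f.eval a} := by
  intro n hn
  induction n, hn using Nat.le_induction with
  | base => exact ⟨a, by simpa using Ideal.mem_span_singleton_self _, by simp⟩
  | succ n hn ih =>
    obtain ⟨b, hb, hba⟩ := ih
    set t := f.eval a with ht'
    have hub : IsUnit (f.derivative.eval b) := by
      have h1 : f.derivative.eval b - f.derivative.eval a ∈ maximalIdeal R := by
        obtain ⟨c, hc⟩ := Polynomial.sub_dvd_eval_sub b a f.derivative
        rw [hc]
        obtain ⟨d, hd⟩ := Ideal.mem_span_singleton'.mp hba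
        rw [← hd]
        exact Ideal.mul_mem_right _ _ (Ideal.mul_mem_left _ _ ht)
      by_contra hnu
      have h2 : f.derivative.eval b ∈ maximalIdeal R := hnu
      have h3 := sub_mem h2 h1
      simp only [sub_sub_cancel] at h3
      exact h3 hu
    obtain ⟨w, hw⟩ := hub
    obtain ⟨c, hc⟩ := Ideal.mem_span_singleton'.mp hb
    obtain ⟨k, hk⟩ := Polynomial.binomExpansion f b (-(t ^ n * c * (↑w⁻¹ : R)))
    refine ⟨b + -(t ^ n * c * (↑w⁻¹ : R)), ?_, ?_⟩
    · rw [hk, ← hw, ← hc, Ideal.mem_span_singleton']
      refine ⟨t ^ (n - 1) * k * c ^ 2 * (↑w⁻¹ : R) ^ 2, ?_⟩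
      have e1 : (w : R) * -(t ^ n * c * (↑w⁻¹ : R)) = -(c * t ^ n) := by
        have : (w : R) * (↑w⁻¹ : R) = 1 := Units.mul_inv w
        calc (w : R) * -(t ^ n * c * (↑w⁻¹ : R)) = -(c * t ^ n) * ((w : R) * (↑w⁻¹ : R)) := by ring
          _ = -(c * t ^ n) := by rw [this, mul_one]
      rw [e1]
      have e2 : t ^ n = t ^ (n - 1) * t := by
        rw [← pow_succ]; congr 1; omega
      have e3 : t ^ (n + 1) = t ^ (n - 1) * t * t := by
        rw [← e2, pow_succ]
      rw [e3]
      rw [e2]
      ring
    · have : b + -(t ^ n * c * (↑w⁻¹ : R)) - a = (b - a) + -(t ^ n * c * (↑w⁻¹ : R)) := by ring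
      rw [this]
      refine add_mem hba (neg_mem ?_)
      rw [Ideal.mem_span_singleton']
      refine ⟨t ^ (n - 1) * c * (↑w⁻¹ : R), ?_⟩
      have e2 : t ^ n = t ^ (n - 1) * t := by
        rw [← pow_succ]; congr 1; omega
      rw [e2]; ring

section structure_
variable {R : Type u} [CommRing R] {T : Type u} [CommRing T] [Algebra R T]
  (q : Ideal T) [q.IsPrime] {S : Type u} [CommRing S] [IsLocalRing S]
  [Algebra T S] [IsLocalization.AtPrime S q] [Algebra R S] [IsScalarTower R T S]
  (g : T) (hg : g ∉ q)

include hg in
theorem isUnit_powers (y : Submonoid.powers g) :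
    IsUnit ((IsScalarTower.toAlgHom R T S) y) := by
  obtain ⟨y, k, rfl⟩ := y
  simp only [IsScalarTower.coe_toAlgHom', map_pow]
  exact (IsLocalization.map_units S (⟨g, hg⟩ : q.primeCompl)).pow k

/-- The comparison map `T_g → S`. -/
noncomputable def phi : Localization.Away g →ₐ[R] S :=
  IsLocalization.liftAlgHom (M := Submonoid.powers g) (f := IsScalarTower.toAlgHom R T S)
    (isUnit_powers (R := R) q g hg)

theorem phi_algebraMap (r : T) :
    phi (R := R) (S := S) q g hg (algebraMap T (Localization.Away g) r) = algebraMap T S r := by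
  rw [phi, IsLocalization.liftAlgHom_apply, IsLocalization.lift_eq]
  rfl

variable (P : StandardEtalePresentation R (Localization.Away g))

theorem hom_ext_S {C : Type*} [CommRing C] [Algebra R C] (u v : S →ₐ[R] C)
    (h : u (phi (R := R) (S := S) q g hg P.x) = v (phi (R := R) (S := S) q g hg P.x)) :
    u = v := by
  have h1 : u.comp (phi (R := R) (S := S) q g hg) = v.comp (phi (R := R) (S := S) q g hg) :=
    P.hom_ext (by simpa using h)
  apply AlgHom.coe_ringHom_injective
  apply IsLocalization.ringHom_ext q.primeCompl
  ext r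
  have := congrArg (fun w => w (algebraMap T (Localization.Away g) r)) h1
  simpa [phi_algebraMap] using this

theorem exists_lift_S {A : Type*} [CommRing A] [Algebra R A]
    (χ : A →ₐ[R] ResidueField S) (hχ : ∀ a' : A, χ a' ≠ 0 → IsUnit a')
    (c : A) (hc : P.P.HasMap c)
    (hχc : χ c = residue S (phi (R := R) (S := S) q g hg P.x)) :
    ∃ u : S →ₐ[R] A, u (phi (R := R) (S := S) q g hg P.x) = c := by
  let u₀ : Localization.Away g →ₐ[R] A := (P.P.lift c hc).comp P.equivRing.toAlgHom
  have hu₀ : u₀ P.x = c := by
    simp [u₀]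
  let res : S →ₐ[R] ResidueField S := IsScalarTower.toAlgHom R S (ResidueField S)
  have h1 : χ.comp u₀ = res.comp (phi (R := R) (S := S) q g hg) := by
    apply P.hom_ext
    simp only [AlgHom.comp_apply, hu₀, hχc]
    rfl
  let u₁ : T →ₐ[R] A := u₀.comp (IsScalarTower.toAlgHom R T (Localization.Away g))
  have hunits : ∀ y : q.primeCompl, IsUnit (u₁ y) := by
    intro y
    apply hχ
    have e1 : χ (u₁ y) = res (algebraMap T S y) := by
      have := congrArg (fun w => w (algebraMap T (Localization.Away g) y)) h1
      simpa [phi_algebraMap, u₁] using this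
    rw [e1]
    have hy : IsUnit (algebraMap T S y) := IsLocalization.map_units S y
    exact (hy.map res).ne_zero
  let u : S →ₐ[R] A := IsLocalization.liftAlgHom (M := q.primeCompl) (f := u₁) hunits
  refine ⟨u, ?_⟩
  have h2 : u.comp (phi (R := R) (S := S) q g hg) = u₀ := by
    apply AlgHom.coe_ringHom_injective
    apply IsLocalization.ringHom_ext (Submonoid.powers g)
    ext r
    change u (phi (R := R) (S := S) q g hg (algebraMap T (Localization.Away g) r))
      = u₀ (algebraMap T (Localization.Away g) r)
    rw [phi_algebraMap, IsLocalization.liftAlgHom_apply, IsLocalization.lift_eq]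
    rfl
  rw [← hu₀, ← h2]
  rfl

end structure_

/-- Let R → S be a local homomorphism of local rings with S the localization of an étale R-algebra at a
prime, inducing an isomorphism of residue fields. Then for some t in the maximal ideal of R the maps
R/t^nR → S/t^nS are bijective for all n ≥ 1. -/
theorem result (R : Type u) [CommRing R] [IsLocalRing R] (T : Type u) [CommRing T] [Algebra R T]
    [Algebra.Etale R T] (q : Ideal T) [q.IsPrime] (S : Type u) [CommRing S] [IsLocalRing S]
    [Algebra T S] [IsLocalization.AtPrime S q] [Algebra R S] [IsScalarTower R T S]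
    [IsLocalHom (algebraMap R S)]
    (hres : Function.Bijective (IsLocalRing.ResidueField.map (algebraMap R S))) :
    ∃ t ∈ IsLocalRing.maximalIdeal R, ∀ n : ℕ, 1 ≤ n →
      Function.Bijective (Ideal.quotientMap ((Ideal.span {t ^ n}).map (algebraMap R S))
        (algebraMap R S) Ideal.le_comap_map) := by
  classical
  have hfp : Algebra.FinitePresentation R T := inferInstance
  have hEt : Algebra.IsEtaleAt R q := inferInstance
  obtain ⟨g, hg, hstd⟩ := Algebra.IsEtaleAt.exists_isStandardEtale (R := R) q
  obtain ⟨P⟩ := hstd.nonempty_standardEtalePresentation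
  set x : S := phi (R := R) (S := S) q g hg P.x with hx
  have hmapx : P.P.HasMap x := P.hasMap.map (phi (R := R) (S := S) q g hg)
  -- local hom helpers
  have hloc2 : ∀ r ∈ maximalIdeal R, algebraMap R S r ∈ maximalIdeal S := by
    intro r hr
    by_contra h
    have h1 : IsUnit (algebraMap R S r) := by
      by_contra h2; exact h h2
    exact hr (IsLocalHom.map_nonunit r h1)
  have hloc : ∀ r : R, algebraMap R S r ∈ maximalIdeal S → r ∈ maximalIdeal R := by
    intro r hr
    by_contra h
    have h1 : IsUnit r := by
      by_contra h2; exact h h2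
    exact hr (h1.map (algebraMap R S))
  have hunit_of_sub : ∀ u v : S, IsUnit v → u - v ∈ maximalIdeal S → IsUnit u := by
    intro u v hv huv
    by_contra hnu
    have h1 : u ∈ maximalIdeal S := hnu
    have h2 := sub_mem h1 huv
    simp only [sub_sub_cancel] at h2
    exact h2 hv
  have hcong : ∀ (p : Polynomial R) (r : R), algebraMap R S r - x ∈ maximalIdeal S →
      algebraMap R S (p.eval r) - Polynomial.aeval x p ∈ maximalIdeal S := by
    intro p r hr
    obtain ⟨d, hd⟩ := Polynomial.sub_dvd_eval_sub (algebraMap R S r) x (p.map (algebraMap R S))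
    have e1 : (p.map (algebraMap R S)).eval (algebraMap R S r) = algebraMap R S (p.eval r) := by
      rw [Polynomial.eval_map, Polynomial.eval₂_at_apply]
    have e2 : (p.map (algebraMap R S)).eval x = Polynomial.aeval x p :=
      Polynomial.eval_map_algebraMap p x
    rw [e1, e2] at hd
    rw [hd]
    exact Ideal.mul_mem_right _ _ hr
  -- the element a
  obtain ⟨a₀, ha₀⟩ := hres.2 (residue S x)
  obtain ⟨a, rfl⟩ := IsLocalRing.residue_surjective a₀
  rw [IsLocalRing.ResidueField.map_residue] at ha₀
  have hax : algebraMap R S a - x ∈ maximalIdeal S := by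
    rw [← IsLocalRing.residue_eq_zero_iff, map_sub, ha₀, sub_self]
  set f := P.f with hf
  set t := f.eval a with ht'
  have ht : t ∈ maximalIdeal R := by
    apply hloc
    have := hcong f a hax
    rw [hmapx.1, sub_zero] at this
    exact this
  have hfa' : IsUnit (f.derivative.eval a) := by
    apply isUnit_of_map_unit (algebraMap R S)
    exact hunit_of_sub _ _ hmapx.isUnit_derivative_f (hcong f.derivative a hax)
  refine ⟨t, ht, fun n hn => ?_⟩
  obtain ⟨b, hb, hba⟩ := newton f a hfa' ht n hn
  have hJm : Ideal.span {t ^ n} ≤ maximalIdeal R := by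
    rw [Ideal.span_singleton_le_iff_mem]
    exact Ideal.pow_mem_of_mem _ ht n (by omega)
  have hbx : algebraMap R S b - x ∈ maximalIdeal S := by
    have h1 : b - a ∈ maximalIdeal R := by
      have : Ideal.span {t} ≤ maximalIdeal R := by
        rw [Ideal.span_singleton_le_iff_mem]; exact ht
      exact this hba
    have h2 := hloc2 _ h1
    have : algebraMap R S b - x = algebraMap R S (b - a) + (algebraMap R S a - x) := by
      rw [map_sub]; ring
    rw [this]; exact add_mem h2 hax
  set J := Ideal.span {t ^ n} with hJ
  -- the element c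
  have hc : P.P.HasMap (Ideal.Quotient.mk J b) := by
    constructor
    · change Polynomial.aeval (algebraMap R (R ⧸ J) b) f = 0
      rw [Polynomial.aeval_algebraMap_apply_eq_algebraMap_eval]
      exact Ideal.Quotient.eq_zero_iff_mem.mpr hb
    · change IsUnit (Polynomial.aeval (algebraMap R (R ⧸ J) b) P.g)
      rw [Polynomial.aeval_algebraMap_apply_eq_algebraMap_eval]
      apply IsUnit.map
      apply isUnit_of_map_unit (algebraMap R S)
      exact hunit_of_sub _ _ hmapx.2 (hcong P.g b hbx)
  -- χ
  have hχ0 : ∀ j : R, j ∈ J → (Algebra.ofId R (ResidueField S)) j = 0 := by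
    intro j hj
    change algebraMap R (ResidueField S) j = 0
    rw [IsScalarTower.algebraMap_apply R S (ResidueField S)]
    exact (IsLocalRing.residue_eq_zero_iff _).mpr (hloc2 _ (hJm hj))
  let χ : (R ⧸ J) →ₐ[R] ResidueField S := Ideal.Quotient.liftₐ J (Algebra.ofId R (ResidueField S)) hχ0
  have hχmk : ∀ r : R, χ (Ideal.Quotient.mk J r) = residue S (algebraMap R S r) := by
    intro r
    change algebraMap R (ResidueField S) r = _
    rw [IsScalarTower.algebraMap_apply R S (ResidueField S)]
    rfl
  have hχ : ∀ a' : R ⧸ J, χ a' ≠ 0 → IsUnit a' := by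
    intro a' ha'
    obtain ⟨r, rfl⟩ := Ideal.Quotient.mk_surjective a'
    rw [hχmk] at ha'
    apply IsUnit.map
    apply isUnit_of_map_unit (algebraMap R S)
    by_contra hnu
    exact ha' ((IsLocalRing.residue_eq_zero_iff _).mpr hnu)
  have hχc : χ (Ideal.Quotient.mk J b) = residue S x := by
    rw [hχmk, ← sub_eq_zero, ← map_sub]
    exact (IsLocalRing.residue_eq_zero_iff _).mpr hbx
  obtain ⟨u, hu⟩ := exists_lift_S q g hg P χ hχ (Ideal.Quotient.mk J b) hc hχc
  -- key congruence
  have hxb : x - algebraMap R S b ∈ J.map (algebraMap R S) := by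
    obtain ⟨k, hk⟩ := Polynomial.binomExpansion (f.map (algebraMap R S)) (algebraMap R S b)
      (x - algebraMap R S b)
    rw [add_sub_cancel, Polynomial.eval_map_algebraMap, hmapx.1, Polynomial.eval_map,
      Polynomial.eval₂_at_apply, Polynomial.derivative_map, Polynomial.eval_map,
      Polynomial.eval₂_at_apply] at hk
    set y := x - algebraMap R S b with hy
    have hw : IsUnit (algebraMap R S (f.derivative.eval b)) :=
      hunit_of_sub _ _ hmapx.isUnit_derivative_f (hcong f.derivative b hbx)
    have hym : y ∈ maximalIdeal S := by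
      have : y = -(algebraMap R S b - x) := by rw [hy]; ring
      rw [this]; exact neg_mem hbx
    have hw2 : IsUnit (algebraMap R S (f.derivative.eval b) + k * y) := by
      apply hunit_of_sub _ _ hw
      rw [add_sub_cancel_left]
      exact Ideal.mul_mem_left _ _ hym
    obtain ⟨w, hw'⟩ := hw2
    have hj : algebraMap R S (f.eval b) ∈ J.map (algebraMap R S) := Ideal.mem_map_of_mem _ hb
    have : y = -((↑w⁻¹ : S) * algebraMap R S (f.eval b)) := by
      have e1 : (w : S) * y = -algebraMap R S (f.eval b) := by
        rw [hw']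
        have : (algebraMap R S (f.derivative.eval b) + k * y) * y
            = (algebraMap R S (f.eval b) + algebraMap R S (f.derivative.eval b) * y + k * y ^ 2)
              - algebraMap R S (f.eval b) := by ring
        rw [this, ← hk, zero_sub]
      calc y = (↑w⁻¹ : S) * ((w : S) * y) := by rw [← mul_assoc, Units.inv_mul, one_mul]
        _ = -((↑w⁻¹ : S) * algebraMap R S (f.eval b)) := by rw [e1]; ring
    rw [this]
    exact neg_mem (Ideal.mul_mem_left _ _ hj)
  -- the inverse map
  have hker : ∀ s ∈ J.map (algebraMap R S), u.toRingHom s = 0 := by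
    intro s hs
    have hle : J.map (algebraMap R S) ≤ RingHom.ker u.toRingHom := by
      rw [Ideal.map_le_iff_le_comap]
      intro j hj
      rw [Ideal.mem_comap, RingHom.mem_ker]
      change u (algebraMap R S j) = 0
      rw [u.commutes]
      exact Ideal.Quotient.eq_zero_iff_mem.mpr hj
    exact hle hs
  let ubar : S ⧸ J.map (algebraMap R S) →+* R ⧸ J := Ideal.Quotient.lift _ u.toRingHom hker
  have hleft : ∀ a' : R ⧸ J, ubar (Ideal.quotientMap (J.map (algebraMap R S))
      (algebraMap R S) Ideal.le_comap_map a') = a' := by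
    intro a'
    obtain ⟨r, rfl⟩ := Ideal.Quotient.mk_surjective a'
    rw [Ideal.quotientMap_mk]
    change u (algebraMap R S r) = _
    rw [u.commutes]
    rfl
  let v₁ : S →ₐ[R] S ⧸ J.map (algebraMap R S) := Ideal.Quotient.mkₐ R _
  let v₂ : S →ₐ[R] S ⧸ J.map (algebraMap R S) :=
    { toRingHom := (Ideal.quotientMap (J.map (algebraMap R S))
        (algebraMap R S) Ideal.le_comap_map).comp u.toRingHom
      commutes' := by
        intro r
        change Ideal.quotientMap (J.map (algebraMap R S)) (algebraMap R S) Ideal.le_comap_map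
          (u (algebraMap R S r)) = _
        rw [u.commutes]
        change Ideal.quotientMap (J.map (algebraMap R S)) (algebraMap R S) Ideal.le_comap_map
          (Ideal.Quotient.mk J r) = _
        rw [Ideal.quotientMap_mk]
        rfl }
  have hv : v₁ = v₂ := by
    apply hom_ext_S q g hg P
    change Ideal.Quotient.mk _ x = Ideal.quotientMap (J.map (algebraMap R S)) (algebraMap R S)
      Ideal.le_comap_map (u x)
    rw [hu, Ideal.quotientMap_mk, Ideal.Quotient.eq]
    exact hxb
  constructor
  · exact Function.LeftInverse.injective hleft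
  · intro sbar
    obtain ⟨s, rfl⟩ := Ideal.Quotient.mk_surjective sbar
    refine ⟨u s, ?_⟩
    have := congrArg (fun w => w s) hv
    exact this.symm

end Groth.Agent.S9433
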