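import Groth.Statements.S9434
import Groth.Agent.Lib.Helper9.SplitCover
-- import your own Groth.Agent.* helpers here

set_option autoImplicit false
universe u
open CAlg

namespace Groth.Agent.S9434

/-- Let R → S be a local homomorphism of local rings with S the localization of an étale R-algebra at a
prime. Then there is a finite, finitely presented, faithfully flat R-algebra S' such that for every
maximal ideal m' of S' the structure map R → S'_{m'} factors through some R-algebra map S → S'_{m'}. -/
theorem result (R : Type u) [CommRing R] [IsLocalRing R] (T : Type u) [CommRing T] [Algebra R T]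
    [Algebra.Etale R T] (q : Ideal T) [q.IsPrime] (S : Type u) [CommRing S] [IsLocalRing S]
    [Algebra T S] [IsLocalization.AtPrime S q] [Algebra R S] [IsScalarTower R T S]
    [IsLocalHom (algebraMap R S)] :
    ∃ (S' : Type u) (_ : CommRing S') (_ : Algebra R S'),
      Module.Finite R S' ∧ Algebra.FinitePresentation R S' ∧ Module.FaithfullyFlat R S' ∧
        ∀ (m' : Ideal S') [m'.IsMaximal], Nonempty (S →ₐ[R] Localization.AtPrime m') := by
  classical
  haveI : Algebra.FinitePresentation R T := inferInstance
  obtain ⟨f, hfq, hstd⟩ := Algebra.IsEtaleAt.exists_isStandardEtale (R := R) q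
  obtain ⟨P⟩ := hstd.nonempty_standardEtalePresentation
  obtain ⟨S', _, _, hfin, hfp, hff, α, hα⟩ :=
    Groth.Agent.Lib.Helper9.SplitCover.exists_splitting P.f.natDegree R P.f P.monic_f rfl
  refine ⟨S', inferInstance, inferInstance, hfin, hfp, hff, ?_⟩
  intro m' _
  have hdisj : Disjoint (Submonoid.powers f : Set T) (q : Set T) :=
    (Ideal.disjoint_powers_iff_notMem_of_isPrime _).mpr hfq
  haveI hqfp : (q.map (algebraMap T (Localization.Away f))).IsPrime :=
    IsLocalization.isPrime_of_isPrime_disjoint (Submonoid.powers f) _ q inferInstance hdisj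
  have hqf : (q.map (algebraMap T (Localization.Away f))).comap (algebraMap T (Localization.Away f)) = q :=
    IsLocalization.comap_map_of_isPrime_disjoint (Submonoid.powers f) _ inferInstance hdisj
  have hqR : q.under R = IsLocalRing.maximalIdeal R := by
    ext r
    rw [Ideal.under_def, Ideal.mem_comap, ← IsLocalization.AtPrime.to_map_mem_maximal_iff S q,
      ← IsScalarTower.algebraMap_apply, IsLocalRing.mem_maximalIdeal, IsLocalRing.mem_maximalIdeal,
      mem_nonunits_iff, mem_nonunits_iff, isUnit_map_iff]
  haveI : Algebra.IsIntegral R S' := Algebra.IsIntegral.of_finite R S'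
  have hm'R : m'.under R = IsLocalRing.maximalIdeal R := by
    haveI : (m'.under R).IsMaximal := Ideal.isMaximal_comap_of_isIntegral_of_isMaximal m'
    exact IsLocalRing.eq_maximalIdeal inferInstance
  have hqfR : (q.map (algebraMap T (Localization.Away f))).under R = q.under R := by
    conv_rhs => rw [← hqf]
    ext r
    simp only [Ideal.under_def, Ideal.mem_comap, ← IsScalarTower.algebraMap_apply]
  obtain ⟨φ, hφ⟩ := Groth.Agent.Lib.Helper9.SplitCover.exists_cover_atPrime P α hα
    (q.map (algebraMap T (Localization.Away f))) m' (by rw [hm'R, hqfR, hqR])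
  let ψ : T →ₐ[R] Localization.AtPrime m' := φ.comp (IsScalarTower.toAlgHom R T (Localization.Away f))
  have hψ : ∀ y : q.primeCompl, IsUnit (ψ y) := by
    rintro ⟨y, hy⟩
    by_contra hnu
    have h1 : ψ y ∈ IsLocalRing.maximalIdeal (Localization.AtPrime m') :=
      (IsLocalRing.mem_maximalIdeal _).mpr hnu
    have h2 : algebraMap T (Localization.Away f) y ∈ q.map (algebraMap T (Localization.Away f)) := by
      rw [← hφ]; exact h1
    have h3 : y ∈ q := by rw [← hqf]; exact h2
    exact hy h3
  exact ⟨IsLocalization.liftAlgHom (M := q.primeCompl) (f := ψ) hψ⟩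

end Groth.Agent.S9434
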