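import Groth.Statements.S9435
import Mathlib
-- import your own Groth.Agent.* helpers here

set_option autoImplicit false
universe u
open CAlg

namespace Groth.Agent.S9435

/-- Given a prime p of a ring R and a finite separable extension L of κ(p), there is an étale R-algebra
R' with a prime p' over p whose residue field is κ(p)-isomorphic to L. Stated through an R-algebra
map ψ : R' → L whose image generates the field L: its kernel is such a prime p' and the induced
κ(p') → L is then an isomorphism over κ(p). -/
theorem result (R : Type u) [CommRing R]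
    (p : Ideal R) [p.IsPrime] (L : Type u) [Field L] [Algebra p.ResidueField L] [Algebra R L]
    [IsScalarTower R p.ResidueField L] [Module.Finite p.ResidueField L]
    [Algebra.IsSeparable p.ResidueField L] :
    ∃ (R' : Type u) (_ : CommRing R') (_ : Algebra R R') (_ : Algebra.Etale R R') (ψ : R' →ₐ[R] L),
      Subfield.closure (Set.range ψ) = ⊤ := by
  classical
  obtain ⟨β, hβ⟩ := Field.exists_primitive_element p.ResidueField L
  have hβint : IsIntegral p.ResidueField β := Algebra.IsIntegral.isIntegral β
  set d : R ⧸ p := ((IsLocalization.commonDenom (nonZeroDivisors (R ⧸ p))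
    (minpoly p.ResidueField β).support (minpoly p.ResidueField β).coeff :
      nonZeroDivisors (R ⧸ p)) : R ⧸ p) with hd_def
  have hd : algebraMap (R ⧸ p) p.ResidueField d ≠ 0 :=
    IsFractionRing.to_map_ne_zero_of_mem_nonZeroDivisors (SetLike.coe_mem _)
  have hβ'int : IsIntegral p.ResidueField (algebraMap (R ⧸ p) p.ResidueField d • β) :=
    Algebra.IsIntegral.isIntegral _
  have hmin : minpoly p.ResidueField (algebraMap (R ⧸ p) p.ResidueField d • β) =
      (minpoly p.ResidueField β).scaleRoots (algebraMap (R ⧸ p) p.ResidueField d) :=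
    IsIntegrallyClosed.minpoly_smul hd hβint
  have hlift0 : minpoly p.ResidueField (algebraMap (R ⧸ p) p.ResidueField d • β) ∈
      Polynomial.lifts (algebraMap (R ⧸ p) p.ResidueField) := by
    rw [hmin]
    exact IsLocalization.scaleRoots_commonDenom_mem_lifts (nonZeroDivisors (R ⧸ p))
      (minpoly p.ResidueField β)
      (by rw [(minpoly.monic hβint).leadingCoeff]; exact ⟨1, map_one _⟩)
  have hlift : minpoly p.ResidueField (algebraMap (R ⧸ p) p.ResidueField d • β) ∈
      Polynomial.lifts (algebraMap R p.ResidueField) := by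
    rw [Polynomial.lifts_iff_coeff_lifts] at hlift0 ⊢
    intro n
    obtain ⟨a, ha⟩ := hlift0 n
    obtain ⟨a', rfl⟩ := Ideal.Quotient.mk_surjective a
    exact ⟨a', by rw [← ha]; rfl⟩
  obtain ⟨F, hFmap, -, hFmonic⟩ :=
    Polynomial.lifts_and_natDegree_eq_and_monic hlift (minpoly.monic hβ'int)
  let P : StandardEtalePair R :=
    ⟨F, hFmonic, Polynomial.derivative F, ⟨1, 0, 1, by simp⟩⟩
  have hsep : (minpoly p.ResidueField (algebraMap (R ⧸ p) p.ResidueField d • β)).Separable :=
    Algebra.IsSeparable.isSeparable _ _
  have hmapP : P.HasMap (algebraMap (R ⧸ p) p.ResidueField d • β) := by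
    constructor
    · show Polynomial.aeval (algebraMap (R ⧸ p) p.ResidueField d • β) F = 0
      rw [← Polynomial.aeval_map_algebraMap p.ResidueField, hFmap, minpoly.aeval]
    · show IsUnit (Polynomial.aeval (algebraMap (R ⧸ p) p.ResidueField d • β)
        (Polynomial.derivative F))
      rw [← Polynomial.aeval_map_algebraMap p.ResidueField, ← Polynomial.derivative_map, hFmap]
      exact (hsep.aeval_derivative_ne_zero (minpoly.aeval _ _)).isUnit
  refine ⟨P.Ring, inferInstance, inferInstance, inferInstance,
    P.lift (algebraMap (R ⧸ p) p.ResidueField d • β) hmapP, ?_⟩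
  have hR : ∀ a : R, algebraMap R L a ∈
      Subfield.closure (Set.range (P.lift (algebraMap (R ⧸ p) p.ResidueField d • β) hmapP)) := by
    intro a
    apply Subfield.subset_closure
    exact ⟨algebraMap R P.Ring a, AlgHom.commutes _ a⟩
  have h1 : Set.range (algebraMap p.ResidueField L) ⊆
      Subfield.closure (Set.range (P.lift (algebraMap (R ⧸ p) p.ResidueField d • β) hmapP)) := by
    rintro _ ⟨y, rfl⟩
    obtain ⟨a, b, -, rfl⟩ := IsFractionRing.div_surjective (A := R ⧸ p) y
    obtain ⟨a', rfl⟩ := Ideal.Quotient.mk_surjective a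
    obtain ⟨b', rfl⟩ := Ideal.Quotient.mk_surjective b
    rw [map_div₀]
    apply Subfield.div_mem
    · have := hR a'
      rwa [IsScalarTower.algebraMap_apply R p.ResidueField L,
        IsScalarTower.algebraMap_apply R (R ⧸ p) p.ResidueField] at this
    · have := hR b'
      rwa [IsScalarTower.algebraMap_apply R p.ResidueField L,
        IsScalarTower.algebraMap_apply R (R ⧸ p) p.ResidueField] at this
  have h2 : β ∈
      Subfield.closure (Set.range (P.lift (algebraMap (R ⧸ p) p.ResidueField d • β) hmapP)) := by
    have hβ' : algebraMap (R ⧸ p) p.ResidueField d • β ∈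
        Subfield.closure (Set.range (P.lift (algebraMap (R ⧸ p) p.ResidueField d • β) hmapP)) :=
      Subfield.subset_closure ⟨P.X, P.lift_X _ hmapP⟩
    have hc := h1 ⟨algebraMap (R ⧸ p) p.ResidueField d, rfl⟩
    have hne : algebraMap p.ResidueField L (algebraMap (R ⧸ p) p.ResidueField d) ≠ 0 := by
      rwa [Ne, map_eq_zero]
    have heq : β = (algebraMap p.ResidueField L (algebraMap (R ⧸ p) p.ResidueField d))⁻¹ *
        (algebraMap (R ⧸ p) p.ResidueField d • β) := by
      rw [Algebra.smul_def, ← mul_assoc, inv_mul_cancel₀ hne, one_mul]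
    have h5 := Subfield.mul_mem _ (Subfield.inv_mem _ hc) hβ'
    rwa [← heq] at h5
  rw [eq_top_iff]
  have h3 : Subfield.closure (Set.range (algebraMap p.ResidueField L) ∪ {β}) ≤
      Subfield.closure (Set.range (P.lift (algebraMap (R ⧸ p) p.ResidueField d • β) hmapP)) := by
    rw [Subfield.closure_le]
    rintro x (hx | hx)
    · exact h1 hx
    · rw [Set.mem_singleton_iff] at hx
      rw [hx]
      exact h2
  have h4 : (⊤ : Subfield L) =
      Subfield.closure (Set.range (algebraMap p.ResidueField L) ∪ {β}) := by
    rw [← IntermediateField.adjoin_toSubfield, hβ]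
    rfl
  rw [h4]
  exact h3

end Groth.Agent.S9435
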