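import Groth.Statements.S9439
import Mathlib
import Groth.Agent.Lib.Helper83.FlatLocalDim
import Groth.Agent.Lib.Helper83.DVRCrit
-- import your own Groth.Agent.* helpers here

set_option autoImplicit false
universe u
open CAlg

namespace Groth.Agent.S9439

open TensorProduct in
/-- For a flat `A`-algebra `B` and a prime `p` of `A`, an element `a ∉ p` is a nonzerodivisor
modulo `pB`. -/
theorem mem_map_of_mul_mem_of_flat {A B : Type u} [CommRing A] [CommRing B] [Algebra A B]
    [Module.Flat A B] (p : Ideal A) [p.IsPrime] {a : A} (ha : a ∉ p) {b : B}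
    (hab : algebraMap A B a * b ∈ p.map (algebraMap A B)) : b ∈ p.map (algebraMap A B) := by
  have : IsDomain (A ⧸ p) := Ideal.Quotient.isDomain p
  have hne : Ideal.Quotient.mk p a ≠ 0 := fun h => ha (Ideal.Quotient.eq_zero_iff_mem.mp h)
  have hreg : IsSMulRegular (A ⧸ p) a := by
    intro u v huv
    have h1 : Ideal.Quotient.mk p a * u = Ideal.Quotient.mk p a * v := by
      simpa [Algebra.smul_def] using huv
    exact mul_left_cancel₀ hne h1
  have hreg' : IsSMulRegular (B ⊗[A] (A ⧸ p)) (algebraMap A B a) :=
    hreg.of_flat_of_isBaseChange (TensorProduct.isBaseChange A (A ⧸ p) B)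
  let e := Algebra.TensorProduct.quotIdealMapEquivTensorQuot B p
  rw [← Ideal.Quotient.eq_zero_iff_mem] at hab ⊢
  apply e.injective
  rw [map_zero]
  apply hreg'
  beta_reduce
  rw [smul_zero, ← map_smul, Algebra.smul_def, Ideal.Quotient.algebraMap_eq, ← map_mul, hab,
    map_zero]

/-- Let R be a Noetherian local ring, R^ its completion and p a prime with R_p a discrete valuation ring
and with R^/pR^ reduced (p analytically unramified: the completion of R/p, which is R^/pR^, is
reduced). Then the localization of R^ at any associated prime of R^/pR^ is a discrete valuation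
ring. -/
theorem result
    (R : Type u) [CommRing R] [IsLocalRing R] [IsNoetherianRing R] (p : Ideal R) [p.IsPrime]
    [IsDomain (Localization.AtPrime p)] [IsDiscreteValuationRing (Localization.AtPrime p)]
    (hp : IsReduced (AdicCompletion (IsLocalRing.maximalIdeal R) R ⧸
      p.map (algebraMap R (AdicCompletion (IsLocalRing.maximalIdeal R) R))))
    (q : Ideal (AdicCompletion (IsLocalRing.maximalIdeal R) R)) [q.IsPrime]
    (hq : q ∈ associatedPrimes (AdicCompletion (IsLocalRing.maximalIdeal R) R)
      (AdicCompletion (IsLocalRing.maximalIdeal R) R ⧸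
        p.map (algebraMap R (AdicCompletion (IsLocalRing.maximalIdeal R) R)))) :
    ∃ _ : IsDomain (Localization.AtPrime q), IsDiscreteValuationRing (Localization.AtPrime q) := by
  have hNoeth : IsNoetherianRing (AdicCompletion (IsLocalRing.maximalIdeal R) R) :=
    Groth.Agent.Lib.Helper83.isNoetherianRing_adicCompletion _
  obtain ⟨_, xbar, hqx⟩ := (isAssociatedPrime_iff).mp hq
  obtain ⟨x, rfl⟩ := Ideal.Quotient.mk_surjective xbar
  have hmem : ∀ r, r ∈ q ↔
      r * x ∈ p.map (algebraMap R (AdicCompletion (IsLocalRing.maximalIdeal R) R)) := by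
    intro r
    rw [hqx, Submodule.mem_colon_singleton, Submodule.mem_bot, ← Ideal.Quotient.eq_zero_iff_mem,
      map_mul]
    rfl
  have hxP : x ∉ p.map (algebraMap R (AdicCompletion (IsLocalRing.maximalIdeal R) R)) := by
    intro hx
    have : (1 : AdicCompletion (IsLocalRing.maximalIdeal R) R) ∈ q := by
      rw [hmem, one_mul]; exact hx
    exact Ideal.IsPrime.ne_top ‹_› ((Ideal.eq_top_iff_one q).mpr this)
  have hxq : x ∉ q := by
    intro hx
    have h1 := (hmem x).mp hx
    rw [← Ideal.Quotient.eq_zero_iff_mem, map_mul] at h1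
    have h2 : IsNilpotent (Ideal.Quotient.mk
        (p.map (algebraMap R (AdicCompletion (IsLocalRing.maximalIdeal R) R))) x) :=
      ⟨2, by rw [pow_two, h1]⟩
    have h3 := hp.eq_zero _ h2
    exact hxP (Ideal.Quotient.eq_zero_iff_mem.mp h3)
  have hcomap : q.comap (algebraMap R (AdicCompletion (IsLocalRing.maximalIdeal R) R)) = p := by
    ext a
    rw [Ideal.mem_comap]
    constructor
    · intro ha
      by_contra hap
      exact hxP (mem_map_of_mul_mem_of_flat p hap ((hmem _).mp ha))
    · intro ha
      exact (hmem _).mpr (Ideal.mul_mem_right _ _ (Ideal.mem_map_of_mem _ ha))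
  have : q.LiesOver p := ⟨hcomap.symm⟩
  let _ := Localization.AtPrime.algebraOfLiesOver p q
  have hmax : (IsLocalRing.maximalIdeal (Localization.AtPrime p)).map
      (algebraMap (Localization.AtPrime p) (Localization.AtPrime q)) =
      IsLocalRing.maximalIdeal (Localization.AtPrime q) := by
    rw [← Localization.AtPrime.map_eq_maximalIdeal, ← Localization.AtPrime.map_eq_maximalIdeal,
      Ideal.map_map, ← IsScalarTower.algebraMap_eq,
      IsScalarTower.algebraMap_eq R (AdicCompletion (IsLocalRing.maximalIdeal R) R)
        (Localization.AtPrime q), ← Ideal.map_map]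
    apply le_antisymm
    · apply Ideal.map_mono
      intro y hy
      rw [hmem]
      exact Ideal.mul_mem_right _ _ hy
    · rw [Ideal.map_le_iff_le_comap]
      intro y hy
      rw [Ideal.mem_comap]
      have hu : IsUnit (algebraMap (AdicCompletion (IsLocalRing.maximalIdeal R) R)
          (Localization.AtPrime q) x) :=
        IsLocalization.map_units (Localization.AtPrime q) (⟨x, hxq⟩ : q.primeCompl)
      have h1 : algebraMap (AdicCompletion (IsLocalRing.maximalIdeal R) R)
          (Localization.AtPrime q) (y * x) ∈
          (p.map (algebraMap R (AdicCompletion (IsLocalRing.maximalIdeal R) R))).map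
            (algebraMap (AdicCompletion (IsLocalRing.maximalIdeal R) R)
              (Localization.AtPrime q)) :=
        Ideal.mem_map_of_mem _ ((hmem y).mp hy)
      rw [map_mul] at h1
      exact (Ideal.mul_unit_mem_iff_mem _ hu).mp h1
  have h1 := (Groth.Agent.Lib.Helper83.exists_isDomain_isDiscreteValuationRing_iff
    (R := Localization.AtPrime p)).mp ⟨inferInstance, inferInstance⟩
  apply (Groth.Agent.Lib.Helper83.exists_isDomain_isDiscreteValuationRing_iff).mpr
  rw [Groth.Agent.Lib.Helper83.spanFinrank_maximalIdeal_eq_of_flat_of_map_maximalIdeal hmax,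
    Groth.Agent.Lib.Helper83.ringKrullDim_eq_of_flat_of_map_maximalIdeal hmax]
  exact h1

end Groth.Agent.S9439
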