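import Groth.Statements.S9440
import Groth.Agent.Lib.Helper88.LocalSub

set_option autoImplicit false
universe u
open CAlg

namespace Groth.Agent.S9440

/-- (1) ⇔ (3): a Noetherian local ring R is a Nagata ring if and only if for every finite local
homomorphism R → S of local rings with S a domain, the completion of S is reduced. -/
theorem result (R : Type u) [CommRing R]
    [IsLocalRing R] [IsNoetherianRing R] :
    CAlg.IsNagata R ↔ ∀ (S : Type u) [CommRing S] [IsDomain S] [IsLocalRing S] [Algebra R S]
      [IsLocalHom (algebraMap R S)] [Module.Finite R S],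
      IsReduced (AdicCompletion (IsLocalRing.maximalIdeal S) S) := by
  constructor
  · intro hR S _ _ _ _ _ _
    exact Groth.Agent.Lib.Helper88.AnUnram2.isReduced_adicCompletion_of_isNagata S
      (Groth.Agent.Lib.Helper88.AnUnram2.isNagata_of_finite R S hR)
  · intro H
    refine ⟨inferInstance, ?_⟩
    intro p hp
    haveI : IsLocalRing (R ⧸ p) :=
      IsLocalRing.of_surjective' (Ideal.Quotient.mk p) Ideal.Quotient.mk_surjective
    apply Groth.Agent.Lib.Helper88.LocalSub.isN2_of_forall_finite_local
    intro S' _ _ _ _ _ _
    letI : Algebra R S' := ((algebraMap (R ⧸ p) S').comp (algebraMap R (R ⧸ p))).toAlgebra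
    haveI : IsScalarTower R (R ⧸ p) S' := IsScalarTower.of_algebraMap_eq' rfl
    haveI : Module.Finite R S' := Module.Finite.trans (R ⧸ p) S'
    haveI : IsLocalHom (algebraMap R (R ⧸ p)) :=
      IsLocalHom.of_surjective _ Ideal.Quotient.mk_surjective
    haveI : IsLocalHom (algebraMap R S') :=
      RingHom.isLocalHom_comp (algebraMap (R ⧸ p) S') (algebraMap R (R ⧸ p))
    exact H S'

end Groth.Agent.S9440
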