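import Groth.Statements.S9441
import Groth.Agent.Lib.Helper62.ElemStdDim
import Groth.Agent.Lib.Helper62.FibDim
import Groth.Agent.Lib.Helper62.JacMinor
import Groth.Agent.S2032
import Groth.Agent.S2108

set_option autoImplicit false
set_option linter.style.haveILetI false
universe u
open Synt

namespace Groth.Agent.S9441

/-- For a relative global complete intersection S = R[x_1, …, x_n]/(f_1, …, f_c) and a prime q of S, the
map R → S is smooth at q if and only if some c × c minor of the Jacobian matrix (∂f_j/∂x_i), taken
on c distinct variables, has image outside q. -/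
theorem result (R : Type u) [CommRing R] (n c : ℕ)
    (F : Fin c → MvPolynomial (Fin n) R) (hF : Synt.IsRelGCI R n c F)
    (q : Ideal (Synt.RelGCIRing R n c F)) [q.IsPrime] :
    Algebra.IsSmoothAt R q ↔ ∃ I : Fin c ↪ Fin n,
      Ideal.Quotient.mk (Ideal.span (Set.range F))
        (Matrix.det (Matrix.of fun j i => MvPolynomial.pderiv (I i) (F j))) ∉ q := by
  classical
  have hφ : Function.Surjective (Ideal.Quotient.mkₐ R (Ideal.span (Set.range F))) :=
    Ideal.Quotient.mkₐ_surjective R _
  have hker : RingHom.ker (Ideal.Quotient.mkₐ R (Ideal.span (Set.range F))).toRingHom =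
      Ideal.span (Set.range F) := Ideal.mk_ker
  haveI hfp : Algebra.FinitePresentation R (Synt.RelGCIRing R n c F) :=
    Algebra.FinitePresentation.quotient (Submodule.fg_span (Set.finite_range F))
  constructor
  · intro hsm
    haveI := hsm
    obtain ⟨a, haq, c', rows, cols, a', haa, hkill⟩ :=
      Groth.Agent.S2108.result F (Ideal.Quotient.mkₐ R (Ideal.span (Set.range F))) hφ hker q
    obtain ⟨P, hPn, hPc, ⟨a'', haa''⟩, hKT⟩ :=
      Groth.Agent.Lib.Helper62.ElemStdPerm.exists_marked_of_rows_cols F
        (Ideal.Quotient.mkₐ R (Ideal.span (Set.range F))) hφ hker rows cols a a' haa hkill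
    haveI hss : Algebra.IsStandardSmoothOfRelativeDimension (n - c') R (Localization.Away a) := by
      have := Groth.Agent.Lib.Helper62.ElemStdDim.isStandardSmoothOfRelativeDimension_of_marked
        a P a'' haa'' hKT
      rwa [hPn, hPc] at this
    have hle := Groth.Agent.Lib.Helper62.FibDim.le_ringKrullDim_fiber R
      (Synt.RelGCIRing R n c F) a (n - c') q haq
    haveI hp : (q.comap (algebraMap R (Synt.RelGCIRing R n c F))).IsPrime :=
      Ideal.comap_isPrime _ _
    have hnt : Nontrivial ((q.comap (algebraMap R (Synt.RelGCIRing R n c F))).Fiber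
        (Synt.RelGCIRing R n c F)) := by
      by_contra hnt
      rw [not_nontrivial_iff_subsingleton] at hnt
      rw [ringKrullDim_eq_bot_of_subsingleton] at hle
      simp at hle
    obtain ⟨hcn, hdim⟩ := hF ⟨q.comap (algebraMap R (Synt.RelGCIRing R n c F)), hp⟩ hnt
    change ringKrullDim ((q.comap (algebraMap R (Synt.RelGCIRing R n c F))).Fiber
        (Synt.RelGCIRing R n c F)) = _ at hdim
    rw [hdim] at hle
    have hle' : n - c' ≤ n - c := by exact_mod_cast hle
    have hc'c : c' ≤ c := by simpa using Fintype.card_le_of_embedding rows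
    have hcc : c' = c := by omega
    subst hcc
    have hbij : Function.Bijective rows := Finite.injective_iff_bijective.mp rows.injective
    let ρ : Equiv.Perm (Fin c') := Equiv.ofBijective rows hbij
    refine ⟨cols, ?_⟩
    have hdet : Smoothing.jacobianMinor F rows cols =
        (Equiv.Perm.sign ρ : ℤ) • Matrix.det (Matrix.of fun j i =>
          MvPolynomial.pderiv (cols i) (F j)) := by
      unfold Smoothing.jacobianMinor
      have : (Matrix.of fun j k : Fin c' => MvPolynomial.pderiv (cols k) (F (rows j))) =
          (Matrix.of fun j i => MvPolynomial.pderiv (cols i) (F j)).submatrix ρ id := by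
        refine Matrix.ext fun j k => ?_
        rfl
      rw [this, Matrix.det_permute]
      simp
    intro hmem
    apply haq
    rw [haa, hdet]
    apply Ideal.mul_mem_left
    rw [map_zsmul]
    exact Submodule.smul_of_tower_mem _ _ hmem
  · rintro ⟨I, hI⟩
    have hes : Smoothing.IsElementaryStandard R (Synt.RelGCIRing R n c F)
        (Ideal.Quotient.mk (Ideal.span (Set.range F))
          (Matrix.det (Matrix.of fun j i => MvPolynomial.pderiv (I i) (F j)))) := by
      refine Groth.Agent.Lib.Helper62.ElemStdPerm.isElementaryStandard_of_rows_cols F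
        (Ideal.Quotient.mkₐ R (Ideal.span (Set.range F))) hφ hker
        (Function.Embedding.refl _) I _ 1 ?_ ?_
      · rw [one_mul]
        rfl
      · intro a₁ _ ℓ
        refine Ideal.mem_sup_left (Ideal.mul_mem_left _ _ (Ideal.subset_span ⟨ℓ, rfl⟩))
    haveI hstd := Groth.Agent.S2032.result _ hes
    haveI : Algebra.Smooth R (Localization.Away (Ideal.Quotient.mk (Ideal.span (Set.range F))
          (Matrix.det (Matrix.of fun j i => MvPolynomial.pderiv (I i) (F j))))) := inferInstance
    have hsub := Algebra.basicOpen_subset_smoothLocus_iff_smooth.mpr this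
    exact hsub (show (⟨q, inferInstance⟩ : PrimeSpectrum _) ∈ PrimeSpectrum.basicOpen _ from hI)

end Groth.Agent.S9441
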