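import Groth.Statements.S9444
import Mathlib
import Groth.Agent.S9443
import Groth.Agent.S9455

set_option autoImplicit false
universe u
open CAlg

namespace Groth.Agent.S9444

open IsLocalRing

universe v w

/-- Any extension of a field of characteristic zero is formally smooth. -/
theorem formallySmooth_of_charZero' {E : Type v} {F : Type w} [Field E] [Field F] [Algebra E F]
    [CharZero E] : Algebra.FormallySmooth E F := by
  obtain ⟨s, hs⟩ := exists_isTranscendenceBasis E F
  haveI : Algebra.IsAlgebraic (IntermediateField.adjoin E (Set.range ((↑) : s → F))) F :=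
    hs.isAlgebraic_field
  haveI : CharZero (IntermediateField.adjoin E (Set.range ((↑) : s → F))) :=
    charZero_of_injective_algebraMap
      (algebraMap E (IntermediateField.adjoin E (Set.range ((↑) : s → F)))).injective
  exact Algebra.FormallySmooth.of_algebraicIndependent_of_isSeparable hs.1

/-- **Existence of a coefficient field**: a complete local ring which is an algebra over a field
`E` over which its residue field is formally smooth has a section of the residue map. -/
theorem exists_section_of_formallySmooth (E R : Type u) [Field E] [CommRing R] [IsLocalRing R]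
    [IsAdicComplete (maximalIdeal R) R] [Algebra E R]
    [Algebra.FormallySmooth E (ResidueField R)] :
    ∃ g : ResidueField R →+* R, ∀ x, residue R (g x) = x := by
  obtain ⟨g, hg⟩ := Algebra.FormallySmooth.exists_mkₐ_comp_eq_of_isAdicComplete
    (R := E) (A := ResidueField R) (S := R) (I := maximalIdeal R)
    (AlgHom.id E (ResidueField R) : ResidueField R →ₐ[E] R ⧸ maximalIdeal R)
  refine ⟨g.toRingHom, fun x => ?_⟩
  exact congrArg (fun φ : ResidueField R →ₐ[E] R ⧸ maximalIdeal R => φ x) hg

theorem result_of_section (R : Type u)
    [CommRing R] [IsRegularLocalRing R] [IsAdicComplete (IsLocalRing.maximalIdeal R) R]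
    (g : ResidueField R →+* R) (hg : ∀ x, residue R (g x) = x) :
    ∃ d : ℕ, Nonempty (R ≃+* MvPowerSeries (Fin d) (IsLocalRing.ResidueField R)) := by
  letI : Algebra (ResidueField R) R := g.toAlgebra
  obtain ⟨d, ⟨e⟩⟩ := Groth.Agent.S9443.result R (ResidueField R) (by
    constructor
    · intro a b hab
      exact (hg a).symm.trans (hab.trans (hg b))
    · intro a
      exact ⟨a, hg a⟩)
  exact ⟨d, ⟨e.toRingEquiv⟩⟩

/-- A complete regular local ring containing a field (that is, containing the prime field F_p or ℚ) is
isomorphic to a power series ring in finitely many variables over its residue field (existence of an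
isomorphism only). -/
theorem result (R : Type u)
    [CommRing R] [IsRegularLocalRing R] [IsAdicComplete (IsLocalRing.maximalIdeal R) R]
    (k₀ : Type u) [Field k₀] [Algebra k₀ R] :
    ∃ d : ℕ, Nonempty (R ≃+* MvPowerSeries (Fin d) (IsLocalRing.ResidueField R)) := by
  obtain h0 | ⟨p, hp, hpk⟩ := CharP.exists' k₀
  · haveI : Algebra.FormallySmooth k₀ (ResidueField R) := formallySmooth_of_charZero'
    obtain ⟨g, hg⟩ := exists_section_of_formallySmooth k₀ R
    exact result_of_section R g hg
  · haveI : CharP (ResidueField R) p :=
      charP_of_injective_algebraMap (algebraMap k₀ (ResidueField R)).injective p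
    letI : Algebra (ULift.{u} (ZMod p)) k₀ :=
      ((ZMod.castHom (dvd_refl p) k₀).comp ULift.ringEquiv.toRingHom).toAlgebra
    letI : Algebra (ULift.{u} (ZMod p)) R :=
      ((algebraMap k₀ R).comp (algebraMap (ULift.{u} (ZMod p)) k₀)).toAlgebra
    haveI : Algebra.FormallySmooth (ULift.{u} (ZMod p)) (ResidueField R) :=
      Groth.Agent.S9455.formallySmooth_ulift_zmod p (ResidueField R)
    obtain ⟨g, hg⟩ := exists_section_of_formallySmooth (ULift.{u} (ZMod p)) R
    exact result_of_section R g hg

end Groth.Agent.S9444
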