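import Groth.Statements.S9445
import Groth.Agent.Lib.Helper14.DiffEtaleLift

set_option autoImplicit false
universe u
open CAlg

namespace Groth.Agent.S9445

open Groth.Agent.Lib.Helper14.DiffEtaleLift

section aux

open TensorProduct

variable (R : Type u) [CommRing R]
    (S : Type u) [CommRing S] [Algebra R S] (S' : Type u) [CommRing S'] [Algebra R S']
    [Algebra S S'] [IsScalarTower R S S'] (k : ℕ)

/-- `P^k_{S'/R}` -/
abbrev Pk : Type u := (S' ⊗[R] S') ⧸ (KaehlerDifferential.ideal R S') ^ (k + 1)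

/-- the map of the statement -/
noncomputable def φk : Qk R S S' k →+* Pk R S' k :=
  Ideal.quotientMap (KaehlerDifferential.ideal R S' ^ (k + 1)) (φ R S S').toRingHom
    (Ideal.le_comap_pow (φ R S S').toRingHom (K := KaehlerDifferential.ideal R S') (k + 1))

theorem φk_mk (x : S' ⊗[R] S) :
    φk R S S' k (Ideal.Quotient.mk _ x) = Ideal.Quotient.mk _ (φ R S S' x) :=
  Ideal.quotientMap_mk

theorem pow_le_ker' :
    (KaehlerDifferential.ideal R S') ^ (k + 1)
      ≤ RingHom.ker (Algebra.TensorProduct.lmul' R (S := S')).toRingHom := by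
  refine le_trans (Ideal.pow_le_self (by omega)) ?_
  exact le_of_eq rfl

/-- multiplication on `Pk` -/
noncomputable def μ' : Pk R S' k →+* S' :=
  Ideal.Quotient.lift _ (Algebra.TensorProduct.lmul' R (S := S')).toRingHom
    (fun x hx => pow_le_ker' R S' k hx)

theorem μ'_mk (y : S' ⊗[R] S') :
    μ' R S' k (Ideal.Quotient.mk _ y) = Algebra.TensorProduct.lmul' R (S := S') y :=
  Ideal.Quotient.lift_mk _ _ _

theorem isNilpotent_ker_μ' : IsNilpotent (RingHom.ker (μ' R S' k)) := by
  refine ⟨k + 1, ?_⟩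
  rw [μ', Ideal.ker_quotient_lift]
  have : RingHom.ker (Algebra.TensorProduct.lmul' R (S := S')).toRingHom
      = KaehlerDifferential.ideal R S' := rfl
  rw [this, ← Ideal.map_pow, Ideal.map_quotient_self]
  rfl

theorem μ'_φk (x : Qk R S S' k) : μ' R S' k (φk R S S' k x) = μk R S S' k x := by
  obtain ⟨x, rfl⟩ := Ideal.Quotient.mk_surjective x
  rw [φk_mk, μ'_mk, μk_mk]
  rfl

variable [Algebra.FormallyEtale S S']

theorem tmul_alg_eq (r : R) :
    ((1 : S') ⊗ₜ[R] algebraMap R S r) = (algebraMap R S' r ⊗ₜ[R] (1 : S)) := by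
  rw [Algebra.algebraMap_eq_smul_one, Algebra.algebraMap_eq_smul_one, TensorProduct.tmul_smul,
    TensorProduct.smul_tmul']

/-- left structure as an algebra map -/
noncomputable def f₁ : S' →ₐ[R] Qk R S S' k :=
  { lk R S S' k with
    commutes' := fun r => by
      change Ideal.Quotient.mk _ (algebraMap R S' r ⊗ₜ[R] (1 : S)) = _
      rfl }

/-- lifted right structure as an algebra map -/
noncomputable def f₂ : S' →ₐ[R] Qk R S S' k :=
  { σ R S S' k with
    commutes' := fun r => by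
      change σ R S S' k (algebraMap R S' r) = _
      rw [IsScalarTower.algebraMap_apply R S S', σ_algebraMap, tmul_alg_eq]
      rfl }

theorem f₁_apply (a : S') : f₁ R S S' k a = Ideal.Quotient.mk _ (a ⊗ₜ[R] (1 : S)) := rfl
theorem f₂_apply (a : S') : f₂ R S S' k a = σ R S S' k a := rfl

noncomputable def ψt : S' ⊗[R] S' →ₐ[R] Qk R S S' k :=
  Algebra.TensorProduct.productMap (f₁ R S S' k) (f₂ R S S' k)

theorem ψt_tmul (a b : S') :
    ψt R S S' k (a ⊗ₜ[R] b) = Ideal.Quotient.mk _ (a ⊗ₜ[R] (1 : S)) * σ R S S' k b := by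
  simp [ψt, f₁_apply, f₂_apply]

theorem map_ideal_le :
    (KaehlerDifferential.ideal R S').map (ψt R S S' k).toRingHom ≤ RingHom.ker (μk R S S' k) := by
  rw [← KaehlerDifferential.span_range_eq_ideal, Ideal.map_span, Ideal.span_le]
  rintro _ ⟨_, ⟨b, rfl⟩, rfl⟩
  have := σ_sub_mem R S S' k b
  change (ψt R S S' k) ((1 : S') ⊗ₜ[R] b - b ⊗ₜ[R] (1 : S')) ∈ _
  rw [map_sub, ψt_tmul, ψt_tmul, map_one, mul_one]
  have h1 : (Ideal.Quotient.mk (I R S S' ^ (k + 1))) ((1 : S') ⊗ₜ[R] (1 : S)) = 1 := by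
    rw [← Algebra.TensorProduct.one_def, map_one]
  rw [h1, one_mul]
  exact this

theorem ψt_vanish (y : S' ⊗[R] S') (hy : y ∈ (KaehlerDifferential.ideal R S') ^ (k + 1)) :
    (ψt R S S' k).toRingHom y = 0 := by
  have h1 : (ψt R S S' k).toRingHom y ∈
      ((KaehlerDifferential.ideal R S') ^ (k + 1)).map (ψt R S S' k).toRingHom :=
    Ideal.mem_map_of_mem _ hy
  rw [Ideal.map_pow] at h1
  have h2 := Ideal.pow_right_mono (map_ideal_le R S S' k) (k + 1) h1
  rw [ker_μk_pow] at h2
  simpa using h2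

noncomputable def ψk : Pk R S' k →+* Qk R S S' k :=
  Ideal.Quotient.lift _ (ψt R S S' k).toRingHom (ψt_vanish R S S' k)

theorem ψk_mk (y : S' ⊗[R] S') : ψk R S S' k (Ideal.Quotient.mk _ y) = ψt R S S' k y :=
  Ideal.Quotient.lift_mk _ _ _

theorem mk_tmul_split (a : S') (s : S) :
    (Ideal.Quotient.mk (I R S S' ^ (k + 1))) (a ⊗ₜ[R] s)
      = (Ideal.Quotient.mk _) (a ⊗ₜ[R] (1 : S)) * (Ideal.Quotient.mk _) ((1 : S') ⊗ₜ[R] s) := by
  rw [← map_mul, Algebra.TensorProduct.tmul_mul_tmul, mul_one, one_mul]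

theorem ψk_φk (x : Qk R S S' k) : ψk R S S' k (φk R S S' k x) = x := by
  obtain ⟨x, rfl⟩ := Ideal.Quotient.mk_surjective x
  induction x using TensorProduct.induction_on with
  | zero => simp
  | tmul a s =>
    rw [φk_mk, φ_tmul, ψk_mk, ψt_tmul, σ_algebraMap, ← mk_tmul_split]
  | add x y hx hy => rw [map_add, map_add, map_add, hx, hy]

theorem φk_σ (b : S') :
    φk R S S' k (σ R S S' k b) = Ideal.Quotient.mk _ ((1 : S') ⊗ₜ[R] b) := by
  have := lift_unique (S := S) (S' := S') (μ' R S' k) (isNilpotent_ker_μ' R S' k)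
    ((φk R S S' k).comp (σ R S S' k))
    ((Ideal.Quotient.mk _).comp
      (Algebra.TensorProduct.includeRight : S' →ₐ[R] S' ⊗[R] S').toRingHom) ?_ ?_
  · exact RingHom.congr_fun this b
  · intro s
    simp only [RingHom.comp_apply]
    rw [σ_algebraMap, φk_mk, φ_tmul]
    rfl
  · intro a
    simp only [RingHom.comp_apply]
    rw [μ'_φk, μk_σ]
    change _ = μ' R S' k (Ideal.Quotient.mk _ ((1 : S') ⊗ₜ[R] a))
    rw [μ'_mk]
    simp

theorem φk_ψk (y : Pk R S' k) : φk R S S' k (ψk R S S' k y) = y := by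
  obtain ⟨y, rfl⟩ := Ideal.Quotient.mk_surjective y
  induction y using TensorProduct.induction_on with
  | zero => simp
  | tmul a b =>
    rw [ψk_mk, ψt_tmul, map_mul, φk_σ, φk_mk, φ_tmul, map_one, ← map_mul,
      Algebra.TensorProduct.tmul_mul_tmul, mul_one, one_mul]
  | add x y hx hy => rw [map_add, map_add, map_add, hx, hy]

theorem φk_bijective : Function.Bijective (φk R S S' k) :=
  ⟨Function.LeftInverse.injective (ψk_φk R S S' k),
    Function.RightInverse.surjective (φk_ψk R S S' k)⟩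

end aux

open TensorProduct in
/-- For ring maps R → S → S' with S → S' formally étale and k ≥ 0, let J' ⊆ S' ⊗_R S' be the kernel of
multiplication and I ⊆ S' ⊗_R S its preimage under the map induced by S → S' (I is the kernel of S'
⊗_R S → S', and (S' ⊗_R S)/I^{k+1} is S' ⊗_S P^k_{S/R}); then (S' ⊗_R S)/I^{k+1} → (S' ⊗_R
S')/J'^{k+1} is bijective. (The consequence S' ⊗_S Ω_{S/R} ≅ Ω_{S'/R} is Mathlib's
KaehlerDifferential.isBaseChange_of_formallyEtale.) -/
theorem result (R : Type u) [CommRing R]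
    (S : Type u) [CommRing S] [Algebra R S] (S' : Type u) [CommRing S'] [Algebra R S']
    [Algebra S S'] [IsScalarTower R S S'] [Algebra.FormallyEtale S S'] (k : ℕ) :
    Function.Bijective (Ideal.quotientMap (KaehlerDifferential.ideal R S' ^ (k + 1))
      (Algebra.TensorProduct.map (AlgHom.id S' S') (IsScalarTower.toAlgHom R S S')).toRingHom
      (Ideal.le_comap_pow
        (Algebra.TensorProduct.map (AlgHom.id S' S') (IsScalarTower.toAlgHom R S S')).toRingHom
        (K := KaehlerDifferential.ideal R S') (k + 1))) :=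
  φk_bijective R S S' k

end Groth.Agent.S9445
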