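import Groth.Statements.S9446
import Mathlib
-- import your own Groth.Agent.* helpers here

set_option autoImplicit false
universe u
open CAlg

namespace Groth.Agent.S9446

section Aux
open TensorProduct

theorem flat_of_indSmooth (R : Type u) [CommRing R] (S : Type u) [CommRing S] [Algebra R S]
    (hS : Smoothing.IndSmooth R S) : Module.Flat R S := by
  classical
  refine Module.Flat.of_forall_isTrivialRelation ?_
  intro l f x hfx
  let rel : MvPolynomial (Fin l) R := ∑ i, MvPolynomial.C (f i) * MvPolynomial.X i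
  let J : Ideal (MvPolynomial (Fin l) R) := Ideal.span {rel}
  have hP : Algebra.FinitePresentation R (MvPolynomial (Fin l) R ⧸ J) :=
    Algebra.FinitePresentation.quotient (Submodule.fg_span (Set.finite_singleton rel))
  let φ₀ : MvPolynomial (Fin l) R →ₐ[R] S := MvPolynomial.aeval x
  have hrel : φ₀ rel = 0 := by
    simp only [rel, φ₀, map_sum, map_mul, MvPolynomial.aeval_C, MvPolynomial.aeval_X]
    simpa [Algebra.smul_def] using hfx
  have hφ₀ : ∀ a ∈ J, φ₀ a = 0 := by
    intro a ha
    have hle : J ≤ RingHom.ker φ₀.toRingHom := by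
      rw [Ideal.span_le, Set.singleton_subset_iff]
      exact hrel
    exact hle ha
  let φ : (MvPolynomial (Fin l) R ⧸ J) →ₐ[R] S := Ideal.Quotient.liftₐ J φ₀ hφ₀
  obtain ⟨T, _, _, hT, g, h, hgh⟩ := hS _ hP φ
  haveI := hT
  let t : Fin l → T := fun i => g (Ideal.Quotient.mkₐ R J (MvPolynomial.X i))
  have ht : ∑ i, f i • t i = 0 := by
    have h1 : (∑ i, f i • t i) = g (Ideal.Quotient.mkₐ R J rel) := by
      simp only [rel, t, map_sum, map_mul]
      refine Finset.sum_congr rfl fun i _ => ?_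
      rw [← MvPolynomial.algebraMap_eq, AlgHom.commutes, AlgHom.commutes, Algebra.smul_def]
    rw [h1]
    have : Ideal.Quotient.mkₐ R J rel = 0 :=
      Ideal.Quotient.eq_zero_iff_mem.mpr (Ideal.subset_span rfl)
    rw [this, map_zero]
  obtain ⟨k, a, y, hy1, hy2⟩ := Module.Flat.isTrivialRelation_of_sum_smul_eq_zero (R := R) (M := T) (f := f) (x := t) ht
  refine ⟨k, a, fun j => h (y j), fun i => ?_, hy2⟩
  have hx : x i = h (t i) := by
    have := congr($hgh (Ideal.Quotient.mkₐ R J (MvPolynomial.X i)))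
    simp only [AlgHom.comp_apply] at this
    show x i = h (g (Ideal.Quotient.mkₐ R J (MvPolynomial.X i)))
    rw [this]
    simp [φ, φ₀]
  rw [hx, hy1 i, map_sum]
  simp

theorem finite_stage {R : Type u} [CommRing R] {S : Type u} [CommRing S] [Algebra R S]
    [Module.Flat R S] {F : Type u} [CommRing F] [Algebra R F] [Algebra.FinitePresentation R F]
    {B : Type u} [CommRing B] [Algebra R B] (g : F →ₐ[R] S) (w : F ⊗[R] B)
    (hw : Algebra.TensorProduct.map g (AlgHom.id R B) w = 0) :
    ∃ (P : Type u) (_ : CommRing P) (_ : Algebra R P), Algebra.FinitePresentation R P ∧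
      ∃ (u : F →ₐ[R] P) (v : P →ₐ[R] S), v.comp u = g ∧
        Algebra.TensorProduct.map u (AlgHom.id R B) w = 0 := by
  classical
  obtain ⟨fs, hfs⟩ := TensorProduct.exists_finset w
  subst hfs
  have h0' : ∑ i ∈ fs, i.2 ⊗ₜ[R] g i.1 = (0 : B ⊗[R] S) := by
    have := congrArg (TensorProduct.comm R S B) hw
    simpa only [map_sum, Algebra.TensorProduct.map_tmul, TensorProduct.comm_tmul, AlgHom.coe_id,
      id_eq, map_zero] using this
  have h0 : ∑ i : fs, (i.1.2 : B) ⊗ₜ[R] g i.1.1 = (0 : B ⊗[R] S) := by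
    rw [Finset.sum_coe_sort fs (fun i => i.2 ⊗ₜ[R] g i.1)]
    exact h0'
  have hinj : Function.Injective
      (LinearMap.rTensor S (Submodule.span R (Set.range fun i : fs => (i.1.2 : B))).subtype) :=
    Module.Flat.rTensor_preserves_injective_linearMap _ Subtype.val_injective
  obtain ⟨k, a, y, hy1, hy2⟩ :=
    TensorProduct.vanishesTrivially_of_sum_tmul_eq_zero_of_rTensor_injective R
      (m := fun i : fs => (i.1.2 : B)) (n := fun i : fs => g i.1.1) hinj h0
  replace hy1 : ∀ i : fs, g i.1.1 = ∑ j, a i j • y j := hy1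
  replace hy2 : ∀ j, ∑ i : fs, a i j • (i.1.2 : B) = 0 := hy2
  letI algFS : Algebra F S := g.toRingHom.toAlgebra
  haveI : IsScalarTower R F S := IsScalarTower.of_algebraMap_eq' g.comp_algebraMap.symm
  let gen : fs → MvPolynomial (Fin k) F := fun i =>
    MvPolynomial.C i.1.1 - ∑ j, a i j • MvPolynomial.X j
  let J : Ideal (MvPolynomial (Fin k) F) := Ideal.span (Set.range gen)
  have hP : Algebra.FinitePresentation R (MvPolynomial (Fin k) F ⧸ J) :=
    Algebra.FinitePresentation.quotient (Submodule.fg_span (Set.finite_range gen))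
  let v₀ : MvPolynomial (Fin k) F →ₐ[R] S := (MvPolynomial.aeval y).restrictScalars R
  have e1 : ∀ m : F, v₀ (MvPolynomial.C m) = g m := by
    intro m
    show MvPolynomial.aeval y (MvPolynomial.C m) = _
    rw [MvPolynomial.aeval_C]; rfl
  have e2 : ∀ j, v₀ (MvPolynomial.X j) = y j := fun j => by
    show MvPolynomial.aeval y (MvPolynomial.X j) = _
    rw [MvPolynomial.aeval_X]
  have hv₀ : ∀ x ∈ J, v₀ x = 0 := by
    intro x hx
    have hle : J ≤ RingHom.ker v₀.toRingHom := by
      rw [Ideal.span_le]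
      rintro _ ⟨i, rfl⟩
      show v₀ (gen i) = 0
      simp only [gen, map_sub, map_sum, map_smul, e1, e2]
      rw [hy1 i, sub_self]
    exact hle hx
  let v : (MvPolynomial (Fin k) F ⧸ J) →ₐ[R] S := Ideal.Quotient.liftₐ J v₀ hv₀
  let u : F →ₐ[R] (MvPolynomial (Fin k) F ⧸ J) :=
    (Ideal.Quotient.mkₐ R J).comp (IsScalarTower.toAlgHom R F (MvPolynomial (Fin k) F))
  refine ⟨MvPolynomial (Fin k) F ⧸ J, inferInstance, inferInstance, hP, u, v, ?_, ?_⟩
  · refine AlgHom.ext fun x => ?_
    show v₀ (MvPolynomial.C x) = g x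
    exact e1 x
  · have hu : ∀ i : fs, u i.1.1 = ∑ j, a i j • Ideal.Quotient.mkₐ R J (MvPolynomial.X j) := by
      intro i
      have : Ideal.Quotient.mkₐ R J (gen i) = 0 :=
        Ideal.Quotient.eq_zero_iff_mem.mpr (Ideal.subset_span ⟨i, rfl⟩)
      simp only [gen, map_sub, map_sum, map_smul] at this
      exact sub_eq_zero.mp this
    rw [← Finset.sum_coe_sort fs]
    simp only [map_sum, Algebra.TensorProduct.map_tmul, AlgHom.coe_id, id_eq]
    simp_rw [hu, TensorProduct.sum_tmul, TensorProduct.smul_tmul]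
    rw [Finset.sum_comm]
    simp_rw [← TensorProduct.tmul_sum, hy2, TensorProduct.tmul_zero, Finset.sum_const_zero]

theorem surj_aux {R : Type u} [CommRing R] {S : Type u} [CommRing S] [Algebra R S]
    (hS : Smoothing.IndSmooth R S) [Module.Flat R S] {B : Type u} [CommRing B] [Algebra R B]
    {F₀ : Type u} [CommRing F₀] [Algebra R F₀] [Algebra.FinitePresentation R F₀]
    (g₀ : F₀ →ₐ[R] S) (z₀ : F₀ ⊗[R] B) (p₀ : Polynomial F₀) (hp₀m : p₀.Monic)
    (hw : Polynomial.aeval (Algebra.TensorProduct.map g₀ (AlgHom.id R B) z₀)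
      (p₀.map (g₀ : F₀ →+* S)) = 0) :
    ∃ x : S ⊗[R] integralClosure R B,
      Algebra.TensorProduct.map (AlgHom.id S S) (integralClosure R B).val x =
        Algebra.TensorProduct.map g₀ (AlgHom.id R B) z₀ := by
  classical
  have key : ∀ (Q : Type u) [CommRing Q] [Algebra R Q] (u : F₀ →ₐ[R] Q),
      Algebra.TensorProduct.map u (AlgHom.id R B) (Polynomial.aeval z₀ p₀) =
        Polynomial.aeval (Algebra.TensorProduct.map u (AlgHom.id R B) z₀)
          (p₀.map (u : F₀ →+* Q)) := by
    intro Q _ _ u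
    exact Polynomial.map_aeval_eq_aeval_map (φ := (u : F₀ →+* Q))
      (ψ := (Algebra.TensorProduct.map u (AlgHom.id R B) : F₀ ⊗[R] B →+* Q ⊗[R] B))
      (RingHom.ext fun x => by simp [Algebra.TensorProduct.algebraMap_apply]) p₀ z₀
  have hw' : Algebra.TensorProduct.map g₀ (AlgHom.id R B) (Polynomial.aeval z₀ p₀) = 0 := by
    rw [key S g₀]; exact hw
  obtain ⟨P, _, _, hP, u, v, huv, hu0⟩ := finite_stage g₀ _ hw'
  obtain ⟨T, _, _, hT, g, h, hgh⟩ := hS P hP v
  haveI := hT
  have hu' : h.comp (g.comp u) = g₀ := by rw [← huv, ← hgh]; rfl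
  have hzT : IsIntegral T (Algebra.TensorProduct.map (g.comp u) (AlgHom.id R B) z₀) := by
    refine ⟨p₀.map ((g.comp u : F₀ →ₐ[R] T) : F₀ →+* T), hp₀m.map _, ?_⟩
    rw [← Polynomial.aeval_def, ← key T (g.comp u)]
    have : Algebra.TensorProduct.map (g.comp u) (AlgHom.id R B) (Polynomial.aeval z₀ p₀) =
        Algebra.TensorProduct.map g (AlgHom.id R B)
          (Algebra.TensorProduct.map u (AlgHom.id R B) (Polynomial.aeval z₀ p₀)) := by
      rw [← AlgHom.comp_apply, ← Algebra.TensorProduct.map_comp, AlgHom.id_comp]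
    rw [this, hu0, map_zero]
  obtain ⟨yT, hyT⟩ :=
    (TensorProduct.toIntegralClosure_bijective_of_smooth (R := R) (S := T) (B := B)).2
      ⟨_, hzT⟩
  have hyT' : Algebra.TensorProduct.map (AlgHom.id T T) (integralClosure R B).val yT =
      Algebra.TensorProduct.map (g.comp u) (AlgHom.id R B) z₀ := congrArg Subtype.val hyT
  refine ⟨Algebra.TensorProduct.map h (AlgHom.id R (integralClosure R B)) yT, ?_⟩
  have comm : ∀ y : T ⊗[R] integralClosure R B,
      Algebra.TensorProduct.map (AlgHom.id S S) (integralClosure R B).val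
        (Algebra.TensorProduct.map h (AlgHom.id R (integralClosure R B)) y) =
      Algebra.TensorProduct.map h (AlgHom.id R B)
        (Algebra.TensorProduct.map (AlgHom.id T T) (integralClosure R B).val y) := by
    intro y
    induction y using TensorProduct.induction_on with
    | zero => simp
    | tmul a b => simp
    | add a b ha hb => simp only [map_add, ha, hb]
  rw [comm, hyT', ← AlgHom.comp_apply, ← Algebra.TensorProduct.map_comp, AlgHom.id_comp, hu']

end Aux

/-- If S is ind-smooth over R (every R-algebra map into S from a finitely presented R-algebra factors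
through a smooth R-algebra) then for every R-algebra B the canonical map S ⊗_R A → A', from the base
change of the integral closure A of R in B to the integral closure A' of S in S ⊗_R B, is bijective. -/
theorem result (R : Type u) [CommRing R] (S : Type u)
    [CommRing S] [Algebra R S] (hS : Smoothing.IndSmooth R S) (B : Type u) [CommRing B]
    [Algebra R B] : Function.Bijective (TensorProduct.toIntegralClosure R S B) := by
  classical
  haveI : Module.Flat R S := flat_of_indSmooth R S hS
  refine ⟨TensorProduct.toIntegralClosure_injective_of_flat, ?_⟩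
  rintro ⟨z, hz⟩
  obtain ⟨p, hpm, hpz⟩ := hz
  obtain ⟨fs, hfs⟩ := TensorProduct.exists_finset z
  obtain ⟨g₀, hg1, hg2⟩ : ∃ g₀ : MvPolynomial ({x // x ∈ fs} ⊕ Fin p.natDegree) R →ₐ[R] S,
      (∀ i : {x // x ∈ fs}, g₀ (MvPolynomial.X (Sum.inl i)) = i.1.1) ∧
        ∀ j : Fin p.natDegree, g₀ (MvPolynomial.X (Sum.inr j)) = p.coeff j :=
    ⟨MvPolynomial.aeval (Sum.elim (fun i : {x // x ∈ fs} => i.1.1)
      (fun j : Fin p.natDegree => p.coeff j)), by simp, by simp⟩
  have hp₀m : (Polynomial.X ^ p.natDegree + ∑ j : Fin p.natDegree,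
      Polynomial.C (MvPolynomial.X (Sum.inr j) :
        MvPolynomial ({x // x ∈ fs} ⊕ Fin p.natDegree) R) * Polynomial.X ^ (j : ℕ)).Monic :=
    Polynomial.monic_X_pow_add (Polynomial.degree_sum_fin_lt _)
  have hp₀map : (Polynomial.X ^ p.natDegree + ∑ j : Fin p.natDegree,
      Polynomial.C (MvPolynomial.X (Sum.inr j) :
        MvPolynomial ({x // x ∈ fs} ⊕ Fin p.natDegree) R) * Polynomial.X ^ (j : ℕ)).map
        (g₀ : MvPolynomial ({x // x ∈ fs} ⊕ Fin p.natDegree) R →+* S) = p := by
    simp only [Polynomial.map_add, Polynomial.map_pow, Polynomial.map_X, Polynomial.map_sum,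
      Polynomial.map_mul, Polynomial.map_C, RingHom.coe_coe, hg2]
    conv_rhs => rw [hpm.as_sum]
    congr 1
    rw [← Fin.sum_univ_eq_sum_range (fun i => Polynomial.C (p.coeff i) * Polynomial.X ^ i)
      p.natDegree]
  have hz₀ : Algebra.TensorProduct.map g₀ (AlgHom.id R B)
      (∑ i : {x // x ∈ fs}, (MvPolynomial.X (Sum.inl i) :
        MvPolynomial ({x // x ∈ fs} ⊕ Fin p.natDegree) R) ⊗ₜ[R] (i.1.2 : B)) = z := by
    simp only [map_sum, Algebra.TensorProduct.map_tmul, AlgHom.coe_id, id_eq, hg1]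
    rw [hfs, ← Finset.sum_coe_sort fs]
  obtain ⟨x, hx⟩ := surj_aux hS g₀ _ _ hp₀m (by
    rw [hz₀, hp₀map, Polynomial.aeval_def]; exact hpz)
  exact ⟨x, Subtype.ext (hx.trans hz₀)⟩

end Groth.Agent.S9446
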