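import Groth.Statements.S9447
import Groth.Agent.Lib.Helper54.RGDescent2

set_option autoImplicit false
universe u
open CAlg

namespace Groth.Agent.S9447

open TensorProduct in
/-- Formal smoothness descends along faithfully flat base change: for R → S arbitrary and R → R'
faithfully flat, the R-algebra S is formally smooth exactly when the R'-algebra R' ⊗_R S is formally
smooth. No finiteness hypothesis on S. -/
theorem result (R : Type u) [CommRing R]
    (S : Type u) [CommRing S] [Algebra R S] (R' : Type u) [CommRing R'] [Algebra R R']
    [Module.FaithfullyFlat R R'] :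
    Algebra.FormallySmooth R S ↔ Algebra.FormallySmooth R' (R' ⊗[R] S) := by
  classical
  constructor
  · intro h
    infer_instance
  · intro h
    letI : Algebra S (R' ⊗[R] S) := Algebra.TensorProduct.rightAlgebra
    have hst : IsScalarTower R S (R' ⊗[R] S) := IsScalarTower.of_algebraMap_eq fun x => by
      rw [Algebra.TensorProduct.right_algebraMap_apply,
        IsScalarTower.algebraMap_apply R R' (R' ⊗[R] S),
        Algebra.TensorProduct.algebraMap_apply, Algebra.algebraMap_self, RingHom.id_apply]
      exact Algebra.TensorProduct.tmul_one_eq_one_tmul x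
    have hpo : Algebra.IsPushout R R' S (R' ⊗[R] S) := inferInstance
    have hff : Module.FaithfullyFlat S (R' ⊗[R] S) :=
      RingHom.faithfullyFlat_algebraMap_iff.mp
        (RingHom.FaithfullyFlat.isStableUnderBaseChange R R' S (R' ⊗[R] S)
          (RingHom.faithfullyFlat_algebraMap_iff.mpr inferInstance))
    refine ⟨?_, ?_⟩
    · have e := KaehlerDifferential.tensorKaehlerEquiv R R' S (R' ⊗[R] S)
      have : Module.Projective (R' ⊗[R] S) ((R' ⊗[R] S) ⊗[S] Ω[S⁄R]) :=
        Module.Projective.of_equiv e.symm
      exact Groth.Agent.Lib.Helper54.RG.projective_of_faithfullyFlat_baseChange S (R' ⊗[R] S) _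
    · have e := Algebra.tensorH1CotangentOfFlat R S R'
      have : Subsingleton (R' ⊗[R] Algebra.H1Cotangent R S) := e.toEquiv.subsingleton
      exact (Module.FaithfullyFlat.lTensor_reflects_triviality R R' _)

end Groth.Agent.S9447
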