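import Groth.Statements.S9448
import Groth.Agent.Lib.Helper62.DimLoc6
import Mathlib.RingTheory.Etale.Locus

set_option autoImplicit false
set_option linter.style.haveILetI false
universe u
open Unram

namespace Groth.Agent.S9448

/-- For a field k and a finite type algebra A over the polynomial ring k[x_1, …, x_n] (the variables
mapping to a_1, …, a_n), the structure map is étale if and only if (a) the local rings of A at all
maximal ideals have dimension n and (b) da_1, …, da_n generate the module of differentials of A over
k. -/
theorem result (k : Type u) [Field k] (n : ℕ)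
    (A : Type u) [CommRing A] [Algebra k A] [Algebra (MvPolynomial (Fin n) k) A]
    [IsScalarTower k (MvPolynomial (Fin n) k) A] [Algebra.FiniteType (MvPolynomial (Fin n) k) A] :
    Algebra.Etale (MvPolynomial (Fin n) k) A ↔
      (∀ (m : Ideal A) [m.IsMaximal], ringKrullDim (Localization.AtPrime m) = n) ∧
        Submodule.span A (Set.range fun i : Fin n =>
          KaehlerDifferential.D k A (algebraMap (MvPolynomial (Fin n) k) A (MvPolynomial.X i))) = ⊤ := by
  classical
  haveI : Algebra.FiniteType k (MvPolynomial (Fin n) k) := inferInstance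
  haveI hftA : Algebra.FiniteType k A :=
    Algebra.FiniteType.trans (inferInstance : Algebra.FiniteType k (MvPolynomial (Fin n) k))
      inferInstance
  haveI : Algebra.FinitePresentation (MvPolynomial (Fin n) k) A :=
    Algebra.FinitePresentation.of_finiteType.mp inferInstance
  haveI : Module.Free (MvPolynomial (Fin n) k) Ω[MvPolynomial (Fin n) k⁄k] :=
    Module.Free.of_basis (KaehlerDifferential.mvPolynomialBasis k (Fin n))
  have hrk : Module.finrank (MvPolynomial (Fin n) k) Ω[MvPolynomial (Fin n) k⁄k] = n := by
    rw [Module.finrank_eq_card_basis (KaehlerDifferential.mvPolynomialBasis k (Fin n)),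
      Fintype.card_fin]
  have hiff := Groth.Agent.Lib.Helper62.DimLoc.subsingleton_kaehler_iff_span_eq_top k n A
  rw [← hiff]
  have hdimloc : ∀ (m : Ideal A) [m.IsMaximal], ringKrullDim (Localization.AtPrime m) =
      FlatMor.localDim (PrimeSpectrum A) ⟨m, inferInstance⟩ := by
    intro m hm
    rw [Groth.Agent.Lib.Helper62.DimLoc.localDim_eq_compDim k A ⟨m, inferInstance⟩,
      ← Groth.Agent.Lib.Helper62.DimLoc.height_eq_compDim_of_isMaximal k A m,
      IsLocalization.AtPrime.ringKrullDim_eq_height m (Localization.AtPrime m)]
  constructor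
  · intro h
    refine ⟨?_, inferInstance⟩
    intro m hm
    haveI : Algebra.FormallySmooth k A :=
      Algebra.FormallySmooth.comp k (MvPolynomial (Fin n) k) A
    haveI : Module.Free A Ω[A⁄k] :=
      Module.Free.of_equiv (KaehlerDifferential.tensorKaehlerEquivOfFormallyEtale k
        (MvPolynomial (Fin n) k) A)
    haveI : Nontrivial A := by
      by_contra hS
      rw [not_nontrivial_iff_subsingleton] at hS
      exact Ideal.IsPrime.ne_top (inferInstance : m.IsPrime) (Subsingleton.elim _ _)
    have hnA : Module.finrank A Ω[A⁄k] = n := by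
      rw [← (KaehlerDifferential.tensorKaehlerEquivOfFormallyEtale k
        (MvPolynomial (Fin n) k) A).finrank_eq, Module.finrank_baseChange, hrk]
    rw [hdimloc m, Groth.Agent.Lib.Helper62.DimLoc.localDim_eq_compDim k A ⟨m, inferInstance⟩]
    exact Groth.Agent.Lib.Helper62.DimLoc.compDim_eq_of_smooth_of_free k A n hnA m
  · rintro ⟨hdim, hsub⟩
    haveI : Algebra.FormallyUnramified (MvPolynomial (Fin n) k) A := ⟨hsub⟩
    rw [← Algebra.etaleLocus_eq_univ_iff_etale]
    have hmax : ∀ (m : Ideal A) [m.IsMaximal],
        (⟨m, inferInstance⟩ : PrimeSpectrum A) ∈ Algebra.etaleLocus (MvPolynomial (Fin n) k) A := by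
      intro m hm
      rw [Algebra.mem_etaleLocus_iff]
      haveI : Algebra.FormallyUnramified A (Localization.AtPrime m) :=
        Algebra.FormallyUnramified.of_isLocalization m.primeCompl
      haveI : Algebra.IsUnramifiedAt (MvPolynomial (Fin n) k) m :=
        Algebra.FormallyUnramified.comp (MvPolynomial (Fin n) k) A (Localization.AtPrime m)
      refine Groth.Agent.Lib.Helper62.DimLoc.isEtaleAt_of_isUnramifiedAt k
        (MvPolynomial (Fin n) k) A n hrk m (le_of_eq ?_)
      rw [← hdimloc m, hdim m]
    have hopen := Algebra.isOpen_etaleLocus (R := MvPolynomial (Fin n) k) (A := A)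
    rw [← isClosed_compl_iff, PrimeSpectrum.isClosed_iff_zeroLocus_ideal] at hopen
    obtain ⟨I, hI⟩ := hopen
    by_cases hItop : I = ⊤
    · rw [hItop, PrimeSpectrum.zeroLocus_empty_of_one_mem (by exact Submodule.mem_top)] at hI
      rw [← compl_compl (Algebra.etaleLocus (MvPolynomial (Fin n) k) A), hI, Set.compl_empty]
    · obtain ⟨m, hm, hIm⟩ := Ideal.exists_le_maximal I hItop
      exfalso
      have h1 : (⟨m, hm.isPrime⟩ : PrimeSpectrum A) ∈
          (Algebra.etaleLocus (MvPolynomial (Fin n) k) A)ᶜ := by
        rw [hI, PrimeSpectrum.mem_zeroLocus]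
        exact hIm
      exact h1 (hmax m)

end Groth.Agent.S9448
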