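import Groth.Statements.S9450
import Mathlib
-- import your own Groth.Agent.* helpers here

set_option autoImplicit false
universe u
open CAlg

namespace Groth.Agent.S9450

/-- For ring maps A → B → C with A → C surjective and A → B formally smooth, writing I = ker(A → C) and
J = ker(B → C), the sequence 0 → I/I² → J/J² → C ⊗_B Ω_{B/A} → 0 is split exact: the first map is
injective and admits an A-linear retraction, its range is the kernel of the second map (class of x ↦
1 ⊗ dx), and the second map is surjective. -/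
theorem result (A : Type u) [CommRing A]
    (B : Type u) [CommRing B] [Algebra A B] [Algebra.FormallySmooth A B] (C : Type u) [CommRing C]
    [Algebra B C] [Algebra A C] [IsScalarTower A B C] (hC : Function.Surjective (algebraMap A C)) :
    Function.Injective (Ideal.mapCotangent (RingHom.ker (algebraMap A C))
        (RingHom.ker (algebraMap B C)) (Algebra.ofId A B)
        (le_of_eq (congrArg RingHom.ker (IsScalarTower.algebraMap_eq A B C)))) ∧
      (∃ r : (RingHom.ker (algebraMap B C)).Cotangent →ₗ[A] (RingHom.ker (algebraMap A C)).Cotangent,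
        r ∘ₗ (Ideal.mapCotangent (RingHom.ker (algebraMap A C)) (RingHom.ker (algebraMap B C))
          (Algebra.ofId A B)
          (le_of_eq (congrArg RingHom.ker (IsScalarTower.algebraMap_eq A B C)))) = LinearMap.id) ∧
      LinearMap.range (Ideal.mapCotangent (RingHom.ker (algebraMap A C))
          (RingHom.ker (algebraMap B C)) (Algebra.ofId A B)
          (le_of_eq (congrArg RingHom.ker (IsScalarTower.algebraMap_eq A B C)))) =
        LinearMap.ker ((KaehlerDifferential.kerCotangentToTensor A B C).restrictScalars A) ∧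
      Function.Surjective (KaehlerDifferential.kerCotangentToTensor A B C) := by
  classical
  set I : Ideal A := RingHom.ker (algebraMap A C) with hI
  set J : Ideal B := RingHom.ker (algebraMap B C) with hJ
  have hle : I ≤ J.comap (Algebra.ofId A B) :=
    le_of_eq (congrArg RingHom.ker (IsScalarTower.algebraMap_eq A B C))
  set ι := Ideal.mapCotangent I J (Algebra.ofId A B) hle with hι
  have hBC : Function.Surjective (algebraMap B C) := by
    intro c
    obtain ⟨a, rfl⟩ := hC c
    exact ⟨algebraMap A B a, (IsScalarTower.algebraMap_apply A B C a).symm⟩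
  let g : A ⧸ I ^ 2 →ₐ[A] C := Ideal.Quotient.liftₐ (I ^ 2) (Algebra.ofId A C)
    (fun a ha => RingHom.mem_ker.1 (Ideal.pow_le_self two_ne_zero ha))
  have hg_mk : ∀ a, g (Ideal.Quotient.mk (I ^ 2) a) = algebraMap A C a := fun a => rfl
  have hg : Function.Surjective g := fun c => by
    obtain ⟨a, rfl⟩ := hC c
    exact ⟨Ideal.Quotient.mk _ a, hg_mk a⟩
  have hker : RingHom.ker (g : A ⧸ I ^ 2 →+* C) ≤ I.cotangentIdeal := by
    intro y hy
    obtain ⟨a, rfl⟩ := Ideal.Quotient.mk_surjective y
    rw [Ideal.mk_mem_cotangentIdeal]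
    exact hy
  have hnil : IsNilpotent (RingHom.ker (g : A ⧸ I ^ 2 →+* C)) :=
    ⟨2, le_bot_iff.1 ((Ideal.pow_right_mono hker 2).trans I.cotangentIdeal_square.le)⟩
  let φ : B →ₐ[A] A ⧸ I ^ 2 :=
    Algebra.FormallySmooth.liftOfSurjective (IsScalarTower.toAlgHom A B C) g hg hnil
  have hφ : ∀ b, g (φ b) = algebraMap B C b := fun b =>
    Algebra.FormallySmooth.liftOfSurjective_apply _ g hg hnil b
  have hφJ : ∀ x ∈ J, φ x ∈ I.cotangentIdeal := fun x hx => hker (by
    rw [RingHom.mem_ker]
    change g (φ x) = 0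
    rw [hφ]
    exact hx)
  -- the retraction
  let r₀ : J →ₗ[A] I.cotangentIdeal :=
    { toFun := fun x => ⟨φ x, hφJ x x.2⟩
      map_add' := fun x y => Subtype.ext (map_add φ _ _)
      map_smul' := fun a x => Subtype.ext (map_smul φ a (x : B)) }
  have hr₀ : ∀ x y : J, r₀ (x * y) = 0 := by
    intro x y
    apply Subtype.ext
    change φ ((x : B) * (y : B)) = 0
    rw [map_mul]
    have h2 : I.cotangentIdeal * I.cotangentIdeal = ⊥ :=
      (sq I.cotangentIdeal).symm.trans I.cotangentIdeal_square
    have : φ x * φ y ∈ I.cotangentIdeal * I.cotangentIdeal :=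
      Ideal.mul_mem_mul (hφJ x x.2) (hφJ y y.2)
    rwa [h2, Ideal.mem_bot] at this
  let r : J.Cotangent →ₗ[A] I.Cotangent :=
    I.cotangentEquivIdeal.symm.toLinearMap ∘ₗ Ideal.Cotangent.lift r₀ hr₀
  have hrι : r ∘ₗ ι = LinearMap.id := by
    apply LinearMap.ext
    intro z
    obtain ⟨⟨a, ha⟩, rfl⟩ := I.toCotangent_surjective z
    rw [LinearMap.comp_apply, hι, Ideal.mapCotangent_toCotangent, LinearMap.id_apply]
    change I.cotangentEquivIdeal.symm (r₀ ⟨algebraMap A B a, _⟩) = _
    rw [LinearEquiv.symm_apply_eq]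
    apply Subtype.ext
    rw [Ideal.cotangentEquivIdeal_apply]
    change φ (algebraMap A B a) = _
    rw [AlgHom.commutes]
    rfl
  have hinj : Function.Injective ι := by
    intro z w hzw
    have := congrArg r hzw
    have e1 : ∀ t, r (ι t) = t := fun t => congrArg (fun F : I.Cotangent →ₗ[A] I.Cotangent => F t) hrι
    rwa [e1, e1] at this
  have hsurj : Function.Surjective (KaehlerDifferential.kerCotangentToTensor A B C) := by
    have hrange := KaehlerDifferential.range_kerCotangentToTensor A B C hBC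
    have hsub : Subsingleton (Ω[C⁄A]) := KaehlerDifferential.subsingleton_of_surjective A C hC
    intro w
    have : w ∈ LinearMap.range (KaehlerDifferential.kerCotangentToTensor A B C) := by
      rw [hrange, Submodule.restrictScalars_mem, LinearMap.mem_ker]
      exact Subsingleton.elim _ _
    exact this
  refine ⟨hinj, ⟨r, hrι⟩, ?_, hsurj⟩
  apply le_antisymm
  · rintro _ ⟨z, rfl⟩
    obtain ⟨⟨a, ha⟩, rfl⟩ := I.toCotangent_surjective z
    rw [LinearMap.mem_ker, LinearMap.restrictScalars_apply, hι, Ideal.mapCotangent_toCotangent,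
      KaehlerDifferential.kerCotangentToTensor_toCotangent]
    change (1 : C) ⊗ₜ[B] KaehlerDifferential.D A B (algebraMap A B a) = 0
    rw [Derivation.map_algebraMap, TensorProduct.tmul_zero]
  · intro z hz
    obtain ⟨⟨x, hx⟩, rfl⟩ := J.toCotangent_surjective z
    rw [LinearMap.mem_ker, LinearMap.restrictScalars_apply,
      KaehlerDifferential.kerCotangentToTensor_toCotangent] at hz
    -- Step 1
    have hDx : KaehlerDifferential.D A B x ∈ (J • ⊤ : Submodule B (Ω[B⁄A])) := by
      let e'' : (B ⧸ J) ≃ₐ[B] C :=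
        Ideal.quotientKerAlgEquivOfSurjective (f := Algebra.ofId B C) hBC
      let e' : (B ⧸ J) ≃ₗ[B] C := e''.toLinearEquiv
      have he1 : e' 1 = 1 := map_one e''
      have h1 : (LinearEquiv.rTensor (Ω[B⁄A]) e')
          ((1 : B ⧸ J) ⊗ₜ[B] KaehlerDifferential.D A B x) = 0 := by
        rw [LinearEquiv.rTensor_tmul, he1]
        exact hz
      have h2 : ((1 : B ⧸ J) ⊗ₜ[B] KaehlerDifferential.D A B x) = 0 :=
        (LinearEquiv.map_eq_zero_iff _).1 h1
      have h3 : KaehlerDifferential.D A B x ∈
          LinearMap.ker (TensorProduct.mk B (B ⧸ J) (Ω[B⁄A]) 1) := h2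
      rwa [LinearMap.ker_tensorProductMk] at h3
    -- Step 2
    have hI2 : I ^ 2 ≤ (J ^ 2).comap (Algebra.ofId A B) :=
      (Ideal.pow_right_mono hle 2).trans (Ideal.le_comap_pow _ 2)
    let ψ : A ⧸ I ^ 2 →ₐ[A] B ⧸ J ^ 2 := Ideal.quotientMapₐ (J ^ 2) (Algebra.ofId A B) hI2
    have hψ : ∀ a, ψ (Ideal.Quotient.mk (I ^ 2) a) = Ideal.Quotient.mk (J ^ 2) (algebraMap A B a) :=
      fun a => rfl
    let F : B →ₐ[A] B ⧸ J ^ 2 := ψ.comp φ
    have hN : J.cotangentIdeal ^ 2 = ⊥ := J.cotangentIdeal_square
    have hcond : (Ideal.Quotient.mkₐ A J.cotangentIdeal).comp F =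
        IsScalarTower.toAlgHom A B ((B ⧸ J ^ 2) ⧸ J.cotangentIdeal) := by
      apply AlgHom.ext
      intro b
      change Ideal.Quotient.mk J.cotangentIdeal (ψ (φ b)) =
        Ideal.Quotient.mk J.cotangentIdeal (Ideal.Quotient.mk (J ^ 2) b)
      rw [Ideal.Quotient.eq]
      obtain ⟨a, haφ⟩ := Ideal.Quotient.mk_surjective (φ b)
      rw [← haφ, hψ, ← map_sub, Ideal.mk_mem_cotangentIdeal, hJ, RingHom.mem_ker, map_sub,
        ← IsScalarTower.algebraMap_apply, ← hg_mk, haφ, hφ, sub_self]
    let D' : Derivation A B J.cotangentIdeal :=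
      derivationToSquareZeroOfLift J.cotangentIdeal hN F hcond
    have hlift0 : D'.liftKaehlerDifferential (KaehlerDifferential.D A B x) = 0 := by
      refine Submodule.smul_induction_on hDx ?_ ?_
      · intro j hj ω _
        rw [map_smul]
        apply Subtype.ext
        have h2 : J.cotangentIdeal * J.cotangentIdeal = ⊥ :=
          (sq J.cotangentIdeal).symm.trans hN
        have hmem : Ideal.Quotient.mk (J ^ 2) j * (D'.liftKaehlerDifferential ω : B ⧸ J ^ 2) ∈
            J.cotangentIdeal * J.cotangentIdeal :=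
          Ideal.mul_mem_mul (Ideal.mk_mem_cotangentIdeal.2 hj) (D'.liftKaehlerDifferential ω).2
        rw [h2, Ideal.mem_bot] at hmem
        exact hmem
      · intro ω₁ ω₂ h1 h2
        rw [map_add, h1, h2, add_zero]
    rw [Derivation.liftKaehlerDifferential_comp_D] at hlift0
    have hFx : F x = Ideal.Quotient.mk (J ^ 2) x := by
      have := congrArg (fun t : J.cotangentIdeal => (t : B ⧸ J ^ 2)) hlift0
      simp only [D', derivationToSquareZeroOfLift_apply] at this
      exact sub_eq_zero.1 this
    obtain ⟨a, haφ⟩ := Ideal.Quotient.mk_surjective (φ x)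
    have haI : a ∈ I := by
      rw [← Ideal.mk_mem_cotangentIdeal, haφ]
      exact hφJ x hx
    have hax : (algebraMap A B a - x) ∈ J ^ 2 := by
      rw [← Ideal.Quotient.eq, ← hψ, haφ]
      exact hFx
    refine ⟨I.toCotangent ⟨a, haI⟩, ?_⟩
    rw [hι, Ideal.mapCotangent_toCotangent, Ideal.toCotangent_eq]
    exact hax

end Groth.Agent.S9450
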