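import Groth.Statements.S9451
import Mathlib
-- import your own Groth.Agent.* helpers here

set_option autoImplicit false
universe u
open CategoryTheory CategoryTheory.Limits TensorProduct
open CAlg

namespace Groth.Agent.S9451

section Aux
variable {I : Type u} [SmallCategory I] [IsFiltered I] (D : I ⥤ CommRingCat.{u}) (c : Cocone D)
  (hc : IsColimit c)

omit [IsFiltered I] in
lemma ι_map {i k : I} (f : i ⟶ k) (x : D.obj i) :
    (c.ι.app k).hom ((D.map f).hom x) = (c.ι.app i).hom x := by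
  rw [← c.w f]; rfl

include hc in
lemma exists_rep (a : c.pt) : ∃ (i : I) (α : D.obj i), (c.ι.app i).hom α = a := by
  obtain ⟨j, y, hy⟩ := Concrete.isColimit_exists_rep D hc a
  exact ⟨j, y, hy⟩

include hc in
lemma exists_map_eq_zero {i : I} (x : D.obj i) (hx : (c.ι.app i).hom x = 0) :
    ∃ (k : I) (f : i ⟶ k), (D.map f).hom x = 0 := by
  obtain ⟨k, f, g, hfg⟩ := Concrete.isColimit_exists_of_rep_eq D hc x (0 : D.obj i) (by
    show (c.ι.app i).hom x = (c.ι.app i).hom 0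
    rw [hx, map_zero])
  refine ⟨k, f, ?_⟩
  have : (D.map f).hom x = (D.map g).hom 0 := hfg
  rw [this, map_zero]

include hc in
lemma exists_rep_list (as : List c.pt) :
    ∃ i : I, ∀ a ∈ as, ∃ α : D.obj i, (c.ι.app i).hom α = a := by
  induction as with
  | nil => exact ⟨Classical.choice IsFiltered.nonempty, by simp⟩
  | cons a as ih =>
    obtain ⟨i, hi⟩ := ih
    obtain ⟨j, α, hα⟩ := exists_rep D c hc a
    refine ⟨IsFiltered.max i j, ?_⟩
    intro b hb
    rcases List.mem_cons.mp hb with rfl | hb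
    · exact ⟨(D.map (IsFiltered.rightToMax i j)).hom α, by rw [ι_map, hα]⟩
    · obtain ⟨β, hβ⟩ := hi b hb
      exact ⟨(D.map (IsFiltered.leftToMax i j)).hom β, by rw [ι_map, hβ]⟩

include hc in
lemma exists_map_eq_zero_list {i : I} (xs : List (D.obj i))
    (hxs : ∀ x ∈ xs, (c.ι.app i).hom x = 0) :
    ∃ (k : I) (f : i ⟶ k), ∀ x ∈ xs, (D.map f).hom x = 0 := by
  induction xs with
  | nil => exact ⟨i, 𝟙 i, by simp⟩
  | cons x xs ih =>
    obtain ⟨k, f, hk⟩ := ih (fun y hy => hxs y (List.mem_cons_of_mem _ hy))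
    have hx : (c.ι.app k).hom ((D.map f).hom x) = 0 := by
      rw [ι_map]; exact hxs x List.mem_cons_self
    obtain ⟨k', g, hg⟩ := exists_map_eq_zero D c hc _ hx
    refine ⟨k', f ≫ g, ?_⟩
    intro y hy
    have : (D.map (f ≫ g)).hom y = (D.map g).hom ((D.map f).hom y) := by
      rw [D.map_comp]; rfl
    rw [this]
    rcases List.mem_cons.mp hy with rfl | hy
    · exact hg
    · rw [hk y hy, map_zero]

include hc in
lemma exists_lift_subalgebra (A₀ : Subalgebra ℤ c.pt) (hfg : A₀.FG) :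
    ∃ (i : I) (φ : A₀ →+* D.obj i), ∀ a : A₀, (c.ι.app i).hom (φ a) = (a : c.pt) := by
  haveI hft : Algebra.FiniteType ℤ A₀ := (Subalgebra.fg_iff_finiteType A₀).mp hfg
  obtain ⟨n, f, hf⟩ := Algebra.FiniteType.iff_quotient_mvPolynomial''.mp hft
  obtain ⟨i₀, hi₀⟩ := exists_rep_list D c hc
    (List.ofFn fun j : Fin n => ((f (MvPolynomial.X j) : A₀) : c.pt))
  have hi₀' : ∀ j : Fin n, ∃ α : D.obj i₀,
      (c.ι.app i₀).hom α = ((f (MvPolynomial.X j) : A₀) : c.pt) :=
    fun j => hi₀ _ (by rw [List.mem_ofFn]; exact ⟨j, rfl⟩)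
  choose α hα using hi₀'
  let ψ₀ : MvPolynomial (Fin n) ℤ →+* D.obj i₀ :=
    (MvPolynomial.aeval α : MvPolynomial (Fin n) ℤ →ₐ[ℤ] D.obj i₀).toRingHom
  have hψ₀ : ∀ p, (c.ι.app i₀).hom (ψ₀ p) = ((f p : A₀) : c.pt) := by
    intro p
    have : ((c.ι.app i₀).hom.comp ψ₀) = (A₀.val.toRingHom.comp f.toRingHom) := by
      apply MvPolynomial.ringHom_ext
      · intro r; simp
      · intro j; simp [ψ₀, hα]
    exact congr($this p)
  obtain ⟨ks, hks⟩ := (inferInstance : IsNoetherianRing (MvPolynomial (Fin n) ℤ)).noetherian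
    (RingHom.ker f.toRingHom)
  obtain ⟨k, g, hg⟩ := exists_map_eq_zero_list D c hc (ks.toList.map ψ₀) (by
    intro x hx
    obtain ⟨p, hp, rfl⟩ := List.mem_map.mp hx
    rw [hψ₀]
    have h1 : p ∈ RingHom.ker f.toRingHom := by
      rw [← hks]; exact Submodule.subset_span (Finset.mem_toList.mp hp)
    have h2 : f p = 0 := h1
    rw [h2]; rfl)
  let ψ : MvPolynomial (Fin n) ℤ →+* D.obj k := (D.map g).hom.comp ψ₀
  have hker : RingHom.ker f.toRingHom ≤ RingHom.ker ψ := by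
    rw [← hks, Submodule.span_le]
    intro p hp
    exact hg _ (List.mem_map.mpr ⟨p, Finset.mem_toList.mpr hp, rfl⟩)
  refine ⟨k, f.toRingHom.liftOfSurjective hf ⟨ψ, hker⟩, ?_⟩
  intro a
  obtain ⟨p, rfl⟩ := hf a
  have : (f.toRingHom.liftOfSurjective hf ⟨ψ, hker⟩) (f p) = ψ p :=
    RingHom.liftOfSurjective_comp_apply f.toRingHom hf ⟨ψ, hker⟩ p
  rw [this]
  show (c.ι.app k).hom ((D.map g).hom (ψ₀ p)) = _
  rw [ι_map, hψ₀]

end Aux

/-- Let (A_i) be a filtered system of rings with colimit A and B a smooth A-algebra. Then some stage A_i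
carries a smooth A_i-algebra B_i with B isomorphic to A ⊗_{A_i} B_i as A-algebras (the base change
along the colimit map A_i → A; existence of an isomorphism). -/
theorem result {I : Type u} [SmallCategory I] [IsFiltered I]
    (D : I ⥤ CommRingCat.{u}) (c : Cocone D) (hc : IsColimit c) (B : Type u) [CommRing B]
    [Algebra c.pt B] [Algebra.Smooth c.pt B] :
    ∃ (i : I) (Bi : Type u) (_ : CommRing Bi) (_ : Algebra (D.obj i) Bi),
      Algebra.Smooth (D.obj i) Bi ∧
      (letI : Algebra (D.obj i) c.pt := (c.ι.app i).hom.toAlgebra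
       Nonempty (B ≃ₐ[c.pt] (c.pt ⊗[D.obj i] Bi))) := by
  obtain ⟨A₀, B₀, _, _, hfg, hsm, ⟨e⟩⟩ := Algebra.Smooth.exists_subalgebra_fg ℤ c.pt B
  obtain ⟨i, φ, hφ⟩ := exists_lift_subalgebra D c hc A₀ hfg
  letI : Algebra (D.obj i) c.pt := (c.ι.app i).hom.toAlgebra
  letI : Algebra A₀ (D.obj i) := φ.toAlgebra
  haveI : IsScalarTower A₀ (D.obj i) c.pt := IsScalarTower.of_algebraMap_eq (fun a => (hφ a).symm)
  haveI := hsm
  refine ⟨i, (D.obj i) ⊗[A₀] B₀, inferInstance, inferInstance, inferInstance, ?_⟩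
  exact ⟨e.trans (Algebra.TensorProduct.cancelBaseChange A₀ (D.obj i) c.pt c.pt B₀).symm⟩

end Groth.Agent.S9451
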