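import Groth.Statements.S9454
import Groth.Agent.Lib.Helper9.SplitCover
-- import your own Groth.Agent.* helpers here

set_option autoImplicit false
universe u
open CAlg

namespace Groth.Agent.S9454

/-- For an étale ring map R → S which is surjective on spectra there is a finite, finitely presented,
flat R-algebra S' with Spec S' → Spec R surjective such that, Zariski locally on S', the structure
map factors through S: every prime q' of S' has some g' ∉ q' and an R-algebra map S → S'_{g'}. -/
theorem result (R : Type u) [CommRing R]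
    (S : Type u) [CommRing S] [Algebra R S] [Algebra.Etale R S]
    (hs : Function.Surjective (PrimeSpectrum.comap (algebraMap R S))) :
    ∃ (S' : Type u) (_ : CommRing S') (_ : Algebra R S'),
      Module.Finite R S' ∧ Algebra.FinitePresentation R S' ∧ Module.Flat R S' ∧
        Function.Surjective (PrimeSpectrum.comap (algebraMap R S')) ∧
        ∀ (q' : Ideal S') [q'.IsPrime], ∃ (g' : S') (_ : g' ∉ q'),
          Nonempty (S →ₐ[R] Localization.Away g') := by
  classical
  have hspan : Ideal.span {f : S | Algebra.IsStandardEtale R (Localization.Away f)} = ⊤ := by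
    by_contra hne
    obtain ⟨Q, hQmax, hQ⟩ := Ideal.exists_le_maximal _ hne
    haveI := hQmax.isPrime
    obtain ⟨f, hfQ, hstd⟩ := Algebra.IsEtaleAt.exists_isStandardEtale (R := R) Q
    exact hfQ (hQ (Ideal.subset_span hstd))
  obtain ⟨t, htsub, htspan⟩ := (Ideal.span_eq_top_iff_finite _).mp hspan
  obtain ⟨S', _, _, hfin, hfp, hff, hS'⟩ :=
    Groth.Agent.Lib.Helper9.SplitCover.exists_cover_finset (R := R) t (fun f hf => htsub hf)
  refine ⟨S', inferInstance, inferInstance, hfin, hfp, inferInstance,
    PrimeSpectrum.comap_surjective_of_faithfullyFlat, ?_⟩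
  intro q' _
  obtain ⟨⟨q, hq⟩, hqq'⟩ := hs ⟨q'.under R, inferInstance⟩
  have hqq'' : q.under R = q'.under R := congrArg PrimeSpectrum.asIdeal hqq'
  have hex : ∃ f ∈ t, f ∉ q := by
    by_contra hcon
    push_neg at hcon
    have hle : Ideal.span (t : Set S) ≤ q := Ideal.span_le.mpr hcon
    rw [htspan] at hle
    exact hq.ne_top (top_le_iff.mp hle)
  obtain ⟨f, hft, hfq⟩ := hex
  exact hS' q' ⟨f, hft, q, hq, hfq, hqq''⟩

end Groth.Agent.S9454
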