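import Groth.Statements.S9459
import Groth.Agent.Lib.Helper37.Hz29

set_option autoImplicit false
universe u
open Hensel

namespace Groth.Agent.S9459

open TensorProduct in
/-- Let R → S be a ring map, q a prime of S over p, and R^h, S^h henselizations of R_p and S_q, S^h
carrying the compatible R^h-algebra structure (the canonical map R^h → S^h). Let φ : R^h ⊗_R S → S^h
be the induced map and Q the preimage under φ of the maximal ideal (a prime lying over the maximal
ideal of R^h and over q). Then S^h is a henselization of the local ring (R^h ⊗_R S)_Q: for every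
henselization E of (R^h ⊗_R S)_Q there is a ring isomorphism E ≅ S^h compatible with the two maps
from R^h ⊗_R S. -/
theorem result (R : Type u) [CommRing R] (S : Type u)
    [CommRing S] [Algebra R S] (p : Ideal R) [p.IsPrime] (q : Ideal S) [q.IsPrime] [q.LiesOver p]
    (Rh : Type u) [CommRing Rh] [IsLocalRing Rh] [Algebra (Localization.AtPrime p) Rh]
    [IsLocalHom (algebraMap (Localization.AtPrime p) Rh)]
    [Hensel.IsHenselization (Localization.AtPrime p) Rh] [Algebra R Rh]
    [IsScalarTower R (Localization.AtPrime p) Rh]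
    (Sh : Type u) [CommRing Sh] [IsLocalRing Sh] [Algebra (Localization.AtPrime q) Sh]
    [IsLocalHom (algebraMap (Localization.AtPrime q) Sh)]
    [Hensel.IsHenselization (Localization.AtPrime q) Sh] [Algebra S Sh]
    [IsScalarTower S (Localization.AtPrime q) Sh] [Algebra R Sh] [IsScalarTower R S Sh]
    [Algebra Rh Sh] [IsScalarTower R Rh Sh]
    (E : Type u) [CommRing E] [IsLocalRing E]
    [Algebra (Localization.AtPrime (Ideal.comap (Algebra.TensorProduct.lift (IsScalarTower.toAlgHom R Rh Sh) (IsScalarTower.toAlgHom R S Sh)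
          (fun _ _ => Commute.all _ _)) (IsLocalRing.maximalIdeal Sh))) E]
    [IsLocalHom (algebraMap (Localization.AtPrime
      (Ideal.comap (Algebra.TensorProduct.lift (IsScalarTower.toAlgHom R Rh Sh) (IsScalarTower.toAlgHom R S Sh)
          (fun _ _ => Commute.all _ _)) (IsLocalRing.maximalIdeal Sh))) E)]
    [Hensel.IsHenselization (Localization.AtPrime
      (Ideal.comap (Algebra.TensorProduct.lift (IsScalarTower.toAlgHom R Rh Sh) (IsScalarTower.toAlgHom R S Sh)
          (fun _ _ => Commute.all _ _)) (IsLocalRing.maximalIdeal Sh))) E] :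
    ∃ e : E ≃+* Sh, ∀ d : Rh ⊗[R] S,
      e (algebraMap (Localization.AtPrime
        (Ideal.comap (Algebra.TensorProduct.lift (IsScalarTower.toAlgHom R Rh Sh) (IsScalarTower.toAlgHom R S Sh)
          (fun _ _ => Commute.all _ _)) (IsLocalRing.maximalIdeal Sh))) E
        (algebraMap (Rh ⊗[R] S) _ d)) = (Algebra.TensorProduct.lift (IsScalarTower.toAlgHom R Rh Sh) (IsScalarTower.toAlgHom R S Sh)
          (fun _ _ => Commute.all _ _)) d := by
  classical
  have hRh := Groth.Agent.Lib.Helper37.Hz.map_maximalIdeal_of_isHenselization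
    (Localization.AtPrime p) Rh
  letI algD : Algebra (Groth.Agent.Lib.Helper37.Hz.TensLoc.D R S Rh Sh) Sh :=
    (Groth.Agent.Lib.Helper37.Hz.TensLoc.toSh R S Rh Sh).toAlgebra
  letI algP : Algebra (Localization.AtPrime q) (Groth.Agent.Lib.Helper37.Hz.TensLoc.D R S Rh Sh) :=
    (Groth.Agent.Lib.Helper37.Hz.TensLoc.fromSq R S q Rh Sh).toAlgebra
  haveI : IsScalarTower (Localization.AtPrime q) (Groth.Agent.Lib.Helper37.Hz.TensLoc.D R S Rh Sh) Sh :=
    IsScalarTower.of_algebraMap_eq'
      (Groth.Agent.Lib.Helper37.Hz.TensLoc.toSh_comp_fromSq R S q Rh Sh).symm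
  haveI : IsLocalHom (algebraMap (Groth.Agent.Lib.Helper37.Hz.TensLoc.D R S Rh Sh) Sh) :=
    Groth.Agent.Lib.Helper37.Hz.TensLoc.isLocalHom_toSh R S Rh Sh
  haveI : IsLocalHom (algebraMap (Localization.AtPrime q)
      (Groth.Agent.Lib.Helper37.Hz.TensLoc.D R S Rh Sh)) :=
    Groth.Agent.Lib.Helper37.Hz.TensLoc.isLocalHom_fromSq R S q Rh Sh
  have hD : Hensel.IsHenselization (Groth.Agent.Lib.Helper37.Hz.TensLoc.D R S Rh Sh) Sh := by
    refine Groth.Agent.Lib.Helper37.Hz.isHenselization_of_tower (Localization.AtPrime q)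
      (Groth.Agent.Lib.Helper37.Hz.TensLoc.D R S Rh Sh) Sh (fun T _ _ f hf g hg => ?_)
    refine Groth.Agent.Lib.Helper37.Hz.TensLoc.comp_toSh_eq R S q Rh Sh f g hg ?_
    haveI := hf
    haveI := Groth.Agent.Lib.Helper37.Hz.TensLoc.isLocalHom_fromRh R S p q Rh Sh hRh
    haveI : IsLocalHom (f.comp (Groth.Agent.Lib.Helper37.Hz.TensLoc.fromRh R S Rh Sh)) :=
      RingHom.isLocalHom_comp _ _
    have hloc : IsLocalHom ((f.comp (Groth.Agent.Lib.Helper37.Hz.TensLoc.fromRh R S Rh Sh)).comp
        (algebraMap (Localization.AtPrime p) Rh)) := RingHom.isLocalHom_comp _ _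
    obtain ⟨k, -, hk⟩ := (inferInstance : Hensel.IsHenselization (Localization.AtPrime p) Rh).universal T
      ((f.comp (Groth.Agent.Lib.Helper37.Hz.TensLoc.fromRh R S Rh Sh)).comp
        (algebraMap (Localization.AtPrime p) Rh)) hloc
    rw [hk (g.comp (algebraMap Rh Sh))
      (Groth.Agent.Lib.Helper37.Hz.TensLoc.comp_algebraMap_eq R S p q Rh Sh f g hg),
      hk (f.comp (Groth.Agent.Lib.Helper37.Hz.TensLoc.fromRh R S Rh Sh)) rfl]
  obtain ⟨e1⟩ := Groth.Agent.Lib.Helper37.Hz.nonempty_algEquiv_Hens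
    (Groth.Agent.Lib.Helper37.Hz.TensLoc.D R S Rh Sh) E
  obtain ⟨e2⟩ := Groth.Agent.Lib.Helper37.Hz.nonempty_algEquiv_Hens
    (Groth.Agent.Lib.Helper37.Hz.TensLoc.D R S Rh Sh) Sh
  refine ⟨(e1.trans e2.symm).toRingEquiv, fun d => ?_⟩
  have h1 : (e1.trans e2.symm) (algebraMap (Groth.Agent.Lib.Helper37.Hz.TensLoc.D R S Rh Sh) E
      (algebraMap (Rh ⊗[R] S) _ d)) =
      algebraMap (Groth.Agent.Lib.Helper37.Hz.TensLoc.D R S Rh Sh) Sh
        (algebraMap (Rh ⊗[R] S) _ d) := (e1.trans e2.symm).commutes _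
  exact h1.trans (Groth.Agent.Lib.Helper37.Hz.TensLoc.toSh_algebraMap R S Rh Sh d)

end Groth.Agent.S9459
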