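import Groth.Statements.S9458
import Groth.Agent.S9459
import Groth.Agent.Lib.Helper31.HensQF
import Groth.Agent.Lib.Helper37.Hz29

set_option autoImplicit false
universe u
open Hensel

namespace Groth.Agent.S9458

open Groth.Agent.Lib.Helper37.Hz Groth.Agent.Lib.Helper37.Hz.TensLoc TensorProduct IsLocalRing in

/-- Let R → S be of finite type and quasi-finite at a prime q lying over p, and let R_p^h, S_q^h be
henselizations of the local rings, S_q^h carrying the compatible R_p^h-algebra structure (the
canonical local map R_p^h → S_q^h). Then S_q^h is finite over R_p^h. (The published statement also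
identifies S_q^h with a localization of R_p^h ⊗_{R_p} S_q; this row states only that S_q^h is finite
over R_p^h.) -/
theorem result (R : Type u) [CommRing R] (S : Type u)
    [CommRing S] [Algebra R S] [Algebra.FiniteType R S] (p : Ideal R) [p.IsPrime] (q : Ideal S)
    [q.IsPrime] [q.LiesOver p] [Algebra.QuasiFiniteAt R q]
    (Rh : Type u) [CommRing Rh] [IsLocalRing Rh] [Algebra (Localization.AtPrime p) Rh]
    [IsLocalHom (algebraMap (Localization.AtPrime p) Rh)]
    [Hensel.IsHenselization (Localization.AtPrime p) Rh]
    (Sh : Type u) [CommRing Sh] [IsLocalRing Sh] [Algebra (Localization.AtPrime q) Sh]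
    [IsLocalHom (algebraMap (Localization.AtPrime q) Sh)]
    [Hensel.IsHenselization (Localization.AtPrime q) Sh]
    [Algebra (Localization.AtPrime p) (Localization.AtPrime q)]
    [IsScalarTower R (Localization.AtPrime p) (Localization.AtPrime q)]
    [Algebra Rh Sh] [Algebra (Localization.AtPrime p) Sh]
    [IsScalarTower (Localization.AtPrime p) Rh Sh]
    [IsScalarTower (Localization.AtPrime p) (Localization.AtPrime q) Sh] :
    Module.Finite Rh Sh := by
  classical
  letI aRRh : Algebra R Rh :=
    ((algebraMap (Localization.AtPrime p) Rh).comp (algebraMap R (Localization.AtPrime p))).toAlgebra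
  haveI tRRh : IsScalarTower R (Localization.AtPrime p) Rh := IsScalarTower.of_algebraMap_eq' rfl
  letI aSSh : Algebra S Sh :=
    ((algebraMap (Localization.AtPrime q) Sh).comp (algebraMap S (Localization.AtPrime q))).toAlgebra
  haveI tSSh : IsScalarTower S (Localization.AtPrime q) Sh := IsScalarTower.of_algebraMap_eq' rfl
  letI aRSh : Algebra R Sh :=
    ((algebraMap (Localization.AtPrime p) Sh).comp (algebraMap R (Localization.AtPrime p))).toAlgebra
  haveI tRRpSh : IsScalarTower R (Localization.AtPrime p) Sh := IsScalarTower.of_algebraMap_eq' rfl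
  haveI tRSSh : IsScalarTower R S Sh := by
    refine IsScalarTower.of_algebraMap_eq fun r => ?_
    change algebraMap (Localization.AtPrime p) Sh (algebraMap R (Localization.AtPrime p) r) =
      algebraMap (Localization.AtPrime q) Sh (algebraMap S (Localization.AtPrime q) (algebraMap R S r))
    rw [IsScalarTower.algebraMap_apply (Localization.AtPrime p) (Localization.AtPrime q) Sh,
      ← IsScalarTower.algebraMap_apply R (Localization.AtPrime p) (Localization.AtPrime q),
      ← IsScalarTower.algebraMap_apply R S (Localization.AtPrime q)]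
  haveI tRRhSh : IsScalarTower R Rh Sh := by
    refine IsScalarTower.of_algebraMap_eq fun r => ?_
    change algebraMap (Localization.AtPrime p) Sh (algebraMap R (Localization.AtPrime p) r) =
      algebraMap Rh Sh (algebraMap (Localization.AtPrime p) Rh (algebraMap R (Localization.AtPrime p) r))
    rw [← IsScalarTower.algebraMap_apply (Localization.AtPrime p) Rh Sh]
  have hRh := map_maximalIdeal_of_isHenselization (Localization.AtPrime p) Rh
  haveI hensRh : HenselianLocalRing Rh :=
    (inferInstance : Hensel.IsHenselization (Localization.AtPrime p) Rh).henselian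
  -- `Q` lies over the maximal ideal of `Rh`
  haveI hloc1 : IsLocalHom (fromRh R S Rh Sh) := isLocalHom_fromRh R S p q Rh Sh hRh
  haveI hloc2 : IsLocalHom (toSh R S Rh Sh) := isLocalHom_toSh R S Rh Sh
  haveI hlocRS : IsLocalHom (algebraMap Rh Sh) := by
    rw [← toSh_comp_fromRh R S Rh Sh]
    exact RingHom.isLocalHom_comp _ _
  haveI hQover : (Q R S Rh Sh).LiesOver (maximalIdeal Rh) := by
    constructor
    ext a
    rw [Ideal.under, Ideal.mem_comap, Ideal.mem_comap, Algebra.TensorProduct.algebraMap_apply,
      Algebra.algebraMap_self, RingHom.id_apply, φ_tmul, map_one, mul_one]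
    constructor
    · intro ha
      exact map_nonunit (algebraMap Rh Sh) a ha
    · intro ha
      by_contra hn
      rw [mem_maximalIdeal, mem_nonunits_iff, not_not] at hn
      exact ha (hn.map _)
  haveI hQF : Algebra.QuasiFiniteAt Rh (Q R S Rh Sh) :=
    Algebra.QuasiFiniteAt.baseChange q (Q R S Rh Sh) (comap_Q R S q Rh Sh)
  haveI hfinD : Module.Finite Rh (D R S Rh Sh) :=
    Groth.Agent.Lib.Helper31.HensQF.finite_atPrime Rh (Rh ⊗[R] S) (Q R S Rh Sh)
  haveI hensD : HenselianLocalRing (D R S Rh Sh) :=
    Groth.Agent.Lib.Helper37.henselianLocalRing_of_finite Rh (D R S Rh Sh)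
  haveI hlocid : IsLocalHom (algebraMap (D R S Rh Sh) (D R S Rh Sh)) := by
    rw [Algebra.algebraMap_self]; infer_instance
  haveI hHz : Hensel.IsHenselization (D R S Rh Sh) (D R S Rh Sh) :=
    Groth.Agent.Lib.Helper31.HensQF.isHenselization_self _
  obtain ⟨e, he⟩ := Groth.Agent.S9459.result R S p q Rh Sh (D R S Rh Sh)
  -- `e` is `Rh`-linear
  let el : D R S Rh Sh →ₗ[Rh] Sh :=
    { toFun := e
      map_add' := map_add e
      map_smul' := fun a x => by
        rw [RingHom.id_apply, Algebra.smul_def, Algebra.smul_def, map_mul]
        congr 1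
        rw [IsScalarTower.algebraMap_apply Rh (Rh ⊗[R] S) (D R S Rh Sh)]
        have := he (algebraMap Rh (Rh ⊗[R] S) a)
        rw [Algebra.algebraMap_self, RingHom.id_apply] at this
        rw [this, Algebra.TensorProduct.algebraMap_apply, Algebra.algebraMap_self,
          RingHom.id_apply, φ_tmul, map_one, mul_one] }
  exact Module.Finite.of_surjective el e.surjective

end Groth.Agent.S9458
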