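import Groth.Statements.S9461
import Groth.Agent.S9460
import Groth.Agent.Lib.Helper31.HensQF
import Groth.Agent.Lib.Helper37.Hz29

set_option autoImplicit false
universe u
open Hensel

namespace Groth.Agent.S9461

open Groth.Agent.Lib.Helper37.Hz Groth.Agent.Lib.Helper37.Hz.TensLoc TensorProduct IsLocalRing in

/-- Let R → S be of finite type and quasi-finite at a prime q over p, and R^{sh}, S^{sh} strict
henselizations of R_p and S_q with a compatible local map R^{sh} → S^{sh} (over R). Then R^{sh} →
S^{sh} is finite and its residue field extension is finite and purely inseparable. (The published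
statement also identifies S^{sh} with a localization of R^{sh} ⊗_{R_p} S_q; this row states only the
finiteness and the residue-field assertions.) -/
theorem result (R : Type u) [CommRing R] (S : Type u)
    [CommRing S] [Algebra R S] [Algebra.FiniteType R S] (p : Ideal R) [p.IsPrime] (q : Ideal S)
    [q.IsPrime] [q.LiesOver p] [Algebra.QuasiFiniteAt R q]
    (Rh : Type u) [CommRing Rh] [IsLocalRing Rh] [Algebra (Localization.AtPrime p) Rh]
    [IsLocalHom (algebraMap (Localization.AtPrime p) Rh)]
    [Hensel.IsStrictHenselization (Localization.AtPrime p) Rh] [Algebra R Rh]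
    [IsScalarTower R (Localization.AtPrime p) Rh]
    (Sh : Type u) [CommRing Sh] [IsLocalRing Sh] [Algebra (Localization.AtPrime q) Sh]
    [IsLocalHom (algebraMap (Localization.AtPrime q) Sh)]
    [Hensel.IsStrictHenselization (Localization.AtPrime q) Sh] [Algebra S Sh]
    [IsScalarTower S (Localization.AtPrime q) Sh] [Algebra R Sh] [IsScalarTower R S Sh]
    [Algebra Rh Sh] [IsScalarTower R Rh Sh] [IsLocalHom (algebraMap Rh Sh)] :
    Module.Finite Rh Sh ∧
      Module.Finite (IsLocalRing.ResidueField Rh) (IsLocalRing.ResidueField Sh) ∧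
      IsPurelyInseparable (IsLocalRing.ResidueField Rh) (IsLocalRing.ResidueField Sh) := by
  classical
  have hRh := map_maximalIdeal_of_isStrictHenselization (Localization.AtPrime p) Rh
  haveI hensRh : HenselianLocalRing Rh :=
    (inferInstance : Hensel.IsStrictHenselization (Localization.AtPrime p) Rh).henselian
  haveI hscRh : IsSepClosed (ResidueField Rh) :=
    ((inferInstance : Hensel.IsStrictHenselization (Localization.AtPrime p) Rh).isSepClosure).sep_closed
  haveI hloc1 : IsLocalHom (fromRh R S Rh Sh) := isLocalHom_fromRh R S p q Rh Sh hRh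
  haveI hQover : (Q R S Rh Sh).LiesOver (maximalIdeal Rh) := by
    constructor
    ext a
    rw [Ideal.under, Ideal.mem_comap, Ideal.mem_comap, Algebra.TensorProduct.algebraMap_apply,
      Algebra.algebraMap_self, RingHom.id_apply, φ_tmul, map_one, mul_one]
    constructor
    · intro ha
      exact map_nonunit (algebraMap Rh Sh) a ha
    · intro ha
      by_contra hn
      rw [mem_maximalIdeal, mem_nonunits_iff, not_not] at hn
      exact ha (hn.map _)
  haveI hQF : Algebra.QuasiFiniteAt Rh (Q R S Rh Sh) :=
    Algebra.QuasiFiniteAt.baseChange q (Q R S Rh Sh) (comap_Q R S q Rh Sh)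
  haveI hfinD : Module.Finite Rh (D R S Rh Sh) :=
    Groth.Agent.Lib.Helper31.HensQF.finite_atPrime Rh (Rh ⊗[R] S) (Q R S Rh Sh)
  haveI hensD : HenselianLocalRing (D R S Rh Sh) :=
    Groth.Agent.Lib.Helper37.henselianLocalRing_of_finite Rh (D R S Rh Sh)
  haveI hlocRhD : IsLocalHom (algebraMap Rh (D R S Rh Sh)) := by
    have : algebraMap Rh (D R S Rh Sh) = fromRh R S Rh Sh := by
      ext a
      rw [IsScalarTower.algebraMap_apply Rh (Rh ⊗[R] S) (D R S Rh Sh), fromRh_apply,
        Algebra.TensorProduct.algebraMap_apply, Algebra.algebraMap_self, RingHom.id_apply]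
    rw [this]; exact hloc1
  haveI halgD : Algebra.IsAlgebraic (ResidueField Rh) (ResidueField (D R S Rh Sh)) :=
    Algebra.IsAlgebraic.of_finite _ _
  haveI hscD : IsSepClosed (ResidueField (D R S Rh Sh)) :=
    Algebra.IsAlgebraic.isSepClosed (F := ResidueField Rh)
  haveI hlocid : IsLocalHom (algebraMap (D R S Rh Sh) (D R S Rh Sh)) := by
    rw [Algebra.algebraMap_self]; infer_instance
  haveI hHz : Hensel.IsStrictHenselization (D R S Rh Sh) (D R S Rh Sh) :=
    Groth.Agent.Lib.Helper31.HensQF.isStrictHenselization_self _
  obtain ⟨e, he⟩ := Groth.Agent.S9460.result R S p q Rh Sh (D R S Rh Sh)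
  -- `e` is `Rh`-linear
  let el : D R S Rh Sh →ₗ[Rh] Sh :=
    { toFun := e
      map_add' := map_add e
      map_smul' := fun a x => by
        rw [RingHom.id_apply, Algebra.smul_def, Algebra.smul_def, map_mul]
        congr 1
        rw [IsScalarTower.algebraMap_apply Rh (Rh ⊗[R] S) (D R S Rh Sh)]
        have := he (algebraMap Rh (Rh ⊗[R] S) a)
        rw [Algebra.algebraMap_self, RingHom.id_apply] at this
        rw [this, Algebra.TensorProduct.algebraMap_apply, Algebra.algebraMap_self,
          RingHom.id_apply, φ_tmul, map_one, mul_one] }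
  haveI hfin : Module.Finite Rh Sh := Module.Finite.of_surjective el e.surjective
  haveI halgS : Algebra.IsAlgebraic (ResidueField Rh) (ResidueField Sh) :=
    Algebra.IsAlgebraic.of_finite _ _
  exact ⟨hfin, inferInstance, inferInstance⟩

end Groth.Agent.S9461
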