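import Groth.Statements.S9462
import Groth.Agent.Lib.Helper7.NilFlat
import Groth.Agent.Lib.Helper7.NilFin

set_option autoImplicit false
universe u
open CAlg

namespace Groth.Agent.S9462

open TensorProduct

theorem flat_part (A' : Type u) [CommRing A'] (A : Type u) [CommRing A]
    [Algebra A' A] (hA : Function.Surjective (algebraMap A' A))
    (hI : RingHom.ker (algebraMap A' A) ^ 2 = ⊥)
    (B' : Type u) [CommRing B'] [Algebra A' B'] (B : Type u) [CommRing B] [Algebra B' B]
    [Algebra A B] [Algebra A' B] [IsScalarTower A' A B] [IsScalarTower A' B' B]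
    (hB : Function.Surjective (algebraMap B' B))
    [Module.Flat A B]
    (hJI : RingHom.ker (algebraMap B' B) = (RingHom.ker (algebraMap A' A)).map (algebraMap A' B'))
    (hinj : Function.Injective ((RingHom.ker (algebraMap A' A)).subtype.baseChange B')) :
    Module.Flat A' B' := by
  set I := RingHom.ker (algebraMap A' A) with hIdef
  refine Groth.Agent.Lib.Helper7.NilFlat.flat_of_isNilpotent I ⟨2, hI⟩ ?_ ?_
  · -- injectivity
    have hcomm : ∀ x : I ⊗[A'] B', TensorProduct.comm A' A' B' (LinearMap.rTensor B' I.subtype x) =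
        (I.subtype.baseChange B') (TensorProduct.comm A' I B' x) := by
      intro x
      induction x with
      | zero => simp
      | tmul a b => simp
      | add x y hx hy => simp only [map_add, hx, hy]
    intro x y hxy
    apply (TensorProduct.comm A' I B').injective
    apply hinj
    rw [← hcomm, ← hcomm, hxy]
  · -- flatness of the fibre
    let e : (A' ⧸ I) ≃+* A := RingHom.quotientKerEquivOfSurjective hA
    let g : (A' ⧸ I) →+* B := (algebraMap A B).comp e.toRingHom
    have hg : g.Flat := RingHom.Flat.comp (RingHom.Flat.of_bijective e.bijective)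
      ((RingHom.flat_algebraMap_iff).mpr inferInstance)
    letI : Algebra (A' ⧸ I) B := g.toAlgebra
    haveI : Module.Flat (A' ⧸ I) B := hg
    haveI : IsScalarTower A' (A' ⧸ I) B := by
      refine IsScalarTower.of_algebraMap_eq fun x => ?_
      change _ = algebraMap A B (e (Ideal.Quotient.mk _ x))
      rw [RingHom.quotientKerEquivOfSurjective_apply_mk, ← IsScalarTower.algebraMap_apply]
    let ψ : (A' ⧸ I) ⊗[A'] B' →ₗ[A' ⧸ I] B :=
      (IsScalarTower.toAlgHom A' B' B).toLinearMap.liftBaseChange (A' ⧸ I)
    have hrep : ∀ x : (A' ⧸ I) ⊗[A'] B', ∃ b : B', x = 1 ⊗ₜ b := by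
      intro x
      induction x with
      | zero => exact ⟨0, by simp⟩
      | tmul a b =>
        obtain ⟨a, rfl⟩ := Ideal.Quotient.mk_surjective a
        refine ⟨a • b, ?_⟩
        rw [TensorProduct.tmul_smul, TensorProduct.smul_tmul', Algebra.smul_def, mul_one]
        rfl
      | add x y hx hy =>
        obtain ⟨b₁, rfl⟩ := hx
        obtain ⟨b₂, rfl⟩ := hy
        exact ⟨b₁ + b₂, by rw [TensorProduct.tmul_add]⟩
    have hψ : Function.Bijective ψ := by
      constructor
      · rw [injective_iff_map_eq_zero]
        intro x hx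
        obtain ⟨b, rfl⟩ := hrep x
        have hb : algebraMap B' B b = 0 := by simpa [ψ] using hx
        have hb' : b ∈ I.map (algebraMap A' B') := by rw [← hJI]; exact hb
        apply Groth.Agent.Lib.Helper7.NilFin.one_tmul_eq_zero_of_mem_smul_top
        rw [Ideal.smul_top_eq_map]
        exact hb'
      · intro b
        obtain ⟨b', rfl⟩ := hB b
        exact ⟨1 ⊗ₜ b', by simp [ψ]⟩
    exact Module.Flat.of_linearEquiv (LinearEquiv.ofBijective ψ hψ)


/-- abstract version: `J` square-zero ideal of `B'`, generated by image of `A'` elements,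
`B'/J` unramified over `A'`. -/
theorem unram_aux (A' : Type u) [CommRing A'] (B' : Type u) [CommRing B'] [Algebra A' B']
    (J : Ideal B') (hJ : J ^ 2 = ⊥) (I : Ideal A') (hJI : J = I.map (algebraMap A' B'))
    [Algebra.FormallyUnramified A' (B' ⧸ J)] :
    Algebra.FormallyUnramified A' B' := by
  set N : Submodule B' Ω[B'⁄A'] := J • ⊤ with hN
  -- Step 1
  have h1 : ∀ j ∈ J, KaehlerDifferential.D A' B' j ∈ N := by
    intro j hj
    rw [hJI, Ideal.map] at hj
    induction hj using Submodule.span_induction with
    | mem x hx =>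
      obtain ⟨i, -, rfl⟩ := hx
      rw [Derivation.map_algebraMap]; exact zero_mem _
    | zero => rw [map_zero]; exact zero_mem _
    | add x y hx hy ihx ihy => rw [map_add]; exact add_mem ihx ihy
    | smul b x hx ih =>
      rw [smul_eq_mul, Derivation.leibniz]
      refine add_mem (Submodule.smul_mem _ _ ih) ?_
      refine Submodule.smul_mem_smul ?_ Submodule.mem_top
      rw [hJI, Ideal.map]; exact hx
  -- Step 3
  have h3 : ∀ w ∈ N, (1 : B' ⧸ J) ⊗ₜ[B'] w = 0 := by
    intro w hw
    refine Submodule.smul_induction_on hw ?_ ?_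
    · intro j hj w' _
      rw [← TensorProduct.smul_tmul, Algebra.smul_def, mul_one]
      have : algebraMap B' (B' ⧸ J) j = 0 := Ideal.Quotient.eq_zero_iff_mem.mpr hj
      rw [this, TensorProduct.zero_tmul]
    · intro x y hx hy
      rw [TensorProduct.tmul_add, hx, hy, add_zero]
  have hsurj : Function.Surjective (algebraMap B' (B' ⧸ J)) := Ideal.Quotient.mk_surjective
  have hker : RingHom.ker (algebraMap B' (B' ⧸ J)) = J := Ideal.mk_ker
  have h4 : ∀ x : (B' ⧸ J) ⊗[B'] Ω[B'⁄A'], x = 0 := by
    intro x
    have hx : KaehlerDifferential.mapBaseChange A' B' (B' ⧸ J) x = 0 := Subsingleton.elim _ _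
    obtain ⟨y, rfl⟩ :=
      (KaehlerDifferential.exact_kerCotangentToTensor_mapBaseChange A' B' (B' ⧸ J) hsurj x).mp hx
    obtain ⟨j, rfl⟩ := Ideal.toCotangent_surjective _ y
    rw [KaehlerDifferential.kerCotangentToTensor_toCotangent]
    apply h3
    apply h1
    have hj2 : (j : B') ∈ RingHom.ker (algebraMap B' (B' ⧸ J)) := j.2
    exact Ideal.Quotient.eq_zero_iff_mem.mp hj2
  have h5 : N = ⊤ := by
    rw [eq_top_iff]
    intro w _
    have := h4 ((1 : B' ⧸ J) ⊗ₜ[B'] w)
    have h6 := congrArg (TensorProduct.quotTensorEquivQuotSMul Ω[B'⁄A'] J) this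
    rw [TensorProduct.quotTensorEquivQuotSMul_mk_one_tmul, map_zero,
      Submodule.Quotient.mk_eq_zero] at h6
    exact h6
  have h7 : (⊤ : Submodule B' Ω[B'⁄A']) = ⊥ := by
    have : N = J • N := by rw [h5]; exact h5.symm
    rw [← h5, this, hN, ← Submodule.mul_smul, ← sq, hJ, Submodule.bot_smul]
  exact ⟨Submodule.subsingleton_iff B' |>.mp (subsingleton_of_bot_eq_top h7.symm)⟩



open TensorProduct in
/-- Consider surjections A' → A and B' → B with square-zero kernels I and J and a commutative square A'
→ B', A → B. If A → B is étale and J = I ⊗_A B — that is, J = IB' and the multiplication map B'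
⊗_{A'} I → B' is injective — then A' → B' is étale. -/
theorem result (A' : Type u) [CommRing A'] (A : Type u) [CommRing A]
    [Algebra A' A] (hA : Function.Surjective (algebraMap A' A))
    (hI : RingHom.ker (algebraMap A' A) ^ 2 = ⊥)
    (B' : Type u) [CommRing B'] [Algebra A' B'] (B : Type u) [CommRing B] [Algebra B' B]
    [Algebra A B] [Algebra A' B] [IsScalarTower A' A B] [IsScalarTower A' B' B]
    (hB : Function.Surjective (algebraMap B' B)) (hJ : RingHom.ker (algebraMap B' B) ^ 2 = ⊥)
    [Algebra.Etale A B]
    (hJI : RingHom.ker (algebraMap B' B) = (RingHom.ker (algebraMap A' A)).map (algebraMap A' B'))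
    (hinj : Function.Injective ((RingHom.ker (algebraMap A' A)).subtype.baseChange B')) :
    Algebra.Etale A' B' := by
  haveI hflat : Module.Flat A' B' := flat_part A' A hA hI B' B hB hJI hinj
  haveI hfp : Algebra.FinitePresentation A' B' := by
    refine Groth.Agent.Lib.Helper7.NilFin.finitePresentation_of_flat_of_nilpotent'
      (A := A') (B := A') (C := B')
      (RingHom.ker (algebraMap A' A)) ⟨2, hI⟩ (algebraMap A' A) (algebraMap B' B) (algebraMap A B)
      hA hB ?_ ?_ ?_ ?_
    · simp [Algebra.algebraMap_self]
    · rw [hJI]; simp [Algebra.algebraMap_self]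
    · ext x
      simp only [RingHom.comp_apply]
      rw [← IsScalarTower.algebraMap_apply, ← IsScalarTower.algebraMap_apply]
    · exact RingHom.finitePresentation_algebraMap.mpr inferInstance
  haveI : Algebra.FormallyUnramified A' B' := by
    haveI : Algebra.FormallyUnramified A' A :=
      Algebra.FormallyUnramified.of_surjective (Algebra.ofId A' A) hA
    haveI : Algebra.FormallyUnramified A' B := Algebra.FormallyUnramified.comp A' A B
    have hB' : Function.Surjective (IsScalarTower.toAlgHom A' B' B) := hB
    have hJ' : RingHom.ker (IsScalarTower.toAlgHom A' B' B) = RingHom.ker (algebraMap B' B) := rfl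
    haveI : Algebra.FormallyUnramified A' (B' ⧸ RingHom.ker (IsScalarTower.toAlgHom A' B' B)) :=
      Algebra.FormallyUnramified.of_equiv (Ideal.quotientKerAlgEquivOfSurjective hB').symm
    exact unram_aux A' B' (RingHom.ker (IsScalarTower.toAlgHom A' B' B)) (hJ' ▸ hJ)
      (RingHom.ker (algebraMap A' A)) (hJ'.trans hJI)
  exact Algebra.Etale.of_formallyUnramified_of_flat

end Groth.Agent.S9462
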