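import Groth.Statements.S9463
import Mathlib.RingTheory.Ideal.Quotient.Nilpotent

set_option autoImplicit false
universe u
open OmegaSh

namespace Groth.Agent.S9463

/-- Let A → B be formally unramified, π : B' → B a universal first order thickening of B relative to A,
and S ⊆ A a multiplicative subset. Localizing everything at S (A_S, B_S and B'_S with compatible
algebra structures, π_S : B'_S → B_S the A_S-algebra map induced by π), the map π_S is a universal
first order thickening of B_S relative to A_S. (The published statement adds the consequence that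
the conormal module localizes accordingly.) -/
theorem result (A B B' : Type u) [CommRing A] [CommRing B]
    [CommRing B'] [Algebra A B] [Algebra.FormallyUnramified A B] [Algebra A B'] (π : B' →ₐ[A] B)
    (hπ : OmegaSh.IsUnivThickeningRing A B B' π) (S : Submonoid A)
    (AS BS B'S : Type u) [CommRing AS] [CommRing BS] [CommRing B'S]
    [Algebra A AS] [IsLocalization S AS]
    [Algebra B BS] [IsLocalization (Algebra.algebraMapSubmonoid B S) BS]
    [Algebra B' B'S] [IsLocalization (Algebra.algebraMapSubmonoid B' S) B'S]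
    [Algebra AS BS] [Algebra A BS] [IsScalarTower A AS BS] [IsScalarTower A B BS]
    [Algebra AS B'S] [Algebra A B'S] [IsScalarTower A AS B'S] [IsScalarTower A B' B'S]
    (πS : B'S →ₐ[AS] BS) (hπS : ∀ x : B', πS (algebraMap B' B'S x) = algebraMap B BS (π x)) :
    OmegaSh.IsUnivThickeningRing AS BS B'S πS := by
  obtain ⟨hsurj, hsq, huniv⟩ := hπ
  set T : Submonoid B := Algebra.algebraMapSubmonoid B S with hT
  set T' : Submonoid B' := Algebra.algebraMapSubmonoid B' S with hT'
  have hmap : ∀ x : B', x ∈ T' → π x ∈ T := by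
    rintro x ⟨t, ht, rfl⟩
    exact ⟨t, ht, (π.commutes t).symm⟩
  have hlift : ∀ y : B, y ∈ T → ∃ x : B', x ∈ T' ∧ π x = y := by
    rintro y ⟨t, ht, rfl⟩
    exact ⟨algebraMap A B' t, ⟨t, ht, rfl⟩, π.commutes t⟩
  -- compatibility on fractions
  have hmk : ∀ (b' : B') (s' : T'), πS (IsLocalization.mk' B'S b' s') =
      IsLocalization.mk' BS (π b') (⟨π s'.1, hmap _ s'.2⟩ : T) := by
    intro b' s'
    rw [IsLocalization.eq_mk'_iff_mul_eq]
    change πS (IsLocalization.mk' B'S b' s') * algebraMap B BS (π s'.1) = _
    rw [← hπS, ← map_mul, IsLocalization.mk'_spec, hπS]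
  refine ⟨?_, ?_, ?_⟩
  · -- surjectivity
    intro y
    obtain ⟨⟨b, s⟩, rfl⟩ := IsLocalization.mk'_surjective T y
    obtain ⟨b', rfl⟩ := hsurj b
    obtain ⟨s', hs'mem, hs'⟩ := hlift s.1 s.2
    refine ⟨IsLocalization.mk' B'S b' (⟨s', hs'mem⟩ : T'), ?_⟩
    rw [hmk]
    congr 1
    exact Subtype.ext hs'
  · -- square zero kernel
    rw [eq_bot_iff, pow_two, Ideal.mul_le]
    intro x hx y hy
    rw [Ideal.mem_bot]
    obtain ⟨⟨a, s⟩, rfl⟩ := IsLocalization.mk'_surjective T' x
    obtain ⟨⟨b, t⟩, rfl⟩ := IsLocalization.mk'_surjective T' y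
    have hx' : πS (IsLocalization.mk' B'S a s) = 0 := hx
    have hy' : πS (IsLocalization.mk' B'S b t) = 0 := hy
    rw [hmk, IsLocalization.mk'_eq_zero_iff] at hx' hy'
    obtain ⟨m, hm⟩ := hx'
    obtain ⟨n, hn⟩ := hy'
    obtain ⟨m', hm'S, hm'⟩ := hlift m.1 m.2
    obtain ⟨n', hn'S, hn'⟩ := hlift n.1 n.2
    have h1 : m' * a ∈ RingHom.ker π.toRingHom := by
      rw [RingHom.mem_ker]; change π (m' * a) = 0; rw [map_mul, hm']; exact hm
    have h2 : n' * b ∈ RingHom.ker π.toRingHom := by
      rw [RingHom.mem_ker]; change π (n' * b) = 0; rw [map_mul, hn']; exact hn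
    have h3 : (m' * a) * (n' * b) = 0 := by
      have : (m' * a) * (n' * b) ∈ RingHom.ker π.toRingHom ^ 2 := by
        rw [pow_two]; exact Ideal.mul_mem_mul h1 h2
      rw [hsq] at this
      exact this
    rw [← IsLocalization.mk'_mul, IsLocalization.mk'_eq_zero_iff]
    refine ⟨(⟨m', hm'S⟩ : T') * ⟨n', hn'S⟩, ?_⟩
    change (m' * n') * (a * b) = 0
    rw [← h3]; ring
  · -- universal property
    intro C _ _ I hI a
    let algAC : Algebra A C := ((algebraMap AS C).comp (algebraMap A AS)).toAlgebra
    have towC : IsScalarTower A AS C := IsScalarTower.of_algebraMap_eq (fun _ => rfl)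
    have towCI : IsScalarTower A AS (C ⧸ I) := IsScalarTower.of_algebraMap_eq (fun _ => rfl)
    let a₀ : B →ₐ[A] C ⧸ I := (a.restrictScalars A).comp (IsScalarTower.toAlgHom A B BS)
    obtain ⟨a₀', ha₀', ha₀'u⟩ := huniv C I hI a₀
    have ha₀'x : ∀ x : B', Ideal.Quotient.mk I (a₀' x) = a (algebraMap B BS (π x)) := by
      intro x
      exact congrArg (fun f : B' →ₐ[A] C ⧸ I => f x) ha₀'
    have hunit : ∀ y : T', IsUnit (a₀'.toRingHom y.1) := by
      rintro ⟨_, t, ht, rfl⟩
      change IsUnit (a₀' (algebraMap A B' t))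
      rw [AlgHom.commutes]
      change IsUnit (algebraMap AS C (algebraMap A AS t))
      exact (IsLocalization.map_units AS (⟨t, ht⟩ : S)).map (algebraMap AS C)
    let l : B'S →+* C := IsLocalization.lift (M := T') (S := B'S) hunit
    have hl : ∀ x : B', l (algebraMap B' B'S x) = a₀' x := fun x => IsLocalization.lift_eq hunit x
    have hlcomm : ∀ r : AS, l (algebraMap AS B'S r) = algebraMap AS C r := by
      have : l.comp (algebraMap AS B'S) = algebraMap AS C := by
        apply IsLocalization.ringHom_ext S
        ext t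
        change l (algebraMap AS B'S (algebraMap A AS t)) = algebraMap AS C (algebraMap A AS t)
        rw [← IsScalarTower.algebraMap_apply A AS B'S, IsScalarTower.algebraMap_apply A B' B'S, hl,
          AlgHom.commutes]
        rfl
      intro r
      exact congrArg (fun f : AS →+* C => f r) this
    let a' : B'S →ₐ[AS] C :=
      { l with
        commutes' := hlcomm }
    have ha'x : ∀ x : B', a' (algebraMap B' B'S x) = a₀' x := hl
    refine ⟨a', ?_, ?_⟩
    · -- compatibility
      apply AlgHom.coe_ringHom_injective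
      apply IsLocalization.ringHom_ext T'
      ext x
      change Ideal.Quotient.mk I (a' (algebraMap B' B'S x)) = a (πS (algebraMap B' B'S x))
      rw [ha'x, ha₀'x, hπS]
    · -- uniqueness
      intro a'' ha''
      have h0 : (a''.restrictScalars A).comp (IsScalarTower.toAlgHom A B' B'S) = a₀' := by
        apply ha₀'u
        ext x
        change Ideal.Quotient.mk I (a'' (algebraMap B' B'S x)) = a (algebraMap B BS (π x))
        have := congrArg (fun f : B'S →ₐ[AS] C ⧸ I => f (algebraMap B' B'S x)) ha''
        change Ideal.Quotient.mk I (a'' (algebraMap B' B'S x)) = a (πS (algebraMap B' B'S x)) at this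
        rw [this, hπS]
      apply AlgHom.coe_ringHom_injective
      apply IsLocalization.ringHom_ext T'
      ext x
      change a'' (algebraMap B' B'S x) = a' (algebraMap B' B'S x)
      rw [ha'x, ← h0]
      rfl

end Groth.Agent.S9463
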