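import Groth.Statements.S9464
import Mathlib.RingTheory.Ideal.Quotient.Nilpotent

set_option autoImplicit false
universe u
open OmegaSh

namespace Groth.Agent.S9464

/-- Let A → B be formally unramified, π : B' → B a universal first order thickening of B relative to A,
S ⊆ B a multiplicative subset and S' = π⁻¹(S) ⊆ B'. With B_S the localization of B at S, B'_{S'} the
localization of B' at S' (both as A-algebras) and π' : B'_{S'} → B_S the A-algebra map induced by π,
the map π' is a universal first order thickening of B_S relative to A. (The published statement adds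
the consequence that the conormal module localizes accordingly.) -/
theorem result (A B B' : Type u) [CommRing A] [CommRing B]
    [CommRing B'] [Algebra A B] [Algebra.FormallyUnramified A B] [Algebra A B'] (π : B' →ₐ[A] B)
    (hπ : OmegaSh.IsUnivThickeningRing A B B' π) (S : Submonoid B)
    (BS B'S : Type u) [CommRing BS] [CommRing B'S]
    [Algebra B BS] [IsLocalization S BS]
    [Algebra B' B'S] [IsLocalization (S.comap π.toRingHom.toMonoidHom) B'S]
    [Algebra A BS] [IsScalarTower A B BS] [Algebra A B'S] [IsScalarTower A B' B'S]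
    (πS : B'S →ₐ[A] BS) (hπS : ∀ x : B', πS (algebraMap B' B'S x) = algebraMap B BS (π x)) :
    OmegaSh.IsUnivThickeningRing A BS B'S πS := by
  obtain ⟨hsurj, hsq, huniv⟩ := hπ
  set S' : Submonoid B' := S.comap π.toRingHom.toMonoidHom with hS'
  have hmemS' : ∀ x : B', x ∈ S' ↔ π x ∈ S := fun x => Iff.rfl
  -- compatibility on fractions
  have hmk : ∀ (b' : B') (s' : S'), πS (IsLocalization.mk' B'S b' s') =
      IsLocalization.mk' BS (π b') (⟨π s'.1, s'.2⟩ : S) := by
    intro b' s'
    rw [IsLocalization.eq_mk'_iff_mul_eq]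
    change πS (IsLocalization.mk' B'S b' s') * algebraMap B BS (π s'.1) = _
    rw [← hπS, ← map_mul, IsLocalization.mk'_spec, hπS]
  refine ⟨?_, ?_, ?_⟩
  · -- surjectivity
    intro y
    obtain ⟨⟨b, s⟩, rfl⟩ := IsLocalization.mk'_surjective S y
    obtain ⟨b', rfl⟩ := hsurj b
    obtain ⟨s', hs'⟩ := hsurj s.1
    have hs'mem : s' ∈ S' := by rw [hmemS', hs']; exact s.2
    refine ⟨IsLocalization.mk' B'S b' (⟨s', hs'mem⟩ : S'), ?_⟩
    rw [hmk]
    congr 1
    exact Subtype.ext hs'
  · -- square zero kernel
    rw [eq_bot_iff, pow_two, Ideal.mul_le]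
    intro x hx y hy
    rw [Ideal.mem_bot]
    obtain ⟨⟨a, s⟩, rfl⟩ := IsLocalization.mk'_surjective S' x
    obtain ⟨⟨b, t⟩, rfl⟩ := IsLocalization.mk'_surjective S' y
    have hx' : πS (IsLocalization.mk' B'S a s) = 0 := hx
    have hy' : πS (IsLocalization.mk' B'S b t) = 0 := hy
    rw [hmk, IsLocalization.mk'_eq_zero_iff] at hx' hy'
    obtain ⟨m, hm⟩ := hx'
    obtain ⟨n, hn⟩ := hy'
    obtain ⟨m', hm'⟩ := hsurj m.1
    obtain ⟨n', hn'⟩ := hsurj n.1
    have hm'S : m' ∈ S' := by rw [hmemS', hm']; exact m.2
    have hn'S : n' ∈ S' := by rw [hmemS', hn']; exact n.2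
    have h1 : m' * a ∈ RingHom.ker π.toRingHom := by
      rw [RingHom.mem_ker]; change π (m' * a) = 0; rw [map_mul, hm']; exact hm
    have h2 : n' * b ∈ RingHom.ker π.toRingHom := by
      rw [RingHom.mem_ker]; change π (n' * b) = 0; rw [map_mul, hn']; exact hn
    have h3 : (m' * a) * (n' * b) = 0 := by
      have : (m' * a) * (n' * b) ∈ RingHom.ker π.toRingHom ^ 2 := by
        rw [pow_two]; exact Ideal.mul_mem_mul h1 h2
      rw [hsq] at this
      exact this
    rw [← IsLocalization.mk'_mul, IsLocalization.mk'_eq_zero_iff]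
    refine ⟨(⟨m', hm'S⟩ : S') * ⟨n', hn'S⟩, ?_⟩
    change (m' * n') * (a * b) = 0
    rw [← h3]; ring
  · -- universal property
    intro C _ _ I hI a
    let a₀ : B →ₐ[A] C ⧸ I := a.comp (IsScalarTower.toAlgHom A B BS)
    obtain ⟨a₀', ha₀', ha₀'u⟩ := huniv C I hI a₀
    have ha₀'x : ∀ x : B', Ideal.Quotient.mk I (a₀' x) = a (algebraMap B BS (π x)) := by
      intro x
      exact congrArg (fun f : B' →ₐ[A] C ⧸ I => f x) ha₀'
    have hunit : ∀ y : S', IsUnit (a₀'.toRingHom y.1) := by
      intro y
      have hnil : IsNilpotent I := ⟨2, hI⟩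
      rw [← IsNilpotent.isUnit_quotient_mk_iff hnil]
      change IsUnit (Ideal.Quotient.mk I (a₀' y.1))
      rw [ha₀'x]
      exact (IsLocalization.map_units BS (⟨π y.1, y.2⟩ : S)).map a
    let l : B'S →+* C := IsLocalization.lift (M := S') (S := B'S) hunit
    have hl : ∀ x : B', l (algebraMap B' B'S x) = a₀' x := fun x => IsLocalization.lift_eq hunit x
    let a' : B'S →ₐ[A] C :=
      { l with
        commutes' := by
          intro r
          change l (algebraMap A B'S r) = algebraMap A C r
          rw [IsScalarTower.algebraMap_apply A B' B'S, hl, AlgHom.commutes] }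
    have ha'x : ∀ x : B', a' (algebraMap B' B'S x) = a₀' x := hl
    refine ⟨a', ?_, ?_⟩
    · -- compatibility
      apply AlgHom.coe_ringHom_injective
      apply IsLocalization.ringHom_ext S'
      ext x
      change Ideal.Quotient.mk I (a' (algebraMap B' B'S x)) = a (πS (algebraMap B' B'S x))
      rw [ha'x, ha₀'x, hπS]
    · -- uniqueness
      intro a'' ha''
      have h0 : a''.comp (IsScalarTower.toAlgHom A B' B'S) = a₀' := by
        apply ha₀'u
        ext x
        change Ideal.Quotient.mk I (a'' (algebraMap B' B'S x)) = a (algebraMap B BS (π x))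
        have := congrArg (fun f : B'S →ₐ[A] C ⧸ I => f (algebraMap B' B'S x)) ha''
        change Ideal.Quotient.mk I (a'' (algebraMap B' B'S x)) = a (πS (algebraMap B' B'S x)) at this
        rw [this, hπS]
      apply AlgHom.coe_ringHom_injective
      apply IsLocalization.ringHom_ext S'
      ext x
      change a'' (algebraMap B' B'S x) = a' (algebraMap B' B'S x)
      rw [ha'x, ← h0]
      rfl

end Groth.Agent.S9464
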