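import Groth.Statements.S9468
import Groth.Agent.Lib.Helper50.ResidueTriv

set_option autoImplicit false
universe u
open Hensel

namespace Groth.Agent.S9468

/-- Let R be a ring and p a prime of R. Consider pairs (S, q) with S an étale R-algebra and q a prime of
S lying over p such that κ(p) → κ(q) is bijective; a morphism of pairs is an R-algebra map pulling
the second prime back to the first. Then any two pairs admit morphisms of pairs to a common third
pair. -/
theorem result (R : Type u) [CommRing R]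
    (p : Ideal R) [p.IsPrime] (S₁ : Type u) [CommRing S₁] [Algebra R S₁] [Algebra.Etale R S₁] (q₁ : Ideal S₁) [q₁.IsPrime] (hq₁ : p = q₁.comap (algebraMap R S₁))
    (hq₁κ : Function.Bijective (Ideal.ResidueField.map p q₁ (algebraMap R S₁) hq₁))
    (S₂ : Type u) [CommRing S₂] [Algebra R S₂] [Algebra.Etale R S₂] (q₂ : Ideal S₂) [q₂.IsPrime] (hq₂ : p = q₂.comap (algebraMap R S₂))
    (hq₂κ : Function.Bijective (Ideal.ResidueField.map p q₂ (algebraMap R S₂) hq₂)) :
    ∃ (S₃ : Type u) (_ : CommRing S₃) (_ : Algebra R S₃) (_ : Algebra.Etale R S₃) (q₃ : Ideal S₃)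
      (_ : q₃.IsPrime) (hq₃ : p = q₃.comap (algebraMap R S₃)),
      Function.Bijective (Ideal.ResidueField.map p q₃ (algebraMap R S₃) hq₃) ∧
        ∃ (φ₁ : S₁ →ₐ[R] S₃) (φ₂ : S₂ →ₐ[R] S₃),
          q₃.comap φ₁.toRingHom = q₁ ∧ q₃.comap φ₂.toRingHom = q₂ := by
  open TensorProduct Groth.Agent.Lib.Helper50 in
  obtain ⟨g₁, hg₁, -⟩ := exists_algHom_residueField p q₁ hq₁ hq₁κ
  obtain ⟨g₂, hg₂, -⟩ := exists_algHom_residueField p q₂ hq₂ hq₂κ
  let G : S₁ ⊗[R] S₂ →ₐ[R] p.ResidueField :=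
    Algebra.TensorProduct.lift g₁ g₂ (fun _ _ => Commute.all _ _)
  have hGl : ∀ x, G (x ⊗ₜ[R] 1) = g₁ x := fun x => by simp [G]
  have hGr : ∀ y, G (1 ⊗ₜ[R] y) = g₂ y := fun y => by simp [G]
  have : Algebra.Etale R (S₁ ⊗[R] S₂) := Algebra.Etale.comp R S₁ (S₁ ⊗[R] S₂)
  let q₃ : Ideal (S₁ ⊗[R] S₂) := RingHom.ker G.toRingHom
  have : q₃.IsPrime := RingHom.ker_isPrime G.toRingHom
  have hq₃ : p = q₃.comap (algebraMap R (S₁ ⊗[R] S₂)) := by
    ext r
    rw [Ideal.mem_comap, RingHom.mem_ker]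
    change _ ↔ G (algebraMap R (S₁ ⊗[R] S₂) r) = 0
    rw [AlgHom.commutes, Ideal.algebraMap_residueField_eq_zero]
  refine ⟨S₁ ⊗[R] S₂, inferInstance, inferInstance, inferInstance, q₃, inferInstance, hq₃, ?_, ?_⟩
  · exact residueField_map_bijective_of_retraction p q₃ hq₃ G.toRingHom rfl
      (fun r => G.commutes r)
  · refine ⟨Algebra.TensorProduct.includeLeft, Algebra.TensorProduct.includeRight, ?_, ?_⟩
    · ext x
      rw [Ideal.mem_comap, RingHom.mem_ker]
      change G (x ⊗ₜ[R] 1) = 0 ↔ _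
      rw [hGl, ← hg₁, RingHom.mem_ker]
      rfl
    · ext y
      rw [Ideal.mem_comap, RingHom.mem_ker]
      change G (1 ⊗ₜ[R] y) = 0 ↔ _
      rw [hGr, ← hg₂, RingHom.mem_ker]
      rfl

end Groth.Agent.S9468
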