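import Groth.Statements.S9469
import Groth.Agent.Lib.Helper50.ResidueTriv2
import Mathlib.RingTheory.Unramified.Finite
import Mathlib.RingTheory.Localization.Ideal

set_option autoImplicit false
universe u
open Hensel

namespace Groth.Agent.S9469

/-- Let R be a ring and p a prime of R. Consider pairs (S, q) with S an étale R-algebra and q a prime of
S lying over p such that κ(p) → κ(q) is bijective; a morphism of pairs is an R-algebra map pulling
the second prime back to the first. Then any two parallel morphisms of pairs φ, ψ : (S₁, q₁) → (S₂,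
q₂) are coequalized by a morphism of pairs (S₂, q₂) → (S₃, q₃). -/
theorem result (R : Type u) [CommRing R]
    (p : Ideal R) [p.IsPrime] (S₁ : Type u) [CommRing S₁] [Algebra R S₁] [Algebra.Etale R S₁] (q₁ : Ideal S₁) [q₁.IsPrime] (hq₁ : p = q₁.comap (algebraMap R S₁))
    (hq₁κ : Function.Bijective (Ideal.ResidueField.map p q₁ (algebraMap R S₁) hq₁))
    (S₂ : Type u) [CommRing S₂] [Algebra R S₂] [Algebra.Etale R S₂] (q₂ : Ideal S₂) [q₂.IsPrime] (hq₂ : p = q₂.comap (algebraMap R S₂))
    (hq₂κ : Function.Bijective (Ideal.ResidueField.map p q₂ (algebraMap R S₂) hq₂))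
    (φ ψ : S₁ →ₐ[R] S₂) (hφ : q₂.comap φ.toRingHom = q₁) (hψ : q₂.comap ψ.toRingHom = q₁) :
    ∃ (S₃ : Type u) (_ : CommRing S₃) (_ : Algebra R S₃) (_ : Algebra.Etale R S₃) (q₃ : Ideal S₃)
      (_ : q₃.IsPrime) (hq₃ : p = q₃.comap (algebraMap R S₃)),
      Function.Bijective (Ideal.ResidueField.map p q₃ (algebraMap R S₃) hq₃) ∧
        ∃ χ : S₂ →ₐ[R] S₃, q₃.comap χ.toRingHom = q₂ ∧ χ.comp φ = χ.comp ψ := by
  open TensorProduct Groth.Agent.Lib.Helper50 in
  -- the separating element of `S₁ ⊗ S₁`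
  obtain ⟨t, ht₁, ht₂⟩ := (Algebra.FormallyUnramified.iff_exists_tensorProduct
    (R := R) (S := S₁)).mp inferInstance
  let H : S₁ ⊗[R] S₁ →ₐ[R] S₂ := Algebra.TensorProduct.lift φ ψ (fun _ _ => Commute.all _ _)
  let e : S₂ := H t
  have he : ∀ s : S₁, (ψ s - φ s) * e = 0 := by
    intro s
    have := congrArg H (ht₁ s)
    simpa [H, e] using this
  -- `e ∉ q₂`
  obtain ⟨g₂, hg₂, -⟩ := exists_algHom_residueField p q₂ hq₂ hq₂κ
  have hker : ∀ θ : S₁ →ₐ[R] S₂, q₂.comap θ.toRingHom = q₁ →
      RingHom.ker (g₂.comp θ).toRingHom = q₁ := by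
    intro θ hθ
    rw [← hθ, ← hg₂]
    rfl
  have hφψ : g₂.comp φ = g₂.comp ψ :=
    algHom_residueField_unique p q₁ hq₁ _ _ (hker φ hφ) (hker ψ hψ)
  have hgH : g₂.comp H = (g₂.comp φ).comp (Algebra.TensorProduct.lmul' R) := by
    apply Algebra.TensorProduct.ext'
    intro a b
    have h1 : g₂ (ψ b) = g₂ (φ b) := (congrArg (fun f : S₁ →ₐ[R] p.ResidueField => f b) hφψ).symm
    simp [H, h1]
  have hge : g₂ e = 1 := by
    have := congrArg (fun f : S₁ ⊗[R] S₁ →ₐ[R] p.ResidueField => f t) hgH
    simpa [e, ht₂] using this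
  have heq₂ : e ∉ q₂ := by
    intro hmem
    rw [← hg₂, RingHom.mem_ker] at hmem
    change g₂ e = 0 at hmem
    rw [hge] at hmem
    exact one_ne_zero hmem
  -- the localization
  have hdisj : Disjoint (Submonoid.powers e : Set S₂) (q₂ : Set S₂) := by
    rw [Ideal.disjoint_powers_iff_notMem_of_isPrime]
    exact heq₂
  let q₃ : Ideal (Localization.Away e) := q₂.map (algebraMap S₂ (Localization.Away e))
  have hq₃prime : q₃.IsPrime :=
    IsLocalization.isPrime_of_isPrime_disjoint (Submonoid.powers e) _ _ inferInstance hdisj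
  have h23 : q₂ = q₃.comap (algebraMap S₂ (Localization.Away e)) :=
    (IsLocalization.comap_map_of_isPrime_disjoint (Submonoid.powers e) _ inferInstance hdisj).symm
  have hq₃ : p = q₃.comap (algebraMap R (Localization.Away e)) := by
    rw [IsScalarTower.algebraMap_eq R S₂ (Localization.Away e), ← Ideal.comap_comap, ← h23]
    exact hq₂
  refine ⟨Localization.Away e, inferInstance, inferInstance, inferInstance, q₃, hq₃prime, hq₃,
    ?_, ?_⟩
  · rw [residueField_map_comp p q₂ q₃ hq₂ h23 hq₃]
    exact ((RingHom.surjectiveOnStalks_of_isLocalization (Submonoid.powers e)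
      (Localization.Away e)).residueFieldMap_bijective q₂ q₃ h23).comp hq₂κ
  · refine ⟨IsScalarTower.toAlgHom R S₂ (Localization.Away e), h23.symm, ?_⟩
    ext s
    change algebraMap S₂ (Localization.Away e) (φ s) = algebraMap S₂ (Localization.Away e) (ψ s)
    have hu : IsUnit (algebraMap S₂ (Localization.Away e) e) :=
      IsLocalization.Away.algebraMap_isUnit e
    have := congrArg (algebraMap S₂ (Localization.Away e)) (he s)
    rw [map_mul, map_zero, map_sub] at this
    have h0 := (hu.mul_left_eq_zero).mp this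
    exact (sub_eq_zero.mp h0).symm

end Groth.Agent.S9469
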