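import Groth.Statements.S9472
import Groth.Agent.Lib.Helper14.DiffEtale

set_option autoImplicit false
universe u
open Diff16

namespace Groth.Agent.S9472

open TensorProduct in
/-- Let R → S → S' be ring maps with S → S' formally étale, M an S-module and (P, D_u) a module of
principal parts of order k of M relative to R → S, i.e. D_u : M → P is a differential operator of
order at most k through which every differential operator of order at most k from M to an S-module
factors by a unique S-linear map. If D_u' : S' ⊗_S M → S' ⊗_S P is a differential operator of order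
at most k relative to R → S' with D_u'(1 ⊗ m) = 1 ⊗ D_u(m), then (S' ⊗_S P, D_u') is a module of
principal parts of order k of S' ⊗_S M relative to R → S'. (The published statement writes this as
an identification of S' ⊗_S P^k_{S/R}(M) with P^k_{S'/R}(M') and forms M' by base change over R
rather than over S; with base change over R the identification fails already for k = 0, R the
rationals, S = S' a polynomial ring in one variable and M = S, and the published proof computes with
the base change over S, used here. Target modules are taken in one universe.) -/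
theorem result (R S S' : Type u) [CommRing R]
    [CommRing S] [CommRing S'] [Algebra R S] [Algebra R S'] [Algebra S S'] [IsScalarTower R S S']
    [Algebra.FormallyEtale S S'] (M : Type u) [AddCommGroup M] [Module S M] [Module R M]
    [IsScalarTower R S M] (k : ℕ) (P : Type u) [AddCommGroup P] [Module S P] [Module R P]
    [IsScalarTower R S P] (Du : M →ₗ[R] P) (hDu : Diff16.IsDiffOpLE R S M P k Du)
    (huniv : ∀ (N : Type u) [AddCommGroup N] [Module S N] [Module R N] [IsScalarTower R S N]
      (D : M →ₗ[R] N), Diff16.IsDiffOpLE R S M N k D → ∃! α : P →ₗ[S] N, α.restrictScalars R ∘ₗ Du = D)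
    (Du' : S' ⊗[S] M →ₗ[R] S' ⊗[S] P) (hDu' : Diff16.IsDiffOpLE R S' (S' ⊗[S] M) (S' ⊗[S] P) k Du')
    (hext : Du' ∘ₗ (TensorProduct.mk S S' M 1).restrictScalars R =
      (TensorProduct.mk S S' P 1).restrictScalars R ∘ₗ Du) :
    ∀ (N' : Type u) [AddCommGroup N'] [Module S' N'] [Module R N'] [IsScalarTower R S' N']
      (D' : S' ⊗[S] M →ₗ[R] N'), Diff16.IsDiffOpLE R S' (S' ⊗[S] M) N' k D' →
        ∃! α : S' ⊗[S] P →ₗ[S'] N', α.restrictScalars R ∘ₗ Du' = D' := by
  intro N' _ _ _ _ D' hD'
  letI : Module S N' := Module.compHom N' (algebraMap S S')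
  haveI : IsScalarTower S S' N' := ⟨fun s a n => by
    change (s • a) • n = algebraMap S S' s • (a • n)
    rw [Algebra.smul_def, mul_smul]⟩
  haveI : IsScalarTower R S N' := ⟨fun r s n => by
    change algebraMap S S' (r • s) • n = r • (algebraMap S S' s • n)
    rw [Algebra.smul_def, map_mul, ← IsScalarTower.algebraMap_apply, mul_smul, algebraMap_smul]⟩
  have hsmul : ∀ (s : S) (n : N'), s • n = algebraMap S S' s • n := fun _ _ => rfl
  -- the restriction of `D'` to `M`
  have hres := Groth.Agent.Lib.Helper14.DiffEtale.restrict_isDiffOpLE (R := R) (S := S) (S' := S') k D'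
    ((TensorProduct.mk S S' M 1).restrictScalars R) (fun s m => by
      simp only [LinearMap.coe_restrictScalars, TensorProduct.mk_apply]
      rw [TensorProduct.smul_tmul', smul_eq_mul, mul_one, Algebra.algebraMap_eq_smul_one,
        TensorProduct.smul_tmul]) hD'
  obtain ⟨α, hα, hαu⟩ := huniv N' (D' ∘ₗ (TensorProduct.mk S S' M 1).restrictScalars R) hres
  have hα' : ∀ m, α (Du m) = D' (1 ⊗ₜ[S] m) := fun m => LinearMap.congr_fun hα m
  have hext' : ∀ m, Du' (1 ⊗ₜ[S] m) = 1 ⊗ₜ[S] Du m := fun m => LinearMap.congr_fun hext m
  refine ⟨LinearMap.liftBaseChange S' α, ?_, ?_⟩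
  · refine Groth.Agent.Lib.Helper14.DiffEtale.eq_of_agree (S := S) k _ _ ?_ hD' ?_
    · have h0 : Diff16.IsDiffOpLE R S' (S' ⊗[S] P) N' 0
          ((LinearMap.liftBaseChange S' α).restrictScalars R) := by
        intro b x
        simp
      have := Groth.Agent.Lib.Helper14.IsDiffOpLE_comp hDu' h0
      simpa using this
    · intro m
      simp only [LinearMap.comp_apply, LinearMap.coe_restrictScalars]
      rw [hext', LinearMap.liftBaseChange_tmul, one_smul, hα']
  · intro β hβ
    have hβ' : ∀ x, β (Du' x) = D' x := fun x => LinearMap.congr_fun hβ x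
    let β₀ : P →ₗ[S] N' :=
      { toFun := fun p => β (1 ⊗ₜ[S] p)
        map_add' := fun p q => by rw [TensorProduct.tmul_add, map_add]
        map_smul' := fun s p => by
          simp only [RingHom.id_apply]
          rw [hsmul, ← map_smul, TensorProduct.smul_tmul', smul_eq_mul, mul_one,
            Algebra.algebraMap_eq_smul_one, TensorProduct.smul_tmul] }
    have h1 : β₀ = α := by
      apply hαu
      ext m
      simp only [LinearMap.comp_apply, LinearMap.coe_restrictScalars, TensorProduct.mk_apply]
      change β (1 ⊗ₜ[S] Du m) = _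
      rw [← hext', hβ']
    apply TensorProduct.AlgebraTensorModule.ext
    intro a p
    rw [LinearMap.liftBaseChange_tmul, ← h1]
    change β (a ⊗ₜ[S] p) = a • β (1 ⊗ₜ[S] p)
    rw [← map_smul, TensorProduct.smul_tmul', smul_eq_mul, mul_one]

end Groth.Agent.S9472
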