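import Groth.Statements.S9494
import Groth.Agent.Lib.Helper84.IndInertia4
import Groth.Agent.Lib.Helper4.IndCriterion

set_option autoImplicit false
universe u
open Pi1

namespace Groth.Agent.S9494

/-- Let A be an integrally closed domain with fraction field K, L/K a (possibly infinite) Galois
extension with group G = Gal(L/K), B the integral closure of A in L and q a prime of B. Let I ⊆ G be
the inertia group of q: the automorphisms σ with σ(b) - b ∈ q for every b ∈ B. Then the localization
of the ring of invariants B^I = B ∩ L^I at the prime q ∩ B^I is an ind-etale A-algebra, i.e. a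
filtered colimit of etale A-algebras. -/
theorem result (A K L : Type u) [CommRing A] [IsDomain A] [IsIntegrallyClosed A]
    [Field K] [Field L] [Algebra A K] [IsFractionRing A K] [Algebra K L] [Algebra A L] [IsScalarTower A K L]
    [IsGalois K L] (q : Ideal (integralClosure A L)) [q.IsPrime]
    (I : Subgroup (L ≃ₐ[K] L))
    (hI : ∀ σ : L ≃ₐ[K] L, σ ∈ I ↔ ∀ b : integralClosure A L, ∃ c ∈ q, (c : L) = σ b - b) :
    EtPBC.IsIndEtale A (Localization.AtPrime
      (q.comap (Subalgebra.inclusion
        (inf_le_left : integralClosure A L ⊓ (IntermediateField.fixedField I).toSubalgebra.restrictScalars A ≤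
          integralClosure A L)))) := by
  classical
  change EtPBC.IsIndEtale A (Localization.AtPrime (Groth.Agent.Lib.Helper84.IndInertia.q0 q I))
  rw [Groth.Agent.Lib.Helper4.isIndEtale_iff_hasFactorization]
  intro P _ _ hP φ
  obtain ⟨gens, hgens⟩ := (inferInstance : Algebra.FiniteType A P).out
  obtain ⟨s, hs⟩ := IsLocalization.exist_integer_multiples_of_finset
    (Groth.Agent.Lib.Helper84.IndInertia.q0 q I).primeCompl (gens.image φ)
  have hb : ∀ p ∈ gens, ∃ b : Groth.Agent.Lib.Helper84.IndInertia.C0 A I,
      algebraMap (Groth.Agent.Lib.Helper84.IndInertia.C0 A I)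
        (Localization.AtPrime (Groth.Agent.Lib.Helper84.IndInertia.q0 q I)) b =
        (s : Groth.Agent.Lib.Helper84.IndInertia.C0 A I) • φ p :=
    fun p hp => hs (φ p) (Finset.mem_image_of_mem φ hp)
  choose! bf hbf using hb
  obtain ⟨E, _, _, hE, β, hβinj, hrange, hinv⟩ :=
    Groth.Agent.Lib.Helper84.IndInertia.exists_etale_sub q I hI
      (insert (s : Groth.Agent.Lib.Helper84.IndInertia.C0 A I) (gens.image bf))
  obtain ⟨es, hes⟩ := hinv s (Finset.mem_insert_self _ _) s.2
  have hmem : ∀ p ∈ gens, φ p ∈ β.range := by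
    intro p hp
    obtain ⟨eb, heb⟩ := hrange (bf p)
      (Finset.mem_insert_of_mem (Finset.mem_image_of_mem bf hp))
    refine ⟨es * eb, ?_⟩
    show β (es * eb) = φ p
    have heb' : β eb = algebraMap (Groth.Agent.Lib.Helper84.IndInertia.C0 A I)
        (Localization.AtPrime (Groth.Agent.Lib.Helper84.IndInertia.q0 q I)) (bf p) := heb
    rw [map_mul, heb', hbf p hp, Algebra.smul_def, ← mul_assoc, hes, one_mul]
  have hle : φ.range ≤ β.range := by
    rw [← Algebra.map_top, ← hgens, AlgHom.map_adjoin]
    exact Algebra.adjoin_le (by rintro _ ⟨p, hp, rfl⟩; exact hmem p hp)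
  let α : P →ₐ[A] E := ((AlgEquiv.ofInjective β hβinj).symm : β.range →ₐ[A] E).comp
    (φ.codRestrict β.range (fun p => hle (φ.mem_range_self p)))
  refine ⟨E, inferInstance, inferInstance, hE, α, β, ?_⟩
  ext p
  have := (AlgEquiv.ofInjective β hβinj).apply_symm_apply ⟨φ p, hle (φ.mem_range_self p)⟩
  exact congrArg Subtype.val this

end Groth.Agent.S9494
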