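import Groth.Statements.S9495
import Mathlib
-- import your own Groth.Agent.* helpers here

set_option autoImplicit false
universe u
open SchMor

namespace Groth.Agent.S9495

open AlgebraicGeometry CategoryTheory in
theorem aux_spec {X : Scheme.{u}} [CompactSpace X] {R : CommRingCat.{u}} (f : X ⟶ Spec R)
    (H : StableUnderSpecialization (Set.range f)) : IsClosed (Set.range f) := by
  obtain ⟨A, g, hg⟩ := compactSpace_iff_exists.mp (inferInstance : CompactSpace X)
  have hr : Set.range (g ≫ f) = Set.range f := by
    rw [Scheme.Hom.comp_base, TopCat.coe_comp, Set.range_comp, Set.range_eq_univ.mpr hg,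
      Set.image_univ]
  obtain ⟨φ, hφ⟩ := Spec.homEquiv.symm.surjective (g ≫ f)
  rw [← hr, ← hφ] at H ⊢
  exact PrimeSpectrum.isClosed_range_of_stableUnderSpecialization φ.hom H

open AlgebraicGeometry CategoryTheory in
theorem aux_affine {X Y : Scheme.{u}} (f : X ⟶ Y) [IsAffine Y] [QuasiCompact f]
    (H : StableUnderSpecialization (Set.range f)) : IsClosed (Set.range f) := by
  haveI : CompactSpace X := QuasiCompact.compactSpace_of_compactSpace f
  have hr : Set.range (f ≫ Y.isoSpec.hom) = Y.isoSpec.hom.homeomorph '' Set.range f := by
    rw [Scheme.Hom.comp_base, TopCat.coe_comp, Set.range_comp]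
    rfl
  have h1 : IsClosed (Set.range (f ≫ Y.isoSpec.hom)) := by
    apply aux_spec
    rw [hr]
    exact H.image (Y.isoSpec.hom.homeomorph.isClosedMap.specializingMap)
  rw [hr] at h1
  exact (Homeomorph.isClosed_image _).mp h1

open AlgebraicGeometry in
open CategoryTheory in
/-- For a quasi-compact morphism of schemes f : X → S, the image f(X) is closed in S if and only if it
is stable under specialization. -/
theorem result
    {X S : Scheme.{u}} (f : X ⟶ S) [QuasiCompact f] :
    IsClosed (Set.range f) ↔ StableUnderSpecialization (Set.range f) := by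
  refine ⟨fun h => h.stableUnderSpecialization, fun H => ?_⟩
  rw [TopologicalSpace.IsOpenCover.isClosed_iff_coe_preimage (iSup_affineOpens_eq_top S)]
  intro U
  haveI : IsAffine (U : S.Opens) := U.2
  have hrange : (Subtype.val ⁻¹' Set.range f : Set (U : S.Opens)) =
      Set.range (f ∣_ (U : S.Opens)) := by
    rw [morphismRestrict_base]
    exact (Set.range_restrictPreimage _ _).symm
  have h2 : IsClosed (Set.range (f ∣_ (U : S.Opens))) :=
    aux_affine _ (by rw [← hrange]; exact H.preimage continuous_subtype_val)
  rw [← hrange] at h2
  exact h2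

end Groth.Agent.S9495
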