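import Groth.Statements.S9497
import Mathlib
-- import your own Groth.Agent.* helpers here

set_option autoImplicit false
universe u
open AffSch

namespace Groth.Agent.S9497

open CategoryTheory CategoryTheory.Limits AlgebraicGeometry in
theorem isQuasicoherent_of_iso_tilde {R : CommRingCat.{u}} {M : (Spec R).Modules}
    (N : ModuleCat R) (e : M ≅ tilde N) : M.IsQuasicoherent :=
  (SheafOfModules.isQuasicoherent (Spec R).ringCatSheaf).prop_of_iso e.symm
    (inferInstance : (tilde N).IsQuasicoherent)

open CategoryTheory CategoryTheory.Limits AlgebraicGeometry in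
set_option backward.isDefEq.respectTransparency false in
/-- a diagram of quasi-coherent modules on `Spec R` comes from a diagram of `R`-modules -/
noncomputable def diagramIso {R : CommRingCat.{u}} {J : Type u} [SmallCategory J]
    (F : J ⥤ (Spec R).Modules) [∀ j, (F.obj j).IsQuasicoherent] :
    (F ⋙ moduleSpecΓFunctor) ⋙ tilde.functor R ≅ F :=
  NatIso.ofComponents (fun j =>
      haveI := Scheme.Modules.isIso_fromTildeΓ_of_isQuasicoherent (F.obj j)
      asIso (F.obj j).fromTildeΓ)
    (fun f => (Scheme.Modules.fromTildeΓNatTrans (R := R)).naturality (F.map f))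

open CategoryTheory CategoryTheory.Limits AlgebraicGeometry in
theorem isQuasicoherent_colimit {R : CommRingCat.{u}} {J : Type u} [SmallCategory J]
    (F : J ⥤ (Spec R).Modules) [∀ j, (F.obj j).IsQuasicoherent] :
    (colimit F).IsQuasicoherent := by
  refine isQuasicoherent_of_iso_tilde (colimit (F ⋙ moduleSpecΓFunctor)) ?_
  exact (HasColimit.isoOfNatIso (diagramIso F)).symm ≪≫
    (preservesColimitIso (tilde.functor R) (F ⋙ moduleSpecΓFunctor)).symm

open AlgebraicGeometry in
open CategoryTheory Limits in
/-- Let X = Spec A be an affine scheme and F : J → Mod(O_X) a small diagram of quasi-coherent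
O_X-modules. Then the colimit of F, computed in the category of all O_X-modules, is quasi-coherent
(this contains the case of arbitrary direct sums). -/
theorem result
    (A : Type u) [CommRing A] {J : Type u} [SmallCategory J]
    (F : J ⥤ (Spec (CommRingCat.of A)).Modules) (hF : ∀ j, Coh.IsQCoh (F.obj j)) :
    Coh.IsQCoh (colimit F) := by
  haveI : ∀ j, (F.obj j).IsQuasicoherent := hF
  exact isQuasicoherent_colimit F

end Groth.Agent.S9497
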