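import Groth.Statements.S9498
import Mathlib
-- import your own Groth.Agent.* helpers here

set_option autoImplicit false
universe u
open AffSch

namespace Groth.Agent.S9498

open CategoryTheory CategoryTheory.Limits AlgebraicGeometry in
theorem comapFun_injective {R : CommRingCat.{u}} {M N : ModuleCat R} (f : M ⟶ N)
    (hf : Function.Injective f.hom) (y : PrimeSpectrum.Top R) :
    Function.Injective (StructureSheaf.Localizations.comapFun f.hom y) := by
  intro a b hab
  induction a using LocalizedModule.induction_on with | h a s =>
  induction b using LocalizedModule.induction_on with | h b t =>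
  rw [StructureSheaf.Localizations.comapFun_mk, StructureSheaf.Localizations.comapFun_mk,
    LocalizedModule.mk_eq] at hab
  obtain ⟨v, hv⟩ := hab
  rw [LocalizedModule.mk_eq]
  refine ⟨⟨v.1, v.2⟩, hf ?_⟩
  simp only [Submonoid.smul_def, RingHom.id_apply, map_smul] at hv ⊢
  exact hv

open CategoryTheory CategoryTheory.Limits AlgebraicGeometry in
theorem tilde_map_app_injective {R : CommRingCat.{u}} {M N : ModuleCat R} (f : M ⟶ N)
    (hf : Function.Injective f.hom) (U : (TopologicalSpace.Opens (Spec R))ᵒᵖ) :
    Function.Injective ((tilde.map f).val.app U) := by
  intro x x' hxx'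
  apply Subtype.ext
  funext y
  have h1 : ((tilde.map f).val.app U x).1 y = ((tilde.map f).val.app U x').1 y := by rw [hxx']
  exact comapFun_injective f hf y.1 h1

open CategoryTheory CategoryTheory.Limits AlgebraicGeometry in
theorem tilde_map_mono {R : CommRingCat.{u}} {M N : ModuleCat R} (f : M ⟶ N) [Mono f] :
    Mono (tilde.map f) := by
  have hf : Function.Injective f.hom := (ModuleCat.mono_iff_injective f).mp inferInstance
  haveI : Mono ((SheafOfModules.forget _).map (tilde.map f)) :=
    PresheafOfModules.mono_of_injective (fun U => tilde_map_app_injective f hf U)
  exact (SheafOfModules.forget _).mono_of_mono_map this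

open CategoryTheory CategoryTheory.Limits AlgebraicGeometry in
theorem tilde_preservesFiniteColimits (R : CommRingCat.{u}) :
    PreservesFiniteColimits (tilde.functor R) := inferInstance

open CategoryTheory CategoryTheory.Limits AlgebraicGeometry in
theorem tilde_preservesFiniteLimits (R : CommRingCat.{u}) :
    PreservesFiniteLimits (tilde.functor R) := by
  have hcolim : PreservesFiniteColimits (tilde.functor R) := inferInstance
  rw [Functor.preservesFiniteLimits_iff_forall_exact_map_and_mono]
  intro S hS
  have h1 := (Functor.preservesFiniteColimits_iff_forall_exact_map_and_epi _).mp hcolim S hS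
  haveI := hS.mono_f
  exact ⟨h1.1, tilde_map_mono S.f⟩

open AlgebraicGeometry in
open CategoryTheory Limits in
/-- For a commutative ring A, the functor M ↦ M~ from the category of A-modules to the category of
O-modules on Spec A is exact, i.e. it preserves finite limits and finite colimits. -/
theorem result
    (A : Type u) [CommRing A] :
    PreservesFiniteLimits (tilde.functor (CommRingCat.of A)) ∧
      PreservesFiniteColimits (tilde.functor (CommRingCat.of A)) := by
  exact ⟨tilde_preservesFiniteLimits _, tilde_preservesFiniteColimits _⟩

end Groth.Agent.S9498
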