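import Groth.Statements.S9496
import Groth.Agent.S9498
import Groth.Agent.S9497
-- import your own Groth.Agent.* helpers here

set_option autoImplicit false
universe u
open AffSch

namespace Groth.Agent.S9496

open CategoryTheory CategoryTheory.Limits AlgebraicGeometry in
set_option backward.isDefEq.respectTransparency false in
theorem isQuasicoherent_kernel_cokernel {R : CommRingCat.{u}} {M N : (Spec R).Modules}
    [M.IsQuasicoherent] [N.IsQuasicoherent] (φ : M ⟶ N) :
    (kernel φ).IsQuasicoherent ∧ (cokernel φ).IsQuasicoherent := by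
  haveI := Groth.Agent.S9498.tilde_preservesFiniteLimits R
  haveI := Groth.Agent.S9498.tilde_preservesFiniteColimits R
  haveI := Scheme.Modules.isIso_fromTildeΓ_of_isQuasicoherent M
  haveI := Scheme.Modules.isIso_fromTildeΓ_of_isQuasicoherent N
  let eM : (tilde.functor R).obj (moduleSpecΓFunctor.obj M) ≅ M := asIso M.fromTildeΓ
  let eN : (tilde.functor R).obj (moduleSpecΓFunctor.obj N) ≅ N := asIso N.fromTildeΓ
  let φ₀ := moduleSpecΓFunctor.map φ
  have hnat : (tilde.functor R).map φ₀ ≫ eN.hom = eM.hom ≫ φ :=
    (Scheme.Modules.fromTildeΓNatTrans (R := R)).naturality φ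
  have w : φ ≫ eN.symm.hom = eM.symm.hom ≫ (tilde.functor R).map φ₀ := by
    rw [Iso.symm_hom, Iso.symm_hom, Iso.comp_inv_eq, Category.assoc, hnat, Iso.inv_hom_id_assoc]
  constructor
  · refine Groth.Agent.S9497.isQuasicoherent_of_iso_tilde (kernel φ₀) ?_
    exact kernel.mapIso φ ((tilde.functor R).map φ₀) eM.symm eN.symm w ≪≫
      (PreservesKernel.iso (tilde.functor R) φ₀).symm
  · refine Groth.Agent.S9497.isQuasicoherent_of_iso_tilde (cokernel φ₀) ?_
    exact cokernel.mapIso φ ((tilde.functor R).map φ₀) eM.symm eN.symm w ≪≫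
      (PreservesCokernel.iso (tilde.functor R) φ₀).symm

open AlgebraicGeometry in
open CategoryTheory Limits in
/-- Let X = Spec A be an affine scheme and φ : M → N a morphism of quasi-coherent O_X-modules. Then the
kernel and the cokernel of φ, computed in the category of all O_X-modules, are quasi-coherent. -/
theorem result
    (A : Type u) [CommRing A] {M N : (Spec (CommRingCat.of A)).Modules}
    [Coh.IsQCoh M] [Coh.IsQCoh N] (φ : M ⟶ N) :
    Coh.IsQCoh (kernel φ) ∧ Coh.IsQCoh (cokernel φ) := by
  exact isQuasicoherent_kernel_cokernel φ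

end Groth.Agent.S9496
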