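import Groth.Statements.S9499
import Mathlib

set_option autoImplicit false
universe u
open SchMor

namespace Groth.Agent.S9499

open AlgebraicGeometry CategoryTheory Limits

theorem flat_of_semisimple {X : Scheme.{u}} (R : CommRingCat.{u}) [IsSemisimpleRing R]
    (f : X ⟶ Spec R) : Flat f := by
  rw [HasRingHomProperty.iff_of_source_openCover (P := @Flat) X.affineCover]
  intro i
  have : IsSemisimpleRing Γ(Spec R, ⊤) :=
    (Scheme.ΓSpecIso R).commRingCatIsoToRingEquiv.symm.isSemisimpleRing
  algebraize [((X.affineCover.f i ≫ f).appTop).hom]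
  have := Module.projective_of_isSemisimpleRing (R := Γ(Spec R, ⊤))
    (M := Γ(X.affineCover.X i, ⊤))
  exact Module.Flat.of_projective

section main
variable {ι : Type u} [Finite ι] (k : ι → Type u) [∀ i, Field (k i)]

/-- the point of `Spec (Π i, k i)` attached to `i`. -/
noncomputable def pt (i : ι) : PrimeSpectrum (Π i, k i) :=
  PrimeSpectrum.comap (Pi.evalRingHom k i) default

theorem exists_pt (x : PrimeSpectrum (Π i, k i)) : ∃ i, x = pt k i := by
  obtain ⟨⟨i, p⟩, rfl⟩ := (PrimeSpectrum.sigmaToPi_bijective k).2 x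
  refine ⟨i, ?_⟩
  rw [PrimeSpectrum.sigmaToPi_apply, pt, Unique.eq_default p]

/-- projection to a sub-product -/
def proj (I : Set ι) : (Π i, k i) →+* (Π i : I, k i) :=
  Pi.ringHom fun i : I => Pi.evalRingHom k i.1

theorem comap_proj_pt (I : Set ι) (i : I) :
    PrimeSpectrum.comap (proj k I) (pt (fun j : I => k j.1) i) = pt k i.1 := by
  rw [pt, pt, ← PrimeSpectrum.comap_comp_apply]
  rfl

end main

open AlgebraicGeometry in
open CategoryTheory in
/-- Let (k_i) be a finite family of fields and f : X → Spec(∏_i k_i) a monomorphism of schemes. Then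
there are a subset I of the index set and an isomorphism X ≅ Spec(∏_{i∈I} k_i) over Spec(∏_i k_i),
where Spec(∏_{i∈I} k_i) maps to Spec(∏_i k_i) through the projection ring homomorphism ∏_i k_i →
∏_{i∈I} k_i. -/
theorem result
    {ι : Type u} [Finite ι] (k : ι → Type u) [∀ i, Field (k i)]
    {X : Scheme.{u}} (f : X ⟶ Spec (CommRingCat.of (Π i, k i))) [Mono f] :
    ∃ (I : Set ι) (e : X ≅ Spec (CommRingCat.of (Π i : I, k i))),
      e.hom ≫ Spec.map (CommRingCat.ofHom (Pi.ringHom fun i : I => Pi.evalRingHom k i.1)) = f := by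
  classical
  let I : Set ι := {i | ∃ x : X, f x = pt k i}
  let j : Spec (CommRingCat.of (Π i : I, k i)) ⟶ Spec (CommRingCat.of (Π i, k i)) :=
    Spec.map (CommRingCat.ofHom (proj k I))
  have hsurj : Function.Surjective (proj k I) := by
    intro g
    refine ⟨fun i => if hi : i ∈ I then g ⟨i, hi⟩ else 0, ?_⟩
    funext i
    show (if hi : i.1 ∈ I then g ⟨i.1, hi⟩ else 0) = g i
    rw [dif_pos i.2]
  have hjcl : IsClosedImmersion j := IsClosedImmersion.spec_of_surjective _ hsurj
  have hjmono : Mono j := inferInstance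
  have hfin0 : Finite (PrimeSpectrum (Π i, k i)) :=
    Finite.of_surjective _ (PrimeSpectrum.sigmaToPi_bijective k).2
  have hfinX : Finite X := Finite.of_injective (f : X → PrimeSpectrum (Π i, k i)) f.injective
  have hqc : QuasiCompact f := by
    rw [quasiCompact_iff_compactSpace f]
    infer_instance
  have hss : IsSemisimpleRing (CommRingCat.of (Π i, k i)) :=
    inferInstanceAs (IsSemisimpleRing (Π i, k i))
  have hssI : IsSemisimpleRing (CommRingCat.of (Π i : I, k i)) :=
    inferInstanceAs (IsSemisimpleRing (Π i : I, k i))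
  have hjflat : Flat j := flat_of_semisimple _ j
  -- the two projections
  have h1flat : Flat (pullback.fst f j) := inferInstance
  have h1mono : Mono (pullback.fst f j) := inferInstance
  have h1qc : QuasiCompact (pullback.fst f j) := inferInstance
  have hjpt : ∀ i : I, j (pt (fun j : I => k j.1) i) = pt k i.1 := fun i => comap_proj_pt k I i
  have h1surj : Surjective (pullback.fst f j) := by
    refine ⟨fun x => ?_⟩
    obtain ⟨i, hi⟩ := exists_pt k (f x)
    have hiI : i ∈ I := ⟨x, hi⟩
    obtain ⟨z, hz, -⟩ := Scheme.Pullback.exists_preimage_pullback (f := f) (g := j) x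
      (pt (fun j : I => k j.1) ⟨i, hiI⟩) (by rw [hi]; exact (hjpt ⟨i, hiI⟩).symm)
    exact ⟨z, hz⟩
  have h2flat : Flat (pullback.snd f j) := flat_of_semisimple _ _
  have h2mono : Mono (pullback.snd f j) := inferInstance
  have h2qc : QuasiCompact (pullback.snd f j) := inferInstance
  have h2surj : Surjective (pullback.snd f j) := by
    refine ⟨fun y => ?_⟩
    obtain ⟨i, hi⟩ := exists_pt (fun j : I => k j.1) y
    obtain ⟨x, hx⟩ := i.2
    obtain ⟨z, -, hz⟩ := Scheme.Pullback.exists_preimage_pullback (f := f) (g := j) x y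
      (by rw [hx, hi]; exact (hjpt i).symm)
    exact ⟨z, hz⟩
  have h1 : IsIso (pullback.fst f j) := Flat.isIso_of_surjective_of_mono _
  have h2 : IsIso (pullback.snd f j) := Flat.isIso_of_surjective_of_mono _
  refine ⟨I, (asIso (pullback.fst f j)).symm ≪≫ asIso (pullback.snd f j), ?_⟩
  change (inv (pullback.fst f j) ≫ pullback.snd f j) ≫ j = f
  rw [Category.assoc, ← pullback.condition, IsIso.inv_hom_id_assoc]

end Groth.Agent.S9499
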