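import Groth.Statements.S9500
import Groth.Agent.S9499
import Mathlib

set_option autoImplicit false
universe u
open SchMor

namespace Groth.Agent.S9500

open AlgebraicGeometry CategoryTheory Limits

/-- a mono from a nonempty scheme to the spectrum of a field is an isomorphism. -/
theorem isIso_of_mono_field {P : Scheme.{u}} (K : Type u) [Field K]
    (g : P ⟶ Spec (CommRingCat.of K)) [Mono g] [Nonempty P] : IsIso g := by
  have hss : IsSemisimpleRing (CommRingCat.of K) := inferInstanceAs (IsSemisimpleRing K)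
  have hflat : Flat g := Groth.Agent.S9499.flat_of_semisimple _ g
  have hsub : Subsingleton P := g.injective.subsingleton
  have hqc : QuasiCompact g := by
    rw [quasiCompact_iff_compactSpace g]
    infer_instance
  have hsurj : Surjective g := by
    refine ⟨fun y => ?_⟩
    obtain ⟨x⟩ := ‹Nonempty P›
    exact ⟨x, Subsingleton.elim _ _⟩
  exact Flat.isIso_of_surjective_of_mono g

theorem exists_sigma_pt {σ : Type u} (k : σ → Type u) [∀ i, Field (k i)]
    (z : ↥(∐ fun i => Spec (CommRingCat.of (k i)))) :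
    ∃ i, z = Sigma.ι (fun i => Spec (CommRingCat.of (k i))) i default := by
  obtain ⟨⟨i, x⟩, rfl⟩ := (sigmaMk (fun i => Spec (CommRingCat.of (k i)))).surjective z
  refine ⟨i, ?_⟩
  rw [sigmaMk_mk, Unique.eq_default x]

open AlgebraicGeometry in
open CategoryTheory Limits in
/-- Let (k_i)_{i ∈ ι} be a family of fields, X = ∐_i Spec(k_i) the disjoint union, and f : Y → X a
monomorphism of schemes. Then there are a subset J of ι and an isomorphism Y ≅ ∐_{j ∈ J} Spec(k_j)
over X, where ∐_{j ∈ J} Spec(k_j) maps to X by the coproduct inclusions. -/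
theorem result
    {ι : Type u} (k : ι → Type u) [∀ i, Field (k i)]
    {Y : Scheme.{u}} (f : Y ⟶ ∐ fun i => Spec (CommRingCat.of (k i))) [Mono f] :
    ∃ (J : Set ι) (e : Y ≅ ∐ fun j : J => Spec (CommRingCat.of (k j.1))),
      e.hom ≫ Sigma.desc (fun j : J => Sigma.ι (fun i => Spec (CommRingCat.of (k i))) j.1) = f := by
  classical
  let g : ι → Scheme.{u} := fun i => Spec (CommRingCat.of (k i))
  let J : Set ι := {i | ∃ y : Y, f y = Sigma.ι g i default}
  let gJ : J → Scheme.{u} := fun j => Spec (CommRingCat.of (k j.1))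
  let j : (∐ gJ) ⟶ ∐ g := Sigma.desc (fun j : J => Sigma.ι g j.1)
  have hjι : ∀ a : J, Sigma.ι gJ a ≫ j = Sigma.ι g a.1 := fun a => Sigma.ι_desc _ _
  have hj : IsOpenImmersion j := by
    apply isOpenImmersion_sigmaDesc
    intro a b hab
    rw [Function.onFun, Set.disjoint_iff_forall_ne]
    rintro _ ⟨x, rfl⟩ _ ⟨y, rfl⟩ e
    have := (sigmaι_eq_iff g a.1 b.1 x y).mp e
    exact hab (Subtype.ext (congrArg Sigma.fst this))
  have hjpt : ∀ a : J, j (Sigma.ι gJ a default) = Sigma.ι g a.1 default := by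
    intro a
    rw [← Scheme.Hom.comp_apply, hjι a]
  have hrange : Set.range f ⊆ Set.range j := by
    rintro _ ⟨y, rfl⟩
    obtain ⟨i, hi⟩ := exists_sigma_pt k (f y)
    exact ⟨Sigma.ι gJ ⟨i, ⟨y, hi⟩⟩ default, (hjpt ⟨i, ⟨y, hi⟩⟩).trans hi.symm⟩
  let f' : Y ⟶ ∐ gJ := IsOpenImmersion.lift j f hrange
  have hf' : f' ≫ j = f := IsOpenImmersion.lift_fac j f hrange
  have hmono : Mono f' := mono_of_mono_fac hf'
  have hiso : IsIso f' := by
    change (MorphismProperty.isomorphisms Scheme) f'
    rw [IsZariskiLocalAtTarget.iff_of_openCover (P := MorphismProperty.isomorphisms Scheme)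
      (sigmaOpenCover gJ)]
    intro a
    change IsIso (pullback.snd f' (Sigma.ι gJ a))
    have : Nonempty ↑(pullback f' (Sigma.ι gJ a)) := by
      obtain ⟨y, hy⟩ := a.2
      have h1 : f' y = Sigma.ι gJ a default := by
        apply j.injective
        rw [hjpt a, ← Scheme.Hom.comp_apply, hf', hy]
      obtain ⟨z, -, -⟩ := Scheme.Pullback.exists_preimage_pullback (f := f')
        (g := Sigma.ι gJ a) y default h1
      exact ⟨z⟩
    exact isIso_of_mono_field (k a.1) (pullback.snd f' (Sigma.ι gJ a))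
  exact ⟨J, asIso f', hf'⟩

end Groth.Agent.S9500
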