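import Groth.Statements.S9507
import Groth.Agent.Lib.Helper11.LRSFac3

set_option autoImplicit false
universe u
open LRSImm

namespace Groth.Agent.S9507

open AlgebraicGeometry CategoryTheory Opposite TopologicalSpace in
lemma c_eq_of_eq {A B : LocallyRingedSpace.{u}} {α β : A ⟶ B} (h : α = β) :
    α.c ≫ eqToHom (by rw [h]) = β.c := by
  subst h
  simp


open AlgebraicGeometry in
open CategoryTheory Opposite TopologicalSpace in
/-- Take a morphism i : Z → X of locally ringed spaces that is a closed immersion (a homeomorphism onto
a closed subset, O_X → i_*O_Z surjective as a map of sheaves, kernel I locally generated by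
sections), and let f : Y → X be a morphism of locally ringed spaces. Then f factors through i if and
only if the composite I → O_X → f_*O_Y vanishes, i.e. every local section of O_X that maps to zero
in i_*O_Z maps to zero in f_*O_Y (equivalently f^*I → O_Y is zero); moreover the factorisation Y → Z
is unique. (The published statement is phrased for the closed subspace cut out by a sheaf of ideals
locally generated by sections; here it is phrased for any closed immersion of locally ringed spaces
with I the kernel of O_X → i_*O_Z, which is the situation its proof treats.) -/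
theorem result
    {Z X Y : LocallyRingedSpace.{u}} (i : Z ⟶ X) (hi : LRSImm.IsClosedImmersion i) (f : Y ⟶ X) :
    ((∃ g : Y ⟶ Z, g ≫ i = f) ↔
      ∀ (U : Opens X.toTopCat) (s : X.presheaf.obj (op U)),
        i.c.app (op U) s = 0 → f.c.app (op U) s = 0) ∧
    ∀ g g' : Y ⟶ Z, g ≫ i = f → g' ≫ i = f → g = g' := by
  classical
  obtain ⟨hemb, hsurj, hker⟩ := hi
  have hCI := Groth.Agent.Lib.Helper25.LRSClosedLocal.CI2.of_isClosedImmersion i ⟨hemb, hsurj, hker⟩
  refine ⟨⟨?_, ?_⟩, ?_⟩
  · rintro ⟨g, rfl⟩ U s hs
    rw [LocallyRingedSpace.comp_c_app]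
    change (g.c.app _).hom ((i.c.app (op U)).hom s) = 0
    rw [show (i.c.app (op U)).hom s = 0 from hs, map_zero]
  · intro H
    obtain ⟨φ, hφ⟩ := Groth.Agent.Lib.Helper11.LRSFac.exists_φ i f H hsurj
    let gP : Y.toPresheafedSpace ⟶ Z.toPresheafedSpace :=
      ⟨Groth.Agent.Lib.Helper11.LRSFac.b i f hemb H, Groth.Agent.Lib.Helper11.LRSFac.gc i f hemb H φ⟩
    have hcomp : gP ≫ i.toHom = f.toHom := by
      refine PresheafedSpace.ext _ _ (Groth.Agent.Lib.Helper11.LRSFac.b_comp i f hemb H) ?_
      refine NatTrans.ext (funext fun U => ?_)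
      rw [NatTrans.comp_app, PresheafedSpace.comp_c_app]
      erw [← Category.assoc, Groth.Agent.Lib.Helper11.LRSFac.c_gc_app i f hemb H φ hφ U.unop,
        Category.assoc, Functor.whiskerRight_app, ← Functor.map_comp]
      exact (congrArg (f.c.app (op (unop U)) ≫ ·) ((congrArg Y.presheaf.map
        (Subsingleton.elim _ (𝟙 _))).trans (Y.presheaf.map_id _))).trans (Category.comp_id _)
    have hloc : ∀ y, IsLocalHom (gP.stalkMap y).hom := by
      intro y
      have h1 : IsLocalHom ((gP ≫ i.toHom).stalkMap y).hom := by
        rw [hcomp]; exact f.prop y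
      rw [PresheafedSpace.stalkMap.comp] at h1
      constructor
      intro a ha
      obtain ⟨a', rfl⟩ := hCI.surj (gP.base y) a
      have h2 : IsUnit a' := by
        apply h1.map_nonunit
        exact ha
      exact h2.map _
    refine ⟨⟨gP, hloc⟩, ?_⟩
    exact LocallyRingedSpace.Hom.ext' hcomp
  · intro g g' h1 h2
    subst h1
    have hb : g'.base = g.base := by
      ext y
      apply hemb.injective
      exact congr(($h2).base y)
    symm
    apply LocallyRingedSpace.Hom.ext'
    refine PresheafedSpace.ext _ _ hb ?_
    refine NatTrans.ext (funext fun V => ?_)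
    obtain ⟨V⟩ := V
    obtain ⟨U, rfl⟩ : ∃ U, V = (Opens.map i.base).obj U :=
      ⟨_, (Groth.Agent.Lib.Helper11.LRSFac.map_E i hemb V).symm⟩
    have hU' : ∀ W : Opens X.toTopCat,
        (Opens.map (g ≫ i).base).obj W = (Opens.map (g' ≫ i).base).obj W := fun W => by rw [h2]
    let φ₁ : i.base _* Z.presheaf ⟶ (g ≫ i).base _* Y.presheaf :=
      (TopCat.Presheaf.pushforward _ i.base).map g.c
    let φ₂ : i.base _* Z.presheaf ⟶ (g ≫ i).base _* Y.presheaf :=
      { app := fun W => g'.c.app (op ((Opens.map i.base).obj W.unop)) ≫
          Y.presheaf.map (eqToHom (hU' W.unop)).op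
        naturality := fun W W' r => by
          have e := g'.c.naturality ((Opens.map i.base).op.map r)
          calc (i.base _* Z.presheaf).map r ≫ g'.c.app (op ((Opens.map i.base).obj W'.unop)) ≫
                Y.presheaf.map (eqToHom (hU' W'.unop)).op
              = (Z.presheaf.map ((Opens.map i.base).op.map r) ≫
                  g'.c.app (op ((Opens.map i.base).obj W'.unop))) ≫
                    Y.presheaf.map (eqToHom (hU' W'.unop)).op := by
                rw [Category.assoc]; rfl
            _ = (g'.c.app (op ((Opens.map i.base).obj W.unop)) ≫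
                  (g'.base _* Y.presheaf).map ((Opens.map i.base).op.map r)) ≫
                    Y.presheaf.map (eqToHom (hU' W'.unop)).op := by
                erw [e]
                rfl
            _ = (g'.c.app (op ((Opens.map i.base).obj W.unop)) ≫
                  Y.presheaf.map (eqToHom (hU' W.unop)).op) ≫
                    ((g ≫ i).base _* Y.presheaf).map r := by
                rw [Category.assoc, Category.assoc]
                congr 1
                change Y.presheaf.map _ ≫ Y.presheaf.map _ = Y.presheaf.map _ ≫ Y.presheaf.map _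
                rw [← Functor.map_comp, ← Functor.map_comp]
                rfl }
    have key : φ₁ = φ₂ := by
      apply Groth.Agent.Lib.Helper11.LRSFac.φ_unique i (g ≫ i) hsurj
      refine NatTrans.ext (funext fun W => ?_)
      have e1 : (i.c ≫ φ₁).app W = (g ≫ i).toHom.c.app W := rfl
      have e2 : (i.c ≫ φ₂).app W = (g' ≫ i).toHom.c.app W ≫
          Y.presheaf.map (eqToHom (hU' W.unop)).op := by
        change i.c.app W ≫ g'.c.app _ ≫ Y.presheaf.map _ = _
        rw [← Category.assoc]
        rfl
      rw [e1, e2]
      have h2' : (g ≫ i).toHom = (g' ≫ i).toHom := by rw [h2]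
      exact (PresheafedSpace.congr_app h2' W).trans
        (congrArg ((g' ≫ i).toHom.c.app W ≫ ·) (congrArg Y.presheaf.map (Subsingleton.elim _ _)))
    have hk : g.c.app (op ((Opens.map i.base).obj U)) =
        g'.c.app (op ((Opens.map i.base).obj U)) ≫ Y.presheaf.map (eqToHom (hU' U)).op :=
      congr($(key).app (op U))
    rw [NatTrans.comp_app, Functor.whiskerRight_app, hk]
    exact congrArg (g'.c.app (op ((Opens.map i.base).obj U)) ≫ ·)
      (congrArg Y.presheaf.map (Subsingleton.elim _ _))

end Groth.Agent.S9507
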