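import Groth.Statements.S9508
import Mathlib
-- import your own Groth.Agent.* helpers here

set_option autoImplicit false
universe u
open SchMor

namespace Groth.Agent.S9508

open AlgebraicGeometry in
open CategoryTheory in
/-- (1) ⇔ (2): A morphism of schemes f : X → S is quasi-separated if and only if, whenever two affine
opens U and V of X both lie in the preimage f⁻¹(W) of one affine open W of S, their intersection U ∩
V is quasi-compact (equivalently, is covered by finitely many affine opens). -/
theorem result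
    {X S : Scheme.{u}} (f : X ⟶ S) :
    QuasiSeparated f ↔
      ∀ (U V : X.affineOpens) (W : S.affineOpens),
        (U : X.Opens) ≤ f ⁻¹ᵁ (W : S.Opens) → (V : X.Opens) ≤ f ⁻¹ᵁ (W : S.Opens) →
          IsCompact ((U : Set X) ∩ (V : Set X)) := by
  constructor
  · intro h U V W hU hV
    have hqs : IsQuasiSeparated ((f ⁻¹ᵁ (W : S.Opens) : X.Opens) : Set X) :=
      f.isQuasiSeparated_preimage W.2.isQuasiSeparated
    exact hqs (U : Set X) (V : Set X) hU U.1.2 U.2.isCompact hV V.1.2 V.2.isCompact
  · intro H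
    rw [HasAffineProperty.eq_targetAffineLocally (P := @QuasiSeparated)]
    intro W
    refine (quasiSeparatedSpace_iff_forall_affineOpens
      (X := (f ⁻¹ᵁ (W : S.Opens)).toScheme)).mpr ?_
    intro U' V'
    have hU : IsAffineOpen ((f ⁻¹ᵁ (W : S.Opens)).ι ''ᵁ (U' : Scheme.Opens _)) :=
      U'.2.image_of_isOpenImmersion _
    have hV : IsAffineOpen ((f ⁻¹ᵁ (W : S.Opens)).ι ''ᵁ (V' : Scheme.Opens _)) :=
      V'.2.image_of_isOpenImmersion _
    have h1 := H ⟨_, hU⟩ ⟨_, hV⟩ W (Scheme.Opens.ι_image_le _ _) (Scheme.Opens.ι_image_le _ _)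
    rw [(f ⁻¹ᵁ (W : S.Opens)).ι.isOpenEmbedding.isEmbedding.isCompact_iff,
      Set.image_inter (f ⁻¹ᵁ (W : S.Opens)).ι.isOpenEmbedding.injective]
    exact h1

end Groth.Agent.S9508
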