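import Groth.Statements.S9512
import Mathlib
-- import your own Groth.Agent.* helpers here

set_option autoImplicit false
universe u
open LRSImm

namespace Groth.Agent.S9512

open AlgebraicGeometry in
open CategoryTheory Opposite in
/-- Let X be a locally ringed space, Y = Spec R an affine scheme and f : X → Y a morphism of locally
ringed spaces. Given a point x of X, the image f(x) is the prime of R obtained as the inverse image
of the maximal ideal of O_{X,x} under the composite R = Γ(Y, O_Y) → Γ(X, O_X) → O_{X,x}. -/
theorem result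
    (X : LocallyRingedSpace.{u}) (R : CommRingCat.{u})
    (f : X ⟶ (Spec R).toLocallyRingedSpace) (x : X.toTopCat) :
    f.base x = PrimeSpectrum.comap
      ((Scheme.ΓSpecIso R).inv ≫ f.c.app (op ⊤) ≫ X.presheaf.germ ⊤ x trivial).hom
      (IsLocalRing.closedPoint (X.presheaf.stalk x)) := by
  have h0 := LocallyRingedSpace.stalkMap_germ f ⊤ x trivial
  have h1 : (Scheme.ΓSpecIso R).inv ≫ f.c.app (op ⊤) ≫ X.presheaf.germ ⊤ x trivial =
      (Scheme.ΓSpecIso R).inv ≫
        (Spec R).toLocallyRingedSpace.presheaf.germ ⊤ (f.base x) trivial ≫ f.stalkMap x := by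
    rw [h0]
    rfl
  rw [h1, ← Category.assoc, CommRingCat.hom_comp, PrimeSpectrum.comap_comp_apply,
    IsLocalRing.comap_closedPoint]
  refine PrimeSpectrum.ext (Ideal.ext fun r => ?_)
  rw [← IsLocalization.AtPrime.to_map_mem_maximal_iff
    ((Spec.structureSheaf R).presheaf.stalk (f.base x)) (f.base x).asIdeal r]
  rfl

end Groth.Agent.S9512
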