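import Groth.Statements.S9523
import Groth.Agent.Lib.QCoh.Helper50_BaseChange
-- import your own Groth.Agent.* helpers here

set_option autoImplicit false
universe u
open CategoryTheory CategoryTheory.Limits AlgebraicGeometry
attribute [local instance] HasDerivedCategory.standard
open Coherent

namespace Groth.Agent.S9523

/-- Let f : Y → X be an affine morphism of schemes, F a quasi-coherent O_Y-module and I a quasi-coherent
sheaf of ideals on X. Then I·f_*F = f_*((f⁻¹I O_Y)·F) as submodules of f_*F: there is an isomorphism
I·f_*F ≅ f_*((f⁻¹I O_Y)·F) whose composite with f_* of the inclusion (f⁻¹I O_Y)·F → F is the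
inclusion I·f_*F → f_*F. (J·M denotes the submodule sheaf Dual3.idealMul J M; f⁻¹I O_Y is the
pulled-back ideal sheaf I.comap f.) -/
theorem result {Y X : Scheme.{u}} (f : Y ⟶ X) [IsAffineHom f]
    (F : Y.Modules) (hF : Coh.IsQCoh F) (I : X.IdealSheafData) :
    ∃ e : (Dual3.idealMul I).obj ((Scheme.Modules.pushforward f).obj F) ≅
        (Scheme.Modules.pushforward f).obj ((Dual3.idealMul (I.comap f)).obj F),
      e.hom ≫ (Scheme.Modules.pushforward f).map (Dual3.idealMulι (I.comap f) F) =
        Dual3.idealMulι I ((Scheme.Modules.pushforward f).obj F) := by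
  have : F.IsQuasicoherent := hF
  -- the cartesian square
  let i := I.subschemeι
  let i' := (I.comap f).subschemeι
  let f' : (I.comap f).subscheme ⟶ I.subscheme := (I.comapIso f).hom ≫ pullback.snd f I.subschemeι
  have hsq : IsPullback i' f' f i := by
    refine IsPullback.of_iso (IsPullback.of_hasPullback f I.subschemeι) (I.comapIso f).symm
      (Iso.refl _) (Iso.refl _) (Iso.refl _) ?_ ?_ ?_ ?_
    · simp [i', Scheme.IdealSheafData.comapIso_inv_subschemeι]
    · simp only [Iso.refl_hom, Category.comp_id, Iso.symm_hom, f', Iso.inv_hom_id_assoc]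
    · simp
    · simp [i]
  have hbc : IsIso (Groth.Agent.Lib.QCoh.baseChangeMap f i i' f' hsq.w F) :=
    Groth.Agent.Lib.QCoh.isIso_baseChangeMap_of_isAffineHom f i i' f' hsq F
  -- the two maps out of `f_* F`
  let a := (Scheme.Modules.pullbackPushforwardAdjunction i).unit.app
    ((Scheme.Modules.pushforward f).obj F)
  let u := (Scheme.Modules.pullbackPushforwardAdjunction i').unit.app F
  let N := (Scheme.Modules.pullback i').obj F
  let θ : (Scheme.Modules.pushforward f).obj ((Scheme.Modules.pushforward i').obj N) ≅
      (Scheme.Modules.pushforward i).obj ((Scheme.Modules.pushforward f').obj N) :=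
    (Scheme.Modules.pushforwardComp i' f).app N ≪≫ (Scheme.Modules.pushforwardCongr hsq.w).app N ≪≫
      ((Scheme.Modules.pushforwardComp f' i).app N).symm
  have key : a ≫ (Scheme.Modules.pushforward i).map
      (Groth.Agent.Lib.QCoh.baseChangeMap f i i' f' hsq.w F) =
      (Scheme.Modules.pushforward f).map u ≫ θ.hom :=
    (Groth.Agent.Lib.QCoh.unit_comp_baseChangeMap f i i' f' hsq.w F).trans (by
      simp [Groth.Agent.Lib.QCoh.baseChangeMapAdj, θ, u, N])
  have h₁ : kernel.ι a ≫ (Scheme.Modules.pushforward f).map u = 0 := by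
    rw [← cancel_mono θ.hom, Category.assoc, ← key, kernel.condition_assoc, zero_comp, zero_comp]
  have h₂ : (Scheme.Modules.pushforward f).map (kernel.ι u) ≫ a = 0 := by
    rw [← cancel_mono ((Scheme.Modules.pushforward i).map
      (Groth.Agent.Lib.QCoh.baseChangeMap f i i' f' hsq.w F)), Category.assoc, key,
      ← Functor.map_comp_assoc, kernel.condition, Functor.map_zero, zero_comp, zero_comp]
  let s : kernel a ⟶ (Scheme.Modules.pushforward f).obj (kernel u) :=
    kernel.lift ((Scheme.Modules.pushforward f).map u) (kernel.ι a) h₁ ≫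
      (PreservesKernel.iso (Scheme.Modules.pushforward f) u).inv
  let t : (Scheme.Modules.pushforward f).obj (kernel u) ⟶ kernel a :=
    kernel.lift a ((Scheme.Modules.pushforward f).map (kernel.ι u)) h₂
  have hs : s ≫ (Scheme.Modules.pushforward f).map (kernel.ι u) = kernel.ι a := by
    simp only [s, Category.assoc, PreservesKernel.iso_inv_ι, kernel.lift_ι]
  have ht : t ≫ kernel.ι a = (Scheme.Modules.pushforward f).map (kernel.ι u) := kernel.lift_ι _ _ _
  have hm : Mono ((Scheme.Modules.pushforward f).map (kernel.ι u)) := inferInstance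
  have hst : s ≫ t = 𝟙 (kernel a) := by
    rw [← cancel_mono (kernel.ι a), Category.assoc, ht, hs, Category.id_comp]
  have hts : t ≫ s = 𝟙 ((Scheme.Modules.pushforward f).obj (kernel u)) := by
    rw [← cancel_mono ((Scheme.Modules.pushforward f).map (kernel.ι u)), Category.assoc, hs, ht,
      Category.id_comp]
  let e' : kernel a ≅ (Scheme.Modules.pushforward f).obj (kernel u) := ⟨s, t, hst, hts⟩
  exact ⟨e', hs⟩

end Groth.Agent.S9523
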