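import Groth.Statements.S9530
import Groth.Agent.Lib.Helper32.TorsSys

set_option autoImplicit false
universe u
open CategoryTheory CategoryTheory.Limits AlgebraicGeometry Opposite
open Algz

namespace Groth.Agent.S9530

open Groth.Agent.Lib.Helper32.TorsSys

/-- The functor from Coh(X, I O_X) to pro-objects of quasi-coherent modules is fully faithful: for the
ideal sheaf I O_X of an ideal I of a base ring A and with positions shifted by one. Let X be a
Noetherian scheme over Spec A and F, G objects of Coh(X, I O_X). Let m be a monotone self-map of ℕ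
with n ≤ m n, let π be the levelwise map from the re-indexed system n ↦ F_(m n) to F whose
components are the transition maps of F, and let α be any levelwise map from the re-indexed system
to G. Then α factors as π followed by a unique morphism of systems β from F to G. (Existence is
fullness on this representative of a pro-morphism, uniqueness is faithfulness.) -/
theorem result (A : Type u) [CommRing A] (I : Ideal A) (X : Scheme.{u})
    [X.Over (Spec (CommRingCat.of A))] [IsNoetherian X] (F G : ℕᵒᵖ ⥤ X.Modules)
    (hF : Formal.IsCohFormal I F) (hG : Formal.IsCohFormal I G) (m : ℕ → ℕ) (hm : Monotone m)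
    (hle : ∀ n : ℕ, n ≤ m n) (π : DerCA.reindex F hm ⟶ F)
    (hπ : ∀ n : ℕ, π.app (op n) = F.map (homOfLE (hle n)).op) (α : DerCA.reindex F hm ⟶ G) :
    ∃! β : F ⟶ G, π ≫ β = α := by
  obtain ⟨α', hα'0, hα'⟩ : ∃ α' : ∀ n, F.obj (op (m n)) ⟶ G.obj (op n),
      (∀ n, α' n = α.app (op n)) ∧ ∀ n : ℕ, F.map (homOfLE (hm (n.le_add_right 1))).op ≫ α' n =
        α' (n + 1) ≫ G.map (homOfLE (n.le_add_right 1)).op :=
    ⟨fun n => α.app (op n), fun n => rfl, fun n => α.naturality (homOfLE (n.le_add_right 1)).op⟩
  have hq : ∀ n, IsQuot (I ^ (n + 1)) (F.map (homOfLE (hle n)).op) :=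
    fun n => isQuot_map I F hF (hle n)
  have hex : ∀ n, ∃ b : F.obj (op n) ⟶ G.obj (op n),
      F.map (homOfLE (hle n)).op ≫ b = α' n := by
    intro n
    apply (hq n).2.2
    intro a ha
    rw [smulMod_naturality, hG.2.1 n a ha, comp_zero]
  choose b hb using hex
  have hepi : ∀ n, Epi (F.map (homOfLE (hle n)).op) := fun n => (hq n).1
  have hnat : ∀ n : ℕ, F.map (homOfLE (n.le_add_right 1)).op ≫ b n =
      b (n + 1) ≫ G.map (homOfLE (n.le_add_right 1)).op := by
    intro n
    haveI := hepi (n + 1)
    have e3 : F.map (homOfLE (hle (n + 1))).op ≫ F.map (homOfLE (n.le_add_right 1)).op =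
        F.map (homOfLE (hm (n.le_add_right 1))).op ≫ F.map (homOfLE (hle n)).op := by
      rw [← F.map_comp, ← F.map_comp]
      exact congrArg F.map (Subsingleton.elim _ _)
    have key : F.map (homOfLE (hle (n + 1))).op ≫ (F.map (homOfLE (n.le_add_right 1)).op ≫ b n) =
        F.map (homOfLE (hle (n + 1))).op ≫ (b (n + 1) ≫ G.map (homOfLE (n.le_add_right 1)).op) := by
      calc F.map (homOfLE (hle (n + 1))).op ≫ (F.map (homOfLE (n.le_add_right 1)).op ≫ b n)
          = (F.map (homOfLE (hm (n.le_add_right 1))).op ≫ F.map (homOfLE (hle n)).op) ≫ b n := by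
            rw [← Category.assoc, e3]
        _ = F.map (homOfLE (hm (n.le_add_right 1))).op ≫ α' n := by rw [Category.assoc, hb n]
        _ = α' (n + 1) ≫ G.map (homOfLE (n.le_add_right 1)).op := hα' n
        _ = (F.map (homOfLE (hle (n + 1))).op ≫ b (n + 1)) ≫ G.map (homOfLE (n.le_add_right 1)).op := by
            rw [hb (n + 1)]
        _ = _ := Category.assoc _ _ _
    exact (cancel_epi _).1 key
  refine ⟨NatTrans.ofOpSequence b hnat, ?_, ?_⟩
  · apply NatTrans.ext
    funext x
    obtain ⟨n⟩ := x
    have h0 : π.app (op n) ≫ b n = α.app (op n) := by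
      rw [hπ, ← hα'0]; exact hb n
    exact h0
  · intro β' hβ'
    apply NatTrans.ext
    funext x
    obtain ⟨n⟩ := x
    haveI := hepi n
    have h0 : π.app (op n) ≫ β'.app (op n) = α.app (op n) := by
      rw [← NatTrans.comp_app, hβ']
    have h1 : F.map (homOfLE (hle n)).op ≫ β'.app (op n) = α' n :=
      ((congrArg (fun t => t ≫ β'.app (op n)) (hπ n)).symm.trans h0).trans (hα'0 n).symm
    have h2 : F.map (homOfLE (hle n)).op ≫ β'.app (op n) = F.map (homOfLE (hle n)).op ≫ b n := by
      rw [h1, hb]
    exact (cancel_epi _).1 h2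

end Groth.Agent.S9530
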