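import Groth.Statements.S9552
import Groth.Agent.S9530
import Groth.Agent.Lib.Helper32.TorsSys

set_option autoImplicit false
universe u
open CategoryTheory CategoryTheory.Limits AlgebraicGeometry Opposite
open Algz

namespace Groth.Agent.S9552

open Groth.Agent.Lib.Helper32.TorsSys

/-- For the ideal sheaf I O_X of an ideal I of a base ring A and a Noetherian scheme X over Spec A, two
objects of Coh(X, I O_X) which are pro-isomorphic are isomorphic as inverse systems (existence of an
isomorphism; positions shifted by one). -/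
theorem result (A : Type u) [CommRing A] (I : Ideal A) (X : Scheme.{u})
    [X.Over (Spec (CommRingCat.of A))] [IsNoetherian X] (F G : ℕᵒᵖ ⥤ X.Modules)
    (hF : Formal.IsCohFormal I F) (hG : Formal.IsCohFormal I G) (h : Algz.IsProIsomorphic F G) :
    Nonempty (F ≅ G) := by
  obtain ⟨m, hm, hle, a, hpro⟩ := h
  -- the canonical levelwise map from the re-indexed system to `F`
  let π : DerCA.reindex F hm ⟶ F :=
    { app := fun n => F.map (homOfLE (hle n.unop)).op
      naturality := by
        intro x y f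
        change F.map _ ≫ F.map _ = F.map _ ≫ F.map _
        rw [← F.map_comp, ← F.map_comp]
        exact congrArg F.map (Subsingleton.elim _ _) }
  have hπ : ∀ n : ℕ, π.app (op n) = F.map (homOfLE (hle n)).op := fun n => rfl
  obtain ⟨β, hβ, -⟩ := Groth.Agent.S9530.result A I X F G hF hG m hm hle π hπ a
  -- components of `a`, typed with source `F_{m n}`
  obtain ⟨a', ha'0⟩ : ∃ a' : ∀ n, F.obj (op (m n)) ⟶ G.obj (op n), ∀ n, a' n = a.app (op n) :=
    ⟨fun n => a.app (op n), fun n => rfl⟩
  have hβn : ∀ n : ℕ, F.map (homOfLE (hle n)).op ≫ β.app (op n) = a' n := by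
    intro n
    have h0 : π.app (op n) ≫ β.app (op n) = a.app (op n) := by
      rw [← NatTrans.comp_app, hβ]
    exact h0.trans (ha'0 n).symm
  have hiso : ∀ k : ℕᵒᵖ, IsIso (β.app k) := by
    intro x
    obtain ⟨n⟩ := x
    obtain ⟨k, hnk, b0, hb1', hb2'⟩ := hpro n
    obtain ⟨b, hb1, hb2⟩ : ∃ b : G.obj (op k) ⟶ F.obj (op (m n)),
        a' k ≫ b = F.map (homOfLE (hm hnk)).op ∧ b ≫ a' n = G.map (homOfLE hnk).op := by
      refine ⟨b0, ?_, ?_⟩
      · rw [ha'0]; exact hb1'
      · rw [ha'0]; exact hb2'
    have hqG : IsQuot (I ^ (n + 1)) (G.map (homOfLE hnk).op) := isQuot_map I G hG hnk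
    have hqF : IsQuot (I ^ (n + 1)) (F.map (homOfLE (hnk.trans (hle k))).op) :=
      isQuot_map I F hF (hnk.trans (hle k))
    obtain ⟨γ, hγ⟩ := hqG.2.2 (F.obj (op n)) (b ≫ F.map (homOfLE (hle n)).op) (by
      intro c hc
      rw [smulMod_naturality, hF.2.1 n c hc, comp_zero])
    haveI := hqG.1
    haveI := hqF.1
    refine ⟨γ, ?_, ?_⟩
    · -- β_n ≫ γ = 𝟙
      have e1 : F.map (homOfLE (hnk.trans (hle k))).op =
          F.map (homOfLE (hle k)).op ≫ F.map (homOfLE hnk).op := by
        rw [← F.map_comp]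
        exact congrArg F.map (Subsingleton.elim _ _)
      have e2 : F.map (homOfLE (hm hnk)).op ≫ F.map (homOfLE (hle n)).op =
          F.map (homOfLE (hnk.trans (hle k))).op := by
        rw [← F.map_comp]
        exact congrArg F.map (Subsingleton.elim _ _)
      have hnat : F.map (homOfLE hnk).op ≫ β.app (op n) = β.app (op k) ≫ G.map (homOfLE hnk).op :=
        β.naturality (homOfLE hnk).op
      have key : F.map (homOfLE (hnk.trans (hle k))).op ≫ (β.app (op n) ≫ γ) =
          F.map (homOfLE (hnk.trans (hle k))).op ≫ 𝟙 _ := by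
        calc F.map (homOfLE (hnk.trans (hle k))).op ≫ (β.app (op n) ≫ γ)
            = F.map (homOfLE (hle k)).op ≫ ((F.map (homOfLE hnk).op ≫ β.app (op n)) ≫ γ) := by
              rw [e1, Category.assoc, Category.assoc]
          _ = (F.map (homOfLE (hle k)).op ≫ β.app (op k)) ≫ (G.map (homOfLE hnk).op ≫ γ) := by
              rw [hnat, Category.assoc, Category.assoc]
          _ = a' k ≫ (b ≫ F.map (homOfLE (hle n)).op) := by rw [hβn k, hγ]
          _ = (a' k ≫ b) ≫ F.map (homOfLE (hle n)).op := (Category.assoc _ _ _).symm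
          _ = F.map (homOfLE (hnk.trans (hle k))).op := by rw [hb1, e2]
          _ = _ := (Category.comp_id _).symm
      exact (cancel_epi _).1 key
    · -- γ ≫ β_n = 𝟙
      have key : G.map (homOfLE hnk).op ≫ (γ ≫ β.app (op n)) = G.map (homOfLE hnk).op ≫ 𝟙 _ := by
        calc G.map (homOfLE hnk).op ≫ (γ ≫ β.app (op n))
            = (G.map (homOfLE hnk).op ≫ γ) ≫ β.app (op n) := (Category.assoc _ _ _).symm
          _ = b ≫ (F.map (homOfLE (hle n)).op ≫ β.app (op n)) := by rw [hγ, Category.assoc]
          _ = G.map (homOfLE hnk).op := by rw [hβn n, hb2]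
          _ = _ := (Category.comp_id _).symm
      exact (cancel_epi _).1 key
  haveI : IsIso β := NatIso.isIso_of_isIso_app β
  exact ⟨asIso β⟩

end Groth.Agent.S9552
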