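import Groth.Statements.S9531
import Groth.Agent.S9552
import Groth.Agent.Lib.QCoh.Helper74_FormalPull
import Groth.Agent.Lib.QCoh.Helper43_PushQcqs

set_option autoImplicit false
universe u
open CategoryTheory CategoryTheory.Limits AlgebraicGeometry Opposite
open Algz

namespace Groth.Agent.S9531

section Pro

universe v₁ u₁ v₂ u₂

variable {C : Type u₁} [Category.{v₁} C] {D : Type u₂} [Category.{v₂} D]

/-- A functor preserves pro-isomorphic inverse systems. -/
theorem isProIsomorphic_comp (Φ : C ⥤ D) {X Y : ARSys.PS C} (h : Algz.IsProIsomorphic X Y) :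
    Algz.IsProIsomorphic (X ⋙ Φ) (Y ⋙ Φ) := by
  obtain ⟨m, hm, hle, a, ha⟩ := h
  let a' : DerCA.reindex (X ⋙ Φ) hm ⟶ Y ⋙ Φ :=
    { app := fun n => Φ.map (a.app n)
      naturality := fun x y f => by
        have h0 := a.naturality f
        change Φ.map ((DerCA.reindex X hm).map f) ≫ Φ.map (a.app y) = Φ.map (a.app x) ≫ Φ.map (Y.map f)
        rw [← Φ.map_comp, ← Φ.map_comp, h0] }
  refine ⟨m, hm, hle, a', ?_⟩
  intro n
  obtain ⟨k, hk, b, hb1, hb2⟩ := ha n
  refine ⟨k, hk, Φ.map b, ?_, ?_⟩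
  · change Φ.map (a.app (op k)) ≫ Φ.map b = Φ.map (ARSys.tr (DerCA.reindex X hm) hk)
    rw [← Φ.map_comp, hb1]
  · change Φ.map b ≫ Φ.map (a.app (op n)) = Φ.map (ARSys.tr Y hk)
    rw [← Φ.map_comp, hb2]

/-- Pro-isomorphy is invariant under replacing the source by an isomorphic system. -/
theorem isProIsomorphic_of_iso_left {X X' Y : ARSys.PS C} (e : X' ≅ X)
    (h : Algz.IsProIsomorphic X Y) : Algz.IsProIsomorphic X' Y := by
  obtain ⟨m, hm, hle, a, ha⟩ := h
  let a' : DerCA.reindex X' hm ⟶ Y :=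
    { app := fun n => e.hom.app ((Monotone.functor hm).op.obj n) ≫ a.app n
      naturality := fun x y f => by
        have h0 := a.naturality f
        have h1 := e.hom.naturality ((Monotone.functor hm).op.map f)
        change X'.map ((Monotone.functor hm).op.map f) ≫ e.hom.app _ ≫ a.app y =
          (e.hom.app _ ≫ a.app x) ≫ Y.map f
        rw [← Category.assoc, h1, Category.assoc, Category.assoc, ← h0]
        rfl }
  refine ⟨m, hm, hle, a', ?_⟩
  intro n
  obtain ⟨k, hk, b, hb1, hb2⟩ := ha n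
  let ak : X.obj (op (m k)) ⟶ Y.obj (op k) := a.app (op k)
  let an : X.obj (op (m n)) ⟶ Y.obj (op n) := a.app (op n)
  let b' : Y.obj (op k) ⟶ X.obj (op (m n)) := b
  have hb1' : ak ≫ b' = X.map (homOfLE (hm hk)).op := hb1
  have hb2' : b' ≫ an = Y.map (homOfLE hk).op := hb2
  have h1 := e.hom.naturality (homOfLE (hm hk)).op
  refine ⟨k, hk, b' ≫ e.inv.app (op (m n)), ?_, ?_⟩
  · change (e.hom.app (op (m k)) ≫ ak) ≫ b' ≫ e.inv.app (op (m n)) =
      X'.map (homOfLE (hm hk)).op
    clear_value ak an b'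
    calc (e.hom.app (op (m k)) ≫ ak) ≫ b' ≫ e.inv.app (op (m n))
        = e.hom.app (op (m k)) ≫ (ak ≫ b') ≫ e.inv.app (op (m n)) := by
          simp only [Category.assoc]
      _ = (e.hom.app (op (m k)) ≫ X.map (homOfLE (hm hk)).op) ≫ e.inv.app (op (m n)) := by
          rw [hb1', Category.assoc]
      _ = (X'.map (homOfLE (hm hk)).op ≫ e.hom.app (op (m n))) ≫ e.inv.app (op (m n)) := by
          rw [h1]
      _ = X'.map (homOfLE (hm hk)).op := by
          rw [Category.assoc, Iso.hom_inv_id_app, Category.comp_id]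
  · change (b' ≫ e.inv.app (op (m n))) ≫ e.hom.app (op (m n)) ≫ an = Y.map (homOfLE hk).op
    clear_value ak an b'
    rw [Category.assoc, Iso.inv_hom_id_app_assoc]
    exact hb2'

end Pro

section Sect

variable (A : Type u) [CommRing A]

/-- The counit map `((H⁰(U, M))~)|_U ⟶ M`, natural in the `O_U`-module `M`. -/
noncomputable def sectCounit (U : (Spec (CommRingCat.of A)).Opens) :
    Scheme.Modules.pushforward U.ι ⋙ moduleSpecΓFunctor (R := CommRingCat.of A) ⋙
      tilde.functor (CommRingCat.of A) ⋙ Scheme.Modules.restrictFunctor U.ι ⟶ 𝟭 _ :=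
  Functor.whiskerLeft (Scheme.Modules.pushforward U.ι)
    (Functor.whiskerRight (Scheme.Modules.fromTildeΓNatTrans (R := CommRingCat.of A))
      (Scheme.Modules.restrictFunctor U.ι)) ≫ (Scheme.Modules.restrictFunctorAdjCounitIso U.ι).hom

theorem isIso_sectCounit_app (U : (Spec (CommRingCat.of A)).Opens) [QuasiCompact U.ι]
    (M : (U : Scheme.{u}).Modules) [M.IsQuasicoherent] : IsIso ((sectCounit A U).app M) := by
  haveI : ((Scheme.Modules.pushforward U.ι).obj M).IsQuasicoherent :=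
    Groth.Agent.Lib.QCoh.isQuasicoherent_pushforward_of_qcqs U.ι M
  haveI : IsIso (Scheme.Modules.fromTildeΓ (R := CommRingCat.of A)
      ((Scheme.Modules.pushforward U.ι).obj M)) :=
    Scheme.Modules.isIso_fromTildeΓ_of_isQuasicoherent (R := CommRingCat.of A)
      ((Scheme.Modules.pushforward U.ι).obj M)
  change IsIso ((Scheme.Modules.restrictFunctor U.ι).map
    (Scheme.Modules.fromTildeΓ (R := CommRingCat.of A) ((Scheme.Modules.pushforward U.ι).obj M)) ≫
      (Scheme.Modules.restrictFunctorAdjCounitIso U.ι).hom.app M)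
  infer_instance

/-- For a system of quasi-coherent modules on a quasi-compact open `U ⊆ Spec A`, the restriction to `U`
of the system `(H⁰(U, G_n))~` is isomorphic to `G`. -/
noncomputable def sectSysRestrictIso (U : (Spec (CommRingCat.of A)).Opens) [QuasiCompact U.ι]
    (G : ℕᵒᵖ ⥤ (U : Scheme.{u}).Modules) (hG : ∀ n, (G.obj n).IsQuasicoherent) :
    Algz.sectSys A U G ⋙ Scheme.Modules.restrictFunctor U.ι ≅ G := by
  let τ : Algz.sectSys A U G ⋙ Scheme.Modules.restrictFunctor U.ι ⟶ G :=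
    Functor.whiskerLeft G (sectCounit A U)
  haveI : ∀ n, IsIso (τ.app n) := fun n => by
    haveI := hG n
    exact isIso_sectCounit_app A U (G.obj n)
  haveI : IsIso τ := NatIso.isIso_of_isIso_app τ
  exact asIso τ

end Sect

theorem extends_of_canonicallyExtends (A : Type u) [CommRing A] [IsNoetherianRing A] (I : Ideal A)
    (U : (Spec (CommRingCat.of A)).Opens)
    (G : ℕᵒᵖ ⥤ (↑U : Scheme.{u}).Modules) (hG : Formal.IsCohFormal I G)
    (h : Algz.CanonicallyExtends A I U G) :
    @Algz.Extends A _ (Spec (CommRingCat.of A)) ⟨𝟙 (Spec (CommRingCat.of A))⟩ I U G := by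
  obtain ⟨G', hG', hpro⟩ := h
  haveI : QuasiCompact U.ι := inferInstance
  haveI : CompactSpace ↥(↑U : Scheme.{u}) := QuasiCompact.compactSpace_of_compactSpace U.ι
  haveI : AlgebraicGeometry.IsNoetherian (↑U : Scheme.{u}) := {}
  have hcoh' : Formal.IsCohFormal I (G' ⋙ Scheme.Modules.pullback U.ι) :=
    @Groth.Agent.Lib.QCoh.FormalPull74.isCohFormal_pullback A _ (↑U : Scheme.{u})
      (Spec (CommRingCat.of A)) _ ⟨𝟙 (Spec (CommRingCat.of A))⟩ U.ι (Category.comp_id _) I G' hG'
  have hqc : ∀ n : ℕᵒᵖ, (G.obj n).IsQuasicoherent := fun n => (hG.1 n.unop).1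
  let e₀ : Algz.sectSys A U G ⋙ Scheme.Modules.restrictFunctor U.ι ≅ G :=
    sectSysRestrictIso A U G hqc
  let e₁ : Algz.sectSys A U G ⋙ Scheme.Modules.pullback U.ι ≅ G :=
    (Functor.isoWhiskerLeft (Algz.sectSys A U G)
      (Scheme.Modules.restrictFunctorIsoPullback U.ι)).symm ≪≫ e₀
  have hp1 : Algz.IsProIsomorphic (Algz.sectSys A U G ⋙ Scheme.Modules.pullback U.ι)
      (G' ⋙ Scheme.Modules.pullback U.ι) := isProIsomorphic_comp _ hpro
  have hp2 : Algz.IsProIsomorphic G (G' ⋙ Scheme.Modules.pullback U.ι) :=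
    isProIsomorphic_of_iso_left e₁.symm hp1
  obtain ⟨φ⟩ := Groth.Agent.S9552.result A I (↑U : Scheme.{u}) G
    (G' ⋙ Scheme.Modules.pullback U.ι) hG hcoh' hp2
  exact ⟨G', hG', ⟨Functor.isoWhiskerLeft G' (Scheme.Modules.restrictFunctorIsoPullback U.ι) ≪≫
    φ.symm⟩⟩

/-- Let A be a Noetherian ring, I ⊆ 𝔞 ideals, U = Spec A ∖ V(𝔞), and take (F_n) in Coh(U, I O_U).
Suppose (F_n) extends canonically to Spec A; then (F_n) extends to Spec A: there is an object of
Coh(Spec A, I O) whose restriction to U is isomorphic to (F_n). (Spec A is regarded over itself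
through the identity.) -/
theorem result (A : Type u) [CommRing A] [IsNoetherianRing A] (I 𝔞 : Ideal A) (hI𝔞 : I ≤ 𝔞)
    (G : ℕᵒᵖ ⥤ (↑(LocCoh.puncturedOpen A 𝔞) : Scheme.{u}).Modules) (hG : Formal.IsCohFormal I G)
    (h : Algz.CanonicallyExtends A I (LocCoh.puncturedOpen A 𝔞) G) :
    @Algz.Extends A _ (Spec (CommRingCat.of A)) ⟨𝟙 (Spec (CommRingCat.of A))⟩ I (LocCoh.puncturedOpen A 𝔞) G := by
  exact extends_of_canonicallyExtends A I (LocCoh.puncturedOpen A 𝔞) G hG h

end Groth.Agent.S9531
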