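import Groth.Statements.S9532
import Groth.Agent.S9531
import Groth.Agent.Lib.Helper44.ARSysBasic

set_option autoImplicit false
universe u
open CategoryTheory CategoryTheory.Limits AlgebraicGeometry Opposite
open Algz

namespace Groth.Agent.S9532

open Groth.Agent.Lib.Helper44

section ML

universe v₁ u₁

variable {C : Type u₁} [Category.{v₁} C] [Abelian C]

/-- An inverse system which is pro-isomorphic to a system with epimorphic transition maps satisfies the
Mittag-Leffler condition. -/
theorem isML_of_isProIsomorphic {X Y : ARSys.PS C}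
    (hY : ∀ (n k : ℕ) (h : n ≤ k), Epi (ARSys.tr Y h))
    (h : Algz.IsProIsomorphic X Y) : ARSys.IsML X := by
  obtain ⟨m, hm, hle, a, ha⟩ := h
  obtain ⟨α, hαnat, hαpro⟩ : ∃ α : ∀ n, X.obj (op (m n)) ⟶ Y.obj (op n),
      (∀ (i j : ℕ) (hij : i ≤ j), ARSys.tr X (hm hij) ≫ α i = α j ≫ ARSys.tr Y hij) ∧
      (∀ n : ℕ, ∃ (k : ℕ) (hk : n ≤ k) (b : Y.obj (op k) ⟶ X.obj (op (m n))),
        α k ≫ b = ARSys.tr X (hm hk) ∧ b ≫ α n = ARSys.tr Y hk) :=
    ⟨fun n => a.app (op n), fun i j hij => a.naturality (homOfLE hij).op, ha⟩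
  have hαepi : ∀ j, Epi (α j) := by
    intro j
    obtain ⟨k', hk', b', -, hb'⟩ := hαpro j
    haveI : Epi (b' ≫ α j) := by rw [hb']; exact hY _ _ hk'
    exact epi_of_epi b' (α j)
  intro n
  obtain ⟨k, hk, b, hb, -⟩ := hαpro n
  have key : ∀ (j : ℕ) (hj : m k ≤ j),
      imageSubobject (ARSys.tr X ((hle n).trans ((hm hk).trans hj))) =
        imageSubobject (b ≫ ARSys.tr X (hle n)) := by
    intro j hj
    have hnj : n ≤ j := (hle n).trans ((hm hk).trans hj)
    apply le_antisymm
    · have e : ARSys.tr X hnj = (ARSys.tr X hj ≫ α k) ≫ (b ≫ ARSys.tr X (hle n)) := by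
        rw [Category.assoc, ← Category.assoc (α k), hb, tr_comp, tr_comp]
      rw [e]
      exact imageSubobject_comp_le _ _
    · have hkj : k ≤ j := (hle k).trans hj
      have e1 : ARSys.tr X (hnj.trans (hle j)) =
          (α j ≫ ARSys.tr Y hkj) ≫ (b ≫ ARSys.tr X (hle n)) := by
        rw [← hαnat k j hkj, Category.assoc, ← Category.assoc (α k), hb, tr_comp, tr_comp]
      haveI := hαepi j
      haveI := hY _ _ hkj
      haveI : Epi (α j ≫ ARSys.tr Y hkj) := epi_comp _ _
      have e2 : imageSubobject (ARSys.tr X (hnj.trans (hle j))) =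
          imageSubobject (b ≫ ARSys.tr X (hle n)) := by
        rw [e1]; exact imageSubobject_epi_comp' _ _
      rw [← e2]
      exact image_tr_le X hnj (hle j)
  refine ⟨m k, fun s hs => ?_⟩
  have h1 := key (n + s) (by omega)
  have h2 := key (n + m k) (by omega)
  exact h1.trans h2.symm

end ML

section Gamma

variable (A : Type u) [CommRing A]

theorem epi_of_sq {C : Type*} [Category C] {P Q M N : C} (g : P ⟶ Q) (i : Q ⟶ N) (j : P ⟶ M)
    (f : M ⟶ N) (hi : IsIso i) (hj : IsIso j) (hf : Epi f) (h : g ≫ i = j ≫ f) : Epi g := by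
  have e : g = (j ≫ f) ≫ inv i := by
    rw [← h, Category.assoc, IsIso.hom_inv_id, Category.comp_id]
  rw [e]
  infer_instance

/-- Global sections of an epimorphism of quasi-coherent modules on `Spec A` form an epimorphism. -/
theorem epi_Γ_map {M N : (Spec (CommRingCat.of A)).Modules} [M.IsQuasicoherent]
    [N.IsQuasicoherent] (f : M ⟶ N) [Epi f] :
    Epi ((moduleSpecΓFunctor (R := CommRingCat.of A)).map f) := by
  haveI hM : IsIso (Scheme.Modules.fromTildeΓ (R := CommRingCat.of A) M) :=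
    Scheme.Modules.isIso_fromTildeΓ_of_isQuasicoherent (R := CommRingCat.of A) M
  haveI hN : IsIso (Scheme.Modules.fromTildeΓ (R := CommRingCat.of A) N) :=
    Scheme.Modules.isIso_fromTildeΓ_of_isQuasicoherent (R := CommRingCat.of A) N
  have hnat : (tilde.functor (CommRingCat.of A)).map
      ((moduleSpecΓFunctor (R := CommRingCat.of A)).map f) ≫
        Scheme.Modules.fromTildeΓ (R := CommRingCat.of A) N =
      Scheme.Modules.fromTildeΓ (R := CommRingCat.of A) M ≫ f :=
    (Scheme.Modules.fromTildeΓNatTrans (R := CommRingCat.of A)).naturality f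
  have h2 : Epi ((tilde.functor (CommRingCat.of A)).map
      ((moduleSpecΓFunctor (R := CommRingCat.of A)).map f)) :=
    epi_of_sq _ (Scheme.Modules.fromTildeΓ (R := CommRingCat.of A) N)
      (Scheme.Modules.fromTildeΓ (R := CommRingCat.of A) M) f hN hM inferInstance hnat
  haveI : (tilde.functor (CommRingCat.of A)).Faithful :=
    (tilde.fullyFaithfulFunctor (R := CommRingCat.of A)).faithful
  haveI : (tilde.functor (CommRingCat.of A)).ReflectsEpimorphisms :=
    Functor.reflectsEpimorphisms_of_faithful _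
  exact (tilde.functor (CommRingCat.of A)).epi_of_epi_map h2

end Gamma

/-- Let A be a Noetherian ring, I ⊆ 𝔞 ideals, U = Spec A ∖ V(𝔞), and let (F_n) belong to Coh(U, I O_U).
Suppose (F_n) admits a canonical extension to Spec A; then the inverse system of A-modules n ↦
H^0(U, F_n) satisfies the Mittag-Leffler condition. -/
theorem result (A : Type u) [CommRing A] [IsNoetherianRing A] (I 𝔞 : Ideal A) (hI𝔞 : I ≤ 𝔞)
    (G : ℕᵒᵖ ⥤ (↑(LocCoh.puncturedOpen A 𝔞) : Scheme.{u}).Modules) (hG : Formal.IsCohFormal I G)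
    (h : Algz.CanonicallyExtends A I (LocCoh.puncturedOpen A 𝔞) G) :
    ARSys.IsML (Algz.sectMod A (LocCoh.puncturedOpen A 𝔞) G) := by
  obtain ⟨G', hG', hpro⟩ := h
  have hp1 : Algz.IsProIsomorphic
      (Algz.sectSys A (LocCoh.puncturedOpen A 𝔞) G ⋙ moduleSpecΓFunctor (R := CommRingCat.of A))
      (G' ⋙ moduleSpecΓFunctor (R := CommRingCat.of A)) :=
    Groth.Agent.S9531.isProIsomorphic_comp (moduleSpecΓFunctor (R := CommRingCat.of A)) hpro
  let e : Algz.sectMod A (LocCoh.puncturedOpen A 𝔞) G ≅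
      Algz.sectSys A (LocCoh.puncturedOpen A 𝔞) G ⋙ moduleSpecΓFunctor (R := CommRingCat.of A) :=
    Functor.isoWhiskerLeft (Algz.sectMod A (LocCoh.puncturedOpen A 𝔞) G)
      (tilde.toTildeΓNatIso (R := CommRingCat.of A))
  have hp2 : Algz.IsProIsomorphic (Algz.sectMod A (LocCoh.puncturedOpen A 𝔞) G)
      (G' ⋙ moduleSpecΓFunctor (R := CommRingCat.of A)) :=
    Groth.Agent.S9531.isProIsomorphic_of_iso_left e hp1
  refine isML_of_isProIsomorphic ?_ hp2
  intro n k hnk
  have hq := @Groth.Agent.Lib.Helper32.TorsSys.isQuot_map A _ (Spec (CommRingCat.of A))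
    ⟨𝟙 (Spec (CommRingCat.of A))⟩ I G' hG' n k hnk
  haveI : Epi (G'.map (homOfLE hnk).op) := hq.1
  haveI : (G'.obj (op k)).IsQuasicoherent := (hG'.1 k).1
  haveI : (G'.obj (op n)).IsQuasicoherent := (hG'.1 n).1
  exact epi_Γ_map A (G'.map (homOfLE hnk).op)

end Groth.Agent.S9532
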