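import Groth.Statements.S9536
import Groth.Agent.S9531
import Groth.Agent.Lib.QCoh.Helper50_FPExtE
import Groth.Agent.Lib.QCoh.FinitePresentation
import Groth.Agent.Lib.QCoh.CohKernel
import Groth.Agent.Lib.QCoh.Helper24_Colimits

set_option autoImplicit false
universe u
open CategoryTheory CategoryTheory.Limits AlgebraicGeometry Opposite
open Algz

namespace Groth.Agent.S9536

open Groth.Agent.Lib.Helper32.TorsSys Groth.Agent.Lib.QCoh Formal

section General

variable {A : Type u} [CommRing A] {X : Scheme.{u}} [X.Over (Spec (CommRingCat.of A))]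

/-- The projection `M → M/JM` is a quotient by `J`. -/
lemma isQuot_cokernelπ (J : Ideal A) (M : X.Modules) :
    IsQuot J (cokernel.π (smulFamily J M)) := by
  refine isQuot_of_isIso J _ (cokernel.condition _) ?_
  have h : cokernel.desc (smulFamily J M) (cokernel.π (smulFamily J M)) (cokernel.condition _) =
      𝟙 _ := by
    rw [← cancel_epi (cokernel.π (smulFamily J M)), cokernel.π_desc, Category.comp_id]
  rw [h]
  infer_instance

lemma isQuot_modPowπ (I : Ideal A) (n : ℕ) (M : X.Modules) : IsQuot (I ^ n) (modPowπ I n M) :=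
  isQuot_cokernelπ (I ^ n) M

lemma IsQuot.comp_iso {J : Ideal A} {P Q Q' : X.Modules} {f : P ⟶ Q} (hf : IsQuot J f)
    (e : Q ⟶ Q') [IsIso e] : IsQuot J (f ≫ e) := by
  obtain ⟨f1, f2, f3⟩ := hf
  refine ⟨epi_comp f e, ?_, ?_⟩
  · intro a ha
    rw [← Category.assoc, f2 a ha, zero_comp]
  · intro T k hk
    obtain ⟨k', hk'⟩ := f3 T k hk
    exact ⟨inv e ≫ k', by rw [Category.assoc, IsIso.hom_inv_id_assoc, hk']⟩

lemma IsQuot.exists_iso {J : Ideal A} {P Q Q' : X.Modules} {f : P ⟶ Q} {g : P ⟶ Q'}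
    (hf : IsQuot J f) (hg : IsQuot J g) : ∃ θ : Q ≅ Q', f ≫ θ.hom = g := by
  obtain ⟨a, ha⟩ := hf.2.2 Q' g hg.2.1
  obtain ⟨b, hb⟩ := hg.2.2 Q f hf.2.1
  haveI := hf.1
  haveI := hg.1
  refine ⟨⟨a, b, ?_, ?_⟩, ha⟩
  · rw [← cancel_epi f, reassoc_of% ha, hb, Category.comp_id]
  · rw [← cancel_epi g, reassoc_of% hb, ha, Category.comp_id]

lemma killedBy_of_isQuot {J : Ideal A} {P Q : X.Modules} {f : P ⟶ Q} (hf : IsQuot J f) :
    KilledBy J Q := by
  intro a ha
  haveI := hf.1
  rw [← cancel_epi f, comp_zero, ← smulMod_naturality]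
  exact hf.2.1 a ha

lemma isQuot_modPowTrans (I : Ideal A) (n : ℕ) (M : X.Modules) :
    IsQuot (I ^ n) (modPowTrans I n M) := by
  have hπ := isQuot_modPowπ I n M
  have hπ' := isQuot_modPowπ I (n + 1) M
  haveI := hπ.1
  haveI := hπ'.1
  have htr : modPowπ I (n + 1) M ≫ modPowTrans I n M = modPowπ I n M := modPowπ_trans I n M
  refine ⟨?_, ?_, ?_⟩
  · haveI : Epi (modPowπ I (n + 1) M ≫ modPowTrans I n M) := by rw [htr]; infer_instance
    exact epi_of_epi (modPowπ I (n + 1) M) _
  · intro a ha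
    rw [smulMod_naturality, killedBy_of_isQuot hπ a ha, comp_zero]
  · intro T k hk
    obtain ⟨k', hk'⟩ := hπ.2.2 T (modPowπ I (n + 1) M ≫ k) (by
      intro a ha
      rw [← Category.assoc, smulMod_naturality, Category.assoc, hk a ha, comp_zero])
    refine ⟨k', ?_⟩
    rw [← cancel_epi (modPowπ I (n + 1) M), ← Category.assoc, htr, hk']

/-- The completion of a coherent module is a coherent formal module. -/
theorem isCohFormal_completion (I : Ideal A) (M : X.Modules) (hM : Coh.IsCoh M) :
    Formal.IsCohFormal I (Formal.completion I M) := by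
  refine ⟨fun n => ?_, fun n => ?_, fun n => ?_⟩
  · change Coh.IsCoh (modPow I (n + 1) M)
    haveI : M.IsQuasicoherent := hM.1
    haveI : (∐ fun _ : ↥(I ^ (n + 1)) => M).IsQuasicoherent :=
      isQuasicoherent_sigma _ (fun _ => hM.1)
    have hq : (modPow I (n + 1) M).IsQuasicoherent :=
      isQuasicoherent_cokernel (smulFamily (I ^ (n + 1)) M)
    haveI : Epi (modPowπ I (n + 1) M) := (isQuot_modPowπ I (n + 1) M).1
    exact isCoh_of_epi (modPowπ I (n + 1) M) hM hq
  · change KilledBy (I ^ (n + 1)) (modPow I (n + 1) M)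
    exact killedBy_of_isQuot (isQuot_modPowπ I (n + 1) M)
  · have e : (Formal.completion I M).map (homOfLE (n.le_add_right 1)).op =
        modPowTrans I (n + 1) M := Functor.ofOpSequence_map_homOfLE_succ _ n
    have key : ∀ (t : modPow I (n + 1 + 1) M ⟶ modPow I (n + 1) M), t = modPowTrans I (n + 1) M →
        ∃ h : smulFamily (I ^ (n + 1)) (modPow I (n + 1 + 1) M) ≫ t = 0,
          IsIso (cokernel.desc _ t h) := by
      rintro t rfl
      exact (isQuot_modPowTrans I (n + 1) M).exists_isIso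
    exact key _ e

end General

section Spec

variable (A : Type u) [CommRing A]

theorem isQuot_restrict (U : (Spec (CommRingCat.of A)).Opens) {J : Ideal A}
    {P Q : (Spec (CommRingCat.of A)).Modules} {t : P ⟶ Q}
    (ht : @IsQuot A _ (Spec (CommRingCat.of A)) ⟨𝟙 _⟩ J P Q t) :
    IsQuot J ((Scheme.Modules.restrictFunctor U.ι).map t) := by
  have h1 := @Groth.Agent.Lib.QCoh.FormalPull74.isQuot_pullback A _ (↑U : Scheme.{u})
    (Spec (CommRingCat.of A)) _ ⟨𝟙 _⟩ U.ι (Category.comp_id _) J P Q t ht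
  have e : (Scheme.Modules.restrictFunctor U.ι).map t =
      ((Scheme.Modules.restrictFunctorIsoPullback U.ι).hom.app P ≫
        (Scheme.Modules.pullback U.ι).map t) ≫
        (Scheme.Modules.restrictFunctorIsoPullback U.ι).inv.app Q := by
    rw [← (Scheme.Modules.restrictFunctorIsoPullback U.ι).hom.naturality, Category.assoc,
      Iso.hom_inv_id_app, Category.comp_id]
  rw [e]
  exact IsQuot.comp_iso
    (IsQuot.of_iso_comp ((Scheme.Modules.restrictFunctorIsoPullback U.ι).hom.app P) h1)
    ((Scheme.Modules.restrictFunctorIsoPullback U.ι).inv.app Q)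

theorem main [IsNoetherianRing A] (I : Ideal A) (U : (Spec (CommRingCat.of A)).Opens)
    (G : ℕᵒᵖ ⥤ (↑U : Scheme.{u}).Modules) (F : (↑U : Scheme.{u}).Modules) (hF : Coh.IsCoh F)
    (e : Formal.completion I F ≅ G) :
    @Algz.Extends A _ (Spec (CommRingCat.of A)) ⟨𝟙 (Spec (CommRingCat.of A))⟩ I U G := by
  haveI : F.IsQuasicoherent := hF.1
  haveI : F.IsFiniteType := hF.2
  haveI : F.IsFinitePresentation := isFinitePresentation_of_isLocallyNoetherian F
  haveI : QuasiCompact U.ι := inferInstance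
  haveI : ((Scheme.Modules.pushforward U.ι).obj F).IsQuasicoherent :=
    isQuasicoherent_pushforward_of_qcqs U.ι F
  have hUc : IsCompact (U : Set (Spec (CommRingCat.of A))) :=
    TopologicalSpace.NoetherianSpace.isCompact _
  obtain ⟨F', -, ε, hF'fp, -⟩ := FPExt.exists_fp_extension
    ((Scheme.Modules.pushforward U.ι).obj F) U hUc F
    ((Scheme.Modules.restrictFunctorAdjCounitIso U.ι).inv.app F)
  haveI := hF'fp
  have hF'coh : Coh.IsCoh F' := ⟨inferInstance, inferInstance⟩
  letI inst : (Spec (CommRingCat.of A)).Over (Spec (CommRingCat.of A)) := ⟨𝟙 _⟩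
  have hf : ∀ n : ℕ, IsQuot (I ^ (n + 1))
      ((Scheme.Modules.restrictFunctor U.ι).map (modPowπ I (n + 1) F')) :=
    fun n => isQuot_restrict A U (isQuot_modPowπ I (n + 1) F')
  have hg : ∀ n : ℕ, IsQuot (I ^ (n + 1)) (ε.hom ≫ modPowπ I (n + 1) F) :=
    fun n => IsQuot.of_iso_comp ε.hom (isQuot_modPowπ I (n + 1) F)
  choose θ hθ using fun n => IsQuot.exists_iso (hf n) (hg n)
  have nat : ∀ n : ℕ,
      (Algz.restrictSys U (Formal.completion I F')).map (homOfLE (n.le_add_right 1)).op ≫
        (θ n).hom =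
      (θ (n + 1)).hom ≫ (Formal.completion I F).map (homOfLE (n.le_add_right 1)).op := by
    intro n
    have e1 : (Formal.completion I F').map (homOfLE (n.le_add_right 1)).op =
        modPowTrans I (n + 1) F' := Functor.ofOpSequence_map_homOfLE_succ _ n
    have e2 : (Formal.completion I F).map (homOfLE (n.le_add_right 1)).op =
        modPowTrans I (n + 1) F := Functor.ofOpSequence_map_homOfLE_succ _ n
    have e1' : (Algz.restrictSys U (Formal.completion I F')).map (homOfLE (n.le_add_right 1)).op =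
        (Scheme.Modules.restrictFunctor U.ι).map (modPowTrans I (n + 1) F') :=
      congrArg (Scheme.Modules.restrictFunctor U.ι).map e1
    have key : (Scheme.Modules.restrictFunctor U.ι).map (modPowTrans I (n + 1) F') ≫ (θ n).hom =
        (θ (n + 1)).hom ≫ modPowTrans I (n + 1) F := by
      haveI := (hf (n + 1)).1
      rw [← cancel_epi ((Scheme.Modules.restrictFunctor U.ι).map (modPowπ I (n + 1 + 1) F'))]
      calc (Scheme.Modules.restrictFunctor U.ι).map (modPowπ I (n + 1 + 1) F') ≫
            (Scheme.Modules.restrictFunctor U.ι).map (modPowTrans I (n + 1) F') ≫ (θ n).hom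
          = (Scheme.Modules.restrictFunctor U.ι).map
              (modPowπ I (n + 1 + 1) F' ≫ modPowTrans I (n + 1) F') ≫ (θ n).hom := by
            rw [Functor.map_comp, Category.assoc]
        _ = (Scheme.Modules.restrictFunctor U.ι).map (modPowπ I (n + 1) F') ≫ (θ n).hom := by
            rw [modPowπ_trans]
        _ = ε.hom ≫ modPowπ I (n + 1) F := hθ n
        _ = ε.hom ≫ modPowπ I (n + 1 + 1) F ≫ modPowTrans I (n + 1) F := by
            rw [modPowπ_trans]
        _ = ((Scheme.Modules.restrictFunctor U.ι).map (modPowπ I (n + 1 + 1) F') ≫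
              (θ (n + 1)).hom) ≫ modPowTrans I (n + 1) F := by
            rw [hθ (n + 1), Category.assoc]
        _ = _ := Category.assoc _ _ _
    rw [e1', e2]
    exact key
  let τ : Algz.restrictSys U (Formal.completion I F') ⟶ Formal.completion I F :=
    NatTrans.ofOpSequence (fun n => (θ n).hom) nat
  haveI : ∀ k, IsIso (τ.app k) := fun k => by
    obtain ⟨k⟩ := k
    exact Iso.isIso_hom (θ k)
  haveI : IsIso τ := NatIso.isIso_of_isIso_app τ
  exact ⟨Formal.completion I F', isCohFormal_completion I F' hF'coh, ⟨asIso τ ≪≫ e⟩⟩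

end Spec

/-- (2) ⇒ (6): Let A be a Noetherian ring, I ⊆ 𝔞 ideals, U = Spec A ∖ V(𝔞) and (F_n) an object of Coh(U,
I O_U). If (F_n) is isomorphic to the completion of a coherent O_U-module, then (F_n) extends to
Spec A. -/
theorem result (A : Type u) [CommRing A] [IsNoetherianRing A] (I 𝔞 : Ideal A) (hI𝔞 : I ≤ 𝔞)
    (G : ℕᵒᵖ ⥤ (↑(LocCoh.puncturedOpen A 𝔞) : Scheme.{u}).Modules) (hG : Formal.IsCohFormal I G)
    (F : (↑(LocCoh.puncturedOpen A 𝔞) : Scheme.{u}).Modules) (hF : Coh.IsCoh F) (e : Formal.completion I F ≅ G) :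
    @Algz.Extends A _ (Spec (CommRingCat.of A)) ⟨𝟙 (Spec (CommRingCat.of A))⟩ I (LocCoh.puncturedOpen A 𝔞) G := by
  exact main A I (LocCoh.puncturedOpen A 𝔞) G F hF e

end Groth.Agent.S9536
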