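import Groth.Statements.S9551
import Groth.Agent.S9532
import Groth.Agent.S8352

set_option autoImplicit false
universe u
open CategoryTheory CategoryTheory.Limits AlgebraicGeometry Opposite
open Algz

namespace Groth.Agent.S9551

open Groth.Agent.Lib.Helper44

section Img

variable {A : Type u} [CommRing A]

/-- Inclusion of image subobjects in `ModuleCat`, in terms of elements. -/
theorem exists_of_imageSubobject_le {M N P : ModuleCat.{u} A} (f : M ⟶ P) (g : N ⟶ P)
    (h : imageSubobject f ≤ imageSubobject g) (x : M) : ∃ y : N, g y = f x := by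
  obtain ⟨A', π, hπ, u', hu⟩ := (imageSubobject_le_iff f g).1 h
  have hsurj : Function.Surjective π := (ModuleCat.epi_iff_surjective π).1 hπ
  obtain ⟨x', rfl⟩ := hsurj x
  refine ⟨u' x', ?_⟩
  have h1 := ConcreteCategory.congr_hom hu x'
  simpa using h1.symm

/-- If the images of `X_{n+s} → X_n` are constant for `s ≥ r`, then the image of `X_{n+r} → X_n` lies in
the image of every `X_k → X_n`. -/
theorem exists_of_stable (X : ℕᵒᵖ ⥤ ModuleCat.{u} A) (n r : ℕ)
    (hr : ∀ s : ℕ, r ≤ s →
      imageSubobject (ARSys.shiftMap X s n) = imageSubobject (ARSys.shiftMap X r n))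
    (k : ℕ) (hk : n ≤ k) (w : X.obj (op (n + r))) :
    ∃ v : X.obj (op k), (X.map (homOfLE hk).op) v = (X.map (homOfLE (Nat.le_add_right n r)).op) w := by
  rcases le_total k (n + r) with hkr | hkr
  · refine ⟨(X.map (homOfLE hkr).op) w, ?_⟩
    have e : X.map (homOfLE (Nat.le_add_right n r)).op =
        X.map (homOfLE hkr).op ≫ X.map (homOfLE hk).op := by
      rw [← X.map_comp]
      exact congrArg X.map (Subsingleton.elim _ _)
    rw [e]
    rfl
  · obtain ⟨s, rfl⟩ : ∃ s, k = n + s := ⟨k - n, by omega⟩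
    have hs : r ≤ s := by omega
    have h1 : imageSubobject (ARSys.tr X (Nat.le_add_right n r)) ≤
        imageSubobject (ARSys.tr X (Nat.le_add_right n s)) := (hr s hs).ge
    exact exists_of_imageSubobject_le (ARSys.tr X (Nat.le_add_right n r))
      (ARSys.tr X (Nat.le_add_right n s)) h1 w

/-- For a Mittag-Leffler system of modules, the stable image in `X_n` is contained in the image of the
inverse limit. -/
theorem exists_limit_of_isML (X : ℕᵒᵖ ⥤ ModuleCat.{u} A) (hX : ARSys.IsML X) (n : ℕ) :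
    ∃ r : ℕ, ∀ z : X.obj (op (n + r)), ∃ x : (limit X : ModuleCat.{u} A),
      (limit.π X (op n)) x = (X.map (homOfLE (Nat.le_add_right n r)).op) z := by
  obtain ⟨r, hr⟩ := hX n
  refine ⟨r, fun z => ?_⟩
  have hsub : ∀ (n r : ℕ) (_ : ∀ s : ℕ, r ≤ s →
      imageSubobject (ARSys.shiftMap X s n) = imageSubobject (ARSys.shiftMap X r n))
      ⦃k : ℕᵒᵖ⦄ (g : k ⟶ op n),
      Set.range ((X ⋙ forget (ModuleCat.{u} A)).map (homOfLE (Nat.le_add_right n r)).op) ⊆
        Set.range ((X ⋙ forget (ModuleCat.{u} A)).map g) := by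
    intro n r hr k g
    rintro _ ⟨w, rfl⟩
    obtain ⟨v, hv⟩ := exists_of_stable X n r hr k.unop (leOfHom g.unop) w
    refine ⟨v, ?_⟩
    have : g = (homOfLE (leOfHom g.unop)).op := Subsingleton.elim _ _
    rw [this]
    exact hv
  have hML : (X ⋙ forget (ModuleCat.{u} A)).IsMittagLeffler := by
    intro j
    obtain ⟨j⟩ := j
    obtain ⟨r', hr'⟩ := hX j
    exact ⟨op (j + r'), (homOfLE (Nat.le_add_right j r')).op, fun k g => hsub j r' hr' g⟩
  have hy : ((X.map (homOfLE (Nat.le_add_right n r)).op) z :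
      (X ⋙ forget (ModuleCat.{u} A)).obj (op n)) ∈
      (X ⋙ forget (ModuleCat.{u} A)).eventualRange (op n) := by
    rw [Functor.mem_eventualRange_iff]
    intro i f
    exact hsub n r hr f ⟨z, rfl⟩
  obtain ⟨s, hs⟩ := Groth.Agent.S8352.exists_section_of_mem_eventualRange
    (X ⋙ forget (ModuleCat.{u} A)) hML n _ hy
  let t := isLimitOfPreserves (forget (ModuleCat.{u} A)) (limit.isLimit X)
  refine ⟨(Types.isLimitEquivSections t).symm s, ?_⟩
  have h2 := Types.isLimitEquivSections_symm_apply t s (op n)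
  rw [hs] at h2
  exact h2

end Img

section Epi

variable {A : Type u} [CommRing A]

universe v₂ u₂

/-- For a Mittag-Leffler system `X` of modules and an epimorphism-preserving functor `Φ` carrying all
transition maps into `X_n` to epimorphisms, `Φ` carries the projection `lim X → X_n` to an epimorphism. -/
theorem epi_map_limit_π {D : Type u₂} [Category.{v₂} D] (Φ : ModuleCat.{u} A ⥤ D)
    [Φ.PreservesEpimorphisms] (X : ℕᵒᵖ ⥤ ModuleCat.{u} A) (hX : ARSys.IsML X) (n : ℕ)
    (hΦ : ∀ r : ℕ, Epi (Φ.map (X.map (homOfLE (Nat.le_add_right n r)).op))) :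
    Epi (Φ.map (limit.π X (op n))) := by
  obtain ⟨r, hr⟩ := exists_limit_of_isML X hX n
  let K : Submodule A ((X.obj (op (n + r))) × (limit X : ModuleCat.{u} A)) :=
    LinearMap.eqLocus
      ((X.map (homOfLE (Nat.le_add_right n r)).op).hom ∘ₗ
        LinearMap.fst A (X.obj (op (n + r))) (limit X : ModuleCat.{u} A))
      ((limit.π X (op n)).hom ∘ₗ LinearMap.snd A (X.obj (op (n + r))) (limit X : ModuleCat.{u} A))
  let f1 : ModuleCat.of A K ⟶ X.obj (op (n + r)) :=
    ModuleCat.ofHom (LinearMap.fst A (X.obj (op (n + r))) (limit X : ModuleCat.{u} A) ∘ₗ K.subtype)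
  let f2 : ModuleCat.of A K ⟶ (limit X : ModuleCat.{u} A) :=
    ModuleCat.ofHom (LinearMap.snd A (X.obj (op (n + r))) (limit X : ModuleCat.{u} A) ∘ₗ K.subtype)
  have hsq : f1 ≫ X.map (homOfLE (Nat.le_add_right n r)).op = f2 ≫ limit.π X (op n) := by
    ext ⟨⟨z, x⟩, h⟩
    exact h
  have hf1 : Epi f1 := by
    rw [ModuleCat.epi_iff_surjective]
    intro z
    obtain ⟨x, hx⟩ := hr z
    exact ⟨⟨(z, x), hx.symm⟩, rfl⟩
  haveI := hΦ r
  haveI : Epi (Φ.map f1) := Φ.map_epi f1
  haveI : Epi (Φ.map f1 ≫ Φ.map (X.map (homOfLE (Nat.le_add_right n r)).op)) := epi_comp _ _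
  have e : Φ.map f2 ≫ Φ.map (limit.π X (op n)) =
      Φ.map f1 ≫ Φ.map (X.map (homOfLE (Nat.le_add_right n r)).op) := by
    rw [← Φ.map_comp, ← Φ.map_comp, hsq]
  haveI : Epi (Φ.map f2 ≫ Φ.map (limit.π X (op n))) := by rw [e]; infer_instance
  exact epi_of_epi (Φ.map f2) (Φ.map (limit.π X (op n)))

theorem epi_comp3 {C : Type*} [Category C] {P Q R S : C} (a : P ⟶ Q) (b : Q ⟶ R) (c : R ⟶ S)
    (ha : Epi a) (hb : IsIso b) (hc : IsIso c) : Epi ((a ≫ b) ≫ c) := by
  infer_instance

end Epi

theorem main (A : Type u) [CommRing A] (U : (Spec (CommRingCat.of A)).Opens) [QuasiCompact U.ι]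
    (I : Ideal A) (G : ℕᵒᵖ ⥤ (↑U : Scheme.{u}).Modules) (hG : Formal.IsCohFormal I G)
    (ha : ARSys.IsML (Algz.sectMod A U G)) (n : ℕ) :
    Epi (((Scheme.Modules.restrictAdjunction U.ι).homEquiv _ (G.obj (op n))).symm
      (((tilde.adjunction (R := CommRingCat.of A)).homEquiv (limit (Algz.sectMod A U G))
        ((Scheme.Modules.pushforward U.ι).obj (G.obj (op n)))).symm
          (limit.π (Algz.sectMod A U G) (op n)))) := by
  haveI : (tilde.functor (CommRingCat.of A)).PreservesEpimorphisms :=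
    Functor.preservesEpimorphisms_of_adjunction (tilde.adjunction (R := CommRingCat.of A))
  haveI : (Scheme.Modules.restrictFunctor U.ι).PreservesEpimorphisms :=
    Functor.preservesEpimorphisms_of_adjunction (Scheme.Modules.restrictAdjunction U.ι)
  haveI : (tilde.functor (CommRingCat.of A) ⋙
      Scheme.Modules.restrictFunctor U.ι).PreservesEpimorphisms := inferInstance
  -- all transition maps become epimorphisms after `~` and restriction to `U`
  have hΦ : ∀ r : ℕ, Epi ((tilde.functor (CommRingCat.of A) ⋙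
      Scheme.Modules.restrictFunctor U.ι).map
        ((Algz.sectMod A U G).map (homOfLE (Nat.le_add_right n r)).op)) := by
    intro r
    have e₀ := Groth.Agent.S9531.sectSysRestrictIso A U G (fun k => (hG.1 k.unop).1)
    have hnat := e₀.hom.naturality (homOfLE (Nat.le_add_right n r)).op
    have hq := Groth.Agent.Lib.Helper32.TorsSys.isQuot_map I G hG (Nat.le_add_right n r)
    exact Groth.Agent.S9532.epi_of_sq _ (e₀.hom.app (op n)) (e₀.hom.app (op (n + r)))
      (G.map (homOfLE (Nat.le_add_right n r)).op) (Iso.isIso_hom (e₀.app (op n)))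
      (Iso.isIso_hom (e₀.app (op (n + r)))) hq.1 hnat
  have hπ := epi_map_limit_π (tilde.functor (CommRingCat.of A) ⋙
    Scheme.Modules.restrictFunctor U.ι) (Algz.sectMod A U G) ha n hΦ
  haveI : (G.obj (op n)).IsQuasicoherent := (hG.1 n).1
  haveI : ((Scheme.Modules.pushforward U.ι).obj (G.obj (op n))).IsQuasicoherent :=
    Groth.Agent.Lib.QCoh.isQuasicoherent_pushforward_of_qcqs U.ι (G.obj (op n))
  have h2 : IsIso (Scheme.Modules.fromTildeΓ (R := CommRingCat.of A)
      ((Scheme.Modules.pushforward U.ι).obj (G.obj (op n)))) :=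
    Scheme.Modules.isIso_fromTildeΓ_of_isQuasicoherent (R := CommRingCat.of A)
      ((Scheme.Modules.pushforward U.ι).obj (G.obj (op n)))
  have h2' : IsIso ((Scheme.Modules.restrictFunctor U.ι).map
      (Scheme.Modules.fromTildeΓ (R := CommRingCat.of A)
        ((Scheme.Modules.pushforward U.ι).obj (G.obj (op n))))) := by
    haveI := h2
    infer_instance
  have h3 : IsIso ((Scheme.Modules.restrictAdjunction U.ι).counit.app (G.obj (op n))) :=
    inferInstance
  have key := epi_comp3 _ _ _ hπ h2' h3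
  change Epi ((Scheme.Modules.restrictFunctor U.ι).map
    ((tilde.functor (CommRingCat.of A)).map (limit.π (Algz.sectMod A U G) (op n)) ≫
      Scheme.Modules.fromTildeΓ (R := CommRingCat.of A)
        ((Scheme.Modules.pushforward U.ι).obj (G.obj (op n)))) ≫
    (Scheme.Modules.restrictAdjunction U.ι).counit.app (G.obj (op n)))
  rw [Functor.map_comp]
  exact key

/-- Let A be a Noetherian ring, I ⊆ 𝔞 ideals, U = Spec A ∖ V(𝔞) with inclusion j, (F_n) an object of
Coh(U, I O_U) and M = lim_n H^0(U, F_n). If the system H^0(U, F_n) is Mittag-Leffler, then for every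
n the canonical map from M~|_U to F_n, adjoint (under the tilde and restriction adjunctions) to the
projection M → H^0(U, F_n) = Γ(Spec A, j_*F_n), is an epimorphism. (The source states surjectivity
of (M/I^nM)~|_U → F_n; the map from M~|_U factors through it after the epimorphism M~ → (M/I^nM)~,
so the two surjectivity statements are equivalent.) -/
theorem result (A : Type u) [CommRing A] [IsNoetherianRing A] (I 𝔞 : Ideal A) (hI𝔞 : I ≤ 𝔞)
    (G : ℕᵒᵖ ⥤ (↑(LocCoh.puncturedOpen A 𝔞) : Scheme.{u}).Modules) (hG : Formal.IsCohFormal I G)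
    (ha : ARSys.IsML (Algz.sectMod A (LocCoh.puncturedOpen A 𝔞) G)) (n : ℕ) :
    Epi (((Scheme.Modules.restrictAdjunction (LocCoh.puncturedOpen A 𝔞).ι).homEquiv _ (G.obj (op n))).symm
      (((tilde.adjunction (R := CommRingCat.of A)).homEquiv (limit (Algz.sectMod A (LocCoh.puncturedOpen A 𝔞) G))
        ((Scheme.Modules.pushforward (LocCoh.puncturedOpen A 𝔞).ι).obj (G.obj (op n)))).symm
          (limit.π (Algz.sectMod A (LocCoh.puncturedOpen A 𝔞) G) (op n)))) := by
  exact main A (LocCoh.puncturedOpen A 𝔞) I G hG ha n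

end Groth.Agent.S9551
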