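import Groth.Statements.S9557
import Groth.Agent.Lib.Helper35.UnramSplitScheme2

set_option autoImplicit false
universe u
open EtLocal

namespace Groth.Agent.S9557


open AlgebraicGeometry CategoryTheory Limits in
/-- Let f : X ⟶ S be any morphism of schemes, s a point of S and x_1, …, x_n pairwise distinct points of
X over s such that f is étale at each x_i (the restriction of f to some open neighbourhood of x_i is
étale). Then there are an étale morphism g : U ⟶ S, a point u of U over s and finitely many opens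
V_k of X_U = X ×_S U, each labelled by one of the x_i, such that (1) each V_k ⟶ U is an isomorphism,
(2) no point of X_U over u lies in two different V_k, and (3) every point of X_U over u mapping to
x_i lies in some V_k labelled by x_i. -/
theorem result {X S : Scheme.{u}} (f : X ⟶ S) (s : S)
    {ι : Type} [Finite ι] (x : ι → ↑X) (hinj : Function.Injective x) (hs : ∀ i, f (x i) = s)
    (hx : ∀ i, ∃ W : X.Opens, x i ∈ W ∧ Etale (W.ι ≫ f)) :
    ∃ (U : Scheme.{u}) (g : U ⟶ S) (u : U), Etale g ∧ g u = s ∧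
      ∃ (K : Type) (_ : Finite K) (lab : K → ι) (V : K → (pullback f g).Opens),
        (∀ k, IsIso ((V k).ι ≫ pullback.snd f g)) ∧
        (∀ (k k' : K) (w : ↑(pullback f g)), w ∈ V k → w ∈ V k' → pullback.snd f g w = u → k = k') ∧
        (∀ (w : ↑(pullback f g)) (i : ι), pullback.snd f g w = u → pullback.fst f g w = x i →
          ∃ k, lab k = i ∧ w ∈ V k) := by
  choose W hxW het using hx
  obtain ⟨U, g, u, -, hg, hgu, K, hK, lab, V, h4, h1, h2, h3⟩ :=
    Groth.Agent.Lib.Helper35.UnramSplitScheme.master f s x hinj hs W hxW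
      (fun i => inferInstance) (fun i => inferInstance)
  have hVet : ∀ k, Etale ((V k).ι ≫ pullback.snd f g) := fun k =>
    Groth.Agent.Lib.Helper35.UnramSplitScheme.etale_of_le f g (W (lab k)) (V k) (h4 k)
  obtain ⟨U', huU', hiso⟩ := Groth.Agent.Lib.Helper35.UnramSplitScheme.exists_shrink_iso f g u V
    (fun k => (h1 k).1) hVet (fun k => (h1 k).2)
  refine ⟨U', U'.ι ≫ g, ⟨u, huU'⟩, inferInstance, hgu, K, hK, lab,
    fun k => Groth.Agent.Lib.Helper35.UnramSplitScheme.θ f g U'.ι ⁻¹ᵁ V k, hiso, ?_, ?_⟩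
  · intro k k' w hw hw' hwu
    refine h2 k k' (Groth.Agent.Lib.Helper35.UnramSplitScheme.θ f g U'.ι w) hw hw' ?_
    rw [Groth.Agent.Lib.Helper35.UnramSplitScheme.θ_apply_snd, hwu]
    rfl
  · intro w i hwu hwx
    obtain ⟨k, hk, hkw⟩ := h3 (Groth.Agent.Lib.Helper35.UnramSplitScheme.θ f g U'.ι w) i
      (by rw [Groth.Agent.Lib.Helper35.UnramSplitScheme.θ_apply_snd, hwu]; rfl)
      (by rw [Groth.Agent.Lib.Helper35.UnramSplitScheme.θ_apply_fst, hwx])
    exact ⟨k, hk, hkw⟩

end Groth.Agent.S9557
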