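import Groth.Statements.S9558
import Groth.Agent.Lib.Helper35.UnramSplitScheme3

set_option autoImplicit false
universe u
open EtLocal

namespace Groth.Agent.S9558

section Helpers

open AlgebraicGeometry CategoryTheory Limits Groth.Agent.Lib.Helper35.UnramSplitScheme

theorem aux {X S : Scheme.{u}} (f : X ⟶ S)
    [IsSeparated f] (s : S)
    {ι : Type} [Finite ι] (x : ι → ↑X) (hinj : Function.Injective x) (hs : ∀ i, f (x i) = s)
    (hx : ∀ i, ∃ W : X.Opens, x i ∈ W ∧ Etale (W.ι ≫ f)) :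
    ∃ (U : Scheme.{u}) (g : U ⟶ S) (u : U), Etale g ∧ g u = s ∧
      ∃ (K : Type) (_ : Finite K) (W : (pullback f g).Opens) (V : K → (pullback f g).Opens),
        W ⊔ (⨆ k, V k) = ⊤ ∧ (∀ k, Disjoint W (V k)) ∧ (∀ k k', k ≠ k' → Disjoint (V k) (V k')) ∧
        (∀ k, IsIso ((V k).ι ≫ pullback.snd f g)) ∧
        (∀ (w : ↑(pullback f g)) (i : ι), w ∈ W → pullback.snd f g w = u →
          pullback.fst f g w ≠ x i) := by
  choose W₀ hxW het using hx
  obtain ⟨U, g, u, -, hg, hgu, K, hK, lab, V, h4, h1, h2, h3⟩ :=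
    master f s x hinj hs W₀ hxW (fun i => inferInstance) (fun i => inferInstance)
  have hVet : ∀ k, Etale ((V k).ι ≫ pullback.snd f g) := fun k =>
    etale_of_le f g (W₀ (lab k)) (V k) (h4 k)
  obtain ⟨U₁, huU₁, hiso⟩ := exists_shrink_iso f g u V (fun k => (h1 k).1) hVet (fun k => (h1 k).2)
  -- first refinement
  let g₁ := U₁.ι ≫ g
  let u₁ : U₁ := ⟨u, huU₁⟩
  let V₁ : K → (pullback f g₁).Opens := fun k => θ f g U₁.ι ⁻¹ᵁ V k
  have h2₁ : ∀ (k k' : K) (w : ↑(pullback f g₁)), w ∈ V₁ k → w ∈ V₁ k' →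
      pullback.snd f g₁ w = u₁ → k = k' := by
    intro k k' w hw hw' hwu
    refine h2 k k' (θ f g U₁.ι w) hw hw' ?_
    rw [θ_apply_snd, hwu]
    rfl
  have h3₁ : ∀ (w : ↑(pullback f g₁)) (i : ι), pullback.snd f g₁ w = u₁ →
      pullback.fst f g₁ w = x i → ∃ k, lab k = i ∧ w ∈ V₁ k := by
    intro w i hwu hwx
    obtain ⟨k, hk, hkw⟩ := h3 (θ f g U₁.ι w) i (by rw [θ_apply_snd, hwu]; rfl)
      (by rw [θ_apply_fst, hwx])
    exact ⟨k, hk, hkw⟩
  have hci₁ : ∀ k, IsClosedImmersion ((V₁ k).ι ≫ pullback.snd f g₁) := fun k => by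
    have := hiso k
    infer_instance
  obtain ⟨U₂, huU₂, hdisj⟩ := exists_shrink_disjoint f g₁ u₁ V₁ hci₁ h2₁
  have hcl : ∀ k, IsClosed ((θ f g₁ U₂.ι ⁻¹ᵁ V₁ k : (pullback f (U₂.ι ≫ g₁)).Opens) :
      Set ↑(pullback f (U₂.ι ≫ g₁))) := fun k =>
    (isClosed_of_isClosedImmersion_snd f g₁ (V₁ k) (hci₁ k)).preimage (θ f g₁ U₂.ι).continuous
  obtain ⟨W', hW'1, hW'2, hW'3⟩ := exists_compl_iUnion _ hcl
  refine ⟨U₂, U₂.ι ≫ g₁, ⟨u₁, huU₂⟩, inferInstance, hgu, K, hK, W',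
    fun k => θ f g₁ U₂.ι ⁻¹ᵁ V₁ k, hW'2, hW'3, hdisj, fun k => ?_, ?_⟩
  · exact refine_prop f g₁ U₂.ι (MorphismProperty.isomorphisms Scheme) (V₁ k) (hiso k)
  · intro w i hwW hwu hwx
    obtain ⟨k, -, hkw⟩ := h3₁ (θ f g₁ U₂.ι w) i (by rw [θ_apply_snd, hwu]; rfl)
      (by rw [θ_apply_fst, hwx])
    exact (hW'1 w).mp hwW k hkw

end Helpers

open AlgebraicGeometry CategoryTheory Limits in
/-- Let f : X ⟶ S be a separated morphism of schemes, s a point of S and x_1, …, x_n pairwise distinct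
points of X over s such that f is étale at each x_i (the restriction of f to some open neighbourhood
of x_i is étale). Then there are an étale morphism g : U ⟶ S, a point u of U over s, and a
decomposition of X_U = X ×_S U into pairwise disjoint open subschemes W and finitely many V_k which
together cover X_U, such that each V_k ⟶ U is an isomorphism and no point of W over u maps to any of
the x_i. -/
theorem result {X S : Scheme.{u}} (f : X ⟶ S)
    [IsSeparated f] (s : S)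
    {ι : Type} [Finite ι] (x : ι → ↑X) (hinj : Function.Injective x) (hs : ∀ i, f (x i) = s)
    (hx : ∀ i, ∃ W : X.Opens, x i ∈ W ∧ Etale (W.ι ≫ f)) :
    ∃ (U : Scheme.{u}) (g : U ⟶ S) (u : U), Etale g ∧ g u = s ∧
      ∃ (K : Type) (_ : Finite K) (W : (pullback f g).Opens) (V : K → (pullback f g).Opens),
        W ⊔ (⨆ k, V k) = ⊤ ∧ (∀ k, Disjoint W (V k)) ∧ (∀ k k', k ≠ k' → Disjoint (V k) (V k')) ∧
        (∀ k, IsIso ((V k).ι ≫ pullback.snd f g)) ∧
        (∀ (w : ↑(pullback f g)) (i : ι), w ∈ W → pullback.snd f g w = u → pullback.fst f g w ≠ x i) := by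
  exact aux f s x hinj hs hx

end Groth.Agent.S9558
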