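import Groth.Statements.S9560
import Mathlib.RingTheory.Smooth.Fiber
import Mathlib.RingTheory.Smooth.Flat
import Mathlib.RingTheory.Etale.Locus
import Mathlib.RingTheory.Unramified.LocalRing

set_option autoImplicit false
universe u
open EtLocal

namespace Groth.Agent.S9560

open TensorProduct IsLocalRing in
/-- local version of `IsSmoothAt.of_formallySmooth_fiber`. -/
lemma formallySmooth_of_flat_of_unramified (R S : Type u) [CommRing R] [CommRing S] [Algebra R S]
    [Algebra.FinitePresentation R S] (p : Ideal R) (q : Ideal S)
    [p.IsPrime] [q.IsPrime] [q.LiesOver p]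
    [Algebra (Localization.AtPrime p) (Localization.AtPrime q)]
    [Localization.AtPrime.IsLiesOverAlgebra p q]
    [Module.Flat (Localization.AtPrime p) (Localization.AtPrime q)]
    [Algebra.IsUnramifiedAt R q] :
    Algebra.FormallySmooth R (Localization.AtPrime q) := by
  let Rp := Localization.AtPrime p
  let Sp := Localization (Algebra.algebraMapSubmonoid S p.primeCompl)
  let Sq := Localization.AtPrime q
  let f : Sp →ₐ[S] Sq := IsLocalization.liftAlgHom (M := Algebra.algebraMapSubmonoid S p.primeCompl)
        (f := Algebra.ofId _ _) (by
      rintro ⟨_, x, hx, rfl⟩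
      simpa using! IsLocalization.map_units (M := q.primeCompl) Sq ⟨algebraMap _ _ x,
        by simp_all [q.over_def p]⟩)
  algebraize [f.toRingHom]
  have : IsScalarTower R Sp Sq := .to₁₃₄ _ S _ _
  have : IsScalarTower Rp Sp Sq := .of_algebraMap_eq' <| by
    apply IsLocalization.ringHom_ext p.primeCompl
    simp only [RingHom.comp_assoc, ← IsScalarTower.algebraMap_eq]
  have : IsLocalization (Algebra.algebraMapSubmonoid Sp q.primeCompl) Sq :=
    .isLocalization_of_submonoid_le _ _ (Algebra.algebraMapSubmonoid S p.primeCompl) _
    (by rintro _ ⟨x, hx, rfl⟩; simp_all [q.over_def p])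
  have : Algebra.FinitePresentation Rp Sp := by
    have : Algebra.IsPushout R Rp S Sp :=
      .symm <| Algebra.isPushout_of_isLocalization p.primeCompl _ _ _
    exact .equiv (Algebra.IsPushout.equiv R Rp S Sp)
  have : Algebra.EssFiniteType Rp Sq := .of_comp R _ _
  have : Algebra.FormallyUnramified Rp Sq := .of_restrictScalars R _ _
  have : Algebra.FormallySmooth (ResidueField Rp) ((ResidueField Rp) ⊗[Rp] Sq) := by
    have : Algebra.FormallyEtale (ResidueField Rp) ((ResidueField Rp) ⊗[Rp] Sq) :=
      Algebra.FormallyEtale.of_formallyUnramified_of_field _ _
    infer_instance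
  have := Algebra.FormallySmooth.of_formallySmooth_residueField_tensor
    (R := Rp) (S := Sq) (P := Sp) (Algebra.algebraMapSubmonoid _ q.primeCompl)
  exact .comp R Rp Sq


/-- Suppose A is a Noetherian ring and B is a finite-type A-algebra, and consider a prime q of B lying
over the prime p of A, where B_q carries its A_p-algebra structure. Then B is étale at q over A (the
local ring B_q is formally étale over A) if and only if the local homomorphism A_p → B_q is étale,
which means three things: B_q is A_p-flat, the ideal p B_q equals the maximal ideal of B_q, and the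
residue field of q is a finite separable extension of the residue field of p (that B_q is
essentially of finite type over A_p holds automatically). -/
theorem result (A B : Type u) [CommRing A] [CommRing B]
    [Algebra A B] [IsNoetherianRing A] [Algebra.FiniteType A B]
    (p : Ideal A) [p.IsPrime] (q : Ideal B) [q.IsPrime] [q.LiesOver p]
    [Algebra (Localization.AtPrime p) (Localization.AtPrime q)]
    [Localization.AtPrime.IsLiesOverAlgebra p q] :
    Algebra.IsEtaleAt A q ↔
      Module.Flat (Localization.AtPrime p) (Localization.AtPrime q) ∧
        p.map (algebraMap A (Localization.AtPrime q)) = IsLocalRing.maximalIdeal (Localization.AtPrime q) ∧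
        Module.Finite p.ResidueField q.ResidueField ∧
        Algebra.IsSeparable p.ResidueField q.ResidueField := by
  have hfp : Algebra.FinitePresentation A B := Algebra.FinitePresentation.of_finiteType.mp inferInstance
  constructor
  · intro h
    have hu : Algebra.IsUnramifiedAt A q := by
      have : Algebra.FormallyEtale A (Localization.AtPrime q) := h
      infer_instance
    obtain ⟨hsep, hmap⟩ := (Algebra.isUnramifiedAt_iff_map_eq A p q).mp hu
    refine ⟨?_, hmap, inferInstance, hsep⟩
    obtain ⟨f, hf, het⟩ := Algebra.exists_etale_of_isEtaleAt (R := A) q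
    have : Module.Flat A (Localization.Away f) := Algebra.Smooth.flat _ _
    let g : Localization.Away f →ₐ[B] Localization.AtPrime q :=
      IsLocalization.liftAlgHom (M := Submonoid.powers f) (f := Algebra.ofId _ _) (by
        rintro ⟨_, n, rfl⟩
        simpa using IsUnit.pow n (IsLocalization.map_units (M := q.primeCompl) _ ⟨f, hf⟩))
    algebraize [g.toRingHom]
    have : IsScalarTower A (Localization.Away f) (Localization.AtPrime q) := .to₁₃₄ _ B _ _
    have : IsLocalization (Algebra.algebraMapSubmonoid (Localization.Away f) q.primeCompl)
        (Localization.AtPrime q) :=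
      .isLocalization_of_submonoid_le _ _ (Submonoid.powers f) _ (by
        rintro _ ⟨n, rfl⟩; exact q.primeCompl.pow_mem hf n)
    have : Module.Flat (Localization.Away f) (Localization.AtPrime q) :=
      IsLocalization.flat _ (Algebra.algebraMapSubmonoid (Localization.Away f) q.primeCompl)
    have : Module.Flat A (Localization.AtPrime q) := Module.Flat.trans A (Localization.Away f) _
    rw [Module.flat_iff_of_isLocalization (Localization.AtPrime p) p.primeCompl]
    exact this
  · rintro ⟨hflat, hmap, hfin, hsep⟩
    have hu : Algebra.IsUnramifiedAt A q := (Algebra.isUnramifiedAt_iff_map_eq A p q).mpr ⟨hsep, hmap⟩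
    have := formallySmooth_of_flat_of_unramified A B p q
    exact Algebra.FormallyEtale.of_formallyUnramified_and_formallySmooth
      
end Groth.Agent.S9560
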