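import Groth.Statements.S9564
import Mathlib.RingTheory.Unramified.LocalStructure
import Mathlib.RingTheory.Unramified.LocalRing

set_option autoImplicit false
universe u
open EtLocal

namespace Groth.Agent.S9564

/-- A ring map into a local ring such that every element of the target is a fraction of
images with invertible denominator induces a surjection from the localization at the
preimage of the maximal ideal. -/
lemma exists_surjective_lift {A R T : Type u} [CommRing A] [CommRing R] [CommRing T]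
    [Algebra A R] [Algebra A T] [IsLocalRing T] (ψ : R →ₐ[A] T)
    (hsurj : ∀ b : T, ∃ y t : R, IsUnit (ψ t) ∧ b * ψ t = ψ y) :
    ∃ (𝔮 : Ideal R) (_ : 𝔮.IsPrime) (l : Localization.AtPrime 𝔮 →ₐ[A] T),
      Function.Surjective l ∧ (∀ t, IsUnit (ψ t) ↔ t ∈ 𝔮.primeCompl) ∧
        ∀ y, l (algebraMap R _ y) = ψ y := by
  let 𝔮 : Ideal R := (IsLocalRing.maximalIdeal T).comap ψ.toRingHom
  have h𝔮 : 𝔮.IsPrime := Ideal.IsPrime.comap _
  have hunit : ∀ t, IsUnit (ψ t) ↔ t ∈ 𝔮.primeCompl := by
    intro t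
    change _ ↔ ¬ (ψ t ∈ IsLocalRing.maximalIdeal T)
    rw [IsLocalRing.mem_maximalIdeal, mem_nonunits_iff, not_not]
  let l : Localization.AtPrime 𝔮 →ₐ[A] T :=
    IsLocalization.liftAlgHom (M := 𝔮.primeCompl) (f := ψ) (fun y ↦ (hunit y.1).mpr y.2)
  have hl : ∀ y, l (algebraMap R _ y) = ψ y := fun y ↦ by
    simp [l]
  refine ⟨𝔮, h𝔮, l, ?_, hunit, hl⟩
  intro b
  obtain ⟨y, t, ht, hb⟩ := hsurj b
  have ht' : t ∈ 𝔮.primeCompl := (hunit t).mp ht
  refine ⟨IsLocalization.mk' _ y ⟨t, ht'⟩, ?_⟩
  have h1 : l (IsLocalization.mk' (Localization.AtPrime 𝔮) y ⟨t, ht'⟩) * ψ t = ψ y := by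
    have := congrArg l (IsLocalization.mk'_spec' (Localization.AtPrime 𝔮) y ⟨t, ht'⟩)
    rw [map_mul, hl, hl, mul_comm] at this
    exact this
  apply ht.mul_left_injective
  simp only [h1, hb]

/-- Let A → B be an unramified homomorphism of Noetherian local rings, i.e. a local homomorphism with B
essentially of finite type over A, m_A B = m_B, and residue field of B finite separable over that of
A. Then there are a standard étale A-algebra B' = A[t]_g/(f) (f monic and f' invertible in B'), a
prime 𝔮 of B' and an ideal I of the localization of B' at 𝔮 such that B is isomorphic as an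
A-algebra to the quotient of that localization by I (existence of an isomorphism). -/
theorem result (A B : Type u) [CommRing A] [CommRing B]
    [IsLocalRing A] [IsLocalRing B] [IsNoetherianRing A] [IsNoetherianRing B] [Algebra A B]
    [IsLocalHom (algebraMap A B)] [Algebra.EssFiniteType A B]
    (hm : (IsLocalRing.maximalIdeal A).map (algebraMap A B) = IsLocalRing.maximalIdeal B)
    [Module.Finite (IsLocalRing.ResidueField A) (IsLocalRing.ResidueField B)]
    [Algebra.IsSeparable (IsLocalRing.ResidueField A) (IsLocalRing.ResidueField B)] :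
    ∃ (P : StandardEtalePair A) (𝔮 : Ideal P.Ring) (_ : 𝔮.IsPrime) (I : Ideal (Localization.AtPrime 𝔮)),
      Nonempty (B ≃ₐ[A] (Localization.AtPrime 𝔮 ⧸ I)) := by
  classical
  let B₀ := Algebra.EssFiniteType.subalgebra A B
  let Q : Ideal B₀ := (IsLocalRing.maximalIdeal B).comap (algebraMap B₀ B)
  have hQ : Q.IsPrime := Ideal.IsPrime.comap _
  have hQu : ∀ x : B₀, x ∈ Q.primeCompl ↔ IsUnit (algebraMap B₀ B x) := by
    intro x
    change ¬ (algebraMap B₀ B x ∈ IsLocalRing.maximalIdeal B) ↔ _
    rw [IsLocalRing.mem_maximalIdeal, mem_nonunits_iff, not_not]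
  have hloc : IsLocalization.AtPrime B Q := by
    refine IsLocalization.of_le (Algebra.EssFiniteType.submonoid A B) _ ?_ ?_
    · intro x hx
      exact (hQu x).mpr hx
    · intro r hr
      exact (hQu r).mp hr
  have hunr : Algebra.FormallyUnramified A B :=
    Algebra.FormallyUnramified.iff_map_maximalIdeal_eq.mpr ⟨inferInstance, hm⟩
  have : Algebra.IsUnramifiedAt A Q :=
    Algebra.FormallyUnramified.of_equiv
      ((IsLocalization.algEquiv Q.primeCompl B (Localization.AtPrime Q)).restrictScalars A)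
  obtain ⟨f, hfQ, P, φ, hφ⟩ :=
    Algebra.IsUnramifiedAt.exists_hasStandardEtaleSurjectionOn (R := A) Q
  have hfu : IsUnit (algebraMap B₀ B f) := (hQu f).mp hfQ
  let g : Localization.Away f →ₐ[B₀] B :=
    IsLocalization.liftAlgHom (M := Submonoid.powers f) (f := Algebra.ofId _ _) (by
      rintro ⟨_, n, rfl⟩
      simpa using hfu.pow n)
  let ψ : P.Ring →ₐ[A] B := (g.restrictScalars A).comp φ
  obtain ⟨𝔮, h𝔮, l, hl, -, -⟩ := exists_surjective_lift ψ (by
    intro b
    obtain ⟨⟨x, s⟩, hxs⟩ := IsLocalization.surj (Algebra.EssFiniteType.submonoid A B) b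
    obtain ⟨y, hy⟩ := hφ (algebraMap _ _ x)
    obtain ⟨t, ht⟩ := hφ (algebraMap _ _ s.1)
    have h1 : ψ y = algebraMap B₀ B x := by
      simp [ψ, hy]
    have h2 : ψ t = algebraMap B₀ B s.1 := by
      simp [ψ, ht]
    refine ⟨y, t, ?_, ?_⟩
    · rw [h2]; exact s.2
    · rw [h1, h2]; exact hxs)
  exact ⟨P, 𝔮, h𝔮, RingHom.ker l, ⟨(Ideal.quotientKerAlgEquivOfSurjective hl).symm⟩⟩

end Groth.Agent.S9564
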