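import Groth.Statements.S9563
import Groth.Agent.S9564
import Mathlib.RingTheory.Unramified.LocalStructure
import Mathlib.RingTheory.Unramified.LocalRing
import Mathlib.RingTheory.Smooth.Fiber

set_option autoImplicit false
universe u
open EtLocal

namespace Groth.Agent.S9563


/-- Let A → B be an étale homomorphism of Noetherian local rings, i.e. a local homomorphism with B
essentially of finite type and flat over A, m_A B = m_B, and residue field of B finite separable
over that of A. Then there are a standard étale A-algebra B' = A[t]_g/(f) (f monic and f' invertible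
in B') and a prime 𝔮 of B' such that B is isomorphic as an A-algebra to the localization of B' at 𝔮
(existence of an isomorphism). -/
theorem result (A B : Type u) [CommRing A] [CommRing B]
    [IsLocalRing A] [IsLocalRing B] [IsNoetherianRing A] [IsNoetherianRing B] [Algebra A B]
    [IsLocalHom (algebraMap A B)] [Algebra.EssFiniteType A B] [Module.Flat A B]
    (hm : (IsLocalRing.maximalIdeal A).map (algebraMap A B) = IsLocalRing.maximalIdeal B)
    [Module.Finite (IsLocalRing.ResidueField A) (IsLocalRing.ResidueField B)]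
    [Algebra.IsSeparable (IsLocalRing.ResidueField A) (IsLocalRing.ResidueField B)] :
    ∃ (P : StandardEtalePair A) (𝔮 : Ideal P.Ring) (_ : 𝔮.IsPrime),
      Nonempty (B ≃ₐ[A] Localization.AtPrime 𝔮) := by
  classical
  let B₀ := Algebra.EssFiniteType.subalgebra A B
  let Q : Ideal B₀ := (IsLocalRing.maximalIdeal B).comap (algebraMap B₀ B)
  have hQ : Q.IsPrime := Ideal.IsPrime.comap _
  have hQu : ∀ x : B₀, x ∈ Q.primeCompl ↔ IsUnit (algebraMap B₀ B x) := by
    intro x
    change ¬ (algebraMap B₀ B x ∈ IsLocalRing.maximalIdeal B) ↔ _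
    rw [IsLocalRing.mem_maximalIdeal, mem_nonunits_iff, not_not]
  have hloc : IsLocalization.AtPrime B Q := by
    refine IsLocalization.of_le (Algebra.EssFiniteType.submonoid A B) _ ?_ ?_
    · intro x hx
      exact (hQu x).mpr hx
    · intro r hr
      exact (hQu r).mp hr
  have hunr : Algebra.FormallyUnramified A B :=
    Algebra.FormallyUnramified.iff_map_maximalIdeal_eq.mpr ⟨inferInstance, hm⟩
  have hfp : Algebra.FinitePresentation A B₀ :=
    Algebra.FinitePresentation.of_finiteType.mp inferInstance
  have hsm : Algebra.FormallySmooth A B := by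
    have : Algebra.FormallySmooth (IsLocalRing.ResidueField A) (TensorProduct A (IsLocalRing.ResidueField A) B) := by
      have : Algebra.FormallyEtale (IsLocalRing.ResidueField A) (TensorProduct A (IsLocalRing.ResidueField A) B) :=
        Algebra.FormallyEtale.of_formallyUnramified_of_field _ _
      infer_instance
    exact Algebra.FormallySmooth.of_formallySmooth_residueField_tensor
      (R := A) (S := B) (P := B₀) (Algebra.EssFiniteType.submonoid A B)
  have het : Algebra.FormallyEtale A B := Algebra.FormallyEtale.of_formallyUnramified_and_formallySmooth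
  have : Algebra.IsEtaleAt A Q :=
    Algebra.FormallyEtale.of_equiv
      ((IsLocalization.algEquiv Q.primeCompl B (Localization.AtPrime Q)).restrictScalars A)
  obtain ⟨f, hfQ, hstd⟩ := Algebra.IsEtaleAt.exists_isStandardEtale (R := A) Q
  obtain ⟨P'⟩ := hstd.nonempty_standardEtalePresentation
  let P := P'.P
  let φ : P.Ring ≃ₐ[A] Localization.Away f := P'.equivRing.symm
  have hfu : IsUnit (algebraMap B₀ B f) := (hQu f).mp hfQ
  let g : Localization.Away f →ₐ[B₀] B :=
    IsLocalization.liftAlgHom (M := Submonoid.powers f) (f := Algebra.ofId _ _) (by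
      rintro ⟨_, n, rfl⟩
      simpa using hfu.pow n)
  let ψ : P.Ring →ₐ[A] B := (g.restrictScalars A).comp φ.toAlgHom
  obtain ⟨𝔮, h𝔮, l, hl, hunit, hly⟩ := Groth.Agent.S9564.exists_surjective_lift ψ (by
    intro b
    obtain ⟨⟨x, s⟩, hxs⟩ := IsLocalization.surj (Algebra.EssFiniteType.submonoid A B) b
    obtain ⟨y, hy⟩ := φ.surjective (algebraMap _ _ x)
    obtain ⟨t, ht⟩ := φ.surjective (algebraMap _ _ s.1)
    have h1 : ψ y = algebraMap B₀ B x := by
      simp [ψ, hy]
    have h2 : ψ t = algebraMap B₀ B s.1 := by
      simp [ψ, ht]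
    refine ⟨y, t, ?_, ?_⟩
    · rw [h2]; exact s.2
    · rw [h1, h2]; exact hxs)
  have hinj : Function.Injective l := by
    rw [injective_iff_map_eq_zero]
    intro z hz
    obtain ⟨y, t, rfl⟩ := IsLocalization.exists_mk'_eq 𝔮.primeCompl z
    have h1 : ψ y = 0 := by
      have := congrArg l (IsLocalization.mk'_spec' (Localization.AtPrime 𝔮) y t)
      rw [map_mul, hz, mul_zero, hly] at this
      exact this.symm
    -- φ y is killed by something
    obtain ⟨w, n, hw⟩ : ∃ (w : B₀) (n : ℕ), algebraMap B₀ (Localization.Away f) w = algebraMap B₀ (Localization.Away f) f ^ n * φ y := by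
      obtain ⟨⟨w, ⟨_, n, rfl⟩⟩, hw⟩ := IsLocalization.surj (Submonoid.powers f) (φ y)
      exact ⟨w, n, by rw [← hw, map_pow, mul_comm]⟩
    have h2 : algebraMap B₀ B w = 0 := by
      have := congrArg g hw
      simp only [AlgHom.commutes, map_mul, map_pow] at this
      rw [this]
      have : g (φ y) = 0 := h1
      rw [this, mul_zero]
    obtain ⟨c, hc⟩ := (IsLocalization.map_eq_zero_iff Q.primeCompl B w).mp h2
    obtain ⟨c', hc'⟩ := φ.surjective (algebraMap _ _ (c.1 * f ^ n))
    have h3 : c' * y = 0 := by
      apply φ.injective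
      rw [map_mul, hc', map_zero, map_mul, mul_assoc, map_pow, ← hw, ← map_mul, hc, map_zero]
    have h4 : c' ∈ 𝔮.primeCompl := by
      rw [← hunit]
      have : ψ c' = algebraMap B₀ B (c.1 * f ^ n) := by
        simp [ψ, hc']
      rw [this, map_mul, map_pow]
      exact ((hQu c.1).mp c.2).mul (hfu.pow n)
    rw [IsLocalization.mk'_eq_zero_iff]
    exact ⟨⟨c', h4⟩, h3⟩
  exact ⟨P, 𝔮, h𝔮, ⟨(AlgEquiv.ofBijective l ⟨hinj, hl⟩).symm⟩⟩

end Groth.Agent.S9563
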