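import Groth.Statements.S9567
import Groth.Agent.Lib.Helper35.StdEtaleChart

set_option autoImplicit false
universe u
open EtLocal

namespace Groth.Agent.S9567

section Helpers
set_option linter.style.haveILetI false
open AlgebraicGeometry CategoryTheory Groth.Agent.Lib.Helper35.StdEtaleChart

theorem aux {X Y : Scheme.{u}} (φ : X ⟶ Y) (x : X)
    (V : Y.Opens) (hV : IsAffineOpen V) (hxV : φ.base x ∈ V)
    (hφ : ∃ W : X.Opens, x ∈ W ∧ Etale (W.ι ≫ φ)) :
    ∃ (U : X.Opens) (hU : IsAffineOpen U) (_ : x ∈ U) (e : U ≤ φ ⁻¹ᵁ V)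
      (p : Polynomial Γ(Y, V)) (_ : p.Monic)
      (j : U.toScheme ⟶ Spec (CommRingCat.of (Localization.Away (AdjoinRoot.mk p (Polynomial.derivative p))))),
      IsOpenImmersion j ∧
        j ≫ Spec.map (CommRingCat.ofHom
            (algebraMap Γ(Y, V) (Localization.Away (AdjoinRoot.mk p (Polynomial.derivative p))))) =
          hU.isoSpec.hom ≫ Spec.map (φ.appLE V U e) := by
  obtain ⟨U, hU, hxU, e, hstd⟩ := exists_isStandardEtale_chart φ x V hV hxV hφ
  letI : Algebra Γ(Y, V) Γ(X, U) := (φ.appLE V U e).hom.toAlgebra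
  haveI : Algebra.IsStandardEtale Γ(Y, V) Γ(X, U) := hstd
  obtain ⟨p, hp, θ, hθ⟩ := exists_openImmersion_adjoinRoot (R := Γ(Y, V)) (B := Γ(X, U))
  refine ⟨U, hU, hxU, e, p, hp, hU.isoSpec.hom ≫ Spec.map (CommRingCat.ofHom θ.toRingHom),
    inferInstance, ?_⟩
  rw [Category.assoc, ← Spec.map_comp]
  congr 2
  ext r
  show θ (algebraMap _ _ r) = _
  rw [θ.commutes]
  rfl

end Helpers

open AlgebraicGeometry CategoryTheory in
/-- Let φ : X ⟶ Y be any morphism of schemes, x a point of X and V an affine open neighbourhood of φ(x),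
with ring R = Γ(Y, V). If φ is étale on some open neighbourhood of x, then there are an affine open
neighbourhood U of x with φ(U) ⊆ V, a monic polynomial p over R and an open immersion j of U into
Spec of (R[t]/(p))[1/p′] (the localization of R[t]/(p) away from the image of the derivative of p)
such that j followed by the projection to Spec R is the morphism U → Spec R induced by φ. -/
theorem result {X Y : Scheme.{u}} (φ : X ⟶ Y) (x : X)
    (V : Y.Opens) (hV : IsAffineOpen V) (hxV : φ.base x ∈ V)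
    (hφ : ∃ W : X.Opens, x ∈ W ∧ Etale (W.ι ≫ φ)) :
    ∃ (U : X.Opens) (hU : IsAffineOpen U) (_ : x ∈ U) (e : U ≤ φ ⁻¹ᵁ V)
      (p : Polynomial Γ(Y, V)) (_ : p.Monic)
      (j : U.toScheme ⟶ Spec (CommRingCat.of (Localization.Away (AdjoinRoot.mk p (Polynomial.derivative p))))),
      IsOpenImmersion j ∧
        j ≫ Spec.map (CommRingCat.ofHom
            (algebraMap Γ(Y, V) (Localization.Away (AdjoinRoot.mk p (Polynomial.derivative p))))) =
          hU.isoSpec.hom ≫ Spec.map (φ.appLE V U e) := by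
  exact aux φ x V hV hxV hφ

end Groth.Agent.S9567
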