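import Groth.Statements.S9568
import Mathlib.RingTheory.Kaehler.Basic
import Mathlib.RingTheory.Nakayama
import Mathlib.RingTheory.Localization.Finiteness
import Mathlib.RingTheory.FiniteType
import Mathlib.Algebra.Module.LocalizedModule.Submodule
import Mathlib.LinearAlgebra.TensorProduct.RightExactness

set_option autoImplicit false
universe u
open EtLocal

namespace Groth.Agent.S9568

open TensorProduct in
/-- For a surjective algebra map `P → B`, `1 ⊗ x = 0` in `B ⊗[P] M` forces `x ∈ I M`. -/
lemma mem_smul_top_of_one_tmul_eq_zero {P B M : Type u} [CommRing P] [CommRing B] [Algebra P B]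
    [AddCommGroup M] [Module P M] (h : Function.Surjective (algebraMap P B)) (x : M)
    (hx : (1 : B) ⊗ₜ[P] x = 0) : x ∈ (RingHom.ker (algebraMap P B)) • (⊤ : Submodule P M) := by
  let e : (P ⧸ RingHom.ker (Algebra.ofId P B)) ≃ₐ[P] B :=
    Ideal.quotientKerAlgEquivOfSurjective (f := Algebra.ofId P B) h
  have h1 : (1 : P ⧸ RingHom.ker (Algebra.ofId P B)) ⊗ₜ[P] x = 0 := by
    apply (TensorProduct.congr e.toLinearEquiv (LinearEquiv.refl P M)).injective
    simpa using hx
  have h2 : x ∈ LinearMap.ker (TensorProduct.mk P (P ⧸ RingHom.ker (Algebra.ofId P B)) M 1) := h1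
  rw [LinearMap.ker_tensorProductMk] at h2
  exact h2

open TensorProduct in
lemma mem_of_map_eq_zero {A P B : Type u} [CommRing A] [CommRing P] [CommRing B] [Algebra A P]
    [Algebra A B] [Algebra P B] [IsScalarTower A P B] (h : Function.Surjective (algebraMap P B))
    (ω : Ω[P⁄A]) (hω : KaehlerDifferential.map A A P B ω = 0) :
    ω ∈ Submodule.span P ((KaehlerDifferential.D A P) '' (RingHom.ker (algebraMap P B) : Set P)) ⊔
      (RingHom.ker (algebraMap P B)) • (⊤ : Submodule P Ω[P⁄A]) := by
  have h1 : KaehlerDifferential.mapBaseChange A P B ((1 : B) ⊗ₜ ω) = 0 := by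
    rw [KaehlerDifferential.mapBaseChange_tmul, hω, smul_zero]
  obtain ⟨c, hc⟩ := (KaehlerDifferential.exact_kerCotangentToTensor_mapBaseChange A P B h _).mp h1
  obtain ⟨g, rfl⟩ := Ideal.toCotangent_surjective _ c
  rw [KaehlerDifferential.kerCotangentToTensor_toCotangent] at hc
  have h2 : (1 : B) ⊗ₜ[P] (ω - KaehlerDifferential.D A P g) = 0 := by
    rw [TensorProduct.tmul_sub, hc, sub_self]
  have h3 := mem_smul_top_of_one_tmul_eq_zero h _ h2
  have : ω = KaehlerDifferential.D A P g + (ω - KaehlerDifferential.D A P g) := by abel
  rw [this]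
  exact Submodule.add_mem_sup (Submodule.subset_span ⟨g, g.2, rfl⟩) h3

/-- Let A be a ring, φ a surjection from the polynomial ring P = A[x_1, …, x_n] onto an A-algebra B with
kernel I, q a prime of B and 𝔮 its preimage in P. Then the localization at q of the module of
differentials Ω_{B/A} vanishes if and only if the images of the differentials dg, g ∈ I, span the
localization of Ω_{P/A} at 𝔮 over P_𝔮. (Geometrically: for f locally of finite type, the stalk of
Ω_{X/Y} at x vanishes iff near x the scheme X is a closed subscheme of an affine space over the base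
cut out by an ideal whose germs at the point have differentials generating the stalk of Ω of the
affine space; the published statement also lists the equivalence with f being unramified at x and
with the diagonal being a local isomorphism at x, which this row does not restate. The published
statement asks for one such presentation near the point; this row states the equivalence for every
presentation, which is what the published proof shows and which implies the existential form.) -/
theorem result {A B : Type u} [CommRing A] [CommRing B]
    [Algebra A B] (n : ℕ) (φ : MvPolynomial (Fin n) A →ₐ[A] B) (hφ : Function.Surjective φ)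
    (q : Ideal B) [q.IsPrime] :
    Subsingleton (LocalizedModule q.primeCompl (KaehlerDifferential A B)) ↔
      Submodule.span (Localization.AtPrime (q.comap φ.toRingHom))
        ((LocalizedModule.mkLinearMap (q.comap φ.toRingHom).primeCompl
            (KaehlerDifferential A (MvPolynomial (Fin n) A))) ''
          ((KaehlerDifferential.D A (MvPolynomial (Fin n) A)) '' (RingHom.ker φ.toRingHom : Set (MvPolynomial (Fin n) A)))) = ⊤ := by
  classical
  algebraize [φ.toRingHom]
  have : IsScalarTower A (MvPolynomial (Fin n) A) B :=
    IsScalarTower.of_algebraMap_eq' φ.comp_algebraMap.symm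
  have hsurj : Function.Surjective (algebraMap (MvPolynomial (Fin n) A) B) := hφ
  have hmapsurj := KaehlerDifferential.map_surjective_of_surjective A A (MvPolynomial (Fin n) A) B hsurj
  have hq : ∀ t : MvPolynomial (Fin n) A, t ∈ (q.comap φ.toRingHom).primeCompl ↔
      algebraMap (MvPolynomial (Fin n) A) B t ∈ q.primeCompl := fun t ↦ Iff.rfl
  have hN : ∀ m ∈ Submodule.span (MvPolynomial (Fin n) A) ((KaehlerDifferential.D A (MvPolynomial (Fin n) A)) ''
      (RingHom.ker (algebraMap (MvPolynomial (Fin n) A) B) : Set (MvPolynomial (Fin n) A))),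
      KaehlerDifferential.map A A (MvPolynomial (Fin n) A) B m = 0 := by
    intro m hm
    induction hm using Submodule.span_induction with
    | zero => simp
    | mem x h =>
      obtain ⟨g, hg, rfl⟩ := h
      rw [KaehlerDifferential.map_D, RingHom.mem_ker.mp hg, map_zero]
    | add x y _ _ hx hy => rw [map_add, hx, hy, add_zero]
    | smul a x _ hx => rw [map_smul, hx, smul_zero]
  rw [LocalizedModule.subsingleton_iff]
  constructor
  · intro H
    rw [eq_top_iff]
    apply Submodule.le_of_le_smul_of_le_jacobson_bot (I := IsLocalRing.maximalIdeal _)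
      Module.Finite.fg_top (IsLocalRing.maximalIdeal_le_jacobson _)
    intro x _
    obtain ⟨⟨ω, s⟩, rfl⟩ := IsLocalizedModule.mk'_surjective (q.comap φ.toRingHom).primeCompl
      (LocalizedModule.mkLinearMap (q.comap φ.toRingHom).primeCompl
        (KaehlerDifferential A (MvPolynomial (Fin n) A))) x
    obtain ⟨r, hr, hrω⟩ := H (KaehlerDifferential.map A A (MvPolynomial (Fin n) A) B ω)
    obtain ⟨t, rfl⟩ := hsurj r
    have h1 : KaehlerDifferential.map A A (MvPolynomial (Fin n) A) B (t • ω) = 0 := by
      rw [map_smul, ← hrω, algebraMap_smul]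
    have h2 := mem_of_map_eq_zero hsurj _ h1
    -- image under mkLinearMap
    set f := LocalizedModule.mkLinearMap (q.comap φ.toRingHom).primeCompl
        (KaehlerDifferential A (MvPolynomial (Fin n) A)) with hf
    set W := Submodule.span (Localization.AtPrime (q.comap φ.toRingHom))
        (f '' ((KaehlerDifferential.D A (MvPolynomial (Fin n) A)) '' (RingHom.ker φ.toRingHom : Set (MvPolynomial (Fin n) A)))) ⊔
      IsLocalRing.maximalIdeal (Localization.AtPrime (q.comap φ.toRingHom)) • ⊤ with hW
    have h3 : ∀ y ∈ Submodule.span (MvPolynomial (Fin n) A) ((KaehlerDifferential.D A (MvPolynomial (Fin n) A)) ''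
        (RingHom.ker (algebraMap (MvPolynomial (Fin n) A) B) : Set (MvPolynomial (Fin n) A))) ⊔
        (RingHom.ker (algebraMap (MvPolynomial (Fin n) A) B)) • (⊤ : Submodule (MvPolynomial (Fin n) A) Ω[MvPolynomial (Fin n) A⁄A]),
        f y ∈ W := by
      intro y hy
      have hle : Submodule.span (MvPolynomial (Fin n) A) ((KaehlerDifferential.D A (MvPolynomial (Fin n) A)) ''
        (RingHom.ker (algebraMap (MvPolynomial (Fin n) A) B) : Set (MvPolynomial (Fin n) A))) ⊔
        (RingHom.ker (algebraMap (MvPolynomial (Fin n) A) B)) • (⊤ : Submodule (MvPolynomial (Fin n) A) Ω[MvPolynomial (Fin n) A⁄A]) ≤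
          (W.restrictScalars (MvPolynomial (Fin n) A)).comap f := by
        refine sup_le ?_ ?_
        · rw [Submodule.span_le]
          intro x hx
          exact Submodule.mem_sup_left (Submodule.subset_span ⟨x, hx, rfl⟩)
        · rw [Submodule.smul_le]
          intro r hr m _
          change f (r • m) ∈ W
          rw [map_smul, ← algebraMap_smul (Localization.AtPrime (q.comap φ.toRingHom))]
          refine Submodule.mem_sup_right (Submodule.smul_mem_smul ?_ Submodule.mem_top)
          rw [IsLocalization.AtPrime.to_map_mem_maximal_iff _ (q.comap φ.toRingHom)]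
          change algebraMap (MvPolynomial (Fin n) A) B r ∈ q
          rw [RingHom.mem_ker.mp hr]
          exact q.zero_mem
      exact hle hy
    have h4 := h3 _ h2
    have ht : t ∈ (q.comap φ.toRingHom).primeCompl := hr
    have hu : IsUnit (algebraMap (MvPolynomial (Fin n) A) (Localization.AtPrime (q.comap φ.toRingHom)) (t * s.1)) :=
      IsLocalization.map_units (M := (q.comap φ.toRingHom).primeCompl) _ ⟨t * s.1, mul_mem ht s.2⟩
    change IsLocalizedModule.mk' f ω s ∈ W
    rw [← Submodule.smul_mem_iff_of_isUnit _ hu, algebraMap_smul, mul_smul]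
    have : s.1 • IsLocalizedModule.mk' f ω s = f ω := IsLocalizedModule.mk'_cancel' f ω s
    rw [this, ← map_smul]
    exact h4
  · intro H η
    obtain ⟨ω, rfl⟩ := hmapsurj η
    have h1 : LocalizedModule.mkLinearMap (q.comap φ.toRingHom).primeCompl
        (KaehlerDifferential A (MvPolynomial (Fin n) A)) ω ∈
        (Submodule.span (MvPolynomial (Fin n) A) ((KaehlerDifferential.D A (MvPolynomial (Fin n) A)) ''
          (RingHom.ker (algebraMap (MvPolynomial (Fin n) A) B) : Set (MvPolynomial (Fin n) A)))).localized'
          (Localization.AtPrime (q.comap φ.toRingHom)) (q.comap φ.toRingHom).primeCompl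
          (LocalizedModule.mkLinearMap (q.comap φ.toRingHom).primeCompl
            (KaehlerDifferential A (MvPolynomial (Fin n) A))) := by
      rw [Submodule.localized'_span]
      have : (RingHom.ker (algebraMap (MvPolynomial (Fin n) A) B) : Set (MvPolynomial (Fin n) A)) =
        (RingHom.ker φ.toRingHom : Set (MvPolynomial (Fin n) A)) := rfl
      rw [this, H]
      exact Submodule.mem_top
    rw [Submodule.mem_localized'] at h1
    obtain ⟨m, hm, s, hms⟩ := h1
    rw [IsLocalizedModule.mk'_eq_iff, Submonoid.smul_def, ← LinearMap.map_smul,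
      IsLocalizedModule.eq_iff_exists (q.comap φ.toRingHom).primeCompl] at hms
    obtain ⟨c, hc⟩ := hms
    simp only [Submonoid.smul_def] at hc
    refine ⟨algebraMap (MvPolynomial (Fin n) A) B (c.1 * s.1), ?_, ?_⟩
    · exact mul_mem c.2 s.2
    · rw [algebraMap_smul, ← map_smul, mul_smul]
      have : c.1 • s.1 • ω = c.1 • m := hc.symm
      rw [this, map_smul, hN m hm, smul_zero]

end Groth.Agent.S9568
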