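import Groth.Statements.S9571


set_option autoImplicit false
universe u
open CategoryTheory CategoryTheory.Limits AlgebraicGeometry TopologicalSpace Opposite
open Constr

namespace Groth.Agent.S9571


/-- Let S be a graded ring, X = Proj S and d ≥ 1; let W_d be the union of the opens D_+(ab) over pairs
of homogeneous a, b with deg a = deg b + d (the open over which the twisting sheaves O_X(nd) are
invertible with compatible multiplications). For n ≥ 1 and f homogeneous of degree nd, with s the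
section of O_X(nd) over W_d defined by f, the non-vanishing locus (W_d)_s equals D_+(f) ∩ W_d.
Pointwise: for p in some D_+(ab) as above, p ∈ D_+(f) if and only if the value f/1 of s at p
generates the module of degree-nd fractions at p (the span of the fractions c/t with t ∉ p and deg c
= deg t + nd, over the degree-zero local ring at p). -/
theorem result {R A : Type u} [CommRing R] [CommRing A] [Algebra R A] (𝒜 : ℕ → Submodule R A) [GradedAlgebra 𝒜]
    {d : ℕ} (hd : 0 < d) {i j : ℕ} {a b : A} (ha : a ∈ 𝒜 i) (hb : b ∈ 𝒜 j) (hij : i = j + d)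
    (p : ProjectiveSpectrum 𝒜) (hp : p ∈ ProjectiveSpectrum.basicOpen 𝒜 (a * b))
    {n : ℕ} (hn : 0 < n) (f : 𝒜 (n * d)) :
    p ∈ ProjectiveSpectrum.basicOpen 𝒜 (f : A) ↔
      Submodule.span (Twist.A0 𝒜 p) {(Twist.globalOf 𝒜 f).1 ⟨p, trivial⟩} = ⊤ := by
  rw [ProjectiveSpectrum.mem_basicOpen] at hp ⊢
  have hap : a ∉ p.asHomogeneousIdeal := fun h ↦ hp (Ideal.mul_mem_right _ _ h)
  have hbp : b ∉ p.asHomogeneousIdeal := fun h ↦ hp (Ideal.mul_mem_left _ _ h)
  constructor
  · intro hf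
    rw [eq_top_iff]
    rintro ⟨x, hx⟩ -
    have hf1 : (1 : A) ∉ p.asHomogeneousIdeal := fun h ↦ p.isPrime.ne_top ((Ideal.eq_top_iff_one _).mpr h)
    have key : ∀ (x : Twist.Loc 𝒜 p) (hx : x ∈ Twist.twistAt 𝒜 ((n * d : ℕ) : ℤ) p),
        (⟨x, hx⟩ : Twist.twistAt 𝒜 ((n * d : ℕ) : ℤ) p) ∈
          Submodule.span (Twist.A0 𝒜 p) {(Twist.globalOf 𝒜 f).1 ⟨p, trivial⟩} := by
      intro x hx
      induction hx using Submodule.span_induction with
      | zero => exact Submodule.zero_mem _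
      | add x y hx hy h1 h2 => exact Submodule.add_mem _ h1 h2
      | smul c x hx h1 => exact Submodule.smul_mem _ c h1
      | mem x h =>
        obtain ⟨i', j', c, t, ht, hdeg, rfl⟩ := h
        have hdeg' : j' + n * d = i' := by exact_mod_cast hdeg.symm
        have htf : t.1 * f.1 ∈ 𝒜 i' := hdeg' ▸ SetLike.mul_mem_graded t.2 f.2
        have htfp : t.1 * f.1 ∉ p.asHomogeneousIdeal := fun h ↦
          (p.isPrime.mem_or_mem h).elim ht hf
        let cc : Twist.A0 𝒜 p := HomogeneousLocalization.mk ⟨i', c, ⟨t.1 * f.1, htf⟩, htfp⟩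
        have : (⟨Localization.mk c.1 ⟨t.1, ht⟩, Submodule.subset_span ⟨i', j', c, t, ht, hdeg, rfl⟩⟩ :
            Twist.twistAt 𝒜 ((n * d : ℕ) : ℤ) p) = cc • (Twist.globalOf 𝒜 f).1 ⟨p, trivial⟩ := by
          apply Subtype.ext
          rw [Twist.coe_smul_val]
          change _ = Localization.mk c.1 ⟨t.1 * f.1, htfp⟩ * Localization.mk f.1 ⟨1, _⟩
          rw [Localization.mk_mul, Localization.mk_eq_mk_iff, Localization.r_iff_exists]
          refine ⟨1, ?_⟩
          simp only [OneMemClass.coe_one, one_mul, Submonoid.coe_mul, mul_one]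
          ring
        rw [this]
        exact Submodule.smul_mem _ _ (Submodule.subset_span rfl)
    exact key x hx
  · intro H hf
    have han : a ^ n ∈ 𝒜 (n • i) := SetLike.pow_mem_graded n ha
    have hbn : b ^ n ∈ 𝒜 (n • j) := SetLike.pow_mem_graded n hb
    have hbnp : b ^ n ∉ p.asHomogeneousIdeal := fun h ↦ hbp (p.isPrime.mem_of_pow_mem n h)
    have hanp : a ^ n ∉ p.asHomogeneousIdeal := fun h ↦ hap (p.isPrime.mem_of_pow_mem n h)
    have hdeg : ((n • i : ℕ) : ℤ) = ((n • j : ℕ) : ℤ) + ((n * d : ℕ) : ℤ) := by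
      subst hij; simp only [smul_eq_mul]; push_cast; ring
    let w : Twist.twistAt 𝒜 ((n * d : ℕ) : ℤ) p :=
      ⟨Localization.mk (a ^ n) ⟨b ^ n, hbnp⟩,
        Submodule.subset_span ⟨n • i, n • j, ⟨a ^ n, han⟩, ⟨b ^ n, hbn⟩, hbnp, hdeg, rfl⟩⟩
    have hw : w ∈ Submodule.span (Twist.A0 𝒜 p) {(Twist.globalOf 𝒜 f).1 ⟨p, trivial⟩} := by
      rw [H]; exact Submodule.mem_top
    obtain ⟨c, hc⟩ := Submodule.mem_span_singleton.mp hw
    have h1 : (w : Twist.Loc 𝒜 p) = c.val * Localization.mk f.1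
        (⟨1, fun h ↦ p.isPrime.ne_top ((Ideal.eq_top_iff_one _).mpr h)⟩ :
          p.asHomogeneousIdeal.toIdeal.primeCompl) := by
      rw [← hc, Twist.coe_smul_val]
      rfl
    have h2 : (w : Twist.Loc 𝒜 p) ∈ IsLocalRing.maximalIdeal (Twist.Loc 𝒜 p) := by
      rw [h1]
      apply Ideal.mul_mem_left
      rw [Localization.mk_eq_mk', IsLocalization.AtPrime.mk'_mem_maximal_iff (Twist.Loc 𝒜 p)
        p.asHomogeneousIdeal.toIdeal]
      exact hf
    have h3 : (w : Twist.Loc 𝒜 p) = Localization.mk (a ^ n) ⟨b ^ n, hbnp⟩ := rfl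
    rw [h3, Localization.mk_eq_mk', IsLocalization.AtPrime.mk'_mem_maximal_iff (Twist.Loc 𝒜 p)
        p.asHomogeneousIdeal.toIdeal] at h2
    exact hanp h2

end Groth.Agent.S9571
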