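import Groth.Statements.S9572
import Groth.Agent.Lib.Helper42.ProjDomIso
-- import your own Groth.Agent.* helpers here

set_option autoImplicit false
universe u
open CategoryTheory CategoryTheory.Limits AlgebraicGeometry TopologicalSpace Opposite
open Constr

namespace Groth.Agent.S9572

/-- Let ψ : A → B be a homomorphism of graded rings such that A_d → B_d is bijective for all d ≥ d₀. Let
U(ψ) ⊆ Proj B be the union of the opens D_+(ψ f) over homogeneous f of positive degree, and r_ψ :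
U(ψ) → Proj A the morphism whose restriction to each chart Spec B_(ψ f) is Spec of the induced map
A_(f) → B_(ψ f) followed by the chart of Proj A. Then U(ψ) = Proj B and r_ψ is an isomorphism. (Here
r_ψ is any morphism with that chart description; it is unique.) -/
theorem result {R A : Type u} [CommRing R] [CommRing A] [Algebra R A] (𝒜 : ℕ → Submodule R A) [GradedAlgebra 𝒜]
    {B : Type u} [CommRing B] [Algebra R B] (ℬ : ℕ → Submodule R B) [GradedAlgebra ℬ] (ψ : 𝒜 →+*ᵍ ℬ)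
    (d₀ : ℕ) (hbij : ∀ d : ℕ, d₀ ≤ d → Set.BijOn ψ (𝒜 d) (ℬ d))
    (r : (PCone.dom ψ : Scheme.{u}) ⟶ Proj 𝒜)
    (hr : ∀ (d : ℕ) (f : A) (hd : 0 < d) (hf : f ∈ 𝒜 d),
      PCone.chart ψ hf hd ≫ r =
        Spec.map (CommRingCat.ofHom (HomogeneousLocalization.Away.map ψ f)) ≫ Proj.awayι 𝒜 f hf hd) :
    PCone.dom ψ = ⊤ ∧ IsIso r := by
  have hcovtop : ∀ x : Proj ℬ, ∃ (d : ℕ) (f : A) (_ : f ∈ 𝒜 d) (_ : 0 < d),
      x ∈ Proj.basicOpen ℬ (ψ f) :=
    Groth.Agent.Lib.Helper42.ProjDom.exists_mem_basicOpen_map ψ d₀ (fun n hn => (hbij n hn).surjOn)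
  refine ⟨?_, ?_⟩
  · refine top_le_iff.mp (fun x _ => ?_)
    obtain ⟨d, f, hf, hd, hx⟩ := hcovtop x
    exact TopologicalSpace.Opens.mem_iSup.mpr ⟨⟨f, d, hd, hf⟩, hx⟩
  · exact Groth.Agent.Lib.Helper42.ProjDom.isIso_map_on ψ d₀ hbij (PCone.dom ψ)
      (fun hf hd => PCone.range_awayι_subset ψ hf hd)
      (fun x _ => hcovtop x) r (fun d f hd hf => hr d f hd hf)

end Groth.Agent.S9572
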