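import Groth.Statements.S9573
import Groth.Agent.Lib.Proj.Helper66_ProjLocDeg0
import Groth.Agent.Lib.Helper42.GrLift

set_option autoImplicit false
universe u
open CategoryTheory CategoryTheory.Limits AlgebraicGeometry TopologicalSpace Opposite
open scoped HomogeneousIdeal
open Constr

namespace Groth.Agent.S9573

/-- Let A be a graded ring, g an element of degree zero and ψ : A → B = A_g the localization map, B
carrying the induced grading (B_n consists of the b with g^k b = ψ(a) for some k and some a ∈ A_n).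
Then the morphism r_ψ : Proj B → Proj A induced by ψ is everywhere defined, it is an open immersion
whose image is the inverse image of the basic open D(g) of Spec A_0 under the structure morphism
Proj A → Spec A_0, and for every integer n the canonical map θ : r_ψ^* O_{Proj A}(n) → O_{Proj B}(n)
(adjoint to a/f ↦ ψ(a)/ψ(f)) is an isomorphism. (The containment of B_+ in the ideal generated by
ψ(A_+), through which r_ψ is Proj.map here, follows from the other hypotheses and is carried as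
data.) -/
theorem result {R A : Type u} [CommRing R] [CommRing A] [Algebra R A] (𝒜 : ℕ → Submodule R A) [GradedAlgebra 𝒜]
    {B : Type u} [CommRing B] [Algebra R B] (ℬ : ℕ → Submodule R B) [GradedAlgebra ℬ] (ψ : 𝒜 →+*ᵍ ℬ)
    (g : A) (hg : g ∈ 𝒜 0) [Algebra A B] (hψA : ∀ a : A, ψ a = algebraMap A B a) [IsLocalization.Away g B]
    (hdeg : ∀ (n : ℕ) (b : B), b ∈ ℬ n ↔ ∃ (k : ℕ) (a : A), a ∈ 𝒜 n ∧ ψ g ^ k * b = ψ a)
    (hψ : HomogeneousIdeal.irrelevant ℬ ≤ (HomogeneousIdeal.irrelevant 𝒜).map ψ) :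
    IsOpenImmersion (Proj.map ψ hψ) ∧
      Set.range (Proj.map ψ hψ).base =
        (Proj.toSpecZero 𝒜).base ⁻¹' (PrimeSpectrum.basicOpen (⟨g, hg⟩ : 𝒜 0) : Set (PrimeSpectrum (𝒜 0))) ∧
      ∀ n : ℤ, IsIso (((Scheme.Modules.pullbackPushforwardAdjunction (Proj.map ψ hψ)).homEquiv _ _).symm
        (GrTwist.comap ψ hψ n)) := by
  have hunit : IsUnit (ψ g) := by
    rw [hψA]
    exact IsLocalization.Away.algebraMap_isUnit g
  obtain ⟨w, hw⟩ := hunit.exists_right_inv
  have hw0 : w ∈ ℬ 0 :=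
    (hdeg 0 w).2 ⟨1, 1, SetLike.GradedOne.one_mem, by rw [pow_one, hw, map_one]⟩
  have hdeg' : ∀ (i : ℕ) (b : B), b ∈ ℬ i → ∃ (k : ℕ) (a : A), a ∈ 𝒜 i ∧ ψ g ^ k * b = ψ a :=
    fun i b hb => (hdeg i b).1 hb
  have hker : ∀ a : A, ψ a = 0 → ∃ k : ℕ, g ^ k * a = 0 := by
    intro a ha
    rw [hψA] at ha
    obtain ⟨⟨_, k, rfl⟩, hk⟩ := (IsLocalization.map_eq_zero_iff (Submonoid.powers g) B a).1 ha
    exact ⟨k, hk⟩
  have hsurj : ∀ b : B, ∃ (a : A) (m : ℕ), b * ψ g ^ m = ψ a := by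
    intro b
    obtain ⟨⟨a, ⟨_, m, rfl⟩⟩, h⟩ := IsLocalization.surj (Submonoid.powers g) b
    exact ⟨a, m, by rw [hψA, hψA, ← map_pow]; exact h⟩
  have key : ∀ x : Proj 𝒜, (Proj.toSpecZero 𝒜).base x ∈
      (PrimeSpectrum.basicOpen (⟨g, hg⟩ : 𝒜 0) : Set (PrimeSpectrum (𝒜 0))) ↔
      g ∉ x.asHomogeneousIdeal := by
    intro x
    have h := Groth.Agent.Lib.Helper42.GrLift.toSpecZero_mem_basicOpen_iff 𝒜 (RingHom.id (𝒜 0))
      ⟨g, hg⟩ x
    have e : Proj.toSpecZero 𝒜 ≫ Spec.map (CommRingCat.ofHom (RingHom.id (𝒜 0))) =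
        Proj.toSpecZero 𝒜 := by
      rw [show CommRingCat.ofHom (RingHom.id (𝒜 0)) = 𝟙 _ from rfl, Spec.map_id, Category.comp_id]
    rw [e] at h
    exact h
  refine ⟨Groth.Agent.Lib.Helper42.ProjLoc.isOpenImmersion_map ψ hψ hg hunit hsurj hker, ?_,
    fun n => Groth.Agent.Lib.Proj.ProjLoc0.isIso_adjunct ψ hψ hg hw0 hw hdeg' hker n⟩
  ext x
  constructor
  · rintro ⟨y, rfl⟩
    refine (key _).2 ?_
    intro h
    have h' : ψ g ∈ y.asHomogeneousIdeal := h
    exact y.isPrime.ne_top (Ideal.eq_top_of_isUnit_mem _ h' hunit)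
  · intro hx
    refine Groth.Agent.Lib.Helper42.ProjLoc.mem_range_map ψ hψ hunit hsurj hker (RingHom.id (𝒜 0))
      ⟨g, hg⟩ rfl x ?_
    rw [show CommRingCat.ofHom (RingHom.id (𝒜 0)) = 𝟙 _ from rfl, Spec.map_id, Category.comp_id]
    exact hx

end Groth.Agent.S9573
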