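import Groth.Statements.S9580
import Mathlib
import Groth.Agent.Lib.Proj.TwistTriv
import Groth.Agent.Lib.Helper18.ProjBasic
-- import your own Groth.Agent.* helpers here

set_option autoImplicit false
universe u
open CategoryTheory CategoryTheory.Limits AlgebraicGeometry TopologicalSpace Opposite
open Constr

namespace Groth.Agent.S9580

/-- Let S be a graded ring, X = Proj S and Y ⊆ X a quasi-compact open subscheme. Then there is an
integer d ≥ 1 such that Y is contained in the open W_d, the union of the standard opens D_+(ab) over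
homogeneous a, b with deg a = deg b + d, and such that the restriction O_Y(nd) of O_X(nd) to Y is
invertible for every integer n. (The remaining assertions — the multiplication maps among the
O_Y(nd) and M~(nd) are isomorphisms, D_+(f) ∩ Y = Y_s, and the loci Y_s form a basis — are not
stated here.) -/
theorem result {R A : Type u} [CommRing R] [CommRing A] [Algebra R A] (𝒜 : ℕ → Submodule R A) [GradedAlgebra 𝒜]
    (Y : (Proj 𝒜).Opens) (hY : IsCompact (Y : Set (Proj 𝒜))) :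
    ∃ d : ℕ, 0 < d ∧
      (∀ y : Proj 𝒜, y ∈ Y → ∃ (i j : ℕ) (a b : A), a ∈ 𝒜 i ∧ b ∈ 𝒜 j ∧ i = j + d ∧ y ∈ Proj.basicOpen 𝒜 (a * b)) ∧
      ∀ n : ℤ, PicF.IsInvertible ((Twist.twist 𝒜 (n * d)).restrict Y.ι) := by
  classical
  -- local homogeneous denominators
  have hloc : ∀ y : Proj 𝒜, ∃ (e : ℕ) (g : A), 0 < e ∧ g ∈ 𝒜 e ∧ y ∈ Proj.basicOpen 𝒜 g := by
    intro y
    obtain ⟨e, he, g, hg, hy⟩ := Groth.Agent.Lib.Helper18.ProjBasic.exists_pos_homogeneous_mem_basicOpen 𝒜 y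
    exact ⟨e, g, he, hg, hy⟩
  choose e g he hg hyg using hloc
  obtain ⟨t, ht⟩ := hY.elim_nhds_subcover (fun y => (Proj.basicOpen 𝒜 (g y) : Set (Proj 𝒜)))
    (fun y _ => (Proj.basicOpen 𝒜 (g y)).isOpen.mem_nhds (hyg y))
  obtain ⟨htY, hcov⟩ := ht
  let d : ℕ := ∏ y ∈ t, e y
  have hdpos : 0 < d := Finset.prod_pos fun y _ => he y
  -- for `y ∈ t`, `a y := g y ^ (d / e y) ∈ 𝒜 d` has the same basic open
  have hdiv : ∀ y ∈ t, e y ∣ d := fun y hy => Finset.dvd_prod_of_mem e hy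
  have ha : ∀ y ∈ t, g y ^ (d / e y) ∈ 𝒜 d := by
    intro y hy
    have := SetLike.pow_mem_graded (d / e y) (hg y)
    rw [smul_eq_mul, Nat.div_mul_cancel (hdiv y hy)] at this
    exact this
  have hbo : ∀ y ∈ t, Proj.basicOpen 𝒜 (g y ^ (d / e y)) = Proj.basicOpen 𝒜 (g y) := by
    intro y hy
    refine Proj.basicOpen_pow 𝒜 _ _ ?_
    exact Nat.div_pos (Nat.le_of_dvd hdpos (hdiv y hy)) (he y)
  have hex : ∀ y' : Proj 𝒜, y' ∈ Y → ∃ y ∈ t, y' ∈ Proj.basicOpen 𝒜 (g y ^ (d / e y)) := by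
    intro y' hy'
    obtain ⟨y, hyt, hy'y⟩ := Set.mem_iUnion₂.mp (hcov hy')
    exact ⟨y, hyt, by rw [hbo y hyt]; exact hy'y⟩
  refine ⟨d, hdpos, fun y' hy' => ?_, fun n => ?_⟩
  · obtain ⟨y, hyt, hy'y⟩ := hex y' hy'
    refine ⟨d, 0, g y ^ (d / e y), 1, ha y hyt, SetLike.GradedOne.one_mem, by omega, ?_⟩
    rw [mul_one]
    exact hy'y
  · refine Groth.Agent.Lib.Proj.isInvertible_restrict_of_forall _ _ fun y' hy' => ?_
    obtain ⟨y, hyt, hy'y⟩ := hex y' hy'
    exact ⟨Proj.basicOpen 𝒜 (g y ^ (d / e y)), hy'y,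
      Groth.Agent.Lib.Proj.nonempty_twist_mul_restrict_iso_unit' ⟨g y ^ (d / e y), ha y hyt⟩ n _ le_rfl⟩

end Groth.Agent.S9580
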