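import Groth.Statements.S9581
import Groth.Agent.Lib.Helper48.WeakAss

set_option autoImplicit false
universe u
open CAlg

namespace Groth.Agent.S9581

/-- (1) ⇔ (3): for a ring R, an R-module M and a prime p of R, the prime p is weakly associated to M
(minimal among the primes containing the annihilator of some element of M) if and only if the
localization M_p contains an element whose annihilator in R_p has radical equal to the maximal ideal
p R_p. -/
theorem result {R : Type u} [CommRing R] (M : Type u) [AddCommGroup M] [Module R M] (p : Ideal R) [p.IsPrime] :
    p ∈ FlatCA.weakAss R M ↔ IsAssociatedPrime (IsLocalRing.maximalIdeal (Localization.AtPrime p)) (LocalizedModule p.primeCompl M) := by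
  constructor
  · rintro ⟨m, hm⟩
    refine ⟨(IsLocalRing.maximalIdeal.isMaximal _).isPrime, LocalizedModule.mk m (1 : p.primeCompl), ?_⟩
    rw [Submodule.bot_colon']
    erw [Groth.Agent.Lib.Helper48.annSpan_loc_mk p.primeCompl m 1]
    rw [IsLocalization.AtPrime.radical_map_of_mem_minimalPrimes (Localization.AtPrime p) p _ hm,
      Localization.AtPrime.map_eq_maximalIdeal]
  · rintro ⟨hprime, x, hx⟩
    induction x using LocalizedModule.induction_on with
    | h m s =>
      refine ⟨m, ?_⟩
      rw [Submodule.bot_colon'] at hx
      erw [Groth.Agent.Lib.Helper48.annSpan_loc_mk p.primeCompl m s] at hx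
      have hmin : IsLocalRing.maximalIdeal (Localization.AtPrime p) ∈
          (Ideal.map (algebraMap R (Localization.AtPrime p))
            (Submodule.span R {m}).annihilator).minimalPrimes := by
        refine ⟨⟨hprime, ?_⟩, ?_⟩
        · rw [hx]; exact Ideal.le_radical
        · rintro q ⟨hq, hJq⟩ _
          rw [hx]
          exact hq.radical_le_iff.mpr hJq
      rw [IsLocalization.minimalPrimes_map p.primeCompl, Set.mem_preimage,
        Localization.AtPrime.under_maximalIdeal] at hmin
      exact hmin

end Groth.Agent.S9581
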