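import Groth.Statements.S9582
import Groth.Agent.Lib.Helper48.WeakAss

set_option autoImplicit false
universe u
open CAlg

namespace Groth.Agent.S9582

/-- For a reduced ring R, the primes weakly associated to the R-module R (primes minimal over the
annihilator of some element) are exactly the minimal primes of R. -/
theorem result {R : Type u} [CommRing R] [IsReduced R] :
    FlatCA.weakAss R R = minimalPrimes R := by
  ext p
  constructor
  · rintro ⟨x, hx⟩
    have hp := hx.1.1
    let T : Submonoid R := p.primeCompl ⊔ Submonoid.powers x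
    have hdisj : Disjoint ((⊥ : Ideal R) : Set R) (T : Set R) := by
      rw [Set.disjoint_left]
      intro z hz hzT
      rw [SetLike.mem_coe, Ideal.mem_bot] at hz
      subst hz
      rw [SetLike.mem_coe, Submonoid.mem_sup] at hzT
      obtain ⟨s, hs, w, ⟨k, rfl⟩, hsw⟩ := hzT
      have hnil : IsNilpotent (s * x) := by
        refine ⟨k + 1, ?_⟩
        have : (s * x) ^ (k + 1) = s ^ k * x * (s * x ^ k) := by ring
        rw [this]
        simp only at hsw
        rw [hsw, mul_zero]
      have h0 : s * x = 0 := hnil.eq_zero
      have : s ∈ (Submodule.span R {x}).annihilator := by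
        rw [Groth.Agent.Lib.Helper48.mem_annSpan, smul_eq_mul, h0]
      exact hs (hx.1.2 this)
    obtain ⟨q, hq, _, hqT⟩ := Ideal.exists_le_prime_disjoint (⊥ : Ideal R) T hdisj
    have hqp : q ≤ p := by
      intro a ha
      by_contra hap
      exact (Set.disjoint_left.mp hqT) ha (SetLike.mem_coe.mpr
        ((le_sup_left : p.primeCompl ≤ T) hap))
    have hxq : x ∉ q := fun hxq =>
      (Set.disjoint_left.mp hqT) hxq (SetLike.mem_coe.mpr
        ((le_sup_right : Submonoid.powers x ≤ T) (Submonoid.mem_powers x)))
    obtain ⟨q', hq', hq'q⟩ := Ideal.exists_minimalPrimes_le (I := (⊥ : Ideal R)) (J := q) bot_le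
    have hq'prime := hq'.1.1
    have hann : (Submodule.span R {x}).annihilator ≤ q' := by
      intro a ha
      rw [Groth.Agent.Lib.Helper48.mem_annSpan, smul_eq_mul] at ha
      have : a * x ∈ q' := by rw [ha]; exact q'.zero_mem
      rcases hq'prime.mem_or_mem this with h | h
      · exact h
      · exact (hxq (hq'q h)).elim
    have hpq' : p ≤ q' := hx.2 ⟨hq'prime, hann⟩ (hq'q.trans hqp)
    have : p = q' := le_antisymm hpq' (hq'q.trans hqp)
    rw [this]
    exact hq'
  · intro hp
    refine ⟨1, ?_⟩
    have : (Submodule.span R {(1 : R)}).annihilator = ⊥ := by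
      ext r
      rw [Groth.Agent.Lib.Helper48.mem_annSpan, smul_eq_mul, mul_one, Ideal.mem_bot]
    rw [this]
    exact hp

end Groth.Agent.S9582
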