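import Groth.Statements.S9583
import Groth.Agent.Lib.Helper48.WeakAss

set_option autoImplicit false
universe u
open CAlg

namespace Groth.Agent.S9583

/-- For a ring R and a short exact sequence 0 → M' → M → M'' → 0 of R-modules, every prime weakly
associated to M' is weakly associated to M, and every prime weakly associated to M is weakly
associated to M' or to M''. -/
theorem result {R : Type u} [CommRing R] {M' M M'' : Type u} [AddCommGroup M'] [Module R M'] [AddCommGroup M] [Module R M] [AddCommGroup M''] [Module R M''] (f : M' →ₗ[R] M) (g : M →ₗ[R] M'') (hf : Function.Injective f) (hg : Function.Surjective g) (hfg : Function.Exact f g) :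
    FlatCA.weakAss R M' ⊆ FlatCA.weakAss R M ∧ FlatCA.weakAss R M ⊆ FlatCA.weakAss R M' ∪ FlatCA.weakAss R M'' := by
  constructor
  · rintro p ⟨m, hm⟩
    refine ⟨f m, ?_⟩
    have : (Submodule.span R {f m}).annihilator = (Submodule.span R {m}).annihilator := by
      ext r
      rw [Groth.Agent.Lib.Helper48.mem_annSpan, Groth.Agent.Lib.Helper48.mem_annSpan, ← map_smul,
        map_eq_zero_iff f hf]
    rwa [this]
  · rintro p ⟨m, hm⟩
    have hp := hm.1.1
    by_cases h : (Submodule.span R {g m}).annihilator ≤ p
    · right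
      refine ⟨g m, ⟨hp, h⟩, ?_⟩
      rintro q ⟨hq, hle⟩ hqp
      refine hm.2 ⟨hq, le_trans ?_ hle⟩ hqp
      intro r hr
      rw [Groth.Agent.Lib.Helper48.mem_annSpan] at hr ⊢
      rw [← map_smul, hr, map_zero]
    · left
      obtain ⟨a, ha, hap⟩ := SetLike.not_le_iff_exists.mp h
      rw [Groth.Agent.Lib.Helper48.mem_annSpan, ← map_smul] at ha
      obtain ⟨m', hm'⟩ := (hfg (a • m)).mp ha
      refine ⟨m', ⟨hp, ?_⟩, ?_⟩
      · intro b hb
        rw [Groth.Agent.Lib.Helper48.mem_annSpan] at hb
        have : b * a ∈ (Submodule.span R {m}).annihilator := by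
          rw [Groth.Agent.Lib.Helper48.mem_annSpan, mul_smul, ← hm', ← map_smul, hb, map_zero]
        rcases hp.mem_or_mem (hm.1.2 this) with h1 | h1
        · exact h1
        · exact (hap h1).elim
      · rintro q ⟨hq, hle⟩ hqp
        refine hm.2 ⟨hq, le_trans ?_ hle⟩ hqp
        intro r hr
        rw [Groth.Agent.Lib.Helper48.mem_annSpan] at hr ⊢
        apply hf
        rw [map_smul, hm', smul_comm, hr, smul_zero, map_zero]

end Groth.Agent.S9583
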