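import Groth.Statements.S9585
import Groth.Agent.Lib.Helper48.WeakAss

set_option autoImplicit false
universe u
open CAlg

namespace Groth.Agent.S9585

/-- For a ring R and an R-module M, an element of R lies in some weakly associated prime of M exactly
when multiplication by it on M is not injective; in other words the union of the weakly associated
primes of M equals the set of zerodivisors on M. -/
theorem result {R : Type u} [CommRing R] (M : Type u) [AddCommGroup M] [Module R M] :
    ⋃ q ∈ FlatCA.weakAss R M, (q : Set R) = {f : R | ¬ IsSMulRegular M f} := by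
  ext f
  simp only [Set.mem_iUnion, SetLike.mem_coe, exists_prop, Set.mem_setOf_eq]
  constructor
  · rintro ⟨q, ⟨m, hm⟩, hfq⟩ hreg
    obtain ⟨y, hy, hfy⟩ := Ideal.exists_mul_mem_of_mem_minimalPrimes hm hfq
    rw [Groth.Agent.Lib.Helper48.mem_annSpan] at hy hfy
    rw [mul_smul] at hfy
    exact hy (hreg.right_eq_zero_of_smul hfy)
  · intro hreg
    have : ∃ m : M, m ≠ 0 ∧ f • m = 0 := by
      by_contra hcon
      push_neg at hcon
      apply hreg
      intro a b hab
      have h1 : f • (a - b) = 0 := by
        rw [smul_sub]
        exact sub_eq_zero.mpr hab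
      by_contra hne
      exact hcon (a - b) (sub_ne_zero.mpr hne) h1
    obtain ⟨m, hm, hfm⟩ := this
    obtain ⟨p, hp, hle⟩ := Groth.Agent.Lib.Helper48.exists_mem_weakAss_of_ne_zero (R := R) hm
    exact ⟨p, hp, hle (Groth.Agent.Lib.Helper48.mem_annSpan.mpr hfm)⟩

end Groth.Agent.S9585
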