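import Groth.Statements.S9586
import Groth.Agent.Lib.Helper48.WeakAss

set_option autoImplicit false
universe u
open CAlg

namespace Groth.Agent.S9586

/-- For a ring R, an R-module M and a finitely generated prime ideal p of R, p is associated to M (equal
to the annihilator of an element) if and only if p is weakly associated to M (minimal over the
annihilator of an element). -/
theorem result {R : Type u} [CommRing R] (M : Type u) [AddCommGroup M] [Module R M] (p : Ideal R) [p.IsPrime] (hp : p.FG) :
    p ∈ FlatCA.ass R M ↔ p ∈ FlatCA.weakAss R M := by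
  constructor
  · rintro ⟨_, m, hm⟩
    refine ⟨m, ?_⟩
    rw [← hm, Ideal.minimalPrimes_eq_subsingleton_self]
    rfl
  · rintro ⟨m, hm⟩
    classical
    have hpp : p.IsPrime := inferInstance
    -- step 1: each element of p has a power killed after multiplication by some t ∉ p
    have h1 : ∀ f ∈ p, ∃ t, t ∉ p ∧ ∃ n : ℕ, t * f ^ n ∈ (Submodule.span R {m}).annihilator := by
      intro f hf
      have hrad := IsLocalization.AtPrime.radical_map_of_mem_minimalPrimes
        (Localization.AtPrime p) p _ hm
      have hmem : algebraMap R (Localization.AtPrime p) f ∈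
          (((Submodule.span R {m}).annihilator).map
            (algebraMap R (Localization.AtPrime p))).radical := by
        rw [hrad]; exact Ideal.mem_map_of_mem _ hf
      obtain ⟨n, hn⟩ := hmem
      rw [← map_pow, IsLocalization.algebraMap_mem_map_algebraMap_iff p.primeCompl] at hn
      obtain ⟨t, ht, htf⟩ := hn
      exact ⟨t, ht, n, htf⟩
    let P : ℕ → Prop := fun k => ∃ z, z ∉ p ∧ p ^ k ≤ (Submodule.span R {z • m}).annihilator
    have hPN : ∃ N, P N := by
      obtain ⟨s, hs⟩ := hp
      choose! t ht n hn using h1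
      have hT : (∏ f ∈ s, t f) ∉ p := by
        rw [Ideal.IsPrime.prod_mem_iff]
        rintro ⟨f, hf, hfp⟩
        exact ht f (hs ▸ Ideal.subset_span hf) hfp
      have hle : p ≤ ((Submodule.span R {(∏ f ∈ s, t f) • m}).annihilator).radical := by
        rw [← hs, Ideal.span_le]
        intro f hf
        have hfp : f ∈ p := hs ▸ Ideal.subset_span hf
        refine ⟨n f, ?_⟩
        rw [Groth.Agent.Lib.Helper48.mem_annSpan]
        obtain ⟨u, hu⟩ := Finset.dvd_prod_of_mem t hf
        have h2 := hn f hfp
        rw [Groth.Agent.Lib.Helper48.mem_annSpan] at h2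
        rw [hu]
        calc f ^ n f • (t f * u) • m = u • (t f * f ^ n f) • m := by
              simp only [smul_smul]; ring_nf
          _ = 0 := by rw [h2, smul_zero]
      obtain ⟨N, hN⟩ := Ideal.exists_pow_le_of_le_radical_of_fg hle ⟨s, hs⟩
      exact ⟨N, _, hT, hN⟩
    have hP0 : ¬ P 0 := by
      rintro ⟨z, hz, hle⟩
      rw [pow_zero, Ideal.one_eq_top, top_le_iff,
        Groth.Agent.Lib.Helper48.annSpan_eq_top_iff] at hle
      exact hz (hm.1.2 (Groth.Agent.Lib.Helper48.mem_annSpan.mpr hle))
    obtain ⟨z, hz, hzk⟩ := Nat.find_spec hPN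
    have hk0 : Nat.find hPN ≠ 0 := fun h => hP0 (h ▸ Nat.find_spec hPN)
    have hkm : ¬ P (Nat.find hPN - 1) := Nat.find_min hPN (Nat.sub_one_lt hk0)
    obtain ⟨s', hs'⟩ : (p ^ (Nat.find hPN - 1)).FG := Ideal.FG.pow hp
    have hclaim : ∃ g ∈ s', ∀ b, b ∉ p → b • g • z • m ≠ 0 := by
      by_contra hcon
      push Not at hcon
      choose! b hb hb0 using hcon
      apply hkm
      refine ⟨(∏ g ∈ s', b g) * z, ?_, ?_⟩
      · intro h
        rcases hpp.mem_or_mem h with h | h
        · rw [Ideal.IsPrime.prod_mem_iff] at h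
          obtain ⟨g, hg, hbg⟩ := h
          exact hb g hg hbg
        · exact hz h
      · rw [← hs', Ideal.span_le]
        intro g hg
        rw [SetLike.mem_coe, Groth.Agent.Lib.Helper48.mem_annSpan]
        obtain ⟨u, hu⟩ := Finset.dvd_prod_of_mem b hg
        rw [hu]
        calc g • ((b g * u) * z) • m = u • (b g • g • z • m) := by
              simp only [smul_smul]; ring_nf
          _ = 0 := by rw [hb0 g hg, smul_zero]
    obtain ⟨g, hg, hgb⟩ := hclaim
    refine ⟨hpp, g • z • m, ?_⟩
    apply le_antisymm
    · intro a ha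
      rw [Groth.Agent.Lib.Helper48.mem_annSpan]
      have hgk : g ∈ p ^ (Nat.find hPN - 1) := hs' ▸ Ideal.subset_span hg
      have h3 : a * g ∈ p ^ (Nat.find hPN) := by
        have h4 := Ideal.mul_mem_mul ha hgk
        rwa [← pow_succ', Nat.sub_add_cancel (Nat.one_le_iff_ne_zero.mpr hk0)] at h4
      have h5 := hzk h3
      rw [Groth.Agent.Lib.Helper48.mem_annSpan] at h5
      rw [← h5, mul_smul]
    · intro b hb
      by_contra hbp
      rw [Groth.Agent.Lib.Helper48.mem_annSpan] at hb
      exact hgb b hbp hb

end Groth.Agent.S9586
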