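import Groth.Statements.S9590
import Groth.Agent.Lib.Helper48.WeakAss

set_option autoImplicit false
universe u
open CAlg

namespace Groth.Agent.S9590

/-- For a ring R, an R-module M and a multiplicative subset S of R such that every element of S is a
nonzerodivisor on M, the primes of R weakly associated to M are the same as those weakly associated
to the R-module S⁻¹M. -/
theorem result {R : Type u} [CommRing R] (S : Submonoid R) (M : Type u) [AddCommGroup M] [Module R M] (hS : ∀ s ∈ S, IsSMulRegular M s) :
    FlatCA.weakAss R M = FlatCA.weakAss R (LocalizedModule S M) := by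
  have key : ∀ (m : M) (s : S), (Submodule.span R {LocalizedModule.mk m s}).annihilator =
      (Submodule.span R {m}).annihilator := by
    intro m s
    ext r
    rw [Groth.Agent.Lib.Helper48.mem_annSpan_mk_iff, Groth.Agent.Lib.Helper48.mem_annSpan]
    constructor
    · rintro ⟨t, ht⟩
      exact (hS t t.2).right_eq_zero_of_smul ht
    · intro h
      exact ⟨1, by simp [h]⟩
  ext p
  constructor
  · rintro ⟨m, hm⟩
    exact ⟨LocalizedModule.mk m (1 : S), by rwa [key]⟩
  · rintro ⟨x, hx⟩
    induction x using LocalizedModule.induction_on with
    | h m s =>
      rw [key] at hx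
      exact ⟨m, hx⟩

end Groth.Agent.S9590
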