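import Groth.Statements.S9591
import Groth.Agent.Lib.Helper48.WeakAss

set_option autoImplicit false
universe u
open CAlg

namespace Groth.Agent.S9591

/-- For a ring R and an R-module M, the map from M to the product of the localizations M_p over all
primes p weakly associated to M is injective: an element vanishing in every such M_p is zero. -/
theorem result {R : Type u} [CommRing R] {M : Type u} [AddCommGroup M] [Module R M] (x : M) (hx : ∀ (p : Ideal R) [p.IsPrime], p ∈ FlatCA.weakAss R M → LocalizedModule.mkLinearMap p.primeCompl M x = 0) :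
    x = 0 := by
  by_contra hne
  obtain ⟨p, hp, hle⟩ := Groth.Agent.Lib.Helper48.exists_mem_weakAss_of_ne_zero (R := R) hne
  haveI := Groth.Agent.Lib.Helper48.weakAss_isPrime hp
  have h0 := hx p hp
  rw [LocalizedModule.mkLinearMap_apply] at h0
  have h1 : (1 : R) ∈ (Submodule.span R {LocalizedModule.mk x (1 : p.primeCompl)}).annihilator := by
    rw [Groth.Agent.Lib.Helper48.mem_annSpan, h0, smul_zero]
  rw [Groth.Agent.Lib.Helper48.mem_annSpan_mk_iff] at h1
  obtain ⟨t, ht⟩ := h1
  rw [one_smul] at ht
  exact t.2 (hle (Groth.Agent.Lib.Helper48.mem_annSpan.mpr ht))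

end Groth.Agent.S9591
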