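import Groth.Statements.S9594
import Groth.Agent.Lib.Helper48.WeakAss

set_option autoImplicit false
universe u
open CAlg

namespace Groth.Agent.S9594

/-- For a ring R, an R-module M and a multiplicative subset S of R, (1) the primes of R associated to
the R-module S⁻¹M are the inverse images of the primes of S⁻¹R associated to S⁻¹M, and (2) a prime
of R associated to M which does not meet S is associated to the R-module S⁻¹M. Here a prime is
associated to a module when it equals the annihilator of some element. -/
theorem result {R : Type u} [CommRing R] (S : Submonoid R) (M : Type u) [AddCommGroup M] [Module R M] :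
    FlatCA.ass R (LocalizedModule S M) = Ideal.comap (algebraMap R (Localization S)) '' FlatCA.ass (Localization S) (LocalizedModule S M) ∧
      ∀ p ∈ FlatCA.ass R M, Disjoint (S : Set R) (p : Set R) → p ∈ FlatCA.ass R (LocalizedModule S M) := by
  constructor
  · ext p
    constructor
    · rintro ⟨hp, x, rfl⟩
      have hdisj : Disjoint (S : Set R) ((Submodule.span R {x}).annihilator : Set R) := by
        rw [Set.disjoint_left]
        intro s hs hsx
        rw [SetLike.mem_coe, Groth.Agent.Lib.Helper48.mem_annSpan] at hsx
        have hx0 : x = 0 := LocalizedModule.eq_zero_of_smul_eq_zero s hs x hsx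
        rw [hx0, Groth.Agent.Lib.Helper48.annSpan_zero] at hp
        exact hp.ne_top rfl
      refine ⟨(Submodule.span (Localization S) {x}).annihilator, ⟨?_, x, rfl⟩,
        Groth.Agent.Lib.Helper48.annSpan_comap_loc S x⟩
      rw [← IsLocalization.map_under S (Localization S)
        (Submodule.span (Localization S) {x}).annihilator, Ideal.under_def,
        Groth.Agent.Lib.Helper48.annSpan_comap_loc S x]
      exact IsLocalization.isPrime_of_isPrime_disjoint S (Localization S) _ hp hdisj
    · rintro ⟨q, ⟨hq, x, rfl⟩, rfl⟩
      exact ⟨Ideal.IsPrime.comap _, x, Groth.Agent.Lib.Helper48.annSpan_comap_loc S x⟩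
  · rintro p ⟨hp, m, rfl⟩ hdisj
    refine ⟨hp, LocalizedModule.mk m (1 : S), ?_⟩
    ext r
    rw [Groth.Agent.Lib.Helper48.mem_annSpan_mk_iff]
    constructor
    · intro h
      exact ⟨1, by simpa [Groth.Agent.Lib.Helper48.mem_annSpan] using h⟩
    · rintro ⟨t, ht⟩
      rw [← mul_smul, ← Groth.Agent.Lib.Helper48.mem_annSpan] at ht
      rcases hp.mem_or_mem ht with h | h
      · exact ((Set.disjoint_left.mp hdisj) t.2 h).elim
      · exact h

end Groth.Agent.S9594
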