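import Groth.Statements.S9597
import Mathlib.RingTheory.Ideal.Quotient.Noetherian
-- import your own Groth.Agent.* helpers here

set_option autoImplicit false
universe u
open CAlg

namespace Groth.Agent.S9597

/-- Let R be a Noetherian ring, M a finite R-module whose associated primes are pairwise incomparable
under inclusion (M has no embedded associated primes), and I the annihilator of M. Then the
associated primes of R/I, viewed as a module over itself, are again pairwise incomparable: R/I has
no embedded primes either. -/
theorem result {R : Type u} [CommRing R] [IsNoetherianRing R] (M : Type u) [AddCommGroup M] [Module R M] [Module.Finite R M] (hM : ∀ p ∈ associatedPrimes R M, ∀ q ∈ associatedPrimes R M, p ≤ q → p = q) :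
    ∀ p ∈ associatedPrimes (R ⧸ Module.annihilator R M) (R ⧸ Module.annihilator R M), ∀ q ∈ associatedPrimes (R ⧸ Module.annihilator R M) (R ⧸ Module.annihilator R M), p ≤ q → p = q := by
  classical
  set I := Module.annihilator R M with hI
  obtain ⟨s, hs⟩ := (Module.Finite.fg_top : (⊤ : Submodule R M).FG)
  have key : ∀ p ∈ associatedPrimes (R ⧸ I) (R ⧸ I),
      p.comap (Ideal.Quotient.mk I) ∈ associatedPrimes R M := by
    intro p hp
    obtain ⟨hpp, y, hy⟩ := isAssociatedPrime_iff.mp hp
    obtain ⟨x, rfl⟩ := Ideal.Quotient.mk_surjective y
    have hcomap : ∀ r, r ∈ p.comap (Ideal.Quotient.mk I) ↔ ∀ m ∈ s, r • x • m = 0 := by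
      intro r
      rw [Ideal.mem_comap, hy, Submodule.mem_colon_singleton, Submodule.mem_bot, smul_eq_mul,
        ← map_mul, Ideal.Quotient.eq_zero_iff_mem, hI, Module.mem_annihilator]
      constructor
      · intro h m _
        rw [← mul_smul]; exact h m
      · intro h m
        have hm : m ∈ Submodule.span R (s : Set M) := hs ▸ Submodule.mem_top
        induction hm using Submodule.span_induction with
        | mem m hm => rw [mul_smul]; exact h m hm
        | zero => rw [smul_zero]
        | add a b _ _ ha hb => rw [smul_add, ha, hb, add_zero]
        | smul c a _ ha => rw [smul_comm, ha, smul_zero]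
    haveI hP : (p.comap (Ideal.Quotient.mk I)).IsPrime := Ideal.comap_isPrime _ _
    have hle : s.inf (fun m => (⊥ : Submodule R M).colon {x • m}) ≤
        p.comap (Ideal.Quotient.mk I) := by
      intro r hr
      rw [hcomap]
      intro m hm
      have h1 := (Submodule.mem_finsetInf.mp hr) m hm
      rwa [Submodule.mem_colon_singleton, Submodule.mem_bot] at h1
    obtain ⟨m, hm, hmP⟩ := (Ideal.IsPrime.inf_le' hP).mp hle
    refine isAssociatedPrime_iff.mpr ⟨hP, x • m, le_antisymm ?_ hmP⟩
    intro r hr
    rw [Submodule.mem_colon_singleton, Submodule.mem_bot]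
    exact (hcomap r).mp hr m hm
  intro p hp q hq hpq
  have h1 := hM _ (key p hp) _ (key q hq) (Ideal.comap_mono hpq)
  exact Ideal.comap_injective_of_surjective _ Ideal.Quotient.mk_surjective h1

end Groth.Agent.S9597
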