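import Groth.Statements.S9598
import Mathlib
-- import your own Groth.Agent.* helpers here

set_option autoImplicit false
universe u
open CAlg

namespace Groth.Agent.S9598

/-- For a field k and a finite type k-algebra S with dim S > 0, some element of S is a nonzerodivisor
and a nonunit. -/
theorem result {k S : Type u} [Field k] [CommRing S] [Algebra k S] [Algebra.FiniteType k S] (hdim : 0 < ringKrullDim S) :
    ∃ f : S, f ∈ nonZeroDivisors S ∧ ¬ IsUnit f := by
  classical
  haveI : IsNoetherianRing S := Algebra.FiniteType.isNoetherianRing k S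
  haveI : IsJacobsonRing S := isJacobsonRing_of_finiteType (A := k)
  by_contra hcon
  push Not at hcon
  have hfin : (associatedPrimes S S).Finite := associatedPrimes.finite S S
  have hmax : ∀ m : Ideal S, m.IsMaximal → m ∈ associatedPrimes S S := by
    intro m hm
    have hsub : (m : Set S) ⊆ ⋃ p ∈ associatedPrimes S S, (p : Set S) := by
      rw [biUnion_associatedPrimes_eq_compl_nonZeroDivisors]
      intro f hf hnz
      exact hm.ne_top (Ideal.eq_top_of_isUnit_mem _ hf (hcon f hnz))
    have hsub' : (m : Set S) ⊆ ⋃ p ∈ (hfin.toFinset : Set (Ideal S)), ((id p : Ideal S) : Set S) := by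
      simpa using hsub
    obtain ⟨p, hp, hmp⟩ := (Ideal.subset_union_prime (f := id) ⊤ ⊤
      (fun i hi _ _ => ((hfin.mem_toFinset.mp hi)).isPrime)).mp hsub'
    have hp' : p ∈ associatedPrimes S S := hfin.mem_toFinset.mp hp
    have : m = p := hm.eq_of_le hp'.isPrime.ne_top hmp
    rw [this]; exact hp'
  obtain ⟨p, q, hpq⟩ : ∃ p q : PrimeSpectrum S, p < q := Order.krullDim_pos_iff.mp hdim
  have hj : p.asIdeal.jacobson = p.asIdeal := IsJacobsonRing.out' _ p.2.isRadical
  let T := hfin.toFinset.filter (fun m => m.IsMaximal ∧ p.asIdeal ≤ m)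
  have hT : T.inf id ≤ p.asIdeal := by
    rw [← hj]
    intro x hx
    rw [Ideal.jacobson, Ideal.mem_sInf]
    rintro m ⟨hpm, hm⟩
    exact (Submodule.mem_finsetInf.mp hx) m (by simp [T, hmax m hm, hm, hpm])
  obtain ⟨m, hmT, hmp⟩ := (Ideal.IsPrime.inf_le' p.2).mp hT
  have hm : m.IsMaximal := (Finset.mem_filter.mp hmT).2.1
  have h1 : m = p.asIdeal := hm.eq_of_le p.2.ne_top hmp
  have h2 : p.asIdeal = q.asIdeal := (h1 ▸ hm).eq_of_le q.2.ne_top hpq.le
  exact hpq.ne (PrimeSpectrum.ext h2)

end Groth.Agent.S9598
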