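import Groth.Statements.S9599
import Mathlib.RingTheory.AdicCompletion.Exactness
import Mathlib.RingTheory.Flat.EquationalCriterion

set_option autoImplicit false
universe u
open CAlg

namespace Groth.Agent.S9599


theorem mem_smul_top_of_flat {R : Type u} [CommRing R] {K M N : Type u} [AddCommGroup K]
    [Module R K] [AddCommGroup M] [Module R M] [AddCommGroup N] [Module R N] [Module.Flat R N]
    (i : K →ₗ[R] M) (g : M →ₗ[R] N) (hi : Function.Injective i) (hg : Function.Surjective g)
    (hig : Function.Exact i g) (J : Ideal R) (k : K)
    (hk : i k ∈ (J • ⊤ : Submodule R M)) : k ∈ (J • ⊤ : Submodule R K) := by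
  classical
  have hspan : (⊤ : Submodule R M) = Submodule.span R (Set.range (id : M → M)) := by
    rw [Set.range_id, Submodule.span_univ]
  rw [hspan, Submodule.mem_ideal_smul_span_iff_exists_sum] at hk
  obtain ⟨a, ha, hsum⟩ := hk
  -- the relation in N
  have hrel : ∑ j : a.support, a j • g (j : M) = 0 := by
    have h1 : g (i k) = 0 := (hig (i k)).mpr ⟨k, rfl⟩
    rw [← hsum, Finsupp.sum, map_sum] at h1
    rw [Finset.sum_coe_sort a.support (fun j => a j • g j)]
    simpa only [map_smul, id] using h1
  obtain ⟨l, b, y, hy0, hb0⟩ := Module.Flat.isTrivialRelation_of_sum_smul_eq_zero hrel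
  have hy : ∀ j : a.support, g (j : M) = ∑ t, b j t • y t := hy0
  have hb : ∀ t, ∑ j : a.support, a j * b j t = 0 := hb0
  choose y' hy' using fun t => hg (y t)
  have hker : ∀ j : a.support, ∃ kj : K, i kj = (j : M) - ∑ t, b j t • y' t := by
    intro j
    apply (hig _).mp
    rw [map_sub, map_sum, hy j, sub_eq_zero]
    refine Finset.sum_congr rfl fun t _ => ?_
    rw [map_smul, hy']
  choose kk hkk using hker
  have hkeq : k = ∑ j : a.support, a j • kk j := by
    apply hi
    rw [map_sum]
    simp_rw [map_smul, hkk, smul_sub, Finset.sum_sub_distrib]
    have h2 : ∑ j : a.support, a j • ∑ t, b j t • y' t = 0 := by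
      simp_rw [Finset.smul_sum, smul_smul]
      rw [Finset.sum_comm]
      apply Finset.sum_eq_zero
      intro t _
      rw [← Finset.sum_smul, hb t, zero_smul]
    rw [h2, sub_zero, ← hsum, Finsupp.sum]
    rw [Finset.sum_coe_sort a.support (fun j => a j • (j : M))]
    rfl
  rw [hkeq]
  exact Submodule.sum_mem _ fun j _ => Submodule.smul_mem_smul (ha _) Submodule.mem_top

/-- For a ring R, an ideal I of R and a short exact sequence 0 → K → M → N → 0 of R-modules with N flat
over R, the induced sequence of I-adic completions 0 → K^ → M^ → N^ → 0 is again short exact. -/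
theorem result {R : Type u} [CommRing R] (I : Ideal R) {K M N : Type u} [AddCommGroup K] [Module R K] [AddCommGroup M] [Module R M] [AddCommGroup N] [Module R N] [Module.Flat R N] (i : K →ₗ[R] M) (g : M →ₗ[R] N) (hi : Function.Injective i) (hg : Function.Surjective g) (hig : Function.Exact i g) :
    Function.Injective (AdicCompletion.map I i) ∧ Function.Exact (AdicCompletion.map I i) (AdicCompletion.map I g) ∧ Function.Surjective (AdicCompletion.map I g) := by
  have hA := fun (J : Ideal R) (k : K) => mem_smul_top_of_flat i g hi hg hig J k
  refine ⟨?_, ?_, AdicCompletion.map_surjective I hg⟩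
  · -- injectivity
    rw [← LinearMap.ker_eq_bot, LinearMap.ker_eq_bot']
    intro x hx
    induction x using AdicCompletion.induction_on with
    | h a =>
      apply AdicCompletion.ext
      intro n
      have h1 := congrArg (fun z => z.val n) hx
      simp only [AdicCompletion.map_mk, AdicCompletion.mk_apply_coe, AdicCompletion.val_zero,
        Pi.zero_apply, Submodule.mkQ_apply, Submodule.Quotient.mk_eq_zero,
        AdicCompletion.AdicCauchySequence.map_apply_coe] at h1
      have h2 : i (a n) ∈ (I ^ n • ⊤ : Submodule R M) := h1
      simp only [AdicCompletion.mk_apply_coe, AdicCompletion.val_zero, Pi.zero_apply,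
        Submodule.mkQ_apply, Submodule.Quotient.mk_eq_zero]
      exact hA _ _ h2
  · -- exactness
    intro y
    constructor
    · intro hy
      induction y using AdicCompletion.induction_on with
      | h b =>
        have h1 : ∀ n, g (b n) ∈ (I ^ n • ⊤ : Submodule R N) := by
          intro n
          have := congrArg (fun z => z.val n) hy
          simpa only [AdicCompletion.map_mk, AdicCompletion.mk_apply_coe, AdicCompletion.val_zero,
            Pi.zero_apply, Submodule.mkQ_apply, Submodule.Quotient.mk_eq_zero,
            AdicCompletion.AdicCauchySequence.map_apply_coe] using this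
        have h2 : ∀ n, ∃ k : K, b n - i k ∈ (I ^ n • ⊤ : Submodule R M) := by
          intro n
          have hmap : (I ^ n • ⊤ : Submodule R N) = Submodule.map g (I ^ n • ⊤) := by
            rw [Submodule.map_smul'', Submodule.map_top, LinearMap.range_eq_top.mpr hg]
          have := h1 n
          rw [hmap] at this
          obtain ⟨d, hd, hgd⟩ := this
          have hker : g (b n - d) = 0 := by rw [map_sub, hgd, sub_self]
          obtain ⟨k, hk⟩ := (hig _).mp hker
          refine ⟨k, ?_⟩
          rw [hk, sub_sub_cancel]
          exact hd
        choose k hk using h2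
        have hcauchy : ∀ n, k n ≡ k (n + 1) [SMOD (I ^ n • ⊤ : Submodule R K)] := by
          intro n
          rw [SModEq.sub_mem]
          apply hA
          rw [map_sub]
          have e1 : i (k n) - i (k (n + 1)) =
              (b (n + 1) - i (k (n + 1))) - (b n - i (k n)) - (b (n + 1) - b n) := by abel
          rw [e1]
          refine Submodule.sub_mem _ (Submodule.sub_mem _ ?_ (hk n)) ?_
          · exact Submodule.smul_mono_left (Ideal.pow_le_pow_right (Nat.le_succ n)) (hk (n + 1))
          · have := b.property (Nat.le_succ n)
            rw [SModEq.sub_mem] at this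
            have h3 := Submodule.neg_mem _ this
            rwa [neg_sub] at h3
        refine ⟨AdicCompletion.mk I K (AdicCompletion.AdicCauchySequence.mk I K k hcauchy), ?_⟩
        apply AdicCompletion.ext
        intro n
        simp only [AdicCompletion.map_mk, AdicCompletion.mk_apply_coe, Submodule.mkQ_apply,
          AdicCompletion.AdicCauchySequence.map_apply_coe,
          AdicCompletion.AdicCauchySequence.mk_coe]
        rw [Submodule.Quotient.eq]
        have := Submodule.neg_mem _ (hk n)
        rw [neg_sub] at this
        exact this
    · rintro ⟨x, rfl⟩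
      rw [AdicCompletion.map_comp_apply]
      have : g ∘ₗ i = 0 := by
        ext z
        exact (hig (i z)).mpr ⟨z, rfl⟩
      rw [this, AdicCompletion.map_zero, LinearMap.zero_apply]

end Groth.Agent.S9599
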