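import Groth.Statements.S9600
import Mathlib.RingTheory.AdicCompletion.Exactness

set_option autoImplicit false
universe u
open CAlg

namespace Groth.Agent.S9600


theorem mem_smul_top_of_killed {R : Type u} [CommRing R] (I : Ideal R) {M N Q : Type u}
    [AddCommGroup M] [Module R M] [AddCommGroup N] [Module R N] [AddCommGroup Q] [Module R Q]
    (i : M →ₗ[R] N) (g : N →ₗ[R] Q) (hi : Function.Injective i)
    (hig : Function.Exact i g) (c : ℕ) (hc : ∀ x ∈ I ^ c, ∀ q : Q, x • q = 0) (n : ℕ) (m : M)
    (hm : i m ∈ (I ^ (n + c) • ⊤ : Submodule R N)) : m ∈ (I ^ n • ⊤ : Submodule R M) := by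
  have h1 : (I ^ c • ⊤ : Submodule R N) ≤ LinearMap.range i := by
    rw [Submodule.smul_le]
    intro r hr x _
    rw [LinearMap.mem_range]
    apply (hig _).mp
    rw [map_smul]
    exact hc r hr _
  have h2 : (I ^ (n + c) • ⊤ : Submodule R N) ≤ Submodule.map i (I ^ n • ⊤) := by
    rw [pow_add, Submodule.mul_smul, Submodule.map_smul'', Submodule.map_top]
    exact Submodule.smul_mono le_rfl h1
  obtain ⟨m', hm', hmm⟩ := h2 hm
  rw [← hi hmm]
  exact hm'

/-- Let R be a ring, I an ideal of R and 0 → M → N → Q → 0 a short exact sequence of R-modules in which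
Q is killed by some power I^c of I. Then on I-adic completions the map M^ → N^ is injective, N^ → Q^
is surjective with kernel equal to the image of M^, and the canonical map Q → Q^ is bijective; so 0
→ M^ → N^ → Q → 0 is again short exact. -/
theorem result {R : Type u} [CommRing R] (I : Ideal R) {M N Q : Type u} [AddCommGroup M] [Module R M] [AddCommGroup N] [Module R N] [AddCommGroup Q] [Module R Q] (i : M →ₗ[R] N) (g : N →ₗ[R] Q) (hi : Function.Injective i) (hg : Function.Surjective g) (hig : Function.Exact i g) (c : ℕ) (hc : ∀ x ∈ I ^ c, ∀ q : Q, x • q = 0) :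
    Function.Injective (AdicCompletion.map I i) ∧ Function.Exact (AdicCompletion.map I i) (AdicCompletion.map I g) ∧ Function.Surjective (AdicCompletion.map I g) ∧ Function.Bijective (AdicCompletion.of I Q) := by
  have hB := fun (n : ℕ) (m : M) => mem_smul_top_of_killed I i g hi hig c hc n m
  refine ⟨?_, ?_, AdicCompletion.map_surjective I hg, ?_⟩
  · -- injectivity
    rw [← LinearMap.ker_eq_bot, LinearMap.ker_eq_bot']
    intro x hx
    induction x using AdicCompletion.induction_on with
    | h a =>
      apply AdicCompletion.ext
      intro n
      have h1 := congrArg (fun z => z.val (n + c)) hx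
      simp only [AdicCompletion.map_mk, AdicCompletion.mk_apply_coe, AdicCompletion.val_zero,
        Pi.zero_apply, Submodule.mkQ_apply, Submodule.Quotient.mk_eq_zero,
        AdicCompletion.AdicCauchySequence.map_apply_coe] at h1
      have h2 : a (n + c) ∈ (I ^ n • ⊤ : Submodule R M) := hB n _ h1
      have h3 : a n ≡ a (n + c) [SMOD (I ^ n • ⊤ : Submodule R M)] :=
        a.property (Nat.le_add_right n c)
      simp only [AdicCompletion.mk_apply_coe, AdicCompletion.val_zero, Pi.zero_apply,
        Submodule.mkQ_apply, Submodule.Quotient.mk_eq_zero]
      rw [SModEq.sub_mem] at h3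
      have := Submodule.add_mem _ h3 h2
      rwa [sub_add_cancel] at this
  · -- exactness
    intro y
    constructor
    · intro hy
      induction y using AdicCompletion.induction_on with
      | h b =>
        have h1 : ∀ n, g (b (n + c)) = 0 := by
          intro n
          have := congrArg (fun z => z.val (n + c)) hy
          simp only [AdicCompletion.map_mk, AdicCompletion.mk_apply_coe, AdicCompletion.val_zero,
            Pi.zero_apply, Submodule.mkQ_apply, Submodule.Quotient.mk_eq_zero,
            AdicCompletion.AdicCauchySequence.map_apply_coe] at this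
          have hle : (I ^ (n + c) • ⊤ : Submodule R Q) ≤ ⊥ := by
            rw [Submodule.smul_le]
            intro r hr q _
            rw [Submodule.mem_bot]
            exact hc r (Ideal.pow_le_pow_right (Nat.le_add_left c n) hr) q
          exact (Submodule.mem_bot R).mp (hle this)
        choose k hk using fun n => (hig _).mp (h1 n)
        have hcauchy : ∀ n, k n ≡ k (n + 1) [SMOD (I ^ n • ⊤ : Submodule R M)] := by
          intro n
          rw [SModEq.sub_mem]
          apply hB
          rw [map_sub, hk, hk]
          have := b.property (Nat.le_succ (n + c))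
          rw [SModEq.sub_mem] at this
          have e : n + 1 + c = (n + c).succ := by omega
          rw [e]
          exact this
        refine ⟨AdicCompletion.mk I M (AdicCompletion.AdicCauchySequence.mk I M k hcauchy), ?_⟩
        apply AdicCompletion.ext
        intro n
        simp only [AdicCompletion.map_mk, AdicCompletion.mk_apply_coe, Submodule.mkQ_apply,
          AdicCompletion.AdicCauchySequence.map_apply_coe,
          AdicCompletion.AdicCauchySequence.mk_coe]
        rw [Submodule.Quotient.eq, hk]
        have := b.property (Nat.le_add_right n c)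
        rw [SModEq.sub_mem] at this
        have h3 := Submodule.neg_mem _ this
        rwa [neg_sub] at h3
    · rintro ⟨x, rfl⟩
      rw [AdicCompletion.map_comp_apply]
      have : g ∘ₗ i = 0 := by
        ext z
        exact (hig (i z)).mpr ⟨z, rfl⟩
      rw [this, AdicCompletion.map_zero, LinearMap.zero_apply]
  · -- Q is complete
    rw [AdicCompletion.of_bijective_iff]
    have hzero : ∀ n, c ≤ n → (I ^ n • ⊤ : Submodule R Q) = ⊥ := by
      intro n hn
      rw [eq_bot_iff, Submodule.smul_le]
      intro r hr q _
      rw [Submodule.mem_bot]
      exact hc r (Ideal.pow_le_pow_right hn hr) q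
    have hH : IsHausdorff I Q := by
      refine ⟨fun x hx => ?_⟩
      have := hx c
      rwa [hzero c le_rfl, SModEq.bot] at this
    have hP : IsPrecomplete I Q := by
      refine ⟨fun f hf => ⟨f c, fun n => ?_⟩⟩
      rcases le_total n c with h | h
      · exact hf h
      · have := hf h
        rw [hzero c le_rfl, SModEq.bot] at this
        rw [this]
    exact { toIsHausdorff := hH, toIsPrecomplete := hP }

end Groth.Agent.S9600
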