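import Groth.Statements.S9601
import Mathlib.RingTheory.AdicCompletion.Basic

set_option autoImplicit false
universe u
open CAlg

namespace Groth.Agent.S9601


theorem ker_eval_anti {R : Type u} [CommRing R] (I : Ideal R) (M : Type u) [AddCommGroup M]
    [Module R M] {a b : ℕ} (hab : a ≤ b) :
    LinearMap.ker (AdicCompletion.eval I M b) ≤ LinearMap.ker (AdicCompletion.eval I M a) := by
  intro x hx
  rw [LinearMap.mem_ker, AdicCompletion.eval_apply] at hx ⊢
  rw [← x.property hab, hx, map_zero]

theorem exists_step {R : Type u} [CommRing R] (I : Ideal R) (M : Type u) [AddCommGroup M]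
    [Module R M] (m : ℕ) (x : AdicCompletion I M)
    (hx : x ∈ LinearMap.ker (AdicCompletion.eval I M m)) :
    ∃ y ∈ (I ^ m • ⊤ : Submodule R (AdicCompletion I M)),
      x - y ∈ LinearMap.ker (AdicCompletion.eval I M (m + 1)) := by
  obtain ⟨z, hz⟩ := Submodule.mkQ_surjective _ (x.val (m + 1))
  have hzm : z ∈ (I ^ m • ⊤ : Submodule R M) := by
    have h1 : AdicCompletion.transitionMap I M (Nat.le_succ m) (x.val (m + 1)) = x.val m :=
      x.property (Nat.le_succ m)
    rw [LinearMap.mem_ker, AdicCompletion.eval_apply] at hx
    rw [hx, ← hz] at h1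
    have h2 : Submodule.mkQ (I ^ m • ⊤ : Submodule R M) z = 0 := h1
    rwa [Submodule.mkQ_apply, Submodule.Quotient.mk_eq_zero] at h2
  refine ⟨AdicCompletion.of I M z, ?_, ?_⟩
  · have : Submodule.map (AdicCompletion.of I M) (I ^ m • ⊤ : Submodule R M) ≤
        (I ^ m • ⊤ : Submodule R (AdicCompletion I M)) := by
      rw [Submodule.map_smul'']
      exact Submodule.smul_mono le_rfl le_top
    exact this ⟨z, hzm, rfl⟩
  · rw [LinearMap.mem_ker, map_sub, AdicCompletion.eval_apply, AdicCompletion.eval_of, hz,
      sub_self]

theorem ker_le_of_precomplete {R : Type u} [CommRing R] (I : Ideal R) (M : Type u)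
    [AddCommGroup M] [Module R M] (hP : IsPrecomplete I (AdicCompletion I M)) (n : ℕ) :
    LinearMap.ker (AdicCompletion.eval I M n) ≤
      (I ^ n • ⊤ : Submodule R (AdicCompletion I M)) := by
  intro x hx
  choose! φ hφ1 hφ2 using exists_step I M
  -- the sequence of remainders
  let X : ℕ → AdicCompletion I M := fun j =>
    Nat.rec x (fun j Xj => Xj - φ (n + j) Xj) j
  have hX0 : X 0 = x := rfl
  have hXs : ∀ j, X (j + 1) = X j - φ (n + j) (X j) := fun j => rfl
  have hXker : ∀ j, X j ∈ LinearMap.ker (AdicCompletion.eval I M (n + j)) := by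
    intro j
    induction j with
    | zero => exact hx
    | succ j ih =>
      rw [hXs]
      exact hφ2 (n + j) (X j) ih
  have hFmem : ∀ j, x - X j ∈ (I ^ n • ⊤ : Submodule R (AdicCompletion I M)) := by
    intro j
    induction j with
    | zero => rw [hX0, sub_self]; exact Submodule.zero_mem _
    | succ j ih =>
      rw [hXs]
      have e : x - (X j - φ (n + j) (X j)) = (x - X j) + φ (n + j) (X j) := by abel
      rw [e]
      refine Submodule.add_mem _ ih ?_
      exact Submodule.smul_mono_left (Ideal.pow_le_pow_right (Nat.le_add_right n j))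
        (hφ1 (n + j) (X j) (hXker j))
  have hcauchy : AdicCompletion.IsAdicCauchy I (AdicCompletion I M) (fun j => x - X j) := by
    rw [AdicCompletion.isAdicCauchy_iff]
    intro j
    rw [SModEq.sub_mem, hXs]
    have e : x - X j - (x - (X j - φ (n + j) (X j))) = - φ (n + j) (X j) := by abel
    rw [e]
    apply Submodule.neg_mem
    exact Submodule.smul_mono_left (Ideal.pow_le_pow_right (Nat.le_add_left j n))
      (hφ1 (n + j) (X j) (hXker j))
  obtain ⟨L, hL⟩ := hP.prec hcauchy
  have hLmem : L ∈ (I ^ n • ⊤ : Submodule R (AdicCompletion I M)) := by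
    have h1 := hL n
    rw [SModEq.sub_mem] at h1
    have h2 := Submodule.sub_mem _ (hFmem n) h1
    rwa [sub_sub_cancel] at h2
  have hxL : x = L := by
    apply AdicCompletion.ext
    intro j
    have h1 := hL j
    rw [SModEq.sub_mem] at h1
    have h2 := AdicCompletion.pow_smul_top_le_ker_eval (I := I) (M := M) j h1
    have h3 := ker_eval_anti I M (Nat.le_add_left j n) (hXker j)
    rw [LinearMap.mem_ker, AdicCompletion.eval_apply] at h2 h3
    have e : x - L = X j + (x - X j - L) := by abel
    have h4 : (x - L).val j = 0 := by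
      rw [e, AdicCompletion.val_add_apply, h2, h3, add_zero]
    rw [AdicCompletion.val_sub_apply, sub_eq_zero] at h4
    exact h4
  rw [hxL]
  exact hLmem

/-- For a ring R, an ideal I of R and an R-module M, let M^ be the I-adic completion and K_n the kernel
of the projection M^ → M/IⁿM. The completion M^ is I-adically complete exactly when K_n = Iⁿ M^
holds for every n ≥ 1. -/
theorem result {R : Type u} [CommRing R] (I : Ideal R) (M : Type u) [AddCommGroup M] [Module R M] :
    IsAdicComplete I (AdicCompletion I M) ↔ ∀ n : ℕ, 1 ≤ n → LinearMap.ker (AdicCompletion.eval I M n) = I ^ n • (⊤ : Submodule R (AdicCompletion I M)) := by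
  constructor
  · intro h n _
    exact le_antisymm (ker_le_of_precomplete I M h.toIsPrecomplete n)
      (AdicCompletion.pow_smul_top_le_ker_eval (I := I) (M := M) n)
  · intro h
    have hP : IsPrecomplete I (AdicCompletion I M) := by
      refine ⟨fun f hf => ?_⟩
      have hcompat : (fun n => (f n).val n) ∈ AdicCompletion.submodule I M := by
        intro m n hmn
        have h1 : AdicCompletion.transitionMap I M hmn ((f n).val n) = (f n).val m :=
          (f n).property hmn
        have h2 := hf hmn
        rw [SModEq.sub_mem] at h2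
        have h3 := AdicCompletion.pow_smul_top_le_ker_eval (I := I) (M := M) m h2
        rw [LinearMap.mem_ker, map_sub, sub_eq_zero] at h3
        simp only [h1]
        exact h3.symm
      refine ⟨⟨fun n => (f n).val n, hcompat⟩, fun n => ?_⟩
      rcases Nat.eq_zero_or_pos n with rfl | hn
      · rw [pow_zero, Ideal.one_eq_top, Submodule.top_smul]
        exact SModEq.top
      · rw [SModEq.sub_mem, ← h n hn, LinearMap.mem_ker, map_sub, sub_eq_zero]
        rfl
    exact { toIsHausdorff := inferInstance, toIsPrecomplete := hP }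

end Groth.Agent.S9601
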