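import Groth.Statements.S9603
import Mathlib.RingTheory.AdicCompletion.Basic
import Mathlib.RingTheory.Ideal.Operations
import Mathlib.RingTheory.Finiteness.Ideal

set_option autoImplicit false
universe u
open CAlg

namespace Groth.Agent.S9603

/-- For a ring A, elements f_1, …, f_r generating an ideal I and an A-module M, if the canonical map
from M to its (f_i)-adic completion is surjective for every i, then the canonical map from M to its
I-adic completion is surjective. -/
theorem result {A : Type u} [CommRing A] {r : ℕ} (f : Fin r → A) (M : Type u) [AddCommGroup M] [Module A M] (h : ∀ i, Function.Surjective (AdicCompletion.of (Ideal.span {f i}) M)) :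
    Function.Surjective (AdicCompletion.of (Ideal.span (Set.range f)) M) := by
  classical
  rw [AdicCompletion.of_surjective_iff]
  have hprec : ∀ i, IsPrecomplete (Ideal.span {f i}) M := fun i =>
    (AdicCompletion.of_surjective_iff).mp (h i)
  set I := Ideal.span (Set.range f) with hI
  -- powers of I are eventually inside the ideal generated by the n-th powers
  have hN : ∀ n : ℕ, ∃ N : ℕ, I ^ N ≤ Ideal.span (Set.range fun i => f i ^ n) := by
    intro n
    apply Ideal.exists_pow_le_of_le_radical_of_fg
    · rw [hI, Ideal.span_le]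
      rintro _ ⟨i, rfl⟩
      exact ⟨n, Ideal.subset_span ⟨i, rfl⟩⟩
    · exact ⟨Finset.univ.image f, by simp [hI]⟩
  choose N hNle using hN
  -- decomposition of elements of J_n • ⊤
  have hdec : ∀ (n : ℕ) (x : M),
      x ∈ (Ideal.span (Set.range fun i => f i ^ n) • ⊤ : Submodule A M) →
      ∃ y : Fin r → M, x = ∑ i, f i ^ n • y i := by
    intro n x hx
    refine Submodule.smul_induction_on hx ?_ ?_
    · intro a ha m _
      obtain ⟨c, rfl⟩ := (Submodule.mem_span_range_iff_exists_fun A).mp ha
      refine ⟨fun i => c i • m, ?_⟩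
      rw [Finset.sum_smul]
      refine Finset.sum_congr rfl fun i _ => ?_
      rw [smul_eq_mul, mul_smul, smul_comm]
    · intro x y hx hy
      obtain ⟨u, rfl⟩ := hx
      obtain ⟨v, rfl⟩ := hy
      refine ⟨fun i => u i + v i, ?_⟩
      rw [← Finset.sum_add_distrib]
      refine Finset.sum_congr rfl fun i _ => ?_
      rw [smul_add]
  refine ⟨fun a ha => ?_⟩
  let k : ℕ → ℕ := fun n => n + ∑ j ∈ Finset.range (n + 1), N j
  have hkn : ∀ n, n ≤ k n := fun n => Nat.le_add_right _ _
  have hkN : ∀ n, N n ≤ k n := fun n =>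
    le_trans (Finset.single_le_sum (f := N) (fun _ _ => Nat.zero_le _)
      (Finset.mem_range.mpr (Nat.lt_succ_self n))) (Nat.le_add_left _ _)
  have hkmono : ∀ n, k n ≤ k (n + 1) := by
    intro n
    apply Nat.add_le_add (Nat.le_succ n)
    exact Finset.sum_le_sum_of_subset (Finset.range_mono (Nat.le_succ _))
  have hstep : ∀ n, a (k (n + 1)) - a (k n) ∈
      (Ideal.span (Set.range fun i => f i ^ n) • ⊤ : Submodule A M) := by
    intro n
    have h1 : a (k n) ≡ a (k (n + 1)) [SMOD (I ^ k n • ⊤ : Submodule A M)] := ha (hkmono n)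
    rw [SModEq.sub_mem] at h1
    have h2 : (I ^ k n • ⊤ : Submodule A M) ≤
        Ideal.span (Set.range fun i => f i ^ n) • ⊤ :=
      Submodule.smul_mono_left ((Ideal.pow_le_pow_right (hkN n)).trans (hNle n))
    have h3 := h2 h1
    have h4 := Submodule.neg_mem _ h3
    rwa [neg_sub] at h4
  choose x hx using fun n => hdec n _ (hstep n)
  -- the partial sums for each generator
  have hL : ∀ i, ∃ L : M, ∀ n, (∑ j ∈ Finset.range n, f i ^ j • x j i) ≡ L
      [SMOD ((Ideal.span {f i}) ^ n • ⊤ : Submodule A M)] := by
    intro i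
    have hc : AdicCompletion.IsAdicCauchy (Ideal.span {f i}) M
        (fun n => ∑ j ∈ Finset.range n, f i ^ j • x j i) := by
      rw [AdicCompletion.isAdicCauchy_iff]
      intro n
      have hmem : f i ^ n • x n i ∈ ((Ideal.span {f i}) ^ n • ⊤ : Submodule A M) :=
        Submodule.smul_mem_smul (Ideal.pow_mem_pow (Ideal.mem_span_singleton_self (f i)) n)
          Submodule.mem_top
      rw [Finset.sum_range_succ, SModEq.sub_mem, sub_add_cancel_left]
      exact Submodule.neg_mem _ hmem
    exact (hprec i).prec hc
  choose L hLs using hL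
  refine ⟨a (k 0) + ∑ i, L i, fun n => ?_⟩
  have h1 : a n ≡ a (k n) [SMOD (I ^ n • ⊤ : Submodule A M)] := ha (hkn n)
  have h2 : a (k n) = a (k 0) + ∑ i, ∑ j ∈ Finset.range n, f i ^ j • x j i := by
    rw [Finset.sum_comm]
    have : ∀ j, ∑ i, f i ^ j • x j i = a (k (j + 1)) - a (k j) := fun j => (hx j).symm
    simp_rw [this]
    rw [Finset.sum_range_sub (fun j => a (k j))]
    abel
  rw [h2] at h1
  refine h1.trans (SModEq.add SModEq.rfl (SModEq.sum fun i _ => ?_))
  refine (hLs i n).mono (Submodule.smul_mono_left (Ideal.pow_right_mono ?_ n))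
  rw [hI, Ideal.span_le, Set.singleton_subset_iff]
  exact Ideal.subset_span ⟨i, rfl⟩

end Groth.Agent.S9603
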