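import Groth.Statements.S9605
import Mathlib.RingTheory.AdicCompletion.Exactness

set_option autoImplicit false
universe u
open CAlg

namespace Groth.Agent.S9605

/-- For a ring R, an ideal I of R, an I-adically complete R-module M and a submodule K of M, the
quotient M/K is I-adically complete if and only if K = ⋂ₙ (K + IⁿM). -/
theorem result {R : Type u} [CommRing R] (I : Ideal R) (M : Type u) [AddCommGroup M] [Module R M] [IsAdicComplete I M] (K : Submodule R M) :
    IsAdicComplete I (M ⧸ K) ↔ K = ⨅ n : ℕ, K ⊔ I ^ n • (⊤ : Submodule R M) := by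
  have hprec : IsPrecomplete I (M ⧸ K) := by
    rw [← AdicCompletion.of_surjective_iff]
    have h1 : Function.Surjective (AdicCompletion.map I K.mkQ) :=
      AdicCompletion.map_surjective I (Submodule.mkQ_surjective K)
    have h2 : Function.Surjective (AdicCompletion.of I M) := AdicCompletion.of_surjective I M
    intro y
    obtain ⟨z, rfl⟩ := h1 y
    obtain ⟨m, rfl⟩ := h2 z
    exact ⟨K.mkQ m, (AdicCompletion.map_of I K.mkQ m).symm⟩
  have hmem : ∀ (m : M) (n : ℕ), (K.mkQ m ≡ 0 [SMOD (I ^ n • ⊤ : Submodule R (M ⧸ K))]) ↔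
      m ∈ K ⊔ I ^ n • (⊤ : Submodule R M) := by
    intro m n
    rw [SModEq.zero]
    have : (I ^ n • ⊤ : Submodule R (M ⧸ K)) = Submodule.map K.mkQ (I ^ n • ⊤) := by
      rw [Submodule.map_smul'', Submodule.map_top, Submodule.range_mkQ]
    rw [this, ← Submodule.mem_comap, Submodule.comap_map_eq, Submodule.ker_mkQ, sup_comm]
  have hH : IsHausdorff I (M ⧸ K) ↔ K = ⨅ n : ℕ, K ⊔ I ^ n • (⊤ : Submodule R M) := by
    rw [isHausdorff_iff]
    constructor
    · intro h
      apply le_antisymm
      · exact le_iInf fun n => le_sup_left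
      · intro m hm
        rw [Submodule.mem_iInf] at hm
        have := h (K.mkQ m) (fun n => (hmem m n).mpr (hm n))
        rwa [Submodule.mkQ_apply, Submodule.Quotient.mk_eq_zero] at this
    · intro h x hx
      obtain ⟨m, rfl⟩ := Submodule.mkQ_surjective K x
      rw [Submodule.mkQ_apply, Submodule.Quotient.mk_eq_zero, h, Submodule.mem_iInf]
      intro n
      exact (hmem m n).mp (hx n)
  rw [← hH]
  constructor
  · intro h
    exact h.toIsHausdorff
  · intro h
    exact { toIsHausdorff := h, toIsPrecomplete := hprec }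

end Groth.Agent.S9605
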