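import Groth.Statements.S9606
import Mathlib

set_option autoImplicit false
universe u
open CAlg

namespace Groth.Agent.S9606

theorem isIntegral_of_gen {R S : Type u} [CommRing R] [CommRing S] [Algebra R S]
    (hgen : Algebra.adjoin R {x : S | x ^ 2 ∈ Set.range (algebraMap R S) ∧
      x ^ 3 ∈ Set.range (algebraMap R S)} = ⊤) : Algebra.IsIntegral R S := by
  refine ⟨fun s => ?_⟩
  have hs : s ∈ Algebra.adjoin R {x : S | x ^ 2 ∈ Set.range (algebraMap R S) ∧
      x ^ 3 ∈ Set.range (algebraMap R S)} := hgen ▸ Algebra.mem_top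
  have hle : Algebra.adjoin R {x : S | x ^ 2 ∈ Set.range (algebraMap R S) ∧
      x ^ 3 ∈ Set.range (algebraMap R S)} ≤ integralClosure R S := by
    refine Algebra.adjoin_le ?_
    rintro x ⟨⟨a, ha⟩, _⟩
    exact IsIntegral.of_pow (n := 2) (by norm_num) (ha ▸ isIntegral_algebraMap)
  exact hle hs

theorem field_eq_of_sq_cube {K : Type*} [Field K] {s t : K} (h2 : s ^ 2 = t ^ 2)
    (h3 : s ^ 3 = t ^ 3) : s = t := by
  by_cases ht : t = 0
  · subst ht
    have : s ^ 2 = 0 := by simpa using h2
    exact pow_eq_zero_iff (by norm_num) |>.mp this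
  · have hs2 : s ^ 2 ≠ 0 := by rw [h2]; exact pow_ne_zero _ ht
    have : s ^ 2 * (s - t) = 0 := by
      have : s ^ 2 * (s - t) = s ^ 3 - t * s ^ 2 := by ring
      rw [this, h3, h2]; ring
    rcases mul_eq_zero.mp this with h | h
    · exact absurd h hs2
    · exact sub_eq_zero.mp h

theorem algHom_eq_of_gen {R S K : Type u} [CommRing R] [CommRing S] [Algebra R S]
    [Field K] [Algebra R K]
    (hgen : Algebra.adjoin R {x : S | x ^ 2 ∈ Set.range (algebraMap R S) ∧
      x ^ 3 ∈ Set.range (algebraMap R S)} = ⊤) (θ₁ θ₂ : S →ₐ[R] K) : θ₁ = θ₂ := by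
  refine AlgHom.ext_of_adjoin_eq_top hgen ?_
  rintro x ⟨⟨a, ha⟩, ⟨b, hb⟩⟩
  refine field_eq_of_sq_cube ?_ ?_
  · rw [← map_pow, ← map_pow, ← ha, AlgHom.commutes, AlgHom.commutes]
  · rw [← map_pow, ← map_pow, ← hb, AlgHom.commutes, AlgHom.commutes]

theorem residue_bijective {R S : Type u} [CommRing R] [CommRing S] [Algebra R S]
    (hgen : Algebra.adjoin R {x : S | x ^ 2 ∈ Set.range (algebraMap R S) ∧
      x ^ 3 ∈ Set.range (algebraMap R S)} = ⊤)
    (p : Ideal R) [p.IsPrime] (q : Ideal S) [q.IsPrime] (hp : p = q.comap (algebraMap R S)) :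
    Function.Bijective (Ideal.ResidueField.map p q (algebraMap R S) hp) := by
  refine ⟨RingHom.injective _, ?_⟩
  set φ := Ideal.ResidueField.map p q (algebraMap R S) hp with hφ
  have hR : ∀ r : R, algebraMap S q.ResidueField (algebraMap R S r) ∈ φ.fieldRange := by
    intro r
    rw [← Ideal.ResidueField.map_algebraMap p q (algebraMap R S) hp r]
    exact RingHom.mem_fieldRange_self _ _
  have hS : ∀ s : S, algebraMap S q.ResidueField s ∈ φ.fieldRange := by
    intro s
    have hs : s ∈ Algebra.adjoin R {x : S | x ^ 2 ∈ Set.range (algebraMap R S) ∧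
      x ^ 3 ∈ Set.range (algebraMap R S)} := hgen ▸ Algebra.mem_top
    induction hs using Algebra.adjoin_induction with
    | mem x hx =>
      obtain ⟨⟨a, ha⟩, ⟨b, hb⟩⟩ := hx
      by_cases h0 : algebraMap S q.ResidueField x = 0
      · rw [h0]; exact zero_mem _
      · have h2 : (algebraMap S q.ResidueField x) ^ 2 ∈ φ.fieldRange := by
          rw [← map_pow, ← ha]; exact hR a
        have h3 : (algebraMap S q.ResidueField x) ^ 3 ∈ φ.fieldRange := by
          rw [← map_pow, ← hb]; exact hR b
        have : algebraMap S q.ResidueField x =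
            (algebraMap S q.ResidueField x) ^ 3 / (algebraMap S q.ResidueField x) ^ 2 := by
          field_simp
        rw [this]
        exact div_mem h3 h2
    | algebraMap r => exact hR r
    | add x y _ _ hx hy => rw [map_add]; exact add_mem hx hy
    | mul x y _ _ hx hy => rw [map_mul]; exact mul_mem hx hy
  intro y
  obtain ⟨a, b, -, rfl⟩ := IsFractionRing.div_surjective (A := S ⧸ q) y
  obtain ⟨a, rfl⟩ := Ideal.Quotient.mk_surjective a
  obtain ⟨b, rfl⟩ := Ideal.Quotient.mk_surjective b
  rw [Ideal.algebraMap_quotient_residueField_mk, Ideal.algebraMap_quotient_residueField_mk]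
  exact RingHom.mem_fieldRange.mp (div_mem (hS a) (hS b))

theorem comap_injective {R S : Type u} [CommRing R] [CommRing S] [Algebra R S]
    (hgen : Algebra.adjoin R {x : S | x ^ 2 ∈ Set.range (algebraMap R S) ∧
      x ^ 3 ∈ Set.range (algebraMap R S)} = ⊤)
    (p : Ideal R) [p.IsPrime] (q₁ q₂ : Ideal S) [q₁.IsPrime] [q₂.IsPrime]
    (h₁ : p = q₁.comap (algebraMap R S)) (h₂ : p = q₂.comap (algebraMap R S)) : q₁ = q₂ := by
  let e₁ := RingEquiv.ofBijective _ (residue_bijective hgen p q₁ h₁)
  let e₂ := RingEquiv.ofBijective _ (residue_bijective hgen p q₂ h₂)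
  let θ₁ : S →ₐ[R] p.ResidueField :=
    { toRingHom := (e₁.symm : q₁.ResidueField →+* p.ResidueField).comp
        (algebraMap S q₁.ResidueField)
      commutes' := fun r => by
        change e₁.symm (algebraMap S q₁.ResidueField (algebraMap R S r)) = _
        rw [RingEquiv.symm_apply_eq]
        exact (Ideal.ResidueField.map_algebraMap p q₁ (algebraMap R S) h₁ r).symm }
  let θ₂ : S →ₐ[R] p.ResidueField :=
    { toRingHom := (e₂.symm : q₂.ResidueField →+* p.ResidueField).comp
        (algebraMap S q₂.ResidueField)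
      commutes' := fun r => by
        change e₂.symm (algebraMap S q₂.ResidueField (algebraMap R S r)) = _
        rw [RingEquiv.symm_apply_eq]
        exact (Ideal.ResidueField.map_algebraMap p q₂ (algebraMap R S) h₂ r).symm }
  have hθ : θ₁ = θ₂ := algHom_eq_of_gen hgen θ₁ θ₂
  have hk₁ : ∀ s : S, θ₁ s = 0 ↔ s ∈ q₁ := by
    intro s
    change e₁.symm (algebraMap S q₁.ResidueField s) = 0 ↔ _
    rw [map_eq_zero_iff _ e₁.symm.injective, Ideal.algebraMap_residueField_eq_zero]
  have hk₂ : ∀ s : S, θ₂ s = 0 ↔ s ∈ q₂ := by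
    intro s
    change e₂.symm (algebraMap S q₂.ResidueField s) = 0 ↔ _
    rw [map_eq_zero_iff _ e₂.symm.injective, Ideal.algebraMap_residueField_eq_zero]
  ext s
  rw [← hk₁, ← hk₂, hθ]

/-- Let R → S be a ring map with locally nilpotent kernel such that S is generated over R by elements x
with x² and x³ in the image of R. Then the induced map on spectra is a homeomorphism and every
residue field map κ(p) → κ(q), for q a prime of S with inverse image p, is bijective. -/
theorem result {R S : Type u} [CommRing R] [CommRing S] [Algebra R S]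
    (hgen : Algebra.adjoin R {x : S | x ^ 2 ∈ Set.range (algebraMap R S) ∧ x ^ 3 ∈ Set.range (algebraMap R S)} = ⊤)
    (hker : ∀ r : R, algebraMap R S r = 0 → IsNilpotent r) :
    IsHomeomorph (PrimeSpectrum.comap (algebraMap R S)) ∧
      ∀ (q : Ideal S) [q.IsPrime], Function.Bijective (Ideal.ResidueField.map (q.comap (algebraMap R S)) q (algebraMap R S) rfl) := by
  have hint : Algebra.IsIntegral R S := isIntegral_of_gen hgen
  refine ⟨?_, fun q _ => residue_bijective hgen _ q rfl⟩
  rw [isHomeomorph_iff_continuous_isClosedMap_bijective]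
  refine ⟨PrimeSpectrum.continuous_comap _, ?_, ?_, ?_⟩
  · exact PrimeSpectrum.isClosedMap_comap_of_isIntegral _ (algebraMap_isIntegral_iff.mpr hint)
  · intro q₁ q₂ h
    have h' : q₁.asIdeal.comap (algebraMap R S) = q₂.asIdeal.comap (algebraMap R S) :=
      congrArg PrimeSpectrum.asIdeal h
    exact PrimeSpectrum.ext (comap_injective hgen (q₁.asIdeal.comap (algebraMap R S))
      q₁.asIdeal q₂.asIdeal rfl h')
  · intro p
    have hle : (⊥ : Ideal S).comap (algebraMap R S) ≤ p.asIdeal := by
      intro r hr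
      have hr0 : algebraMap R S r = 0 := by simpa using hr
      obtain ⟨n, hn⟩ := hker r hr0
      exact p.2.mem_of_pow_mem n (hn ▸ p.asIdeal.zero_mem)
    obtain ⟨Q, -, hQ, hQp⟩ := Ideal.exists_ideal_over_prime_of_isIntegral p.asIdeal ⊥ hle
    exact ⟨⟨Q, hQ⟩, PrimeSpectrum.ext hQp⟩

end Groth.Agent.S9606
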