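import Groth.Statements.S9607
import Mathlib
-- import your own Groth.Agent.* helpers here

set_option autoImplicit false
universe u
open CAlg

namespace Groth.Agent.S9607

/-- For a prime number p and integers n, m > 0 there exists an integer a such that (x + y)^(p^a) and p^a
(x + y) both belong to the subring ℤ[x^(p^n), p^n x, y^(p^m), p^m y] of the polynomial ring ℤ[x, y]. -/
theorem result (p : ℕ) (hp : p.Prime) (n m : ℕ) (hn : 0 < n) (hm : 0 < m) :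
    ∃ a : ℕ, ((MvPolynomial.X 0 + MvPolynomial.X 1 : MvPolynomial (Fin 2) ℤ) ^ (p ^ a) ∈ Algebra.adjoin ℤ ({MvPolynomial.X 0 ^ (p ^ n), (p : MvPolynomial (Fin 2) ℤ) ^ n * MvPolynomial.X 0, MvPolynomial.X 1 ^ (p ^ m), (p : MvPolynomial (Fin 2) ℤ) ^ m * MvPolynomial.X 1} : Set (MvPolynomial (Fin 2) ℤ)) ∧
      (p : MvPolynomial (Fin 2) ℤ) ^ a * (MvPolynomial.X 0 + MvPolynomial.X 1) ∈ Algebra.adjoin ℤ ({MvPolynomial.X 0 ^ (p ^ n), (p : MvPolynomial (Fin 2) ℤ) ^ n * MvPolynomial.X 0, MvPolynomial.X 1 ^ (p ^ m), (p : MvPolynomial (Fin 2) ℤ) ^ m * MvPolynomial.X 1} : Set (MvPolynomial (Fin 2) ℤ))) := by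
  classical
  set x : MvPolynomial (Fin 2) ℤ := MvPolynomial.X 0 with hx
  set y : MvPolynomial (Fin 2) ℤ := MvPolynomial.X 1 with hy
  set A : Subalgebra ℤ (MvPolynomial (Fin 2) ℤ) := Algebra.adjoin ℤ
    ({x ^ (p ^ n), (p : MvPolynomial (Fin 2) ℤ) ^ n * x, y ^ (p ^ m),
      (p : MvPolynomial (Fin 2) ℤ) ^ m * y} : Set (MvPolynomial (Fin 2) ℤ)) with hA
  have hx1 : x ^ (p ^ n) ∈ A := Algebra.subset_adjoin (by simp)
  have hx2 : (p : MvPolynomial (Fin 2) ℤ) ^ n * x ∈ A := Algebra.subset_adjoin (by simp)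
  have hy1 : y ^ (p ^ m) ∈ A := Algebra.subset_adjoin (by simp)
  have hy2 : (p : MvPolynomial (Fin 2) ℤ) ^ m * y ∈ A := Algebra.subset_adjoin (by simp)
  have hpA : ∀ k : ℕ, (p : MvPolynomial (Fin 2) ℤ) ^ k ∈ A := fun k => by
    have : ((p : MvPolynomial (Fin 2) ℤ) ^ k) = algebraMap ℤ (MvPolynomial (Fin 2) ℤ) ((p : ℤ) ^ k) := by
      simp
    rw [this]; exact A.algebraMap_mem _
  have hgen : ∀ (z : MvPolynomial (Fin 2) ℤ) (n : ℕ), z ^ (p ^ n) ∈ A →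
      (p : MvPolynomial (Fin 2) ℤ) ^ n * z ∈ A →
      ∀ i, (p : MvPolynomial (Fin 2) ℤ) ^ (n * p ^ n) * z ^ i ∈ A := by
    intro z n h1 h2 i
    have hpos : 0 < p ^ n := pow_pos hp.pos n
    have hr : i % p ^ n < p ^ n := Nat.mod_lt _ hpos
    have hi : z ^ i = (z ^ (p ^ n)) ^ (i / p ^ n) * z ^ (i % p ^ n) := by
      rw [← pow_mul, ← pow_add, Nat.div_add_mod]
    have hsplit : (p : MvPolynomial (Fin 2) ℤ) ^ (n * p ^ n) =
        (p : MvPolynomial (Fin 2) ℤ) ^ (n * (p ^ n - i % p ^ n)) *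
          ((p : MvPolynomial (Fin 2) ℤ) ^ n) ^ (i % p ^ n) := by
      rw [← pow_mul, ← pow_add, ← Nat.mul_add, Nat.sub_add_cancel hr.le]
    rw [hi, hsplit]
    have h3 : (p : MvPolynomial (Fin 2) ℤ) ^ (n * (p ^ n - i % p ^ n)) *
          ((p : MvPolynomial (Fin 2) ℤ) ^ n) ^ (i % p ^ n) *
          ((z ^ (p ^ n)) ^ (i / p ^ n) * z ^ (i % p ^ n)) =
        (p : MvPolynomial (Fin 2) ℤ) ^ (n * (p ^ n - i % p ^ n)) * (z ^ (p ^ n)) ^ (i / p ^ n) *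
          ((p : MvPolynomial (Fin 2) ℤ) ^ n * z) ^ (i % p ^ n) := by
      rw [mul_pow]; ring
    rw [h3]
    exact A.mul_mem (A.mul_mem (hpA _) (A.pow_mem h1 _)) (A.pow_mem h2 _)
  set N₀ := n * p ^ n + m * p ^ m with hN₀
  have hmon : ∀ i j : ℕ, (p : MvPolynomial (Fin 2) ℤ) ^ N₀ * (x ^ i * y ^ j) ∈ A := by
    intro i j
    have h3 : (p : MvPolynomial (Fin 2) ℤ) ^ N₀ * (x ^ i * y ^ j) =
        ((p : MvPolynomial (Fin 2) ℤ) ^ (n * p ^ n) * x ^ i) *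
          ((p : MvPolynomial (Fin 2) ℤ) ^ (m * p ^ m) * y ^ j) := by
      rw [hN₀, pow_add]; ring
    rw [h3]
    exact A.mul_mem (hgen x n hx1 hx2 i) (hgen y m hy1 hy2 j)
  have hall : ∀ b : MvPolynomial (Fin 2) ℤ, (p : MvPolynomial (Fin 2) ℤ) ^ N₀ * b ∈ A := by
    intro b
    have hb := b.as_sum
    rw [hb, Finset.mul_sum]
    refine A.sum_mem fun s _ => ?_
    rw [MvPolynomial.monomial_eq, Finsupp.prod_fintype _ _ (fun i => pow_zero _), Fin.prod_univ_two]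
    have h3 : (p : MvPolynomial (Fin 2) ℤ) ^ N₀ * (MvPolynomial.C (b.coeff s) *
        (MvPolynomial.X 0 ^ s 0 * MvPolynomial.X 1 ^ s 1)) =
        MvPolynomial.C (b.coeff s) * ((p : MvPolynomial (Fin 2) ℤ) ^ N₀ * (x ^ s 0 * y ^ s 1)) := by
      ring
    rw [h3]
    exact A.mul_mem (A.algebraMap_mem _) (hmon _ _)
  set e := max n m with he
  have hv0 : x ^ (p ^ e) + y ^ (p ^ e) ∈ A := by
    have h1 : x ^ (p ^ e) = (x ^ (p ^ n)) ^ (p ^ (e - n)) := by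
      rw [← pow_mul, ← pow_add, Nat.add_sub_cancel' (le_max_left n m)]
    have h2 : y ^ (p ^ e) = (y ^ (p ^ m)) ^ (p ^ (e - m)) := by
      rw [← pow_mul, ← pow_add, Nat.add_sub_cancel' (le_max_right n m)]
    rw [h1, h2]; exact A.add_mem (A.pow_mem hx1 _) (A.pow_mem hy1 _)
  have hdvd : (p : MvPolynomial (Fin 2) ℤ) ∣ (x + y) ^ (p ^ e) - (x ^ (p ^ e) + y ^ (p ^ e)) := by
    obtain ⟨r, hr⟩ := exists_add_pow_prime_pow_eq hp x y e
    rw [hr]; exact ⟨x * y * r, by ring⟩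
  obtain ⟨c, hc⟩ := dvd_sub_pow_of_dvd_sub hdvd N₀
  refine ⟨e + N₀, ?_, ?_⟩
  · have h3 : (x + y) ^ (p ^ (e + N₀)) = (x ^ (p ^ e) + y ^ (p ^ e)) ^ (p ^ N₀) +
        (p : MvPolynomial (Fin 2) ℤ) ^ N₀ * (p * c) := by
      rw [pow_add, pow_mul, eq_add_of_sub_eq' hc, pow_succ]; ring
    rw [h3]
    exact A.add_mem (A.pow_mem hv0 _) (hall _)
  · have hne : n ≤ e + N₀ := (le_max_left n m).trans (Nat.le_add_right _ _)
    have hme : m ≤ e + N₀ := (le_max_right n m).trans (Nat.le_add_right _ _)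
    have h3 : (p : MvPolynomial (Fin 2) ℤ) ^ (e + N₀) * (x + y) =
        (p : MvPolynomial (Fin 2) ℤ) ^ (e + N₀ - n) * ((p : MvPolynomial (Fin 2) ℤ) ^ n * x) +
        (p : MvPolynomial (Fin 2) ℤ) ^ (e + N₀ - m) * ((p : MvPolynomial (Fin 2) ℤ) ^ m * y) := by
      rw [← mul_assoc, ← mul_assoc, ← pow_add, ← pow_add, Nat.sub_add_cancel hne,
        Nat.sub_add_cancel hme]; ring
    rw [h3]
    exact A.add_mem (A.mul_mem (hpA _) hx2) (A.mul_mem (hpA _) hy2)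

end Groth.Agent.S9607
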