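import Groth.Statements.S9608
import Mathlib
-- import your own Groth.Agent.* helpers here

set_option autoImplicit false
universe u
open CAlg

namespace Groth.Agent.S9608

/-- Let k'/k be a field extension and p a prime number. Then k' is generated over k by elements x for
which some n > 0 has x^(p^n) ∈ k and p^n x ∈ k, if and only if either k' = k, or k has
characteristic p and k'/k is purely inseparable. -/
theorem result {k k' : Type u} [Field k] [Field k'] [Algebra k k'] (p : ℕ) (hp : p.Prime) :
    IntermediateField.adjoin k {x : k' | ∃ n : ℕ, 0 < n ∧ x ^ (p ^ n) ∈ Set.range (algebraMap k k') ∧ (p : k') ^ n * x ∈ Set.range (algebraMap k k')} = ⊤ ↔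
      (Function.Surjective (algebraMap k k') ∨ (CharP k p ∧ IsPurelyInseparable k k')) := by
  classical
  constructor
  · intro h
    by_cases hpk : (p : k) = 0
    · right
      haveI : CharP k p := (CharP.charP_iff_prime_eq_zero hp).mpr hpk
      haveI : ExpChar k p := ExpChar.prime hp
      refine ⟨inferInstance, ?_⟩
      have h1 : IsPurelyInseparable k (IntermediateField.adjoin k {x : k' | ∃ n : ℕ, 0 < n ∧
          x ^ (p ^ n) ∈ Set.range (algebraMap k k') ∧
          (p : k') ^ n * x ∈ Set.range (algebraMap k k')}) := by
        rw [IntermediateField.isPurelyInseparable_adjoin_iff_pow_mem k k' p]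
        rintro x ⟨n, _, hx, _⟩
        exact ⟨n, hx⟩
      rw [h] at h1
      exact (IntermediateField.topEquiv (F := k) (E := k')).isPurelyInseparable
    · left
      have hle : IntermediateField.adjoin k {x : k' | ∃ n : ℕ, 0 < n ∧
          x ^ (p ^ n) ∈ Set.range (algebraMap k k') ∧
          (p : k') ^ n * x ∈ Set.range (algebraMap k k')} ≤ ⊥ := by
        rw [IntermediateField.adjoin_le_iff]
        rintro x ⟨n, _, _, ⟨c, hc⟩⟩
        rw [SetLike.mem_coe, IntermediateField.mem_bot]
        refine ⟨((p : k) ^ n)⁻¹ * c, ?_⟩
        rw [map_mul, hc, map_inv₀, map_pow, map_natCast, ← mul_assoc, inv_mul_cancel₀, one_mul]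
        have : (p : k') = algebraMap k k' (p : k) := (map_natCast _ _).symm
        rw [this, ← map_pow]
        exact (map_ne_zero _).mpr (pow_ne_zero _ hpk)
      rw [h] at hle
      intro x
      have hx : x ∈ (⊥ : IntermediateField k k') := hle IntermediateField.mem_top
      exact IntermediateField.mem_bot.mp hx
  · rintro (h | ⟨hc, hpi⟩)
    · rw [eq_top_iff]
      intro x _
      obtain ⟨c, rfl⟩ := h x
      exact IntermediateField.algebraMap_mem _ c
    · haveI : ExpChar k p := ExpChar.prime hp
      rw [eq_top_iff]
      intro x _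
      apply IntermediateField.subset_adjoin
      obtain ⟨n, hn⟩ := IsPurelyInseparable.pow_mem k p x
      refine ⟨n + 1, Nat.succ_pos n, ?_, ?_⟩
      · obtain ⟨c, hc⟩ := hn
        refine ⟨c ^ p, ?_⟩
        rw [map_pow, hc, ← pow_mul, ← pow_succ]
      · refine ⟨0, ?_⟩
        have : (p : k') = 0 := by
          have : (p : k') = algebraMap k k' (p : k) := (map_natCast _ _).symm
          rw [this, CharP.cast_eq_zero k p, map_zero]
        rw [this, zero_pow (Nat.succ_ne_zero n), zero_mul, map_zero]

end Groth.Agent.S9608
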