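import Groth.Statements.S9609
import Mathlib
-- import your own Groth.Agent.* helpers here

set_option autoImplicit false
universe u
open CAlg

namespace Groth.Agent.S9609

open TensorProduct

theorem ringExpChar_residue_eq {A B : Type*} [CommRing A] [CommRing B] (f : A →+* B)
    (Q : Ideal B) [Q.IsPrime] (P : Ideal A) [P.IsPrime] (h : P = Q.comap f) :
    ringExpChar P.ResidueField = ringExpChar Q.ResidueField := by
  haveI : ExpChar P.ResidueField (ringExpChar P.ResidueField) := ringExpChar.expChar _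
  haveI : ExpChar Q.ResidueField (ringExpChar P.ResidueField) :=
    expChar_of_injective_ringHom (f := Ideal.ResidueField.map P Q f h) (RingHom.injective _) _
  exact (ringExpChar.eq Q.ResidueField _).symm

theorem frob_mem {B : Type*} [CommRing B] (Q : Ideal B) [Q.IsPrime] (e : ℕ)
    [ExpChar Q.ResidueField e] (x y : B) (N : ℕ) :
    (x + y) ^ e ^ N - (x ^ e ^ N + y ^ e ^ N) ∈ Q := by
  rw [← Ideal.algebraMap_residueField_eq_zero (I := Q)]
  simp only [map_sub, map_pow, map_add, add_pow_expChar_pow, sub_self]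

theorem stepA {R S : Type u} [CommRing R] [CommRing S] [Algebra R S]
    (q : Ideal S) [q.IsPrime]
    (hpi : ∀ x : q.ResidueField,
      ∃ n : ℕ, x ^ (ringExpChar (q.comap (algebraMap R S)).ResidueField) ^ n ∈
        Set.range (Ideal.ResidueField.map (q.comap (algebraMap R S)) q (algebraMap R S) rfl))
    (s : S) : ∃ n : ℕ, ∃ a r : R, algebraMap R S a ∉ q ∧
      algebraMap R S a * s ^ (ringExpChar (q.comap (algebraMap R S)).ResidueField) ^ n -
        algebraMap R S r ∈ q := by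
  obtain ⟨n, y, hy⟩ := hpi (algebraMap S q.ResidueField s)
  obtain ⟨r', a', ha', rfl⟩ :=
    IsFractionRing.div_surjective (A := R ⧸ q.comap (algebraMap R S)) y
  obtain ⟨r, rfl⟩ := Ideal.Quotient.mk_surjective r'
  obtain ⟨a, rfl⟩ := Ideal.Quotient.mk_surjective a'
  have ha : algebraMap R S a ∉ q := by
    intro h
    have h0 : (Ideal.Quotient.mk (q.comap (algebraMap R S)) a) = 0 :=
      Ideal.Quotient.eq_zero_iff_mem.mpr h
    exact nonZeroDivisors.ne_zero ha' h0
  refine ⟨n, a, r, ha, ?_⟩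
  have hne : algebraMap S q.ResidueField (algebraMap R S a) ≠ 0 := by
    rwa [Ne, Ideal.algebraMap_residueField_eq_zero]
  rw [← Ideal.algebraMap_residueField_eq_zero (I := q), map_sub, map_mul, map_pow, ← hy, map_div₀,
    Ideal.algebraMap_quotient_residueField_mk, Ideal.algebraMap_quotient_residueField_mk,
    Ideal.ResidueField.map_algebraMap, Ideal.ResidueField.map_algebraMap,
    mul_div_assoc', mul_div_cancel_left₀ _ hne, sub_self]

theorem cert {R S R' : Type u} [CommRing R] [CommRing S] [CommRing R'] [Algebra R S]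
    [Algebra R R'] (I : Ideal (R' ⊗[R] S)) (p' : Ideal R') [p'.IsPrime] (q : Ideal S) (e : ℕ)
    (hq : ∀ s : S, ∃ n : ℕ, ∃ a r : R, algebraMap R R' a ∉ p' ∧
      algebraMap R S a * s ^ e ^ n - algebraMap R S r ∈ q)
    (hI : ∀ s ∈ q, (1 : R') ⊗ₜ[R] s ∈ I)
    (hfrob : ∀ (x y : R' ⊗[R] S) (N : ℕ), (x + y) ^ e ^ N - (x ^ e ^ N + y ^ e ^ N) ∈ I)
    (t : R' ⊗[R] S) :
    ∃ n : ℕ, ∃ a' r' : R', a' ∉ p' ∧
      algebraMap R' (R' ⊗[R] S) a' * t ^ e ^ n - algebraMap R' (R' ⊗[R] S) r' ∈ I := by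
  have hmove : ∀ (a : R) (B : R') (x : S),
      (algebraMap R R' a * B) ⊗ₜ[R] x = B ⊗ₜ[R] (algebraMap R S a * x) := by
    intro a B x
    rw [← Algebra.smul_def, ← Algebra.smul_def, TensorProduct.smul_tmul]
  induction t using TensorProduct.induction_on with
  | zero =>
    refine ⟨0, 1, 0, (Ideal.ne_top_iff_one p').mp (Ideal.IsPrime.ne_top ‹_›), ?_⟩
    simp
  | tmul b s =>
    obtain ⟨n, a, r, ha, hs⟩ := hq s
    refine ⟨n, algebraMap R R' a, b ^ e ^ n * algebraMap R R' r, ha, ?_⟩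
    have hmem := I.mul_mem_left ((b ^ e ^ n) ⊗ₜ[R] (1 : S)) (hI _ hs)
    have e1 : (algebraMap R R' a * b ^ e ^ n) ⊗ₜ[R] (s ^ e ^ n) =
        (b ^ e ^ n) ⊗ₜ[R] (algebraMap R S a * s ^ e ^ n) := hmove _ _ _
    have e2 : (b ^ e ^ n * algebraMap R R' r) ⊗ₜ[R] (1 : S) =
        (b ^ e ^ n) ⊗ₜ[R] (algebraMap R S r) := by
      rw [mul_comm, hmove, mul_one]
    have hE : algebraMap R' (R' ⊗[R] S) (algebraMap R R' a) * (b ⊗ₜ[R] s) ^ e ^ n -
        algebraMap R' (R' ⊗[R] S) (b ^ e ^ n * algebraMap R R' r) =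
        (b ^ e ^ n) ⊗ₜ[R] (1 : S) *
          (1 : R') ⊗ₜ[R] (algebraMap R S a * s ^ e ^ n - algebraMap R S r) := by
      show (algebraMap R R' a) ⊗ₜ[R] (1 : S) * (b ⊗ₜ[R] s) ^ e ^ n -
        (b ^ e ^ n * algebraMap R R' r) ⊗ₜ[R] (1 : S) = _
      simp only [Algebra.TensorProduct.tmul_pow, Algebra.TensorProduct.tmul_mul_tmul, one_mul,
        mul_one, TensorProduct.tmul_sub, mul_sub, e1, e2]
    rw [hE]
    exact hmem
  | add t₁ t₂ h₁ h₂ =>
    obtain ⟨n₁, a₁, r₁, ha₁, hE₁⟩ := h₁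
    obtain ⟨n₂, a₂, r₂, ha₂, hE₂⟩ := h₂
    refine ⟨n₁ + n₂, a₁ ^ e ^ n₂ * a₂ ^ e ^ n₁,
      a₂ ^ e ^ n₁ * r₁ ^ e ^ n₂ + a₁ ^ e ^ n₂ * r₂ ^ e ^ n₁, ?_, ?_⟩
    · intro hmem
      rcases Ideal.IsPrime.mem_or_mem ‹_› hmem with h | h
      · exact ha₁ (Ideal.IsPrime.mem_of_pow_mem ‹_› _ h)
      · exact ha₂ (Ideal.IsPrime.mem_of_pow_mem ‹_› _ h)
    · have hF := hfrob t₁ t₂ (n₁ + n₂)
      rw [← Ideal.Quotient.eq] at hE₁ hE₂ hF ⊢
      simp only [map_mul, map_pow, map_add] at hE₁ hE₂ hF ⊢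
      rw [hF, ← hE₁, ← hE₂, pow_add]
      generalize e ^ n₁ = u
      generalize e ^ n₂ = v
      ring

/-- `S → R' ⊗ S`. -/
noncomputable abbrev jS (R S R' : Type u) [CommRing R] [CommRing S] [CommRing R'] [Algebra R S]
    [Algebra R R'] : S →+* R' ⊗[R] S :=
  (Algebra.TensorProduct.includeRight : S →ₐ[R] R' ⊗[R] S).toRingHom

theorem key_mem {R S R' : Type u} [CommRing R] [CommRing S] [CommRing R'] [Algebra R S]
    [Algebra R R'] (Q : Ideal (R' ⊗[R] S)) (r : R) :
    jS R S R' (algebraMap R S r) ∈ Q ↔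
      algebraMap R' (R' ⊗[R] S) (algebraMap R R' r) ∈ Q := by
  have h0 : jS R S R' (algebraMap R S r) = algebraMap R' (R' ⊗[R] S) (algebraMap R R' r) :=
    (Algebra.TensorProduct.tmul_one_eq_one_tmul (A := R') (B := S) r).symm
  rw [h0]

theorem certI {R S R' : Type u} [CommRing R] [CommRing S] [CommRing R'] [Algebra R S]
    [Algebra R R']
    (hpi : ∀ (q : Ideal S) [q.IsPrime] (x : q.ResidueField), ∃ n : ℕ, x ^ (ringExpChar (q.comap (algebraMap R S)).ResidueField) ^ n ∈ Set.range (Ideal.ResidueField.map (q.comap (algebraMap R S)) q (algebraMap R S) rfl))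
    (Q₁ Q₂ : Ideal (R' ⊗[R] S)) [Q₁.IsPrime] [Q₂.IsPrime]
    (h1 : Q₁.comap (algebraMap R' (R' ⊗[R] S)) = Q₂.comap (algebraMap R' (R' ⊗[R] S)))
    (h2 : Q₁.comap (jS R S R') = Q₂.comap (jS R S R'))
    (t : R' ⊗[R] S) :
    ∃ n : ℕ, ∃ a' r' : R', a' ∉ Q₁.comap (algebraMap R' (R' ⊗[R] S)) ∧
      algebraMap R' (R' ⊗[R] S) a' *
        t ^ (ringExpChar (Q₁.comap (algebraMap R' (R' ⊗[R] S))).ResidueField) ^ n -
          algebraMap R' (R' ⊗[R] S) r' ∈ Q₁ ⊓ Q₂ := by
  have he : ringExpChar ((Q₁.comap (jS R S R')).comap (algebraMap R S)).ResidueField =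
      ringExpChar (Q₁.comap (algebraMap R' (R' ⊗[R] S))).ResidueField := by
    rw [ringExpChar_residue_eq (algebraMap R S) (Q₁.comap (jS R S R')) _ rfl,
      ringExpChar_residue_eq (jS R S R') Q₁ _ rfl,
      ← ringExpChar_residue_eq (algebraMap R' (R' ⊗[R] S)) Q₁ _ rfl]
  haveI : ExpChar Q₁.ResidueField
      (ringExpChar (Q₁.comap (algebraMap R' (R' ⊗[R] S))).ResidueField) := by
    rw [ringExpChar_residue_eq (algebraMap R' (R' ⊗[R] S)) Q₁ _ rfl]
    exact ringExpChar.expChar _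
  haveI : ExpChar Q₂.ResidueField
      (ringExpChar (Q₁.comap (algebraMap R' (R' ⊗[R] S))).ResidueField) := by
    rw [ringExpChar_residue_eq (algebraMap R' (R' ⊗[R] S)) Q₂ _ h1]
    exact ringExpChar.expChar _
  refine cert (Q₁ ⊓ Q₂) (Q₁.comap (algebraMap R' (R' ⊗[R] S))) (Q₁.comap (jS R S R'))
    (ringExpChar (Q₁.comap (algebraMap R' (R' ⊗[R] S))).ResidueField) ?_ ?_ ?_ t
  · intro s
    obtain ⟨n, a, r, ha, hs⟩ := stepA (Q₁.comap (jS R S R')) (hpi (Q₁.comap (jS R S R'))) s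
    rw [he] at hs
    refine ⟨n, a, r, ?_, hs⟩
    intro hmem
    apply ha
    rw [Ideal.mem_comap, key_mem]
    exact hmem
  · intro s hs
    refine ⟨hs, ?_⟩
    have hs' : s ∈ Q₂.comap (jS R S R') := h2 ▸ hs
    exact hs'
  · intro x y N
    exact ⟨frob_mem Q₁ _ x y N, frob_mem Q₂ _ x y N⟩

open TensorProduct in
/-- Let R → S be a ring map which is injective on spectra and whose residue field extensions κ(p) → κ(q)
(q a prime of S with inverse image p) are purely inseparable: every element of κ(q) has a power with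
exponent a power of the characteristic exponent lying in the image of κ(p). Then, given an arbitrary
R-algebra R', the induced map R' → R' ⊗_R S is likewise injective on spectra and has purely
inseparable residue field extensions. -/
theorem result {R S R' : Type u} [CommRing R] [CommRing S] [CommRing R'] [Algebra R S] [Algebra R R']
    (hinj : Function.Injective (PrimeSpectrum.comap (algebraMap R S)))
    (hpi : ∀ (q : Ideal S) [q.IsPrime] (x : q.ResidueField), ∃ n : ℕ, x ^ (ringExpChar (q.comap (algebraMap R S)).ResidueField) ^ n ∈ Set.range (Ideal.ResidueField.map (q.comap (algebraMap R S)) q (algebraMap R S) rfl)) :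
    Function.Injective (PrimeSpectrum.comap (algebraMap R' (R' ⊗[R] S))) ∧
      ∀ (q' : Ideal (R' ⊗[R] S)) [q'.IsPrime] (x : q'.ResidueField), ∃ n : ℕ, x ^ (ringExpChar (q'.comap (algebraMap R' (R' ⊗[R] S))).ResidueField) ^ n ∈ Set.range (Ideal.ResidueField.map (q'.comap (algebraMap R' (R' ⊗[R] S))) q' (algebraMap R' (R' ⊗[R] S)) rfl) := by
  have hle : ∀ (Q₁ Q₂ : Ideal (R' ⊗[R] S)) [Q₁.IsPrime] [Q₂.IsPrime],
      Q₁.comap (algebraMap R' (R' ⊗[R] S)) = Q₂.comap (algebraMap R' (R' ⊗[R] S)) →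
      Q₁.comap (jS R S R') = Q₂.comap (jS R S R') → Q₁ ≤ Q₂ := by
    intro Q₁ Q₂ _ _ h1 h2 t ht
    obtain ⟨n, a', r', ha', hE⟩ := certI hpi Q₁ Q₂ h1 h2 t
    have hpos : 0 < (ringExpChar (Q₁.comap (algebraMap R' (R' ⊗[R] S))).ResidueField) ^ n :=
      pow_pos (lt_of_lt_of_le Nat.one_pos (le_max_right _ _)) n
    have h3 : algebraMap R' (R' ⊗[R] S) a' *
        t ^ (ringExpChar (Q₁.comap (algebraMap R' (R' ⊗[R] S))).ResidueField) ^ n ∈ Q₁ :=
      Q₁.mul_mem_left _ (Ideal.pow_mem_of_mem _ ht _ hpos)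
    have h4 : algebraMap R' (R' ⊗[R] S) r' ∈ Q₁ := by
      have h := Q₁.sub_mem h3 hE.1
      rwa [sub_sub_cancel] at h
    have h5 : algebraMap R' (R' ⊗[R] S) r' ∈ Q₂ := by
      have h : r' ∈ Q₁.comap (algebraMap R' (R' ⊗[R] S)) := h4
      rw [h1] at h
      exact h
    have h6 : algebraMap R' (R' ⊗[R] S) a' *
        t ^ (ringExpChar (Q₁.comap (algebraMap R' (R' ⊗[R] S))).ResidueField) ^ n ∈ Q₂ := by
      have h := Q₂.add_mem hE.2 h5
      rwa [sub_add_cancel] at h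
    rcases Ideal.IsPrime.mem_or_mem ‹Q₂.IsPrime› h6 with h | h
    · exfalso
      apply ha'
      rw [h1]
      exact h
    · exact Ideal.IsPrime.mem_of_pow_mem ‹Q₂.IsPrime› _ h
  refine ⟨?_, ?_⟩
  · intro x₁ x₂ hx
    have h1 : x₁.asIdeal.comap (algebraMap R' (R' ⊗[R] S)) =
        x₂.asIdeal.comap (algebraMap R' (R' ⊗[R] S)) := congrArg PrimeSpectrum.asIdeal hx
    have h2' : PrimeSpectrum.comap (jS R S R') x₁ = PrimeSpectrum.comap (jS R S R') x₂ := by
      apply hinj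
      ext r
      simp only [PrimeSpectrum.comap_asIdeal, Ideal.mem_comap]
      rw [key_mem, key_mem]
      show algebraMap R R' r ∈ x₁.asIdeal.comap (algebraMap R' (R' ⊗[R] S)) ↔ _
      rw [h1]
      rfl
    have h2 : x₁.asIdeal.comap (jS R S R') = x₂.asIdeal.comap (jS R S R') :=
      congrArg PrimeSpectrum.asIdeal h2'
    exact PrimeSpectrum.ext (le_antisymm (hle _ _ h1 h2) (hle _ _ h1.symm h2.symm))
  · intro q' _ x
    obtain ⟨t', u', hu', rfl⟩ := IsFractionRing.div_surjective (A := (R' ⊗[R] S) ⧸ q') x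
    obtain ⟨t, rfl⟩ := Ideal.Quotient.mk_surjective t'
    obtain ⟨u, rfl⟩ := Ideal.Quotient.mk_surjective u'
    rw [Ideal.algebraMap_quotient_residueField_mk, Ideal.algebraMap_quotient_residueField_mk]
    obtain ⟨n₁, a₁, r₁, ha₁, hE₁⟩ := certI hpi q' q' rfl rfl t
    obtain ⟨n₂, a₂, r₂, ha₂, hE₂⟩ := certI hpi q' q' rfl rfl u
    have hval : ∀ (w : R' ⊗[R] S) (n : ℕ) (a r : R'),
        a ∉ q'.comap (algebraMap R' (R' ⊗[R] S)) →
        algebraMap R' (R' ⊗[R] S) a *
          w ^ (ringExpChar (q'.comap (algebraMap R' (R' ⊗[R] S))).ResidueField) ^ n -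
            algebraMap R' (R' ⊗[R] S) r ∈ q' →
        algebraMap (R' ⊗[R] S) q'.ResidueField w ^
            (ringExpChar (q'.comap (algebraMap R' (R' ⊗[R] S))).ResidueField) ^ n =
          Ideal.ResidueField.map (q'.comap (algebraMap R' (R' ⊗[R] S))) q'
            (algebraMap R' (R' ⊗[R] S)) rfl
            (algebraMap R' (q'.comap (algebraMap R' (R' ⊗[R] S))).ResidueField r /
              algebraMap R' (q'.comap (algebraMap R' (R' ⊗[R] S))).ResidueField a) := by
      intro w n a r ha hE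
      rw [← Ideal.algebraMap_residueField_eq_zero (I := q'), map_sub, map_mul, map_pow,
        sub_eq_zero] at hE
      have hne : algebraMap (R' ⊗[R] S) q'.ResidueField (algebraMap R' (R' ⊗[R] S) a) ≠ 0 := by
        rwa [Ne, Ideal.algebraMap_residueField_eq_zero]
      rw [map_div₀, Ideal.ResidueField.map_algebraMap, Ideal.ResidueField.map_algebraMap,
        eq_div_iff hne, mul_comm]
      exact hE
    have h1 := hval t n₁ a₁ r₁ ha₁ hE₁.1
    have h2 := hval u n₂ a₂ r₂ ha₂ hE₂.1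
    refine ⟨n₁ + n₂, (algebraMap R' (q'.comap (algebraMap R' (R' ⊗[R] S))).ResidueField r₁ /
        algebraMap R' (q'.comap (algebraMap R' (R' ⊗[R] S))).ResidueField a₁) ^
          (ringExpChar (q'.comap (algebraMap R' (R' ⊗[R] S))).ResidueField) ^ n₂ /
      (algebraMap R' (q'.comap (algebraMap R' (R' ⊗[R] S))).ResidueField r₂ /
        algebraMap R' (q'.comap (algebraMap R' (R' ⊗[R] S))).ResidueField a₂) ^
          (ringExpChar (q'.comap (algebraMap R' (R' ⊗[R] S))).ResidueField) ^ n₁, ?_⟩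
    rw [map_div₀, map_pow, map_pow, ← h1, ← h2, div_pow, pow_add, ← pow_mul, ← pow_mul,
      mul_comm ((ringExpChar (q'.comap (algebraMap R' (R' ⊗[R] S))).ResidueField) ^ n₂)]

end Groth.Agent.S9609
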