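import Groth.Statements.S9610
-- import your own Groth.Agent.* helpers here

set_option autoImplicit false
universe u
open CAlg

namespace Groth.Agent.S9610

/-- Let k be a field and V a nonzero k-vector space with dim_k V < #k as cardinals. Then every k-linear
endomorphism T of V admits a monic polynomial P over k for which P(T) is not invertible. -/
theorem result {k V : Type u} [Field k] [AddCommGroup V] [Module k V] [Nontrivial V] (hV : Module.rank k V < Cardinal.mk k) (T : Module.End k V) :
    ∃ P : Polynomial k, P.Monic ∧ ¬ IsUnit (Polynomial.aeval T P) := by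
  classical
  by_contra h
  push Not at h
  have hne : ∀ Q : Polynomial k, Q ≠ 0 → IsUnit (Polynomial.aeval T Q) := by
    intro Q hQ
    have hlc : Q.leadingCoeff ≠ 0 := Polynomial.leadingCoeff_ne_zero.mpr hQ
    have h1 : Q = Polynomial.C Q.leadingCoeff * (Polynomial.C Q.leadingCoeff⁻¹ * Q) := by
      rw [← mul_assoc, ← Polynomial.C_mul, mul_inv_cancel₀ hlc, Polynomial.C_1, one_mul]
    have hm : (Polynomial.C Q.leadingCoeff⁻¹ * Q).Monic :=
      Polynomial.monic_C_mul_of_mul_leadingCoeff_eq_one (inv_mul_cancel₀ hlc)
    rw [h1, map_mul]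
    refine IsUnit.mul ?_ (h _ hm)
    rw [Polynomial.aeval_C]
    exact (IsUnit.mk0 _ hlc).map (algebraMap k (Module.End k V))
  obtain ⟨v, hv⟩ := exists_ne (0 : V)
  let U : k → (Module.End k V)ˣ := fun a =>
    (hne (Polynomial.X - Polynomial.C a) (Polynomial.X_sub_C_ne_zero a)).unit
  have hU : ∀ a, ((U a : Module.End k V)) = Polynomial.aeval T (Polynomial.X - Polynomial.C a) :=
    fun a => IsUnit.unit_spec _
  let f : k → V := fun a => ((U a)⁻¹ : (Module.End k V)ˣ).val v
  have hf : ∀ a, Polynomial.aeval T (Polynomial.X - Polynomial.C a) (f a) = v := by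
    intro a
    rw [← hU a]
    change ((U a : Module.End k V) * ((U a)⁻¹ : (Module.End k V)ˣ).val) v = v
    rw [Units.mul_inv]; rfl
  have hli : LinearIndependent k f := by
    rw [linearIndependent_iff']
    intro s g hsum a ha
    set Q : Polynomial k :=
      ∑ a ∈ s, Polynomial.C (g a) * ∏ b ∈ s.erase a, (Polynomial.X - Polynomial.C b) with hQ
    have key : Polynomial.aeval T Q v = 0 := by
      have h2 : ∀ a ∈ s, Polynomial.aeval T (∏ b ∈ s.erase a, (Polynomial.X - Polynomial.C b)) v =
          Polynomial.aeval T (∏ b ∈ s, (Polynomial.X - Polynomial.C b)) (f a) := by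
        intro a ha
        rw [← Finset.mul_prod_erase s _ ha, mul_comm, map_mul, Module.End.mul_apply, hf]
      rw [hQ, map_sum, LinearMap.sum_apply]
      calc _ = ∑ a ∈ s, g a •
              Polynomial.aeval T (∏ b ∈ s, (Polynomial.X - Polynomial.C b)) (f a) := by
            refine Finset.sum_congr rfl fun a ha => ?_
            rw [map_mul, Polynomial.aeval_C, Module.End.mul_apply, h2 a ha,
              Module.algebraMap_end_apply]
        _ = Polynomial.aeval T (∏ b ∈ s, (Polynomial.X - Polynomial.C b)) (∑ a ∈ s, g a • f a) := by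
            rw [map_sum]; simp_rw [map_smul]
        _ = 0 := by rw [hsum, map_zero]
    have hQ0 : Q = 0 := by
      by_contra hQne
      have hu := hne Q hQne
      have hinj : Function.Injective (Polynomial.aeval T Q) :=
        ((Module.End.isUnit_iff _).mp hu).injective
      exact hv (hinj (by rw [key, map_zero]))
    have hev : Q.eval a = g a * ∏ b ∈ s.erase a, (a - b) := by
      rw [hQ, Polynomial.eval_finsetSum, Finset.sum_eq_single a]
      · simp [Polynomial.eval_prod]
      · intro c hc hca
        rw [Polynomial.eval_mul, Polynomial.eval_prod]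
        have hmem : a ∈ s.erase c := Finset.mem_erase.mpr ⟨fun h => hca h.symm, ha⟩
        rw [Finset.prod_eq_zero hmem (by simp), mul_zero]
      · intro h; exact absurd ha h
    rw [hQ0, Polynomial.eval_zero] at hev
    have hprod : ∏ b ∈ s.erase a, (a - b) ≠ 0 := by
      rw [Finset.prod_ne_zero_iff]
      intro b hb
      exact sub_ne_zero.mpr (Finset.ne_of_mem_erase hb).symm
    exact (mul_eq_zero.mp hev.symm).resolve_right hprod
  have hle := hli.cardinal_le_rank
  exact absurd hV (not_lt.mpr hle)

end Groth.Agent.S9610
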