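import Groth.Statements.S9611
import Mathlib.RingTheory.Spectrum.Prime.Jacobson

set_option autoImplicit false
universe u
open CAlg

namespace Groth.Agent.S9611

/-- Let R be a Jacobson ring, p a prime ideal of R which is not maximal, and f an element of R not in p.
Then the set of primes of R containing p and not containing f is infinite. -/
theorem result {R : Type u} [CommRing R] [IsJacobsonRing R] (p : Ideal R) [p.IsPrime] (hp : ¬ p.IsMaximal) (f : R) (hf : f ∉ p) :
    {q : PrimeSpectrum R | p ≤ q.asIdeal ∧ f ∉ q.asIdeal}.Infinite := by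
  intro hfin
  set Z : Set (PrimeSpectrum R) := {q : PrimeSpectrum R | p ≤ q.asIdeal ∧ f ∉ q.asIdeal} with hZ
  let P : PrimeSpectrum R := ⟨p, inferInstance⟩
  set W : Set (PrimeSpectrum R) := ⋃ q ∈ Z \ {P}, closure {q} with hW
  have hWclosed : IsClosed W :=
    Set.Finite.isClosed_biUnion (hfin.subset Set.diff_subset) (fun _ _ => isClosed_closure)
  have hPW : P ∉ W := by
    rw [hW]
    simp only [Set.mem_iUnion, not_exists]
    rintro q ⟨⟨hq1, _⟩, hq2⟩ hPq
    rw [PrimeSpectrum.closure_singleton, PrimeSpectrum.mem_zeroLocus, SetLike.coe_subset_coe] at hPq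
    apply hq2
    rw [Set.mem_singleton_iff]
    exact PrimeSpectrum.ext (le_antisymm hPq hq1)
  have hsing : ({P} : Set (PrimeSpectrum R)) =
      (PrimeSpectrum.zeroLocus (p : Set R) ∩ (PrimeSpectrum.basicOpen f : Set (PrimeSpectrum R))) ∩
        Wᶜ := by
    ext x
    constructor
    · intro hx
      rw [Set.mem_singleton_iff] at hx
      subst hx
      refine ⟨⟨?_, ?_⟩, hPW⟩
      · rw [PrimeSpectrum.mem_zeroLocus]
      · exact hf
    · rintro ⟨⟨hx1, hx2⟩, hx3⟩
      rw [Set.mem_singleton_iff]
      by_contra hne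
      apply hx3
      rw [hW]
      simp only [Set.mem_iUnion]
      rw [PrimeSpectrum.mem_zeroLocus, SetLike.coe_subset_coe] at hx1
      exact ⟨x, ⟨⟨hx1, hx2⟩, hne⟩, subset_closure (Set.mem_singleton x)⟩
  have hlc : IsLocallyClosed ({P} : Set (PrimeSpectrum R)) := by
    rw [hsing]
    exact ((PrimeSpectrum.isClosed_zeroLocus _).isLocallyClosed.inter
      (PrimeSpectrum.basicOpen f).isOpen.isLocallyClosed).inter
      hWclosed.isOpen_compl.isLocallyClosed
  have hcl : IsClosed ({P} : Set (PrimeSpectrum R)) :=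
    isClosed_singleton_of_isLocallyClosed_singleton hlc
  rw [PrimeSpectrum.isClosed_singleton_iff_isMaximal] at hcl
  exact hp hcl

end Groth.Agent.S9611
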