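import Groth.Statements.S9613
import Mathlib
-- import your own Groth.Agent.* helpers here

set_option autoImplicit false
universe u
open CAlg

namespace Groth.Agent.S9613

/-- Let R → K be an injective ring map into a field K which makes K an R-algebra of finite type. Then
for some nonzero f ∈ R the localization R_f is a field over which K is finite; here R_f is realised
as the R-subalgebra of K that is a localization of R away from f. -/
theorem result {R K : Type u} [CommRing R] [Field K] [Algebra R K] (hinj : Function.Injective (algebraMap R K)) [Algebra.FiniteType R K] :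
    ∃ f : R, f ≠ 0 ∧ ∃ Rf : Subalgebra R K, IsLocalization.Away f Rf ∧ IsField Rf ∧ Module.Finite Rf K := by
  classical
  haveI : IsDomain R := Function.Injective.isDomain (algebraMap R K) hinj
  haveI : FaithfulSMul R K := (faithfulSMul_iff_algebraMap_injective R K).mpr hinj
  haveI : Algebra.IsAlgebraic R K := by
    letI := FractionRing.liftAlgebra R K
    haveI := FractionRing.isScalarTower_liftAlgebra R K
    haveI : Algebra.FiniteType (FractionRing R) K :=
      Algebra.FiniteType.of_restrictScalars_finiteType R (FractionRing R) K
    haveI : Module.Finite (FractionRing R) K :=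
      finite_of_finite_type_of_isJacobsonRing (FractionRing R) K
    haveI : Algebra.IsAlgebraic (FractionRing R) K := Algebra.IsAlgebraic.of_finite _ _
    haveI : Algebra.IsAlgebraic R (FractionRing R) :=
      IsLocalization.isAlgebraic (FractionRing R) (nonZeroDivisors R)
    exact Algebra.IsAlgebraic.trans R (FractionRing R) K
  obtain ⟨s, hs⟩ := (Algebra.FiniteType.out : (⊤ : Subalgebra R K).FG)
  obtain ⟨y, hy0, hy⟩ := Algebra.IsAlgebraic.exists_integral_multiples R s
  refine ⟨y, hy0, ?_⟩
  have hyK : algebraMap R K y ≠ 0 := (map_ne_zero_iff _ hinj).mpr hy0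
  have hunit : ∀ z : Submonoid.powers y, IsUnit ((Algebra.ofId R K) z) := by
    rintro ⟨_, n, rfl⟩
    simp only [Algebra.ofId_apply, map_pow]
    exact (IsUnit.mk0 _ hyK).pow n
  let φ : Localization.Away y →ₐ[R] K := IsLocalization.liftAlgHom (M := Submonoid.powers y) hunit
  have hφ : Function.Injective φ := by
    rw [IsLocalization.coe_liftAlgHom, IsLocalization.lift_injective_iff]
    intro a b
    constructor
    · intro h
      have := (IsLocalization.injective (Localization.Away y)
        (powers_le_nonZeroDivisors_of_noZeroDivisors hy0)) h
      rw [this]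
    · intro h
      have : a = b := hinj h
      rw [this]
  let e : Localization.Away y ≃ₐ[R] φ.range := AlgEquiv.ofInjective φ hφ
  haveI hloc : IsLocalization.Away y φ.range :=
    IsLocalization.isLocalization_of_algEquiv (Submonoid.powers y) e
  -- the inverse of y lies in the range
  obtain ⟨w, hwmem, hw⟩ : ∃ w ∈ φ.range, w * algebraMap R K y = 1 := by
    refine ⟨φ (IsLocalization.mk' (Localization.Away y) 1 ⟨y, Submonoid.mem_powers y⟩),
      ⟨_, rfl⟩, ?_⟩
    have h1 : algebraMap R K y = φ (algebraMap R (Localization.Away y) y) := (φ.commutes y).symm
    rw [h1, ← map_mul]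
    have h2 := IsLocalization.mk'_spec (Localization.Away y) (1 : R) ⟨y, Submonoid.mem_powers y⟩
    simp only at h2
    rw [h2, map_one, map_one]
  haveI hint : Algebra.IsIntegral φ.range K := by
    refine ⟨fun z => ?_⟩
    have hz : z ∈ Algebra.adjoin R (s : Set K) := by rw [hs]; trivial
    have hle : Algebra.adjoin R (s : Set K) ≤ (integralClosure φ.range K).restrictScalars R := by
      apply Algebra.adjoin_le
      intro z hz
      rw [SetLike.mem_coe, Subalgebra.mem_restrictScalars, mem_integralClosure_iff]
      have h1 : IsIntegral φ.range (y • z) := (hy z hz).tower_top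
      have h2 : IsIntegral φ.range w := by
        have : w = algebraMap φ.range K ⟨w, hwmem⟩ := rfl
        rw [this]
        exact isIntegral_algebraMap
      have h3 : z = w * (y • z) := by
        rw [Algebra.smul_def, ← mul_assoc, hw, one_mul]
      rw [h3]
      exact h2.mul h1
    exact hle hz
  refine ⟨φ.range, hloc, ?_, ?_⟩
  · exact isField_of_isIntegral_of_isField (S := K) Subtype.val_injective (Field.toIsField K)
  · haveI : Algebra.FiniteType φ.range K :=
      Algebra.FiniteType.of_restrictScalars_finiteType R φ.range K
    exact Algebra.IsIntegral.finite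

end Groth.Agent.S9613
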