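import Groth.Statements.S9614
-- import your own Groth.Agent.* helpers here

set_option autoImplicit false
universe u
open CAlg

namespace Groth.Agent.S9614

/-- projection to the degree `d` component, as an additive map -/
noncomputable def pr {R M : Type*} [CommRing R] [AddCommGroup M] [Module R M]
    (ℳ : ℕ → Submodule R M) [DirectSum.Decomposition ℳ] (d : ℕ) : M →+ M :=
  (ℳ d).subtype.toAddMonoidHom.comp
    ((DFinsupp.evalAddMonoidHom d).comp (DirectSum.decomposeAddEquiv ℳ).toAddMonoidHom)

theorem pr_apply {R M : Type*} [CommRing R] [AddCommGroup M] [Module R M]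
    (ℳ : ℕ → Submodule R M) [DirectSum.Decomposition ℳ] (d : ℕ) (z : M) :
    pr ℳ d z = (DirectSum.decompose ℳ z d : M) := rfl

theorem pr_of_mem {R M : Type*} [CommRing R] [AddCommGroup M] [Module R M]
    (ℳ : ℕ → Submodule R M) [DirectSum.Decomposition ℳ] {z : M} {f : ℕ} (hz : z ∈ ℳ f) (d : ℕ) :
    pr ℳ d z = if f = d then z else 0 := by
  rw [pr_apply]
  split_ifs with h
  · subst h; rw [DirectSum.decompose_of_mem_same ℳ hz]
  · rw [DirectSum.decompose_of_mem_ne ℳ hz h]

/-- Let S be an ℕ-graded ring and M a finitely generated graded S-module, graded in nonnegative degrees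
(the source allows all integer degrees). If x_1, …, x_n are homogeneous elements of M which generate
M modulo S₊ M (S₊ the irrelevant ideal), then x_1, …, x_n generate M. -/
theorem result {R S : Type u} [CommRing R] [CommRing S] [Algebra R S] (𝒜 : ℕ → Submodule R S) [GradedAlgebra 𝒜]
    (M : Type u) [AddCommGroup M] [Module R M] [Module S M] [IsScalarTower R S M] [Module.Finite S M] (ℳ : ℕ → Submodule R M) [DirectSum.Decomposition ℳ] [SetLike.GradedSMul 𝒜 ℳ]
    {n : ℕ} (x : Fin n → M) (hx : ∀ i, SetLike.IsHomogeneousElem ℳ (x i))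
    (h : Submodule.span S (Set.range x) ⊔ (HomogeneousIdeal.irrelevant 𝒜).toIdeal • (⊤ : Submodule S M) = ⊤) :
    Submodule.span S (Set.range x) = ⊤ := by
  classical
  set N := Submodule.span S (Set.range x) with hN
  have smul_pr : ∀ (s : S) (n : M) (d : ℕ),
      (∀ e f, e + f = d →
        (DirectSum.decompose 𝒜 s e : S) • (DirectSum.decompose ℳ n f : M) ∈ N) →
      pr ℳ d (s • n) ∈ N := by
    intro s n d h
    have hsn : s • n = (∑ e ∈ (DirectSum.decompose 𝒜 s).support, (DirectSum.decompose 𝒜 s e : S)) •
        (∑ f ∈ (DirectSum.decompose ℳ n).support, (DirectSum.decompose ℳ n f : M)) := by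
      rw [DirectSum.sum_support_decompose 𝒜 s, DirectSum.sum_support_decompose ℳ n]
    rw [hsn, Finset.sum_smul, map_sum]
    refine Submodule.sum_mem _ fun e _ => ?_
    rw [Finset.smul_sum, map_sum]
    refine Submodule.sum_mem _ fun f _ => ?_
    rw [pr_of_mem ℳ (SetLike.GradedSMul.smul_mem (SetLike.coe_mem _) (SetLike.coe_mem _))]
    split_ifs with hef
    · exact h e f hef
    · exact N.zero_mem
  have hom : ∀ n ∈ N, ∀ g, pr ℳ g n ∈ N := by
    intro n hn
    induction hn using Submodule.span_induction with
    | mem y hy =>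
      obtain ⟨i, rfl⟩ := hy
      obtain ⟨k, hk⟩ := hx i
      intro g
      rw [pr_of_mem ℳ hk]
      split_ifs
      · exact Submodule.subset_span ⟨i, rfl⟩
      · exact N.zero_mem
    | zero => intro g; rw [map_zero]; exact N.zero_mem
    | add a b _ _ ha hb => intro g; rw [map_add]; exact N.add_mem (ha g) (hb g)
    | smul s n _ hn' =>
      intro g
      apply smul_pr
      intro e f _
      exact N.smul_mem _ (hn' f)
  have main : ∀ d, ∀ m ∈ ℳ d, m ∈ N := by
    intro d
    induction d using Nat.strong_induction_on with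
    | _ d IH =>
      intro m hm
      have hmem : m ∈ N ⊔ (HomogeneousIdeal.irrelevant 𝒜).toIdeal • (⊤ : Submodule S M) := by
        rw [h]; trivial
      obtain ⟨n, hn, w, hw, rfl⟩ := Submodule.mem_sup.mp hmem
      have hpr : pr ℳ d (n + w) = n + w := by rw [pr_of_mem ℳ hm, if_pos rfl]
      rw [← hpr, map_add]
      refine N.add_mem (hom n hn d) ?_
      refine Submodule.smul_induction_on (p := fun w => pr ℳ d w ∈ N) hw ?_ ?_
      · intro a ha m' _
        apply smul_pr
        intro e f hef
        rcases Nat.eq_zero_or_pos e with he | he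
        · subst he
          have h0 : (DirectSum.decompose 𝒜 a 0 : S) = 0 :=
            (HomogeneousIdeal.mem_irrelevant_iff _ _).mp ha
          rw [h0, zero_smul]; exact N.zero_mem
        · exact N.smul_mem _ (IH f (by omega) _ (SetLike.coe_mem _))
      · intro a b ha hb; rw [map_add]; exact N.add_mem ha hb
  rw [eq_top_iff]
  intro m _
  rw [← DirectSum.sum_support_decompose ℳ m]
  exact Submodule.sum_mem _ fun f _ => main f _ (SetLike.coe_mem _)

end Groth.Agent.S9614
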