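import Groth.Statements.S9615
import Mathlib
-- import your own Groth.Agent.* helpers here

set_option autoImplicit false
universe u
open CAlg

namespace Groth.Agent.S9615

open DirectSum Polynomial

attribute [local instance] Polynomial.algebra

/-- The ring hom `⨁ 𝒮ᵢ → S[X]`, `(sᵢ) ↦ ∑ sᵢ Xⁱ` attached to an ℕ-grading. -/
noncomputable def sigmaAux {S : Type*} [CommRing S] (𝒮 : ℕ → AddSubgroup S) [GradedRing 𝒮] :
    (⨁ i, 𝒮 i) →+* S[X] :=
  DirectSum.toSemiring
    (fun i => (Polynomial.monomial i : S →ₗ[S] S[X]).toAddMonoidHom.comp (𝒮 i).subtype)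
    (by simp) (by intro i j ai aj; simp [Polynomial.monomial_mul_monomial])

theorem coeff_sigmaAux {S : Type*} [CommRing S] (𝒮 : ℕ → AddSubgroup S) [GradedRing 𝒮]
    (x : ⨁ i, 𝒮 i) (j : ℕ) : (sigmaAux 𝒮 x).coeff j = ((x j : 𝒮 j) : S) := by
  refine DirectSum.induction_on x ?_ ?_ ?_
  · simp
  · intro i a
    unfold sigmaAux
    rw [DirectSum.toSemiring_of]
    by_cases h : j = i
    · subst h
      simp [DirectSum.of_eq_same]
    · rw [DirectSum.of_eq_of_ne _ _ _ h]
      simp [Polynomial.coeff_monomial, Ne.symm h]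
  · intro x y hx hy
    rw [map_add, Polynomial.coeff_add, hx, hy, DirectSum.add_apply]
    rfl

theorem decompose_algebraMap {R S : Type u} [CommRing R] [CommRing S] [Algebra R S]
    (ℛ : ℕ → AddSubgroup R) [GradedRing ℛ] (𝒮 : ℕ → AddSubgroup S) [GradedRing 𝒮]
    (hmap : ∀ i : ℕ, ∀ r ∈ ℛ i, algebraMap R S r ∈ 𝒮 i) (r : R) (j : ℕ) :
    ((DirectSum.decompose 𝒮 (algebraMap R S r) j : 𝒮 j) : S) =
      algebraMap R S ((DirectSum.decompose ℛ r j : ℛ j) : R) := by
  refine DirectSum.Decomposition.inductionOn ℛ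
    (motive := fun r => ((DirectSum.decompose 𝒮 (algebraMap R S r) j : 𝒮 j) : S) =
      algebraMap R S ((DirectSum.decompose ℛ r j : ℛ j) : R)) ?_ ?_ ?_ r
  · simp
  · intro i m
    by_cases h : i = j
    · subst h
      rw [DirectSum.decompose_coe, DirectSum.of_eq_same,
        DirectSum.decompose_of_mem_same 𝒮 (hmap i m m.2)]
    · rw [DirectSum.decompose_coe, DirectSum.of_eq_of_ne _ _ _ (Ne.symm h),
        DirectSum.decompose_of_mem_ne 𝒮 (hmap i m m.2) h]
      simp
  · intro m m' hm hm'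
    simp only [map_add, DirectSum.decompose_add, DirectSum.add_apply, AddSubgroup.coe_add, hm, hm']

/-- Let R → S be a homomorphism of ℕ-graded rings, i.e. the structure map carries each graded piece R_i
into S_i. If an element s of S is integral over R, then each homogeneous component of s is integral
over R; so the integral closure of R in S is a graded subring of S. -/
theorem result {R S : Type u} [CommRing R] [CommRing S] [Algebra R S] (ℛ : ℕ → AddSubgroup R) [GradedRing ℛ] (𝒮 : ℕ → AddSubgroup S) [GradedRing 𝒮]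
    (hmap : ∀ i : ℕ, ∀ r ∈ ℛ i, algebraMap R S r ∈ 𝒮 i) (s : S) (hs : IsIntegral R s) (i : ℕ) :
    IsIntegral R ((DirectSum.decompose 𝒮 s i : 𝒮 i) : S) := by
  have hσS : ∀ (x : S) (j : ℕ),
      (((sigmaAux 𝒮).comp (DirectSum.decomposeRingEquiv 𝒮).toRingHom) x).coeff j =
        ((DirectSum.decompose 𝒮 x j : 𝒮 j) : S) := fun x j => coeff_sigmaAux 𝒮 _ j
  have hσR : ∀ (x : R) (j : ℕ),
      (((sigmaAux ℛ).comp (DirectSum.decomposeRingEquiv ℛ).toRingHom) x).coeff j =
        ((DirectSum.decompose ℛ x j : ℛ j) : R) := fun x j => coeff_sigmaAux ℛ _ j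
  have hcomp : (algebraMap (Polynomial R) (Polynomial S)).comp
      ((sigmaAux ℛ).comp (DirectSum.decomposeRingEquiv ℛ).toRingHom) =
      ((sigmaAux 𝒮).comp (DirectSum.decomposeRingEquiv 𝒮).toRingHom).comp (algebraMap R S) := by
    refine RingHom.ext fun r => Polynomial.ext fun j => ?_
    have e1 : ((algebraMap (Polynomial R) (Polynomial S)).comp
        ((sigmaAux ℛ).comp (DirectSum.decomposeRingEquiv ℛ).toRingHom)) r =
        (((sigmaAux ℛ).comp (DirectSum.decomposeRingEquiv ℛ).toRingHom) r).map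
          (algebraMap R S) := rfl
    have e2 : (((sigmaAux 𝒮).comp (DirectSum.decomposeRingEquiv 𝒮).toRingHom).comp
        (algebraMap R S)) r =
        ((sigmaAux 𝒮).comp (DirectSum.decomposeRingEquiv 𝒮).toRingHom) (algebraMap R S r) := rfl
    rw [e1, e2, Polynomial.coeff_map, hσR, hσS, decompose_algebraMap ℛ 𝒮 hmap]
  have hint : IsIntegral (Polynomial R)
      (((sigmaAux 𝒮).comp (DirectSum.decomposeRingEquiv 𝒮).toRingHom) s) :=
    IsIntegral.map_of_comp_eq _ _ hcomp hs
  have h1 := hint.coeff i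
  rwa [hσS] at h1

end Groth.Agent.S9615
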