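import Groth.Statements.S9620
import Mathlib
-- import your own Groth.Agent.* helpers here

set_option autoImplicit false
universe u
open CAlg

namespace Groth.Agent.S9620

theorem preconnected_of_idem {A : Type*} [CommRing A]
    (h : ∀ e : A, IsIdempotentElem e → e = 0 ∨ e = 1) :
    PreconnectedSpace (PrimeSpectrum A) := by
  rw [preconnectedSpace_iff_clopen]
  intro s hs
  obtain ⟨e, he, rfl⟩ := PrimeSpectrum.isClopen_iff.mp hs
  rcases h e he with rfl | rfl
  · left; rw [PrimeSpectrum.basicOpen_zero]; rfl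
  · right; rw [PrimeSpectrum.basicOpen_one]; rfl

/-- elements of the ideal generated by the idempotents of `p` are multiples of one of them -/
theorem exists_idem_mul_eq {R : Type*} [CommRing R] (p : PrimeSpectrum R) :
    ∀ y ∈ Ideal.span {e : R | IsIdempotentElem e ∧ e ∈ p.asIdeal},
      ∃ e' ∈ {e : R | IsIdempotentElem e ∧ e ∈ p.asIdeal}, y = y * e' := by
  intro y hy
  induction hy using Submodule.span_induction with
  | mem y hy => exact ⟨y, hy, hy.1.eq.symm⟩
  | zero => exact ⟨0, ⟨IsIdempotentElem.zero, p.asIdeal.zero_mem⟩, by simp⟩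
  | add a b _ _ ha hb =>
    obtain ⟨e₁, he₁, h₁⟩ := ha
    obtain ⟨e₂, he₂, h₂⟩ := hb
    refine ⟨e₁ + e₂ - e₁ * e₂, ⟨?_, ?_⟩, ?_⟩
    · have i1 := he₁.1.eq
      have i2 := he₂.1.eq
      unfold IsIdempotentElem
      linear_combination (1 + e₂ * e₂ - 2 * e₂) * i1 + (1 - e₁) * i2
    · exact p.asIdeal.sub_mem (p.asIdeal.add_mem he₁.2 he₂.2) (p.asIdeal.mul_mem_left _ he₂.2)
    · linear_combination (1 - e₂) * h₁ + (1 - e₁) * h₂
  | smul c y _ hy =>
    obtain ⟨e', he', h'⟩ := hy
    exact ⟨e', he', by rw [smul_eq_mul, mul_assoc, ← h']⟩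

/-- the zero locus of the idempotents contained in `p` is preconnected, the dichotomy, and the
lifting of idempotents modulo the ideal they generate -/
theorem idem_facts {R : Type*} [CommRing R] (p : PrimeSpectrum R) :
    (∀ e : R, IsIdempotentElem e →
      e ∈ {e : R | IsIdempotentElem e ∧ e ∈ p.asIdeal} ∨
        1 - e ∈ {e : R | IsIdempotentElem e ∧ e ∈ p.asIdeal}) ∧
    IsPreconnected (PrimeSpectrum.zeroLocus {e : R | IsIdempotentElem e ∧ e ∈ p.asIdeal}) := by
  classical
  set E : Set R := {e : R | IsIdempotentElem e ∧ e ∈ p.asIdeal} with hE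
  have hor : ∀ e : R, IsIdempotentElem e → e ∈ E ∨ 1 - e ∈ E := by
    intro e he
    have h0 : e * (1 - e) ∈ p.asIdeal := by
      have h00 : e * (1 - e) = 0 := by rw [mul_sub, mul_one, he.eq, sub_self]
      rw [h00]; exact p.asIdeal.zero_mem
    rcases p.2.mem_or_mem h0 with h | h
    · exact Or.inl ⟨he, h⟩
    · exact Or.inr ⟨he.one_sub, h⟩
  refine ⟨hor, ?_⟩
  set I := Ideal.span E with hI
  have hkey : ∀ y ∈ I, ∃ e' ∈ E, y = y * e' := exists_idem_mul_eq p
  have hidem : ∀ ē : R ⧸ I, IsIdempotentElem ē → ē = 0 ∨ ē = 1 := by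
    intro ē hē
    obtain ⟨x, rfl⟩ := Ideal.Quotient.mk_surjective ē
    have hx : x * x - x ∈ I := by
      rw [← Ideal.Quotient.eq, map_mul]; exact hē
    obtain ⟨e', he', h'⟩ := hkey _ hx
    have he'I : e' ∈ I := Ideal.subset_span he'
    have hfi : IsIdempotentElem ((1 - e') * x) := by
      have h1 := he'.1.eq
      unfold IsIdempotentElem
      linear_combination (x * x) * h1 + h'
    have hmk : Ideal.Quotient.mk I ((1 - e') * x) = Ideal.Quotient.mk I x := by
      rw [Ideal.Quotient.eq]
      have h2 : (1 - e') * x - x = -x * e' := by ring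
      rw [h2]; exact I.mul_mem_left _ he'I
    rcases hor _ hfi with h | h
    · left; rw [← hmk]; exact Ideal.Quotient.eq_zero_iff_mem.mpr (Ideal.subset_span h)
    · right
      have h3 : Ideal.Quotient.mk I (1 - (1 - e') * x) = 0 :=
        Ideal.Quotient.eq_zero_iff_mem.mpr (Ideal.subset_span h)
      rw [map_sub, map_one, sub_eq_zero] at h3
      rw [← hmk, ← h3]
  haveI := preconnected_of_idem hidem
  have hrange : PrimeSpectrum.zeroLocus E =
      Set.range (PrimeSpectrum.comap (Ideal.Quotient.mk I)) := by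
    rw [range_comap_of_surjective _ _ Ideal.Quotient.mk_surjective, Ideal.mk_ker, hI,
      PrimeSpectrum.zeroLocus_span]
  rw [hrange]
  exact isPreconnected_range (PrimeSpectrum.continuous_comap _)

/-- the connected component of `p` is the zero locus of the idempotents in `p` -/
theorem connectedComponent_eq {R : Type*} [CommRing R] (p : PrimeSpectrum R) :
    connectedComponent p =
      PrimeSpectrum.zeroLocus {e : R | IsIdempotentElem e ∧ e ∈ p.asIdeal} := by
  apply Set.Subset.antisymm
  · intro q hq
    rw [PrimeSpectrum.mem_zeroLocus]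
    intro e he
    have hcl : IsClopen (PrimeSpectrum.zeroLocus ({e} : Set R)) :=
      PrimeSpectrum.isClopen_iff_zeroLocus.mpr ⟨e, he.1, rfl⟩
    have hp : p ∈ PrimeSpectrum.zeroLocus ({e} : Set R) := by
      rw [PrimeSpectrum.mem_zeroLocus, Set.singleton_subset_iff]; exact he.2
    have h1 := hcl.connectedComponent_subset hp hq
    rw [PrimeSpectrum.mem_zeroLocus, Set.singleton_subset_iff] at h1
    exact h1
  · exact (idem_facts p).2.subset_connectedComponent
      (by rw [PrimeSpectrum.mem_zeroLocus]; exact fun e he => he.2)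

/-- For a ring R and a point p of Spec R, the connected component of p is the zero locus of the ideal I
generated by the idempotents of R contained in p, and every idempotent e of R satisfies e ∈ I or 1 -
e ∈ I (e maps to 0 or 1 in R/I). -/
theorem result {R : Type u} [CommRing R] (p : PrimeSpectrum R) :
    connectedComponent p = PrimeSpectrum.zeroLocus {e : R | IsIdempotentElem e ∧ e ∈ p.asIdeal} ∧
      ∀ e : R, IsIdempotentElem e → (e ∈ Ideal.span {e : R | IsIdempotentElem e ∧ e ∈ p.asIdeal} ∨ 1 - e ∈ Ideal.span {e : R | IsIdempotentElem e ∧ e ∈ p.asIdeal}) := by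
  refine ⟨connectedComponent_eq p, fun e he => ?_⟩
  exact ((idem_facts p).1 e he).imp (fun h => Ideal.subset_span h) (fun h => Ideal.subset_span h)

end Groth.Agent.S9620
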