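import Groth.Statements.S9618
import Groth.Agent.S9620
-- import your own Groth.Agent.* helpers here

set_option autoImplicit false
universe u
open CAlg

namespace Groth.Agent.S9618

/-- For a ring R and a subset T of Spec R the following are equivalent: (1) T is closed and contains the
connected component of each of its points; (2) T can be written as an intersection of subsets of
Spec R that are both open and closed; (3) T is the common zero locus of some set of idempotent
elements of R (equivalently, of the ideal they generate). -/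
theorem result {R : Type u} [CommRing R] (T : Set (PrimeSpectrum R)) :
    [IsClosed T ∧ ∀ x ∈ T, connectedComponent x ⊆ T,
      ∃ U : Set (Set (PrimeSpectrum R)), (∀ u ∈ U, IsClopen u) ∧ T = ⋂₀ U,
      ∃ E : Set R, (∀ e ∈ E, IsIdempotentElem e) ∧ T = PrimeSpectrum.zeroLocus E].TFAE := by
  classical
  tfae_have 3 → 1 := by
    rintro ⟨E, hE, rfl⟩
    refine ⟨PrimeSpectrum.isClosed_zeroLocus _, fun x hx q hq => ?_⟩
    rw [PrimeSpectrum.mem_zeroLocus]
    intro e he
    have hcl : IsClopen (PrimeSpectrum.zeroLocus ({e} : Set R)) :=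
      PrimeSpectrum.isClopen_iff_zeroLocus.mpr ⟨e, hE e he, rfl⟩
    have hp : x ∈ PrimeSpectrum.zeroLocus ({e} : Set R) := by
      rw [PrimeSpectrum.mem_zeroLocus, Set.singleton_subset_iff]
      exact (PrimeSpectrum.mem_zeroLocus _ _).mp hx he
    have h1 := hcl.connectedComponent_subset hp hq
    rw [PrimeSpectrum.mem_zeroLocus, Set.singleton_subset_iff] at h1
    exact h1
  tfae_have 2 → 3 := by
    rintro ⟨U, hU, rfl⟩
    refine ⟨{e : R | IsIdempotentElem e ∧ ⋂₀ U ⊆ PrimeSpectrum.zeroLocus ({e} : Set R)},
      fun e he => he.1, ?_⟩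
    apply Set.Subset.antisymm
    · intro q hq
      rw [PrimeSpectrum.mem_zeroLocus]
      intro e he
      have h1 := he.2 hq
      rw [PrimeSpectrum.mem_zeroLocus, Set.singleton_subset_iff] at h1
      exact h1
    · intro q hq
      rw [Set.mem_sInter]
      intro u hu
      obtain ⟨e, he, rfl⟩ := PrimeSpectrum.isClopen_iff_zeroLocus.mp (hU u hu)
      rw [PrimeSpectrum.mem_zeroLocus, Set.singleton_subset_iff]
      exact (PrimeSpectrum.mem_zeroLocus _ _).mp hq ⟨he, Set.sInter_subset_of_mem hu⟩
  tfae_have 1 → 2 := by
    rintro ⟨hcl, hsat⟩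
    refine ⟨{u | IsClopen u ∧ T ⊆ u}, fun u hu => hu.1, ?_⟩
    apply Set.Subset.antisymm
    · intro q hq
      rw [Set.mem_sInter]
      exact fun u hu => hu.2 hq
    · intro x hx
      by_contra hxT
      -- the component of x is disjoint from T
      have hdisj : ∀ q ∈ T, q ∉ connectedComponent x := by
        intro q hqT hq
        have h1 : connectedComponent x = connectedComponent q := connectedComponent_eq hq
        exact hxT (hsat q hqT (h1 ▸ mem_connectedComponent))
      set E : Set R := {e : R | IsIdempotentElem e ∧ e ∈ x.asIdeal} with hE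
      have hcomp : connectedComponent x = PrimeSpectrum.zeroLocus E :=
        Groth.Agent.S9620.connectedComponent_eq x
      set J := PrimeSpectrum.vanishingIdeal T with hJ
      have hT : T = PrimeSpectrum.zeroLocus (J : Set R) := by
        rw [hJ, PrimeSpectrum.zeroLocus_vanishingIdeal_eq_closure, hcl.closure_eq]
      have hempty : PrimeSpectrum.zeroLocus ((Ideal.span E ⊔ J : Ideal R) : Set R) = ∅ := by
        rw [Set.eq_empty_iff_forall_notMem]
        intro q hq
        rw [PrimeSpectrum.mem_zeroLocus] at hq
        have hq1 : q ∈ T := by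
          rw [hT, PrimeSpectrum.mem_zeroLocus]
          exact fun j hj => hq (Ideal.mem_sup_right hj)
        refine hdisj q hq1 ?_
        rw [hcomp, PrimeSpectrum.mem_zeroLocus]
        exact fun e he => hq (Ideal.mem_sup_left (Ideal.subset_span he))
      rw [PrimeSpectrum.zeroLocus_empty_iff_eq_top] at hempty
      have h1 : (1 : R) ∈ Ideal.span E ⊔ J := by rw [hempty]; trivial
      obtain ⟨a, ha, j, hj, haj⟩ := Submodule.mem_sup.mp h1
      obtain ⟨e', he', hae⟩ := Groth.Agent.S9620.exists_idem_mul_eq x a ha
      -- the clopen V(1 - e') contains T but not x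
      have hu : IsClopen (PrimeSpectrum.zeroLocus ({1 - e'} : Set R)) :=
        PrimeSpectrum.isClopen_iff_zeroLocus.mpr ⟨1 - e', he'.1.one_sub, rfl⟩
      have hTu : T ⊆ PrimeSpectrum.zeroLocus ({1 - e'} : Set R) := by
        intro q hq
        rw [PrimeSpectrum.mem_zeroLocus, Set.singleton_subset_iff, SetLike.mem_coe]
        have hjq : j ∈ q.asIdeal := by
          rw [hT, PrimeSpectrum.mem_zeroLocus] at hq
          exact hq hj
        have h2 : e' * (1 - e') ∈ q.asIdeal := by
          have h00 : e' * (1 - e') = 0 := by rw [mul_sub, mul_one, he'.1.eq, sub_self]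
          rw [h00]; exact q.asIdeal.zero_mem
        rcases q.2.mem_or_mem h2 with h | h
        · exfalso
          apply q.2.ne_top
          rw [Ideal.eq_top_iff_one, ← haj, hae]
          exact q.asIdeal.add_mem (q.asIdeal.mul_mem_left _ h) hjq
        · exact h
      have hxu := (Set.mem_sInter.mp hx) _ ⟨hu, hTu⟩
      rw [PrimeSpectrum.mem_zeroLocus, Set.singleton_subset_iff, SetLike.mem_coe] at hxu
      apply x.2.ne_top
      rw [Ideal.eq_top_iff_one]
      have := x.asIdeal.add_mem hxu he'.2
      rwa [sub_add_cancel] at this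
  tfae_finish

end Groth.Agent.S9618
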