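import Groth.Statements.S9619
import Mathlib.RingTheory.Spectrum.Prime.Topology

set_option autoImplicit false
universe u
open CAlg

namespace Groth.Agent.S9619


theorem aux {R : Type u} [CommRing R] (E E' : Set R) (hE : ∀ e ∈ E, IsIdempotentElem e)
    (h : (Ideal.span E).radical ≤ (Ideal.span E').radical) : Ideal.span E ≤ Ideal.span E' := by
  rw [Ideal.span_le]
  intro e he
  obtain ⟨n, hn⟩ := h (Ideal.le_radical (Ideal.subset_span he))
  rcases Nat.eq_zero_or_pos n with rfl | hpos
  · rw [pow_zero] at hn
    rw [SetLike.mem_coe, (Ideal.eq_top_iff_one _).mpr hn]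
    trivial
  · obtain ⟨k, rfl⟩ := Nat.exists_eq_succ_of_ne_zero hpos.ne'
    rwa [(hE e he).pow_succ_eq] at hn

/-- For a ring R and two sets E, E' of idempotent elements of R with the same zero locus in Spec R, the
ideals generated by E and by E' are equal. -/
theorem result {R : Type u} [CommRing R] (E E' : Set R) (hE : ∀ e ∈ E, IsIdempotentElem e) (hE' : ∀ e ∈ E', IsIdempotentElem e) (h : PrimeSpectrum.zeroLocus E = PrimeSpectrum.zeroLocus E') :
    Ideal.span E = Ideal.span E' := by
  rw [← PrimeSpectrum.zeroLocus_span E, ← PrimeSpectrum.zeroLocus_span E',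
    PrimeSpectrum.zeroLocus_eq_iff] at h
  exact le_antisymm (aux E E' hE h.le) (aux E' E hE' h.ge)

end Groth.Agent.S9619
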