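import Groth.Statements.S9621
import Mathlib.RingTheory.Spectrum.Prime.Topology
import Mathlib.RingTheory.Ideal.MinimalPrime.Localization

set_option autoImplicit false
universe u
open CAlg

namespace Groth.Agent.S9621

/-- Let R be a ring, p a minimal prime of R and W a quasi-compact open subset of Spec R not containing
p. Then there is an f ∈ R, f ∉ p, whose basic open D(f) is disjoint from W. -/
theorem result {R : Type u} [CommRing R] (p : PrimeSpectrum R) (hp : p.asIdeal ∈ minimalPrimes R) (W : Set (PrimeSpectrum R)) (hWo : IsOpen W) (hWc : IsCompact W) (hpW : p ∉ W) :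
    ∃ f : R, f ∉ p.asIdeal ∧ Disjoint (PrimeSpectrum.basicOpen f : Set (PrimeSpectrum R)) W := by
  classical
  obtain ⟨t, ht⟩ := PrimeSpectrum.isCompact_isOpen_iff.mp ⟨hWc, hWo⟩
  haveI := p.2
  have hmem : ∀ g ∈ t, g ∈ p.asIdeal := by
    intro g hg
    have : p ∈ PrimeSpectrum.zeroLocus (t : Set R) := by
      by_contra hcon
      apply hpW
      rw [← ht]
      exact hcon
    exact this hg
  have h1 : ∀ g ∈ p.asIdeal, ∃ y, y ∉ p.asIdeal ∧ ∃ n : ℕ, y * g ^ n = 0 := by
    intro g hg
    have hrad := IsLocalization.AtPrime.radical_map_of_mem_minimalPrimes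
      (Localization.AtPrime p.asIdeal) p.asIdeal ⊥ hp
    have hmem : algebraMap R (Localization.AtPrime p.asIdeal) g ∈
        (((⊥ : Ideal R)).map (algebraMap R (Localization.AtPrime p.asIdeal))).radical := by
      rw [hrad]; exact Ideal.mem_map_of_mem _ hg
    obtain ⟨n, hn⟩ := hmem
    rw [← map_pow, IsLocalization.algebraMap_mem_map_algebraMap_iff p.asIdeal.primeCompl] at hn
    obtain ⟨y, hy, hyg⟩ := hn
    exact ⟨y, hy, n, by simpa using hyg⟩
  choose! y hy n hn using h1
  refine ⟨∏ g ∈ t, y g, ?_, ?_⟩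
  · rw [Ideal.IsPrime.prod_mem_iff]
    rintro ⟨g, hg, hgp⟩
    exact hy g (hmem g hg) hgp
  · rw [Set.disjoint_left]
    intro q hq hqW
    rw [← ht, Set.mem_compl_iff, PrimeSpectrum.mem_zeroLocus, Set.not_subset] at hqW
    obtain ⟨g, hg, hgq⟩ := hqW
    have hfq : (∏ g ∈ t, y g) ∉ q.asIdeal := hq
    have hyq : y g ∉ q.asIdeal := by
      intro h
      apply hfq
      obtain ⟨u, hu⟩ := Finset.dvd_prod_of_mem y hg
      rw [hu]
      exact Ideal.mul_mem_right _ _ h
    have h0 : y g * g ^ n g ∈ q.asIdeal := by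
      rw [hn g (hmem g hg)]; exact Ideal.zero_mem _
    rcases q.2.mem_or_mem h0 with h | h
    · exact hyq h
    · exact hgq (q.2.mem_of_pow_mem _ h)

end Groth.Agent.S9621
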