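import Groth.Statements.S9622
import Mathlib.RingTheory.Finiteness.NilpotentKer
import Mathlib.RingTheory.HopkinsLevitzki
-- import your own Groth.Agent.* helpers here

set_option autoImplicit false
universe u
open CAlg

namespace Groth.Agent.S9622

theorem finite_of_quot {R S : Type*} [CommRing R] [CommRing S] [Algebra R S] [IsArtinianRing S]
    [IsLocalRing S] [Module.Finite R (S ⧸ IsLocalRing.maximalIdeal S)] : Module.Finite R S := by
  have hk : RingHom.ker (Ideal.Quotient.mkₐ R (IsLocalRing.maximalIdeal S)) =
      IsLocalRing.maximalIdeal S := by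
    ext x
    rw [RingHom.mem_ker, Ideal.Quotient.mkₐ_eq_mk, Ideal.Quotient.eq_zero_iff_mem]
  refine Module.finite_of_surjective_of_ker_le_nilradical
    (Ideal.Quotient.mkₐ R (IsLocalRing.maximalIdeal S)) (Ideal.Quotient.mkₐ_surjective R _) ?_ ?_
  · rw [hk, ← IsLocalRing.jacobson_eq_maximalIdeal ⊥ bot_ne_top,
      IsArtinianRing.jacobson_eq_radical]
    exact le_rfl
  · rw [hk]
    exact IsNoetherian.noetherian _

/-- Let R → S be a ring map whose target S is a local Artinian ring, and write m for the maximal ideal
of S. Then S is a finite R-module exactly when S/m is, and S is an R-algebra of finite type exactly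
when S/m is. -/
theorem result {R S : Type u} [CommRing R] [CommRing S] [Algebra R S] [IsArtinianRing S] [IsLocalRing S] :
    (Module.Finite R S ↔ Module.Finite R (S ⧸ IsLocalRing.maximalIdeal S)) ∧
      (Algebra.FiniteType R S ↔ Algebra.FiniteType R (S ⧸ IsLocalRing.maximalIdeal S)) := by
  refine ⟨⟨fun h => ?_, fun h => finite_of_quot⟩, ⟨fun h => ?_, fun h => ?_⟩⟩
  · exact Module.Finite.of_surjective (Ideal.Quotient.mkₐ R (IsLocalRing.maximalIdeal S)).toLinearMap
      (Ideal.Quotient.mkₐ_surjective R _)
  · exact Algebra.FiniteType.of_surjective (Ideal.Quotient.mkₐ R (IsLocalRing.maximalIdeal S))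
      (Ideal.Quotient.mkₐ_surjective R _)
  · obtain ⟨n, f, hf⟩ := Algebra.FiniteType.iff_quotient_mvPolynomial''.mp h
    choose x hx using fun i => Ideal.Quotient.mk_surjective (f (MvPolynomial.X i))
    let g : MvPolynomial (Fin n) R →ₐ[R] S := MvPolynomial.aeval x
    have hgf : (Ideal.Quotient.mkₐ R (IsLocalRing.maximalIdeal S)).comp g = f := by
      apply MvPolynomial.algHom_ext
      intro i
      simp [g, hx]
    letI : Algebra (MvPolynomial (Fin n) R) S := g.toRingHom.toAlgebra
    haveI : IsScalarTower R (MvPolynomial (Fin n) R) S :=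
      IsScalarTower.of_algebraMap_eq fun r => (g.commutes r).symm
    haveI : Module.Finite (MvPolynomial (Fin n) R) (S ⧸ IsLocalRing.maximalIdeal S) := by
      refine Module.Finite.of_surjective
        (Algebra.linearMap (MvPolynomial (Fin n) R) (S ⧸ IsLocalRing.maximalIdeal S)) ?_
      intro y
      obtain ⟨p, hp⟩ := hf y
      refine ⟨p, ?_⟩
      rw [← hp, ← hgf]
      rfl
    haveI : Module.Finite (MvPolynomial (Fin n) R) S := finite_of_quot
    exact Algebra.FiniteType.trans (inferInstance : Algebra.FiniteType R (MvPolynomial (Fin n) R))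
      inferInstance

end Groth.Agent.S9622
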