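import Groth.Statements.S9623
import Mathlib
import Groth.Agent.Lib.Helper48.NilPrime
import Groth.Agent.Lib.Helper48.TensorFiber2
import Groth.Agent.S9630
-- import your own Groth.Agent.* helpers here

set_option autoImplicit false
universe u
open CAlg

namespace Groth.Agent.S9623

open TensorProduct in
/-- Let k be a separably closed field and R, S two k-algebras with connected (nonempty) spectra. Then
Spec(R ⊗_k S) is connected. -/
theorem result {k R S : Type u} [Field k] [IsSepClosed k] [CommRing R] [CommRing S] [Algebra k R] [Algebra k S]
    [ConnectedSpace (PrimeSpectrum R)] [ConnectedSpace (PrimeSpectrum S)] :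
    ConnectedSpace (PrimeSpectrum (R ⊗[k] S)) := by
  -- Step A: tensor products of fields over a separably closed field have irreducible spectrum
  have hA : ∀ (K L : Type u) [Field K] [Field L] [Algebra k K] [Algebra k L],
      IrreducibleSpace (PrimeSpectrum (K ⊗[k] L)) := by
    intro K L _ _ _ _
    have h0 : (nilradical (k ⊗[k] L)).IsPrime :=
      Groth.Agent.Lib.Helper48.NP.np_of_injective
        (Algebra.TensorProduct.lid k L).toRingEquiv.toRingHom
        (Algebra.TensorProduct.lid k L).toRingEquiv.injective
        (by rw [nilradical_eq_zero L]; exact Ideal.isPrime_bot)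
    have h1 : (nilradical (AlgebraicClosure k ⊗[k] L)).IsPrime :=
      Groth.Agent.Lib.Helper48.NP.np_of_isPurelyInseparable (F := k) h0
    have h2 : IrreducibleSpace (PrimeSpectrum (AlgebraicClosure k ⊗[k] L)) :=
      PrimeSpectrum.irreducibleSpace_iff_isPrime_nilradical.mpr h1
    have h3 : ∀ (k' : Type u) [Field k'] [Algebra k k'],
        IrreducibleSpace (PrimeSpectrum (k' ⊗[k] L)) :=
      ((Groth.Agent.S9630.result (k := k) (R := L)).out 3 0).mp h2
    exact h3 K
  -- Step B: `S` is geometrically connected
  have hB : ∀ (K : Type u) [Field K] [Algebra k K],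
      ConnectedSpace (PrimeSpectrum (K ⊗[k] S)) := by
    intro K _ _
    haveI : ConnectedSpace (PrimeSpectrum (S ⊗[k] K)) :=
      Groth.Agent.Lib.Helper48.connectedSpace_tensor k S K
        (fun k' _ _ => by haveI := hA k' K; infer_instance)
    exact (PrimeSpectrum.homeomorphOfRingEquiv
      (Algebra.TensorProduct.comm k S K).toRingEquiv).connectedSpace_iff.mp ‹_›
  exact Groth.Agent.Lib.Helper48.connectedSpace_tensor k R S hB

end Groth.Agent.S9623
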