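import Groth.Statements.S9624
import Groth.Agent.Lib.Helper48.TensorFiber
-- import your own Groth.Agent.* helpers here

set_option autoImplicit false
universe u
open CAlg

namespace Groth.Agent.S9624

open TensorProduct in
/-- Let k be a field, S a geometrically connected k-algebra (the spectrum of k' ⊗_k S is connected for
every field extension k'/k) and R any k-algebra. Then the map R → R ⊗_k S induces a bijection on
idempotents: each idempotent of R ⊗_k S comes from exactly one idempotent of R. Here the test fields
range over field extensions in the universe of k; this is equivalent to the unrestricted notion,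
since an algebraic closure of k suffices as a test. -/
theorem result {k R S : Type u} [Field k] [CommRing R] [CommRing S] [Algebra k R] [Algebra k S]
    (hS : ∀ (k' : Type u) [Field k'] [Algebra k k'], ConnectedSpace (PrimeSpectrum (k' ⊗[k] S)))
    (x : R ⊗[k] S) (hx : IsIdempotentElem x) :
    ∃! e : R, IsIdempotentElem e ∧ algebraMap R (R ⊗[k] S) e = x := by
  classical
  have hne : ∀ (k' : Type u) [Field k'] [Algebra k k'], Nonempty (PrimeSpectrum (k' ⊗[k] S)) :=
    fun k' _ _ => (hS k').toNonempty
  have hsurj := Groth.Agent.Lib.Helper48.tpr_surjective k R S hne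
  have hfib := Groth.Agent.Lib.Helper48.fiber_isPreconnected k R S hS
  have hopen := Groth.Agent.Lib.Helper48.tpr_isOpenMap k R S
  have hZ : IsClopen (PrimeSpectrum.basicOpen x : Set (PrimeSpectrum (R ⊗[k] S))) :=
    PrimeSpectrum.isClopen_iff.mpr ⟨x, hx, rfl⟩
  obtain ⟨hcl, hsat⟩ :=
    Groth.Agent.Lib.Helper48.isClopen_image_and_preimage_image _ hopen hsurj hfib _ hZ
  obtain ⟨e, he, hee⟩ := PrimeSpectrum.isClopen_iff.mp hcl
  have hpre : ∀ e' : R, (PrimeSpectrum.basicOpen (algebraMap R (R ⊗[k] S) e') :
      Set (PrimeSpectrum (R ⊗[k] S))) =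
      Groth.Agent.Lib.Helper48.tpr k R S ⁻¹' (PrimeSpectrum.basicOpen e' : Set (PrimeSpectrum R)) := by
    intro e'
    ext q
    simp
  refine ⟨e, ⟨he, ?_⟩, ?_⟩
  · apply Groth.Agent.Lib.Helper48.idem_eq_of_basicOpen_eq (he.map _) hx
    rw [hpre, ← hee, hsat]
  · rintro e' ⟨he', hxe'⟩
    apply Groth.Agent.Lib.Helper48.idem_eq_of_basicOpen_eq he' he
    rw [← hee, ← hxe', hpre, Set.image_preimage_eq _ hsurj]

end Groth.Agent.S9624
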