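import Groth.Statements.S9626
import Groth.Agent.Lib.Helper48.TensorFiber
-- import your own Groth.Agent.* helpers here

set_option autoImplicit false
universe u
open CAlg

namespace Groth.Agent.S9626

open TensorProduct in
/-- Let k be a field, S a k-algebra with Spec(k' ⊗_k S) irreducible for every field extension k'/k, and
R any k-algebra. Then Spec(R ⊗_k S) → Spec(R) induces a bijection on irreducible components: taking
inverse images along R → R ⊗_k S maps the set of minimal primes of R ⊗_k S bijectively onto the set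
of minimal primes of R. Here the test fields range over field extensions in the universe of k; this
is equivalent to the unrestricted notion, since an algebraic closure of k suffices as a test. -/
theorem result {k R S : Type u} [Field k] [CommRing R] [CommRing S] [Algebra k R] [Algebra k S]
    (hS : ∀ (k' : Type u) [Field k'] [Algebra k k'], IrreducibleSpace (PrimeSpectrum (k' ⊗[k] S))) :
    Set.BijOn (Ideal.comap (algebraMap R (R ⊗[k] S))) (minimalPrimes (R ⊗[k] S)) (minimalPrimes R) := by
  classical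
  have hne : ∀ (k' : Type u) [Field k'] [Algebra k k'], Nonempty (PrimeSpectrum (k' ⊗[k] S)) :=
    fun k' _ _ => (hS k').toNonempty
  have hsurj := Groth.Agent.Lib.Helper48.tpr_surjective k R S hne
  have hfib := Groth.Agent.Lib.Helper48.fiber_isPreirreducible k R S hS
  have hopen := Groth.Agent.Lib.Helper48.tpr_isOpenMap k R S
  have hcont := Groth.Agent.Lib.Helper48.tpr_continuous k R S
  let e := irreducibleComponentsEquivOfIsPreirreducibleFiber
    (Groth.Agent.Lib.Helper48.tpr k R S) hcont hopen hfib hsurj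
  -- image of the component V(q) is V(comap q)
  have himg : ∀ q ∈ minimalPrimes (R ⊗[k] S),
      Groth.Agent.Lib.Helper48.tpr k R S '' PrimeSpectrum.zeroLocus (q : Set (R ⊗[k] S)) =
        PrimeSpectrum.zeroLocus ((q.comap (algebraMap R (R ⊗[k] S)) : Ideal R) : Set R) ∧
      PrimeSpectrum.zeroLocus (q : Set (R ⊗[k] S)) ∈ irreducibleComponents (PrimeSpectrum (R ⊗[k] S)) := by
    intro q hq
    haveI : q.IsPrime := hq.1.1
    have hcomp : PrimeSpectrum.zeroLocus (q : Set (R ⊗[k] S)) ∈
        irreducibleComponents (PrimeSpectrum (R ⊗[k] S)) := by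
      rw [PrimeSpectrum.zeroLocus_ideal_mem_irreducibleComponents, Ideal.IsPrime.radical ‹_›]
      exact hq
    refine ⟨?_, hcomp⟩
    have hcl : IsClosed (Groth.Agent.Lib.Helper48.tpr k R S ''
        PrimeSpectrum.zeroLocus (q : Set (R ⊗[k] S))) :=
      isClosed_of_mem_irreducibleComponents _ (e.symm ⟨_, hcomp⟩).2
    apply Set.Subset.antisymm
    · rintro _ ⟨q', hq', rfl⟩
      rw [PrimeSpectrum.mem_zeroLocus] at hq' ⊢
      intro r hr
      exact hq' hr
    · have hmem : (⟨q.comap (algebraMap R (R ⊗[k] S)), inferInstance⟩ : PrimeSpectrum R) ∈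
          Groth.Agent.Lib.Helper48.tpr k R S '' PrimeSpectrum.zeroLocus (q : Set (R ⊗[k] S)) :=
        ⟨⟨q, inferInstance⟩, by rw [PrimeSpectrum.mem_zeroLocus], rfl⟩
      have h2 := hcl.closure_subset_iff.mpr (Set.singleton_subset_iff.mpr hmem)
      rw [← PrimeSpectrum.zeroLocus_vanishingIdeal_eq_closure,
        PrimeSpectrum.vanishingIdeal_singleton] at h2
      exact h2
  refine ⟨?_, ?_, ?_⟩
  · intro q hq
    haveI : q.IsPrime := hq.1.1
    obtain ⟨h1, h2⟩ := himg q hq
    have h3 := (e.symm ⟨_, h2⟩).2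
    change Groth.Agent.Lib.Helper48.tpr k R S '' _ ∈ _ at h3
    rw [h1, PrimeSpectrum.zeroLocus_ideal_mem_irreducibleComponents,
      Ideal.IsPrime.radical (Ideal.comap_isPrime _ _)] at h3
    exact h3
  · intro q₁ hq₁ q₂ hq₂ h12
    haveI : q₁.IsPrime := hq₁.1.1
    haveI : q₂.IsPrime := hq₂.1.1
    obtain ⟨h1, h1'⟩ := himg q₁ hq₁
    obtain ⟨h2, h2'⟩ := himg q₂ hq₂
    have h3 : e.symm ⟨_, h1'⟩ = e.symm ⟨_, h2'⟩ := by
      apply Subtype.ext
      change Groth.Agent.Lib.Helper48.tpr k R S '' _ = Groth.Agent.Lib.Helper48.tpr k R S '' _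
      rw [h1, h2, h12]
    have h4 := congrArg Subtype.val (e.symm.injective h3)
    have h5 := congrArg PrimeSpectrum.vanishingIdeal h4
    simp only [PrimeSpectrum.vanishingIdeal_zeroLocus_eq_radical] at h5
    rwa [Ideal.IsPrime.radical ‹q₁.IsPrime›, Ideal.IsPrime.radical ‹q₂.IsPrime›] at h5
  · intro p hp
    haveI : p.IsPrime := hp.1.1
    have hcomp : PrimeSpectrum.zeroLocus (p : Set R) ∈ irreducibleComponents (PrimeSpectrum R) := by
      rw [PrimeSpectrum.zeroLocus_ideal_mem_irreducibleComponents, Ideal.IsPrime.radical ‹_›]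
      exact hp
    have h1 : Groth.Agent.Lib.Helper48.tpr k R S ⁻¹' PrimeSpectrum.zeroLocus (p : Set R) ∈
        irreducibleComponents (PrimeSpectrum (R ⊗[k] S)) := (e ⟨_, hcomp⟩).2
    rw [← PrimeSpectrum.zeroLocus_minimalPrimes] at h1
    obtain ⟨q, hq, hqe⟩ := h1
    refine ⟨q, hq, ?_⟩
    haveI : q.IsPrime := hq.1.1
    obtain ⟨h2, h2'⟩ := himg q hq
    have h3 : Groth.Agent.Lib.Helper48.tpr k R S '' PrimeSpectrum.zeroLocus (q : Set (R ⊗[k] S)) =
        PrimeSpectrum.zeroLocus (p : Set R) := by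
      have : PrimeSpectrum.zeroLocus (q : Set (R ⊗[k] S)) =
          Groth.Agent.Lib.Helper48.tpr k R S ⁻¹' PrimeSpectrum.zeroLocus (p : Set R) := hqe
      rw [this, Set.image_preimage_eq _ hsurj]
    rw [h2] at h3
    have h5 := congrArg PrimeSpectrum.vanishingIdeal h3
    simp only [PrimeSpectrum.vanishingIdeal_zeroLocus_eq_radical] at h5
    rwa [Ideal.IsPrime.radical (Ideal.comap_isPrime _ _), Ideal.IsPrime.radical ‹p.IsPrime›] at h5

end Groth.Agent.S9626
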