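import Groth.Statements.S9627
import Groth.Agent.Lib.Helper48.TensorFiber2
-- import your own Groth.Agent.* helpers here

set_option autoImplicit false
universe u
open CAlg

namespace Groth.Agent.S9627

open TensorProduct in
/-- Let K/k be a field extension such that Spec(k' ⊗_k K) is irreducible for every field extension k'/k,
and let S be a K-algebra such that Spec(K' ⊗_K S) is irreducible for every field extension K'/K.
Then Spec(k' ⊗_k S) is irreducible for every field extension k'/k: S is geometrically irreducible
over k. Here the test fields k'/k and K'/K range over field extensions in the common universe of k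
and K; this is equivalent to the unrestricted notions, since an algebraic closure of the base field
suffices as a test. -/
theorem result {k K S : Type u} [Field k] [Field K] [Algebra k K] [CommRing S] [Algebra K S] [Algebra k S] [IsScalarTower k K S]
    (hK : ∀ (k' : Type u) [Field k'] [Algebra k k'], IrreducibleSpace (PrimeSpectrum (k' ⊗[k] K)))
    (hS : ∀ (K' : Type u) [Field K'] [Algebra K K'], IrreducibleSpace (PrimeSpectrum (K' ⊗[K] S))) :
    ∀ (k' : Type u) [Field k'] [Algebra k k'], IrreducibleSpace (PrimeSpectrum (k' ⊗[k] S)) := by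
  intro k' _ _
  haveI hA : IrreducibleSpace (PrimeSpectrum (K ⊗[k] k')) := by
    haveI := hK k'
    exact (PrimeSpectrum.homeomorphOfRingEquiv
      (Algebra.TensorProduct.comm k k' K).toRingEquiv).irreducibleSpace_iff.mp ‹_›
  haveI := Groth.Agent.Lib.Helper48.irreducibleSpace_tensor K (K ⊗[k] k') S hS
  let e1 : (K ⊗[k] k') ⊗[K] S ≃+* S ⊗[K] (K ⊗[k] k') :=
    (Algebra.TensorProduct.comm K (K ⊗[k] k') S).toRingEquiv
  let e2 : S ⊗[K] (K ⊗[k] k') ≃+* S ⊗[k] k' :=
    (Algebra.TensorProduct.cancelBaseChange k K K S k').toRingEquiv
  let e3 : S ⊗[k] k' ≃+* k' ⊗[k] S := (Algebra.TensorProduct.comm k S k').toRingEquiv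
  exact (PrimeSpectrum.homeomorphOfRingEquiv ((e1.trans e2).trans e3)).irreducibleSpace_iff.mp ‹_›

end Groth.Agent.S9627
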