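import Groth.Statements.S9629
import Mathlib
import Groth.Agent.Lib.Helper48.AlgClosedTensor
-- import your own Groth.Agent.* helpers here

set_option autoImplicit false
universe u
open CAlg

namespace Groth.Agent.S9629

open TensorProduct in
/-- For a field k and a k-algebra S the following are equivalent: (1) S is geometrically integral, i.e.
k' ⊗_k S is an integral domain for every field extension k'/k; (2) k' ⊗_k S is an integral domain
for every finite field extension k'/k; (3) k̄ ⊗_k S is an integral domain for the algebraic closure
k̄ of k. Here the test fields range over field extensions in the universe of k; this is equivalent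
to the unrestricted notion, since an algebraic closure of k suffices as a test. -/
theorem result {k S : Type u} [Field k] [CommRing S] [Algebra k S] :
    [∀ (k' : Type u) [Field k'] [Algebra k k'], IsDomain (k' ⊗[k] S),
      ∀ (k' : Type u) [Field k'] [Algebra k k'] [Module.Finite k k'], IsDomain (k' ⊗[k] S),
      IsDomain (AlgebraicClosure k ⊗[k] S)].TFAE := by
  tfae_have 1 → 2 := fun h k' _ _ _ => h k'
  tfae_have 1 → 3 := fun h => h (AlgebraicClosure k)
  tfae_have 2 → 3 := by
    intro h
    haveI := h k
    haveI : Nontrivial S := (Algebra.TensorProduct.lid k S).injective.nontrivial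
    haveI : Nontrivial (AlgebraicClosure k ⊗[k] S) := inferInstance
    suffices hnz : NoZeroDivisors (AlgebraicClosure k ⊗[k] S) from NoZeroDivisors.to_isDomain _
    constructor
    intro x y hxy
    obtain ⟨E, hE, x', y', rfl, rfl⟩ :=
      Groth.Agent.Lib.Helper48.ACT.exists_finite_intermediateField x y
    haveI := h E
    have h_inj : Function.Injective (Algebra.TensorProduct.map E.val (AlgHom.id k S)) :=
      Module.Flat.rTensor_preserves_injective_linearMap _ E.val.injective
    rw [← map_mul] at hxy
    have h0 := h_inj (hxy.trans (map_zero _).symm)
    rcases mul_eq_zero.mp h0 with h1 | h1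
    · left; rw [h1, map_zero]
    · right; rw [h1, map_zero]
  tfae_have 3 → 1 := by
    intro h k' _ _
    let f : AlgebraicClosure k →ₐ[k] AlgebraicClosure k' := IsAlgClosed.lift
    letI : Algebra (AlgebraicClosure k) (AlgebraicClosure k') := f.toRingHom.toAlgebra
    haveI : IsScalarTower k (AlgebraicClosure k) (AlgebraicClosure k') :=
      IsScalarTower.of_algebraMap_eq (fun x => (f.commutes x).symm)
    haveI : IsDomain (AlgebraicClosure k' ⊗[AlgebraicClosure k] (AlgebraicClosure k ⊗[k] S)) :=
      Groth.Agent.Lib.Helper48.ACT.isDomain_tensor
    haveI : IsDomain (AlgebraicClosure k' ⊗[k] S) :=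
      MulEquiv.isDomain _ (Algebra.TensorProduct.cancelBaseChange k (AlgebraicClosure k)
        (AlgebraicClosure k) (AlgebraicClosure k') S).symm.toMulEquiv
    have h_inj : Function.Injective (Algebra.TensorProduct.map
        (IsScalarTower.toAlgHom k k' (AlgebraicClosure k')) (AlgHom.id k S)) :=
      Module.Flat.rTensor_preserves_injective_linearMap _ (RingHom.injective _)
    exact Function.Injective.isDomain _ h_inj
  tfae_finish

end Groth.Agent.S9629
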