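import Groth.Statements.S9633
import Mathlib.Topology.Spectral.Prespectral
import Mathlib.Topology.Separation.Connected
import Mathlib.Topology.Connected.Separation
-- import your own Groth.Agent.* helpers here

set_option autoImplicit false
universe u
open CAlg

namespace Groth.Agent.S9633

/-- For a ring R with spectrum X the following are equivalent: (1) X is profinite, i.e. compact,
Hausdorff and totally disconnected; (2) X is Hausdorff; (3) X is totally disconnected; (4) every
quasi-compact open subset of X is closed; (5) there are no nontrivial inclusions among prime ideals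
of R; (6) every prime ideal of R is maximal; (7) every prime ideal of R is a minimal prime; (8)
every standard open D(f) is closed. -/
theorem result {R : Type u} [CommRing R] :
    [CompactSpace (PrimeSpectrum R) ∧ T2Space (PrimeSpectrum R) ∧ TotallyDisconnectedSpace (PrimeSpectrum R),
      T2Space (PrimeSpectrum R),
      TotallyDisconnectedSpace (PrimeSpectrum R),
      ∀ W : Set (PrimeSpectrum R), IsOpen W → IsCompact W → IsClosed W,
      ∀ p q : PrimeSpectrum R, p ≤ q → p = q,
      ∀ p : Ideal R, p.IsPrime → p.IsMaximal,
      ∀ p : Ideal R, p.IsPrime → p ∈ minimalPrimes R,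
      ∀ f : R, IsClosed (PrimeSpectrum.basicOpen f : Set (PrimeSpectrum R))].TFAE := by
  tfae_have 1 → 2 := fun h => h.2.1
  tfae_have 2 → 1 := fun h => ⟨inferInstance, h, inferInstance⟩
  tfae_have 1 → 3 := fun h => h.2.2
  tfae_have 3 → 5 := by
    intro h p q hpq
    have hT1 : T1Space (PrimeSpectrum R) := inferInstance
    have hq : q ∈ closure ({p} : Set (PrimeSpectrum R)) := by
      rw [← specializes_iff_mem_closure, ← PrimeSpectrum.le_iff_specializes]
      exact hpq
    rw [closure_singleton] at hq
    exact hq.symm
  tfae_have 5 → 6 := by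
    intro h p hp
    obtain ⟨M, hM, hpM⟩ := Ideal.exists_le_maximal p hp.ne_top
    have := h ⟨p, hp⟩ ⟨M, hM.isPrime⟩ hpM
    have h2 : p = M := congrArg PrimeSpectrum.asIdeal this
    rw [h2]
    exact hM
  tfae_have 6 → 7 := by
    intro h p hp
    obtain ⟨q, hq, hqp⟩ := Ideal.exists_minimalPrimes_le (I := ⊥) (J := p) bot_le
    have hqprime : q.IsPrime := hq.1.1
    have hqmax := h q hqprime
    have : q = p := hqmax.eq_of_le hp.ne_top hqp
    rw [← this]
    exact hq
  tfae_have 7 → 5 := by
    intro h p q hpq
    have hq := h q.asIdeal q.isPrime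
    have : q.asIdeal ≤ p.asIdeal := hq.2 ⟨p.isPrime, bot_le⟩ hpq
    exact PrimeSpectrum.ext (le_antisymm hpq this)
  tfae_have 5 → 8 := by
    intro h f
    rw [← PrimeSpectrum.localization_away_comap_range (Localization.Away f) f]
    apply PrimeSpectrum.isClosed_range_of_stableUnderSpecialization
    intro x y hxy hx
    rw [← PrimeSpectrum.le_iff_specializes] at hxy
    rw [← h x y hxy]
    exact hx
  tfae_have 8 → 4 := by
    intro h W hWo hWc
    obtain ⟨s, hs, rfl⟩ := (isCompact_open_iff_eq_finite_iUnion_of_isTopologicalBasis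
      (fun f : R => (PrimeSpectrum.basicOpen f : Set (PrimeSpectrum R)))
      (by
        convert PrimeSpectrum.isTopologicalBasis_basic_opens (R := R) using 1)
      PrimeSpectrum.isCompact_basicOpen W).mp ⟨hWc, hWo⟩
    exact hs.isClosed_biUnion fun i _ => h i
  tfae_have 4 → 8 := by
    intro h f
    exact h _ (PrimeSpectrum.basicOpen f).isOpen (PrimeSpectrum.isCompact_basicOpen f)
  tfae_have 8 → 2 := by
    intro h
    have : TotallySeparatedSpace (PrimeSpectrum R) := by
      rw [totallySeparatedSpace_iff_exists_isClopen]
      intro x y hxy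
      by_cases hle : x.asIdeal ≤ y.asIdeal
      · have hne : ¬ y.asIdeal ≤ x.asIdeal := fun h' => hxy (PrimeSpectrum.ext (le_antisymm hle h'))
        obtain ⟨f, hfy, hfx⟩ := SetLike.not_le_iff_exists.mp hne
        exact ⟨PrimeSpectrum.basicOpen f, ⟨h f, (PrimeSpectrum.basicOpen f).isOpen⟩, hfx,
          fun hy => hy hfy⟩
      · obtain ⟨f, hfx, hfy⟩ := SetLike.not_le_iff_exists.mp hle
        refine ⟨(PrimeSpectrum.basicOpen f : Set (PrimeSpectrum R))ᶜ,
          ⟨(PrimeSpectrum.basicOpen f).isOpen.isClosed_compl, (h f).isOpen_compl⟩,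
          fun hx => hx hfx, ?_⟩
        rw [compl_compl]
        exact hfy
    infer_instance
  tfae_finish

end Groth.Agent.S9633
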