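import Groth.Statements.S9638
import Groth.Agent.Lib.Helper49.AssLoc
-- import your own Groth.Agent.* helpers here

set_option autoImplicit false
universe u
open CAlg

namespace Groth.Agent.S9638

/-- Let R → S be a ring map with R a domain with fraction field K, and N an S-module flat over R.
Writing T for the image in S of the nonzero elements of R, so that T⁻¹S = S ⊗_R K and T⁻¹N = N ⊗_R
K, the associated primes of N over S (primes equal to the annihilator of an element) coincide with
those of T⁻¹N over S, and these are exactly the inverse images in S of the associated primes of T⁻¹N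
over T⁻¹S. -/
theorem result {R S : Type u} [CommRing R] [IsDomain R] [CommRing S] [Algebra R S] (N : Type u) [AddCommGroup N] [Module S N] [Module R N] [IsScalarTower R S N] [Module.Flat R N] :
    FlatCA.ass S N = FlatCA.ass S (LocalizedModule (Algebra.algebraMapSubmonoid S (nonZeroDivisors R)) N) ∧
      FlatCA.ass S N = Ideal.comap (algebraMap S (Localization (Algebra.algebraMapSubmonoid S (nonZeroDivisors R)))) '' FlatCA.ass (Localization (Algebra.algebraMapSubmonoid S (nonZeroDivisors R))) (LocalizedModule (Algebra.algebraMapSubmonoid S (nonZeroDivisors R)) N) := by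
  have hT := Groth.Agent.Lib.Helper49.smul_eq_zero_of_mem_algebraMapSubmonoid (R := R) (S := S) (N := N)
  refine ⟨?_, ?_⟩
  · ext p
    constructor
    · rintro ⟨hp, n, rfl⟩
      refine ⟨hp, LocalizedModule.mk n 1, ?_⟩
      rw [Groth.Agent.Lib.Helper49.annihilator_span_mk_eq _ hT n 1]
    · rintro ⟨hp, x, rfl⟩
      induction x with
      | h n t =>
        refine ⟨hp, n, ?_⟩
        rw [Groth.Agent.Lib.Helper49.annihilator_span_mk_eq _ hT n t]
  · ext p
    constructor
    · rintro ⟨hp, n, rfl⟩
      have h1 : ((Submodule.span (Localization (Algebra.algebraMapSubmonoid S (nonZeroDivisors R)))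
          {LocalizedModule.mk n (1 : Algebra.algebraMapSubmonoid S (nonZeroDivisors R))}).annihilator).comap
          (algebraMap S (Localization (Algebra.algebraMapSubmonoid S (nonZeroDivisors R))))
          = (Submodule.span S {n}).annihilator := by
        rw [Groth.Agent.Lib.Helper49.comap_annihilator_span_eq,
          Groth.Agent.Lib.Helper49.annihilator_span_mk_eq _ hT n 1]
      refine ⟨_, ⟨?_, LocalizedModule.mk n 1, rfl⟩, h1⟩
      -- primality of the annihilator upstairs
      have hmin : (Submodule.span S {n}).annihilator ∈
          ((Submodule.span (Localization (Algebra.algebraMapSubmonoid S (nonZeroDivisors R)))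
          {LocalizedModule.mk n (1 : Algebra.algebraMapSubmonoid S (nonZeroDivisors R))}).annihilator.comap
          (algebraMap S (Localization (Algebra.algebraMapSubmonoid S (nonZeroDivisors R))))).minimalPrimes := by
        rw [h1, Ideal.minimalPrimes_eq_subsingleton_self]
        rfl
      rw [IsLocalization.minimalPrimes_comap (Algebra.algebraMapSubmonoid S (nonZeroDivisors R))] at hmin
      obtain ⟨P, hP, hPe⟩ := hmin
      have hPprime : P.IsPrime := hP.1.1
      have : P = (Submodule.span (Localization (Algebra.algebraMapSubmonoid S (nonZeroDivisors R)))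
          {LocalizedModule.mk n (1 : Algebra.algebraMapSubmonoid S (nonZeroDivisors R))}).annihilator := by
        rw [← IsLocalization.map_under (Algebra.algebraMapSubmonoid S (nonZeroDivisors R)) _ P,
          Ideal.under_def, hPe, ← h1, ← Ideal.under_def,
          IsLocalization.map_under (Algebra.algebraMapSubmonoid S (nonZeroDivisors R))]
      rw [← this]
      exact hPprime
    · rintro ⟨P, ⟨hP, x, rfl⟩, rfl⟩
      induction x with
      | h n t =>
        refine ⟨Ideal.IsPrime.comap _, n, ?_⟩
        rw [Groth.Agent.Lib.Helper49.comap_annihilator_span_eq,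
          Groth.Agent.Lib.Helper49.annihilator_span_mk_eq _ hT n t]

end Groth.Agent.S9638
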