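import Groth.Statements.S9639
import Mathlib.RingTheory.Flat.Basic
import Mathlib.LinearAlgebra.Basis.VectorSpace
import Mathlib.RingTheory.Spectrum.Prime.Topology
-- import your own Groth.Agent.* helpers here

set_option autoImplicit false
universe u
open CAlg

namespace Groth.Agent.S9639

theorem connectedSpace_of_injective {A B : Type u} [CommRing A] [CommRing B] (f : A →+* B)
    (hf : Function.Injective f) [ConnectedSpace (PrimeSpectrum B)] :
    ConnectedSpace (PrimeSpectrum A) := by
  rw [connectedSpace_iff_univ]
  have hdense : DenseRange (PrimeSpectrum.comap f) := by
    rw [PrimeSpectrum.denseRange_comap_iff_ker_le_nilRadical]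
    rw [(RingHom.injective_iff_ker_eq_bot f).mp hf]
    exact bot_le
  have hconn : IsConnected (Set.range (PrimeSpectrum.comap f)) :=
    isConnected_range (PrimeSpectrum.continuous_comap f)
  have := hconn.closure
  rwa [hdense.closure_range] at this

open TensorProduct in
/-- Let k be a field and S a k-algebra such that Spec(k' ⊗_k S) is connected for every field extension
k'/k. Then every k-subalgebra of S has the same property. Here the test fields range over field
extensions in the universe of k; this is equivalent to the unrestricted notion, since an algebraic
closure of k suffices as a test. -/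
theorem result {k S : Type u} [Field k] [CommRing S] [Algebra k S]
    (hS : ∀ (k' : Type u) [Field k'] [Algebra k k'], ConnectedSpace (PrimeSpectrum (k' ⊗[k] S))) (S' : Subalgebra k S) :
    ∀ (k' : Type u) [Field k'] [Algebra k k'], ConnectedSpace (PrimeSpectrum (k' ⊗[k] S')) := by
  intro k' _ _
  have := hS k'
  exact connectedSpace_of_injective
    (Algebra.TensorProduct.map (AlgHom.id k' k') S'.val).toRingHom
    (Module.Flat.lTensor_preserves_injective_linearMap _ Subtype.val_injective)

end Groth.Agent.S9639
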