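import Groth.Statements.S9640
import Groth.Agent.Lib.Helper49.AssLoc
-- import your own Groth.Agent.* helpers here

set_option autoImplicit false
universe u
open CAlg

namespace Groth.Agent.S9640

/-- Let R → S be a ring map with R a domain with fraction field K and N an S-module flat over R. Writing
T for the image in S of the nonzero elements of R, so that T⁻¹S = S ⊗_R K and T⁻¹N = N ⊗_R K, the
primes of S weakly associated to N are exactly the inverse images in S of the primes of T⁻¹S weakly
associated to T⁻¹N. -/
theorem result {R S : Type u} [CommRing R] [IsDomain R] [CommRing S] [Algebra R S] (N : Type u) [AddCommGroup N] [Module S N] [Module R N] [IsScalarTower R S N] [Module.Flat R N] :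
    FlatCA.weakAss S N = Ideal.comap (algebraMap S (Localization (Algebra.algebraMapSubmonoid S (nonZeroDivisors R)))) '' FlatCA.weakAss (Localization (Algebra.algebraMapSubmonoid S (nonZeroDivisors R))) (LocalizedModule (Algebra.algebraMapSubmonoid S (nonZeroDivisors R)) N) := by
  have hT := Groth.Agent.Lib.Helper49.smul_eq_zero_of_mem_algebraMapSubmonoid (R := R) (S := S) (N := N)
  ext p
  constructor
  · rintro ⟨n, hn⟩
    rw [← Groth.Agent.Lib.Helper49.annihilator_span_mk_eq _ hT n 1,
      ← Groth.Agent.Lib.Helper49.comap_annihilator_span_eq,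
      IsLocalization.minimalPrimes_comap (Algebra.algebraMapSubmonoid S (nonZeroDivisors R))] at hn
    obtain ⟨P, hP, rfl⟩ := hn
    exact ⟨P, ⟨_, hP⟩, rfl⟩
  · rintro ⟨P, ⟨x, hP⟩, rfl⟩
    induction x with
    | h n t =>
      refine ⟨n, ?_⟩
      rw [← Groth.Agent.Lib.Helper49.annihilator_span_mk_eq _ hT n t,
        ← Groth.Agent.Lib.Helper49.comap_annihilator_span_eq,
        IsLocalization.minimalPrimes_comap (Algebra.algebraMapSubmonoid S (nonZeroDivisors R))]
      exact ⟨P, hP, rfl⟩

end Groth.Agent.S9640
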