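import Groth.Statements.S9642
-- import your own Groth.Agent.* helpers here

set_option autoImplicit false
universe u
open CAlg

namespace Groth.Agent.S9642

theorem irreducibleSpace_of_isOpenMap_of_dense {X Y : Type u} [TopologicalSpace X]
    [TopologicalSpace Y] (f : X → Y) (hf : IsOpenMap f) [IrreducibleSpace Y] (D : Set Y)
    (hD : Dense D) (hfib : ∀ y ∈ D, IsIrreducible (f ⁻¹' {y})) : IrreducibleSpace X := by
  have hne : Nonempty X := by
    obtain ⟨y, hy⟩ := hD.nonempty
    obtain ⟨x, _⟩ := (hfib y hy).nonempty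
    exact ⟨x⟩
  have hpre : PreirreducibleSpace X := by
    constructor
    rintro U V hU hV ⟨u, _, hu⟩ ⟨v, _, hv⟩
    have h1 : (f '' U ∩ f '' V).Nonempty :=
      nonempty_preirreducible_inter (hf U hU) (hf V hV) ⟨f u, u, hu, rfl⟩ ⟨f v, v, hv, rfl⟩
    obtain ⟨y, ⟨hyU, hyV⟩, hyD⟩ := hD.inter_open_nonempty _ ((hf U hU).inter (hf V hV)) h1
    obtain ⟨a, haU, rfl⟩ := hyU
    obtain ⟨b, hbV, hb⟩ := hyV
    obtain ⟨z, _, hzUV⟩ := (hfib _ hyD).isPreirreducible U V hU hV ⟨a, rfl, haU⟩ ⟨b, hb, hbV⟩
    exact ⟨z, trivial, hzUV⟩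
  exact { toPreirreducibleSpace := hpre, toNonempty := hne }

/-- In the general form stated there: let R → S be a ring map inducing an open map Spec(S) → Spec(R),
with Spec(R) irreducible, such that for a dense set of primes p of R the fibre ring κ(p) ⊗_R S has
irreducible spectrum. Then Spec(S) is irreducible. The flat and finitely presented case is the
special case in which the map on spectra is open by fppf-openness. -/
theorem result {R S : Type u} [CommRing R] [CommRing S] [Algebra R S]
    (hopen : IsOpenMap (PrimeSpectrum.comap (algebraMap R S))) [IrreducibleSpace (PrimeSpectrum R)]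
    (D : Set (PrimeSpectrum R)) (hD : Dense D) (hfib : ∀ p ∈ D, IrreducibleSpace (PrimeSpectrum (p.asIdeal.Fiber S))) :
    IrreducibleSpace (PrimeSpectrum S) := by
  refine irreducibleSpace_of_isOpenMap_of_dense _ hopen D hD fun p hp => ?_
  have := hfib p hp
  rw [isIrreducible_iff_irreducibleSpace]
  exact (PrimeSpectrum.preimageHomeomorphFiber R S p).symm.surjective.irreducibleSpace
    (PrimeSpectrum.preimageHomeomorphFiber R S p).symm.continuous

end Groth.Agent.S9642
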