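import Groth.Statements.S9643
import Mathlib.RingTheory.Support
import Mathlib.RingTheory.Ideal.Colon
-- import your own Groth.Agent.* helpers here

set_option autoImplicit false
universe u
open CAlg

namespace Groth.Agent.S9643

theorem support_quot_prime {R : Type u} [CommRing R] (I : Ideal R) :
    Module.support R (R ⧸ I) = PrimeSpectrum.zeroLocus (I : Set R) := by
  rw [Module.support_eq_zeroLocus, Ideal.annihilator_quotient]

theorem support_chain {R : Type u} [CommRing R] (M : Type u) [AddCommGroup M] [Module R M]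
    {n : ℕ} (N : Fin (n + 1) → Submodule R M) (hN : Monotone N) (h0 : N 0 = ⊥)
    (p : Fin n → PrimeSpectrum R)
    (hquot : ∀ i : Fin n, Nonempty ((↥(N i.succ) ⧸ Submodule.comap (N i.succ).subtype (N i.castSucc)) ≃ₗ[R] (R ⧸ (p i).asIdeal))) :
    ∀ i : Fin (n + 1), Module.support R ↥(N i) = {q | ∃ j : Fin n, j.castSucc < i ∧ p j ≤ q} := by
  intro i
  induction i using Fin.induction with
  | zero =>
    have : Subsingleton ↥(N 0) := by rw [h0]; infer_instance
    rw [Module.support_eq_empty]
    ext q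
    simp only [Set.mem_empty_iff_false, Set.mem_ofPred_eq, false_iff, not_exists, not_and]
    intro j hj
    exact absurd hj (Fin.not_lt_zero _)
  | succ j ih =>
    have hle : N j.castSucc ≤ N j.succ := hN (Fin.castSucc_lt_succ).le
    obtain ⟨e⟩ := hquot j
    have hexact : Function.Exact (Submodule.inclusion hle)
        (Submodule.comap (N j.succ).subtype (N j.castSucc)).mkQ := by
      intro y
      rw [Submodule.mkQ_apply, Submodule.Quotient.mk_eq_zero, Submodule.mem_comap]
      constructor
      · intro hy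
        exact ⟨⟨y.1, hy⟩, rfl⟩
      · rintro ⟨z, rfl⟩
        exact z.2
    rw [Module.support_of_exact hexact (Submodule.inclusion_injective hle)
      (Submodule.mkQ_surjective _), ih, e.support_eq, support_quot_prime]
    ext q
    simp only [Set.mem_union, Set.mem_ofPred_eq, PrimeSpectrum.mem_zeroLocus, SetLike.coe_subset_coe]
    constructor
    · rintro (⟨j', hj', hq⟩ | hq)
      · exact ⟨j', hj'.trans Fin.castSucc_lt_succ, hq⟩
      · exact ⟨j, Fin.castSucc_lt_succ, hq⟩
    · rintro ⟨j', hj', hq⟩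
      rcases (Fin.castSucc_lt_succ_iff.mp hj').lt_or_eq with hlt | heq
      · exact Or.inl ⟨j', Fin.castSucc_lt_castSucc_iff.mpr hlt, hq⟩
      · subst heq
        exact Or.inr hq

/-- Let R be a Noetherian ring, M a finite R-module and 0 = M_0 ⊆ M_1 ⊆ ⋯ ⊆ M_n = M a chain of
submodules whose successive quotients M_i/M_{i-1} are isomorphic to R/p_i for prime ideals p_i. Then
the primes minimal among p_1, …, p_n are exactly the primes minimal in the support of M. -/
theorem result {R : Type u} [CommRing R] [IsNoetherianRing R] (M : Type u) [AddCommGroup M] [Module R M] [Module.Finite R M]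
    {n : ℕ} (N : Fin (n + 1) → Submodule R M) (hN : Monotone N) (h0 : N 0 = ⊥) (hlast : N (Fin.last n) = ⊤)
    (p : Fin n → PrimeSpectrum R)
    (hquot : ∀ i : Fin n, Nonempty ((↥(N i.succ) ⧸ Submodule.comap (N i.succ).subtype (N i.castSucc)) ≃ₗ[R] (R ⧸ (p i).asIdeal))) :
    {q : PrimeSpectrum R | Minimal (fun x => x ∈ Set.range p) q} = {q : PrimeSpectrum R | Minimal (fun x => x ∈ Module.support R M) q} := by
  have hsupp : Module.support R M = {q | ∃ j : Fin n, p j ≤ q} := by
    rw [← (Submodule.topEquiv (R := R) (M := M)).support_eq, ← hlast,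
      support_chain M N hN h0 p hquot (Fin.last n)]
    ext q
    simp only [Set.mem_ofPred_eq]
    constructor
    · rintro ⟨j, _, hq⟩
      exact ⟨j, hq⟩
    · rintro ⟨j, hq⟩
      exact ⟨j, Fin.castSucc_lt_last j, hq⟩
  ext q
  simp only [Set.mem_ofPred_eq, hsupp]
  constructor
  · intro hq
    obtain ⟨⟨i, rfl⟩, hmin⟩ := hq
    refine ⟨⟨i, le_rfl⟩, ?_⟩
    rintro q' ⟨j, hj⟩ hq'
    exact (hmin ⟨j, rfl⟩ (hj.trans hq')).trans hj
  · intro hq
    obtain ⟨⟨i, hi⟩, hmin⟩ := hq
    have hqi : q ≤ p i := hmin (y := p i) ⟨i, le_rfl⟩ hi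
    have heq : q = p i := le_antisymm hqi hi
    refine ⟨⟨i, heq.symm⟩, ?_⟩
    rintro q' ⟨j, rfl⟩ hq'
    exact hmin ⟨j, le_rfl⟩ hq'

end Groth.Agent.S9643
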