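import Groth.Statements.S9644
import Mathlib.RingTheory.Support
import Mathlib.RingTheory.Ideal.AssociatedPrime.Localization
import Mathlib.RingTheory.Ideal.MinimalPrime.Noetherian
import Mathlib.RingTheory.Localization.Module
import Mathlib.RingTheory.Spectrum.Prime.Topology
-- import your own Groth.Agent.* helpers here

set_option autoImplicit false
universe u
open CAlg

namespace Groth.Agent.S9644

section
variable {R : Type u} [CommRing R] (M : Type u) [AddCommGroup M] [Module R M]

variable (R) in
/-- elements killed, at each minimal prime of the support, by something outside the prime -/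
def Ksub : Submodule R M where
  carrier := {m | ∀ p : PrimeSpectrum R, p.asIdeal ∈ (Module.annihilator R M).minimalPrimes →
    ∃ s ∉ p.asIdeal, s • m = 0}
  zero_mem' := by
    intro p _
    exact ⟨1, (Ideal.ne_top_iff_one p.asIdeal).mp p.isPrime.ne_top, smul_zero _⟩
  add_mem' := by
    intro a b ha hb p hp
    obtain ⟨s, hs, hsa⟩ := ha p hp
    obtain ⟨t, ht, htb⟩ := hb p hp
    refine ⟨s * t, fun h => (p.isPrime.mem_or_mem h).elim hs ht, ?_⟩
    rw [smul_add, mul_comm, mul_smul, hsa, mul_comm, mul_smul, htb, smul_zero, smul_zero, add_zero]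
  smul_mem' := by
    intro r a ha p hp
    obtain ⟨s, hs, hsa⟩ := ha p hp
    exact ⟨s, hs, by rw [smul_comm, hsa, smul_zero]⟩

theorem mem_Ksub {m : M} : m ∈ Ksub R M ↔ ∀ p : PrimeSpectrum R,
    p.asIdeal ∈ (Module.annihilator R M).minimalPrimes → ∃ s ∉ p.asIdeal, s • m = 0 := Iff.rfl

theorem notMem_support_submodule_iff (K' : Submodule R M) (p : PrimeSpectrum R) :
    p ∉ Module.support R ↥K' ↔ ∀ m ∈ K', ∃ s ∉ p.asIdeal, s • m = 0 := by
  rw [Module.notMem_support_iff']
  constructor
  · intro h m hm
    obtain ⟨r, hr, hrm⟩ := h ⟨m, hm⟩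
    exact ⟨r, hr, congrArg Subtype.val hrm⟩
  · intro h m
    obtain ⟨r, hr, hrm⟩ := h m.1 m.2
    exact ⟨r, hr, Subtype.ext hrm⟩

theorem le_Ksub_iff (K' : Submodule R M) :
    K' ≤ Ksub R M ↔ ∀ p : PrimeSpectrum R, p.asIdeal ∈ (Module.annihilator R M).minimalPrimes →
      p ∉ Module.support R ↥K' := by
  simp only [notMem_support_submodule_iff]
  constructor
  · intro h p hp m hm
    exact h hm p hp
  · intro h m hm p hp
    exact h p hp m hm

theorem ann_le_of_mem_ass {q : Ideal R} (hq : q ∈ associatedPrimes R M) :
    Module.annihilator R M ≤ q :=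
  le_of_eq_of_le Submodule.annihilator_top.symm (IsAssociatedPrime.annihilator_le hq)

variable [Module.Finite R M]

theorem exists_minimal_le {x : PrimeSpectrum R} (hx : x ∈ Module.support R M) :
    ∃ q : PrimeSpectrum R, q.asIdeal ∈ (Module.annihilator R M).minimalPrimes ∧ q ≤ x ∧
      q ∈ Module.support R M := by
  rw [Module.support_eq_zeroLocus, PrimeSpectrum.mem_zeroLocus] at hx
  obtain ⟨q, hq, hqx⟩ := Ideal.exists_minimalPrimes_le (J := x.asIdeal) hx
  refine ⟨⟨q, hq.1.1⟩, hq, hqx, ?_⟩
  rw [Module.support_eq_zeroLocus, PrimeSpectrum.mem_zeroLocus]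
  exact hq.1.2

theorem nowhereDense_iff [IsNoetherianRing R] (K' : Submodule R M) :
    (∀ U : Set (PrimeSpectrum R), IsOpen U →
      U ∩ Module.support R M ⊆ closure (Module.support R ↥K') → U ∩ Module.support R M = ∅) ↔
    ∀ p : PrimeSpectrum R, p.asIdeal ∈ (Module.annihilator R M).minimalPrimes →
      p ∉ Module.support R ↥K' := by
  constructor
  · intro h p hp hpK
    have hfin : ((Module.annihilator R M).minimalPrimes).Finite :=
      Ideal.finite_minimalPrimes_of_isNoetherianRing R _
    let T : Set (Ideal R) := {q | q ∈ (Module.annihilator R M).minimalPrimes ∧ q ≠ p.asIdeal}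
    have hTfin : T.Finite := hfin.subset (fun q hq => hq.1)
    let C : Set (PrimeSpectrum R) := ⋃ q ∈ T, PrimeSpectrum.zeroLocus (q : Set R)
    have hC : IsClosed C := hTfin.isClosed_biUnion fun q _ => PrimeSpectrum.isClosed_zeroLocus _
    have hpM : p ∈ Module.support R M := by
      rw [Module.support_eq_zeroLocus, PrimeSpectrum.mem_zeroLocus]
      exact hp.1.2
    have hsub : Cᶜ ∩ Module.support R M ⊆ closure (Module.support R ↥K') := by
      rintro x ⟨hxC, hxM⟩
      apply subset_closure
      obtain ⟨q, hq, hqx, -⟩ := exists_minimal_le M hxM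
      by_cases hqp : q.asIdeal = p.asIdeal
      · have : p ≤ x := by
          rw [← PrimeSpectrum.asIdeal_le_asIdeal, ← hqp]
          exact hqx
        exact Module.mem_support_mono this hpK
      · exfalso
        apply hxC
        simp only [C, Set.mem_iUnion]
        exact ⟨q.asIdeal, ⟨hq, hqp⟩, hqx⟩
    have hempty := h Cᶜ hC.isOpen_compl hsub
    have hpC : p ∈ Cᶜ := by
      intro hpC
      simp only [C, Set.mem_iUnion] at hpC
      obtain ⟨q, ⟨hq, hqp⟩, hqle⟩ := hpC
      rw [PrimeSpectrum.mem_zeroLocus, SetLike.coe_subset_coe] at hqle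
      exact hqp (le_antisymm hqle (hp.2 hq.1 hqle))
    have : p ∈ Cᶜ ∩ Module.support R M := ⟨hpC, hpM⟩
    rw [hempty] at this
    exact this
  · intro h U hU hsub
    by_contra hne
    obtain ⟨x, hxU, hxM⟩ := Set.nonempty_iff_ne_empty.mpr hne
    obtain ⟨q, hq, hqx, hqM⟩ := exists_minimal_le M hxM
    have hqU : q ∈ U := ((PrimeSpectrum.le_iff_specializes q x).mp hqx).mem_open hU hxU
    have hclosed : IsClosed (Module.support R ↥K') := by
      rw [Module.support_eq_zeroLocus]
      exact PrimeSpectrum.isClosed_zeroLocus _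
    have := hsub ⟨hqU, hqM⟩
    rw [hclosed.closure_eq] at this
    exact h q hq this

end


/-- Let R be a Noetherian ring and M a finite R-module. Among the submodules K' of M whose support is
nowhere dense inside Supp(M) there is a largest one, K. The quotient M' = M/K then satisfies
Supp(M') = Supp(M), its associated primes are pairwise incomparable (no embedded ones), and whenever
f ∈ R belongs to every embedded associated prime of M the localized map M_f → M'_f is bijective. -/
theorem result {R : Type u} [CommRing R] [IsNoetherianRing R] (M : Type u) [AddCommGroup M] [Module R M] [Module.Finite R M] :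
    ∃ K : Submodule R M,
      IsGreatest {K' : Submodule R M | ∀ U : Set (PrimeSpectrum R), IsOpen U → U ∩ Module.support R M ⊆ closure (Module.support R ↥K') → U ∩ Module.support R M = ∅} K ∧
      Module.support R (M ⧸ K) = Module.support R M ∧
      (∀ p ∈ associatedPrimes R (M ⧸ K), ∀ q ∈ associatedPrimes R (M ⧸ K), p ≤ q → p = q) ∧
      ∀ f : R, (∀ p ∈ associatedPrimes R M, ¬ Minimal (fun x => x ∈ associatedPrimes R M) p → f ∈ p) →
        Function.Bijective (LocalizedModule.map (Submonoid.powers f) K.mkQ) := by
  classical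
  have hKnot : ∀ p : PrimeSpectrum R, p.asIdeal ∈ (Module.annihilator R M).minimalPrimes →
      p ∉ Module.support R ↥(Ksub R M) := (le_Ksub_iff M (Ksub R M)).mp le_rfl
  have hexact : Function.Exact (Ksub R M).subtype (Ksub R M).mkQ :=
    LinearMap.exact_subtype_mkQ (Ksub R M)
  have hsupp : Module.support R M = Module.support R ↥(Ksub R M) ∪ Module.support R (M ⧸ Ksub R M) :=
    Module.support_of_exact hexact (Submodule.injective_subtype _) (Submodule.mkQ_surjective _)
  have hsuppQ : Module.support R (M ⧸ Ksub R M) = Module.support R M := by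
    apply le_antisymm
    · rw [hsupp]; exact Set.subset_union_right
    · intro x hx
      obtain ⟨q, hq, hqx, hqM⟩ := exists_minimal_le M hx
      rw [hsupp] at hqM
      rcases hqM with hqK | hqQ
      · exact absurd hqK (hKnot q hq)
      · exact Module.mem_support_mono hqx hqQ
  have hannQ : Module.annihilator R M ≤ Module.annihilator R (M ⧸ Ksub R M) :=
    LinearMap.annihilator_le_of_surjective _ (Submodule.mkQ_surjective (Ksub R M))
  have hassQ : ∀ q ∈ associatedPrimes R (M ⧸ Ksub R M), q ∈ (Module.annihilator R M).minimalPrimes := by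
    intro q hq
    have hannq : Module.annihilator R M ≤ q := hannQ.trans (ann_le_of_mem_ass _ hq)
    obtain ⟨hqprime, mbar, hmbar⟩ := isAssociatedPrime_iff.mp hq
    obtain ⟨m, rfl⟩ := Submodule.mkQ_surjective (Ksub R M) mbar
    have hmK : m ∉ Ksub R M := by
      intro hmK
      have : (Ksub R M).mkQ m = 0 := by simpa using hmK
      rw [this] at hmbar
      apply hqprime.ne_top
      rw [hmbar, eq_top_iff]
      intro r _
      rw [Submodule.mem_colon_singleton]
      simp
    rw [mem_Ksub] at hmK
    push Not at hmK
    obtain ⟨p₀, hp₀, hp₀m⟩ := hmK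
    have hqle : q ≤ p₀.asIdeal := by
      intro r hr
      by_contra hrp
      rw [hmbar, Submodule.mem_colon_singleton, Submodule.mem_bot, ← map_smul] at hr
      have hrm : r • m ∈ Ksub R M := by
        rw [← Submodule.Quotient.mk_eq_zero, Submodule.Quotient.mk_smul]
        simpa using hr
      obtain ⟨s, hs, hsr⟩ := hrm p₀ hp₀
      apply hp₀m (s * r) (fun h => (p₀.isPrime.mem_or_mem h).elim hs hrp)
      rw [mul_smul, hsr]
    have : q = p₀.asIdeal := le_antisymm hqle (hp₀.2 ⟨hqprime, hannq⟩ hqle)
    rw [this]
    exact hp₀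
  refine ⟨Ksub R M, ⟨?_, ?_⟩, hsuppQ, ?_, ?_⟩
  · exact (nowhereDense_iff M (Ksub R M)).mpr hKnot
  · intro K' hK'
    exact (le_Ksub_iff M K').mpr ((nowhereDense_iff M K').mp hK')
  · intro p hp q hq hpq
    have hqmin := hassQ q hq
    have hpprime : p.IsPrime := hp.isPrime
    have hannp : Module.annihilator R M ≤ p := hannQ.trans (ann_le_of_mem_ass _ hp)
    exact le_antisymm hpq (hqmin.2 ⟨hpprime, hannp⟩ hpq)
  · intro f hf
    constructor
    · -- injective
      have hsub : Module.support R ↥(Ksub R M) ⊆ PrimeSpectrum.zeroLocus {f} := by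
        intro x hx
        have hx' := hx
        rw [Module.support_eq_zeroLocus, PrimeSpectrum.mem_zeroLocus] at hx'
        obtain ⟨q, hq, hqx⟩ := Ideal.exists_minimalPrimes_le (J := x.asIdeal) hx'
        have hqK : q ∈ associatedPrimes R ↥(Ksub R M) :=
          Module.associatedPrimes.minimalPrimes_annihilator_subset_associatedPrimes R _ hq
        have hqM : q ∈ associatedPrimes R M :=
          associatedPrimes.subset_of_injective (Submodule.injective_subtype (Ksub R M)) hqK
        have hqprime : q.IsPrime := hq.1.1
        have hnotmin : ¬ Minimal (fun x => x ∈ associatedPrimes R M) q := by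
          intro hmin
          have hannq : Module.annihilator R M ≤ q := ann_le_of_mem_ass _ hqM
          obtain ⟨q₀, hq₀, hq₀q⟩ := Ideal.exists_minimalPrimes_le (J := q) hannq
          have hq₀M : q₀ ∈ associatedPrimes R M :=
            Module.associatedPrimes.minimalPrimes_annihilator_subset_associatedPrimes R M hq₀
          have : q = q₀ := le_antisymm (hmin.2 hq₀M hq₀q) hq₀q
          have hqmin : q ∈ (Module.annihilator R M).minimalPrimes := this ▸ hq₀
          apply hKnot ⟨q, hqprime⟩ hqmin
          rw [Module.support_eq_zeroLocus, PrimeSpectrum.mem_zeroLocus]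
          exact hq.1.2
        have hfq : f ∈ q := hf q hqM hnotmin
        rw [PrimeSpectrum.mem_zeroLocus, Set.singleton_subset_iff]
        exact hqx hfq
      have hsing : Subsingleton (LocalizedModule.Away f ↥(Ksub R M)) :=
        LocalizedModule.subsingleton_iff_support_subset.mpr hsub
      rw [LocalizedModule.subsingleton_iff] at hsing
      rw [injective_iff_map_eq_zero]
      intro x hx
      induction x using LocalizedModule.induction_on with
      | h m s =>
        rw [LocalizedModule.map_mk, ← LocalizedModule.zero_mk 1, LocalizedModule.mk_eq] at hx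
        obtain ⟨u, hu⟩ := hx
        rw [smul_zero, smul_zero, one_smul, Submonoid.smul_def, ← map_smul] at hu
        have hum : (u : R) • m ∈ Ksub R M := by
          rw [← Submodule.Quotient.mk_eq_zero, Submodule.Quotient.mk_smul]
          simpa using hu
        obtain ⟨r, hr, hrm⟩ := hsing ⟨(u : R) • m, hum⟩
        have hrm' : r • ((u : R) • m) = 0 := congrArg Subtype.val hrm
        rw [← LocalizedModule.zero_mk 1, LocalizedModule.mk_eq]
        refine ⟨⟨r, hr⟩ * u, ?_⟩
        rw [smul_zero, smul_zero, one_smul, Submonoid.smul_def, Submonoid.coe_mul, mul_smul]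
        exact hrm'
    · exact LocalizedModule.map_surjective _ _ (Submodule.mkQ_surjective _)

end Groth.Agent.S9644
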