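import Groth.Statements.S9646
import Mathlib.RingTheory.Localization.Integral
-- import your own Groth.Agent.* helpers here

set_option autoImplicit false
universe u
open CAlg

namespace Groth.Agent.S9646

/-- (2) ⇒ (1): let R → S be a ring map and x ∈ S. If for every prime ideal p of R the image of x in S_p
(the localization of S at the image of R ∖ p) is integral over R_p, then x is integral over R. Here
R_p and S_p are any rings satisfying the localization universal properties. -/
theorem result {R S : Type u} [CommRing R] [CommRing S] [Algebra R S] (x : S)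
    (h : ∀ (p : Ideal R) [p.IsPrime] (Rp Sp : Type u) [CommRing Rp] [CommRing Sp] [Algebra R Rp] [Algebra S Sp] [Algebra Rp Sp] [Algebra R Sp] [IsScalarTower R S Sp] [IsScalarTower R Rp Sp] [IsLocalization.AtPrime Rp p] [IsLocalization (Algebra.algebraMapSubmonoid S p.primeCompl) Sp], IsIntegral Rp (algebraMap S Sp x)) :
    IsIntegral R x := by
  let I : Ideal R :=
    { carrier := {f | IsIntegral R (f • x)}
      add_mem' := fun {a b} ha hb => by
        simp only [Set.mem_ofPred_eq] at ha hb ⊢
        rw [add_smul]
        exact ha.add hb
      zero_mem' := by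
        simp only [Set.mem_ofPred_eq, zero_smul]
        exact isIntegral_zero
      smul_mem' := fun c {a} ha => by
        simp only [Set.mem_ofPred_eq, smul_eq_mul] at ha ⊢
        rw [mul_smul]
        exact ha.smul c }
  have hI : I = ⊤ := by
    by_contra hne
    obtain ⟨m, hm, hIm⟩ := Ideal.exists_le_maximal I hne
    have hp : m.IsPrime := hm.isPrime
    have hx := h m (Localization.AtPrime m)
      (Localization (Algebra.algebraMapSubmonoid S m.primeCompl))
    obtain ⟨⟨m₂, hm₂⟩, hm₂s⟩ :=
      IsIntegral.exists_multiple_integral_of_isLocalization m.primeCompl _ hx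
    simp only [Submonoid.smul_def] at hm₂s
    have hm₂s' : IsIntegral R
        (algebraMap S (Localization (Algebra.algebraMapSubmonoid S m.primeCompl)) (m₂ • x)) := by
      have e : algebraMap S (Localization (Algebra.algebraMapSubmonoid S m.primeCompl)) (m₂ • x)
          = m₂ • (algebraMap S (Localization (Algebra.algebraMapSubmonoid S m.primeCompl))) x := by
        rw [Algebra.smul_def, map_mul, ← IsScalarTower.algebraMap_apply, Algebra.smul_def]
      rw [e]
      exact hm₂s
    obtain ⟨m₃, hm₃, hm₃s⟩ := IsLocalization.exists_isIntegral_smul_of_isIntegral_map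
      (Sₘ := Localization (Algebra.algebraMapSubmonoid S m.primeCompl))
      m.primeCompl (x := m₂ • x) hm₂s'
    have hmem : m₃ * m₂ ∈ I := by
      change IsIntegral R ((m₃ * m₂) • x)
      rw [mul_smul]
      exact hm₃s
    have : m₃ * m₂ ∈ m := hIm hmem
    rcases hp.mem_or_mem this with h3 | h2
    · exact hm₃ h3
    · exact hm₂ h2
  have h1 : (1 : R) ∈ I := by rw [hI]; trivial
  have : IsIntegral R ((1 : R) • x) := h1
  rwa [one_smul] at this

end Groth.Agent.S9646
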