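import Groth.Statements.S9647
import Mathlib.RingTheory.Invariant.Profinite
import Mathlib.FieldTheory.Galois.Infinite
import Mathlib.FieldTheory.Galois.Profinite
import Mathlib.FieldTheory.KrullTopology
import Mathlib.FieldTheory.IsSepClosed
import Mathlib.RingTheory.TensorProduct.Free
-- import your own Groth.Agent.* helpers here

set_option autoImplicit false
universe u
open CAlg

namespace Groth.Agent.S9647

open TensorProduct
open scoped Pointwise

section
variable (k K : Type u) [Field k] [Field K] [Algebra k K]

/-- the action of the Galois group on the tensor product, as a monoid hom to algebra automorphisms -/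
noncomputable def actHom :
    (SeparableClosure k ≃ₐ[k] SeparableClosure k) →*
      ((SeparableClosure k ⊗[k] K) ≃ₐ[k] (SeparableClosure k ⊗[k] K)) where
  toFun g := Algebra.TensorProduct.congr g (AlgEquiv.refl : K ≃ₐ[k] K)
  map_one' := by
    apply AlgEquiv.coe_toAlgHom_injective
    apply Algebra.TensorProduct.ext'
    intro a b
    simp
  map_mul' g h := by
    apply AlgEquiv.coe_toAlgHom_injective
    apply Algebra.TensorProduct.ext'
    intro a b
    simp [AlgEquiv.mul_apply]

theorem actHom_tmul (g : SeparableClosure k ≃ₐ[k] SeparableClosure k) (a : SeparableClosure k)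
    (b : K) : actHom k K g (a ⊗ₜ b) = g a ⊗ₜ b := by
  simp [actHom]

theorem actHom_apply_eq_map (g : SeparableClosure k ≃ₐ[k] SeparableClosure k)
    (t : SeparableClosure k ⊗[k] K) :
    actHom k K g t = Algebra.TensorProduct.map
      (g : SeparableClosure k →ₐ[k] SeparableClosure k) (AlgHom.id k K) t := by
  induction t using TensorProduct.induction_on with
  | zero => simp
  | tmul a b => simp [actHom_tmul]
  | add x y hx hy => simp [hx, hy]

theorem gal_smul_def (g : SeparableClosure k ≃ₐ[k] SeparableClosure k)
    (t : SeparableClosure k ⊗[k] K) : g • t = actHom k K g t := by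
  induction t using TensorProduct.induction_on with
  | zero => simp
  | tmul a b => rw [TensorProduct.smul_tmul', actHom_tmul, AlgEquiv.smul_def]
  | add x y hx hy => rw [smul_add, map_add, hx, hy]

/-- the Galois action on the tensor product (extending the existing distributive action) -/
@[implicit_reducible]
noncomputable def galAction :
    MulSemiringAction (SeparableClosure k ≃ₐ[k] SeparableClosure k) (SeparableClosure k ⊗[k] K) :=
  { (inferInstance : DistribMulAction (SeparableClosure k ≃ₐ[k] SeparableClosure k)
      (SeparableClosure k ⊗[k] K)) with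
    smul_one := fun g => by rw [gal_smul_def, map_one]
    smul_mul := fun g x y => by rw [gal_smul_def, gal_smul_def, gal_smul_def, map_mul] }

attribute [local instance] galAction Algebra.TensorProduct.rightAlgebra

theorem gal_smulComm : SMulCommClass (SeparableClosure k ≃ₐ[k] SeparableClosure k) K
    (SeparableClosure k ⊗[k] K) := by
  constructor
  intro g c t
  rw [Algebra.smul_def, Algebra.smul_def, gal_smul_def, gal_smul_def, map_mul,
    Algebra.TensorProduct.right_algebraMap_apply, actHom_tmul, map_one]

theorem gal_stabilizer_isOpen (t : SeparableClosure k ⊗[k] K) :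
    IsOpen (MulAction.stabilizer (SeparableClosure k ≃ₐ[k] SeparableClosure k) t :
      Set (SeparableClosure k ≃ₐ[k] SeparableClosure k)) := by
  induction t using TensorProduct.induction_on with
  | zero =>
    convert isOpen_univ
    ext g
    simp
  | tmul a b =>
    have h1 := stabilizer_isOpen_of_isIntegral (K := k) (L := SeparableClosure k) a
    refine (Subgroup.isOpen_mono (H₁ := MulAction.stabilizer _ a) ?_ h1)
    intro g hg
    rw [MulAction.mem_stabilizer_iff] at hg ⊢
    rw [gal_smul_def, actHom_tmul]
    congr 1
  | add x y hx hy =>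
    have hxy : IsOpen ((MulAction.stabilizer (SeparableClosure k ≃ₐ[k] SeparableClosure k) x ⊓
      MulAction.stabilizer (SeparableClosure k ≃ₐ[k] SeparableClosure k) y : Subgroup _) :
        Set (SeparableClosure k ≃ₐ[k] SeparableClosure k)) := hx.inter hy
    refine Subgroup.isOpen_mono ?_ hxy
    intro g hg
    rw [Subgroup.mem_inf, MulAction.mem_stabilizer_iff, MulAction.mem_stabilizer_iff] at hg
    rw [MulAction.mem_stabilizer_iff, smul_add, hg.1, hg.2]

theorem gal_isInvariant : Algebra.IsInvariant K (SeparableClosure k ⊗[k] K)
    (SeparableClosure k ≃ₐ[k] SeparableClosure k) := by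
  classical
  constructor
  intro t ht
  let bK := Module.Free.chooseBasis k K
  let 𝔟 := Algebra.TensorProduct.basis (SeparableClosure k) bK
  have hrepr : ∀ (g : SeparableClosure k ≃ₐ[k] SeparableClosure k)
      (s : SeparableClosure k ⊗[k] K) i, 𝔟.repr (g • s) i = g (𝔟.repr s i) := by
    intro g s i
    induction s using TensorProduct.induction_on with
    | zero => simp
    | tmul a b =>
      rw [gal_smul_def, actHom_tmul]
      simp [𝔟, Algebra.TensorProduct.basis_repr_tmul]
    | add x y hx hy =>
      rw [smul_add, map_add, map_add, Finsupp.add_apply, Finsupp.add_apply, map_add, hx, hy]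
  have hfix : ∀ i, 𝔟.repr t i ∈ Set.range (algebraMap k (SeparableClosure k)) := by
    intro i
    rw [InfiniteGalois.mem_range_algebraMap_iff_fixed]
    intro g
    rw [← hrepr g t i]
    exact congrArg (fun s => 𝔟.repr s i) (ht g)
  choose c hc using hfix
  refine ⟨∑ i ∈ (𝔟.repr t).support, c i • bK i, ?_⟩
  rw [Algebra.TensorProduct.right_algebraMap_apply]
  conv_rhs => rw [← 𝔟.linearCombination_repr t]
  rw [Finsupp.linearCombination_apply, Finsupp.sum, TensorProduct.tmul_sum]
  refine Finset.sum_congr rfl fun i _ => ?_
  rw [← hc i, algebraMap_smul, Algebra.TensorProduct.basis_apply]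
  exact TensorProduct.tmul_smul _ _ _

theorem gal_transitive (P Q : Ideal (SeparableClosure k ⊗[k] K)) [P.IsPrime] [Q.IsPrime] :
    ∃ g : SeparableClosure k ≃ₐ[k] SeparableClosure k, Q = g • P := by
  have := gal_smulComm k K
  have := gal_isInvariant k K
  let _ : TopologicalSpace (SeparableClosure k ⊗[k] K) := ⊥
  have : DiscreteTopology (SeparableClosure k ⊗[k] K) := ⟨rfl⟩
  have : ContinuousSMul (SeparableClosure k ≃ₐ[k] SeparableClosure k)
      (SeparableClosure k ⊗[k] K) := by
    rw [continuousSMul_iff_stabilizer_isOpen]
    exact gal_stabilizer_isOpen k K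
  have hunder : P.under K = Q.under K := by
    have hP : P.under K = ⊥ := (Ideal.eq_bot_or_top _).resolve_right
      (Ideal.IsPrime.ne_top (Ideal.IsPrime.under K P))
    have hQ : Q.under K = ⊥ := (Ideal.eq_bot_or_top _).resolve_right
      (Ideal.IsPrime.ne_top (Ideal.IsPrime.under K Q))
    rw [hP, hQ]
  exact Algebra.IsInvariant.exists_smul_of_under_eq_of_profinite (A := K)
    (B := SeparableClosure k ⊗[k] K) (G := SeparableClosure k ≃ₐ[k] SeparableClosure k) P Q hunder

end


open TensorProduct in
/-- Let K/k be a field extension and k^sep a separable algebraic closure of k. Then the automorphism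
group of k^sep over k acts transitively on the primes of k^sep ⊗_k K: for any two primes P, Q there
is a k-automorphism σ of k^sep with Q the inverse image of P under σ ⊗ id_K. -/
theorem result {k K : Type u} [Field k] [Field K] [Algebra k K]
    (P Q : Ideal (SeparableClosure k ⊗[k] K)) [P.IsPrime] [Q.IsPrime] :
    ∃ σ : SeparableClosure k ≃ₐ[k] SeparableClosure k, Q = P.comap (Algebra.TensorProduct.map (σ : SeparableClosure k →ₐ[k] SeparableClosure k) (AlgHom.id k K)) := by
  obtain ⟨g, hg⟩ := gal_transitive k K P Q
  refine ⟨g⁻¹, ?_⟩
  rw [hg]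
  ext t
  letI := galAction k K
  rw [Ideal.pointwise_smul_eq_comap, Ideal.mem_comap, Ideal.mem_comap]
  change g⁻¹ • t ∈ P ↔ _
  rw [gal_smul_def, actHom_apply_eq_map]

end Groth.Agent.S9647
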