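import Groth.Statements.S9648
import Mathlib
import Groth.Agent.Lib.Helper45.FibreAss

set_option autoImplicit false
universe u
open CAlg

namespace Groth.Agent.S9648

open TensorProduct in
/-- The inclusion, valid for any ring R: let R → S be a ring map, M an R-module and N an S-module which
is flat over R. For an associated prime p of M (a prime equal to the annihilator of an element) and
an associated prime Q of the fibre module N ⊗_R κ(p) over the fibre ring S ⊗_R κ(p), the inverse
image of Q in S is an associated prime of N ⊗_R M. -/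
theorem result {R S : Type u} [CommRing R] [CommRing S] [Algebra R S] (M : Type u) [AddCommGroup M] [Module R M] (N : Type u) [AddCommGroup N] [Module S N] [Module R N] [IsScalarTower R S N] [Module.Flat R N]
    (p : Ideal R) [p.IsPrime] (hp : p ∈ FlatCA.ass R M) (Q : Ideal (p.Fiber S)) (hQ : Q ∈ FlatCA.ass (p.Fiber S) (FlatCA.fiberMod p S N)) :
    Q.comap (Algebra.TensorProduct.includeRight (R := R) (A := p.ResidueField) (B := S)).toRingHom ∈ FlatCA.ass S (N ⊗[R] M) := by
  open Groth.Agent.Lib.Helper45.FibreAss in
  have h1 : Q.comap (Algebra.TensorProduct.includeRight (R := R) (A := p.ResidueField) (B := S)).toRingHom ∈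
      FlatCA.ass S (FlatCA.fiberMod p S N) := (mem_ass_fibre_iff N p _).mpr ⟨Q, hQ, rfl⟩
  have h1' : Q.comap (Algebra.TensorProduct.includeRight (R := R) (A := p.ResidueField) (B := S)).toRingHom ∈
      FlatCA.ass S (N ⊗[R] (R ⧸ p)) := by
    rw [Groth.Agent.Lib.Helper45.FibreAss.ass_tensor_quotient N p,
      Groth.Agent.Lib.Helper45.FibreAss.ass_quotient_eq_ass_fibre_of_flat N p]
    exact h1
  -- `R ⧸ p ↪ M`
  obtain ⟨hp', m, hm⟩ := (Groth.Agent.Lib.Helper45.FibreAss.mem_ass_iff p).mp hp
  let g : (R ⧸ p) →ₗ[R] M := Submodule.liftQ p (LinearMap.toSpanSingleton R M m) (by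
    intro r hr
    rw [LinearMap.mem_ker, LinearMap.toSpanSingleton_apply]
    exact (hm r).mp hr)
  have hg : Function.Injective g := by
    rw [← LinearMap.ker_eq_bot, LinearMap.ker_eq_bot']
    intro x hx
    obtain ⟨r, rfl⟩ := Ideal.Quotient.mk_surjective x
    change LinearMap.toSpanSingleton R M m r = 0 at hx
    rw [LinearMap.toSpanSingleton_apply] at hx
    exact Ideal.Quotient.eq_zero_iff_mem.mpr ((hm r).mpr hx)
  have hg' : Function.Injective (TensorProduct.AlgebraTensorModule.lTensor S N g) :=
    Module.Flat.lTensor_preserves_injective_linearMap (M := N) g hg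
  exact Groth.Agent.Lib.Helper45.FibreAss.ass_subset_of_injective _ hg' h1'

end Groth.Agent.S9648
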