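import Groth.Statements.S9650
import Mathlib.FieldTheory.FinTrdeg
import Mathlib.FieldTheory.PrimitiveElement
import Mathlib.FieldTheory.IntermediateField.Adjoin.Basic
-- import your own Groth.Agent.* helpers here

set_option autoImplicit false
universe u
open CAlg

namespace Groth.Agent.S9650

/-- Let K/k be a finitely generated field extension that is separably generated, i.e. admits a
transcendence basis over whose generated subfield K is separable algebraic. Then K is generated over
k by finitely many elements x_1, …, x_r, y such that the x_i form a transcendence basis of K/k and y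
is separable over the subfield k(x_1, …, x_r). -/
theorem result {k K : Type u} [Field k] [Field K] [Algebra k K]
    (hfg : ∃ s : Finset K, IntermediateField.adjoin k (s : Set K) = ⊤)
    (hsep : ∃ (ι : Type u) (x : ι → K), IsTranscendenceBasis k x ∧ Algebra.IsSeparable (IntermediateField.adjoin k (Set.range x)) K) :
    ∃ (r : ℕ) (x : Fin r → K) (y : K), IsTranscendenceBasis k x ∧ IntermediateField.adjoin k (insert y (Set.range x)) = ⊤ ∧ IsSeparable (IntermediateField.adjoin k (Set.range x)) y := by
  obtain ⟨s, hs⟩ := hfg
  obtain ⟨ι, x, hx, hsep⟩ := hsep
  have hFT : FinTrdeg k K := ⟨⟨⊤, ⟨s, hs⟩, inferInstance⟩⟩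
  have hfin : Finite ι := finite_of_isTranscendenceBasis hx
  have h1 : IntermediateField.adjoin (IntermediateField.adjoin k (Set.range x)) (s : Set K) = ⊤ := by
    apply IntermediateField.restrictScalars_injective k
    rw [IntermediateField.adjoin_adjoin_left, IntermediateField.restrictScalars_top, eq_top_iff,
      ← hs]
    exact IntermediateField.adjoin.mono _ _ _ Set.subset_union_right
  have hFD : FiniteDimensional (IntermediateField.adjoin k (Set.range x)) K := by
    have h2 := IntermediateField.finiteDimensional_adjoin
      (K := IntermediateField.adjoin k (Set.range x)) (S := (s : Set K))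
      (fun z _ => (Algebra.IsSeparable.isIntegral _ z))
    rw [h1] at h2
    exact IntermediateField.topEquiv.toLinearEquiv.finiteDimensional
  obtain ⟨y, hy⟩ := Field.exists_primitive_element (IntermediateField.adjoin k (Set.range x)) K
  obtain ⟨r, ⟨e⟩⟩ := Finite.exists_equiv_fin ι
  have hrange : Set.range (x ∘ e.symm) = Set.range x := EquivLike.range_comp x e.symm
  refine ⟨r, x ∘ e.symm, y, hx.comp_equiv e.symm, ?_, ?_⟩
  · rw [hrange]
    have h3 := congrArg (IntermediateField.restrictScalars k) hy
    rw [IntermediateField.adjoin_adjoin_left, IntermediateField.restrictScalars_top] at h3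
    rw [← h3, Set.union_singleton]
  · rw [hrange]
    exact Algebra.IsSeparable.isSeparable _ y

end Groth.Agent.S9650
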