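import Groth.Statements.S9652
import Mathlib
-- import your own Groth.Agent.* helpers here

set_option autoImplicit false
universe u
open CAlg

namespace Groth.Agent.S9652

section Aux

variable {X : Type*} [TopologicalSpace X]

/-- A set which is a finite union of locally closed sets. -/
def FinLC (s : Set X) : Prop :=
  ∃ F : Set (Set X), F.Finite ∧ (∀ L ∈ F, IsLocallyClosed L) ∧ s = ⋃₀ F

theorem FinLC.union {s t : Set X} (hs : FinLC s) (ht : FinLC t) : FinLC (s ∪ t) := by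
  obtain ⟨F, hF, hFl, rfl⟩ := hs
  obtain ⟨G, hG, hGl, rfl⟩ := ht
  refine ⟨F ∪ G, hF.union hG, ?_, (Set.sUnion_union F G).symm⟩
  intro L hL
  rcases hL with h | h
  · exact hFl L h
  · exact hGl L h

theorem FinLC.inter {s t : Set X} (hs : FinLC s) (ht : FinLC t) : FinLC (s ∩ t) := by
  obtain ⟨F, hF, hFl, rfl⟩ := hs
  obtain ⟨G, hG, hGl, rfl⟩ := ht
  refine ⟨Set.image2 (· ∩ ·) F G, hF.image2 _ hG, ?_, ?_⟩
  · rintro _ ⟨L, hL, M, hM, rfl⟩
    exact (hFl L hL).inter (hGl M hM)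
  · ext x
    simp only [Set.mem_inter_iff, Set.mem_sUnion, Set.mem_image2]
    constructor
    · rintro ⟨⟨L, hL, hxL⟩, ⟨M, hM, hxM⟩⟩
      exact ⟨L ∩ M, ⟨L, hL, M, hM, rfl⟩, hxL, hxM⟩
    · rintro ⟨_, ⟨L, hL, M, hM, rfl⟩, hxL, hxM⟩
      exact ⟨⟨L, hL, hxL⟩, ⟨M, hM, hxM⟩⟩

theorem FinLC.of_isLocallyClosed {s : Set X} (hs : IsLocallyClosed s) : FinLC s :=
  ⟨{s}, Set.finite_singleton s, by rintro L (rfl : L = s); exact hs, (Set.sUnion_singleton s).symm⟩

theorem FinLC.compl_of_isLocallyClosed {s : Set X} (hs : IsLocallyClosed s) : FinLC sᶜ := by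
  obtain ⟨U, C, hU, hC, rfl⟩ := hs
  rw [Set.compl_inter]
  exact (FinLC.of_isLocallyClosed hU.isClosed_compl.isLocallyClosed).union
    (FinLC.of_isLocallyClosed hC.isOpen_compl.isLocallyClosed)

theorem FinLC.compl_sUnion (F : Set (Set X)) (hF : F.Finite) :
    (∀ L ∈ F, IsLocallyClosed L) → FinLC (⋃₀ F)ᶜ := by
  refine Set.Finite.induction_on
    (motive := fun F _ => (∀ L ∈ F, IsLocallyClosed L) → FinLC (⋃₀ F)ᶜ) F hF ?_ ?_
  · intro _
    rw [Set.sUnion_empty, Set.compl_empty]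
    exact FinLC.of_isLocallyClosed isOpen_univ.isLocallyClosed
  · intro L F _ _ ih hFl
    rw [Set.sUnion_insert, Set.compl_union]
    exact (FinLC.compl_of_isLocallyClosed (hFl _ (Set.mem_insert _ _))).inter
      (ih (fun M hM => hFl M (Set.mem_insert_of_mem _ hM)))

theorem finLC_of_isConstructible {s : Set X} (hs : Topology.IsConstructible s) : FinLC s := by
  induction hs using Topology.IsConstructible.empty_union_induction with
  | open_retrocompact U hU _ => exact FinLC.of_isLocallyClosed hU.isLocallyClosed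
  | union s _ t _ hs ht => exact hs.union ht
  | compl s _ hs =>
    obtain ⟨F, hF, hFl, rfl⟩ := hs
    exact FinLC.compl_sUnion F hF hFl

theorem isClosed_singleton_of_closed_in {Y : Type*} [TopologicalSpace Y] [JacobsonSpace Y]
    {E : Set Y} (hE : FinLC E) {y : Y} (hy : y ∈ E) (hyE : closure {y} ∩ E = {y}) :
    IsClosed ({y} : Set Y) := by
  obtain ⟨F, hF, hFl, rfl⟩ := hE
  obtain ⟨L, hL, hyL⟩ := hy
  obtain ⟨U, C, hU, hC, rfl⟩ := hFl L hL
  apply isClosed_singleton_of_isLocallyClosed_singleton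
  refine ⟨U, closure {y}, hU, isClosed_closure, ?_⟩
  apply Set.Subset.antisymm
  · intro z hz
    rw [Set.mem_singleton_iff] at hz
    rw [hz]
    exact ⟨hyL.1, subset_closure rfl⟩
  · rintro z ⟨hzU, hzc⟩
    have hzC : z ∈ C :=
      (hC.closure_subset_iff.mpr (Set.singleton_subset_iff.mpr hyL.2)) hzc
    have : z ∈ closure {y} ∩ ⋃₀ F := ⟨hzc, ⟨U ∩ C, hL, hzU, hzC⟩⟩
    rw [hyE] at this
    exact this

theorem exists_closed_point_in_fiber {X Y : Type*} [TopologicalSpace X] [TopologicalSpace Y]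
    [JacobsonSpace Y] {f : Y → X} (hf : Continuous f) {E : Set Y} (hE : FinLC E) {x : X}
    (hx : x ∈ f '' E) (hxE : closure {x} ∩ f '' E = {x}) :
    ∃ y ∈ E, IsClosed ({y} : Set Y) ∧ f y = x := by
  obtain ⟨F, hF, hFl, rfl⟩ := hE
  obtain ⟨y0, ⟨L, hL, hy0L⟩, rfl⟩ := hx
  have hZ : IsLocallyClosed (f ⁻¹' closure {f y0} ∩ L) :=
    (isClosed_closure.preimage hf).isLocallyClosed.inter (hFl L hL)
  obtain ⟨y, ⟨hy1, hyL⟩, hyc⟩ :=
    nonempty_inter_closedPoints (Z := f ⁻¹' closure {f y0} ∩ L)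
      ⟨y0, subset_closure rfl, hy0L⟩ hZ
  refine ⟨y, ⟨L, hL, hyL⟩, hyc, ?_⟩
  have : f y ∈ closure {f y0} ∩ f '' ⋃₀ F := ⟨hy1, ⟨y, ⟨L, hL, hyL⟩, rfl⟩⟩
  rw [hxE] at this
  exact this

theorem isClosed_comap_of_isClosed {R S : Type*} [CommRing R] [CommRing S] [Algebra R S]
    [IsJacobsonRing R] [Algebra.FiniteType R S] (y : PrimeSpectrum S)
    (hy : IsClosed ({y} : Set (PrimeSpectrum S))) :
    IsClosed ({PrimeSpectrum.comap (algebraMap R S) y} : Set (PrimeSpectrum R)) := by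
  rw [PrimeSpectrum.isClosed_singleton_iff_isMaximal] at hy ⊢
  haveI := hy
  letI : Field (S ⧸ y.asIdeal) := Ideal.Quotient.field y.asIdeal
  haveI : Algebra.FiniteType R (S ⧸ y.asIdeal) :=
    Algebra.FiniteType.of_surjective (Ideal.Quotient.mkₐ R y.asIdeal)
      (Ideal.Quotient.mkₐ_surjective R y.asIdeal)
  haveI : Module.Finite R (S ⧸ y.asIdeal) :=
    finite_of_finite_type_of_isJacobsonRing R (S ⧸ y.asIdeal)
  haveI : (⊥ : Ideal (S ⧸ y.asIdeal)).IsMaximal := Ideal.bot_isMaximal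
  have h1 := Ideal.isMaximal_comap_of_isIntegral_of_isMaximal (R := R)
    (⊥ : Ideal (S ⧸ y.asIdeal))
  have heq : (PrimeSpectrum.comap (algebraMap R S) y).asIdeal =
      Ideal.comap (algebraMap R (S ⧸ y.asIdeal)) ⊥ := by
    ext r
    show algebraMap R S r ∈ y.asIdeal ↔ algebraMap R (S ⧸ y.asIdeal) r ∈ (⊥ : Ideal _)
    rw [Ideal.mem_bot, ← Ideal.Quotient.mk_algebraMap, Ideal.Quotient.eq_zero_iff_mem]
  rw [heq]
  exact h1

end Aux

/-- Let R and S be Jacobson rings, R → S a ring map of finite type with induced map f : Spec(S) →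
Spec(R), and E ⊆ Spec(S) a constructible subset. Writing T₀ for the set of points of a subspace T
which are closed in T, one has f(E)₀ = f(E₀) = (Spec R)₀ ∩ f(E). -/
theorem result {R S : Type u} [CommRing R] [CommRing S] [Algebra R S] [IsJacobsonRing R] [IsJacobsonRing S] [Algebra.FiniteType R S]
    (E : Set (PrimeSpectrum S)) (hE : Topology.IsConstructible E) :
    {x | x ∈ PrimeSpectrum.comap (algebraMap R S) '' E ∧ closure {x} ∩ PrimeSpectrum.comap (algebraMap R S) '' E = {x}} =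
        PrimeSpectrum.comap (algebraMap R S) '' {y | y ∈ E ∧ closure {y} ∩ E = {y}} ∧
      PrimeSpectrum.comap (algebraMap R S) '' {y | y ∈ E ∧ closure {y} ∩ E = {y}} =
        {x | IsClosed ({x} : Set (PrimeSpectrum R))} ∩ PrimeSpectrum.comap (algebraMap R S) '' E := by
  have hEf := finLC_of_isConstructible hE
  have hcont : Continuous (PrimeSpectrum.comap (algebraMap R S)) :=
    PrimeSpectrum.continuous_comap _
  have hA : ∀ y, y ∈ E → closure {y} ∩ E = {y} → IsClosed ({y} : Set (PrimeSpectrum S)) :=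
    fun y hy h => isClosed_singleton_of_closed_in hEf hy h
  have hB : ∀ y : PrimeSpectrum S, IsClosed ({y} : Set (PrimeSpectrum S)) →
      IsClosed ({PrimeSpectrum.comap (algebraMap R S) y} : Set (PrimeSpectrum R)) :=
    fun y hy => isClosed_comap_of_isClosed (R := R) y hy
  have hC : ∀ x, x ∈ PrimeSpectrum.comap (algebraMap R S) '' E →
      closure {x} ∩ PrimeSpectrum.comap (algebraMap R S) '' E = {x} →
      ∃ y ∈ E, IsClosed ({y} : Set (PrimeSpectrum S)) ∧
        PrimeSpectrum.comap (algebraMap R S) y = x :=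
    fun x hx h => exists_closed_point_in_fiber hcont hEf hx h
  have hE0 : ∀ y, y ∈ E → IsClosed ({y} : Set (PrimeSpectrum S)) →
      closure {y} ∩ E = {y} := by
    intro y hy hc
    rw [hc.closure_eq]
    exact Set.inter_eq_left.mpr (Set.singleton_subset_iff.mpr hy)
  have hX0 : ∀ x, x ∈ PrimeSpectrum.comap (algebraMap R S) '' E →
      IsClosed ({x} : Set (PrimeSpectrum R)) →
      closure {x} ∩ PrimeSpectrum.comap (algebraMap R S) '' E = {x} := by
    intro x hx hc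
    rw [hc.closure_eq]
    exact Set.inter_eq_left.mpr (Set.singleton_subset_iff.mpr hx)
  constructor
  · ext x
    constructor
    · rintro ⟨hx, hxc⟩
      obtain ⟨y, hyE, hyc, rfl⟩ := hC x hx hxc
      exact ⟨y, ⟨hyE, hE0 y hyE hyc⟩, rfl⟩
    · rintro ⟨y, ⟨hyE, hyc⟩, rfl⟩
      have h1 := hA y hyE hyc
      have h2 := hB y h1
      exact ⟨⟨y, hyE, rfl⟩, hX0 _ ⟨y, hyE, rfl⟩ h2⟩
  · ext x
    constructor
    · rintro ⟨y, ⟨hyE, hyc⟩, rfl⟩
      exact ⟨hB y (hA y hyE hyc), ⟨y, hyE, rfl⟩⟩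
    · rintro ⟨hxc, hx⟩
      obtain ⟨y, hyE, hyc, rfl⟩ := hC x hx (hX0 x hx hxc)
      exact ⟨y, ⟨hyE, hE0 y hyE hyc⟩, rfl⟩

end Groth.Agent.S9652
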