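import Groth.Statements.S9653
import Groth.Agent.S9652
-- import your own Groth.Agent.* helpers here

set_option autoImplicit false
universe u
open CAlg

namespace Groth.Agent.S9653


open PrimeSpectrum Groth.Agent.S9652

/-- helper48: either there is a prime of `S` containing `I`, avoiding `h` and lying over `p`, or some
`r ∉ p` kills a power of `h` modulo `I + pS`. -/
theorem exists_prime_or_exists_elem {R S : Type*} [CommRing R] [CommRing S] [Algebra R S]
    (p : Ideal R) [hp : p.IsPrime] (I : Ideal S) (h : S) :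
    (∃ q : Ideal S, q.IsPrime ∧ I ≤ q ∧ h ∉ q ∧ q.comap (algebraMap R S) = p) ∨
    (∃ r : R, r ∉ p ∧ ∃ m : ℕ, algebraMap R S r * h ^ m ∈ I ⊔ p.map (algebraMap R S)) := by
  let J : Ideal S := I ⊔ p.map (algebraMap R S)
  let M : Submonoid S := Submonoid.map (algebraMap R S) p.primeCompl ⊔ Submonoid.powers h
  by_cases hd : Disjoint (J : Set S) (M : Set S)
  · left
    obtain ⟨q, hq, hJq, hqM⟩ := Ideal.exists_le_prime_disjoint J M hd
    have hqM' : ∀ a, a ∈ q → a ∉ M := fun a ha hM => Set.disjoint_left.1 hqM ha hM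
    refine ⟨q, hq, le_sup_left.trans hJq, ?_, ?_⟩
    · intro hh
      refine hqM' h hh ?_
      exact Submonoid.mem_sup_right (Submonoid.mem_powers h)
    · ext r
      constructor
      · intro hr
        by_contra hrp
        have hr' : algebraMap R S r ∈ q := hr
        refine hqM' _ hr' ?_
        exact Submonoid.mem_sup_left (Submonoid.mem_map.2 ⟨r, hrp, rfl⟩)
      · intro hr
        show algebraMap R S r ∈ q
        exact hJq (le_sup_right (a := I) (Ideal.mem_map_of_mem _ hr))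
  · right
    obtain ⟨x, hxJ, hxM⟩ := Set.not_disjoint_iff.1 hd
    obtain ⟨y, hy, z, hz, rfl⟩ := Submonoid.mem_sup.1 hxM
    obtain ⟨r, hr, rfl⟩ := Submonoid.mem_map.1 hy
    obtain ⟨m, rfl⟩ := (Submonoid.mem_powers_iff _ _).1 hz
    exact ⟨r, hr, m, hxJ⟩

/-- Let R and S be Jacobson rings, R → S a ring map of finite type with induced map f : Spec(S) →
Spec(R), E ⊆ Spec(S) constructible and E₀ the set of points of E closed in E. Then a point ξ of
Spec(R) lies in f(E) if and only if cl{ξ} ∩ f(E₀) is dense in the closure cl{ξ}. -/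
theorem result {R S : Type u} [CommRing R] [CommRing S] [Algebra R S] [IsJacobsonRing R] [IsJacobsonRing S] [Algebra.FiniteType R S]
    (E : Set (PrimeSpectrum S)) (hE : Topology.IsConstructible E) (ξ : PrimeSpectrum R) :
    ξ ∈ PrimeSpectrum.comap (algebraMap R S) '' E ↔
      closure ({ξ} : Set (PrimeSpectrum R)) ⊆ closure (closure {ξ} ∩ PrimeSpectrum.comap (algebraMap R S) '' {y | y ∈ E ∧ closure {y} ∩ E = {y}}) := by
  classical
  have hcont : Continuous (PrimeSpectrum.comap (algebraMap R S)) :=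
    PrimeSpectrum.continuous_comap _
  constructor
  · rintro ⟨η, hηE, rfl⟩
    obtain ⟨F, hF, hFl, hEF⟩ := finLC_of_isConstructible hE
    have hηE' : η ∈ ⋃₀ F := hEF ▸ hηE
    obtain ⟨L, hL, hηL⟩ := hηE'
    refine isClosed_closure.closure_subset_iff.2 (Set.singleton_subset_iff.2 ?_)
    rw [mem_closure_iff]
    intro O hO hξO
    have hZ : IsLocallyClosed
        ((PrimeSpectrum.comap (algebraMap R S)) ⁻¹' O ∩ (closure {η} ∩ L)) :=
      (hO.preimage hcont).isLocallyClosed.inter
        (isClosed_closure.isLocallyClosed.inter (hFl L hL))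
    obtain ⟨y, ⟨hyO, hyη, hyL⟩, hyc⟩ :=
      nonempty_inter_closedPoints
        (Z := (PrimeSpectrum.comap (algebraMap R S)) ⁻¹' O ∩ (closure {η} ∩ L))
        ⟨η, hξO, subset_closure rfl, hηL⟩ hZ
    have hyc' : IsClosed ({y} : Set (PrimeSpectrum S)) := hyc
    have hyE : y ∈ E := by
      rw [hEF]
      exact ⟨L, hL, hyL⟩
    refine ⟨PrimeSpectrum.comap (algebraMap R S) y, hyO, ?_, ⟨y, ⟨hyE, ?_⟩, rfl⟩⟩
    · have h1 := image_closure_subset_closure_image hcont (s := {η}) ⟨y, hyη, rfl⟩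
      rwa [Set.image_singleton] at h1
    · rw [hyc'.closure_eq]
      exact Set.inter_eq_left.2 (Set.singleton_subset_iff.2 hyE)
  · intro hcl
    by_contra hne
    obtain ⟨𝒮, h𝒮⟩ := PrimeSpectrum.exists_constructibleSetData_iff.mpr hE
    have hr : ∀ C ∈ 𝒮, ∃ r : R, r ∉ ξ.asIdeal ∧ ∀ q : PrimeSpectrum S, q ∈ C.toSet →
        PrimeSpectrum.comap (algebraMap R S) q ∈ closure {ξ} →
        r ∈ (PrimeSpectrum.comap (algebraMap R S) q).asIdeal := by
      intro C hC
      rcases exists_prime_or_exists_elem ξ.asIdeal (Ideal.span (Set.range C.g)) C.f with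
        ⟨q, hq, hIq, hfq, hqp⟩ | ⟨r, hr, m, hm⟩
      · exfalso
        apply hne
        refine ⟨⟨q, hq⟩, ?_, PrimeSpectrum.ext hqp⟩
        rw [← h𝒮]
        refine Set.mem_iUnion₂.2 ⟨C, hC, ?_, ?_⟩
        · exact (PrimeSpectrum.mem_zeroLocus _ _).2 (fun x hx => hIq (Ideal.subset_span hx))
        · intro h
          exact hfq ((PrimeSpectrum.mem_zeroLocus _ _).1 h (Set.mem_singleton _))
      · refine ⟨r, hr, fun q hqC hqξ => ?_⟩
        have hg : Ideal.span (Set.range C.g) ≤ q.asIdeal :=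
          Ideal.span_le.2 ((PrimeSpectrum.mem_zeroLocus _ _).1 hqC.1)
        have hfq : C.f ∉ q.asIdeal := fun hf =>
          hqC.2 ((PrimeSpectrum.mem_zeroLocus _ _).2 (Set.singleton_subset_iff.2 hf))
        rw [PrimeSpectrum.closure_singleton, PrimeSpectrum.mem_zeroLocus] at hqξ
        have hpq : ξ.asIdeal.map (algebraMap R S) ≤ q.asIdeal :=
          Ideal.map_le_iff_le_comap.2 hqξ
        have hmq : algebraMap R S r * C.f ^ m ∈ q.asIdeal := (sup_le hg hpq) hm
        rcases q.isPrime.mem_or_mem hmq with h1 | h1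
        · exact h1
        · exact absurd (q.isPrime.mem_of_pow_mem m h1) hfq
    choose! r hr using hr
    have hclosed : IsClosed (⋃ C ∈ 𝒮, PrimeSpectrum.zeroLocus ({r C} : Set R)) :=
      isClosed_biUnion_finset (fun C _ => PrimeSpectrum.isClosed_zeroLocus _)
    have hsub : closure {ξ} ∩ PrimeSpectrum.comap (algebraMap R S) ''
        {y | y ∈ E ∧ closure {y} ∩ E = {y}} ⊆
        ⋃ C ∈ 𝒮, PrimeSpectrum.zeroLocus ({r C} : Set R) := by
      rintro x ⟨hxξ, y, ⟨hyE, -⟩, rfl⟩
      rw [← h𝒮] at hyE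
      obtain ⟨C, hC, hyC⟩ := Set.mem_iUnion₂.1 hyE
      refine Set.mem_iUnion₂.2 ⟨C, hC, ?_⟩
      exact (PrimeSpectrum.mem_zeroLocus _ _).2
        (Set.singleton_subset_iff.2 ((hr C hC).2 y hyC hxξ))
    have hξmem : ξ ∈ ⋃ C ∈ 𝒮, PrimeSpectrum.zeroLocus ({r C} : Set R) :=
      (closure_minimal hsub hclosed) (hcl (subset_closure rfl))
    obtain ⟨C, hC, hξC⟩ := Set.mem_iUnion₂.1 hξmem
    exact (hr C hC).1 ((PrimeSpectrum.mem_zeroLocus _ _).1 hξC (Set.mem_singleton _))

end Groth.Agent.S9653
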