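import Groth.Statements.S9654
import Mathlib

set_option autoImplicit false
universe u
open CAlg

namespace Groth.Agent.S9654

open Polynomial

section generic
variable {R : Type u} [CommRing R] {T : Type u} [CommRing T] [Algebra R T]

/-- `a^i * b^j` lies in the span of small powers when `a*b=1`. -/
theorem pow_mul_pow_mem (a b : T) (hab : a * b = 1) (n m i j : ℕ) (hi : i ≤ n) (hj : j ≤ m) :
    a ^ i * b ^ j ∈ Submodule.span R
      (Set.range (fun k : Fin (n + 1) => a ^ (k : ℕ)) ∪ Set.range (fun k : Fin (m + 1) => b ^ (k : ℕ))) := by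
  rcases le_total j i with h | h
  · have : a ^ i * b ^ j = a ^ (i - j) := by
      conv_lhs => rw [← Nat.sub_add_cancel h, pow_add, mul_assoc, ← mul_pow, hab, one_pow, mul_one]
    rw [this]
    exact Submodule.subset_span (Or.inl ⟨⟨i - j, by omega⟩, rfl⟩)
  · have : a ^ i * b ^ j = b ^ (j - i) := by
      conv_lhs => rw [← Nat.sub_add_cancel h, pow_add, ← mul_assoc, mul_comm (a ^ i), mul_assoc,
        mul_comm (a ^ i), ← mul_pow, mul_comm b a, hab, one_pow, mul_one]
    rw [this]
    exact Submodule.subset_span (Or.inr ⟨⟨j - i, by omega⟩, rfl⟩)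

theorem integral_of_mem_inter (a b : T) (hab : a * b = 1) (z : T)
    (hza : z ∈ Algebra.adjoin R {a}) (hzb : z ∈ Algebra.adjoin R {b}) : IsIntegral R z := by
  classical
  rw [Algebra.adjoin_singleton_eq_range_aeval, AlgHom.mem_range] at hza hzb
  obtain ⟨p, hp⟩ := hza
  obtain ⟨q, hq⟩ := hzb
  set n := p.natDegree with hn
  set m := q.natDegree with hm
  set M : Submodule R T := Submodule.span R
    (Set.range (fun k : Fin (n + 1) => a ^ (k : ℕ)) ∪ Set.range (fun k : Fin (m + 1) => b ^ (k : ℕ)))
    with hM
  have hMfg : M.FG := Submodule.fg_span ((Set.finite_range _).union (Set.finite_range _))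
  have h1 : (1 : T) ∈ M := Submodule.subset_span (Or.inl ⟨⟨0, by omega⟩, by simp⟩)
  have hzM : ∀ v ∈ M, z * v ∈ M := by
    intro v hv
    refine Submodule.span_induction ?_ ?_ ?_ ?_ hv
    · rintro _ (⟨k, rfl⟩ | ⟨k, rfl⟩)
      · -- z * a^k with z = q(b)
        rw [← hq, aeval_eq_sum_range, Finset.sum_mul]
        apply Submodule.sum_mem
        intro j hj
        rw [Finset.mem_range] at hj
        rw [smul_mul_assoc, mul_comm]
        exact Submodule.smul_mem _ _ (pow_mul_pow_mem a b hab n m k j (by omega) (by omega))
      · rw [← hp, aeval_eq_sum_range, Finset.sum_mul]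
        apply Submodule.sum_mem
        intro i hi
        rw [Finset.mem_range] at hi
        rw [smul_mul_assoc]
        exact Submodule.smul_mem _ _ (pow_mul_pow_mem a b hab n m i k (by omega) (by omega))
    · simp
    · intro v w _ _ hv hw
      rw [mul_add]; exact Submodule.add_mem _ hv hw
    · intro r v _ hv
      rw [mul_smul_comm]; exact Submodule.smul_mem _ _ hv
  haveI : Module.Finite R M := Module.Finite.iff_fg.mpr hMfg
  let φ : Module.End R M := (LinearMap.mulLeft R z).restrict hzM
  obtain ⟨P, hPm, hP0⟩ := LinearMap.exists_monic_and_aeval_eq_zero R φ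
  have hpow : ∀ (k : ℕ) (v : M), (((φ ^ k) v : M) : T) = z ^ k * (v : T) := by
    intro k
    induction k with
    | zero => intro v; simp
    | succ k ih =>
      intro v
      rw [pow_succ, Module.End.mul_apply, ih]
      show z ^ k * (z * (v : T)) = z ^ (k + 1) * (v : T)
      ring
  refine ⟨P, hPm, ?_⟩
  have h2 : (((aeval φ P) ⟨1, h1⟩ : M) : T) = aeval z P := by
    rw [aeval_eq_sum_range, aeval_eq_sum_range]
    simp only [LinearMap.sum_apply, LinearMap.smul_apply, Submodule.coe_sum, Submodule.coe_smul, hpow,
      mul_one]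
  rw [hP0] at h2
  show eval₂ (algebraMap R T) z P = 0
  rw [← aeval_def]
  exact h2.symm

theorem inter_le (a b : T) (hab : a * b = 1) (L : Type u) [CommRing L] [Algebra R L]
    [IsIntegrallyClosedIn R L] (ψ : L →ₐ[R] T) (hψ : Function.Injective ψ) (hb : b ∈ ψ.range) :
    (Algebra.adjoin R {a}).toSubmodule ⊓ (Algebra.adjoin R {b}).toSubmodule ≤
      (⊥ : Subalgebra R T).toSubmodule := by
  intro z hz
  rw [Submodule.mem_inf] at hz
  obtain ⟨hza, hzb⟩ := hz
  have hint := integral_of_mem_inter a b hab z hza hzb
  have hzr : z ∈ ψ.range := by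
    have : Algebra.adjoin R {b} ≤ ψ.range := Algebra.adjoin_le (by simpa using hb)
    exact this hzb
  obtain ⟨z', hz'⟩ := hzr
  have hz'' : ψ z' = z := hz'
  have hint' : IsIntegral R z' := by
    obtain ⟨P, hPm, hP0⟩ := hint
    refine ⟨P, hPm, hψ ?_⟩
    rw [map_zero, ← hP0, ← hz'', ← aeval_def, ← aeval_def, aeval_algHom_apply]
  obtain ⟨r, hr⟩ := IsIntegrallyClosedIn.isIntegral_iff.mp hint'
  rw [Subalgebra.mem_toSubmodule, Algebra.mem_bot]
  exact ⟨r, by rw [← hz'', ← hr, AlgHom.commutes]⟩

theorem sup_eq (a b : T) (hab : a * b = 1) :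
    (Algebra.adjoin R {a}).toSubmodule ⊔ (Algebra.adjoin R {b}).toSubmodule =
      (Algebra.adjoin R {a, b}).toSubmodule := by
  apply le_antisymm
  · apply sup_le
    · exact Subalgebra.toSubmodule.monotone (Algebra.adjoin_mono (by simp))
    · exact Subalgebra.toSubmodule.monotone (Algebra.adjoin_mono (by simp))
  · set N := (Algebra.adjoin R {a}).toSubmodule ⊔ (Algebra.adjoin R {b}).toSubmodule with hN
    have haA : a ∈ Algebra.adjoin R {a} := Algebra.subset_adjoin (Set.mem_singleton a)
    have hbB : b ∈ Algebra.adjoin R {b} := Algebra.subset_adjoin (Set.mem_singleton b)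
    have hpp : ∀ i j : ℕ, a ^ i * b ^ j ∈ N := by
      intro i j
      rcases le_total j i with h | h
      · have : a ^ i * b ^ j = a ^ (i - j) := by
          conv_lhs => rw [← Nat.sub_add_cancel h, pow_add, mul_assoc, ← mul_pow, hab, one_pow,
            mul_one]
        rw [this]
        have h' : a ^ (i - j) ∈ Algebra.adjoin R {a} := Subalgebra.pow_mem _ haA _
        exact Submodule.mem_sup_left ((Subalgebra.mem_toSubmodule _).mpr h')
      · have : a ^ i * b ^ j = b ^ (j - i) := by
          conv_lhs => rw [← Nat.sub_add_cancel h, pow_add, ← mul_assoc, mul_comm (a ^ i), mul_assoc,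
            mul_comm (a ^ i), ← mul_pow, mul_comm b a, hab, one_pow, mul_one]
        rw [this]
        have h' : b ^ (j - i) ∈ Algebra.adjoin R {b} := Subalgebra.pow_mem _ hbB _
        exact Submodule.mem_sup_right ((Subalgebra.mem_toSubmodule _).mpr h')
    have hAB : ∀ u ∈ Algebra.adjoin R {a}, ∀ v ∈ Algebra.adjoin R {b}, u * v ∈ N := by
      intro u hu v hv
      rw [Algebra.adjoin_singleton_eq_range_aeval, AlgHom.mem_range] at hu hv
      obtain ⟨p, rfl⟩ := hu
      obtain ⟨q, rfl⟩ := hv
      rw [aeval_eq_sum_range, aeval_eq_sum_range, Finset.sum_mul_sum]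
      apply Submodule.sum_mem
      intro i _
      apply Submodule.sum_mem
      intro j _
      rw [smul_mul_smul_comm]
      exact Submodule.smul_mem _ _ (hpp i j)
    have hNN : ∀ u ∈ N, ∀ v ∈ N, u * v ∈ N := by
      intro u hu v hv
      obtain ⟨u1, hu1, u2, hu2, rfl⟩ := Submodule.mem_sup.mp hu
      obtain ⟨v1, hv1, v2, hv2, rfl⟩ := Submodule.mem_sup.mp hv
      have e : (u1 + u2) * (v1 + v2) = u1 * v1 + u1 * v2 + (v1 * u2 + u2 * v2) := by ring
      rw [e]
      refine Submodule.add_mem _ (Submodule.add_mem _ ?_ ?_) (Submodule.add_mem _ ?_ ?_)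
      · exact Submodule.mem_sup_left ((Subalgebra.mem_toSubmodule _).mpr
          (Subalgebra.mul_mem _ ((Subalgebra.mem_toSubmodule _).mp hu1) ((Subalgebra.mem_toSubmodule _).mp hv1)))
      · exact hAB u1 hu1 v2 hv2
      · exact hAB v1 hv1 u2 hu2
      · exact Submodule.mem_sup_right ((Subalgebra.mem_toSubmodule _).mpr
          (Subalgebra.mul_mem _ ((Subalgebra.mem_toSubmodule _).mp hu2) ((Subalgebra.mem_toSubmodule _).mp hv2)))
    intro z hz
    rw [Subalgebra.mem_toSubmodule] at hz
    refine Algebra.adjoin_induction ?_ ?_ ?_ ?_ hz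
    · rintro w (rfl | rfl)
      · exact Submodule.mem_sup_left ((Subalgebra.mem_toSubmodule _).mpr haA)
      · exact Submodule.mem_sup_right ((Subalgebra.mem_toSubmodule _).mpr hbB)
    · intro r
      exact Submodule.mem_sup_left ((Subalgebra.mem_toSubmodule _).mpr (Subalgebra.algebraMap_mem _ r))
    · intro u v _ _ hu hv
      exact Submodule.add_mem _ hu hv
    · intro u v _ _ hu hv
      exact hNN u hu v hv

end generic

section special
variable {R : Type u} [CommRing R]

/-- the comparison map `R_x → R_{xy}` and its properties -/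
theorem exists_psi' (x y c : R) (hc : c = x * y) (hx : x ∈ nonZeroDivisors R)
    (hy : y ∈ nonZeroDivisors R) :
    ∃ ψ : Localization.Away x →ₐ[R] Localization.Away c, Function.Injective ψ ∧
      (algebraMap R (Localization.Away c) (y * y) *
        IsLocalization.Away.invSelf c) ∈ ψ.range := by
  subst hc
  set T := Localization.Away (x * y) with hT
  set u : T := IsLocalization.Away.invSelf (x * y) with hu
  have hxyu : algebraMap R T (x * y) * u = 1 := IsLocalization.Away.mul_invSelf (x * y)
  have hxinv : algebraMap R T x * (algebraMap R T y * u) = 1 := by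
    rw [← mul_assoc, ← map_mul]; exact hxyu
  have hunit : ∀ s : Submonoid.powers x, IsUnit ((Algebra.ofId R T) (s : R)) := by
    rintro ⟨_, n, rfl⟩
    simp only [Algebra.ofId_apply, map_pow]
    exact (IsUnit.of_mul_eq_one _ hxinv).pow n
  let ψ : Localization.Away x →ₐ[R] T := IsLocalization.liftAlgHom (M := Submonoid.powers x)
    (f := Algebra.ofId R T) hunit
  have hψalg : ∀ r : R, ψ (algebraMap R (Localization.Away x) r) = algebraMap R T r := by
    intro r
    exact ψ.commutes r
  have hinj : Function.Injective (algebraMap R T) := by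
    apply IsLocalization.injective T (M := Submonoid.powers (x * y))
    exact Submonoid.powers_le.mpr (mul_mem hx hy)
  refine ⟨ψ, ?_, ?_⟩
  · rw [injective_iff_map_eq_zero]
    intro w hw
    obtain ⟨⟨r, s⟩, hrs⟩ := IsLocalization.surj (Submonoid.powers x) w
    simp only at hrs
    have h1 : ψ w * ψ (algebraMap R (Localization.Away x) (s : R)) =
        ψ (algebraMap R (Localization.Away x) r) := by rw [← map_mul, hrs]
    rw [hw, zero_mul, hψalg] at h1
    have hr0 : r = 0 := hinj (by rw [← h1, map_zero])
    rw [hr0, map_zero] at hrs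
    exact (IsLocalization.map_units (Localization.Away x) s).mul_left_eq_zero.mp hrs
  · refine ⟨algebraMap R (Localization.Away x) y * IsLocalization.Away.invSelf x, ?_⟩
    have h2 : ψ (IsLocalization.Away.invSelf x) * algebraMap R T x = 1 := by
      have h4 : IsLocalization.Away.invSelf x * algebraMap R (Localization.Away x) x = 1 := by
        rw [mul_comm]; exact IsLocalization.Away.mul_invSelf x
      rw [← hψalg, ← map_mul, h4, map_one]
    have h3 : ψ (IsLocalization.Away.invSelf x) = algebraMap R T y * u := by
      calc ψ (IsLocalization.Away.invSelf x)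
          = ψ (IsLocalization.Away.invSelf x) * (algebraMap R T x * (algebraMap R T y * u)) := by
            rw [hxinv, mul_one]
        _ = (ψ (IsLocalization.Away.invSelf x) * algebraMap R T x) * (algebraMap R T y * u) := by
            ring
        _ = algebraMap R T y * u := by rw [h2, one_mul]
    show ψ (algebraMap R (Localization.Away x) y * IsLocalization.Away.invSelf x) = _
    rw [map_mul, hψalg, h3, map_mul]
    ring

end special
/-- Let R be a ring and x, y ∈ R nonzerodivisors. In the localization R_{xy} let a = x/y and b = y/x,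
and let R[a], R[b], R[a, b] be the R-subalgebras they generate. If R is integrally closed in R_x or
in R_y, then the sequence 0 → R → R[a] ⊕ R[b] → R[a, b] → 0 (difference map, then sum map) is short
exact; equivalently R[a] ∩ R[b] is the image of R and R[a] + R[b] = R[a, b] inside R_{xy}. -/
theorem result {R : Type u} [CommRing R] (x y : R) (hx : x ∈ nonZeroDivisors R) (hy : y ∈ nonZeroDivisors R)
    (hint : IsIntegrallyClosedIn R (Localization.Away x) ∨ IsIntegrallyClosedIn R (Localization.Away y)) :
    (Algebra.adjoin R {algebraMap R (Localization.Away (x * y)) (x * x) * IsLocalization.Away.invSelf (x * y)}).toSubmodule ⊓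
        (Algebra.adjoin R {algebraMap R (Localization.Away (x * y)) (y * y) * IsLocalization.Away.invSelf (x * y)}).toSubmodule =
        (⊥ : Subalgebra R (Localization.Away (x * y))).toSubmodule ∧
      (Algebra.adjoin R {algebraMap R (Localization.Away (x * y)) (x * x) * IsLocalization.Away.invSelf (x * y)}).toSubmodule ⊔
        (Algebra.adjoin R {algebraMap R (Localization.Away (x * y)) (y * y) * IsLocalization.Away.invSelf (x * y)}).toSubmodule =
        (Algebra.adjoin R {algebraMap R (Localization.Away (x * y)) (x * x) * IsLocalization.Away.invSelf (x * y), algebraMap R (Localization.Away (x * y)) (y * y) * IsLocalization.Away.invSelf (x * y)}).toSubmodule := by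
  set T := Localization.Away (x * y) with hT
  set u : T := IsLocalization.Away.invSelf (x * y) with hu
  have hxyu : algebraMap R T (x * y) * u = 1 := IsLocalization.Away.mul_invSelf (x * y)
  set a : T := algebraMap R T (x * x) * u with ha
  set b : T := algebraMap R T (y * y) * u with hb
  have hab : a * b = 1 := by
    have : a * b = (algebraMap R T (x * y) * u) * (algebraMap R T (x * y) * u) := by
      simp only [ha, hb, map_mul]; ring
    rw [this, hxyu, mul_one]
  have hba : b * a = 1 := by rw [mul_comm]; exact hab
  refine ⟨?_, sup_eq a b hab⟩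
  apply le_antisymm
  · rcases hint with h | h
    · obtain ⟨ψ, hψ, hbr⟩ := exists_psi' x y (x * y) rfl hx hy
      exact inter_le a b hab (Localization.Away x) ψ hψ hbr
    · obtain ⟨ψ, hψ, har⟩ := exists_psi' y x (x * y) (mul_comm x y) hy hx
      rw [inf_comm]
      exact inter_le b a hba (Localization.Away y) ψ hψ har
  · exact le_inf (Subalgebra.toSubmodule.monotone bot_le) (Subalgebra.toSubmodule.monotone bot_le)

end Groth.Agent.S9654
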