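import Groth.Statements.S9655
import Mathlib

set_option autoImplicit false
universe u
open CAlg

namespace Groth.Agent.S9655

open IsLocalRing

theorem result {R S : Type u} [CommRing R] [CommRing S] [Algebra R S] [IsLocalRing R] [IsLocalRing S] [Algebra.EssFiniteType R S] :
    ∃ (n : ℕ) (m : Ideal (MvPolynomial (Fin n) R)) (_ : m.IsMaximal), m.under R = IsLocalRing.maximalIdeal R ∧
      ∃ (φ : Localization.AtPrime m →ₐ[R] S) (T : Submonoid φ.range), IsLocalization T S := by
  classical
  obtain ⟨σ, hσ⟩ := (Algebra.essFiniteType_iff (R := R) (S := S)).mp inferInstance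
  -- valuation ring
  obtain ⟨V, hV, hVloc⟩ := IsLocalRing.exists_factor_valuationRing
    ((residue S).comp (algebraMap R S))
  -- modified generators
  let inv' : S → S := fun s => if IsUnit s ∧ residue S s ∉ V then Ring.inverse s else s
  have hinv'V : ∀ s, residue S (inv' s) ∈ V := by
    intro s
    by_cases h : IsUnit s ∧ residue S s ∉ V
    · simp only [inv', if_pos h]
      obtain ⟨⟨u, rfl⟩, h2⟩ := h
      rw [Ring.inverse_unit]
      have h1 : residue S ((u⁻¹ : Sˣ) : S) = (residue S (u : S))⁻¹ := by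
        apply eq_inv_of_mul_eq_one_left
        rw [← map_mul, Units.inv_mul, map_one]
      rw [h1]
      exact (V.mem_or_inv_mem _).resolve_left h2
    · simp only [inv', if_neg h]
      rw [not_and_or, not_not] at h
      rcases h with h | h
      · have : residue S s = 0 := by
          rwa [residue_eq_zero_iff, mem_maximalIdeal, mem_nonunits_iff]
        rw [this]; exact V.zero_mem
      · exact h
  obtain ⟨σ', hσ'⟩ : ∃ σ' : Finset S, σ' = σ.image inv' := ⟨_, rfl⟩
  obtain ⟨B', hB'⟩ : ∃ B' : Subalgebra R S, B' = Algebra.adjoin R (σ' : Set S) := ⟨_, rfl⟩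
  have hgen : ∀ s ∈ σ, ∃ t ∈ B', IsUnit t ∧ s * t ∈ B' := by
    intro s hs
    have hmem : inv' s ∈ B' := by
      rw [hB']; apply Algebra.subset_adjoin
      rw [hσ']; exact Finset.mem_coe.mpr (Finset.mem_image_of_mem _ hs)
    by_cases h : IsUnit s ∧ residue S s ∉ V
    · simp only [inv', if_pos h] at hmem
      obtain ⟨⟨u, rfl⟩, h2⟩ := h
      rw [Ring.inverse_unit] at hmem
      exact ⟨_, hmem, (u⁻¹).isUnit, by rw [Units.mul_inv]; exact B'.one_mem⟩
    · simp only [inv', if_neg h] at hmem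
      exact ⟨1, B'.one_mem, isUnit_one, by rwa [mul_one]⟩
  have hstar : ∀ x ∈ Algebra.adjoin R (σ : Set S), ∃ t ∈ B', IsUnit t ∧ x * t ∈ B' := by
    intro x hx
    induction hx using Algebra.adjoin_induction with
    | mem s hs => exact hgen s hs
    | algebraMap r => exact ⟨1, B'.one_mem, isUnit_one, by rw [mul_one]; exact B'.algebraMap_mem r⟩
    | add x y _ _ hx hy =>
      obtain ⟨t, ht, htu, hxt⟩ := hx
      obtain ⟨u, hu, huu, hyu⟩ := hy
      refine ⟨t * u, B'.mul_mem ht hu, htu.mul huu, ?_⟩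
      have : (x + y) * (t * u) = (x * t) * u + (y * u) * t := by ring
      rw [this]
      exact B'.add_mem (B'.mul_mem hxt hu) (B'.mul_mem hyu ht)
    | mul x y _ _ hx hy =>
      obtain ⟨t, ht, htu, hxt⟩ := hx
      obtain ⟨u, hu, huu, hyu⟩ := hy
      refine ⟨t * u, B'.mul_mem ht hu, htu.mul huu, ?_⟩
      have : (x * y) * (t * u) = (x * t) * (y * u) := by ring
      rw [this]
      exact B'.mul_mem hxt hyu
  have hstar2 : ∀ s : S, ∃ t ∈ B', IsUnit t ∧ s * t ∈ B' := by
    intro s
    obtain ⟨t₀, ht₀, ht₀u, hst₀⟩ := hσ s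
    obtain ⟨t₁, ht₁, ht₁u, h1⟩ := hstar _ hst₀
    obtain ⟨t₂, ht₂, ht₂u, h2⟩ := hstar _ ht₀
    refine ⟨(t₀ * t₂) * t₁, B'.mul_mem h2 ht₁, (ht₀u.mul ht₂u).mul ht₁u, ?_⟩
    have : s * ((t₀ * t₂) * t₁) = ((s * t₀) * t₁) * t₂ := by ring
    rw [this]
    exact B'.mul_mem h1 ht₂
  -- enumerate σ'
  obtain ⟨n, hn⟩ : ∃ n, n = σ'.card := ⟨_, rfl⟩
  let e : Fin n ≃ σ' := (hn ▸ σ'.equivFin.symm)
  let φ₀ : MvPolynomial (Fin n) R →ₐ[R] S := MvPolynomial.aeval (fun i => ((e i : σ') : S))
  have hφ₀range : ∀ x ∈ B', ∃ P, φ₀ P = x := by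
    intro x hx
    have : B' = φ₀.range := by
      rw [hB']
      have h1 := Algebra.adjoin_range_eq_range_aeval R (fun i => ((e i : σ') : S))
      rw [← h1]
      congr 1
      ext y
      simp only [Finset.mem_coe, Set.mem_range]
      constructor
      · intro hy; exact ⟨e.symm ⟨y, hy⟩, by simp⟩
      · rintro ⟨i, rfl⟩; exact (e i).2
    rw [this] at hx
    exact hx
  -- χ lands in V
  let χ : MvPolynomial (Fin n) R →+* ResidueField S := (residue S).comp φ₀.toRingHom
  have hχV : ∀ P, χ P ∈ V.toSubring := by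
    intro P
    induction P using MvPolynomial.induction_on with
    | C r =>
      have : χ (MvPolynomial.C r) = ((residue S).comp (algebraMap R S)) r := by
        simp [χ, φ₀]
      rw [this]; exact hV r
    | add p q hp hq => rw [map_add]; exact V.toSubring.add_mem hp hq
    | mul_X p i hp =>
      rw [map_mul]
      refine V.toSubring.mul_mem hp ?_
      have : χ (MvPolynomial.X i) = residue S ((e i : σ') : S) := by simp [χ, φ₀]
      rw [this]
      have hmem : ((e i : σ') : S) ∈ σ.image inv' := hσ' ▸ (e i).2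
      rw [Finset.mem_image] at hmem
      obtain ⟨s, _, hs⟩ := hmem
      rw [← hs]; exact hinv'V s
  let χ' : MvPolynomial (Fin n) R →+* V.toSubring := χ.codRestrict V.toSubring hχV
  haveI : IsLocalRing V.toSubring := inferInstanceAs (IsLocalRing V)
  obtain ⟨m₀, hm₀⟩ : ∃ m₀ : Ideal (MvPolynomial (Fin n) R),
    m₀ = (maximalIdeal V.toSubring).comap χ' := ⟨_, rfl⟩
  have hm₀prime : m₀.IsPrime := hm₀ ▸ Ideal.comap_isPrime _ _
  obtain ⟨m, hm, hm₀m⟩ := Ideal.exists_le_maximal m₀ hm₀prime.ne_top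
  have hmR : m.under R = maximalIdeal R := by
    apply le_antisymm
    · apply IsLocalRing.le_maximalIdeal
      intro h
      have : (1 : R) ∈ m.under R := h ▸ Submodule.mem_top
      rw [Ideal.under_def, Ideal.mem_comap, map_one] at this
      exact hm.ne_top ((Ideal.eq_top_iff_one _).mpr this)
    · intro r hr
      rw [Ideal.under_def, Ideal.mem_comap]
      apply hm₀m
      rw [hm₀, Ideal.mem_comap, mem_maximalIdeal, mem_nonunits_iff]
      intro hu
      have h1 : χ' (algebraMap R _ r) =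
          (((residue S).comp (algebraMap R S)).codRestrict V.toSubring hV) r := by
        apply Subtype.ext
        simp [χ', χ, φ₀]
      rw [h1] at hu
      have := hVloc.map_nonunit r hu
      rw [mem_maximalIdeal, mem_nonunits_iff] at hr
      exact hr this
  have hunit : ∀ y : m.primeCompl, IsUnit (φ₀ y) := by
    intro y
    by_contra hnu
    have h0 : χ (y : MvPolynomial (Fin n) R) = 0 := by
      change residue S (φ₀ y) = 0
      rwa [residue_eq_zero_iff, mem_maximalIdeal, mem_nonunits_iff]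
    have : (y : MvPolynomial (Fin n) R) ∈ m₀ := by
      rw [hm₀, Ideal.mem_comap]
      have : χ' (y : MvPolynomial (Fin n) R) = 0 := Subtype.ext h0
      rw [this]; exact Ideal.zero_mem _
    exact y.2 (hm₀m this)
  haveI := hm.isPrime
  let φ : Localization.AtPrime m →ₐ[R] S := IsLocalization.liftAlgHom (M := m.primeCompl) hunit
  have hφ : ∀ P, φ (algebraMap _ _ P) = φ₀ P := by
    intro P; simp [φ]
  refine ⟨n, m, hm, hmR, φ, (IsUnit.submonoid S).comap (algebraMap φ.range S), ?_⟩
  constructor; constructor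
  · exact fun y ↦ y.prop
  · intro s
    obtain ⟨t, ht, htu, hst⟩ := hstar2 s
    obtain ⟨P, hP⟩ := hφ₀range t ht
    obtain ⟨Q, hQ⟩ := hφ₀range _ hst
    have htr : t ∈ φ.range := ⟨algebraMap _ _ P, (hφ P).trans hP⟩
    have hstr : s * t ∈ φ.range := ⟨algebraMap _ _ Q, (hφ Q).trans hQ⟩
    exact ⟨⟨⟨_, hstr⟩, ⟨⟨t, htr⟩, htu⟩⟩, rfl⟩
  · intro x y e
    exact ⟨1, by simpa using Subtype.ext e⟩

end Groth.Agent.S9655
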