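import Groth.Statements.S9656
-- import your own Groth.Agent.* helpers here

set_option autoImplicit false
universe u
open CAlg

namespace Groth.Agent.S9656

/-- Let R_i → S_i be ring maps indexed by a finite type ι, with product map R = Π R_i → S = Π S_i. Then
an element (s_i) of S is integral over R exactly when s_i is integral over R_i for every i; so
integral closure in a finite product is computed factor by factor. -/
theorem result {ι : Type u} [Fintype ι] {R S : ι → Type u} [∀ i, CommRing (R i)] [∀ i, CommRing (S i)] (f : ∀ i, R i →+* S i) (s : ∀ i, S i) :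
    (RingHom.pi fun i => (f i).comp (Pi.evalRingHom R i)).IsIntegralElem s ↔ ∀ i, (f i).IsIntegralElem (s i) := by
  classical
  have hcomp : ∀ i, (Pi.evalRingHom S i).comp
      (RingHom.pi fun i => (f i).comp (Pi.evalRingHom R i)) = (f i).comp (Pi.evalRingHom R i) :=
    fun i => rfl
  constructor
  · rintro ⟨P, hP, hPs⟩ i
    refine ⟨P.map (Pi.evalRingHom R i), hP.map _, ?_⟩
    rw [Polynomial.eval₂_map, ← hcomp i]
    have := congrArg (Pi.evalRingHom S i) hPs
    rw [Polynomial.hom_eval₂, map_zero] at this
    exact this
  · intro h
    choose p hp hps using h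
    let n := ∑ i, (p i).natDegree
    let q : ∀ i, Polynomial (R i) := fun i => p i * Polynomial.X ^ (n - (p i).natDegree)
    have hq : ∀ i, (q i).Monic := fun i => (hp i).mul (Polynomial.monic_X_pow _)
    have hqs : ∀ i, (q i).eval₂ (f i) (s i) = 0 := fun i => by
      simp [q, Polynomial.eval₂_mul, hps i]
    have hqd : ∀ i, Nontrivial (R i) → (q i).natDegree = n := by
      intro i _
      have hle : (p i).natDegree ≤ n :=
        Finset.single_le_sum (f := fun i => (p i).natDegree) (fun _ _ => Nat.zero_le _)
          (Finset.mem_univ i)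
      rw [(hp i).natDegree_mul (Polynomial.monic_X_pow _), Polynomial.natDegree_X_pow]
      omega
    let P : Polynomial (∀ i, R i) := Polynomial.X ^ n +
      ∑ k ∈ Finset.range n, Polynomial.C (fun i => (q i).coeff k) * Polynomial.X ^ k
    have hPm : P.Monic := by
      apply Polynomial.monic_X_pow_add
      refine (Polynomial.degree_sum_le _ _).trans_lt ?_
      exact (Finset.sup_lt_iff (WithBot.bot_lt_coe n)).2 fun k hk =>
        (Polynomial.degree_C_mul_X_pow_le _ _).trans_lt
          (WithBot.coe_lt_coe.2 (Finset.mem_range.1 hk))
    refine ⟨P, hPm, ?_⟩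
    funext i
    have key : (Pi.evalRingHom S i) (P.eval₂ (RingHom.pi fun i => (f i).comp (Pi.evalRingHom R i)) s) =
        (P.map (Pi.evalRingHom R i)).eval₂ (f i) (s i) := by
      rw [Polynomial.hom_eval₂, hcomp i, Polynomial.eval₂_map]
      rfl
    change (Pi.evalRingHom S i) (P.eval₂ (RingHom.pi fun i => (f i).comp (Pi.evalRingHom R i)) s) = 0
    rw [key]
    rcases subsingleton_or_nontrivial (R i) with hsub | hnt
    · have : Subsingleton (S i) := (f i).codomain_trivial
      exact Subsingleton.elim _ _
    · have hmap : P.map (Pi.evalRingHom R i) = q i := by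
        simp only [P, Polynomial.map_add, Polynomial.map_pow, Polynomial.map_X, Polynomial.map_sum,
          Polynomial.map_mul, Polynomial.map_C]
        conv_rhs => rw [(hq i).as_sum, hqd i hnt]
        rfl
      rw [hmap, hqs i]

end Groth.Agent.S9656
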