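import Groth.Statements.S9657
import Mathlib
import Groth.Agent.Lib.Helper48.NilPrime
import Groth.Agent.S2150
-- import your own Groth.Agent.* helpers here

set_option autoImplicit false
universe u
open CAlg

namespace Groth.Agent.S9657

open Polynomial TensorProduct

section Generic

/-- `nilradical` prime transfers along an injective ring map which is "a localization up to
units". -/
theorem np_of_dense {A B : Type*} [CommRing A] [CommRing B] (Ψ : A →+* B)
    (hinj : Function.Injective Ψ) (hA : (nilradical A).IsPrime)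
    (hF1 : ∀ b : B, ∃ s a : A, IsUnit (Ψ s) ∧ b * Ψ s = Ψ a) : (nilradical B).IsPrime := by
  obtain ⟨hnt, hmul⟩ := (Groth.Agent.Lib.Helper48.NP.np_iff (A := A)).mp hA
  rw [Groth.Agent.Lib.Helper48.NP.np_iff]
  refine ⟨hinj.nontrivial, fun x y hxy => ?_⟩
  obtain ⟨s, a, hs, hxa⟩ := hF1 x
  obtain ⟨s', a', hs', hya⟩ := hF1 y
  have hnil : IsNilpotent (a * a') := by
    rw [← IsNilpotent.map_iff hinj, map_mul, ← hxa, ← hya]
    have h0 : x * Ψ s * (y * Ψ s') = (x * y) * (Ψ s * Ψ s') := by ring
    rw [h0]
    exact mem_nilradical.mp (Ideal.mul_mem_right _ _ (mem_nilradical.mpr hxy))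
  have aux : ∀ (z : B) (t c : A), IsUnit (Ψ t) → z * Ψ t = Ψ c → IsNilpotent c →
      IsNilpotent z := by
    intro z t c ht hz hc
    obtain ⟨u, hu⟩ := ht
    have h1 : IsNilpotent (z * Ψ t) := by rw [hz]; exact hc.map Ψ
    have h2 : z = (z * Ψ t) * ↑u⁻¹ := by rw [← hu, mul_assoc, Units.mul_inv, mul_one]
    rw [h2]
    exact mem_nilradical.mp (Ideal.mul_mem_right _ _ (mem_nilradical.mpr h1))
  rcases hmul a a' hnil with h | h
  · exact Or.inl (aux x s a hs hxa h)
  · exact Or.inr (aux y s' a' hs' hya h)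

theorem exists_unit_mul_eq {F L R₀ M : Type*} [Field F] [Field L] [Algebra F L] [CommRing R₀]
    [Algebra F R₀] [Field M] [Algebra F M] (ρ : R₀ →ₐ[F] M)
    (hfrac : ∀ y : M, ∃ P Q : R₀, ρ Q ≠ 0 ∧ y * ρ Q = ρ P) (b : L ⊗[F] M) :
    ∃ s a : L ⊗[F] R₀, IsUnit (Algebra.TensorProduct.map (AlgHom.id F L) ρ s) ∧
      b * Algebra.TensorProduct.map (AlgHom.id F L) ρ s =
        Algebra.TensorProduct.map (AlgHom.id F L) ρ a := by
  induction b using TensorProduct.induction_on with
  | zero => exact ⟨1, 0, by simp, by simp⟩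
  | tmul l y =>
    obtain ⟨P, Q, hQ, hy⟩ := hfrac y
    refine ⟨1 ⊗ₜ Q, l ⊗ₜ P, ?_, ?_⟩
    · have h2 : Algebra.TensorProduct.map (AlgHom.id F L) ρ (1 ⊗ₜ[F] Q) =
          (Algebra.TensorProduct.includeRight : M →ₐ[F] L ⊗[F] M) (ρ Q) := by simp
      rw [h2]
      exact (IsUnit.mk0 _ hQ).map _
    · simp only [Algebra.TensorProduct.map_tmul, Algebra.TensorProduct.tmul_mul_tmul,
        AlgHom.coe_id, id_eq, mul_one, hy]
  | add b₁ b₂ h₁ h₂ =>
    obtain ⟨s₁, a₁, hs₁, e₁⟩ := h₁
    obtain ⟨s₂, a₂, hs₂, e₂⟩ := h₂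
    refine ⟨s₁ * s₂, a₁ * s₂ + a₂ * s₁, ?_, ?_⟩
    · rw [map_mul]
      exact hs₁.mul hs₂
    · rw [map_mul, map_add, map_mul, map_mul, ← e₁, ← e₂]
      ring

end Generic

section RatFunc

variable {k K : Type u} [Field k] [Field K] [Algebra k K]
  (kt Kt : Type u) [Field kt] [Field Kt] [Algebra k[X] kt] [IsFractionRing k[X] kt]
  [Algebra K[X] Kt] [IsFractionRing K[X] Kt] [Algebra kt Kt]
  [Algebra k kt] [IsScalarTower k k[X] kt] [Algebra k Kt] [IsScalarTower k kt Kt]
  [Algebra k[X] Kt] [IsScalarTower k[X] kt Kt]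

theorem algebraMap_k_Kt
    (hcompat : ∀ p : k[X], algebraMap kt Kt (algebraMap k[X] kt p) =
      algebraMap K[X] Kt (Polynomial.map (algebraMap k K) p)) (c : k) :
    algebraMap k Kt c = algebraMap K[X] Kt (C (algebraMap k K c)) := by
  rw [IsScalarTower.algebraMap_apply k kt Kt, IsScalarTower.algebraMap_apply k k[X] kt, hcompat]
  simp

/-- `K → K(t)` as a `k`-algebra map. -/
noncomputable def gK
    (hcompat : ∀ p : k[X], algebraMap kt Kt (algebraMap k[X] kt p) =
      algebraMap K[X] Kt (Polynomial.map (algebraMap k K) p)) : K →ₐ[k] Kt where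
  toRingHom := (algebraMap K[X] Kt).comp (C : K →+* K[X])
  commutes' := fun c => by
    simp [algebraMap_k_Kt kt Kt hcompat c]

theorem gK_apply
    (hcompat : ∀ p : k[X], algebraMap kt Kt (algebraMap k[X] kt p) =
      algebraMap K[X] Kt (Polynomial.map (algebraMap k K) p)) (a : K) :
    gK kt Kt hcompat a = algebraMap K[X] Kt (C a) := rfl

theorem linInd
    (hcompat : ∀ p : k[X], algebraMap kt Kt (algebraMap k[X] kt p) =
      algebraMap K[X] Kt (Polynomial.map (algebraMap k K) p))
    {J : Type*} (bK : Module.Basis J k K) :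
    LinearIndependent kt (fun j => algebraMap K[X] Kt (C (bK j))) := by
  apply LinearIndependent.localization kt (nonZeroDivisors k[X])
  rw [linearIndependent_iff']
  intro s g hg j hj
  have h1 : ∀ i, g i • algebraMap K[X] Kt (C (bK i)) =
      algebraMap K[X] Kt ((g i).map (algebraMap k K) * C (bK i)) := by
    intro i
    rw [Algebra.smul_def, IsScalarTower.algebraMap_apply k[X] kt Kt, hcompat, map_mul]
  simp only [h1] at hg
  rw [← map_sum] at hg
  have h2 : ∑ i ∈ s, (g i).map (algebraMap k K) * C (bK i) = 0 :=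
    (IsFractionRing.injective K[X] Kt) (hg.trans (map_zero _).symm)
  ext n
  have h3 := congrArg (fun p => p.coeff n) h2
  simp only [Polynomial.finsetSum_coeff, Polynomial.coeff_mul_C, Polynomial.coeff_map,
    Polynomial.coeff_zero] at h3
  have h4 : ∑ i ∈ s, (g i).coeff n • bK i = 0 := by
    simpa [Algebra.smul_def] using h3
  rw [Polynomial.coeff_zero]
  exact linearIndependent_iff'.mp bK.linearIndependent s (fun i => (g i).coeff n) h4 j hj

/-- `k(t) ⊗_k K → K(t)`. -/
noncomputable def rho
    (hcompat : ∀ p : k[X], algebraMap kt Kt (algebraMap k[X] kt p) =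
      algebraMap K[X] Kt (Polynomial.map (algebraMap k K) p)) : kt ⊗[k] K →ₐ[kt] Kt :=
  Algebra.TensorProduct.lift (Algebra.ofId kt Kt) (gK kt Kt hcompat) (fun _ _ => Commute.all _ _)

theorem rho_tmul
    (hcompat : ∀ p : k[X], algebraMap kt Kt (algebraMap k[X] kt p) =
      algebraMap K[X] Kt (Polynomial.map (algebraMap k K) p)) (x : kt) (a : K) :
    rho kt Kt hcompat (x ⊗ₜ a) = algebraMap kt Kt x * algebraMap K[X] Kt (C a) := by
  simp [rho, gK_apply, Algebra.ofId_apply]

theorem rho_injective
    (hcompat : ∀ p : k[X], algebraMap kt Kt (algebraMap k[X] kt p) =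
      algebraMap K[X] Kt (Polynomial.map (algebraMap k K) p)) :
    Function.Injective (rho kt Kt hcompat) := by
  have hv := (Algebra.TensorProduct.basis kt (Module.Free.chooseBasis k K)).span_eq
  have hli : LinearIndependent kt ((rho kt Kt hcompat).toLinearMap ∘
      (Algebra.TensorProduct.basis kt (Module.Free.chooseBasis k K))) := by
    have hfun : ((rho kt Kt hcompat).toLinearMap ∘
        (Algebra.TensorProduct.basis kt (Module.Free.chooseBasis k K))) =
        fun j => algebraMap K[X] Kt (C (Module.Free.chooseBasis k K j)) := by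
      funext j
      simp [rho_tmul]
    rw [hfun]
    exact linInd kt Kt hcompat _
  exact LinearMap.injective_of_linearIndependent hv hli

/-- `K[t] → k(t) ⊗_k K`. -/
noncomputable def tau : K[X] →+* kt ⊗[k] K :=
  Polynomial.eval₂RingHom
    (Algebra.TensorProduct.includeRight : K →ₐ[k] kt ⊗[k] K).toRingHom
    ((algebraMap k[X] kt X) ⊗ₜ 1)

theorem rho_tau
    (hcompat : ∀ p : k[X], algebraMap kt Kt (algebraMap k[X] kt p) =
      algebraMap K[X] Kt (Polynomial.map (algebraMap k K) p)) (P : K[X]) :
    rho kt Kt hcompat (tau (k := k) kt P) = algebraMap K[X] Kt P := by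
  have h0 : ((rho kt Kt hcompat).toRingHom.comp (tau (k := k) kt)) = algebraMap K[X] Kt := by
    apply Polynomial.ringHom_ext
    · intro a
      simp [tau, rho_tmul]
    · simp [tau, rho_tmul]
      rw [hcompat, Polynomial.map_X]
  exact RingHom.congr_fun h0 P

theorem forward_L
    (hcompat : ∀ p : k[X], algebraMap kt Kt (algebraMap k[X] kt p) =
      algebraMap K[X] Kt (Polynomial.map (algebraMap k K) p))
    (L : Type u) [Field L] [Algebra kt L] [Algebra k L] [IsScalarTower k kt L]
    (hA : (nilradical (L ⊗[k] K)).IsPrime) : (nilradical (L ⊗[kt] Kt)).IsPrime := by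
  have hA' : (nilradical (L ⊗[kt] (kt ⊗[k] K))).IsPrime :=
    Groth.Agent.Lib.Helper48.NP.np_of_injective
      (Algebra.TensorProduct.cancelBaseChange k kt kt L K).toRingEquiv.toRingHom
      (Algebra.TensorProduct.cancelBaseChange k kt kt L K).toRingEquiv.injective hA
  have hinj : Function.Injective
      (Algebra.TensorProduct.map (AlgHom.id kt L) (rho kt Kt hcompat)) :=
    Module.Flat.lTensor_preserves_injective_linearMap _ (rho_injective kt Kt hcompat)
  have hfrac : ∀ y : Kt, ∃ P Q : kt ⊗[k] K, rho kt Kt hcompat Q ≠ 0 ∧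
      y * rho kt Kt hcompat Q = rho kt Kt hcompat P := by
    intro y
    obtain ⟨a, b, hb, rfl⟩ := IsFractionRing.div_surjective (A := K[X]) y
    have hb0 : algebraMap K[X] Kt b ≠ 0 :=
      IsFractionRing.to_map_ne_zero_of_mem_nonZeroDivisors hb
    refine ⟨tau (k := k) kt a, tau (k := k) kt b, ?_, ?_⟩
    · rw [rho_tau]
      exact hb0
    · rw [rho_tau, rho_tau, div_mul_cancel₀ _ hb0]
  exact np_of_dense
    (Algebra.TensorProduct.map (AlgHom.id kt L) (rho kt Kt hcompat)).toRingHom hinj hA'
    (fun b => exists_unit_mul_eq (rho kt Kt hcompat) hfrac b)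

theorem backward_elem
    (hcompat : ∀ p : k[X], algebraMap kt Kt (algebraMap k[X] kt p) =
      algebraMap K[X] Kt (Polynomial.map (algebraMap k K) p))
    (hKt : ∀ y : Kt, IsSeparable kt y → y ∈ Set.range (algebraMap kt Kt))
    (α : K) (hα : IsSeparable k α) : α ∈ Set.range (algebraMap k K) := by
  have hy0 : aeval (algebraMap K[X] Kt (C α)) ((minpoly k α).map (algebraMap k kt)) = 0 := by
    rw [aeval_map_algebraMap]
    have h0 : algebraMap K[X] Kt (C α) = gK kt Kt hcompat α := rfl
    rw [h0, aeval_algHom_apply, minpoly.aeval, map_zero]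
  have hsep : IsSeparable kt (algebraMap K[X] Kt (C α)) := by
    have h1 : ((minpoly k α).map (algebraMap k kt)).Separable :=
      Polynomial.Separable.map (f := algebraMap k kt) hα
    exact h1.of_dvd (minpoly.dvd kt _ hy0)
  obtain ⟨x, hx⟩ := hKt _ hsep
  obtain ⟨a, b, hb, rfl⟩ := IsFractionRing.div_surjective (A := k[X]) x
  have hb0 : algebraMap k[X] kt b ≠ 0 := IsFractionRing.to_map_ne_zero_of_mem_nonZeroDivisors hb
  have hbne : b ≠ 0 := nonZeroDivisors.ne_zero hb
  have h2 : algebraMap K[X] Kt (a.map (algebraMap k K)) =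
      algebraMap K[X] Kt (C α * b.map (algebraMap k K)) := by
    rw [map_mul, ← hcompat, ← hcompat, ← hx, map_div₀, div_mul_cancel₀]
    exact (_root_.map_ne_zero _).mpr hb0
  have h3 := IsFractionRing.injective K[X] Kt h2
  have h4 := congrArg (fun p => p.coeff b.natDegree) h3
  simp only [coeff_map, coeff_C_mul] at h4
  have hlc : b.coeff b.natDegree ≠ 0 := by
    rwa [Polynomial.coeff_natDegree, Polynomial.leadingCoeff_ne_zero]
  refine ⟨a.coeff b.natDegree / b.coeff b.natDegree, ?_⟩
  rw [map_div₀, h4, mul_div_cancel_right₀]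
  exact (_root_.map_ne_zero _).mpr hlc

end RatFunc

open TensorProduct in
/-- Let K/k be a field extension and let k(t) ⊆ K(t) be the purely transcendental extensions in one
variable, realised as fraction fields of k[t] and K[t] compatibly with k[t] → K[t]. Then K is
geometrically irreducible over k (Spec(k' ⊗_k K) irreducible for every field extension k'/k) if and
only if K(t) is geometrically irreducible over k(t). Here the test fields range over field
extensions of k, respectively of k(t), in the universe of k; this is equivalent to the unrestricted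
notions, since an algebraic closure of the base field suffices as a test. -/
theorem result {k K : Type u} [Field k] [Field K] [Algebra k K]
    (kt Kt : Type u) [Field kt] [Field Kt] [Algebra (Polynomial k) kt] [IsFractionRing (Polynomial k) kt] [Algebra (Polynomial K) Kt] [IsFractionRing (Polynomial K) Kt]
    [Algebra kt Kt] (hcompat : ∀ p : Polynomial k, algebraMap kt Kt (algebraMap (Polynomial k) kt p) = algebraMap (Polynomial K) Kt (Polynomial.map (algebraMap k K) p)) :
    (∀ (k' : Type u) [Field k'] [Algebra k k'], IrreducibleSpace (PrimeSpectrum (k' ⊗[k] K))) ↔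
      ∀ (L : Type u) [Field L] [Algebra kt L], IrreducibleSpace (PrimeSpectrum (L ⊗[kt] Kt)) := by
  letI : Algebra k kt := ((algebraMap (Polynomial k) kt).comp
    (Polynomial.C : k →+* Polynomial k)).toAlgebra
  haveI : IsScalarTower k (Polynomial k) kt := IsScalarTower.of_algebraMap_eq (fun c => rfl)
  letI : Algebra k Kt := ((algebraMap kt Kt).comp (algebraMap k kt)).toAlgebra
  haveI : IsScalarTower k kt Kt := IsScalarTower.of_algebraMap_eq (fun c => rfl)
  letI : Algebra (Polynomial k) Kt :=
    ((algebraMap kt Kt).comp (algebraMap (Polynomial k) kt)).toAlgebra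
  haveI : IsScalarTower (Polynomial k) kt Kt := IsScalarTower.of_algebraMap_eq (fun c => rfl)
  constructor
  · intro h L _ _
    letI : Algebra k L := ((algebraMap kt L).comp (algebraMap k kt)).toAlgebra
    haveI : IsScalarTower k kt L := IsScalarTower.of_algebraMap_eq (fun _ => rfl)
    rw [PrimeSpectrum.irreducibleSpace_iff_isPrime_nilradical]
    exact forward_L kt Kt hcompat L
      (PrimeSpectrum.irreducibleSpace_iff_isPrime_nilradical.mp (h L))
  · intro h
    rw [Groth.Agent.S2150.result]
    have hKt := (Groth.Agent.S2150.result (k := kt) (K := Kt)).mp h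
    exact fun α hα => backward_elem kt Kt hcompat hKt α hα

end Groth.Agent.S9657
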