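import Groth.Statements.S9658
import Mathlib

set_option autoImplicit false
universe u
open CAlg

namespace Groth.Agent.S9658

/-- Let R be a ring, f_1, …, f_n ∈ R generating the unit ideal and M an R-module. With M_i = M_{f_i},
M_ij = M_{f_i f_j} (any localizations, with the canonical compatible maps M → M_i → M_ij), the
sequence 0 → M → ⊕ M_i → ⊕ M_ij is exact: an element of M whose image vanishes in every M_i is zero,
and every family (m_i ∈ M_i) such that m_i and m_j have the same image in M_ij for all i, j is the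
image of an element of M. -/
theorem result {R : Type u} [CommRing R] {ι : Type u} [Fintype ι] (f : ι → R) (hf : Ideal.span (Set.range f) = ⊤)
    (M : Type u) [AddCommGroup M] [Module R M]
    (Mi : ι → Type u) [∀ i, AddCommGroup (Mi i)] [∀ i, Module R (Mi i)] (g : ∀ i, M →ₗ[R] Mi i) [∀ i, IsLocalizedModule (Submonoid.powers (f i)) (g i)]
    (Mij : ι → ι → Type u) [∀ i j, AddCommGroup (Mij i j)] [∀ i j, Module R (Mij i j)] (gij : ∀ i j, M →ₗ[R] Mij i j) [∀ i j, IsLocalizedModule (Submonoid.powers (f i * f j)) (gij i j)]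
    (ρ₁ : ∀ i j, Mi i →ₗ[R] Mij i j) (hρ₁ : ∀ i j, ρ₁ i j ∘ₗ g i = gij i j) (ρ₂ : ∀ i j, Mi j →ₗ[R] Mij i j) (hρ₂ : ∀ i j, ρ₂ i j ∘ₗ g j = gij i j) :
    (∀ m : M, (∀ i, g i m = 0) → m = 0) ∧
      ∀ s : ∀ i, Mi i, (∀ i j, ρ₁ i j (s i) = ρ₂ i j (s j)) → ∃ m : M, ∀ i, g i m = s i := by
  classical
  have hunit : ∀ L : ℕ, ∃ a : ι → R, ∑ i, a i * f i ^ L = 1 := by
    intro L
    have h := Ideal.span_pow_eq_top (Set.range f) hf L
    rw [← Set.range_comp] at h
    have h1 : (1 : R) ∈ Ideal.span (Set.range ((fun x => x ^ L) ∘ f)) := by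
      rw [h]; exact Submodule.mem_top
    obtain ⟨a, ha⟩ := (Ideal.mem_span_range_iff_exists_fun).mp h1
    exact ⟨a, ha⟩
  constructor
  · intro m hm
    have h0 : ∀ i, ∃ n : ℕ, f i ^ n • m = 0 := by
      intro i
      obtain ⟨⟨_, n, rfl⟩, hc⟩ := (IsLocalizedModule.eq_zero_iff (Submonoid.powers (f i)) (g i)).mp (hm i)
      exact ⟨n, hc⟩
    choose n hn using h0
    set N := ∑ i, n i with hNdef
    have hN : ∀ i, f i ^ N • m = 0 := by
      intro i
      have : n i ≤ N := Finset.single_le_sum (fun _ _ => Nat.zero_le _) (Finset.mem_univ i)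
      obtain ⟨k, hk⟩ := Nat.exists_eq_add_of_le this
      rw [hk, pow_add, mul_comm, mul_smul, hn i, smul_zero]
    obtain ⟨a, ha⟩ := hunit N
    calc m = (1 : R) • m := (one_smul _ _).symm
      _ = (∑ i, a i * f i ^ N) • m := by rw [ha]
      _ = ∑ i, (a i * f i ^ N) • m := Finset.sum_smul
      _ = 0 := Finset.sum_eq_zero fun i _ => by rw [mul_smul, hN i, smul_zero]
  · intro s hs
    have h1 : ∀ i, ∃ (y : M) (n : ℕ), f i ^ n • s i = g i y := by
      intro i
      obtain ⟨⟨y, ⟨_, n, rfl⟩⟩, h⟩ := IsLocalizedModule.surj (Submonoid.powers (f i)) (g i) (s i)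
      exact ⟨y, n, h⟩
    choose y0 n hn using h1
    set N := ∑ i, n i with hNdef
    have hnN : ∀ i, n i ≤ N := fun i =>
      Finset.single_le_sum (fun _ _ => Nat.zero_le _) (Finset.mem_univ i)
    obtain ⟨y, hy⟩ : ∃ y : ι → M, ∀ i, f i ^ N • s i = g i (y i) := by
      refine ⟨fun i => f i ^ (N - n i) • y0 i, fun i => ?_⟩
      have h2 : f i ^ N = f i ^ (N - n i) * f i ^ n i := by
        rw [← pow_add, Nat.sub_add_cancel (hnN i)]
      rw [h2, mul_smul, hn i, ← map_smul]
    have h2 : ∀ i j, ∃ k : ℕ, (f i * f j) ^ k • (f j ^ N • y i - f i ^ N • y j) = 0 := by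
      intro i j
      have e1 : gij i j (y i) = ρ₁ i j (g i (y i)) := by rw [← hρ₁ i j]; rfl
      have e2 : gij i j (y j) = ρ₂ i j (g j (y j)) := by rw [← hρ₂ i j]; rfl
      have : gij i j (f j ^ N • y i - f i ^ N • y j) = 0 := by
        rw [map_sub, map_smul, map_smul, e1, e2, ← hy i, ← hy j, map_smul, map_smul, hs i j,
          smul_smul, smul_smul, mul_comm]
        exact sub_self _
      obtain ⟨⟨_, k, rfl⟩, hc⟩ :=
        (IsLocalizedModule.eq_zero_iff (Submonoid.powers (f i * f j)) (gij i j)).mp this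
      exact ⟨k, hc⟩
    choose k hk using h2
    set K := ∑ i, ∑ j, k i j with hKdef
    have hkK : ∀ i j, k i j ≤ K := by
      intro i j
      calc k i j ≤ ∑ j', k i j' :=
            Finset.single_le_sum (f := fun j' => k i j') (fun _ _ => Nat.zero_le _) (Finset.mem_univ j)
        _ ≤ K := Finset.single_le_sum (f := fun i' => ∑ j', k i' j') (fun _ _ => Nat.zero_le _)
            (Finset.mem_univ i)
    set L := N + K with hLdef
    obtain ⟨z, hzdef⟩ : ∃ z : ι → M, ∀ i, z i = f i ^ K • y i := ⟨_, fun i => rfl⟩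
    have hz1 : ∀ i, f i ^ L • s i = g i (z i) := by
      intro i
      have : f i ^ L = f i ^ K * f i ^ N := by rw [hLdef, pow_add, mul_comm]
      rw [this, mul_smul, hy i, ← map_smul, hzdef]
    have hz2 : ∀ i j, f j ^ L • z i = f i ^ L • z j := by
      intro i j
      rw [← sub_eq_zero]
      have hK : (f i * f j) ^ K = (f i * f j) ^ (K - k i j) * (f i * f j) ^ k i j := by
        rw [← pow_add, Nat.sub_add_cancel (hkK i j)]
      have e : f j ^ L • z i - f i ^ L • z j =
          (f i * f j) ^ (K - k i j) • ((f i * f j) ^ k i j • (f j ^ N • y i - f i ^ N • y j)) := by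
        rw [← mul_smul ((f i * f j) ^ (K - k i j)), ← hK, hzdef, hzdef]
        simp only [hLdef, smul_sub, smul_smul]
        congr 2 <;> ring
      rw [e, hk i j, smul_zero]
    obtain ⟨a, ha⟩ := hunit L
    refine ⟨∑ j, a j • z j, fun i => ?_⟩
    have hm : f i ^ L • (∑ j, a j • z j) = z i := by
      rw [Finset.smul_sum]
      calc ∑ j, f i ^ L • a j • z j = ∑ j, (a j * f j ^ L) • z i := by
            refine Finset.sum_congr rfl fun j _ => ?_
            rw [smul_comm, ← hz2 i j, mul_smul]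
        _ = (∑ j, a j * f j ^ L) • z i := Finset.sum_smul.symm
        _ = z i := by rw [ha, one_smul]
    have hinj := IsLocalizedModule.smul_injective (g i)
      (⟨f i ^ L, ⟨L, rfl⟩⟩ : Submonoid.powers (f i))
    apply hinj
    change f i ^ L • g i (∑ j, a j • z j) = f i ^ L • s i
    rw [← map_smul, hm, hz1 i]

end Groth.Agent.S9658
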