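import Groth.Statements.S9659
import Mathlib
-- import your own Groth.Agent.* helpers here

set_option autoImplicit false
universe u
open CAlg

namespace Groth.Agent.S9659

section helpers
open DirectSum

variable {R S : Type u} [CommRing R] [CommRing S] [Algebra R S] (𝒜 : ℤ → Submodule R S)
  [GradedAlgebra 𝒜]

lemma inv_mem (f g : S) (d : ℤ) (hf : f ∈ 𝒜 d) (hfg : f * g = 1) : g ∈ 𝒜 (-d) := by
  classical
  have hgi : ∀ i, i ≠ -d → (decompose 𝒜 g i : S) = 0 := by
    intro i hi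
    have h1 : (decompose 𝒜 (f * g) (d + i) : S) = f * decompose 𝒜 g i :=
      coe_decompose_mul_add_of_left_mem 𝒜 hf
    rw [hfg] at h1
    have h2 : (decompose 𝒜 (1 : S) (d + i) : S) = 0 := by
      have hne : (0 : ℤ) ≠ d + i := by intro h; apply hi; omega
      exact decompose_of_mem_ne 𝒜 (SetLike.GradedOne.one_mem) hne
    rw [h2] at h1
    have h3 : g * (f * (decompose 𝒜 g i : S)) = 0 := by rw [← h1, mul_zero]
    rw [← mul_assoc, mul_comm g f, hfg, one_mul] at h3
    exact h3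
  have hg : g = (decompose 𝒜 g (-d) : S) := by
    apply (decompose 𝒜).injective
    refine DFinsupp.ext fun i => Subtype.ext ?_
    by_cases hi : i = -d
    · subst hi
      exact (decompose_of_mem_same 𝒜 (SetLike.coe_mem _)).symm
    · rw [hgi i hi]
      exact (decompose_of_mem_ne 𝒜 (SetLike.coe_mem _) (Ne.symm hi)).symm
  rw [hg]; exact SetLike.coe_mem _

lemma zpow_mem (F : Sˣ) (d : ℤ) (hf : (F : S) ∈ 𝒜 d) (n : ℤ) :
    ((F ^ n : Sˣ) : S) ∈ 𝒜 (n * d) := by
  have hg : ((F⁻¹ : Sˣ) : S) ∈ 𝒜 (-d) := inv_mem 𝒜 F _ d hf (by simp)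
  obtain ⟨k, rfl | rfl⟩ := Int.eq_nat_or_neg n
  · rw [zpow_natCast, Units.val_pow_eq_pow_val]
    have := SetLike.pow_mem_graded k hf
    rwa [nsmul_eq_mul] at this
  · rw [zpow_neg, zpow_natCast, ← inv_pow, Units.val_pow_eq_pow_val]
    have := SetLike.pow_mem_graded k hg
    rw [nsmul_eq_mul] at this
    have e : (k : ℤ) * -d = -(k : ℤ) * d := by ring
    rwa [e] at this

lemma cert_mem (F : Sˣ) (d : ℤ) (hd : 0 < d) (hf : (F : S) ∈ 𝒜 d) (e : ℤ) (x : S)
    (hx : x ∈ 𝒜 e) : x ^ d.toNat * ((F ^ (-e) : Sˣ) : S) ∈ 𝒜 0 := by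
  have h1 := SetLike.pow_mem_graded d.toNat hx
  have h2 := zpow_mem 𝒜 F d hf (-e)
  have h3 := SetLike.mul_mem_graded h1 h2
  have e0 : d.toNat • e + -e * d = 0 := by
    rw [nsmul_eq_mul, Int.toNat_of_nonneg hd.le]; ring
  rwa [e0] at h3

omit [Algebra R S] in
lemma cert_iff (F : Sˣ) (d : ℤ) (hd : 0 < d) (P : Ideal S) [P.IsPrime] (e : ℤ) (x : S) :
    x ^ d.toNat * ((F ^ (-e) : Sˣ) : S) ∈ P ↔ x ∈ P := by
  constructor
  · intro h
    have h' : x ^ d.toNat ∈ P := by
      have := P.mul_mem_right (((F ^ (-e))⁻¹ : Sˣ) : S) h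
      rwa [mul_assoc, Units.mul_inv, mul_one] at this
    exact Ideal.IsPrime.mem_of_pow_mem ‹_› _ h'
  · intro h
    have hD : d.toNat ≠ 0 := by have := Int.toNat_of_nonneg hd.le; omega
    exact P.mul_mem_right _ (P.pow_mem_of_mem h _ (Nat.pos_of_ne_zero hD))

lemma comap_map_eq (q : Ideal (SetLike.GradeZero.subring 𝒜)) :
    (q.map (SetLike.GradeZero.subring 𝒜).subtype).comap (SetLike.GradeZero.subring 𝒜).subtype
      = q := by
  classical
  refine le_antisymm ?_ Ideal.le_comap_map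
  intro x hx
  have key : ∀ y ∈ Submodule.span S ((SetLike.GradeZero.subring 𝒜).subtype '' (q : Set _)),
      ∀ s : S, ∃ z ∈ q, (z : S) = (decompose 𝒜 (s * y) 0 : S) := by
    intro y hy
    induction hy using Submodule.span_induction with
    | mem y h =>
      obtain ⟨a, ha, rfl⟩ := h
      intro s
      refine ⟨⟨(decompose 𝒜 s 0 : S), SetLike.coe_mem _⟩ * a, q.mul_mem_left _ ha, ?_⟩
      have h0 : ((SetLike.GradeZero.subring 𝒜).subtype a) ∈ 𝒜 0 := a.2
      rw [coe_decompose_mul_of_right_mem_zero 𝒜 h0]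
      rfl
    | zero => intro s; exact ⟨0, q.zero_mem, by simp⟩
    | add y₁ y₂ _ _ h₁ h₂ =>
      intro s
      obtain ⟨z₁, hz₁, e₁⟩ := h₁ s
      obtain ⟨z₂, hz₂, e₂⟩ := h₂ s
      refine ⟨z₁ + z₂, q.add_mem hz₁ hz₂, ?_⟩
      rw [mul_add, decompose_add, DirectSum.add_apply, Submodule.coe_add, ← e₁, ← e₂]
      rfl
    | smul r y _ h =>
      intro s
      obtain ⟨z, hz, e⟩ := h (s * r)
      exact ⟨z, hz, by rw [e, smul_eq_mul, mul_assoc]⟩
  obtain ⟨z, hz, e⟩ := key _ hx 1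
  rw [one_mul] at e
  have h1 : (decompose 𝒜 ((SetLike.GradeZero.subring 𝒜).subtype x) 0 : S) = x :=
    decompose_of_mem_same 𝒜 x.2
  have hzx : z = x := Subtype.ext (e.trans h1)
  exact hzx ▸ hz

end helpers


/-- Let S be a ℤ-graded ring which contains an invertible homogeneous element of positive degree. Then
the set of homogeneous prime ideals of S, with the topology induced from Spec(S), maps
homeomorphically onto Spec(S₀) by p ↦ p ∩ S₀. -/
theorem result {R S : Type u} [CommRing R] [CommRing S] [Algebra R S] (𝒜 : ℤ → Submodule R S) [GradedAlgebra 𝒜]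
    (f : S) (d : ℤ) (hd : 0 < d) (hf : f ∈ 𝒜 d) (hu : IsUnit f) :
    IsHomeomorph (fun p : {p : PrimeSpectrum S // p.asIdeal.IsHomogeneous 𝒜} => PrimeSpectrum.comap (SetLike.GradeZero.subring 𝒜).subtype p.1) := by
  classical
  have hFf : ((hu.unit : Sˣ) : S) = f := hu.unit_spec
  have hfF : ((hu.unit : Sˣ) : S) ∈ 𝒜 d := by rw [hFf]; exact hf
  have hle : ∀ (p p' : {p : PrimeSpectrum S // p.asIdeal.IsHomogeneous 𝒜}),
      PrimeSpectrum.comap (SetLike.GradeZero.subring 𝒜).subtype p.1 =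
        PrimeSpectrum.comap (SetLike.GradeZero.subring 𝒜).subtype p'.1 →
      p.1.asIdeal ≤ p'.1.asIdeal := by
    intro p p' h x hx
    rw [p'.2.mem_iff]
    intro i
    have hxi : (DirectSum.decompose 𝒜 x i : S) ∈ p.1.asIdeal := (p.2.mem_iff.1 hx) i
    have hy := (cert_iff hu.unit d hd p.1.asIdeal i _).2 hxi
    have hy' : (⟨_, cert_mem 𝒜 hu.unit d hd hfF i _ (SetLike.coe_mem (DirectSum.decompose 𝒜 x i))⟩ :
        SetLike.GradeZero.subring 𝒜) ∈
        (PrimeSpectrum.comap (SetLike.GradeZero.subring 𝒜).subtype p.1).asIdeal := hy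
    rw [h] at hy'
    exact (cert_iff hu.unit d hd p'.1.asIdeal i _).1 hy'
  have hinj : Function.Injective (fun p : {p : PrimeSpectrum S // p.asIdeal.IsHomogeneous 𝒜} =>
      PrimeSpectrum.comap (SetLike.GradeZero.subring 𝒜).subtype p.1) := by
    intro p p' h
    apply Subtype.ext
    apply PrimeSpectrum.ext
    exact le_antisymm (hle p p' h) (hle p' p h.symm)
  have hsurj : Function.Surjective (fun p : {p : PrimeSpectrum S // p.asIdeal.IsHomogeneous 𝒜} =>
      PrimeSpectrum.comap (SetLike.GradeZero.subring 𝒜).subtype p.1) := by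
    intro q
    have hq := comap_map_eq 𝒜 q.asIdeal
    obtain ⟨P, hP, hPq⟩ := (Ideal.comap_map_eq_self_iff_of_isPrime q.asIdeal).1 hq
    have hcore : ((P.homogeneousCore 𝒜).toIdeal).IsPrime := hP.homogeneousCore
    refine ⟨⟨⟨(P.homogeneousCore 𝒜).toIdeal, hcore⟩, (P.homogeneousCore 𝒜).isHomogeneous⟩, ?_⟩
    apply PrimeSpectrum.ext
    ext a
    rw [← hPq]
    show (a : S) ∈ (P.homogeneousCore 𝒜).toIdeal ↔ (a : S) ∈ P
    constructor
    · intro h; exact Ideal.toIdeal_homogeneousCore_le 𝒜 P h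
    · intro h; exact Ideal.mem_homogeneousCore_of_homogeneous_of_mem ⟨0, a.2⟩ h
  have hcont : Continuous (fun p : {p : PrimeSpectrum S // p.asIdeal.IsHomogeneous 𝒜} =>
      PrimeSpectrum.comap (SetLike.GradeZero.subring 𝒜).subtype p.1) :=
    (PrimeSpectrum.continuous_comap _).comp continuous_subtype_val
  have hopen : IsOpenMap (fun p : {p : PrimeSpectrum S // p.asIdeal.IsHomogeneous 𝒜} =>
      PrimeSpectrum.comap (SetLike.GradeZero.subring 𝒜).subtype p.1) := by
    intro U hU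
    rw [isOpen_iff_forall_mem_open]
    rintro _ ⟨p, hpU, rfl⟩
    obtain ⟨V, hV, rfl⟩ := isOpen_induced_iff.1 hU
    obtain ⟨_, ⟨g, rfl⟩, hpg, hgV⟩ :=
      PrimeSpectrum.isTopologicalBasis_basic_opens.exists_subset_of_mem_open
        (show p.1 ∈ V from hpU) hV
    have hg : g ∉ p.1.asIdeal := hpg
    rw [p.2.mem_iff] at hg
    push Not at hg
    obtain ⟨e, he⟩ := hg
    refine ⟨(PrimeSpectrum.basicOpen (⟨_, cert_mem 𝒜 hu.unit d hd hfF e _
      (SetLike.coe_mem (DirectSum.decompose 𝒜 g e))⟩ : SetLike.GradeZero.subring 𝒜) : Set _),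
      ?_, (PrimeSpectrum.basicOpen _).isOpen, ?_⟩
    · intro q' hq'
      obtain ⟨p', rfl⟩ := hsurj q'
      refine ⟨p', (show p'.1 ∈ V from hgV ?_), rfl⟩
      show g ∉ p'.1.asIdeal
      intro hgp'
      apply hq'
      have := (p'.2.mem_iff.1 hgp') e
      exact (cert_iff hu.unit d hd p'.1.asIdeal e _).2 this
    · show _ ∉ (PrimeSpectrum.comap (SetLike.GradeZero.subring 𝒜).subtype p.1).asIdeal
      intro hy
      exact he ((cert_iff hu.unit d hd p.1.asIdeal e _).1 hy)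
  exact ⟨hcont, hopen, ⟨hinj, hsurj⟩⟩

end Groth.Agent.S9659
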