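import Groth.Statements.S9662
import Mathlib
import Groth.Agent.Lib.Helper64.GrHilbD

set_option autoImplicit false
universe u
open CategoryTheory
open CAlg

namespace Groth.Agent.S9662

/-- Let S be a Noetherian ℕ-graded ring, presented as a graded algebra over a ring A mapping onto S₀,
whose irrelevant ideal S₊ is generated as an ideal by the degree-1 part S₁, and let M be a finitely
generated graded S-module, graded in nonnegative degrees. (The published statement allows modules
graded in all integer degrees; this row takes modules graded in degrees ≥ 0, which loses nothing for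
large n.) Write K'₀(A) for the Grothendieck group of finite A-modules (the free abelian group on the
finite A-modules modulo the relations given by short exact sequences) and [M_n] for the class of the
finite A-module M_n. Then n ↦ [M_n] is a numerical polynomial: there are a_0, …, a_{r-1} in K'₀(A)
with [M_n] = Σ_i C(n, i) · a_i for all large n. (When A → S₀ is bijective K'₀(A) is K'₀(S₀), the
group of the published statement; in general the classes are taken after restricting scalars along A
→ S₀.) -/
theorem result {A S : Type u} [CommRing A] [CommRing S] [Algebra A S] [IsNoetherianRing S] (𝒜 : ℕ → Submodule A S) [GradedAlgebra 𝒜]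
    (h0 : ∀ s ∈ 𝒜 0, s ∈ Set.range (algebraMap A S))
    (h1 : (HomogeneousIdeal.irrelevant 𝒜).toIdeal = Ideal.span (𝒜 1 : Set S))
    (M : Type u) [AddCommGroup M] [Module A M] [Module S M] [IsScalarTower A S M] [Module.Finite S M] (ℳ : ℕ → Submodule A M) [DirectSum.Decomposition ℳ] [SetLike.GradedSMul 𝒜 ℳ] :
    ∃ (r : ℕ) (a : Fin r → KZero.K0sub (fun X : ModuleCat.{u} A => Module.Finite A X)) (N : ℕ), ∀ n : ℕ, N ≤ n →
      KZero.clSub (fun X : ModuleCat.{u} A => Module.Finite A X) (ModuleCat.of A ↥(ℳ n)) = ∑ i : Fin r, ((n.choose (i : ℕ) : ℕ) : ℤ) • a i := by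
  classical
  have hM : IsNoetherian S M := isNoetherian_of_isNoetherianRing_of_finite S M
  -- finitely many degree one generators
  have hfg : (Ideal.span (𝒜 1 : Set S)).FG := IsNoetherian.noetherian _
  obtain ⟨T, hTsub, hTspan⟩ :=
    (Submodule.fg_span_iff_fg_span_finset_subset ((𝒜 1 : Submodule A S) : Set S)).mp hfg
  let x : Fin T.card → S := fun i => (T.equivFin.symm i : S)
  have hrange : Set.range x = (T : Set S) := by
    ext s
    constructor
    · rintro ⟨i, rfl⟩
      exact (T.equivFin.symm i).2
    · intro hs
      exact ⟨T.equivFin ⟨s, hs⟩, by simp [x]⟩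
  have hx : ∀ i, x i ∈ 𝒜 1 := fun i => hTsub (T.equivFin.symm i).2
  have hgen : ∀ k, 0 < k → ∀ s ∈ 𝒜 k, s ∈ Ideal.span (Set.range x) := by
    intro k hk s hs
    rw [hrange]
    have h2 : s ∈ (HomogeneousIdeal.irrelevant 𝒜).toIdeal := by
      show s ∈ HomogeneousIdeal.irrelevant 𝒜
      rw [HomogeneousIdeal.mem_irrelevant_iff, GradedRing.proj_apply,
        DirectSum.decompose_of_mem_ne 𝒜 hs (by omega)]
    rw [h1] at h2
    have h3 : Ideal.span ((𝒜 1 : Submodule A S) : Set S) = Ideal.span (T : Set S) := hTspan
    rw [← h3]
    exact h2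
  obtain ⟨r, a, N, hN⟩ :=
    Groth.Agent.Lib.Helper64.GrHilb.ep_cl 𝒜 ℳ h0 T.card x hx hgen
  refine ⟨r, fun i => a i, N, fun n hn => ?_⟩
  have := hN n hn
  rw [Finset.sum_range] at this
  exact this

end Groth.Agent.S9662
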