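import Groth.Statements.S9663
import Mathlib.Data.Finite.Prod

set_option autoImplicit false
universe u
open CAlg

namespace Groth.Agent.S9663

theorem exists_uniform {ι : Type*} [Finite ι] (P : ι → ℕ → Prop)
    (hmono : ∀ j n m, P j n → n ≤ m → P j m) (h : ∀ j, ∃ n, P j n) : ∃ N, ∀ j, P j N := by
  cases nonempty_fintype ι
  choose n hn using h
  exact ⟨Finset.univ.sup n, fun j => hmono j _ _ (hn j) (Finset.le_sup (Finset.mem_univ j))⟩

theorem smul_pow_injective {R : Type*} [CommRing R] {N : Type*} [AddCommGroup N] [Module R N]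
    (a : R) (h : IsUnit (algebraMap R (Module.End R N) a)) (n : ℕ) (x : N)
    (hx : a ^ n • x = 0) : x = 0 := by
  have h2 : IsUnit (algebraMap R (Module.End R N) (a ^ n)) := by
    rw [map_pow]; exact h.pow n
  have h3 := ((Module.End.isUnit_iff _).1 h2).1
  apply h3
  rw [Module.algebraMap_end_apply, Module.algebraMap_end_apply, hx, smul_zero]

/-- Let R be a ring and f_i, i in a finite index set, elements of R (no condition on the ideal they
generate). Suppose given for each i an R-module M_i on which f_i acts invertibly, for each pair (i,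
j) an R-linear isomorphism ψ_ij : (M_i)_{f_j} → (M_j)_{f_i}, and suppose the cocycle condition ψ_jk
∘ ψ_ij = ψ_ik holds as maps (M_i)_{f_j f_k} → (M_k)_{f_i f_j} for all triples (i, j, k). All
localizations are given through their universal properties: (M_i)_{f_j} with its map g from M_i;
(M_i)_{f_j f_k} with its map t from M_i and the compatible maps u from (M_i)_{f_j} and v from
(M_i)_{f_k}; and the three localized isomorphisms Ψ₁ (ψ_ij on (M_i)_{f_j f_k}), Ψ₂ (ψ_jk on
(M_j)_{f_i f_k}) and Ψ₃ (ψ_ik on (M_i)_{f_j f_k}) are given as maps compatible with the ψ's. Let M ⊆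
Π_i M_i be the submodule of families (m_i) with m_i/1 = ψ_ji(m_j/1) in (M_i)_{f_j} for all i, j.
Then for each i the projection M → M_i exhibits M_i as the localization of M at f_i. -/
theorem result {R : Type u} [CommRing R] {ι : Type u} [Finite ι] (f : ι → R)
    (Mi : ι → Type u) [∀ i, AddCommGroup (Mi i)] [∀ i, Module R (Mi i)]
    (hMi : ∀ i, IsUnit (algebraMap R (Module.End R (Mi i)) (f i)))
    (Mij : ι → ι → Type u) [∀ i j, AddCommGroup (Mij i j)] [∀ i j, Module R (Mij i j)]
    (g : ∀ i j, Mi i →ₗ[R] Mij i j) [∀ i j, IsLocalizedModule (Submonoid.powers (f j)) (g i j)]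
    (ψ : ∀ i j, Mij i j ≃ₗ[R] Mij j i)
    (T : ι → ι → ι → Type u) [∀ i j k, AddCommGroup (T i j k)] [∀ i j k, Module R (T i j k)]
    (t : ∀ i j k, Mi i →ₗ[R] T i j k) [∀ i j k, IsLocalizedModule (Submonoid.powers (f j * f k)) (t i j k)]
    (u : ∀ i j k, Mij i j →ₗ[R] T i j k) (hu : ∀ i j k, u i j k ∘ₗ g i j = t i j k)
    (v : ∀ i j k, Mij i k →ₗ[R] T i j k) (hv : ∀ i j k, v i j k ∘ₗ g i k = t i j k)
    (Ψ₁ : ∀ i j k, T i j k →ₗ[R] T j i k) (hΨ₁ : ∀ i j k, Ψ₁ i j k ∘ₗ u i j k = u j i k ∘ₗ (ψ i j).toLinearMap)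
    (Ψ₂ : ∀ i j k, T j i k →ₗ[R] T k i j) (hΨ₂ : ∀ i j k, Ψ₂ i j k ∘ₗ v j i k = v k i j ∘ₗ (ψ j k).toLinearMap)
    (Ψ₃ : ∀ i j k, T i j k →ₗ[R] T k i j) (hΨ₃ : ∀ i j k, Ψ₃ i j k ∘ₗ v i j k = u k i j ∘ₗ (ψ i k).toLinearMap)
    (hcoc : ∀ i j k, Ψ₂ i j k ∘ₗ Ψ₁ i j k = Ψ₃ i j k)
    (M : Submodule R (∀ i, Mi i)) (hM : ∀ m : ∀ i, Mi i, m ∈ M ↔ ∀ i j, g i j (m i) = ψ j i (g j i (m j))) (i : ι) :
    IsLocalizedModule (Submonoid.powers (f i)) ((LinearMap.proj i).comp M.subtype : ↥M →ₗ[R] Mi i) := by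
  classical
  have hu' : ∀ a b c x, u a b c (g a b x) = t a b c x :=
    fun a b c x => LinearMap.congr_fun (hu a b c) x
  have hv' : ∀ a b c x, v a b c (g a c x) = t a b c x :=
    fun a b c x => LinearMap.congr_fun (hv a b c) x
  have hΨ₁' : ∀ a b c x, Ψ₁ a b c (u a b c x) = u b a c (ψ a b x) :=
    fun a b c x => LinearMap.congr_fun (hΨ₁ a b c) x
  have hΨ₂' : ∀ a b c x, Ψ₂ a b c (v b a c x) = v c a b (ψ b c x) :=
    fun a b c x => LinearMap.congr_fun (hΨ₂ a b c) x
  have hΨ₃' : ∀ a b c x, Ψ₃ a b c (v a b c x) = u c a b (ψ a c x) :=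
    fun a b c x => LinearMap.congr_fun (hΨ₃ a b c) x
  have hcoc' : ∀ a b c x, Ψ₂ a b c (Ψ₁ a b c x) = Ψ₃ a b c x :=
    fun a b c x => LinearMap.congr_fun (hcoc a b c) x
  -- units
  have hunit_ij : ∀ a b, IsUnit (algebraMap R (Module.End R (Mij a b)) (f b)) := fun a b =>
    IsLocalizedModule.map_units (g a b) ⟨f b, Submonoid.mem_powers _⟩
  -- kernel of v
  have hv_ker : ∀ j k (c : Mij j k), v j i k c = 0 → ∃ n, f i ^ n • c = 0 := by
    intro j k c hc
    obtain ⟨⟨w, ⟨_, a, rfl⟩⟩, hs⟩ := IsLocalizedModule.surj (Submonoid.powers (f k)) (g j k) c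
    simp only [Submonoid.smul_def] at hs
    have ht : t j i k w = t j i k 0 := by
      rw [← hv', ← hs, map_smul, hc, smul_zero, map_zero]
    obtain ⟨⟨_, b, rfl⟩, hb⟩ :=
      IsLocalizedModule.exists_of_eq (S := Submonoid.powers (f i * f k)) ht
    simp only [Submonoid.smul_def, smul_zero] at hb
    refine ⟨b, ?_⟩
    apply smul_pow_injective (f k) (hunit_ij j k) (a + b)
    have h1 : g j k ((f i * f k) ^ b • w) = 0 := by rw [hb, map_zero]
    rw [map_smul, ← hs] at h1
    rw [← h1, smul_smul, smul_smul]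
    congr 1
    ring
  -- key identity
  have key : ∀ (y' : Mi i) (z : ∀ j, Mi j) (_ : ∀ j, g j i (z j) = ψ i j (g i j y')) (j k : ι),
      v j i k (g j k (z j)) = v j i k (ψ k j (g k j (z k))) := by
    intro y' z hz j k
    have hL : v j i k (g j k (z j)) = u j i k (ψ i j (g i j y')) := by
      rw [hv', ← hu', hz]
    have hR : v j i k (ψ k j (g k j (z k))) = u j i k (ψ i j (g i j y')) := by
      rw [← hΨ₂' i k j, hv', ← hu', hz, ← hΨ₁', hcoc', hu', ← hv' i k j, hΨ₃']
    rw [hL, hR]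
  constructor
  · rintro ⟨_, n, rfl⟩
    rw [map_pow]
    exact (hMi i).pow n
  · intro y
    -- Step A
    obtain ⟨N, hN⟩ := exists_uniform
      (fun j n => ∃ z : Mi j, g j i z = f i ^ n • ψ i j (g i j y))
      (by
        rintro j n m ⟨z, hz⟩ hnm
        refine ⟨f i ^ (m - n) • z, ?_⟩
        rw [map_smul, hz, smul_smul, ← pow_add, Nat.sub_add_cancel hnm])
      (by
        intro j
        obtain ⟨⟨z, ⟨_, n, rfl⟩⟩, hs⟩ :=
          IsLocalizedModule.surj (Submonoid.powers (f i)) (g j i) (ψ i j (g i j y))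
        exact ⟨n, z, hs.symm⟩)
    choose z hz0 using hN
    set y' := f i ^ N • y with hy'
    have hz : ∀ j, g j i (z j) = ψ i j (g i j y') := by
      intro j
      rw [hz0, hy', map_smul, map_smul]
    -- Step B
    obtain ⟨N', hN'⟩ := exists_uniform (ι := ι × ι)
      (fun jk n => f i ^ n • (g jk.1 jk.2 (z jk.1) - ψ jk.2 jk.1 (g jk.2 jk.1 (z jk.2))) = 0)
      (by
        rintro jk n m h hnm
        rw [← Nat.sub_add_cancel hnm, pow_add, mul_smul, h, smul_zero])
      (by
        rintro ⟨j, k⟩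
        apply hv_ker
        rw [map_sub, key y' z hz j k, sub_self])
    -- Step C
    have hzi : z i = y' := by
      have h1 := hN' (i, i)
      simp only at h1
      have h2 := smul_pow_injective (f i) (hunit_ij i i) N' _ h1
      rw [sub_eq_zero] at h2
      have h3 : ψ i i (g i i y') = ψ i i (ψ i i (g i i y')) := by
        rw [← hz i]; exact h2
      have h4 : g i i y' = ψ i i (g i i y') := (ψ i i).injective h3
      have h5 : g i i (z i) = g i i y' := by rw [hz i, ← h4]
      obtain ⟨⟨_, n, rfl⟩, hn⟩ :=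
        IsLocalizedModule.exists_of_eq (S := Submonoid.powers (f i)) h5
      simp only [Submonoid.smul_def] at hn
      have h6 : f i ^ n • (z i - y') = 0 := by rw [smul_sub, hn, sub_self]
      exact sub_eq_zero.1 (smul_pow_injective (f i) (hMi i) n _ h6)
    have hmem : (fun j => f i ^ N' • z j) ∈ M := by
      rw [hM]
      intro j k
      have := hN' (j, k)
      simp only at this
      rw [smul_sub, sub_eq_zero] at this
      simp only [map_smul]
      exact this
    refine ⟨⟨⟨_, hmem⟩, ⟨f i ^ (N' + N), _, rfl⟩⟩, ?_⟩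
    simp only [Submonoid.smul_def, LinearMap.comp_apply, Submodule.subtype_apply,
      LinearMap.proj_apply]
    rw [hzi, hy', smul_smul, ← pow_add]
  · intro x₁ x₂ hx
    simp only [LinearMap.comp_apply, Submodule.subtype_apply, LinearMap.proj_apply] at hx
    have hm : (x₁ - x₂ : M).1 ∈ M := (x₁ - x₂).2
    rw [hM] at hm
    obtain ⟨N, hN⟩ := exists_uniform
      (fun j n => f i ^ n • ((x₁ : ∀ i, Mi i) j - (x₂ : ∀ i, Mi i) j) = 0)
      (by
        rintro j n m h hnm
        rw [← Nat.sub_add_cancel hnm, pow_add, mul_smul, h, smul_zero])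
      (by
        intro j
        have h1 := hm j i
        have h2 : ((x₁ - x₂ : M) : ∀ i, Mi i) i = 0 := by
          simp [hx]
        rw [h2, map_zero, map_zero] at h1
        have h3 : g j i (((x₁ - x₂ : M) : ∀ i, Mi i) j) = g j i 0 := by rw [h1, map_zero]
        obtain ⟨⟨_, n, rfl⟩, hn⟩ :=
          IsLocalizedModule.exists_of_eq (S := Submonoid.powers (f i)) h3
        simp only [Submonoid.smul_def, smul_zero] at hn
        exact ⟨n, by simpa using hn⟩)
    refine ⟨⟨f i ^ N, _, rfl⟩, ?_⟩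
    apply Subtype.ext
    funext j
    have := hN j
    rw [smul_sub, sub_eq_zero] at this
    simpa [Submonoid.smul_def] using this

end Groth.Agent.S9663
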