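import Groth.Statements.S9667
import Mathlib
-- import your own Groth.Agent.* helpers here

set_option autoImplicit false
universe u
open CAlg

namespace Groth.Agent.S9667

open TensorProduct in
theorem lT_smul {R S : Type u} [CommRing R] [CommRing S] [Algebra R S] (N : Type u) [AddCommGroup N]
    [Module S N] [Module R N] [IsScalarTower R S N]
    {M1 M2 : Type u} [AddCommGroup M1] [Module R M1] [AddCommGroup M2] [Module R M2]
    (f : M1 →ₗ[R] M2) (x : S) (t : N ⊗[R] M1) :
    LinearMap.lTensor N f (x • t) = x • LinearMap.lTensor N f t := by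
  induction t using TensorProduct.induction_on with
  | zero => simp
  | tmul n m => simp [TensorProduct.smul_tmul']
  | add a b ha hb => simp only [smul_add, map_add, ha, hb]

open TensorProduct in
theorem comm_lT {R : Type u} [CommRing R] (N : Type u) [AddCommGroup N] [Module R N]
    {M1 M2 : Type u} [AddCommGroup M1] [Module R M1] [AddCommGroup M2] [Module R M2]
    (f : M1 →ₗ[R] M2) (t : N ⊗[R] M1) :
    LinearMap.rTensor N f (TensorProduct.comm R N M1 t)
        = TensorProduct.comm R N M2 (LinearMap.lTensor N f t) := by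
  induction t using TensorProduct.induction_on with
  | zero => simp
  | tmul n m => simp
  | add a b ha hb => simp only [map_add, ha, hb]

open TensorProduct in
theorem vanish {R : Type u} [CommRing R] (N : Type u) [AddCommGroup N] [Module R N]
    {M : Type u} [AddCommGroup M] [Module R M] {P : Submodule R M} (hP : P.FG) (t : N ⊗[R] P)
    (h : LinearMap.lTensor N P.subtype t = 0) :
    ∃ (Q : Submodule R M) (hPQ : P ≤ Q), Q.FG ∧ LinearMap.lTensor N (Submodule.inclusion hPQ) t = 0 := by
  have h1 : LinearMap.rTensor N P.subtype (TensorProduct.comm R N P t) = 0 := by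
    rw [comm_lT, h, map_zero]
  obtain ⟨Q, hPQ, hQ, h2⟩ := TensorProduct.eq_zero_of_fg_of_subtype_eq_zero hP h1
  refine ⟨Q, hPQ, hQ, ?_⟩
  rw [comm_lT] at h2
  exact (TensorProduct.comm R N Q).injective (h2.trans (map_zero _).symm)

open TensorProduct in
/-- Part (3): (B = B_fin): let R → S be a ring map with S Noetherian, N an S-module, M an R-module and q
a prime of S; an associated prime of a module is a prime ideal equal to the annihilator of some
element. If q is an associated prime of the S-module N ⊗_R M, then there is a finitely generated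
R-submodule M' ⊆ M such that q is an associated prime of the S-module N ⊗_R M'. -/
theorem result {R S : Type u} [CommRing R] [CommRing S] [Algebra R S] (N : Type u) [AddCommGroup N] [Module S N] [Module R N] [IsScalarTower R S N] [IsNoetherianRing S]
    (M : Type u) [AddCommGroup M] [Module R M] (q : Ideal S) [q.IsPrime] (h : q ∈ FlatCA.ass S (N ⊗[R] M)) :
    ∃ M' : Submodule R M, M'.FG ∧ q ∈ FlatCA.ass S (N ⊗[R] ↥M') := by
  classical
  obtain ⟨hqp, z, hz⟩ := h
  -- z comes from a f.g. submodule
  obtain ⟨P, hP', hzP⟩ := TensorProduct.exists_finite_submodule_right_of_setFinite ({z} : Set (N ⊗[R] M))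
    (Set.finite_singleton z)
  have hP : P.FG := Module.Finite.iff_fg.mp hP'
  obtain ⟨z0, hz0⟩ : ∃ z0 : N ⊗[R] P, LinearMap.lTensor N P.subtype z0 = z := hzP (Set.mem_singleton z)
  -- q is f.g.
  obtain ⟨s, hs⟩ := (isNoetherianRing_iff_ideal_fg S).mp inferInstance q
  have hmem : ∀ x : S, x ∈ q ↔ x • z = 0 := by
    intro x
    rw [hz, Submodule.mem_annihilator_span_singleton]
  have hvan : ∀ k : (s : Set S), ∃ (Q : Submodule R M) (hPQ : P ≤ Q), Q.FG ∧
      LinearMap.lTensor N (Submodule.inclusion hPQ) ((k : S) • z0) = 0 := by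
    intro k
    apply vanish N hP
    rw [lT_smul, hz0]
    exact (hmem _).mp (hs ▸ Ideal.subset_span k.2)
  choose Qk hPQk hQk hk using hvan
  let Q : Submodule R M := P ⊔ ⨆ k, Qk k
  have hPQ : P ≤ Q := le_sup_left
  have hQ : Q.FG := hP.sup (Submodule.fg_iSup _ hQk)
  let z' : N ⊗[R] Q := LinearMap.lTensor N (Submodule.inclusion hPQ) z0
  have hz' : LinearMap.lTensor N Q.subtype z' = z := by
    rw [← hz0]
    change (LinearMap.lTensor N Q.subtype ∘ₗ LinearMap.lTensor N (Submodule.inclusion hPQ)) z0 = _
    rw [← LinearMap.lTensor_comp]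
    rfl
  refine ⟨Q, hQ, hqp, z', ?_⟩
  apply le_antisymm
  · rw [← hs, Ideal.span_le]
    intro x hx
    rw [SetLike.mem_coe, Submodule.mem_annihilator_span_singleton]
    have hkQ : Qk ⟨x, hx⟩ ≤ Q := le_sup_of_le_right (le_iSup Qk ⟨x, hx⟩)
    have := hk ⟨x, hx⟩
    have h3 : LinearMap.lTensor N (Submodule.inclusion hkQ)
        (LinearMap.lTensor N (Submodule.inclusion (hPQk ⟨x, hx⟩)) (x • z0)) = 0 := by
      rw [this, map_zero]
    change (LinearMap.lTensor N (Submodule.inclusion hkQ) ∘ₗ
        LinearMap.lTensor N (Submodule.inclusion (hPQk ⟨x, hx⟩))) (x • z0) = 0 at h3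
    rw [← LinearMap.lTensor_comp] at h3
    rw [← lT_smul]
    exact h3
  · intro x hx
    rw [Submodule.mem_annihilator_span_singleton] at hx
    rw [hmem, ← hz', ← lT_smul, hx, map_zero]

end Groth.Agent.S9667
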