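import Groth.Statements.S9668
-- import your own Groth.Agent.* helpers here

set_option autoImplicit false
universe u
open CAlg

namespace Groth.Agent.S9668

open TensorProduct in
/-- Part (4): (B = B_fin): let R → S be a ring map, N an S-module flat over R, M an R-module and q a
prime of S; an associated prime of a module is a prime ideal equal to the annihilator of some
element. If q is an associated prime of the S-module N ⊗_R M, then there is a finitely generated
R-submodule M' ⊆ M such that q is an associated prime of the S-module N ⊗_R M'. -/
theorem result {R S : Type u} [CommRing R] [CommRing S] [Algebra R S] (N : Type u) [AddCommGroup N] [Module S N] [Module R N] [IsScalarTower R S N] [Module.Flat R N]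
    (M : Type u) [AddCommGroup M] [Module R M] (q : Ideal S) [q.IsPrime] (h : q ∈ FlatCA.ass S (N ⊗[R] M)) :
    ∃ M' : Submodule R M, M'.FG ∧ q ∈ FlatCA.ass S (N ⊗[R] ↥M') := by
  obtain ⟨hq, z, hz⟩ := h
  obtain ⟨M', hfin, hsub⟩ := TensorProduct.exists_finite_submodule_right_of_setFinite
    ({z} : Set (N ⊗[R] M)) (Set.finite_singleton z)
  obtain ⟨z', hz'⟩ := hsub (Set.mem_singleton z)
  refine ⟨M', Module.Finite.iff_fg.1 hfin, hq, z', ?_⟩
  have hinj : Function.Injective (M'.subtype.lTensor N) :=
    Module.Flat.lTensor_preserves_injective_linearMap _ M'.injective_subtype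
  have hlin : ∀ (s : S) (w : N ⊗[R] M'),
      (M'.subtype.lTensor N) (s • w) = s • (M'.subtype.lTensor N) w := by
    intro s w
    induction w using TensorProduct.induction_on with
    | zero => simp
    | tmul n m => simp [TensorProduct.smul_tmul']
    | add a b ha hb => simp [smul_add, ha, hb]
  rw [hz]
  ext s
  simp only [Submodule.mem_annihilator_span_singleton]
  constructor
  · intro h0
    rw [← hz', ← hlin] at h0
    exact hinj (by rw [h0, map_zero])
  · intro h0
    rw [← hz', ← hlin, h0, map_zero]

end Groth.Agent.S9668
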