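import Groth.Statements.S9671
import Mathlib
import Groth.Agent.Lib.Helper95.GradedQuotRing

set_option autoImplicit false
universe u
open CAlg

namespace Groth.Agent.S9671

open MvPolynomial Groth.Agent.Lib.Helper95.GradedQuotRing

attribute [local instance] MvPolynomial.gradedAlgebra

section Construction

variable (R : Type u) {R' : Type u} [CommRing R] [CommRing R'] [Algebra R R'] {n : ℕ}
  (x : Fin n → R')

abbrev Pn (R : Type u) [CommRing R] (n : ℕ) := MvPolynomial (Option (Fin n)) R

noncomputable def psi : Pn R n →ₐ[R] R' := aeval (fun o : Option (Fin n) => o.elim 1 x)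

theorem psi_X_none : psi R x (X none) = 1 := by simp [psi]

theorem psi_X_some (i : Fin n) : psi R x (X (some i)) = x i := by simp [psi]

theorem psi_C (r : R) : psi R x (C r) = algebraMap R R' r := by simp [psi]

noncomputable def J : Ideal (Pn R n) := Ideal.span {p | ∃ d, 1 ≤ d ∧ p.IsHomogeneous d ∧ psi R x p = 0}

theorem J_homogeneous : (J R x).IsHomogeneous (homogeneousSubmodule (Option (Fin n)) R) := by
  apply Ideal.homogeneous_span
  rintro p ⟨d, _, hp, _⟩
  exact ⟨d, hp⟩

theorem J_le_ker_psi : J R x ≤ RingHom.ker (psi R x : Pn R n →+* R') := by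
  apply Ideal.span_le.mpr
  rintro p ⟨d, _, _, h0⟩
  exact h0

theorem J_le_ker_cc : J R x ≤ RingHom.ker (constantCoeff : Pn R n →+* R) := by
  apply Ideal.span_le.mpr
  rintro p ⟨d, hd, hp, _⟩
  change constantCoeff p = 0
  by_contra hne
  have h1 := hp (d := 0) hne
  simp at h1
  omega

abbrev S := Pn R n ⧸ J R x

noncomputable abbrev grS : ℕ → Submodule R (S R x) :=
  qpiece (homogeneousSubmodule (Option (Fin n)) R) (J R x)

noncomputable instance : GradedAlgebra (grS R x) := quotGradedAlgebra _ _ (J_homogeneous R x)

noncomputable def psibar : S R x →+* R' :=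
  Ideal.Quotient.lift (J R x) (psi R x : Pn R n →+* R') (fun _ ha => J_le_ker_psi R x ha)

theorem psibar_mk (p : Pn R n) : psibar R x (Ideal.Quotient.mk _ p) = psi R x p := rfl

noncomputable def fS : S R x := Ideal.Quotient.mk _ (X none)

theorem fS_mem : fS R x ∈ grS R x 1 := mk_mem_qpiece _ _ (isHomogeneous_X R none)

theorem psibar_fS : psibar R x (fS R x) = 1 := by rw [fS, psibar_mk, psi_X_none]

noncomputable def e0 : HomogeneousLocalization.Away (grS R x) (fS R x) →+* R' :=
  (IsLocalization.Away.lift (fS R x) (g := psibar R x)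
    (by rw [psibar_fS]; exact isUnit_one)).comp
    (algebraMap (HomogeneousLocalization.Away (grS R x) (fS R x)) (Localization.Away (fS R x)))

theorem e0_mk (N : ℕ) (a : S R x) (ha : a ∈ grS R x (N • 1)) :
    e0 R x (HomogeneousLocalization.Away.mk (grS R x) (fS_mem R x) N a ha) = psibar R x a := by
  unfold e0
  rw [RingHom.comp_apply, HomogeneousLocalization.algebraMap_apply,
    HomogeneousLocalization.Away.val_mk, Localization.mk_eq_mk', IsLocalization.Away.lift,
    IsLocalization.lift_mk'_spec]
  simp [psibar_fS]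

theorem e0_injective : Function.Injective (e0 R x) := by
  rw [injective_iff_map_eq_zero]
  intro z hz
  obtain ⟨N, a, ha, rfl⟩ := HomogeneousLocalization.Away.mk_surjective (grS R x) (fS_mem R x) z
  rw [e0_mk] at hz
  obtain ⟨q, hq, rfl⟩ := (mem_qpiece_iff _ _).mp ha
  rw [psibar_mk] at hz
  have hqJ : q * X none ∈ J R x :=
    Ideal.subset_span ⟨N • 1 + 1, by omega, IsHomogeneous.mul hq (isHomogeneous_X R none),
      by rw [map_mul, hz, zero_mul]⟩
  have h0 : Ideal.Quotient.mk (J R x) q * fS R x = 0 := by
    rw [fS, ← map_mul]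
    exact Ideal.Quotient.eq_zero_iff_mem.mpr hqJ
  apply HomogeneousLocalization.val_injective
  rw [HomogeneousLocalization.Away.val_mk, HomogeneousLocalization.val_zero,
    Localization.mk_eq_mk', IsLocalization.mk'_eq_zero_iff]
  exact ⟨⟨fS R x, Submonoid.mem_powers _⟩, by rw [mul_comm]; exact h0⟩

theorem e0_surjective (hx : Function.Surjective (aeval x : MvPolynomial (Fin n) R →ₐ[R] R')) :
    Function.Surjective (e0 R x) := by
  intro y
  obtain ⟨p, rfl⟩ := hx y
  change aeval x p ∈ (e0 R x).range
  induction p using MvPolynomial.induction_on with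
  | C r =>
    refine ⟨HomogeneousLocalization.Away.mk (grS R x) (fS_mem R x) 0
      (Ideal.Quotient.mk _ (C r)) (mk_mem_qpiece _ _ (by simp)), ?_⟩
    rw [e0_mk, psibar_mk, psi_C]
    simp
  | add p q hp hq =>
    rw [map_add]
    exact add_mem hp hq
  | mul_X p i hp =>
    rw [map_mul]
    refine mul_mem hp ?_
    refine ⟨HomogeneousLocalization.Away.mk (grS R x) (fS_mem R x) 1
      (Ideal.Quotient.mk _ (X (some i)))
      (mk_mem_qpiece _ _ (by simpa using isHomogeneous_X R (some i))), ?_⟩
    rw [e0_mk, psibar_mk, psi_X_some]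
    simp

end Construction

/-- Let R be a ring and R' an R-algebra of finite type. Then there are an ℕ-graded R-algebra S such that
R → S₀ is bijective and S is generated as an R-algebra by a finite set of degree-1 elements, an
element f ∈ S₁, and a ring isomorphism e between the degree-zero part S_(f) of the localization S_f
and R' which matches r/1 with the image of r in R' for every r ∈ R (so R' is identified with S_(f)
as an R-algebra). The published statement also produces, from a finite R'-module, a finite graded
S-module whose degree-zero localization at f recovers it; that half is not part of this row. -/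
theorem result (R R' : Type u) [CommRing R] [CommRing R'] [Algebra R R'] [Algebra.FiniteType R R'] :
    ∃ (S : Type u) (_ : CommRing S) (_ : Algebra R S) (𝒜 : ℕ → Submodule R S) (_ : GradedAlgebra 𝒜) (f : S) (_ : f ∈ 𝒜 1) (s : Finset S)
      (e : HomogeneousLocalization.Away 𝒜 f ≃+* R'),
      Function.Injective (algebraMap R S) ∧ (∀ x ∈ 𝒜 0, x ∈ Set.range (algebraMap R S)) ∧
      (↑s ⊆ (𝒜 1 : Set S)) ∧ Algebra.adjoin R (s : Set S) = ⊤ ∧
      ∀ r : R, (e.symm (algebraMap R R' r)).val = algebraMap S (Localization.Away f) (algebraMap R S r) := by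
  classical
  obtain ⟨n, f₀, hf₀⟩ := Algebra.FiniteType.iff_quotient_mvPolynomial''.mp
    (inferInstance : Algebra.FiniteType R R')
  let x : Fin n → R' := fun i => f₀ (X i)
  have hx : Function.Surjective (aeval x : MvPolynomial (Fin n) R →ₐ[R] R') := by
    have h1 : (aeval x : MvPolynomial (Fin n) R →ₐ[R] R') = f₀ := by
      ext i
      simp [x]
    rw [h1]
    exact hf₀
  let e : HomogeneousLocalization.Away (grS R x) (fS R x) ≃+* R' :=
    RingEquiv.ofBijective (e0 R x) ⟨e0_injective R x, e0_surjective R x hx⟩
  refine ⟨S R x, inferInstance, inferInstance, grS R x, inferInstance, fS R x, fS_mem R x,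
    Finset.univ.image (fun o => Ideal.Quotient.mk _ (X o)), e, ?_, ?_, ?_, ?_, ?_⟩
  · intro r r' h
    have h1 : (Ideal.Quotient.mk (J R x)) (C r) = Ideal.Quotient.mk (J R x) (C r') := h
    rw [Ideal.Quotient.eq] at h1
    have h2 := J_le_ker_cc R x h1
    rw [RingHom.mem_ker, map_sub, constantCoeff_C, constantCoeff_C, sub_eq_zero] at h2
    exact h2
  · intro y hy
    obtain ⟨q, hq, rfl⟩ := (mem_qpiece_iff _ _).mp hy
    have hq' : q.IsHomogeneous 0 := hq
    have hqC : q = C (coeff 0 q) :=
      totalDegree_eq_zero_iff_eq_C.mp (Nat.le_zero.mp hq'.totalDegree_le)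
    exact ⟨coeff 0 q, by rw [hqC]; simp; rfl⟩
  · intro y hy
    rw [Finset.coe_image] at hy
    obtain ⟨o, _, rfl⟩ := hy
    exact mk_mem_qpiece _ _ (isHomogeneous_X R o)
  · rw [Finset.coe_image, Finset.coe_univ, Set.image_univ]
    have h1 : Set.range (fun o : Option (Fin n) => Ideal.Quotient.mk (J R x) (X o)) =
        (Ideal.Quotient.mkₐ R (J R x)) '' (Set.range X) := by
      rw [← Set.range_comp]
      rfl
    rw [h1, ← AlgHom.map_adjoin, MvPolynomial.adjoin_range_X, Algebra.map_top,
      AlgHom.range_eq_top]
    exact Ideal.Quotient.mkₐ_surjective R _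
  · intro r
    have hz : e (HomogeneousLocalization.Away.mk (grS R x) (fS_mem R x) 0
        (Ideal.Quotient.mk _ (C r))
        (mk_mem_qpiece _ _ (by simp))) = algebraMap R R' r := by
      change e0 R x _ = _
      rw [e0_mk, psibar_mk, psi_C]
    rw [← hz, RingEquiv.symm_apply_apply, HomogeneousLocalization.Away.val_mk]
    have halg : algebraMap R (S R x) r = Ideal.Quotient.mk (J R x) (C r) := rfl
    rw [halg, ← Localization.mk_one_eq_algebraMap]
    congr 1

end Groth.Agent.S9671
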