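import Groth.Statements.S9681
import Groth.Agent.Lib.Helper61.BiratField

set_option autoImplicit false
universe u
open CategoryTheory CategoryTheory.Limits AlgebraicGeometry
open Mor

namespace Groth.Agent.S9681

/-- Suppose X and Y are integral S-schemes, each locally of finite type over S, with generic points x
and y. Then X and Y are S-birational (they admit S-isomorphic nonempty opens) if and only if x and y
map to the same point s of S and the residue fields of x and y are isomorphic as extensions of the
residue field of s. -/
theorem result {S X Y : Scheme.{u}}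
    [IsIntegral X] [IsIntegral Y] (sX : X ⟶ S) (sY : Y ⟶ S)
    [LocallyOfFiniteType sX] [LocallyOfFiniteType sY] :
    Scheme.BirationalOver sX sY ↔
      ∃ (hs : sX.base (genericPoint ↥X) = sY.base (genericPoint ↥Y))
        (e : X.residueField (genericPoint ↥X) ≅ Y.residueField (genericPoint ↥Y)),
        sX.residueFieldMap (genericPoint ↥X) ≫ e.hom =
          eqToHom (congrArg S.residueField hs) ≫ sY.residueFieldMap (genericPoint ↥Y) := by
  constructor
  · intro h
    obtain ⟨W, j, g, hj, hg, w, hcomm, hjw, hgw⟩ :=
      Groth.Agent.Lib.Helper61.BiratField.exists_common_open_of_birationalOver sX sY h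
    exact Groth.Agent.Lib.Helper61.BiratField.exists_residueField_iso_of_isOpenImmersion sX sY j g
      hcomm w _ _ hjw hgw
  · rintro ⟨hs, e, he⟩
    obtain ⟨ψ, hψ⟩ :=
      Groth.Agent.Lib.Helper61.BiratField.exists_stalk_iso_of_residueField_iso sX sY hs e he
    exact Groth.Agent.Lib.Helper61.BiratField.birationalOver_of_stalk_iso sX sY hs ψ hψ

end Groth.Agent.S9681
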