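import Groth.Statements.S9683
import Groth.Agent.Lib.Helper29.TopDim
import Groth.Agent.S7552
import Mathlib.AlgebraicGeometry.Morphisms.Integral
-- import your own Groth.Agent.* helpers here

set_option autoImplicit false
universe u
open CategoryTheory CategoryTheory.Limits AlgebraicGeometry
open Mor

namespace Groth.Agent.S9683

/-- The dimension of an affine open is the Krull dimension of its ring of sections. -/
theorem topologicalKrullDim_affineOpen {X : Scheme.{u}} (U : X.Opens) (hU : IsAffineOpen U) :
    topologicalKrullDim ↥U = ringKrullDim Γ(X, U) := by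
  rw [← PrimeSpectrum.topologicalKrullDim_eq_ringKrullDim]
  exact IsHomeomorph.topologicalKrullDim_eq _ hU.isoSpec.hom.homeomorph.isHomeomorph

theorem ringKrullDim_le_of_isIntegral {A B : Type u} [CommRing A] [CommRing B] (φ : A →+* B)
    (hφ : φ.IsIntegral) : ringKrullDim B ≤ ringKrullDim A := by
  algebraize [φ]
  have : Algebra.IsIntegral A B := ⟨hφ⟩
  unfold ringKrullDim
  apply Order.krullDim_le_of_strictMono (PrimeSpectrum.comap (algebraMap A B))
  intro P Q hPQ
  rw [← PrimeSpectrum.asIdeal_lt_asIdeal] at hPQ ⊢
  exact Ideal.IsIntegral.comap_lt_comap (R := A) hPQ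

/-- For any integral morphism of schemes f : X ⟶ Y, the dimension of X is at most that of Y, and if f is
surjective then dim X = dim Y (dimensions of the underlying topological spaces). -/
theorem result {X Y : Scheme.{u}} (f : X ⟶ Y) [IsIntegralHom f] :
    topologicalKrullDim ↥X ≤ topologicalKrullDim ↥Y ∧
      (Surjective f → topologicalKrullDim ↥X = topologicalKrullDim ↥Y) := by
  have hle : topologicalKrullDim ↥X ≤ topologicalKrullDim ↥Y := by
    have hcov : ⨆ V : Y.affineOpens, f ⁻¹ᵁ V.1 = ⊤ := by
      rw [← Scheme.Hom.preimage_iSup, iSup_affineOpens_eq_top]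
      rfl
    rw [Groth.Agent.Lib.Helper29.topologicalKrullDim_eq_iSup_of_open_cover Y.affineOpens
      (fun V => f ⁻¹ᵁ V.1) hcov]
    apply iSup_le
    intro V
    have hU : IsAffineOpen (f ⁻¹ᵁ V.1) := V.2.preimage f
    rw [topologicalKrullDim_affineOpen _ hU]
    refine (ringKrullDim_le_of_isIntegral _ (f.isIntegral_app V.1 V.2)).trans ?_
    rw [← topologicalKrullDim_affineOpen _ V.2]
    exact topologicalKrullDim_subspace_le _ _
  refine ⟨hle, fun hs => le_antisymm hle ?_⟩
  have hcl : IsClosedMap f.base := f.isClosedMap
  exact Groth.Agent.S7552.result f.base f.continuous hs.surj (Or.inl hcl.specializingMap)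

end Groth.Agent.S9683
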