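import Groth.Statements.S9685
import Groth.Agent.S9686
import Groth.Agent.Lib.Helper73.GenericFibre

set_option autoImplicit false
universe u
open CategoryTheory CategoryTheory.Limits AlgebraicGeometry
open Mor

namespace Groth.Agent.S9685

open Groth.Agent.Lib.Helper73.SchemeDim

/-- Let X and Y be integral schemes with Y locally Noetherian and f : X ⟶ Y dominant and locally of
finite type. If n is the transcendence degree of the function field of X over the function field of
Y (computed on residue fields at the generic points), then dim X ≤ dim Y + n, and equality holds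
when the underlying map of f is closed. -/
theorem result {X Y : Scheme.{u}} [IsIntegral X] [IsIntegral Y]
    [IsLocallyNoetherian Y] (f : X ⟶ Y) [IsDominant f] [LocallyOfFiniteType f] (n : ℕ)
    (hn : letI := (f.residueFieldMap (genericPoint ↥X)).hom.toAlgebra
      Algebra.trdeg (Y.residueField (f.base (genericPoint ↥X))) (X.residueField (genericPoint ↥X)) = n) :
    topologicalKrullDim ↥X ≤ topologicalKrullDim ↥Y + n ∧
      (IsClosedMap f.base → topologicalKrullDim ↥X = topologicalKrullDim ↥Y + n) := by
  have hpart1 : topologicalKrullDim ↥X ≤ topologicalKrullDim ↥Y + n := by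
    refine Groth.Agent.S9686.result f n ?_
    intro ξ hξ
    have hgen : ξ = genericPoint X := by
      rw [irreducibleComponents_eq_singleton, Set.mem_singleton_iff] at hξ
      have h1 : IsGenericPoint ξ (Set.univ : Set X) := hξ
      exact h1.eq (genericPoint_spec X)
    subst hgen
    exact hn.le
  refine ⟨hpart1, fun hclosed => le_antisymm hpart1 ?_⟩
  obtain ⟨z, hz, hzn⟩ := exists_point_over_generic f n hn
  letI oX := specializationOrder X
  letI oY := specializationOrder Y
  have h1 := height_apply_le_of_specializingMap (X := X) (Y := Y) (fun _ _ => Iff.rfl)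
    (fun _ _ => Iff.rfl) f.base hclosed.specializingMap z
  rw [hz] at h1
  have hX : Order.krullDim X = topologicalKrullDim X :=
    (Order.krullDim_eq_of_orderIso (irreducibleSetEquivPoints (α := X))).symm
  have hY : Order.krullDim Y = topologicalKrullDim Y :=
    (Order.krullDim_eq_of_orderIso (irreducibleSetEquivPoints (α := Y))).symm
  rw [← hX, ← hY]
  have h2 : (Order.height (genericPoint Y) : WithBot ℕ∞) = Order.krullDim Y :=
    Order.height_top_eq_krullDim (α := Y)
  have h3 : (Order.height (genericPoint X) : WithBot ℕ∞) ≤ Order.krullDim X :=
    Order.height_le_krullDim _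
  rw [← h2]
  refine le_trans ?_ h3
  have h4 : Order.height (genericPoint Y) + n ≤ Order.height (genericPoint X) := by
    refine le_trans ?_ hzn
    gcongr
  exact_mod_cast h4

end Groth.Agent.S9685
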