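import Groth.Statements.S9689
import Groth.Agent.Lib.Helper25.NormUH

set_option autoImplicit false
universe u
open CategoryTheory CategoryTheory.Limits AlgebraicGeometry
open Mor

namespace Groth.Agent.S9689

/-- For an integral scheme X: if every local ring of X is geometrically unibranch, then the
normalization morphism X^ν ⟶ X is a universal homeomorphism. (The published statement assumes only X
irreducible; this row takes X integral, which loses nothing since the normalization of X equals that
of its reduction.) (The quasi-compactness and quasi-separatedness binders on Spec K(X) ⟶ X always
hold; they are only needed to form the normalization.) -/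
theorem result (X : Scheme.{u}) [IsIntegral X] [QuasiCompact (X.fromSpecStalk (genericPoint ↥X))] [QuasiSeparated (X.fromSpecStalk (genericPoint ↥X))]
    (hX : ∀ x : X, CAlg2.IsGeomUnibranch (X.presheaf.stalk x)) :
    FlatMor.IsUnivHomeo (Curv2.normalizationι X) := by
  have hg' : X.fromSpecStalk (genericPoint X) =
      Spec.map (CommRingCat.ofHom (RingHom.id X.functionField)) ≫
        X.fromSpecStalk (genericPoint X) := by
    have : CommRingCat.ofHom (RingHom.id X.functionField) = 𝟙 _ := rfl
    rw [this, Spec.map_id, Category.id_comp]
  exact Groth.Agent.Lib.Helper25.NormUH.isUnivHomeo_fromNormalization X X.functionField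
    (RingHom.id _) (X.fromSpecStalk (genericPoint X)) hg'
    (by
      have h : (RingHom.id X.functionField).toAlgebra = Algebra.id X.functionField :=
        Algebra.algebra_ext _ _ (fun r => rfl)
      rw [h]
      infer_instance) hX

end Groth.Agent.S9689
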