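import Groth.Statements.S9692
import Groth.Agent.S1616

set_option autoImplicit false
universe u
open CategoryTheory CategoryTheory.Limits AlgebraicGeometry
open Mor

namespace Groth.Agent.S9692

/-- abstract base-change lemma: `P_Y ⟶ P_Z ×_Z Q` is the base change of `j : Y ⟶ Q`. -/
theorem exists_lift_isPullback {B P Y Z Q : Scheme.{u}} (p : P ⟶ B) (tY : Y ⟶ B) (tZ : Z ⟶ B)
    (g : Y ⟶ Z) (hg : g ≫ tZ = tY) (q : Q ⟶ Z) (j : Y ⟶ Q) (hj : j ≫ q = g) :
    ∃ ℓ : pullback p tY ⟶ pullback (pullback.snd p tZ) q,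
      IsPullback ℓ (pullback.snd p tY) (pullback.snd (pullback.snd p tZ) q) j ∧
      ℓ ≫ pullback.fst (pullback.snd p tZ) q ≫ pullback.snd p tZ = pullback.snd p tY ≫ g := by
  have hw0 : pullback.fst p tY ≫ p = (pullback.snd p tY ≫ g) ≫ tZ := by
    rw [Category.assoc, hg, pullback.condition]
  obtain ⟨β, hβ1, hβ2⟩ : ∃ β : pullback p tY ⟶ pullback p tZ,
      β ≫ pullback.fst p tZ = pullback.fst p tY ∧
      β ≫ pullback.snd p tZ = pullback.snd p tY ≫ g :=
    ⟨pullback.lift _ _ hw0, pullback.lift_fst _ _ _, pullback.lift_snd _ _ _⟩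
  have sq1 : IsPullback β (pullback.snd p tY) (pullback.snd p tZ) g := by
    refine IsPullback.of_right (h₁₂ := pullback.fst p tZ) (h₂₂ := tZ) (v₁₃ := p) ?_ hβ2
      (IsPullback.of_hasPullback p tZ)
    rw [hβ1, hg]
    exact IsPullback.of_hasPullback p tY
  have hw : β ≫ pullback.snd p tZ = (pullback.snd p tY ≫ j) ≫ q := by
    rw [hβ2, Category.assoc, hj]
  obtain ⟨ℓ, hℓ1, hℓ2⟩ : ∃ ℓ : pullback p tY ⟶ pullback (pullback.snd p tZ) q,
      ℓ ≫ pullback.fst (pullback.snd p tZ) q = β ∧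
      ℓ ≫ pullback.snd (pullback.snd p tZ) q = pullback.snd p tY ≫ j :=
    ⟨pullback.lift _ _ hw, pullback.lift_fst _ _ _, pullback.lift_snd _ _ _⟩
  refine ⟨ℓ, ?_, ?_⟩
  · refine IsPullback.of_right (h₁₂ := pullback.fst (pullback.snd p tZ) q) (h₂₂ := q)
      (v₁₃ := pullback.snd p tZ) ?_ hℓ2 (IsPullback.of_hasPullback _ _)
    rw [hℓ1, hj]
    exact sq1
  · rw [reassoc_of% hℓ1, hβ2]

/-- A composition of H-projective morphisms (closed immersions into a projective space P^n over the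
target, followed by the projection) is H-projective. -/
theorem result {X Y Z : Scheme.{u}} (f : X ⟶ Y) (g : Y ⟶ Z)
    (hf : RelProj.IsHProjective f) (hg : RelProj.IsHProjective g) :
    RelProj.IsHProjective (f ≫ g) := by
  obtain ⟨n, i, hi, hif⟩ := hf
  obtain ⟨m, j, hj, hjg⟩ := hg
  obtain ⟨φ, hφ, hφc⟩ := Groth.Agent.S1616.result Z n m
  obtain ⟨ℓ, sq2, hℓ⟩ : ∃ ℓ : CohB1.ProjSpaceOver n Y ⟶
      pullback (CohB1.ProjSpaceOver.toBase n Z) (CohB1.ProjSpaceOver.toBase m Z),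
      IsPullback ℓ (CohB1.ProjSpaceOver.toBase n Y)
        (pullback.snd (CohB1.ProjSpaceOver.toBase n Z) (CohB1.ProjSpaceOver.toBase m Z)) j ∧
      ℓ ≫ pullback.fst (CohB1.ProjSpaceOver.toBase n Z) (CohB1.ProjSpaceOver.toBase m Z) ≫
        CohB1.ProjSpaceOver.toBase n Z = CohB1.ProjSpaceOver.toBase n Y ≫ g :=
    exists_lift_isPullback (CohB1.ProjSpace.toSpec n (ULift.{u} ℤ)) (specULiftZIsTerminal.from Y)
      (specULiftZIsTerminal.from Z) g (specULiftZIsTerminal.hom_ext _ _)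
      (CohB1.ProjSpaceOver.toBase m Z) j hjg
  have hℓc : IsClosedImmersion ℓ :=
    MorphismProperty.of_isPullback (P := @IsClosedImmersion) sq2.flip hj
  refine ⟨n * m + n + m, i ≫ ℓ ≫ φ, inferInstance, ?_⟩
  rw [Category.assoc, Category.assoc, hφc, hℓ, reassoc_of% hif]

end Groth.Agent.S9692
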