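import Groth.Statements.S9693
-- import your own Groth.Agent.* helpers here

set_option autoImplicit false
universe u
open CategoryTheory CategoryTheory.Limits AlgebraicGeometry
open Mor

namespace Groth.Agent.S9693


/-- base change of a closed immersion into `P^n_S`, in terms of the defining fibre products. -/
lemma aux {X S S' T Pn : Scheme.{u}} (a : Pn ⟶ T) (tS : S ⟶ T) (tS' : S' ⟶ T) (g : S' ⟶ S)
    (hterm : tS' = g ≫ tS) (f : X ⟶ S) (i : X ⟶ pullback a tS) (hi : IsClosedImmersion i)
    (hif : i ≫ pullback.snd a tS = f) :
    ∃ i' : pullback f g ⟶ pullback a tS', IsClosedImmersion i' ∧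
      i' ≫ pullback.snd a tS' = pullback.snd f g := by
  let b : pullback a tS' ⟶ pullback a tS :=
    pullback.lift (pullback.fst a tS') (pullback.snd a tS' ≫ g)
      (by rw [Category.assoc, ← hterm, pullback.condition])
  have hb1 : b ≫ pullback.fst a tS = pullback.fst a tS' := pullback.lift_fst _ _ _
  have hb2 : b ≫ pullback.snd a tS = pullback.snd a tS' ≫ g := pullback.lift_snd _ _ _
  have hbig : IsPullback (b ≫ pullback.fst a tS) (pullback.snd a tS') a (g ≫ tS) := by
    rw [hb1, ← hterm]
    exact IsPullback.of_hasPullback _ _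
  have hleft : IsPullback b (pullback.snd a tS') (pullback.snd a tS) g :=
    IsPullback.of_right hbig hb2 (IsPullback.of_hasPullback _ _)
  have htop : IsPullback (pullback.fst i b) (pullback.snd i b) i b := IsPullback.of_hasPullback _ _
  have hpaste := htop.paste_vert hleft
  rw [hif] at hpaste
  refine ⟨hpaste.isoPullback.inv ≫ pullback.snd i b, inferInstance, ?_⟩
  rw [Category.assoc, Iso.inv_comp_eq]
  exact hpaste.isoPullback_hom_snd.symm

/-- A base change of an H-projective morphism (a closed immersion into some P^n over the base followed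
by the projection) is H-projective. -/
theorem result {X S S' : Scheme.{u}} (f : X ⟶ S) (hf : RelProj.IsHProjective f)
    (g : S' ⟶ S) : RelProj.IsHProjective (pullback.snd f g) := by
  obtain ⟨n, i, hi, hif⟩ := hf
  have hterm : specULiftZIsTerminal.from S' = g ≫ specULiftZIsTerminal.from S :=
    specULiftZIsTerminal.hom_ext _ _
  obtain ⟨i', hi', hi'2⟩ := aux (CohB1.ProjSpace.toSpec n (ULift.{u} ℤ))
    (specULiftZIsTerminal.from S) (specULiftZIsTerminal.from S') g hterm f i hi hif
  exact ⟨n, i', hi', hi'2⟩

end Groth.Agent.S9693
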