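import Groth.Statements.S9695
import Groth.Agent.Lib.Ample.Helper50_VABase

set_option autoImplicit false
universe u
open CategoryTheory CategoryTheory.Limits AlgebraicGeometry
open Mor

namespace Groth.Agent.S9695

/-- Suppose f : X ⟶ S is a morphism of finite type and L is an invertible O_X-module. Then L is
f-relatively ample exactly when S can be covered by open subsets V with the following property: for
every such V there is an integer d ≥ 1 for which the tensor power L^{⊗d}, restricted to f⁻¹(V), is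
isomorphic to the pullback of O(1) under some V-immersion of f⁻¹(V) into a projective space P^n_V. -/
theorem result {X S : Scheme.{u}} (f : X ⟶ S)
    [LocallyOfFiniteType f] [QuasiCompact f] (L : X.Modules) (hLinv : PicF.IsInvertible L) :
    RelAmple.IsRelAmple f L ↔
      ∃ (ι : Type u) (V : ι → S.Opens), (⨆ j, V j) = ⊤ ∧
        ∀ j, ∃ d : ℕ, 0 < d ∧
          RelAmple.IsRelVeryAmplePn (f ∣_ V j) ((CohB1.tensorPow L d).restrict (f ⁻¹ᵁ V j).ι) := by
  constructor
  · rintro ⟨-, hamp⟩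
    refine ⟨S.affineOpens, fun V => V.1, iSup_affineOpens_eq_top S, fun V => ?_⟩
    obtain ⟨n₀, h⟩ := Groth.Agent.Lib.Ample.VA.isRelVeryAmplePn_tensorPow_of_isAmple
      (f ∣_ V.1) (hamp V)
    exact ⟨n₀ + 1, Nat.succ_pos _, Groth.Agent.Lib.Ample.VA.isRelVeryAmplePn_of_iso
      (Groth.Agent.Lib.QCoh.restrictTensorPowIso (f ⁻¹ᵁ V.1).ι L (n₀ + 1)).symm
      (h (n₀ + 1) (Nat.le_succ _))⟩
  · rintro ⟨ι, V, hV, h⟩
    refine ⟨inferInstance, fun W => ?_⟩
    have hWc : IsCompact ((f ⁻¹ᵁ W.1 : X.Opens) : Set X) :=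
      QuasiCompact.isCompact_preimage (f := f) _ W.1.isOpen W.2.isCompact
    apply Groth.Agent.Lib.Helper56.RelAmple.isAmple_restrict_of_forall_exists_basicOpen
      (f ⁻¹ᵁ W.1) hWc
    intro x hx
    have hfx : f x ∈ (⨆ j, V j) := hV ▸ trivial
    obtain ⟨j, hj⟩ := TopologicalSpace.Opens.mem_iSup.1 hfx
    obtain ⟨r₀, hr₀, hxr₀⟩ := W.2.exists_basicOpen_le (V := V j) ⟨f x, hj⟩ hx
    obtain ⟨d, hd, hva⟩ := h j
    refine ⟨f.app W.1 r₀, ?_, ?_⟩
    · rw [← Scheme.preimage_basicOpen]
      exact hxr₀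
    · refine Groth.Agent.Lib.Helper56.RelAmple.isAmple_restrict_congr
        (Scheme.preimage_basicOpen f r₀) ?_
      exact Groth.Agent.Lib.Ample.VA.isAmple_restrict_preimage_of_isRelVeryAmplePn f hLinv (V j)
        d hd hva (S.basicOpen r₀) (W.2.basicOpen r₀) hr₀

end Groth.Agent.S9695
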