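import Groth.Statements.S9696
import Groth.Agent.S9697
import Groth.Agent.Lib.Helper35.EtaleLocalScheme2
import Mathlib.AlgebraicGeometry.Morphisms.Etale
import Mathlib.AlgebraicGeometry.Morphisms.Flat

set_option autoImplicit false
universe u
open CategoryTheory CategoryTheory.Limits AlgebraicGeometry
open Mor

namespace Groth.Agent.S9696


/-- Let f : X ⟶ S be flat and locally of finite presentation and g : S' ⟶ S any morphism, with base
change f' : X ×_S S' ⟶ S' and projection g' : X ×_S S' ⟶ X. Then the open set of points where f' is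
etale is the inverse image under g' of the open set of points where f is etale. -/
theorem result {X S S' : Scheme.{u}} (f : X ⟶ S) [Flat f]
    [LocallyOfFinitePresentation f] (g : S' ⟶ S) (x' : ↑(pullback f g)) :
    (∃ U' : (pullback f g).Opens, x' ∈ U' ∧ Etale (U'.ι ≫ pullback.snd f g)) ↔
      (∃ U : X.Opens, (pullback.fst f g).base x' ∈ U ∧ Etale (U.ι ≫ f)) := by
  constructor
  · rintro ⟨U', hx', hU'⟩
    have h1 := (Groth.Agent.Lib.Helper35.stalkMap_of_etale_nhd (pullback.snd f g) x' U' hx').1
    exact Groth.Agent.Lib.Helper35.exists_etale_nhd_of_flat_of_formallyUnramified_stalkMap f _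
      ((Groth.Agent.S9697.formallyUnramified_stalkMap_baseChange_iff f g x').mp h1)
      (Flat.stalkMap f _)
  · rintro ⟨U, hx, hU⟩
    have h1 := (Groth.Agent.Lib.Helper35.stalkMap_of_etale_nhd f _ U hx).1
    exact Groth.Agent.Lib.Helper35.exists_etale_nhd_of_flat_of_formallyUnramified_stalkMap
      (pullback.snd f g) x'
      ((Groth.Agent.S9697.formallyUnramified_stalkMap_baseChange_iff f g x').mpr h1)
      (Flat.stalkMap (pullback.snd f g) _)

end Groth.Agent.S9696
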