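import Groth.Statements.S9702
import Groth.Agent.Lib.Helper61.GenFinFunField

set_option autoImplicit false
universe u
open CategoryTheory CategoryTheory.Limits AlgebraicGeometry
open Mor

namespace Groth.Agent.S9702

/-- Let X, Y be integral and f : X ⟶ Y dominant and locally of finite type, with ξ the generic point of
X (so f ξ is the generic point of Y). Then the following are equivalent: the residue field of ξ is
finite over that of f ξ; some nonempty affine opens U ⊆ X and V ⊆ Y with f(U) ⊆ V have U ⟶ V finite;
every point of X that f sends to the generic point of Y equals ξ. Under the extra assumption that f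
is quasi-compact or separated, these are also equivalent to: f⁻¹(V) ⟶ V is finite for some nonempty
affine open V ⊆ Y. (The published statement also lists transcendence degree 0 of the function field
extension, which for this finitely generated extension is equivalent to finiteness; this row omits
it.) -/
theorem result {X Y : Scheme.{u}} [IsIntegral X] [IsIntegral Y] (f : X ⟶ Y)
    [IsDominant f] [LocallyOfFiniteType f] :
    let ξ := genericPoint ↥X
    let A := letI := (f.residueFieldMap ξ).hom.toAlgebra
      Module.Finite (Y.residueField (f.base ξ)) (X.residueField ξ)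
    let B := ∃ (U : X.Opens) (V : Y.Opens) (hUV : U ≤ f ⁻¹ᵁ V), IsAffineOpen U ∧ IsAffineOpen V ∧
      Nonempty ↥U ∧ IsFinite (f.resLE V U hUV)
    let C := ∀ x : X, f.base x = genericPoint ↥Y → x = ξ
    let D := ∃ V : Y.Opens, IsAffineOpen V ∧ Nonempty ↥V ∧ IsFinite (f ∣_ V)
    (A ↔ B) ∧ (A ↔ C) ∧ (IsSeparated f ∨ QuasiCompact f → (A ↔ D)) := by
  intro ξ A B C D
  have hη : f ξ = genericPoint ↥Y := Groth.Agent.Lib.Helper61.GenFin.map_genericPoint f
  have hAC : A ↔ C := by
    have h := Groth.Agent.Lib.Helper61.GenFin.finite_residueFieldMap_iff_fiber_singleton f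
    refine h.trans ?_
    constructor
    · intro h1 x hx
      exact h1 x (hx.trans hη.symm)
    · intro h1 x hx
      exact h1 x (hx.trans hη)
  have hCB : C → B := fun c =>
    Groth.Agent.Lib.Helper61.GenFin.exists_isFinite_resLE_of_fiber f hη c
  have hBA : B → A := by
    rintro ⟨U, V, hUV, -, -, hne, hfin⟩
    have hξU : ξ ∈ U := by
      obtain ⟨u⟩ := hne
      exact (genericPoint_specializes u.1).mem_open U.2 u.2
    exact Groth.Agent.Lib.Helper61.GenFin.finite_residueFieldMap_of_isFinite_resLE f hUV hfin ξ hξU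
  have hDB : D → B := by
    rintro ⟨V, hV, ⟨v⟩, hfin⟩
    haveI : IsAffine V.toScheme := hV
    have hU : IsAffineOpen (f ⁻¹ᵁ V) := isAffine_of_isAffineHom (f ∣_ V)
    have hηV : genericPoint ↥Y ∈ V := (genericPoint_specializes v.1).mem_open V.2 v.2
    refine ⟨f ⁻¹ᵁ V, V, le_rfl, hU, hV, ⟨⟨ξ, ?_⟩⟩, ?_⟩
    · change f ξ ∈ V
      rw [hη]
      exact hηV
    · rw [Scheme.Hom.resLE_eq_morphismRestrict]
      exact hfin
  refine ⟨⟨fun a => hCB (hAC.mp a), hBA⟩, hAC, ?_⟩
  intro hsq
  refine ⟨fun a => ?_, fun d => hBA (hDB d)⟩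
  have hc : C := hAC.mp a
  rcases hsq with hs | hq
  · obtain ⟨U, V, hUV, -, hV, hne, hfin⟩ := hCB hc
    haveI := hs
    haveI := hne
    have hηV : genericPoint ↥Y ∈ V := by
      rw [← hη]
      obtain ⟨u⟩ := hne
      exact hUV ((genericPoint_specializes u.1).mem_open U.2 u.2)
    exact ⟨V, hV, ⟨⟨_, hηV⟩⟩,
      Groth.Agent.Lib.Helper61.GenFin.isFinite_morphismRestrict_of_isFinite_resLE f hUV hfin⟩
  · haveI := hq
    have hX : (irreducibleComponents ↥X).Finite := by
      rw [irreducibleComponents_eq_singleton]
      exact Set.finite_singleton _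
    have hgen : ∀ x : X, closure {f x} ∈ irreducibleComponents ↥Y →
        closure {x} ∈ irreducibleComponents ↥X := by
      intro x hx
      rw [Groth.Agent.Lib.Helper61.GenFin.closure_mem_irreducibleComponents_iff] at hx ⊢
      exact hc x hx
    obtain ⟨V, hV, hηV, hfin⟩ := Groth.Agent.Lib.Helper61.GenFin.exists_isFinite_of_generic f hX hgen
      ((Groth.Agent.Lib.Helper61.GenFin.closure_mem_irreducibleComponents_iff _).mpr rfl)
    exact ⟨V, hV, ⟨⟨_, hηV⟩⟩, hfin⟩

end Groth.Agent.S9702
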