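import Groth.Statements.S9709
import Groth.Agent.Lib.Helper21.IntegralFibre
-- import your own Groth.Agent.* helpers here

set_option autoImplicit false
universe u
open CategoryTheory CategoryTheory.Limits AlgebraicGeometry
open Mor

namespace Groth.Agent.S9709

/-- Let f : X ⟶ S be an integral morphism. Then every point x of X is closed in its fibre: a point of
f⁻¹(f x) specialising from x equals x. -/
theorem result {X S : Scheme.{u}} (f : X ⟶ S) [IsIntegralHom f] (x : X) :
    closure {x} ∩ f.base ⁻¹' {f.base x} = {x} := by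
  apply Set.Subset.antisymm
  · rintro x' ⟨hx'cl, hx'f⟩
    -- transport to the fibre
    have hxf : x ∈ f.base ⁻¹' {f.base x} := rfl
    let e := f.fiberHomeo (f.base x)
    let z : ↥(f.fiber (f.base x)) := e.symm ⟨x, hxf⟩
    let z' : ↥(f.fiber (f.base x)) := e.symm ⟨x', hx'f⟩
    have hsp : (⟨x, hxf⟩ : ↥(f.base ⁻¹' {f.base x})) ⤳ ⟨x', hx'f⟩ :=
      Topology.IsInducing.subtypeVal.specializes_iff.1 (specializes_iff_mem_closure.2 hx'cl)
    have hsp' : z ⤳ z' := hsp.map e.symm.continuous
    have hzz' : z' = z := by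
      have := (Groth.Agent.Lib.Helper21.isClosed_singleton_fiber_of_isIntegralHom f (f.base x) z).closure_eq
      have h2 : z' ∈ closure ({z} : Set ↥(f.fiber (f.base x))) := specializes_iff_mem_closure.1 hsp'
      rw [this] at h2
      exact h2
    have h3 : (⟨x', hx'f⟩ : ↥(f.base ⁻¹' {f.base x})) = ⟨x, hxf⟩ := e.symm.injective hzz'
    exact congrArg Subtype.val h3
  · rintro _ rfl
    exact ⟨subset_closure rfl, rfl⟩

end Groth.Agent.S9709
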