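import Groth.Statements.S9718
import Mathlib
-- import your own Groth.Agent.* helpers here

set_option autoImplicit false
universe u
open Mor

namespace Groth.Agent.S9718
open CategoryTheory AlgebraicGeometry TopologicalSpace

namespace SpreadFP

variable {X : Scheme.{u}} {R A : CommRingCat.{u}}

lemma exists_lift_of_fp {U : X.Opens} {x : X} (hxU : x ∈ U)
    (φ : A ⟶ X.presheaf.stalk x) (φRA : R ⟶ A) (φRX : R ⟶ Γ(X, U))
    (hφRA : RingHom.FinitePresentation φRA.hom)
    (e : φRA ≫ φ = φRX ≫ X.presheaf.germ U x hxU) :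
    ∃ (V : X.Opens) (hxV : x ∈ V) (φ' : A ⟶ Γ(X, V)) (i : V ≤ U), IsAffineOpen V ∧
      φ = φ' ≫ X.presheaf.germ V x hxV ∧ φRX ≫ X.presheaf.map i.hom.op = φRA ≫ φ' := by
  classical
  let _ := φRA.hom.toAlgebra
  have fp : Algebra.FinitePresentation R A := hφRA
  obtain ⟨n, f, hfsurj, hfker⟩ := fp.out
  choose W hxW a ha using fun i : Fin n => X.presheaf.exists_germ_eq (φ (f (MvPolynomial.X i)))
  set W₀ : X.Opens := (Finset.univ.inf W) ⊓ U with hW₀
  have hxW₀ : x ∈ W₀ := by
    rw [hW₀, ← SetLike.mem_coe, TopologicalSpace.Opens.coe_inf, TopologicalSpace.Opens.coe_finset_inf]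
    exact ⟨by simpa using fun i => hxW i, hxU⟩
  have hW₀U : W₀ ≤ U := inf_le_right
  have hW₀W : ∀ i, W₀ ≤ W i := fun i => inf_le_left.trans (Finset.inf_le (Finset.mem_univ i))
  let ψ : MvPolynomial (Fin n) R →+* Γ(X, W₀) :=
    MvPolynomial.eval₂Hom (φRX ≫ X.presheaf.map (homOfLE hW₀U).op).hom
      (fun i => X.presheaf.map (homOfLE (hW₀W i)).op (a i))
  have hfC : ∀ r : R, f (MvPolynomial.C r) = φRA r := fun r => by
    rw [← MvPolynomial.algebraMap_eq, AlgHom.commutes]; rfl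
  have key : ∀ p, X.presheaf.germ W₀ x hxW₀ (ψ p) = φ (f p) := by
    intro p
    have : (X.presheaf.germ W₀ x hxW₀).hom.comp ψ = φ.hom.comp f.toRingHom := by
      apply MvPolynomial.ringHom_ext
      · intro r
        simp only [RingHom.comp_apply, ψ, MvPolynomial.eval₂Hom_C, AlgHom.toRingHom_eq_coe, RingHom.coe_coe, hfC]
        have := congrArg (fun g => g.hom r) e
        simp only [CommRingCat.hom_comp, RingHom.comp_apply] at this
        rw [this]
        simp only [CommRingCat.hom_comp, RingHom.comp_apply]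
        exact X.presheaf.germ_res_apply (homOfLE hW₀U) x hxW₀ _
      · intro i
        simp only [RingHom.comp_apply, ψ, MvPolynomial.eval₂Hom_X', AlgHom.toRingHom_eq_coe, RingHom.coe_coe]
        rw [← ha i]
        exact X.presheaf.germ_res_apply (homOfLE (hW₀W i)) x hxW₀ _
    exact congrArg (fun g => g p) this
  obtain ⟨s, hs⟩ := hfker
  have hzero : ∀ g : s, ∃ (W' : X.Opens) (_ : x ∈ W') (hle : W' ≤ W₀),
      X.presheaf.map (homOfLE hle).op (ψ g.1) = 0 := by
    intro g
    have hg : f g.1 = 0 := by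
      have : g.1 ∈ RingHom.ker f.toRingHom := by rw [← hs]; exact Ideal.subset_span g.2
      exact this
    have h0 : X.presheaf.germ W₀ x hxW₀ (ψ g.1) = X.presheaf.germ W₀ x hxW₀ 0 := by
      rw [key, hg, map_zero, map_zero]
    obtain ⟨W', hxW', iU, iV, h⟩ := X.presheaf.germ_eq x hxW₀ hxW₀ _ _ h0
    refine ⟨W', hxW', iU.le, ?_⟩
    rw [map_zero] at h
    exact h
  choose W' hxW' hW'le hW'zero using hzero
  set V₁ : X.Opens := (Finset.univ.inf W') ⊓ W₀ with hV₁
  have hxV₁ : x ∈ V₁ := by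
    rw [hV₁, ← SetLike.mem_coe, TopologicalSpace.Opens.coe_inf, TopologicalSpace.Opens.coe_finset_inf]
    exact ⟨by simpa using fun i hi => hxW' ⟨i, hi⟩, hxW₀⟩
  obtain ⟨_, ⟨V, hV, rfl⟩, hxV, hVV₁⟩ :=
    X.isBasis_affineOpens.exists_subset_of_mem_open hxV₁ V₁.2
  have hVV₁' : V ≤ V₁ := hVV₁
  have hVW₀ : V ≤ W₀ := hVV₁'.trans inf_le_right
  have hVW' : ∀ g : s, V ≤ W' g := fun g => hVV₁'.trans (inf_le_left.trans (Finset.inf_le (Finset.mem_univ g)))
  let ψ' : MvPolynomial (Fin n) R →+* Γ(X, V) := (X.presheaf.map (homOfLE hVW₀).op).hom.comp ψ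
  have hker : RingHom.ker f.toRingHom ≤ RingHom.ker ψ' := by
    rw [← hs, Ideal.span_le]
    intro g hg
    simp only [SetLike.mem_coe, RingHom.mem_ker, ψ', RingHom.comp_apply]
    have h1 := hW'zero ⟨g, hg⟩
    have h2 : X.presheaf.map (homOfLE hVW₀).op (ψ g) =
        X.presheaf.map (homOfLE (hVW' ⟨g, hg⟩)).op (X.presheaf.map (homOfLE (hW'le ⟨g, hg⟩)).op (ψ g)) := by
      rw [← ConcreteCategory.comp_apply, ← Functor.map_comp]
      rfl
    change (X.presheaf.map (homOfLE hVW₀).op) (ψ g) = 0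
    rw [h2, h1, map_zero]
  let φ'r : A →+* Γ(X, V) := f.toRingHom.liftOfRightInverse _ (Function.rightInverse_surjInv hfsurj) ⟨ψ', hker⟩
  have hφ'r : ∀ p, φ'r (f p) = ψ' p := fun p =>
    f.toRingHom.liftOfRightInverse_comp_apply _ (Function.rightInverse_surjInv hfsurj) ⟨ψ', hker⟩ p
  refine ⟨V, hxV, CommRingCat.ofHom φ'r, hVW₀.trans hW₀U, hV, ?_, ?_⟩
  · ext b
    obtain ⟨p, rfl⟩ := hfsurj b
    simp only [CommRingCat.hom_comp, CommRingCat.hom_ofHom, RingHom.comp_apply]
    rw [hφ'r, ← key]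
    simp only [ψ', RingHom.comp_apply]
    exact (X.presheaf.germ_res_apply (homOfLE hVW₀) x hxV _).symm
  · ext r
    simp only [CommRingCat.hom_comp, CommRingCat.hom_ofHom, RingHom.comp_apply]
    rw [← hfC, hφ'r]
    simp only [ψ', ψ, RingHom.comp_apply, MvPolynomial.eval₂Hom_C, CommRingCat.hom_comp]
    change X.presheaf.map _ (φRX r) = X.presheaf.map _ (X.presheaf.map _ (φRX r))
    rw [← ConcreteCategory.comp_apply (X.presheaf.map _) (X.presheaf.map _), ← Functor.map_comp]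
    rfl


variable {X Y S : Scheme.{u}} (sX : X ⟶ S) (sY : Y ⟶ S)

set_option backward.isDefEq.respectTransparency.types false in
lemma spread_out_of_fp [LocallyOfFinitePresentation sY] {x : X} {y : Y}
    (e : sX x = sY y) (φ : Y.presheaf.stalk y ⟶ X.presheaf.stalk x)
    (h : sY.stalkMap y ≫ φ =
      S.presheaf.stalkSpecializes (Inseparable.of_eq e).specializes ≫ sX.stalkMap x) :
    ∃ (U : X.Opens) (hxU : x ∈ U) (f : U.toScheme ⟶ Y),
      Spec.map φ ≫ Y.fromSpecStalk y = U.fromSpecStalkOfMem x hxU ≫ f ∧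
      f ≫ sY = U.ι ≫ sX := by
  obtain ⟨_, ⟨U, hU, rfl⟩, hxU, -⟩ :=
    S.isBasis_affineOpens.exists_subset_of_mem_open (Set.mem_univ (sX x)) isOpen_univ
  have hyU : sY y ∈ U := e ▸ hxU
  obtain ⟨_, ⟨V : Y.Opens, hV, rfl⟩, hyV, iVU⟩ :=
    Y.isBasis_affineOpens.exists_subset_of_mem_open hyU (sY ⁻¹ᵁ U).2
  have : sY.appLE U V iVU ≫ Y.presheaf.germ V y hyV ≫ φ =
      sX.app U ≫ X.presheaf.germ (sX ⁻¹ᵁ U) x hxU := by
    rw [Scheme.Hom.appLE, Category.assoc, Y.presheaf.germ_res_assoc,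
      ← Scheme.Hom.germ_stalkMap_assoc, h]
    simp
  obtain ⟨W, hxW, φ', i, hW, h₁, h₂⟩ :=
    exists_lift_of_fp (R := Γ(S, U)) (A := Γ(Y, V)) (U := sX ⁻¹ᵁ U) (x := x) hxU
    (Y.presheaf.germ _ y hyV ≫ φ) (sY.appLE U V iVU) (sX.app U)
    (sY.finitePresentation_appLE hU hV _) this
  refine ⟨W, hxW, W.toSpecΓ ≫ Spec.map φ' ≫ hV.fromSpec, ?_, ?_⟩
  · rw [W.fromSpecStalkOfMem_toSpecΓ_assoc x hxW, ← Spec.map_comp_assoc, ← h₁,
      Spec.map_comp, Category.assoc, ← IsAffineOpen.fromSpecStalk,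
      IsAffineOpen.fromSpecStalk_eq_fromSpecStalk]
  · simp only [Category.assoc]
    rw [← IsAffineOpen.SpecMap_appLE_fromSpec sY hU hV iVU, ← Spec.map_comp_assoc, ← h₂,
      ← Scheme.Hom.appLE, ← hW.isoSpec_hom, IsAffineOpen.SpecMap_appLE_fromSpec sX hU hW i,
      ← Iso.eq_inv_comp, IsAffineOpen.isoSpec_inv_ι_assoc]

set_option backward.isDefEq.respectTransparency.types false in
lemma spread_out_of_fp' [LocallyOfFinitePresentation sY] {x : X}
    (φ : Spec (X.presheaf.stalk x) ⟶ Y)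
    (h : φ ≫ sY = X.fromSpecStalk x ≫ sX) :
    ∃ (U : X.Opens) (hxU : x ∈ U) (f : U.toScheme ⟶ Y),
      φ = U.fromSpecStalkOfMem x hxU ≫ f ∧ f ≫ sY = U.ι ≫ sX := by
  have := spread_out_of_fp sX sY ?_ (Scheme.stalkClosedPointTo φ) ?_
  · simpa only [Scheme.Spec_stalkClosedPointTo_fromSpecStalk] using this
  · rw [← Scheme.Hom.comp_apply, h, Scheme.Hom.comp_apply, Scheme.fromSpecStalk_closedPoint]
  · apply Spec.map_injective
    rw [← cancel_mono (S.fromSpecStalk _)]
    simpa only [Spec.map_comp, Category.assoc, Scheme.SpecMap_stalkMap_fromSpecStalk,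
      Scheme.Spec_stalkClosedPointTo_fromSpecStalk_assoc,
      Scheme.SpecMap_stalkSpecializes_fromSpecStalk]

end SpreadFP


open AlgebraicGeometry in
open CategoryTheory in
/-- Let X and Y be S-schemes with X irreducible, with generic point x, and Y locally of finite
presentation over S. Then every S-morphism Spec(O_{X,x}) ⟶ Y is induced by an S-rational map from X
to Y. (The published statement allows X with finitely many irreducible components and asks for such
data at each generic point; this row is the case of one component, to which the general case reduces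
on the dense open where the components are disjoint. Injectivity of the assignment, for Y locally of
finite type, is a separate result.) -/
theorem result
    (S X Y : Scheme.{u}) [X.Over S] [Y.Over S] [IrreducibleSpace X]
    [LocallyOfFinitePresentation (Y ↘ S)]
    (φ : Spec (X.presheaf.stalk (genericPoint X)) ⟶ Y)
    (hφ : φ ≫ (Y ↘ S) = X.fromSpecStalk (genericPoint X) ≫ (X ↘ S)) :
    ∃ f : X ⤏ Y, f.IsOver S ∧ f.fromFunctionField = φ := by
  obtain ⟨U, hxU, f, hf1, hf2⟩ := SpreadFP.spread_out_of_fp' (X ↘ S) (Y ↘ S) φ hφ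
  have hdense : Dense (U : Set X) :=
    U.2.dense ⟨_, hxU⟩
  let pm : X.PartialMap Y := ⟨U, hdense, f⟩
  have hover : pm.IsOver S := by
    rw [Scheme.PartialMap.isOver_iff]
    exact hf2
  refine ⟨pm.toRationalMap, inferInstance, ?_⟩
  rw [Scheme.RationalMap.fromFunctionField_toRationalMap]
  exact hf1.symm

end Groth.Agent.S9718
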