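import Groth.Statements.S9721
import Mathlib
-- import your own Groth.Agent.* helpers here

set_option autoImplicit false
universe u
open CategoryTheory AlgebraicGeometry
open Mor

namespace Groth.Agent.S9721

open RingHom in
theorem exists_stdSmooth_of_smooth {X S : Scheme.{u}} (f : X ⟶ S) [hf : Smooth f] (x : X)
    (V : S.Opens) (hV : IsAffineOpen V) (hxV : f x ∈ V) :
    ∃ (U : X.Opens) (_ : IsAffineOpen U) (_ : x ∈ U) (e : U ≤ f ⁻¹ᵁ V),
        (f.appLE V U e).hom.IsStandardSmooth := by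
  have : HasRingHomProperty @Smooth.{u} (Locally IsStandardSmooth) := by
    convert! (inferInstance : HasRingHomProperty (@Smooth.{u}) RingHom.Smooth)
    ext f
    rw [RingHom.smooth_iff_locally_isStandardSmooth]
  obtain ⟨V', hV', hx, e⟩ := TopologicalSpace.Opens.isBasis_iff_nbhd.mp X.isBasis_affineOpens
    (show x ∈ f ⁻¹ᵁ V from hxV)
  have hf' := (HasRingHomProperty.iff_appLE (P := @Smooth)).mp hf ⟨V, hV⟩ ⟨V', hV'⟩ e
  rw [locally_iff_isLocalization isStandardSmooth_respectsIso] at hf'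
  obtain ⟨s, hs, hfs⟩ := hf'
  apply iSup_basicOpen_of_span_eq_top at hs
  have : x ∈ (⨆ i ∈ s, X.basicOpen i) := hs.symm ▸ hx
  have : ∃ r ∈ s, x ∈ X.basicOpen r := by simpa using this
  obtain ⟨r, hr, hrs⟩ := this
  refine ⟨X.basicOpen r, hV'.basicOpen r, hrs, (X.basicOpen_le r).trans e, ?_⟩
  rw [← f.appLE_map e (homOfLE (X.basicOpen_le r)).op]
  have : IsLocalization.Away r Γ(X, X.basicOpen r) := hV'.isLocalization_basicOpen r
  exact hfs r hr _

/-- Let f : X ⟶ S be a morphism, x a point of X and V an affine open neighbourhood of f(x) in S. Then f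
is smooth on some open neighbourhood of x if and only if there is an affine open neighbourhood U of
x with f(U) ⊆ V such that the induced ring map Γ(S, V) ⟶ Γ(X, U) is standard smooth. -/
theorem result {X S : Scheme.{u}} (f : X ⟶ S) (x : X)
    (V : S.Opens) (hV : IsAffineOpen V) (hxV : f x ∈ V) :
    (∃ W : X.Opens, x ∈ W ∧ Smooth (W.ι ≫ f)) ↔
      ∃ (U : X.Opens) (_ : IsAffineOpen U) (_ : x ∈ U) (e : U ≤ f ⁻¹ᵁ V),
        (f.appLE V U e).hom.IsStandardSmooth := by
  constructor
  · rintro ⟨W, hxW, hsm⟩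
    obtain ⟨U', hU', hxU', e', hstd⟩ := exists_stdSmooth_of_smooth (W.ι ≫ f) (⟨x, hxW⟩ : W.toScheme) V hV
      hxV
    have e : W.ι ''ᵁ U' ≤ f ⁻¹ᵁ V := by
      rintro _ ⟨y, hy, rfl⟩
      exact e' hy
    refine ⟨W.ι ''ᵁ U', hU'.image_of_isOpenImmersion W.ι, ⟨⟨x, hxW⟩, hxU', rfl⟩, e, ?_⟩
    · have key : (W.ι ≫ f).appLE V U' e' = f.appLE V (W.ι ''ᵁ U') e ≫ (W.ι.appIso U').hom := by
        rw [Scheme.Hom.appIso_hom', Scheme.Hom.appLE_comp_appLE]
      rw [key] at hstd
      have := (RingHom.isStandardSmooth_respectsIso.cancel_right_isIso (f.appLE V (W.ι ''ᵁ U') e)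
        (W.ι.appIso U').hom).mp hstd
      exact this
  · rintro ⟨U, hU, hxU, e, hstd⟩
    refine ⟨U, hxU, ?_⟩
    have h1 : U.ι ≫ f = f.resLE V U e ≫ V.ι := (Scheme.Hom.resLE_comp_ι f e).symm
    rw [h1]
    have : IsAffine U.toScheme := hU
    have : IsAffine V.toScheme := hV
    have h2 : Smooth (f.resLE V U e) := by
      rw [HasRingHomProperty.iff_of_isAffine (P := @Smooth)]
      have hsm : (f.appLE V U e).hom.Smooth := hstd.smooth
      have hri : (RingHom.toMorphismProperty RingHom.Smooth).RespectsIso :=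
        RingHom.toMorphismProperty_respectsIso_iff.mp RingHom.Smooth.propertyIsLocal.respectsIso
      exact (MorphismProperty.arrow_mk_iso_iff (RingHom.toMorphismProperty RingHom.Smooth)
        (arrowResLEAppIso f V U e)).mpr hsm
    infer_instance

end Groth.Agent.S9721
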