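import Groth.Statements.S9722
import Mathlib
-- import your own Groth.Agent.* helpers here

set_option autoImplicit false
universe u
open CategoryTheory AlgebraicGeometry
open Mor

namespace Groth.Agent.S9722

theorem exists_stdEtale_away {R S : Type u} [CommRing R] [CommRing S] (φ : R →+* S) (hφ : φ.Etale)
    (Q : Ideal S) [Q.IsPrime] :
    ∃ r ∉ Q, ∀ (Sr : Type u) [CommRing Sr] [Algebra S Sr] [IsLocalization.Away r Sr],
      @Algebra.IsStandardEtale R Sr _ _ ((algebraMap S Sr).comp φ).toAlgebra := by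
  algebraize [φ]
  have : Algebra.IsEtaleAt R Q := by
    have : Algebra.FormallyEtale S (Localization.AtPrime Q) :=
      Algebra.FormallyEtale.of_isLocalization Q.primeCompl
    exact Algebra.FormallyEtale.comp R S (Localization.AtPrime Q)
  obtain ⟨r, hr, h⟩ := Algebra.IsEtaleAt.exists_isStandardEtale (R := R) Q
  refine ⟨r, hr, fun Sr _ _ _ => ?_⟩
  let _ : Algebra R Sr := ((algebraMap S Sr).comp φ).toAlgebra
  have : IsScalarTower R S Sr := IsScalarTower.of_algebraMap_eq (fun _ => rfl)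
  exact Algebra.IsStandardEtale.of_equiv
    ((IsLocalization.algEquiv (Submonoid.powers r) (Localization.Away r) Sr).restrictScalars R)

theorem stdEtale_of_comp_iso {R A B : CommRingCat.{u}} (φ : R ⟶ A) (i : A ≅ B)
    (h : @Algebra.IsStandardEtale R B _ _ (φ ≫ i.hom).hom.toAlgebra) :
    @Algebra.IsStandardEtale R A _ _ φ.hom.toAlgebra := by
  letI : Algebra R B := (φ ≫ i.hom).hom.toAlgebra
  letI : Algebra R A := φ.hom.toAlgebra
  let e : B ≃ₐ[R] A :=
    { i.commRingCatIsoToRingEquiv.symm with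
      commutes' := fun r => by
        change i.inv.hom ((φ ≫ i.hom).hom r) = φ.hom r
        simp }
  exact Algebra.IsStandardEtale.of_equiv e

/-- Let f : X ⟶ S be a morphism, x a point of X and V an affine open neighbourhood of f(x) in S. Then f
is étale on some open neighbourhood of x if and only if there is an affine open neighbourhood U of x
with f(U) ⊆ V such that Γ(X, U) is a standard étale algebra over Γ(S, V) through the induced ring
map. -/
theorem result {X S : Scheme.{u}} (f : X ⟶ S) (x : X)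
    (V : S.Opens) (hV : IsAffineOpen V) (hxV : f x ∈ V) :
    (∃ W : X.Opens, x ∈ W ∧ Etale (W.ι ≫ f)) ↔
      ∃ (U : X.Opens) (_ : IsAffineOpen U) (_ : x ∈ U) (e : U ≤ f ⁻¹ᵁ V),
        letI := (f.appLE V U e).hom.toAlgebra
        Algebra.IsStandardEtale Γ(S, V) Γ(X, U) := by
  constructor
  · rintro ⟨W, hxW, het⟩
    obtain ⟨V', hV', hx, e'⟩ := TopologicalSpace.Opens.isBasis_iff_nbhd.mp W.toScheme.isBasis_affineOpens
      (show (⟨x, hxW⟩ : W.toScheme) ∈ (W.ι ≫ f) ⁻¹ᵁ V from hxV)
    have hg := (HasRingHomProperty.iff_appLE (P := @Etale)).mp het ⟨V, hV⟩ ⟨V', hV'⟩ e'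
    obtain ⟨r, hr, hstd⟩ := exists_stdEtale_away _ hg (hV'.primeIdealOf ⟨⟨x, hxW⟩, hx⟩).asIdeal
    have hxr : (⟨x, hxW⟩ : W.toScheme) ∈ W.toScheme.basicOpen r := by
      have h1 := hV'.fromSpec_primeIdealOf ⟨⟨x, hxW⟩, hx⟩
      have h2 : hV'.primeIdealOf ⟨⟨x, hxW⟩, hx⟩ ∈ hV'.fromSpec ⁻¹ᵁ W.toScheme.basicOpen r := by
        rw [hV'.fromSpec_preimage_basicOpen r]
        exact hr
      have h3 : hV'.fromSpec (hV'.primeIdealOf ⟨⟨x, hxW⟩, hx⟩) ∈ W.toScheme.basicOpen r := h2
      rw [h1] at h3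
      exact h3
    have hloc : IsLocalization.Away r Γ(W.toScheme, W.toScheme.basicOpen r) := hV'.isLocalization_basicOpen r
    have h1 := hstd Γ(W.toScheme, W.toScheme.basicOpen r)
    have e'' : W.toScheme.basicOpen r ≤ (W.ι ≫ f) ⁻¹ᵁ V := (W.toScheme.basicOpen_le r).trans e'
    have e : W.ι ''ᵁ (W.toScheme.basicOpen r) ≤ f ⁻¹ᵁ V := by
      rintro _ ⟨y, hy, rfl⟩
      exact e'' hy
    refine ⟨W.ι ''ᵁ (W.toScheme.basicOpen r), (hV'.basicOpen r).image_of_isOpenImmersion W.ι,
      ⟨⟨x, hxW⟩, hxr, rfl⟩, e, ?_⟩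
    have key : (W.ι ≫ f).appLE V (W.toScheme.basicOpen r) e'' =
        f.appLE V (W.ι ''ᵁ (W.toScheme.basicOpen r)) e ≫ (W.ι.appIso (W.toScheme.basicOpen r)).hom := by
      rw [Scheme.Hom.appIso_hom', Scheme.Hom.appLE_comp_appLE]
    have key2 : (W.ι ≫ f).appLE V (W.toScheme.basicOpen r) e'' =
        (W.ι ≫ f).appLE V V' e' ≫ W.toScheme.presheaf.map (homOfLE (W.toScheme.basicOpen_le r)).op := by
      rw [Scheme.Hom.appLE_map]
    apply stdEtale_of_comp_iso _ (W.ι.appIso (W.toScheme.basicOpen r))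
    rw [← key, key2]
    exact h1
  · rintro ⟨U, hU, hxU, e, hstd⟩
    refine ⟨U, hxU, ?_⟩
    have h1 : U.ι ≫ f = f.resLE V U e ≫ V.ι := (Scheme.Hom.resLE_comp_ι f e).symm
    rw [h1]
    have : IsAffine U.toScheme := hU
    have : IsAffine V.toScheme := hV
    have h2 : Etale (f.resLE V U e) := by
      rw [HasRingHomProperty.iff_of_isAffine (P := @Etale)]
      have hsm : (f.appLE V U e).hom.Etale := by
        letI := (f.appLE V U e).hom.toAlgebra
        have : Algebra.Etale Γ(S, V) Γ(X, U) := inferInstance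
        exact RingHom.etale_algebraMap.mpr this
      have hri : (RingHom.toMorphismProperty RingHom.Etale).RespectsIso :=
        RingHom.toMorphismProperty_respectsIso_iff.mp RingHom.Etale.propertyIsLocal.respectsIso
      exact (MorphismProperty.arrow_mk_iso_iff (RingHom.toMorphismProperty RingHom.Etale)
        (arrowResLEAppIso f V U e)).mpr hsm
    infer_instance

end Groth.Agent.S9722
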