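import Groth.Statements.S9723
import Mathlib
-- import your own Groth.Agent.* helpers here

set_option autoImplicit false
universe u
open FlatMor

namespace Groth.Agent.S9723

open AlgebraicGeometry CategoryTheory in
/-- Let f : X ⟶ S be formally étale (unique infinitesimal lifting against square-zero thickenings of
affine schemes), and let U be an open subscheme of X and V an open subscheme of S such that f maps U
into V. Then the restricted morphism U ⟶ V is formally étale. -/
theorem result {X S : Scheme.{u}} (f : X ⟶ S) (hf : MoreMor.IsFormallyEtaleHom f)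
    (U : X.Opens) (V : S.Opens) (h : U ≤ f ⁻¹ᵁ V) : MoreMor.IsFormallyEtaleHom (f.resLE V U h) := by
  intro A _ I hI a b hab
  have hsurj : Function.Surjective (Spec.map (CommRingCat.ofHom (Ideal.Quotient.mk I))) := by
    intro p
    have hr : Set.range (PrimeSpectrum.comap (Ideal.Quotient.mk I)) = PrimeSpectrum.zeroLocus (RingHom.ker (Ideal.Quotient.mk I)) :=
      range_comap_of_surjective _ _ Ideal.Quotient.mk_surjective
    have hp : p ∈ PrimeSpectrum.zeroLocus (RingHom.ker (Ideal.Quotient.mk I) : Set A) := by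
      rw [Ideal.mk_ker]
      intro x hx
      have hx2 : x ^ 2 ∈ I ^ 2 := Ideal.pow_mem_pow hx 2
      rw [hI] at hx2
      have : x ^ 2 ∈ p.asIdeal := by
        rw [Submodule.mem_bot] at hx2; rw [hx2]; exact p.asIdeal.zero_mem
      exact p.isPrime.mem_of_pow_mem 2 this
    rw [← hr] at hp
    obtain ⟨q, hq⟩ := hp
    exact ⟨q, hq⟩
  have hcomm : Spec.map (CommRingCat.ofHom (Ideal.Quotient.mk I)) ≫ (b ≫ V.ι) = (a ≫ U.ι) ≫ f := by
    rw [← Category.assoc, hab, Category.assoc, Category.assoc, Scheme.Hom.resLE_comp_ι]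
  obtain ⟨l', ⟨hl'1, hl'2⟩, hl'u⟩ := hf A I hI (a ≫ U.ι) (b ≫ V.ι) hcomm
  have hrange : Set.range l' ⊆ Set.range U.ι := by
    rintro _ ⟨p, rfl⟩
    obtain ⟨q, rfl⟩ := hsurj p
    refine ⟨a q, ?_⟩
    have := congrArg (fun g : Spec (CommRingCat.of (A ⧸ I)) ⟶ X => g q) hl'1
    simpa using this.symm
  refine ⟨IsOpenImmersion.lift U.ι l' hrange, ⟨?_, ?_⟩, ?_⟩
  · rw [← cancel_mono U.ι, Category.assoc, IsOpenImmersion.lift_fac, hl'1]
  · rw [← cancel_mono V.ι, Category.assoc, Scheme.Hom.resLE_comp_ι, ← Category.assoc,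
      IsOpenImmersion.lift_fac, hl'2]
  · rintro l₂ ⟨h1, h2⟩
    apply IsOpenImmersion.lift_uniq
    apply hl'u
    refine ⟨?_, ?_⟩
    · rw [← Category.assoc, h1]
    · rw [Category.assoc, ← Scheme.Hom.resLE_comp_ι f h, ← Category.assoc, h2]

end Groth.Agent.S9723
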