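import Groth.Statements.S9751
import Groth.Agent.Lib.Helper35.JacobianDivisor
import Groth.Agent.Lib.Helper81.ToAffine

set_option autoImplicit false
universe u
open FlatMor

namespace Groth.Agent.S9751

section Helpers
set_option linter.style.haveILetI false
set_option maxHeartbeats 400000
open AlgebraicGeometry CategoryTheory Limits IsLocalRing TensorProduct
open Groth.Agent.Lib.Helper35 Groth.Agent.Lib.Helper81.ToAffine

/-- ring map of a smooth-near-`U` morphism on affine opens. -/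
theorem smooth_appLE_of_le {X S : Scheme.{u}} (f : X ⟶ S) (W : X.Opens) (hW : Smooth (W.ι ≫ f))
    (V : S.Opens) (hV : IsAffineOpen V) (U : X.Opens) (hU : IsAffineOpen U) (hUW : U ≤ W)
    (e : U ≤ f ⁻¹ᵁ V) : (f.appLE V U e).hom.Smooth := by
  haveI : Smooth (U.ι ≫ f) := by
    rw [← X.homOfLE_ι hUW, Category.assoc]
    infer_instance
  haveI : IsAffine (U : Scheme.{u}) := hU
  have e' : (⊤ : (U : Scheme.{u}).Opens) ≤ (U.ι ≫ f) ⁻¹ᵁ V := fun p _ => e p.2
  have h1 := HasRingHomProperty.appLE @Smooth (U.ι ≫ f) ‹_› ⟨V, hV⟩ ⟨⊤, isAffineOpen_top _⟩ e'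
  have e'' : (⊤ : (U : Scheme.{u}).Opens) ≤ U.ι ⁻¹ᵁ U := fun p _ => p.2
  have h2 : (U.ι ≫ f).appLE V ⊤ e' = f.appLE V U e ≫ U.ι.appLE U ⊤ e'' :=
    (Scheme.Hom.appLE_comp_appLE U.ι f V U ⊤ e e'').symm
  have e3 : (⊤ : (U : Scheme.{u}).Opens) ≤ (𝟙 (U : Scheme.{u}) ≫ U.ι) ⁻¹ᵁ U := fun p _ => p.2
  haveI h3 : IsIso (U.ι.appLE U ⊤ e'') := by
    have h4 : (𝟙 (U : Scheme.{u}) ≫ U.ι).appLE U ⊤ e3 =
        U.topIso.inv ≫ Scheme.Hom.appTop (𝟙 (U : Scheme.{u})) := appLE_ι_top _ _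
    have h5 : (𝟙 (U : Scheme.{u}) ≫ U.ι).appLE U ⊤ e3 = U.ι.appLE U ⊤ e'' :=
      appLE_congr_hom (Category.id_comp _) _ _ _
    rw [← h5, h4]
    haveI : IsIso (Scheme.Hom.appTop (𝟙 (U : Scheme.{u}))) :=
      inferInstanceAs (IsIso (Scheme.Hom.app (𝟙 (U : Scheme.{u})) ⊤))
    infer_instance
  rw [h2, CommRingCat.hom_comp] at h1
  exact (RingHom.Smooth.respectsIso.cancel_right_isIso _ (U.ι.appLE U ⊤ e'')).mp h1

set_option backward.defeqAttrib.useBackward true in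
set_option backward.isDefEq.respectTransparency false in
theorem mem_basicOpen_of_not_mem_primeIdealOf {Y : Scheme.{u}} {U : Y.Opens} (hU : IsAffineOpen U)
    (y : Y) (hy : y ∈ U) (a : Γ(Y, U)) (h : a ∉ (hU.primeIdealOf ⟨y, hy⟩).asIdeal) :
    y ∈ Y.basicOpen a := by
  rwa [← PrimeSpectrum.mem_basicOpen, IsAffineOpen.primeIdealOf, ← hU.fromSpec_preimage_basicOpen,
    Scheme.Hom.mem_preimage, ← Scheme.Hom.comp_apply, IsAffineOpen.isoSpec_hom,
    IsAffineOpen.toSpecΓ_fromSpec] at h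

theorem aux {X S : Scheme.{u}} (f : X ⟶ S) (x : X)
    (W : X.Opens) (hxW : x ∈ W) (hW : Smooth (W.ι ≫ f))
    (hker : letI := (f.stalkMap x).hom.toAlgebra
      letI := ((IsLocalRing.residue ↑(X.presheaf.stalk x)).comp (f.stalkMap x).hom).toAlgebra
      haveI : IsScalarTower ↑(S.presheaf.stalk (f x)) ↑(X.presheaf.stalk x) (IsLocalRing.ResidueField ↑(X.presheaf.stalk x)) :=
        IsScalarTower.of_algebraMap_eq (fun _ => rfl)
      LinearMap.ker (KaehlerDifferential.mapBaseChange ↑(S.presheaf.stalk (f x)) ↑(X.presheaf.stalk x)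
        (IsLocalRing.ResidueField ↑(X.presheaf.stalk x))) ≠ ⊥) :
    ∃ (U : X.Opens) (hU : IsAffineOpen U) (hx : x ∈ U) (h' : Γ(X, U)), h' ∈ nonZeroDivisors Γ(X, U) ∧
      X.presheaf.germ U x hx h' ∈ IsLocalRing.maximalIdeal ↑(X.presheaf.stalk x) ∧
      Smooth (Spec.map (CommRingCat.ofHom (Ideal.Quotient.mk (Ideal.span {h'}))) ≫ hU.fromSpec ≫ f) := by
  -- affine opens
  obtain ⟨_, ⟨V, hV, rfl⟩, hxV, -⟩ := S.isBasis_affineOpens.exists_subset_of_mem_open
    (Set.mem_univ (f x)) isOpen_univ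
  obtain ⟨V, rfl⟩ : ∃ V' : S.Opens, V' = V := ⟨V, rfl⟩
  replace hV : IsAffineOpen V := hV
  obtain ⟨_, ⟨U, hU, rfl⟩, hxU, hUle⟩ := X.isBasis_affineOpens.exists_subset_of_mem_open
    (show x ∈ W ⊓ f ⁻¹ᵁ V from ⟨hxW, hxV⟩) (W ⊓ f ⁻¹ᵁ V).2
  obtain ⟨U, rfl⟩ : ∃ U' : X.Opens, U' = U := ⟨U, rfl⟩
  replace hU : IsAffineOpen U := hU
  have hUW : U ≤ W := fun p hp => (hUle hp).1
  have hUV : U ≤ f ⁻¹ᵁ V := fun p hp => (hUle hp).2
  have hsm := smooth_appLE_of_le f W hW V hV U hU hUW hUV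
  -- ring-level setup
  letI algAB : Algebra Γ(S, V) Γ(X, U) := (f.appLE V U hUV).hom.toAlgebra
  haveI : Algebra.Smooth Γ(S, V) Γ(X, U) := RingHom.smooth_algebraMap.mp hsm
  letI algBC : Algebra Γ(X, U) (X.presheaf.stalk x) := (X.presheaf.germ U x hxU).hom.toAlgebra
  haveI hloc : IsLocalization.AtPrime (X.presheaf.stalk x) (hU.primeIdealOf ⟨x, hxU⟩).asIdeal :=
    hU.isLocalization_stalk ⟨x, hxU⟩
  letI algAC : Algebra Γ(S, V) (X.presheaf.stalk x) :=
    ((algebraMap Γ(X, U) (X.presheaf.stalk x)).comp (algebraMap Γ(S, V) Γ(X, U))).toAlgebra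
  haveI : IsScalarTower Γ(S, V) Γ(X, U) (X.presheaf.stalk x) :=
    IsScalarTower.of_algebraMap_eq fun _ => rfl
  haveI : Algebra.FormallySmooth Γ(X, U) (X.presheaf.stalk x) :=
    Algebra.FormallySmooth.of_isLocalization (hU.primeIdealOf ⟨x, hxU⟩).asIdeal.primeCompl
  haveI : Algebra.FormallySmooth Γ(S, V) (X.presheaf.stalk x) :=
    Algebra.FormallySmooth.comp Γ(S, V) Γ(X, U) (X.presheaf.stalk x)
  -- stalk-level algebra structures
  letI algSC : Algebra (S.presheaf.stalk (f x)) (X.presheaf.stalk x) :=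
    (f.stalkMap x).hom.toAlgebra
  letI algSκ : Algebra (S.presheaf.stalk (f x)) (ResidueField (X.presheaf.stalk x)) :=
    ((IsLocalRing.residue _).comp (f.stalkMap x).hom).toAlgebra
  haveI : IsScalarTower (S.presheaf.stalk (f x)) (X.presheaf.stalk x)
      (ResidueField (X.presheaf.stalk x)) := IsScalarTower.of_algebraMap_eq (fun _ => rfl)
  obtain ⟨t, ht, hne⟩ := JacobianDivisor.exists_mem_maximalIdeal_tmul_D_ne_zero
    (S.presheaf.stalk (f x)) (X.presheaf.stalk x) hker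
  obtain ⟨h₀, hh₀q, hh₀⟩ := JacobianDivisor.exists_mem_tmul_D_ne_zero (S.presheaf.stalk (f x))
    Γ(X, U) (X.presheaf.stalk x) (hU.primeIdealOf ⟨x, hxU⟩).asIdeal t ht hne
  letI algAS : Algebra Γ(S, V) (S.presheaf.stalk (f x)) :=
    (S.presheaf.germ V (f x) hxV).hom.toAlgebra
  haveI : IsScalarTower Γ(S, V) (S.presheaf.stalk (f x)) (X.presheaf.stalk x) :=
    IsScalarTower.of_algebraMap_eq fun a => by
      show (X.presheaf.germ U x hxU).hom ((f.appLE V U hUV).hom a) =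
        (f.stalkMap x).hom ((S.presheaf.germ V (f x) hxV).hom a)
      have h1 := Scheme.Hom.germ_stalkMap_apply f V x hxV a
      rw [Scheme.Hom.appLE]
      erw [h1]
      exact (X.presheaf.germ_res_apply (homOfLE hUV) x hxU (f.app V a))
  have hh₀' := JacobianDivisor.tmul_D_ne_zero_of_tower Γ(S, V) (S.presheaf.stalk (f x))
    (X.presheaf.stalk x) _ hh₀
  haveI : Algebra.FinitePresentation Γ(S, V) Γ(X, U) := inferInstance
  obtain ⟨f₁, hf₁, H⟩ := JacobianDivisor.exists_smooth_divisor Γ(S, V) Γ(X, U)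
    (hU.primeIdealOf ⟨x, hxU⟩).asIdeal (X.presheaf.stalk x) h₀ hh₀'
  haveI := hU.isLocalization_basicOpen f₁
  obtain ⟨hnzd, hsmq⟩ := H f₁ dvd_rfl Γ(X, X.basicOpen f₁)
  have hxU' : x ∈ X.basicOpen f₁ := mem_basicOpen_of_not_mem_primeIdealOf hU x hxU f₁ hf₁
  have hUV' : X.basicOpen f₁ ≤ f ⁻¹ᵁ V := (X.basicOpen_le f₁).trans hUV
  refine ⟨X.basicOpen f₁, hU.basicOpen f₁, hxU',
    algebraMap Γ(X, U) Γ(X, X.basicOpen f₁) h₀, hnzd, ?_, ?_⟩
  · have : X.presheaf.germ (X.basicOpen f₁) x hxU' (algebraMap Γ(X, U) Γ(X, X.basicOpen f₁) h₀) =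
        X.presheaf.germ U x hxU h₀ :=
      X.presheaf.germ_res_apply (homOfLE (X.basicOpen_le f₁)) x hxU' h₀
    rw [this]
    exact (IsLocalization.AtPrime.to_map_mem_maximal_iff (X.presheaf.stalk x)
      (hU.primeIdealOf ⟨x, hxU⟩).asIdeal h₀).mpr hh₀q
  · rw [← IsAffineOpen.SpecMap_appLE_fromSpec f hV (hU.basicOpen f₁) hUV', ← Category.assoc,
      ← Spec.map_comp]
    haveI : Smooth (Spec.map (f.appLE V (X.basicOpen f₁) hUV' ≫
        CommRingCat.ofHom (Ideal.Quotient.mk (Ideal.span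
          {algebraMap Γ(X, U) Γ(X, X.basicOpen f₁) h₀})))) := by
      rw [HasRingHomProperty.Spec_iff (P := @Smooth), CommRingCat.hom_comp]
      have hcomp : (algebraMap Γ(X, U) Γ(X, X.basicOpen f₁)).comp (algebraMap Γ(S, V) Γ(X, U)) =
          (f.appLE V (X.basicOpen f₁) hUV').hom := by
        rw [RingHom.algebraMap_toAlgebra, RingHom.algebraMap_toAlgebra, ← CommRingCat.hom_comp,
          Scheme.Hom.appLE_map]
      rw [← hcomp]
      exact hsmq
    infer_instance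

end Helpers

open AlgebraicGeometry CategoryTheory Limits in
/-- Let f : X ⟶ S be a morphism and x a point such that f is smooth on an open neighbourhood of x, and
such that the natural map from Ω_{O_{X,x}/O_{S,f x}} ⊗ κ(x) (the fibre at x of the sheaf of
differentials, equal to that of the fibre X_{f x}) to Ω_{κ(x)/κ(f x)} has a nonzero kernel. Then
there are an affine open U ∋ x and a nonzerodivisor h' of Γ(X, U) vanishing at x such that the
closed subscheme V(h') of U, an effective Cartier divisor through x, is smooth over S. -/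
theorem result {X S : Scheme.{u}} (f : X ⟶ S) (x : X)
    (W : X.Opens) (hxW : x ∈ W) (hW : Smooth (W.ι ≫ f))
    (hker : letI := (f.stalkMap x).hom.toAlgebra
      letI := ((IsLocalRing.residue ↑(X.presheaf.stalk x)).comp (f.stalkMap x).hom).toAlgebra
      haveI : IsScalarTower ↑(S.presheaf.stalk (f x)) ↑(X.presheaf.stalk x) (IsLocalRing.ResidueField ↑(X.presheaf.stalk x)) :=
        IsScalarTower.of_algebraMap_eq (fun _ => rfl)
      LinearMap.ker (KaehlerDifferential.mapBaseChange ↑(S.presheaf.stalk (f x)) ↑(X.presheaf.stalk x)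
        (IsLocalRing.ResidueField ↑(X.presheaf.stalk x))) ≠ ⊥) :
    ∃ (U : X.Opens) (hU : IsAffineOpen U) (hx : x ∈ U) (h' : Γ(X, U)), h' ∈ nonZeroDivisors Γ(X, U) ∧
      X.presheaf.germ U x hx h' ∈ IsLocalRing.maximalIdeal ↑(X.presheaf.stalk x) ∧
      Smooth (Spec.map (CommRingCat.ofHom (Ideal.Quotient.mk (Ideal.span {h'}))) ≫ hU.fromSpec ≫ f) := by
  exact aux f x W hxW hW hker

end Groth.Agent.S9751
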