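import Groth.Statements.S9724
import Groth.Agent.S9751
import Groth.Agent.Lib.Helper35.SepCotangent
import Groth.Agent.Lib.Helper35.FiberNoeth

set_option autoImplicit false
universe u
open FlatMor

namespace Groth.Agent.S9724

section Helpers
set_option linter.style.haveILetI false
set_option maxHeartbeats 400000
open AlgebraicGeometry CategoryTheory Limits IsLocalRing TensorProduct
open Groth.Agent.Lib.Helper35

theorem aux {X S : Scheme.{u}} (f : X ⟶ S) (x : X)
    (W : X.Opens) (hxW : x ∈ W) (hW : Smooth (W.ι ≫ f))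
    (hsep : letI := (f.residueFieldMap x).hom.toAlgebra
      Algebra.FormallySmooth (S.residueField (f x)) (X.residueField x))
    (hgen : IsLocalRing.maximalIdeal ↑((f.fiber (f x)).presheaf.stalk (f.asFiber x)) ≠ ⊥) :
    ∃ (U : X.Opens) (hU : IsAffineOpen U) (hx : x ∈ U) (h' : Γ(X, U)), h' ∈ nonZeroDivisors Γ(X, U) ∧
      X.presheaf.germ U x hx h' ∈ IsLocalRing.maximalIdeal ↑(X.presheaf.stalk x) ∧
      Smooth (Spec.map (CommRingCat.ofHom (Ideal.Quotient.mk (Ideal.span {h'}))) ≫ hU.fromSpec ≫ f) := by
  apply Groth.Agent.S9751.result f x W hxW hW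
  haveI : LocallyOfFiniteType (W.ι ≫ f) := inferInstance
  have hx' : f.fiberι (f x) (f.asFiber x) ∈ W := by
    rw [Scheme.Hom.fiberι_asFiber]; exact hxW
  have main : ∀ y : X, f.fiberι (f x) (f.asFiber x) = y →
      IsNoetherianRing (X.presheaf.stalk y ⧸
        (maximalIdeal (S.presheaf.stalk (f y))).map (f.stalkMap y).hom) ∧
      ∃ t₀ ∈ maximalIdeal (X.presheaf.stalk y),
        t₀ ∉ (maximalIdeal (S.presheaf.stalk (f y))).map (f.stalkMap y).hom := by
    rintro y rfl
    exact FiberNoeth.fiber_data f (f x) W (f.asFiber x) hx' hgen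
  obtain ⟨hN, t₀, ht₀, ht₀'⟩ := main x (f.fiberι_asFiber x)
  letI algSC : Algebra (S.presheaf.stalk (f x)) (X.presheaf.stalk x) :=
    (f.stalkMap x).hom.toAlgebra
  letI algSκ : Algebra (S.presheaf.stalk (f x)) (ResidueField (X.presheaf.stalk x)) :=
    ((IsLocalRing.residue _).comp (f.stalkMap x).hom).toAlgebra
  haveI : IsScalarTower (S.presheaf.stalk (f x)) (X.presheaf.stalk x)
      (ResidueField (X.presheaf.stalk x)) := IsScalarTower.of_algebraMap_eq (fun _ => rfl)
  letI algk : Algebra (ResidueField (S.presheaf.stalk (f x)))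
      (ResidueField (X.presheaf.stalk x)) := (f.residueFieldMap x).hom.toAlgebra
  haveI : Algebra.FormallySmooth (ResidueField (S.presheaf.stalk (f x)))
      (ResidueField (X.presheaf.stalk x)) := hsep
  obtain ⟨t, htm, hne⟩ := SepCotangent.exists_mem_tmul_D_ne_zero (S.presheaf.stalk (f x))
    (X.presheaf.stalk x) (fun r => rfl) hN t₀ ht₀ ht₀'
  intro hbot
  apply hne
  have hmem : (1 : ResidueField (X.presheaf.stalk x)) ⊗ₜ[X.presheaf.stalk x]
      KaehlerDifferential.D (S.presheaf.stalk (f x)) (X.presheaf.stalk x) t ∈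
      LinearMap.ker (KaehlerDifferential.mapBaseChange (S.presheaf.stalk (f x))
        (X.presheaf.stalk x) (ResidueField (X.presheaf.stalk x))) := by
    rw [LinearMap.mem_ker, KaehlerDifferential.mapBaseChange_tmul, KaehlerDifferential.map_D,
      one_smul]
    have : algebraMap (X.presheaf.stalk x) (ResidueField (X.presheaf.stalk x)) t = 0 :=
      (residue_eq_zero_iff t).mpr htm
    rw [this, map_zero]
  rw [hbot] at hmem
  exact (Submodule.mem_bot _).mp hmem

end Helpers

open AlgebraicGeometry CategoryTheory Limits in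
/-- Let f : X ⟶ S be a morphism and x a point such that f is smooth on an open neighbourhood of x, the
residue field extension κ(x)/κ(f x) is separable (formally smooth), and x is not the generic point
of any irreducible component of the fibre over f x, i.e. (the fibre being smooth over a field near
x) the maximal ideal of the local ring of the fibre at x is nonzero. Then there are an affine open U
∋ x and a nonzerodivisor h' of Γ(X, U) vanishing at x such that the closed subscheme V(h') of U, an
effective Cartier divisor through x, is smooth over S. -/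
theorem result {X S : Scheme.{u}} (f : X ⟶ S) (x : X)
    (W : X.Opens) (hxW : x ∈ W) (hW : Smooth (W.ι ≫ f))
    (hsep : letI := (f.residueFieldMap x).hom.toAlgebra
      Algebra.FormallySmooth (S.residueField (f x)) (X.residueField x))
    (hgen : IsLocalRing.maximalIdeal ↑((f.fiber (f x)).presheaf.stalk (f.asFiber x)) ≠ ⊥) :
    ∃ (U : X.Opens) (hU : IsAffineOpen U) (hx : x ∈ U) (h' : Γ(X, U)), h' ∈ nonZeroDivisors Γ(X, U) ∧
      X.presheaf.germ U x hx h' ∈ IsLocalRing.maximalIdeal ↑(X.presheaf.stalk x) ∧
      Smooth (Spec.map (CommRingCat.ofHom (Ideal.Quotient.mk (Ideal.span {h'}))) ≫ hU.fromSpec ≫ f) := by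
  exact aux f x W hxW hW hsep hgen

end Groth.Agent.S9724
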