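import Groth.Statements.S9725
import Groth.Agent.S9751
import Groth.Agent.Lib.Helper35.JacobianDivisor

set_option autoImplicit false
universe u
open FlatMor

namespace Groth.Agent.S9725

section Helpers
set_option linter.style.haveILetI false
set_option maxHeartbeats 400000
open AlgebraicGeometry CategoryTheory Limits IsLocalRing TensorProduct
open Groth.Agent.Lib.Helper35

theorem aux {X S : Scheme.{u}} (f : X ⟶ S) (x : X)
    (W : X.Opens) (hxW : x ∈ W) (hW : Smooth (W.ι ≫ f))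
    (h : ↑(X.presheaf.stalk x)) (hm : h ∈ IsLocalRing.maximalIdeal ↑(X.presheaf.stalk x))
    (hd : letI := (f.stalkMap x).hom.toAlgebra
      (1 : IsLocalRing.ResidueField ↑(X.presheaf.stalk x)) ⊗ₜ[↑(X.presheaf.stalk x)]
          (KaehlerDifferential.D ↑(S.presheaf.stalk (f x)) ↑(X.presheaf.stalk x) h) ≠ 0) :
    ∃ (U : X.Opens) (hU : IsAffineOpen U) (hx : x ∈ U) (h' : Γ(X, U)), X.presheaf.germ U x hx h' = h ∧
      h' ∈ nonZeroDivisors Γ(X, U) ∧
      Smooth (Spec.map (CommRingCat.ofHom (Ideal.Quotient.mk (Ideal.span {h'}))) ≫ hU.fromSpec ≫ f) := by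
  -- a section with germ `h`
  obtain ⟨U₀, hxU₀, s, hs⟩ := TopCat.Presheaf.exists_germ_eq X.presheaf (x := x) h
  -- affine opens
  obtain ⟨_, ⟨V, hV, rfl⟩, hxV, -⟩ := S.isBasis_affineOpens.exists_subset_of_mem_open
    (Set.mem_univ (f x)) isOpen_univ
  obtain ⟨V, rfl⟩ : ∃ V' : S.Opens, V' = V := ⟨V, rfl⟩
  replace hV : IsAffineOpen V := hV
  obtain ⟨_, ⟨U, hU, rfl⟩, hxU, hUle⟩ := X.isBasis_affineOpens.exists_subset_of_mem_open
    (show x ∈ (W ⊓ f ⁻¹ᵁ V) ⊓ U₀ from ⟨⟨hxW, hxV⟩, hxU₀⟩) ((W ⊓ f ⁻¹ᵁ V) ⊓ U₀).2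
  obtain ⟨U, rfl⟩ : ∃ U' : X.Opens, U' = U := ⟨U, rfl⟩
  replace hU : IsAffineOpen U := hU
  have hUW : U ≤ W := fun p hp => (hUle hp).1.1
  have hUV : U ≤ f ⁻¹ᵁ V := fun p hp => (hUle hp).1.2
  have hUU₀ : U ≤ U₀ := fun p hp => (hUle hp).2
  have hsm := Groth.Agent.S9751.smooth_appLE_of_le f W hW V hV U hU hUW hUV
  obtain ⟨h₀, hh₀⟩ : ∃ h₀ : Γ(X, U), h₀ = X.presheaf.map (homOfLE hUU₀).op s := ⟨_, rfl⟩
  have hgerm : X.presheaf.germ U x hxU h₀ = h := by
    rw [hh₀, ← hs]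
    exact X.presheaf.germ_res_apply (homOfLE hUU₀) x hxU s
  -- ring-level setup
  letI algAB : Algebra Γ(S, V) Γ(X, U) := (f.appLE V U hUV).hom.toAlgebra
  haveI : Algebra.Smooth Γ(S, V) Γ(X, U) := RingHom.smooth_algebraMap.mp hsm
  letI algBC : Algebra Γ(X, U) (X.presheaf.stalk x) := (X.presheaf.germ U x hxU).hom.toAlgebra
  haveI hloc : IsLocalization.AtPrime (X.presheaf.stalk x) (hU.primeIdealOf ⟨x, hxU⟩).asIdeal :=
    hU.isLocalization_stalk ⟨x, hxU⟩
  letI algAC : Algebra Γ(S, V) (X.presheaf.stalk x) :=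
    ((algebraMap Γ(X, U) (X.presheaf.stalk x)).comp (algebraMap Γ(S, V) Γ(X, U))).toAlgebra
  haveI : IsScalarTower Γ(S, V) Γ(X, U) (X.presheaf.stalk x) :=
    IsScalarTower.of_algebraMap_eq fun _ => rfl
  haveI : Algebra.FormallySmooth Γ(X, U) (X.presheaf.stalk x) :=
    Algebra.FormallySmooth.of_isLocalization (hU.primeIdealOf ⟨x, hxU⟩).asIdeal.primeCompl
  haveI : Algebra.FormallySmooth Γ(S, V) (X.presheaf.stalk x) :=
    Algebra.FormallySmooth.comp Γ(S, V) Γ(X, U) (X.presheaf.stalk x)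
  -- stalk-level algebra structures
  letI algSC : Algebra (S.presheaf.stalk (f x)) (X.presheaf.stalk x) :=
    (f.stalkMap x).hom.toAlgebra
  have hh₀' : (1 : ResidueField (X.presheaf.stalk x)) ⊗ₜ[X.presheaf.stalk x]
      KaehlerDifferential.D (S.presheaf.stalk (f x)) (X.presheaf.stalk x)
        (algebraMap Γ(X, U) (X.presheaf.stalk x) h₀) ≠ 0 := by
    have : algebraMap Γ(X, U) (X.presheaf.stalk x) h₀ = h := hgerm
    rw [this]
    exact hd
  letI algAS : Algebra Γ(S, V) (S.presheaf.stalk (f x)) :=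
    (S.presheaf.germ V (f x) hxV).hom.toAlgebra
  haveI : IsScalarTower Γ(S, V) (S.presheaf.stalk (f x)) (X.presheaf.stalk x) :=
    IsScalarTower.of_algebraMap_eq fun a => by
      show (X.presheaf.germ U x hxU).hom ((f.appLE V U hUV).hom a) =
        (f.stalkMap x).hom ((S.presheaf.germ V (f x) hxV).hom a)
      have h1 := Scheme.Hom.germ_stalkMap_apply f V x hxV a
      rw [Scheme.Hom.appLE]
      erw [h1]
      exact (X.presheaf.germ_res_apply (homOfLE hUV) x hxU (f.app V a))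
  have hh₀'' := JacobianDivisor.tmul_D_ne_zero_of_tower Γ(S, V) (S.presheaf.stalk (f x))
    (X.presheaf.stalk x) _ hh₀'
  haveI : Algebra.FinitePresentation Γ(S, V) Γ(X, U) := inferInstance
  obtain ⟨f₁, hf₁, H⟩ := JacobianDivisor.exists_smooth_divisor Γ(S, V) Γ(X, U)
    (hU.primeIdealOf ⟨x, hxU⟩).asIdeal (X.presheaf.stalk x) h₀ hh₀''
  haveI := hU.isLocalization_basicOpen f₁
  obtain ⟨hnzd, hsmq⟩ := H f₁ dvd_rfl Γ(X, X.basicOpen f₁)
  have hxU' : x ∈ X.basicOpen f₁ :=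
    Groth.Agent.S9751.mem_basicOpen_of_not_mem_primeIdealOf hU x hxU f₁ hf₁
  have hUV' : X.basicOpen f₁ ≤ f ⁻¹ᵁ V := (X.basicOpen_le f₁).trans hUV
  refine ⟨X.basicOpen f₁, hU.basicOpen f₁, hxU',
    algebraMap Γ(X, U) Γ(X, X.basicOpen f₁) h₀, ?_, hnzd, ?_⟩
  · have : X.presheaf.germ (X.basicOpen f₁) x hxU' (algebraMap Γ(X, U) Γ(X, X.basicOpen f₁) h₀) =
        X.presheaf.germ U x hxU h₀ :=
      X.presheaf.germ_res_apply (homOfLE (X.basicOpen_le f₁)) x hxU' h₀
    rw [this]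
    exact hgerm
  · rw [← IsAffineOpen.SpecMap_appLE_fromSpec f hV (hU.basicOpen f₁) hUV', ← Category.assoc,
      ← Spec.map_comp]
    haveI : Smooth (Spec.map (f.appLE V (X.basicOpen f₁) hUV' ≫
        CommRingCat.ofHom (Ideal.Quotient.mk (Ideal.span
          {algebraMap Γ(X, U) Γ(X, X.basicOpen f₁) h₀})))) := by
      rw [HasRingHomProperty.Spec_iff (P := @Smooth), CommRingCat.hom_comp]
      have hcomp : (algebraMap Γ(X, U) Γ(X, X.basicOpen f₁)).comp (algebraMap Γ(S, V) Γ(X, U)) =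
          (f.appLE V (X.basicOpen f₁) hUV').hom := by
        rw [RingHom.algebraMap_toAlgebra, RingHom.algebraMap_toAlgebra, ← CommRingCat.hom_comp,
          Scheme.Hom.appLE_map]
      rw [← hcomp]
      exact hsmq
    infer_instance

end Helpers

open AlgebraicGeometry CategoryTheory Limits in
/-- Let f : X ⟶ S be a morphism and x a point such that f is smooth on an open neighbourhood of x, and
let h be an element of the maximal ideal of the local ring O_{X,x} such that the image of dh in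
Ω_{O_{X,x}/O_{S,f x}} ⊗ κ(x) (the fibre at x of the sheaf of differentials of X over S) is nonzero.
Then there are an affine open U ∋ x and a nonzerodivisor h' of Γ(X, U) with germ h at x such that
the closed subscheme V(h') of U, an effective Cartier divisor through x, is smooth over S. -/
theorem result {X S : Scheme.{u}} (f : X ⟶ S) (x : X)
    (W : X.Opens) (hxW : x ∈ W) (hW : Smooth (W.ι ≫ f))
    (h : ↑(X.presheaf.stalk x)) (hm : h ∈ IsLocalRing.maximalIdeal ↑(X.presheaf.stalk x))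
    (hd : letI := (f.stalkMap x).hom.toAlgebra
      (1 : IsLocalRing.ResidueField ↑(X.presheaf.stalk x)) ⊗ₜ[↑(X.presheaf.stalk x)]
          (KaehlerDifferential.D ↑(S.presheaf.stalk (f x)) ↑(X.presheaf.stalk x) h) ≠ 0) :
    ∃ (U : X.Opens) (hU : IsAffineOpen U) (hx : x ∈ U) (h' : Γ(X, U)), X.presheaf.germ U x hx h' = h ∧
      h' ∈ nonZeroDivisors Γ(X, U) ∧
      Smooth (Spec.map (CommRingCat.ofHom (Ideal.Quotient.mk (Ideal.span {h'}))) ≫ hU.fromSpec ≫ f) := by
  exact aux f x W hxW hW h hm hd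

end Groth.Agent.S9725
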