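import Groth.Statements.S9726
import Mathlib
import Groth.Agent.Lib.Helper81.DescMain2
import Groth.Agent.Lib.Helper81.DescFin
import Groth.Agent.S1134
-- import your own Groth.Agent.* helpers here

set_option autoImplicit false
open CategoryTheory CategoryTheory.Limits AlgebraicGeometry Opposite
universe u
open Desc

namespace Groth.Agent.S9726
open Desc

open Groth.Agent.Lib.Helper81.DescE Groth.Agent.Lib.Helper81.DescMain Groth.Agent.Lib.Helper81.DescQA
  Groth.Agent.Lib.Helper81.DescLoc Groth.Agent.Lib.Helper81.DescFin Groth.Agent.Lib.Helper81.DescMain2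

/-- Zariski's main theorem: separated quasi-finite morphisms are quasi-affine -/
lemma isQuasiAffine_of_zmt {X Y : Scheme.{u}} (f : X ⟶ Y) [LocallyQuasiFinite f]
    [LocallyOfFiniteType f] [IsSeparated f] [QuasiCompact f] : Mor2.IsQuasiAffine f := by
  refine ⟨inferInstance, fun V hV => ?_⟩
  have hV' : IsAffineOpen (f.fromNormalization ⁻¹ᵁ V) := hV.preimage f.fromNormalization
  have e : f ⁻¹ᵁ V = f.toNormalization ⁻¹ᵁ (f.fromNormalization ⁻¹ᵁ V) := by
    rw [← Scheme.Hom.comp_preimage, Scheme.Hom.toNormalization_fromNormalization]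
  have hc : IsCompact ((f ⁻¹ᵁ V : X.Opens) : Set X) := f.isCompact_preimage hV.isCompact
  rw [e] at hc ⊢
  haveI : CompactSpace ↥((f.toNormalization ⁻¹ᵁ (f.fromNormalization ⁻¹ᵁ V) : X.Opens) : Scheme.{u}) :=
    isCompact_iff_compactSpace.mp hc
  haveI : IsAffine ((f.fromNormalization ⁻¹ᵁ V : f.normalization.Opens) : Scheme.{u}) := hV'
  exact Scheme.IsQuasiAffine.of_isImmersion (f.toNormalization ∣_ (f.fromNormalization ⁻¹ᵁ V))

/-- the property: separated, locally quasi-finite, locally of finite type -/
def PP : MorphismProperty Scheme.{u} := @IsSeparated ⊓ @LocallyQuasiFinite ⊓ @LocallyOfFiniteType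

instance : PP.{u}.IsStableUnderBaseChange := by
  unfold PP
  infer_instance

theorem affine_case {X S : Scheme.{u}} (p : X ⟶ S) [IsAffine X] [IsAffine S] [Flat p] [Surjective p]
    [LocallyOfFinitePresentation p] (D : SchDD p) (hD : PP D.obj.hom) :
    ∃ U : Over S, Nonempty ((toDD p).obj U ≅ D) := by
  haveI : IsSeparated D.obj.hom := hD.1.1
  haveI : LocallyQuasiFinite D.obj.hom := hD.1.2
  haveI : LocallyOfFiniteType D.obj.hom := hD.2
  apply effective_of_good_cover D
  intro v
  obtain ⟨N, hNaff, hvN, -⟩ := D.obj.left.isBasis_affineOpens.exists_subset_of_mem_open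
    (Set.mem_univ v) isOpen_univ
  obtain ⟨N, rfl⟩ : ∃ N' : D.obj.left.Opens, N = (N' : Set D.obj.left) :=
    hNaff.imp (fun W' h => h.2.symm)
  have hNaff' : IsAffineOpen N := by
    obtain ⟨W'', h1, h2⟩ := hNaff
    have : W'' = N := TopologicalSpace.Opens.ext h2
    exact this ▸ h1
  set W := sat D N with hW
  have hst : Stable D W := sat_stable D N
  have hc : IsCompact (W : Set D.obj.left) := isCompact_sat D N hNaff'.isCompact
  refine ⟨W, le_sat D N hvN, ?_⟩
  haveI : CompactSpace (W : Scheme.{u}) := isCompact_iff_compactSpace.mp hc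
  haveI : QuasiCompact (W.ι ≫ D.obj.hom) :=
    (HasAffineProperty.iff_of_isAffine (P := @QuasiCompact)).mpr inferInstance
  have hqa : Mor2.IsQuasiAffine (restrict D W hst).obj.hom :=
    isQuasiAffine_of_zmt (W.ι ≫ D.obj.hom)
  have heff := Groth.Agent.S1134.result p (restrict D W hst) hqa
  haveI : IsOpenImmersion (resIncl D W hst).hom.left := inferInstanceAs (IsOpenImmersion W.ι)
  have hg := good_of_hom D (restrict D W hst) (resIncl D W hst) heff
  have hr : (resIncl D W hst).hom.left.opensRange = W := by
    change W.ι.opensRange = W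
    exact Scheme.Opens.opensRange_ι W
  rw [hr] at hg
  exact hg


/-- Single flat, surjective, locally finitely presented cover; a general fppf covering reduces to this
by taking the disjoint union: Let p : X ⟶ S be flat, surjective and locally of finite presentation.
Every descent datum for schemes relative to p whose underlying scheme is separated, locally
quasi-finite and locally of finite type over X is effective: it is isomorphic to the canonical
descent datum of some scheme over S. (Descent data are in functor-of-points form; locally of finite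
type is part of the book's notion of locally quasi-finite.) -/
theorem result {X S : Scheme.{u}} (p : X ⟶ S) [Flat p] [Surjective p] [LocallyOfFinitePresentation p]
    (D : Desc.SchDD p) [IsSeparated D.obj.hom] [LocallyQuasiFinite D.obj.hom] [LocallyOfFiniteType D.obj.hom] :
    ∃ U : Over S, Nonempty ((Desc.toDD p).obj U ≅ D) := by
  have hf : Presieve.ofArrows (fun _ : PUnit.{u + 1} => X) (fun _ => p) ∈
      Scheme.fpqcPrecoverage S := by
    rw [Presieve.ofArrows_pUnit]
    exact Scheme.fppfPrecoverage_le_fpqcPrecoverage _ p.singleton_mem_fppfPrecoverage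
  exact effective_of_affine_case' PP.{u} @LocallyOfFinitePresentation
    (fun X S p hX hS hfl hsurj hQ D hD => by
      haveI := hX; haveI := hS; haveI := hfl; haveI := hsurj; haveI := hQ
      exact affine_case p D hD) p inferInstance hf D ⟨⟨inferInstance, inferInstance⟩, inferInstance⟩

end Groth.Agent.S9726
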