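import Groth.Statements.S9727
import Mathlib
import Groth.Agent.Lib.Helper35.EtLiftUnits2
import Groth.Agent.Lib.Helper35.EtLiftFiber

set_option autoImplicit false
universe u
open FlatMor

namespace Groth.Agent.S9727

section Helpers

open AlgebraicGeometry CategoryTheory Limits Groth.Agent.Lib.Helper35.EtLiftUnits

set_option linter.style.haveILetI false

set_option maxHeartbeats 1000000 in
set_option backward.isDefEq.respectTransparency.types false in
theorem aux {X S V : Scheme.{u}} (f : X ⟶ S) (x : X)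
    (g : V ⟶ f.fiber (f x)) [Etale g] (v : V) (hv : g v = f.asFiber x) :
    ∃ (U : Scheme.{u}) (p : U ⟶ X) (u : U) (m : (p ≫ f).fiber (f x) ⟶ V) (u' : ↑((p ≫ f).fiber (f x))),
      Etale p ∧ p u = x ∧ IsOpenImmersion m ∧ m ≫ g = MoreMor.fiberMap p f (f x) ∧
      (p ≫ f).fiberι (f x) u' = u ∧ m u' = v := by
  -- charts
  obtain ⟨_, ⟨S', hS', rfl⟩, hsS', -⟩ :=
    S.isBasis_affineOpens.exists_subset_of_mem_open (Set.mem_univ (f x)) isOpen_univ
  obtain ⟨_, ⟨X', hX', rfl⟩, hxX', hX'S⟩ :=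
    X.isBasis_affineOpens.exists_subset_of_mem_open (show x ∈ f ⁻¹ᵁ S' from hsS') (f ⁻¹ᵁ S').2
  obtain ⟨B₀, _, φ, j, hφ, hj, hjι, hjr⟩ := exists_fiber_chart f (f x) hS' hsS' hX' hX'S
  let jX := hX'.fromSpec
  haveI : IsOpenImmersion jX := hX'.isOpenImmersion_fromSpec
  let ι := f.fiberι (f x)
  let toK := f.fiberToSpecResidueField (f x)
  -- the étale scheme `E` over `T = Spec B₀`
  let sE : pullback g j ⟶ Spec (CommRingCat.of B₀) := pullback.snd g j
  let fE : pullback g j ⟶ V := pullback.fst g j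
  haveI : Etale sE := inferInstanceAs (Etale (pullback.snd g j))
  haveI : IsOpenImmersion fE := inferInstanceAs (IsOpenImmersion (pullback.fst g j))
  have hEc : fE ≫ g = sE ≫ j := pullback.condition
  have hxF : f.asFiber x ∈ Set.range j := by
    rw [hjr]
    show ι (f.asFiber x) ∈ X'
    rw [f.fiberι_asFiber]
    exact hxX'
  obtain ⟨t₀, ht₀⟩ := hxF
  obtain ⟨e, he1, he2⟩ := Scheme.Pullback.exists_preimage_pullback (f := g) (g := j) v t₀
    (hv.trans ht₀.symm)
  obtain ⟨W', W, π, ιW, k, hW'aff, hπ, hιW, heW, hsq⟩ := exists_etale_lift_scheme φ hφ sE e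
  obtain ⟨p, hp⟩ : ∃ p : W' ⟶ X, p = π ≫ jX := ⟨_, rfl⟩
  haveI : Etale p := by rw [hp]; infer_instance
  have hpapp : ∀ w : W', p w = jX (π w) := fun w => by rw [hp]; rfl
  have hpc : ∀ {Z : Scheme.{u}} (a : Z ⟶ W'), a ≫ p = a ≫ π ≫ jX := fun a => by rw [hp]
  have hpf : ∀ {Z : Scheme.{u}} (a : Z ⟶ W'), a ≫ p ≫ f = a ≫ π ≫ jX ≫ f := fun a => by
    rw [hp, Category.assoc]
  let ιP := (p ≫ f).fiberι (f x)
  let toKP := (p ≫ f).fiberToSpecResidueField (f x)
  let fm := MoreMor.fiberMap p f (f x)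
  have hfm1 : fm ≫ ι = ιP ≫ p := pullback.lift_fst _ _ _
  have hfm2 : fm ≫ toK = toKP := pullback.lift_snd _ _ _
  have hθr : Set.range fm ⊆ Set.range j := by
    rintro _ ⟨z, rfl⟩
    rw [hjr]
    show ι (fm z) ∈ X'
    rw [← Scheme.Hom.comp_apply, hfm1, Scheme.Hom.comp_apply]
    have : p (ιP z) ∈ Set.range jX := ⟨π (ιP z), (hpapp _).symm⟩
    rw [hX'.range_fromSpec] at this
    exact this
  let θ : (p ≫ f).fiber (f x) ⟶ Spec (CommRingCat.of B₀) := IsOpenImmersion.lift j fm hθr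
  have hθ : θ ≫ j = fm := IsOpenImmersion.lift_fac _ _ _
  have hθL : θ ≫ Spec.map (CommRingCat.ofHom φ) = ιP ≫ π := by
    rw [← cancel_mono jX, Category.assoc, ← hjι, ← Category.assoc, hθ, hfm1, hpc ιP, Category.assoc]
  let μ : (p ≫ f).fiber (f x) ⟶ W := hsq.lift ιP θ hθL.symm
  have hμk : μ ≫ k = ιP := hsq.lift_fst _ _ _
  have hμs : μ ≫ ιW ≫ sE = θ := hsq.lift_snd _ _ _
  have hνc : k ≫ (p ≫ f) = (ιW ≫ sE ≫ j ≫ toK) ≫ S.fromSpecResidueField (f x) := by
    have h1 : toK ≫ S.fromSpecResidueField (f x) = ι ≫ f := (f.fiber_fac (f x)).symm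
    simp only [Category.assoc]
    rw [h1, ← Category.assoc j, hjι]
    have h2 := hsq.w
    rw [hpf k]
    simp only [Category.assoc] at h2 ⊢
    rw [← Category.assoc k, h2]
    simp only [Category.assoc]
    rfl
  let ν : W ⟶ (p ≫ f).fiber (f x) := pullback.lift k (ιW ≫ sE ≫ j ≫ toK) hνc
  have hνk : ν ≫ ιP = k := pullback.lift_fst _ _ _
  have hνs : ν ≫ toKP = ιW ≫ sE ≫ j ≫ toK := pullback.lift_snd _ _ _
  have hνfm : ν ≫ fm = ιW ≫ sE ≫ j := by
    apply pullback.hom_ext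
    · show (ν ≫ fm) ≫ ι = (ιW ≫ sE ≫ j) ≫ ι
      rw [Category.assoc, hfm1, ← Category.assoc, hνk]
      simp only [Category.assoc]
      rw [hjι, hpc k]
      have h2 := hsq.w
      simp only [Category.assoc] at h2 ⊢
      rw [← Category.assoc k, h2]
      simp only [Category.assoc]
      rfl
    · show (ν ≫ fm) ≫ toK = (ιW ≫ sE ≫ j) ≫ toK
      rw [Category.assoc, hfm2, hνs]
      simp only [Category.assoc]
  have hνμ : ν ≫ μ = 𝟙 W := by
    apply hsq.hom_ext
    · rw [Category.assoc, hμk, hνk, Category.id_comp]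
    · rw [Category.assoc, hμs, Category.id_comp, ← cancel_mono j, Category.assoc, hθ, hνfm]
      simp only [Category.assoc]
  have hμν : μ ≫ ν = 𝟙 _ := by
    apply pullback.hom_ext
    · show (μ ≫ ν) ≫ ιP = 𝟙 _ ≫ ιP
      rw [Category.assoc, hνk, hμk, Category.id_comp]
    · show (μ ≫ ν) ≫ toKP = 𝟙 _ ≫ toKP
      rw [Category.assoc, hνs, Category.id_comp, ← Category.assoc ιW, ← Category.assoc μ,
        hμs, ← Category.assoc, hθ, hfm2]
  haveI : IsIso μ := ⟨ν, hμν, hνμ⟩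
  let m : (p ≫ f).fiber (f x) ⟶ V := μ ≫ ιW ≫ fE
  have hmg : m ≫ g = fm := by
    simp only [m, Category.assoc]
    rw [hEc, ← Category.assoc ιW, ← Category.assoc μ, hμs, hθ]
  obtain ⟨w₀, hw₀⟩ := heW
  have hmu : m (ν w₀) = v := by
    simp only [m]
    rw [← Scheme.Hom.comp_apply, ← Category.assoc, hνμ, Category.id_comp, Scheme.Hom.comp_apply,
      hw₀]
    exact he1
  refine ⟨W', p, ιP (ν w₀), m, ν w₀, inferInstance, ?_, inferInstance, hmg, rfl, hmu⟩
  rw [← Scheme.Hom.comp_apply, ← hfm1, Scheme.Hom.comp_apply, ← hmg, Scheme.Hom.comp_apply, hmu, hv]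
  exact f.fiberι_asFiber x

end Helpers

open AlgebraicGeometry CategoryTheory Limits in
/-- Let f : X ⟶ S be a morphism, x a point of X with image s, and (V, v) ⟶ (X_s, x) an étale
neighbourhood of x in its fibre. Then there is an étale neighbourhood (U, u) ⟶ (X, x) whose fibre
U_s over s admits a morphism of étale neighbourhoods (U_s, u) ⟶ (V, v) over X_s which is an open
immersion. -/
theorem result {X S V : Scheme.{u}} (f : X ⟶ S) (x : X)
    (g : V ⟶ f.fiber (f x)) [Etale g] (v : V) (hv : g v = f.asFiber x) :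
    ∃ (U : Scheme.{u}) (p : U ⟶ X) (u : U) (m : (p ≫ f).fiber (f x) ⟶ V) (u' : ↑((p ≫ f).fiber (f x))),
      Etale p ∧ p u = x ∧ IsOpenImmersion m ∧ m ≫ g = MoreMor.fiberMap p f (f x) ∧
      (p ≫ f).fiberι (f x) u' = u ∧ m u' = v := by
  exact aux f x g v hv

end Groth.Agent.S9727
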