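import Groth.Statements.S9728
import Mathlib
import Groth.Agent.S8656

set_option autoImplicit false
universe u
open FlatMor

namespace Groth.Agent.S9728

section helpers

open AlgebraicGeometry CategoryTheory Limits

theorem isRegularImmersion_iso_comp {W Z X : Scheme.{u}} (k : RegImm.Kind) (e : W ⟶ Z) [IsIso e]
    (i : Z ⟶ X) (hi : RegImm.IsRegularImmersion k i) : RegImm.IsRegularImmersion k (e ≫ i) := by
  obtain ⟨himm, hreg⟩ := hi
  haveI := himm
  refine ⟨inferInstance, fun w => ?_⟩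
  obtain ⟨U, hzU, hcl, rs, hseq, hker⟩ := hreg (e w)
  haveI := hcl
  refine ⟨U, hzU, ?_, rs, hseq, ?_⟩
  · rw [morphismRestrict_comp]
    haveI h0 : IsClosedImmersion e := inferInstance
    haveI h1 : IsClosedImmersion (e ∣_ i ⁻¹ᵁ U.1) :=
      IsZariskiLocalAtTarget.restrict (P := @IsClosedImmersion) h0 _
    haveI h2 : IsClosedImmersion (i ∣_ U.1) := hcl
    show IsClosedImmersion ((e ∣_ i ⁻¹ᵁ U.1) ≫ (i ∣_ U.1))
    infer_instance
  · rw [← hker]
    have hinj : Function.Injective (e.app (i ⁻¹ᵁ U.1)).hom :=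
      (ConcreteCategory.bijective_of_isIso (e.app (i ⁻¹ᵁ U.1))).1
    ext x
    rw [RingHom.mem_ker, RingHom.mem_ker, Scheme.Hom.comp_app]
    constructor
    · intro h
      apply hinj
      rw [map_zero]
      exact h
    · intro h
      show (e.app (i ⁻¹ᵁ U.1)).hom ((i.app U.1).hom x) = 0
      rw [h, map_zero]

theorem key {S U : Scheme.{u}} (q : U ⟶ S) {Q Q' : Scheme.{u}} (r : Q ⟶ S) (r' : Q' ⟶ S)
    [Smooth r] [Smooth r'] (a : U ⟶ Q) (a' : U ⟶ Q') [IsImmersion a] [IsImmersion a']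
    (ha : a ≫ r = q) (ha' : a' ≫ r' = q) (u : U)
    (h : ∃ V : U.Opens, u ∈ V ∧ RegImm.IsRegularImmersion RegImm.Kind.koszul (V.ι ≫ a)) :
    ∃ V : U.Opens, u ∈ V ∧ RegImm.IsRegularImmersion RegImm.Kind.koszul (V.ι ≫ a') := by
  obtain ⟨V, huV, hV⟩ := h
  refine ⟨V, huV, ?_⟩
  refine Groth.Agent.S8656.result (V.ι ≫ q) ?_ r' (V.ι ≫ a') (by rw [Category.assoc, ha'])
  intro x
  haveI : IsIso (⊤ : (V : Scheme.{u}).Opens).ι := by
    rw [← Scheme.topIso_hom]
    infer_instance
  refine ⟨⊤, Q, (⊤ : (V : Scheme.{u}).Opens).ι ≫ (V.ι ≫ a), r, trivial, ?_,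
    isRegularImmersion_iso_comp .koszul _ _ hV, inferInstance, ?_⟩
  · rw [← ha]
    infer_instance
  · rw [Category.assoc, Category.assoc, ha]

end helpers

open AlgebraicGeometry CategoryTheory Limits in

/-- Given S-schemes U, P, P' with P and P' smooth over S, immersions i : U ⟶ P and i' : U ⟶ P'
compatible with the structure maps to S, and a point u of U, some restriction of i to an open
neighbourhood of u is a Koszul-regular immersion exactly when some restriction of i' to an open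
neighbourhood of u is. -/
theorem result {S U P P' : Scheme.{u}} (q : U ⟶ S)
    (p : P ⟶ S) (p' : P' ⟶ S) [Smooth p] [Smooth p'] (i : U ⟶ P) (i' : U ⟶ P') [IsImmersion i] [IsImmersion i']
    (hi : i ≫ p = q) (hi' : i' ≫ p' = q) (u : U) :
    (∃ V : U.Opens, u ∈ V ∧ RegImm.IsRegularImmersion RegImm.Kind.koszul (V.ι ≫ i)) ↔
      (∃ V : U.Opens, u ∈ V ∧ RegImm.IsRegularImmersion RegImm.Kind.koszul (V.ι ≫ i')) := by
  exact ⟨key q p p' i i' hi hi' u, key q p' p i' i hi' hi u⟩

end Groth.Agent.S9728
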