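import Groth.Statements.S9732
import Groth.Agent.Lib.Helper61.ThickBC
import Groth.Agent.Lib.Helper61.UnivThickRing

set_option autoImplicit false
universe u
open OmegaSh

namespace Groth.Agent.S9732

open AlgebraicGeometry CategoryTheory Limits in
/-- Let h : Z ⟶ X be formally unramified and let (i : Z ⟶ Z', h' : Z' ⟶ X) be a universal first order
thickening of Z over X. Then h' is formally unramified. -/
theorem result {Z Z' X : Scheme.{u}} (h : Z ⟶ X) [FormallyUnramified h]
    (i : Z ⟶ Z') (h' : Z' ⟶ X) (hu : OmegaSh.IsUnivThickening h i h') : FormallyUnramified h' := by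
  obtain ⟨hi, hih, huniv⟩ := hu
  haveI : IsClosedImmersion i := hi.1.1
  refine ⟨fun {U} hU {V'} hV' hVU => ?_⟩
  letI algA : Algebra Γ(X, U) Γ(Z', V') := (h'.appLE U V' hVU).hom.toAlgebra
  show Algebra.FormallyUnramified Γ(X, U) Γ(Z', V')
  have hV : IsAffineOpen (i ⁻¹ᵁ V') := hV'.preimage i
  have hπsurj : Function.Surjective (i.app V').hom := i.app_surjective V' hV'
  refine Groth.Agent.Lib.Helper61.UnivThickRing.formallyUnramified_of_unique
    (RingHom.ker (i.app V').hom) ?_ ?_
  · rw [eq_bot_iff, sq, Ideal.mul_le]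
    intro x hx y hy
    rw [Ideal.mem_bot]
    exact Groth.Agent.Lib.Helper61.ThickBC.sq_zero i hi.2 V' x y
      (RingHom.mem_ker.mp hx) (RingHom.mem_ker.mp hy)
  · intro C _ _ I' hI' g₁ g₂ hg hN
    have hker : RingHom.ker (i.app V').hom ≤
        RingHom.ker ((Ideal.Quotient.mk I').comp g₂.toRingHom) := by
      intro n hn
      rw [RingHom.mem_ker, RingHom.comp_apply, Ideal.Quotient.eq_zero_iff_mem]
      exact hN n hn
    let abar : Γ(Z, i ⁻¹ᵁ V') →+* C ⧸ I' :=
      (i.app V').hom.liftOfSurjective hπsurj ⟨(Ideal.Quotient.mk I').comp g₂.toRingHom, hker⟩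
    have habar : abar.comp (i.app V').hom = (Ideal.Quotient.mk I').comp g₂.toRingHom :=
      (i.app V').hom.liftOfSurjective_comp hπsurj ⟨_, hker⟩
    have hg' : (Ideal.Quotient.mk I').comp g₁.toRingHom = (Ideal.Quotient.mk I').comp g₂.toRingHom := by
      ext x
      exact congrArg (fun F => F x) hg
    have ht : MoreMor.IsFirstOrderThickening
        (Spec.map (CommRingCat.ofHom (Ideal.Quotient.mk I'))) :=
      Groth.Agent.Lib.Helper61.ThickBC.isFirstOrderThickening_SpecMap_mk I' hI'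
    have hg₁ : h'.appLE U V' hVU ≫ CommRingCat.ofHom g₁.toRingHom =
        CommRingCat.ofHom (algebraMap _ C) := CommRingCat.hom_ext g₁.comp_algebraMap
    have hg₂ : h'.appLE U V' hVU ≫ CommRingCat.ofHom g₂.toRingHom =
        CommRingCat.ofHom (algebraMap _ C) := CommRingCat.hom_ext g₂.comp_algebraMap
    have hb : (Spec.map (CommRingCat.ofHom g₁.toRingHom) ≫ hV'.fromSpec) ≫ h' =
        (Spec.map (CommRingCat.ofHom g₂.toRingHom) ≫ hV'.fromSpec) ≫ h' := by
      simp only [Category.assoc, ← hU.SpecMap_appLE_fromSpec h' hV' hVU, ← Spec.map_comp_assoc,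
        hg₁, hg₂]
    have hfs : Spec.map (i.app V') ≫ hV'.fromSpec = hV.fromSpec ≫ i := by
      rw [Scheme.Hom.app_eq_appLE]
      exact hV'.SpecMap_appLE_fromSpec i hV le_rfl
    have hta : ∀ g : Γ(Z', V') →+* C, (Ideal.Quotient.mk I').comp g =
        (Ideal.Quotient.mk I').comp g₂.toRingHom →
        Spec.map (CommRingCat.ofHom (Ideal.Quotient.mk I')) ≫
          (Spec.map (CommRingCat.ofHom g) ≫ hV'.fromSpec) =
        (Spec.map (CommRingCat.ofHom abar) ≫ hV.fromSpec) ≫ i := by
      intro g hgg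
      rw [← Category.assoc, ← Spec.map_comp, ← CommRingCat.ofHom_comp, hgg, ← habar,
        CommRingCat.ofHom_comp, Spec.map_comp, Category.assoc, Category.assoc]
      congr 1
    have hw : Spec.map (CommRingCat.ofHom (Ideal.Quotient.mk I')) ≫
        ((Spec.map (CommRingCat.ofHom g₂.toRingHom) ≫ hV'.fromSpec) ≫ h') =
        (Spec.map (CommRingCat.ofHom abar) ≫ hV.fromSpec) ≫ h := by
      rw [← Category.assoc, hta g₂.toRingHom rfl, Category.assoc, hih]
    obtain ⟨c, -, hcuniq⟩ := huniv _ _ _ _ _ ht hw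
    have e1 := hcuniq (Spec.map (CommRingCat.ofHom g₁.toRingHom) ≫ hV'.fromSpec)
      ⟨hta g₁.toRingHom hg', hb⟩
    have e2 := hcuniq (Spec.map (CommRingCat.ofHom g₂.toRingHom) ≫ hV'.fromSpec)
      ⟨hta g₂.toRingHom rfl, rfl⟩
    have e3 : Spec.map (CommRingCat.ofHom g₁.toRingHom) =
        Spec.map (CommRingCat.ofHom g₂.toRingHom) :=
      (cancel_mono hV'.fromSpec).mp (e1.trans e2.symm)
    rw [Spec.map_inj] at e3
    exact AlgHom.ext fun x => congr($e3 x)

end Groth.Agent.S9732
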