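import Groth.Statements.S9733
import Groth.Agent.Lib.Helper61.ThickBC

set_option autoImplicit false
universe u
open OmegaSh

namespace Groth.Agent.S9733

open AlgebraicGeometry CategoryTheory Limits in
/-- Let h : Z ⟶ X and f : Z ⟶ W make Z the fibre product of g : X ⟶ Y and a formally unramified h' : W ⟶
Y, and let (j : W ⟶ W', k : W' ⟶ Y) be universal first-order thickening data for h'. Then the map Z
⟶ X ×_Y W' with components h and f ≫ j, together with the first projection X ×_Y W' ⟶ X, is a
universal first-order thickening for h. The published statement also asserts that h is formally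
unramified and that the pullback along f of the conormal sheaf of W relative to Y surjects onto the
conormal sheaf of Z relative to X; this row states neither. -/
theorem result {Z X W Y W' : Scheme.{u}} (h : Z ⟶ X) (f : Z ⟶ W) (g : X ⟶ Y) (h' : W ⟶ Y)
    [FormallyUnramified h'] (hc : IsPullback h f g h') (j : W ⟶ W') (k : W' ⟶ Y) (hu : OmegaSh.IsUnivThickening h' j k) :
    OmegaSh.IsUnivThickening h (pullback.lift h (f ≫ j) (hc.w.trans (congrArg (f ≫ ·) hu.2.1).symm)) (pullback.fst g k) := by
  obtain ⟨hj, hjk, huniv⟩ := hu
  have hl : pullback.lift h (f ≫ j) (hc.w.trans (congrArg (f ≫ ·) hjk).symm) ≫ pullback.snd g k =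
      f ≫ j := pullback.lift_snd _ _ _
  have hlf : pullback.lift h (f ≫ j) (hc.w.trans (congrArg (f ≫ ·) hjk).symm) ≫ pullback.fst g k =
      h := pullback.lift_fst _ _ _
  refine ⟨?_, hlf, ?_⟩
  · -- the lift is a base change of `j`
    have hbig : IsPullback
        (pullback.lift h (f ≫ j) (hc.w.trans (congrArg (f ≫ ·) hjk).symm) ≫ pullback.fst g k) f g
        (j ≫ k) := by
      rw [hlf, hjk]; exact hc
    have hsq : IsPullback (pullback.lift h (f ≫ j) (hc.w.trans (congrArg (f ≫ ·) hjk).symm)) f
        (pullback.snd g k) j :=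
      IsPullback.of_right hbig hl (IsPullback.of_hasPullback g k)
    exact Groth.Agent.Lib.Helper61.ThickBC.isFirstOrderThickening_of_isPullback hsq hj
  · intro T T' t b a ht hw
    -- the unique map `T' ⟶ W'`
    have hw' : t ≫ (b ≫ g) = (a ≫ f) ≫ h' := by
      rw [← Category.assoc, hw, Category.assoc, Category.assoc, hc.w]
    obtain ⟨c, ⟨hc1, hc2⟩, hcuniq⟩ := huniv T T' t (b ≫ g) (a ≫ f) ht hw'
    refine ⟨pullback.lift b c hc2.symm, ⟨?_, pullback.lift_fst _ _ _⟩, ?_⟩
    · apply pullback.hom_ext
      · rw [Category.assoc, pullback.lift_fst, Category.assoc, hlf, hw]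
      · rw [Category.assoc, pullback.lift_snd, Category.assoc, hl, hc1, Category.assoc]
    · rintro a' ⟨ha1, ha2⟩
      apply pullback.hom_ext
      · rw [pullback.lift_fst, ha2]
      · rw [pullback.lift_snd]
        apply hcuniq
        constructor
        · rw [← Category.assoc, ha1, Category.assoc, hl, Category.assoc]
        · rw [Category.assoc, ← pullback.condition, ← Category.assoc, ha2]

end Groth.Agent.S9733
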