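import Groth.Statements.S9736
import Groth.Agent.S9148

set_option autoImplicit false
universe u
open FlatMor

namespace Groth.Agent.S9736

open AlgebraicGeometry CategoryTheory Limits in
open Groth.Agent.Lib.Helper48.RelGCIDescent in
attribute [local instance] MvPolynomial.algebraMvPolynomial in
/-- Let f : X ⟶ S be a standard syntomic morphism of affine schemes. Then f is the base change of a
morphism of finite type f₀ : X₀ ⟶ S₀ between affine schemes with S₀ of finite type over ℤ and f₀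
standard syntomic. -/
theorem result {X S : Scheme.{u}} (f : X ⟶ S) [IsAffine X] [IsAffine S] (hf : Synt.IsStandardSyntomic f) :
    ∃ (X₀ S₀ : Scheme.{u}) (f₀ : X₀ ⟶ S₀) (g : S ⟶ S₀) (g' : X ⟶ X₀), IsAffine X₀ ∧ IsAffine S₀ ∧ IsPullback g' f f₀ g ∧
      Algebra.FiniteType ℤ Γ(S₀, ⊤) ∧ LocallyOfFiniteType f₀ ∧ Synt.IsStandardSyntomic f₀ := by
  obtain ⟨R, _, n, c, F, hF, e₁, e₂, hcomm⟩ := hf
  obtain ⟨R₁, F₁, hft, hmap, hGCI⟩ := Groth.Agent.S9148.result R n c F hF
  have hK : Ideal.span (Set.range F) = (Ideal.span (Set.range F₁)).map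
      (algebraMap (MvPolynomial (Fin n) R₁) (MvPolynomial (Fin n) R)) := by
    rw [Ideal.map_span, ← Set.range_comp]
    have : (⇑(algebraMap (MvPolynomial (Fin n) R₁) (MvPolynomial (Fin n) R)) ∘ F₁) = F :=
      funext hmap
    rw [this]
  have hle : Ideal.span (Set.range F₁) ≤ (Ideal.span (Set.range F)).comap
      (algebraMap (MvPolynomial (Fin n) R₁) (MvPolynomial (Fin n) R)) := by
    rw [hK]
    exact Ideal.le_comap_map
  have hpb := isPullback_of_eq R₁ R n (Ideal.span (Set.range F₁)) (Ideal.span (Set.range F)) hK hle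
  refine ⟨Spec (CommRingCat.of (Synt.RelGCIRing R₁ n c F₁)), Spec (CommRingCat.of R₁),
    Spec.map (CommRingCat.ofHom (algebraMap R₁ (Synt.RelGCIRing R₁ n c F₁))),
    e₂.hom ≫ Spec.map (CommRingCat.ofHom (algebraMap R₁ R)),
    e₁.hom ≫ Spec.map (CommRingCat.ofHom (Ideal.quotientMap (Ideal.span (Set.range F))
      (algebraMap (MvPolynomial (Fin n) R₁) (MvPolynomial (Fin n) R)) hle)),
    inferInstance, inferInstance, ?_, ?_, ?_, ?_⟩
  · refine hpb.of_iso e₁.symm (Iso.refl _) e₂.symm (Iso.refl _) ?_ ?_ ?_ ?_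
    · simp
    · rw [Iso.symm_hom, Iso.symm_hom, Iso.comp_inv_eq, Category.assoc, ← hcomm,
        Iso.inv_hom_id_assoc]
    · simp
    · simp
  · exact Algebra.FiniteType.equiv hft
      (Scheme.ΓSpecIso (.of R₁)).commRingCatIsoToRingEquiv.symm.toIntAlgEquiv
  · exact lft_quot R₁ n (Ideal.span (Set.range F₁))
  · exact ⟨R₁, inferInstance, n, c, F₁, hGCI, Iso.refl _, Iso.refl _, by simp⟩

end Groth.Agent.S9736
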