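import Groth.Statements.S9739
import Mathlib
import Groth.Agent.Lib.Helper21.FlatFibreDim
import Groth.Agent.Lib.Helper21.ValTrdegSch
import Groth.Agent.Lib.Helper21.OpenGeneralizing
-- import your own Groth.Agent.* helpers here

set_option autoImplicit false
universe u
open FlatMor

namespace Groth.Agent.S9739
open Groth.Agent.Lib.Helper21 Groth.Agent.Lib.Helper21.FieldDim Groth.Agent.Lib.Helper21.FlatFibreDim Groth.Agent.Lib.Helper21.ValTrdeg Groth.Agent.Lib.Helper21.OpenGeneralizing CategoryTheory.Limits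

open AlgebraicGeometry CategoryTheory Limits in
/-- Let f : X ⟶ S be flat and locally of finite presentation, and let x' ⤳ x be points of X. Assume the
closure of x in its fibre is one of that fibre's irreducible components. Then the fibre through x'
has the same local dimension at x' as the fibre through x has at x. -/
theorem result {X S : Scheme.{u}} (f : X ⟶ S) [Flat f] [LocallyOfFinitePresentation f]
    (x x' : X) (hsp : x' ⤳ x) (hgen : ∃ Z ∈ irreducibleComponents ↥(f.fiber (f x)), IsGenericPoint (f.asFiber x) Z) :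
    FlatMor.fibreDimAt f x' = FlatMor.fibreDimAt f x := by
  obtain ⟨Z, hZ, hgZ⟩ := hgen
  have hFmax : ∀ w : ↥(f.fiber (f x)), w ⤳ f.asFiber x → f.asFiber x ⤳ w :=
    maximal_of_closure_singleton_mem_irreducibleComponents (by rw [hgZ.def]; exact hZ)
  have hmax : ∀ z : X, z ⤳ x → f z = f x → z = x := by
    intro z hz hfz
    have hmem : z ∈ Set.range (f.fiberι (f x)) := by
      rw [Scheme.Hom.range_fiberι]; exact hfz
    obtain ⟨w, rfl⟩ := hmem
    have h1 : w ⤳ f.asFiber x := by
      rw [← (f.fiberι (f x)).isEmbedding.isInducing.specializes_iff, Scheme.Hom.fiberι_asFiber]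
      exact hz
    have h2 : w = f.asFiber x := (h1.antisymm (hFmax w h1)).eq
    rw [h2, Scheme.Hom.fiberι_asFiber]
  obtain ⟨Ω, hxΩ, hΩ⟩ := exists_open_lift f x hmax
  have hfdx : FlatMor.fibreDimAt f x = ((tdR f x : ℕ) : WithBot ℕ∞) := by
    apply le_antisymm
    · rw [fibreDimAt_le_iff]
      intro ξ hξ hfξ
      rw [hmax ξ hξ hfξ]
    · exact tdR_le_fibreDimAt f x
  rw [hfdx]
  apply le_antisymm
  · have hO := Groth.Agent.S0402.result f (tdR f x)
    exact hsp.mem_open hO hfdx.le
  · obtain ⟨x'', hx''sp, hx''f, hx''d⟩ := hΩ x' (hsp.mem_open Ω.isOpen hxΩ)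
    have h1 := (fibreDimAt_le_iff f x' _).mp le_rfl x'' hx''sp hx''f
    refine le_trans ?_ h1
    exact_mod_cast hx''d

end Groth.Agent.S9739
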