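import Groth.Statements.S9740
import Groth.Agent.Lib.Helper61.ThickBC

set_option autoImplicit false
universe u
open OmegaSh

namespace Groth.Agent.S9740

open AlgebraicGeometry CategoryTheory Limits in
/-- Let h : Z ⟶ X be formally unramified with universal first order thickening (i : Z ⟶ Z', h' : Z' ⟶
X), let V ⊆ Z and U ⊆ X be opens with h(V) ⊆ U, and let V' ⊆ Z' be the open with i⁻¹(V') = V (so
h'(V') ⊆ U). Then the restricted pair (V ⟶ V', V' ⟶ U) is a universal first-order thickening for the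
restriction V ⟶ U of h. The published statement also asserts that this restriction is formally
unramified and that the conormal sheaf of Z over X restricts on V to that of V over U; this row
states only the thickening part. -/
theorem result {Z Z' X : Scheme.{u}} (h : Z ⟶ X) [FormallyUnramified h] (i : Z ⟶ Z') (h' : Z' ⟶ X)
    (hu : OmegaSh.IsUnivThickening h i h') (V : Z.Opens) (U : X.Opens) (hVU : V ≤ h ⁻¹ᵁ U)
    (V' : Z'.Opens) (hV' : i ⁻¹ᵁ V' = V) (hV'U : V' ≤ h' ⁻¹ᵁ U) :
    OmegaSh.IsUnivThickening (h.resLE U V hVU) (i.resLE V' V hV'.ge) (h'.resLE U V' hV'U) := by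
  obtain ⟨hi, hih, huniv⟩ := hu
  subst hV'
  have hcomp : i.resLE V' (i ⁻¹ᵁ V') le_rfl ≫ h'.resLE U V' hV'U = h.resLE U (i ⁻¹ᵁ V') hVU := by
    rw [← cancel_mono U.ι]
    simp only [Category.assoc, Scheme.Hom.resLE_comp_ι, Scheme.Hom.resLE_comp_ι_assoc, hih]
  refine ⟨?_, hcomp, ?_⟩
  · have hp : IsPullback (i.resLE V' (i ⁻¹ᵁ V') le_rfl) (i ⁻¹ᵁ V').ι V'.ι i := by
      rw [Scheme.Hom.resLE_eq_morphismRestrict]
      exact isPullback_morphismRestrict i V'
    exact Groth.Agent.Lib.Helper61.ThickBC.isFirstOrderThickening_of_isPullback hp hi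
  · intro T T' t b a ht hw
    have hw' : t ≫ (b ≫ U.ι) = (a ≫ (i ⁻¹ᵁ V').ι) ≫ h := by
      rw [← Category.assoc, hw, Category.assoc, Category.assoc, Scheme.Hom.resLE_comp_ι]
    obtain ⟨a'', ⟨ha1, ha2⟩, hauniq⟩ := huniv T T' t (b ≫ U.ι) (a ≫ (i ⁻¹ᵁ V').ι) ht hw'
    haveI : Surjective t := ht.1.2
    have hrange : Set.range a'' ⊆ Set.range V'.ι := by
      rintro _ ⟨y, rfl⟩
      obtain ⟨x, rfl⟩ := t.surjective y
      rw [Scheme.Opens.range_ι]
      have e := congrArg (fun F : T ⟶ Z' => F x) ha1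
      simp only [Scheme.Hom.comp_apply] at e
      rw [e]
      exact (a x).2
    refine ⟨IsOpenImmersion.lift V'.ι a'' hrange, ⟨?_, ?_⟩, ?_⟩
    · rw [← cancel_mono V'.ι]
      simp only [Category.assoc, IsOpenImmersion.lift_fac, Scheme.Hom.resLE_comp_ι, ha1]
    · rw [← cancel_mono U.ι]
      simp only [Category.assoc, Scheme.Hom.resLE_comp_ι, IsOpenImmersion.lift_fac_assoc, ha2]
    · rintro a₁ ⟨h1, h2⟩
      rw [← cancel_mono V'.ι, IsOpenImmersion.lift_fac]
      apply hauniq
      constructor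
      · rw [← Category.assoc, h1, Category.assoc, Scheme.Hom.resLE_comp_ι, Category.assoc]
      · rw [← h2, Category.assoc, Category.assoc, Scheme.Hom.resLE_comp_ι]

end Groth.Agent.S9740
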