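import Groth.Statements.S9741
import Groth.Agent.Lib.Helper61.ThickBC

set_option autoImplicit false
universe u
open OmegaSh

namespace Groth.Agent.S9741

open AlgebraicGeometry CategoryTheory Limits in
/-- Let a : Z ⟶ Y and b : Y ⟶ X be formally unramified, let (i : Z ⟶ Z', c : Z' ⟶ X) be universal among
first order thickenings of Z relative to X (for a ≫ b), and (j : Y ⟶ Y', d : Y' ⟶ X) likewise for Y
relative to X (for b). Then there is a morphism of thickenings m : Z' ⟶ Y' over X (i ≫ m = a ≫ j and
m ≫ d = c) such that Z ⟶ Y ×_{Y'} Z' (components a and i), together with the projection to Y, is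
universal among first order thickenings of Z relative to Y (for a). The published statement also
asserts an exact sequence of conormal sheaves; this row states only the thickening assertion. -/
theorem result {Z Y X Z' Y' : Scheme.{u}} (a : Z ⟶ Y) (b : Y ⟶ X)
    [FormallyUnramified a] [FormallyUnramified b] (i : Z ⟶ Z') (c : Z' ⟶ X) (hZ : OmegaSh.IsUnivThickening (a ≫ b) i c)
    (j : Y ⟶ Y') (d : Y' ⟶ X) (hY : OmegaSh.IsUnivThickening b j d) :
    ∃ (m : Z' ⟶ Y') (hm : i ≫ m = a ≫ j), m ≫ d = c ∧
      OmegaSh.IsUnivThickening a (pullback.lift a i hm.symm) (pullback.fst j m) := by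
  obtain ⟨hi, hic, hZuniv⟩ := hZ
  obtain ⟨hj, hjd, hYuniv⟩ := hY
  obtain ⟨m, ⟨hm, hmd⟩, -⟩ := hYuniv Z Z' i c a hi hic
  refine ⟨m, hm, hmd, ?_⟩
  have hl : pullback.lift a i hm.symm ≫ pullback.snd j m = i := pullback.lift_snd _ _ _
  have hlf : pullback.lift a i hm.symm ≫ pullback.fst j m = a := pullback.lift_fst _ _ _
  haveI : IsClosedImmersion j := hj.1.1
  refine ⟨?_, hlf, ?_⟩
  · -- `Z ⟶ P` is the base change of `i` along the monomorphism `P ⟶ Z'`
    have h1 : IsPullback (pullback.lift a i hm.symm) (𝟙 Z) (𝟙 _) (pullback.lift a i hm.symm) :=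
      IsPullback.of_vert_isIso ⟨by simp⟩
    have h2 : IsPullback (𝟙 (pullback j m)) (𝟙 _) (pullback.snd j m) (pullback.snd j m) :=
      IsKernelPair.id_of_mono _
    have h3 := h1.paste_horiz h2
    rw [Category.comp_id, hl] at h3
    exact Groth.Agent.Lib.Helper61.ThickBC.isFirstOrderThickening_of_isPullback h3 hi
  · intro T T' t β α ht hw
    have hw' : t ≫ (β ≫ b) = α ≫ (a ≫ b) := by
      rw [← Category.assoc, hw, Category.assoc]
    obtain ⟨γ, ⟨hγ1, hγ2⟩, hγuniq⟩ := hZuniv T T' t (β ≫ b) α ht hw'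
    -- `γ ≫ m = β ≫ j` by uniqueness for `Y'`
    have hw'' : t ≫ (β ≫ b) = (α ≫ a) ≫ b := by
      rw [hw', Category.assoc]
    obtain ⟨δ, -, hδuniq⟩ := hYuniv T T' t (β ≫ b) (α ≫ a) ht hw''
    have e1 : γ ≫ m = δ := hδuniq _ ⟨by
      rw [← Category.assoc, hγ1, Category.assoc, hm, Category.assoc], by
      rw [Category.assoc, hmd, hγ2]⟩
    have e2 : β ≫ j = δ := hδuniq _ ⟨by
      rw [← Category.assoc, hw, Category.assoc], by
      rw [Category.assoc, hjd]⟩
    have hcond : β ≫ j = γ ≫ m := e2.trans e1.symm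
    refine ⟨pullback.lift β γ hcond, ⟨?_, pullback.lift_fst _ _ _⟩, ?_⟩
    · apply pullback.hom_ext
      · rw [Category.assoc, pullback.lift_fst, Category.assoc, hlf, hw]
      · rw [Category.assoc, pullback.lift_snd, Category.assoc, hl, hγ1]
    · rintro a' ⟨ha1, ha2⟩
      apply pullback.hom_ext
      · rw [pullback.lift_fst, ha2]
      · rw [pullback.lift_snd]
        apply hγuniq
        constructor
        · rw [← Category.assoc, ha1, Category.assoc, hl]
        · rw [← hmd, Category.assoc, ← Category.assoc (pullback.snd j m), ← pullback.condition,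
            Category.assoc, hjd, ← Category.assoc, ha2]

end Groth.Agent.S9741
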