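import Groth.Statements.S9749
import Groth.Agent.Lib.Helper61.RelFP

set_option autoImplicit false
universe u
open Flatn

namespace Groth.Agent.S9749

open AlgebraicGeometry CategoryTheory Limits in
theorem isRelFP_of_retract {X S : Scheme.{u}} (f : X ⟶ S) (F G : X.Modules) (i : G ⟶ F) (p : F ⟶ G)
    (hip : i ≫ p = 𝟙 G) (h : Flatn.IsRelFP f F) : Flatn.IsRelFP f G := by
  obtain ⟨𝒱, h𝒱, H⟩ := h
  refine ⟨𝒱, h𝒱, fun V hV => ?_⟩
  obtain ⟨𝒰, h𝒰, H'⟩ := H V hV
  refine ⟨𝒰, h𝒰, fun U hU hle => ?_⟩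
  have key := H' U hU hle
  unfold Flatn.RelFPOn at key ⊢
  let _ := (f.appLE (V : S.Opens) (U : X.Opens) hle).hom.toAlgebra
  refine Groth.Agent.Lib.Helper61.RelFP.relFinitePresentation_of_retract
    (i.val.app (Opposite.op (U : X.Opens))).hom (p.val.app (Opposite.op (U : X.Opens))).hom ?_ key
  have h2 : (i ≫ p).val.app (Opposite.op (U : X.Opens)) = (𝟙 G : G ⟶ G).val.app (Opposite.op (U : X.Opens)) := by
    rw [hip]
  ext x
  exact congrArg (fun φ => φ.hom x) h2

open AlgebraicGeometry CategoryTheory Limits in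
/-- For f : X ⟶ S locally of finite type and quasi-coherent O_X-modules F, F', relative finite
presentation over S of the biproduct F ⊞ F' implies the same property for each summand. -/
theorem result {X S : Scheme.{u}} (f : X ⟶ S) [LocallyOfFiniteType f] (F F' : X.Modules) [Coh.IsQCoh F] [Coh.IsQCoh F']
    (h : Flatn.IsRelFP f (F ⊞ F')) : Flatn.IsRelFP f F ∧ Flatn.IsRelFP f F' := by
  exact ⟨isRelFP_of_retract f _ _ biprod.inl biprod.fst biprod.inl_fst h,
    isRelFP_of_retract f _ _ biprod.inr biprod.snd biprod.inr_snd h⟩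

end Groth.Agent.S9749
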