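import Groth.Statements.S9750
import Groth.Agent.Lib.Helper61.ConormalZero
import Groth.Agent.Lib.Helper61.FEtHom

set_option autoImplicit false
universe u
open FlatMor

namespace Groth.Agent.S9750

open AlgebraicGeometry CategoryTheory Limits in
/-- (1) ⇔ (2) ⇔ (3): a morphism f : X ⟶ S is formally étale (unique infinitesimal lifting against
square-zero thickenings of affine schemes) if and only if f is formally unramified and X, through
the identity and f, is its own universal square-zero (first order) thickening relative to f; and,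
for f formally unramified with universal first order thickening data (i : X ⟶ X', h' : X' ⟶ S), f is
formally étale if and only if the conormal sheaf of i (the conormal sheaf of f) is zero. The
published statement also lists a fourth equivalent condition, the vanishing of both the sheaf of
differentials and the conormal sheaf; this row omits it. -/
theorem result {X S : Scheme.{u}} (f : X ⟶ S) :
    (MoreMor.IsFormallyEtaleHom f ↔ FormallyUnramified f ∧ OmegaSh.IsUnivThickening f (𝟙 X) f) ∧
    (∀ {X' : Scheme.{u}} (i : X ⟶ X') (h' : X' ⟶ S) [QuasiCompact i], FormallyUnramified f →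
      OmegaSh.IsUnivThickening f i h' → (MoreMor.IsFormallyEtaleHom f ↔ IsZero (Omega.conormal i))) := by
  -- formally étale ⇒ `X` is its own universal thickening
  have key1 : MoreMor.IsFormallyEtaleHom f → OmegaSh.IsUnivThickening f (𝟙 X) f := by
    intro hf
    refine ⟨⟨⟨inferInstance, inferInstance⟩, ?_⟩, Category.id_comp f, ?_⟩
    · rw [Scheme.Hom.ker_eq_bot_of_isIso]
      refine le_antisymm (fun U => ?_) bot_le
      rw [Scheme.IdealSheafData.ideal_mul, Scheme.IdealSheafData.ideal_bot]
      simp
    · intro T T' j b a hj hw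
      obtain ⟨l, ⟨hl1, hl2⟩, hluniq⟩ :=
        Groth.Agent.Lib.Helper61.LiftGlue.existsUnique_lift_of_standard j hj a f b hw
          (fun _ _ => True) (fun _ _ _ _ _ => trivial) trivial
          (fun A _ I hI a₀ b₀ _ hw' => hf A I hI a₀ b₀ hw')
      refine ⟨l, ⟨by rw [hl1, Category.comp_id], hl2⟩, ?_⟩
      rintro l' ⟨h1, h2⟩
      exact hluniq l' ⟨by rw [h1, Category.comp_id], h2⟩
  -- a universal thickening by an isomorphism gives formal étaleness
  have key2 : ∀ {X' : Scheme.{u}} (i : X ⟶ X') (h' : X' ⟶ S) [IsIso i],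
      OmegaSh.IsUnivThickening f i h' → MoreMor.IsFormallyEtaleHom f := by
    intro X' i h' _ H A _ I hI a b w
    obtain ⟨hi, hfac, hUP⟩ := H
    obtain ⟨a', ⟨ha1, ha2⟩, hauniq⟩ := hUP _ _ (Spec.map (CommRingCat.ofHom (Ideal.Quotient.mk I))) b a
      (Groth.Agent.Lib.Helper61.ThickBC.isFirstOrderThickening_SpecMap_mk I hI) w
    have hinv : inv i ≫ f = h' := by rw [← hfac, IsIso.inv_hom_id_assoc]
    refine ⟨a' ≫ inv i, ⟨?_, ?_⟩, ?_⟩
    · rw [← Category.assoc, ha1, Category.assoc, IsIso.hom_inv_id, Category.comp_id]
    · rw [Category.assoc, hinv, ha2]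
    · rintro l ⟨h1, h2⟩
      have : l ≫ i = a' := hauniq (l ≫ i) ⟨by rw [← Category.assoc, h1],
        by rw [Category.assoc, hfac, h2]⟩
      rw [← this, Category.assoc, IsIso.hom_inv_id, Category.comp_id]
  refine ⟨⟨fun hf => ⟨?_, key1 hf⟩, fun H => key2 (𝟙 X) f H.2⟩, ?_⟩
  · exact ⟨fun {V} hV {U} hU e => by
      letI := (f.appLE V U e).hom.toAlgebra
      haveI := Groth.Agent.Lib.Helper61.FEtHom.affine_of_isFormallyEtaleHom f hf U V hU hV e
      show Algebra.FormallyUnramified Γ(S, V) Γ(X, U)
      infer_instance⟩
  · intro X' i h' _ _ H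
    constructor
    · intro hf
      obtain ⟨e, he1, -⟩ := Groth.Agent.Lib.Helper61.UnivThick.iso_of_two (key1 hf) H
      have hi : i = e.hom := by rw [← he1, Category.id_comp]
      haveI : IsIso i := by rw [hi]; infer_instance
      exact Groth.Agent.Lib.Helper61.ConormalZero.isZero_conormal_of_isIso i
    · intro hz
      haveI : IsClosedImmersion i := H.1.1.1
      have hk := Groth.Agent.Lib.Helper61.ConormalZero.ker_eq_bot_of_isZero_conormal i H.1.2 hz
      haveI : IsIso i := Groth.Agent.Lib.Helper61.ConormalZero.isIso_of_ker_eq_bot i hk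
      exact key2 i h' H

end Groth.Agent.S9750
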