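import Groth.Statements.S9753
import Groth.Agent.Lib.Helper7.BrCount3
import Groth.Agent.Lib.Helper98.WEStrictHens
import Groth.Agent.Lib.Helper98.WERed
import Groth.Agent.Lib.Helper37.Hz55

set_option autoImplicit false
universe u
open Brnch

namespace Groth.Agent.S9753

open AlgebraicGeometry CategoryTheory Limits in
open Groth.Agent.Lib.Helper37.Hz in
theorem le_numGeomBranchesAt {X U : Scheme.{u}} (g : U ⟶ X) [Etale g] (u : U) :
    ENat.card (minimalPrimes (U.presheaf.stalk u)) ≤ Brnch.numGeomBranchesAt X (g u) := by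
  let _ : Algebra (X.presheaf.stalk (g u)) (U.presheaf.stalk u) := (g.stalkMap u).hom.toAlgebra
  have hwe : Algebra.WeaklyEtale (X.presheaf.stalk (g u)) (U.presheaf.stalk u) :=
    Groth.Agent.Lib.Helper98.WERed.weaklyEtale_stalkMap g u
  have hloc1 : IsLocalHom (algebraMap (X.presheaf.stalk (g u)) (U.presheaf.stalk u)) := by
    change IsLocalHom (g.stalkMap u).hom
    infer_instance
  let _ : Algebra (X.presheaf.stalk (g u)) (SHens (U.presheaf.stalk u)) :=
    ((algebraMap (U.presheaf.stalk u) (SHens (U.presheaf.stalk u))).comp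
      (g.stalkMap u).hom).toAlgebra
  have htow : IsScalarTower (X.presheaf.stalk (g u)) (U.presheaf.stalk u)
      (SHens (U.presheaf.stalk u)) := IsScalarTower.of_algebraMap_eq (fun _ => rfl)
  have hloc2 : IsLocalHom (algebraMap (X.presheaf.stalk (g u)) (SHens (U.presheaf.stalk u))) := by
    change IsLocalHom ((algebraMap (U.presheaf.stalk u) (SHens (U.presheaf.stalk u))).comp
      (g.stalkMap u).hom)
    infer_instance
  have hsh : Hensel.IsStrictHenselization (X.presheaf.stalk (g u)) (SHens (U.presheaf.stalk u)) :=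
    Groth.Agent.Lib.Helper98.WEStrictHens.isStrictHenselization_of_weaklyEtale
      (X.presheaf.stalk (g u)) (U.presheaf.stalk u) (SHens (U.presheaf.stalk u))
  have h1 := Branches.card_minimalPrimes_eq_numGeomBranches (X.presheaf.stalk (g u))
    (SHens (U.presheaf.stalk u))
  have hff : Module.FaithfullyFlat (U.presheaf.stalk u) (SHens (U.presheaf.stalk u)) :=
    faithfullyFlat_of_isStrictHenselization _ _
  have h2 := Compare.card_minimalPrimes_le_of_faithfullyFlat (U.presheaf.stalk u)
    (SHens (U.presheaf.stalk u))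
  rw [h1] at h2
  exact h2

open AlgebraicGeometry CategoryTheory Limits in
open Groth.Agent.Lib.Helper37.Hz Groth.Agent.Lib.Helper7.BrCount in
theorem exists_nbhd (X : Scheme.{u}) (x : X) (n : ℕ)
    (hn : (n : ℕ∞) ≤ Brnch.numGeomBranchesAt X x) :
    ∃ (U : Scheme.{u}) (g : U ⟶ X) (u : U), (Etale g ∧ g u = x) ∧
      (n : ℕ∞) ≤ {Z : Set ↑U | Z ∈ irreducibleComponents ↑U ∧ u ∈ Z}.encard := by
  obtain ⟨_, ⟨V, hV : IsAffineOpen V, rfl⟩, hxV, -⟩ :=
    X.isBasis_affineOpens.exists_subset_of_mem_open (Set.mem_univ x) isOpen_univ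
  have h1 := Branches.card_minimalPrimes_eq_numGeomBranches (X.presheaf.stalk x)
    (SHens (X.presheaf.stalk x))
  have hn' : (n : ℕ∞) ≤ ENat.card (minimalPrimes (SHens (X.presheaf.stalk x))) := by
    rw [h1]; exact hn
  obtain ⟨E, _, _, hE, β, q, hq, -, -, hqx, hcard⟩ :=
    exists_etale_algebra X hV x hxV (SHens (X.presheaf.stalk x))
      (hasFactorization_H (X.presheaf.stalk x) _) n hn'
  exact ⟨Spec (CommRingCat.of E), nbhdMap X hV E, (⟨q, hq⟩ : PrimeSpectrum E),
    ⟨inferInstance, hqx⟩, hcard⟩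

open AlgebraicGeometry CategoryTheory Limits in
/-- Let X be a scheme and x ∈ X. Over all étale neighbourhoods (U, u) of (X, x) (g : U ⟶ X étale with g
u = x), take the count (in ℕ∞) of irreducible components of U containing u; the supremum of these
counts is the geometric branch number of X at x. -/
theorem result (X : Scheme.{u}) (x : X) :
    Brnch.numGeomBranchesAt X x = ⨆ (U : Scheme.{u}) (g : U ⟶ X) (u : U) (_ : Etale g ∧ g u = x),
      {Z : Set ↑U | Z ∈ irreducibleComponents ↑U ∧ u ∈ Z}.encard := by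
  apply le_antisymm
  · rw [← ENat.forall_natCast_le_iff_le]
    intro n hn
    obtain ⟨U, g, u, hg, hcard⟩ := exists_nbhd X x n hn
    refine hcard.trans ?_
    exact le_iSup_of_le U (le_iSup_of_le g (le_iSup_of_le u (le_iSup_of_le hg le_rfl)))
  · refine iSup_le fun U => iSup_le fun g => iSup_le fun u => iSup_le fun hg => ?_
    obtain ⟨hg1, rfl⟩ := hg
    rw [Groth.Agent.Lib.Helper7.BrCount.encard_eq_card_minimalPrimes]
    exact le_numGeomBranchesAt g u

end Groth.Agent.S9753
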