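import Groth.Statements.S9755
import Groth.Agent.Lib.Helper7.FibBr7

set_option autoImplicit false
universe u
open Brnch

namespace Groth.Agent.S9755

open AlgebraicGeometry CategoryTheory Limits in
open IsLocalRing in
open Groth.Agent.Lib.Helper37.Hz Groth.Agent.Lib.Helper7.BrCount Groth.Agent.Lib.Helper7.FibBr
  Groth.Agent.Lib.Helper67.FibreStalk in
theorem exists_nbhd {X S : Scheme.{u}} (f : X ⟶ S) (x : X) (n : ℕ)
    (hn : (n : ℕ∞) ≤ Brnch.numBranchesAt (f.fiber (f x)) (f.asFiber x)) :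
    ∃ (U : Scheme.{u}) (g : U ⟶ X) (u : U), Hens2.IsEtaleNbhd g u x ∧
      (n : ℕ∞) ≤ {Z : Set ↑((g ≫ f).fiber (f x)) |
        Z ∈ irreducibleComponents ↑((g ≫ f).fiber (f x)) ∧
          ∃ u' ∈ Z, (g ≫ f).fiberι (f x) u' = u}.encard := by
  obtain ⟨_, ⟨V, hV : IsAffineOpen V, rfl⟩, hxV, -⟩ :=
    X.isBasis_affineOpens.exists_subset_of_mem_open (Set.mem_univ x) isOpen_univ
  obtain ⟨e0⟩ := nonempty_ringEquiv f x
  have h1 := numBranches_eq_card (X.presheaf.stalk x) (fibreIdeal f x) _
    (fibreIdeal_le f x) e0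
  have hn' : (n : ℕ∞) ≤ ENat.card ((fibreIdeal f x).map
      (algebraMap (X.presheaf.stalk x) (Hens (X.presheaf.stalk x)))).minimalPrimes := by
    rw [← h1]; exact hn
  obtain ⟨E, _, _, hE, β, q, hq, hβ, hqdef, hqx, hflat, P, e, hP, he⟩ :=
    exists_etale_algebra_ideal X hV x hxV (Hens (X.presheaf.stalk x))
      (hasFactorization_H (X.presheaf.stalk x) _) _ n hn'
  exact ⟨Spec (CommRingCat.of E), nbhdMap X hV E, (⟨q, hq⟩ : PrimeSpectrum E),
    ⟨inferInstance, hqx, residueFieldMap_bijective_of_hens X hV x hxV E q β hβ hqdef⟩,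
    le_encard_fibre_of_separating f x hV hxV E q hqx (Hens (X.presheaf.stalk x)) β hβ hqdef
      hflat n P e hP he⟩

open AlgebraicGeometry CategoryTheory Limits in
/-- For f : X ⟶ S and x ∈ X lying over s, the branch number of the fibre X_s at x equals the supremum,
over elementary étale neighbourhoods (U, u) of (X, x) (étale, u ↦ x, trivial residue field
extension), of how many irreducible components of U_s contain the point of U_s above u. -/
theorem result {X S : Scheme.{u}} (f : X ⟶ S) (x : X) :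
    Brnch.numBranchesAt (f.fiber (f x)) (f.asFiber x) = ⨆ (U : Scheme.{u}) (g : U ⟶ X) (u : U) (_ : Hens2.IsEtaleNbhd g u x),
      {Z : Set ↑((g ≫ f).fiber (f x)) | Z ∈ irreducibleComponents ↑((g ≫ f).fiber (f x)) ∧
        ∃ u' ∈ Z, (g ≫ f).fiberι (f x) u' = u}.encard := by
  apply le_antisymm
  · rw [← ENat.forall_natCast_le_iff_le]
    intro n hn
    obtain ⟨U, g, u, hg, hcard⟩ := exists_nbhd f x n hn
    refine hcard.trans ?_
    exact le_iSup_of_le U (le_iSup_of_le g (le_iSup_of_le u (le_iSup_of_le hg le_rfl)))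
  · refine iSup_le fun U => iSup_le fun g => iSup_le fun u => iSup_le fun hg => ?_
    obtain ⟨hg1, hg2, hg3⟩ := hg
    subst hg2
    have hcount := Groth.Agent.Lib.Helper7.FibBr.encard_fibre_components (g ≫ f) u (f (g u)) rfl
    rw [hcount]
    exact Groth.Agent.Lib.Helper7.FibBr.card_le_numBranchesAt_fibre g f u hg3

end Groth.Agent.S9755
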