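import Groth.Statements.S9756
import Groth.Agent.S1348
import Groth.Agent.Lib.Helper35.FiberStalk

set_option autoImplicit false
universe u
open FlatMor

namespace Groth.Agent.S9756

section Helpers
set_option linter.style.haveILetI false
set_option maxHeartbeats 400000
open AlgebraicGeometry CategoryTheory Limits IsLocalRing TensorProduct
open Groth.Agent.Lib.Helper35

theorem exists_nzd_of_one_le_depth {R : Type u} [CommRing R] [IsLocalRing R]
    (h : 1 ≤ LocCoh.depth R R) :
    ∃ r ∈ IsLocalRing.maximalIdeal R, r ∈ nonZeroDivisors R := by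
  classical
  unfold LocCoh.depth LocCoh.idealDepth at h
  have hne : (IsLocalRing.maximalIdeal R) • (⊤ : Submodule R R) ≠ ⊤ := by
    intro htop
    have h1 : (1 : R) ∈ (IsLocalRing.maximalIdeal R) • (⊤ : Submodule R R) := by
      rw [htop]; trivial
    have h2 : (IsLocalRing.maximalIdeal R) • (⊤ : Submodule R R) ≤ IsLocalRing.maximalIdeal R := by
      rw [Submodule.smul_le]
      intro r hr n _
      exact Ideal.mul_mem_right _ _ hr
    exact (IsLocalRing.maximalIdeal.isMaximal R).ne_top ((Ideal.eq_top_iff_one _).2 (h2 h1))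
  rw [if_neg hne] at h
  have h0 : (0 : ℕ∞) < ⨆ (rs : List R) (_ : RingTheory.Sequence.IsWeaklyRegular R rs ∧
      ∀ r ∈ rs, r ∈ IsLocalRing.maximalIdeal R), (rs.length : ℕ∞) :=
    lt_of_lt_of_le zero_lt_one h
  obtain ⟨rs, h1⟩ := lt_iSup_iff.1 h0
  obtain ⟨⟨hreg, hmem⟩, h2⟩ := lt_iSup_iff.1 h1
  cases rs with
  | nil => simp at h2
  | cons r rs' =>
    have h3 := ((RingTheory.Sequence.isWeaklyRegular_cons_iff R r rs').1 hreg).1
    refine ⟨r, hmem r (List.mem_cons_self ..), ?_⟩
    rw [mem_nonZeroDivisors_iff_right]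
    intro y hy
    apply h3
    show r • y = r • 0
    rw [smul_zero, smul_eq_mul, mul_comm]
    exact hy

/-- the statement at a point of the form `fiberι x'`. -/
theorem aux₁ {X S : Scheme.{u}} (f : X ⟶ S) [LocallyOfFinitePresentation f] (s : S)
    (x' : f.fiber s)
    (hflat : (f.stalkMap ((f.fiberι s) x')).hom.Flat)
    (hdepth : 1 ≤ LocCoh.depth ((f.fiber s).presheaf.stalk x') ((f.fiber s).presheaf.stalk x')) :
    ∃ (U : X.Opens) (hU : IsAffineOpen U) (hx : (f.fiberι s) x' ∈ U) (h' : Γ(X, U)),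
      h' ∈ nonZeroDivisors Γ(X, U) ∧
      X.presheaf.germ U ((f.fiberι s) x') hx h' ∈
        IsLocalRing.maximalIdeal ↑(X.presheaf.stalk ((f.fiberι s) x')) ∧
      Flat (Spec.map (CommRingCat.ofHom (Ideal.Quotient.mk (Ideal.span {h'}))) ≫ hU.fromSpec ≫ f) ∧
      LocallyOfFinitePresentation
        (Spec.map (CommRingCat.ofHom (Ideal.Quotient.mk (Ideal.span {h'}))) ≫ hU.fromSpec ≫ f) := by
  obtain ⟨r, hrm, hrnzd⟩ := exists_nzd_of_one_le_depth hdepth
  have hsurj := FiberStalk.stalkMap_fiberι_surjective f s x'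
  have hker := FiberStalk.ker_stalkMap_fiberι f s x'
  obtain ⟨h, hh⟩ := hsurj r
  have hhm : h ∈ IsLocalRing.maximalIdeal (X.presheaf.stalk ((f.fiberι s) x')) := by
    rw [IsLocalRing.mem_maximalIdeal, mem_nonunits_iff]
    intro hu
    have := hu.map ((f.fiberι s).stalkMap x').hom
    rw [hh] at this
    exact (IsLocalRing.mem_maximalIdeal _).1 hrm this
  have hreg : Ideal.Quotient.mk (Ideal.map (f.stalkMap ((f.fiberι s) x')).hom
      (IsLocalRing.maximalIdeal (S.presheaf.stalk (f ((f.fiberι s) x'))))) h ∈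
      nonZeroDivisors (X.presheaf.stalk ((f.fiberι s) x') ⧸
        Ideal.map (f.stalkMap ((f.fiberι s) x')).hom
          (IsLocalRing.maximalIdeal (S.presheaf.stalk (f ((f.fiberι s) x'))))) := by
    rw [mem_nonZeroDivisors_iff_right]
    intro y hy
    obtain ⟨y₀, rfl⟩ := Ideal.Quotient.mk_surjective y
    rw [← map_mul, Ideal.Quotient.eq_zero_iff_mem] at hy
    rw [Ideal.Quotient.eq_zero_iff_mem]
    have hy' : y₀ * h ∈ RingHom.ker ((f.fiberι s).stalkMap x').hom := by
      rw [hker]; exact hy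
    rw [RingHom.mem_ker, map_mul, hh] at hy'
    have h1 : ((f.fiberι s).stalkMap x').hom y₀ = 0 :=
      (mem_nonZeroDivisors_iff_right.1 hrnzd) _ hy'
    have h2 : y₀ ∈ RingHom.ker ((f.fiberι s).stalkMap x').hom := h1
    rw [hker] at h2
    exact h2
  obtain ⟨U, hU, hx, h', hgerm, hnzd, hfl, hlfp⟩ :=
    Groth.Agent.S1348.result f ((f.fiberι s) x') hflat h hhm hreg
  exact ⟨U, hU, hx, h', hnzd, hgerm ▸ hhm, hfl, hlfp⟩

theorem aux {X S : Scheme.{u}} (f : X ⟶ S) [LocallyOfFinitePresentation f] (x : X)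
    (hflat : (f.stalkMap x).hom.Flat)
    (hdepth : 1 ≤ LocCoh.depth ↑((f.fiber (f x)).presheaf.stalk (f.asFiber x)) ↑((f.fiber (f x)).presheaf.stalk (f.asFiber x))) :
    ∃ (U : X.Opens) (hU : IsAffineOpen U) (hx : x ∈ U) (h' : Γ(X, U)), h' ∈ nonZeroDivisors Γ(X, U) ∧
      X.presheaf.germ U x hx h' ∈ IsLocalRing.maximalIdeal ↑(X.presheaf.stalk x) ∧
      Flat (Spec.map (CommRingCat.ofHom (Ideal.Quotient.mk (Ideal.span {h'}))) ≫ hU.fromSpec ≫ f) ∧
      LocallyOfFinitePresentation (Spec.map (CommRingCat.ofHom (Ideal.Quotient.mk (Ideal.span {h'}))) ≫ hU.fromSpec ≫ f) := by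
  have e : (f.fiberι (f x)) (f.asFiber x) = x := f.fiberι_asFiber x
  have key : ∀ y : X, y = x → (f.stalkMap y).hom.Flat := by
    rintro y rfl
    exact hflat
  have h1 := aux₁ f (f x) (f.asFiber x) (key _ e) hdepth
  have tr : ∀ y : X, y = x →
      (∃ (U : X.Opens) (hU : IsAffineOpen U) (hx : y ∈ U) (h' : Γ(X, U)),
        h' ∈ nonZeroDivisors Γ(X, U) ∧
        X.presheaf.germ U y hx h' ∈ IsLocalRing.maximalIdeal ↑(X.presheaf.stalk y) ∧
        Flat (Spec.map (CommRingCat.ofHom (Ideal.Quotient.mk (Ideal.span {h'}))) ≫ hU.fromSpec ≫ f) ∧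
        LocallyOfFinitePresentation
          (Spec.map (CommRingCat.ofHom (Ideal.Quotient.mk (Ideal.span {h'}))) ≫ hU.fromSpec ≫ f)) →
      (∃ (U : X.Opens) (hU : IsAffineOpen U) (hx : x ∈ U) (h' : Γ(X, U)),
        h' ∈ nonZeroDivisors Γ(X, U) ∧
        X.presheaf.germ U x hx h' ∈ IsLocalRing.maximalIdeal ↑(X.presheaf.stalk x) ∧
        Flat (Spec.map (CommRingCat.ofHom (Ideal.Quotient.mk (Ideal.span {h'}))) ≫ hU.fromSpec ≫ f) ∧
        LocallyOfFinitePresentation
          (Spec.map (CommRingCat.ofHom (Ideal.Quotient.mk (Ideal.span {h'}))) ≫ hU.fromSpec ≫ f)) := by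
    rintro y rfl hy
    exact hy
  exact tr _ e h1

end Helpers

open AlgebraicGeometry CategoryTheory Limits in
/-- Let f : X ⟶ S be locally of finite presentation and flat at a point x, and assume the local ring of
the fibre X_{f x} at x has depth at least 1. Then there are an affine open U ∋ x and a
nonzerodivisor h' of Γ(X, U) vanishing at x such that the closed subscheme V(h') of U, an effective
Cartier divisor through x, is flat and locally of finite presentation over S. The published
statement concludes that V(h') ⟶ S is of finite presentation; this row concludes only that it is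
flat and locally of finite presentation, which is what the published argument (slicing by a lift of
a fibrewise nonzerodivisor) yields, and which is equivalent when S is quasi-separated, V(h') being
affine. -/
theorem result {X S : Scheme.{u}} (f : X ⟶ S) [LocallyOfFinitePresentation f] (x : X)
    (hflat : (f.stalkMap x).hom.Flat)
    (hdepth : 1 ≤ LocCoh.depth ↑((f.fiber (f x)).presheaf.stalk (f.asFiber x)) ↑((f.fiber (f x)).presheaf.stalk (f.asFiber x))) :
    ∃ (U : X.Opens) (hU : IsAffineOpen U) (hx : x ∈ U) (h' : Γ(X, U)), h' ∈ nonZeroDivisors Γ(X, U) ∧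
      X.presheaf.germ U x hx h' ∈ IsLocalRing.maximalIdeal ↑(X.presheaf.stalk x) ∧
      Flat (Spec.map (CommRingCat.ofHom (Ideal.Quotient.mk (Ideal.span {h'}))) ≫ hU.fromSpec ≫ f) ∧
      LocallyOfFinitePresentation (Spec.map (CommRingCat.ofHom (Ideal.Quotient.mk (Ideal.span {h'}))) ≫ hU.fromSpec ≫ f) := by
  exact aux f x hflat hdepth

end Groth.Agent.S9756
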