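import Groth.Statements.S9757
-- import your own Groth.Agent.* helpers here
import Mathlib
import Groth.Agent.Lib.Helper21.FlatFibreDim

set_option autoImplicit false
universe u
open FlatMor

namespace Groth.Agent.S9757

open CategoryTheory CategoryTheory.Limits AlgebraicGeometry TopologicalSpace
open Groth.Agent.Lib.Helper21 Groth.Agent.Lib.Helper21.FieldDim
open Groth.Agent.Lib.Helper21.FlatFibreDim

/-- the local fibre dimension of a flat lfp morphism is locally constant around a point which is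
maximal in its fibre. -/
theorem mem_interior_of_maximal {X S : Scheme.{u}} (f : X ⟶ S) [Flat f]
    [LocallyOfFinitePresentation f] (ζ : X) (hmax : ∀ z : X, z ⤳ ζ → f z = f ζ → z = ζ) :
    ζ ∈ interior {x : X | FlatMor.fibreDimAt f x = ((tdR f ζ : ℕ) : WithBot ℕ∞)} := by
  set d := tdR f ζ with hd
  have hle : FlatMor.fibreDimAt f ζ ≤ d := by
    rw [fibreDimAt_le_iff]
    intro ξ hξ hfξ
    rw [hmax ξ hξ hfξ]
  have hO := Groth.Agent.S0402.result f d
  obtain ⟨Ω, hζΩ, hΩ⟩ := exists_open_lift f ζ hmax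
  rw [mem_interior]
  refine ⟨(Ω : Set X) ∩ {z | FlatMor.fibreDimAt f z ≤ d}, ?_, Ω.isOpen.inter hO, ⟨hζΩ, hle⟩⟩
  rintro z ⟨hzΩ, hzO⟩
  obtain ⟨x'', hsp, hfx'', hdx''⟩ := hΩ z hzΩ
  apply le_antisymm hzO
  have h1 := (fibreDimAt_le_iff f z _).mp le_rfl x'' hsp hfx''
  refine le_trans ?_ h1
  exact_mod_cast hdx''

open AlgebraicGeometry CategoryTheory Limits in

open AlgebraicGeometry CategoryTheory Limits in
/-- Suppose the morphism f : X ⟶ S is flat and locally of finite presentation. Then X contains open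
subsets U_d, indexed by d ∈ ℕ, such that for every s ∈ S the union of all U_d intersects the fibre
X_s in a dense subset of X_s, and each U_d ⟶ S is of relative dimension d. Because U_d is open in X,
this is the same as requiring that at every point x of U_d the fibre of f containing x has local
dimension d at x; that pointwise form is the one this row uses. -/
theorem result {X S : Scheme.{u}} (f : X ⟶ S) [Flat f] [LocallyOfFinitePresentation f] :
    ∃ U : ℕ → X.Opens, (∀ s : S, Dense ((f.fiberι s) ⁻¹' ((⨆ d, U d : X.Opens) : Set ↑X))) ∧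
      ∀ (d : ℕ) (x : ↑X), x ∈ U d → FlatMor.fibreDimAt f x = d := by
  refine ⟨fun d => ⟨interior {x : X | FlatMor.fibreDimAt f x = (d : WithBot ℕ∞)}, isOpen_interior⟩,
    ?_, ?_⟩
  swap
  · intro d x hx
    have hx' : x ∈ interior {x : X | FlatMor.fibreDimAt f x = (d : WithBot ℕ∞)} := hx
    have h2 : x ∈ {x : X | FlatMor.fibreDimAt f x = (d : WithBot ℕ∞)} := interior_subset hx'
    exact h2
  intro s
  rw [dense_iff_inter_open]
  rintro W' hW' ⟨w, hw⟩
  obtain ⟨W, hW, rfl⟩ := (f.fiberι s).isEmbedding.isInducing.isOpen_iff.mp hW'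
  set z := f.fiberι s w with hz
  have hfz : f z = s := by
    have : z ∈ Set.range (f.fiberι s) := ⟨w, rfl⟩
    rwa [Scheme.Hom.range_fiberι] at this
  obtain ⟨ζ, hζz, hfζ, hmax⟩ := exists_maximal_in_fibre f z
  have hζW : ζ ∈ W := hζz.mem_open hW hw
  have hζrange : ζ ∈ Set.range (f.fiberι s) := by
    rw [Scheme.Hom.range_fiberι]
    exact hfζ.trans hfz
  obtain ⟨ζ', rfl⟩ := hζrange
  refine ⟨ζ', hζW, ?_⟩
  change f.fiberι s ζ' ∈ ((⨆ d, _ : X.Opens) : Set X)
  rw [SetLike.mem_coe, Opens.mem_iSup]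
  exact ⟨tdR f (f.fiberι s ζ'), mem_interior_of_maximal f _ hmax⟩

end Groth.Agent.S9757
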