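import Groth.Statements.S9759
import Groth.Agent.Lib.Helper54.FlatPkg3
import Mathlib.AlgebraicGeometry.Pullbacks
import Mathlib.AlgebraicGeometry.Morphisms.Flat

set_option autoImplicit false
universe u
open FlatMor

namespace Groth.Agent.S9759

open AlgebraicGeometry CategoryTheory Limits TensorProduct in
attribute [local instance] Algebra.TensorProduct.rightAlgebra in
/-- Ring-level Noetherian approximation with flatness: a flat finitely presented algebra `R → T`
is a pushout of a flat finite type algebra `R₀ → T₀` with `R₀` of finite type over `ℤ`. -/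
theorem ring_approx (R T : Type u) [CommRing R] [CommRing T] [Algebra R T]
    [Algebra.FinitePresentation R T] [Module.Flat R T] :
    ∃ (R₀ T₀ : Type u) (_ : CommRing R₀) (_ : CommRing T₀) (_ : Algebra R₀ T₀)
      (a : R₀ →+* R) (b : T₀ →+* T),
      Algebra.FiniteType ℤ R₀ ∧ Algebra.FiniteType R₀ T₀ ∧ Module.Flat R₀ T₀ ∧
      IsPushout (CommRingCat.ofHom a) (CommRingCat.ofHom (algebraMap R₀ T₀))
        (CommRingCat.ofHom (algebraMap R T)) (CommRingCat.ofHom b) := by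
  classical
  obtain ⟨R₀, i1, i2, S₀, i3, i4, M₀, i5, i6, i7, i8, θ, Θ, hft, -, hfp, hfin, hθ, hΘ⟩ :=
    Groth.Agent.Lib.Helper54.FlatPkg.exists_descent R T T ∅ Set.finite_empty
  haveI : IsNoetherianRing R₀ := Algebra.FiniteType.isNoetherianRing ℤ R₀
  haveI : Algebra.FiniteType R₀ S₀ := inferInstance
  have hflat : Module.Flat R ((S₀ ⊗[R₀] R) ⊗[S₀] S₀) := by
    have h1 : Module.Flat R (S₀ ⊗[R₀] R) := by
      let e : S₀ ⊗[R₀] R ≃ₐ[R] T := AlgEquiv.ofRingEquiv (f := θ) hθ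
      exact Module.Flat.of_linearEquiv e.toLinearEquiv
    exact Module.Flat.of_linearEquiv
      ((TensorProduct.AlgebraTensorModule.rid S₀ (S₀ ⊗[R₀] R) (S₀ ⊗[R₀] R)).restrictScalars R)
  obtain ⟨T', hTfg, hT⟩ := Groth.Agent.Lib.Helper54.FlatStage7.exists_fg_flat R₀ S₀ S₀ R hflat
  have hTflat := hT T' le_rfl
  haveI : Algebra.FiniteType R₀ T' := (Subalgebra.fg_iff_finiteType T').1 hTfg
  have hTfin : Algebra.FiniteType ℤ T' := Algebra.FiniteType.trans hft inferInstance
  obtain ⟨b, hb⟩ := Groth.Agent.Lib.Helper54.FlatPkg3.package_alg R₀ S₀ θ hθ T'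
  refine ⟨T', S₀ ⊗[R₀] T', inferInstance, inferInstance, inferInstance, algebraMap T' R, b,
    hTfin, Groth.Agent.Lib.Helper54.FlatOpenB.finiteType_right R₀ S₀ T',
    Groth.Agent.Lib.Helper54.FlatPkg3.flat_stage_self R₀ S₀ T' hTflat, hb⟩

open AlgebraicGeometry CategoryTheory Limits in
/-- Let f : X ⟶ S be a flat morphism of finite presentation between affine schemes. Then f is the base
change of a morphism of finite type f₀ : X₀ ⟶ S₀ between affine schemes with S₀ of finite type over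
ℤ and f₀ flat. -/
theorem result {X S : Scheme.{u}} (f : X ⟶ S) [IsAffine X] [IsAffine S] [LocallyOfFinitePresentation f] [Flat f] :
    ∃ (X₀ S₀ : Scheme.{u}) (f₀ : X₀ ⟶ S₀) (g : S ⟶ S₀) (g' : X ⟶ X₀), IsAffine X₀ ∧ IsAffine S₀ ∧ IsPullback g' f f₀ g ∧
      Algebra.FiniteType ℤ Γ(S₀, ⊤) ∧ LocallyOfFiniteType f₀ ∧ Flat f₀ := by
  have hfp : RingHom.FinitePresentation f.appTop.hom :=
    (HasRingHomProperty.iff_of_isAffine (P := @LocallyOfFinitePresentation)).mp ‹_›
  have hfl : RingHom.Flat f.appTop.hom :=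
    (HasRingHomProperty.iff_of_isAffine (P := @Flat)).mp ‹_›
  let _ := f.appTop.hom.toAlgebra
  have : Algebra.FinitePresentation Γ(S, ⊤) Γ(X, ⊤) := hfp
  have : Module.Flat Γ(S, ⊤) Γ(X, ⊤) := hfl
  obtain ⟨R₀, T₀, _, _, _, a, b, h1, h2, h3, hpo⟩ := ring_approx Γ(S, ⊤) Γ(X, ⊤)
  have hpb := isPullback_SpecMap_of_isPushout _ _ _ _ hpo
  have hφ : CommRingCat.ofHom (algebraMap Γ(S, ⊤) Γ(X, ⊤)) = f.appTop := rfl
  rw [hφ] at hpb
  refine ⟨Spec (.of T₀), Spec (.of R₀), Spec.map (CommRingCat.ofHom (algebraMap R₀ T₀)),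
    S.isoSpec.hom ≫ Spec.map (CommRingCat.ofHom a), X.isoSpec.hom ≫ Spec.map (CommRingCat.ofHom b),
    inferInstance, inferInstance, ?_, ?_, ?_, ?_⟩
  · refine hpb.flip.of_iso X.isoSpec.symm (Iso.refl _) S.isoSpec.symm (Iso.refl _) ?_ ?_ ?_ ?_
    · simp
    · exact Scheme.isoSpec_inv_naturality f
    · simp
    · simp
  · exact Algebra.FiniteType.equiv h1
      (Scheme.ΓSpecIso (.of R₀)).commRingCatIsoToRingEquiv.symm.toIntAlgEquiv
  · rw [HasRingHomProperty.Spec_iff (P := @LocallyOfFiniteType)]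
    exact RingHom.finiteType_algebraMap.mpr h2
  · rw [HasRingHomProperty.Spec_iff (P := @Flat)]
    exact (RingHom.flat_algebraMap_iff).mpr h3

end Groth.Agent.S9759
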