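import Groth.Statements.S9762
import Groth.Agent.Lib.Helper35.QFSplit5

set_option autoImplicit false
universe u
open FlatMor

namespace Groth.Agent.S9762

section Helpers

open Groth.Agent.Lib.Helper35.QFSplit
open AlgebraicGeometry CategoryTheory Limits

lemma quasiFiniteAt_of_isOpen_singleton {X S : Scheme.{u}} (f : X ⟶ S) [LocallyOfFiniteType f]
    (x : X) (s : S) (h : f x = s) (z : ↑(f.fiber s)) (hzx : f.fiberι s z = x)
    (hz : IsOpen ({z} : Set ↑(f.fiber s))) : f.QuasiFiniteAt x := by
  subst h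
  rw [Scheme.Hom.quasiFiniteAt_iff_isOpen_singleton_asFiber]
  have h1 : z = f.asFiber x := by
    apply (f.fiberι (f x)).isEmbedding.injective
    rw [hzx, Scheme.Hom.fiberι_asFiber]
  rw [← h1]
  exact hz

theorem aux {X S : Scheme.{u}} (f : X ⟶ S) [LocallyOfFiniteType f] [IsSeparated f] (s : S)
    (hfin : {x : ↑(f.fiber s) | IsOpen ({x} : Set ↑(f.fiber s))}.Finite) :
    ∃ (U : Scheme.{u}) (g : U ⟶ S) (u : U), Hens2.IsEtaleNbhd g u s ∧
      ∃ V : (pullback f g).Opens, IsClopen (V : Set ↑(pullback f g)) ∧ IsFinite (V.ι ≫ pullback.snd f g) ∧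
        ∀ w : ↑((pullback.snd f g).fiber u), (pullback.snd f g).fiberι u w ∉ V →
          ¬ IsOpen ({w} : Set ↑((pullback.snd f g).fiber u)) := by
  classical
  have : Finite {x : ↑(f.fiber s) | IsOpen ({x} : Set ↑(f.fiber s))} := hfin
  let n₀ := Nat.card {x : ↑(f.fiber s) | IsOpen ({x} : Set ↑(f.fiber s))}
  let e₀ : {x : ↑(f.fiber s) | IsOpen ({x} : Set ↑(f.fiber s))} ≃ Fin n₀ := Finite.equivFin _
  let z : Fin n₀ → ↑(f.fiber s) := fun i => (e₀.symm i).1
  have hz : ∀ i, IsOpen ({z i} : Set ↑(f.fiber s)) := fun i => (e₀.symm i).2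
  have hsurj : ∀ z' : ↑(f.fiber s), IsOpen ({z'} : Set ↑(f.fiber s)) → ∃ i, z i = z' :=
    fun z' hz' => ⟨e₀ ⟨z', hz'⟩, by simp [z]⟩
  let x : Fin n₀ → X := fun i => f.fiberι s (z i)
  have hs : ∀ i, f (x i) = s := fun i => (f.fiberHomeo s (z i)).2
  have hx : ∀ i, f.QuasiFiniteAt (x i) := fun i =>
    quasiFiniteAt_of_isOpen_singleton f (x i) s (hs i) (z i) rfl (hz i)
  obtain ⟨U, g, u, hg, hgu, hres, V, hVcl, hVfin, hV1, hV2⟩ :=
    exists_clopen_finite f s x hs hx
  refine ⟨U, g, u, ⟨hg, hgu, hres⟩, V, ⟨hVcl, V.2⟩, hVfin, ?_⟩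
  intro w hwV hwopen
  subst hgu
  have hpb := isPullback_fiberToSpecResidueField_of_isPullback (IsPullback.of_hasPullback f g) u
  haveI : IsIso (g.residueFieldMap u) := (ConcreteCategory.isIso_iff_bijective _).mpr hres
  haveI : IsIso (Spec.map (g.residueFieldMap u)) := inferInstance
  set φ := pullback.map (pullback.snd f g) (U.fromSpecResidueField u) f
    (S.fromSpecResidueField (g u)) (pullback.fst f g) (Spec.map (g.residueFieldMap u)) g
    (IsPullback.of_hasPullback f g).w.symm (by simp) with hφ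
  haveI : IsIso φ := hpb.isIso_fst_of_isIso
  have hφι : φ ≫ f.fiberι (g u) = (pullback.snd f g).fiberι u ≫ pullback.fst f g := by
    exact pullback.lift_fst _ _ _
  have h1 : IsOpen ({φ w} : Set ↑(f.fiber (g u))) := by
    have h3 := φ.homeomorph.isOpenMap _ hwopen
    have h2 : (φ.homeomorph '' ({w} : Set _)) = {φ w} := Set.image_singleton
    exact h2 ▸ h3
  obtain ⟨i, hi⟩ := hsurj _ h1
  apply hwV
  refine hV1 i _ ?_ ?_
  · exact ((pullback.snd f g).fiberHomeo u w).2
  · show pullback.fst f g ((pullback.snd f g).fiberι u w) = f.fiberι (g u) (z i)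
    rw [hi, ← Scheme.Hom.comp_apply, ← hφι]
    rfl

end Helpers

open AlgebraicGeometry CategoryTheory Limits in
/-- For f : X ⟶ S separated and locally of finite type, and a point s of S such that only finitely many
points of the fibre over s are isolated, some elementary étale neighbourhood (U, u) of (S, s) admits
an open and closed V ⊆ U ×_S X, finite over U, such that no point of the fibre over u lying outside
V is isolated in that fibre. The published statement also asserts that the complement of V has empty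
fibre over u when the fibre over s is finite; this row omits that clause. -/
theorem result {X S : Scheme.{u}} (f : X ⟶ S) [LocallyOfFiniteType f] [IsSeparated f] (s : S)
    (hfin : {x : ↑(f.fiber s) | IsOpen ({x} : Set ↑(f.fiber s))}.Finite) :
    ∃ (U : Scheme.{u}) (g : U ⟶ S) (u : U), Hens2.IsEtaleNbhd g u s ∧
      ∃ V : (pullback f g).Opens, IsClopen (V : Set ↑(pullback f g)) ∧ IsFinite (V.ι ≫ pullback.snd f g) ∧
        ∀ w : ↑((pullback.snd f g).fiber u), (pullback.snd f g).fiberι u w ∉ V →
          ¬ IsOpen ({w} : Set ↑((pullback.snd f g).fiber u)) := by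
  exact aux f s hfin

end Groth.Agent.S9762
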