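import Groth.Statements.S9781
import Groth.Agent.Lib.Helper7.BrSch

set_option autoImplicit false
universe u
open Brnch

namespace Groth.Agent.S9781

open AlgebraicGeometry CategoryTheory Limits in
/-- The local ring of X at x is unibranch exactly when, for each étale morphism g : U ⟶ X and point u
over x with trivial residue field extension (an elementary étale neighbourhood), the point u lies on
a single irreducible component of U. -/
theorem result (X : Scheme.{u}) (x : X) :
    CAlg2.IsUnibranch ↑(X.presheaf.stalk x) ↔ ∀ (U : Scheme.{u}) (g : U ⟶ X) (u : U), Hens2.IsEtaleNbhd g u x →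
      {Z : Set ↑U | Z ∈ irreducibleComponents ↑U ∧ u ∈ Z}.encard = 1 := by
  open Groth.Agent.Lib.Helper7 in
  constructor
  · intro hA U g u hg
    obtain ⟨hget, hgu, hbij⟩ := hg
    have hgu' : g u = x := hgu
    subst hgu'
    haveI := hget
    exact BrTop.encard_eq_one_of_isPrime_nilradical U u
      (BrSch.isPrime_nilradical_stalk_of_isUnibranch g u hbij.2 hA)
  · intro H
    obtain ⟨_, ⟨W, hW, rfl⟩, hxW, -⟩ := (X.isBasis_affineOpens).exists_subset_of_mem_open
      (Set.mem_univ x) isOpen_univ
    exact BrSch.isUnibranch_stalk_of_elementary hW x hxW (fun R' _ _ _ P _ hP hres =>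
      H _ (BrSch.nbhdMap hW R') (BrSch.nbhdPt R' P)
        ⟨BrSch.etale_nbhdMap hW R', BrSch.nbhdMap_pt hW x hxW R' P hP,
          BrSch.residue_bijective hW x hxW R' P hP hres⟩)

end Groth.Agent.S9781
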