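import Groth.Statements.S9782
import Groth.Agent.Lib.Helper7.BrSch

set_option autoImplicit false
universe u
open Brnch

namespace Groth.Agent.S9782

open AlgebraicGeometry CategoryTheory Limits in
/-- The local ring of X at x is geometrically unibranch exactly when, for each étale morphism g : U ⟶ X
and each point u over x, the point u lies on a single irreducible component of U. -/
theorem result (X : Scheme.{u}) (x : X) :
    CAlg2.IsGeomUnibranch ↑(X.presheaf.stalk x) ↔ ∀ (U : Scheme.{u}) (g : U ⟶ X) (u : U), Etale g → g u = x →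
      {Z : Set ↑U | Z ∈ irreducibleComponents ↑U ∧ u ∈ Z}.encard = 1 := by
  open Groth.Agent.Lib.Helper7 in
  constructor
  · intro hA U g u hg hgu
    subst hgu
    haveI := hg
    exact BrTop.encard_eq_one_of_isPrime_nilradical U u
      (BrSch.isPrime_nilradical_stalk_of_isGeomUnibranch g u hA)
  · intro H
    obtain ⟨_, ⟨W, hW, rfl⟩, hxW, -⟩ := (X.isBasis_affineOpens).exists_subset_of_mem_open
      (Set.mem_univ x) isOpen_univ
    exact BrSch.isGeomUnibranch_stalk_of_all hW x hxW (fun R' _ _ _ P _ hP =>
      H _ (BrSch.nbhdMap hW R') (BrSch.nbhdPt R' P) (BrSch.etale_nbhdMap hW R')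
        (BrSch.nbhdMap_pt hW x hxW R' P hP))

end Groth.Agent.S9782
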