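import Groth.Statements.S9791
import Groth.Agent.S9690
import Groth.Agent.Lib.Helper69.SmoothNormalSch
import Groth.Agent.Lib.Helper7.NormField

set_option autoImplicit false
universe u
open CategoryTheory CategoryTheory.Limits AlgebraicGeometry
open FlatMor

namespace Groth.Agent.S9791

open Groth.Agent.Lib.Helper7 Groth.Agent.Lib.Helper69.SmoothNormalSch

set_option linter.style.haveILetI false

section Helpers

/-- a point whose closure is an irreducible component has no proper generizations -/
theorem eq_of_specializes_of_mem_irreducibleComponents {T : Type*} [TopologicalSpace T]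
    [T0Space T] {ξ ξ₀ : T} (hξ : closure {ξ} ∈ irreducibleComponents T) (h : ξ₀ ⤳ ξ) :
    ξ₀ = ξ := by
  have h1 : closure {ξ} ⊆ closure {ξ₀} := specializes_iff_closure_subset.mp h
  have h2 : closure {ξ₀} ⊆ closure {ξ} := hξ.2 isIrreducible_singleton.closure h1
  exact (h.antisymm (specializes_iff_closure_subset.mpr h2)).eq

/-- a generalizing map sends generic points of components to the generic point -/
theorem map_eq_genericPoint_of_generalizing {P Z : Scheme.{u}} [IrreducibleSpace Z] (g : P ⟶ Z)
    (hg : GeneralizingMap g) {ξ : P} (hξ : closure {ξ} ∈ irreducibleComponents P) :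
    g ξ = genericPoint Z := by
  have h0 : genericPoint Z ⤳ g ξ := genericPoint_specializes _
  obtain ⟨ξ', h1, h2⟩ := hg h0
  rw [← h2, eq_of_specializes_of_mem_irreducibleComponents hξ h1]

theorem closure_genericPoint_mem {Z : Scheme.{u}} [IrreducibleSpace Z] :
    closure {genericPoint Z} ∈ irreducibleComponents Z := by
  rw [(genericPoint_spec Z).def, irreducibleComponents_eq_singleton]
  rfl

theorem eq_genericPoint_of_mem {Z : Scheme.{u}} [IrreducibleSpace Z] {z : Z}
    (hz : closure {z} ∈ irreducibleComponents Z) : z = genericPoint Z :=
  eq_of_specializes_of_mem_irreducibleComponents hz (genericPoint_specializes z) |>.symm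

end Helpers

section Main

variable {X Y : Scheme.{u}} (f : X ⟶ Y) [Smooth f] [IsIntegral X] [IsIntegral Y]

theorem map_genericPoint : f (genericPoint X) = genericPoint Y :=
  map_eq_genericPoint_of_generalizing f (Flat.generalizingMap f) closure_genericPoint_mem

variable [QuasiCompact (Y.fromSpecStalk (genericPoint Y))]
  [QuasiSeparated (Y.fromSpecStalk (genericPoint Y))]

theorem fst_eq_genericPoint
    (ξ : ↑(pullback f (Y.fromSpecStalk (genericPoint Y)).fromNormalization))
    (hξ : closure {ξ} ∈ irreducibleComponents
      ↑(pullback f (Y.fromSpecStalk (genericPoint Y)).fromNormalization)) :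
    (pullback.fst f (Y.fromSpecStalk (genericPoint Y)).fromNormalization) ξ = genericPoint X := by
  set jY := Y.fromSpecStalk (genericPoint Y) with hjY
  have hW : IsField (Y.presheaf.stalk (genericPoint Y)) := Field.toIsField Y.functionField
  haveI : IsDomain (Y.presheaf.stalk (genericPoint Y)) :=
    inferInstanceAs (IsDomain Y.functionField)
  haveI : IsIntegral jY.normalization := inferInstance
  let pt : Spec (Y.presheaf.stalk (genericPoint Y)) := IsLocalRing.closedPoint _
  have hpt : jY.toNormalization pt = genericPoint jY.normalization :=
    NormField.toNormalization_eq_genericPoint jY hW pt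
  have h2 : (pullback.snd f jY.fromNormalization) ξ = jY.toNormalization pt := by
    rw [hpt]
    exact map_eq_genericPoint_of_generalizing _ (Flat.generalizingMap _) hξ
  obtain ⟨z, hz1, hz2⟩ := Scheme.Pullback.exists_preimage_pullback ξ pt h2
  let iso := pullbackLeftPullbackSndIso f jY.fromNormalization jY.toNormalization
  haveI : IsPreimmersion (jY.toNormalization ≫ jY.fromNormalization) := by
    rw [jY.toNormalization_fromNormalization]; infer_instance
  have hgen : f (genericPoint X) = (jY.toNormalization ≫ jY.fromNormalization) pt := by
    rw [jY.toNormalization_fromNormalization, map_genericPoint f]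
    exact (Scheme.fromSpecStalk_closedPoint).symm
  obtain ⟨w₀, hw1, hw2⟩ := Scheme.Pullback.exists_preimage_pullback (genericPoint X) pt hgen
  have hsp : w₀ ⤳ iso.hom z := by
    rw [← (pullback.fst f (jY.toNormalization ≫ jY.fromNormalization)).isEmbedding.isInducing.specializes_iff]
    rw [hw1]; exact genericPoint_specializes _
  have hsp2 : iso.inv w₀ ⤳ z := by
    have := hsp.map iso.inv.continuous
    have e : iso.inv (iso.hom z) = z := by
      rw [← Scheme.Hom.comp_apply, iso.hom_inv_id]; rfl
    rwa [e] at this
  have hsp3 : (pullback.fst (pullback.snd f jY.fromNormalization) jY.toNormalization) (iso.inv w₀) ⤳ ξ := by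
    rw [← hz1]
    exact hsp2.map (pullback.fst (pullback.snd f jY.fromNormalization) jY.toNormalization).continuous
  have heq := eq_of_specializes_of_mem_irreducibleComponents hξ hsp3
  rw [← heq, ← Scheme.Hom.comp_apply, ← Scheme.Hom.comp_apply]
  have := congr($(pullbackLeftPullbackSndIso_inv_fst f jY.fromNormalization jY.toNormalization) w₀)
  exact this.trans hw1

end Main

section Main2

variable (X : Scheme.{u}) [IsIntegral X]
  [QuasiCompact (X.fromSpecStalk (genericPoint X))]
  [QuasiSeparated (X.fromSpecStalk (genericPoint X))]

theorem isNormalScheme_normalization : Pi1.IsNormalScheme (Curv2.normalization X) :=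
  NormField.isNormalScheme_normalization (Field.toIsField X.functionField)
    (X.fromSpecStalk (genericPoint X))

theorem isIntegral_normalization : IsIntegral (Curv2.normalization X) := by
  haveI : IsDomain (X.presheaf.stalk (genericPoint X)) :=
    inferInstanceAs (IsDomain X.functionField)
  exact inferInstanceAs (IsIntegral (X.fromSpecStalk (genericPoint X)).normalization)

theorem normalizationι_eq_genericPoint (z : Curv2.normalization X)
    (hz : closure {z} ∈ irreducibleComponents (Curv2.normalization X)) :
    Curv2.normalizationι X z = genericPoint X := by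
  haveI := isIntegral_normalization X
  rw [eq_genericPoint_of_mem hz]
  exact NormFactor.fromNormalization_genericPoint' X

end Main2

/-- In the case of integral schemes: let f : X ⟶ Y be a smooth morphism with X and Y integral, and let
X^ν ⟶ X and Y^ν ⟶ Y be the normalizations (in the function fields). Then X^ν is isomorphic over X to
the fibre product X ×_Y Y^ν, and such an isomorphism is unique. (The published statement requires
only that each quasi-compact open subset of Y meet finitely many irreducible components of Y, and
also derives this for X; this row assumes X and Y integral, the case in which the normalization used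
here is defined. The quasi-compactness and quasi-separatedness binders on Spec K(X) → X and Spec
K(Y) → Y always hold and are needed only to form the normalization.) -/
theorem result {X Y : Scheme.{u}} (f : X ⟶ Y) [Smooth f] [IsIntegral X] [IsIntegral Y]
    [QuasiCompact (X.fromSpecStalk (genericPoint X))] [QuasiSeparated (X.fromSpecStalk (genericPoint X))]
    [QuasiCompact (Y.fromSpecStalk (genericPoint Y))] [QuasiSeparated (Y.fromSpecStalk (genericPoint Y))] :
    ∃! e : Curv2.normalization X ≅ pullback f (Curv2.normalizationι Y),
      e.hom ≫ pullback.fst f (Curv2.normalizationι Y) = Curv2.normalizationι X := by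
  haveI hXint := isIntegral_normalization X
  haveI hYint := isIntegral_normalization Y
  have hXn := isNormalScheme_normalization X
  have hYn := isNormalScheme_normalization Y
  have hPn : Pi1.IsNormalScheme (pullback f (Curv2.normalizationι Y)) :=
    isNormalScheme_of_smooth (pullback.snd f (Curv2.normalizationι Y)) hYn
  have hdomP : ∀ ξ : ↑(pullback f (Curv2.normalizationι Y)),
      closure {ξ} ∈ irreducibleComponents ↑(pullback f (Curv2.normalizationι Y)) →
      (pullback.fst f (Curv2.normalizationι Y)) ξ = genericPoint X :=
    fun ξ hξ => fst_eq_genericPoint f ξ hξ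
  -- β : P ⟶ X^ν
  have hβ := Groth.Agent.S9690.result X (pullback.fst f (Curv2.normalizationι Y)) hPn hdomP
  obtain ⟨β, hβ1, hβ2⟩ := hβ
  -- h : X^ν ⟶ Y^ν
  have hh := Groth.Agent.S9690.result Y (Curv2.normalizationι X ≫ f) hXn (by
    intro z hz
    rw [Scheme.Hom.comp_apply, normalizationι_eq_genericPoint X z hz, map_genericPoint f])
  obtain ⟨h, hh1, hh2⟩ := hh
  let α : Curv2.normalization X ⟶ pullback f (Curv2.normalizationι Y) :=
    pullback.lift (Curv2.normalizationι X) h hh1.symm
  have hα1 : α ≫ pullback.fst f (Curv2.normalizationι Y) = Curv2.normalizationι X :=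
    pullback.lift_fst _ _ _
  have hα2 : α ≫ pullback.snd f (Curv2.normalizationι Y) = h := pullback.lift_snd _ _ _
  -- uniqueness for maps P ⟶ Y^ν
  have hPY := Groth.Agent.S9690.result Y (pullback.fst f (Curv2.normalizationι Y) ≫ f) hPn (by
    intro ξ hξ
    rw [Scheme.Hom.comp_apply, hdomP ξ hξ, map_genericPoint f])
  have hβh : β ≫ h = pullback.snd f (Curv2.normalizationι Y) := by
    apply hPY.unique
    · rw [Category.assoc, hh1, ← Category.assoc, hβ1]
    · exact pullback.condition.symm
  have hβα : β ≫ α = 𝟙 _ := by
    apply pullback.hom_ext
    · rw [Category.assoc, hα1, hβ1, Category.id_comp]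
    · rw [Category.assoc, hα2, hβh, Category.id_comp]
  have hXX := Groth.Agent.S9690.result X (Curv2.normalizationι X) hXn
    (fun z hz => normalizationι_eq_genericPoint X z hz)
  have hαβ : α ≫ β = 𝟙 _ := by
    apply hXX.unique
    · rw [Category.assoc, hβ1, hα1]
    · rw [Category.id_comp]
  refine ⟨⟨α, β, hαβ, hβα⟩, hα1, ?_⟩
  intro e' he'
  have h1 : e'.inv = β := by
    apply hβ2
    rw [← he', Iso.inv_hom_id_assoc]
  apply Iso.ext
  change e'.hom = α
  calc e'.hom = e'.hom ≫ (β ≫ α) := by rw [hβα, Category.comp_id]
    _ = α := by rw [← h1, Iso.hom_inv_id_assoc]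

end Groth.Agent.S9791
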