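import Groth.Statements.S9792
import Mathlib.RingTheory.Ideal.KrullsHeightTheorem
import Mathlib.Order.OrderIsoNat
import Mathlib.Topology.NoetherianSpace

set_option autoImplicit false
universe u
open CategoryTheory AlgebraicGeometry TopologicalSpace
open Props

namespace Groth.Agent.S9792

section aux

open TopologicalSpace in
/-- no infinite strict chain of specializations in a Noetherian T0 space -/
lemma no_spec_chain {X : Type*} [TopologicalSpace X] [NoetherianSpace X] [T0Space X]
    (a : ℕ → X) (ha : ∀ n, a (n + 1) ≠ a n) (h : ∀ n, a n ⤳ a (n + 1)) : False := by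
  have hwf : WellFoundedLT (Closeds X) := by
    have := (noetherianSpace_TFAE X).out 0 1
    exact this.1 ‹_›
  let c : ℕ → Closeds X := fun n => ⟨closure {a n}, isClosed_closure⟩
  obtain ⟨n, hn⟩ := WellFounded.not_rel_apply_succ (r := ((· < ·) : Closeds X → Closeds X → Prop)) c
  apply hn
  have hle : c (n + 1) ≤ c n := by
    change closure {a (n + 1)} ⊆ closure {a n}
    exact specializes_iff_closure_subset.1 (h n)
  refine lt_of_le_of_ne hle ?_
  intro heq
  have : closure {a n} ⊆ closure {a (n + 1)} := by
    have := congrArg (fun z : Closeds X => (z : Set X)) heq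
    exact this.symm.subset
  have h' : a (n + 1) ⤳ a n := specializes_iff_closure_subset.2 this
  exact ha n ((h'.antisymm (h n)).eq)

/-- no infinite strict chain of generalizations in a locally Noetherian scheme -/
lemma no_gen_chain (S : Scheme.{u}) [IsLocallyNoetherian S]
    (a : ℕ → S) (ha : ∀ n, a (n + 1) ≠ a n) (h : ∀ n, a (n + 1) ⤳ a n) : False := by
  have hspec : ∀ n, a n ⤳ a 0 := by
    intro n
    induction n with
    | zero => exact specializes_rfl
    | succ n ih => exact (h n).trans ih
  obtain ⟨_, ⟨U, hU, rfl⟩, hxU, -⟩ :=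
    S.isBasis_affineOpens.exists_subset_of_mem_open (Set.mem_univ (a 0)) isOpen_univ
  have hmem : ∀ n, a n ∈ U := fun n => (hspec n).mem_open U.isOpen hxU
  have hU' : IsAffineOpen U := hU
  have : IsNoetherianRing Γ(S, U) := IsLocallyNoetherian.component_noetherian ⟨U, hU'⟩
  have hq : ∀ n, ∃ q : PrimeSpectrum Γ(S, U), hU'.fromSpec q = a n := by
    intro n
    have : a n ∈ Set.range hU'.fromSpec := by rw [hU'.range_fromSpec]; exact hmem n
    exact this
  choose q hq using hq
  have hind : Topology.IsInducing hU'.fromSpec := hU'.fromSpec.isOpenEmbedding.isInducing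
  have hlt : ∀ n, q (n + 1) < q n := by
    intro n
    have h1 : q (n + 1) ⤳ q n :=
      (hind.specializes_iff (x := q (n + 1)) (y := q n)).1 (by rw [hq, hq]; exact h n)
    refine lt_of_le_of_ne ((PrimeSpectrum.le_iff_specializes _ _).2 h1) ?_
    intro heq
    apply ha n
    rw [← hq, ← hq, heq]
  obtain ⟨n, hn⟩ := WellFounded.not_rel_apply_succ (r := ((· < ·) : ℕ∞ → ℕ∞ → Prop))
    (fun n => (q n).asIdeal.height)
  apply hn
  exact Ideal.height_strict_mono_of_isPrime_of_isPrime
    ((PrimeSpectrum.asIdeal_lt_asIdeal _ _).2 (hlt n))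

end aux

/-- In a Noetherian scheme, every infinite set of points contains an infinite subset no two distinct
members of which are related by specialization. -/
theorem result (S : Scheme.{u}) [IsNoetherian S]
    (T : Set S) (hT : T.Infinite) :
    ∃ T' : Set S, T' ⊆ T ∧ T'.Infinite ∧ ∀ a ∈ T', ∀ b ∈ T', a ⤳ b → a = b := by
  let e := hT.natEmbedding T
  let f : ℕ → S := fun n => (e n : S)
  have hf_inj : Function.Injective f := fun m n hmn => e.injective (Subtype.ext hmn)
  have hf_mem : ∀ n, f n ∈ T := fun n => (e n).2
  obtain ⟨g, h1 | h1⟩ := exists_increasing_or_nonincreasing_subseq' (fun a b : S => a ⤳ b) f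
  · exfalso
    refine no_spec_chain (fun n => f (g n)) ?_ h1
    intro n heq
    have := g.injective (hf_inj heq)
    omega
  · obtain ⟨g', h2 | h2⟩ :=
      exists_increasing_or_nonincreasing_subseq' (fun a b : S => b ⤳ a) (fun n => f (g n))
    · exfalso
      refine no_gen_chain S (fun n => f (g (g' n))) ?_ h2
      intro n heq
      have := g'.injective (g.injective (hf_inj heq))
      omega
    · have hinj : Function.Injective (fun n => f (g (g' n))) :=
        fun m n hmn => g'.injective (g.injective (hf_inj hmn))
      refine ⟨Set.range (fun n => f (g (g' n))), ?_, Set.infinite_range_of_injective hinj, ?_⟩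
      · rintro _ ⟨n, rfl⟩
        exact hf_mem _
      · rintro _ ⟨m, rfl⟩ _ ⟨n, rfl⟩ hmn
        rcases lt_trichotomy m n with hlt | heq | hgt
        · exfalso
          exact h1 (g' m) (g' n) (g'.strictMono hlt) hmn
        · rw [heq]
        · exfalso
          exact h2 n m hgt hmn

end Groth.Agent.S9792
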