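import Groth.Statements.S9793
import Mathlib.AlgebraicGeometry.Stalk
import Mathlib.RingTheory.Ideal.KrullsHeightTheorem
-- import your own Groth.Agent.* helpers here

set_option autoImplicit false
universe u
open CategoryTheory AlgebraicGeometry TopologicalSpace
open Props

namespace Groth.Agent.S9793

/-- Let S be a Noetherian scheme and T a set of points of S. Every point of T is a specialization of
some point of T which admits no non-trivial generization lying in T. -/
theorem result (S : Scheme.{u}) [IsNoetherian S]
    (T : Set S) (t : S) (ht : t ∈ T) :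
    ∃ t₀ ∈ T, (∀ t' ∈ T, t' ⤳ t₀ → t' = t₀) ∧ t₀ ⤳ t := by
  -- work in Spec of the (Noetherian) local ring at t
  let f := S.fromSpecStalk t
  have hemb : Topology.IsEmbedding f := (S.fromSpecStalk t).isEmbedding
  -- the set of primes of the stalk mapping into T
  let T' : Set (PrimeSpectrum (S.presheaf.stalk t)) := {p | f p ∈ T}
  have hne : T'.Nonempty := by
    have : t ∈ Set.range f := by
      rw [Scheme.range_fromSpecStalk]
      exact specializes_rfl
    obtain ⟨p, hp⟩ := this
    refine ⟨p, ?_⟩
    change f p ∈ T
    rw [hp]
    exact ht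
  -- choose one of minimal height
  obtain ⟨p, hpT, hpmin⟩ := WellFounded.has_min
    (InvImage.wf (fun p : PrimeSpectrum (S.presheaf.stalk t) => p.asIdeal.height) wellFounded_lt)
    T' hne
  refine ⟨f p, hpT, ?_, ?_⟩
  · intro t' ht' hspec
    have hpt : f p ⤳ t := by
      have : f p ∈ Set.range f := ⟨p, rfl⟩
      rw [Scheme.range_fromSpecStalk] at this
      exact this
    have ht't : t' ∈ Set.range f := by
      rw [Scheme.range_fromSpecStalk]
      exact hspec.trans hpt
    obtain ⟨p', rfl⟩ := ht't
    let q : PrimeSpectrum (S.presheaf.stalk t) := p'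
    have hspec' : q ⤳ p := hemb.isInducing.specializes_iff.mp hspec
    have hle : q.asIdeal ≤ p.asIdeal := (PrimeSpectrum.le_iff_specializes q p).mpr hspec'
    by_contra hne'
    have hlt : q.asIdeal < p.asIdeal :=
      lt_of_le_of_ne hle fun h => hne' (congrArg f (PrimeSpectrum.ext h : q = p))
    have := q.isPrime
    have := p.isPrime
    exact hpmin q ht' (Ideal.height_strict_mono_of_isPrime_of_isPrime hlt)
  · have : f p ∈ Set.range f := ⟨p, rfl⟩
    rw [Scheme.range_fromSpecStalk] at this
    exact this

end Groth.Agent.S9793
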