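import Groth.Statements.S9794
import Groth.Agent.S9793
import Mathlib.Topology.NoetherianSpace
import Mathlib.Topology.Sober
-- import your own Groth.Agent.* helpers here

set_option autoImplicit false
universe u
open CategoryTheory AlgebraicGeometry TopologicalSpace
open Props

namespace Groth.Agent.S9794

theorem closure_finset_eq {X : Type*} [TopologicalSpace X] (Zs : Finset X) :
    closure (Zs : Set X) = ⋃ z ∈ Zs, closure ({z} : Set X) := by
  have : (Zs : Set X) = ⋃ z ∈ Zs, ({z} : Set X) := by
    ext x; simp
  conv_lhs => rw [this]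
  exact Zs.finite_toSet.closure_biUnion _

/-- every closed set in a Noetherian quasi-sober space is the closure of a finite set. -/
theorem exists_finset_closure_eq {X : Type*} [TopologicalSpace X] [NoetherianSpace X]
    [QuasiSober X] (W : Set X) (hW : IsClosed W) : ∃ Zs : Finset X, closure (Zs : Set X) = W := by
  classical
  rcases isEmpty_or_nonempty X with hX | hX
  · exact ⟨∅, by rw [Set.eq_empty_of_isEmpty W]; simp⟩
  obtain ⟨Sc, hfin, hcl, hirr, rfl⟩ := NoetherianSpace.exists_finite_set_isClosed_irreducible hW
  have hgen : ∀ t ∈ Sc, ∃ z : X, closure {z} = t := fun t ht => by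
    obtain ⟨z, hz⟩ := QuasiSober.sober (hirr t ht) (hcl t ht)
    exact ⟨z, hz.def⟩
  choose! g hg using hgen
  refine ⟨hfin.toFinset.image g, ?_⟩
  rw [closure_finset_eq]
  ext x
  simp only [Finset.mem_image, Set.Finite.mem_toFinset, Set.mem_iUnion, Set.mem_sUnion]
  constructor
  · rintro ⟨_, ⟨t, ht, rfl⟩, hx⟩
    exact ⟨t, ht, by rwa [hg t ht] at hx⟩
  · rintro ⟨t, ht, hx⟩
    exact ⟨g t, ⟨t, ht, rfl⟩, by rwa [hg t ht]⟩

/-- In a Noetherian scheme, an infinite dense set of points contains a countable subset which is dense. -/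
theorem result (S : Scheme.{u}) [IsNoetherian S]
    (T : Set S) (hT : T.Infinite) (hd : Dense T) :
    ∃ E : Set S, E ⊆ T ∧ E.Countable ∧ Dense E := by
  classical
  let T' : Set S := {s | ∃ E : Set S, E ⊆ T ∧ E.Countable ∧ closure E = closure {s}}
  have hTT' : T ⊆ T' := fun s hs =>
    ⟨{s}, Set.singleton_subset_iff.mpr hs, Set.countable_singleton s, rfl⟩
  have hT'def : ∀ s ∈ T', ∃ E : Set S, E ⊆ T ∧ E.Countable ∧ closure E = closure {s} :=
    fun s hs => hs
  choose! Es hEs using hT'def
  have key : ∀ E' : Set S, E' ⊆ T' → E'.Countable →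
      ∃ Zs : Finset S, (↑Zs ⊆ T') ∧ closure (Zs : Set S) = closure E' := by
    intro E' hE' hE'c
    let F : Set S := ⋃ e ∈ E', Es e
    have hFT : F ⊆ T := Set.iUnion₂_subset fun e he => (hEs e (hE' he)).1
    have hFc : F.Countable := hE'c.biUnion fun e he => (hEs e (hE' he)).2.1
    have hFcl : closure F = closure E' := by
      apply subset_antisymm
      · apply closure_minimal _ isClosed_closure
        apply Set.iUnion₂_subset
        intro e he
        calc Es e ⊆ closure (Es e) := subset_closure
          _ = closure {e} := (hEs e (hE' he)).2.2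
          _ ⊆ closure E' := closure_mono (Set.singleton_subset_iff.mpr he)
      · apply closure_minimal _ isClosed_closure
        intro e he
        have : e ∈ closure (Es e) := by
          rw [(hEs e (hE' he)).2.2]; exact subset_closure rfl
        exact closure_mono (Set.subset_biUnion_of_mem he) this
    have hex : ∃ Zs : Finset S, closure (Zs : Set S) = closure F :=
      exists_finset_closure_eq _ isClosed_closure
    obtain ⟨Zs, hZs, hmin⟩ := WellFounded.has_min
      (InvImage.wf (fun Zs : Finset S => Zs.card) wellFounded_lt)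
      {Zs : Finset S | closure (Zs : Set S) = closure F} hex
    have hZs' : closure (Zs : Set S) = closure F := hZs
    refine ⟨Zs, ?_, hZs'.trans hFcl⟩
    intro z hz
    have hz' : z ∈ Zs := hz
    have hirred : z ∉ closure ((Zs.erase z : Finset S) : Set S) := by
      intro hmem
      apply hmin (Zs.erase z) _ (Finset.card_erase_lt_of_mem hz')
      change closure ((Zs.erase z : Finset S) : Set S) = closure F
      rw [← hZs']
      apply subset_antisymm (closure_mono (Finset.coe_subset.mpr (Finset.erase_subset _ _)))
      apply closure_minimal _ isClosed_closure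
      intro y hy
      by_cases hyz : y = z
      · rw [hyz]; exact hmem
      · exact subset_closure (Finset.mem_coe.mpr (Finset.mem_erase.mpr ⟨hyz, hy⟩))
    refine ⟨F ∩ closure {z}, Set.inter_subset_left.trans hFT, hFc.mono Set.inter_subset_left, ?_⟩
    apply subset_antisymm
    · exact closure_minimal Set.inter_subset_right isClosed_closure
    · apply closure_minimal _ isClosed_closure
      rw [Set.singleton_subset_iff]
      have hzF : z ∈ closure F := by rw [← hZs']; exact subset_closure hz
      have hFsub : F ⊆ ⋃ z' ∈ Zs, (F ∩ closure {z'}) := by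
        intro x hx
        have hx' : x ∈ closure (Zs : Set S) := by rw [hZs']; exact subset_closure hx
        rw [closure_finset_eq] at hx'
        simp only [Set.mem_iUnion] at hx' ⊢
        obtain ⟨z', hz', hxz'⟩ := hx'
        exact ⟨z', hz', hx, hxz'⟩
      have hz2 : z ∈ closure (⋃ z' ∈ Zs, (F ∩ closure {z'})) := closure_mono hFsub hzF
      change z ∈ closure (⋃ z' ∈ (Zs : Set S), (F ∩ closure {z'})) at hz2
      rw [Zs.finite_toSet.closure_biUnion] at hz2
      simp only [Set.mem_iUnion] at hz2
      obtain ⟨z', hz'Zs, hzz'⟩ := hz2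
      by_cases hne : z' = z
      · rw [hne] at hzz'; exact hzz'
      · exfalso
        apply hirred
        have h1 : z ∈ closure ({z'} : Set S) :=
          closure_minimal Set.inter_subset_right isClosed_closure hzz'
        exact closure_mono (Set.singleton_subset_iff.mpr
          (Finset.mem_coe.mpr (Finset.mem_erase.mpr ⟨hne, hz'Zs⟩))) h1
  -- maximal points of T'
  let T0 : Set S := {s | s ∈ T' ∧ ∀ t' ∈ T', t' ⤳ s → t' = s}
  have hT0fin : T0.Finite := by
    by_contra hinf
    have hinf' : T0.Infinite := hinf
    let emb := hinf'.natEmbedding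
    let E' : Set S := Set.range (fun n => (emb n : S))
    have hE'T0 : E' ⊆ T0 := by
      rintro _ ⟨n, rfl⟩
      exact (emb n).2
    have hE'c : E'.Countable := Set.countable_range _
    have hE'inf : E'.Infinite := by
      apply Set.infinite_range_of_injective
      intro a b hab
      exact emb.injective (Subtype.ext hab)
    obtain ⟨Zs, hZsT', hZscl⟩ := key E' (fun e he => (hE'T0 he).1) hE'c
    apply hE'inf
    apply Zs.finite_toSet.subset
    intro e he
    have he' : e ∈ closure (Zs : Set S) := by rw [hZscl]; exact subset_closure he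
    rw [closure_finset_eq] at he'
    simp only [Set.mem_iUnion] at he'
    obtain ⟨z, hz, hez⟩ := he'
    have hspec : z ⤳ e := specializes_iff_mem_closure.mpr hez
    have : z = e := (hE'T0 he).2 z (hZsT' hz) hspec
    rw [← this]
    exact hz
  refine ⟨⋃ s ∈ T0, Es s, ?_, ?_, ?_⟩
  · exact Set.iUnion₂_subset fun s hs => (hEs s hs.1).1
  · exact hT0fin.countable.biUnion fun s hs => (hEs s hs.1).2.1
  · rw [dense_iff_closure_eq, ← Set.univ_subset_iff, ← hd.closure_eq]
    apply closure_minimal _ isClosed_closure
    intro t ht
    obtain ⟨t₀, ht₀T', ht₀max, ht₀t⟩ := Groth.Agent.S9793.result S T' t (hTT' ht)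
    have ht₀ : t₀ ∈ T0 := ⟨ht₀T', ht₀max⟩
    have h1 : t ∈ closure ({t₀} : Set S) := specializes_iff_mem_closure.mp ht₀t
    rw [← (hEs t₀ ht₀T').2.2] at h1
    exact closure_mono (Set.subset_biUnion_of_mem ht₀) h1

end Groth.Agent.S9794
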