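import Groth.Statements.S9796
import Groth.Agent.Lib.Helper49.ZeroDim
import Mathlib.Topology.Connected.Separation
import Mathlib.Topology.Spectral.Prespectral
-- import your own Groth.Agent.* helpers here

set_option autoImplicit false
universe u
open CategoryTheory AlgebraicGeometry TopologicalSpace
open Props

namespace Groth.Agent.S9796

/-- (2) implies (3) with the complement on connected components: a separated scheme of dimension at most
zero is Hausdorff and totally disconnected. -/
theorem result (X : Scheme.{u}) [X.IsSeparated]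
    (h : topologicalKrullDim X ≤ 0) : T2Space X ∧ TotallyDisconnectedSpace X := by
  have hT1 : T1Space X := Groth.Agent.Lib.Helper49.t1Space_of_topologicalKrullDim_le_zero h
  -- affine opens have Hausdorff spectrum
  have hT2aff : ∀ {U : X.Opens} (hU : IsAffineOpen U), T2Space (PrimeSpectrum Γ(X, U)) := by
    intro U hU
    exact ((Groth.Agent.S9633.result (R := Γ(X, U))).out 5 1).mp
      (Groth.Agent.Lib.Helper49.isMaximal_of_isPrime_of_t1 X hU)
  have hT2 : T2Space X := by
    refine ⟨fun x y hxy => ?_⟩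
    obtain ⟨_, ⟨U, hU0, rfl⟩, hxU, -⟩ :=
      X.isBasis_affineOpens.exists_subset_of_mem_open (Set.mem_univ x) isOpen_univ
    obtain ⟨_, ⟨V, hV0, rfl⟩, hyV, -⟩ :=
      X.isBasis_affineOpens.exists_subset_of_mem_open (Set.mem_univ y) isOpen_univ
    have hU : IsAffineOpen U := hU0
    have hV : IsAffineOpen V := hV0
    by_cases hyU : y ∈ (U : Set X)
    · -- both in U
      have hoe : Topology.IsOpenEmbedding hU.fromSpec := hU.fromSpec.isOpenEmbedding
      have hrange : Set.range hU.fromSpec = (U : Set X) := hU.range_fromSpec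
      obtain ⟨x', rfl⟩ : x ∈ Set.range hU.fromSpec := hrange ▸ hxU
      obtain ⟨y', rfl⟩ : y ∈ Set.range hU.fromSpec := hrange ▸ hyU
      have := hT2aff hU
      have hne : (x' : PrimeSpectrum Γ(X, U)) ≠ y' := fun h => hxy (by rw [h])
      obtain ⟨u, v, hu, hv, hxu, hyv, huv⟩ :=
        @t2_separation (PrimeSpectrum Γ(X, U)) _ _ x' y' hne
      refine ⟨hU.fromSpec '' u, hU.fromSpec '' v, hoe.isOpenMap _ hu, hoe.isOpenMap _ hv,
        ⟨x', hxu, rfl⟩, ⟨y', hyv, rfl⟩, ?_⟩
      exact (Set.disjoint_image_iff hoe.injective).mpr huv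
    · have hdiff : IsOpen ((V : Set X) \ ((U : Set X) ∩ V)) :=
        Groth.Agent.Lib.Helper49.isOpen_diff_of_t1 X hV _ (U.2.inter V.2)
          (QuasiSeparatedSpace.inter_isCompact _ _ U.2 hU.isCompact V.2 hV.isCompact)
          Set.inter_subset_right
      refine ⟨U, (V : Set X) \ ((U : Set X) ∩ V), U.2, hdiff, hxU, ⟨hyV, fun h' => hyU h'.1⟩, ?_⟩
      rw [Set.disjoint_left]
      intro z hzU hz
      exact hz.2 ⟨hzU, hz.1⟩
  refine ⟨hT2, ?_⟩
  have : TotallySeparatedSpace X := by
    rw [totallySeparatedSpace_iff_exists_isClopen]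
    intro x y hxy
    obtain ⟨_, ⟨U, hU0, rfl⟩, hxU, -⟩ :=
      X.isBasis_affineOpens.exists_subset_of_mem_open (Set.mem_univ x) isOpen_univ
    have hU : IsAffineOpen U := hU0
    by_cases hyU : y ∈ (U : Set X)
    · have hoe : Topology.IsOpenEmbedding hU.fromSpec := hU.fromSpec.isOpenEmbedding
      have hrange : Set.range hU.fromSpec = (U : Set X) := hU.range_fromSpec
      obtain ⟨x', rfl⟩ : x ∈ Set.range hU.fromSpec := hrange ▸ hxU
      obtain ⟨y', rfl⟩ : y ∈ Set.range hU.fromSpec := hrange ▸ hyU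
      have := hT2aff hU
      have hne : (x' : PrimeSpectrum Γ(X, U)) ≠ y' := fun h => hxy (by rw [h])
      have hts : TotallySeparatedSpace (PrimeSpectrum Γ(X, U)) := inferInstance
      obtain ⟨C, hC, hxC, hyC⟩ := totallySeparatedSpace_iff_exists_isClopen.mp hts hne
      refine ⟨hU.fromSpec '' C, ⟨?_, hoe.isOpenMap _ hC.2⟩, ⟨x', hxC, rfl⟩, ?_⟩
      · exact (hC.1.isCompact.image hU.fromSpec.continuous).isClosed
      · rintro ⟨z, hzC, hz⟩
        exact hyC (hoe.injective hz ▸ hzC)
    · exact ⟨U, ⟨hU.isCompact.isClosed, U.2⟩, hxU, hyU⟩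
  infer_instance

end Groth.Agent.S9796
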