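import Groth.Statements.S9797
import Groth.Agent.Lib.Helper49.ZeroDim
import Mathlib.AlgebraicGeometry.Morphisms.QuasiCompact
-- import your own Groth.Agent.* helpers here

set_option autoImplicit false
universe u
open CategoryTheory AlgebraicGeometry TopologicalSpace
open Props

namespace Groth.Agent.S9797

/-- In a separated scheme of dimension at most zero, every quasi-compact open is affine. -/
theorem result (X : Scheme.{u}) [X.IsSeparated]
    (h : topologicalKrullDim X ≤ 0) (U : X.Opens) (hU : IsCompact (U : Set X)) :
    IsAffineOpen U := by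
  have : T1Space X := Groth.Agent.Lib.Helper49.t1Space_of_topologicalKrullDim_le_zero h
  obtain ⟨s, hs, rfl⟩ := isCompact_iff_finite_and_eq_biUnion_affineOpens.mp hU
  clear hU
  induction s, hs using Set.Finite.induction_on with
  | empty =>
    simp only [Set.mem_empty_iff_false, not_false_eq_true, iSup_neg, iSup_bot]
    exact isAffineOpen_bot X
  | @insert a s ha hs ih =>
    rw [iSup_insert, sup_comm]
    set A : X.Opens := ⨆ i ∈ s, (i : X.Opens) with hA
    have hAc : IsCompact (A : Set X) :=
      isCompact_iff_finite_and_eq_biUnion_affineOpens.mpr ⟨s, hs, rfl⟩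
    -- C = a \ A is open
    have hdiff : IsOpen (((a : X.Opens) : Set X) \ ((A : Set X) ∩ (a : X.Opens))) :=
      Groth.Agent.Lib.Helper49.isOpen_diff_of_t1 X a.2 _ (A.2.inter a.1.2)
        (QuasiSeparatedSpace.inter_isCompact _ _ A.2 hAc a.1.2 a.2.isCompact)
        Set.inter_subset_right
    let C : X.Opens := ⟨((a : X.Opens) : Set X) \ ((A : Set X) ∩ (a : X.Opens)), hdiff⟩
    have hCa : C ≤ a.1 := fun x hx => hx.1
    have hCaff : IsAffineOpen C := by
      apply Groth.Agent.Lib.Helper49.isAffineOpen_of_isClopen_in X a.2 C hCa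
      have : ((a : X.Opens) : Set X) \ (C : Set X) = (A : Set X) ∩ (a : X.Opens) := by
        ext x
        change (x ∈ ((a : X.Opens) : Set X) ∧ ¬ (x ∈ ((a : X.Opens) : Set X) ∧
          ¬ (x ∈ (A : Set X) ∧ x ∈ ((a : X.Opens) : Set X)))) ↔
          (x ∈ (A : Set X) ∧ x ∈ ((a : X.Opens) : Set X))
        tauto
      rw [this]
      exact A.2.inter a.1.2
    have hdisj : Disjoint A C := by
      rw [disjoint_iff]
      ext x
      simp only [Opens.coe_inf, Set.mem_inter_iff, Opens.coe_bot, Set.mem_empty_iff_false,
        iff_false, not_and]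
      intro hxA hxC
      exact hxC.2 ⟨hxA, hxC.1⟩
    have hsup : A ⊔ a.1 = A ⊔ C := by
      ext x
      simp only [Opens.coe_sup, Set.mem_union]
      constructor
      · rintro (hx | hx)
        · exact Or.inl hx
        · by_cases hxA : x ∈ (A : Set X)
          · exact Or.inl hxA
          · exact Or.inr ⟨hx, fun h' => hxA h'.1⟩
      · rintro (hx | hx)
        · exact Or.inl hx
        · exact Or.inr hx.1
    rw [hsup]
    exact IsAffineOpen.sup_of_disjoint ih hCaff hdisj

end Groth.Agent.S9797
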