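import Groth.Statements.S9798
import Mathlib.AlgebraicGeometry.Artinian
-- import your own Groth.Agent.* helpers here

set_option autoImplicit false
universe u
open CategoryTheory AlgebraicGeometry TopologicalSpace
open Props

namespace Groth.Agent.S9798

/-- A point of a locally Noetherian scheme has local dimension zero exactly when it is isolated. -/
theorem result (X : Scheme.{u}) [IsLocallyNoetherian X] (x : X) :
    FlatMor.localDim X x = 0 ↔ IsOpen ({x} : Set X) := by
  unfold FlatMor.localDim
  constructor
  · intro h
    have h1 : (⨅ U : {U : Opens X // x ∈ U}, topologicalKrullDim (U.1 : Set X)) < 1 := by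
      rw [h]; exact zero_lt_one
    obtain ⟨⟨U, hxU⟩, hU⟩ := iInf_lt_iff.mp h1
    have hU0 : topologicalKrullDim (U : Set X) ≤ 0 := by
      have := (ENat.WithBot.lt_add_one_iff (n := topologicalKrullDim (U : Set X)) (m := 0)).mp
        (by simpa using hU)
      simpa using this
    have hart : IsLocallyArtinian (U : Scheme.{u}) :=
      IsLocallyArtinian.of_topologicalKrullDim_le_zero hU0
    have hdisc : DiscreteTopology (U : Scheme.{u}) := inferInstance
    have hopen : IsOpen ({⟨x, hxU⟩} : Set U) := isOpen_discrete _
    have := hopen.trans U.2
    have he : (Subtype.val '' ({⟨x, hxU⟩} : Set U) : Set X) = {x} := Set.image_singleton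
    rw [← he]
    exact this
  · intro h
    apply le_antisymm
    · refine iInf_le_of_le ⟨⟨{x}, h⟩, rfl⟩ ?_
      have : DiscreteTopology (({x} : Set X)) := inferInstance
      exact topologicalKrullDim_zero_of_discreteTopology _
    · refine le_iInf fun U => ?_
      exact Order.krullDim_nonneg_iff.mpr
        ⟨⟨closure {⟨x, U.2⟩}, isIrreducible_singleton.closure, isClosed_closure⟩⟩

end Groth.Agent.S9798
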