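import Groth.Statements.S9801
import Groth.Agent.Lib.Helper49.Serre3
import Groth.Agent.S9800
import Mathlib.AlgebraicGeometry.Noetherian
-- import your own Groth.Agent.* helpers here

set_option autoImplicit false
universe u
open CategoryTheory AlgebraicGeometry TopologicalSpace
open Props

namespace Groth.Agent.S9801

/-- A locally Noetherian normal scheme of dimension at most two is Cohen-Macaulay, that is, all of its
local rings are Cohen-Macaulay local rings. -/
theorem result (X : Scheme.{u})
    [IsLocallyNoetherian X] (hN : Pi1.IsNormalScheme X) (hd : topologicalKrullDim X ≤ 2) (x : X) :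
    LocCoh.IsCohenMacaulayLocalRing (X.presheaf.stalk x) := by
  obtain ⟨hdom, hic⟩ := hN x
  have hdim : ringKrullDim (X.presheaf.stalk x) ≤ 2 :=
    (Groth.Agent.S9800.ringKrullDim_stalk_le X x).trans hd
  exact Groth.Agent.Lib.Helper49.Serre.isCohenMacaulayLocalRing_of_isIntegrallyClosed_of_dim_le_two
    _ hdim

end Groth.Agent.S9801
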