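import Groth.Statements.S9802
import Groth.Agent.Lib.Helper21.RedSubscheme
import Groth.Agent.Lib.Helper88.Japanese3

set_option autoImplicit false
set_option linter.style.haveILetI false
universe u
open CategoryTheory AlgebraicGeometry TopologicalSpace
open Props

namespace Groth.Agent.S9802

open Groth.Agent.Lib.Helper88 Groth.Agent.Lib.Helper21

/-- a domain quotient of a Nagata ring is N-2 -/
theorem isN2_of_surjective_of_isNagata {A B : Type u} [CommRing A] [CommRing B] [IsDomain B]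
    (f : A →+* B) (hf : Function.Surjective f) (hA : CAlg.IsNagata A) : CAlg.IsN2 B := by
  haveI : (RingHom.ker f).IsPrime := RingHom.ker_isPrime f
  exact isN2_of_ringEquiv (RingHom.quotientKerEquivOfSurjective hf) (hA.2 (RingHom.ker f))

/-- N-2 is local on an affine open of an integral scheme -/
theorem isN2_of_local {Z : Scheme.{u}} [IsIntegral Z] (V : Z.Opens) [Nonempty V]
    (hV : IsAffineOpen V)
    (H : ∀ z ∈ V, ∃ (g : Γ(Z, V)) (hz : z ∈ Z.basicOpen g),
      haveI : Nonempty (Z.basicOpen g) := ⟨⟨z, hz⟩⟩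
      CAlg.IsN2 Γ(Z, Z.basicOpen g)) : CAlg.IsN2 Γ(Z, V) := by
  let s : Set Γ(Z, V) := {g | ∃ (_ : Nonempty (Z.basicOpen g)), CAlg.IsN2 Γ(Z, Z.basicOpen g)}
  have hs : Ideal.span s = ⊤ := by
    rw [← hV.self_le_iSup_basicOpen_iff]
    intro z hz
    obtain ⟨g, hzg, hg⟩ := H z hz
    exact Opens.mem_iSup.mpr ⟨⟨g, ⟨⟨⟨z, hzg⟩⟩, hg⟩⟩, hzg⟩
  obtain ⟨s', hs's, hs'⟩ := (Ideal.span_eq_top_iff_finite s).mp hs
  rw [isN2_iff]
  have hne : ∀ i : s', Nonempty (Z.basicOpen i.1) := fun i => (hs's i.2).1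
  haveI : ∀ i : s', IsDomain Γ(Z, Z.basicOpen i.1) := fun i => by
    haveI := hne i
    infer_instance
  haveI : ∀ i : s', IsLocalization.Away (i.1 : Γ(Z, V)) Γ(Z, Z.basicOpen i.1) := fun i =>
    hV.isLocalization_basicOpen i.1
  refine isN2'_of_localizationSpan Γ(Z, V) (fun i : s' => i.1)
    (by
      have : Set.range (fun i : s' => (i.1 : Γ(Z, V))) = ↑s' := Subtype.range_coe
      rw [this]
      exact hs') (fun i => Γ(Z, Z.basicOpen i.1))
    (fun i => (isN2_iff _).mp ?_)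
  obtain ⟨_, h2⟩ := hs's i.2
  exact h2

theorem forward (X : Scheme.{u}) (h : ∀ U : X.Opens, IsAffineOpen U → CAlg.IsNagata Γ(X, U))
    (Z : Scheme.{u}) (i : Z ⟶ X) [IsClosedImmersion i] [IsIntegral Z] (V : Z.Opens) [Nonempty V]
    (hV : IsAffineOpen V) : CAlg.IsN2 Γ(Z, V) := by
  refine isN2_of_local V hV fun z hz => ?_
  obtain ⟨_, ⟨U, hU, rfl⟩, hzU, -⟩ :=
    X.isBasis_affineOpens.exists_subset_of_mem_open (Set.mem_univ (i z)) isOpen_univ
  have hW : IsAffineOpen (i ⁻¹ᵁ U) := hU.preimage i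
  have hzW : z ∈ i ⁻¹ᵁ U := hzU
  haveI : Nonempty (i ⁻¹ᵁ U) := ⟨⟨z, hzW⟩⟩
  have hsurj : Function.Surjective (i.app U) :=
    (isClosedImmersion_iff_isAffineHom.mp inferInstance).2 U hU
  have hN2W : CAlg.IsN2 Γ(Z, i ⁻¹ᵁ U) :=
    isN2_of_surjective_of_isNagata (i.app U).hom hsurj (h U hU)
  obtain ⟨f, g, e, hzf⟩ := exists_basicOpen_le_affine_inter hW hV z ⟨hzW, hz⟩
  have hzg : z ∈ Z.basicOpen g := e ▸ hzf
  refine ⟨g, hzg, ?_⟩
  haveI : Nonempty (Z.basicOpen f) := ⟨⟨z, hzf⟩⟩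
  haveI : Nonempty (Z.basicOpen g) := ⟨⟨z, hzg⟩⟩
  haveI := hW.isLocalization_basicOpen f
  have h1 : CAlg.IsN2 Γ(Z, Z.basicOpen f) :=
    isN2_of_isLocalization Γ(Z, i ⁻¹ᵁ U) (Submonoid.powers f) _ hN2W
  exact isN2_of_ringEquiv (Z.presheaf.mapIso (eqToIso e).op).commRingCatIsoToRingEquiv.symm h1

theorem vanishingIdeal_preimage_closure {X : Scheme.{u}} {U : X.Opens} (hU : IsAffineOpen U)
    (P : Spec Γ(X, U)) :
    PrimeSpectrum.vanishingIdeal
      (show Set (PrimeSpectrum Γ(X, U)) from hU.fromSpec ⁻¹' closure {hU.fromSpec P}) =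
      PrimeSpectrum.asIdeal (show PrimeSpectrum Γ(X, U) from P) := by
  have : (hU.fromSpec ⁻¹' closure {hU.fromSpec P} : Set (Spec Γ(X, U))) = closure {P} := by
    rw [hU.fromSpec.isOpenEmbedding.isInducing.closure_eq_preimage_closure_image,
      Set.image_singleton]
  have h2 : PrimeSpectrum.vanishingIdeal
      (closure ({(show PrimeSpectrum Γ(X, U) from P)} : Set (PrimeSpectrum Γ(X, U)))) =
      PrimeSpectrum.asIdeal (show PrimeSpectrum Γ(X, U) from P) := by
    rw [PrimeSpectrum.vanishingIdeal_closure, PrimeSpectrum.vanishingIdeal_singleton]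
  exact (congrArg PrimeSpectrum.vanishingIdeal this).trans h2

theorem backward (X : Scheme.{u}) [IsLocallyNoetherian X]
    (H : ∀ (Z : Scheme.{u}) (i : Z ⟶ X) [IsClosedImmersion i] [IsIntegral Z]
        (V : Z.Opens) [Nonempty V], IsAffineOpen V → CAlg.IsN2 Γ(Z, V))
    (U : X.Opens) (hU : IsAffineOpen U) : CAlg.IsNagata Γ(X, U) := by
  refine ⟨IsLocallyNoetherian.component_noetherian ⟨U, hU⟩, fun p hp => ?_⟩
  let P : PrimeSpectrum Γ(X, U) := ⟨p, hp⟩
  let x : X := hU.fromSpec P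
  let W : Closeds X := ⟨closure {x}, isClosed_closure⟩
  have hW : IsIrreducible (W : Set X) := isIrreducible_singleton.closure
  let I := Scheme.IdealSheafData.vanishingIdeal W
  haveI : IsIntegral I.subscheme := RedSubscheme.isIntegral_vanishingIdeal_subscheme W hW
  have hxU : x ∈ U := by
    have : x ∈ Set.range hU.fromSpec := ⟨P, rfl⟩
    rwa [hU.range_fromSpec] at this
  have hxW : x ∈ (W : Set X) := subset_closure rfl
  obtain ⟨z, hz⟩ : x ∈ Set.range I.subschemeι := by
    rw [RedSubscheme.range_subschemeι_vanishingIdeal]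
    exact hxW
  haveI : Nonempty (I.subschemeι ⁻¹ᵁ U) := ⟨⟨z, by
    change I.subschemeι z ∈ U
    rw [hz]
    exact hxU⟩⟩
  have hV : IsAffineOpen (I.subschemeι ⁻¹ᵁ U) := hU.preimage _
  have h1 := H I.subscheme I.subschemeι (I.subschemeι ⁻¹ᵁ U) hV
  have hker : RingHom.ker (I.subschemeι.app U).hom = p := by
    rw [Scheme.IdealSheafData.ker_subschemeι_app I ⟨U, hU⟩,
      Scheme.IdealSheafData.vanishingIdeal_ideal]
    exact vanishingIdeal_preimage_closure hU P
  have hsurj : Function.Surjective (I.subschemeι.app U).hom :=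
    I.subschemeι_app_surjective ⟨U, hU⟩
  haveI : (RingHom.ker (I.subschemeι.app U).hom).IsPrime := hker ▸ hp
  exact isN2_of_ringEquiv
    ((RingHom.quotientKerEquivOfSurjective hsurj).symm.trans (Ideal.quotEquivOfEq hker)) h1

/-- A locally Noetherian scheme is Nagata (every affine open has a Nagata coordinate ring) if and only
if every integral closed subscheme is Japanese (every nonempty affine open of it has an N-2
coordinate ring). -/
theorem result (X : Scheme.{u})
    [IsLocallyNoetherian X] :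
    (∀ U : X.Opens, IsAffineOpen U → CAlg.IsNagata Γ(X, U)) ↔
      ∀ (Z : Scheme.{u}) (i : Z ⟶ X) [IsClosedImmersion i] [IsIntegral Z]
        (V : Z.Opens) [Nonempty V], IsAffineOpen V → CAlg.IsN2 Γ(Z, V) := by
  constructor
  · intro h Z i _ _ V _ hV
    exact forward X h Z i V hV
  · intro H U hU
    exact backward X H U hU

end Groth.Agent.S9802
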