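import Groth.Statements.S9803
import Mathlib

set_option autoImplicit false
universe u
open CategoryTheory AlgebraicGeometry TopologicalSpace
open Props

namespace Groth.Agent.S9803

section ring
open MvPolynomial

variable {σ : Type u} [Fintype σ] {A R : Type u} [CommRing A] [CommRing R]
  (f : σ → A)

/-- the Jouanolou relation -/
noncomputable def rel : MvPolynomial (Option σ) A := ∑ i, X (some i) * C (f i) - 1

/-- the Jouanolou ring -/
abbrev JB : Type u := MvPolynomial (Option σ) A ⧸ Ideal.span {rel f}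

/-- structure map -/
noncomputable def ιB : A →+* JB f := (Ideal.Quotient.mk _).comp C

/-- coordinates a_i -/
noncomputable def aB (i : σ) : JB f := Ideal.Quotient.mk _ (X (some i))

/-- coordinate t -/
noncomputable def tB : JB f := Ideal.Quotient.mk _ (X none)

lemma relB : ∑ i, aB f i * ιB f (f i) = 1 := by
  have h : Ideal.Quotient.mk (Ideal.span {rel f}) (rel f) = 0 :=
    Ideal.Quotient.eq_zero_iff_mem.mpr (Ideal.subset_span rfl)
  have h' : Ideal.Quotient.mk (Ideal.span {rel f}) (∑ i, X (some i) * C (f i)) = 1 := by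
    rw [← sub_eq_zero, ← map_one (Ideal.Quotient.mk (Ideal.span {rel f})), ← map_sub]
    exact h
  rw [map_sum] at h'
  refine Eq.trans ?_ h'
  refine Finset.sum_congr rfl fun i _ => ?_
  rw [map_mul]; rfl

lemma JB_hom_ext {S : Type*} [CommRing S] (g h : JB f →+* S)
    (h1 : g.comp (ιB f) = h.comp (ιB f)) (h2 : ∀ i, g (aB f i) = h (aB f i))
    (h3 : g (tB f) = h (tB f)) : g = h := by
  apply Ideal.Quotient.ringHom_ext
  apply MvPolynomial.ringHom_ext
  · intro a
    exact congrArg (fun k => k a) h1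
  · intro o
    cases o with
    | none => exact h3
    | some i => exact h2 i

variable (φ : A →+* R) (b : σ → R)

/-- value of the generators under ψ -/
noncomputable def ψval : Option σ → MvPolynomial σ R
  | some i => X i - (∑ j, C (φ (f j)) * X j) * C (b i) + C (b i)
  | none => ∑ j, C (φ (f j)) * X j

variable (hb : ∑ i, b i * φ (f i) = 1)

include hb in
lemma ψ_rel : eval₂Hom (C.comp φ) (ψval f φ b) (rel f) = 0 := by
  have hb' : ∑ i, C (b i) * C (φ (f i)) = (1 : MvPolynomial σ R) := by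
    simp_rw [← C_mul]
    rw [← map_sum, hb, C_1]
  simp only [rel, map_sub, map_sum, map_mul, map_one, eval₂Hom_X', eval₂Hom_C, ψval,
    RingHom.comp_apply]
  set s := ∑ j, C (φ (f j)) * X j with hs
  have : ∑ x, (X x - s * C (b x) + C (b x)) * C (φ (f x))
      = ∑ x, C (φ (f x)) * X x - s * ∑ x, C (b x) * C (φ (f x)) + ∑ x, C (b x) * C (φ (f x)) := by
    rw [Finset.mul_sum, ← Finset.sum_sub_distrib, ← Finset.sum_add_distrib]
    refine Finset.sum_congr rfl fun i _ => ?_
    ring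
  rw [this, hb', ← hs]
  ring

/-- the map ψ : B → R[y] -/
noncomputable def ψ : JB f →+* MvPolynomial σ R :=
  Ideal.Quotient.lift _ (eval₂Hom (C.comp φ) (ψval f φ b)) (by
    intro x hx
    obtain ⟨c, rfl⟩ := Ideal.mem_span_singleton'.mp hx
    rw [map_mul, ψ_rel f φ b hb, mul_zero])

lemma ψ_ι : (ψ f φ b hb).comp (ιB f) = C.comp φ := by
  ext a
  simp [ψ, ιB]

lemma ψ_a (i : σ) : ψ f φ b hb (aB f i)
    = X i - (∑ j, C (φ (f j)) * X j) * C (b i) + C (b i) := by
  simp [ψ, aB, ψval]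

lemma ψ_t : ψ f φ b hb (tB f) = ∑ j, C (φ (f j)) * X j := by
  simp [ψ, tB, ψval]

lemma X_eq (i : σ) : (X i : MvPolynomial σ R)
    = ψ f φ b hb (aB f i) - C (b i) + ψ f φ b hb (tB f) * C (b i) := by
  rw [ψ_a, ψ_t]; ring

section desc
variable {S : Type u} [CommRing S] (u : R →+* S) (v : JB f →+* S)

/-- the descent map -/
noncomputable def wd : MvPolynomial σ R →+* S :=
  eval₂Hom u (fun i => v (aB f i) - u (b i) + v (tB f) * u (b i))

variable (hc : ∀ a, u (φ a) = v (ιB f a))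

include hb hc in
lemma wd_s : wd f b u v (∑ j, C (φ (f j)) * X j) = v (tB f) := by
  have hrel : ∑ j, v (aB f j) * v (ιB f (f j)) = 1 := by
    simp_rw [← map_mul]
    rw [← map_sum, relB, map_one]
  have hbu : ∑ j, u (b j) * u (φ (f j)) = 1 := by
    simp_rw [← map_mul]
    rw [← map_sum, hb, map_one]
  simp only [wd, map_sum, map_mul, eval₂Hom_C, eval₂Hom_X']
  calc ∑ j, u (φ (f j)) * (v (aB f j) - u (b j) + v (tB f) * u (b j))
      = ∑ j, v (aB f j) * v (ιB f (f j)) - ∑ j, u (b j) * u (φ (f j))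
        + v (tB f) * ∑ j, u (b j) * u (φ (f j)) := by
        rw [Finset.mul_sum, ← Finset.sum_sub_distrib, ← Finset.sum_add_distrib]
        refine Finset.sum_congr rfl fun j _ => ?_
        rw [← hc]; ring
    _ = v (tB f) := by rw [hrel, hbu]; ring

include hb hc in
lemma wd_comp_ψ : (wd f b u v).comp (ψ f φ b hb) = v := by
  apply JB_hom_ext
  · rw [RingHom.comp_assoc, ψ_ι]
    ext a
    simp [wd, hc]
  · intro i
    rw [RingHom.comp_apply, ψ_a, map_add, map_sub, map_mul, wd_s f φ b hb u v hc]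
    simp only [wd, eval₂Hom_C, eval₂Hom_X']
    ring
  · rw [RingHom.comp_apply, ψ_t, wd_s f φ b hb u v hc]

end desc

open CategoryTheory.Limits in
lemma isPushout : IsPushout (CommRingCat.ofHom φ) (CommRingCat.ofHom (ιB f))
    (CommRingCat.ofHom (C : R →+* MvPolynomial σ R)) (CommRingCat.ofHom (ψ f φ b hb)) := by
  have w : CommRingCat.ofHom φ ≫ CommRingCat.ofHom (C : R →+* MvPolynomial σ R)
      = CommRingCat.ofHom (ιB f) ≫ CommRingCat.ofHom (ψ f φ b hb) := by
    rw [← CommRingCat.ofHom_comp, ← CommRingCat.ofHom_comp, ψ_ι]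
  refine ⟨⟨w⟩, ⟨PushoutCocone.IsColimit.mk w
    (fun s => CommRingCat.ofHom (wd f b s.inl.hom s.inr.hom))
    ?_ ?_ ?_⟩⟩
  · intro s
    ext r
    simp [wd]
  · intro s
    ext1
    have hc : ∀ a, s.inl.hom (φ a) = s.inr.hom (ιB f a) := fun a =>
      congrArg (fun k => k.hom a) s.condition
    exact wd_comp_ψ f φ b hb s.inl.hom s.inr.hom hc
  · intro s m h1 h2
    ext1
    apply MvPolynomial.ringHom_ext
    · intro r
      have := congrArg (fun k => k.hom r) h1
      simpa [wd] using this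
    · intro i
      have e2 : ∀ x, m.hom (ψ f φ b hb x) = s.inr.hom x := fun x =>
        congrArg (fun k => k.hom x) h2
      have e1 : ∀ r, m.hom (C r) = s.inl.hom r := fun r =>
        congrArg (fun k => k.hom r) h1
      have e3 : wd f b s.inl.hom s.inr.hom (X i) = s.inr.hom (aB f i) - s.inl.hom (b i)
          + s.inr.hom (tB f) * s.inl.hom (b i) := by
        simp [wd]
      change m.hom (X i) = wd f b s.inl.hom s.inr.hom (X i)
      rw [e3, X_eq f φ b hb i, map_add, map_sub, map_mul, e2, e2, e1]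

end ring

section scheme
open CategoryTheory.Limits AffineSpace

lemma isPullback_of_comp_mono {C : Type*} [Category C] {P X Y W Z : C} {fst : P ⟶ X}
    {snd : P ⟶ Y} {f : X ⟶ W} {g : Y ⟶ W} (i : W ⟶ Z) [Mono i]
    (h : IsPullback fst snd (f ≫ i) (g ≫ i)) : IsPullback fst snd f g := by
  have w : fst ≫ f = snd ≫ g := by
    rw [← cancel_mono i, Category.assoc, Category.assoc, h.w]
  refine ⟨⟨w⟩, ⟨PullbackCone.IsLimit.mk w
    (fun s => h.lift s.fst s.snd (by rw [reassoc_of% s.condition]))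
    (fun s => h.lift_fst _ _ _) (fun s => h.lift_snd _ _ _)
    (fun s m h1 h2 => h.hom_ext (by rw [h1, h.lift_fst]) (by rw [h2, h.lift_snd]))⟩⟩

lemma spec_case {X : Scheme.{u}} {A : CommRingCat.{u}} (j : X ⟶ Spec A) [Mono j]
    {σ : Type u} [Fintype σ] (f : σ → A)
    (hj : Set.range j.base = (PrimeSpectrum.zeroLocus (Set.range f))ᶜ)
    (p : Spec (CommRingCat.of (JB f)) ⟶ X)
    (hp : p ≫ j = Spec.map (CommRingCat.ofHom (ιB f)))
    (R : CommRingCat.{u}) (g : Spec R ⟶ X) :
    ∃ e : pullback g p ≅ 𝔸(σ; Spec R),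
      e.hom ≫ (𝔸(σ; Spec R) ↘ Spec R) = pullback.fst g p := by
  let φ : A ⟶ R := Spec.preimage (g ≫ j)
  have hφ : Spec.map φ = g ≫ j := Spec.map_preimage _
  have htop : Ideal.span (Set.range (fun i => φ.hom (f i))) = ⊤ := by
    by_contra hne
    obtain ⟨M, hM, hle⟩ := Ideal.exists_le_maximal _ hne
    let x : Spec R := ⟨M, hM.isPrime⟩
    have hx : (Spec.map φ).base x ∈ Set.range j.base := by
      rw [hφ]
      exact ⟨g.base x, rfl⟩
    rw [hj] at hx
    apply hx
    rintro _ ⟨i, rfl⟩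
    change φ.hom (f i) ∈ M
    exact hle (Ideal.subset_span ⟨i, rfl⟩)
  have h1 : (1 : R) ∈ Ideal.span (Set.range (fun i => φ.hom (f i))) := by
    rw [htop]; trivial
  obtain ⟨b, hb⟩ := (Ideal.mem_span_range_iff_exists_fun).mp h1
  have hpo := isPushout f φ.hom b hb
  have hpb := isPullback_SpecMap_of_isPushout _ _ _ _ hpo
  rw [← hp] at hpb
  have hφ' : Spec.map (CommRingCat.ofHom φ.hom) = g ≫ j := hφ
  rw [hφ'] at hpb
  have hpb' := isPullback_of_comp_mono j hpb
  refine ⟨hpb'.isoPullback.symm ≪≫ (SpecIso σ R).symm, ?_⟩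
  simp only [Iso.trans_hom, Iso.symm_hom, Category.assoc]
  rw [SpecIso_inv_over, hpb'.isoPullback_inv_fst]

lemma transport {X T : Scheme.{u}} (p : T ⟶ X) (σ : Type u) {X' X'' : Scheme.{u}}
    (ι : X' ≅ X'') (g : X' ⟶ X)
    (h : ∃ e : pullback (ι.inv ≫ g) p ≅ 𝔸(σ; X''),
      e.hom ≫ (𝔸(σ; X'') ↘ X'') = pullback.fst (ι.inv ≫ g) p) :
    ∃ e : pullback g p ≅ 𝔸(σ; X'), e.hom ≫ (𝔸(σ; X') ↘ X') = pullback.fst g p := by
  obtain ⟨e', he'⟩ := h
  let α : pullback g p ≅ pullback (ι.inv ≫ g) p :=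
    asIso (pullback.map g p (ι.inv ≫ g) p ι.hom (𝟙 T) (𝟙 X) (by simp) (by simp))
  let β : 𝔸(σ; X') ≅ 𝔸(σ; X'') :=
    ⟨AffineSpace.map σ ι.hom, AffineSpace.map σ ι.inv,
      by rw [← map_comp, ι.hom_inv_id, map_id], by rw [← map_comp, ι.inv_hom_id, map_id]⟩
  refine ⟨α ≪≫ e' ≪≫ β.symm, ?_⟩
  simp only [Iso.trans_hom, Iso.symm_hom, Category.assoc]
  change α.hom ≫ e'.hom ≫ AffineSpace.map σ ι.inv ≫ _ = _
  rw [map_over, reassoc_of% he']
  have hα : α.hom ≫ pullback.fst (ι.inv ≫ g) p = pullback.fst g p ≫ ι.hom :=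
    pullback.lift_fst _ _ _
  rw [reassoc_of% hα, ι.hom_inv_id, Category.comp_id]

end scheme

/-- A quasi-affine scheme X admits a morphism from an affine scheme T which, after base change to any
affine scheme over X, becomes isomorphic over that affine scheme to an affine space of fixed
dimension n. -/
theorem result (X : Scheme.{u}) [X.IsQuasiAffine] :
    ∃ (n : ℕ) (T : Scheme.{u}) (_ : IsAffine T) (p : T ⟶ X),
      ∀ (X' : Scheme.{u}) [IsAffine X'] (g : X' ⟶ X),
        ∃ e : Limits.pullback g p ≅ 𝔸(ULift.{u} (Fin n); X'),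
          e.hom ≫ (𝔸(ULift.{u} (Fin n); X') ↘ X') = Limits.pullback.fst g p := by
  classical
  let A : CommRingCat.{u} := Γ(X, ⊤)
  let j : X ⟶ Spec A := X.toSpecΓ
  have hopen : IsOpen (Set.range j.base) := j.isOpenEmbedding.isOpen_range
  have hcpt : IsCompact (Set.range j.base) := isCompact_range j.continuous
  obtain ⟨t, ht⟩ := PrimeSpectrum.isCompact_isOpen_iff.mp ⟨hcpt, hopen⟩
  let fe : ULift.{u} (Fin t.card) ≃ t := Equiv.ulift.trans t.equivFin.symm
  let f : ULift.{u} (Fin t.card) → A := fun i => (fe i : A)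
  have hf : Set.range f = (t : Set A) := by
    ext a
    constructor
    · rintro ⟨i, rfl⟩
      exact (fe i).2
    · intro ha
      exact ⟨fe.symm ⟨a, ha⟩, by simp [f]⟩
  have hj : Set.range j.base = (PrimeSpectrum.zeroLocus (Set.range f))ᶜ := by
    rw [hf, ht]
  have hrange : Set.range (Spec.map (CommRingCat.ofHom (ιB f))).base ⊆ Set.range j.base := by
    rintro _ ⟨q, rfl⟩
    rw [hj]
    intro hq
    have h1 : ∀ i, ιB f (f i) ∈ q.asIdeal := fun i => hq ⟨i, rfl⟩
    have h2 : (1 : JB f) ∈ q.asIdeal := by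
      rw [← relB f]
      exact Ideal.sum_mem _ fun i _ => Ideal.mul_mem_left _ _ (h1 i)
    exact q.isPrime.ne_top ((Ideal.eq_top_iff_one _).mpr h2)
  let p : Spec (CommRingCat.of (JB f)) ⟶ X :=
    IsOpenImmersion.lift j (Spec.map (CommRingCat.ofHom (ιB f))) hrange
  have hp : p ≫ j = Spec.map (CommRingCat.ofHom (ιB f)) := IsOpenImmersion.lift_fac _ _ _
  refine ⟨t.card, Spec (CommRingCat.of (JB f)), inferInstance, p, ?_⟩
  intro X' _ g
  exact transport p _ X'.isoSpec g (spec_case j f hj p hp _ _)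

end Groth.Agent.S9803
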