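import Groth.Statements.S9804
import Mathlib.AlgebraicGeometry.QuasiAffine
-- import your own Groth.Agent.* helpers here

set_option autoImplicit false
universe u
open CategoryTheory AlgebraicGeometry TopologicalSpace
open Props

namespace Groth.Agent.S9804

theorem basicOpen_subset_range_toSpecΓ (X : Scheme.{u}) [CompactSpace X] [QuasiSeparatedSpace X]
    (r : Γ(X, ⊤)) (hr : IsAffineOpen (X.basicOpen r)) :
    (PrimeSpectrum.basicOpen r : Set (PrimeSpectrum Γ(X, ⊤))) ⊆ Set.range X.toSpecΓ := by
  have hloc : IsLocalization.Away r Γ(X, X.basicOpen r) :=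
    isLocalization_basicOpen_of_qcqs isCompact_univ isQuasiSeparated_univ r
  have hrange := PrimeSpectrum.localization_away_comap_range Γ(X, X.basicOpen r) r
  intro q hq
  rw [← hrange] at hq
  obtain ⟨q', hq'⟩ := hq
  have heq := Scheme.Opens.toSpecΓ_SpecMap_presheaf_map_top (X.basicOpen r)
  let q'' : ↥(Spec Γ(X, X.basicOpen r)) := q'
  let y := hr.isoSpec.inv q''
  have hy : (X.basicOpen r).toSpecΓ y = q'' := by
    change (hr.isoSpec.inv ≫ hr.isoSpec.hom) q'' = q''
    rw [Iso.inv_hom_id]; rfl
  refine ⟨(X.basicOpen r).ι y, ?_⟩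
  rw [← Scheme.Hom.comp_apply, ← heq, Scheme.Hom.comp_apply, hy]
  exact hq'


/-- For quasi-affine schemes U and V and an open immersion j : U → V, the scheme U is the fibre product
of the composite U → V → Spec Γ(V, O_V) and the morphism Spec Γ(U, O_U) → Spec Γ(V, O_V) induced by
restriction of sections along j: the square whose sides are the identity of U, the canonical
morphism U → Spec Γ(U, O_U), that composite and that induced morphism is cartesian. -/
theorem result {U V : Scheme.{u}} (j : U ⟶ V)
    [IsOpenImmersion j] [U.IsQuasiAffine] [V.IsQuasiAffine] :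
    IsPullback (𝟙 U) U.toSpecΓ (j ≫ V.toSpecΓ) (Spec.map j.appTop) := by
  apply IsOpenImmersion.isPullback
  · rw [Category.id_comp, Scheme.toSpecΓ_naturality]
  · apply le_antisymm
    · rintro q ⟨u, hu⟩
      -- hu : (j ≫ V.toSpecΓ) u = Spec.map j.appTop q
      obtain ⟨_, ⟨_, ⟨a, ha, rfl⟩, rfl⟩, hja, haU⟩ :=
        (Scheme.IsQuasiAffine.isBasis_basicOpen V).exists_subset_of_mem_open
          (show j u ∈ (j.opensRange : Set V) from ⟨u, rfl⟩) j.opensRange.2
      have hpre : U.basicOpen (j.appTop a) = j ⁻¹ᵁ V.basicOpen a :=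
        (Scheme.preimage_basicOpen_top j a).symm
      have haff : IsAffineOpen (U.basicOpen (j.appTop a)) := by
        rw [hpre, ← Scheme.Hom.isAffineOpen_iff_of_isOpenImmersion j]
        convert ha
        exact SetLike.coe_injective (Set.image_preimage_eq_of_subset haU)
      have hq : q ∈ (PrimeSpectrum.basicOpen (j.appTop a) : Set (PrimeSpectrum Γ(U, ⊤))) := by
        have h1 : (j ≫ V.toSpecΓ) u ∈ (PrimeSpectrum.basicOpen a : Set (PrimeSpectrum Γ(V, ⊤))) := by
          have : j u ∈ V.toSpecΓ ⁻¹ᵁ PrimeSpectrum.basicOpen a := by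
            rw [Scheme.toSpecΓ_preimage_basicOpen]; exact hja
          exact this
        rw [hu] at h1
        exact h1
      exact basicOpen_subset_range_toSpecΓ U _ haff hq
    · rintro _ ⟨u, rfl⟩
      refine ⟨u, ?_⟩
      rw [← Scheme.Hom.comp_apply, Scheme.toSpecΓ_naturality]

end Groth.Agent.S9804
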