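import Groth.Statements.S9807
import Groth.Agent.Lib.Helper49.StalkLoc
-- import your own Groth.Agent.* helpers here

set_option autoImplicit false
universe u
open CategoryTheory AlgebraicGeometry TopologicalSpace
open Props

namespace Groth.Agent.S9807

/-- A locally Noetherian scheme is regular (all local rings regular) as soon as its local rings at
closed points are regular, and conversely. -/
theorem result (X : Scheme.{u}) [IsLocallyNoetherian X] :
    (∀ x : X, IsRegularLocalRing (X.presheaf.stalk x)) ↔
      ∀ x : X, IsClosed ({x} : Set X) → IsRegularLocalRing (X.presheaf.stalk x) := by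
  refine ⟨fun h x _ => h x, fun h x => ?_⟩
  refine Groth.Agent.Lib.Helper49.StalkLoc.forall_stalk_of_closedPoints X
    (fun R _ => IsRegularLocalRing R) ?_ ?_ h x
  · intro R R' _ _ e hR
    exact IsRegularLocalRing.of_ringEquiv (R := R) e
  · intro A _ _ p q _ _ hpq hq
    exact Groth.Agent.S2661.isRegularLocalRing_of_le p q hpq hq

end Groth.Agent.S9807
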