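import Groth.Statements.S9808
import Groth.Agent.Lib.Helper49.StalkLoc
-- import your own Groth.Agent.* helpers here

set_option autoImplicit false
universe u
open CategoryTheory AlgebraicGeometry TopologicalSpace
open Props

namespace Groth.Agent.S9808

/-- A locally Noetherian scheme is Cohen-Macaulay (all local rings Cohen-Macaulay) as soon as its local
rings at closed points are Cohen-Macaulay, and conversely. -/
theorem result (X : Scheme.{u}) [IsLocallyNoetherian X] :
    (∀ x : X, LocCoh.IsCohenMacaulayLocalRing (X.presheaf.stalk x)) ↔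
      ∀ x : X, IsClosed ({x} : Set X) → LocCoh.IsCohenMacaulayLocalRing (X.presheaf.stalk x) := by
  refine ⟨fun h x _ => h x, fun h x => ?_⟩
  refine Groth.Agent.Lib.Helper49.StalkLoc.forall_stalk_of_closedPoints X
    (fun R _ => LocCoh.IsCohenMacaulayLocalRing R) ?_ ?_ h x
  · intro R R' _ _ e hR
    exact Groth.Agent.Lib.Helper49.StalkLoc.isCohenMacaulayLocalRing_of_ringEquiv e hR
  · intro A _ _ p q _ _ hpq hq
    refine Groth.Agent.Lib.Helper49.StalkLoc.of_le_of_localization
      (fun R _ => LocCoh.IsCohenMacaulayLocalRing R) ?_ ?_ A p q hpq hq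
    · intro R R' _ _ e hR
      exact Groth.Agent.Lib.Helper49.StalkLoc.isCohenMacaulayLocalRing_of_ringEquiv e hR
    · intro R _ _ _ p _ hR
      exact Groth.Agent.Lib.Helper49.StalkLoc.isCohenMacaulayLocalRing_localization R p

end Groth.Agent.S9808
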