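import Groth.Statements.S9809
import Groth.Agent.Lib.Helper37.Hz75
import Groth.Agent.Lib.Helper91.GenPrime2
import Groth.Agent.Lib.Helper69.GUTransport

set_option autoImplicit false
universe u
open CategoryTheory AlgebraicGeometry TopologicalSpace
open Props

namespace Groth.Agent.S9809

section Helpers

open Groth.Agent.Lib.Helper91.GenPrime IsLocalRing

variable {X : Scheme.{u}}

/-- The point of `Spec O_{X,x}` given by the prime of a generization maps to that generization. -/
theorem fromSpecStalk_primeOf {ζ x : X} (h : ζ ⤳ x) :
    (X.fromSpecStalk x) (⟨primeOf h, inferInstance⟩ : PrimeSpectrum (X.presheaf.stalk x)) = ζ := by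
  have h1 := Scheme.SpecMap_stalkSpecializes_fromSpecStalk h
  have h2 : (X.fromSpecStalk x) (Spec.map (X.presheaf.stalkSpecializes h)
      (IsLocalRing.closedPoint _)) = ζ := by
    rw [← Scheme.Hom.comp_apply, h1, Scheme.fromSpecStalk_closedPoint]
  exact h2

theorem primeOf_eq_maximalIdeal_iff {ζ x : X} (h : ζ ⤳ x) :
    primeOf h = maximalIdeal (X.presheaf.stalk x) ↔ ζ = x := by
  constructor
  · intro he
    have h1 := fromSpecStalk_primeOf h
    have h2 : (⟨primeOf h, inferInstance⟩ : PrimeSpectrum (X.presheaf.stalk x)) =
        IsLocalRing.closedPoint (X.presheaf.stalk x) := PrimeSpectrum.ext he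
    rw [h2, Scheme.fromSpecStalk_closedPoint] at h1
    exact h1.symm
  · intro he
    subst he
    unfold primeOf
    have : X.presheaf.stalkSpecializes h = 𝟙 _ := X.presheaf.stalkSpecializes_refl ζ
    rw [this]
    rfl

theorem closure_mem_irreducibleComponents_iff (x : X) :
    closure ({x} : Set X) ∈ irreducibleComponents X ↔
      maximalIdeal (X.presheaf.stalk x) ∈ minimalPrimes (X.presheaf.stalk x) := by
  constructor
  · intro hx
    have hmax : ∀ ξ' : X, ξ' ⤳ x → ξ' = x := by
      intro ξ' h
      have h1 : closure {x} ⊆ closure {ξ'} := h.closure_subset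
      have h2 : IsIrreducible (closure ({ξ'} : Set X)) := isIrreducible_singleton.closure
      have h3 : closure {ξ'} ⊆ closure ({x} : Set X) := by
        have hmax : Maximal IsIrreducible (closure ({x} : Set X)) := hx
        exact hmax.2 h2 h1
      have h4 : closure ({ξ'} : Set X) = closure {x} := le_antisymm h3 h1
      have : IsGenericPoint ξ' (closure {x}) := h4
      exact this.eq rfl
    refine ⟨⟨inferInstance, bot_le⟩, fun q hq hle => ?_⟩
    haveI : q.IsPrime := hq.1
    obtain ⟨ζ, h, rfl⟩ := exists_specializes_primeOf_eq x q
    have := hmax ζ h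
    rw [(primeOf_eq_maximalIdeal_iff h).mpr this]
  · intro hm
    have hmax : ∀ ξ' : X, ξ' ⤳ x → ξ' = x := by
      intro ξ' h
      rw [← primeOf_eq_maximalIdeal_iff h]
      have hle : primeOf h ≤ maximalIdeal (X.presheaf.stalk x) :=
        le_maximalIdeal (Ideal.IsPrime.ne_top inferInstance)
      exact le_antisymm hle (hm.2 ⟨inferInstance, bot_le⟩ hle)
    let Z : irreducibleComponents X :=
      ⟨irreducibleComponent x, irreducibleComponent_mem_irreducibleComponents x⟩
    have hg := genericPoints.isGenericPoint_ofComponent Z
    have hξZ : x ∈ (Z : Set X) := mem_irreducibleComponent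
    have hsp : (genericPoints.ofComponent Z).1 ⤳ x := by
      rw [specializes_iff_mem_closure, hg.def]
      exact hξZ
    have := hmax _ hsp
    rw [← this]
    exact (genericPoints.ofComponent Z).2

end Helpers

/-- A Noetherian scheme is geometrically unibranch (all local rings geometrically unibranch) if and only
if at every point which is not the generic point of an irreducible component, the punctured spectrum
of a strict henselization of the local ring is connected. -/
theorem result
    (X : Scheme.{u}) [IsNoetherian X] :
    (∀ x : X, CAlg2.IsGeomUnibranch (X.presheaf.stalk x)) ↔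
      ∀ (x : X), closure ({x} : Set X) ∉ irreducibleComponents X →
        ∀ (Ash : Type u) [CommRing Ash] [IsLocalRing Ash] [Algebra (X.presheaf.stalk x) Ash]
          [IsLocalHom (algebraMap (X.presheaf.stalk x) Ash)]
          [Hensel.IsStrictHenselization (X.presheaf.stalk x) Ash],
          ConnectedSpace ↥({IsLocalRing.closedPoint Ash}ᶜ : Set (PrimeSpectrum Ash)) := by
  constructor
  · intro h x hx Ash _ _ _ _ _
    have hm : IsLocalRing.maximalIdeal (X.presheaf.stalk x) ∉ minimalPrimes (X.presheaf.stalk x) :=
      fun hm => hx ((closure_mem_irreducibleComponents_iff x).mpr hm)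
    have hnil : (nilradical Ash).IsPrime :=
      (Groth.Agent.Lib.Helper37.Hz.Unibranch.isGeomUnibranch_iff_nilradical_isPrime _ Ash).mp (h x)
    exact Groth.Agent.Lib.Helper37.Hz.PunctConn.connectedSpace_of_nilradical_isPrime _ Ash hnil hm
  · intro H
    have key : ∀ (n : ℕ∞) (x : X), (IsLocalRing.maximalIdeal (X.presheaf.stalk x)).height = n →
        CAlg2.IsGeomUnibranch (X.presheaf.stalk x) := by
      intro n
      induction n using WellFoundedLT.induction with
      | ind n ih =>
      intro x hxn
      rw [Groth.Agent.Lib.Helper37.Hz.Unibranch.isGeomUnibranch_iff_nilradical_isPrime _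
        (Groth.Agent.Lib.Helper37.Hz.SHens (X.presheaf.stalk x))]
      refine Groth.Agent.Lib.Helper37.Hz.PunctConn.nilradical_isPrime_of_isPreconnected
        (X.presheaf.stalk x) (Groth.Agent.Lib.Helper37.Hz.SHens (X.presheaf.stalk x)) ?_ ?_
      · intro q _ hq
        obtain ⟨ζ, h, rfl⟩ := Groth.Agent.Lib.Helper91.GenPrime.exists_specializes_primeOf_eq x q
        letI := (X.presheaf.stalkSpecializes h).hom.toAlgebra
        haveI := Groth.Agent.Lib.Helper91.GenPrime.isLocalization_stalkSpecializes h
        have hlt : (IsLocalRing.maximalIdeal (X.presheaf.stalk ζ)).height < n := by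
          have e1 : ((IsLocalRing.maximalIdeal (X.presheaf.stalk ζ)).height : WithBot ℕ∞) =
              ((Groth.Agent.Lib.Helper91.GenPrime.primeOf h).height : WithBot ℕ∞) := by
            rw [IsLocalRing.maximalIdeal_height_eq_ringKrullDim,
              Groth.Agent.Lib.Helper91.GenPrime.ringKrullDim_stalk_eq_height h]
          rw [WithBot.coe_injective e1, ← hxn]
          refine Ideal.height_strict_mono_of_isPrime_of_isPrime (lt_of_le_of_ne ?_ hq)
          exact IsLocalRing.le_maximalIdeal (Ideal.IsPrime.ne_top inferInstance)
        have hζ := ih _ hlt ζ rfl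
        exact Groth.Agent.Lib.Helper69.GUTransport.isGeomUnibranch_of_ringEquiv
          (IsLocalization.algEquiv (Groth.Agent.Lib.Helper91.GenPrime.primeOf h).primeCompl
            (X.presheaf.stalk ζ)
            (Localization.AtPrime (Groth.Agent.Lib.Helper91.GenPrime.primeOf h))).toRingEquiv hζ
      · intro hm
        have hx : closure ({x} : Set X) ∉ irreducibleComponents X :=
          fun hx => hm ((closure_mem_irreducibleComponents_iff x).mp hx)
        have := H x hx (Groth.Agent.Lib.Helper37.Hz.SHens (X.presheaf.stalk x))
        exact isPreconnected_iff_preconnectedSpace.mpr this.toPreconnectedSpace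
    exact fun x => key _ x rfl

end Groth.Agent.S9809
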