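import Groth.Statements.S9817
import Groth.Agent.Lib.Helper56.RelAmpleA
import Groth.Agent.Lib.Proj.TwistAmple
import Groth.Agent.Lib.Proj.TwistTriv
import Groth.Agent.Lib.Helper18.ProjBasic

set_option autoImplicit false
set_option maxHeartbeats 400000
universe u
open CategoryTheory CategoryTheory.Limits AlgebraicGeometry TopologicalSpace
open Props

namespace Groth.Agent.S9817

open Groth.Agent.Lib.Proj Groth.Agent.Lib.Ample Groth.Agent.Lib.QCoh
open Groth.Agent.Lib.Helper56.RelAmple Twist Scheme.Modules Opposite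

section
variable {R A : Type u} [CommRing R] [CommRing A] [Algebra R A] {𝒜 : ℕ → Submodule R A}
  [GradedAlgebra 𝒜]

/-- pointwise version of `genLocus_sectHom`: where `O(i)` has a unit fraction, the generating locus
of `a / 1` lies in `D₊(a)`. -/
theorem mem_basicOpen_of_mem_genLocus_sectHom {i : ℕ} (a : 𝒜 i) (x : Proj 𝒜)
    (hx : x ∈ CohB1.genLocus (twist 𝒜 (i : ℤ)) (sectHom a))
    (hm : ∃ (k j : ℕ) (b : 𝒜 k) (c : 𝒜 j),
      x ∈ Proj.basicOpen 𝒜 b.1 ∧ x ∈ Proj.basicOpen 𝒜 c.1 ∧ (i : ℤ) + j = k) :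
    x ∈ Proj.basicOpen 𝒜 a.1 := by
  by_contra hxa
  have hxa' : a.1 ∈ x.asHomogeneousIdeal := by
    by_contra h
    exact hxa h
  obtain ⟨k, j, b, c, hxb, hxc, hdeg⟩ := hm
  set W : (Proj 𝒜).Opens := CohB1.genLocus (twist 𝒜 (i : ℤ)) (sectHom a) ⊓
    (Proj.basicOpen 𝒜 b.1 ⊓ Proj.basicOpen 𝒜 c.1) with hW
  have hxW : x ∈ W := ⟨hx, hxb, hxc⟩
  have hbij : Function.Bijective ((sectHom a).app W) :=
    (Groth.Agent.Lib.Ample.le_genLocus_iff' _ (sectHom a) _).1 le_rfl W inf_le_left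
  let u : Sec 𝒜 (i : ℤ) (op W) :=
    mulFracSect (op W) b c (fun y => y.2.2.2) 0 i (by omega)
      (toTwistZeroSect (op W) (1 : O (𝒜 := 𝒜) (op W)))
  obtain ⟨r, hr⟩ := hbij.2 u
  have h1 := congrArg (fun t : Sec 𝒜 (i : ℤ) (op W) => val t ⟨x, hxW⟩) hr
  simp only at h1
  have h2 : val u ⟨x, hxW⟩ = frac x b.1 c.1 hxc := by
    change frac x b.1 c.1 _ * (1 : A0 𝒜 x).val = _
    rw [HomogeneousLocalization.val_one, mul_one]
  rw [h2] at h1
  exact frac_ne_mul_of_mem x hxa' hxb hxc _ h1.symm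

end

/-- For a quasi-compact scheme X admitting an open immersion j into Proj of a graded ring, some positive
twist O(d) pulls back along j to an ample invertible module on X. -/
theorem result {R A : Type u} [CommRing R] [CommRing A]
    [Algebra R A] (𝒜 : ℕ → Submodule R A) [GradedAlgebra 𝒜] (X : Scheme.{u}) [CompactSpace X]
    (j : X ⟶ Proj 𝒜) [IsOpenImmersion j] :
    ∃ d : ℕ, 0 < d ∧ CohB1.IsAmple ((Scheme.Modules.pullback j).obj (Twist.twist 𝒜 (d : ℤ))) := by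
  classical
  have h1 : ∀ x : X, ∃ (i : ℕ) (_ : 0 < i) (a : A) (_ : a ∈ 𝒜 i),
      j x ∈ Proj.basicOpen 𝒜 a ∧ Proj.basicOpen 𝒜 a ≤ j.opensRange := fun x =>
    Groth.Agent.Lib.Helper18.ProjBasic.exists_pos_homogeneous_basicOpen_le 𝒜 (j x) j.opensRange
      ⟨x, rfl⟩
  choose i hi a ha hxa hle using h1
  obtain ⟨t, ht⟩ := isCompact_univ.elim_finite_subcover
    (fun x : X => ((j ⁻¹ᵁ Proj.basicOpen 𝒜 (a x) : X.Opens) : Set X))
    (fun x => (j ⁻¹ᵁ Proj.basicOpen 𝒜 (a x)).isOpen)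
    (fun x _ => Set.mem_iUnion.mpr ⟨x, hxa x⟩)
  obtain ⟨d, hddef⟩ : ∃ d : ℕ, d = ∏ x ∈ t, i x := ⟨_, rfl⟩
  have hd : 0 < d := by rw [hddef]; exact Finset.prod_pos fun x _ => hi x
  have hdvd : ∀ x ∈ t, i x ∣ d := fun x hx => by rw [hddef]; exact Finset.dvd_prod_of_mem i hx
  have hb : ∀ x ∈ t, (a x) ^ (d / i x) ∈ 𝒜 d := by
    intro x hx
    have h := SetLike.pow_mem_graded (d / i x) (ha x)
    rwa [smul_eq_mul, Nat.div_mul_cancel (hdvd x hx)] at h
  have hbo : ∀ x ∈ t, Proj.basicOpen 𝒜 ((a x) ^ (d / i x)) = Proj.basicOpen 𝒜 (a x) :=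
    fun x hx => Proj.basicOpen_pow 𝒜 _ _
      (Nat.div_pos (Nat.le_of_dvd hd (hdvd x hx)) (hi x))
  have hcov : ∀ y : X, ∃ x ∈ t, j y ∈ Proj.basicOpen 𝒜 (a x) := by
    intro y
    have h := ht (Set.mem_univ y)
    simp only [Set.mem_iUnion] at h
    obtain ⟨x, hx, hy⟩ := h
    exact ⟨x, hx, hy⟩
  refine ⟨d, hd, ?_⟩
  refine isAmple_of_iso ((restrictFunctorIsoPullback j).app (twist 𝒜 (d : ℤ))) ?_
  refine ⟨?_, inferInstance, fun y => ?_⟩
  · intro y
    obtain ⟨x, hx, hy⟩ := hcov y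
    have h2 := nonempty_twist_mul_restrict_iso_unit' (⟨_, hb x hx⟩ : 𝒜 d) 1
      (Proj.basicOpen 𝒜 (a x)) (by rw [hbo x hx])
    simp only [one_mul] at h2
    obtain ⟨e⟩ := h2
    refine ⟨j ⁻¹ᵁ Proj.basicOpen 𝒜 (a x), hy, ⟨?_⟩⟩
    exact restrictRestrictIso j _ _ ≪≫ (restrictFunctor (j ∣_ _)).mapIso e ≪≫ restrictUnitIso _
  · obtain ⟨x, hx, hy⟩ := hcov y
    obtain ⟨b, hbdef⟩ : ∃ b : 𝒜 d, b.1 = (a x) ^ (d / i x) := ⟨⟨_, hb x hx⟩, rfl⟩
    have hbb : Proj.basicOpen 𝒜 b.1 = Proj.basicOpen 𝒜 (a x) := by rw [hbdef]; exact hbo x hx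
    have hgl : CohB1.genLocus _ (restrictSecHom j (sectHom b)) =
        j ⁻¹ᵁ Proj.basicOpen 𝒜 (a x) := by
      rw [genLocus_restrictSecHom]
      apply le_antisymm
      · intro z hz
        obtain ⟨x', hx', hz'⟩ := hcov z
        have h3 := mem_basicOpen_of_mem_genLocus_sectHom b (j z) hz
          ⟨d, 0, ⟨_, hb x' hx'⟩, one0 𝒜, by
            change j z ∈ Proj.basicOpen 𝒜 ((a x') ^ (d / i x'))
            rw [hbo x' hx']; exact hz', by
            change j z ∈ Proj.basicOpen 𝒜 1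
            rw [Proj.basicOpen_one]; trivial, by simp⟩
        rw [hbb] at h3
        exact h3
      · intro z hz
        have h3 : j z ∈ Proj.basicOpen 𝒜 b.1 := by rw [hbb]; exact hz
        exact ((Groth.Agent.Lib.Ample.le_genLocus_iff' _ (sectHom b) _).2
          (fun V hV => sectHom_app_bijective b V hV)) h3
    refine ⟨0, restrictSecHom j (sectHom b) ≫ (tensorPowOneIso _).symm.hom, ?_, ?_⟩
    · rw [genLocus_comp_iso, hgl]; exact hy
    · rw [genLocus_comp_iso, hgl, ← Scheme.Hom.isAffineOpen_iff_of_isOpenImmersion j,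
        Scheme.Hom.image_preimage_eq_opensRange_inf, inf_eq_right.mpr (hle x)]
      exact Proj.isAffineOpen_basicOpen 𝒜 (a x) (ha x) (hi x)

end Groth.Agent.S9817
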