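import Groth.Statements.S9818
import Groth.Agent.Lib.QCoh.Helper50_ExtendOpen

set_option autoImplicit false
universe u
open CategoryTheory CategoryTheory.Limits AlgebraicGeometry TopologicalSpace Opposite
open Props

namespace Groth.Agent.S9818

/-- For an open subscheme U of a scheme X with quasi-compact inclusion, a quasi-coherent module G on U
with a map to the restriction of a quasi-coherent module F on X extends to a quasi-coherent module H
on X with a map to F restricting to the given one. Taking F = 0, every quasi-coherent module on U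
extends to a quasi-coherent module on X. -/
theorem result {X : Scheme.{u}} (U : X.Opens) [QuasiCompact U.ι]
    (F : X.Modules) [Coh.IsQCoh F] (G : (U : Scheme.{u}).Modules) [Coh.IsQCoh G] (φ : G ⟶ F.restrict U.ι) :
    ∃ (H : X.Modules) (ψ : H ⟶ F) (e : H.restrict U.ι ≅ G), Coh.IsQCoh H ∧
      e.hom ≫ φ = (Scheme.Modules.restrictFunctor U.ι).map ψ := by
  have hF : F.IsQuasicoherent := ‹Coh.IsQCoh F›
  have hG : G.IsQuasicoherent := ‹Coh.IsQCoh G›
  exact ⟨Groth.Agent.Lib.QCoh.ExtendOpen.ext U F G φ, Groth.Agent.Lib.QCoh.ExtendOpen.extFst U F G φ,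
    Groth.Agent.Lib.QCoh.ExtendOpen.extIso U F G φ,
    Groth.Agent.Lib.QCoh.ExtendOpen.isQuasicoherent_ext U F G φ,
    Groth.Agent.Lib.QCoh.ExtendOpen.extIso_hom_comp U F G φ⟩

end Groth.Agent.S9818
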