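import Groth.Statements.S9820
import Groth.Agent.Lib.QCoh.Helper50_FPExtF

set_option autoImplicit false
universe u
open CategoryTheory CategoryTheory.Limits AlgebraicGeometry TopologicalSpace Opposite
open Props

namespace Groth.Agent.S9820

/-- On a quasi-compact quasi-separated scheme, a quasi-coherent module of finite type which is of finite
presentation over a quasi-compact open U is the quotient of a module of finite presentation by a
surjection which is an isomorphism over U. -/
theorem result {X : Scheme.{u}} [CompactSpace X]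
    [QuasiSeparatedSpace X] (F : X.Modules) [Coh.IsQCoh F] (hF : CohB1.IsFT F) (U : X.Opens)
    (hU : IsCompact (U : Set X)) (hFU : CohB1.IsFP (F.restrict U.ι)) :
    ∃ (G : X.Modules) (φ : G ⟶ F), CohB1.IsFP G ∧ Epi φ ∧
      IsIso ((Scheme.Modules.restrictFunctor U.ι).map φ) := by
  have hF' : F.IsFiniteType := hF
  have hFU : (F.restrict U.ι).IsFinitePresentation := hFU
  obtain ⟨G, φ, hG, hepi, hbij⟩ := Groth.Agent.Lib.QCoh.FPExt.exists_fp_epi_iso_on F U hU
    (fun A hA hAU => Groth.Agent.Lib.QCoh.FPExt.fp_sections_of_isFP_restrict F U hA hAU)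
  exact ⟨G, φ, hG, hepi, Groth.Agent.Lib.QCoh.FPExt.isIso_restrict_of_bijective φ U hbij⟩

end Groth.Agent.S9820
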