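import Groth.Statements.S9821
import Groth.Agent.Lib.Helper49.StalkLoc
-- import your own Groth.Agent.* helpers here

set_option autoImplicit false
universe u
open CategoryTheory CategoryTheory.Limits AlgebraicGeometry TopologicalSpace Opposite
open Props

namespace Groth.Agent.S9821

open AlgebraicGeometry in
theorem exists_primeIdealOf_eq {X : Scheme.{u}} {U : X.Opens} (hU : IsAffineOpen U)
    (p : PrimeSpectrum Γ(X, U)) : ∃ x : U, hU.primeIdealOf x = p := by
  let p' : Spec Γ(X, U) := p
  refine ⟨hU.isoSpec.inv p', ?_⟩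
  have : hU.isoSpec.hom (hU.isoSpec.inv p') = p' := by
    rw [← Scheme.Hom.comp_apply, Iso.inv_hom_id]
    rfl
  exact this

theorem key_eq {A : Type u} [CommRing A] (p p' : Ideal A) [p.IsPrime] [p'.IsPrime] (h : p' = p)
    (hr : IsIntegrallyClosed (Localization.AtPrime p')) :
    IsIntegrallyClosed (Localization.AtPrime p) := by
  subst h
  exact hr


/-- An integral scheme is normal if and only if the coordinate ring of every nonempty affine open is an
integrally closed domain. -/
theorem result (X : Scheme.{u}) [IsIntegral X] :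
    Pi1.IsNormalScheme X ↔ ∀ (U : X.Opens) [Nonempty U], IsAffineOpen U → IsIntegrallyClosed Γ(X, U) := by
  constructor
  · intro h U hne hU
    have hd : IsDomain Γ(X, U) := inferInstance
    refine IsIntegrallyClosed.of_localization_maximal fun p _ hp => ?_
    obtain ⟨x, hx⟩ := exists_primeIdealOf_eq hU ⟨p, hp.isPrime⟩
    obtain ⟨e⟩ := Groth.Agent.Lib.Helper49.StalkLoc.nonempty_stalk_equiv hU x.1 x.2
    have h1 : IsIntegrallyClosed (X.presheaf.stalk x.1) := (h x.1).2
    have h2 : IsIntegrallyClosed (Localization.AtPrime (hU.primeIdealOf ⟨x.1, x.2⟩).asIdeal) :=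
      IsIntegrallyClosed.of_equiv e
    haveI := hp.isPrime
    exact key_eq p _ (congrArg PrimeSpectrum.asIdeal hx) h2
  · intro h x
    obtain ⟨U, hU, hxU, -⟩ := AlgebraicGeometry.exists_isAffineOpen_mem_and_subset (X := X)
      (x := x) (U := ⊤) trivial
    haveI : Nonempty U := ⟨⟨x, hxU⟩⟩
    have hd : IsDomain Γ(X, U) := inferInstance
    have hic : IsIntegrallyClosed Γ(X, U) := h U hU
    obtain ⟨e⟩ := Groth.Agent.Lib.Helper49.StalkLoc.nonempty_stalk_equiv hU x hxU
    have h2 : IsIntegrallyClosed (Localization.AtPrime (hU.primeIdealOf ⟨x, hxU⟩).asIdeal) :=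
      isIntegrallyClosed_of_isLocalization _ (hU.primeIdealOf ⟨x, hxU⟩).asIdeal.primeCompl
        (hU.primeIdealOf ⟨x, hxU⟩).asIdeal.primeCompl_le_nonZeroDivisors
    exact ⟨e.toMulEquiv.isDomain _, IsIntegrallyClosed.of_equiv e.symm⟩

end Groth.Agent.S9821
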