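import Groth.Statements.S9822
import Mathlib.AlgebraicGeometry.Limits
-- import your own Groth.Agent.* helpers here

set_option autoImplicit false
universe u
open CategoryTheory CategoryTheory.Limits AlgebraicGeometry TopologicalSpace Opposite
open Props

namespace Groth.Agent.S9822

/-- A scheme is irreducible if and only if it is nonempty and every nonempty affine open subset is
irreducible. -/
theorem result (X : Scheme.{u}) :
    IrreducibleSpace X ↔ Nonempty X ∧ ∀ U : X.Opens, IsAffineOpen U → (U : Set X).Nonempty → IsIrreducible (U : Set X) := by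
  constructor
  · intro h
    refine ⟨inferInstance, fun U _ hne => ⟨hne, ?_⟩⟩
    exact (PreirreducibleSpace.isPreirreducible_univ (X := X)).open_subset U.2 (Set.subset_univ _)
  · rintro ⟨hne, h⟩
    have hpre : PreirreducibleSpace X := by
      constructor
      rintro A B hA hB ⟨x, _, hxA⟩ ⟨y, _, hyB⟩
      obtain ⟨_, ⟨U, hU, rfl⟩, hxU, hUA⟩ :=
        X.isBasis_affineOpens.exists_subset_of_mem_open hxA hA
      obtain ⟨_, ⟨V, hV, rfl⟩, hyV, hVB⟩ :=
        X.isBasis_affineOpens.exists_subset_of_mem_open hyB hB
      by_cases hdisj : Disjoint U V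
      · have haff : IsAffineOpen (U ⊔ V) := IsAffineOpen.sup_of_disjoint hU hV hdisj
        have hirr := h (U ⊔ V) haff ⟨x, Or.inl hxU⟩
        obtain ⟨z, _, hzU, hzV⟩ := hirr.isPreirreducible U V U.2 V.2
          ⟨x, Or.inl hxU, hxU⟩ ⟨y, Or.inr hyV, hyV⟩
        exact absurd (show z ∈ (U ⊓ V : X.Opens) from ⟨hzU, hzV⟩)
          (by rw [hdisj.eq_bot]; exact fun h => h)
      · rw [disjoint_iff, ← ne_eq, ← bot_lt_iff_ne_bot] at hdisj
        obtain ⟨z, hz⟩ : ((U ⊓ V : X.Opens) : Set X).Nonempty := by
          rw [Set.nonempty_iff_ne_empty]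
          intro he
          apply hdisj.ne'
          ext w
          simp only [Opens.coe_bot, Set.mem_empty_iff_false, iff_false]
          intro hw
          rw [he] at hw
          exact hw
        exact ⟨z, trivial, hUA hz.1, hVB hz.2⟩
    exact { toPreirreducibleSpace := hpre, toNonempty := hne }

end Groth.Agent.S9822
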