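import Groth.Statements.S9823
import Groth.Agent.Lib.QCoh.Helper50_FTIdeal

set_option autoImplicit false
universe u
open CategoryTheory CategoryTheory.Limits AlgebraicGeometry TopologicalSpace Opposite
open Props

namespace Groth.Agent.S9823

/-- In a quasi-compact quasi-separated scheme, an open subset is quasi-compact exactly when its
complement is the support of some quasi-coherent ideal sheaf of finite type. -/
theorem result (X : Scheme.{u}) [CompactSpace X] [QuasiSeparatedSpace X]
    (U : X.Opens) :
    IsCompact (U : Set X) ↔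
      ∃ I : X.IdealSheafData, (∀ V : X.affineOpens, (I.ideal V).FG) ∧ (I.support : Set X) = (U : Set X)ᶜ := by
  constructor
  · intro hU
    obtain ⟨I, h1, h2, -⟩ := Groth.Agent.Lib.QCoh.FTIdeal.exists_fg_ideal_support_eq_compl U hU
    exact ⟨I, h1, h2⟩
  · rintro ⟨I, hfg, hsupp⟩
    obtain ⟨c, hc, hcov⟩ := (isCompact_and_isOpen_iff_finite_and_eq_biUnion_affineOpens
      (X := X) (U := Set.univ)).mp ⟨isCompact_univ, isOpen_univ⟩
    have hUeq : (U : Set X) = ⋃ V ∈ c, ((V : X.Opens) : Set X) ∩ U := by
      rw [← Set.iUnion₂_inter, ← hcov, Set.univ_inter]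
    rw [hUeq]
    refine hc.isCompact_biUnion fun V _ => ?_
    obtain ⟨S, hS⟩ := hfg V
    have hVU : ((V : X.Opens) : Set X) ∩ U = ⋃ f ∈ S, (X.basicOpen f : Set X) := by
      ext x
      constructor
      · rintro ⟨hxV, hxU⟩
        by_contra hcon
        have hx : x ∈ (I.support : Set X) := by
          rw [SetLike.mem_coe, Scheme.IdealSheafData.mem_support_iff_of_mem (U := V) hxV, ← hS,
            Scheme.zeroLocus_span, Scheme.mem_zeroLocus_iff]
          intro f hf hxf
          exact hcon (Set.mem_iUnion₂.mpr ⟨f, hf, hxf⟩)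
        rw [hsupp] at hx
        exact hx hxU
      · intro hx
        obtain ⟨f, hf, hxf⟩ := Set.mem_iUnion₂.mp hx
        have hxV : x ∈ (V : X.Opens) := X.basicOpen_le f hxf
        refine ⟨hxV, ?_⟩
        by_contra hxU
        have hx' : x ∈ (I.support : Set X) := by rw [hsupp]; exact hxU
        rw [SetLike.mem_coe, Scheme.IdealSheafData.mem_support_iff_of_mem (U := V) hxV, ← hS,
          Scheme.zeroLocus_span, Scheme.mem_zeroLocus_iff] at hx'
        exact hx' f hf hxf
    rw [hVU]
    exact S.finite_toSet.isCompact_biUnion fun f _ => (V.2.basicOpen f).isCompact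

end Groth.Agent.S9823
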