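import Groth.Statements.S9824
import Groth.Agent.Lib.QCoh.Helper74_FibreRankScheme

set_option autoImplicit false
universe u
open CategoryTheory CategoryTheory.Limits AlgebraicGeometry TopologicalSpace Opposite
open Props

namespace Groth.Agent.S9824

/-- Over a reduced scheme, a quasi-coherent module is finite locally free if and only if it is of finite
type and its fibre rank (the dimension of the stalk tensored with the residue field) is a locally
constant function. -/
theorem result (X : Scheme.{u}) [IsReduced X]
    (M : X.Modules) [Coh.IsQCoh M] :
    FlatMod.IsFinLocFree M ↔ CohB1.IsFT M ∧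
      IsLocallyConstant (fun x : X => Module.finrank (IsLocalRing.ResidueField (X.presheaf.stalk x))
          (TensorProduct (X.presheaf.stalk x) (IsLocalRing.ResidueField (X.presheaf.stalk x)) (M.presheaf.stalk x))) := by
  have hM : M.IsQuasicoherent := ‹_›
  constructor
  · intro h
    exact ⟨Groth.Agent.Lib.QCoh.isFiniteType_of_isFinLocFree h,
      Groth.Agent.Lib.QCoh.FibreRank74.isLocallyConstant_fibreRank_of_isFinLocFree h⟩
  · rintro ⟨h1, h3⟩
    have : M.IsFiniteType := h1
    exact Groth.Agent.Lib.QCoh.FibreRank74.isFinLocFree_of_isLocallyConstant_fibreRank M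
      (Groth.Agent.Lib.QCoh.FibreRank74.free_stalk_of_isReduced_of_isLocallyConstant_fibreRank
        M h3) h3

end Groth.Agent.S9824
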