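import Groth.Statements.S9825
import Groth.Agent.Lib.QCoh.Helper74_FibreRankScheme

set_option autoImplicit false
universe u
open CategoryTheory CategoryTheory.Limits AlgebraicGeometry TopologicalSpace Opposite
open Props

namespace Groth.Agent.S9825

/-- A quasi-coherent module on a scheme is finite locally free if and only if it is of finite type with
free stalks and locally constant fibre rank. -/
theorem result (X : Scheme.{u}) (M : X.Modules) [Coh.IsQCoh M] :
    FlatMod.IsFinLocFree M ↔ CohB1.IsFT M ∧ (∀ x : X, Module.Free (X.presheaf.stalk x) (M.presheaf.stalk x)) ∧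
      IsLocallyConstant (fun x : X => Module.finrank (IsLocalRing.ResidueField (X.presheaf.stalk x))
          (TensorProduct (X.presheaf.stalk x) (IsLocalRing.ResidueField (X.presheaf.stalk x)) (M.presheaf.stalk x))) := by
  have hM : M.IsQuasicoherent := ‹_›
  constructor
  · intro h
    exact ⟨Groth.Agent.Lib.QCoh.isFiniteType_of_isFinLocFree h,
      fun x => (Groth.Agent.Lib.QCoh.free_finite_stalk_of_isFinLocFree h x).1,
      Groth.Agent.Lib.QCoh.FibreRank74.isLocallyConstant_fibreRank_of_isFinLocFree h⟩
  · rintro ⟨h1, h2, h3⟩
    have : M.IsFiniteType := h1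
    exact Groth.Agent.Lib.QCoh.FibreRank74.isFinLocFree_of_isLocallyConstant_fibreRank M h2 h3

end Groth.Agent.S9825
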