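import Groth.Statements.S9827
import Groth.Agent.Lib.QCoh.Helper49_FP
-- import your own Groth.Agent.* helpers here

set_option autoImplicit false
universe u
open CategoryTheory CategoryTheory.Limits AlgebraicGeometry TopologicalSpace Opposite
open Props

namespace Groth.Agent.S9827

set_option backward.isDefEq.respectTransparency false in
/-- The sheaf associated to a module over a ring is of finite presentation on the spectrum if and only
if the module is finitely presented. -/
theorem result (R : CommRingCat.{u}) (M : ModuleCat.{u} R) :
    CohB1.IsFP (tilde M) ↔ Module.FinitePresentation R M := by
  constructor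
  · intro h
    have h' : (tilde M).IsFinitePresentation := h
    have hfp := Groth.Agent.Lib.QCoh.finitePresentation_Γ_Spec (tilde M)
    have hfp' : Module.FinitePresentation R
        ((modulesSpecToSheaf.obj (tilde M)).presheaf.obj (.op ⊤)) := hfp
    exact Module.FinitePresentation.of_equiv (tilde.isoTop M).toLinearEquiv.symm
  · intro h
    exact Groth.Agent.Lib.QCoh.isFinitePresentation_tilde M

end Groth.Agent.S9827
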