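import Groth.Statements.S9831
import Groth.Agent.Lib.QCoh.Helper66_SubExt3
import Groth.Agent.Lib.QCoh.Helper43_PushQcqs

set_option autoImplicit false
universe u
open CategoryTheory CategoryTheory.Limits AlgebraicGeometry TopologicalSpace Opposite
open Props

namespace Groth.Agent.S9831

/-- On a quasi-compact quasi-separated scheme, a quasi-coherent module of finite type on a quasi-compact
open U is the restriction of a quasi-coherent module of finite type on the whole scheme. -/
theorem result {X : Scheme.{u}} [CompactSpace X]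
    [QuasiSeparatedSpace X] (U : X.Opens) (hU : IsCompact (U : Set X)) (G : (U : Scheme.{u}).Modules)
    [Coh.IsQCoh G] (hG : CohB1.IsFT G) :
    ∃ G' : X.Modules, Coh.IsQCoh G' ∧ CohB1.IsFT G' ∧ Nonempty (G'.restrict U.ι ≅ G) := by
  have : G.IsFiniteType := hG
  have hqc : QuasiCompact U.ι := by
    constructor
    intro K hKo hK
    have h1 : IsCompact (K ∩ Set.range U.ι) := by
      rw [Scheme.Opens.range_ι]
      exact QuasiSeparatedSpace.inter_isCompact K U hKo hK U.2 hU
    have := U.ι.isOpenEmbedding.isInducing.isCompact_preimage_iff (K := K ∩ Set.range U.ι)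
      Set.inter_subset_right
    rw [Set.preimage_inter_range] at this
    exact this.mpr h1
  have hF : ((Scheme.Modules.pushforward U.ι).obj G).IsQuasicoherent :=
    Groth.Agent.Lib.QCoh.isQuasicoherent_pushforward_of_qcqs U.ι G
  obtain ⟨G', i', e, -, h1, h2, -⟩ :=
    Groth.Agent.Lib.QCoh.SubExt.master_qcqs U hU ((Scheme.Modules.pushforward U.ι).obj G) G
      ((Scheme.Modules.restrictFunctorAdjCounitIso U.ι).inv.app G)
  exact ⟨G', h1, h2, ⟨e⟩⟩

end Groth.Agent.S9831
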