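import Groth.Statements.S9835
import Groth.Agent.Lib.Helper88.Japanese5
-- import your own Groth.Agent.* helpers here

set_option autoImplicit false
universe u
open CategoryTheory AlgebraicGeometry TopologicalSpace
open Props

namespace Groth.Agent.S9835

/-- If an integral scheme has an affine open covering by spectra of Japanese (N-2) domains, then the
coordinate ring of every nonempty affine open is a Japanese domain. -/
theorem result (X : Scheme.{u}) [IsIntegral X] {ι : Type u}
    (U : ι → X.Opens) [∀ i, Nonempty (U i)] (hU : iSup U = ⊤) (haff : ∀ i, IsAffineOpen (U i))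
    (hJ : ∀ i, CAlg.IsN2 Γ(X, U i)) (V : X.Opens) [Nonempty V] (hV : IsAffineOpen V) :
    CAlg.IsN2 Γ(X, V) := by
  have key := of_affine_open_cover (X := X)
    (P := fun W => ∀ _ : Nonempty W.1, CAlg.IsN2 Γ(X, W.1))
    (fun i => (⟨U i, haff i⟩ : X.affineOpens)) hU ⟨V, hV⟩ ?_ ?_ (fun i _ => hJ i)
  · exact key inferInstance
  · intro W f hW hne
    haveI : Nonempty (X.basicOpen f) := hne
    haveI : Nonempty W.1 := by
      obtain ⟨x⟩ := hne
      exact ⟨⟨x.1, X.basicOpen_le f x.2⟩⟩
    haveI : IsLocalization.Away f Γ(X, X.basicOpen f) := W.2.isLocalization_basicOpen f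
    exact Groth.Agent.Lib.Helper88.isN2_of_isLocalization Γ(X, W.1) (Submonoid.powers f)
      Γ(X, X.basicOpen f) (hW inferInstance)
  · intro W s hs h hne
    haveI : Nonempty W.1 := hne
    let g : {f : s // (fun f : s => f.1) f ≠ 0} → Γ(X, W.1) := fun f => f.1.1
    have hg : Ideal.span (Set.range g) = ⊤ :=
      Groth.Agent.Lib.Helper88.span_range_subtype_ne_zero (fun f : s => f.1) (by simpa using hs)
    haveI hnonempty : ∀ f : {f : s // (fun f : s => f.1) f ≠ 0}, Nonempty (X.basicOpen (g f)) := by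
      intro f
      have hne0 : X.basicOpen (g f) ≠ ⊥ := fun hbot => f.2 ((basicOpen_eq_bot_iff _).mp hbot)
      obtain ⟨x, hx⟩ := (TopologicalSpace.Opens.ne_bot_iff_nonempty _).mp hne0
      exact ⟨⟨x, hx⟩⟩
    haveI : ∀ f : {f : s // (fun f : s => f.1) f ≠ 0},
        IsLocalization.Away (g f) Γ(X, X.basicOpen (g f)) :=
      fun f => W.2.isLocalization_basicOpen (g f)
    have hN2 : ∀ f : {f : s // (fun f : s => f.1) f ≠ 0},
        Groth.Agent.Lib.Helper88.IsN2' Γ(X, X.basicOpen (g f)) := fun f =>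
      (Groth.Agent.Lib.Helper88.isN2_iff _).mp (h f.1 (hnonempty f))
    exact (Groth.Agent.Lib.Helper88.isN2_iff _).mpr
      (Groth.Agent.Lib.Helper88.isN2'_of_localizationSpan Γ(X, W.1) g hg
        (fun f => Γ(X, X.basicOpen (g f))) hN2)

end Groth.Agent.S9835
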