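import Groth.Statements.S9843
-- import your own Groth.Agent.* helpers here

set_option autoImplicit false
open CategoryTheory CategoryTheory.Limits AlgebraicGeometry Opposite
universe u
open Desc

namespace Groth.Agent.S9843

/-- Being dominant is fppf local on the base: for every fppf covering family Y i ⟶ Y (flat, locally of
finite presentation, jointly surjective), a morphism X ⟶ Y is dominant if and only if all its base
changes X ×_Y Y i ⟶ Y i are. -/
theorem result :
    MorphismProperty.IsLocalAtTarget (@IsDominant : MorphismProperty Scheme.{u}) Scheme.fppfPrecoverage := by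
  refine MorphismProperty.IsLocalAtTarget.mk_of_iff_of_zeroHypercover ?_
  intro X Y f 𝒰
  have h𝒰 : ∀ i, Flat (𝒰.f i) ∧ LocallyOfFinitePresentation (𝒰.f i) := fun i =>
    Scheme.Cover.map_prop (P := @Flat ⊓ @LocallyOfFinitePresentation) 𝒰 i
  have hcov : ∀ y : Y, ∃ i, ∃ z, 𝒰.f i z = y :=
    fun y => Scheme.Cover.exists_eq (K := Scheme.precoverage (@Flat ⊓ @LocallyOfFinitePresentation)) 𝒰 y
  simp only [isDominant_iff, DenseRange, Scheme.Pullback.range_snd]
  constructor
  · intro hf i
    have := (h𝒰 i).1
    have := (h𝒰 i).2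
    exact hf.preimage (𝒰.f i).isOpenMap
  · intro h y
    obtain ⟨i, z, rfl⟩ := hcov y
    have h1 := h i z
    have h2 : closure ((𝒰.f i) ⁻¹' Set.range f) ⊆ (𝒰.f i) ⁻¹' closure (Set.range f) :=
      (𝒰.f i).continuous.closure_preimage_subset _
    exact h2 h1

end Groth.Agent.S9843
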