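import Groth.Statements.S9845
-- import your own Groth.Agent.* helpers here

set_option autoImplicit false
open CategoryTheory CategoryTheory.Limits AlgebraicGeometry Opposite
universe u
open Desc

namespace Groth.Agent.S9845

/-- Being an open morphism (open underlying map) is fppf local on the source: for every fppf covering
family g i : X i ⟶ X, a morphism f : X ⟶ Y has open underlying map if and only if every composite g
i ≫ f does. -/
theorem result :
    MorphismProperty.IsLocalAtSource (topologically (fun f => IsOpenMap f) : MorphismProperty Scheme.{u})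
      Scheme.fppfPrecoverage := by
  have : (topologically (fun f => IsOpenMap f) : MorphismProperty Scheme.{u}).RespectsIso :=
    inferInstanceAs (topologically IsOpenMap : MorphismProperty Scheme.{u}).RespectsIso
  refine MorphismProperty.IsLocalAtSource.mk_of_iff_of_zeroHypercover ?_
  intro X Y f 𝒰
  have h𝒰 : ∀ i, Flat (𝒰.f i) ∧ LocallyOfFinitePresentation (𝒰.f i) := fun i =>
    Scheme.Cover.map_prop (P := @Flat ⊓ @LocallyOfFinitePresentation) 𝒰 i
  constructor
  · intro hf i
    have := (h𝒰 i).1
    have := (h𝒰 i).2
    change IsOpenMap (𝒰.f i ≫ f)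
    rw [Scheme.Hom.comp_base, TopCat.coe_comp]
    exact IsOpenMap.comp hf (𝒰.f i).isOpenMap
  · intro h
    change IsOpenMap f
    intro U hU
    have hcov : ∀ x : X, ∃ i, ∃ y, 𝒰.f i y = x :=
      fun x => Scheme.Cover.exists_eq (K := Scheme.precoverage (@Flat ⊓ @LocallyOfFinitePresentation)) 𝒰 x
    have : f '' U = ⋃ i, (𝒰.f i ≫ f) '' ((𝒰.f i) ⁻¹' U) := by
      ext y
      simp only [Set.mem_image, Set.mem_iUnion, Set.mem_preimage]
      constructor
      · rintro ⟨x, hx, rfl⟩
        obtain ⟨i, z, rfl⟩ := hcov x
        exact ⟨i, z, hx, by simp⟩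
      · rintro ⟨i, z, hz, rfl⟩
        exact ⟨𝒰.f i z, hz, by simp⟩
    rw [this]
    exact isOpen_iUnion fun i => h i _ (hU.preimage (𝒰.f i).continuous)

end Groth.Agent.S9845
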