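import Groth.Statements.S9851
import Mathlib
import Groth.Agent.Lib.Helper81.DescSig
import Groth.Agent.Lib.Helper38.PullDDFamFF
-- import your own Groth.Agent.* helpers here

set_option autoImplicit false
open CategoryTheory CategoryTheory.Limits AlgebraicGeometry Opposite
universe u
open Desc

namespace Groth.Agent.S9851


open Groth.Agent.Lib.Helper81.DescSig


/-- Let f i : X i ⟶ S be a family of morphisms of schemes and X = ∐ X i with its morphism to S. The
canonical functor from descent data for schemes relative to X ⟶ S to descent data relative to the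
family, which pulls a datum back along the coprojections X i ⟶ X, is an equivalence of categories.
(The published statement names the quasi-inverse functor, sending a family (V i, φ ij) to (∐ V i, ∐
φ ij); asserting that the canonical pullback functor is an equivalence is the same result.) -/
theorem result {ι : Type u} {S : Scheme.{u}} {X : ι → Scheme.{u}} (f : ∀ i, X i ⟶ S) :
    (Desc.SchDDFam.ofSchDD (Sigma.desc f) ⋙
      Desc.pullDDFam (f := fun _ : PUnit.{u + 1} => Sigma.desc f) (f' := f) (α := fun _ => PUnit.unit)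
        (p := 𝟙 S) (p' := fun i => Sigma.ι X i)
        (fun i => (Sigma.ι_desc f i).trans (Category.comp_id (f i)).symm)).IsEquivalence := by
  have H : ∀ j : PUnit.{u + 1}, Sieve.pullback ((fun _ : PUnit.{u + 1} => Sigma.desc f) j)
      (Sieve.ofArrows X f) ∈ Scheme.fpqcTopology (∐ X) := by
    intro j
    have h0 := Scheme.zariskiTopology_le_fpqcTopology _
      (sigmaOpenCover X).mem_grothendieckTopology
    refine Scheme.fpqcTopology.superset_covering ?_ h0
    rw [Sieve.ofArrows, Sieve.generate_le_iff]
    rintro Y g ⟨i⟩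
    change Sieve.ofArrows X f (Sigma.ι X i ≫ Sigma.desc f)
    rw [Sigma.ι_desc]
    exact Sieve.ofArrows_mk _ _ i
  haveI := Groth.Agent.Lib.Helper38.PullDDFamFF.full (uu := f)
    (v := fun _ : PUnit.{u + 1} => Sigma.desc f) (α := fun _ => PUnit.unit)
    (g := fun i => Sigma.ι X i) (sig_w f) H
  haveI := Groth.Agent.Lib.Helper38.PullDDFamFF.faithful (uu := f)
    (v := fun _ : PUnit.{u + 1} => Sigma.desc f) (α := fun _ => PUnit.unit)
    (g := fun i => Sigma.ι X i) (sig_w f) H
  haveI : (SchDDFam.ofSchDD.{u, u} (Sigma.desc f)).Full :=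
    inferInstanceAs ((SchDDFam.oneEquiv.{u, u} (Sigma.desc f)).inverse).Full
  haveI : (SchDDFam.ofSchDD.{u, u} (Sigma.desc f)).Faithful :=
    inferInstanceAs ((SchDDFam.oneEquiv.{u, u} (Sigma.desc f)).inverse).Faithful
  haveI : (Desc.SchDDFam.ofSchDD.{u, u} (Sigma.desc f) ⋙
      Desc.pullDDFam (f := fun _ : PUnit.{u + 1} => Sigma.desc f) (f' := f) (α := fun _ => PUnit.unit)
        (p := 𝟙 S) (p' := fun i => Sigma.ι X i) (sig_w f)).EssSurj :=
    ⟨fun D => ⟨sigDD f D, ⟨(asIso (sigHom f D)).symm⟩⟩⟩
  exact { }

end Groth.Agent.S9851
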