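import Groth.Statements.S9855
import Mathlib
import Groth.Agent.Lib.Helper81.DescRef
import Groth.Agent.Lib.Helper81.DescZar
import Groth.Agent.Lib.Helper38.PullDDFamFF
-- import your own Groth.Agent.* helpers here

set_option autoImplicit false
open CategoryTheory CategoryTheory.Limits AlgebraicGeometry Opposite
universe u
open Desc

namespace Groth.Agent.S9855
set_option backward.isDefEq.respectTransparency false


open Groth.Agent.Lib.Helper81.DescSig Groth.Agent.Lib.Helper81.DescRef Groth.Agent.Lib.Helper81.DescZar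
  Groth.Agent.Lib.Helper81.DescE

/-- restriction of a descent datum to a finer base -/
def restrictBase {S : Scheme.{u}} {ι : Type u} {U : ι → Scheme.{u}} {u : ∀ i, U i ⟶ S}
    {Y : Scheme.{u}} (a : Y ⟶ S) (𝔤 : ∀ i, U i ⟶ Y) (hw : ∀ i, 𝔤 i ≫ a = u i) (D : SchDDFam u) :
    SchDDFam 𝔤 where
  obj := D.obj
  φ _ _ _ x₀ x₁ h := D.φ x₀ x₁ (cond_of_G a 𝔤 hw x₀ x₁ h)
  φ_natural _ _ g₀ _ _ x₀ x₁ _ y₀ y₁ hy₀ hy₁ _ v v' hv' :=
    D.φ_natural g₀ x₀ x₁ _ y₀ y₁ hy₀ hy₁ _ v v' hv'
  φ_self _ _ x v := D.φ_self x v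
  φ_comp _ _ _ _ x₀ x₁ x₂ _ _ v := D.φ_comp x₀ x₁ x₂ _ _ v


/-- Let u i : U i ⟶ S and v j : V j ⟶ S be two families of morphisms with target S and (α, g) a morphism
of families over the identity of S, i.e. g i : U i ⟶ V (α i) with g i ≫ v (α i) = u i. Assume that
for every index j the family of those g i with α i = j is a Zariski covering of V j (jointly
surjective open immersions). Then the pullback functor from descent data for schemes relative to (v
j) to descent data relative to (u i) is an equivalence of categories. -/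
theorem result {ι κ : Type u} {S : Scheme.{u}} {U : ι → Scheme.{u}} {V : κ → Scheme.{u}}
    (u : ∀ i, U i ⟶ S) (v : ∀ j, V j ⟶ S) (α : ι → κ) (g : ∀ i, U i ⟶ V (α i)) (w : ∀ i, g i ≫ v (α i) = u i)
    (hcov : ∀ j, Presieve.ofArrows (fun i : {i // α i = j} => U i.1)
      (fun i => g i.1 ≫ eqToHom (congrArg V i.2)) ∈ Scheme.zariskiPrecoverage (V j)) :
    (Desc.pullDDFam (f := v) (f' := u) (α := α) (p := 𝟙 S) (p' := g) (fun i => (w i).trans (Category.comp_id (u i)).symm)).IsEquivalence := by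
  -- the members are open immersions and cover
  have hopen : ∀ i, IsOpenImmersion (g i) := by
    intro i
    have h1 := ((Scheme.ofArrows_mem_precoverage_iff _).mp (hcov (α i))).2 ⟨i, rfl⟩
    simpa using h1
  have hsurjV : ∀ (j : κ) (y : V j), ∃ i : {i // α i = j},
      y ∈ Set.range (g i.1 ≫ eqToHom (congrArg V i.2)).base := fun j y =>
    ((Scheme.ofArrows_mem_precoverage_iff _).mp (hcov j)).1 y
  -- full and faithful
  have H : ∀ j : κ, Sieve.pullback (v j) (Sieve.ofArrows U u) ∈ Scheme.fpqcTopology (V j) := by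
    intro j
    have h0 : Sieve.ofArrows (fun i : {i // α i = j} => U i.1)
        (fun i => g i.1 ≫ eqToHom (congrArg V i.2)) ∈ Scheme.fpqcTopology (V j) :=
      Precoverage.generate_mem_toGrothendieck
        (Scheme.zariskiPrecoverage_le_fpqcPrecoverage _ (hcov j))
    refine Scheme.fpqcTopology.superset_covering ?_ h0
    rw [Sieve.ofArrows, Sieve.generate_le_iff]
    rintro T t ⟨⟨i, hi⟩⟩
    subst hi
    change Sieve.ofArrows U u ((g i ≫ eqToHom rfl) ≫ v (α i))
    rw [eqToHom_refl, Category.comp_id, w]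
    exact Sieve.ofArrows_mk _ _ i
  have w' : ∀ i, g i ≫ v (α i) = u i ≫ 𝟙 S := fun i => (w i).trans (Category.comp_id (u i)).symm
  haveI := Groth.Agent.Lib.Helper38.PullDDFamFF.full (uu := u) (v := v) (α := α) (g := g) w' H
  haveI := Groth.Agent.Lib.Helper38.PullDDFamFF.faithful (uu := u) (v := v) (α := α) (g := g) w' H
  -- essential surjectivity
  haveI : (Desc.pullDDFam (f := v) (f' := u) (α := α) (p := 𝟙 S) (p' := g) w').EssSurj := by
    constructor
    intro D
    let a : ∐ V ⟶ S := Sigma.desc v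
    let 𝔤 : ∀ i, U i ⟶ ∐ V := fun i => g i ≫ Sigma.ι V (α i)
    have hw : ∀ i, 𝔤 i ≫ a = u i := fun i => by simp [𝔤, a, w]
    haveI : ∀ i, IsOpenImmersion (𝔤 i) := fun i => by
      haveI := hopen i
      exact inferInstanceAs (IsOpenImmersion (g i ≫ Sigma.ι V (α i)))
    have hsurj : ∀ y : (∐ V : Scheme.{u}), ∃ i, y ∈ Set.range (𝔤 i).base := by
      intro y
      obtain ⟨j, z, rfl⟩ := (sigmaOpenCover V).exists_eq y
      obtain ⟨⟨i, hi⟩, z', hz'⟩ := hsurjV j z
      subst hi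
      refine ⟨i, z', ?_⟩
      rw [eqToHom_refl, Category.comp_id] at hz'
      change (g i ≫ Sigma.ι V (α i)).base z' = _
      rw [Scheme.Hom.comp_apply, hz']
      rfl
    have hcovY : Presieve.ofArrows U 𝔤 ∈ Scheme.fpqcPrecoverage (∐ V) := by
      apply Scheme.zariskiPrecoverage_le_fpqcPrecoverage
      rw [Scheme.zariskiPrecoverage, Scheme.ofArrows_mem_precoverage_iff]
      exact ⟨hsurj, inferInstance⟩
    obtain ⟨W', q, e, hpb, hcE⟩ := exists_isESol_zariski 𝔤 hsurj (restrictBase a 𝔤 hw D)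
    have hpb' : ∀ i, IsPullback (e i) (D.obj i).hom q (𝔤 i) := hpb
    obtain ⟨E', ⟨ε⟩⟩ := exists_refDD a 𝔤 hw D hcovY q e hpb' (by
      intro T i j x w₀ hG hcd
      exact hcE (w₀ ≫ (D.obj i).hom) x hG ⟨w₀, rfl⟩)
    let D' : SchDDFam v := (pullDDFam (f := fun _ : PUnit.{u + 1} => Sigma.desc v) (f' := v)
      (α := fun _ => PUnit.unit) (p := 𝟙 S) (p' := fun j => Sigma.ι V j) (sig_w v)).obj
        ((SchDDFam.ofSchDD.{u, u} a).obj E')
    refine ⟨D', ⟨?_⟩⟩
    have w₁₂ : ∀ i, (g i ≫ Sigma.ι V (α i)) ≫ (fun _ : PUnit.{u + 1} => Sigma.desc v)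
        ((fun _ => PUnit.unit) (α i)) = u i ≫ 𝟙 S := fun i => ref_w a 𝔤 hw i
    exact asIso (pullPullHom (f := fun _ : PUnit.{u + 1} => Sigma.desc v) (f' := v) (f'' := u)
      (α₁ := fun _ => PUnit.unit) (p₁ := fun j => Sigma.ι V j) (α₂ := α) (p₂ := g)
      (sig_w v) w' w₁₂ ((SchDDFam.ofSchDD.{u, u} a).obj E')) ≪≫ ε.symm
  exact { }

end Groth.Agent.S9855
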