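import Groth.Statements.S9857
import Groth.Agent.Lib.Helper73.FlatRelDim3
import Groth.Agent.Lib.Helper73.Equidim2
import Groth.Agent.S9358
-- import your own Groth.Agent.* helpers here

set_option autoImplicit false
open CategoryTheory CategoryTheory.Limits AlgebraicGeometry Opposite
universe u
open Desc

namespace Groth.Agent.S9857
open Groth.Agent.Lib.Helper73.SchemeDim Groth.Agent.Lib.Helper73.FlatRelDim

/-- The property of a morphism being locally of finite type with relative dimension d may be checked
fpqc locally on the target; the descent direction for the dimension condition, stated for a single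
flat surjective quasi-compact base change g : Y' ⟶ Y of a morphism f : X ⟶ Y locally of finite type
and a cartesian square with base change f' : X' ⟶ Y': if every irreducible component of every fibre
of f' has dimension d, then every irreducible component of every fibre of f has dimension d. (Local
finite type itself descends along g by a separate result; stability under base change is the other
direction.) -/
theorem result {X Y X' Y' : Scheme.{u}} (f : X ⟶ Y) [LocallyOfFiniteType f] (g : Y' ⟶ Y)
    [Flat g] [Surjective g] [QuasiCompact g] (g' : X' ⟶ X) (f' : X' ⟶ Y') (hsq : IsPullback g' f' f g)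
    (d : ℕ) (h : Cyc.HasRelDim f' d) : Cyc.HasRelDim f d := by
  haveI : LocallyOfFiniteType f' :=
    MorphismProperty.of_isPullback (P := @LocallyOfFiniteType) hsq inferInstance
  rw [hasRelDim_iff] at h ⊢
  intro ζ hζ
  obtain ⟨n, hn⟩ := exists_trdeg_residueField_eq_nat' f ζ
  have h1 := fibreDimAt_eq_trdeg_of_maximal_in_fibre f ζ hζ n hn
  obtain ⟨y', hy'⟩ := g.surjective (f.base ζ)
  obtain ⟨z, hz1, -⟩ := Scheme.Pullback.exists_preimage_pullback (f := f) (g := g) ζ y' hy'.symm
  obtain ⟨x', hx'1⟩ : ∃ x' : X', g'.base x' = ζ := by
    refine ⟨hsq.isoPullback.inv.base z, ?_⟩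
    rw [← Scheme.Hom.comp_apply, hsq.isoPullback_inv_fst]
    exact hz1
  have h2 := (Groth.Agent.S9358.result f g g' f' hsq d).1 x'
  rw [hx'1, h1] at h2
  obtain ⟨ζ', n', -, -, hζ'max, hn', hF⟩ := exists_maximal_in_fibre_trdeg_eq_fibreDimAt f' x'
  have h3 := h ζ' hζ'max
  rw [hn'] at h3
  have h4 : n' = d := by exact_mod_cast h3
  rw [h2] at hF
  have h5 : n = n' := by exact_mod_cast hF
  rw [hn, h5, h4]

end Groth.Agent.S9857
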