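import Groth.Statements.S9859
-- import your own Groth.Agent.* helpers here

set_option autoImplicit false
open CategoryTheory CategoryTheory.Limits AlgebraicGeometry Opposite
universe u
open Desc

namespace Groth.Agent.S9859

section Helpers

variable (P : MorphismProperty Scheme.{u}) [MorphismProperty.IsLocalAtTarget P Scheme.fppfPrecoverage]

/-- `P` of any base change square equals `P` of the chosen pullback. -/
theorem snd_iff_of_isPullback {X Y U A : Scheme.{u}} {f : X ⟶ Y} {g : U ⟶ Y} {fst : A ⟶ X}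
    {snd : A ⟶ U} (h : IsPullback fst snd f g) : P snd ↔ P (pullback.snd f g) := by
  rw [← P.cancel_left_of_respectsIso h.isoPullback.inv, h.isoPullback_inv_snd]

theorem fppf_mem {Y : Scheme.{u}} {κ : Type u} (U : κ → Scheme.{u}) (g : ∀ i, U i ⟶ Y)
    (hg : ∀ i, Flat (g i) ∧ LocallyOfFinitePresentation (g i))
    (hsurj : ∀ y : Y, ∃ i, y ∈ Set.range (g i)) :
    Presieve.ofArrows U g ∈ Scheme.fppfPrecoverage Y := by
  rw [Scheme.fppfPrecoverage, Scheme.ofArrows_mem_precoverage_iff]
  exact ⟨hsurj, fun i => ⟨(hg i).1, (hg i).2⟩⟩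

theorem of_cover {X Y : Scheme.{u}} (f : X ⟶ Y) {κ : Type u} (U : κ → Scheme.{u})
    (g : ∀ i, U i ⟶ Y) (hg : ∀ i, Flat (g i) ∧ LocallyOfFinitePresentation (g i))
    (hsurj : ∀ y : Y, ∃ i, y ∈ Set.range (g i)) (h : ∀ i, P (pullback.snd f (g i))) : P f := by
  refine MorphismProperty.IsLocalAtTarget.of_forall_pullbackSnd (K := Scheme.fppfPrecoverage)
    (fppf_mem U g hg hsurj) ?_
  rintro _ _ _ ⟨i⟩
  exact h i

theorem snd_of_flat_lfp {X Y U : Scheme.{u}} (f : X ⟶ Y) (g : U ⟶ Y) [Flat g]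
    [LocallyOfFinitePresentation g] (hf : P f) : P (pullback.snd f g) := by
  let V : ULift.{u} Bool → Scheme.{u} := fun b => if b.down then U else Y
  let gg : ∀ b, V b ⟶ Y := fun b => match b with
    | ⟨true⟩ => g
    | ⟨false⟩ => 𝟙 Y
  have hmem : Presieve.ofArrows V gg ∈ Scheme.fppfPrecoverage Y := by
    apply fppf_mem
    · rintro ⟨b⟩
      cases b
      · exact ⟨inferInstanceAs (Flat (𝟙 Y)), inferInstanceAs (LocallyOfFinitePresentation (𝟙 Y))⟩
      · exact ⟨inferInstanceAs (Flat g), inferInstanceAs (LocallyOfFinitePresentation g)⟩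
    · intro y
      exact ⟨⟨false⟩, y, rfl⟩
  exact MorphismProperty.IsLocalAtTarget.pullbackSnd (K := Scheme.fppfPrecoverage) hmem
    (Presieve.ofArrows.mk (⟨true⟩ : ULift.{u} Bool)) hf

/-- Restriction over an open versus base change along the inclusion. -/
theorem restrict_iff {X Y : Scheme.{u}} (f : X ⟶ Y) (U : Y.Opens) :
    P (f ∣_ U) ↔ P (pullback.snd f U.ι) :=
  snd_iff_of_isPullback P (isPullback_morphismRestrict f U).flip

/-- Base change of a base change. -/
theorem snd_snd_iff {X Y U A Y' : Scheme.{u}} {f : X ⟶ Y} {g : U ⟶ Y} {a : A ⟶ X} {b : A ⟶ U}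
    (sq : IsPullback a b f g) (h : Y' ⟶ U) :
    P (pullback.snd b h) ↔ P (pullback.snd f (h ≫ g)) := by
  have h1 : IsPullback (pullback.snd b h) (pullback.fst b h) h b :=
    (IsPullback.of_hasPullback _ _).flip
  exact snd_iff_of_isPullback P (h1.paste_vert sq.flip).flip

/-- Base change of the restriction `f ∣_ U` along `g'` versus base change of `f` along `g' ≫ U.ι`. -/
theorem snd_restrict_iff {X Y Y' : Scheme.{u}} (f : X ⟶ Y) (U : Y.Opens) (g' : Y' ⟶ U) :
    P (pullback.snd (f ∣_ U) g') ↔ P (pullback.snd f (g' ≫ U.ι)) :=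
  snd_snd_iff P (isPullback_morphismRestrict f U).flip g'

end Helpers


/-- Case τ = fppf: let P be a property of morphisms of schemes which is fppf local on the base and f : X
⟶ Y a morphism. There is a largest open W of Y such that the restriction of f over W has P;
moreover, first, if g : Y' ⟶ Y is flat and locally of finite presentation and the base change of f
to Y' has P, then the image of g lies in W; and second, for such g the largest open of Y' over which
the base change of f has P is exactly g⁻¹(W). -/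
theorem result (P : MorphismProperty Scheme.{u})
    [MorphismProperty.IsLocalAtTarget P Scheme.fppfPrecoverage] {X Y : Scheme.{u}} (f : X ⟶ Y) :
    ∃ W : Y.Opens, P (f ∣_ W) ∧ (∀ W₀ : Y.Opens, P (f ∣_ W₀) → W₀ ≤ W) ∧
      (∀ (Y' : Scheme.{u}) (g : Y' ⟶ Y), Flat g → LocallyOfFinitePresentation g →
        P (pullback.snd f g) → Set.range g.base ⊆ (W : Set Y)) ∧
      (∀ (Y' : Scheme.{u}) (g : Y' ⟶ Y), Flat g → LocallyOfFinitePresentation g →
        ∀ W' : Y'.Opens, P (pullback.snd f g ∣_ W') → (∀ W₀ : Y'.Opens, P (pullback.snd f g ∣_ W₀) → W₀ ≤ W') →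
          W' = g ⁻¹ᵁ W) := by
  classical
  let W : Y.Opens := sSup {W₀ : Y.Opens | P (f ∣_ W₀)}
  have hlub : ∀ W₀ : Y.Opens, P (f ∣_ W₀) → W₀ ≤ W := fun W₀ h => le_sSup h
  -- key: flat lfp `g` with `P` of the base change has range in `W`
  have hkey : ∀ (Y' : Scheme.{u}) (g : Y' ⟶ Y), Flat g → LocallyOfFinitePresentation g →
      P (pullback.snd f g) → Set.range g.base ⊆ (W : Set Y) := by
    intro Y' g hgf hgp hPg
    let W₁ : Y.Opens := ⟨Set.range g.base, g.isOpenMap.isOpen_range⟩
    have hr : Set.range g.base ⊆ Set.range W₁.ι.base := by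
      rw [Scheme.Opens.range_ι]
      exact subset_rfl
    let g' : Y' ⟶ W₁ := IsOpenImmersion.lift W₁.ι g hr
    have hfac : g' ≫ W₁.ι = g := IsOpenImmersion.lift_fac _ _ _
    have hg'f : Flat g' := by
      refine MorphismProperty.of_postcomp (W := @Flat) (W' := @IsOpenImmersion) g' W₁.ι
        inferInstance ?_
      rw [hfac]
      exact hgf
    have hg'p : LocallyOfFinitePresentation g' := by
      refine MorphismProperty.of_postcomp (W := @LocallyOfFinitePresentation)
        (W' := @IsOpenImmersion) g' W₁.ι inferInstance ?_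
      rw [hfac]
      exact hgp
    have hW₁ : P (f ∣_ W₁) := by
      refine of_cover P (f ∣_ W₁) (fun _ : PUnit.{u + 1} => Y') (fun _ => g')
        (fun _ => ⟨hg'f, hg'p⟩) ?_ ?_
      · intro y
        obtain ⟨y', hy'⟩ : y.1 ∈ Set.range g.base := y.2
        refine ⟨PUnit.unit, y', ?_⟩
        apply W₁.ι.isOpenEmbedding.injective
        rw [← Scheme.Hom.comp_apply, hfac]
        exact hy'
      · intro _
        rw [snd_restrict_iff P, hfac]
        exact hPg
    exact hlub W₁ hW₁
  have hW : P (f ∣_ W) := by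
    refine of_cover P (f ∣_ W) (fun i : {W₀ : Y.Opens // P (f ∣_ W₀)} => (i.1 : Scheme.{u}))
      (fun i => Y.homOfLE (hlub i.1 i.2)) (fun i => ⟨inferInstance, inferInstance⟩) ?_ ?_
    · intro y
      have hy : y.1 ∈ (W : Set Y) := y.2
      change y.1 ∈ sSup {W₀ : Y.Opens | P (f ∣_ W₀)} at hy
      rw [TopologicalSpace.Opens.mem_sSup] at hy
      obtain ⟨W₀, hW₀, hyW₀⟩ := hy
      refine ⟨⟨W₀, hW₀⟩, ⟨y.1, hyW₀⟩, ?_⟩
      apply W.ι.isOpenEmbedding.injective
      rw [← Scheme.Hom.comp_apply, Scheme.homOfLE_ι]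
      rfl
    · intro i
      rw [snd_restrict_iff P, Scheme.homOfLE_ι, ← restrict_iff P]
      exact i.2
  refine ⟨W, hW, hlub, hkey, ?_⟩
  intro Y' g hgf hgp W' hW' hW'max
  apply le_antisymm
  · -- `W' ≤ g⁻¹ W`
    have h1 : P (pullback.snd f (W'.ι ≫ g)) := by
      rw [← snd_snd_iff P (IsPullback.of_hasPullback f g) W'.ι, ← restrict_iff P]
      exact hW'
    have h2 := hkey _ (W'.ι ≫ g) inferInstance inferInstance h1
    intro y' hy'
    apply h2
    exact ⟨⟨y', hy'⟩, rfl⟩
  · -- `g⁻¹ W ≤ W'`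
    apply hW'max
    rw [restrict_iff P, snd_snd_iff P (IsPullback.of_hasPullback f g) (g ⁻¹ᵁ W).ι,
      ← morphismRestrict_ι g W, ← snd_restrict_iff P]
    have i1 : Flat (g ∣_ W) := inferInstance
    have i2 : LocallyOfFinitePresentation (g ∣_ W) := inferInstance
    exact snd_of_flat_lfp P (f ∣_ W) (g ∣_ W) hW

end Groth.Agent.S9859
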