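import Groth.Statements.S9860
import Mathlib

set_option autoImplicit false
open CategoryTheory CategoryTheory.Limits AlgebraicGeometry Opposite
universe u
open Desc

set_option linter.style.haveILetI false

namespace Groth.Agent.S9860

theorem fam_congr {Y W : Scheme.{u}} {S : Sieve Y}
    (x : Presieve.FamilyOfElements (yoneda.obj W) S.arrows) {T : Scheme.{u}} {t t' : T ⟶ Y}
    (e : t = t') (ht : S t) (ht' : S t') : x t ht = x t' ht' := by
  subst e; rfl

theorem isSheafFor_of_affine {Y W : Scheme.{u}} (S : Sieve Y)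
    (hS : ∀ (V : Scheme.{u}) (c : V ⟶ Y), IsAffine V →
      Presieve.IsSheafFor (yoneda.obj W) (S.pullback c).arrows) :
    Presieve.IsSheafFor (yoneda.obj W) S.arrows := by
  intro x hx
  have hx' := (Presieve.compatible_iff_sieveCompatible x).mp hx
  let 𝒰 := Y.affineCover
  -- local amalgamations
  let b : ∀ i, 𝒰.X i ⟶ W := fun i =>
    (hS (𝒰.X i) (𝒰.f i) inferInstance).amalgamate (x.pullback (𝒰.f i)) (hx.pullback _)
  have hb : ∀ i (T : Scheme.{u}) (t : T ⟶ 𝒰.X i) (ht : S (t ≫ 𝒰.f i)),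
      t ≫ b i = x (t ≫ 𝒰.f i) ht := fun i T t ht =>
    (hS (𝒰.X i) (𝒰.f i) inferInstance).valid_glue (hx.pullback _) t ht
  have overlap : ∀ i j, pullback.fst (𝒰.f i) (𝒰.f j) ≫ b i = pullback.snd (𝒰.f i) (𝒰.f j) ≫ b j := by
    intro i j
    apply (pullback (𝒰.f i) (𝒰.f j)).affineCover.hom_ext
    intro l
    set v := (pullback (𝒰.f i) (𝒰.f j)).affineCover.f l with hv
    have hsep := (hS _ (v ≫ pullback.fst (𝒰.f i) (𝒰.f j) ≫ 𝒰.f i) inferInstance).isSeparatedFor
    refine hsep (x.pullback _) _ _ ?_ ?_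
    · intro T t ht
      change t ≫ v ≫ pullback.fst (𝒰.f i) (𝒰.f j) ≫ b i = x (t ≫ v ≫ pullback.fst (𝒰.f i) (𝒰.f j) ≫ 𝒰.f i) ht
      have := hb i T (t ≫ v ≫ pullback.fst (𝒰.f i) (𝒰.f j)) (by simpa using ht)
      simp only [Category.assoc] at this
      rw [this]
      exact fam_congr x (by simp) _ _
    · intro T t ht
      change t ≫ v ≫ pullback.snd (𝒰.f i) (𝒰.f j) ≫ b j = x (t ≫ v ≫ pullback.fst (𝒰.f i) (𝒰.f j) ≫ 𝒰.f i) ht
      have e : t ≫ v ≫ pullback.fst (𝒰.f i) (𝒰.f j) ≫ 𝒰.f i =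
          (t ≫ v ≫ pullback.snd (𝒰.f i) (𝒰.f j)) ≫ 𝒰.f j := by
        simp [pullback.condition]
      have := hb j T (t ≫ v ≫ pullback.snd (𝒰.f i) (𝒰.f j)) (e ▸ ht)
      simp only [Category.assoc] at this
      rw [this]
      exact fam_congr x (by simp [pullback.condition]) _ _
  refine ⟨𝒰.glueMorphisms b overlap, ?_, ?_⟩
  · intro T t ht
    change t ≫ 𝒰.glueMorphisms b overlap = x t ht
    apply (𝒰.pullback₁ t).hom_ext
    intro (i : 𝒰.I₀)
    change pullback.fst t (𝒰.f i) ≫ t ≫ _ = pullback.fst t (𝒰.f i) ≫ x t ht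
    rw [← Category.assoc, pullback.condition, Category.assoc, 𝒰.ι_glueMorphisms]
    have h1 : S (pullback.snd t (𝒰.f i) ≫ 𝒰.f i) := by
      rw [← pullback.condition]; exact S.downward_closed ht _
    rw [hb i _ _ h1]
    have := hx' t (pullback.fst t (𝒰.f i)) ht
    change _ = pullback.fst t (𝒰.f i) ≫ x t ht at this
    rw [← this]
    exact fam_congr x pullback.condition.symm _ _
  · intro b' hb'
    apply 𝒰.hom_ext
    intro i
    rw [𝒰.ι_glueMorphisms]
    have hsep := (hS _ (𝒰.f i) inferInstance).isSeparatedFor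
    refine hsep (x.pullback _) _ _ ?_ ?_
    · intro T t ht
      change t ≫ 𝒰.f i ≫ b' = x (t ≫ 𝒰.f i) ht
      have := hb' (t ≫ 𝒰.f i) ht
      change (t ≫ 𝒰.f i) ≫ b' = _ at this
      rw [← this, Category.assoc]
    · intro T t ht
      exact hb i T t ht

theorem main {ι : Type u} {X : Scheme.{u}} {Xi : ι → Scheme.{u}} (f : ∀ i, Xi i ⟶ X)
    (h : ∀ (Y : Scheme.{u}) (g : Y ⟶ X), IsAffine Y → ((Sieve.ofArrows Xi f).pullback g).EffectiveEpimorphic)
    {Y : Scheme.{u}} (g : Y ⟶ X) : ((Sieve.ofArrows Xi f).pullback g).EffectiveEpimorphic := by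
  rw [Sieve.EffectiveEpimorphic.iff_forall_isSheafFor_yoneda]
  intro W
  apply isSheafFor_of_affine
  intro V c hV
  rw [← Sieve.pullback_comp]
  exact (Sieve.EffectiveEpimorphic.iff_forall_isSheafFor_yoneda _).mp (h V (c ≫ g) hV) W

end Groth.Agent.S9860

namespace Groth.Agent.S9860

/-- Consider morphisms of schemes f i : X i ⟶ X indexed by i. Suppose that, whenever Y is an affine
scheme and g : Y ⟶ X is a morphism, the sieve on Y obtained by pulling back along g (generated by
the base changes X i ×_X Y ⟶ Y) is effective epimorphic. Then the pulled-back sieve along every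
morphism Y ⟶ X of schemes is effective epimorphic; in other words, within schemes the family forms a
universal effective epimorphism. -/
theorem result {ι : Type u} {X : Scheme.{u}} {Xi : ι → Scheme.{u}} (f : ∀ i, Xi i ⟶ X)
    (h : ∀ (Y : Scheme.{u}) (g : Y ⟶ X), IsAffine Y → ((Sieve.ofArrows Xi f).pullback g).EffectiveEpimorphic)
    {Y : Scheme.{u}} (g : Y ⟶ X) : ((Sieve.ofArrows Xi f).pullback g).EffectiveEpimorphic := by

  exact Groth.Agent.S9860.main f h g

end Groth.Agent.S9860
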