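import Groth.Statements.S9863
import Mathlib
import Groth.Agent.S9862
import Groth.Agent.Lib.Helper73.SmoothSkRk

set_option maxHeartbeats 1600000
set_option backward.isDefEq.respectTransparency.types false

set_option autoImplicit false
open CategoryTheory CategoryTheory.Limits AlgebraicGeometry Opposite
universe u
open Desc

namespace Groth.Agent.S9863


open Groth.Agent.Lib.Helper49.FibreSk Groth.Agent.Lib.Helper49.SkAt in
/-- `(S_n)` at a prime of a syntomic algebra over a Noetherian ring is equivalent to `(S_n)` at the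
prime below. -/
theorem hasSkAt_iff_of_isSyntomic (R S : Type u) [CommRing R] [CommRing S] [IsNoetherianRing R]
    [Algebra R S] (hs : Synt.IsSyntomic R S) (q : Ideal S) [q.IsPrime] (n : ℕ) :
    EGA4.HasSkAt n S S q ↔ EGA4.HasSkAt n R R (q.under R) := by
  haveI : Module.Flat R S := hs.1
  haveI : Algebra.FinitePresentation R S := hs.2.1
  haveI : IsNoetherianRing S := Algebra.FiniteType.isNoetherianRing R S
  refine ⟨hasSkAt_descent n q, hasSkAt_of_flat n q ?_⟩
  intro Q hQ _
  have hF : LocCoh.IsCohenMacaulayRing ((Q.under R).Fiber S) :=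
    Groth.Agent.S9142.result (Q.under R).ResidueField ((Q.under R).Fiber S)
      (hs.2.2 ⟨Q.under R, inferInstance⟩)
  have h1 := (isCM_fiber_iff (Q.under R)).mp hF Q
  rw [h1]
  exact min_le_right _ _

open CategoryTheory CategoryTheory.Limits AlgebraicGeometry
  Groth.Agent.Lib.Helper73.SmoothSkRk in
theorem hasSk_stalk_iff_of_isSyntomicAt {X Y : Scheme.{u}} (g : X ⟶ Y) [IsLocallyNoetherian Y]
    (x : X) (h : Synt.IsSyntomicAt g x) (n : ℕ) :
    LocCoh.HasSk n (X.presheaf.stalk x) (X.presheaf.stalk x) ↔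
      LocCoh.HasSk n (Y.presheaf.stalk (g.base x)) (Y.presheaf.stalk (g.base x)) := by
  obtain ⟨⟨W, hW⟩, ⟨V, hV⟩, hWV, hxW, hs⟩ := h
  change x ∈ W at hxW
  change W ≤ g ⁻¹ᵁ V at hWV
  letI := (g.appLE V W hWV).hom.toAlgebra
  haveI : IsNoetherianRing Γ(Y, V) := IsLocallyNoetherian.component_noetherian ⟨V, hV⟩
  haveI : Algebra.FinitePresentation Γ(Y, V) Γ(X, W) := hs.2.1
  haveI : IsNoetherianRing Γ(X, W) := Algebra.FiniteType.isNoetherianRing Γ(Y, V) Γ(X, W)
  have hq : (hW.primeIdealOf ⟨x, hxW⟩).asIdeal.under Γ(Y, V) =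
      (hV.primeIdealOf ⟨g.base x, hWV hxW⟩).asIdeal :=
    congr($(IsAffineOpen.comap_primeIdealOf_appLE V hV W hW hWV hxW).1)
  obtain ⟨eX⟩ := nonempty_ringEquiv_stalk hW x hxW
  obtain ⟨eY⟩ := nonempty_ringEquiv_stalk hV (g.base x) (hWV hxW)
  have key := hasSkAt_iff_of_isSyntomic Γ(Y, V) Γ(X, W) hs (hW.primeIdealOf ⟨x, hxW⟩).asIdeal n
  have tr : ∀ (p : Ideal Γ(Y, V)) [p.IsPrime]
      (hp : p = (hV.primeIdealOf ⟨g.base x, hWV hxW⟩).asIdeal),
      (EGA4.HasSkAt n Γ(Y, V) Γ(Y, V) p ↔
        LocCoh.HasSk n (Y.presheaf.stalk (g.base x)) (Y.presheaf.stalk (g.base x))) := by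
    intro p _ hp
    subst hp
    exact hasSkAt_self_iff_of_ringEquiv _ eY n
  exact (hasSkAt_self_iff_of_ringEquiv _ eX n).symm.trans (key.trans (tr _ hq))

/-- The property 'locally Noetherian and (S_k)' is local in the syntomic topology: for a jointly
surjective family of syntomic morphisms f i : X i ⟶ S and k a natural number, S is locally
Noetherian with all local rings satisfying Serre's condition (S_k) if and only if every X i is. -/
theorem result {ι : Type u} {S : Scheme.{u}} {X : ι → Scheme.{u}} (f : ∀ i, X i ⟶ S)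
    (hsurj : ∀ s : S, ∃ i, s ∈ Set.range (f i).base) (hsyn : ∀ i, Synt.IsSyntomicMor (f i)) (k : ℕ) :
    (IsLocallyNoetherian S ∧ ∀ s : S, LocCoh.HasSk k (S.presheaf.stalk s) (S.presheaf.stalk s)) ↔
      ∀ i, IsLocallyNoetherian (X i) ∧ ∀ x : X i, LocCoh.HasSk k ((X i).presheaf.stalk x) ((X i).presheaf.stalk x) := by
  constructor
  · rintro ⟨hN, hS⟩ i
    haveI := Groth.Agent.S9862.lfp_of_isSyntomicMor (f i) (hsyn i)
    haveI : LocallyOfFiniteType (f i) := inferInstance
    refine ⟨LocallyOfFiniteType.isLocallyNoetherian (f i), fun x => ?_⟩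
    exact (hasSk_stalk_iff_of_isSyntomicAt (f i) x (hsyn i x) k).2 (hS _)
  · intro hX
    haveI : ∀ i, Flat (f i) := fun i => Groth.Agent.S9862.flat_of_isSyntomicMor (f i) (hsyn i)
    haveI : ∀ i, LocallyOfFinitePresentation (f i) :=
      fun i => Groth.Agent.S9862.lfp_of_isSyntomicMor (f i) (hsyn i)
    haveI : ∀ i, IsLocallyNoetherian (X i) := fun i => (hX i).1
    haveI hN : IsLocallyNoetherian S := by
      haveI : Flat (Sigma.desc f) := IsZariskiLocalAtSource.sigmaDesc (fun i => inferInstance)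
      haveI : UniversallyOpen (Sigma.desc f) :=
        IsZariskiLocalAtSource.sigmaDesc (fun i => inferInstance)
      haveI : Surjective (Sigma.desc f) := Surjective.sigmaDesc_of_union_range_eq_univ (by
        ext s
        simp only [Set.mem_iUnion, Set.mem_univ, iff_true]
        exact hsurj s)
      haveI : IsLocallyNoetherian (∐ X) :=
        (isLocallyNoetherian_iff_openCover (sigmaOpenCover X)).2 (fun i => (hX i).1)
      exact Groth.Agent.Lib.Helper33.FibreBC.isLocallyNoetherian_of_flat_surjective_universallyOpen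
        (Sigma.desc f)
    refine ⟨hN, fun s => ?_⟩
    obtain ⟨i, x, rfl⟩ := hsurj s
    exact (hasSk_stalk_iff_of_isSyntomicAt (f i) x (hsyn i x) k).1 ((hX i).2 x)

end Groth.Agent.S9863
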