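import Groth.Statements.S9864
import Mathlib
import Groth.Agent.Lib.Helper22.DescPts
-- import your own Groth.Agent.* helpers here

set_option autoImplicit false
open CategoryTheory CategoryTheory.Limits AlgebraicGeometry Opposite
universe u
open Desc

namespace Groth.Agent.S9864

section PRE
open Groth.Agent.Lib.Helper22.DescPts

lemma main {X S : Scheme.{u}} (a : X ⟶ S) (f : X ⟶ X) (h : f ≫ a = a) :
    Nonempty (Desc.pullDDFam (f := fun _ : PUnit.{u + 1} => a) (f' := fun _ : PUnit.{u + 1} => a) (α := fun j => j)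
        (p := 𝟙 S) (p' := fun _ => f) (fun _ => (h).trans (Category.comp_id a).symm) ≅
      𝟭 (Desc.SchDDFam (fun _ : PUnit.{u + 1} => a))) :=
  ⟨(ptDescPull (f := fun _ : PUnit.{u + 1} => a) (fun _ => f)
    (fun _ => (h).trans (Category.comp_id a).symm)).natIso (fun _ => h)⟩

lemma main2 {X X' S : Scheme.{u}} (a : X ⟶ S) (a' : X' ⟶ S) (f : X' ⟶ X)
    (h : f ≫ a = a') (hg : ∃ g : X ⟶ X', g ≫ a' = a) :
    (Desc.pullDDFam (f := fun _ : PUnit.{u + 1} => a) (f' := fun _ : PUnit.{u + 1} => a') (α := fun j => j)
        (p := 𝟙 S) (p' := fun _ => f) (fun _ => (h).trans (Category.comp_id a').symm)).IsEquivalence := by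
  obtain ⟨g, hg⟩ := hg
  have wp : ∀ _ : PUnit.{u + 1}, f ≫ a = a' ≫ 𝟙 S := fun _ => (h).trans (Category.comp_id a').symm
  have wq : ∀ _ : PUnit.{u + 1}, g ≫ a' = a ≫ 𝟙 S := fun _ => (hg).trans (Category.comp_id a).symm
  let i₁ := (ptDescPull2 (f := fun _ : PUnit.{u + 1} => a) (f' := fun _ : PUnit.{u + 1} => a')
    (fun _ => f) (fun _ => g) wp wq).natIso (fun _ => by rw [Category.assoc, h, hg])
  let i₂ := (ptDescPull2 (f := fun _ : PUnit.{u + 1} => a') (f' := fun _ : PUnit.{u + 1} => a)
    (fun _ => g) (fun _ => f) wq wp).natIso (fun _ => by rw [Category.assoc, hg, h])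
  exact (CategoryTheory.Equivalence.mk _ _ i₁.symm i₂).isEquivalence_functor

end PRE

/-- Let a : X ⟶ S be a morphism of schemes and f : X ⟶ X a morphism over S (f ≫ a = a). Then the
pullback functor along f on the category of descent data for schemes relative to X ⟶ S is isomorphic
to the identity functor. (Existence of an isomorphism of functors only; descent data relative to a
single morphism are written as descent data relative to the corresponding one-member family.) -/
theorem result {X S : Scheme.{u}} (a : X ⟶ S) (f : X ⟶ X) (h : f ≫ a = a) :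
    Nonempty (Desc.pullDDFam (f := fun _ : PUnit.{u + 1} => a) (f' := fun _ : PUnit.{u + 1} => a) (α := fun j => j)
        (p := 𝟙 S) (p' := fun _ => f) (fun _ => (h).trans (Category.comp_id a).symm) ≅
      𝟭 (Desc.SchDDFam (fun _ : PUnit.{u + 1} => a))) := by
  exact main a f h

end Groth.Agent.S9864
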