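import Groth.Statements.S9871
-- import your own Groth.Agent.* helpers here

set_option autoImplicit false
universe u
open CategoryTheory CategoryTheory.Limits AlgebraicGeometry
open AlgSp

namespace Groth.Agent.S9871

set_option backward.isDefEq.respectTransparency false
set_option maxHeartbeats 800000

section
variable {S : Scheme.{u}} {R U R' U' : Over S} {s t : R ⟶ U} {g : U' ⟶ U} {s' t' : R' ⟶ U'}
  {r : R' ⟶ R}

theorem restrict_fst (hsq : IsPullback (prod.lift t' s') r (prod.map g g) (prod.lift t s)) :
    t' ≫ g = r ≫ t := by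
  have := congrArg (· ≫ prod.fst) hsq.w
  simpa using this

theorem restrict_snd (hsq : IsPullback (prod.lift t' s') r (prod.map g g) (prod.lift t s)) :
    s' ≫ g = r ≫ s := by
  have := congrArg (· ≫ prod.snd) hsq.w
  simpa using this

/-- Lifting a pair of points of `U'` related through `R` to a point of `R'`. -/
theorem exists_lift_restrict
    (hsq : IsPullback (prod.lift t' s') r (prod.map g g) (prod.lift t s)) {W : Over S}
    (a b : W ⟶ U') (ρ : W ⟶ R) (h1 : ρ ≫ t = a ≫ g) (h2 : ρ ≫ s = b ≫ g) :
    ∃ ρ' : W ⟶ R', ρ' ≫ t' = a ∧ ρ' ≫ s' = b ∧ ρ' ≫ r = ρ := by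
  have hcomp : prod.lift a b ≫ prod.map g g = ρ ≫ prod.lift t s := by
    apply Limits.prod.hom_ext
    · simp [h1]
    · simp [h2]
  have e1 : hsq.lift (prod.lift a b) ρ hcomp ≫ prod.lift t' s' = prod.lift a b :=
    hsq.lift_fst _ _ _
  refine ⟨hsq.lift (prod.lift a b) ρ hcomp, ?_, ?_, hsq.lift_snd _ _ _⟩
  · have := congrArg (· ≫ prod.fst) e1
    simpa using this
  · have := congrArg (· ≫ prod.snd) e1
    simpa using this

theorem restrict_hom_ext
    (hsq : IsPullback (prod.lift t' s') r (prod.map g g) (prod.lift t s)) {W : Over S}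
    (x y : W ⟶ R') (h1 : x ≫ t' = y ≫ t') (h2 : x ≫ s' = y ≫ s') (h3 : x ≫ r = y ≫ r) :
    x = y := by
  apply hsq.hom_ext
  · apply Limits.prod.hom_ext
    · simpa using h1
    · simpa using h2
  · exact h3

/-- `R' ⟶ U' ×_U R` (through `s`) is the base change of `g` along `U' ×_U R ⟶ R ⟶ U` (through `t`). -/
theorem isPullback_restrict_left
    (hsq : IsPullback (prod.lift t' s') r (prod.map g g) (prod.lift t s)) :
    IsPullback t' (pullback.lift s' r (restrict_snd hsq)) g (pullback.snd g s ≫ t) := by
  refine ⟨⟨?_⟩, ⟨PullbackCone.IsLimit.mk _ (fun c => ?_) (fun c => ?_) (fun c => ?_)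
    (fun c m hm1 hm2 => ?_)⟩⟩
  · rw [← Category.assoc, pullback.lift_snd]
    exact restrict_fst hsq
  · have hc : (c.snd ≫ pullback.snd g s) ≫ t = c.fst ≫ g := by
      rw [Category.assoc]; exact c.condition.symm
    have hc2 : (c.snd ≫ pullback.snd g s) ≫ s = (c.snd ≫ pullback.fst g s) ≫ g := by
      rw [Category.assoc, Category.assoc, pullback.condition]
    exact (exists_lift_restrict hsq c.fst (c.snd ≫ pullback.fst g s)
      (c.snd ≫ pullback.snd g s) hc hc2).choose
  · have hc : (c.snd ≫ pullback.snd g s) ≫ t = c.fst ≫ g := by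
      rw [Category.assoc]; exact c.condition.symm
    have hc2 : (c.snd ≫ pullback.snd g s) ≫ s = (c.snd ≫ pullback.fst g s) ≫ g := by
      rw [Category.assoc, Category.assoc, pullback.condition]
    exact (exists_lift_restrict hsq c.fst (c.snd ≫ pullback.fst g s)
      (c.snd ≫ pullback.snd g s) hc hc2).choose_spec.1
  · have hc : (c.snd ≫ pullback.snd g s) ≫ t = c.fst ≫ g := by
      rw [Category.assoc]; exact c.condition.symm
    have hc2 : (c.snd ≫ pullback.snd g s) ≫ s = (c.snd ≫ pullback.fst g s) ≫ g := by
      rw [Category.assoc, Category.assoc, pullback.condition]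
    obtain ⟨-, h2, h3⟩ := (exists_lift_restrict hsq c.fst (c.snd ≫ pullback.fst g s)
      (c.snd ≫ pullback.snd g s) hc hc2).choose_spec
    apply pullback.hom_ext
    · rw [Category.assoc, pullback.lift_fst]; exact h2
    · rw [Category.assoc, pullback.lift_snd]; exact h3
  · have hc : (c.snd ≫ pullback.snd g s) ≫ t = c.fst ≫ g := by
      rw [Category.assoc]; exact c.condition.symm
    have hc2 : (c.snd ≫ pullback.snd g s) ≫ s = (c.snd ≫ pullback.fst g s) ≫ g := by
      rw [Category.assoc, Category.assoc, pullback.condition]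
    obtain ⟨h1, h2, h3⟩ := (exists_lift_restrict hsq c.fst (c.snd ≫ pullback.fst g s)
      (c.snd ≫ pullback.snd g s) hc hc2).choose_spec
    apply restrict_hom_ext hsq
    · rw [h1]; exact hm1
    · rw [h2, ← hm2, Category.assoc, pullback.lift_fst]
    · rw [h3, ← hm2, Category.assoc, pullback.lift_snd]

/-- The restriction square with the two factors exchanged. -/
theorem isPullback_swap
    (hsq : IsPullback (prod.lift t' s') r (prod.map g g) (prod.lift t s)) :
    IsPullback (prod.lift s' t') r (prod.map g g) (prod.lift s t) := by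
  refine ⟨⟨?_⟩, ⟨PullbackCone.IsLimit.mk _ (fun c => ?_) (fun c => ?_) (fun c => ?_)
    (fun c m hm1 hm2 => ?_)⟩⟩
  · apply Limits.prod.hom_ext
    · simp [restrict_snd hsq]
    · simp [restrict_fst hsq]
  · have h1 : c.snd ≫ t = (c.fst ≫ prod.snd) ≫ g := by
      have := congrArg (· ≫ prod.snd) c.condition
      simpa using this.symm
    have h2 : c.snd ≫ s = (c.fst ≫ prod.fst) ≫ g := by
      have := congrArg (· ≫ prod.fst) c.condition
      simpa using this.symm
    exact (exists_lift_restrict hsq (c.fst ≫ prod.snd) (c.fst ≫ prod.fst) c.snd h1 h2).choose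
  · have h1 : c.snd ≫ t = (c.fst ≫ prod.snd) ≫ g := by
      have := congrArg (· ≫ prod.snd) c.condition
      simpa using this.symm
    have h2 : c.snd ≫ s = (c.fst ≫ prod.fst) ≫ g := by
      have := congrArg (· ≫ prod.fst) c.condition
      simpa using this.symm
    obtain ⟨e1, e2, -⟩ :=
      (exists_lift_restrict hsq (c.fst ≫ prod.snd) (c.fst ≫ prod.fst) c.snd h1 h2).choose_spec
    apply Limits.prod.hom_ext
    · simpa using e2
    · simpa using e1
  · have h1 : c.snd ≫ t = (c.fst ≫ prod.snd) ≫ g := by
      have := congrArg (· ≫ prod.snd) c.condition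
      simpa using this.symm
    have h2 : c.snd ≫ s = (c.fst ≫ prod.fst) ≫ g := by
      have := congrArg (· ≫ prod.fst) c.condition
      simpa using this.symm
    exact (exists_lift_restrict hsq (c.fst ≫ prod.snd) (c.fst ≫ prod.fst) c.snd h1
      h2).choose_spec.2.2
  · have h1 : c.snd ≫ t = (c.fst ≫ prod.snd) ≫ g := by
      have := congrArg (· ≫ prod.snd) c.condition
      simpa using this.symm
    have h2 : c.snd ≫ s = (c.fst ≫ prod.fst) ≫ g := by
      have := congrArg (· ≫ prod.fst) c.condition
      simpa using this.symm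
    obtain ⟨e1, e2, e3⟩ :=
      (exists_lift_restrict hsq (c.fst ≫ prod.snd) (c.fst ≫ prod.fst) c.snd h1 h2).choose_spec
    apply restrict_hom_ext hsq
    · rw [e1, ← hm1]; simp
    · rw [e2, ← hm1]; simp
    · rw [e3, ← hm2]

end


/-- Let `s, t : R ⟶ U` be an etale equivalence relation on a scheme `U` over `S` and let `g : U' ⟶ U` be
an etale morphism over `S`. Let `s', t' : R' ⟶ U'` be the restriction to `U'`: `R'`, with `(t', s')`
and `R' ⟶ R`, is the fibre product of `U' ×_S U'` and `R` over `U ×_S U`. Then `s', t'` is again an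
etale equivalence relation. -/
theorem result (S : Scheme.{u}) {R U R' U' : Over S} (s t : R ⟶ U)
    (g : U' ⟶ U) (s' t' : R' ⟶ U') (r : R' ⟶ R)
    (hsq : IsPullback (prod.lift t' s') r (prod.map g g) (prod.lift t s))
    (h : AlgSp.IsEtaleEqvRel s t) [Etale g.left] :
    AlgSp.IsEtaleEqvRel s' t' := by
  have hE := h.toIsEqvRel
  have key : ∀ (T : Over S) (a b : T ⟶ U'), (∃ r' : T ⟶ R', r' ≫ t' = a ∧ r' ≫ s' = b) ↔
      (∃ ρ : T ⟶ R, ρ ≫ t = a ≫ g ∧ ρ ≫ s = b ≫ g) := by
    intro T a b
    constructor
    · rintro ⟨r', rfl, rfl⟩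
      exact ⟨r' ≫ r, by rw [Category.assoc, Category.assoc, restrict_fst hsq],
        by rw [Category.assoc, Category.assoc, restrict_snd hsq]⟩
    · rintro ⟨ρ, h1, h2⟩
      obtain ⟨ρ', e1, e2, -⟩ := exists_lift_restrict hsq a b ρ h1 h2
      exact ⟨ρ', e1, e2⟩
  refine { injective := ?_, equivalence := ?_, etale_left := ?_, etale_right := ?_ }
  · intro T x y h1 h2
    apply restrict_hom_ext hsq x y h1 h2
    apply hE.injective
    · rw [Category.assoc, Category.assoc, ← restrict_fst hsq, ← Category.assoc, ← Category.assoc,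
        h1]
    · rw [Category.assoc, Category.assoc, ← restrict_snd hsq, ← Category.assoc, ← Category.assoc,
        h2]
  · intro T
    have e := hE.equivalence T
    exact ⟨fun a => (key T a a).2 (e.refl (a ≫ g)),
      fun {a b} hab => (key T b a).2 (e.symm ((key T a b).1 hab)),
      fun {a b c} h1 h2 => (key T a c).2 (e.trans ((key T a b).1 h1) ((key T b c).1 h2))⟩
  · have sq1 := (isPullback_restrict_left hsq).map (Over.forget S)
    have hl : Etale (pullback.lift s' r (restrict_snd hsq)).left :=
      MorphismProperty.of_isPullback (P := @Etale) sq1 (inferInstance : Etale g.left)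
    have hp1 : Etale (pullback.fst g s).left :=
      MorphismProperty.of_isPullback (P := @Etale)
        ((IsPullback.of_hasPullback g s).flip.map (Over.forget S)) h.etale_left
    have e : s' = pullback.lift s' r (restrict_snd hsq) ≫ pullback.fst g s :=
      (pullback.lift_fst _ _ _).symm
    rw [e]
    show Etale ((pullback.lift s' r (restrict_snd hsq)).left ≫ (pullback.fst g s).left)
    infer_instance
  · have hsq' := isPullback_swap hsq
    have sq1 := (isPullback_restrict_left hsq').map (Over.forget S)
    have hl : Etale (pullback.lift t' r (restrict_snd hsq')).left :=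
      MorphismProperty.of_isPullback (P := @Etale) sq1 (inferInstance : Etale g.left)
    have hp1 : Etale (pullback.fst g t).left :=
      MorphismProperty.of_isPullback (P := @Etale)
        ((IsPullback.of_hasPullback g t).flip.map (Over.forget S)) h.etale_right
    have e : t' = pullback.lift t' r (restrict_snd hsq') ≫ pullback.fst g t :=
      (pullback.lift_fst _ _ _).symm
    rw [e]
    show Etale ((pullback.lift t' r (restrict_snd hsq')).left ≫ (pullback.fst g t).left)
    infer_instance

end Groth.Agent.S9871
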