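import Groth.Statements.S9874
-- import your own Groth.Agent.* helpers here
import Mathlib
import Groth.Agent.Lib.Helper40.RelRep

set_option autoImplicit false
universe u
open CategoryTheory CategoryTheory.Limits AlgebraicGeometry
open AlgSp

namespace Groth.Agent.S9874

/-- Let `H` be an fppf sheaf of sets over `S` whose diagonal `H ⟶ H × H` is representable by schemes,
let `X`, `Y` be algebraic spaces over `S` with maps `f : X ⟶ H`, `g : Y ⟶ H`, and let `P` with its
two projections be a fibre product `X ×_H Y` in sheaves. Then `P` is an algebraic space over `S`. -/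
theorem result (S : Scheme.{u}) (H : AlgSp.Sp S)
    (hH : AlgSp.Representable (Limits.diag H)) (X Y : AlgSp.Space S) (f : X.obj ⟶ H) (g : Y.obj ⟶ H)
    (P : AlgSp.Sp S) (fst : P ⟶ X.obj) (snd : P ⟶ Y.obj) (h : IsPullback fst snd f g) :
    AlgSp.IsAlgSpace P := by
  refine ⟨?_, ?_⟩
  · apply Functor.relativelyRepresentable.diag_of_map_from_obj
    refine Groth.Agent.Lib.Helper40.RelRep.of_jointly_mono (AlgSp.yon S) fst snd ?_ ?_ ?_
    · intro Z m m' h1 h2
      exact h.hom_ext h1 h2
    · intro T x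
      exact X.property.representable_from_yon x
    · exact Y.property.diag
  · obtain ⟨U, pU, hUe, hUs⟩ := X.property.atlas
    obtain ⟨V, pV, hVe, hVs⟩ := Y.property.atlas
    have hrep : AlgSp.Representable (pU ≫ f) := Functor.relativelyRepresentable.of_diag hH _
    obtain ⟨W, w₂, w₁, sqW⟩ := hrep (pV ≫ g)
    -- the intermediate object `X ×_H h_V`
    let M := pullback f (pV ≫ g)
    let m₁ : M ⟶ X.obj := pullback.fst f (pV ≫ g)
    let m₂ : M ⟶ (AlgSp.yon S).obj V := pullback.snd f (pV ≫ g)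
    have sqM : IsPullback m₁ m₂ f (pV ≫ g) := IsPullback.of_hasPullback _ _
    have cα : (w₁ ≫ pU) ≫ f = (AlgSp.yon S).map w₂ ≫ pV ≫ g := by
      rw [Category.assoc, sqW.w]
    let α : (AlgSp.yon S).obj W ⟶ M := sqM.lift (w₁ ≫ pU) ((AlgSp.yon S).map w₂) cα
    have hα1 : α ≫ m₁ = w₁ ≫ pU := sqM.lift_fst _ _ _
    have hα2 : α ≫ m₂ = (AlgSp.yon S).map w₂ := sqM.lift_snd _ _ _
    have sqα : IsPullback α w₁ m₁ pU := by
      refine IsPullback.of_right ?_ hα1 sqM.flip
      rw [hα2]
      exact sqW.flip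
    have cβ : m₁ ≫ f = (m₂ ≫ pV) ≫ g := by
      rw [sqM.w, Category.assoc]
    let β : M ⟶ P := h.lift m₁ (m₂ ≫ pV) cβ
    have hβ1 : β ≫ fst = m₁ := h.lift_fst _ _ _
    have hβ2 : β ≫ snd = m₂ ≫ pV := h.lift_snd _ _ _
    have sqβ : IsPullback β m₂ snd pV := by
      refine IsPullback.of_right ?_ hβ2 h
      rw [hβ1]
      exact sqM
    have b1 := AlgSp.repWith_isStableUnderBaseChange (S := S) @Etale
    have b2 := AlgSp.repWith_isStableUnderBaseChange (S := S) @Surjective
    have c1 := AlgSp.repWith_isMultiplicative (S := S) @Etale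
    have c2 := AlgSp.repWith_isMultiplicative (S := S) @Surjective
    refine ⟨W, α ≫ β, ?_, ?_⟩
    · exact (AlgSp.RepWith (S := S) @Etale).comp_mem _ _
        (b1.of_isPullback sqα.flip hUe) (b1.of_isPullback sqβ.flip hVe)
    · exact (AlgSp.RepWith (S := S) @Surjective).comp_mem _ _
        (b2.of_isPullback sqα.flip hUs) (b2.of_isPullback sqβ.flip hVs)

end Groth.Agent.S9874
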