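import Groth.Statements.S9892
-- import your own Groth.Agent.* helpers here
import Mathlib
import Groth.Agent.Lib.Helper40.AlgSpPre

set_option autoImplicit false
universe u
open CategoryTheory CategoryTheory.Limits AlgebraicGeometry
open AlgSp

namespace Groth.Agent.S9892

/-- Let `a : F ⟶ G` be a map of presheaves of sets on schemes over `S` which is representable by
schemes. If `G` is a sheaf for the fppf topology, then so is `F`. -/
theorem result (S : Scheme.{u}) (F G : AlgSp.PSp S) (a : F ⟶ G)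
    (ha : (AlgSp.pyon S).relativelyRepresentable a) (hG : Presheaf.IsSheaf (AlgSp.J S) G) :
    Presheaf.IsSheaf (AlgSp.J S) F := by
  rw [isSheaf_iff_isSheaf_of_type] at hG ⊢
  intro U R hR
  have hGR := hG R hR
  rw [← Presieve.isSeparatedFor_and_exists_isAmalgamation_iff_isSheafFor]
  -- the sheaf `h_V`
  have hyon : ∀ V : Over S, Presieve.IsSheaf (AlgSp.J S) ((AlgSp.pyon S).obj V) := fun V =>
    (isSheaf_iff_isSheaf_of_type _ _).1 ((AlgSp.yon S).obj V).property
  constructor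
  · -- separated
    intro x t₁ t₂ h₁ h₂
    have ha₁ : (Presieve.FamilyOfElements.map x a).IsAmalgamation (a.app _ t₁) :=
      Presieve.FamilyOfElements.IsAmalgamation.map a h₁
    have ha₂ : (Presieve.FamilyOfElements.map x a).IsAmalgamation (a.app _ t₂) :=
      Presieve.FamilyOfElements.IsAmalgamation.map a h₂
    have hs : a.app _ t₁ = a.app _ t₂ := hGR.isSeparatedFor _ _ _ ha₁ ha₂
    set g₀ : (AlgSp.pyon S).obj U ⟶ G := uliftYonedaEquiv.symm (a.app _ t₁) with hg₀
    have hg₀' : uliftYonedaEquiv g₀ = a.app _ t₁ := Equiv.apply_symm_apply _ _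
    obtain ⟨V, snd, fst, sq⟩ := ha g₀
    have he₁ : a.app (Opposite.op U) t₁ = G.map (𝟙 U).op (uliftYonedaEquiv g₀) := by
      rw [hg₀']; simp
    have he₂ : a.app (Opposite.op U) t₂ = G.map (𝟙 U).op (uliftYonedaEquiv g₀) := by
      rw [hg₀', ← hs]; simp
    let τ₁ := Groth.Agent.Lib.Helper40.AlgSpPre.liftPt sq (𝟙 U) t₁ he₁
    let τ₂ := Groth.Agent.Lib.Helper40.AlgSpPre.liftPt sq (𝟙 U) t₂ he₂
    have hτ : τ₁ = τ₂ := by
      have hsep := (hyon V R hR).isSeparatedFor
      have := hsep.ext (t₁ := (⟨τ₁⟩ : ((AlgSp.pyon S).obj V).obj (Opposite.op U)))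
        (t₂ := ⟨τ₂⟩) ?_
      · exact congrArg ULift.down this
      · intro T f hf
        show ULift.up (f ≫ τ₁) = ULift.up (f ≫ τ₂)
        congr 1
        apply Groth.Agent.Lib.Helper40.AlgSpPre.pt_ext sq
        · rw [Category.assoc, Category.assoc,
            Groth.Agent.Lib.Helper40.AlgSpPre.liftPt_snd,
            Groth.Agent.Lib.Helper40.AlgSpPre.liftPt_snd]
        · rw [← Groth.Agent.Lib.Helper40.AlgSpPre.sec_map,
            ← Groth.Agent.Lib.Helper40.AlgSpPre.sec_map,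
            Groth.Agent.Lib.Helper40.AlgSpPre.liftPt_fst,
            Groth.Agent.Lib.Helper40.AlgSpPre.liftPt_fst, h₁ f hf, h₂ f hf]
    have e₁ := Groth.Agent.Lib.Helper40.AlgSpPre.liftPt_fst sq (𝟙 U) t₁ he₁
    have e₂ := Groth.Agent.Lib.Helper40.AlgSpPre.liftPt_fst sq (𝟙 U) t₂ he₂
    rw [← e₁, ← e₂]
    show uliftYonedaEquiv ((AlgSp.pyon S).map τ₁ ≫ fst) = uliftYonedaEquiv ((AlgSp.pyon S).map τ₂ ≫ fst)
    rw [hτ]
  · -- existence
    intro x hx
    obtain ⟨s, hs⟩ := (hGR (Presieve.FamilyOfElements.map x a)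
      (Presieve.FamilyOfElements.Compatible.map a hx)).exists
    set g₀ : (AlgSp.pyon S).obj U ⟶ G := uliftYonedaEquiv.symm s with hg₀
    have hg₀' : uliftYonedaEquiv g₀ = s := Equiv.apply_symm_apply _ _
    obtain ⟨V, snd, fst, sq⟩ := ha g₀
    have he : ∀ ⦃T : Over S⦄ (f : T ⟶ U) (hf : R f),
        a.app (Opposite.op T) (x f hf) = G.map f.op (uliftYonedaEquiv g₀) := by
      intro T f hf
      rw [hg₀']
      exact (hs f hf).symm
    let σ : ∀ ⦃T : Over S⦄ (f : T ⟶ U) (hf : R f), T ⟶ V := fun T f hf =>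
      Groth.Agent.Lib.Helper40.AlgSpPre.liftPt sq f (x f hf) (he f hf)
    let z : Presieve.FamilyOfElements ((AlgSp.pyon S).obj V) R.arrows := fun T f hf => ⟨σ f hf⟩
    have hz : z.Compatible := by
      rw [Presieve.compatible_iff_sieveCompatible]
      intro T T' f h hf
      show ULift.up (σ (h ≫ f) _) = ULift.up (h ≫ σ f hf)
      congr 1
      apply Groth.Agent.Lib.Helper40.AlgSpPre.pt_ext sq
      · rw [Category.assoc, Groth.Agent.Lib.Helper40.AlgSpPre.liftPt_snd,
          Groth.Agent.Lib.Helper40.AlgSpPre.liftPt_snd]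
      · rw [← Groth.Agent.Lib.Helper40.AlgSpPre.sec_map,
          Groth.Agent.Lib.Helper40.AlgSpPre.liftPt_fst,
          Groth.Agent.Lib.Helper40.AlgSpPre.liftPt_fst]
        exact (Presieve.compatible_iff_sieveCompatible x).1 hx f h hf
    obtain ⟨⟨τ⟩, hτ⟩ := ((hyon V R hR) z hz).exists
    have hτ' : ∀ ⦃T : Over S⦄ (f : T ⟶ U) (hf : R f), f ≫ τ = σ f hf := by
      intro T f hf
      exact congrArg ULift.down (hτ f hf)
    refine ⟨uliftYonedaEquiv ((AlgSp.pyon S).map τ ≫ fst), ?_⟩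
    intro T f hf
    rw [Groth.Agent.Lib.Helper40.AlgSpPre.sec_map, hτ' f hf]
    exact Groth.Agent.Lib.Helper40.AlgSpPre.liftPt_fst sq f (x f hf) (he f hf)

end Groth.Agent.S9892
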