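import Groth.Statements.S9876
-- import your own Groth.Agent.* helpers here
import Mathlib
import Groth.Agent.S9892
import Groth.Agent.Lib.Helper40.RelRep

set_option autoImplicit false
universe u
open CategoryTheory CategoryTheory.Limits AlgebraicGeometry
open AlgSp

namespace Groth.Agent.S9876

/-- Let `X` be an algebraic space over `S` and `G` a presheaf of sets on schemes over `S` with a map `a
: G ⟶ X` of presheaves which is representable by schemes. Then `G` is an fppf sheaf and an algebraic
space over `S`. -/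
theorem result (S : Scheme.{u}) (X : AlgSp.Space S)
    (G : AlgSp.PSp S) (a : G ⟶ X.obj.obj) (ha : (AlgSp.pyon S).relativelyRepresentable a) :
    AlgSp.IsAlgSpaceP G := by
  have hG : Presheaf.IsSheaf (AlgSp.J S) G :=
    Groth.Agent.S9892.result S G X.obj.obj a ha X.obj.property
  refine ⟨hG, ?_⟩
  let G' : AlgSp.Sp S := ⟨G, hG⟩
  let a' : G' ⟶ X.obj := ObjectProperty.homMk a
  have hrep : AlgSp.Representable a' := by
    intro U g₀
    obtain ⟨V, snd, fst, sq⟩ := ha g₀.hom
    let fst' : (AlgSp.yon S).obj V ⟶ G' := ObjectProperty.homMk fst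
    have w : fst' ≫ a' = (AlgSp.yon S).map snd ≫ g₀ := by
      apply Sheaf.hom_ext
      exact sq.w
    exact ⟨V, snd, fst', IsPullback.of_map (sheafToPresheaf (AlgSp.J S) (Type (u + 1))) w sq⟩
  have hX : ∀ ⦃T : Over S⦄ (x : (AlgSp.yon S).obj T ⟶ X.obj), AlgSp.Representable x :=
    fun T x => X.property.representable_from_yon x
  refine ⟨?_, ?_⟩
  · exact Functor.relativelyRepresentable.diag_of_map_from_obj
      (Groth.Agent.Lib.Helper40.RelRep.of_map_to_rep (AlgSp.yon S) hrep hX)
  · obtain ⟨U, p, hpe, hps⟩ := X.property.atlas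
    obtain ⟨V, snd, fst, sq⟩ := hrep p
    have i1 := AlgSp.repWith_isStableUnderBaseChange (S := S) @Etale
    have i2 := AlgSp.repWith_isStableUnderBaseChange (S := S) @Surjective
    exact ⟨V, fst, i1.of_isPullback sq.flip hpe, i2.of_isPullback sq.flip hps⟩

end Groth.Agent.S9876
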