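import Groth.Statements.S9879
import Groth.Agent.Lib.Helper78.AlgSpCoprod2

set_option autoImplicit false
universe u
open CategoryTheory CategoryTheory.Limits AlgebraicGeometry
open AlgSp

namespace Groth.Agent.S9879

/-- Let `U` be a scheme over `S` and `F_i` a family of fppf sheaves of sets over `S` whose coproduct in
sheaves is isomorphic to `h_U`. Then each `F_i` is representable by a scheme `V_i` over `S` such
that `V_i ⟶ U` (the morphism inducing `h_{V_i} ≅ F_i ⟶ ∐ F_i ≅ h_U`) is an open and closed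
immersion, and `U` is the coproduct of the `V_i` in schemes. -/
theorem result (S : Scheme.{u}) (U : Over S) {ι : Type u}
    (F : ι → AlgSp.Sp S) (c : Cofan F) (hc : IsColimit c) (e : c.pt ≅ (AlgSp.yon S).obj U) :
    ∃ (V : ι → Over S) (g : ∀ i, V i ⟶ U) (ei : ∀ i, (AlgSp.yon S).obj (V i) ≅ F i),
      (∀ i, IsOpenImmersion (g i).left ∧ IsClosedImmersion (g i).left) ∧
      (∀ i, (ei i).hom ≫ c.inj i ≫ e.hom = (AlgSp.yon S).map (g i)) ∧
      Nonempty (IsColimit (Cofan.mk U.left (fun i => (g i).left))) := by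
  obtain ⟨W, y, hd, hcov, hpb⟩ :=
    Groth.Agent.Lib.Helper78.AlgSpCoprod.exists_decomposition hc (T := U) e.inv
  have hiso : ∀ i, IsIso (y i) := fun i => (hpb i).isIso_fst_of_isIso
  refine ⟨fun i => Over.mk ((W i).ι ≫ U.hom),
    fun i => Groth.Agent.Lib.Helper78.AlgSpZar.opensι U (W i),
    fun i => @asIso _ _ _ _ (y i) (hiso i), ?_, ?_, ?_⟩
  · intro i
    exact ⟨inferInstanceAs (IsOpenImmersion (W i).ι),
      Groth.Agent.Lib.Helper78.AlgSpCoprod.isClosedImmersion_ι_of_isClosed (W i)
        (Groth.Agent.Lib.Helper78.AlgSpCoprod.isClosed_of_decomposition W hd hcov i)⟩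
  · intro i
    change y i ≫ c.inj i ≫ e.hom = _
    rw [← Category.assoc, (hpb i).w, Category.assoc, e.inv_hom_id, Category.comp_id]
  · have : ∀ i, IsOpenImmersion (W i).ι := fun i => inferInstance
    refine nonempty_isColimit_cofanMk_of (fun i => (W i).ι) ?_ ?_
    · simp only [Scheme.Opens.opensRange_ι]
      exact hcov
    · intro i j hij
      simp only [Function.onFun, Scheme.Opens.opensRange_ι]
      exact hd i j hij

end Groth.Agent.S9879
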