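import Groth.Statements.S9880
import Groth.Agent.Lib.Helper78.AlgSpCoprod2
import Groth.Agent.S9876

set_option autoImplicit false
universe u
open CategoryTheory CategoryTheory.Limits AlgebraicGeometry
open AlgSp

namespace Groth.Agent.S9880

/-- Let `F_i` be a family of fppf sheaves of sets over `S` whose coproduct `∐ F_i` in sheaves (any
colimit cofan) is an algebraic space over `S`. Then each `F_i` is an algebraic space over `S`. -/
theorem result (S : Scheme.{u}) {ι : Type u} (F : ι → AlgSp.Sp S) (c : Cofan F)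
    (hc : IsColimit c) (h : AlgSp.IsAlgSpace c.pt) (i : ι) : AlgSp.IsAlgSpace (F i) := by
  have hrep : AlgSp.Representable (c.inj i) :=
    (Groth.Agent.Lib.Helper78.AlgSpCoprod.repWith_openClosed_inj hc i).rep
  have ha : (AlgSp.pyon S).relativelyRepresentable (c.inj i).hom := by
    intro U g₀
    let g₀' : (AlgSp.yon S).obj U ⟶ c.pt := ObjectProperty.homMk g₀
    obtain ⟨V, snd, fst, sq⟩ := hrep g₀'
    exact ⟨V, snd, fst.hom, sq.map (sheafToPresheaf (AlgSp.J S) (Type (u + 1)))⟩
  exact (AlgSp.isAlgSpaceP_obj_iff (F i)).1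
    (Groth.Agent.S9876.result S ⟨c.pt, h⟩ (F i).obj (c.inj i).hom ha)

end Groth.Agent.S9880
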