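import Groth.Statements.S9884
-- import your own Groth.Agent.* helpers here
import Mathlib
import Groth.Agent.Lib.Helper40.AlgSpLocal

set_option autoImplicit false
universe u
open CategoryTheory CategoryTheory.Limits AlgebraicGeometry
open AlgSp

namespace Groth.Agent.S9884

/-- Let `a : F ⟶ G` be a map of fppf sheaves of sets over `S` which is representable by schemes, `b : H
⟶ G` a surjective map of sheaves, and `a' : H ×_G F ⟶ H` the base change of `a` along `b` (a
pullback square in sheaves). Let `P` be a property of morphisms of schemes stable under base change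
and fppf local on the base. If `a'` has `P` in the representable sense, then so does `a`. (The
published statement is for presheaves, with `b` inducing a surjection of fppf sheafifications; this
row is the case of sheaves.) -/
theorem result (S : Scheme.{u}) (F G H : AlgSp.Sp S) (a : F ⟶ G)
    (ha : AlgSp.Representable a) (b : H ⟶ G) [Sheaf.IsLocallySurjective b] (Q : AlgSp.Sp S) (b' : Q ⟶ F)
    (a' : Q ⟶ H) (sq : IsPullback b' a' a b) (P : MorphismProperty Scheme.{u}) [P.IsStableUnderBaseChange]
    [P.IsLocalAtTarget Scheme.fppfPrecoverage] (h : AlgSp.RepWith P a') : AlgSp.RepWith P a := by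
  apply Groth.Agent.Lib.Helper40.AlgSpBasic.repWith_of_locally a ha P
  intro U g₀
  let s := (AlgSp.J S).uliftYonedaEquiv g₀
  refine ⟨Presheaf.imageSieve b.hom s, Presheaf.imageSieve_mem (AlgSp.J S) b.hom s, ?_⟩
  intro U' gU hgU
  obtain ⟨t, ht⟩ := hgU
  let τ : (AlgSp.yon S).obj U' ⟶ H := (AlgSp.J S).uliftYonedaEquiv.symm t
  have hτ : τ ≫ b = (AlgSp.yon S).map gU ≫ g₀ := by
    apply (AlgSp.J S).uliftYonedaEquiv.injective
    rw [GrothendieckTopology.uliftYonedaEquiv_comp, Equiv.apply_symm_apply,
      ← GrothendieckTopology.uliftYonedaEquiv_naturality]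
    exact ht
  have hr : AlgSp.Representable a' := h.rep
  refine ⟨hr.pullback τ, hr.fst τ ≫ b', hr.snd τ, ?_, h.property_snd τ⟩
  rw [← hτ]
  exact (hr.isPullback τ).paste_horiz sq

end Groth.Agent.S9884
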