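import Groth.Statements.S9886
-- import your own Groth.Agent.* helpers here
import Mathlib

set_option autoImplicit false
universe u
open CategoryTheory CategoryTheory.Limits AlgebraicGeometry
open AlgSp

namespace Groth.Agent.S9886

/-- Let `F` be an fppf sheaf of sets over `S` and `P` a property of morphisms of schemes stable under
base change. Assume that for all schemes `U`, `V` over `S` and all `a : h_U ⟶ F`, `b : h_V ⟶ F` the
fibre product `h_U ×_F h_V` is represented by some scheme `W` over `S` with its projections induced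
by morphisms `W ⟶ U`, `W ⟶ V`, and that for every such represented fibre product the morphism `W ⟶ U
×_S V` has `P`. Then the diagonal `F ⟶ F × F` is representable by schemes and has `P`. (The
published statement is for a presheaf of sets `F` and a property `P` that is also fppf local on the
base; this row takes `F` an fppf sheaf and `P` only stable under base change.) -/
theorem result (S : Scheme.{u}) (F : AlgSp.Sp S) (P : MorphismProperty Scheme.{u})
    [P.IsStableUnderBaseChange]
    (h₁ : ∀ ⦃U V : Over S⦄ (a : (AlgSp.yon S).obj U ⟶ F) (b : (AlgSp.yon S).obj V ⟶ F),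
      ∃ (W : Over S) (fst : W ⟶ U) (snd : W ⟶ V), IsPullback ((AlgSp.yon S).map fst) ((AlgSp.yon S).map snd) a b)
    (h₂ : ∀ ⦃U V W : Over S⦄ (a : (AlgSp.yon S).obj U ⟶ F) (b : (AlgSp.yon S).obj V ⟶ F) (fst : W ⟶ U)
      (snd : W ⟶ V), IsPullback ((AlgSp.yon S).map fst) ((AlgSp.yon S).map snd) a b → P (prod.lift fst snd).left) :
    AlgSp.RepWith P (Limits.diag F) := by
  have hrep : AlgSp.Representable (Limits.diag F) := by
    apply Functor.relativelyRepresentable.diag_of_map_from_obj
    intro U a V b
    obtain ⟨W, fst, snd, sq⟩ := h₁ a b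
    exact ⟨W, snd, (AlgSp.yon S).map fst, sq⟩
  refine ⟨hrep, ?_⟩
  intro T W' c fst' snd' sq'
  set a : (AlgSp.yon S).obj T ⟶ F := c ≫ prod.fst with ha
  set b : (AlgSp.yon S).obj T ⟶ F := c ≫ prod.snd with hb
  obtain ⟨W, p₁, p₂, sq⟩ := h₁ a b
  have hP := h₂ a b p₁ p₂ sq
  have dF1 : Limits.diag F ≫ prod.fst = 𝟙 F := prod.lift_fst _ _
  have dF2 : Limits.diag F ≫ prod.snd = 𝟙 F := prod.lift_snd _ _
  have dT1 : Limits.diag T ≫ prod.fst = 𝟙 T := prod.lift_fst _ _
  have dT2 : Limits.diag T ≫ prod.snd = 𝟙 T := prod.lift_snd _ _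
  have l1 : prod.lift p₁ p₂ ≫ prod.fst = p₁ := prod.lift_fst _ _
  have l2 : prod.lift p₁ p₂ ≫ prod.snd = p₂ := prod.lift_snd _ _
  -- consequences of the square sq'
  have e1 : fst' = (AlgSp.yon S).map snd' ≫ a := by
    have := congrArg (· ≫ prod.fst) sq'.w
    simp only [Category.assoc] at this
    rw [dF1, Category.comp_id] at this
    exact this
  have e2 : fst' = (AlgSp.yon S).map snd' ≫ b := by
    have := congrArg (· ≫ prod.snd) sq'.w
    simp only [Category.assoc] at this
    rw [dF2, Category.comp_id] at this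
    exact this
  -- the comparison map W' ⟶ W
  let w : W' ⟶ W := (AlgSp.yon S).preimage
    (sq.lift ((AlgSp.yon S).map snd') ((AlgSp.yon S).map snd') (by rw [← e1, ← e2]))
  have hw1 : w ≫ p₁ = snd' := by
    apply (AlgSp.yon S).map_injective
    rw [Functor.map_comp, Functor.map_preimage, sq.lift_fst]
  have hw2 : w ≫ p₂ = snd' := by
    apply (AlgSp.yon S).map_injective
    rw [Functor.map_comp, Functor.map_preimage, sq.lift_snd]
  have hcomm : w ≫ prod.lift p₁ p₂ = snd' ≫ Limits.diag T := by
    apply Limits.prod.hom_ext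
    · rw [Category.assoc, Category.assoc, l1, dT1, hw1, Category.comp_id]
    · rw [Category.assoc, Category.assoc, l2, dT2, hw2, Category.comp_id]
  have hproj : ∀ (Z : Over S) (z₁ : Z ⟶ W) (z₂ : Z ⟶ T),
      z₁ ≫ prod.lift p₁ p₂ = z₂ ≫ Limits.diag T → z₁ ≫ p₁ = z₂ ∧ z₁ ≫ p₂ = z₂ := by
    intro Z z₁ z₂ hz
    constructor
    · have := congrArg (· ≫ prod.fst) hz
      simp only [Category.assoc] at this
      rw [l1, dT1, Category.comp_id] at this
      exact this
    · have := congrArg (· ≫ prod.snd) hz
      simp only [Category.assoc] at this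
      rw [l2, dT2, Category.comp_id] at this
      exact this
  -- compatibility needed for lifting into W'
  have hcone : ∀ (Z : Over S) (z₁ : Z ⟶ W) (z₂ : Z ⟶ T),
      z₁ ≫ prod.lift p₁ p₂ = z₂ ≫ Limits.diag T →
      ((AlgSp.yon S).map z₂ ≫ a) ≫ Limits.diag F = (AlgSp.yon S).map z₂ ≫ c := by
    intro Z z₁ z₂ hz
    obtain ⟨hz1, hz2⟩ := hproj Z z₁ z₂ hz
    have hab : (AlgSp.yon S).map z₂ ≫ a = (AlgSp.yon S).map z₂ ≫ b := by
      conv_lhs => rw [← hz1, Functor.map_comp, Category.assoc, sq.w]
      rw [← Category.assoc, ← Functor.map_comp, hz2]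
    apply Limits.prod.hom_ext
    · rw [Category.assoc, dF1, Category.comp_id, Category.assoc]
    · rw [Category.assoc, dF2, Category.comp_id, Category.assoc, hab]
  have hpb : IsPullback w snd' (prod.lift p₁ p₂) (Limits.diag T) := by
    refine ⟨⟨hcomm⟩, ⟨PullbackCone.IsLimit.mk hcomm
      (fun s => (AlgSp.yon S).preimage (sq'.lift ((AlgSp.yon S).map s.snd ≫ a)
        ((AlgSp.yon S).map s.snd) (hcone _ s.fst s.snd s.condition))) ?_ ?_ ?_⟩⟩
    · intro s
      obtain ⟨hs1, hs2⟩ := hproj _ s.fst s.snd s.condition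
      have hl : (AlgSp.yon S).preimage (sq'.lift ((AlgSp.yon S).map s.snd ≫ a)
          ((AlgSp.yon S).map s.snd) (hcone _ s.fst s.snd s.condition)) ≫ snd' = s.snd := by
        apply (AlgSp.yon S).map_injective
        rw [Functor.map_comp, Functor.map_preimage, sq'.lift_snd]
      apply (AlgSp.yon S).map_injective
      apply sq.hom_ext
      · rw [← Functor.map_comp, ← Functor.map_comp, Category.assoc, hw1, hl, hs1]
      · rw [← Functor.map_comp, ← Functor.map_comp, Category.assoc, hw2, hl, hs2]
    · intro s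
      apply (AlgSp.yon S).map_injective
      rw [Functor.map_comp, Functor.map_preimage, sq'.lift_snd]
    · intro s m hm1 hm2
      apply (AlgSp.yon S).map_injective
      rw [Functor.map_preimage]
      apply sq'.hom_ext
      · rw [sq'.lift_fst, e1, ← Category.assoc, ← Functor.map_comp, hm2]
      · rw [sq'.lift_snd, ← Functor.map_comp, hm2]
  exact MorphismProperty.of_isPullback (P := P.inverseImage (Over.forget S)) hpb hP

end Groth.Agent.S9886
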