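import Groth.Statements.S9890
import Groth.Agent.S9889
import Groth.Agent.S9868
import Groth.Agent.S9869
import Groth.Agent.Lib.Helper51.AlgSpSep
import Groth.Agent.Lib.Helper40.FpqcLocal
import Groth.Agent.Lib.Helper40.FpqcCov
import Groth.Agent.Lib.Helper78.FinSigma2

set_option autoImplicit false
universe u
open CategoryTheory CategoryTheory.Limits AlgebraicGeometry
open AlgSp

namespace Groth.Agent.S9890

/-- Let a finite group `G` act freely (no non-identity element fixes a point together with its residue
field) by `S`-automorphisms on a scheme `U` over `S`, and let `s, t : R = ∐_{g ∈ G} U ⟶ U` be the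
identity and the action. When `U ⟶ S` is quasi-separated, so is the quotient sheaf `U/G = U/R` over
`S`; when `U ⟶ S` is separated, `U/G` is also separated over `S`. -/
theorem result (S : Scheme.{u}) (U : Over S) (G : Type u) [Group G] [Finite G]
    (ρ : G →* Aut U)
    (hfree : ∀ (g : G) (x : U.left), g ≠ 1 →
      U.left.fromSpecResidueField x ≫ (ρ g).hom.left ≠ U.left.fromSpecResidueField x)
    (c : Cofan (fun _ : G => U)) (hc : IsColimit c) (s t : c.pt ⟶ U)
    (hs : ∀ g, c.inj g ≫ s = 𝟙 U) (ht : ∀ g, c.inj g ≫ t = (ρ g).hom) :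
    (QuasiSeparated U.hom → AlgSp.IsQuasiSeparatedSp (QuotSh.quot Scheme.fppfPrecoverage s t)) ∧
      (IsSeparated U.hom → AlgSp.IsSeparatedSp (QuotSh.quot Scheme.fppfPrecoverage s t)) := by
  have heq : AlgSp.IsEtaleEqvRel s t := Groth.Agent.S9889.result S U G ρ hfree c hc s t hs ht
  have hq := Groth.Agent.S9868.result S s t heq
  have hpres := Groth.Agent.S9869.result S s t heq hq
  have hmono : Mono (prod.lift t s).left :=
    Groth.Agent.Lib.Helper51.mono_prod_lift_left hpres.isPullback
  -- the concrete model of the coproduct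
  let ε : Groth.Agent.Lib.Helper30.FreeAct.RR U G ≅ c.pt :=
    (Groth.Agent.Lib.Helper30.FreeAct.sigmaOverIsColimit (fun _ : G => U)).coconePointUniqueUpToIso hc
  have hε : ∀ g, Groth.Agent.Lib.Helper30.FreeAct.inj U G g ≫ ε.hom = c.inj g := fun g =>
    (Groth.Agent.Lib.Helper30.FreeAct.sigmaOverIsColimit
      (fun _ : G => U)).comp_coconePointUniqueUpToIso_hom hc ⟨g⟩
  let γ : G → (U ⟶ U ⨯ U) := fun g => prod.lift (ρ g).hom (𝟙 U)
  have hγ : ∀ g, Groth.Agent.Lib.Helper30.FreeAct.inj U G g ≫ (ε.hom ≫ prod.lift t s) = γ g := by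
    intro g
    rw [← Category.assoc, hε g]
    apply Limits.prod.hom_ext
    · rw [Category.assoc, prod.lift_fst, prod.lift_fst, ht]
    · rw [Category.assoc, prod.lift_snd, prod.lift_snd, hs]
  have hleft : (ε.hom ≫ prod.lift t s).left = Sigma.desc (fun g => (γ g).left) :=
    Groth.Agent.Lib.Helper30.Coprod.sigmaOver_hom_left (fun _ : G => U) γ _ hγ
  have hεiso : IsIso ε.hom.left := inferInstanceAs (IsIso ((Over.forget S).map ε.hom))
  have hγeq : ∀ g, (γ g).left = (Limits.diag U).left ≫ (prod.map (ρ g).hom (𝟙 U)).left := by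
    intro g
    rw [← Over.comp_left]
    congr 1
    apply Limits.prod.hom_ext
    · simp [γ]
    · simp [γ]
  have hmapiso : ∀ g, IsIso (prod.map (ρ g).hom (𝟙 U)).left := fun g =>
    inferInstanceAs (IsIso ((Over.forget S).map (prod.map (ρ g).hom (𝟙 U))))
  have hdiag : (Limits.diag U).left = pullback.diagonal U.hom ≫ (Over.prodLeftIsoPullback U U).inv := by
    rw [← AlgSp.diag_left_comp_prodLeftIsoPullback, Category.assoc, Iso.hom_inv_id, Category.comp_id]
  have hfact : (prod.lift t s).left = inv ε.hom.left ≫ Sigma.desc (fun g => (γ g).left) := by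
    rw [← hleft, Over.comp_left, IsIso.inv_hom_id_assoc]
  constructor
  · intro hqs
    have hd := Groth.Agent.Lib.Helper40.FpqcLocal.quasiCompact_descendsAlong_fpqc.{u}
    refine Groth.Agent.Lib.Helper51.repWith_diag_of_chart @QuasiCompact hq.diag _ hpres.etale
      hpres.surjective s t hpres.isPullback ?_
    rw [hfact]
    have h1 : ∀ g, QuasiCompact (γ g).left := by
      intro g
      rw [hγeq g, hdiag]
      have : QuasiCompact (pullback.diagonal U.hom) := QuasiSeparated.quasiCompact_diagonal
      infer_instance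
    exact (MorphismProperty.cancel_left_of_respectsIso @QuasiCompact (inv ε.hom.left) _).2
      (Groth.Agent.Lib.Helper78.FinSigma.quasiCompact_sigmaDesc _ h1)
  · intro hsep
    have hd := Groth.Agent.Lib.Helper40.FpqcCov.descendsAlong_isClosedImmersion.{u}
    refine Groth.Agent.Lib.Helper51.repWith_diag_of_chart @IsClosedImmersion hq.diag _ hpres.etale
      hpres.surjective s t hpres.isPullback ?_
    rw [IsClosedImmersion.iff_isFinite_and_mono]
    refine ⟨?_, hmono⟩
    rw [hfact]
    have h1 : ∀ g, IsFinite (γ g).left := by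
      intro g
      rw [hγeq g, hdiag]
      have : IsClosedImmersion (pullback.diagonal U.hom) := IsSeparated.isClosedImmersion_diagonal
      infer_instance
    exact (MorphismProperty.cancel_left_of_respectsIso @IsFinite (inv ε.hom.left) _).2
      (Groth.Agent.Lib.Helper78.FinSigma.isFinite_sigmaDesc _ h1)

end Groth.Agent.S9890
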