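import Groth.Statements.S9891
-- import your own Groth.Agent.* helpers here
import Mathlib

set_option autoImplicit false
universe u
open CategoryTheory CategoryTheory.Limits AlgebraicGeometry
open AlgSp

namespace Groth.Agent.S9891

/-- Let `a : F ⟶ G` be a map of presheaves of sets on schemes over `S` which is representable by
schemes. Then the relative diagonal `F ⟶ F ×_G F` is representable by schemes. -/
theorem result (S : Scheme.{u}) (F G : AlgSp.PSp S) (a : F ⟶ G)
    (ha : (AlgSp.pyon S).relativelyRepresentable a) :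
    (AlgSp.pyon S).relativelyRepresentable (pullback.diagonal a) := by
  intro T g
  set g₁ : (AlgSp.pyon S).obj T ⟶ F := g ≫ pullback.fst a a with hg₁
  set g₂ : (AlgSp.pyon S).obj T ⟶ F := g ≫ pullback.snd a a with hg₂
  have hc : g₁ ≫ a = g₂ ≫ a := by
    rw [hg₁, hg₂, Category.assoc, Category.assoc, pullback.condition]
  obtain ⟨V, snd, fst, sq⟩ := ha (g₁ ≫ a)
  have c1 : g₁ ≫ a = (AlgSp.pyon S).map (𝟙 T) ≫ g₁ ≫ a := by
    rw [CategoryTheory.Functor.map_id, Category.id_comp]
  have c2 : g₂ ≫ a = (AlgSp.pyon S).map (𝟙 T) ≫ g₁ ≫ a := by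
    rw [CategoryTheory.Functor.map_id, Category.id_comp, hc]
  let σ₁ : T ⟶ V := (AlgSp.pyon S).preimage (sq.lift g₁ ((AlgSp.pyon S).map (𝟙 T)) c1)
  let σ₂ : T ⟶ V := (AlgSp.pyon S).preimage (sq.lift g₂ ((AlgSp.pyon S).map (𝟙 T)) c2)
  have hσ₁f : (AlgSp.pyon S).map σ₁ ≫ fst = g₁ := by
    rw [Functor.map_preimage, sq.lift_fst]
  have hσ₂f : (AlgSp.pyon S).map σ₂ ≫ fst = g₂ := by
    rw [Functor.map_preimage, sq.lift_fst]
  have hσ₁s : σ₁ ≫ snd = 𝟙 T := by
    apply (AlgSp.pyon S).map_injective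
    rw [Functor.map_comp, Functor.map_preimage, sq.lift_snd]
  have hσ₂s : σ₂ ≫ snd = 𝟙 T := by
    apply (AlgSp.pyon S).map_injective
    rw [Functor.map_comp, Functor.map_preimage, sq.lift_snd]
  -- the equalizer of the two sections, as a pullback
  let E := pullback σ₁ σ₂
  let e₁ : E ⟶ T := pullback.fst σ₁ σ₂
  let e₂ : E ⟶ T := pullback.snd σ₁ σ₂
  have hE : IsPullback e₁ e₂ σ₁ σ₂ := IsPullback.of_hasPullback σ₁ σ₂
  have he : e₁ = e₂ := by
    have := congrArg (· ≫ snd) hE.w
    simp only [Category.assoc] at this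
    rw [hσ₁s, hσ₂s, Category.comp_id, Category.comp_id] at this
    exact this
  have hE' : IsPullback ((AlgSp.pyon S).map e₁) ((AlgSp.pyon S).map e₂)
      ((AlgSp.pyon S).map σ₁) ((AlgSp.pyon S).map σ₂) := hE.map (AlgSp.pyon S)
  have hg12 : (AlgSp.pyon S).map e₁ ≫ g₁ = (AlgSp.pyon S).map e₁ ≫ g₂ := by
    rw [← hσ₁f, ← hσ₂f, ← Category.assoc, ← Category.assoc, hE'.w, he]
  have hw : ((AlgSp.pyon S).map e₁ ≫ g₁) ≫ pullback.diagonal a = (AlgSp.pyon S).map e₁ ≫ g := by
    apply pullback.hom_ext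
    · rw [Category.assoc, pullback.diagonal_fst, Category.comp_id, Category.assoc]
    · rw [Category.assoc, pullback.diagonal_snd, Category.comp_id, Category.assoc, hg12]
  refine ⟨E, e₁, (AlgSp.pyon S).map e₁ ≫ g₁, ⟨⟨hw⟩, ⟨PullbackCone.IsLimit.mk hw ?_ ?_ ?_ ?_⟩⟩⟩
  · intro s
    refine hE'.lift s.snd s.snd ?_
    have h1 : s.fst = s.snd ≫ g₁ := by
      have := congrArg (· ≫ pullback.fst a a) s.condition
      simp only [Category.assoc] at this
      rw [pullback.diagonal_fst, Category.comp_id] at this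
      exact this
    have h2 : s.fst = s.snd ≫ g₂ := by
      have := congrArg (· ≫ pullback.snd a a) s.condition
      simp only [Category.assoc] at this
      rw [pullback.diagonal_snd, Category.comp_id] at this
      exact this
    apply sq.hom_ext
    · rw [Category.assoc, Category.assoc, hσ₁f, hσ₂f, ← h1, ← h2]
    · rw [Category.assoc, Category.assoc, ← Functor.map_comp, ← Functor.map_comp, hσ₁s, hσ₂s]
  · intro s
    have h1 : s.fst = s.snd ≫ g₁ := by
      have := congrArg (· ≫ pullback.fst a a) s.condition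
      simp only [Category.assoc] at this
      rw [pullback.diagonal_fst, Category.comp_id] at this
      exact this
    rw [← Category.assoc, hE'.lift_fst, h1]
  · intro s
    rw [hE'.lift_fst]
  · intro s m hm1 hm2
    apply hE'.hom_ext
    · rw [hE'.lift_fst, hm2]
    · rw [hE'.lift_snd, ← he, hm2]

end Groth.Agent.S9891
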