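import Groth.Statements.S9905
import Groth.Agent.Lib.Helper30.AlgSpSep
-- import your own Groth.Agent.* helpers here

set_option autoImplicit false
universe u
open CategoryTheory CategoryTheory.Limits AlgebraicGeometry
open AlgSp

namespace Groth.Agent.S9905

open Groth.Agent.Lib.Helper30 Groth.Agent.Lib.Helper51 Groth.Agent.Lib.Helper52

theorem aux (Q QD : MorphismProperty Scheme.{u}) [Q.IsStableUnderBaseChange]
    (hQD : ∀ {A B : Scheme.{u}} (g : A ⟶ B), QD g ↔ Q (pullback.diagonal g))
    {S : Scheme.{u}} {X Y : AlgSp.Space S} (f : X ⟶ Y) (hf : AlgSp.Representable f.hom) :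
    (AlgSp.RepWith Q (pullback.diagonal f.hom) ↔ AlgSp.RepWith QD f.hom) := by
  constructor
  · intro h
    refine ⟨hf, ?_⟩
    intro T V g a v sq
    show QD v.left
    rw [hQD]
    exact (AlgSp.repWith_diagonal_yon_map_iff Q v).1 (diagonal_of_isPullback (AlgSp.RepWith Q) sq h)
  · intro h
    refine repWith_diagonal_of_base_change Q f.hom
      (representable_diagonal X.property.diag f.hom) ?_
    intro T g
    refine ⟨_, hf.fst g, (AlgSp.yon S).map (hf.snd g), hf.isPullback g, ?_⟩
    rw [AlgSp.repWith_diagonal_yon_map_iff, ← hQD]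
    exact h.2 g _ _ (hf.isPullback g)


/-- For a morphism of algebraic spaces representable by schemes, separated in the diagonal sense agrees
with separated in the representable sense, and likewise for quasi-separated. -/
theorem result {S : Scheme.{u}} {X Y : AlgSp.Space S} (f : X ⟶ Y)
    (hf : AlgSp.Representable f.hom) :
    (AlgSp.IsSeparatedMor f.hom ↔ AlgSp.RepWith @IsSeparated f.hom) ∧
    (AlgSp.IsQuasiSeparatedMor f.hom ↔ AlgSp.RepWith @QuasiSeparated f.hom) := by
  exact ⟨aux @IsClosedImmersion @IsSeparated (fun g => isSeparated_iff g) f hf,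
    aux @QuasiCompact @QuasiSeparated (fun g => quasiSeparated_iff g) f hf⟩

end Groth.Agent.S9905
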