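import Groth.Statements.S9911
import Groth.Agent.Lib.Helper30.AlgSpMor
-- import your own Groth.Agent.* helpers here

set_option autoImplicit false
universe u
open CategoryTheory CategoryTheory.Limits AlgebraicGeometry
open AlgSp

namespace Groth.Agent.S9911

open Groth.Agent.Lib.Helper30 Groth.Agent.Lib.Helper51 Groth.Agent.Lib.Helper52


/-- A morphism from an algebraic space to the spectrum of a field is universally open. -/
theorem result {S : Scheme.{u}} (X : AlgSp.Space S) {k : Type u} [Field k]
    (str : Spec (CommRingCat.of k) ⟶ S) (p : X ⟶ (AlgSp.ofScheme S).obj (Over.mk str)) :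
    AlgSp.IsUnivOpenMor p.hom := by
  obtain ⟨U, q, hqe, hqs⟩ := X.property.atlas
  apply isUnivOpenMor_of_comp q p.hom hqs
  have key : ∀ φ : (AlgSp.yon S).obj U ⟶ (AlgSp.yon S).obj (Over.mk str), AlgSp.IsUnivOpenMor φ := by
    intro φ
    obtain ⟨u, rfl⟩ := (AlgSp.yon S).map_surjective φ
    apply isUnivOpenMor_of_repWith
    rw [AlgSp.repWith_yon_map_iff]
    have : IsIntegral (Over.mk str).left := inferInstanceAs (IsIntegral (Spec (CommRingCat.of k)))
    have : Subsingleton ↥(Over.mk str).left :=
      inferInstanceAs (Subsingleton ↥(Spec (CommRingCat.of k)))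
    infer_instance
  exact key _

end Groth.Agent.S9911
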