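import Groth.Statements.S9913
import Groth.Agent.Lib.Helper30.AlgSpMor
-- import your own Groth.Agent.* helpers here

set_option autoImplicit false
universe u
open CategoryTheory CategoryTheory.Limits AlgebraicGeometry
open AlgSp

namespace Groth.Agent.S9913

open Groth.Agent.Lib.Helper30 Groth.Agent.Lib.Helper51 Groth.Agent.Lib.Helper52

/-- A compact open subset of the points of a sheaf with an étale surjective chart `h_U → F` is the image
of a quasi-compact open subscheme of `U`. -/
theorem exists_compact_opens_image_eq {S : Scheme.{u}} {F : AlgSp.Sp S} {U : Over S}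
    (p : (AlgSp.yon S).obj U ⟶ F)
    (hp : AlgSp.RepWith @Etale p) (hs : AlgSp.RepWith @Surjective p)
    (V : Set (AlgSp.Points F)) (hV : IsOpen V) (hVc : IsCompact V) :
    ∃ K : U.left.Opens, IsCompact (K : Set ↥U.left) ∧ AlgSp.Points.ofPt p '' (K : Set ↥U.left) = V := by
  classical
  let W' : U.left.Opens := ⟨AlgSp.Points.ofPt p ⁻¹' V, hV.preimage (AlgSp.Points.continuous_ofPt p)⟩
  have hsurj := surjective_ofPt_of_repWith_surjective p hs
  -- choose for each u ∈ W' an affine open nhd inside W'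
  have hch : ∀ u : W', ∃ A : U.left.Opens, IsAffineOpen A ∧ u.1 ∈ A ∧ A ≤ W' := by
    intro u
    exact exists_isAffineOpen_mem_and_subset u.2
  choose A hA huA hAW using hch
  have hcover : V ⊆ ⋃ u : W', AlgSp.Points.ofPt p '' (A u : Set ↥U.left) := by
    intro y hy
    obtain ⟨u, rfl⟩ := hsurj y
    exact Set.mem_iUnion.2 ⟨⟨u, hy⟩, u, huA ⟨u, hy⟩, rfl⟩
  obtain ⟨t, ht⟩ := hVc.elim_finite_subcover _
    (fun u => isOpenMap_ofPt_of_etale p hp _ (A u).2) hcover
  refine ⟨⨆ u ∈ t, A u, ?_, ?_⟩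
  · have : ((⨆ u ∈ t, A u : U.left.Opens) : Set ↥U.left) = ⋃ u ∈ t, (A u : Set ↥U.left) := by
      simp
    rw [this]
    exact t.isCompact_biUnion fun u _ => (hA u).isCompact
  · apply Set.Subset.antisymm
    · rintro _ ⟨x, hx, rfl⟩
      have hx' : x ∈ ((⨆ u ∈ t, A u : U.left.Opens) : Set ↥U.left) := hx
      simp only [TopologicalSpace.Opens.coe_iSup, Set.mem_iUnion] at hx'
      obtain ⟨u, _, hxu⟩ := hx'
      exact hAW u hxu
    · intro y hy
      have := ht hy
      simp only [Set.mem_iUnion] at this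
      obtain ⟨u, hut, x, hxu, rfl⟩ := this
      refine ⟨x, ?_, rfl⟩
      show x ∈ ((⨆ u ∈ t, A u : U.left.Opens) : Set ↥U.left)
      simp only [TopologicalSpace.Opens.coe_iSup, Set.mem_iUnion]
      exact ⟨u, hut, hxu⟩


/-- For a quasi-compact morphism of algebraic spaces, the induced map on points pulls quasi-compact
opens back to quasi-compact subsets. -/
theorem result {S : Scheme.{u}} {X Y : AlgSp.Space S} (f : X ⟶ Y)
    (hf : AlgSp.IsQuasiCompactMor f.hom) (V : Set (AlgSp.Points Y.obj)) (hV : IsOpen V) (hVc : IsCompact V) :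
    IsCompact (AlgSp.Points.map f.hom ⁻¹' V) := by
  obtain ⟨U, p, hp, hs⟩ := Y.property.atlas
  obtain ⟨K, hK, hKV⟩ := exists_compact_opens_image_eq p hp hs V hV hVc
  let T : Over S := Over.mk (K.ι ≫ U.hom)
  let ι : T ⟶ U := Over.homMk K.ι rfl
  have : CompactSpace ↥T.left := isCompact_iff_compactSpace.1 hK
  let h : (AlgSp.yon S).obj T ⟶ Y.obj := (AlgSp.yon S).map ι ≫ p
  have hrange : Set.range (AlgSp.Points.ofPt h) = V := by
    rw [← hKV]
    ext y
    constructor
    · rintro ⟨t, rfl⟩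
      refine ⟨ι.left t, t.2, ?_⟩
      exact (ofPt_yon_map_comp ι p t).symm
    · rintro ⟨x, hx, rfl⟩
      exact ⟨⟨x, hx⟩, ofPt_yon_map_comp ι p ⟨x, hx⟩⟩
  have hP : AlgSp.IsQuasiCompactSp (pullback f.hom h) :=
    hf (AlgSp.IsAlgSpace.yon_obj T) (isQuasiCompactSp_yon_obj T) h _ _
      (IsPullback.of_hasPullback f.hom h)
  have hPc := compactSpace_points_of_isQuasiCompactSp hP
  have himg : AlgSp.Points.map f.hom ⁻¹' V = Set.range (AlgSp.Points.map (pullback.fst f.hom h)) := by
    ext x
    constructor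
    · intro hx
      rw [Set.mem_preimage, ← hrange] at hx
      obtain ⟨t, ht⟩ := hx
      rw [AlgSp.Points.ofPt_eq_map_ofScheme] at ht
      obtain ⟨w, hw1, _⟩ := exists_point_of_isPullback (IsPullback.of_hasPullback f.hom h) x
        (AlgSp.Points.ofScheme T t) ht.symm
      exact ⟨w, hw1⟩
    · rintro ⟨w, rfl⟩
      rw [Set.mem_preimage, ← AlgSp.Points.map_comp, pullback.condition, AlgSp.Points.map_comp, ← hrange]
      obtain ⟨t, ht⟩ := (AlgSp.Points.schemeEquiv T).surjective (AlgSp.Points.map (pullback.snd f.hom h) w)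
      refine ⟨t, ?_⟩
      rw [AlgSp.Points.ofPt_eq_map_ofScheme]
      exact congrArg _ ht
  rw [himg]
  exact isCompact_range (AlgSp.Points.continuous_map _)

end Groth.Agent.S9913
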