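import Groth.Statements.S9915
import Groth.Agent.Lib.Helper30.AlgSpQC
-- import your own Groth.Agent.* helpers here

set_option autoImplicit false
universe u
open CategoryTheory CategoryTheory.Limits AlgebraicGeometry
open AlgSp

namespace Groth.Agent.S9915

open Groth.Agent.Lib.Helper30 Groth.Agent.Lib.Helper51 Groth.Agent.Lib.Helper52


/-- In a commutative triangle of algebraic spaces with f : X -> Y surjective, if X -> Z is quasi-compact
then Y -> Z is quasi-compact. -/
theorem result {S : Scheme.{u}} {X Y Z : AlgSp.Space S} (f : X ⟶ Y)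
    (p : X ⟶ Z) (q : Y ⟶ Z) (comm : f ≫ q = p) (hf : AlgSp.IsSurjectiveMor f.hom)
    (hp : AlgSp.IsQuasiCompactMor p.hom) : AlgSp.IsQuasiCompactMor q.hom := by
  intro Z' W hZ' hZ'c g fstW sndW sqW
  have sqV := IsPullback.of_hasPullback f.hom fstW
  have big := sqV.paste_vert sqW
  have hcomm : f.hom ≫ q.hom = p.hom := by rw [← comm]; rfl
  rw [hcomm] at big
  have hV : AlgSp.IsQuasiCompactSp (pullback f.hom fstW) := hp hZ' hZ'c g _ _ big
  have hW : AlgSp.IsAlgSpace W := isAlgSpace_of_isPullback Z.property.diag Y.property hZ' sqW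
  exact isQuasiCompactSp_of_surjective hW _ (surjective_map_snd_of_isPullback sqV hf) hV

end Groth.Agent.S9915
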