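import Groth.Statements.S9917
import Groth.Agent.Lib.Helper30.AlgSpQC
-- import your own Groth.Agent.* helpers here

set_option autoImplicit false
universe u
open CategoryTheory CategoryTheory.Limits AlgebraicGeometry
open AlgSp

namespace Groth.Agent.S9917

open Groth.Agent.Lib.Helper30 Groth.Agent.Lib.Helper51 Groth.Agent.Lib.Helper52


/-- (1) ⇔ (3): a morphism of algebraic spaces is quasi-compact if and only if its base change to every
affine scheme over the target is a quasi-compact algebraic space. -/
theorem result {S : Scheme.{u}} {X Y : AlgSp.Space S} (f : X ⟶ Y) :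
    AlgSp.IsQuasiCompactMor f.hom ↔
      ∀ (Z : Over S), IsAffine Z.left → ∀ (g : (AlgSp.yon S).obj Z ⟶ Y.obj) (P : AlgSp.Sp S)
        (fst : P ⟶ X.obj) (snd : P ⟶ (AlgSp.yon S).obj Z), IsPullback fst snd f.hom g →
        AlgSp.IsQuasiCompactSp P := by
  constructor
  · intro hf Z hZ g P fst snd sq
    exact hf (AlgSp.IsAlgSpace.yon_obj Z) (isQuasiCompactSp_yon_obj Z) g fst snd sq
  · intro H Z' P hZ' hZ'c c pX pZ sqP
    obtain ⟨U, t, hU, hte, hts⟩ := (isQuasiCompactSp_iff_exists_affine_chart hZ').1 hZ'c
    have sqT := IsPullback.of_hasPullback pZ t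
    have hPT : AlgSp.IsQuasiCompactSp (pullback pZ t) :=
      H U hU (t ≫ c) _ _ _ (sqT.paste_horiz sqP)
    have hP : AlgSp.IsAlgSpace P := isAlgSpace_of_isPullback Y.property.diag X.property hZ' sqP
    exact isQuasiCompactSp_of_isPullback_chart hP sqT (surjective_map_of_repWith_surjective hts) hPT

end Groth.Agent.S9917
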