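import Groth.Statements.S9926
import Groth.Agent.Lib.Helper30.AlgSpUCqc
import Groth.Agent.S10280
-- import your own Groth.Agent.* helpers here

set_option autoImplicit false
universe u
open CategoryTheory CategoryTheory.Limits AlgebraicGeometry
open AlgSp

namespace Groth.Agent.S9926

open Groth.Agent.Lib.Helper30 Groth.Agent.Lib.Helper51 Groth.Agent.Lib.Helper52

set_option backward.isDefEq.respectTransparency false
set_option maxHeartbeats 400000

section
variable {S : Scheme.{u}}

/-- Cancellation of quasi-compactness along a surjection. -/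
theorem isQuasiCompactMor_of_comp_surjective {X Y Z : AlgSp.Sp S} (hY : AlgSp.IsAlgSpace Y)
    (hZ : AlgSp.IsAlgSpace Z) (f : X ⟶ Y) (q : Y ⟶ Z) (hf : Function.Surjective (Points.map f))
    (hp : AlgSp.IsQuasiCompactMor (f ≫ q)) : AlgSp.IsQuasiCompactMor q := by
  intro Z' W hZ' hZ'c g fstW sndW sqW
  have sqV := IsPullback.of_hasPullback f fstW
  have big := sqV.paste_vert sqW
  have hV : AlgSp.IsQuasiCompactSp (pullback f fstW) := hp hZ' hZ'c g _ _ big
  have hW : AlgSp.IsAlgSpace W := isAlgSpace_of_isPullback hZ.diag hY hZ' sqW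
  exact isQuasiCompactSp_of_surjective hW _ (surjective_map_snd_of_isPullback sqV hf) hV

/-- Cancellation of universal closedness along a surjection. -/
theorem isUnivClosedMor_of_comp_surjective {X Y Z : AlgSp.Sp S} (f : X ⟶ Y) (q : Y ⟶ Z)
    (hf : Function.Surjective (Points.map f)) (hp : AlgSp.IsUnivClosedMor (f ≫ q)) :
    AlgSp.IsUnivClosedMor q := by
  intro Z' W hZ' g fstW sndW sqW
  have sqV := IsPullback.of_hasPullback f fstW
  have big := sqV.paste_vert sqW
  have hcl : IsClosedMap (Points.map (pullback.snd f fstW ≫ sndW)) := hp hZ' g _ _ big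
  have hs : Function.Surjective (Points.map (pullback.snd f fstW)) :=
    surjective_map_snd_of_isPullback sqV hf
  intro C hC
  have e : Points.map sndW '' C = Points.map (pullback.snd f fstW ≫ sndW) ''
      (Points.map (pullback.snd f fstW) ⁻¹' C) := by
    ext z
    constructor
    · rintro ⟨c, hc, rfl⟩
      obtain ⟨v, rfl⟩ := hs c
      exact ⟨v, hc, Points.map_comp _ _ _⟩
    · rintro ⟨v, hv, rfl⟩
      exact ⟨_, hv, (Points.map_comp _ _ _).symm⟩
  rw [e]
  exact hcl _ (hC.preimage (Points.continuous_map _))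

/-- `f ×_B 1` is a base change of `f`. -/
theorem isPullback_map_left {C : Type*} [Category C] [HasPullbacks C] {X Y W B : C} (f : X ⟶ Y)
    (q : Y ⟶ B) (r : W ⟶ B) :
    IsPullback (pullback.fst (f ≫ q) r)
      (pullback.map (f ≫ q) r q r f (𝟙 W) (𝟙 B) (by simp) (by simp)) f (pullback.fst q r) := by
  refine (IsPullback.of_right ?_ ?_ (IsPullback.of_hasPullback q r).flip).flip
  · have : pullback.map (f ≫ q) r q r f (𝟙 W) (𝟙 B) (by simp) (by simp) ≫ pullback.snd q r =
        pullback.snd (f ≫ q) r := by simp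
    rw [this]
    exact (IsPullback.of_hasPullback (f ≫ q) r).flip
  · simp

/-- `1 ×_B f` is a base change of `f`. -/
theorem isPullback_map_right {C : Type*} [Category C] [HasPullbacks C] {X Y W B : C} (f : X ⟶ Y)
    (q : Y ⟶ B) (r : W ⟶ B) :
    IsPullback (pullback.snd r (f ≫ q))
      (pullback.map r (f ≫ q) r q (𝟙 W) f (𝟙 B) (by simp) (by simp)) f (pullback.snd r q) := by
  refine (IsPullback.of_right ?_ ?_ (IsPullback.of_hasPullback r q)).flip
  · have : pullback.map r (f ≫ q) r q (𝟙 W) f (𝟙 B) (by simp) (by simp) ≫ pullback.fst r q =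
        pullback.fst r (f ≫ q) := by simp
    rw [this]
    exact IsPullback.of_hasPullback r (f ≫ q)
  · simp

/-- `f ×_B f` is universally closed if `f` is. -/
theorem isUnivClosedMor_map {X Y B : AlgSp.Sp S} (hX : AlgSp.IsAlgSpace X)
    (hY : AlgSp.IsAlgSpace Y) (hB : AlgSp.IsAlgSpace B) (f : X ⟶ Y) (q : Y ⟶ B)
    (hf : AlgSp.IsUnivClosedMor f) :
    AlgSp.IsUnivClosedMor
      (pullback.map (f ≫ q) (f ≫ q) q q f f (𝟙 B) (by simp) (by simp)) := by
  have e : pullback.map (f ≫ q) (f ≫ q) q q f f (𝟙 B) (by simp) (by simp) =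
      pullback.map (f ≫ q) (f ≫ q) q (f ≫ q) f (𝟙 X) (𝟙 B) (by simp) (by simp) ≫
        pullback.map q (f ≫ q) q q (𝟙 Y) f (𝟙 B) (by simp) (by simp) := by
    apply pullback.hom_ext <;> simp
  rw [e]
  have h1 : AlgSp.IsAlgSpace (pullback q (f ≫ q)) :=
    isAlgSpace_of_isPullback hB.diag hY hX (IsPullback.of_hasPullback _ _)
  have h2 : AlgSp.IsAlgSpace (pullback q q) :=
    isAlgSpace_of_isPullback hB.diag hY hY (IsPullback.of_hasPullback _ _)
  exact isUnivClosedMor_comp h1 h2
    (isUnivClosedMor_snd_of_isPullback (isPullback_map_left f q (f ≫ q)) hf)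
    (isUnivClosedMor_snd_of_isPullback (isPullback_map_right f q q) hf)

end


/-- Let B be an algebraic space and f : X -> Y a morphism over B that is surjective and universally
closed. Quasi-separatedness of X over B forces quasi-separatedness of Y over B, and likewise for
separatedness. (The published lemma also has absolute versions; this row states the versions over
B.) -/
theorem result {S : Scheme.{u}} {X Y B : AlgSp.Space S} (f : X ⟶ Y) (p : X ⟶ B)
    (q : Y ⟶ B) (comm : f ≫ q = p) (hs : AlgSp.IsSurjectiveMor f.hom) (hc : AlgSp.IsUnivClosedMor f.hom) :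
    (AlgSp.IsQuasiSeparatedMor p.hom → AlgSp.IsQuasiSeparatedMor q.hom) ∧
    (AlgSp.IsSeparatedMor p.hom → AlgSp.IsSeparatedMor q.hom) := by
  subst comm
  have hX := X.property
  have hY := Y.property
  have hB := B.property
  have hXX : AlgSp.IsAlgSpace (pullback (f.hom ≫ q.hom) (f.hom ≫ q.hom)) :=
    Groth.Agent.Lib.Helper30.isAlgSpace_of_isPullback hB.diag hX hX (IsPullback.of_hasPullback _ _)
  have hYY : AlgSp.IsAlgSpace (pullback q.hom q.hom) :=
    Groth.Agent.Lib.Helper30.isAlgSpace_of_isPullback hB.diag hY hY (IsPullback.of_hasPullback _ _)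
  have hF := isUnivClosedMor_map hX hY hB f.hom q.hom hc
  have hcomm : pullback.diagonal (f.hom ≫ q.hom) ≫
      pullback.map (f.hom ≫ q.hom) (f.hom ≫ q.hom) q.hom q.hom f.hom f.hom (𝟙 B.obj)
        (by simp) (by simp) = f.hom ≫ pullback.diagonal q.hom := by
    apply pullback.hom_ext <;> simp
  constructor
  · intro hp
    have hp' : AlgSp.RepWith @QuasiCompact (pullback.diagonal (f.hom ≫ q.hom)) := hp
    have h1 : AlgSp.IsQuasiCompactMor (pullback.diagonal (f.hom ≫ q.hom)) :=
      isQuasiCompactMor_of_repWith hp'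
    have h2 := isQuasiCompactMor_of_isUnivClosedMor hXX hYY _ hF
    have h3 := isQuasiCompactMor_comp hXX hYY h1 h2
    rw [hcomm] at h3
    have h4 := isQuasiCompactMor_of_comp_surjective hY hYY f.hom (pullback.diagonal q.hom) hs h3
    refine ⟨representable_diagonal hY.diag q.hom, ?_⟩
    intro T V g fst snd sq
    exact quasiCompact_of_isQuasiCompactMor h4 g fst snd sq
  · intro hp
    have hp' : AlgSp.RepWith @IsClosedImmersion (pullback.diagonal (f.hom ≫ q.hom)) := hp
    have h1 : AlgSp.IsUnivClosedMor (pullback.diagonal (f.hom ≫ q.hom)) :=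
      isUnivClosedMor_of_repWith_isClosedImmersion hp'
    have h3 := isUnivClosedMor_comp hXX hYY h1 hF
    rw [hcomm] at h3
    have h4 := isUnivClosedMor_of_comp_surjective f.hom (pullback.diagonal q.hom) hs h3
    exact (Groth.Agent.S10280.result q).1.2 h4

end Groth.Agent.S9926
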