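import Groth.Statements.S9931
import Groth.Agent.Lib.Helper30.AlgSpGlue2
import Groth.Agent.Lib.Helper30.AlgSpSep
-- import your own Groth.Agent.* helpers here

set_option autoImplicit false
universe u
open CategoryTheory CategoryTheory.Limits AlgebraicGeometry
open AlgSp

namespace Groth.Agent.S9931

open Groth.Agent.Lib.Helper30 Groth.Agent.Lib.Helper30.Glue

set_option backward.isDefEq.respectTransparency false

theorem aux {S : Scheme.{u}} (P : MorphismProperty Scheme.{u}) [IsZariskiLocalAtTarget P]
    [P.IsStableUnderBaseChange] {X Y : AlgSp.Space S} (f : X ⟶ Y)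
    (h : ∀ (Z : Over S), IsAffine Z.left → ∀ (g : (AlgSp.yon S).obj Z ⟶ Y.obj) (P₀ : AlgSp.Sp S)
      (fst : P₀ ⟶ X.obj) (snd : P₀ ⟶ (AlgSp.yon S).obj Z), IsPullback fst snd f.hom g → AlgSp.RepWith P snd) :
    AlgSp.RepWith P f.hom := by
  have hr : AlgSp.Representable f.hom := representable_of_affine f.hom (fun Z hZ g => by
    have sqP := IsPullback.of_hasPullback f.hom g
    have h1 := (h Z hZ g _ _ _ sqP).rep
    have sq₀ := h1.isPullback (𝟙 ((AlgSp.yon S).obj Z))
    have h2 := sq₀.paste_horiz sqP
    rw [Category.id_comp] at h2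
    exact ⟨_, _, _, h2⟩)
  refine repWith_of_affine P hr ?_
  intro T V hT g fst snd sq
  exact (AlgSp.repWith_yon_map_iff P snd).1 (h T hT g _ fst _ sq)

/-- (3) ⇒ (1): for P = closed immersion, open immersion or immersion, a morphism of algebraic spaces
whose base change to every affine scheme over the target is representable with P is itself
representable with P. -/
theorem result {S : Scheme.{u}} (P : MorphismProperty Scheme.{u})
    (hP : P = @IsClosedImmersion ∨ P = @IsOpenImmersion ∨ P = @IsImmersion) {X Y : AlgSp.Space S} (f : X ⟶ Y)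
    (h : ∀ (Z : Over S), IsAffine Z.left → ∀ (g : (AlgSp.yon S).obj Z ⟶ Y.obj) (P₀ : AlgSp.Sp S)
      (fst : P₀ ⟶ X.obj) (snd : P₀ ⟶ (AlgSp.yon S).obj Z), IsPullback fst snd f.hom g → AlgSp.RepWith P snd) :
    AlgSp.RepWith P f.hom := by
  rcases hP with rfl | rfl | rfl
  · exact aux _ f h
  · exact aux _ f h
  · exact aux _ f h

end Groth.Agent.S9931
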