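import Groth.Statements.S9932
import Groth.Agent.Lib.Helper30.AlgSpImmDesc
-- import your own Groth.Agent.* helpers here

set_option autoImplicit false
universe u
open CategoryTheory CategoryTheory.Limits AlgebraicGeometry
open AlgSp

namespace Groth.Agent.S9932


/-- (4) ⇒ (1): for P = closed immersion, open immersion or immersion, being representable with P
descends along a surjective etale base change from a scheme. -/
theorem result {S : Scheme.{u}} (P : MorphismProperty Scheme.{u})
    (hP : P = @IsClosedImmersion ∨ P = @IsOpenImmersion ∨ P = @IsImmersion) {X Y : AlgSp.Space S} (f : X ⟶ Y)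
    (V : Over S) (p : (AlgSp.yon S).obj V ⟶ Y.obj) (hp : AlgSp.RepWith @Etale p) (hps : AlgSp.RepWith @Surjective p)
    {P₀ : AlgSp.Sp S} (fst : P₀ ⟶ X.obj) (snd : P₀ ⟶ (AlgSp.yon S).obj V) (sq : IsPullback fst snd f.hom p)
    (h : AlgSp.RepWith P snd) : AlgSp.RepWith P f.hom := by
  rcases hP with rfl | rfl | rfl
  · exact Groth.Agent.Lib.Helper30.AffDesc.repWith_isClosedImmersion_of_etale_cover f.hom V p hp hps fst snd sq h
  · exact Groth.Agent.Lib.Helper30.AffDesc.repWith_isOpenImmersion_of_etale_cover f.hom V p hp hps fst snd sq h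
  · exact Groth.Agent.Lib.Helper30.AffDesc.repWith_isImmersion_of_etale_cover f.hom V p hp hps fst snd sq h

end Groth.Agent.S9932
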