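import Groth.Statements.S9939
import Groth.Agent.Lib.Helper78.AlgSpBasic
import Mathlib.AlgebraicGeometry.Morphisms.UniversallyInjective

set_option autoImplicit false
universe u
open CategoryTheory CategoryTheory.Limits AlgebraicGeometry
open AlgSp

namespace Groth.Agent.S9939

theorem univInj_iff {A B : Scheme.{u}} (g : A ⟶ B) :
    UniversallyInjective g ↔ ∀ (K : Type u) [Field K],
      Function.Injective (fun g' : Spec (CommRingCat.of K) ⟶ A => g' ≫ g) :=
  (tfae_universallyInjective g).out 0 1

/-- For a morphism of algebraic spaces representable by schemes, representable universal injectivity is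
equivalent to injectivity on K-valued points for every field K. -/
theorem result {S : Scheme.{u}} {X Y : AlgSp.Space S} (f : X ⟶ Y)
    (hf : AlgSp.Representable f.hom) :
    AlgSp.RepWith @UniversallyInjective f.hom ↔
      ∀ (K : Type u) [Field K] (str : Spec (CommRingCat.of K) ⟶ S),
        Function.Injective (fun a : (AlgSp.yon S).obj (Over.mk str) ⟶ X.obj => a ≫ f.hom) := by
  constructor
  · intro h K _ str a b hab
    dsimp only at hab
    -- pull back along c = a ≫ f
    have hmono : Function.Injective
        (fun g : Spec (CommRingCat.of K) ⟶ (h.rep.pullback (a ≫ f.hom)).left =>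
          g ≫ (h.rep.snd (a ≫ f.hom)).left) := by
      have h1 : UniversallyInjective (h.rep.snd (a ≫ f.hom)).left := h.property_snd (a ≫ f.hom)
      have h2 := (univInj_iff (h.rep.snd (a ≫ f.hom)).left).mp h1
      exact h2 K
    have hl : h.rep.lift (g := a ≫ f.hom) a (𝟙 (Over.mk str)) (by simp) =
        h.rep.lift b (𝟙 (Over.mk str)) (by simp [← hab]) := by
      apply Over.OverMorphism.ext
      apply hmono
      dsimp only
      rw [← Over.comp_left, ← Over.comp_left, Functor.relativelyRepresentable.lift_snd,
        Functor.relativelyRepresentable.lift_snd]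
    simpa using (AlgSp.yon S).congr_map hl =≫ (h.rep.fst (a ≫ f.hom))
  · intro h
    refine ⟨hf, ?_⟩
    intro U V g fst snd sq
    show UniversallyInjective snd.left
    refine (univInj_iff snd.left).mpr ?_
    intro K _ g₁ g₂ hg
    dsimp only at hg
    -- make g₁, g₂ morphisms over S
    have hstr : g₁ ≫ V.hom = g₂ ≫ V.hom := by
      rw [← Over.w snd, ← Category.assoc, hg, Category.assoc]
    let G₁ : Over.mk (g₁ ≫ V.hom) ⟶ V := Over.homMk g₁ rfl
    let G₂ : Over.mk (g₁ ≫ V.hom) ⟶ V := Over.homMk g₂ hstr.symm
    have hG : G₁ ≫ snd = G₂ ≫ snd := by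
      apply Over.OverMorphism.ext
      exact hg
    have e1 : ((AlgSp.yon S).map G₁ ≫ fst) ≫ f.hom = ((AlgSp.yon S).map G₂ ≫ fst) ≫ f.hom := by
      rw [Category.assoc, Category.assoc, sq.w, ← Category.assoc, ← Category.assoc,
        ← Functor.map_comp, ← Functor.map_comp, hG]
    have e2 : (AlgSp.yon S).map G₁ ≫ fst = (AlgSp.yon S).map G₂ ≫ fst :=
      h K (g₁ ≫ V.hom) e1
    have e3 : (AlgSp.yon S).map G₁ = (AlgSp.yon S).map G₂ := by
      apply sq.hom_ext e2
      rw [← Functor.map_comp, ← Functor.map_comp, hG]
    have e4 : G₁ = G₂ := (AlgSp.yon S).map_injective e3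
    exact congrArg (fun φ => φ.left) e4

end Groth.Agent.S9939
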