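import Groth.Statements.S9940
import Groth.Agent.Lib.Helper78.AlgSpFibre
import Groth.Agent.Lib.Helper52.Points

set_option autoImplicit false
universe u
open CategoryTheory CategoryTheory.Limits AlgebraicGeometry
open AlgSp

namespace Groth.Agent.S9940

/-- (4) ⇒ (1): universal injectivity of a morphism of algebraic spaces descends along a surjective base
change from a scheme. -/
theorem result {S : Scheme.{u}} {X Y : AlgSp.Space S} (f : X ⟶ Y)
    (Z : Over S) (g : (AlgSp.yon S).obj Z ⟶ Y.obj) (hg : AlgSp.IsSurjectiveMor g) {P : AlgSp.Sp S}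
    (fst : P ⟶ X.obj) (snd : P ⟶ (AlgSp.yon S).obj Z) (sq : IsPullback fst snd f.hom g)
    (h : AlgSp.IsUnivInjectiveMor snd) : AlgSp.IsUnivInjectiveMor f.hom := by
  intro W W' hW w fst' snd' sq'
  -- W₁ = W ×_Y h_Z
  have sW₁ : IsPullback (pullback.fst w g) (pullback.snd w g) w g := IsPullback.of_hasPullback w g
  have hW₁ : AlgSp.IsAlgSpace (pullback w g) :=
    Groth.Agent.Lib.Helper78.AlgSpFibre.isAlgSpace_of_isPullback sW₁ Y.property.diag hW
      (AlgSp.IsAlgSpace.yon_obj Z)
  -- W'₁ = W' ×_W W₁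
  have s1 : IsPullback (pullback.fst snd' (pullback.fst w g)) (pullback.snd snd' (pullback.fst w g))
      snd' (pullback.fst w g) := IsPullback.of_hasPullback _ _
  have outer : IsPullback (pullback.fst snd' (pullback.fst w g) ≫ fst')
      (pullback.snd snd' (pullback.fst w g)) f.hom (pullback.fst w g ≫ w) := s1.paste_horiz sq'
  rw [sW₁.w] at outer
  have left := IsPullback.of_right' outer sq
  have hinj : Function.Injective (AlgSp.Points.map (pullback.snd snd' (pullback.fst w g))) :=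
    h hW₁ (pullback.snd w g) _ _ left
  -- now the injectivity
  intro p₁ p₂ hp
  obtain ⟨q₁, hq₁⟩ : ∃ q₁ : AlgSp.Points (pullback w g),
      AlgSp.Points.map (pullback.fst w g) q₁ = AlgSp.Points.map snd' p₁ := by
    obtain ⟨z, hz⟩ := hg (AlgSp.Points.map w (AlgSp.Points.map snd' p₁))
    obtain ⟨q, hq1, _⟩ := Groth.Agent.Lib.Helper52.exists_point_of_isPullback sW₁
      (AlgSp.Points.map snd' p₁) z hz.symm
    exact ⟨q, hq1⟩
  obtain ⟨r₁, hr₁a, hr₁b⟩ := Groth.Agent.Lib.Helper52.exists_point_of_isPullback s1 p₁ q₁ hq₁.symm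
  obtain ⟨r₂, hr₂a, hr₂b⟩ := Groth.Agent.Lib.Helper52.exists_point_of_isPullback s1 p₂ q₁
    (by rw [← hp]; exact hq₁.symm)
  have hr : r₁ = r₂ := hinj (hr₁b.trans hr₂b.symm)
  rw [← hr₁a, ← hr₂a, hr]

end Groth.Agent.S9940
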