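import Groth.Statements.S9941
import Groth.Agent.Lib.Helper30.AlgSpGlue2
import Groth.Agent.Lib.Helper30.AlgSpSep
-- import your own Groth.Agent.* helpers here

set_option autoImplicit false
universe u
open CategoryTheory CategoryTheory.Limits AlgebraicGeometry
open AlgSp

namespace Groth.Agent.S9941

open Groth.Agent.Lib.Helper30 Groth.Agent.Lib.Helper30.Glue

set_option backward.isDefEq.respectTransparency false

/-- (2) ⇒ (1): an affine morphism of algebraic spaces is representable (and representable-affine). -/
theorem result {S : Scheme.{u}} {X Y : AlgSp.Space S} (f : X ⟶ Y)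
    (hf : AlgSp.IsAffineMor f.hom) : AlgSp.RepWith @IsAffineHom f.hom := by
  have hr : AlgSp.Representable f.hom := representable_of_affine f.hom (fun Z hZ g => by
    obtain ⟨W, i, fst, sq, _⟩ := hf hZ g
    exact ⟨W, i, fst, sq⟩)
  refine repWith_of_affine @IsAffineHom hr ?_
  intro T V hT g fst snd sq
  obtain ⟨W, i, fst', sq', hW⟩ := hf hT g
  let e := sq.isoIsPullback _ _ sq'
  let e' : V ≅ W := (AlgSp.yon S).preimageIso e
  have hW' : IsAffine ((Over.forget S).obj W) := hW
  have : IsAffine V.left := @IsAffine.of_isIso _ _ ((Over.forget S).mapIso e').hom _ hW'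
  have : IsAffine T.left := hT
  show IsAffineHom snd.left
  infer_instance

end Groth.Agent.S9941
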