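import Groth.Statements.S9942
import Groth.Agent.Lib.Helper30.AlgSpAffDesc3
-- import your own Groth.Agent.* helpers here

set_option autoImplicit false
universe u
open CategoryTheory CategoryTheory.Limits AlgebraicGeometry
open AlgSp

namespace Groth.Agent.S9942


/-- (3) ⇒ (2): if X x_Y V is an affine scheme for every affine scheme V etale over Y, then f : X -> Y is
affine. -/
theorem result {S : Scheme.{u}} {X Y : AlgSp.Space S} (f : X ⟶ Y)
    (h : ∀ (V : Over S), IsAffine V.left → ∀ (b : (AlgSp.yon S).obj V ⟶ Y.obj), AlgSp.RepWith @Etale b →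
      ∀ (P : AlgSp.Sp S) (fst : P ⟶ X.obj) (snd : P ⟶ (AlgSp.yon S).obj V), IsPullback fst snd f.hom b →
      ∃ (W : Over S), IsAffine W.left ∧ Nonempty ((AlgSp.yon S).obj W ≅ P)) :
    AlgSp.IsAffineMor f.hom := by
  obtain ⟨U, c, hce, hcs⟩ := Y.property.atlas
  refine Groth.Agent.Lib.Helper30.AffDesc.isAffineMor_of_affine_etale_charts f.hom c hce hcs ?_
  intro V hV b hb
  obtain ⟨W, hW, ⟨e⟩⟩ := h V hV b hb (pullback f.hom b) (pullback.fst _ _) (pullback.snd _ _)
    (IsPullback.of_hasPullback _ _)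
  refine ⟨W, (AlgSp.yon S).preimage (e.hom ≫ pullback.snd f.hom b),
    e.hom ≫ pullback.fst f.hom b, ?_, hW⟩
  rw [(AlgSp.yon S).map_preimage]
  exact IsPullback.of_iso (IsPullback.of_hasPullback f.hom b) e.symm (Iso.refl _) (Iso.refl _)
    (Iso.refl _) (by simp) (by simp) (by simp) (by simp)

end Groth.Agent.S9942
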