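import Groth.Statements.S9948
import Groth.Agent.Lib.Helper78.AlgSpLocPSeven
import Groth.Agent.Lib.Helper78.AlgSpLocP3

set_option autoImplicit false
universe u
open CategoryTheory CategoryTheory.Limits AlgebraicGeometry
open AlgSp

namespace Groth.Agent.S9948

/-- Representable clause, for the listed classes P: for f representable by schemes, P etale locally on
the source-and-target agrees with P in the representable sense. -/
theorem result {S : Scheme.{u}} (P : MorphismProperty Scheme.{u})
    (hP : P = @LocallyOfFiniteType ∨ P = @LocallyOfFinitePresentation ∨ P = @Flat ∨ P = @Smooth ∨ P = @Etale ∨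
      (∀ ⦃A B : Scheme.{u}⦄ (g : A ⟶ B), P g ↔ (LocallyQuasiFinite g ∧ LocallyOfFiniteType g)) ∨
      (∀ ⦃A B : Scheme.{u}⦄ (g : A ⟶ B), P g ↔ (LocallyOfFiniteType g ∧ FormallyUnramified g)))
    {X Y : AlgSp.Space S} (f : X ⟶ Y) (hf : AlgSp.Representable f.hom) :
    AlgSp.LocP P f.hom ↔ AlgSp.RepWith P f.hom := by
  have hE := Groth.Agent.Lib.Helper78.AlgSpLocPSeven.etLocalST_of_seven hP
  have := Groth.Agent.Lib.Helper78.AlgSpLocPSeven.isStableUnderBaseChange_of_seven hP
  constructor
  · intro hL
    refine ⟨hf, fun U V g fst snd sq => ?_⟩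
    have hL' : AlgSp.LocP P ((AlgSp.yon S).map snd) :=
      Groth.Agent.Lib.Helper78.AlgSpLocP.locP_of_isPullback hE sq
        (Groth.Agent.Lib.Helper78.AlgSpFibre.repAll_of_isAlgSpace Y.property) X.property.atlas
        Y.property.atlas hL
    exact AlgSp.locP_yon_map hL'
  · intro hR
    obtain ⟨V, b, hb, hbs⟩ := Y.property.atlas
    have sq := hf.isPullback b
    refine Groth.Agent.Lib.Helper78.AlgSpLocP.locP_of_chart hE f.hom (hf.fst b) b (hf.snd b)
      ?_ ?_ hb sq.w ?_
    · exact MorphismProperty.of_isPullback sq.flip hb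
    · exact MorphismProperty.of_isPullback sq.flip hbs
    · exact hR.2 b _ _ sq

end Groth.Agent.S9948
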