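import Groth.Statements.S9951
import Groth.Agent.Lib.Helper78.AlgSpBasic

set_option autoImplicit false
universe u
open CategoryTheory CategoryTheory.Limits AlgebraicGeometry
open AlgSp

namespace Groth.Agent.S9951

/-- The source of a morphism locally of finite type with locally Noetherian target is locally
Noetherian. -/
theorem result {S : Scheme.{u}} {X Y : AlgSp.Space S} (f : X ⟶ Y)
    (hf : AlgSp.LocP @LocallyOfFiniteType f.hom) (hY : AlgSp.IsLocNoethSp Y.obj) : AlgSp.IsLocNoethSp X.obj := by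
  obtain ⟨V, b, hb, hbs, hV⟩ := hY
  obtain ⟨U₀, a₀, ha₀, ha₀s⟩ := X.property.atlas
  obtain ⟨U, j, h, sq, ha, has⟩ :=
    Groth.Agent.Lib.Helper78.AlgSpBasic.exists_chart_diagram f.hom a₀ ha₀ b hb
  refine ⟨U, (AlgSp.yon S).map j ≫ a₀, ha, has ha₀s hbs, ?_⟩
  have hlft : LocallyOfFiniteType h.left :=
    hf ((AlgSp.yon S).map j ≫ a₀) b h ha hb (by rw [Category.assoc]; exact sq.w.symm)
  have : IsLocallyNoetherian V.left := hV
  exact LocallyOfFiniteType.isLocallyNoetherian h.left

end Groth.Agent.S9951
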