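import Groth.Statements.S9957
import Groth.Agent.Lib.Helper78.NoethFP
import Groth.Agent.Lib.Helper78.AlgSpMisc

set_option autoImplicit false
universe u
open CategoryTheory CategoryTheory.Limits AlgebraicGeometry
open AlgSp

namespace Groth.Agent.S9957

/-- The source of a morphism of finite presentation whose target is Noetherian is itself Noetherian,
Noetherian meaning quasi-compact, quasi-separated over S and locally Noetherian. (The published
statement uses quasi-separatedness in the absolute sense; this row uses quasi-separatedness over S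
in hypothesis and conclusion.) -/
theorem result {S : Scheme.{u}} {X Y : AlgSp.Space S} (f : X ⟶ Y)
    (hf : AlgSp.IsFinitePresentationMor f.hom)
    (hY : AlgSp.IsQuasiCompactSp Y.obj ∧ AlgSp.IsQuasiSeparatedSp Y.obj ∧ AlgSp.IsLocNoethSp Y.obj) :
    AlgSp.IsQuasiCompactSp X.obj ∧ AlgSp.IsQuasiSeparatedSp X.obj ∧ AlgSp.IsLocNoethSp X.obj := by
  obtain ⟨hqc, hqs, hn⟩ := hY
  refine ⟨?_, ?_, ?_⟩
  · exact hf.2.1 Y.property hqc (𝟙 Y.obj) (𝟙 X.obj) f.hom
      (IsPullback.of_horiz_isIso ⟨by rw [Category.id_comp, Category.comp_id]⟩)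
  · exact Groth.Agent.Lib.Helper78.NoethFP.isQuasiSeparatedSp_of_isQuasiSeparatedMor f.hom hf.2.2 hqs
  · refine Groth.Agent.Lib.Helper78.NoethFP.isLocNoethSp_of_locP_loft X.property f.hom ?_ hn
    refine Groth.Agent.Lib.Helper78.AlgSpMisc.locP_mono ?_ hf.1
    intro A B k hk
    have : LocallyOfFinitePresentation k := hk
    show LocallyOfFiniteType k
    infer_instance

end Groth.Agent.S9957
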