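import Groth.Statements.S9960
import Groth.Agent.Lib.Helper30.AlgSpDiagChart
import Groth.Agent.Lib.Helper78.AlgSpLocPLofp
import Groth.Agent.S4599
-- import your own Groth.Agent.* helpers here

set_option autoImplicit false
universe u
open CategoryTheory CategoryTheory.Limits AlgebraicGeometry
open AlgSp

namespace Groth.Agent.S9960

open Groth.Agent.Lib.Helper30 Groth.Agent.Lib.Helper51 Groth.Agent.Lib.Helper52

set_option backward.isDefEq.respectTransparency false


/-- The diagonal of a morphism locally of finite type is locally of finite presentation, and of finite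
presentation when the morphism is also quasi-separated. -/
theorem result {S : Scheme.{u}} {X Y : AlgSp.Space S} (f : X ⟶ Y)
    (hf : AlgSp.LocP @LocallyOfFiniteType f.hom) :
    AlgSp.LocP @LocallyOfFinitePresentation (pullback.diagonal f.hom) ∧
    (AlgSp.IsQuasiSeparatedMor f.hom → AlgSp.IsFinitePresentationMor (pullback.diagonal f.hom)) := by
  have ha : AlgSp.LocP @LocallyOfFinitePresentation (pullback.diagonal f.hom) :=
    locP_diagonal_of_locP Groth.Agent.Lib.Helper78.AlgSpLocPLofp.etLocalST_lofp
      (fun h hh => by
        have : LocallyOfFiniteType h := hh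
        exact Groth.Agent.S4599.result h) X.property Y.property f.hom hf
  refine ⟨ha, fun hqs => ⟨ha, isQuasiCompactMor_of_repWith hqs, ?_⟩⟩
  show AlgSp.RepWith @QuasiCompact (pullback.diagonal (pullback.diagonal f.hom))
  exact Groth.Agent.Lib.Helper78.AlgSpBasic.repWith_of_isIso _ _

end Groth.Agent.S9960
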