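import Groth.Statements.S9961
import Groth.Agent.Lib.Helper30.AlgSpLoc
-- import your own Groth.Agent.* helpers here

set_option autoImplicit false
universe u
open CategoryTheory CategoryTheory.Limits AlgebraicGeometry
open AlgSp

namespace Groth.Agent.S9961

open Groth.Agent.Lib.Helper30 Groth.Agent.Lib.Helper51 Groth.Agent.Lib.Helper52


/-- Open immersions between algebraic spaces are locally finitely presented (etale locally on source and
target). -/
theorem result {S : Scheme.{u}} {X Y : AlgSp.Space S} (f : X ⟶ Y)
    (hf : AlgSp.RepWith @IsOpenImmersion f.hom) : AlgSp.LocP @LocallyOfFinitePresentation f.hom := by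
  refine locP_of_repWith @IsOpenImmersion @LocallyOfFinitePresentation ?_ hf
  intro A B C k i hk hi
  have : Etale k := hk
  have : IsOpenImmersion i := hi
  show LocallyOfFinitePresentation (k ≫ i)
  infer_instance

end Groth.Agent.S9961
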