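import Groth.Statements.S9963
import Groth.Agent.Lib.Helper30.AlgSpProper
import Groth.Agent.Lib.Helper78.AlgSpLocP3
import Groth.Agent.Lib.Helper78.AlgSpLocPFlat
-- import your own Groth.Agent.* helpers here

set_option autoImplicit false
universe u
open CategoryTheory CategoryTheory.Limits AlgebraicGeometry
open AlgSp

namespace Groth.Agent.S9963

open Groth.Agent.Lib.Helper30 Groth.Agent.Lib.Helper51 Groth.Agent.Lib.Helper52
open Groth.Agent.Lib.Helper78.AlgSpLocP Groth.Agent.Lib.Helper78.AlgSpFibre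

set_option backward.isDefEq.respectTransparency false

/-- A flat, quasi-compact, surjective morphism of algebraic spaces is submersive. -/
theorem isSubmersiveMor_aux {S : Scheme.{u}} {X Y : AlgSp.Sp S} (hX : AlgSp.IsAlgSpace X)
    (hY : AlgSp.IsAlgSpace Y) (f : X ⟶ Y)
    (hfl : AlgSp.LocP @Flat f) (hqc : AlgSp.IsQuasiCompactMor f) (hs : AlgSp.IsSurjectiveMor f) :
    AlgSp.IsSubmersiveMor f := by
  refine (Topology.isQuotientMap_iff _).2 ⟨Topology.isCoinducing_iff.2 fun T =>
    ⟨fun hT => ?_, fun hT => hT.preimage (Points.continuous_map f)⟩, hs⟩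
  rw [isOpen_points_iff_affine]
  intro V hV g
  have sq := IsPullback.of_hasPullback f g
  have hX' : AlgSp.IsAlgSpace (pullback f g) :=
    Groth.Agent.Lib.Helper30.isAlgSpace_of_isPullback hY.diag hX (AlgSp.IsAlgSpace.yon_obj V) sq
  have hVqc : AlgSp.IsQuasiCompactSp ((AlgSp.yon S).obj V) := isQuasiCompactSp_yon_obj V
  have hX'qc : AlgSp.IsQuasiCompactSp (pullback f g) :=
    hqc (AlgSp.IsAlgSpace.yon_obj V) hVqc g (pullback.fst f g) (pullback.snd f g) sq
  obtain ⟨U, a, hae, has, hU⟩ := hX'qc
  have hU' : CompactSpace ↥U.left := hU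
  have hfl' : AlgSp.LocP @Flat (pullback.snd f g) :=
    locP_of_isPullback Groth.Agent.Lib.Helper78.AlgSpLocPFlat.etLocalST_flat sq (repAll_of_isAlgSpace hY) hX.atlas hY.atlas hfl
  obtain ⟨h, hh⟩ := (AlgSp.yon S).map_surjective (a ≫ pullback.snd f g)
  have hflat : Flat h.left :=
    hfl' a (𝟙 _) h hae (AlgSp.repWith_id @Etale V) (by rw [hh, Category.comp_id])
  have hsurj : Surjective h.left := by
    constructor
    intro v
    obtain ⟨x', hx'⟩ := surjective_map_snd_of_isPullback sq hs (Points.ofScheme V v)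
    obtain ⟨u, rfl⟩ := surjective_ofPt_of_repWith_surjective a has x'
    refine ⟨u, ?_⟩
    apply ofScheme_injective V
    rw [Points.map_ofPt, ← hh] at hx'
    rw [← hx']
    have := ofPt_yon_map_comp h (𝟙 _) u
    rw [Category.comp_id] at this
    exact this.symm
  have hqc' : QuasiCompact h.left := inferInstance
  have hq : Topology.IsQuotientMap h.left.base := Flat.isQuotientMap_of_surjective h.left
  rw [← hq.isOpen_preimage]
  have e : h.left.base ⁻¹' (Points.ofPt g ⁻¹' T) =
      Points.ofPt (a ≫ pullback.fst f g) ⁻¹' (Points.map f ⁻¹' T) := by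
    ext u
    simp only [Set.mem_preimage]
    rw [Points.map_ofPt, Category.assoc, sq.w, ← Category.assoc, ← hh, ofPt_yon_map_comp]
  rw [e]
  exact (Points.isOpen_iff.1 hT) U _


/-- A morphism of algebraic spaces that is flat, quasi-compact and surjective is submersive, and
universally submersive. -/
theorem result {S : Scheme.{u}} {X Y : AlgSp.Space S} (f : X ⟶ Y)
    (hfl : AlgSp.LocP @Flat f.hom) (hqc : AlgSp.IsQuasiCompactMor f.hom) (hs : AlgSp.IsSurjectiveMor f.hom) :
    AlgSp.IsSubmersiveMor f.hom ∧ AlgSp.IsUnivSubmersiveMor f.hom := by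
  refine ⟨isSubmersiveMor_aux X.property Y.property f.hom hfl hqc hs, ?_⟩
  intro Z Z' hZ g fst snd sq
  have hZ' : AlgSp.IsAlgSpace Z' :=
    Groth.Agent.Lib.Helper30.isAlgSpace_of_isPullback Y.property.diag X.property hZ sq
  refine isSubmersiveMor_aux hZ' hZ snd ?_ ?_ ?_
  · exact locP_of_isPullback Groth.Agent.Lib.Helper78.AlgSpLocPFlat.etLocalST_flat sq
      (repAll_of_isAlgSpace Y.property) X.property.atlas Y.property.atlas hfl
  · exact isQuasiCompactMor_snd_of_isPullback sq hqc
  · exact surjective_map_snd_of_isPullback sq hs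

end Groth.Agent.S9963
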