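import Groth.Statements.S9968
import Groth.Agent.Lib.Helper78.StrongDenseGeom

set_option autoImplicit false
universe u
open CategoryTheory CategoryTheory.Limits AlgebraicGeometry
open AlgSp

namespace Groth.Agent.S9968

/-- (2) ⇒ (1): if an open subspace is scheme theoretically dense on one surjective etale scheme chart
then its inverse image on every etale scheme chart is scheme theoretically dense. (Density is read
as schematic density of the inverse image open, on both sides; the test objects are scheme charts.) -/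
theorem result {S : Scheme.{u}} {U X : AlgSp.Space S} (j : U ⟶ X)
    (hj : AlgSp.IsSchDense j.hom) (V : Over S) (φ : (AlgSp.yon S).obj V ⟶ X.obj) (hφ : AlgSp.RepWith @Etale φ)
    (W : V.left.Opens) (fst : (AlgSp.yon S).obj (Over.mk (W.ι ≫ V.hom)) ⟶ U.obj)
    (sq : IsPullback fst ((AlgSp.yon S).map (Over.homMk W.ι rfl : Over.mk (W.ι ≫ V.hom) ⟶ V)) j.hom φ) :
    CInt.IsSchematicallyDense W := by
  obtain ⟨hjr, V₀, φ₀, W₀, fst₀, hφ₀e, hφ₀s, sq₀, hW₀⟩ := hj
  obtain ⟨P, w1, w2, sqP⟩ :=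
    Groth.Agent.Lib.Helper51.exists_isPullback_of_representable hφ₀e.1 φ
  haveI : Etale w2.left := hφ₀e.2 φ _ w2 sqP
  haveI : Surjective w2.left := hφ₀s.2 φ _ w2 sqP
  haveI : Etale w1.left := hφ.2 φ₀ _ w1 sqP.flip
  have hEq : w1.left ⁻¹ᵁ W₀ = w2.left ⁻¹ᵁ W := by
    ext w
    have h1 := Groth.Agent.Lib.Helper52.ofPt_mem_range_map_iff sq₀ (w1.left w)
    have h2 := Groth.Agent.Lib.Helper52.ofPt_mem_range_map_iff sq (w2.left w)
    have h3 : AlgSp.Points.ofPt φ₀ (w1.left w) = AlgSp.Points.ofPt φ (w2.left w) := by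
      rw [← Groth.Agent.Lib.Helper52.ofPt_yon_map_comp, ← Groth.Agent.Lib.Helper52.ofPt_yon_map_comp,
        sqP.w]
    rw [h3] at h1
    have e1 : w1.left w ∈ Set.range (Over.homMk W₀.ι rfl : Over.mk (W₀.ι ≫ V₀.hom) ⟶ V₀).left ↔
        w1.left w ∈ W₀ := by
      show w1.left w ∈ Set.range W₀.ι ↔ _
      rw [Scheme.Opens.range_ι]; rfl
    have e2 : w2.left w ∈ Set.range (Over.homMk W.ι rfl : Over.mk (W.ι ≫ V.hom) ⟶ V).left ↔
        w2.left w ∈ W := by
      show w2.left w ∈ Set.range W.ι ↔ _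
      rw [Scheme.Opens.range_ι]; rfl
    show w1.left w ∈ W₀ ↔ w2.left w ∈ W
    rw [← e1, ← e2, ← h1, ← h2]
  apply Groth.Agent.Lib.Helper78.StrongDenseGeom.dense_of_preimage w2.left W
  rw [← hEq]
  exact Groth.Agent.Lib.Helper78.StrongDenseGeom.dense_preimage_of_etale w1.left W₀ hW₀

end Groth.Agent.S9968
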