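import Groth.Statements.S9972
import Groth.Agent.S9874
import Groth.Agent.Lib.Helper30.AlgSpFib
-- import your own Groth.Agent.* helpers here

set_option autoImplicit false
universe u
open CategoryTheory CategoryTheory.Limits AlgebraicGeometry
open AlgSp

namespace Groth.Agent.S9972

open Groth.Agent.Lib.Helper30

set_option backward.isDefEq.respectTransparency false

/-- Two morphisms to an algebraic space separated over B that agree on an open subspace whose scheme
theoretic closure is everything are equal. -/
theorem result {S : Scheme.{u}} {U X Y B : AlgSp.Space S} (q : Y ⟶ B)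
    (hq : AlgSp.IsSeparatedMor q.hom) (f g : X ⟶ Y) (hfg : f ≫ q = g ≫ q) (j : U ⟶ X)
    (hj : AlgSp.RepWith @IsOpenImmersion j.hom) (hcl : AlgSp.IsSchImage j.hom (𝟙 X.obj)) (heq : j ≫ f = j ≫ g) :
    f = g := by
  have hfg' : f.hom ≫ q.hom = g.hom ≫ q.hom := congrArg (fun t => t.hom) hfg
  have heq' : j.hom ≫ f.hom = j.hom ≫ g.hom := congrArg (fun t => t.hom) heq
  -- the target `Y ×_B Y` is an algebraic space
  have hH : AlgSp.IsAlgSpace (pullback q.hom q.hom) :=
    Groth.Agent.S9874.result S B.obj B.property.diag Y Y q.hom q.hom _ _ _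
      (IsPullback.of_hasPullback q.hom q.hom)
  let fg : X.obj ⟶ pullback q.hom q.hom := pullback.lift f.hom g.hom hfg'
  have hE : AlgSp.IsAlgSpace (pullback fg (pullback.diagonal q.hom)) :=
    Groth.Agent.S9874.result S _ hH.diag X Y fg (pullback.diagonal q.hom) _ _ _
      (IsPullback.of_hasPullback fg (pullback.diagonal q.hom))
  have he : AlgSp.RepWith @IsClosedImmersion (pullback.fst fg (pullback.diagonal q.hom)) :=
    MorphismProperty.of_isPullback (IsPullback.of_hasPullback fg (pullback.diagonal q.hom)).flip hq
  have hfac : ∃ f'' : U.obj ⟶ pullback fg (pullback.diagonal q.hom),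
      f'' ≫ pullback.fst fg (pullback.diagonal q.hom) = j.hom := by
    refine ⟨pullback.lift j.hom (j.hom ≫ f.hom) ?_, pullback.lift_fst _ _ _⟩
    apply pullback.hom_ext
    · simp [fg]
    · simp [fg, heq']
  obtain ⟨k, hk⟩ := hcl.2.2 _ hE he hfac
  have e1 : pullback.fst fg (pullback.diagonal q.hom) ≫ f.hom =
      pullback.snd fg (pullback.diagonal q.hom) := by
    have := congrArg (fun t => t ≫ pullback.fst q.hom q.hom)
      (pullback.condition (f := fg) (g := pullback.diagonal q.hom))
    simpa [fg] using this
  have e2 : pullback.fst fg (pullback.diagonal q.hom) ≫ g.hom =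
      pullback.snd fg (pullback.diagonal q.hom) := by
    have := congrArg (fun t => t ≫ pullback.snd q.hom q.hom)
      (pullback.condition (f := fg) (g := pullback.diagonal q.hom))
    simpa [fg] using this
  have key : f.hom = g.hom := by
    calc f.hom = (k ≫ pullback.fst fg (pullback.diagonal q.hom)) ≫ f.hom := by
          rw [hk, Category.id_comp]
      _ = (k ≫ pullback.fst fg (pullback.diagonal q.hom)) ≫ g.hom := by
          rw [Category.assoc, e1, Category.assoc, e2]
      _ = g.hom := by rw [hk, Category.id_comp]
  exact ObjectProperty.hom_ext _ key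

end Groth.Agent.S9972
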