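import Groth.Statements.S9978
import Groth.Agent.Lib.Helper69.NagataSch
import Groth.Agent.Lib.Helper31.AlgSpFibFlat4

set_option autoImplicit false
universe u
open CategoryTheory CategoryTheory.Limits AlgebraicGeometry
open AlgSp

namespace Groth.Agent.S9978

open Groth.Agent.Lib.Helper52 Groth.Agent.Lib.Helper51 in

/-- An algebraic space locally of finite type over a Nagata algebraic space is Nagata. -/
theorem result {S : Scheme.{u}} {X Y : AlgSp.Space S} (f : X ⟶ Y)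
    (hf : AlgSp.LocP @LocallyOfFiniteType f.hom)
    (hY : AlgSp.EtaleLocally (fun U => ∀ V : U.Opens, IsAffineOpen V → CAlg.IsNagata ↑Γ(U, V)) Y.obj) :
    AlgSp.EtaleLocally (fun U => ∀ V : U.Opens, IsAffineOpen V → CAlg.IsNagata ↑Γ(U, V)) X.obj := by
  obtain ⟨V₀, b₀, hb₀, hb₀s, hV₀⟩ := hY
  obtain ⟨U₀, a₀, ha₀, ha₀s⟩ := X.property.atlas
  obtain ⟨W, φ, ψ, sq⟩ := exists_isPullback_of_representable hb₀.1 (a₀ ≫ f.hom)
  have hψe : Etale ψ.left := hb₀.2 (a₀ ≫ f.hom) _ ψ sq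
  have hψs : Surjective ψ.left := hb₀s.2 (a₀ ≫ f.hom) _ ψ sq
  have hae : RepWith @Etale ((yon S).map ψ ≫ a₀) :=
    (RepWith (S := S) @Etale).comp_mem _ _ ((repWith_yon_map_iff _ _).2 hψe) ha₀
  have has : RepWith @Surjective ((yon S).map ψ ≫ a₀) :=
    (RepWith (S := S) @Surjective).comp_mem _ _ ((repWith_yon_map_iff _ _).2 hψs) ha₀s
  have comm : ((yon S).map ψ ≫ a₀) ≫ f.hom = (yon S).map φ ≫ b₀ := by
    rw [Category.assoc]; exact sq.w.symm
  haveI : LocallyOfFiniteType φ.left := hf _ _ φ hae hb₀ comm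
  refine ⟨W, (yon S).map ψ ≫ a₀, hae, has, fun V hV => ?_⟩
  exact Groth.Agent.Lib.Helper69.NagataSch.isNagata_of_locallyOfFiniteType φ.left
    (fun U => hV₀ U.1 U.2) V hV

end Groth.Agent.S9978
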