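import Groth.Statements.S9981
import Groth.Agent.Lib.Helper51.LCDescent
import Groth.Agent.Lib.Helper51.AlgSpPoints
import Groth.Agent.Lib.Helper78.LocConstr

set_option autoImplicit false
universe u
open CategoryTheory CategoryTheory.Limits AlgebraicGeometry
open AlgSp

namespace Groth.Agent.S9981

/-- The inverse image of an etale locally constructible subset under a morphism of algebraic spaces is
etale locally constructible. -/
theorem result {S : Scheme.{u}} {X Y : AlgSp.Space S} (f : X ⟶ Y)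
    (E : Set (AlgSp.Points Y.obj))
    (hE : (∀ (U : Over S) (φ : (AlgSp.yon S).obj U ⟶ Y.obj), AlgSp.RepWith @Etale φ →
        Topology.IsLocallyConstructible (AlgSp.Points.ofPt φ ⁻¹' E))) :
    (∀ (U : Over S) (φ : (AlgSp.yon S).obj U ⟶ X.obj), AlgSp.RepWith @Etale φ →
        Topology.IsLocallyConstructible (AlgSp.Points.ofPt φ ⁻¹' (AlgSp.Points.map f.hom ⁻¹' E))) := by
  intro U φ hφ
  obtain ⟨V, b, hb, hbs⟩ := Y.property.atlas
  obtain ⟨W, χ, ψ, sq⟩ := Groth.Agent.Lib.Helper51.exists_isPullback_of_representable hb.1 (φ ≫ f.hom)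
  have hψe : Etale ψ.left := hb.2 (φ ≫ f.hom) _ ψ sq
  have hψs : Surjective ψ.left := hbs.2 (φ ≫ f.hom) _ ψ sq
  apply Groth.Agent.Lib.Helper51.isLocallyConstructible_of_preimage_of_etale ψ.left
  have heq : ψ.left ⁻¹' (AlgSp.Points.ofPt φ ⁻¹' (AlgSp.Points.map f.hom ⁻¹' E)) =
      χ.left ⁻¹' (AlgSp.Points.ofPt b ⁻¹' E) := by
    ext w
    simp only [Set.mem_preimage]
    rw [AlgSp.Points.map_ofPt, Groth.Agent.Lib.Helper51.ofPt_eq_ofPt_of_isPullback sq w]
  rw [heq]
  exact Groth.Agent.Lib.Helper78.LocConstr.isLocallyConstructible_preimage χ.left (hE V b hb)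

end Groth.Agent.S9981
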