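import Groth.Statements.S9993
import Groth.Agent.Lib.Helper78.AlgSpLocPSeven
import Groth.Agent.Lib.Helper78.AlgSpLocPSrc
import Groth.Agent.Lib.Helper51.AlgSpCharts

set_option autoImplicit false
universe u
open CategoryTheory CategoryTheory.Limits AlgebraicGeometry
open AlgSp

namespace Groth.Agent.S9993

/-- A morphism f : X ⟶ Y of algebraic spaces has P at the point x in the neighbourhood sense (some chart
diagram through x whose top arrow has P on an open neighbourhood of the chosen point) if and only if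
some open subspace X' of X through x has its restriction X' ⟶ Y in the class P etale locally on the
source and target. -/
theorem result {S : Scheme.{u}} (P : MorphismProperty Scheme.{u})
    (hP : P = @LocallyOfFiniteType ∨ P = @LocallyOfFinitePresentation ∨ P = @Flat ∨ P = @Smooth ∨ P = @Etale ∨
      (∀ ⦃A B : Scheme.{u}⦄ (g : A ⟶ B), P g ↔ (LocallyQuasiFinite g ∧ LocallyOfFiniteType g)) ∨
      (∀ ⦃A B : Scheme.{u}⦄ (g : A ⟶ B), P g ↔ (LocallyOfFiniteType g ∧ FormallyUnramified g)))
    {X Y : AlgSp.Space S} (f : X ⟶ Y) (x : AlgSp.Points X.obj) :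
    AlgSp.HasAtMor (fun U _ h u => ∃ W : U.Opens, u ∈ W ∧ P (W.ι ≫ h)) f.hom x ↔
      ∃ (X' : AlgSp.Space S) (j : X' ⟶ X), AlgSp.RepWith @IsOpenImmersion j.hom ∧
        x ∈ Set.range (AlgSp.Points.map j.hom) ∧ AlgSp.LocP P (j ≫ f).hom := by
  have hE := Groth.Agent.Lib.Helper78.AlgSpLocPSeven.etLocalST_of_seven hP
  have := Groth.Agent.Lib.Helper78.AlgSpLocPSeven.isStableUnderBaseChange_of_seven hP
  have hPiso : P.RespectsIso := MorphismProperty.IsStableUnderBaseChange.respectsIso
  constructor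
  · rintro ⟨U, V, a, b, h, u, ha, hb, comm, hu, W, huW, hPW⟩
    -- the restricted chart
    set UW := Groth.Agent.Lib.Helper51.opensOver U W with hUW
    set ι := Groth.Agent.Lib.Helper51.opensOverι U W with hι
    set aW : (AlgSp.yon S).obj UW ⟶ X.obj := (AlgSp.yon S).map ι ≫ a with haW
    have haWe : AlgSp.RepWith @Etale aW := by
      refine (AlgSp.RepWith (S := S) @Etale).comp_mem _ _ ?_ ha
      exact (AlgSp.repWith_yon_map_iff _ _).2 (inferInstanceAs (Etale W.ι))
    set Ws : Set (AlgSp.Points X.obj) := Set.range (AlgSp.Points.ofPt aW) with hWs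
    have hWo : IsOpen Ws := by
      rw [hWs, ← Set.image_univ]
      exact Groth.Agent.Lib.Helper51.isOpenMap_ofPt_of_etale aW haWe _ isOpen_univ
    have hX' : AlgSp.IsAlgSpace (Groth.Agent.Lib.Helper51.openSp X.obj Ws) :=
      Groth.Agent.Lib.Helper51.isAlgSpace_openSp Ws hWo X.property
    let X' : AlgSp.Space S := ⟨Groth.Agent.Lib.Helper51.openSp X.obj Ws, hX'⟩
    let j : X' ⟶ X := ObjectProperty.homMk (Groth.Agent.Lib.Helper51.openSpι X.obj Ws)
    have hj : AlgSp.RepWith @IsOpenImmersion j.hom :=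
      Groth.Agent.Lib.Helper51.repWith_isOpenImmersion_openSpι Ws hWo
    have hrange : Set.range (AlgSp.Points.map j.hom) = Ws :=
      Groth.Agent.Lib.Helper51.range_map_openSpι Ws
    refine ⟨X', j, hj, ?_, ?_⟩
    · rw [hrange]
      refine ⟨⟨u, huW⟩, ?_⟩
      rw [haW, Groth.Agent.Lib.Helper52.ofPt_yon_map_comp]
      exact hu
    · obtain ⟨a', ha'j, ha'e, ha's, -⟩ :=
        Groth.Agent.Lib.Helper51.exists_factor_surjective_etale_of_open_image aW haWe j.hom hj hrange
      have comm' : a' ≫ (j ≫ f).hom = (AlgSp.yon S).map (ι ≫ h) ≫ b := by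
        change a' ≫ j.hom ≫ f.hom = _
        rw [← Category.assoc, ha'j, haW, Category.assoc, comm, Functor.map_comp, Category.assoc]
      exact Groth.Agent.Lib.Helper78.AlgSpLocP.locP_of_chart hE _ a' b (ι ≫ h) ha'e ha's hb comm' hPW
  · rintro ⟨X', j, hj, ⟨x', hx'⟩, hL⟩
    obtain ⟨U₀, a₀, ha₀, ha₀s⟩ := X'.property.atlas
    obtain ⟨V, b, hb, hbs⟩ := Y.property.atlas
    obtain ⟨U, k, h, sq, ha, has⟩ :=
      Groth.Agent.Lib.Helper78.AlgSpBasic.exists_chart_diagram (j ≫ f).hom a₀ ha₀ b hb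
    have has := has ha₀s hbs
    obtain ⟨u, hu⟩ := Groth.Agent.Lib.Helper51.surjective_ofPt_of_repWith_surjective _ has x'
    have comm : ((AlgSp.yon S).map k ≫ a₀) ≫ (j ≫ f).hom = (AlgSp.yon S).map h ≫ b := by
      rw [Category.assoc]; exact sq.w.symm
    have hje : AlgSp.RepWith @Etale j.hom :=
      MorphismProperty.relative_monotone
        (fun (A B : Over S) (g : A ⟶ B) (hg : IsOpenImmersion g.left) =>
          (inferInstance : Etale g.left)) _ hj
    refine ⟨U, V, ((AlgSp.yon S).map k ≫ a₀) ≫ j.hom, b, h, u,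
      (AlgSp.RepWith (S := S) @Etale).comp_mem _ _ ha hje, hb, ?_, ?_, ⊤, trivial, ?_⟩
    · rw [Category.assoc]; exact comm
    · rw [← AlgSp.Points.map_ofPt, hu, hx']
    · have hiso : IsIso (⊤ : U.left.Opens).ι := (Scheme.topIso U.left).isIso_hom
      exact (MorphismProperty.cancel_left_of_respectsIso P _ _).2 (hL _ b h ha hb comm)

end Groth.Agent.S9993
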