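import Groth.Statements.S9994
import Groth.Agent.Lib.Helper78.AlgSpLocPSeven
import Groth.Agent.Lib.Helper78.AlgSpLocPSrc
import Groth.Agent.Lib.Helper51.AlgSpCharts

set_option autoImplicit false
universe u
open CategoryTheory CategoryTheory.Limits AlgebraicGeometry
open AlgSp

namespace Groth.Agent.S9994

/-- A morphism f : X ⟶ Y of algebraic spaces has P etale locally on the source and target if and only if
it has P at every point of |X| in the neighbourhood sense (some chart diagram through the point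
whose top arrow has P on an open neighbourhood of the chosen point). -/
theorem result {S : Scheme.{u}} (P : MorphismProperty Scheme.{u})
    (hP : P = @LocallyOfFiniteType ∨ P = @LocallyOfFinitePresentation ∨ P = @Flat ∨ P = @Smooth ∨ P = @Etale ∨
      (∀ ⦃A B : Scheme.{u}⦄ (g : A ⟶ B), P g ↔ (LocallyQuasiFinite g ∧ LocallyOfFiniteType g)) ∨
      (∀ ⦃A B : Scheme.{u}⦄ (g : A ⟶ B), P g ↔ (LocallyOfFiniteType g ∧ FormallyUnramified g)))
    {X Y : AlgSp.Space S} (f : X ⟶ Y) :
    AlgSp.LocP P f.hom ↔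
      ∀ x : AlgSp.Points X.obj, AlgSp.HasAtMor (fun U _ h u => ∃ W : U.Opens, u ∈ W ∧ P (W.ι ≫ h)) f.hom x := by
  have hE := Groth.Agent.Lib.Helper78.AlgSpLocPSeven.etLocalST_of_seven hP
  have := Groth.Agent.Lib.Helper78.AlgSpLocPSeven.isStableUnderBaseChange_of_seven hP
  have := Groth.Agent.Lib.Helper78.AlgSpLocPSeven.isZariskiLocalAtSource_of_seven hP
  have hPiso : P.RespectsIso := MorphismProperty.IsStableUnderBaseChange.respectsIso
  obtain ⟨U₀, a₀, ha₀, ha₀s⟩ := X.property.atlas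
  constructor
  · intro hL x
    obtain ⟨V, b, hb, hbs⟩ := Y.property.atlas
    obtain ⟨U, j, h, sq, ha, has⟩ :=
      Groth.Agent.Lib.Helper78.AlgSpBasic.exists_chart_diagram f.hom a₀ ha₀ b hb
    have has := has ha₀s hbs
    obtain ⟨u, hu⟩ := Groth.Agent.Lib.Helper51.surjective_ofPt_of_repWith_surjective _ has x
    have comm : ((AlgSp.yon S).map j ≫ a₀) ≫ f.hom = (AlgSp.yon S).map h ≫ b := by
      rw [Category.assoc]; exact sq.w.symm
    refine ⟨U, V, (AlgSp.yon S).map j ≫ a₀, b, h, u, ha, hb, comm, hu, ⊤, trivial, ?_⟩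
    have hiso : IsIso (⊤ : U.left.Opens).ι := (Scheme.topIso U.left).isIso_hom
    exact (MorphismProperty.cancel_left_of_respectsIso P _ _).2 (hL _ b h ha hb comm)
  · intro H
    have hx : ∀ u₀ : U₀.left, AlgSp.HasAtMor (fun U _ h u => ∃ W : U.Opens, u ∈ W ∧ P (W.ι ≫ h))
        f.hom (AlgSp.Points.ofPt a₀ u₀) := fun u₀ => H _
    choose U V a b h u ha hb comm hu W huW hPW using hx
    refine Groth.Agent.Lib.Helper78.AlgSpLocPSrc.locP_of_precomp_chart_family hE f.hom
      (fun i => Groth.Agent.Lib.Helper51.opensOver (U i) (W i))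
      (fun i => (AlgSp.yon S).map (Groth.Agent.Lib.Helper51.opensOverι (U i) (W i)) ≫ a i) ?_ ?_ ?_
    · intro i
      refine (AlgSp.RepWith (S := S) @Etale).comp_mem _ _ ?_ (ha i)
      exact (AlgSp.repWith_yon_map_iff _ _).2 (inferInstanceAs (Etale (W i).ι))
    · intro x
      obtain ⟨u₀, rfl⟩ := Groth.Agent.Lib.Helper51.surjective_ofPt_of_repWith_surjective _ ha₀s x
      refine ⟨u₀, ⟨u u₀, huW u₀⟩, ?_⟩
      rw [Groth.Agent.Lib.Helper52.ofPt_yon_map_comp]
      exact hu u₀
    · intro i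
      have comm' : 𝟙 _ ≫ ((AlgSp.yon S).map (Groth.Agent.Lib.Helper51.opensOverι (U i) (W i)) ≫ a i) ≫ f.hom
          = (AlgSp.yon S).map (Groth.Agent.Lib.Helper51.opensOverι (U i) (W i) ≫ h i) ≫ b i := by
        rw [Category.id_comp, Category.assoc, comm i, Functor.map_comp, Category.assoc]
      refine Groth.Agent.Lib.Helper78.AlgSpLocP.locP_of_chart hE _ (𝟙 _) (b i) _
        (AlgSp.repWith_id _ _) (AlgSp.repWith_id _ _) (hb i) comm' ?_
      exact hPW i

end Groth.Agent.S9994
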